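/-
Abstract Steiner systems as copies of the systems inside the octads; their automorphism groups.
-/
import Cfsg.Agent.Lib.Spor.StSearch

set_option maxRecDepth 100000

namespace CA.StModel
open Cfsg CA.NatBits CA.Perm24 CA.Golay CA.M24Core CA.M24Sub CA.M24St2 CA.StSearch CA.CGCert Finset MulAction
open scoped Pointwise

theorem exists_equiv {α β X : Type*} (e : α ↪ X) (e' : β ↪ X) (h : ∀ x, (∃ a, e a = x) ↔ ∃ b, e' b = x) :
    ∃ φ : α ≃ β, ∀ a, e' (φ a) = e a :=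
  ⟨((Equiv.ofInjective e e.injective).trans (Equiv.setCongr (Set.ext h))).trans
    (Equiv.ofInjective e' e'.injective).symm, fun _ => Equiv.apply_ofInjective_symm e'.injective _⟩

/-- `e` embeds the system `B` as the system `F` on `Y` -/
structure Mod {α X : Type*} (B : Set (Finset α)) (e : α ↪ X) (Y : Finset X) (F : Set (Finset X)) : Prop where
  rng : ∀ x, x ∈ Y ↔ ∃ a, e a = x
  mem : ∀ b, b ∈ B ↔ b.map e ∈ F
  sub : ∀ s ∈ F, s ⊆ Y

section
variable {α β X : Type*} {B : Set (Finset α)} {B' : Set (Finset β)} {e : α ↪ X} {e' : β ↪ X} {Y : Finset X}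
  {F : Set (Finset X)} {t k : ℕ}

theorem Mod.in (h : Mod B e Y F) (a : α) : e a ∈ Y := (h.rng _).2 ⟨a, rfl⟩

theorem Mod.exists_map (h : Mod B e Y F) {s : Finset X} (hs : s ⊆ Y) : ∃ b : Finset α, b.map e = s :=
  ⟨s.preimage e e.injective.injOn, by
    ext x; simp only [mem_map, mem_preimage]
    exact ⟨fun ⟨a, h1, h2⟩ => h2 ▸ h1, fun hx => let ⟨a, ha⟩ := (h.rng x).1 (hs hx); ⟨a, ha ▸ hx, ha⟩⟩⟩

theorem Mod.map_univ [Fintype α] (h : Mod B e Y F) : univ.map e = Y := by ext x; simp [h.rng]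

theorem Mod.iso [DecidableEq β] (h : Mod B e Y F) (h' : Mod B' e' Y F) : SetSystemIso B B' := by
  obtain ⟨φ, hφ⟩ := exists_equiv e e' fun x => (h.rng x).symm.trans (h'.rng x)
  have key : ∀ b : Finset α, (b.image φ).map e' = b.map e := fun b => by
    ext x; simp [hφ]
  have k2 : ∀ c : Finset β, (c.map φ.symm.toEmbedding).image φ = c := fun c => by
    ext x; simp only [mem_image, mem_map_equiv, Equiv.symm_symm]
    exact ⟨fun ⟨a, h, e⟩ => e ▸ h, fun h => ⟨φ.symm x, by simpa, by simp⟩⟩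
  refine ⟨φ, Set.ext fun c => ⟨?_, fun hc => ⟨c.map φ.symm.toEmbedding, ?_, k2 c⟩⟩⟩
  · rintro ⟨b, hb, rfl⟩
    rw [h'.mem]; exact key b ▸ (h.mem b).1 hb
  · rw [h.mem, ← key, k2]
    exact (h'.mem c).1 hc

theorem rs_of [Fintype α] (hB : IsSteinerSystem t k B) (e : α ↪ X) :
    Mod B e (univ.map e) {s | ∃ b ∈ B, b.map e = s} ∧ RS t k (univ.map e) {s | ∃ b ∈ B, b.map e = s} := by
  have m : Mod B e (univ.map e) {s | ∃ b ∈ B, b.map e = s} :=
    ⟨by simp, fun b => ⟨fun h => ⟨b, h, rfl⟩, fun ⟨c, hc, e1⟩ => map_injective e e1 ▸ hc⟩,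
      by rintro _ ⟨b, -, rfl⟩; exact map_subset_map.2 (subset_univ b)⟩
  refine ⟨m, fun s hs => ⟨m.sub s hs, by obtain ⟨b, hb, rfl⟩ := hs; rw [card_map, hB.1 b hb]⟩, fun s hs hst => ?_⟩
  obtain ⟨u, rfl⟩ := m.exists_map hs
  obtain ⟨b, ⟨hb, hub⟩, hu⟩ := hB.2 u (card_map e ▸ hst)
  refine ⟨b.map e, ⟨⟨b, hb, rfl⟩, map_subset_map.2 hub⟩, ?_⟩
  rintro _ ⟨⟨c, hc, rfl⟩, huc⟩
  rw [hu c ⟨hc, map_subset_map.1 huc⟩]

theorem Mod.steiner (h : Mod B e Y F) (hF : RS t k Y F) : IsSteinerSystem t k B := by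
  refine ⟨fun b hb => (card_map e).symm.trans (hF.1 _ ((h.mem b).1 hb)).2, fun s hs => ?_⟩
  obtain ⟨c, ⟨hc, hsc⟩, hu⟩ := hF.2 (s.map e) (fun x hx => by obtain ⟨a, -, rfl⟩ := mem_map.1 hx; exact h.in a)
    ((card_map e).trans hs)
  obtain ⟨b, rfl⟩ := h.exists_map (h.sub c hc)
  exact ⟨b, ⟨(h.mem b).2 hc, map_subset_map.1 hsc⟩, fun b' hb' =>
    map_injective e (hu _ ⟨(h.mem b').1 hb'.1, map_subset_map.2 hb'.2⟩)⟩

variable [DecidableEq X]

theorem Mod.smul (h : Mod B e Y F) (σ : Equiv.Perm X) : Mod B (e.trans σ.toEmbedding) (σ • Y) (σ • F) := by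
  refine ⟨fun x => ?_, fun b => ?_, ?_⟩
  · rw [← inv_smul_mem_iff, h.rng]
    exact exists_congr fun a => eq_inv_smul_iff
  · rw [h.mem, ← map_map, ← Set.smul_mem_smul_set_iff (a := σ), map_eq_image (Equiv.toEmbedding σ)]; rfl
  · rintro _ ⟨s, hs, rfl⟩; exact smul_finset_subset_smul_finset (h.sub s hs)

variable [DecidableEq α]

omit [DecidableEq X] in
theorem map_smul' [DecidableEq X] {τ : Equiv.Perm α} {σ : Equiv.Perm X} (h : ∀ a, e (τ a) = σ (e a)) (b : Finset α) :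
    (τ • b).map e = σ • b.map e := by
  ext x; simp [mem_smul_finset, h]

theorem Mod.mem_aut [Finite α] (h : Mod B e Y F) {τ : Equiv.Perm α} {σ : Equiv.Perm X} (hτ : ∀ a, e (τ a) = σ (e a))
    (hF : ∀ s ∈ F, σ • s ∈ F) : τ ∈ setSystemAut B :=
  mem_stab_of fun b hb => by rw [h.mem, map_smul' hτ]; exact hF _ ((h.mem b).1 hb)

theorem Mod.via (h : Mod B e Y F) {τ : Equiv.Perm α} (hτ : τ ∈ setSystemAut B) :
    τ.viaEmbedding e • Y = Y ∧ (∀ s ∈ F, τ.viaEmbedding e • s ∈ F) ∧ ∀ x ∉ Y, τ.viaEmbedding e x = x := by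
  refine ⟨eq_of_subset_of_card_le (fun x hx => ?_) (card_smul_finset _ _).ge, fun s hs => ?_,
    fun x hx => Equiv.Perm.viaEmbedding_apply_of_notMem _ _ _ fun h' => hx ((h.rng x).2 h')⟩
  · obtain ⟨y, hy, rfl⟩ := mem_smul_finset.1 hx
    obtain ⟨a, rfl⟩ := (h.rng y).1 hy
    rw [Equiv.Perm.smul_def, Equiv.Perm.viaEmbedding_apply]; exact h.in _
  · obtain ⟨b, rfl⟩ := h.exists_map (h.sub s hs)
    rw [← map_smul' (fun a => (Equiv.Perm.viaEmbedding_apply τ e a).symm), ← h.mem]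
    exact (mem_stabilizer_iff.1 hτ) ▸ Set.smul_mem_smul_set ((h.mem b).2 hs)

end

section
variable {α : Type*} [Fintype α] [DecidableEq α] {B : Set (Finset α)} {e : α ↪ GolayPt} {Y : Finset GolayPt}
  {F : Set (Finset GolayPt)} {t k : ℕ} {K : Subgroup M24}

omit [DecidableEq α] in
theorem exists_mod {Y : ℕ} (hu : ∀ F', RS t k (ds Y) F' → Goal Y F F') (hv : Fintype.card α = pc24 Y)
    (hY : Y < 2 ^ 24) (hB : IsSteinerSystem t k B) : ∃ e : α ↪ GolayPt, Mod B e (ds Y) F := by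
  let e0 : α ≃ ds Y := Fintype.equivOfCardEq (by rw [hv, Fintype.card_coe, card_ds hY])
  let e1 : α ↪ GolayPt := e0.toEmbedding.trans (Function.Embedding.subtype _)
  have hY' : univ.map e1 = ds Y := by
    rw [← map_map, map_univ_equiv, univ_eq_attach, attach_map_val]
  obtain ⟨h1, h2⟩ := rs_of hB e1
  rw [hY'] at h1 h2
  obtain ⟨σ, s1, s2⟩ := hu _ h2
  have := h1.smul σ⁻¹
  rw [inv_smul_eq_iff.2 s1.symm, inv_smul_eq_iff.2 s2.symm] at this
  exact ⟨_, this⟩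

theorem Mod.exists_hom (h : Mod B e Y F) (hK : ∀ g ∈ K, g • Y = Y ∧ ∀ s ∈ F, g • s ∈ F) :
    ∃ ρ : K →* setSystemAut B, ∀ (g : K) a, e ((ρ g : Equiv.Perm α) a) = (g : M24) • e a := by
  have h1 : ∀ g : K, ∃ τ : setSystemAut B, ∀ a, e ((τ : Equiv.Perm α) a) = (g : M24) • e a := fun g => by
    have m := h.smul ((g : M24) : Equiv.Perm GolayPt)
    rw [← smul_def'', (hK g g.2).1] at m
    obtain ⟨φ, hφ⟩ := exists_equiv _ e fun x => (m.rng x).symm.trans (h.rng x)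
    exact ⟨⟨φ, h.mem_aut hφ (hK g g.2).2⟩, hφ⟩
  choose ρ hρ using h1
  refine ⟨MonoidHom.mk' ρ fun a b => Subtype.ext (Equiv.ext fun x => e.injective ?_), hρ⟩
  rw [hρ, Subgroup.coe_mul, Subgroup.coe_mul, Equiv.Perm.mul_apply, hρ, hρ, mul_smul]

theorem Mod.exists_iso (h : Mod B e Y F) (hK : ∀ g ∈ K, g • Y = Y ∧ ∀ s ∈ F, g • s ∈ F)
    (hf : ∀ g ∈ K, (∀ y ∈ Y, g • y = y) → g = 1)
    (hs : Nat.card (setSystemAut B) ≤ Nat.card K ∨ ∀ σ : Equiv.Perm GolayPt, σ • Y = Y → (∀ s ∈ F, σ • s ∈ F) →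
      ∃ g ∈ K, ∀ y ∈ Y, g • y = σ y) :
    ∃ φ : K ≃* setSystemAut B, ∀ (g : K) a, e ((φ g : Equiv.Perm α) a) = (g : M24) • e a := by
  obtain ⟨ρ, hρ⟩ := h.exists_hom hK
  have hi : Function.Injective ρ := (injective_iff_map_eq_one ρ).2 fun g hg => Subtype.ext (hf g g.2 fun y hy => by
    obtain ⟨a, rfl⟩ := (h.rng y).1 hy
    rw [← hρ, hg]; rfl)
  refine ⟨MulEquiv.ofBijective ρ ?_, hρ⟩
  rcases hs with hs | hs
  · exact (Nat.bijective_iff_injective_and_card ρ).2 ⟨hi, (Nat.card_le_card_of_injective ρ hi).antisymm hs⟩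
  · refine ⟨hi, fun τ => ?_⟩
    obtain ⟨g, hg, h'⟩ := hs _ (h.via τ.2).1 (h.via τ.2).2.1
    refine ⟨⟨g, hg⟩, Subtype.ext (Equiv.ext fun a => e.injective ?_)⟩
    rw [hρ, h' _ (h.in a), Equiv.Perm.viaEmbedding_apply]

omit [Fintype α] in
theorem Mod.card_le {Y : ℕ} {L : List ℕ} (h : Mod B e (ds Y) F) (hF : RS t k (ds Y) F)
    (hL : ∀ m ∈ L, m < 2 ^ 24 ∧ ds m ∈ F) (hY : Y < 2 ^ 24) (bs : List ℕ) {N : ℕ}
    (hu : ubd 24 pc24 t L [] bs (Nat.xor Y full) N = true) : Nat.card (setSystemAut B) ≤ N := by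
  let A : Subgroup (Equiv.Perm GolayPt) := (setSystemAut B).map (Equiv.Perm.viaEmbeddingHom e)
  rw [← Subgroup.card_map_of_injective (K := setSystemAut B) (Equiv.Perm.viaEmbeddingHom_injective e)]
  refine ubd_spec (E := gE) (fun _ => card_ds) (fun o ho => (hL o ho).1) ?_ (by simp) (xor_lt hY (by decide)) ?_ hu
  · rintro _ ⟨τ, hτ, rfl⟩ o ho h5
    exact hF.eq ((h.via hτ).2.1 _ (hL o ho).2) (hL o ho).2 h5
  · rintro _ ⟨τ, hτ, rfl⟩ x hx
    exact (h.via hτ).2.2 x (mem_compl.1 (ds_compl Y ▸ hx))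

omit [Fintype α] in
theorem mt_of_hom (hY : ∀ a, e a ∈ Y) (ρ : K → setSystemAut B)
    (hρ : ∀ (g : K) a, e ((ρ g : Equiv.Perm α) a) = (g : M24) • e a) {n : ℕ} (h : MT K (Y : Set GolayPt) n) :
    IsMultiplyPretransitive (setSystemAut B) α n := ⟨fun x y => by
  obtain ⟨g, hg, h'⟩ := h (x.trans e) (y.trans e) (fun i => hY _) fun i => hY _
  exact ⟨ρ ⟨g, hg⟩, Function.Embedding.ext fun i => e.injective ((hρ _ _).trans (h' i))⟩⟩

end

/-! ### Rigidity search -/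

/-- image of the mask `o` under a partial map -/
noncomputable def imgL (o : ℕ) (ps : List (ℕ × ℕ)) : ℕ :=
  List.rec (motive := fun _ => ℕ) 0
    (fun p _ ih => Bool.rec (motive := fun _ => ℕ) ih (Nat.lor (Nat.shiftLeft 1 p.2) ih) (tb o p.1)) ps

/-- every automorphism extending the partial map `ps` (with domain `d`) is the identity on `Y` -/
noncomputable def rig (Y : ℕ) (L bs : List ℕ) : ℕ → List (ℕ × ℕ) → Bool :=
  List.rec (motive := fun _ => ℕ → List (ℕ × ℕ) → Bool)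
    (fun d ps => Nat.beq (Nat.land Y d) Y && allL ps fun p => Nat.beq p.1 p.2)
    (fun b _ ih d ps => Nat.ble (Nat.succ b) 24 && tb Y b && force (Nat.lor d (Nat.shiftLeft 1 b)) fun d' =>
      allLt 24 fun z => !(tb Y z) || anyL ps (fun p => Nat.beq p.2 z && !(Nat.beq p.1 b)) ||
        !(allL L fun o => !(Nat.beq (Nat.land o d') o) || force (imgL o ((b, z) :: ps)) fun m => anyL L (Nat.beq m)) ||
        ih d' ((b, z) :: ps)) bs

theorem shl_lt {x : ℕ} (h : x < 24) : Nat.shiftLeft 1 x < 2 ^ 24 := by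
  rw [Nat.shiftLeft_eq', Nat.shiftLeft_eq, one_mul]; exact Nat.pow_lt_pow_right (by norm_num) h

theorem imgL_spec (o : ℕ) {ps : List (ℕ × ℕ)} (h : ∀ p ∈ ps, p.1 < 24 ∧ p.2 < 24) :
    imgL o ps < 2 ^ 24 ∧ ∀ x, x ∈ ds (imgL o ps) ↔ ∃ p ∈ ps, gE.pt p.1 ∈ ds o ∧ gE.pt p.2 = x := by
  induction ps with
  | nil => exact ⟨by show 0 < _; norm_num, fun x => by show x ∈ gE.ds 0 ↔ _; simp [gE.ds_zero]⟩
  | cons p ps ih =>
    have e : imgL o (p :: ps) = Bool.rec (motive := fun _ => ℕ) (imgL o ps)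
      (Nat.lor (Nat.shiftLeft 1 p.2) (imgL o ps)) (tb o p.1) := rfl
    obtain ⟨i1, i2⟩ := ih fun q hq => h q (List.mem_cons_of_mem _ hq)
    obtain ⟨h1, h2⟩ := h p List.mem_cons_self
    have e' : gE.pt p.1 ∈ ds o ↔ tb o p.1 = true := by rw [tb_eq]; exact gE.pt_mem_ds h1
    rw [e]
    cases hb : tb o p.1
    · exact ⟨i1, fun x => by simp [i2, e', hb]⟩
    · refine ⟨lor_lt (shl_lt h2) i1, fun x => ?_⟩
      show x ∈ gE.ds (Nat.lor _ _) ↔ _
      rw [gE.ds_lor, gE.ds_shl h2, mem_union, mem_singleton, ← ds, i2]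
      simp [e', hb, eq_comm]

theorem rig_spec {Y : ℕ} {L : List ℕ} {F : Set (Finset GolayPt)} (hL : ∀ m ∈ L, m < 2 ^ 24 ∧ ds m ∈ F)
    (hL' : ∀ s ∈ F, ∃ m ∈ L, ds m = s) {τ : Equiv.Perm GolayPt} (hY : τ • ds Y = ds Y) (hF : ∀ s ∈ F, τ • s ∈ F)
    (bs : List ℕ) : ∀ (d : ℕ) (ps : List (ℕ × ℕ)), (∀ p ∈ ps, (p.1 < 24 ∧ p.2 < 24) ∧ τ (gE.pt p.1) = gE.pt p.2) →
      (∀ x ∈ ds d, ∃ p ∈ ps, gE.pt p.1 = x) → rig Y L bs d ps = true → ∀ y ∈ ds Y, τ y = y := by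
  induction bs with
  | nil =>
    intro d ps h1 h2 h y hy
    have e : rig Y L [] d ps = (Nat.beq (Nat.land Y d) Y && allL ps fun p => Nat.beq p.1 p.2) := rfl
    simp only [e, Bool.and_eq_true, beq_iff, allL_iff] at h
    obtain ⟨p, hp, rfl⟩ := h2 y (gE.ds_subset_of h.1 hy)
    rw [(h1 p hp).2, h.2 p hp]
  | cons b bs ih =>
    intro d ps h1 h2 h
    have e : rig Y L (b :: bs) d ps = (Nat.ble (Nat.succ b) 24 && tb Y b &&
      force (Nat.lor d (Nat.shiftLeft 1 b)) fun d' =>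
      allLt 24 fun z => !(tb Y z) || anyL ps (fun p => Nat.beq p.2 z && !(Nat.beq p.1 b)) ||
        !(allL L fun o => !(Nat.beq (Nat.land o d') o) || force (imgL o ((b, z) :: ps)) fun m => anyL L (Nat.beq m)) ||
        rig Y L bs d' ((b, z) :: ps)) := rfl
    simp only [e, fe, Bool.and_eq_true, ble_iff, allLt_iff] at h
    obtain ⟨⟨hb, hbY⟩, h⟩ := h
    obtain ⟨z, hz, ez⟩ := gE.exists_pt (τ (gE.pt b))
    have hzY : tb Y z = true := by
      rw [tb_eq, ← gE.pt_mem_ds hz, ez, ← ds, ← hY]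
      exact smul_mem_smul_finset ((gE.pt_mem_ds hb).2 (tb_eq Y b ▸ hbY))
    have h1' : ∀ p ∈ (b, z) :: ps, (p.1 < 24 ∧ p.2 < 24) ∧ τ (gE.pt p.1) = gE.pt p.2 := fun p hp => by
      rcases List.mem_cons.1 hp with rfl | hp
      · exact ⟨⟨hb, hz⟩, ez.symm⟩
      · exact h1 p hp
    have h2' : ∀ x ∈ ds (Nat.lor d (Nat.shiftLeft 1 b)), ∃ p ∈ (b, z) :: ps, gE.pt p.1 = x := fun x hx => by
      rw [ds, gE.ds_lor, gE.ds_shl hb, mem_union, mem_singleton] at hx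
      rcases hx with hx | rfl
      · obtain ⟨p, hp, e⟩ := h2 x hx; exact ⟨p, List.mem_cons_of_mem _ hp, e⟩
      · exact ⟨_, List.mem_cons_self, rfl⟩
    have h3 : anyL ps (fun p => Nat.beq p.2 z && !(Nat.beq p.1 b)) = false := by
      rw [← Bool.not_eq_true, anyL_iff]
      rintro ⟨p, hp, hq⟩
      simp only [Bool.and_eq_true, beq_iff, Bool.not_eq_true', ← Bool.not_eq_true] at hq
      exact hq.2 (gE.pt_inj (h1 p hp).1.1 hb (τ.injective (by rw [(h1 p hp).2, hq.1, ez])))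
    have h4 : (allL L fun o => !(Nat.beq (Nat.land o (Nat.lor d (Nat.shiftLeft 1 b))) o) ||
        anyL L (Nat.beq (imgL o ((b, z) :: ps)))) = true := allL_iff.2 fun o ho => by
      cases hs : Nat.beq (Nat.land o (Nat.lor d (Nat.shiftLeft 1 b))) o
      · rfl
      obtain ⟨i1, i2⟩ := imgL_spec o fun p hp => (h1' p hp).1
      obtain ⟨m, hm, em⟩ := hL' _ (hF _ (hL o ho).2)
      refine (Bool.false_or _).trans (anyL_iff.2 ⟨m, hm, beq_iff.2 (gE.ds_inj i1 (hL m hm).1 ?_)⟩)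
      rw [← ds, ← ds, em]; ext x
      rw [i2, mem_smul_finset]
      constructor
      · rintro ⟨p, hp, hpo, rfl⟩; exact ⟨_, hpo, (h1' p hp).2⟩
      · rintro ⟨y, hy, rfl⟩
        obtain ⟨p, hp, rfl⟩ := h2' y (gE.ds_subset_of (beq_iff.1 hs) hy)
        exact ⟨p, hp, hy, (h1' p hp).2.symm⟩
    have := h z hz
    rw [hzY, h3, h4] at this
    exact ih _ _ h1' h2' (by simpa using this)

/-! ### The six systems -/

theorem derL_mem {F : Set (Finset GolayPt)} {L : List ℕ} (hL : ∀ m ∈ L, m < 2 ^ 24 ∧ ds m ∈ F) (p : GolayPt) :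
    ∀ m ∈ derL (gix p) L, m < 2 ^ 24 ∧ ds m ∈ der F p := fun m hm => by
  obtain ⟨o, ho, rfl⟩ := List.mem_map.1 hm
  obtain ⟨h1, h2⟩ := List.mem_filter.1 ho
  have hp : p ∈ ds o := mem_ds'.2 h2
  have e : ds (Nat.xor (Nat.shiftLeft 1 (gix p)) o) = (ds o).erase p := by
    rw [ds, gE.ds_xor, show gE.ds (Nat.shiftLeft 1 (gix p)) = {p} from
      (gE.ds_shl (gE.ix_lt p)).trans (by rw [gE.pt_ix]), ← ds]
    ext x; by_cases h : x = p <;> simp [mem_symmDiff, h, hp]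
  exact ⟨xor_lt (shl_lt (gE.ix_lt p)) (hL o h1).1, e ▸ ⟨notMem_erase _ _, by rw [insert_erase hp]; exact (hL o h1).2⟩⟩

theorem m24 : ∀ m ∈ octL, m < 2 ^ 24 ∧ ds m ∈ octads := fun _ h => ⟨isO_lt (mem_octL.1 h), ds_octad (mem_octL.1 h)⟩
theorem m23 : ∀ m ∈ L23, m < 2 ^ 24 ∧ ds m ∈ F23 := derL_mem m24 none
theorem m22 : ∀ m ∈ L22, m < 2 ^ 24 ∧ ds m ∈ F22 := derL_mem m23 (some 0)
theorem m21 : ∀ m ∈ L21, m < 2 ^ 24 ∧ ds m ∈ F21 := derL_mem m22 (some 1)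
theorem m12 : ∀ m ∈ L12, m < 2 ^ 24 ∧ ds m ∈ F12 := fun m hm => by
  obtain ⟨h1, h2⟩ := List.mem_filter.1 hm
  obtain ⟨o, ho, rfl⟩ := List.mem_map.1 h1
  have := (m24 o ho).1
  exact ⟨land_lt _ this, (card_ds (land_lt _ this)).trans (beq_iff.1 h2), _, (m24 o ho).2, (gE.ds_land _ _).symm⟩
theorem m11 : ∀ m ∈ L11, m < 2 ^ 24 ∧ ds m ∈ F11 := derL_mem m12 (some 0)

/-- octads containing `R`, with `R` removed -/
def ocD (R : Finset GolayPt) : Set (Finset GolayPt) := {s | Disjoint s R ∧ s ∪ R ∈ octads}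

theorem smul_ocD {g : M24} {R s : Finset GolayPt} (hg : g • R = R) (hs : s ∈ ocD R) : g • s ∈ ocD R :=
  ⟨hg ▸ (disjoint_smul g).2 hs.1, by rw [← hg, ← smul_finset_union]; exact (smul_mem_octads g).2 hs.2⟩

theorem der_ocD {R : Finset GolayPt} {p : GolayPt} (h : p ∉ R) : der (ocD R) p = ocD (insert p R) := by
  ext s; simp [der, ocD, h, and_assoc, union_insert]

theorem F23_eq : F23 = ocD {none} := by
  ext s; simp [F23, der, ocD]
theorem F22_eq : F22 = ocD (ds 8388609) := by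
  rw [F22, F23_eq, der_ocD (by simp)]; congr 1; ext x; rw [mem_ds']; revert x; decide +kernel
theorem F21_eq : F21 = ocD (ds T3) := by
  rw [F21, F22_eq, der_ocD (by rw [mem_ds']; decide +kernel)]; congr 1; ext x
  rw [mem_insert, mem_ds', mem_ds']; revert x; decide +kernel

theorem Y23 : ds 8388607 = ({none} : Finset GolayPt)ᶜ := by
  ext x; rw [mem_ds']; revert x; decide +kernel
theorem Y22 : ds 8388606 = (ds 8388609)ᶜ := by rw [← ds_compl]; rfl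
theorem Y21 : ds 8388604 = (ds T3)ᶜ := by rw [← ds_compl]; rfl
theorem Y11 : ds 340830 = (ds D0).erase (some 0) := (ds_erase _ (by decide +kernel)).symm

theorem smul_hexadsOn (g : M24) {d s : Finset GolayPt} (hs : s ∈ hexadsOn d) : g • s ∈ hexadsOn (g • d) := by
  obtain ⟨h, o, ho, rfl⟩ := hs
  exact ⟨(card_smul_finset _ _).trans h, g • o, (smul_mem_octads g).2 ho, (smul_finset_inter ..).symm⟩

theorem smul_der {F : Set (Finset GolayPt)} {g : M24} {p : GolayPt} (hp : g • p = p) (hF : ∀ s ∈ F, g • s ∈ F) :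
    ∀ s ∈ der F p, g • s ∈ der F p := fun s hs =>
  ⟨fun h => hs.1 (smul_mem_smul_finset_iff g |>.1 (hp.symm ▸ h)), by
    have := hF _ hs.2; rwa [smul_finset_insert, hp] at this⟩

theorem eq_one_of_fix {m : ℕ} (bs : List ℕ) (h : (Nat.ble (Nat.succ m) (2 ^ 24) && ubd 24 pc24 5 octL [] bs m 1) = true)
    (g : M24) (hg : ∀ y ∈ ds m, g • y = y) : g = 1 := by
  rw [Bool.and_eq_true] at h; exact eq_one_of_ubd bs (blt_iff.1 h.1) h.2 hg

theorem fix12 (g : M24) (hg : ∀ y ∈ ds D0, g • y = y) : g = 1 :=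
  eq_one_of_fix [5, 7, 10, 11, 14, 15, 17, 19, 20, 21, 22, 23] (by decide +kernel) g hg

theorem mt_fix {R : List GolayPt} (hR : R.Nodup) {K : Subgroup M24} (hK : ∀ g : M24, (∀ x ∈ R, g • x = x) → g ∈ K)
    {Y : Set GolayPt} (hY : ∀ x ∈ R, x ∉ Y) {n : ℕ} (hn : R.length + n ≤ 5) : MT K Y n := fun x y hx hy => by
  have nd : ∀ z : Fin n ↪ GolayPt, (∀ i, z i ∈ Y) → (R ++ List.ofFn z).Nodup := fun z hz =>
    List.nodup_append.2 ⟨hR, List.nodup_ofFn.2 z.injective, fun a ha b hb e => by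
      obtain ⟨i, rfl⟩ := List.mem_ofFn.1 hb
      exact hY a ha (e ▸ hz i)⟩
  obtain ⟨g, hg⟩ := exists_smul_list (nd x hx) (nd y hy) (by simp) (by simpa using hn)
  rw [List.map_append] at hg
  obtain ⟨h1, h2⟩ := List.append_inj hg (by simp)
  refine ⟨g, hK g fun a ha => ?_, fun i => ?_⟩
  · exact List.map_inj_left.1 (h1.trans (List.map_id R).symm) a ha
  · rw [List.map_ofFn] at h2; exact congrFun (List.ofFn_injective h2) i

theorem rigid12 {τ : Equiv.Perm GolayPt} (hY : τ • ds D0 = ds D0) (hF : ∀ s ∈ F12, τ • s ∈ F12)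
    (h : ∀ i < 5, τ (gE.pt i) = gE.pt i) : ∀ y ∈ ds D0, τ y = y :=
  rig_spec m12 l12 hY hF [12, 6, 8, 9, 13, 16, 18] 31 [(0, 0), (1, 1), (2, 2), (3, 3), (4, 4)]
    (by simp [h]) (fun x => by rw [mem_ds']; revert x; decide +kernel) (by decide +kernel)

theorem rigid11 {τ : Equiv.Perm GolayPt} (hY : τ • ds 340830 = ds 340830) (hF : ∀ s ∈ F11, τ • s ∈ F11)
    (h : ∀ i < 4, τ (gE.pt (i + 1)) = gE.pt (i + 1)) : ∀ y ∈ ds 340830, τ y = y :=
  rig_spec m11 l11 hY hF [12, 6, 8, 9, 13, 16, 18] 30 [(1, 1), (2, 2), (3, 3), (4, 4)]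
    (by simp [h 0, h 1, h 2, h 3]) (fun x => by rw [mem_ds']; revert x; decide +kernel) (by decide +kernel)

theorem surj_of_rigid {K : Subgroup M24} {Y : Finset GolayPt} {F : Set (Finset GolayPt)}
    (hK : ∀ g ∈ K, g • Y = Y ∧ ∀ s ∈ F, g • s ∈ F) {n : ℕ} (h : MT K (Y : Set GolayPt) n) (x : Fin n ↪ GolayPt)
    (hx : ∀ i, x i ∈ Y) (hr : ∀ τ : Equiv.Perm GolayPt, τ • Y = Y → (∀ s ∈ F, τ • s ∈ F) → (∀ i, τ (x i) = x i) →
      ∀ y ∈ Y, τ y = y) (σ : Equiv.Perm GolayPt) (hY : σ • Y = Y) (hF : ∀ s ∈ F, σ • s ∈ F) :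
    ∃ g ∈ K, ∀ y ∈ Y, g • y = σ y := by
  obtain ⟨g, hg, h'⟩ := h x (x.trans σ.toEmbedding) hx fun i => by
    rw [mem_coe, ← hY]; exact smul_mem_smul_finset (hx i)
  refine ⟨g, hg, fun y hy => ?_⟩
  have := hr ((g⁻¹ : M24) * σ) (by rw [mul_smul, hY]; exact (hK _ (K.inv_mem hg)).1)
    (fun s hs => by rw [mul_smul]; exact (hK _ (K.inv_mem hg)).2 _ (hF s hs))
    (fun i => inv_smul_eq_iff.2 (h' i).symm) y hy
  exact (inv_smul_eq_iff.1 this).symm

theorem mt11 : MT (stabilizer M24 (ds D0) ⊓ stabilizer M24 (some 0 : GolayPt)) (ds 340830 : Set GolayPt) 4 :=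
  mtM st11.inn (by decide) (fun g hg => by
    rw [mem_stabilizer_iff, Y11, ← sdiff_singleton_eq_erase, smul_finset_sdiff, smul_finset_singleton, hg.1, hg.2])
    [(1, [[0, 0, 3, 3], [1, 3]]), (2, [[0, 2, 0, 0, 0, 0], [1, 2, 0, 0, 3, 1]]), (3, [[2, 1, 3], [2, 2, 0, 2]]), (4, [])] (by decide +kernel)

variable {α : Type*} [Fintype α] [DecidableEq α] {B : Set (Finset α)} {e : α ↪ GolayPt}

section
omit [DecidableEq α]
theorem mod24 (hv : Fintype.card α = 24) (hB : IsSteinerSystem 5 8 B) : ∃ e : α ↪ GolayPt, Mod B e (ds full) octads :=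
  exists_mod (fun _ => uniq24) (hv.trans (by decide +kernel)) (by decide) hB
theorem mod23 (hv : Fintype.card α = 23) (hB : IsSteinerSystem 4 7 B) : ∃ e : α ↪ GolayPt, Mod B e (ds 8388607) F23 :=
  exists_mod (fun _ => uniq23) (hv.trans (by decide +kernel)) (by decide) hB
theorem mod22 (hv : Fintype.card α = 22) (hB : IsSteinerSystem 3 6 B) : ∃ e : α ↪ GolayPt, Mod B e (ds 8388606) F22 :=
  exists_mod (fun _ => uniq22) (hv.trans (by decide +kernel)) (by decide) hB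
theorem mod21 (hv : Fintype.card α = 21) (hB : IsSteinerSystem 2 5 B) : ∃ e : α ↪ GolayPt, Mod B e (ds 8388604) F21 :=
  exists_mod (fun _ => uniq21) (hv.trans (by decide +kernel)) (by decide) hB
theorem mod12 (hv : Fintype.card α = 12) (hB : IsSteinerSystem 5 6 B) : ∃ e : α ↪ GolayPt, Mod B e (ds D0) F12 :=
  exists_mod (fun _ => uniq12) (hv.trans (by decide +kernel)) (by decide) hB
theorem mod11 (hv : Fintype.card α = 11) (hB : IsSteinerSystem 4 5 B) : ∃ e : α ↪ GolayPt, Mod B e (ds 340830) F11 :=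
  exists_mod (fun _ => uniq11) (hv.trans (by decide +kernel)) (by decide) hB
end

theorem aut24 (h : Mod B e (ds full) octads) :
    ∃ φ : (⊤ : Subgroup M24) ≃* setSystemAut B, ∀ g a, e ((φ g : Equiv.Perm α) a) = (g : M24) • e a :=
  h.exists_iso (fun g _ => ⟨by rw [ds_full, smul_finset_univ], fun _ => (smul_mem_octads g).2⟩)
    (fun g _ hg => Subtype.ext (Equiv.ext fun y => hg y (ds_full ▸ mem_univ y)))
    (Or.inr fun σ _ hσ => ⟨⟨σ, M24_eq_aut ▸ mem_stab_of hσ⟩, trivial, fun _ _ => rfl⟩)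

theorem aut23 (h : Mod B e (ds 8388607) F23) : ∃ φ : stabilizer M24 (none : GolayPt) ≃* setSystemAut B,
    ∀ g a, e ((φ g : Equiv.Perm α) a) = (g : M24) • e a :=
  h.exists_iso (fun g hg => by
      have : g • ({none} : Finset GolayPt) = {none} := by rw [smul_finset_singleton, hg]
      exact ⟨by rw [Y23, smul_compl, this], fun _ => F23_eq ▸ smul_ocD this⟩)
    (fun g _ => eq_one_of_fix [23] (by decide +kernel) g) (Or.inl (st23.card ▸ h.card_le rs23 m23 (by decide)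
      [0, 1, 2, 3, 4, 5, 6, 7, 8, 9, 10, 11, 12, 13, 14, 15, 16, 17, 18, 19, 20, 21, 22] (by decide +kernel)))

theorem aut22 (h : Mod B e (ds 8388606) F22) : ∃ φ : ↥(⊤ ⊓ stabilizer M24 (ds 8388609)) ≃* setSystemAut B,
    ∀ g a, e ((φ g : Equiv.Perm α) a) = (g : M24) • e a :=
  h.exists_iso (fun g hg => ⟨by rw [Y22, smul_compl, hg.2], fun _ => F22_eq ▸ smul_ocD hg.2⟩)
    (fun g _ => eq_one_of_fix [0, 23] (by decide +kernel) g) (Or.inl (stD2.card ▸ h.card_le rs22 m22 (by decide)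
      [1, 2, 3, 5, 14, 17, 4, 6, 7, 8, 9, 10, 11, 12, 13, 15, 16, 18, 19, 20, 21, 22] (by decide +kernel)))

theorem aut21 (h : Mod B e (ds 8388604) F21) : ∃ φ : stabilizer M24 (ds T3) ≃* setSystemAut B,
    ∀ g a, e ((φ g : Equiv.Perm α) a) = (g : M24) • e a :=
  h.exists_iso (fun g hg => ⟨by rw [Y21, smul_compl, hg], fun _ => F21_eq ▸ smul_ocD hg⟩)
    (fun g _ => eq_one_of_fix [0, 1, 23] (by decide +kernel) g) (Or.inl (stT3.card ▸ h.card_le rs21 m21 (by decide)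
      [2, 3, 5, 14, 17, 4, 6, 7, 8, 9, 10, 11, 12, 13, 15, 16, 18, 19, 20, 21, 22] (by decide +kernel)))

theorem inv12 : ∀ g ∈ stabilizer M24 (ds D0), g • ds D0 = ds D0 ∧ ∀ s ∈ F12, g • s ∈ F12 := fun g hg =>
  ⟨hg, fun s hs => by have := smul_hexadsOn g hs; rwa [hg] at this⟩

theorem inv11 : ∀ g ∈ stabilizer M24 (ds D0) ⊓ stabilizer M24 (some 0 : GolayPt),
    g • ds 340830 = ds 340830 ∧ ∀ s ∈ F11, g • s ∈ F11 := fun g hg =>
  ⟨by rw [Y11, ← sdiff_singleton_eq_erase, smul_finset_sdiff, smul_finset_singleton, hg.1, hg.2],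
    smul_der hg.2 (inv12 g hg.1).2⟩

theorem aut12 (h : Mod B e (ds D0) F12) : ∃ φ : stabilizer M24 (ds D0) ≃* setSystemAut B,
    ∀ g a, e ((φ g : Equiv.Perm α) a) = (g : M24) • e a :=
  h.exists_iso inv12 (fun g _ => fix12 g) (Or.inr (surj_of_rigid inv12 mt12 ⟨fun i => gE.pt i, by decide +kernel⟩
    (fun i => mem_ds'.2 (by revert i; decide +kernel)) fun _ h1 h2 h3 => rigid12 h1 h2 fun i hi => h3 ⟨i, hi⟩))

theorem aut11 (h : Mod B e (ds 340830) F11) :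
    ∃ φ : ↥(stabilizer M24 (ds D0) ⊓ stabilizer M24 (some 0 : GolayPt)) ≃* setSystemAut B,
    ∀ g a, e ((φ g : Equiv.Perm α) a) = (g : M24) • e a :=
  h.exists_iso inv11 (fun g hg h' => fix12 g fun y hy => by
      by_cases e : y = some 0
      · exact e ▸ hg.2
      · exact h' y (Y11 ▸ mem_erase.2 ⟨e, hy⟩))
    (Or.inr (surj_of_rigid inv11 mt11 ⟨fun i => gE.pt (i + 1), by decide +kernel⟩
    (fun i => mem_ds'.2 (by revert i; decide +kernel)) fun _ h1 h2 h3 => rigid11 h1 h2 fun i hi => h3 ⟨i, hi⟩))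

end CA.StModel
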