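import Cfsg.Agent.Lib.Comp.CLink
import Cfsg.Agent.Lib.Spor.FiSimple
import Cfsg.Agent.S0280

/-! The model of degree 693 is `PSU₆(2)`. -/

set_option autoImplicit false
set_option maxRecDepth 100000
set_option maxHeartbeats 400000
set_option linter.all false

namespace CA.FiU6

open CA.CNet CA.CWord CA.CLevel CA.CMat CA.CLink CA.H27Pres CA.Fi CA.FiSimple

def ms : List (Mat × Mat) := [([[0,0,2,0,0,0],[0,1,0,0,0,0],[3,0,0,0,0,0],[0,0,0,1,0,0],[0,0,0,0,1,0],[0,0,0,0,0,1]], [[0,0,2,0,0,0],[0,1,0,0,0,0],[3,0,0,0,0,0],[0,0,0,1,0,0],[0,0,0,0,1,0],[0,0,0,0,0,1]]),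
  ([[0,0,1,0,3,1],[0,1,0,0,0,0],[1,0,0,0,3,1],[0,0,0,1,0,0],[2,0,2,0,0,2],[1,0,1,0,3,0]], [[0,0,1,0,3,1],[0,1,0,0,0,0],[1,0,0,0,3,1],[0,0,0,1,0,0],[2,0,2,0,0,2],[1,0,1,0,3,0]]),
  ([[1,0,0,0,0,0],[0,0,0,1,2,2],[0,0,1,0,0,0],[0,1,0,0,2,2],[0,3,0,3,0,1],[0,3,0,3,1,0]], [[1,0,0,0,0,0],[0,0,0,1,2,2],[0,0,1,0,0,0],[0,1,0,0,2,2],[0,3,0,3,0,1],[0,3,0,3,1,0]]),
  ([[0,1,2,3,3,2],[1,0,2,3,3,2],[3,3,0,2,2,1],[2,2,3,0,1,3],[2,2,3,1,0,3],[3,3,1,2,2,0]], [[0,1,2,3,3,2],[1,0,2,3,3,2],[3,3,0,2,2,1],[2,2,3,0,1,3],[2,2,3,1,0,3],[3,3,1,2,2,0]]),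
  ([[0,3,2,3,1,1],[2,0,3,1,2,2],[3,2,0,2,3,3],[2,1,3,0,2,2],[1,3,2,3,0,1],[1,3,2,3,1,0]], [[0,3,2,3,1,1],[2,0,3,1,2,2],[3,2,0,2,3,3],[2,1,3,0,2,2],[1,3,2,3,0,1],[1,3,2,3,1,0]]),
  ([[0,1,2,1,3,3],[1,0,2,1,3,3],[3,3,0,3,2,2],[1,1,2,0,3,3],[2,2,3,2,0,1],[2,2,3,2,1,0]], [[0,1,2,1,3,3],[1,0,2,1,3,3],[3,3,0,3,2,2],[1,1,2,0,3,3],[2,2,3,2,0,1],[2,2,3,2,1,0]]),
  ([[0,2,2,1,3,2],[3,0,1,3,2,1],[3,1,0,3,2,1],[1,2,2,0,3,2],[2,3,3,2,0,3],[3,1,1,3,2,0]], [[0,2,2,1,3,2],[3,0,1,3,2,1],[3,1,0,3,2,1],[1,2,2,0,3,2],[2,3,3,2,0,3],[3,1,1,3,2,0]]),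
  ([[1,0,0,0,0,0],[0,0,0,1,0,0],[0,0,1,0,0,0],[0,1,0,0,0,0],[0,0,0,0,1,0],[0,0,0,0,0,1]], [[1,0,0,0,0,0],[0,0,0,1,0,0],[0,0,1,0,0,0],[0,1,0,0,0,0],[0,0,0,0,1,0],[0,0,0,0,0,1]])]
def SL : Mat := [[nat_lit 0xbf5fff5ffecdebff55ffeb55fffff55fff33febf5febbdbdf4beb5ffeb5ebfeaf6f7f5f5ebeabfebfffeb4b5ebeb5febff4bf5f56f6fdbdbeabfeabffeb5feb5bd7ebf4b5febe679fffe7e79ffe67ffff9f9e7e7e7879, nat_lit 0],
 [nat_lit 0x1f39c5c383b0317263e5d169f874b3f9c3bff92587b797658f87d8fa83da470f723f9d96724d1da58c673e25f24d19bd82fa7d966c5f8ee391d64f87afc7849cff18b6d74b8db91ec953da4d6f349f354d76efddbae79a, nat_lit 0x9d0e6a50748488e4506a890502fce50e75029c2857a9a831d02e91706b4629c8e45120c0e3a83629a25c2424e3a80d205c4320c16229d0498aa7200d320078b4b9640e4243c84231af08363050e45a82f8b946a743048],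
 [nat_lit 0x154b4d28b2c30a4aa8ad2a42accccaab52ccd5514ab554b0aab5542b4b0954aa42d2caaaab0a50ab4b4b5490ab0a4b4b54a94aaaa52d2b495505555554b4b4b03bd7ebf4b5febe679fffe7e79ffe67ffff9f9e7e7e7879, nat_lit 0x4a0b2c34d3035554232d54893333480ad248aa4a14a092d1400a0b4b442a155543434943455155414b4b024945508b50b4a14942a4a50d28a50ab04ab448b449bd7ebf4b5febe679fffe7e79ffe67ffff9f9e7e7e7879],
 [nat_lit 0x1f39c5c383a311673e05d17e078b53f9c3b7b38598fc65935a796c6563da4da49f82365d0d12430f272c654a2d1259bd9d19365d1f84438cae83b1d644986fc79f18b73d0872e6f0c935da4d6f53694d34af56bb5d9866, nat_lit 0x9d0e6a507478884f266a88d831cee50e74fdc8291ce271eb649b663a6b47763951e4c329b8e669dc5da26f67b8e60d20e99cc328a9e269f5304d9fe678fd3248b9641b1da9631331b0e836304f0cc2fa9f5ebf5eacab2],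
 [nat_lit 0x9a938a7747752022ce74d04489bbd82cb863ba9a8d30682b96f9be78e39db87f5e5f1b10283812c5c5c59a9bddcc77b8cc31a7a648491f1a83dc869d719b719b5371abe5ea01e33aa235ebfb5dcc5656565244f4eb4b6, nat_lit 0x10d9d162da2dee667fe3ba823995520777004cd0d9bd83e7f0d28ce49c70ed056b3b2868e70718fa72726151f2b3e5b797a5965667070888d076f036fa887a88f94c781f48beabef5733bbc4ceaa892b2b6f4f2222e260],
 [nat_lit 0x6e2d8b1d46bad1771075213a45776492b919106e8d309e9d96f84933b85712c030311b102839f86e3a3bd1d9ddcd9ce679efa7a6be3e7055768363823b663b675371a01e3f5f523d5dcb757ea224d1d1d65244f4fcb4a, nat_lit 0x12771693a3eda8cc883ae7fe66aac39d708198539bd911130d2870fd687b8fa66868868e7071d0526c6de8a12b3f8fc231b365674dcc5e7fbd85bc84578457c594c79f50b41f510aeabcdbb7733f6acad6f4f2222189a]]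
noncomputable abbrev gens : List Word := sing [2,3,4,5,6,7,8,13]

theorem hinv : invOK ar4 6 ms = true := by decide +kernel
theorem hsu : lall ms (fun m => band (meq 6 (mpow ar4 6 m.1 2) (mone 6)) (unitOK ar4 6 2 m.1)) = true := by
  decide +kernel
theorem hact : allR 8 (actI ar4 6 C21 SL (full 693) (nz ar4) (lets ms) gens) = true := by decide +kernel
theorem hframe : frameOK ar4 6 693 SL (full 693) [137,582,64,261,120,507] 551 [[1,0,1,0,2,3],[0,1,2,0,1,2],[0,0,0,2,0,2],[0,2,1,0,0,3],[0,3,1,3,1,0],[1,3,3,3,2,0]] [1,3,2,2,3,1] = true := by decide +kernel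

theorem isoX (F : Type*) [Field F] [Fintype F] (hF : Fintype.card F = 4) :
    Nonempty (X C21 ≃* Cfsg.PSU 6 F 2) := by
  obtain ⟨ω, hω⟩ := exists_omega hF
  have hA := sound4 hF hω
  have := charP_two hF
  let ρ := (Cfsg.slToMat 6 F).comp (Cfsg.SU 6 F 2).subtype
  have hρ : Function.Injective ρ := Subtype.val_injective.comp Subtype.val_injective
  obtain ⟨γ, h1, -, h2⟩ := exists_let (Equiv.refl _) hA ρ hinv (S := ⊤) fun m hm => by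
    have h := band_iff.1 (lall_iff.1 hsu m hm)
    obtain ⟨g, hg⟩ := exists_SU hA (frobenius F 2) (fun _ => rfl)
      (det_eq_one _ hA (by decide +kernel) h.1) h.2
    exact ⟨g, trivial, hg⟩
  obtain ⟨M⟩ := model21
  have hc := Cfsg.Agent.S0280.result (F := F) (q := 2) hF 6 (by decide)
  obtain ⟨ψ, -⟩ := equiv_of_simple (link ρ _ ⊤ hA ok21 (inS_top hA) h1 (k := 8) rfl h2 fun _ => allR_spec hact)
    (QuotientGroup.mk' (Subgroup.center _))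
    (fun a ha => by
      obtain ⟨s, -, hs⟩ := frameOK_spec ρ ⊤ _ hA hframe ha
      exact (QuotientGroup.eq_one_iff _).2 (center_of_scalar ρ hρ hs))
    (X21 ▸ simple21 M : IsSimpleGroup (C21.grp (sing [2,3,4,5,6,7,8,13]))) (not_central ρ _ hA h1 [0] [2] 0 0 (by decide +kernel))
    (N := 9196830720) (by decide) (X21 ▸ card21 M : Nat.card (C21.grp (sing [2,3,4,5,6,7,8,13])) = _) (by
      simp only [Finset.prod_range_succ, Finset.prod_range_zero] at hc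
      norm_num [Nat.even_iff] at hc
      show Nat.card (Cfsg.PSU 6 F 2) = _
      omega)
  exact ⟨(MulEquiv.subgroupCongr X21).trans ψ⟩

theorem iso21 (F : Type*) [Field F] [Fintype F] (hF : Fintype.card F = 4) :
    Nonempty (Cfsg.PSU 6 F 2 ≃* X C21) := ⟨(isoX F hF).some.symm⟩

/-- a group with a model is isomorphic to the permutation group -/
noncomputable def toX {G : Type*} [Group G] {D : Set G} {C : Ctx} {d k : ℕ} (M : Model G D C d k) : G ≃* X C :=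
  (MonoidHom.ofInjective M.inj).trans (MulEquiv.subgroupCongr M.range_φ)

theorem iso {G : Type*} [Group G] {D : Set G} (M : M21 G D) (F : Type*) [Field F] [Fintype F]
    (hF : Fintype.card F = 4) : Nonempty (G ≃* Cfsg.PSU 6 F 2) := ⟨(toX M).trans (isoX F hF).some⟩

end CA.FiU6
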