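import Cfsg.Agent.Lib.Comp.CTodd
set_option autoImplicit false
set_option linter.all false
set_option maxRecDepth 100000
universe u
namespace CA.FiAb
open CA.CNet CA.CWord CA.CLevel CA.CSimple CA.CPoint CA.CTodd 
noncomputable section
def rA1 : List Word := [[0,0], [2,2], [4,4], [6,6], [8,8], [10,10], [12,12], [14,14], [16,16], [2,4,2,4,2,4], [4,6,4,6,4,6], [4,12,4,12,4,12], [6,8,6,8,6,8], [8,10,8,10,8,10], [8,16,8,16,8,16], [12,14,12,14,12,14], [14,16,14,16,14,16], [2,4,6,8,10,12,14,2,4,6,8,10,12,14,2,4,6,8,10,12,14,2,4,6,8,10,12,14,2,4,6,8,10,12,14,2,4,6,8,10,12,14,2,4,6,8,10,12,14,2,4,6,8,10,12,14,2,4,6,8,10,12,14], [0,16,8,6,4,12,2,4,6,8,16,6,2,4,12,2,4,2,6,4,2,8,6,4,2,12,4,2,6,4,8]]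
def rA2 : List Word := [[0,0], [2,2], [4,4], [6,6], [8,8], [10,10], [12,12], [14,14], [16,16], [0,2,0,2,0,2], [2,4,2,4,2,4], [4,6,4,6,4,6], [6,8,6,8,6,8], [6,14,6,14,6,14], [8,10,8,10,8,10], [10,12,10,12,10,12], [14,16,14,16,14,16], [0,2,4,6,8,10,14,0,2,4,6,8,10,14,0,2,4,6,8,10,14,0,2,4,6,8,10,14,0,2,4,6,8,10,14,0,2,4,6,8,10,14,0,2,4,6,8,10,14,0,2,4,6,8,10,14,0,2,4,6,8,10,14]]
def cs : List Word := [[0,2,1,3], [0,4,1,5], [0,6,1,7], [0,8,1,9], [0,10,1,11], [0,12,1,13], [0,14,1,15], [0,16,1,17], [2,4,3,5], [2,6,3,7], [2,8,3,9], [2,10,3,11], [2,12,3,13], [2,14,3,15], [2,16,3,17], [4,6,5,7], [4,8,5,9], [4,10,5,11], [4,12,5,13], [4,14,5,15], [4,16,5,17], [6,8,7,9], [6,10,7,11], [6,12,7,13], [6,14,7,15], [6,16,7,17], [8,10,9,11], [8,12,9,13], [8,14,9,15], [8,16,9,17], [10,12,11,13], [10,14,11,15], [10,16,11,17], [12,14,13,15], [12,16,13,17], [14,16,15,17]]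
namespace A1
noncomputable def A_0 : List (ℕ) := [nat_lit 0x2000000040120000004020a1000b80402a0100a004026010090040100000380000c00002800008000018000040000800c000020140000000f0100381ce0f07103c02e030138000000d0100301860d06103404c0000002c0400a05282c1440b00a80c04a00000024040080420241040900a00c0480000001c0400603181c0c40700980c0460000001404004021014042030848001f0020740001ae0206380016c0205300012a020428000e8020320000a6020218000640101100002200]
noncomputable def A : List (List (ℕ)) := [A_0]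
noncomputable def K_0 : List (ℕ) := [nat_lit 0x10f87436190b854261107834160903814060000]
noncomputable def K : List (List (ℕ)) := [K_0]
noncomputable def R_0 : List (Rule) := [Rule.mk (nat_lit 1) (nat_lit 33) (Steps.bwd (nat_lit 2) (Steps.bwd (nat_lit 1) (Steps.fwd (nat_lit 1024) Steps.nil))) (nat_lit 38) (nat_lit 1),
  Rule.mk (nat_lit 2) (nat_lit 33) (Steps.bwd (nat_lit 3) (Steps.bwd (nat_lit 2) (Steps.fwd (nat_lit 1536) Steps.nil))) (nat_lit 54) (nat_lit 1),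
  Rule.mk (nat_lit 0) (nat_lit 60) (Steps.bwd (nat_lit 2) (Steps.bwd (nat_lit 3) (Steps.bwd (nat_lit 2) (Steps.fwd (nat_lit 1536) (Steps.bwd (nat_lit 2) (Steps.bwd (nat_lit 3) Steps.nil)))))) (nat_lit 18) (nat_lit 0),
  Rule.mk (nat_lit 0) (nat_lit 33) (Steps.fwd (nat_lit 1024) (Steps.fwd (nat_lit 0) (Steps.bwd (nat_lit 2) Steps.nil))) (nat_lit 110) (nat_lit 0),
  Rule.mk (nat_lit 3) (nat_lit 24) (Steps.bwd (nat_lit 0) (Steps.bwd (nat_lit 3) Steps.nil)) (nat_lit 110) (nat_lit 0),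
  Rule.mk (nat_lit 3) (nat_lit 33) (Steps.fwd (nat_lit 512) (Steps.bwd (nat_lit 3) (Steps.fwd (nat_lit 512) Steps.nil))) (nat_lit 40) (nat_lit 0),
  Rule.mk (nat_lit 2) (nat_lit 33) (Steps.bwd (nat_lit 4) (Steps.bwd (nat_lit 2) (Steps.fwd (nat_lit 2048) Steps.nil))) (nat_lit 56) (nat_lit 1),
  Rule.mk (nat_lit 3) (nat_lit 33) (Steps.bwd (nat_lit 4) (Steps.bwd (nat_lit 3) (Steps.fwd (nat_lit 2048) Steps.nil))) (nat_lit 68) (nat_lit 1),
  Rule.mk (nat_lit 0) (nat_lit 60) (Steps.bwd (nat_lit 3) (Steps.bwd (nat_lit 4) (Steps.bwd (nat_lit 3) (Steps.fwd (nat_lit 2048) (Steps.bwd (nat_lit 3) (Steps.bwd (nat_lit 4) Steps.nil)))))) (nat_lit 20) (nat_lit 0),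
  Rule.mk (nat_lit 4) (nat_lit 24) (Steps.bwd (nat_lit 0) (Steps.bwd (nat_lit 4) Steps.nil)) (nat_lit 110) (nat_lit 0),
  Rule.mk (nat_lit 4) (nat_lit 33) (Steps.fwd (nat_lit 512) (Steps.bwd (nat_lit 4) (Steps.fwd (nat_lit 512) Steps.nil))) (nat_lit 42) (nat_lit 0),
  Rule.mk (nat_lit 2) (nat_lit 33) (Steps.bwd (nat_lit 5) (Steps.bwd (nat_lit 2) (Steps.fwd (nat_lit 2560) Steps.nil))) (nat_lit 58) (nat_lit 1),
  Rule.mk (nat_lit 4) (nat_lit 33) (Steps.bwd (nat_lit 5) (Steps.bwd (nat_lit 4) (Steps.fwd (nat_lit 2560) Steps.nil))) (nat_lit 80) (nat_lit 1),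
  Rule.mk (nat_lit 0) (nat_lit 60) (Steps.bwd (nat_lit 4) (Steps.bwd (nat_lit 5) (Steps.bwd (nat_lit 4) (Steps.fwd (nat_lit 2560) (Steps.bwd (nat_lit 4) (Steps.bwd (nat_lit 5) Steps.nil)))))) (nat_lit 24) (nat_lit 0),
  Rule.mk (nat_lit 5) (nat_lit 24) (Steps.bwd (nat_lit 0) (Steps.bwd (nat_lit 5) Steps.nil)) (nat_lit 110) (nat_lit 0),
  Rule.mk (nat_lit 5) (nat_lit 33) (Steps.fwd (nat_lit 512) (Steps.bwd (nat_lit 5) (Steps.fwd (nat_lit 512) Steps.nil))) (nat_lit 44) (nat_lit 0),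
  Rule.mk (nat_lit 2) (nat_lit 33) (Steps.bwd (nat_lit 6) (Steps.bwd (nat_lit 2) (Steps.fwd (nat_lit 3072) Steps.nil))) (nat_lit 60) (nat_lit 1),
  Rule.mk (nat_lit 5) (nat_lit 33) (Steps.bwd (nat_lit 6) (Steps.bwd (nat_lit 5) (Steps.fwd (nat_lit 3072) Steps.nil))) (nat_lit 90) (nat_lit 1),
  Rule.mk (nat_lit 0) (nat_lit 60) (Steps.bwd (nat_lit 5) (Steps.bwd (nat_lit 6) (Steps.bwd (nat_lit 5) (Steps.fwd (nat_lit 3072) (Steps.bwd (nat_lit 5) (Steps.bwd (nat_lit 6) Steps.nil)))))) (nat_lit 26) (nat_lit 0),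
  Rule.mk (nat_lit 6) (nat_lit 24) (Steps.bwd (nat_lit 0) (Steps.bwd (nat_lit 6) Steps.nil)) (nat_lit 110) (nat_lit 0),
  Rule.mk (nat_lit 2) (nat_lit 33) (Steps.bwd (nat_lit 7) (Steps.bwd (nat_lit 2) (Steps.fwd (nat_lit 3584) Steps.nil))) (nat_lit 62) (nat_lit 1),
  Rule.mk (nat_lit 3) (nat_lit 33) (Steps.bwd (nat_lit 7) (Steps.bwd (nat_lit 3) (Steps.fwd (nat_lit 3584) Steps.nil))) (nat_lit 74) (nat_lit 1),
  Rule.mk (nat_lit 0) (nat_lit 60) (Steps.bwd (nat_lit 3) (Steps.bwd (nat_lit 7) (Steps.bwd (nat_lit 3) (Steps.fwd (nat_lit 3584) (Steps.bwd (nat_lit 3) (Steps.bwd (nat_lit 7) Steps.nil)))))) (nat_lit 22) (nat_lit 0),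
  Rule.mk (nat_lit 7) (nat_lit 24) (Steps.bwd (nat_lit 0) (Steps.bwd (nat_lit 7) Steps.nil)) (nat_lit 110) (nat_lit 0),
  Rule.mk (nat_lit 7) (nat_lit 33) (Steps.fwd (nat_lit 512) (Steps.bwd (nat_lit 7) (Steps.fwd (nat_lit 512) Steps.nil))) (nat_lit 48) (nat_lit 0),
  Rule.mk (nat_lit 2) (nat_lit 33) (Steps.bwd (nat_lit 8) (Steps.bwd (nat_lit 2) (Steps.fwd (nat_lit 4096) Steps.nil))) (nat_lit 64) (nat_lit 1),
  Rule.mk (nat_lit 7) (nat_lit 33) (Steps.bwd (nat_lit 8) (Steps.bwd (nat_lit 7) (Steps.fwd (nat_lit 4096) Steps.nil))) (nat_lit 104) (nat_lit 1),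
  Rule.mk (nat_lit 0) (nat_lit 60) (Steps.bwd (nat_lit 7) (Steps.bwd (nat_lit 8) (Steps.bwd (nat_lit 7) (Steps.fwd (nat_lit 4096) (Steps.bwd (nat_lit 7) (Steps.bwd (nat_lit 8) Steps.nil)))))) (nat_lit 30) (nat_lit 0),
  Rule.mk (nat_lit 8) (nat_lit 24) (Steps.bwd (nat_lit 0) (Steps.bwd (nat_lit 8) Steps.nil)) (nat_lit 110) (nat_lit 0),
  Rule.mk (nat_lit 0) (nat_lit 573) (Steps.bwd (nat_lit 8) (Steps.fwd (nat_lit 3584) (Steps.bwd (nat_lit 6) (Steps.fwd (nat_lit 2560) (Steps.bwd (nat_lit 4) (Steps.fwd (nat_lit 1536) (Steps.bwd (nat_lit 2) (Steps.fwd (nat_lit 4096) (Steps.bwd (nat_lit 7) (Steps.fwd (nat_lit 3072) (Steps.bwd (nat_lit 5) (Steps.fwd (nat_lit 2048) (Steps.bwd (nat_lit 3) (Steps.fwd (nat_lit 1024) (Steps.bwd (nat_lit 8) (Steps.fwd (nat_lit 3584) (Steps.bwd (nat_lit 6) (Steps.fwd (nat_lit 2560) (Steps.bwd (nat_lit 4) (Steps.fwd (nat_lit 1536) (Steps.bwd (nat_lit 2) (Steps.fwd (nat_lit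 4096) (Steps.bwd (nat_lit 7) (Steps.fwd (nat_lit 3072) (Steps.bwd (nat_lit 5) (Steps.fwd (nat_lit 2048) (Steps.bwd (nat_lit 3) (Steps.fwd (nat_lit 1024) (Steps.bwd (nat_lit 8) (Steps.fwd (nat_lit 3584) (Steps.bwd (nat_lit 6) (Steps.fwd (nat_lit 2560) (Steps.bwd (nat_lit 4) (Steps.fwd (nat_lit 1536) (Steps.bwd (nat_lit 2) (Steps.fwd (nat_lit 4096) (Steps.bwd (nat_lit 7) (Steps.fwd (nat_lit 3072) (Steps.bwd (nat_lit 5) (Steps.fwd (nat_lit 2048) (Steps.bwd (nat_lit 3) (Steps.fwd (nat_lit 1024) (Steps.bwd (nat_lit 8) (Steps.fwd (nat_lit 3584) (Steps.bwd (nat_lit 6) (Steps.fwd (nat_lit 2560) (Steps.bwd (nat_lit 4) (Steps.fwd (nat_lit 1536) (Steps.bwd (nat_lit 2) (Steps.fwd (nat_lit 4096) (Steps.bwd (nat_lit 7) (Steps.fwd (nat_lit 3072) (Steps.bwd (nat_lit 5) (Steps.fwd (nat_lit 2048) (Steps.bwd (nat_lit 3) (Steps.fwd (nat_lit 1024) (Steps.bwd (nat_lit 8) (Steps.fwd (nat_lit 3584) (Steps.bwd (nat_lit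 6) (Steps.fwd (nat_lit 2560) (Steps.bwd (nat_lit 4) (Steps.fwd (nat_lit 1536) (Steps.bwd (nat_lit 2) Steps.nil))))))))))))))))))))))))))))))))))))))))))))))))))))))))))))))) (nat_lit 35) (nat_lit 0),
  Rule.mk (nat_lit 0) (nat_lit 33) (Steps.fwd (nat_lit 512) (Steps.fwd (nat_lit 0) (Steps.fwd (nat_lit 512) Steps.nil))) (nat_lit 110) (nat_lit 0),
  Rule.mk (nat_lit 2) (nat_lit 24) (Steps.bwd (nat_lit 0) (Steps.bwd (nat_lit 2) Steps.nil)) (nat_lit 110) (nat_lit 0),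
  Rule.mk (nat_lit 3) (nat_lit 24) (Steps.bwd (nat_lit 0) (Steps.fwd (nat_lit 1536) Steps.nil)) (nat_lit 110) (nat_lit 0),
  Rule.mk (nat_lit 4) (nat_lit 24) (Steps.bwd (nat_lit 0) (Steps.fwd (nat_lit 2048) Steps.nil)) (nat_lit 110) (nat_lit 0),
  Rule.mk (nat_lit 5) (nat_lit 24) (Steps.bwd (nat_lit 0) (Steps.fwd (nat_lit 2560) Steps.nil)) (nat_lit 110) (nat_lit 0),
  Rule.mk (nat_lit 7) (nat_lit 24) (Steps.bwd (nat_lit 0) (Steps.fwd (nat_lit 3584) Steps.nil)) (nat_lit 110) (nat_lit 0),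
  Rule.mk (nat_lit 5) (nat_lit 33) (Steps.bwd (nat_lit 9) (Steps.fwd (nat_lit 2560) (Steps.fwd (nat_lit 4608) Steps.nil))) (nat_lit 96) (nat_lit 1),
  Rule.mk (nat_lit 0) (nat_lit 60) (Steps.fwd (nat_lit 2560) (Steps.bwd (nat_lit 9) (Steps.fwd (nat_lit 2560) (Steps.fwd (nat_lit 4608) (Steps.fwd (nat_lit 2560) (Steps.bwd (nat_lit 9) Steps.nil)))))) (nat_lit 28) (nat_lit 0),
  Rule.mk (nat_lit 9) (nat_lit 24) (Steps.bwd (nat_lit 0) (Steps.bwd (nat_lit 9) Steps.nil)) (nat_lit 110) (nat_lit 0),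
  Rule.mk (nat_lit 0) (nat_lit 285) (Steps.fwd (nat_lit 2048) (Steps.fwd (nat_lit 1024) (Steps.fwd (nat_lit 1536) (Steps.fwd (nat_lit 3584) (Steps.fwd (nat_lit 1024) (Steps.fwd (nat_lit 1536) (Steps.fwd (nat_lit 1024) (Steps.fwd (nat_lit 2048) (Steps.fwd (nat_lit 1536) (Steps.fwd (nat_lit 1024) (Steps.fwd (nat_lit 2560) (Steps.fwd (nat_lit 2048) (Steps.fwd (nat_lit 1536) (Steps.fwd (nat_lit 1024) (Steps.fwd (nat_lit 3584) (Steps.fwd (nat_lit 1536) (Steps.fwd (nat_lit 1024) (Steps.fwd (nat_lit 2048) (Steps.fwd (nat_lit 1536) (Steps.fwd (nat_lit 2560) (Steps.bwd (nat_lit 1) (Steps.fwd (nat_lit 4608) (Steps.fwd (nat_lit 2560) (Steps.fwd (nat_lit 2048) (Steps.fwd (nat_lit 1536) (Steps.fwd (nat_lit 3584) (Steps.fwd (nat_lit 1024) (Steps.fwd (nat_lit 1536) (Steps.fwd (nat_lit 2048) (Steps.fwd (nat_lit 2560) (Steps.fwd (nat_lit 4608) Steps.nil))))))))))))))))))))))))))))))) (nat_lit 36) (nat_lit 11),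
  Rule.mk (nat_lit 1) (nat_lit 24) (Steps.bwd (nat_lit 0) (Steps.bwd (nat_lit 1) Steps.nil)) (nat_lit 110) (nat_lit 0)]
noncomputable def R : List (List (Rule)) := [R_0]
def LW : List Word := [[], [0], [2], [4], [6], [8], [10], [12], [14], [16]]
def par : Par := ⟨9, 4, 13, 22, 511, 8191, 4194303⟩
theorem hpar : par.ok := by decide
theorem hR0_0 : lall (R) (fun l => lall l (ruleOK (lapp rA1 cs) LW par)) = true := by decide +kernel
theorem hR0 : lall (R) (fun l => lall l (ruleOK (lapp rA1 cs) LW par)) = true := hR0_0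
theorem hR : RulesOK (lapp rA1 cs) LW par R := rulesOK_of rfl hR0
def cols : List (ℕ × ℕ) := [(512, 1), (1024, 2), (1536, 3), (2048, 4), (2560, 5), (3072, 6), (3584, 7), (4096, 8), (4608, 9)]
theorem hcols : lall cols (colOK (lapp rA1 cs) LW par) = true := by decide +kernel
noncomputable def JS0 : List ℕ := [nat_lit 0x200008406200038200107db0f8ac3cd0ac001b643c0060500001081c00074281c002e1c0986d60d89434a86c00a08c00021032000d00c32004c32020c24181005d11000020805c0078740002102a000b00c2a00382a020a1a140d04cc0d00014584c00505c00021022000900c22002422020810100a03c70a00008303c0028440001101a00070401a000c1a0f06040e078341,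
  nat_lit 0x43005200058301a0e04834180b0010808060281c0c03038180a04038180a070301c0606038168190027188006209188026180206128481720701518841310981108e00f00200ee8340cc0440aa05808786c0650800428c80300c800227c601d0b8441606000c03a170882c0c00180742e110581800300e85c220b03000601d0b8441606000c03a170882c0c00180742e110581800300e85c220b03000601d0b8441606003c22003a2e000084]
theorem S0_c : blocks (facts 9 4 13 22 511 8191 4194303 9 511 6 63 A R 32) 32 JS0 271 = true := by decide +kernel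
theorem S0 : On (Step.{u} (lapp rA1 cs) LW par A) 271 335 :=
  steps_of_blocks hpar hR S0_c (by decide +kernel)
theorem D0_c : allB (defOK 9 13 22 511 4194303 272 A K) 1 2 = true := by decide +kernel
theorem D0 : On (fun r => defOK par.W par.WL par.E par.mW par.mE 272 A K r = true) 256 384 :=
  On.of_allB D0_c
noncomputable def JW0 : List ℕ := [nat_lit 0x1a0a82c0b8300c8340d816]
theorem W0_c : blocks (rows 9 4 13 22 511 8191 4194303 10 1023 90 A 335 1 cols 14) 14 JW0 0 = true := by decide +kernel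
theorem W0 : On (Row.{u} (lapp rA1 cs) LW par A 335 1 cols) 0 14 :=
  rows_of_blocks hpar (by decide) hcols W0_c (by decide +kernel)
theorem idx : Idx.{u} (lapp rA1 cs) [[0], [2], [4], [6], [8], [10], [12], [14], [16]] [] 1 :=
  idx_of_cert hpar hR (K := K) (by decide +kernel) (T := 272) (T' := 384) (by decide) D0
    (subs := []) (by decide +kernel) (T1 := 271) (by decide) (N := 335) S0
    (by decide) (n' := 14) (by decide) W0 (by decide +kernel) (by decide +kernel)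
end A1
namespace A2
noncomputable def A_0 : List (ℕ) := [nat_lit 0x4800000100840400100000380000c0000280000800001800004000008000000100c0000000f0080381c80f07083c02e000000340200c0630341820d00b0000000b00802814a0b05082c02a00000024020080420241020900a000000070080180c60703081c02600000014020040210140820500900000003008008042030848001f0010740001ae0106380016c0105300012a010428000e8010320000a6010218000640101100002200]
noncomputable def A : List (List (ℕ)) := [A_0]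
noncomputable def K_0 : List (ℕ) := [nat_lit 0x10f87436190b854261107834160903814060000]
noncomputable def K : List (List (ℕ)) := [K_0]
noncomputable def R_0 : List (Rule) := [Rule.mk (nat_lit 1) (nat_lit 33) (Steps.bwd (nat_lit 2) (Steps.bwd (nat_lit 1) (Steps.fwd (nat_lit 1024) Steps.nil))) (nat_lit 36) (nat_lit 1),
  Rule.mk (nat_lit 0) (nat_lit 60) (Steps.bwd (nat_lit 1) (Steps.bwd (nat_lit 2) (Steps.bwd (nat_lit 1) (Steps.fwd (nat_lit 1024) (Steps.bwd (nat_lit 1) (Steps.bwd (nat_lit 2) Steps.nil)))))) (nat_lit 18) (nat_lit 0),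
  Rule.mk (nat_lit 0) (nat_lit 33) (Steps.fwd (nat_lit 512) (Steps.fwd (nat_lit 0) (Steps.bwd (nat_lit 1) Steps.nil))) (nat_lit 108) (nat_lit 0),
  Rule.mk (nat_lit 2) (nat_lit 24) (Steps.bwd (nat_lit 0) (Steps.bwd (nat_lit 2) Steps.nil)) (nat_lit 108) (nat_lit 0),
  Rule.mk (nat_lit 1) (nat_lit 33) (Steps.bwd (nat_lit 3) (Steps.bwd (nat_lit 1) (Steps.fwd (nat_lit 1536) Steps.nil))) (nat_lit 38) (nat_lit 1),
  Rule.mk (nat_lit 2) (nat_lit 33) (Steps.bwd (nat_lit 3) (Steps.bwd (nat_lit 2) (Steps.fwd (nat_lit 1536) Steps.nil))) (nat_lit 52) (nat_lit 1),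
  Rule.mk (nat_lit 0) (nat_lit 60) (Steps.bwd (nat_lit 2) (Steps.bwd (nat_lit 3) (Steps.bwd (nat_lit 2) (Steps.fwd (nat_lit 1536) (Steps.bwd (nat_lit 2) (Steps.bwd (nat_lit 3) Steps.nil)))))) (nat_lit 20) (nat_lit 0),
  Rule.mk (nat_lit 3) (nat_lit 24) (Steps.bwd (nat_lit 0) (Steps.bwd (nat_lit 3) Steps.nil)) (nat_lit 108) (nat_lit 0),
  Rule.mk (nat_lit 1) (nat_lit 33) (Steps.bwd (nat_lit 4) (Steps.bwd (nat_lit 1) (Steps.fwd (nat_lit 2048) Steps.nil))) (nat_lit 40) (nat_lit 1),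
  Rule.mk (nat_lit 3) (nat_lit 33) (Steps.bwd (nat_lit 4) (Steps.bwd (nat_lit 3) (Steps.fwd (nat_lit 2048) Steps.nil))) (nat_lit 66) (nat_lit 1),
  Rule.mk (nat_lit 0) (nat_lit 60) (Steps.bwd (nat_lit 3) (Steps.bwd (nat_lit 4) (Steps.bwd (nat_lit 3) (Steps.fwd (nat_lit 2048) (Steps.bwd (nat_lit 3) (Steps.bwd (nat_lit 4) Steps.nil)))))) (nat_lit 22) (nat_lit 0),
  Rule.mk (nat_lit 4) (nat_lit 24) (Steps.bwd (nat_lit 0) (Steps.bwd (nat_lit 4) Steps.nil)) (nat_lit 108) (nat_lit 0),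
  Rule.mk (nat_lit 1) (nat_lit 33) (Steps.bwd (nat_lit 5) (Steps.bwd (nat_lit 1) (Steps.fwd (nat_lit 2560) Steps.nil))) (nat_lit 42) (nat_lit 1),
  Rule.mk (nat_lit 4) (nat_lit 33) (Steps.bwd (nat_lit 5) (Steps.bwd (nat_lit 4) (Steps.fwd (nat_lit 2560) Steps.nil))) (nat_lit 78) (nat_lit 1),
  Rule.mk (nat_lit 0) (nat_lit 60) (Steps.bwd (nat_lit 4) (Steps.bwd (nat_lit 5) (Steps.bwd (nat_lit 4) (Steps.fwd (nat_lit 2560) (Steps.bwd (nat_lit 4) (Steps.bwd (nat_lit 5) Steps.nil)))))) (nat_lit 24) (nat_lit 0),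
  Rule.mk (nat_lit 5) (nat_lit 24) (Steps.bwd (nat_lit 0) (Steps.bwd (nat_lit 5) Steps.nil)) (nat_lit 108) (nat_lit 0),
  Rule.mk (nat_lit 1) (nat_lit 33) (Steps.bwd (nat_lit 6) (Steps.bwd (nat_lit 1) (Steps.fwd (nat_lit 3072) Steps.nil))) (nat_lit 44) (nat_lit 1),
  Rule.mk (nat_lit 5) (nat_lit 33) (Steps.bwd (nat_lit 6) (Steps.bwd (nat_lit 5) (Steps.fwd (nat_lit 3072) Steps.nil))) (nat_lit 88) (nat_lit 1),
  Rule.mk (nat_lit 0) (nat_lit 60) (Steps.bwd (nat_lit 5) (Steps.bwd (nat_lit 6) (Steps.bwd (nat_lit 5) (Steps.fwd (nat_lit 3072) (Steps.bwd (nat_lit 5) (Steps.bwd (nat_lit 6) Steps.nil)))))) (nat_lit 28) (nat_lit 0),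
  Rule.mk (nat_lit 6) (nat_lit 24) (Steps.bwd (nat_lit 0) (Steps.bwd (nat_lit 6) Steps.nil)) (nat_lit 108) (nat_lit 0),
  Rule.mk (nat_lit 1) (nat_lit 33) (Steps.bwd (nat_lit 7) (Steps.bwd (nat_lit 1) (Steps.fwd (nat_lit 3584) Steps.nil))) (nat_lit 46) (nat_lit 1),
  Rule.mk (nat_lit 6) (nat_lit 33) (Steps.bwd (nat_lit 7) (Steps.bwd (nat_lit 6) (Steps.fwd (nat_lit 3584) Steps.nil))) (nat_lit 96) (nat_lit 1),
  Rule.mk (nat_lit 0) (nat_lit 60) (Steps.bwd (nat_lit 6) (Steps.bwd (nat_lit 7) (Steps.bwd (nat_lit 6) (Steps.fwd (nat_lit 3584) (Steps.bwd (nat_lit 6) (Steps.bwd (nat_lit 7) Steps.nil)))))) (nat_lit 30) (nat_lit 0),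
  Rule.mk (nat_lit 7) (nat_lit 24) (Steps.bwd (nat_lit 0) (Steps.bwd (nat_lit 7) Steps.nil)) (nat_lit 108) (nat_lit 0),
  Rule.mk (nat_lit 1) (nat_lit 33) (Steps.bwd (nat_lit 8) (Steps.bwd (nat_lit 1) (Steps.fwd (nat_lit 4096) Steps.nil))) (nat_lit 48) (nat_lit 1),
  Rule.mk (nat_lit 4) (nat_lit 33) (Steps.bwd (nat_lit 8) (Steps.bwd (nat_lit 4) (Steps.fwd (nat_lit 4096) Steps.nil))) (nat_lit 84) (nat_lit 1),
  Rule.mk (nat_lit 0) (nat_lit 60) (Steps.bwd (nat_lit 4) (Steps.bwd (nat_lit 8) (Steps.bwd (nat_lit 4) (Steps.fwd (nat_lit 4096) (Steps.bwd (nat_lit 4) (Steps.bwd (nat_lit 8) Steps.nil)))))) (nat_lit 26) (nat_lit 0),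
  Rule.mk (nat_lit 8) (nat_lit 24) (Steps.bwd (nat_lit 0) (Steps.bwd (nat_lit 8) Steps.nil)) (nat_lit 108) (nat_lit 0),
  Rule.mk (nat_lit 0) (nat_lit 573) (Steps.bwd (nat_lit 8) (Steps.fwd (nat_lit 3072) (Steps.bwd (nat_lit 5) (Steps.fwd (nat_lit 2048) (Steps.bwd (nat_lit 3) (Steps.fwd (nat_lit 1024) (Steps.bwd (nat_lit 1) (Steps.fwd (nat_lit 4096) (Steps.bwd (nat_lit 6) (Steps.fwd (nat_lit 2560) (Steps.bwd (nat_lit 4) (Steps.fwd (nat_lit 1536) (Steps.bwd (nat_lit 2) (Steps.fwd (nat_lit 512) (Steps.bwd (nat_lit 8) (Steps.fwd (nat_lit 3072) (Steps.bwd (nat_lit 5) (Steps.fwd (nat_lit 2048) (Steps.bwd (nat_lit 3) (Steps.fwd (nat_lit 1024) (Steps.bwd (nat_lit 1) (Steps.fwd (nat_lit 4096) (Steps.bwd (nat_lit 6) (Steps.fwd (nat_lit 2560) (Steps.bwd (nat_lit 4) (Steps.fwd (nat_lit 1536) (Steps.bwd (nat_lit 2) (Steps.fwd (nat_lit 512) (Steps.bwd (nat_lit 8) (Steps.fwd (nat_lit 3072) (Steps.bwd (nat_lit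 5) (Steps.fwd (nat_lit 2048) (Steps.bwd (nat_lit 3) (Steps.fwd (nat_lit 1024) (Steps.bwd (nat_lit 1) (Steps.fwd (nat_lit 4096) (Steps.bwd (nat_lit 6) (Steps.fwd (nat_lit 2560) (Steps.bwd (nat_lit 4) (Steps.fwd (nat_lit 1536) (Steps.bwd (nat_lit 2) (Steps.fwd (nat_lit 512) (Steps.bwd (nat_lit 8) (Steps.fwd (nat_lit 3072) (Steps.bwd (nat_lit 5) (Steps.fwd (nat_lit 2048) (Steps.bwd (nat_lit 3) (Steps.fwd (nat_lit 1024) (Steps.bwd (nat_lit 1) (Steps.fwd (nat_lit 4096) (Steps.bwd (nat_lit 6) (Steps.fwd (nat_lit 2560) (Steps.bwd (nat_lit 4) (Steps.fwd (nat_lit 1536) (Steps.bwd (nat_lit 2) (Steps.fwd (nat_lit 512) (Steps.bwd (nat_lit 8) (Steps.fwd (nat_lit 3072) (Steps.bwd (nat_lit 5) (Steps.fwd (nat_lit 2048) (Steps.bwd (nat_lit 3) (Steps.fwd (nat_lit 1024) (Steps.bwd (nat_lit 1) Steps.nil))))))))))))))))))))))))))))))))))))))))))))))))))))))))))))))) (nat_lit 35) (nat_lit 0),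
  Rule.mk (nat_lit 1) (nat_lit 24) (Steps.bwd (nat_lit 0) (Steps.bwd (nat_lit 1) Steps.nil)) (nat_lit 108) (nat_lit 0),
  Rule.mk (nat_lit 8) (nat_lit 33) (Steps.bwd (nat_lit 9) (Steps.fwd (nat_lit 4096) (Steps.fwd (nat_lit 4608) Steps.nil))) (nat_lit 106) (nat_lit 1),
  Rule.mk (nat_lit 0) (nat_lit 60) (Steps.fwd (nat_lit 4096) (Steps.bwd (nat_lit 9) (Steps.fwd (nat_lit 4096) (Steps.fwd (nat_lit 4608) (Steps.fwd (nat_lit 4096) (Steps.bwd (nat_lit 9) Steps.nil)))))) (nat_lit 32) (nat_lit 0),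
  Rule.mk (nat_lit 9) (nat_lit 24) (Steps.bwd (nat_lit 0) (Steps.bwd (nat_lit 9) Steps.nil)) (nat_lit 108) (nat_lit 0)]
noncomputable def R : List (List (Rule)) := [R_0]
def LW : List Word := [[], [0], [2], [4], [6], [8], [10], [12], [14], [16]]
def par : Par := ⟨9, 4, 13, 22, 511, 8191, 4194303⟩
theorem hpar : par.ok := by decide
theorem hR0_0 : lall (R) (fun l => lall l (ruleOK (lapp rA2 cs) LW par)) = true := by decide +kernel
theorem hR0 : lall (R) (fun l => lall l (ruleOK (lapp rA2 cs) LW par)) = true := hR0_0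
theorem hR : RulesOK (lapp rA2 cs) LW par R := rulesOK_of rfl hR0
def cols : List (ℕ × ℕ) := [(512, 1), (1024, 2), (1536, 3), (2048, 4), (2560, 5), (3072, 6), (3584, 7), (4096, 8), (4608, 9)]
theorem hcols : lall cols (colOK (lapp rA2 cs) LW par) = true := by decide +kernel
noncomputable def JS0 : List ℕ := [nat_lit 0x8000210888000d880201f683e2c0f321f00302a0000830e8003c020e80170e80438b0704e1b543800504a0001061a0006c041a00261a0086520c88830886400808000020c2e000c0082e003c2e010b1c160e854d0b000c0d800041850001501050005850021328261809121300101600008308800240208800708804203040260f14200010220000860e0003c200e00040e078341,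
  nat_lit 0xb40108b0002c008b00100ac002b7c100770180660200550280440300330380220400110640078621e0c8501e0a000c43c190a03c14001887832140782800310f064280f05000621e0c8501e0a000c43c190a03c14001887832140782800310f064280f05000621e0c8501e0a003a2200382f000083]
theorem S0_c : blocks (facts 9 4 13 22 511 8191 4194303 9 511 6 63 A R 32) 32 JS0 271 = true := by decide +kernel
theorem S0 : On (Step.{u} (lapp rA2 cs) LW par A) 271 335 :=
  steps_of_blocks hpar hR S0_c (by decide +kernel)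
theorem D0_c : allB (defOK 9 13 22 511 4194303 272 A K) 1 2 = true := by decide +kernel
theorem D0 : On (fun r => defOK par.W par.WL par.E par.mW par.mE 272 A K r = true) 256 384 :=
  On.of_allB D0_c
noncomputable def JW0 : List ℕ := [nat_lit 0x240a82c0b8300c8340d838]
theorem W0_c : blocks (rows 9 4 13 22 511 8191 4194303 10 1023 90 A 335 1 cols 14) 14 JW0 0 = true := by decide +kernel
theorem W0 : On (Row.{u} (lapp rA2 cs) LW par A 335 1 cols) 0 14 :=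
  rows_of_blocks hpar (by decide) hcols W0_c (by decide +kernel)
theorem idx : Idx.{u} (lapp rA2 cs) [[0], [2], [4], [6], [8], [10], [12], [14], [16]] [] 1 :=
  idx_of_cert hpar hR (K := K) (by decide +kernel) (T := 272) (T' := 384) (by decide) D0
    (subs := []) (by decide +kernel) (T1 := 271) (by decide) (N := 335) S0
    (by decide) (n' := 14) (by decide) W0 (by decide +kernel) (by decide +kernel)
end A2
theorem b1 : Bound.{u} (lapp rA1 cs) [[0], [2], [4], [6], [8], [10], [12], [14], [16]] 1 := .of_idx A1.idx (.nil _) (by decide)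
theorem b2 : Bound.{u} (lapp rA2 cs) [[0], [2], [4], [6], [8], [10], [12], [14], [16]] 1 := .of_idx A2.idx (.nil _) (by decide)
end
end CA.FiAb
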