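import Cfsg.Agent.Lib.Spor.Fi22TC
import Cfsg.Agent.Lib.Spor.Fi22TCa
import Cfsg.Agent.Lib.Spor.Fi22TCb
import Cfsg.Agent.Lib.Fi.Ctx
import Cfsg.Agent.Lib.Comp.CTrans
set_option autoImplicit false
set_option linter.all false
set_option maxRecDepth 100000
universe u
namespace CA.Fi22Pres
open CA.CNet CA.CWord CA.CLevel CA.CSimple CA.CPoint CA.CTodd CA.CPres CA.CLow CA.CTrans Cfsg.Spor
open CA.Fi22Rel (gens)
noncomputable abbrev C : Ctx := Fi.C22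
theorem hC : C.ok = true := Fi.ok22
noncomputable def lk : ℕ → ℕ → ℕ := look C 256
theorem hlk : Good C lk := good_look hC (by decide +kernel)
theorem hrel : ∀ r ∈ Fi22Rel.rels, C.ev r = 1 := rels_of_eqW hC (by decide +kernel)
theorem bound : Bound.{u} Fi22Rel.rels gens 64561751654400 := .of_idx Fi22TCa.idx Fi22TC.b_O7 (by decide)
def low_w6 : List Word := [[0,4,6,14,16,2,0,16,14,6,4,2,8,16,6,4,14,6,8,10,6,14,8,6,16,14,6,8,4,6,14,10,4,0,2,4,0,2]]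
theorem low_6 : Low (C.grp low_w6) 3 [3] :=
  low_orb hC hlk 3 (by decide) [(3,0), (3,1)] (m := 3) (grp_mono _ (by decide +kernel))
    (by decide +kernel) (by decide +kernel) (low_nil C) (by decide)
def low_w5 : List Word := [[0,4,6,14,16,2,0,16,14,6,4,2,8,16,6,4,14,6,8,10,6,14,8,6,16,14,6,8,4,6,14,10,4,0,2,4,0,2], [0], [4], [10,16,6,8,14,6,4,6,14,8,6,8,14,16,2,0,4,6,8,14,16,14,2,0,4,6,4,0,2,14,16,14,8,6,4,0,2,16,10,16], [10,16,8,12,14,16,6,10,8,16,6,14,12,10,8,6,2,4,6,8,10,8,2,0,4,2,4,6,14,6,4,2,8,6,4,2,8,10,8,6,4,2,4,0,2,12,10,8,6,16,14,8,6,14,6,16,14,10,6,8,6]]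
theorem low_5 : Low (C.grp low_w5) 96 [758,3] :=
  low_orb hC hlk 758 (by decide) [(758,2), (758,4), (758,6), (758,8), (774,4), (774,6), (774,8), (759,6), (759,8), (2498,8), (1778,0), (1778,1), (775,6), (775,8), (2494,8), (1770,0), (1770,1), (2499,8), (1779,0), (1779,1), (1224,0), (1224,1), (1902,8), (2676,8), (2495,8), (1771,0), (1771,1), (1208,0), (1208,1), (1894,8), (2672,8)] (m := 32) (grp_mono _ (by decide +kernel))
    (by decide +kernel) (by decide +kernel) low_6 (by decide)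
def low_w4 : List Word := [[0,4,6,14,16,2,0,16,14,6,4,2,8,16,6,4,14,6,8,10,6,14,8,6,16,14,6,8,4,6,14,10,4,0,2,4,0,2], [0], [4], [10,16,6,8,14,6,4,6,14,8,6,8,14,16,2,0,4,6,8,14,16,14,2,0,4,6,4,0,2,14,16,14,8,6,4,0,2,16,10,16], [10,16,8,12,14,16,6,10,8,16,6,14,12,10,8,6,2,4,6,8,10,8,2,0,4,2,4,6,14,6,4,2,8,6,4,2,8,10,8,6,4,2,4,0,2,12,10,8,6,16,14,8,6,14,6,16,14,10,6,8,6], [6,8,6,4,14,6,8,16,14,10,16,6,8,4,6,14,4,6], [6,4,14,6,4,8,6,14,4,6,8,2,0,4,6,8,2,0,4,6,14,6,4,2,8,6,4,2,0,2], [10,8,12,10,6,4,14,6,8,10,6,14,4,14,2,0,4,2,6,4,14,6,4,2,8,10,8,6,4,2,14,6,4,0,2,12,8,14,12,10,12,10]]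
theorem low_4 : Low (C.grp low_w4) 3072 [18,758,3] :=
  low_orb hC hlk 18 (by decide) [(18,10), (18,11), (18,12), (18,14), (79,1), (79,12), (79,14), (137,12), (137,14), (29,14), (40,0), (40,1), (40,10), (40,11), (82,12), (82,14), (67,14), (68,1), (68,10), (131,14), (139,0), (139,11), (47,0), (47,1), (47,10), (47,11), (157,14), (110,14), (93,14), (80,1), (96,14)] (m := 32) (grp_mono _ (by decide +kernel))
    (by decide +kernel) (by decide +kernel) low_5 (by decide)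
def low_w3 : List Word := [[0,4,6,14,16,2,0,16,14,6,4,2,8,16,6,4,14,6,8,10,6,14,8,6,16,14,6,8,4,6,14,10,4,0,2,4,0,2], [0], [4], [10,16,6,8,14,6,4,6,14,8,6,8,14,16,2,0,4,6,8,14,16,14,2,0,4,6,4,0,2,14,16,14,8,6,4,0,2,16,10,16], [10,16,8,12,14,16,6,10,8,16,6,14,12,10,8,6,2,4,6,8,10,8,2,0,4,2,4,6,14,6,4,2,8,6,4,2,8,10,8,6,4,2,4,0,2,12,10,8,6,16,14,8,6,14,6,16,14,10,6,8,6], [6,8,6,4,14,6,8,16,14,10,16,6,8,4,6,14,4,6], [6,4,14,6,4,8,6,14,4,6,8,2,0,4,6,8,2,0,4,6,14,6,4,2,8,6,4,2,0,2], [10,8,12,10,6,4,14,6,8,10,6,14,4,14,2,0,4,2,6,4,14,6,4,2,8,10,8,6,4,2,14,6,4,0,2,12,8,14,12,10,12,10], [8,10,8]]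
theorem low_3 : Low (C.grp low_w3) 147456 [5,18,758,3] :=
  low_orb hC hlk 5 (by decide) [(5,16), (131,0), (131,1), (131,11), (131,12), (131,14), (67,12), (67,14), (67,16), (29,12), (29,14), (29,16), (93,12), (93,14), (93,16), (137,14), (150,0), (150,1), (150,10), (150,11), (79,14), (80,0), (80,1), (80,10), (80,11), (18,14), (82,14), (139,0), (139,1), (139,10), (139,11), (139,16), (116,14), (42,14), (68,1), (68,11), (68,16), (40,16), (102,16), (113,16), (37,16), (110,16), (99,16), (8,0), (8,1), (96,16), (32,16)] (m := 48) (grp_mono _ (by decide +kernel))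
    (by decide +kernel) (by decide +kernel) low_4 (by decide)
def low_w2 : List Word := [[0,4,6,14,16,2,0,16,14,6,4,2,8,16,6,4,14,6,8,10,6,14,8,6,16,14,6,8,4,6,14,10,4,0,2,4,0,2], [0], [4], [10,16,6,8,14,6,4,6,14,8,6,8,14,16,2,0,4,6,8,14,16,14,2,0,4,6,4,0,2,14,16,14,8,6,4,0,2,16,10,16], [10,16,8,12,14,16,6,10,8,16,6,14,12,10,8,6,2,4,6,8,10,8,2,0,4,2,4,6,14,6,4,2,8,6,4,2,8,10,8,6,4,2,4,0,2,12,10,8,6,16,14,8,6,14,6,16,14,10,6,8,6], [6,8,6,4,14,6,8,16,14,10,16,6,8,4,6,14,4,6], [6,4,14,6,4,8,6,14,4,6,8,2,0,4,6,8,2,0,4,6,14,6,4,2,8,6,4,2,0,2], [10,8,12,10,6,4,14,6,8,10,6,14,4,14,2,0,4,2,6,4,14,6,4,2,8,10,8,6,4,2,14,6,4,0,2,12,8,14,12,10,12,10], [8,10,8], [8]]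
theorem low_2 : Low (C.grp low_w2) 26542080 [2,5,18,758,3] :=
  low_orb hC hlk 2 (by decide) [(2,18), (3,0), (3,1), (3,6), (3,8), (3,10), (3,11), (3,16), (91,6), (91,8), (91,10), (91,11), (91,14), (91,16), (91,18), (20,6), (20,8), (20,10), (20,11), (20,14), (20,18), (165,8), (165,10), (165,11), (165,16), (170,0), (170,1), (170,10), (170,11), (170,16), (27,1), (27,8), (27,14), (27,16), (27,18), (84,0), (84,8), (84,14), (84,18), (130,1), (130,12), (130,14), (75,8), (75,11), (124,0), (124,1), (124,10), (124,11), (124,14), (124,16), (163,8), (92,0), (92,8), (92,14), (92,18), (119,18), (10,1), (10,18), (90,8), (74,8), (74,10), (122,0), (122,1), (122,10), (122,11), (122,14), (19,8), (19,14), (19,18), (164,8), (38,0), (38,16), (38,18), (21,8), (21,16), (6,16), (6,18), (70,8), (71,8), (78,14), (78,18), (76,8), (76,11), (76,16), (77,8), (77,10), (73,1), (73,8), (73,16), (72,0),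 (72,8), (81,0), (81,1), (81,10), (81,11), (81,18), (28,8), (28,14), (28,18), (107,1), (13,18), (83,8), (83,14), (83,18), (109,0), (104,16), (66,18), (151,0), (151,1), (151,10), (151,11), (101,1), (101,10), (101,11), (101,18), (135,0), (135,8), (181,8), (51,18), (143,0), (15,18), (4,8), (4,18), (161,0), (120,11), (120,18), (93,10), (133,8), (11,0), (44,10), (44,11), (134,8), (57,18), (41,16), (41,18), (18,11), (16,18), (52,18), (39,0), (39,1), (39,10), (39,11), (105,10), (105,11), (105,16), (7,0), (7,1), (35,1), (114,0), (69,18), (80,0), (80,1), (80,10), (80,11), (46,18), (103,18), (54,18), (126,18), (129,18), (98,0), (98,18), (97,0), (97,18), (50,0), (14,0), (14,16), (9,18), (121,11), (131,14), (43,18), (56,1), (40,0), (40,1), (40,11), (137,14), (112,18), (68,1), (61,18), (64,18)] (m := 180) (grp_mono _ (by decide +kernel))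
    (by decide +kernel) (by decide +kernel) low_3 (by decide)
def low_w1 : List Word := [[0,4,6,14,16,2,0,16,14,6,4,2,8,16,6,4,14,6,8,10,6,14,8,6,16,14,6,8,4,6,14,10,4,0,2,4,0,2], [0], [4], [10,16,6,8,14,6,4,6,14,8,6,8,14,16,2,0,4,6,8,14,16,14,2,0,4,6,4,0,2,14,16,14,8,6,4,0,2,16,10,16], [10,16,8,12,14,16,6,10,8,16,6,14,12,10,8,6,2,4,6,8,10,8,2,0,4,2,4,6,14,6,4,2,8,6,4,2,8,10,8,6,4,2,4,0,2,12,10,8,6,16,14,8,6,14,6,16,14,10,6,8,6], [6,8,6,4,14,6,8,16,14,10,16,6,8,4,6,14,4,6], [6,4,14,6,4,8,6,14,4,6,8,2,0,4,6,8,2,0,4,6,14,6,4,2,8,6,4,2,0,2], [10,8,12,10,6,4,14,6,8,10,6,14,4,14,2,0,4,2,6,4,14,6,4,2,8,10,8,6,4,2,14,6,4,0,2,12,8,14,12,10,12,10], [8,10,8], [8], [6]]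
theorem low_1 : Low (C.grp low_w1) 18393661440 [1,2,5,18,758,3] :=
  low_clo hC hlk 1 (by decide) [20,0,4,8,10,0,18,10,20,14,0,16,18,6,0] (m := 693) (grp_mono _ (by decide +kernel))
    (by decide +kernel) (by decide +kernel) low_2 (by decide)
theorem low : Low (C.grp gens) 64561751654400 [0,1,2,5,18,758,3] :=
  low_clo hC hlk 0 (by decide) [2,0,4,6,2,8,14,10,16,6,4,12,8,14,6,2,10,8,4,14,16,6,10,2,0,12,14,16,4,8,6,2,10,0,12,4,14,2,6,4] (m := 3510) (le_of_subst _ [[0,4,6,14,16,2,0,16,14,6,4,2,8,16,6,4,14,6,8,10,6,14,8,6,16,14,6,8,4,6,14,10,4,0,2,4,0,2], [0], [4], [10,16,6,8,14,6,4,6,14,8,6,8,14,16,2,0,4,6,8,14,16,14,2,0,4,6,4,0,2,14,16,14,8,6,4,0,2,16,10,16], [10,16,8,12,14,16,6,10,8,16,6,14,12,10,8,6,2,4,6,8,10,8,2,0,4,2,4,6,14,6,4,2,8,6,4,2,8,10,8,6,4,2,4,0,2,12,10,8,6,16,14,8,6,14,6,16,14,10,6,8,6], [6,8,6,4,14,6,8,16,14,10,16,6,8,4,6,14,4,6], [6,4,14,6,4,8,6,14,4,6,8,2,0,4,6,8,2,0,4,6,14,6,4,2,8,6,4,2,0,2],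 [10,8,12,10,6,4,14,6,8,10,6,14,4,14,2,0,4,2,6,4,14,6,4,2,8,10,8,6,4,2,14,6,4,0,2,12,8,14,12,10,12,10], [8,10,8], [8], [6]] (by decide +kernel))
    (by decide +kernel) (by decide +kernel) low_1 (by decide)
theorem card : Nat.card (C.grp gens) = 64561751654400 := low.card (bound _ _ hrel).2
theorem base : IsBase (C.grp gens) [0,1,2,5,18,758,3] := low.2 card.le
abbrev g := pg Fi22.edges Fi22.extra Fi22Rel.gen
theorem top : grp g gens = ⊤ := Fi22Rel.enc.top _ (by decide)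
theorem inj : ∃ φ : Fi22 →* Equiv.Perm (Fin C.n),
    (∀ w : Word, (∀ a ∈ w, a < 2 * 9) → φ (ev g w) = C.ev w) ∧
    (∀ ws : List Word, (∀ w ∈ ws, ∀ a ∈ w, a < 2 * 9) → (grp g ws).map φ = C.grp ws) ∧
    ∀ x ∈ grp g gens, φ x = 1 → x = 1 :=
  Fi22Rel.enc.inj bound hrel (by decide) card.ge
theorem equiv : Nonempty (Fi22 ≃* C.grp gens) := by
  obtain ⟨φ, -, h2, h3⟩ := inj
  exact equiv_top φ top h3 (h2 _ (by decide))
def subs : List Word := [[0], [4], [6], [8], [10], [12], [14], [16], [0,2,4,6,8,14,0,2,4,6,8,14,0,2,4,6,8,14,0,2,4,6,8,14,0,2,4,6,8,14]]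
theorem coset_fix : ∀ x ∈ C.grp subs, x (⟨0, by decide⟩ : Fin C.n) = (⟨0, by decide⟩ : Fin C.n) := fix_of_mapsP hlk (by decide +kernel)
theorem coset_trans : ∀ i, ∃ x ∈ C.grp gens, x (⟨0, by decide⟩ : Fin C.n) = i :=
  trans_of_clo hC (sched := [2,0,4,6,2,8,14,10,16,6,4,12,8,14,6,2,10,8,4,14,16,6,10,2,0,12,14,16,4,8,6,2,10,0,12,4,14,2,6,4]) (by decide +kernel)
theorem inv0 : C.inv subs (C.clo subs [4,2,6,12,8,14,16,4,10,8,14,6,12,4,10,2,8,12,6,14,16,4,6,8,12,14] (bit 1)) = true := by decide +kernel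
theorem pt0 : (C.ev [2,0,4,2] (⟨0, by decide⟩ : Fin C.n) : ℕ) = 1 := mapsP_spec hlk (by decide +kernel)
theorem orb0 : Nat.card {i : Fin C.n // ∃ x ∈ C.grp subs, x (C.ev [2,0,4,2] (⟨0, by decide⟩ : Fin C.n)) = i} = 693 :=
  card_orbit hC pt0 inv0 (by decide +kernel)
theorem inv1 : C.inv subs (C.clo subs [0,2,4,6,12,8,14,16,4,10,2,8,14,12,4,6,2,16,14,4,8,10,12,16,14,8,6,4,16,2] (bit 3286)) = true := by decide +kernel
theorem pt1 : (C.ev [2] (⟨0, by decide⟩ : Fin C.n) : ℕ) = 3286 := mapsP_spec hlk (by decide +kernel)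
theorem orb1 : Nat.card {i : Fin C.n // ∃ x ∈ C.grp subs, x (C.ev [2] (⟨0, by decide⟩ : Fin C.n)) = i} = 2816 :=
  card_orbit hC pt1 inv1 (by decide +kernel)
theorem coset : (grp g subs).index = C.n ∧ (∀ t : Word, (∀ a ∈ t, a < 2 * 9) → (MulAction.orbit (grp g subs)
      (QuotientGroup.mk (s := grp g subs) (ev g t))).ncard =
        Nat.card {i : Fin C.n // ∃ x ∈ C.grp subs, x (C.ev t ⟨0, by decide⟩) = i}) ∧
    C.grp gens ⊓ MulAction.stabilizer (Equiv.Perm (Fin C.n)) (⟨0, by decide⟩ : Fin C.n) = C.grp subs := by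
  obtain ⟨h1, h2, -, h3⟩ := Fi22Rel.enc.coset (C := C) Fi22TCb.idx hrel (by decide) (by decide) (by decide) coset_fix coset_trans
  exact ⟨h1, h2, h3⟩
theorem card_subs : Nat.card (C.grp subs) = 18393661440 := card_stab coset_trans coset.2.2 card (by decide)
def simple_l : List Sub := [⟨[2,0,4,2], 1, [4,2,6,12,8,14,16,4,10,8,14,6,12,4,10,2,8,12,6,14,16,4,6,8,12,14], [18,4,2,6,12,18,8,14,16,4,10,8,14,6,12,4,2,18,10,16,12,14,4,6,12,8,16,14,4]⟩,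
  ⟨[2], 3286, [0,2,4,6,12,8,14,16,4,10,2,8,14,12,4,6,2,16,14,4,8,10,12,16,14,8,6,4,16,2], [18,0,2,4,6,12,18,8,14,16,4,10,2,8,14,12,4,6,16,2,14,18,4,12,8,10,16,8,14,16,4,12,2,14]⟩]
theorem simple_0 : sub (full C.n) (subU C subs 0 simple_l) = true := by decide +kernel
theorem simple_1_0 : lall (ltake (simple_l) 1) (subOK C gens subs 0 (full C.n)) = true := by decide +kernel
theorem simple_1_1 : lall (ldrop (simple_l) 1) (subOK C gens subs 0 (full C.n)) = true := by decide +kernel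
theorem simple_1 : lall (simple_l) (subOK C gens subs 0 (full C.n)) = true := (lall_split 1 simple_1_0 simple_1_1)
theorem simple_2_0 : lall (ltake (ltake (ltake (pelEqns 13 [[0,8,10,14,6,14,4,8,16,10,2,6,12,4], [4,12,6,2,10,16,8,4,14,6,14,10,8], [6,10,0,16,4,12,2,6,14,8,6,12,14,4], [4,14,12,6,8,14,6,2,12,4,16,0,10,6,2], [6,4,8,10,16,14,16,6,14,16,2,12], [12,2,16,14,6,16,14,16,10,8,4,6,4], [10,14,16,8,10,6,12,2,4,8], [8,4,2,12,6,10,8,16,14,10,6], [12,2,16,14,6,16,14,16,10,8,4,6,8], [6,16,8,4,6,2,4,12,14,10,6,8], [8,6,10,14,12,4,2,6,4,8,16,6,10], [4,14,6,8,2,0,6,14,16,4,2,6,10,12], [12,10,6,2,4,16,14,6,0,2,8,6,14,4,12], [2,6,10,0,16,4,12,2,6,14,8,6,12,14,4,14], [12,14,2,6,12,10,8,12,14,4,6,16,4,14], [14,4,16,6,4,14,12,8,10,12,6,2,14,12,16]] [([0], [0,2]), ([2], [4,6]), ([4], [8,10]), ([6], [12,14]), ([8], [8,16]), ([10], [18,20]), ([12], [22,24]), ([14], [6,26]), ([16],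 [28,30])]) 9) 4) 2) (eqR lk gens [0,1,2,5,18,758,3]) = true := by decide +kernel
theorem simple_2_1 : lall (ldrop (ltake (ltake (pelEqns 13 [[0,8,10,14,6,14,4,8,16,10,2,6,12,4], [4,12,6,2,10,16,8,4,14,6,14,10,8], [6,10,0,16,4,12,2,6,14,8,6,12,14,4], [4,14,12,6,8,14,6,2,12,4,16,0,10,6,2], [6,4,8,10,16,14,16,6,14,16,2,12], [12,2,16,14,6,16,14,16,10,8,4,6,4], [10,14,16,8,10,6,12,2,4,8], [8,4,2,12,6,10,8,16,14,10,6], [12,2,16,14,6,16,14,16,10,8,4,6,8], [6,16,8,4,6,2,4,12,14,10,6,8], [8,6,10,14,12,4,2,6,4,8,16,6,10], [4,14,6,8,2,0,6,14,16,4,2,6,10,12], [12,10,6,2,4,16,14,6,0,2,8,6,14,4,12], [2,6,10,0,16,4,12,2,6,14,8,6,12,14,4,14], [12,14,2,6,12,10,8,12,14,4,6,16,4,14], [14,4,16,6,4,14,12,8,10,12,6,2,14,12,16]] [([0], [0,2]), ([2], [4,6]), ([4], [8,10]), ([6], [12,14]), ([8], [8,16]), ([10], [18,20]), ([12], [22,24]), ([14], [6,26]), ([16], [28,30])]) 9) 4) 2) (eqR lk gens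 [0,1,2,5,18,758,3]) = true := by decide +kernel
theorem simple_2_2 : lall (ltake (ldrop (ltake (pelEqns 13 [[0,8,10,14,6,14,4,8,16,10,2,6,12,4], [4,12,6,2,10,16,8,4,14,6,14,10,8], [6,10,0,16,4,12,2,6,14,8,6,12,14,4], [4,14,12,6,8,14,6,2,12,4,16,0,10,6,2], [6,4,8,10,16,14,16,6,14,16,2,12], [12,2,16,14,6,16,14,16,10,8,4,6,4], [10,14,16,8,10,6,12,2,4,8], [8,4,2,12,6,10,8,16,14,10,6], [12,2,16,14,6,16,14,16,10,8,4,6,8], [6,16,8,4,6,2,4,12,14,10,6,8], [8,6,10,14,12,4,2,6,4,8,16,6,10], [4,14,6,8,2,0,6,14,16,4,2,6,10,12], [12,10,6,2,4,16,14,6,0,2,8,6,14,4,12], [2,6,10,0,16,4,12,2,6,14,8,6,12,14,4,14], [12,14,2,6,12,10,8,12,14,4,6,16,4,14], [14,4,16,6,4,14,12,8,10,12,6,2,14,12,16]] [([0], [0,2]), ([2], [4,6]), ([4], [8,10]), ([6], [12,14]), ([8], [8,16]), ([10], [18,20]), ([12], [22,24]), ([14], [6,26]), ([16], [28,30])]) 9) 4) 2) (eqR lk gens [0,1,2,5,18,758,3]) = true := by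 decide +kernel
theorem simple_2_3 : lall (ltake (ldrop (ldrop (ltake (pelEqns 13 [[0,8,10,14,6,14,4,8,16,10,2,6,12,4], [4,12,6,2,10,16,8,4,14,6,14,10,8], [6,10,0,16,4,12,2,6,14,8,6,12,14,4], [4,14,12,6,8,14,6,2,12,4,16,0,10,6,2], [6,4,8,10,16,14,16,6,14,16,2,12], [12,2,16,14,6,16,14,16,10,8,4,6,4], [10,14,16,8,10,6,12,2,4,8], [8,4,2,12,6,10,8,16,14,10,6], [12,2,16,14,6,16,14,16,10,8,4,6,8], [6,16,8,4,6,2,4,12,14,10,6,8], [8,6,10,14,12,4,2,6,4,8,16,6,10], [4,14,6,8,2,0,6,14,16,4,2,6,10,12], [12,10,6,2,4,16,14,6,0,2,8,6,14,4,12], [2,6,10,0,16,4,12,2,6,14,8,6,12,14,4,14], [12,14,2,6,12,10,8,12,14,4,6,16,4,14], [14,4,16,6,4,14,12,8,10,12,6,2,14,12,16]] [([0], [0,2]), ([2], [4,6]), ([4], [8,10]), ([6], [12,14]), ([8], [8,16]), ([10], [18,20]), ([12], [22,24]), ([14], [6,26]), ([16], [28,30])]) 9) 4) 2) 2) (eqR lk gens [0,1,2,5,18,758,3]) = true := by decide +kernel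
theorem simple_2_4 : lall (ldrop (ldrop (ldrop (ltake (pelEqns 13 [[0,8,10,14,6,14,4,8,16,10,2,6,12,4], [4,12,6,2,10,16,8,4,14,6,14,10,8], [6,10,0,16,4,12,2,6,14,8,6,12,14,4], [4,14,12,6,8,14,6,2,12,4,16,0,10,6,2], [6,4,8,10,16,14,16,6,14,16,2,12], [12,2,16,14,6,16,14,16,10,8,4,6,4], [10,14,16,8,10,6,12,2,4,8], [8,4,2,12,6,10,8,16,14,10,6], [12,2,16,14,6,16,14,16,10,8,4,6,8], [6,16,8,4,6,2,4,12,14,10,6,8], [8,6,10,14,12,4,2,6,4,8,16,6,10], [4,14,6,8,2,0,6,14,16,4,2,6,10,12], [12,10,6,2,4,16,14,6,0,2,8,6,14,4,12], [2,6,10,0,16,4,12,2,6,14,8,6,12,14,4,14], [12,14,2,6,12,10,8,12,14,4,6,16,4,14], [14,4,16,6,4,14,12,8,10,12,6,2,14,12,16]] [([0], [0,2]), ([2], [4,6]), ([4], [8,10]), ([6], [12,14]), ([8], [8,16]), ([10], [18,20]), ([12], [22,24]), ([14], [6,26]), ([16], [28,30])]) 9) 4) 2) 2) (eqR lk gens [0,1,2,5,18,758,3]) = true := by decide +kernel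
theorem simple_2_5 : lall (ltake (ltake (ldrop (pelEqns 13 [[0,8,10,14,6,14,4,8,16,10,2,6,12,4], [4,12,6,2,10,16,8,4,14,6,14,10,8], [6,10,0,16,4,12,2,6,14,8,6,12,14,4], [4,14,12,6,8,14,6,2,12,4,16,0,10,6,2], [6,4,8,10,16,14,16,6,14,16,2,12], [12,2,16,14,6,16,14,16,10,8,4,6,4], [10,14,16,8,10,6,12,2,4,8], [8,4,2,12,6,10,8,16,14,10,6], [12,2,16,14,6,16,14,16,10,8,4,6,8], [6,16,8,4,6,2,4,12,14,10,6,8], [8,6,10,14,12,4,2,6,4,8,16,6,10], [4,14,6,8,2,0,6,14,16,4,2,6,10,12], [12,10,6,2,4,16,14,6,0,2,8,6,14,4,12], [2,6,10,0,16,4,12,2,6,14,8,6,12,14,4,14], [12,14,2,6,12,10,8,12,14,4,6,16,4,14], [14,4,16,6,4,14,12,8,10,12,6,2,14,12,16]] [([0], [0,2]), ([2], [4,6]), ([4], [8,10]), ([6], [12,14]), ([8], [8,16]), ([10], [18,20]), ([12], [22,24]), ([14], [6,26]), ([16], [28,30])]) 9) 4) 2) (eqR lk gens [0,1,2,5,18,758,3]) = true := by decide +kernel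
theorem simple_2_6 : lall (ldrop (ltake (ldrop (pelEqns 13 [[0,8,10,14,6,14,4,8,16,10,2,6,12,4], [4,12,6,2,10,16,8,4,14,6,14,10,8], [6,10,0,16,4,12,2,6,14,8,6,12,14,4], [4,14,12,6,8,14,6,2,12,4,16,0,10,6,2], [6,4,8,10,16,14,16,6,14,16,2,12], [12,2,16,14,6,16,14,16,10,8,4,6,4], [10,14,16,8,10,6,12,2,4,8], [8,4,2,12,6,10,8,16,14,10,6], [12,2,16,14,6,16,14,16,10,8,4,6,8], [6,16,8,4,6,2,4,12,14,10,6,8], [8,6,10,14,12,4,2,6,4,8,16,6,10], [4,14,6,8,2,0,6,14,16,4,2,6,10,12], [12,10,6,2,4,16,14,6,0,2,8,6,14,4,12], [2,6,10,0,16,4,12,2,6,14,8,6,12,14,4,14], [12,14,2,6,12,10,8,12,14,4,6,16,4,14], [14,4,16,6,4,14,12,8,10,12,6,2,14,12,16]] [([0], [0,2]), ([2], [4,6]), ([4], [8,10]), ([6], [12,14]), ([8], [8,16]), ([10], [18,20]), ([12], [22,24]), ([14], [6,26]), ([16], [28,30])]) 9) 4) 2) (eqR lk gens [0,1,2,5,18,758,3]) = true := by decide +kernel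
theorem simple_2_7 : lall (ltake (ldrop (ldrop (pelEqns 13 [[0,8,10,14,6,14,4,8,16,10,2,6,12,4], [4,12,6,2,10,16,8,4,14,6,14,10,8], [6,10,0,16,4,12,2,6,14,8,6,12,14,4], [4,14,12,6,8,14,6,2,12,4,16,0,10,6,2], [6,4,8,10,16,14,16,6,14,16,2,12], [12,2,16,14,6,16,14,16,10,8,4,6,4], [10,14,16,8,10,6,12,2,4,8], [8,4,2,12,6,10,8,16,14,10,6], [12,2,16,14,6,16,14,16,10,8,4,6,8], [6,16,8,4,6,2,4,12,14,10,6,8], [8,6,10,14,12,4,2,6,4,8,16,6,10], [4,14,6,8,2,0,6,14,16,4,2,6,10,12], [12,10,6,2,4,16,14,6,0,2,8,6,14,4,12], [2,6,10,0,16,4,12,2,6,14,8,6,12,14,4,14], [12,14,2,6,12,10,8,12,14,4,6,16,4,14], [14,4,16,6,4,14,12,8,10,12,6,2,14,12,16]] [([0], [0,2]), ([2], [4,6]), ([4], [8,10]), ([6], [12,14]), ([8], [8,16]), ([10], [18,20]), ([12], [22,24]), ([14], [6,26]), ([16], [28,30])]) 9) 4) 2) (eqR lk gens [0,1,2,5,18,758,3]) = true := by decide +kernel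
theorem simple_2_8 : lall (ltake (ldrop (ldrop (ldrop (pelEqns 13 [[0,8,10,14,6,14,4,8,16,10,2,6,12,4], [4,12,6,2,10,16,8,4,14,6,14,10,8], [6,10,0,16,4,12,2,6,14,8,6,12,14,4], [4,14,12,6,8,14,6,2,12,4,16,0,10,6,2], [6,4,8,10,16,14,16,6,14,16,2,12], [12,2,16,14,6,16,14,16,10,8,4,6,4], [10,14,16,8,10,6,12,2,4,8], [8,4,2,12,6,10,8,16,14,10,6], [12,2,16,14,6,16,14,16,10,8,4,6,8], [6,16,8,4,6,2,4,12,14,10,6,8], [8,6,10,14,12,4,2,6,4,8,16,6,10], [4,14,6,8,2,0,6,14,16,4,2,6,10,12], [12,10,6,2,4,16,14,6,0,2,8,6,14,4,12], [2,6,10,0,16,4,12,2,6,14,8,6,12,14,4,14], [12,14,2,6,12,10,8,12,14,4,6,16,4,14], [14,4,16,6,4,14,12,8,10,12,6,2,14,12,16]] [([0], [0,2]), ([2], [4,6]), ([4], [8,10]), ([6], [12,14]), ([8], [8,16]), ([10], [18,20]), ([12], [22,24]), ([14], [6,26]), ([16], [28,30])]) 9) 4) 2) 2) (eqR lk gens [0,1,2,5,18,758,3]) = true := by decide +kernel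
theorem simple_2_9 : lall (ldrop (ldrop (ldrop (ldrop (pelEqns 13 [[0,8,10,14,6,14,4,8,16,10,2,6,12,4], [4,12,6,2,10,16,8,4,14,6,14,10,8], [6,10,0,16,4,12,2,6,14,8,6,12,14,4], [4,14,12,6,8,14,6,2,12,4,16,0,10,6,2], [6,4,8,10,16,14,16,6,14,16,2,12], [12,2,16,14,6,16,14,16,10,8,4,6,4], [10,14,16,8,10,6,12,2,4,8], [8,4,2,12,6,10,8,16,14,10,6], [12,2,16,14,6,16,14,16,10,8,4,6,8], [6,16,8,4,6,2,4,12,14,10,6,8], [8,6,10,14,12,4,2,6,4,8,16,6,10], [4,14,6,8,2,0,6,14,16,4,2,6,10,12], [12,10,6,2,4,16,14,6,0,2,8,6,14,4,12], [2,6,10,0,16,4,12,2,6,14,8,6,12,14,4,14], [12,14,2,6,12,10,8,12,14,4,6,16,4,14], [14,4,16,6,4,14,12,8,10,12,6,2,14,12,16]] [([0], [0,2]), ([2], [4,6]), ([4], [8,10]), ([6], [12,14]), ([8], [8,16]), ([10], [18,20]), ([12], [22,24]), ([14], [6,26]), ([16], [28,30])]) 9) 4) 2) 2) (eqR lk gens [0,1,2,5,18,758,3]) = true := by decide +kernel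
theorem simple_2 : lall (pelEqns 13 [[0,8,10,14,6,14,4,8,16,10,2,6,12,4], [4,12,6,2,10,16,8,4,14,6,14,10,8], [6,10,0,16,4,12,2,6,14,8,6,12,14,4], [4,14,12,6,8,14,6,2,12,4,16,0,10,6,2], [6,4,8,10,16,14,16,6,14,16,2,12], [12,2,16,14,6,16,14,16,10,8,4,6,4], [10,14,16,8,10,6,12,2,4,8], [8,4,2,12,6,10,8,16,14,10,6], [12,2,16,14,6,16,14,16,10,8,4,6,8], [6,16,8,4,6,2,4,12,14,10,6,8], [8,6,10,14,12,4,2,6,4,8,16,6,10], [4,14,6,8,2,0,6,14,16,4,2,6,10,12], [12,10,6,2,4,16,14,6,0,2,8,6,14,4,12], [2,6,10,0,16,4,12,2,6,14,8,6,12,14,4,14], [12,14,2,6,12,10,8,12,14,4,6,16,4,14], [14,4,16,6,4,14,12,8,10,12,6,2,14,12,16]] [([0], [0,2]), ([2], [4,6]), ([4], [8,10]), ([6], [12,14]), ([8], [8,16]), ([10], [18,20]), ([12], [22,24]), ([14], [6,26]), ([16], [28,30])]) (eqR lk gens [0,1,2,5,18,758,3]) = true := (lall_split 9 (lall_split 4 (lall_split 2 simple_2_0 simple_2_1) (lall_split 2 simple_2_2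 (lall_split 2 simple_2_3 simple_2_4))) (lall_split 4 (lall_split 2 simple_2_5 simple_2_6) (lall_split 2 simple_2_7 (lall_split 2 simple_2_8 simple_2_9))))
theorem simple : IsSimpleGroup (C.grp gens) :=
  simple_of_stab hC hlk (ω := ⟨0, by decide⟩) coset.2.2 full_mem simple_0 simple_1 base (core_of_trans coset.2.2 coset_trans)
    (by rw [card]; decide) (q := 13) (by rw [card_subs]; decide +kernel) [[0,8,10,14,6,14,4,8,16,10,2,6,12,4], [4,12,6,2,10,16,8,4,14,6,14,10,8], [6,10,0,16,4,12,2,6,14,8,6,12,14,4], [4,14,12,6,8,14,6,2,12,4,16,0,10,6,2], [6,4,8,10,16,14,16,6,14,16,2,12], [12,2,16,14,6,16,14,16,10,8,4,6,4], [10,14,16,8,10,6,12,2,4,8], [8,4,2,12,6,10,8,16,14,10,6], [12,2,16,14,6,16,14,16,10,8,4,6,8], [6,16,8,4,6,2,4,12,14,10,6,8], [8,6,10,14,12,4,2,6,4,8,16,6,10], [4,14,6,8,2,0,6,14,16,4,2,6,10,12], [12,10,6,2,4,16,14,6,0,2,8,6,14,4,12], [2,6,10,0,16,4,12,2,6,14,8,6,12,14,4,14],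 [12,14,2,6,12,10,8,12,14,4,6,16,4,14], [14,4,16,6,4,14,12,8,10,12,6,2,14,12,16]] [([0], [0,2]), ([2], [4,6]), ([4], [8,10]), ([6], [12,14]), ([8], [8,16]), ([10], [18,20]), ([12], [22,24]), ([14], [6,26]), ([16], [28,30])]
    (grp_mono _ (by decide +kernel)) simple_2
theorem tr3 : Subgroup.centralizer {ev (sg C.g gens) [0]} = (C.grp subs).subgroupOf (C.grp gens) ∧
    orderOf (ev (sg C.g gens) [0]) = 2 ∧ Cfsg.IsThreeTranspositionSet (conjugatesOf (ev (sg C.g gens) [0])) ∧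
    Nat.card (conjugatesOf (ev (sg C.g gens) [0])) = C.n :=
  tr3_model hC hlk coset_trans coset.2.2 simple_0 simple_1 base [0] (by decide +kernel)
    (fun w hw => (ev_wcomm C.g w [0]).1 (rels_of_eqW hC (rels := lmap (fun w => wcomm w [0]) subs) (by decide +kernel) _ (mem_lmap _ hw)))
    [2] (Ctx.ne_one_of_moves hC (p := 0) (by decide) (by decide +kernel)) (by decide +kernel)
def lowO7_w4 : List Word := [[4], [6,8,14,6,4,6,14,8,6], [10,16,8,14,16,10,2,4,6,4,2,10,16,14,8,16,10], [10,12,8,10,6,8,14,6,4,6,14,8,6,10,8,12,10]]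
theorem lowO7_4 : Low (C.grp lowO7_w4) 48 [282] :=
  low_orb hC hlk 282 (by decide) [(282,0), (282,2), (282,4), (282,6), (283,2), (283,4), (283,6), (293,4), (293,6), (2907,2), (2907,6), (411,4), (292,4), (292,6), (2906,2), (2906,6), (410,4), (2739,2), (2739,6), (420,4), (3043,6), (2910,4), (2679,2), (2738,2), (2738,6), (421,4), (3042,6), (2911,4), (2678,2), (2688,6), (2687,4), (3033,2), (3030,4), (2731,2), (2689,6), (2686,4), (3032,2), (3031,4), (2730,2), (2740,4), (3044,2), (419,2), (2741,4), (3045,2), (418,2), (290,2), (291,2)] (m := 48) (grp_mono _ (by decide +kernel))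
    (by decide +kernel) (by decide +kernel) (low_nil C) (by decide)
def lowO7_w3 : List Word := [[4], [6,8,14,6,4,6,14,8,6], [10,16,8,14,16,10,2,4,6,4,2,10,16,14,8,16,10], [10,12,8,10,6,8,14,6,4,6,14,8,6,10,8,12,10], [10,16,8,14,2,4,6,8,4,2,6,8,14,6,4,6,14,8,6,14,10,16], [14,16,14,8,14,6,8,14,16,4,6,10,8,6,14,16,14,4,6,10,8,6,14], [14,16,14,12,14,6,8,14,16,4,6,10,8,6,14,16,14,4,6,10,8,6,14,12,8], [2,4,6,8,10,4,2,8,6,8,14,6,4,6,14,8,6,14,16,14,2,4,6,14,16,4,2,14]]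
theorem lowO7_3 : Low (C.grp lowO7_w3) 2304 [19,282] :=
  low_orb hC hlk 19 (by decide) [(19,8), (19,10), (19,12), (19,14), (19,15), (165,10), (165,12), (165,14), (165,15), (166,12), (166,14), (166,15), (173,4), (173,8), (173,14), (173,15), (2458,6), (2458,12), (2459,6), (20,12), (20,14), (20,15), (25,14), (25,15), (3299,6), (3299,12), (2631,6), (22,4), (22,8), (22,14), (22,15), (3300,6), (3416,2), (3416,6), (3416,14), (3416,15), (2573,2), (2573,6), (2573,14), (2573,15), (2529,12), (2843,4), (2843,8), (2859,8), (170,14), (170,15), (2474,6)] (m := 48) (grp_mono _ (by decide +kernel))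
    (by decide +kernel) (by decide +kernel) lowO7_4 (by decide)
def lowO7_w2 : List Word := [[4], [6,8,14,6,4,6,14,8,6], [10,16,8,14,16,10,2,4,6,4,2,10,16,14,8,16,10], [10,12,8,10,6,8,14,6,4,6,14,8,6,10,8,12,10], [10,16,8,14,2,4,6,8,4,2,6,8,14,6,4,6,14,8,6,14,10,16], [14,16,14,8,14,6,8,14,16,4,6,10,8,6,14,16,14,4,6,10,8,6,14], [14,16,14,12,14,6,8,14,16,4,6,10,8,6,14,16,14,4,6,10,8,6,14,12,8], [2,4,6,8,10,4,2,8,6,8,14,6,4,6,14,8,6,14,16,14,2,4,6,14,16,4,2,14], [8,10,8]]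
theorem lowO7_2 : Low (C.grp lowO7_w2) 103680 [21,19,282] :=
  low_orb hC hlk 21 (by decide) [(21,16), (132,2), (132,4), (132,6), (132,10), (132,12), (132,14), (132,15), (137,4), (137,6), (137,12), (137,14), (2507,2), (2507,6), (2507,15), (159,4), (159,15), (80,14), (80,15), (70,16), (3480,6), (3480,16), (3306,2), (3306,12), (3306,14), (3306,16), (147,14), (147,15), (147,16), (73,4), (73,16), (2510,6), (2510,16), (2513,16), (3484,6), (2460,15), (2476,16), (164,4), (3312,12), (1846,16), (2637,16), (24,14), (2508,16), (2777,15)] (m := 45) (grp_mono _ (by decide +kernel))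
    (by decide +kernel) (by decide +kernel) lowO7_3 (by decide)
def lowO7_w1 : List Word := [[4], [6,8,14,6,4,6,14,8,6], [10,16,8,14,16,10,2,4,6,4,2,10,16,14,8,16,10], [10,12,8,10,6,8,14,6,4,6,14,8,6,10,8,12,10], [10,16,8,14,2,4,6,8,4,2,6,8,14,6,4,6,14,8,6,14,10,16], [14,16,14,8,14,6,8,14,16,4,6,10,8,6,14,16,14,4,6,10,8,6,14], [14,16,14,12,14,6,8,14,16,4,6,10,8,6,14,16,14,4,6,10,8,6,14,12,8], [2,4,6,8,10,4,2,8,6,8,14,6,4,6,14,8,6,14,16,14,2,4,6,14,16,4,2,14], [8,10,8], [8]]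
theorem lowO7_1 : Low (C.grp lowO7_w1) 13063680 [18,21,19,282] :=
  low_orb hC hlk 18 (by decide) [(18,18), (19,8), (19,10), (19,12), (19,14), (19,15), (19,16), (165,10), (165,12), (165,14), (165,15), (165,16), (166,12), (166,14), (166,15), (173,4), (173,8), (173,14), (173,15), (2458,6), (2458,12), (2459,6), (133,2), (133,4), (133,6), (133,8), (20,12), (20,14), (20,15), (20,18), (25,14), (25,15), (25,18), (3299,6), (3299,12), (3299,18), (2631,6), (2631,18), (78,2), (78,6), (78,18), (22,4), (22,8), (22,14), (22,15), (22,16), (22,18), (2632,16), (2632,18), (3300,6), (3300,16), (3300,18), (3416,2), (3416,6), (3416,14), (3416,15), (3416,16), (2573,2), (2573,6), (2573,14), (2573,15), (2573,16), (2573,18), (2529,12), (2529,16), (2529,18), (2858,16), (2843,4), (2843,8), (2843,18), (2859,16), (136,8), (2506,6), (158,4), (158,8), (158,14), (3481,2), (3481,18), (170,15), (170,16),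 (21,16), (1852,18), (1851,18), (24,14), (24,15), (24,16), (3347,18), (2635,18), (3298,12), (3298,16), (2636,18), (2630,12), (2630,16), (71,18), (72,18), (79,14), (79,15), (2570,18), (2541,18), (2538,18), (146,14), (146,15), (23,14), (2511,4), (2511,8), (3492,18), (1847,18), (2572,12), (2572,14), (3503,8), (3503,18), (2714,18), (2522,18), (2845,18), (3485,18), (81,18), (132,6), (1853,12), (1853,16), (3417,6), (2774,15), (3346,15), (3306,14), (2637,12), (70,16)] (m := 126) (grp_mono _ (by decide +kernel))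
    (by decide +kernel) (by decide +kernel) lowO7_2 (by decide)
theorem lowO7 : Low (C.grp [[2], [4], [6], [8], [10], [12], [14], [16]]) 4585351680 [1,18,21,19,282] :=
  low_clo hC hlk 1 (by decide) [0,4,2,6,12,8,14,4,10,6,12,2,4,8,6,2,12,0,14,8,4,10,2,0] (m := 351) (le_of_subst _ [[2], [4,6,12,4,2,4,12,6,4], [8,14,6,12,14,8,0,2,4,2,0,8,14,12,6,14,8], [8,10,6,8,4,6,12,4,2,4,12,6,4,8,6,10,8], [8,14,6,12,0,2,4,6,2,0,4,6,12,4,2,4,12,6,4,12,8,14], [12,14,12,6,12,4,6,12,14,2,4,8,6,4,12,14,12,2,4,8,6,4,12], [12,14,12,10,12,4,6,12,14,2,4,8,6,4,12,14,12,2,4,8,6,4,12,10,6], [0,2,4,6,8,2,0,6,4,6,12,4,2,4,12,6,4,12,14,12,0,2,4,12,14,2,0,12], [6,8,6], [6]] (by decide +kernel))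
    (by decide +kernel) (by decide +kernel) lowO7_1 (by decide)
theorem cardO7 : Nat.card (C.grp [[2], [4], [6], [8], [10], [12], [14], [16]]) = 4585351680 := lowO7.card (Fi22TC.b_O7 _ _ hrel).2
end CA.Fi22Pres
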