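import Cfsg.Agent.Lib.Spor.Fi23TCbC0
import Cfsg.Agent.Lib.Spor.Fi23TCbC1
import Cfsg.Agent.Lib.Spor.Fi23TCbC2
import Cfsg.Agent.Lib.Spor.Fi23TCbC3
import Cfsg.Agent.Lib.Spor.Fi23TCbC4
set_option autoImplicit false
set_option linter.all false
set_option maxRecDepth 100000
universe u
namespace CA.Fi23TCb
open CA.CNet CA.CWord CA.CLevel CA.CSimple CA.CPoint CA.CTodd CA.Fi23RelB
noncomputable section
theorem idx : Idx.{u} rels [[0], [2], [4], [6], [8], [10], [12], [14], [16], [18]] [[0], [2], [4], [6], [8], [10], [12], [14], [16]] 31671 :=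
  idx_of_cert hpar hR (K := K) (by decide +kernel) (T := 130561) (T' := 130688) (by decide) (On.trans (On.trans D0 D1) (On.trans D2 (On.trans D3 D4)))
    (subs := [1,2,3,4,5,6,7,8,9]) (by decide +kernel) (T1 := 130569) (by decide) (N := 483177) (On.trans (On.trans (On.trans (On.trans S0 (On.trans S1 S2)) (On.trans (On.trans S3 S4) (On.trans S5 S6))) (On.trans (On.trans S7 (On.trans S8 S9)) (On.trans (On.trans S10 S11) (On.trans S12 S13)))) (On.trans (On.trans (On.trans S14 (On.trans S15 S16)) (On.trans (On.trans S17 S18) (On.trans S19 S20))) (On.trans (On.trans S21 (On.trans S22 S23)) (On.trans (On.trans S24 S25) (On.trans S26 S27)))))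
    (by decide) (n' := 31680) (by decide) (On.trans (On.trans W0 (On.trans W1 W2)) (On.trans (On.trans W3 W4) (On.trans W5 W6))) (by decide +kernel) (by decide +kernel)
end
end CA.Fi23TCb
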