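import Cfsg.Agent.Lib.Spor.Fi23TCa
import Cfsg.Agent.Lib.Spor.Fi23TCb
import Cfsg.Agent.Lib.Spor.Fi22Pres
import Cfsg.Agent.Lib.Spor.FiCover
set_option autoImplicit false
set_option linter.all false
set_option maxRecDepth 100000
universe u
namespace CA.Fi23Pres
open CA.CNet CA.CWord CA.CLevel CA.CSimple CA.CPoint CA.CTodd CA.CPres CA.CLow CA.CTrans Cfsg.Spor CA.FiSimple CA.FiCover
open CA.Fi23RelB (gens)
noncomputable abbrev C : Ctx := Fi.C23
theorem hC : C.ok = true := Fi.ok23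
noncomputable abbrev lk := lk23
theorem hlk : Good C lk := hlk23
theorem hrel : ∀ r ∈ Fi23RelB.rels, C.ev r = 1 := rels_of_base hlk base23 (by decide +kernel)
def subs : List Word := [[0], [2], [4], [6], [8], [10], [12], [14], [16]]
theorem bound9 : Bound.{u} Fi23TC.rels9 subs 129123503308800 := .of_idx Fi23TCa.idx Fi23TC.b_O7 (by decide)
theorem bound : Bound.{u} Fi23RelB.rels gens 4089470473293004800 :=
  .of_idx Fi23TCb.idx (bound9.mono (by decide +kernel)) (by decide)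
theorem gens_eq : C.grp gens = Fi.X C := X23.symm
theorem card : Nat.card (C.grp gens) = 4089470473293004800 := gens_eq ▸ Fi.lev23.2.1
theorem base : IsBase (C.grp gens) B23 := gens_eq ▸ base23
abbrev g := pg Fi23.edges Fi23.extra Fi23RelB.gen
theorem top : grp g gens = ⊤ := Fi23RelB.enc.top _ (by decide)
theorem inj : ∃ φ : Fi23 →* Equiv.Perm (Fin C.n),
    (∀ w : Word, (∀ a ∈ w, a < 2 * 10) → φ (ev g w) = C.ev w) ∧
    (∀ ws : List Word, (∀ w ∈ ws, ∀ a ∈ w, a < 2 * 10) → (grp g ws).map φ = C.grp ws) ∧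
    ∀ x ∈ grp g gens, φ x = 1 → x = 1 :=
  Fi23RelB.enc.inj bound hrel (by decide) card.ge
theorem equiv : Nonempty (Fi23 ≃* C.grp gens) := by
  obtain ⟨φ, -, h2, h3⟩ := inj
  exact equiv_top φ top h3 (h2 _ (by decide))
theorem coset_fix : ∀ x ∈ C.grp subs, x (⟨0, by decide⟩ : Fin C.n) = (⟨0, by decide⟩ : Fin C.n) := fix_of_mapsP hlk (by decide +kernel)
theorem coset_trans : ∀ i, ∃ x ∈ C.grp gens, x (⟨0, by decide⟩ : Fin C.n) = i :=
  trans_of_clo hC (sched := [18,12,10,8,6,4,14,2,16,6,0,8,4,10,14,6,12,18,8,14,2,4,16,10,6,2,12,14,8,4,0,18,6,16,10,2,12,4,14,8,2,6,0,16,4,2,8,10,0,14,6,4,12,6,2]) (by decide +kernel)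
theorem inv0 : C.inv subs (C.clo subs [2,16,0,4,14,6,8,14,2,4,10,6,16,12,2,14,8,4,0,6,10,16,8,14,4,2,12,6,4,0,8,2,10,14] (bit 174)) = true := by decide +kernel
theorem pt0 : (C.ev [18,12,10,8,6,4,14,6,8,10,12,18] (⟨0, by decide⟩ : Fin C.n) : ℕ) = 174 := mapsP_spec hlk (by decide +kernel)
theorem orb0 : Nat.card {i : Fin C.n // ∃ x ∈ C.grp subs, x (C.ev [18,12,10,8,6,4,14,6,8,10,12,18] (⟨0, by decide⟩ : Fin C.n)) = i} = 3510 :=
  card_orbit hC pt0 inv0 (by decide +kernel)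
theorem inv1 : C.inv subs (C.clo subs [12,10,8,6,4,14,2,16,6,0,8,4,10,14,6,12,2,8,14,4,16,6,10,2,0,14,12,8,4,6,16,10,2,4,14,8,12,2,0,6,10,4,14,8,2,16,0,6,10,8,4,2,10,12] (bit 31654)) = true := by decide +kernel
theorem pt1 : (C.ev [18] (⟨0, by decide⟩ : Fin C.n) : ℕ) = 31654 := mapsP_spec hlk (by decide +kernel)
theorem orb1 : Nat.card {i : Fin C.n // ∃ x ∈ C.grp subs, x (C.ev [18] (⟨0, by decide⟩ : Fin C.n)) = i} = 28160 :=
  card_orbit hC pt1 inv1 (by decide +kernel)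
theorem coset : (grp g subs).index = C.n ∧ (∀ t : Word, (∀ a ∈ t, a < 2 * 10) → (MulAction.orbit (grp g subs)
      (QuotientGroup.mk (s := grp g subs) (ev g t))).ncard =
        Nat.card {i : Fin C.n // ∃ x ∈ C.grp subs, x (C.ev t ⟨0, by decide⟩) = i}) ∧
    C.grp gens ⊓ MulAction.stabilizer (Equiv.Perm (Fin C.n)) (⟨0, by decide⟩ : Fin C.n) = C.grp subs := by
  obtain ⟨h1, h2, -, h3⟩ := Fi23RelB.enc.coset (C := C) Fi23TCb.idx hrel (by decide) (by decide) (by decide) coset_fix coset_trans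
  exact ⟨h1, h2, h3⟩
theorem card_subs : Nat.card (C.grp subs) = 129123503308800 := card_stab coset_trans coset.2.2 card (by decide)
theorem simple : IsSimpleGroup (C.grp gens) := by
  obtain ⟨M⟩ := Fi.model23
  exact gens_eq ▸ simple23 M
/-- the subgroup generated by `a, …, i` is a double cover of the presented `Fi₂₂` -/
theorem dc : Cfsg.IsNonsplitDoubleCover (grp g subs) Fi22 := by
  obtain ⟨φ, -, h2, h3⟩ := inj
  obtain ⟨e, -⟩ := equiv_of_inj φ h3 (top ▸ le_top) (h2 subs (by decide))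
  have h4 : ∀ r ∈ Fi23TC.rels9, ev g r = 1 := fun r hr =>
    Fi23RelB.enc.hold r ((by decide +kernel : ∀ r ∈ Fi23TC.rels9, r ∈ Fi23RelB.rels) r hr)
  have hc : Nat.card (grp g subs) = 129123503308800 := (Nat.card_congr e.toEquiv).trans card_subs
  obtain ⟨ψ, -, h5⟩ := exists_hom_of_bound bound9 h4 (q := Fi22Pres.g) (fun r hr =>
    Fi22Rel.enc.hold r ((by decide +kernel : ∀ r ∈ Fi23TC.rels9, r ∈ Fi22Rel.rels) r hr)) hc.ge
  obtain ⟨e2⟩ := Fi22Pres.equiv
  have := Fi22Pres.simple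
  have : Finite (grp g subs) := (bound9 _ _ h4).1
  refine dc_of_hom ψ (MonoidHom.range_eq_top.1 (h5.trans Fi22Pres.top)) ?_
    (perfect_grp Fi23TC.b_ab (by decide +kernel) (by decide +kernel) fun r hr => ?_) e2.isSimpleGroup
  · rw [hc, Nat.card_congr e2.toEquiv, Fi22Pres.card]
  · rw [(by decide +kernel : ∀ r ∈ Fi23TC.rels9, subst subs r = r) r hr]; exact h4 r hr
end CA.Fi23Pres
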