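import Cfsg.Agent.Lib.Comp.GFrob
import Cfsg.Agent.S2101

/-! The normaliser of a subgroup of order 13 in `G₂(3)`. -/

set_option autoImplicit false
set_option Elab.async false
set_option maxRecDepth 100000
set_option linter.all false

namespace CA.G23n
open Cfsg CA.CNet CA.CWord CA.CLevel CA.H27Pres CA.CSimple CA.CPoint CA.CLow CA.CPres CA.Fi CA.CBack CA.GBack CA.GOut CA.GFrob Cfsg.Agent.S2101

theorem hf : GoodG C.g lk := hlk
noncomputable abbrev A : Subgroup (Equiv.Perm (Fin C.n)) := C.grp gens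
theorem mem (w : Word) (hw : ∀ a ∈ w, a < 10) : C.ev w ∈ A := all_mem hw
noncomputable def c0 : Lev := ⟨[[0], [2], [4], [6], [8], [6,2,6,1,8]], 0, [], [8,2,6,10,12,18,10,14,6,8,12,10,0]⟩
noncomputable def c1 : Lev := ⟨[[6,3,0,6,2,6,1], [1,6,3,6,3,6,0]], 172, [nat_lit 0xf3290e0010001c0f000ac363f03c780fffc0f8f80000104082000000000000200401004dfff3e666330000001e0, nat_lit 0xcd6f1ffefffe3f0fff53c9c0fc38750003f0707ffffefbf7dffffffffffffdffbfeffb0000c18180cffffff806], [0,2,0,6,2,0,6,4,0,2,0]⟩
noncomputable def c2 : Lev := ⟨[[0,3,6,3,6,2,1], [0,3,6,2,6,4,0,3,0]], 46, [], [0,2,0,2,0,2,0,2,0,0]⟩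
noncomputable def c : List Lev := [c0, c1, c2]
theorem c_ch : C.grp (gsOf c) = A ∧ Ch C c := chain hC hf (by decide) card
  ((grp_le_iff _).2 fun w hw => mem w (wlt_spec (lall_iff.1 (by decide +kernel : lall (gsOf c) (wlt 10) = true) w hw))) (by decide +kernel)
noncomputable def hx_0t : GBack.Tr := (.sy [([10], [0])] [0,0,0,0,0,0,0,0,0,0,0,0] (nat_lit 0x80000021409800040222004180000800008000000400200000000000000040100013640000001000000001) (.bulk [([0,0], 0, 0), ([0], 0, 0), ([0,0,0], 0, 1)] (unp 36 [nat_lit 0x9040d010091409020000b05020090c0303000090f02000091402b030912020090c040200b03010200b0305020000911020090704020091407020090e050100b0203030000904010091005020091002020000b09020000b030200b0401020090e0702009070301009070e0200b030201000090302000090701]) (.cons [] (.frc [0,0,0] 0 (.cons [] (.frc [1] 1 (.cons [] (.lf 0)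
  .nil))
  .nil))
  .nil)))
theorem hx_0 : Dd C [[6,2,6,1,8]] [[6,2,6,1,8]] (· ∈ C.grp [[6,2,6,1,8]]) c [] (full C.n) :=
  chk_cent hC hf c_ch.2 (by decide +kernel) hx_0t (by decide +kernel)
theorem hx : Dd C [[6,2,6,1,8]] [[6,2,6,1,8]] (· ∈ C.grp [[6,2,6,1,8]]) c [] (full C.n) := hx_0
noncomputable def hn_0t : GBack.Tr := (.sy [([10], [0])] [0,0,0,0,0,0,0,0,0,0,0,0] (nat_lit 0x80000021409800040222004180000800008000000400200000000000000040100013640000001000000001) (.bulk [([0,0], 0, 0), ([0], 0, 0), ([0,0,0,0,0], 0, 0), ([0,0,0], 0, 1)] (unp 36 [nat_lit 0x9040d020091409020000b05020090c0304000090f02000091402b030912020090c040200b03010100b0305010000911020090704020091407020090e050200b0203040000904020091005020091002010000b09020000b030200b0401010090e0702009070302009070e0300b030202000090301000090702000000001]) .nil))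
theorem hn_0 : Dd C [[6,2,6,1,8]] [wpow [6,2,6,1,8] 2] (fun _ => False) c [] (full C.n) :=
  chk_no (zs := [[6,2,6,1,8]]) hC hf c_ch.2 (by decide +kernel) hn_0t (by decide +kernel)
theorem hn : Dd C [[6,2,6,1,8]] [wpow [6,2,6,1,8] 2] (fun _ => False) c [] (full C.n) := hn_0
theorem main {G : Type*} [Group G] [Finite G] {K B : Subgroup G} (e : K ≃* Lie.chevG2.group (ZMod 3)) (hB : B ≤ K)
    (h : Nat.card B = 13) : Nat.card (K ⊓ Subgroup.normalizer (B : Set G) : Subgroup G) = 78 ∧
      K ⊓ Subgroup.centralizer (B : Set G) = B := by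
  obtain ⟨f⟩ := iso (F := ZMod 3) rfl
  let φ : A →* G := K.subtype.comp (f.trans e.symm).toMonoidHom
  have e1 : φ.range = K := by
    rw [MonoidHom.range_comp, (MonoidHom.range_eq_top (f := (f.trans e.symm).toMonoidHom)).2 (f.trans e.symm).surjective,
      ← MonoidHom.range_eq_map, Subgroup.range_subtype]
  rw [← e1] at hB ⊢
  exact fb_ctx hC φ (K.subtype_injective.comp (f.trans e.symm).injective) all_mem (x := [6,2,6,1,8]) (y := [6,8,1,2,1,6,2,6,0,8,2,6,8,3,0]) (m := 6) (b := 4)
    (q := 0) (by decide) (by decide) (by decide +kernel) (by decide) [2] (by decide)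
    (fun g hg hs => Dd.all c_ch.2 hx (c_ch.1.ge hg) hs)
    (fun c hc g hg hs => Dd.all c_ch.2 hn (c_ch.1.ge hg) (List.mem_singleton.1 hc ▸ hs)) (by rw [card]; decide) hB h

end CA.G23n
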