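/-
More stabilisers in `M24`.
-/
import Cfsg.Agent.Lib.Spor.M24Tools

set_option autoImplicit false

namespace CA.M24St2

open Cfsg CA.NatBits CA.OrbBfs CA.CGroup CA.CGConstr CA.CGParts CA.CGCert CA.CGRank CA.CGDec CA.Perm24 CA.Golay
open CA.M24Core CA.M24Sub CA.M24Tools MulAction
open scoped Pointwise

/-- the standard triad -/
def T3 : ℕ := 8388611

/-- the standard pair of complementary dodecads -/
def DD : List ℕ := [340831, 16436384]

theorem dss_DD : dss DD = {ds D0, (ds D0)ᶜ} := by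
  rw [← ds_compl]; ext s; simp [mem_dss, DD, D0, full, eq_comm]

theorem smul_DD (g : M24) : g • dss DD = {g • ds D0, (g • ds D0)ᶜ} := by
  rw [dss_DD, Finset.smul_finset_insert, Finset.smul_finset_singleton, smul_compl]

/-- generators of the triad group -/
def gT3 : List ℕ := [564438026822283799429783623715108703009951116119017062401, 26535834975169294526970632614573313092135186599011811351]

set_option maxRecDepth 100000 in
theorem stT3 : St gT3 (stabilizer M24 (ds T3)) 120960 :=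
  stabT mSub st24 (sS (m := T3) (by decide)) 2024
    [[1, 2, 2, 0, 3, 3, 0, 3, 3, 0, 0], [0, 2, 2, 1, 2, 2, 0, 0, 2, 2, 2]] [(2, [[3, 1, 2, 1, 3, 1], [1, 1, 1, 3, 0, 2, 0, 3, 0, 2, 0, 3]]), (3, [[1, 1, 1, 2, 1, 3, 0, 2, 2, 2, 0, 3], [1, 2, 0, 2, 0, 2, 0], [2, 2, 2]]), (4, [[3, 1, 3, 4], [4, 1, 4, 0, 4], [3, 5, 2, 1, 1]]), (6, [[5, 3, 3, 0, 3]]), (1, [])] (by decide +kernel)

/-- generators of `M12:2` -/
def gDD : List ℕ := [73752862111457128491445691637874757370506713353099087636, 1727074028941855999032161069013493741843691538083941911]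

set_option maxRecDepth 100000 in
theorem stDD : St gDD (stabilizer M24 (dss DD)) 190080 :=
  stabT (mSS 2) st24 (sSS (l := DD)) 1288
    [[0, 0, 0, 2, 0, 2, 2, 1, 3, 3], [2]] [(0, [[0, 3, 0, 2], [1, 3, 1, 2]]), (5, [[2, 2, 1, 3, 3], [0, 2, 2, 1]]), (1, [[2, 0, 2], [1, 3, 3, 3, 1, 2, 1]]), (2, [[1, 1, 2, 0, 2, 0], [1, 2]]), (4, [])] (by decide +kernel)

/-- generators -/
def gO1 : List ℕ := [564731724373590871378839702471661134867085759924983238926, 565780464402442943162393320912435126080268800846517833216]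

theorem stO1 : St gO1 (stabilizer M24 (ds O0) ⊓ stabilizer M24 (none : GolayPt)) 40320 :=
  stabM mPt stO (sPt (none)) 8
    [[0, 2], [2, 2, 1, 2]] [(4, [[2, 1, 2, 0, 2], [0, 2]]), (6, [[1, 3, 3, 1], [3, 0, 2, 0, 2, 2]]), (7, [[1, 1, 3, 0, 0, 3, 1, 3], [0, 0, 3, 1, 2, 2, 1]]), (8, [])] (by decide +kernel)

/-- generators -/
def gO2 : List ℕ := [565109988805893231208780699721376106885044063965886352896, 565780464402442943162393320912435126080268800846517833216]

theorem stO2 : St gO2 (stabilizer M24 (ds O0) ⊓ stabilizer M24 (none : GolayPt) ⊓ stabilizer M24 (some 0 : GolayPt)) 5760 :=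
  stabM mPt stO1 (sPt (some 0)) 7
    [[1, 1, 1, 2, 0, 2], [2]] [(4, [[2, 1, 2, 0, 2], [1, 3, 0, 2]]), (6, [[2, 1, 3, 0, 2, 1, 1, 2], [1]]), (8, [[1, 2, 2, 0]]), (1, [])] (by decide +kernel)

/-- generators -/
def gA7 : List ℕ := [565784196998078103761695406010327943467077831994481053186, 565018693183337350147320495443144148474604644850114691601]

theorem stA7 : St gA7 (stabilizer M24 (ds O0) ⊓ stabilizer M24 (some 4 : GolayPt) ⊓ stabilizer M24 (none : GolayPt)) 2520 :=
  stabM mPt stA8 (sPt (none)) 8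
    [[1, 1, 1], [3, 1, 2, 2, 0, 2]] [(6, [[1, 2, 2, 0, 2], [1, 2, 0, 3, 0, 2]]), (7, [[2, 1, 2], [3, 1, 3, 0, 2, 0, 2]]), (8, [])] (by decide +kernel)

/-- generators -/
def g22s : List ℕ := [564536790746818736124101618278734196004346091213053559296, 564441033159562762217762022819311310755767841335969645056]

theorem st22s : St g22s (stabilizer M24 (none : GolayPt) ⊓ stabilizer M24 (some 0 : GolayPt) ⊓ stabilizer M24 (ds 6)) 1920 :=
  stabM mSub st22 (sS (m := 6) (by decide)) 231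
    [[0, 3, 3, 0, 0, 2, 2, 2, 1, 3], [2, 1, 3, 0, 0, 0, 3, 1, 1]] [(3, [[1, 3, 0, 3, 3, 0, 3, 3, 0, 0], [1, 1, 1, 2, 0, 0, 2, 2, 2]]), (4, [[0, 2, 1, 3, 0, 0, 3], [3, 1, 2, 0]]), (8, [])] (by decide +kernel)

/-- generators of `M10` -/
def g10 : List ℕ := [467796916571905906355388295666698705711555338621938565376, 418951611450639689989749304166226879989287650424073093376]

theorem st10 : St g10 (stabilizer M24 (ds D0) ⊓ stabilizer M24 (some 0 : GolayPt) ⊓ stabilizer M24 (some 1 : GolayPt)) 720 :=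
  stabM mPt st11 (sPt (some 1)) 11
    [[0, 0, 3, 3], [1, 3]] [(5, [[1, 1, 1, 1], [3, 1, 2, 2, 0, 2]]), (2, [[1, 3, 3, 0, 3, 1], [1, 3, 0, 2, 0, 2, 2]]), (4, [])] (by decide +kernel)

/-- generators of `M9` -/
def g9 : List ℕ := [124040109639224129468495601384878679123967818213881938176, 172604426461584327250805098916980200144817053202485739776]

theorem st9 : St g9 (stabilizer M24 (ds D0) ⊓ stabilizer M24 (some 0 : GolayPt) ⊓ stabilizer M24 (some 1 : GolayPt) ⊓ stabilizer M24 (some 2 : GolayPt)) 72 :=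
  stabM mPt st10 (sPt (some 2)) 10
    [[0, 2, 1, 2, 0, 2], [1, 3, 3, 0, 2]] [(5, [[1, 1], [2, 1, 3, 0]]), (4, [])] (by decide +kernel)

/-- generators of `L2(11)` in `M11` -/
def gL211 : List ℕ := [565786079429136246153967975707306496694963637150500000256, 565019073122136827320434168073180974913195778918733843456]

theorem stL211 : St gL211 (stabilizer M24 (ds D0) ⊓ stabilizer M24 (some 0 : GolayPt) ⊓ stabilizer M24 (none : GolayPt)) 660 :=
  stabM mPt st11 (sPt (none)) 12
    [[3, 1, 1, 1, 2, 0, 2], [3, 3, 0, 2]] [(1, [[0, 0, 3], [2, 0, 2, 0, 2]]), (2, [[3, 3, 1, 2, 0], [2, 0, 2]]), (4, [])] (by decide +kernel)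

end CA.M24St2
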