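import Cfsg.Agent.Lib.Comp.CPoint

set_option autoImplicit false
set_option maxRecDepth 100000
namespace CA.J2Perm100
open CA.CNet CA.CWord CA.CLevel CA.CSimple CA.CPoint

def t0 : Net := [(nat_lit 0x1005051501044415151454410, nat_lit 1),
  (nat_lit 0x3022103120200212221013030, nat_lit 2),
  (nat_lit 0xe0e0a040f02040200020a03, nat_lit 4),
  (nat_lit 0xf300280071004400bb0059, nat_lit 8),
  (nat_lit 0x9c300000cd690000f833, nat_lit 16),
  (nat_lit 0xf00000000ccc1e366, nat_lit 32),
  (nat_lit 0x86af1fdb2, nat_lit 64),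
  (nat_lit 0x60f19900, nat_lit 32),
  (nat_lit 0x98a700002a5100000002, nat_lit 16),
  (nat_lit 0x9009400c8002d00080000, nat_lit 8),
  (nat_lit 0x707070801030c0e080605, nat_lit 4),
  (nat_lit 0x3130212102131322220200010, nat_lit 2),
  (nat_lit 0x544410510554510550114140, nat_lit 1)]
def t1 : Net := [(nat_lit 0x4015405515555554514414101, nat_lit 1),
  (nat_lit 0x122013032233132130302212, nat_lit 2),
  (nat_lit 0xe050f0a030105030e010906, nat_lit 4),
  (nat_lit 0x90022008d0093007b00aa, nat_lit 8),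
  (nat_lit 0xfac30000fc0f000051cc, nat_lit 16),
  (nat_lit 0x1000000003fce4707, nat_lit 32),
  (nat_lit 0xcd7d0fba3, nat_lit 64),
  (nat_lit 0xf000000000440c2a0, nat_lit 32),
  (nat_lit 0x442e000040a800000001, nat_lit 16),
  (nat_lit 0x96001d0074000100140008, nat_lit 8),
  (nat_lit 0xd0d080106020a0704090e00, nat_lit 4),
  (nat_lit 0x313112330011100223002000, nat_lit 2),
  (nat_lit 0x5051454500414100450404100, nat_lit 1)]
def t2 : Net := [(nat_lit 0x5504544104500550045510045, nat_lit 1),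
  (nat_lit 0x2020210033220211203133330, nat_lit 2),
  (nat_lit 0x502020f03010d06010c000a, nat_lit 4),
  (nat_lit 0xae0003008f009200b700e7, nat_lit 8),
  (nat_lit 0xf1240000e8f7000095e7, nat_lit 16),
  (nat_lit 0xa0000000007392405, nat_lit 32),
  (nat_lit 0xa3d5fe6b, nat_lit 64),
  (nat_lit 0x9000000008350fe00, nat_lit 32),
  (nat_lit 0x71a300004c0c00000000, nat_lit 16),
  (nat_lit 0x27008800b0004300940008, nat_lit 8),
  (nat_lit 0xd0401090f0d03020c0c0600, nat_lit 4),
  (nat_lit 0x1131011113110032133100020, nat_lit 2),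
  (nat_lit 0x4501545414411141150450050, nat_lit 1)]
def t3 : Net := [(nat_lit 0x5454451100141014545050014, nat_lit 1),
  (nat_lit 0x21000232110001233110320, nat_lit 2),
  (nat_lit 0x60b0d0d0f0400010200080c, nat_lit 4),
  (nat_lit 0x3e006700c4001d009300f8, nat_lit 8),
  (nat_lit 0x34e30000bc1700008479, nat_lit 16),
  (nat_lit 0xa00000000e13811d5, nat_lit 32),
  (nat_lit 0x16cfca3d6, nat_lit 64),
  (nat_lit 0x500000000487c0280, nat_lit 32),
  (nat_lit 0x8ca10000901800000007, nat_lit 16),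
  (nat_lit 0xac00010055008300a80000, nat_lit 8),
  (nat_lit 0xc000a0f0e0c090a01020000, nat_lit 4),
  (nat_lit 0x2231022120320220130212020, nat_lit 2),
  (nat_lit 0x5154554044411415451040010, nat_lit 1)]
def t4 : Net := [(nat_lit 0x4054541504444444114511014, nat_lit 1),
  (nat_lit 0x312121300313322301032322, nat_lit 2),
  (nat_lit 0x90f0f090a03000d07000308, nat_lit 4),
  (nat_lit 0x86009c009300970013003a, nat_lit 8),
  (nat_lit 0x375e0000830600004b24, nat_lit 16),
  (nat_lit 0x600000000e00551ea, nat_lit 32),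
  (nat_lit 0xb54d719e2, nat_lit 64),
  (nat_lit 0x800000000441511e0, nat_lit 32),
  (nat_lit 0x4593000000c300000008, nat_lit 16),
  (nat_lit 0xd800b40021004800430004, nat_lit 8),
  (nat_lit 0xc0d0c0c0d050c0804080302, nat_lit 4),
  (nat_lit 0x203311233220201011330100, nat_lit 2),
  (nat_lit 0x40515140500141511044110, nat_lit 1)]
def t5 : Net := [(nat_lit 0x1441004055044044151155114, nat_lit 1),
  (nat_lit 0x3033232021333211221212100, nat_lit 2),
  (nat_lit 0x20f0403010f06070f090006, nat_lit 4),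
  (nat_lit 0xc0001600af00f400080027, nat_lit 8),
  (nat_lit 0xfacb000072420000c0a5, nat_lit 16),
  (nat_lit 0x30000000018c1725d, nat_lit 32),
  (nat_lit 0x43b47f03c, nat_lit 64),
  (nat_lit 0x21053000, nat_lit 32),
  (nat_lit 0xeb5a0000509800000004, nat_lit 16),
  (nat_lit 0x81005d00a5009500080001, nat_lit 8),
  (nat_lit 0x20a0800050805040e030504, nat_lit 4),
  (nat_lit 0x213222101123101120130200, nat_lit 2),
  (nat_lit 0x405011151510014044040440, nat_lit 1)]
def t6 : Net := [(nat_lit 0x4005404104145551555551504, nat_lit 1),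
  (nat_lit 0x2022320331232012303102020, nat_lit 2),
  (nat_lit 0x1090c0f050b060406000206, nat_lit 4),
  (nat_lit 0xae0069007f00ce00ab0064, nat_lit 8),
  (nat_lit 0x7f2a000096dc00009483, nat_lit 16),
  (nat_lit 0xc000000007efacc4d, nat_lit 32),
  (nat_lit 0x7f1bab248, nat_lit 64),
  (nat_lit 0x8008b040, nat_lit 32),
  (nat_lit 0x82320000201f0000000d, nat_lit 16),
  (nat_lit 0xc800b0002f00fb00480000, nat_lit 8),
  (nat_lit 0x30c070d07070c0d06050800, nat_lit 4),
  (nat_lit 0x1230031133203201111012100, nat_lit 2),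
  (nat_lit 0x1110551414154405101000404, nat_lit 1)]
def t7 : Net := [(nat_lit 0x1145450055154500514001054, nat_lit 1),
  (nat_lit 0x2103313201010021210322130, nat_lit 2),
  (nat_lit 0x90900050a03060e05020e00, nat_lit 4),
  (nat_lit 0xa400f0002a00020014006f, nat_lit 8),
  (nat_lit 0xcc2100003c210000802b, nat_lit 16),
  (nat_lit 0xb000000007adb4b7d, nat_lit 32),
  (nat_lit 0xa90c88f39, nat_lit 64),
  (nat_lit 0x10c88930, nat_lit 32),
  (nat_lit 0x9c30000200000000002, nat_lit 16),
  (nat_lit 0x94005300d3000000800009, nat_lit 8),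
  (nat_lit 0x10b0809030e06000d020800, nat_lit 4),
  (nat_lit 0x1102210002322223010310030, nat_lit 2),
  (nat_lit 0x5440045440511410554001514, nat_lit 1)]
def t8 : Net := [(nat_lit 0x1410501111541100550505004, nat_lit 1),
  (nat_lit 0x33202312010201303120222, nat_lit 2),
  (nat_lit 0xc050b07050b030905080102, nat_lit 4),
  (nat_lit 0xd4008a00560012000d0002, nat_lit 8),
  (nat_lit 0xc20f000093310000a100, nat_lit 16),
  (nat_lit 0x500000000d315f0ee, nat_lit 32),
  (nat_lit 0x2259fcf60, nat_lit 64),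
  (nat_lit 0x50ec120, nat_lit 32),
  (nat_lit 0x404f0000e4d300000004, nat_lit 16),
  (nat_lit 0xb000060006009b00870004, nat_lit 8),
  (nat_lit 0x506010700020a02020006, nat_lit 4),
  (nat_lit 0x1330013123103000103132100, nat_lit 2),
  (nat_lit 0x401511040515011151114404, nat_lit 1)]
def t9 : Net := [(nat_lit 0x1041545001001100504441450, nat_lit 1),
  (nat_lit 0x2330000231113333012303102, nat_lit 2),
  (nat_lit 0xc070f0f05060e08060d0a0a, nat_lit 4),
  (nat_lit 0x2200eb0078005100ba00b4, nat_lit 8),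
  (nat_lit 0x75700008bb2000048ff, nat_lit 16),
  (nat_lit 0xf0000000056472383, nat_lit 32),
  (nat_lit 0x1643fefc0, nat_lit 64),
  (nat_lit 0x174e00, nat_lit 32),
  (nat_lit 0x40dc00000dd400000003, nat_lit 16),
  (nat_lit 0x88006e006a000100120008, nat_lit 8),
  (nat_lit 0x80004050b0407040b010202, nat_lit 4),
  (nat_lit 0x121310312313232302222300, nat_lit 2),
  (nat_lit 0x150100515015150040000554, nat_lit 1)]
def t10 : Net := [(nat_lit 0x11514541144111110500540, nat_lit 1),
  (nat_lit 0x131302303320012230011102, nat_lit 2),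
  (nat_lit 0xd04020705010b0c07020004, nat_lit 4),
  (nat_lit 0x300a900fd008a00ea0068, nat_lit 8),
  (nat_lit 0x115300004b5d00007a41, nat_lit 16),
  (nat_lit 0x900000000f6204ae1, nat_lit 32),
  (nat_lit 0x2ae7a39a5, nat_lit 64),
  (nat_lit 0x100000000281208a0, nat_lit 32),
  (nat_lit 0xbb560000003300000001, nat_lit 16),
  (nat_lit 0xa2008a0026000f0020000a, nat_lit 8),
  (nat_lit 0x803030d0f0e0c0209030300, nat_lit 4),
  (nat_lit 0x230202231232130233131000, nat_lit 2),
  (nat_lit 0x1041510450515500540500540, nat_lit 1)]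
def t11 : Net := [(nat_lit 0x4451145451110401554500400, nat_lit 1),
  (nat_lit 0x3021000232130310030110020, nat_lit 2),
  (nat_lit 0xe01020e0d000e000201000c, nat_lit 4),
  (nat_lit 0xec005d0052000e00910069, nat_lit 8),
  (nat_lit 0x1800000e10200002064, nat_lit 16),
  (nat_lit 0x1000000006b481091, nat_lit 32),
  (nat_lit 0xc25024ef2, nat_lit 64),
  (nat_lit 0x4830, nat_lit 32),
  (nat_lit 0x29200000210000000000, nat_lit 16),
  (nat_lit 0x4003d0002002e00610009, nat_lit 8),
  (nat_lit 0x60802060d000e0802010004, nat_lit 4),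
  (nat_lit 0x3021000222110300030010020, nat_lit 2),
  (nat_lit 0x4451141451110401554500400, nat_lit 1)]
def t12 : Net := [(nat_lit 0x11514541144111110500540, nat_lit 1),
  (nat_lit 0x131302303320012230011102, nat_lit 2),
  (nat_lit 0xd04020705010b0c07020004, nat_lit 4),
  (nat_lit 0x300a900fd008a00ea0068, nat_lit 8),
  (nat_lit 0x115300004b5d00007a41, nat_lit 16),
  (nat_lit 0x900000000f6204ae1, nat_lit 32),
  (nat_lit 0x2ae7a39a5, nat_lit 64),
  (nat_lit 0x100000000281208a0, nat_lit 32),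
  (nat_lit 0xbb560000003300000001, nat_lit 16),
  (nat_lit 0xa2008a0026000f0020000a, nat_lit 8),
  (nat_lit 0x803030d0f0e0c0209030300, nat_lit 4),
  (nat_lit 0x230202231232130233131000, nat_lit 2),
  (nat_lit 0x1041510450515500540500540, nat_lit 1)]
def t13 : Net := [(nat_lit 0x1411045014050115440004414, nat_lit 1),
  (nat_lit 0x3222321203103321110120012, nat_lit 2),
  (nat_lit 0x100040e0409060504060104, nat_lit 4),
  (nat_lit 0xb0000e00ae00ff002c0080, nat_lit 8),
  (nat_lit 0x1f390000acd100002000, nat_lit 16),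
  (nat_lit 0x4b9f0840, nat_lit 32),
  (nat_lit 0xc992b0e40, nat_lit 64),
  (nat_lit 0x90b0840, nat_lit 32),
  (nat_lit 0x87290000009000000000, nat_lit 16),
  (nat_lit 0x90000000a600dc00240000, nat_lit 8),
  (nat_lit 0x100040e0009060500020000, nat_lit 4),
  (nat_lit 0x3222221211113332010120010, nat_lit 2),
  (nat_lit 0x1410055014041150400004414, nat_lit 1)]
def C : Ctx := ⟨100, 7, [t0, t1, t2, t3, t4, t5, t6, t7, t8, t9, t10, t11, t12, t13]⟩
theorem hC : C.ok = true := by decide +kernel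
noncomputable def lk : ℕ → ℕ → ℕ := look C 64
theorem hlk : Good C lk := good_look hC (by decide +kernel)
noncomputable def L6 : Level where
  ω := 1
  hs := []
  cardH := 1
  reps := [⟨[0], 2, [], [], []⟩]
  covs := [⟨[27], [], [⟨0, [], [], 1, []⟩,
      ⟨1, [], [], 0, []⟩], []⟩]
theorem L6_light : L6.lightOK C = true := by decide +kernel
theorem L6_eqns_0 : lall (L6.eqns) (eqP C) = true := by decide +kernel
theorem L6_eqns : lall (L6.eqns) (eqP C) = true := L6_eqns_0
theorem L6_H : Nat.card (C.grp L6.hs) = L6.cardH := card_grp_nil C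
theorem L6_card : Nat.card (C.grp L6.gs) = 2 :=
  L6.card hC L6_light L6_eqns L6_H (by decide +kernel)
def H6 : List Word := [[27], [26]]
theorem H6_eq : C.grp H6 = C.grp L6.gs :=
  grp_lapp_eq hC L6.gs [([26], [0])] (by decide +kernel)
theorem H6_card : Nat.card (C.grp H6) = 2 := H6_eq ▸ L6_card
theorem L6_base : IsBase (C.grp L6.gs) [1] :=
  isBase_level L6 hC L6_light L6_eqns L6_H (isBase_nil C)
theorem H6_base : IsBase (C.grp H6) [1] := H6_eq ▸ L6_base
noncomputable def L5 : Level where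
  ω := 21
  hs := H6
  cardH := 2
  reps := [⟨[4], 67, [], [([0], [0])], [(1, [0], [])]⟩]
  covs := [⟨[25], [([0], [0])], [⟨0, [], [], 1, []⟩,
      ⟨1, [], [], 0, [0]⟩], []⟩]
theorem L5_light : L5.lightOK C = true := by decide +kernel
theorem L5_eqns_0 : lall (L5.eqns) (eqP C) = true := by decide +kernel
theorem L5_eqns : lall (L5.eqns) (eqP C) = true := L5_eqns_0
theorem L5_H : Nat.card (C.grp L5.hs) = L5.cardH := H6_card
theorem L5_card : Nat.card (C.grp L5.gs) = 4 :=
  L5.card hC L5_light L5_eqns L5_H (by decide +kernel)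
def H5 : List Word := [[27], [26], [25], [24]]
theorem H5_eq : C.grp H5 = C.grp L5.gs :=
  grp_lapp_eq hC L5.gs [([24], [4,0])] (by decide +kernel)
theorem H5_card : Nat.card (C.grp H5) = 4 := H5_eq ▸ L5_card
theorem L5_base : IsBase (C.grp L5.gs) [21,1] :=
  isBase_level L5 hC L5_light L5_eqns L5_H H6_base
theorem H5_base : IsBase (C.grp H5) [21,1] := H5_eq ▸ L5_base
noncomputable def L4 : Level where
  ω := 6
  hs := H5
  cardH := 4
  reps := [⟨[8], 16, [], [([4], [4,0])], [(1, [0,0,0], [])]⟩]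
  covs := [⟨[23], [([4], [4,0])], [⟨0, [], [], 1, []⟩,
      ⟨1, [], [], 0, []⟩], []⟩]
theorem L4_light : L4.lightOK C = true := by decide +kernel
theorem L4_eqns_0 : lall (L4.eqns) (eqP C) = true := by decide +kernel
theorem L4_eqns : lall (L4.eqns) (eqP C) = true := L4_eqns_0
theorem L4_H : Nat.card (C.grp L4.hs) = L4.cardH := H5_card
theorem L4_card : Nat.card (C.grp L4.gs) = 8 :=
  L4.card hC L4_light L4_eqns L4_H (by decide +kernel)
def H4 : List Word := [[27], [26], [25], [24], [23], [20], [22]]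
theorem H4_eq : C.grp H4 = C.grp L4.gs :=
  grp_lapp_eq hC L4.gs [([20], [4,0]), ([22], [8])] (by decide +kernel)
theorem H4_card : Nat.card (C.grp H4) = 8 := H4_eq ▸ L4_card
theorem L4_base : IsBase (C.grp L4.gs) [6,21,1] :=
  isBase_level L4 hC L4_light L4_eqns L4_H H5_base
theorem H4_base : IsBase (C.grp H4) [6,21,1] := H4_eq ▸ L4_base
noncomputable def L3 : Level where
  ω := 10
  hs := H4
  cardH := 8
  reps := [⟨[14], 67, [4], [([0], [8,4,0]), ([8,4], [8,4])], [(1, [0,2], [])]⟩]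
  covs := [⟨[17], [([0], [8,4,0])], [⟨0, [], [], 1, []⟩,
      ⟨1, [], [], 0, [8,4]⟩,
      ⟨1, [4], [4], 1, [4]⟩], []⟩]
theorem L3_light : L3.lightOK C = true := by decide +kernel
theorem L3_eqns_0 : lall (L3.eqns) (eqP C) = true := by decide +kernel
theorem L3_eqns : lall (L3.eqns) (eqP C) = true := L3_eqns_0
theorem L3_H : Nat.card (C.grp L3.hs) = L3.cardH := H4_card
theorem L3_card : Nat.card (C.grp L3.gs) = 24 :=
  L3.card hC L3_light L3_eqns L3_H (by decide +kernel)
def H3 : List Word := [[27], [26], [25], [24], [23], [20], [22], [17], [16], [18]]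
theorem H3_eq : C.grp H3 = C.grp L3.gs :=
  grp_lapp_eq hC L3.gs [([16], [14,8,4]), ([18], [14,8])] (by decide +kernel)
theorem H3_card : Nat.card (C.grp H3) = 24 := H3_eq ▸ L3_card
theorem L3_base : IsBase (C.grp L3.gs) [10,6,21,1] :=
  isBase_level L3 hC L3_light L3_eqns L3_H H4_base
theorem H3_base : IsBase (C.grp H3) [10,6,21,1] := H3_eq ▸ L3_base
noncomputable def L2 : Level where
  ω := 15
  hs := H3
  cardH := 24
  reps := [⟨[20], 95, [4,14,4], [([0], [19,8,0]), ([8], [8,4,0])], [(1, [0,2], [])]⟩]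
  covs := [⟨[13], [([19,4], [8,0]), ([19,8,0], [0])], [⟨0, [], [], 1, []⟩,
      ⟨1, [], [19], 1, [14,8]⟩,
      ⟨1, [15], [], 0, [14]⟩,
      ⟨1, [14], [4], 1, [19,8]⟩], [0,2]⟩]
theorem L2_light : L2.lightOK C = true := by decide +kernel
theorem L2_eqns_0 : lall (L2.eqns) (eqP C) = true := by decide +kernel
theorem L2_eqns : lall (L2.eqns) (eqP C) = true := L2_eqns_0
theorem L2_H : Nat.card (C.grp L2.hs) = L2.cardH := H3_card
theorem L2_card : Nat.card (C.grp L2.gs) = 168 :=
  L2.card hC L2_light L2_eqns L2_H (by decide +kernel)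
def H2 : List Word := [[27], [26], [25], [24], [23], [20], [22], [17], [16], [18], [13], [12], [14]]
theorem H2_eq : C.grp H2 = C.grp L2.gs :=
  grp_lapp_eq hC L2.gs [([12], [21]), ([14], [0,21,4,0])] (by decide +kernel)
theorem H2_card : Nat.card (C.grp H2) = 168 := H2_eq ▸ L2_card
theorem L2_base : IsBase (C.grp L2.gs) [15,10,6,21,1] :=
  isBase_level L2 hC L2_light L2_eqns L2_H H3_base
theorem H2_base : IsBase (C.grp H2) [15,10,6,21,1] := H2_eq ▸ L2_base
noncomputable def L1 : Level where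
  ω := 4
  hs := H2
  cardH := 168
  reps := [⟨[26], 78, [14,4,20,0], [([4], [24,19,8,4]), ([25,14], [25,14])], [(3, [0,2,0,0,2,0,2,0], [])]⟩,
    ⟨[27], 40, [0,4,14,20], [([24,14], [4,0]), ([25,14], [25,14])], [(3, [0,2,0,2,0,2,0], [])]⟩,
    ⟨[26,0,27], 86, [4,20,24,18,20,0], [([19,8], [19,8]), ([0], [8,4])], [(1, [0,2,0,0], [])]⟩]
  covs := [⟨[10], [([20,19], [20,14]), ([24,14], [4,0])], [⟨0, [], [], 1, []⟩,
      ⟨1, [], [], 2, []⟩,
      ⟨2, [], [], 0, []⟩,
      ⟨2, [0], [], 3, []⟩,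
      ⟨1, [25], [25], 3, [4,24,14,0]⟩,
      ⟨3, [], [19], 1, [24,19,0]⟩,
      ⟨3, [4], [14,25], 3, [21,8]⟩,
      ⟨3, [21], [15], 2, [19]⟩], [0,2,0,2,0,0]⟩]
theorem L1_light : L1.lightOK C = true := by decide +kernel
theorem L1_eqns_0 : lall (L1.eqns) (eqP C) = true := by decide +kernel
theorem L1_eqns : lall (L1.eqns) (eqP C) = true := L1_eqns_0
theorem L1_H : Nat.card (C.grp L1.hs) = L1.cardH := H2_card
theorem L1_card : Nat.card (C.grp L1.gs) = 6048 :=
  L1.card hC L1_light L1_eqns L1_H (by decide +kernel)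
def H1 : List Word := [[27], [26], [25], [24], [23], [20], [22], [17], [16], [18], [13], [12], [14], [10], [6], [8]]
theorem H1_eq : C.grp H1 = C.grp L1.gs :=
  grp_lapp_eq hC L1.gs [([6], [0,27,20,26,4,21,8,4,0]), ([8], [26,4,27,4,24,4])] (by decide +kernel)
theorem H1_card : Nat.card (C.grp H1) = 6048 := H1_eq ▸ L1_card
theorem L1_base : IsBase (C.grp L1.gs) [4,15,10,6,21,1] :=
  isBase_level L1 hC L1_light L1_eqns L1_H H2_base
theorem H1_base : IsBase (C.grp H1) [4,15,10,6,21,1] := H1_eq ▸ L1_base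
noncomputable def L0 : Level where
  ω := 0
  hs := H1
  cardH := 6048
  reps := [⟨[32], 72, [0,4,8,30,18,20,28], [([4,27,21,19], [15,27,21,14,8]), ([8,29,4], [0,28,24,19,8,4])], [(1, [2,0,2,0,2,0,0,2,0,2], [[0]]), (2, [0,0,0], [])]⟩,
    ⟨[32,32], 6, [8,14,20,24,26,18,30,0], [([20,26,4,21,14,8,0], [4,27,19,0]), ([20,31,25], [29,4,0])], [(22, [2,0,2,0,2,2,0,2,2,0], [[0]]), (1, [0,0], [])]⟩]
  covs := [⟨[4], [([27,4,21,4], [25,26,20,8,4,0]), ([26,30,20,0], [4,25,29,24,14,8,0])], [⟨0, [], [], 1, []⟩,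
      ⟨1, [], [], 2, []⟩,
      ⟨1, [15], [], 0, [14]⟩,
      ⟨1, [26,0], [27], 1, [5,31,14,4,0]⟩,
      ⟨1, [8], [19,31], 1, [20,27,19,0]⟩,
      ⟨2, [19], [26,20], 2, [27,25,19,0]⟩,
      ⟨2, [15], [0], 1, [31,4,21,8]⟩], [0,2,0,2,0,2,2,0,0,0]⟩]
theorem L0_light : L0.lightOK C = true := by decide +kernel
theorem L0_eqns_0 : lall (L0.eqns) (eqP C) = true := by decide +kernel
theorem L0_eqns : lall (L0.eqns) (eqP C) = true := L0_eqns_0
theorem L0_H : Nat.card (C.grp L0.hs) = L0.cardH := H1_card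
theorem L0_card : Nat.card (C.grp L0.gs) = 604800 :=
  L0.card hC L0_light L0_eqns L0_H (by decide +kernel)
def H0 : List Word := [[27], [26], [25], [24], [23], [20], [22], [17], [16], [18], [13], [12], [14], [10], [6], [8], [4], [0], [2]]
theorem H0_eq : C.grp H0 = C.grp L0.gs :=
  grp_lapp_eq hC L0.gs [([0], [32,32,32]), ([2], [4,32,32,32,28])] (by decide +kernel)
theorem H0_card : Nat.card (C.grp H0) = 604800 := H0_eq ▸ L0_card
theorem L0_base : IsBase (C.grp L0.gs) [0,4,15,10,6,21,1] :=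
  isBase_level L0 hC L0_light L0_eqns L0_H H1_base
theorem H0_base : IsBase (C.grp H0) [0,4,15,10,6,21,1] := H0_eq ▸ L0_base
/-- the given generators -/
def gens : List Word := [[0], [2]]
theorem slp : slpOK C [[1,1], [5,0,2,0,5,0,2,2,2], [2,2,2,1,4,2,5,2,2], [7,7], [9,6,9,9,9,10], [11,8,6,8,7,8,6,11], [15,13,15,15,12,14,12], [15,15,12,14], [18,16,19], [18,17,19,16,16], [23,20,22,20,20], [24,24]] 2 = true := by decide +kernel
theorem gens_eq : C.grp gens = C.grp H0 :=
  grp_eq_of_slp hC slp (by decide) (by decide) (by decide)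
theorem card : Nat.card (C.grp gens) = 604800 := gens_eq ▸ H0_card
/-- every word in the table lies in the group -/
theorem all_mem {w : Word} (hw : ∀ a ∈ w, a < 28) : C.ev w ∈ C.grp gens :=
  ev_mem_of_lt (slp_mem hC _ 2 slp fun i hi => by
    rw [← ev_gen C.g i]; exact mem_grp _ ((by decide : ∀ i < 2, [2 * i] ∈ gens) i hi)) hw
theorem L0_prim : primOK L0 C [[32,0,4,8,30,32,26,30,4,20], [32,0,4,8,26,32,30,18,26,4]] = true := by decide +kernel
theorem L0_pel_0 : lall (pelEqns 25 [[29,35,1], [0,34,28,34], [35,29,35,1,36]] [([34], [0,2]), ([36], [2,4])]) (eqR lk H0 [0,4,15,10,6,21,1]) = true := by decide +kernel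
theorem L0_pel : lall (pelEqns 25 [[29,35,1], [0,34,28,34], [35,29,35,1,36]] [([34], [0,2]), ([36], [2,4])]) (eqR lk H0 [0,4,15,10,6,21,1]) = true := L0_pel_0
theorem L0_simple : IsSimpleGroup (C.grp L0.gs) :=
  simpleL L0 hC L0_light L0_eqns L0_H L0_prim H0_eq L0_base (by decide +kernel)
    (by rw [L0_card]; decide) (q := 25) (by decide +kernel) [[29,35,1], [0,34,28,34], [35,29,35,1,36]] [([34], [0,2]), ([36], [2,4])]
    ((H0_eq.symm.trans gens_eq.symm).le.trans (grp_mono _ (by decide +kernel))) hlk L0_pel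
theorem H0_simple : IsSimpleGroup (C.grp H0) := H0_eq ▸ L0_simple
end CA.J2Perm100
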