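/-
A criterion for the simplicity of the fusion system of a finite group.
-/
import Cfsg.Agent.Lib.Spor.CGFus
import Cfsg.Agent.Lib.Fus.FusTate
import Mathlib.GroupTheory.Focal

set_option autoImplicit false

namespace CA.FusCrit

open Cfsg Subgroup CA.Fus CA.AmbSyl CA.CGFus
open Cfsg.FusionSystem (normalizerIn centralizerIn)
open scoped commutatorElement

variable {D : Type*} [Group D] {K P Q : Subgroup D} {p : ℕ}

/-- the subgroup generated by the conjugates of `P` in `N_K(Q)` and by `C_K(Q)` -/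
def NC (K P Q : Subgroup D) : Subgroup D :=
  closure {x | (∃ n ∈ K, n ∈ normalizer (Q : Set D) ∧ ∃ s ∈ P, x = n * s * n⁻¹) ∨ (x ∈ K ∧ x ∈ centralizer (Q : Set D))}

/-- the elements of `N_K(P)` whose action on `P` belongs to every normal subsystem over `P` -/
def Gd (K P : Subgroup D) : Subgroup D :=
  closure {g | g ∈ K ∧ g ∈ normalizer (P : Set D) ∧ ∃ Q ≤ P, P ≤ normalizer (Q : Set D) ∧ centralizerIn P Q ≤ Q ∧
    g ∈ NC K P Q}

theorem conj_mem_NC {n s : D} (h : n ∈ K) (h' : n ∈ normalizer (Q : Set D)) (hs : s ∈ P) : n * s * n⁻¹ ∈ NC K P Q :=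
  subset_closure (.inl ⟨n, h, h', s, hs, rfl⟩)

theorem le_NC : P ≤ NC K P Q := fun s hs => by simpa using conj_mem_NC (K := K) (Q := Q) (one_mem _) (one_mem _) hs

theorem cent_mem_NC {x : D} (h : x ∈ K) (h' : x ∈ centralizer (Q : Set D)) : x ∈ NC K P Q := subset_closure (.inr ⟨h, h'⟩)

theorem mem_Gd {g : D} (h : g ∈ K) (hn : g ∈ normalizer (P : Set D)) (hQ : Q ≤ P) (h1 : P ≤ normalizer (Q : Set D))
    (h2 : centralizerIn P Q ≤ Q) (h3 : g ∈ NC K P Q) : g ∈ Gd K P := subset_closure ⟨h, hn, Q, hQ, h1, h2, h3⟩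

theorem le_Gd (h : P ≤ K) : P ≤ Gd K P := fun _ hs =>
  mem_Gd (h hs) (le_normalizer hs) le_rfl le_normalizer (centIn_le _ _) (le_NC hs)

theorem cent_mem_Gd {x : D} (h : x ∈ K) (h' : x ∈ centralizer (P : Set D)) : x ∈ Gd K P :=
  mem_Gd h (centralizer_le_normalizer _ h') le_rfl le_normalizer (centIn_le _ _) (cent_mem_NC h h')

theorem nc_le {hPK : P ≤ K} {E : FusionSystem P} (hE : E.IsInvariantIn (fusionSystemOfSubgroup K P hPK)) (hQ : Q ≤ P)
    (h1 : P ≤ normalizer (Q : Set D)) : NC K P Q ≤ (homOn_cjA Q).pre (E.autGroup Q) := by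
  rw [NC, closure_le]
  rintro x (⟨n, hn, hn', s, hs, rfl⟩ | ⟨-, hx⟩)
  · refine ⟨mul_mem (mul_mem hn' (h1 hs)) (inv_mem hn'), ?_⟩
    rw [(homOn_cjA Q).conj hn' (h1 hs)]
    exact (mem_normalizer_iff.1 (inv_norm_aut hE hQ (by rw [aut_ofSubgroup hPK hQ]; exact cjA_mem_autInd hn hn')) _).1
      (cjA_mem_aut E hQ ⟨hs, h1 hs⟩)
  · exact ⟨centralizer_le_normalizer _ hx, (cjA_eq_one_iff (centralizer_le_normalizer _ hx)).2 hx ▸ one_mem _⟩

variable [Fact p.Prime] [Finite K]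

theorem inn_of_cent (hS : SylIn p P K) (hQ : Q ≤ P) (h1 : P ≤ normalizer (Q : Set D)) (h2 : centralizerIn P Q ≤ Q)
    {u : D} (hu : u ∈ K) (hn : u ∈ normalizer (P : Set D)) (hc : u ∈ centralizer (Q : Set D)) : cjA P u ∈ Inn P := by
  have : Finite P := Finite.of_injective _ (inclusion_injective hS.le)
  obtain ⟨a, ha⟩ := hS.pg.exists_card_eq
  have h3 : cjA P u ^ p ^ a = 1 := aut_eq_one_iff.2 fun s hs => by
    have h4 : s⁻¹ * (u * s * u⁻¹) ∈ Q := h2 ⟨P.mul_mem (P.inv_mem hs) ((mem_normalizer_iff.1 hn s).1 hs), fun y hy => by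
      have e1 := hc _ ((mem_normalizer_iff.1 (h1 hs) y).1 hy)
      have e2 := hc y hy
      calc y * (s⁻¹ * (u * s * u⁻¹)) = s⁻¹ * ((s * y * s⁻¹) * u) * s * u⁻¹ := by group
        _ = s⁻¹ * u * s * (y * u) * u⁻¹ * u⁻¹ := by rw [e1]; group
        _ = _ := by rw [e2]; have e3 : y * u⁻¹ = u⁻¹ * y := by rw [eq_inv_mul_iff_mul_eq, ← mul_assoc, ← e2]; group
                    calc _ = s⁻¹ * u * s * (u * y * u⁻¹) * u⁻¹ := by group
                      _ = s⁻¹ * u * s * (y * u⁻¹) := by rw [← e2]; group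
                      _ = _ := by rw [e3]; group⟩
    have h5 : ∀ n : ℕ, act (cjA P u ^ n) s = s * (s⁻¹ * (u * s * u⁻¹)) ^ n := fun n => by
      induction n with
      | zero => simp [act_one]
      | succ n ih =>
        have e1 := hc _ (pow_mem h4 n)
        rw [act_pow_succ, ih, act_cjA hn (mul_mem hs (pow_mem (hQ h4) n)), pow_succ']
        generalize (s⁻¹ * (u * s * u⁻¹)) ^ n = c at e1
        calc _ = u * s * u⁻¹ * (u * c) * u⁻¹ := by group
          _ = _ := by rw [← e1]; group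
    rw [h5, ← ha, show (s⁻¹ * (u * s * u⁻¹)) ^ Nat.card P = 1 from
      congrArg Subtype.val (pow_card_eq_one' (x := (⟨_, hQ h4⟩ : P))), mul_one]
  exact (sat_syl_top hS.pg (sat_ofSub (hTH := hS.le) hS)).le_of_norm' (isPGroup_zpowers h3)
    (by rw [zpowers_le, aut_ofSubgroup hS.le le_rfl]; exact cjA_mem_autInd hu hn) (norm_inn _ _) (mem_zpowers _)

theorem gd_le (hS : SylIn p P K) {E : FusionSystem P} (hE : E.IsWeaklyNormalIn (fusionSystemOfSubgroup K P hS.le) p) :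
    Gd K P ≤ (homOn_cjA P).pre (E.autGroup P) := by
  have : Finite P := Finite.of_injective _ (inclusion_injective hS.le)
  rw [Gd, closure_le]
  rintro g ⟨hg, hn, Q, hQ, h1, h2, h3⟩
  obtain ⟨h4, h5⟩ := nc_le (wn_inv hE) hQ h1 h3
  have h6 : Mor E Q (cj g) := ((mem_aut hQ).1 h5).congr fun x hx => act_cjA h4 hx
  obtain ⟨k, hk, e⟩ := rec_ext_le (sat_rec' hS.pg (wn_sat hE) (fullyNorm_of_normal hQ h1)) h6 (img_cj_eq_iff.2 h4)
    (N := P) fun s hs => ⟨hs, h1 hs, g * s * g⁻¹, (mem_normalizer_iff.1 hn s).1 hs, fun x _ => by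
      simp only [cj_apply]; group⟩
  rw [sup_eq_right.2 hQ] at hk
  obtain ⟨-, -, h, hh, e'⟩ := (mor_ofSubgroup hS.le).1 (hk.sub (inv_sub (wn_inv hE)))
  obtain ⟨α, hα, e''⟩ := hk.exists_aut fun _ => hk.mem
  have h7 : ∀ x ∈ P, act α x = h * x * h⁻¹ := fun x hx => (e'' x hx).trans (e' x hx)
  have h8 := mem_norm_of_act h7
  have h9 := inn_le_aut E le_rfl (inn_of_cent hS hQ h1 h2 (mul_mem (inv_mem hh) hg) (mul_mem (inv_mem h8) hn)
    fun y hy => by
      have : h * y * h⁻¹ = g * y * g⁻¹ := (e' y (hQ hy)).symm.trans (e y hy)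
      calc _ = h⁻¹ * (h * y * h⁻¹) * g := by group
        _ = _ := by rw [this]; group)
  refine ⟨hn, ?_⟩
  have := mul_mem (eq_cjA h7 ▸ hα) h9
  rwa [← (homOn_cjA P).mul h8 (mul_mem (inv_mem h8) hn), mul_inv_cancel_left] at this

theorem simple_ofSub (hS : SylIn p P K) (hne : P ≠ ⊥) (hs : NoSC K P)
    (hN : ∀ g ∈ K, g ∈ normalizer (P : Set D) → g ∈ Gd K P) : (fusionSystemOfSubgroup K P hS.le).IsSimple p := by
  refine ⟨sat_ofSub hS, hne, fun T E hE => or_iff_not_imp_left.2 fun hT => ?_⟩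
  obtain ⟨h1, h2⟩ := sc_ofSub.1 (nm_sc hE)
  obtain rfl : T = P := le_antisymm h1 (hs T h1 hT fun g hg x hx => h2 x hx g hg)
  refine ⟨rfl, fun Q => hom_eq_iff.2 fun f => ⟨fun h => h.sub (nm_sub hE), fun h => ?_⟩⟩
  obtain ⟨α, hα, f₀, h3, h4⟩ := inv_fratC (nm_inv hE) Q f h.le h
  rw [aut_ofSubgroup hS.le le_rfl, mem_autInd'] at hα
  obtain ⟨g, hg, rfl⟩ := hα
  exact (h3.comp ((mem_aut le_rfl).1 (gd_le hS hE.1 (hN g hg.1 hg.2)).2) fun _ => h3.mem).congr
    fun x hx => (h4 x hx).symm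

theorem simple_top {Γ : Type*} [Group Γ] [Finite Γ] (S : Sylow p Γ) (hne : (S : Subgroup Γ) ≠ ⊥)
    (hs : NoSC ⊤ (S : Subgroup Γ)) (hN : ∀ g ∈ normalizer (S : Set Γ), g ∈ Gd ⊤ (S : Subgroup Γ)) :
    (groupFusionSystem (S : Subgroup Γ)).IsSimple p :=
  group_eq_ofSubgroup (S : Subgroup Γ) ▸ simple_ofSub (sylIn_top S) hne hs fun g _ => hN g

theorem simple_of_crit2 [Finite D] {a m : ℕ} (hPK : P ≤ K) (hP : Nat.card P = p ^ a) (ha : 0 < a)
    (hK : Nat.card K = p ^ a * m) (hm : ¬ p ∣ m) (hs : NoSC K P)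
    (hN : ∀ g ∈ K, g ∈ normalizer (P : Set D) → g ∈ Gd K P) {Γ : Type*} [Group Γ] (e : K ≃* Γ) (S : Sylow p Γ) :
    (groupFusionSystem (S : Subgroup Γ)).IsSimple p := by
  obtain ⟨f, hf, hfK, hfP⟩ := exists_sylow_hom hPK hP hK hm e S
  have e1 : (S : Subgroup Γ).map f = P := le_antisymm (map_le_iff_le_comap.2 fun y hy => (hfP y).1 hy) fun x hx => by
    obtain ⟨y, rfl⟩ := (hfK x).1 (hPK hx)
    exact ⟨y, (hfP y).2 hx, rfl⟩
  have e2 : (⊤ : Subgroup Γ).map f = K := Subgroup.ext fun x => by simp [hfK]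
  have hS : SylIn p P K := e1 ▸ e2 ▸ (sylIn_top S).map_injective hf
  have h := simple_ofSub hS (fun h => by
    rw [h, card_bot] at hP
    exact absurd hP.symm (Nat.one_lt_pow ha.ne' (Fact.out : p.Prime).one_lt).ne') hs hN
  have hl := Function.leftInverse_invFun hf
  have i : HIso (S : Subgroup Γ) P f (Function.invFun f) := ⟨homOn_hom _ _, fun y hy => (hfP y).1 hy,
    fun x hx => by obtain ⟨y, rfl⟩ := (hfK x).1 (hPK hx); rw [hl]; exact (hfP y).2 hx, fun y _ => hl y,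
    fun x hx => by obtain ⟨y, rfl⟩ := (hfK x).1 (hPK hx); rw [hl]⟩
  refine FIso.simple hS.pg (FIso.symm ⟨i, fun {Q k} hk => ?_, fun {Q k} hk => ?_⟩) h
  · obtain ⟨h1, h2, g, h3⟩ := mor_group.1 hk
    refine (mor_ofSubgroup _).2 ⟨img_le_iff.2 fun y hy => i.mapf y (h1 hy), fun x hx => ?_, f g, (hfK _).2 ⟨g, rfl⟩,
      fun x hx => ?_⟩ <;> obtain ⟨y, hy, rfl⟩ := (homOn_hom Q f).mem_img.1 hx <;> rw [hl]
    · exact i.mapf _ (h2 y hy)
    · rw [h3 y hy, map_mul, map_mul, map_inv]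
  · obtain ⟨h1, h2, g, hg, h3⟩ := (mor_ofSubgroup _).1 hk
    obtain ⟨g, rfl⟩ := (hfK g).1 hg
    refine mor_group.2 ⟨img_le_iff.2 fun y hy => i.mapg y (h1 hy), fun x hx => ?_, g, fun x hx => ?_⟩ <;>
      obtain ⟨y, hy, rfl⟩ := (i.symm.hom.mono h1).mem_img.1 hx <;> rw [i.fg y (h1 hy)]
    · exact i.mapg _ (h2 y hy)
    · obtain ⟨z, rfl⟩ := (hfK y).1 (hPK (h1 hy))
      rw [h3 _ hy, ← map_inv, ← map_mul, ← map_mul, hl, hl]

/-- In a perfect group, a strongly closed subgroup modulo which the Sylow subgroup is centralized by its normalizer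
is the whole Sylow subgroup. -/
theorem le_of_sc {Γ : Type*} [Group Γ] [Finite Γ] (hG : commutator Γ = ⊤) (S : Sylow p Γ) {T : Subgroup Γ}
    (hT : T ≤ S) (hs : ∀ g, ∀ x ∈ T, g * x * g⁻¹ ∈ (S : Subgroup Γ) → g * x * g⁻¹ ∈ T)
    (hN : ∀ g ∈ normalizer (S : Set Γ), ∀ x ∈ (S : Subgroup Γ), x⁻¹ * (g * x * g⁻¹) ∈ T) : (S : Subgroup Γ) ≤ T := by
  have h1 := focal_le_of_sc S.isPGroup' (sat_group (sylIn_top S)) (Q := T)
    (by rw [group_eq_ofSubgroup, sc_ofSub]; exact ⟨hT, fun x hx g _ => hs g x hx⟩)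
    (commutator_le.2 fun x hx y hy => by
      simpa [commutatorElement_def, mul_assoc] using hN y (le_normalizer hy) x⁻¹ (inv_mem hx)) fun α hα x hx => by
      rw [aut_group le_rfl, mem_autInd] at hα
      obtain ⟨g, hg, e⟩ := hα
      rw [e x hx]; exact hN g hg.2 x hx
  refine le_trans ?_ h1
  have h2 := Subgroup.commutator_inf_eq_focalSubgroup S
  rw [hG, top_inf_eq] at h2
  refine h2.le.trans ((closure_le _).2 ?_)
  rintro _ ⟨h3, x, hx, u, rfl⟩
  have h4 : u * x⁻¹ * u⁻¹ ∈ (S : Subgroup Γ) := by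
    simpa [commutatorElement_def, mul_assoc] using mul_mem (inv_mem hx) h3
  have := mem_focal (F := groupFusionSystem (S : Subgroup Γ)) (P := zpowers x⁻¹) (f := cj u) (mor_group.2
    ⟨zpowers_le.2 (inv_mem hx), fun y hy => by
      obtain ⟨i, rfl⟩ := mem_zpowers_iff.1 hy
      rw [cj_apply, ← conj_zpow]; exact zpow_mem h4 i, u, fun _ _ => rfl⟩) (mem_zpowers _)
  simpa [commutatorElement_def, mul_assoc] using this

end CA.FusCrit
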