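/-
A certificate for the simplicity of the fusion system of a computable group.
-/
import Cfsg.Agent.Lib.Spor.FusCrit
import Cfsg.Agent.Lib.Spor.H28CG

set_option autoImplicit false

namespace CA.CGSim

open CA.NatBits CA.OrbBfs CA.CGroup CA.CGParts CA.CGCert CA.CGFus CA.H28CG CA.FusCrit MulAction

variable {D : Type*} [Group D] {G : CG D} {X : Type*} [MulAction D X] {A : CAct G X}

/-- conjugation of codes -/
noncomputable def cjG (mul : ℕ → ℕ → ℕ) (inv : ℕ → ℕ) (a c : ℕ) : ℕ :=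
  force (mul a c) fun x => force (inv a) fun i => mul x i

theorem R_cjG {a c : ℕ} {g x : D} (h : G.R a g) (h' : G.R c x) : G.R (cjG G.mul G.inv a c) (g * x * g⁻¹) :=
  G.R_mul (G.R_mul h h') (G.R_inv h)

/-- `lP` generates a group `P` of order `N` inside the group generated by `lH`, which normalizes the group `Q` given by
`wQ`, with `C_P(Q) ≤ Q`, and which is generated by conjugates of elements of `P` -/
noncomputable def gdOK (mul cj : ℕ → ℕ → ℕ) (inv : ℕ → ℕ) (one : ℕ) (lH lP : List ℕ) (N : ℕ)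
    (wP wQ cs fin : List (List ℕ)) : Bool :=
  mapK (evalW mul inv one lH) wP (fun r => decide (r = lP)) &&
    mapK (evalW mul inv one lP) wQ fun lQ => orb mul lQ one fun q _ =>
      allL lH (fun n => allL lQ fun a => force (cj n a) q.mem) &&
      (orb mul lP one (fun t n => Nat.beq n N && t.all fun c _ => q.mem c ||
        anyL lQ fun a => !(Nat.beq (cj a c) c)) &&
      mapK (fun w => force (evalW mul inv one lH w.tail) fun n => cj n (nth one lP (w.headD 0))) cs fun tab =>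
        mapK (evalW mul inv one tab) fin fun r => decide (r = lH))

theorem gdOK_spec [Finite D] {cj : ℕ → ℕ → ℕ}
    (hc : ∀ {a c : ℕ} {g x : D}, G.R a g → G.R c x → G.R (cj a c) (g * x * g⁻¹))
    (hi : ∀ {c d : ℕ} {x : D}, G.R c x → G.R d x → c = d) {K : Subgroup D} {lH lP : List ℕ} (hH : G.In lH K) {N : ℕ}
    {wP wQ cs fin : List (List ℕ)} (h : gdOK G.mul cj G.inv G.one lH lP N wP wQ cs fin = true) :
    G.In lP (G.gen lH) ∧ Nat.card (G.gen lP) = N ∧
      ∀ g ∈ G.gen lH, g ∈ Subgroup.normalizer (G.gen lP : Set D) → g ∈ Gd K (G.gen lP) := by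
  rw [gdOK, mapK_eq, mapK_eq, Bool.and_eq_true, decide_eq_true_eq] at h
  have hP : G.In lP (G.gen lH) := h.1 ▸ in_words hH.ok.in_gen wP
  have hQ := in_words hP.ok.in_gen wQ
  generalize wQ.map (evalW G.mul G.inv G.one lP) = lQ at h hQ
  obtain ⟨q, -, h1, -, hq, -⟩ := elts_spec hi hQ.ok h.2
  simp only [Bool.and_eq_true, mapK_eq, decide_eq_true_eq, allL_iff, force_eq] at h1
  obtain ⟨h1, h2, h3⟩ := h1
  obtain ⟨t, n, h4, h5, -, ht⟩ := elts_spec hi hP.ok h2
  rw [Bool.and_eq_true, beq_iff] at h4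
  have hn : G.gen lH ≤ Subgroup.normalizer (G.gen lQ : Set D) := CG.In.gen_le (CG.In.of_forall hH.ok fun c hc' g hg =>
    Subgroup.mem_normalizer_fintype fun x hx => by
      refine (?_ : G.gen lQ ≤ (G.gen lQ).comap (MulAut.conj g).toMonoidHom) hx
      exact CG.In.gen_le (CG.In.of_forall hQ.ok fun a ha y hy => (hq _ _ (hc hg hy)).2 (h1 c hc' a ha)))
  have h6 : G.gen lH ≤ NC K (G.gen lP) (G.gen lQ) := by
    refine CG.In.gen_le (h3 ▸ in_words (fun c hc' => ?_) fin)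
    obtain ⟨w, -, rfl⟩ := List.mem_map.1 hc'
    obtain ⟨g, hg, e⟩ := evalW_mem hH.ok.in_gen w.tail
    obtain ⟨s, hs, e'⟩ : ∃ s ∈ G.gen lP, G.R (nth G.one lP (w.headD 0)) s := by
      rcases nth_mem G.one lP (w.headD 0) with e' | e'
      · exact ⟨1, one_mem _, e'.symm ▸ G.R_one⟩
      · exact hP.ok.in_gen _ e'
    exact ⟨_, conj_mem_NC (hH.gen_le hg) (hn hg) hs, hc e e'⟩
  refine ⟨hP, h5.trans h4.1, fun g hg hg' => mem_Gd (hH.gen_le hg) hg' hQ.gen_le (hP.gen_le.trans hn)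
    (fun x hx => ?_) (h6 hg)⟩
  obtain ⟨c, v, e, h7⟩ := ht _ h4.2 x hx.1
  simp only [Bool.or_eq_true, anyL_iff] at h7
  rcases h7 with h7 | ⟨a, ha, h7⟩
  · exact (hq c x e).2 h7
  · obtain ⟨y, hy⟩ := hQ.ok a ha
    have h8 := hc hy e
    rw [hx.2 y (CG.mem_gen ha hy), mul_inv_cancel_right] at h8
    rw [hi h8 e] at h7
    simp at h7

theorem simple_cert [Finite D] {cj : ℕ → ℕ → ℕ}
    (hc : ∀ {a c : ℕ} {g x : D}, G.R a g → G.R c x → G.R (cj a c) (g * x * g⁻¹))
    (hi : ∀ {c d : ℕ} {x : D}, G.R c x → G.R d x → c = d) {p a m : ℕ} [Fact p.Prime] {K : Subgroup D}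
    {lK lH lP : List ℕ} (hK : G.In lK K) (hH : G.In lH K) (ha : 0 < a) (hN : Nat.card K = p ^ a * m) (hm : ¬ p ∣ m)
    (hn : G.In lP (G.gen lH) → ∀ g ∈ K, g ∈ Subgroup.normalizer (G.gen lP : Set D) → g ∈ G.gen lH)
    (wP wQ cs fin : List (List ℕ)) (h1 : gdOK G.mul cj G.inv G.one lH lP (p ^ a) wP wQ cs fin = true) (z : ℕ)
    (steps : List (List ℕ × List ℕ)) (fin' : List (List ℕ))
    (h2 : scOK G.mul cj G.inv G.one lK lP z steps fin' = true) {Γ : Type*} [Group Γ] (e : K ≃* Γ) (S : Sylow p Γ) :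
    (Cfsg.groupFusionSystem (S : Subgroup Γ)).IsSimple p := by
  obtain ⟨h3, h4, h5⟩ := gdOK_spec hc hi hH h1
  have h6 := h3.gen_le.trans hH.gen_le
  exact simple_of_crit2 h6 h4 ha hN hm (noSC_of hc hi hK h3.ok rfl h6 (IsPGroup.of_card h4) z steps fin' h2)
    (fun g hg hg' => h5 g (hn h3 g hg hg') hg') e S

/-- one step down a chain of stabilisers containing the normalizer -/
theorem norm_step [Finite D] {K : Subgroup D} {l lP : List ℕ} {N : ℕ} (hl : Sg G l K N) (hP : G.Ok lP) {c : ℕ} {x : X}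
    (hx : A.S c x) (h : (allL lP (fun a => Nat.beq (A.act a c) c) && uniqFix A.act l lP c) = true) {g : D} (hg : g ∈ K)
    (hn : g ∈ Subgroup.normalizer (G.gen lP : Set D)) : g ∈ K ⊓ stabilizer D x := by
  rw [Bool.and_eq_true] at h
  exact ⟨hg, norm_le_stab hl.1 hl.2.1 hP.in_gen hx (A.in_stabilizer hP hx h.1).gen_le h.2 hg hn⟩

theorem base_map {α β : Type*} {S : ℕ → α → Prop} (f : ℕ → ℕ) (g : ℕ → α) {L : List (ℕ × β)}
    (h : ∀ p ∈ L.map Prod.fst, S (f p) (g p)) : ∀ c ∈ (L.map fun q => (f q.1, q.2)).map Prod.fst, ∃ y, S c y := by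
  simp only [List.map_map, List.forall_mem_map] at h ⊢
  exact fun q hq => ⟨_, h q hq⟩

end CA.CGSim
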