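import Cfsg.Agent.Lib.Comp.CPres
import Cfsg.Prelude.Def_Spor_Suz

set_option autoImplicit false
set_option maxRecDepth 100000

namespace CA.SuzRel
open CA.CWord CA.CPres Cfsg.Spor

def gen (i : ℕ) : Suz.Gen := [.a, .b, .c, .d, .e, .f, .g].getD i .a

def idx : Suz.Gen → ℕ
  | .a => 0
  | .b => 1
  | .c => 2
  | .d => 3
  | .e => 4
  | .f => 5
  | .g => 6

def rels : List Word := [[0,0], [2,2], [4,4], [6,6], [8,8], [10,10], [12,12], [0,2,0,2,0,2,0,2,0,2], [0,4,0,4], [0,6,0,6], [0,8,0,8], [0,10,0,10], [0,12,0,12], [2,4,2,4,2,4], [2,6,2,6], [2,8,2,8], [2,10,2,10,2,10], [2,12,2,12,2,12], [4,6,4,6,4,6,4,6,4,6,4,6,4,6,4,6], [4,8,4,8], [4,10,4,10], [4,12,4,12], [6,8,6,8,6,8], [6,10,6,10], [6,12,6,12], [8,10,8,10], [8,12,8,12], [10,12,10,12,10,12,10,12], [0,7,5,7,5,7,5,7,5], [0,13,11,13,11], [0,2,4,10,0,2,4,10,0,2,4,10,0,2,4,10,0,2,4,10],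 [2,10,12,2,10,12,2,10,12,2,10,12,2,10,12], [2,4,6,4,6,2,4,6,4,6,2,4,6,4,6,2,4,6,4,6,2,4,6,4,6,8,2,4,6,4,6,2,4,6,4,6,2,4,6,4,6,2,4,6,4,6,2,4,6,4,6,8,2,4,6,4,6,2,4,6,4,6,2,4,6,4,6,2,4,6,4,6,2,4,6,4,6,8]]

def gens : List Word := [[0], [2], [4], [6], [8], [10], [12]]

theorem enc : Enc Suz.edges Suz.extra gen 7 rels :=
  enc_of idx [(.a, .a), (.b, .b), (.c, .c), (.d, .d), (.e, .e), (.f, .f), (.g, .g), (.a, .b), (.a, .c), (.a, .d), (.a, .e), (.a, .f), (.a, .g), (.b, .c), (.b, .d), (.b, .e), (.b, .f), (.b, .g), (.c, .d), (.c, .e), (.c, .f), (.c, .g), (.d, .e), (.d, .f), (.d, .g), (.e, .f), (.e, .g), (.f, .g)]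
    [[0,7,5,7,5,7,5,7,5], [0,13,11,13,11], [0,2,4,10,0,2,4,10,0,2,4,10,0,2,4,10,0,2,4,10], [2,10,12,2,10,12,2,10,12,2,10,12,2,10,12], [2,4,6,4,6,2,4,6,4,6,2,4,6,4,6,2,4,6,4,6,2,4,6,4,6,8,2,4,6,4,6,2,4,6,4,6,2,4,6,4,6,2,4,6,4,6,2,4,6,4,6,8,2,4,6,4,6,2,4,6,4,6,2,4,6,4,6,2,4,6,4,6,2,4,6,4,6,8]]
    (fun x => by cases x <;> decide) (by decide) (by decide +kernel) (by decide +kernel) (by decide +kernel)
    (by decide +kernel) (by decide +kernel)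

end CA.SuzRel
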