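import Cfsg.Agent.Lib.Spor.SuzTC
import Cfsg.Agent.Lib.Spor.SuzPerm
import Cfsg.Agent.Lib.Comp.CLow
set_option autoImplicit false
set_option maxRecDepth 100000
universe u
namespace CA.SuzPres
open CA.CNet CA.CWord CA.CLevel CA.CSimple CA.CPoint CA.CTodd CA.CPres CA.CLow CA.SuzPerm Cfsg.Spor
theorem hrel : ∀ r ∈ SuzRel.rels, C.ev r = 1 := rels_of_eqW hC (by decide +kernel)
abbrev g := pg Suz.edges Suz.extra SuzRel.gen
theorem top : grp g gens = ⊤ := SuzRel.enc.top _ (by decide)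
theorem inj : ∃ φ : Suz →* Equiv.Perm (Fin C.n),
    (∀ w : Word, (∀ a ∈ w, a < 2 * 7) → φ (ev g w) = C.ev w) ∧
    (∀ ws : List Word, (∀ w ∈ ws, ∀ a ∈ w, a < 2 * 7) → (grp g ws).map φ = C.grp ws) ∧
    ∀ x ∈ grp g gens, φ x = 1 → x = 1 :=
  SuzRel.enc.inj SuzTC.bound hrel (by decide) card.ge
theorem equiv : Nonempty (Suz ≃* C.grp gens) := by
  obtain ⟨φ, -, h2, h3⟩ := inj
  exact equiv_top φ top h3 (h2 _ (by decide))
theorem simple : IsSimpleGroup (C.grp gens) := gens_eq ▸ H0_simple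
theorem coset_fix : ∀ x ∈ C.grp [[0], [2], [4], [6], [8], [10]], x (⟨0, by decide⟩ : Fin C.n) = ⟨0, by decide⟩ := fix_of_mapsP hlk (by decide +kernel)
theorem coset_trans : ∀ i, ∃ x ∈ C.grp gens, x (⟨0, by decide⟩ : Fin C.n) = i :=
  trans_of_clo hC (sched := [12,2,0,4,10,6,2,4,8,2,10,0,6,12,2,4,6,2,12,0,10,8,4,2,0,4,2,10]) (by decide +kernel)
theorem orb416 : Nat.card {i : Fin C.n // ∃ x ∈ C.grp [[0], [2], [4], [6], [8], [10]], x (C.ev [12,2,4,6,4,2,12] ⟨0, by decide⟩) = i} = 416 :=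
  card_orbit hC (q := 47) (sched := [0,6,8,10,2,4,6,4,2,0,6,8,10,2,4,0,2]) (mapsP_spec hlk (by decide +kernel)) (by decide +kernel) (by decide +kernel)
theorem orb1365 : Nat.card {i : Fin C.n // ∃ x ∈ C.grp [[0], [2], [4], [6], [8], [10]], x (C.ev [12] ⟨0, by decide⟩) = i} = 1365 :=
  card_orbit hC (q := 1) (sched := [2,0,4,10,6,2,4,8,2,10,0,6,2,4,6,2,0,10,2,4,8,10,2,6]) (mapsP_spec hlk (by decide +kernel)) (by decide +kernel) (by decide +kernel)
def lowU4_w3 : List Word := [[4], [6,4,2,0,10,2,0,2,10,6], [2,0,2,6,0,4,2,6,0,4,2,0,2,6,0,4,2,6,0]]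
theorem lowU4_3 : Low (C.grp lowU4_w3) 36 [14] :=
  low_orb hC hlk 14 (by decide) [(14,0), (14,2), (14,3), (14,4), (14,5), (26,2), (26,3), (26,4), (26,5), (496,0), (496,4), (496,5), (103,0), (103,4), (103,5), (1081,2), (1081,3), (1235,2), (1235,3), (1079,0), (1079,4), (1079,5), (996,0), (996,4), (996,5), (1431,2), (1431,3), (1579,2), (1579,3), (723,3), (984,3), (1665,3), (160,2), (646,2), (543,2)] (m := 36) (grp_mono _ (by decide +kernel))
    (by decide +kernel) (by decide +kernel) (low_nil C) (by decide)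
def lowU4_w2 : List Word := [[4], [6,4,2,0,10,2,0,2,10,6], [2,0,2,6,0,4,2,6,0,4,2,0,2,6,0,4,2,6,0], [2], [0,2,4,6]]
theorem lowU4_2 : Low (C.grp lowU4_w2) 2160 [1,14] :=
  low_orb hC hlk 1 (by decide) [(1,6), (1,8), (1,9), (2,0), (2,2), (2,3), (2,8), (2,9), (8,0), (8,3), (8,8), (3,6), (3,9), (4,2), (4,9), (67,0), (67,6), (67,8), (67,9), (15,0), (15,6), (15,8), (18,0), (18,3), (18,8), (7,2), (7,6), (7,9), (13,2), (13,3), (13,6), (13,8), (13,9), (31,0), (31,8), (61,8), (6,9), (255,0), (255,6), (255,8), (255,9), (44,2), (44,6), (107,6), (107,8), (109,0), (109,3), (109,8), (109,9), (102,8), (27,6), (87,0), (87,8), (215,9), (11,9), (25,2), (25,3), (165,0), (437,8)] (m := 60) (grp_mono _ (by decide +kernel))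
    (by decide +kernel) (by decide +kernel) lowU4_3 (by decide)
def lowU4_w1 : List Word := [[4], [6,4,2,0,10,2,0,2,10,6], [2,0,2,6,0,4,2,6,0,4,2,0,2,6,0,4,2,6,0], [2], [0,2,4,6], [0]]
theorem lowU4_1 : Low (C.grp lowU4_w1) 120960 [47,1,14] :=
  low_orb hC hlk 47 (by decide) [(47,10), (76,2), (76,3), (76,6), (76,8), (76,9), (81,6), (81,8), (81,9), (82,6), (82,8), (82,9), (99,2), (99,3), (99,9), (99,10), (72,10), (228,2), (129,0), (129,2), (129,9), (317,0), (317,8), (317,10), (234,2), (130,0), (130,2), (130,3), (130,9), (130,10), (315,0), (315,8), (315,10), (188,10), (116,6), (116,10), (198,6), (347,2), (347,6), (347,9), (202,0), (154,8), (154,9), (154,10), (472,2), (472,3), (472,6), (472,10), (201,10), (615,10), (294,6), (294,10), (180,2), (901,10), (278,2)] (m := 56) (grp_mono _ (by decide +kernel))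
    (by decide +kernel) (by decide +kernel) lowU4_2 (by decide)
theorem lowU4 : Low (C.grp [[0], [2], [4], [6], [10], [12]]) 19595520 [0,47,1,14] :=
  low_orb hC hlk 0 (by decide) [(0,10), (1,2), (2,0), (2,4), (2,8), (3,2), (3,4), (4,6), (4,8), (6,4), (7,2), (7,6), (8,4), (8,8), (9,2), (10,2), (10,6), (11,0), (11,6), (11,8), (11,10), (12,4), (13,2), (13,8), (15,2), (16,10), (17,6), (17,8), (18,4), (19,6), (19,8), (20,4), (20,8), (20,10), (22,8), (23,2), (25,0), (25,8), (25,10), (27,2), (29,4), (31,4), (31,8), (33,2), (35,8), (37,2), (37,6), (37,8), (37,10), (40,8), (41,2), (42,0), (42,8), (42,10), (44,8), (44,10), (46,2), (46,10), (47,8), (53,2), (53,8), (56,8), (60,0), (60,6), (60,8), (60,10), (61,4), (61,8), (63,2), (64,8), (67,2), (69,8), (69,10), (71,10), (72,8), (75,2), (81,2), (82,2), (87,8), (89,2), (92,10), (95,2), (95,8), (95,10), (96,8), (96,10), (98,2), (98,10), (99,8), (102,2), (106,0), (106,10), (107,2), (109,4), (111,2), (116,2),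 (117,2), (122,0), (122,4), (122,10), (129,0), (129,4), (129,8), (130,4), (130,10), (135,2), (138,0), (138,10), (141,2), (143,8), (143,10), (145,2), (146,2), (148,2), (148,10), (149,8), (153,0), (159,4), (165,2), (166,8), (167,0), (167,4), (169,6), (173,0), (173,4), (173,10), (179,0), (179,4), (180,4), (180,10), (186,2), (186,4), (187,6), (187,10), (198,4), (199,6), (199,8), (201,6), (201,10), (223,2), (257,4), (258,6), (278,6), (278,10), (292,6), (293,10), (294,2), (314,6), (315,8), (317,4), (317,10), (318,2), (387,6), (415,4), (415,10), (438,2), (472,2), (472,10), (473,2), (614,2), (688,8)] (m := 162) (le_of_subst _ [[4], [6,4,2,0,8,2,0,2,8,6], [2,0,2,6,0,4,2,6,0,4,2,0,2,6,0,4,2,6,0], [2], [0,2,4,6], [0]] (by decide +kernel))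
    (by decide +kernel) (by decide +kernel) lowU4_1 (by decide)
theorem cardU4 : Nat.card (C.grp [[0], [2], [4], [6], [10], [12]]) = 19595520 := lowU4.card (SuzTC.b_U4 _ _ hrel).2
end CA.SuzPres
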