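import Cfsg.Agent.Lib.Comp.CPoint

/-!
Bit-sliced counters: a list of masks is a little-endian binary number at every bit position.
`nz l` is the mask of the positions where an integer linear form in the columns `l` is nonzero.
-/

set_option autoImplicit false
namespace CA.BitCount
open CA.CNet CA.CWord

/-- the value of a counter at the position `j` -/
def val : List ℕ → ℕ → ℕ
  | [], _ => 0
  | a :: c, j => (a.testBit j).toNat + 2 * val c j

theorem val_nil (j : ℕ) : val [] j = 0 := rfl
theorem val_cons (a : ℕ) (c : List ℕ) (j : ℕ) :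
    val (a :: c) j = (a.testBit j).toNat + 2 * val c j := rfl

noncomputable def inc (c : List ℕ) : ℕ → List ℕ :=
  List.rec (motive := fun _ => ℕ → List ℕ)
    (fun x => Nat.rec (motive := fun _ => List ℕ) [] (fun x' _ => [Nat.succ x']) x)
    (fun a t ih x => Nat.rec (motive := fun _ => List ℕ) (a :: t)
      (fun x' _ => force (Nat.xor a (Nat.succ x')) fun s => s :: ih (Nat.land a (Nat.succ x'))) x) c

theorem val_inc (c : List ℕ) (x j : ℕ) : val (inc c x) j = val c j + (x.testBit j).toNat := by
  induction c generalizing x with
  | nil =>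
    cases x with
    | zero => show val [] j = _; simp [val]
    | succ x => show val [x + 1] j = _; simp [val]
  | cons a t ih =>
    cases x with
    | zero => show val (a :: t) j = _; simp
    | succ x =>
      show val (force (a ^^^ (x + 1)) fun s => s :: inc t (a &&& (x + 1))) j = _
      rw [force_eq, val_cons, val_cons, ih, Nat.testBit_xor, Nat.testBit_and]
      cases a.testBit j <;> cases (x + 1).testBit j <;> simp <;> omega

noncomputable def incAt (k : ℕ) : List ℕ → ℕ → List ℕ :=
  Nat.rec (motive := fun _ => List ℕ → ℕ → List ℕ) inc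
    (fun _ ih c x => List.rec (motive := fun _ => List ℕ) (0 :: ih [] x)
      (fun a t _ => a :: ih t x) c) k

theorem val_incAt (k : ℕ) (c : List ℕ) (x j : ℕ) :
    val (incAt k c x) j = val c j + 2 ^ k * (x.testBit j).toNat := by
  induction k generalizing c with
  | zero => show val (inc c x) j = _; rw [val_inc]; simp
  | succ k ih =>
    cases c with
    | nil => show val (0 :: incAt k [] x) j = _; rw [val_cons, ih]; simp [val_nil]; ring
    | cons a t => show val (a :: incAt k t x) j = _; rw [val_cons, val_cons, ih]; ring

noncomputable def addN (n : ℕ) (c : List ℕ) (x : ℕ) : List ℕ :=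
  Bool.rec (motive := fun _ => List ℕ)
    (Bool.rec (motive := fun _ => List ℕ)
      (Nat.rec (motive := fun _ => List ℕ) c (fun _ ih => inc ih x) n) (incAt 4 c x) (Nat.beq n 16))
    (incAt 2 c x) (Nat.beq n 4)

theorem val_addN (n : ℕ) (c : List ℕ) (x j : ℕ) :
    val (addN n c x) j = val c j + n * (x.testBit j).toNat := by
  unfold addN
  cases h4 : Nat.beq n 4
  · cases h16 : Nat.beq n 16
    · show val (Nat.rec (motive := fun _ => List ℕ) c (fun _ ih => inc ih x) n) j = _
      clear h4 h16
      induction n with
      | zero => show val c j = _; simp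
      | succ n ih => show val (inc _ x) j = _; rw [val_inc, ih]; ring
    · show val (incAt 4 c x) j = _
      rw [val_incAt, Nat.eq_of_beq_eq_true h16]; rfl
  · show val (incAt 2 c x) j = _
    rw [val_incAt, Nat.eq_of_beq_eq_true h4]; rfl

/-- union of all the masks -/
noncomputable def orAll (c : List ℕ) : ℕ :=
  List.rec (motive := fun _ => ℕ) 0 (fun a _ ih => Nat.lor a ih) c

theorem testBit_orAll (c : List ℕ) (j : ℕ) : (orAll c).testBit j = false ↔ val c j = 0 := by
  induction c with
  | nil => show (0 : ℕ).testBit j = false ↔ _; simp [val]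
  | cons a t ih =>
    show (a ||| orAll t).testBit j = false ↔ _
    rw [Nat.testBit_or, val, Bool.or_eq_false_iff, ih]
    cases a.testBit j <;> simp

theorem orAll_mem {c : List ℕ} {j : ℕ} (h : (orAll c).testBit j = true) :
    ∃ a ∈ c, a.testBit j = true := by
  induction c with
  | nil => exact absurd h (by show ¬ (0 : ℕ).testBit j = true; simp)
  | cons a t ih =>
    have h' : (a ||| orAll t).testBit j = true := h
    rw [Nat.testBit_or, Bool.or_eq_true] at h'
    rcases h' with h' | h'
    · exact ⟨a, by simp, h'⟩
    · obtain ⟨b, hb, e⟩ := ih h'; exact ⟨b, by simp [hb], e⟩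

theorem mem_orAll {c : List ℕ} {j a : ℕ} (ha : a ∈ c) (h : a.testBit j = true) :
    (orAll c).testBit j = true := by
  induction c with
  | nil => simp at ha
  | cons b t ih =>
    show (b ||| orAll t).testBit j = true
    rw [Nat.testBit_or, Bool.or_eq_true]
    rcases List.mem_cons.1 ha with rfl | ha
    · exact Or.inl h
    · exact Or.inr (ih ha)

/-- the positions where two counters differ -/
noncomputable def neq (a : List ℕ) : List ℕ → ℕ :=
  List.rec (motive := fun _ => List ℕ → ℕ) orAll
    (fun x _ ih b => List.rec (motive := fun _ => ℕ) (Nat.lor x (ih []))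
      (fun y u _ => Nat.lor (Nat.xor x y) (ih u)) b) a

theorem testBit_neq (a b : List ℕ) (j : ℕ) :
    (neq a b).testBit j = false ↔ val a j = val b j := by
  induction a generalizing b with
  | nil => show (orAll b).testBit j = false ↔ _; rw [testBit_orAll, val, eq_comm]
  | cons x t ih =>
    cases b with
    | nil =>
      show (x ||| neq t []).testBit j = false ↔ _
      rw [Nat.testBit_or, Bool.or_eq_false_iff, ih, val_cons, val_nil]
      cases x.testBit j <;> simp
    | cons y u =>
      show ((x ^^^ y) ||| neq t u).testBit j = false ↔ _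
      rw [Nat.testBit_or, Bool.or_eq_false_iff, ih, val_cons, val_cons, Nat.testBit_xor]
      cases x.testBit j <;> cases y.testBit j <;> simp <;> omega

/-- the positions where the counter is at least `2 ^ k` -/
noncomputable def hi (k : ℕ) : List ℕ → ℕ :=
  Nat.rec (motive := fun _ => List ℕ → ℕ) orAll
    (fun _ ih c => List.rec (motive := fun _ => ℕ) 0 (fun _ t _ => ih t) c) k

theorem le_of_hi (k : ℕ) (c : List ℕ) (j : ℕ) (h : (hi k c).testBit j = true) :
    2 ^ k ≤ val c j := by
  induction k generalizing c with
  | zero =>
    have h' : (orAll c).testBit j = true := h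
    have := (testBit_orAll c j).not
    rw [h'] at this
    have h2 := this.1 (by simp)
    omega
  | succ k ih =>
    cases c with
    | nil => exact absurd h (by show ¬ (0 : ℕ).testBit j = true; simp)
    | cons a t =>
      have := ih t h
      rw [val, pow_succ]; omega

/-- add a list of masks to a counter -/
noncomputable def incAll (c : List ℕ) (l : List ℕ) : List ℕ :=
  List.rec (motive := fun _ => List ℕ) c (fun x _ ih => inc ih x) l

theorem val_incAll (c l : List ℕ) (j : ℕ) :
    val (incAll c l) j = val c j + (l.map fun x => (x.testBit j).toNat).sum := by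
  induction l with
  | nil => show val c j = _; simp
  | cons x t ih => show val (inc (incAll c t) x) j = _; rw [val_inc, ih]; simp; ring

/-- a column: masks of the values `1`, `-1`, `4` -/
structure Col where
  P : ℕ
  N : ℕ
  F : ℕ

/-- the value of a column -/
def cv (m : Col) (j : ℕ) : ℤ :=
  ((m.P.testBit j).toNat : ℤ) - (m.N.testBit j).toNat + 4 * (m.F.testBit j).toNat

noncomputable def form (l : List (ℤ × Col)) : List ℕ × List ℕ :=
  List.rec (motive := fun _ => List ℕ × List ℕ) ([], [])
    (fun t _ ih => Int.rec (motive := fun _ => List ℕ × List ℕ)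
      (fun n => Nat.rec (motive := fun _ => List ℕ × List ℕ) ih
        (fun n' _ => Prod.rec (motive := fun _ => List ℕ × List ℕ) (fun p q =>
          (addN (Nat.mul 4 (Nat.succ n')) (addN (Nat.succ n') p t.2.P) t.2.F,
            addN (Nat.succ n') q t.2.N)) ih) n)
      (fun n' => Prod.rec (motive := fun _ => List ℕ × List ℕ) (fun p q =>
          (addN (Nat.succ n') p t.2.N,
            addN (Nat.mul 4 (Nat.succ n')) (addN (Nat.succ n') q t.2.P) t.2.F)) ih) t.1) l

/-- the value of a linear form -/
def fv (l : List (ℤ × Col)) (j : ℕ) : ℤ := (l.map fun t => t.1 * cv t.2 j).sum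

@[simp] theorem fv_nil (j : ℕ) : fv [] j = 0 := rfl
@[simp] theorem fv_cons (t : ℤ × Col) (l : List (ℤ × Col)) (j : ℕ) :
    fv (t :: l) j = t.1 * cv t.2 j + fv l j := by simp [fv]
theorem fv_lapp (l l' : List (ℤ × Col)) (j : ℕ) : fv (lapp l l') j = fv l j + fv l' j := by
  rw [lapp_eq]; simp [fv]

theorem val_form (l : List (ℤ × Col)) (j : ℕ) :
    (val (form l).1 j : ℤ) - val (form l).2 j = fv l j := by
  induction l with
  | nil => show ((val [] j : ℕ) : ℤ) - (val [] j : ℕ) = _; simp
  | cons t l ih =>
    obtain ⟨c, m⟩ := t
    rw [fv_cons, ← ih]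
    cases c with
    | ofNat n =>
      cases n with
      | zero => show (val (form l).1 j : ℤ) - val (form l).2 j = _; simp
      | succ n =>
        show ((val (addN (4 * (n + 1)) (addN (n + 1) (form l).1 m.P) m.F) j : ℕ) : ℤ) -
          (val (addN (n + 1) (form l).2 m.N) j : ℕ) = _
        rw [val_addN, val_addN, val_addN]
        simp only [cv, Int.ofNat_eq_natCast]
        push_cast; ring
    | negSucc n =>
      show ((val (addN (n + 1) (form l).1 m.N) j : ℕ) : ℤ) -
          (val (addN (4 * (n + 1)) (addN (n + 1) (form l).2 m.P) m.F) j : ℕ) = _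
      rw [val_addN, val_addN, val_addN]
      simp only [cv, Int.negSucc_eq]
      push_cast; ring

/-- the positions where the form is nonzero -/
noncomputable def nz (l : List (ℤ × Col)) : ℕ :=
  Prod.rec (motive := fun _ => ℕ) (fun p q => neq p q) (form l)

theorem testBit_nz (l : List (ℤ × Col)) (j : ℕ) : (nz l).testBit j = false ↔ fv l j = 0 := by
  show (neq (form l).1 (form l).2).testBit j = false ↔ _
  rw [testBit_neq, ← val_form]; omega

theorem fv_zero {l : List (ℤ × Col)} (h : Nat.beq (nz l) 0 = true) (j : ℕ) : fv l j = 0 := by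
  rw [← testBit_nz, Nat.eq_of_beq_eq_true h]; simp

/-- restriction of a column to a mask -/
def Col.res (U : ℕ) (m : Col) : Col := ⟨Nat.land U m.P, Nat.land U m.N, Nat.land U m.F⟩

theorem cv_res (U : ℕ) (m : Col) (j : ℕ) :
    cv (m.res U) j = if U.testBit j then cv m j else 0 := by
  show (((U &&& m.P).testBit j).toNat : ℤ) - ((U &&& m.N).testBit j).toNat +
    4 * ((U &&& m.F).testBit j).toNat = _
  simp only [Nat.testBit_and]
  cases U.testBit j <;> simp [cv]

/-- pull-back of a column along a word -/
noncomputable def Col.pull (C : Ctx) (w : Word) (m : Col) : Col :=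
  ⟨C.pull w m.P, C.pull w m.N, C.pull w m.F⟩

theorem cv_pull {C : Ctx} (h : C.ok = true) (w : Word) (m : Col) (i : Fin C.n) :
    cv (m.pull C w) i = cv m (C.ev w i) := by
  simp only [cv, Col.pull, C.testBit_pull h]

end CA.BitCount
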