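import Cfsg.Agent.Lib.Fi.BitMat
import Cfsg.Agent.Lib.Comp.CMat

/-! Words in `112 × 112` bit matrices, each letter having its own matrix. -/

set_option autoImplicit false
set_option linter.all false

namespace CA.BitW
open CA.CNet CA.CWord CA.BM

noncomputable def eI : ℕ := one 112

noncomputable def evl (e I : ℕ) (F : ℕ → ℕ) (w : Word) : ℕ :=
  List.rec I (fun a _ ih => mulf e 112 (F a) ih) w

noncomputable def eqM (F : ℕ → ℕ) (u v : Word) : Bool :=
  force (E 112) fun e => force eI fun I => Nat.beq (evl e I F u) (evl e I F v)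

noncomputable def neM (F : ℕ → ℕ) (e : Word × Word × ℕ × ℕ) : Bool :=
  band (band (Nat.blt e.2.2.1 112) (Nat.blt e.2.2.2 112)) (Bool.xor (tb (evl (E 112) eI F e.1) (128 * e.2.2.1 + e.2.2.2))
    (tb (evl (E 112) eI F e.2.1) (128 * e.2.2.1 + e.2.2.2)))

noncomputable def invB (F : ℕ → ℕ) (k : ℕ) : Bool := CMat.allR k fun i => eqM F [2 * i, 2 * i + 1] []

theorem num : Num (fun i : Fin 112 => (i : ℕ)) 112 := ⟨fun i => i.2, Fin.val_injective, Fintype.card_fin _, by decide⟩

abbrev vl (A : ℕ) : Matrix (Fin 112) (Fin 112) (ZMod 2) := val (ZMod 2) (fun i : Fin 112 => (i : ℕ)) A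

theorem vl_evl (F : ℕ → ℕ) (w : Word) : vl (evl (E 112) eI F w) = (w.map fun a => vl (F a)).prod := by
  induction w with
  | nil => exact val_one rfl num rfl
  | cons a w ih =>
    rw [List.map_cons, List.prod_cons, ← ih]
    exact val_mul rfl num rfl _ _

theorem eqM_eq (F : ℕ → ℕ) (u v : Word) : eqM F u v = Nat.beq (evl (E 112) eI F u) (evl (E 112) eI F v) := by
  unfold eqM; rw [force_eq, force_eq]

theorem exists_gl {F : ℕ → ℕ} {k : ℕ} (h : invB F k = true) (h0 : ∀ a, 2 * k ≤ a → F a = eI) :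
    ∃ g : ℕ → GL (Fin 112) (ZMod 2), (∀ i, k ≤ i → g i = 1) ∧
      (∀ u v, eqM F u v = true → ev g u = ev g v) ∧ ∀ e, neM F e = true → ev g e.1 ≠ ev g e.2.1 := by
  suffices H : ∃ g : ℕ → GL (Fin 112) (ZMod 2), (∀ i, k ≤ i → g i = 1) ∧
      ∀ w, (ev g w : GL (Fin 112) (ZMod 2)).1 = vl (evl (E 112) eI F w) by
    obtain ⟨g, a, b⟩ := H
    refine ⟨g, a, fun u v h => Units.ext ?_, fun e h h' => ?_⟩
    · rw [eqM_eq] at h
      rw [b, b, Nat.eq_of_beq_eq_true h]
    · obtain ⟨h1, h2⟩ := band_iff.1 h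
      have h3 := congrFun (congrFun (((b e.1).symm.trans (congrArg Units.val h')).trans (b e.2.1))
        ⟨_, Nat.blt_eq.mp (band_iff.1 h1).1⟩) ⟨_, Nat.blt_eq.mp (band_iff.1 h1).2⟩
      rw [tb_eq, tb_eq] at h2
      simp only [val, bt, Matrix.of_apply] at h3
      revert h2 h3
      cases Nat.testBit _ _ <;> cases Nat.testBit _ _ <;> simp
  have h1 : vl eI = 1 := val_one rfl num rfl
  have h2 : ∀ i, vl (F (2 * i)) * vl (F (2 * i + 1)) = 1 := fun i => by
    by_cases hi : i < k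
    · have := CMat.allR_spec h hi
      rw [eqM_eq] at this
      have := congrArg vl (Nat.eq_of_beq_eq_true this)
      simpa [vl_evl] using this
    · rw [h0 _ (by omega), h0 _ (by omega), h1, one_mul]
  let g : ℕ → GL (Fin 112) (ZMod 2) := fun i => ⟨vl (F (2 * i)), vl (F (2 * i + 1)), h2 i, mul_eq_one_comm.1 (h2 i)⟩
  have h3 : ∀ a, (lv g a).1 = vl (F a) := fun a => by
    unfold lv
    split_ifs with h
    · show vl (F (2 * (a / 2))) = _
      rw [show 2 * (a / 2) = a by omega]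
    · show vl (F (2 * (a / 2) + 1)) = _
      rw [show 2 * (a / 2) + 1 = a by omega]
  refine ⟨g, fun i hi => Units.ext ?_, fun w => ?_⟩
  · show vl (F (2 * i)) = 1
    rw [h0 _ (by omega), h1]
  · rw [vl_evl]
    induction w with
    | nil => rfl
    | cons a w ih => rw [ev_cons, Units.val_mul, h3, ih, List.map_cons, List.prod_cons]

end CA.BitW
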