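/-
Normalizers of cyclic subgroups, Sylow counting, orbits of overgroups of a given subgroup.
-/
import Cfsg.Agent.Lib.Spor.CGLin2

set_option autoImplicit false

namespace CA.CGNorm
open CA.NatBits CA.OrbBfs CA.CGroup CA.CGConstr CA.CGParts CA.CGCert CA.CGDec CA.CGIso CA.CGLin2 CA.H28CG MulAction
open scoped Pointwise

variable {D : Type*} [Group D] {G : CG D} {X : Type*} [MulAction D X] {A : CAct G X}

theorem normal_pgroup_fixes [Finite D] {p : ℕ} [Fact p.Prime] {K P : Subgroup D}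
    (hn : ∀ g ∈ K, ∀ x ∈ P, g * x * g⁻¹ ∈ P) (hPK : P ≤ K) (hp : IsPGroup p P) {x : X}
    (h : ¬ p ∣ (orbit K x).ncard) : ∀ y ∈ orbit K x, ∀ g ∈ P, g • y = y := by
  obtain ⟨⟨y0, hy0⟩, h0⟩ := (hp.comap_subtype (K := K)).nonempty_fixed_point_of_prime_not_dvd_card (orbit K x) h
  intro y hy g hg
  obtain ⟨k, hk, rfl⟩ := orbit_trans hy0 hy
  have h1 := hn k⁻¹ (inv_mem hk) g hg
  have h2 : (k⁻¹ * g * k⁻¹⁻¹) • y0 = y0 := congrArg Subtype.val (h0 ⟨⟨_, hPK h1⟩, h1⟩)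
  rwa [inv_inv, smul_conj] at h2

theorem card_norm_le [Finite D] {cj : ℕ → ℕ → ℕ}
    (hc : ∀ {a c : ℕ} {g x : D}, G.R a g → G.R c x → G.R (cj a c) (g * x * g⁻¹))
    (hi : ∀ {c d : ℕ} {x : D}, G.R c x → G.R d x → c = d) {lK lP : List ℕ} (hK : G.Ok lK) (hP : G.Ok lP) {c : ℕ}
    {x : D} (hx : G.R c x) (hxP : x ∈ G.gen lP) {N : Subgroup D} (hN : N ≤ G.gen lK)
    (hN' : N ≤ Subgroup.normalizer (G.gen lP : Set D)) (m : ℕ)
    (h : orb G.mul lP G.one (fun u _ => orb cj lK c fun t _ => Nat.beq (t.cnt u.mem) m) = true) :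
    Nat.card N ≤ m * Nat.card ↥(N ⊓ stabilizer D (toCj x)) := by
  obtain ⟨u, n, h1, -, h2, -⟩ := elts_spec hi hP h
  obtain ⟨t, n', h3, h4⟩ := orb_spec (A := cjAct G cj hc hi) hK (x0 := toCj x) hx h1
  rw [← beq_iff.1 h3, ← h4.ncard_filter (P := fun y => (show D from y) ∈ G.gen lP) fun c y _ hy => h2 c y hy]
  have : Finite (Cj D) := ‹Finite D›
  refine card_le_orbit_mul N _ (Set.toFinite _) fun g hg => ⟨mem_orbit_sub.2 ⟨g, hN hg, rfl⟩, ?_⟩
  exact (Subgroup.mem_normalizer_iff.1 (hN' hg) x).1 hxP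

/-- Sylow counting for a Sylow subgroup `P` of `H` -/
theorem sylow_count [Finite D] {p a : ℕ} [hp : Fact p.Prime] {H P : Subgroup D} (hPH : P ≤ H) (hP : Nat.card P = p ^ a)
    (hH : ¬ p ^ (a + 1) ∣ Nat.card H) : ∃ n, n % p = 1 % p ∧
      Nat.card H = n * Nat.card ↥(H ⊓ Subgroup.normalizer (P : Set D)) := by
  have h1 : Nat.card (P.subgroupOf H) = p ^ (Nat.card H).factorization p := by
    rw [card_subgroupOf hPH, hP]
    congr 1
    exact le_antisymm ((hp.out.pow_dvd_iff_le_factorization Nat.card_pos.ne').1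
        (hP ▸ Subgroup.card_dvd_of_le hPH))
      (Nat.le_of_lt_succ (not_le.1 fun h => hH ((hp.out.pow_dvd_iff_le_factorization Nat.card_pos.ne').2 h)))
  refine ⟨_, card_sylow_modEq_one p H, ?_⟩
  rw [(Sylow.ofCard _ h1).card_eq_index_normalizer, mul_comm, ← card_subgroupOf inf_le_left,
    Subgroup.inf_subgroupOf_left, Subgroup.subgroupOf_normalizer_eq hPH]
  exact (Subgroup.card_mul_index _).symm

/-- a subgroup of index smaller than `p` contains the elements of order `p` -/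
theorem mem_of_index_lt [Finite D] {p : ℕ} (hp : p.Prime) {H K : Subgroup D} (hHK : H ≤ K)
    (h : Nat.card K < p * Nat.card H) {g : D} (hg : g ∈ K) (he : g ^ p = 1) : g ∈ H := by
  by_contra hn
  have h1 : orderOf g = p := (orderOf_eq_prime_iff (hp := ⟨hp⟩)).2 ⟨he, fun e => hn (e ▸ one_mem H)⟩
  have h2 : Function.Injective fun x : Subgroup.zpowers g × H => (⟨x.1 * x.2, mul_mem
      ((Subgroup.zpowers_le).2 hg x.1.2) (hHK x.2.2)⟩ : K) := by
    rintro ⟨a, b⟩ ⟨c, d⟩ e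
    have e1 : (a : D) * b = c * d := congrArg Subtype.val e
    have e2 : (c : D)⁻¹ * a = d * (b : D)⁻¹ := by rw [inv_mul_eq_iff_eq_mul, ← mul_assoc, ← e1, mul_inv_cancel_right]
    have h3 : Subgroup.zpowers g ⊓ H = ⊥ := by
      have := Fact.mk ((Nat.card_zpowers g).trans h1 ▸ hp)
      rcases ((Subgroup.zpowers g ⊓ H).subgroupOf (Subgroup.zpowers g)).eq_bot_or_eq_top_of_prime_card with h3 | h3
      · rwa [Subgroup.subgroupOf_eq_bot, disjoint_iff, inf_right_comm, inf_idem] at h3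
      · exact absurd (Subgroup.subgroupOf_eq_top.1 h3 (Subgroup.mem_zpowers g)).2 hn
    have h4 : (c : D)⁻¹ * a ∈ Subgroup.zpowers g ⊓ H :=
      Subgroup.mem_inf.2 ⟨mul_mem (inv_mem c.2) a.2, e2 ▸ mul_mem d.2 (inv_mem b.2)⟩
    rw [h3, Subgroup.mem_bot, inv_mul_eq_one] at h4
    rw [← h4, mul_right_inj] at e1
    exact Prod.ext (Subtype.ext h4.symm) (Subtype.ext e1)
  have h3 := Nat.card_le_card_of_injective _ h2
  rw [Nat.card_prod, Nat.card_zpowers, h1] at h3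
  omega

/-- the orbit of `c` under `lK` is covered by the orbits of `cs` under `lN` -/
noncomputable def covO (act : ℕ → ℕ → ℕ) (lK lN : List ℕ) (c : ℕ) (cs : List ℕ) : Bool :=
  orbsK act lN cs fun ts => orb act lK c fun t _ => t.all fun d _ => anyL ts fun u => u.mem d

theorem covO_spec [Finite D] {lK lN : List ℕ} (hK : G.Ok lK) (hN : G.Ok lN) {c : ℕ} {x : X} (hx : A.S c x)
    {cs : List ℕ} (hc : ∀ c ∈ cs, ∃ x, A.S c x) (h : covO A.act lK lN c cs = true) {y : X}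
    (hy : y ∈ orbit (G.gen lK) x) : ∃ c ∈ cs, ∀ z, A.S c z → ∃ g ∈ G.gen lN, g • z = y := by
  obtain ⟨ts, h1, h2⟩ := orbsK_spec2 hN hc h
  obtain ⟨t, n, h3, h4⟩ := orb_spec hK hx h1
  obtain ⟨d, v, h5, h6⟩ := h4.forall h3 hy
  obtain ⟨u, hu, h7⟩ := anyL_iff.1 h6
  obtain ⟨c, hc', h8⟩ := h2 u hu
  refine ⟨c, hc', fun z hz => ?_⟩
  obtain ⟨m, h9⟩ := h8 z hz
  exact mem_orbit_sub.1 ((h9.mem_iff h5).2 h7)

theorem in_append {l m : List ℕ} {H : Subgroup D} (h : G.In l H) (h' : G.In m H) : G.In (l ++ m) H :=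
  fun c hc => (List.mem_append.1 hc).elim (h c) (h' c)

theorem in_cons {c : ℕ} {g : D} {m : List ℕ} {H : Subgroup D} (h : G.R c g) (hg : g ∈ H) (h' : G.In m H) :
    G.In (c :: m) H := List.forall_mem_cons.2 ⟨⟨g, hg, h⟩, h'⟩

theorem gen_single {c : ℕ} {g : D} (h : G.R c g) : G.gen [c] = Subgroup.zpowers g := by
  rw [Subgroup.zpowers_eq_closure, CG.gen]
  congr 1
  ext x
  simp only [List.mem_singleton, exists_eq_left, Set.mem_ofPred_eq, Set.mem_singleton_iff]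
  exact ⟨fun h' => G.R_fun h' h, fun e => e ▸ h⟩

/-- a subgroup containing a Sylow subgroup of `K` contains a given one after conjugation -/
theorem exists_conj_ge [Finite D] {p a m : ℕ} (hp : p.Prime) {K P : Subgroup D} (hPK : P ≤ K)
    (hP : Nat.card P = p ^ a) (hK : Nat.card K = p ^ a * m) (hm : ¬ p ∣ m) {H : Subgroup D} (hH : H ≤ K)
    (h : p ^ a ∣ Nat.card H) : ∃ k ∈ K, ∃ H' ≤ K, ConjTo k H H' ∧ P ≤ H' := by
  have := Fact.mk hp
  obtain ⟨Q, hQ⟩ := Sylow.exists_subgroup_card_pow_prime p h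
  have h1 : Nat.card (Q.map H.subtype) = p ^ a := (Subgroup.card_map_of_injective H.subtype_injective).trans hQ
  obtain ⟨k, hk, h2⟩ := exists_conj_mem hp hPK hP hK hm ((Subgroup.map_subtype_le Q).trans hH) (IsPGroup.of_card h1)
  have hc : ∀ L : Subgroup D, ConjTo k L (L.map (MulAut.conj k).toMonoidHom) := fun L x =>
    Subgroup.mem_map_iff_mem (MulAut.conj k).injective
  refine ⟨k, hk, _, ?_, hc H, ?_⟩
  · rintro _ ⟨x, hx, rfl⟩
    exact mul_mem (mul_mem hk (hH hx)) (inv_mem hk)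
  · rw [← Subgroup.eq_of_le_of_card_ge (H := (Q.map H.subtype).map (MulAut.conj k).toMonoidHom) (K := P)
      (by rintro _ ⟨x, hx, rfl⟩; exact h2 x hx) (by rw [(hc _).card_eq, h1, hP])]
    exact Subgroup.map_mono (Subgroup.map_subtype_le Q)

end CA.CGNorm
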