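import Cfsg.Agent.Lib.Grp.SchurLow
import Cfsg.Agent.Lib.Spor.Fi22Pres
set_option autoImplicit false
set_option maxRecDepth 100000
set_option linter.all false
set_option Elab.async false
namespace CA.Fi22Cov2
open Cfsg CA.SchurHopf CA.SchurPc CA.SchurCG CA.SchurLow CA.CWord CA.CNet CA.CLevel CA.CSimple CA.CPoint CA.CTodd CA.Fi22Pres
universe u
noncomputable section
def V : Ctx := ⟨31671, 15, [Fi.n23a, Fi.n23b, Fi.n23c, Fi.n23d, Fi.n23e, Fi.n23f, Fi.n23g, Fi.n23h, Fi.n23i, Fi.n23m]⟩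
theorem V_ok : V.ok = true := by decide +kernel
def V_ps : List (Word × ℕ) := [([], 2), ([0,0], 0), ([2,2], 0), ([4,4], 0), ([6,6], 0), ([8,8], 0), ([10,10], 0), ([12,12], 0), ([14,14], 0), ([16,16], 0), ([0,2,0,2,0,2], 0), ([0,4,0,4], 0), ([0,6,0,6], 0), ([0,8,0,8], 0), ([0,10,0,10], 0), ([0,12,0,12], 0), ([0,14,0,14], 0), ([0,16,0,16], 0), ([2,4,2,4,2,4], 0), ([2,6,2,6], 0), ([2,8,2,8], 0), ([2,10,2,10], 0), ([2,12,2,12], 0), ([2,14,2,14], 0), ([2,16,2,16], 0), ([4,6,4,6,4,6], 0), ([4,8,4,8], 0), ([4,10,4,10], 0), ([4,12,4,12], 0), ([4,14,4,14], 0), ([4,16,4,16], 0), ([6,8,6,8,6,8], 0), ([6,10,6,10], 0), ([6,12,6,12], 0), ([6,14,6,14,6,14], 0), ([6,16,6,16], 0), ([8,10,8,10,8,10], 0), ([8,12,8,12], 0), ([8,14,8,14], 0), ([8,16,8,16], 0), ([10,12,10,12,10,12], 0), ([10,14,10,14], 0), ([10,16,10,16], 0), ([12,14,12,14], 0), ([12,16,12,16], 0), ([14,16,14,16,14,16],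 0), ([6,4,2,6,8,10,6,14,16,6,4,2,6,8,10,6,14,16,6,4,2,6,8,10,6,14,16,6,4,2,6,8,10,6,14,16,6,4,2,6,8,10,6,14,16,6,4,2,6,8,10,6,14,16,6,4,2,6,8,10,6,14,16,6,4,2,6,8,10,6,14,16,6,4,2,6,8,10,6,14,16,6,4,2,6,8,10,6,14,16], 0), ([0,2,4,6,8,10,14,0,2,4,6,8,10,14,0,2,4,6,8,10,14,0,2,4,6,8,10,14,0,2,4,6,8,10,14,0,2,4,6,8,10,14,0,2,4,6,8,10,14,0,2,4,6,8,10,14,0,2,4,6,8,10,14], 0), ([2,4,6,8,10,12,14,2,4,6,8,10,12,14,2,4,6,8,10,12,14,2,4,6,8,10,12,14,2,4,6,8,10,12,14,2,4,6,8,10,12,14,2,4,6,8,10,12,14,2,4,6,8,10,12,14,2,4,6,8,10,12,14], 1)]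
theorem V_e_0 : lall (ltake (ltake (ceq [18] 10 V_ps) 52) 22) (eqP V) = true := by decide +kernel
theorem V_e_1 : lall (ltake (ldrop (ltake (ceq [18] 10 V_ps) 52) 22) 15) (eqP V) = true := by decide +kernel
theorem V_e_2 : lall (ldrop (ldrop (ltake (ceq [18] 10 V_ps) 52) 22) 15) (eqP V) = true := by decide +kernel
theorem V_e_3 : lall (ltake (ltake (ldrop (ceq [18] 10 V_ps) 52) 5) 4) (eqP V) = true := by decide +kernel
theorem V_e_4 : lall (ldrop (ltake (ldrop (ceq [18] 10 V_ps) 52) 5) 4) (eqP V) = true := by decide +kernel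
theorem V_e_5 : lall (ltake (ldrop (ldrop (ceq [18] 10 V_ps) 52) 5) 1) (eqP V) = true := by decide +kernel
theorem V_e_6 : lall (ldrop (ldrop (ldrop (ceq [18] 10 V_ps) 52) 5) 1) (eqP V) = true := by decide +kernel
theorem V_e : lall (ceq [18] 10 V_ps) (eqP V) = true := (lall_split 52 (lall_split 22 V_e_0 (lall_split 15 V_e_1 V_e_2)) (lall_split 5 (lall_split 4 V_e_3 V_e_4) (lall_split 1 V_e_5 V_e_6)))
theorem V_cov : Cov V.g Fi22Rel.rels (V.ev [18]) 2 := cov_of V_ok V_e 2 2 3511 (by decide +kernel) (by decide)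
theorem V_w : ev V.g (cw Fi22Rel.gens [([14,10,2,6], [14,4,0,12,6,8], 7)]) = V.ev [18] := Ctx.eq_of_eqW V_ok (v := [18]) (by decide +kernel)
theorem st : St (C.grp Fi22Rel.gens) (Multiplicative (ZMod 2)) :=
  st_cyc bound rfl card.ge hrel V_cov _ (Ctx.eq_of_eqW hC (v := []) (by decide +kernel)) V_w
end
end CA.Fi22Cov2
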