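import Cfsg.Agent.Lib.Grp.SchurLow
import Cfsg.Agent.Lib.Spor.Fi22Cov3D
import Cfsg.Agent.Lib.Spor.Fi22Pres
set_option autoImplicit false
set_option maxRecDepth 100000
set_option linter.all false
set_option Elab.async false
namespace CA.Fi22Cov3
open Cfsg CA.SchurHopf CA.SchurPc CA.SchurCG CA.SchurLow CA.CWord CA.CNet CA.CLevel CA.CSimple CA.CPoint CA.CTodd CA.Fi22Pres
universe u
noncomputable section
def V_N : List (Net × Net) := [(V_n0, V_r0), (V_n1, V_r1), (V_n2, V_r2), (V_n3, V_r3), (V_n4, V_r4), (V_n5, V_r5), (V_n6, V_r6), (V_n7, V_r7), (V_n8, V_r8), ([], V_r9)]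
theorem V_B : (mB 61776 16 V_N).ok = true := by decide +kernel
theorem V_U : (mU 3 61776 18 V_N).ok = true := by decide +kernel
theorem V_R : rotOK 61776 V_N = true := by decide +kernel
theorem V_b0 : ∀ r ∈ [[0,0], [2,2], [4,4], [6,6], [8,8], [10,10], [12,12], [14,14], [16,16], [0,2,0,2,0,2]], (mB 61776 16 V_N).ev r = 1 := rels_of_eqW V_B (by decide +kernel)
theorem V_b1 : ∀ r ∈ [[0,4,0,4], [0,6,0,6], [0,8,0,8], [0,10,0,10], [0,12,0,12], [0,14,0,14]], (mB 61776 16 V_N).ev r = 1 := rels_of_eqW V_B (by decide +kernel)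
theorem V_b2 : ∀ r ∈ [[0,16,0,16], [2,4,2,4,2,4], [2,6,2,6], [2,8,2,8], [2,10,2,10]], (mB 61776 16 V_N).ev r = 1 := rels_of_eqW V_B (by decide +kernel)
theorem V_b3 : ∀ r ∈ [[2,12,2,12], [2,14,2,14], [2,16,2,16], [4,6,4,6,4,6], [4,8,4,8]], (mB 61776 16 V_N).ev r = 1 := rels_of_eqW V_B (by decide +kernel)
theorem V_b4 : ∀ r ∈ [[4,10,4,10], [4,12,4,12], [4,14,4,14], [4,16,4,16], [6,8,6,8,6,8]], (mB 61776 16 V_N).ev r = 1 := rels_of_eqW V_B (by decide +kernel)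
theorem V_b5 : ∀ r ∈ [[6,10,6,10], [6,12,6,12], [6,14,6,14,6,14], [6,16,6,16], [8,10,8,10,8,10]], (mB 61776 16 V_N).ev r = 1 := rels_of_eqW V_B (by decide +kernel)
theorem V_b6 : ∀ r ∈ [[8,12,8,12], [8,14,8,14], [8,16,8,16], [10,12,10,12,10,12], [10,14,10,14]], (mB 61776 16 V_N).ev r = 1 := rels_of_eqW V_B (by decide +kernel)
theorem V_b7 : ∀ r ∈ [[10,16,10,16], [12,14,12,14], [12,16,12,16], [14,16,14,16,14,16]], (mB 61776 16 V_N).ev r = 1 := rels_of_eqW V_B (by decide +kernel)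
theorem V_b8_0 : ∀ j < 4, oneJ (mB 61776 16 V_N) [6,4,2,6,8,10,6,14,16,6,4,2,6,8,10,6,14,16,6,4,2,6,8,10,6,14,16,6,4,2,6,8,10,6,14,16,6,4,2,6,8,10,6,14,16,6,4,2,6,8,10,6,14,16,6,4,2,6,8,10,6,14,16,6,4,2,6,8,10,6,14,16,6,4,2,6,8,10,6,14,16,6,4,2,6,8,10,6,14,16] (0 + j) = true := by decide +kernel
theorem V_b8_1 : ∀ j < 4, oneJ (mB 61776 16 V_N) [6,4,2,6,8,10,6,14,16,6,4,2,6,8,10,6,14,16,6,4,2,6,8,10,6,14,16,6,4,2,6,8,10,6,14,16,6,4,2,6,8,10,6,14,16,6,4,2,6,8,10,6,14,16,6,4,2,6,8,10,6,14,16,6,4,2,6,8,10,6,14,16,6,4,2,6,8,10,6,14,16,6,4,2,6,8,10,6,14,16] (4 + j) = true := by decide +kernel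
theorem V_b8_2 : ∀ j < 4, oneJ (mB 61776 16 V_N) [6,4,2,6,8,10,6,14,16,6,4,2,6,8,10,6,14,16,6,4,2,6,8,10,6,14,16,6,4,2,6,8,10,6,14,16,6,4,2,6,8,10,6,14,16,6,4,2,6,8,10,6,14,16,6,4,2,6,8,10,6,14,16,6,4,2,6,8,10,6,14,16,6,4,2,6,8,10,6,14,16,6,4,2,6,8,10,6,14,16] (8 + j) = true := by decide +kernel
theorem V_b8_3 : ∀ j < 4, oneJ (mB 61776 16 V_N) [6,4,2,6,8,10,6,14,16,6,4,2,6,8,10,6,14,16,6,4,2,6,8,10,6,14,16,6,4,2,6,8,10,6,14,16,6,4,2,6,8,10,6,14,16,6,4,2,6,8,10,6,14,16,6,4,2,6,8,10,6,14,16,6,4,2,6,8,10,6,14,16,6,4,2,6,8,10,6,14,16,6,4,2,6,8,10,6,14,16] (12 + j) = true := by decide +kernel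
theorem V_b8 : (mB 61776 16 V_N).ev [6,4,2,6,8,10,6,14,16,6,4,2,6,8,10,6,14,16,6,4,2,6,8,10,6,14,16,6,4,2,6,8,10,6,14,16,6,4,2,6,8,10,6,14,16,6,4,2,6,8,10,6,14,16,6,4,2,6,8,10,6,14,16,6,4,2,6,8,10,6,14,16,6,4,2,6,8,10,6,14,16,6,4,2,6,8,10,6,14,16] = 1 := one_of_oneJ V_B (of_zero (lt_add (P := fun j => oneJ (mB 61776 16 V_N) [6,4,2,6,8,10,6,14,16,6,4,2,6,8,10,6,14,16,6,4,2,6,8,10,6,14,16,6,4,2,6,8,10,6,14,16,6,4,2,6,8,10,6,14,16,6,4,2,6,8,10,6,14,16,6,4,2,6,8,10,6,14,16,6,4,2,6,8,10,6,14,16,6,4,2,6,8,10,6,14,16,6,4,2,6,8,10,6,14,16] j = true) V_b8_0 (lt_add (P := fun j => oneJ (mB 61776 16 V_N) [6,4,2,6,8,10,6,14,16,6,4,2,6,8,10,6,14,16,6,4,2,6,8,10,6,14,16,6,4,2,6,8,10,6,14,16,6,4,2,6,8,10,6,14,16,6,4,2,6,8,10,6,14,16,6,4,2,6,8,10,6,14,16,6,4,2,6,8,10,6,14,16,6,4,2,6,8,10,6,14,16,6,4,2,6,8,10,6,14,16] j = true) V_b8_1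 (lt_add (P := fun j => oneJ (mB 61776 16 V_N) [6,4,2,6,8,10,6,14,16,6,4,2,6,8,10,6,14,16,6,4,2,6,8,10,6,14,16,6,4,2,6,8,10,6,14,16,6,4,2,6,8,10,6,14,16,6,4,2,6,8,10,6,14,16,6,4,2,6,8,10,6,14,16,6,4,2,6,8,10,6,14,16,6,4,2,6,8,10,6,14,16,6,4,2,6,8,10,6,14,16] j = true) V_b8_2 (V_b8_3)))))
theorem V_b9_0 : ∀ j < 6, oneJ (mB 61776 16 V_N) [0,2,4,6,8,10,14,0,2,4,6,8,10,14,0,2,4,6,8,10,14,0,2,4,6,8,10,14,0,2,4,6,8,10,14,0,2,4,6,8,10,14,0,2,4,6,8,10,14,0,2,4,6,8,10,14,0,2,4,6,8,10,14] (0 + j) = true := by decide +kernel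
theorem V_b9_1 : ∀ j < 6, oneJ (mB 61776 16 V_N) [0,2,4,6,8,10,14,0,2,4,6,8,10,14,0,2,4,6,8,10,14,0,2,4,6,8,10,14,0,2,4,6,8,10,14,0,2,4,6,8,10,14,0,2,4,6,8,10,14,0,2,4,6,8,10,14,0,2,4,6,8,10,14] (6 + j) = true := by decide +kernel
theorem V_b9_2 : ∀ j < 4, oneJ (mB 61776 16 V_N) [0,2,4,6,8,10,14,0,2,4,6,8,10,14,0,2,4,6,8,10,14,0,2,4,6,8,10,14,0,2,4,6,8,10,14,0,2,4,6,8,10,14,0,2,4,6,8,10,14,0,2,4,6,8,10,14,0,2,4,6,8,10,14] (12 + j) = true := by decide +kernel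
theorem V_b9 : (mB 61776 16 V_N).ev [0,2,4,6,8,10,14,0,2,4,6,8,10,14,0,2,4,6,8,10,14,0,2,4,6,8,10,14,0,2,4,6,8,10,14,0,2,4,6,8,10,14,0,2,4,6,8,10,14,0,2,4,6,8,10,14,0,2,4,6,8,10,14] = 1 := one_of_oneJ V_B (of_zero (lt_add (P := fun j => oneJ (mB 61776 16 V_N) [0,2,4,6,8,10,14,0,2,4,6,8,10,14,0,2,4,6,8,10,14,0,2,4,6,8,10,14,0,2,4,6,8,10,14,0,2,4,6,8,10,14,0,2,4,6,8,10,14,0,2,4,6,8,10,14,0,2,4,6,8,10,14] j = true) V_b9_0 (lt_add (P := fun j => oneJ (mB 61776 16 V_N) [0,2,4,6,8,10,14,0,2,4,6,8,10,14,0,2,4,6,8,10,14,0,2,4,6,8,10,14,0,2,4,6,8,10,14,0,2,4,6,8,10,14,0,2,4,6,8,10,14,0,2,4,6,8,10,14,0,2,4,6,8,10,14] j = true) V_b9_1 (V_b9_2))))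
theorem V_b10_0 : ∀ j < 6, oneJ (mB 61776 16 V_N) [2,4,6,8,10,12,14,2,4,6,8,10,12,14,2,4,6,8,10,12,14,2,4,6,8,10,12,14,2,4,6,8,10,12,14,2,4,6,8,10,12,14,2,4,6,8,10,12,14,2,4,6,8,10,12,14,2,4,6,8,10,12,14] (0 + j) = true := by decide +kernel
theorem V_b10_1 : ∀ j < 6, oneJ (mB 61776 16 V_N) [2,4,6,8,10,12,14,2,4,6,8,10,12,14,2,4,6,8,10,12,14,2,4,6,8,10,12,14,2,4,6,8,10,12,14,2,4,6,8,10,12,14,2,4,6,8,10,12,14,2,4,6,8,10,12,14,2,4,6,8,10,12,14] (6 + j) = true := by decide +kernel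
theorem V_b10_2 : ∀ j < 4, oneJ (mB 61776 16 V_N) [2,4,6,8,10,12,14,2,4,6,8,10,12,14,2,4,6,8,10,12,14,2,4,6,8,10,12,14,2,4,6,8,10,12,14,2,4,6,8,10,12,14,2,4,6,8,10,12,14,2,4,6,8,10,12,14,2,4,6,8,10,12,14] (12 + j) = true := by decide +kernel
theorem V_b10 : (mB 61776 16 V_N).ev [2,4,6,8,10,12,14,2,4,6,8,10,12,14,2,4,6,8,10,12,14,2,4,6,8,10,12,14,2,4,6,8,10,12,14,2,4,6,8,10,12,14,2,4,6,8,10,12,14,2,4,6,8,10,12,14,2,4,6,8,10,12,14] = 1 := one_of_oneJ V_B (of_zero (lt_add (P := fun j => oneJ (mB 61776 16 V_N) [2,4,6,8,10,12,14,2,4,6,8,10,12,14,2,4,6,8,10,12,14,2,4,6,8,10,12,14,2,4,6,8,10,12,14,2,4,6,8,10,12,14,2,4,6,8,10,12,14,2,4,6,8,10,12,14,2,4,6,8,10,12,14] j = true) V_b10_0 (lt_add (P := fun j => oneJ (mB 61776 16 V_N) [2,4,6,8,10,12,14,2,4,6,8,10,12,14,2,4,6,8,10,12,14,2,4,6,8,10,12,14,2,4,6,8,10,12,14,2,4,6,8,10,12,14,2,4,6,8,10,12,14,2,4,6,8,10,12,14,2,4,6,8,10,12,14]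 j = true) V_b10_1 (V_b10_2))))
theorem V_l : Fi22Rel.rels = [[0,0], [2,2], [4,4], [6,6], [8,8], [10,10], [12,12], [14,14], [16,16], [0,2,0,2,0,2]] ++ ([[0,4,0,4], [0,6,0,6], [0,8,0,8], [0,10,0,10], [0,12,0,12], [0,14,0,14]] ++ ([[0,16,0,16], [2,4,2,4,2,4], [2,6,2,6], [2,8,2,8], [2,10,2,10]] ++ ([[2,12,2,12], [2,14,2,14], [2,16,2,16], [4,6,4,6,4,6], [4,8,4,8]] ++ ([[4,10,4,10], [4,12,4,12], [4,14,4,14], [4,16,4,16], [6,8,6,8,6,8]] ++ ([[6,10,6,10], [6,12,6,12], [6,14,6,14,6,14], [6,16,6,16], [8,10,8,10,8,10]] ++ ([[8,12,8,12], [8,14,8,14], [8,16,8,16], [10,12,10,12,10,12], [10,14,10,14]] ++ ([[10,16,10,16], [12,14,12,14], [12,16,12,16], [14,16,14,16,14,16]] ++ ([[6,4,2,6,8,10,6,14,16,6,4,2,6,8,10,6,14,16,6,4,2,6,8,10,6,14,16,6,4,2,6,8,10,6,14,16,6,4,2,6,8,10,6,14,16,6,4,2,6,8,10,6,14,16,6,4,2,6,8,10,6,14,16,6,4,2,6,8,10,6,14,16,6,4,2,6,8,10,6,14,16,6,4,2,6,8,10,6,14,16]]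 ++ ([[0,2,4,6,8,10,14,0,2,4,6,8,10,14,0,2,4,6,8,10,14,0,2,4,6,8,10,14,0,2,4,6,8,10,14,0,2,4,6,8,10,14,0,2,4,6,8,10,14,0,2,4,6,8,10,14,0,2,4,6,8,10,14]] ++ ([[2,4,6,8,10,12,14,2,4,6,8,10,12,14,2,4,6,8,10,12,14,2,4,6,8,10,12,14,2,4,6,8,10,12,14,2,4,6,8,10,12,14,2,4,6,8,10,12,14,2,4,6,8,10,12,14,2,4,6,8,10,12,14]])))))))))) := by decide +kernel
theorem V_b : ∀ r ∈ Fi22Rel.rels, (mB 61776 16 V_N).ev r = 1 := by
  rw [V_l]; exact (all_app (P := fun r => (mB 61776 16 V_N).ev r = 1) V_b0 (all_app (P := fun r => (mB 61776 16 V_N).ev r = 1) V_b1 (all_app (P := fun r => (mB 61776 16 V_N).ev r = 1) V_b2 (all_app (P := fun r => (mB 61776 16 V_N).ev r = 1) V_b3 (all_app (P := fun r => (mB 61776 16 V_N).ev r = 1) V_b4 (all_app (P := fun r => (mB 61776 16 V_N).ev r = 1) V_b5 (all_app (P := fun r => (mB 61776 16 V_N).ev r = 1) V_b6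 (all_app (P := fun r => (mB 61776 16 V_N).ev r = 1) V_b7 (all_app (P := fun r => (mB 61776 16 V_N).ev r = 1) (all_one V_b8) (all_app (P := fun r => (mB 61776 16 V_N).ev r = 1) (all_one V_b9) (all_one V_b10)))))))))))
def V_ps : List (Word × ℕ) := [([], 3), ([0,0], 0), ([2,2], 1), ([4,4], 0), ([6,6], 0), ([8,8], 0), ([10,10], 0), ([12,12], 0), ([14,14], 0), ([16,16], 0), ([0,2,0,2,0,2], 0), ([0,4,0,4], 0), ([0,6,0,6], 0), ([0,8,0,8], 0), ([0,10,0,10], 0), ([0,12,0,12], 0), ([0,14,0,14], 0), ([0,16,0,16], 0), ([2,4,2,4,2,4], 0), ([2,6,2,6], 1), ([2,8,2,8], 1), ([2,10,2,10], 1), ([2,12,2,12], 1), ([2,14,2,14], 1), ([2,16,2,16], 1), ([4,6,4,6,4,6], 0), ([4,8,4,8], 0), ([4,10,4,10], 0), ([4,12,4,12], 0), ([4,14,4,14], 0), ([4,16,4,16], 0), ([6,8,6,8,6,8], 0), ([6,10,6,10], 0), ([6,12,6,12], 0), ([6,14,6,14,6,14], 0), ([6,16,6,16],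 0), ([8,10,8,10,8,10], 0), ([8,12,8,12], 0), ([8,14,8,14], 0), ([8,16,8,16], 0), ([10,12,10,12,10,12], 0), ([10,14,10,14], 0), ([10,16,10,16], 0), ([12,14,12,14], 0), ([12,16,12,16], 0), ([14,16,14,16,14,16], 0), ([6,4,2,6,8,10,6,14,16,6,4,2,6,8,10,6,14,16,6,4,2,6,8,10,6,14,16,6,4,2,6,8,10,6,14,16,6,4,2,6,8,10,6,14,16,6,4,2,6,8,10,6,14,16,6,4,2,6,8,10,6,14,16,6,4,2,6,8,10,6,14,16,6,4,2,6,8,10,6,14,16,6,4,2,6,8,10,6,14,16], 0), ([0,2,4,6,8,10,14,0,2,4,6,8,10,14,0,2,4,6,8,10,14,0,2,4,6,8,10,14,0,2,4,6,8,10,14,0,2,4,6,8,10,14,0,2,4,6,8,10,14,0,2,4,6,8,10,14,0,2,4,6,8,10,14], 0), ([2,4,6,8,10,12,14,2,4,6,8,10,12,14,2,4,6,8,10,12,14,2,4,6,8,10,12,14,2,4,6,8,10,12,14,2,4,6,8,10,12,14,2,4,6,8,10,12,14,2,4,6,8,10,12,14,2,4,6,8,10,12,14], 0)]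
theorem V_e0_0 : lall (ltake (ltake (ceq [18] 10 V_ps) 53) 31) (eqJ (mU 3 61776 18 V_N) 61776 0) = true := by decide +kernel
theorem V_e0_1 : lall (ldrop (ltake (ceq [18] 10 V_ps) 53) 31) (eqJ (mU 3 61776 18 V_N) 61776 0) = true := by decide +kernel
theorem V_e0_2 : lall (ltake (ldrop (ceq [18] 10 V_ps) 53) 4) (eqJ (mU 3 61776 18 V_N) 61776 0) = true := by decide +kernel
theorem V_e0_3 : lall (ltake (ldrop (ldrop (ceq [18] 10 V_ps) 53) 4) 1) (eqJ (mU 3 61776 18 V_N) 61776 0) = true := by decide +kernel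
theorem V_e0_4 : lall (ldrop (ldrop (ldrop (ceq [18] 10 V_ps) 53) 4) 1) (eqJ (mU 3 61776 18 V_N) 61776 0) = true := by decide +kernel
theorem V_e0 : lall (ceq [18] 10 V_ps) (eqJ (mU 3 61776 18 V_N) 61776 0) = true := (lall_split 53 (lall_split 31 V_e0_0 V_e0_1) (lall_split 4 V_e0_2 (lall_split 1 V_e0_3 V_e0_4)))
theorem V_e1_0 : lall (ltake (ltake (ceq [18] 10 V_ps) 53) 31) (eqJ (mU 3 61776 18 V_N) 61776 1) = true := by decide +kernel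
theorem V_e1_1 : lall (ldrop (ltake (ceq [18] 10 V_ps) 53) 31) (eqJ (mU 3 61776 18 V_N) 61776 1) = true := by decide +kernel
theorem V_e1_2 : lall (ltake (ldrop (ceq [18] 10 V_ps) 53) 4) (eqJ (mU 3 61776 18 V_N) 61776 1) = true := by decide +kernel
theorem V_e1_3 : lall (ltake (ldrop (ldrop (ceq [18] 10 V_ps) 53) 4) 1) (eqJ (mU 3 61776 18 V_N) 61776 1) = true := by decide +kernel
theorem V_e1_4 : lall (ldrop (ldrop (ldrop (ceq [18] 10 V_ps) 53) 4) 1) (eqJ (mU 3 61776 18 V_N) 61776 1) = true := by decide +kernel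
theorem V_e1 : lall (ceq [18] 10 V_ps) (eqJ (mU 3 61776 18 V_N) 61776 1) = true := (lall_split 53 (lall_split 31 V_e1_0 V_e1_1) (lall_split 4 V_e1_2 (lall_split 1 V_e1_3 V_e1_4)))
theorem V_cov : Cov (mU 3 61776 18 V_N).g Fi22Rel.rels ((mU 3 61776 18 V_N).ev [18]) 3 :=
  cov_mon V_B V_U V_R (Ctx.eq_of_eqW V_B (v := []) (by decide +kernel)) V_b (by decide +kernel) (lt_two' V_e0 V_e1)
    3 3 0 (by decide +kernel) (by decide)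
theorem V_w_b_0 : ∀ j < 5, oneJ (mB 61776 16 V_N) (cw Fi22Rel.gens [([4,6,8,16], [12,6,10,16,2,14], 4)]) (0 + j) = true := by decide +kernel
theorem V_w_b_1 : ∀ j < 5, oneJ (mB 61776 16 V_N) (cw Fi22Rel.gens [([4,6,8,16], [12,6,10,16,2,14], 4)]) (5 + j) = true := by decide +kernel
theorem V_w_b_2 : ∀ j < 5, oneJ (mB 61776 16 V_N) (cw Fi22Rel.gens [([4,6,8,16], [12,6,10,16,2,14], 4)]) (10 + j) = true := by decide +kernel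
theorem V_w_b_3 : ∀ j < 1, oneJ (mB 61776 16 V_N) (cw Fi22Rel.gens [([4,6,8,16], [12,6,10,16,2,14], 4)]) (15 + j) = true := by decide +kernel
theorem V_w_b : (mB 61776 16 V_N).ev (cw Fi22Rel.gens [([4,6,8,16], [12,6,10,16,2,14], 4)]) = 1 := one_of_oneJ V_B (of_zero (lt_add (P := fun j => oneJ (mB 61776 16 V_N) (cw Fi22Rel.gens [([4,6,8,16], [12,6,10,16,2,14], 4)]) j = true) V_w_b_0 (lt_add (P := fun j => oneJ (mB 61776 16 V_N) (cw Fi22Rel.gens [([4,6,8,16], [12,6,10,16,2,14], 4)]) j = true) V_w_b_1 (lt_add (P := fun j => oneJ (mB 61776 16 V_N) (cw Fi22Rel.gens [([4,6,8,16], [12,6,10,16,2,14], 4)]) j = true) V_w_b_2 (V_w_b_3)))))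
theorem V_w_0 : eqJ (mU 3 61776 18 V_N) 61776 0 ((cw Fi22Rel.gens [([4,6,8,16], [12,6,10,16,2,14], 4)]), [18]) = true := by decide +kernel
theorem V_w_1 : eqJ (mU 3 61776 18 V_N) 61776 1 ((cw Fi22Rel.gens [([4,6,8,16], [12,6,10,16,2,14], 4)]), [18]) = true := by decide +kernel
theorem V_w : ev (mU 3 61776 18 V_N).g (cw Fi22Rel.gens [([4,6,8,16], [12,6,10,16,2,14], 4)]) = (mU 3 61776 18 V_N).ev [18] :=
  eq_of_eqJ V_B V_U V_R (v := [18]) (V_w_b.trans (Ctx.eq_of_eqW V_B (u := []) (by decide +kernel))) (lt_two' V_w_0 V_w_1)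
theorem st : St (C.grp Fi22Rel.gens) (Multiplicative (ZMod 3)) :=
  st_cyc bound rfl card.ge hrel V_cov _ (Ctx.eq_of_eqW hC (v := []) (by decide +kernel)) V_w
end
end CA.Fi22Cov3
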