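import Cfsg.Agent.Lib.Comp.CPres
import Cfsg.Prelude.Def_Spor_Fi22

set_option autoImplicit false
set_option maxRecDepth 100000

namespace CA.Fi22Rel
open CA.CWord CA.CPres Cfsg.Spor

def gen (i : ℕ) : Fi22.Gen := [.a, .b, .c, .d, .e, .f, .g, .h, .i].getD i .a

def idx : Fi22.Gen → ℕ
  | .a => 0
  | .b => 1
  | .c => 2
  | .d => 3
  | .e => 4
  | .f => 5
  | .g => 6
  | .h => 7
  | .i => 8

def rels : List Word := [[0,0], [2,2], [4,4], [6,6], [8,8], [10,10], [12,12], [14,14], [16,16], [0,2,0,2,0,2], [0,4,0,4], [0,6,0,6], [0,8,0,8], [0,10,0,10], [0,12,0,12], [0,14,0,14], [0,16,0,16], [2,4,2,4,2,4], [2,6,2,6], [2,8,2,8], [2,10,2,10], [2,12,2,12], [2,14,2,14], [2,16,2,16], [4,6,4,6,4,6], [4,8,4,8], [4,10,4,10], [4,12,4,12], [4,14,4,14], [4,16,4,16], [6,8,6,8,6,8], [6,10,6,10], [6,12,6,12], [6,14,6,14,6,14], [6,16,6,16], [8,10,8,10,8,10],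 [8,12,8,12], [8,14,8,14], [8,16,8,16], [10,12,10,12,10,12], [10,14,10,14], [10,16,10,16], [12,14,12,14], [12,16,12,16], [14,16,14,16,14,16], [6,4,2,6,8,10,6,14,16,6,4,2,6,8,10,6,14,16,6,4,2,6,8,10,6,14,16,6,4,2,6,8,10,6,14,16,6,4,2,6,8,10,6,14,16,6,4,2,6,8,10,6,14,16,6,4,2,6,8,10,6,14,16,6,4,2,6,8,10,6,14,16,6,4,2,6,8,10,6,14,16,6,4,2,6,8,10,6,14,16], [0,2,4,6,8,10,14,0,2,4,6,8,10,14,0,2,4,6,8,10,14,0,2,4,6,8,10,14,0,2,4,6,8,10,14,0,2,4,6,8,10,14,0,2,4,6,8,10,14,0,2,4,6,8,10,14,0,2,4,6,8,10,14], [2,4,6,8,10,12,14,2,4,6,8,10,12,14,2,4,6,8,10,12,14,2,4,6,8,10,12,14,2,4,6,8,10,12,14,2,4,6,8,10,12,14,2,4,6,8,10,12,14,2,4,6,8,10,12,14,2,4,6,8,10,12,14]]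

def gens : List Word := [[0], [2], [4], [6], [8], [10], [12], [14], [16]]

theorem enc : Enc Fi22.edges Fi22.extra gen 9 rels :=
  enc_of idx [(.a, .a), (.b, .b), (.c, .c), (.d, .d), (.e, .e), (.f, .f), (.g, .g), (.h, .h), (.i, .i), (.a, .b), (.a, .c), (.a, .d), (.a, .e), (.a, .f), (.a, .g), (.a, .h), (.a, .i), (.b, .c), (.b, .d), (.b, .e), (.b, .f), (.b, .g), (.b, .h), (.b, .i), (.c, .d), (.c, .e), (.c, .f), (.c, .g), (.c, .h), (.c, .i), (.d, .e), (.d, .f), (.d, .g), (.d, .h), (.d, .i), (.e, .f), (.e, .g), (.e, .h), (.e, .i), (.f, .g), (.f, .h), (.f, .i), (.g, .h), (.g, .i), (.h, .i)]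
    [[6,4,2,6,8,10,6,14,16,6,4,2,6,8,10,6,14,16,6,4,2,6,8,10,6,14,16,6,4,2,6,8,10,6,14,16,6,4,2,6,8,10,6,14,16,6,4,2,6,8,10,6,14,16,6,4,2,6,8,10,6,14,16,6,4,2,6,8,10,6,14,16,6,4,2,6,8,10,6,14,16,6,4,2,6,8,10,6,14,16], [0,2,4,6,8,10,14,0,2,4,6,8,10,14,0,2,4,6,8,10,14,0,2,4,6,8,10,14,0,2,4,6,8,10,14,0,2,4,6,8,10,14,0,2,4,6,8,10,14,0,2,4,6,8,10,14,0,2,4,6,8,10,14], [2,4,6,8,10,12,14,2,4,6,8,10,12,14,2,4,6,8,10,12,14,2,4,6,8,10,12,14,2,4,6,8,10,12,14,2,4,6,8,10,12,14,2,4,6,8,10,12,14,2,4,6,8,10,12,14,2,4,6,8,10,12,14]]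
    (fun x => by cases x <;> decide) (by decide) (by decide +kernel) (by decide +kernel) (by decide +kernel)
    (by decide +kernel) (by decide +kernel)

end CA.Fi22Rel
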