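import Cfsg.Agent.Lib.Spor.Fi24TC
import Cfsg.Agent.Lib.Spor.Fi23Pres
import Cfsg.Agent.Lib.Spor.FiIdx
import Cfsg.Agent.Lib.Fi.FiBase
import Cfsg.Agent.Lib.Grp.Homot

/-! The presented group `Fi24` is the permutation group `X C24`. -/

set_option autoImplicit false
set_option maxRecDepth 100000
set_option Elab.async false
set_option linter.unusedVariables false
set_option linter.style.haveILetI false

namespace CA.Fi24Pres
open Equiv CA.CNet CA.CWord CA.CLevel CA.H27Pres CA.CSimple CA.CPoint CA.CTodd CA.CPres CA.Fi Cfsg.Spor CA.Homot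
open CA.FiSimple (wl wm wn drop23 X24)
open CA.FiIdx (par)
open CA.Fi24RelB (rels enc)

noncomputable def un (l : List Word) : Eqs := lmap (fun r => (r, [])) l

theorem of_un {G : Type*} [Group G] {q : ℕ → G} {l : List Word} (h : Sat q (un l)) : ∀ r ∈ l, ev q r = 1 :=
  fun r hr => h (r, []) (mem_lmap _ hr)

/-- the mirror image of the diagram -/
def τ : List Word := [[12],[10],[8],[6],[4],[2],[0],[14],[16],[20],[18],[24],[22],[10,8,6,4,14,6,8,10,12,10,8,6,14,4,6,8,10]]
noncomputable def σ : List Word := [[0],[2],[4],[6],[8],[10],[12],[14],[16],[18],[20],[22],wm,wn]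
noncomputable def wr : Word := wpow [12,10,8,6,4,2,14] 9
noncomputable def sp : Word := wpow [6,4,2,6,8,10,6,14,16] 10

theorem low8 : 348364800 ≤ Nat.card (grp (sw C23.g τ) [[0],[2],[4],[6],[8],[10],[14],[20],[22]]) := by
  rw [← grp_lmap_subst]
  exact (Nat.le_of_ble_eq_true (by decide +kernel)).trans (lowB_le ok23 [(0, [14, 0, 16, 2, 4, 14, 6, 0, 8, 12, 10, 6, 2, 4, 8, 2, 6, 0, 12, 14, 8], [[0], [2], [4], [6], [8], [10], [12]]), (31652, [0, 2, 4, 6, 8, 12, 10, 6, 4, 2, 8, 0, 6, 12, 4, 2, 6, 8, 10, 4, 6, 12, 8, 6, 4, 2, 0], [[2], [4], [6], [8], [10], [12]]), (171, [0, 2, 4, 6, 10, 8, 4, 2, 0, 6, 4, 10, 2, 4, 6, 8], [[2], [4], [6], [8], [10]]), (79, [0, 2, 4, 8, 6, 2, 0, 4, 2, 8], [[2], [4], [6], [8]]), (166, [0, 2, 6, 4, 0, 2], [[2], [4], [6]]), (536, [0, 4, 2], [[2]]), (2, [0], [])] _)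

theorem sat10 : Sat (sw C23.g τ) (un (sp :: Fi24TC.rels10)) := satS23 (by decide +kernel)

/-- the spider relation is a consequence -/
theorem spider {G : Type} [Group G] {q : ℕ → G} (h : ∀ r ∈ Fi24TC.rels10, ev q r = 1) : ev q sp = 1 := by
  have h1 : ∀ r ∈ Fi24TC.rels10, ev (fun i => (q i, sw C23.g τ i)) r = 1 := fun r hr => by
    rw [ev_prod, h r hr, of_un sat10 r (by simp [hr])]; rfl
  obtain ⟨h2, h3⟩ := Fi24TC.b_E8 _ _ h1
  have h4 := inj_of_card (MonoidHom.snd _ _) (h3.trans (by rw [map_grp_snd]; exact low8))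
    (Fi24TC.Sp.mem _ _ h1) ((map_ev _ _ _).trans (of_un sat10 sp (by simp)))
  rw [ev_prod] at h4
  exact congrArg Prod.fst h4

theorem ev_twist {G : Type*} [Group G] {q : ℕ → G} {z : G} (hz : z * z = 1) {k : ℕ} (hc : ∀ i < k, Commute z (q i))
    (w : Word) (hw : ∀ a ∈ w, a < 2 * k) : ev (fun i => q i * z) w = ev q w * (if par w then 1 else z) := by
  induction w with
  | nil => simp [par]
  | cons a w ih =>
    have e : par (a :: w) = Bool.rec true false (par w) := rfl
    have c1 := hc (a / 2) (by have := hw a (by simp); omega)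
    have c2 : Commute z (ev q w) := ev_mem_of_lt (H := Subgroup.centralizer {z})
      (fun i hi => Subgroup.mem_centralizer_singleton_iff.2 (hc i hi).symm) (fun b hb => hw b (by simp [hb])) z rfl
    have e2 : lv (fun i => q i * z) a = lv q a * z := by
      unfold lv; split_ifs
      · rfl
      · rw [mul_inv_rev, inv_eq_of_mul_eq_one_right hz, c1.inv_right.eq]
    rw [ev_cons, ev_cons, ih fun b hb => hw b (by simp [hb]), e2, e, mul_assoc, ← mul_assoc z, c2.eq]
    cases par w <;> simp [mul_assoc, hz]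

theorem dbl {G : Type} [Group G] {q : ℕ → G} {z : G} (hz : z * z = 1) (hc : ∀ i < 10, Commute z (q i))
    (hr : ∀ r ∈ Fi23RelB.rels, ev q r = if par r then 1 else z) :
    ∃ S : Subgroup G, Finite S ∧ Nat.card S ≤ 8178940946586009600 ∧ z ∈ S ∧ ∀ i < 10, q i ∈ S := by
  obtain ⟨h1, h2⟩ := Fi23Pres.bound G (fun i => q i * z) fun r h => by
    rw [ev_twist hz hc r ((by decide +kernel : ∀ r ∈ Fi23RelB.rels, ∀ a ∈ r, a < 2 * 10) r h), hr r h]
    split_ifs <;> simp [hz]
  set A := grp (fun i => q i * z) Fi23RelB.gens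
  have hm : ∀ i < 10, q i * z ∈ A := fun i hi => by
    have := mem_grp (fun i => q i * z) ((by decide : ∀ i < 10, [2 * i] ∈ Fi23RelB.gens) i hi)
    rwa [ev_gen] at this
  have cz : ∀ x ∈ A, x * z = z * x := fun x hx => by
    have : A ≤ Subgroup.centralizer {z} := by
      rw [grp_le_iff]
      intro w hw
      exact ev_mem_of_lt (k := 10) (fun i hi => Subgroup.mem_centralizer_singleton_iff.2
        ((hc i hi).symm.mul_left (Commute.refl z))) ((by decide : ∀ w ∈ Fi23RelB.gens, ∀ a ∈ w, a < 2 * 10) w hw)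
    exact Subgroup.mem_centralizer_singleton_iff.1 (this hx)
  let f : A × Multiplicative (ZMod 2) →* G := MonoidHom.noncommCoprod A.subtype
    (ZMod.lift 2 ⟨zmultiplesHom (Additive G) (Additive.ofMul z), by
      show Additive.ofMul (z ^ (2 : ℤ)) = 0
      rw [zpow_two, hz]; rfl⟩).toMultiplicativeLeft fun a b => by
      obtain ⟨n, hn⟩ := ZMod.intCast_surjective b.toAdd
      have : b = Multiplicative.ofAdd (n : ZMod 2) := by rw [hn]; rfl
      rw [this]
      show Commute a.1 (Additive.toMul (ZMod.lift 2 _ (n : ZMod 2)))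
      rw [ZMod.lift_coe]
      exact Commute.zpow_right (cz a a.2) n
  have hz' : z ∈ f.range := ⟨(1, Multiplicative.ofAdd ((1 : ℤ) : ZMod 2)), by
    show 1 * (Additive.toMul (ZMod.lift 2 _ ((1 : ℤ) : ZMod 2))) = z
    rw [ZMod.lift_coe]; simp⟩
  refine ⟨f.range, Finite.of_surjective _ f.rangeRestrict_surjective, ?_, hz', fun i hi => ?_⟩
  · refine (Nat.card_le_card_of_surjective _ f.rangeRestrict_surjective).trans ?_
    rw [Nat.card_prod, Nat.card_congr Multiplicative.toAdd, Nat.card_zmod]; omega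
  · have := f.range.mul_mem (x := q i * z) ⟨(⟨_, hm i hi⟩, 1), by simp [f]⟩ hz'
    rwa [mul_assoc, hz, mul_one] at this

noncomputable abbrev g0 := pg Fi24.edges Fi24.extra Fi24RelB.gen
/-- the generators `a, …, l` and the words `m`, `n` -/
noncomputable def g : ℕ → Fi24 := sw g0 σ

theorem g_eq : ∀ i < 12, g i = g0 i := fun i hi => by
  have : nth σ [] i = [2 * i] := by revert i; decide +kernel
  show ev g0 (nth σ [] i) = _
  rw [this, ev_gen]

theorem ev_g {w : Word} (h : ∀ a ∈ w, a < 2 * 12) : ev g w = ev g0 w := ev_congr g_eq h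

theorem hold : ∀ r ∈ rels, ev g r = 1 := fun r hr => by
  rw [ev_g ((by decide +kernel : ∀ r ∈ rels, ∀ a ∈ r, a < 2 * 12) r hr)]; exact enc.hold r hr

theorem exists_hom {G : Type} [Group G] {q : ℕ → G} (h : Sat q (lapp (un rels) [([24], wm), ([26], wn)]))
    (h1 : ∀ i, 14 ≤ i → q i = 1) : ∃ φ : Fi24 →* G, ∀ i, φ (g i) = q i := by
  obtain ⟨φ, hφ, -⟩ := enc.hom' (of_un h.left)
  refine ⟨φ, fun i => ?_⟩
  rcases lt_or_ge i 12 with hi | hi
  · rw [g_eq i hi, ← ev_gen g0, hφ _ (by simp; omega), ev_gen]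
  rcases lt_or_ge i 14 with hj | hj
  · obtain rfl | rfl : i = 12 ∨ i = 13 := by omega
    · exact (hφ wm (by decide +kernel)).trans ((h.right (_, wm) (by simp)).symm.trans (ev_gen q 12))
    · exact (hφ wn (by decide +kernel)).trans ((h.right (_, wn) (by simp)).symm.trans (ev_gen q 13))
  · rw [h1 i hj]
    show φ (ev g0 (nth σ [] i)) = 1
    rw [nth_eq_getD, List.getD_eq_default _ _ hj, ev_nil, map_one]

theorem exφ : ∃ φ : Fi24 →* Perm (Fin C24.n), ∀ i, φ (g i) = C24.g i :=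
  exists_hom (satQ24 (by decide +kernel)) fun i hi => g_of_le _ hi
theorem exψ : ∃ φ : Fi24 →* Perm (Fin C24.n), ∀ i, φ (g i) = sw C24.g τ i :=
  exists_hom (satS24 (by decide +kernel)) fun i hi => by
    show ev _ (nth τ [] i) = 1
    rw [nth_eq_getD, List.getD_eq_default _ _ hi, ev_nil]

noncomputable def φ : Fi24 →* Perm (Fin C24.n) := exφ.choose
theorem φ_ev (w : Word) : φ (ev g w) = C24.ev w := by rw [map_ev]; exact congrArg (ev · w) (funext exφ.choose_spec)
theorem φ_grp (ws : List Word) : (grp g ws).map φ = C24.grp ws := by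
  rw [map_grp]; exact congrArg (grp · ws) (funext exφ.choose_spec)

theorem sq : ∀ i < 12, g i * g i = 1 := fun i hi => by
  have := hold [2 * i, 2 * i] (by revert i; decide +kernel)
  simpa [ev_cons, lv_even] using this

theorem com {i j : ℕ} (hi : i < 12) (hj : j < 12) (h : [2 * i, 2 * j, 2 * i, 2 * j] ∈ rels) : Commute (g j) (g i) := by
  have := hold _ h
  simp only [ev_cons, lv_even, ev_nil, mul_one] at this
  rw [← mul_assoc, mul_eq_one_iff_eq_inv, mul_inv_rev, inv_eq_of_mul_eq_one_right (sq i hi),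
    inv_eq_of_mul_eq_one_right (sq j hj)] at this
  exact this.symm

theorem l_eq : ev g wl = g 11 := by
  have := hold (22 :: winv wl) (by decide +kernel)
  rw [ev_cons, ev_winv, mul_inv_eq_one] at this
  exact this.symm.trans (lv_even g 11)
theorem m_eq : ev g wm = g 12 := ev_g (by decide +kernel)
theorem n_eq : ev g wn = g 13 := ev_g (by decide +kernel)

theorem sing_le {S : Subgroup Fi24} {l : List ℕ} (h : ∀ i ∈ l, g i ∈ S) : grp g (sing l) ≤ S := by
  rw [grp_sing, Subgroup.closure_le]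
  rintro _ ⟨i, hi, rfl⟩; exact h i hi

noncomputable abbrev H : Subgroup Fi24 := grp g (sing l23)

theorem injH : ∀ x ∈ H, φ x = 1 → x = 1 := by
  obtain ⟨S, h1, h2, h3, h4⟩ := dbl (q := g) (sq 11 (by decide))
    (fun i hi => com (by omega) (by decide) (by revert i; decide +kernel)) fun r hr => by
      rcases (by decide +kernel : ∀ r ∈ Fi23RelB.rels, (par r = true ∧ (r ∈ rels ∨ r = sp)) ∨ (par r = false ∧ r = wl))
        r hr with ⟨e, h | rfl⟩ | ⟨e, rfl⟩ <;> rw [e]
      · exact hold r h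
      · exact spider fun r hr => hold r ((by decide +kernel : ∀ r ∈ Fi24TC.rels10, r ∈ rels) r hr)
      · exact l_eq
  have hle : H ≤ S := sing_le fun i hi => by
    rcases (by decide : ∀ i ∈ l23, i < 10 ∨ i = 11 ∨ i = 12 ∨ i = 13) i hi with h | rfl | rfl | rfl
    exacts [h4 i h, h3, m_eq ▸ ev_mem_of_lt h4 (by decide +kernel), n_eq ▸ ev_mem_of_lt h4 (by decide +kernel)]
  have := Finite.of_injective _ (Subgroup.inclusion_injective hle)
  exact fun x hx => inj_of_card φ ((Subgroup.card_le_of_le hle).trans (by rw [φ_grp, lev24.2.2]; exact h2)) hx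

theorem eq_of_inj {G : Type*} [Group G] {χ : Fi24 →* G} {A : Subgroup Fi24} (h : ∀ x ∈ A, χ x = 1 → x = 1) {x y : Fi24}
    (hx : x ∈ A) (hy : y ∈ A) (e : χ x = χ y) : x = y :=
  (inv_mul_eq_one.1 (h _ (A.mul_mem (A.inv_mem hx) hy) (by rw [map_mul, map_inv, e, inv_mul_cancel])))

noncomputable def inE (l : List ℕ) (e : Word × Word) : Bool := band (wIn l e.1) (wIn l e.2)

theorem satH {R : Eqs} (h : Sat C24.g R) (h' : lall R (inE l23) = true) : Sat g R := fun e he => by
  obtain ⟨h1, h2⟩ := band_iff.1 (lall_iff.1 h' e he)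
  exact eq_of_inj injH (mem_of_wIn _ h1) (mem_of_wIn _ h2) (by rw [φ_ev, φ_ev]; exact h e he)

theorem eqH (u v : Word) (h : band (inE l23 (u, v)) (eqI f24 B24 (u, v)) = true) : ev g u = ev g v :=
  satH (R := [(u, v)]) (satQ24 (lall_iff.2 (by simpa using (band_iff.1 h).2)))
    (lall_iff.2 (by simpa using (band_iff.1 h).1)) (u, v) (by simp)

def l' : List ℕ := [0,1,2,3,4,5,6,7,8,10,11,12,13]

theorem com_mk : Commute (g 12) (g 10) := by
  have : ev g wm ∈ Subgroup.centralizer {g 10} := (sing_le (l := [1,2,3,4,5,6,7]) fun i hi =>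
    Subgroup.mem_centralizer_singleton_iff.2 (com (i := i) (j := 10) (by simp at hi; omega) (by decide)
      (by revert i; decide +kernel)).symm) (mem_of_wIn g (by decide +kernel))
  rw [m_eq] at this
  exact Subgroup.mem_centralizer_singleton_iff.1 this

theorem satH' {R : Eqs} (h : lall R (fun e => band (inE l' e) (eqI (sub2 f24 τ) B24 e)) = true) : Sat g R := by
  obtain ⟨ψ, hψ⟩ := exψ
  have hm : g 12 * g 12 = 1 := by simpa [lv_even g 12] using eqH [2 * 12, 2 * 12] [] (by decide +kernel)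
  obtain ⟨S, h1, h2, h3, h4⟩ := dbl (q := sw g τ) hm (fun i hi => by
      rcases (by decide +kernel : ∀ i < 10, i = 9 ∨ band (inE l23 (24 :: nth τ [] i, lapp (nth τ [] i) [24]))
        (eqI f24 B24 (24 :: nth τ [] i, lapp (nth τ [] i) [24])) = true) i hi with rfl | h
      · show Commute _ (ev g [2 * 10])
        rw [ev_gen]; exact com_mk
      · have := eqH _ _ h
        rwa [ev_cons, ev_lapp, ev_gen g 12, lv_even g 12] at this) fun r hr => by
      rw [← ev_subst]
      rcases (by decide +kernel : ∀ r ∈ Fi23RelB.rels, (par r = true ∧ (subst τ r ∈ rels ∨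
        band (inE l23 (subst τ r, [])) (eqI f24 B24 (subst τ r, [])) = true)) ∨ (par r = false ∧ subst τ r = wr))
        r hr with ⟨e, h | h⟩ | ⟨e, h⟩ <;> rw [e]
      · exact hold _ h
      · exact eqH _ _ h
      · rw [h]; exact (eqH wr [24] (by decide +kernel)).trans (ev_gen g 12)
  have h5 : ∀ i ∈ [0,1,2,3,4,5,6,7,8,10], g i ∈ S := fun i hi => by
    obtain ⟨j, hj, e⟩ := (by decide : ∀ i ∈ [0,1,2,3,4,5,6,7,8,10], ∃ j < 10, nth τ [] j = [2 * i]) i hi
    have := h4 j hj
    rwa [Fi.sw, e, ev_gen] at this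
  have hle : grp g (sing l') ≤ S := sing_le fun i hi => by
    rcases (by decide : ∀ i ∈ l', i ∈ [0,1,2,3,4,5,6,7,8,10] ∨ i = 11 ∨ i = 12 ∨ i = 13) i hi with h | rfl | rfl | rfl
    exacts [h5 i h, l_eq ▸ sing_le h5 (mem_of_wIn g (by decide +kernel)), h3,
      n_eq ▸ sing_le h5 (mem_of_wIn g (by decide +kernel))]
  have := Finite.of_injective _ (Subgroup.inclusion_injective hle)
  have e1 : ∀ w, ψ (ev g w) = ev (sw C24.g τ) w := fun w => by
    rw [map_ev]; exact congrArg (ev · w) (funext hψ)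
  have h6 : C24.grp (sing l23) ≤ (grp g (sing l')).map ψ := by
    rw [Ctx.grp, drop23 cox24.left, grp_le_iff]
    intro w hw
    obtain ⟨v, hv, rfl⟩ := (by decide +kernel : ∀ w ∈ sing [0,1,2,3,4,5,6,7,8,9], ∃ v ∈ sing l', subst τ v = w) w hw
    exact ⟨_, mem_grp _ hv, by rw [e1, ev_subst]⟩
  have inj := fun x hx => inj_of_card ψ (x := x) ((Subgroup.card_le_of_le hle).trans (h2.trans
    (lev24.2.2 ▸ Subgroup.card_le_of_le h6))) hx
  intro e he
  obtain ⟨h7, h8⟩ := band_iff.1 (lall_iff.1 h e he)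
  obtain ⟨h9, h10⟩ := band_iff.1 h7
  exact eq_of_inj inj (mem_of_wIn _ h9) (mem_of_wIn _ h10) (by
    rw [e1, e1]; exact satS24 (R := [e]) (lall_iff.2 (by simpa using h8)) e (by simp))

theorem satX {R xs : Eqs} (hx : Sat g xs)
    (h : ∀ e ∈ R, e ∈ xs ∨ band (inE l' e) (eqI (sub2 f24 τ) B24 e) = true) : Sat g R := fun e he =>
  (h e he).elim (hx e) fun h => satH' (R := [e]) (lall_iff.2 (by simpa using h)) e (by simp)

theorem eqH' (u v : Word) (h : band (inE l' (u, v)) (eqI (sub2 f24 τ) B24 (u, v)) = true) : ev g u = ev g v :=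
  satX (R := [(u, v)]) (xs := []) (fun _ h => by simp at h) (by simpa using h) (u, v) (by simp)

def tw : Word := [20,22,0,20]
noncomputable def t : Fi24 := ev g tw
noncomputable instance act : MulAction Fi24 (Fin C24.n) := MulAction.compHom _ φ
theorem sm (x : Fi24) (i : Fin C24.n) : x • i = φ x i := rfl
theorem sm_ev (w : Word) (i : Fin C24.n) : ev g w • i = ev C24.g w i := by rw [sm, φ_ev]
theorem jk : Commute (g 10) (g 9) := com (by decide) (by decide) (by decide +kernel)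
theorem jt : ev g [18,20,22,0,20] = ev g [20,22,0,20,18] := by
  have h1 : Commute (g 9) (g 0) := com (by decide) (by decide) (by decide +kernel)
  have h2 : Commute (g 11) (g 9) := com (by decide) (by decide) (by decide +kernel)
  have := ((jk.mul_left (h2.mul_left (h1.symm.mul_left jk))).eq).symm
  simpa [lv_even g 9, lv_even g 10, lv_even g 11, lv_even g 0, mul_assoc] using this

theorem tt : t * t = 1 := (ev_lapp g tw tw).symm.trans (eqH' _ [] (by decide +kernel))
theorem t0 : t • P24 0 = P24 2 := Fin.ext ((congrArg _ (sm_ev _ _)).trans ((good24.im_eq _ _).symm.trans (by decide +kernel)))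
theorem φH {x : Fi24} (hx : x ∈ H) : φ x ∈ C24.grp (sing l23) := φ_grp _ ▸ Subgroup.mem_map_of_mem _ hx
theorem fixH : ∀ h ∈ H, h • P24 0 = P24 0 := fun h hh => (lev24.1.ge (φH hh)).2
noncomputable abbrev ls : List Word := lmap Prod.fst rk1.ls
theorem lsH {G : Type*} [Group G] (q : ℕ → G) : grp q ls ≤ grp q (sing l23) := (grp_le_iff _).2 fun w hw =>
  mem_of_wIn _ (lall_iff.1 (by decide +kernel : lall ls (wIn l23) = true) w hw)

theorem conj_ls : ∀ y ∈ grp g ls, t * y * t ∈ H := by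
  have : grp g ls ≤ H.comap (MulAut.conj t).toMonoidHom := by
    rw [grp_le_iff, ls, lmap_eq]
    intro w hw
    obtain ⟨p, hp, rfl⟩ := List.mem_map.1 hw
    have := satX (R := lmap (fun p => (lapp p.1 tw, lapp tw p.2)) rk1.ls) (xs := [([18,20,22,0,20], [20,22,0,20,18])])
      (fun e he => by rw [List.mem_singleton.1 he]; exact jt) (by decide +kernel) _ (mem_lmap _ hp)
    simp only [ev_lapp] at this
    show t * _ * t⁻¹ ∈ H
    rw [inv_eq_of_mul_eq_one_right tt, mul_assoc, t, this, ← mul_assoc, ← t, tt, one_mul]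
    exact mem_of_wIn _ (lall_iff.1 (by decide +kernel : lall rk1.ls (fun p => wIn l23 p.2) = true) p hp)
  intro y hy
  have h := this hy
  rwa [Subgroup.mem_comap, MulEquiv.coe_toMonoidHom, MulAut.conj_apply, inv_eq_of_mul_eq_one_right tt] at h

theorem orbH (q : Fin C24.n) (h1 : 1 ≤ (q : ℕ)) (h2 : (q : ℕ) ≤ 31671) : ∃ x ∈ C24.grp (sing l23), x • P24 2 = q := by
  obtain ⟨x, hx, e⟩ := repk1.2.1 q (by
    show (full 31671 <<< 1).testBit q = true
    rw [Nat.testBit_shiftLeft, testBit_full]; simp; omega)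
  refine ⟨x, hx, ?_⟩
  rw [show P24 2 = x⁻¹ q from Fin.ext e.symm]; simp

theorem stab2 : C24.grp (sing l23) ⊓ MulAction.stabilizer _ (P24 2) = C24.grp ls := by
  refine stab_of_card (lsH _) (fun x hx => ?_) (m := 31671) ?_ ?_
  · have : C24.grp ls ≤ MulAction.stabilizer _ (P24 2) := (grp_le_iff _).2 fun w hw => Fin.ext
      ((good24.im_eq _ _).symm.trans (Nat.eq_of_beq_eq_true (lall_iff.1
        (by decide +kernel : lall ls (fun w => Nat.beq (im f24 w 2) 2) = true) w hw)))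
    exact this hx
  · refine le_trans (by decide +kernel) (cnt_le_orbit ok24 (O := Nat.shiftLeft (full 31671) 1) fun i hi => ?_)
    have hi' : (full 31671 <<< 1).testBit i = true := hi
    rw [Nat.testBit_shiftLeft, testBit_full] at hi'
    simp at hi'
    exact orbH i (by omega) (by omega)
  · rw [lev24.2.2]; exact le_trans (by decide) (Nat.mul_le_mul_left _ lowk1)

theorem stabH : ∀ h ∈ H, h • t • P24 0 = t • P24 0 → t * h * t ∈ H := fun h hh e => by
  rw [t0] at e
  obtain ⟨y, hy, e2⟩ : φ h ∈ (grp g ls).map φ := by rw [φ_grp, ← stab2]; exact ⟨φH hh, e⟩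
  rw [← eq_of_inj injH (lsH g hy) hh e2]; exact conj_ls y hy

theorem invH : C24.inv (sing l23) (full 31672) = true := by decide +kernel
theorem covT : sub (Nat.land (full 31672) (C24.pull tw (full 31672))) (C24.clo ls [4,2,6,12,8,14,22,4,10,8,14,16,6,12,20,4,22,10,8,2,6,12,14,22,4,8,10,16,8,2]
    (PLevel.mkM [0,2,3])) = true := by decide +kernel

theorem smallN {q : Fin C24.n} (h : N H t (P24 0) q) : (full 31672).testBit q = true := by
  obtain ⟨s, hs | ⟨a, ha, b, hb, rfl⟩, rfl⟩ := h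
  · rw [fixH s hs]; decide +kernel
  · rw [mul_smul, fixH b hb, mul_smul, t0, sm, Ctx.inv_spec ok24 invH (φH ha)]; decide +kernel

theorem loc : Loc H t (P24 0) where
  fix := fixH
  tt := tt
  ne := by rw [t0]; decide
  stab := stabH
  big := fun x hx => by
    have : φ x ∈ X C24 := by
      rw [X24, ← φ_grp]
      refine Subgroup.mem_map_of_mem _ ?_
      rw [grp_congr g_eq (by decide +kernel), show sing [0,1,2,3,4,5,6,7,8,9,10,11] = Fi24RelB.gens by decide +kernel,
        enc.top _ (by decide)]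
      trivial
    obtain ⟨y, hy, e⟩ : φ x ∈ H.map φ := by rw [φ_grp, ← lev24.1]; exact ⟨this, hx⟩
    exact ⟨y, hy, fun q => by rw [sm, sm, e]⟩
  tri := fun h hh hn => by
    have h1 := smallN hn
    have h2 : (full 31672).testBit (h • t • P24 0 : Fin C24.n) = true :=
      smallN ⟨h * t * 1, Or.inr ⟨h, hh, 1, H.one_mem, rfl⟩, by rw [mul_one, mul_smul]⟩
    obtain ⟨x, hx, e⟩ := Ctx.clo_spec ok24 _ _ _ (h • t • P24 0) (sub_spec covT (by
      show Nat.testBit (_ &&& _) _ = true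
      rw [Nat.testBit_and, h2, Ctx.testBit_pull ok24, ← φ_ev]; exact h1))
    rw [← φ_grp] at hx
    obtain ⟨y, hy, rfl⟩ := hx
    have hyh := H.mul_mem (lsH g hy) hh
    have e1 : t * h * t = (t * y * t)⁻¹ * (t * (y * h) * t) := by
      rw [mul_inv_rev, mul_inv_rev, inv_eq_of_mul_eq_one_right tt]
      simp only [mul_assoc]
      rw [← mul_assoc t t, tt, one_mul, inv_mul_cancel_left]
    rw [e1]
    refine S.left (H.inv_mem (conj_ls y hy)) ?_
    have := PLevel.mem_of_mk e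
    rw [← sm, ← mul_smul y] at this
    simp only [List.mem_cons, List.not_mem_nil, or_false] at this
    rcases this with e | e | e
    · have e2 : (y * h) • t • P24 0 = (y * h) • P24 0 := by rw [fixH _ hyh]; exact Fin.ext e
      rw [smul_left_cancel_iff, t0] at e2
      exact absurd e2 (by decide)
    · exact Or.inl (stabH _ hyh (by rw [Fin.ext (a := _) (b := P24 2) e, t0]))
    · have hu : ev g [2,0,4,2] ∈ H := mem_of_wIn _ (by decide +kernel)
      have e2 : ev g [2,0,4,2] • t • P24 0 = (y * h) • t • P24 0 := by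
        rw [Fin.ext (a := (y * h) • _) (b := P24 3) e, t0]
        exact Fin.ext ((congrArg _ (sm_ev _ _)).trans ((good24.im_eq _ _).symm.trans (by decide +kernel)))
      have h3 := stabH _ (H.mul_mem (H.inv_mem hu) hyh) (by rw [mul_smul, ← e2, inv_smul_smul])
      have h4 : t * ev g [2,0,4,2] * t = ev g [2,0,4,2] * t * ev g [2,0,4,2] := by
        simp only [t, ← ev_lapp]; exact eqH' _ _ (by decide +kernel)
      have e3 : t * (y * h) * t = t * ev g [2,0,4,2] * t * (t * ((ev g [2,0,4,2])⁻¹ * (y * h)) * t) := by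
        simp only [mul_assoc]
        rw [← mul_assoc t t, tt, one_mul, mul_inv_cancel_left]
      rw [e3, h4]
      exact S.right (Or.inr ⟨_, hu, _, hu, rfl⟩) h3

theorem nbN (q : Fin C24.n) (h : (q : ℕ) ≤ 31671) : N H t (P24 0) q := by
  rcases Nat.eq_zero_or_pos q with h0 | h0
  · exact ⟨1, Or.inl H.one_mem, (one_smul _ _).trans (Fin.ext h0.symm)⟩
  · obtain ⟨x, hx, e⟩ := orbH q h0 h
    rw [← φ_grp] at hx
    obtain ⟨y, hy, rfl⟩ := hx
    exact ⟨y * t * 1, Or.inr ⟨y, hy, 1, H.one_mem, rfl⟩, by rw [mul_one, mul_smul, t0]; exact e⟩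

def W : Word := [26,10,8,12,16,18,26,2,10,12,26,10,8,6,14,16,14,6,8,10,26,12,10,2,26,18,16,12,8,10,26]
noncomputable def κ : List Word := [[0],[2],[4],[6],[8],[10],[12],[14],[16],[18],[0,2,20,22,0,20,2,20,22,0,20,2,0],[22],[24],[26]]
theorem ev_κ (w : Word) (h : ∀ a ∈ w, a < 2 * 14) : ev g (subst κ w) = ev g w := by
  rw [ev_subst]
  refine ev_congr (fun i hi => ?_) h
  rcases (by decide +kernel : ∀ i < 14, i = 10 ∨ nth κ [] i = [2 * i]) i hi with rfl | e
  · exact (eqH' _ [20] (by decide +kernel)).trans (ev_gen g 10)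
  · rw [e, ev_gen]
def zb : List (Word × Word) := [([6,4,2,0,0,2], []), ([2], [2,0,22,6,8,10,12,18,6,14,16]), ([6,4,2,0,0,2], []), ([2], [2,0,22,6,8,10,12,18,6,14,16]), ([6,4,2,0,0,2], []), ([2], [2,0,22,6,8,10,12,18,6,14,16]), ([6,4,2,0,0,2], []), ([2], [2,0,22,6,8,10,12,18,6,14,16]), ([6,4,2,0,0,2], []), ([2], [2,0,22,6,8,10,12,18,6,14,16]), ([6,4,2,0,0,2], []), ([2], [2,0,22,6,8,10,12,18,6,14,16]), ([6,4,2,0,0,2], []), ([2], [2,0,22,6,8,10,12,18,6,14,16]), ([6,4,2,0,0,2], []), ([2], [2,0,22,6,8,10,12,18,6,14,16]), ([6,4,2,0,0,2], []), ([2], [2,0,22,6,8,10,12,18,6,14,16]), ([6,4,2,0,0,2], []), ([2], [2,0,22,6,8,10,12,18,6,14,16]), ([6,4,2,0,0,2], []), ([2], [2,0,22,6,8,10,12,18,6,14,16]), ([6,4,2,0,0,2], []), ([2], [2,0,22,6,8,10,12,18,6,14,16]), ([6,4,2,0,0,2], []), ([2], [2,0,22,6,8,10,12,18,6,14,16]), ([6,4,2,0,0,2], []), ([2], [2,0,22,6,8,10,12,18,6,14,16]), ([6,4,2,0,0,2], []), ([2], [2,0,22,6,8,10,12,18,6,14,16]), ([6,4,2,0,0,2], []), ([2],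 [2,0,22,6,8,10,12,18,6,14,16]), ([6,4,2,0,0,2], []), ([2], [2,0,22,6,8,10,12,18,6,14,16])]
noncomputable def qb : List (Word × Word) := [([0,2], []), ([2], lapp [2,0] W), ([0,2], []), ([2], [2,0])]
theorem inb {bs : List (Word × Word)} (h : lall bs (inE l23) = true) : ∀ x ∈ bs, ev g x.1 ∈ H ∧ ev g x.2 ∈ H :=
  fun x hx => ⟨mem_of_wIn _ (band_iff.1 (lall_iff.1 h x hx)).1, mem_of_wIn _ (band_iff.1 (lall_iff.1 h x hx)).2⟩
theorem pz : pts f24 tw zb [] = [2, 306432, 306428, 542, 0, 2460, 306432, 579, 542, 271724, 2460, 5678, 579, 142773, 271724, 141560, 5678, 188733, 142773, 170492, 141560, 26200, 188733, 269252, 170492, 31352, 26200, 3290, 269252, 2, 31352, 306428, 3290, 0] := by decide +kernel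
theorem pq : pts f24 tw qb [] = [3290, 306424, 25777, 0] := by decide +kernel
def ms : List Mv := [⟨0, 10, 29200, [2,0,20,22,14,6,8,10,12,18,4,6,14,8,10,6,8,4,6,14,12,10,8,6,4,2,0,20]⟩,
  ⟨1, 10, 37150, [20,4,6,8,10,12,18,2,4,6,8,0,2,4,6,14,16,8,10,6,8,2,4,6,14,12,10,8,6,4,2,0,20]⟩,
  ⟨2, 10, 274074, [20,4,6,14,16,6,8,4,6,14,2,4,6,8,10,12,18,10,8,6,14,16,4,6,14,12,8,10,2,4,6,8,0,2,4,6,14,16,14,10,6,8,2,4,6,14,12,10,8,6,4,2,0,20]⟩,
  ⟨2, 4, 20518, [0,20,2,4,6,14,16,10,8,2,4,6,14,0,2,4,6,8,10,12,18,10,8,6,14,16,4,6,14,8,10,2,4,6,8,0,2,4,6,14,16,10,4,6,8,0,2,4,6,14,12,10,8,6,4,2,0,20]⟩,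
  ⟨2, 1, 17251, [20,16,4,6,14,0,2,4,6,8,10,12,18,6,14,16,8,6,14,12,6,8,10,4,6,8,2,4,6,14,16,8,10,6,8,0,2,4,6,14,12,10,8,6,4,2,0,20]⟩,
  ⟨1, 1, 301853, [22,6,8,4,6,14,10,8,6,4,2,0,20]⟩,
  ⟨2, 1, 25777, [0,20,22,4,6,14,0,2,4,6,8,10,12,18,14,16,6,14,8,10,4,6,8,2,4,6,14,16,8,10,6,8,2,4,6,14,12,10,8,6,4,2,0,20]⟩,
  ⟨1, 1, 306424, [20]⟩,
  ⟨0, 1, 537, [4,2,0,20,22,6,4,2,0,20]⟩,
  ⟨0, 1, 3290, [0,20,22,2,0,20]⟩]
noncomputable def zw : Word := wpow [6,4,2,0,20,22,6,8,10,12,18,6,14,16] 17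

theorem kW : ev g (20 :: W) = ev g (lapp W [20]) := by
  have h1 := mem_of_run loc rfl good24 sm_ev nbN (tw := tw) rfl (inb (by decide +kernel)) (inb (by decide +kernel))
    pz pq (ms := ms) (by decide +kernel) (by
      rw [show flat tw zb = subst κ zw by decide +kernel, ev_κ _ (by decide +kernel), hold _ (by decide +kernel)]
      exact H.one_mem)
  rw [show flat tw qb = subst κ (20 :: lapp W [20]) by decide +kernel, ev_κ _ (by decide +kernel)] at h1
  have h2 := eq_of_inj injH h1 (mem_of_wIn g (w := W) (by decide +kernel)) (by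
    rw [φ_ev, φ_ev]; exact satQ24 (R := [(20 :: lapp W [20], W)]) (by decide +kernel) _ (List.mem_singleton_self _))
  rw [ev_cons, ev_lapp, ev_gen g 10, lv_even g 10] at h2
  rw [ev_cons, ev_lapp, ev_gen g 10, lv_even g 10]
  nth_rewrite 1 [← h2]
  rw [← mul_assoc, sq 10 (by decide), one_mul]

theorem satK : Sat g Rk := by
  refine (satH sat24.left (by decide +kernel)).lapp (satX (xs := [([18,20,22,0,20], [20,22,0,20,18]), ([18,20], [20,18]),
    ([20,18], [18,20]), (20 :: W, lapp W [20]), (lapp W [20], 20 :: W)]) (fun e he => ?_) (by decide +kernel))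
  have h : ev g [20,18] = ev g [18,20] := by simpa [lv_even g 9, lv_even g 10] using jk.eq
  simp only [List.mem_cons, List.not_mem_nil, or_false] at he
  rcases he with rfl | rfl | rfl | rfl | rfl
  exacts [jt, h.symm, h, kW, kW.symm]

theorem top : grp g (sing l24) = ⊤ := by
  refine eq_top_iff.2 ?_
  rw [← enc.top Fi24RelB.gens (by decide), ← grp_congr g_eq (by decide +kernel)]
  exact grp_mono _ (by decide +kernel)

theorem φ_top : (grp g (sing l24)).map φ = X C24 := by rw [φ_grp, X_eq tab24]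

theorem inj : ∀ x ∈ grp g (sing l24), φ x = 1 → x = 1 := by
  obtain ⟨h1, h2⟩ := Pk.perm (l' := l24) (by decide +kernel) _ g satK
  exact fun x hx => inj_of_card φ (h2.trans (by rw [φ_top, lev24.2.1])) hx

theorem φ_inj : Function.Injective φ := (injective_iff_map_eq_one _).2 fun x => inj x (top ▸ trivial)

theorem equiv : ∃ e : Fi24 ≃* X C24, ∀ x, (e x).1 = φ x := by
  obtain ⟨f, hf⟩ := equiv_of_inj φ inj le_rfl φ_top
  exact ⟨(Subgroup.topEquiv.symm.trans (MulEquiv.subgroupCongr top.symm)).trans f, fun x => hf _⟩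

theorem index : H.index = 306936 :=
  index_of_inj φ top inj φ_top (φ_grp _) lev24.2.2 (by decide) (lev24.2.1.trans (by decide))

def subs : List Word := [[0],[2],[4],[6],[8],[10],[12],[14],[16],[18],[22]]
theorem subs_eq : grp g0 subs = H := by
  rw [← grp_congr g_eq (by decide +kernel), show subs = sing [0,1,2,3,4,5,6,7,8,9,11] by decide +kernel]
  refine (FiSimple.grp_drop (fun i hi => ?_) (by decide +kernel)).symm
  rcases (by decide +kernel : ∀ i ∈ l23, lmem [0,1,2,3,4,5,6,7,8,9,11] i = true ∨ i = 12 ∨ i = 13) i hi with h | rfl | rfl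
  exacts [FiSimple.gen_mem h, m_eq ▸ mem_of_wIn g (by decide +kernel), n_eq ▸ mem_of_wIn g (by decide +kernel)]

theorem equiv' : Nonempty (Fi24' ≃* commutator (X C24)) := by
  obtain ⟨e, -⟩ := equiv
  refine ⟨(e.subgroupMap _).trans (MulEquiv.subgroupCongr ?_)⟩
  rw [commutator_def, commutator_def, Subgroup.map_commutator, Subgroup.map_top_of_surjective _ e.surjective]

theorem simple : IsSimpleGroup Fi24' ∧ Nat.card Fi24' = 1255205709190661721292800 := by
  obtain ⟨e⟩ := equiv'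
  obtain ⟨M⟩ := model24
  have := FiSimple.simple24 M
  exact ⟨e.isSimpleGroup, (Nat.card_congr e.toEquiv).trans (FiIdx.card24' M)⟩

end CA.Fi24Pres
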