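/-
Binary codes of length 24, dimension 12 and minimum weight 8: cosets, octads, uniqueness.
-/
import Cfsg.Agent.Lib.Spor.StModel

namespace CA.GolayUniq
open Cfsg CA.NatBits CA.Golay CA.M24Core CA.StSearch CA.StModel Finset

variable {α : Type*} [Fintype α] [DecidableEq α] {C : Submodule (ZMod 2) (α → ZMod 2)}

/-- the indicator word -/
def ind (s : Finset α) : α → ZMod 2 := fun a => if a ∈ s then 1 else 0

theorem support_ind (s : Finset α) : support₂ (ind s) = s := by ext a; simp [mem_support, ind]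

theorem ind_support (w : α → ZMod 2) : ind (support₂ w) = w := support_inj (support_ind _)

omit [Fintype α] [DecidableEq α] in
theorem sub_eq (v w : α → ZMod 2) : v - w = v + w := by ext a; exact CharTwo.sub_eq_add _ _

theorem norm_add (v w : α → ZMod 2) :
    hammingNorm (v + w) + 2 * (support₂ v ∩ support₂ w).card = hammingNorm v + hammingNorm w := by
  rw [← card_support, ← card_support, ← card_support, support_add, card_symmDiff]

theorem sum_norm (f : ℕ → ℕ) :
    ∑ u : α → ZMod 2, f (hammingNorm u) = ∑ m ∈ range (Fintype.card α + 1), (Fintype.card α).choose m * f m := by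
  have := sum_powerset_apply_card f (x := (univ : Finset α))
  rw [powerset_univ, card_univ] at this
  simp only [smul_eq_mul] at this
  rw [← this]
  exact Fintype.sum_equiv ⟨support₂, ind, ind_support, support_ind⟩ _ _ fun u => by rw [← card_support]; rfl

omit [DecidableEq α] in
theorem card_of_finrank (hdim : Module.finrank (ZMod 2) C = 12) : Nat.card C = 4096 := by
  rw [Module.natCard_eq_pow_finrank (K := ZMod 2), hdim, Nat.card_zmod]; rfl

theorem cosets (hα : Fintype.card α = 24) (hC : Nat.card C = 4096) (hmin : ∀ w ∈ C, w ≠ 0 → 8 ≤ hammingNorm w)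
    (w : α → ZMod 2) : (∃ u, {u | u - w ∈ C ∧ hammingNorm u ≤ 4} = {u} ∧ hammingNorm u ≤ 3) ∨
      ({u | u - w ∈ C ∧ hammingNorm u ≤ 4}.ncard = 6 ∧ ∀ u ∈ {u | u - w ∈ C ∧ hammingNorm u ≤ 4},
        hammingNorm u = 4 ∧ ∀ u' ∈ {u | u - w ∈ C ∧ hammingNorm u ≤ 4}, u ≠ u' →
          Disjoint (support₂ u) (support₂ u')) := by
  classical
  have := Fintype.ofFinite ((α → ZMod 2) ⧸ C)
  let f : ℕ → ℕ := fun n => if n ≤ 3 then 6 else if n = 4 then 1 else 0
  let g : ((α → ZMod 2) ⧸ C) → ℕ := fun q => ∑ u with Submodule.Quotient.mk u = q, f (hammingNorm u)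
  have hq : Fintype.card ((α → ZMod 2) ⧸ C) = 4096 := by
    have := Submodule.card_eq_card_quotient_mul_card C
    rw [hC, Nat.card_fun, Nat.card_zmod, Nat.card_eq_fintype_card, hα, Nat.card_eq_fintype_card] at this
    omega
  have two : ∀ w u u' : α → ZMod 2, u - w ∈ C → u' - w ∈ C → u ≠ u' → hammingNorm u ≤ 4 → hammingNorm u' ≤ 4 →
      hammingNorm u = 4 ∧ Disjoint (support₂ u) (support₂ u') := fun w u u' h h' hne h1 h2 => by
    have h3 := hmin _ (C.sub_mem h h') (by simpa [sub_eq_zero] using hne)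
    rw [sub_sub_sub_cancel_right, sub_eq] at h3
    have := norm_add u u'
    exact ⟨by omega, by rw [disjoint_iff_inter_eq_empty, ← card_eq_zero]; omega⟩
  have gS : ∀ w, g (Submodule.Quotient.mk w) = ∑ u with u - w ∈ C ∧ hammingNorm u ≤ 4, f (hammingNorm u) := fun w => by
    simp only [g, Submodule.Quotient.eq]
    rw [← filter_filter, sum_filter (s := filter _ _)]
    exact sum_congr rfl fun u _ => by simp only [f]; split_ifs <;> omega
  have alt : ∀ w, (∃ u, filter (fun u => u - w ∈ C ∧ hammingNorm u ≤ 4) univ = {u} ∧ hammingNorm u ≤ 3) ∨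
      ((∀ u, u - w ∈ C → hammingNorm u ≤ 4 → hammingNorm u = 4) ∧
        g (Submodule.Quotient.mk w) = (filter (fun u => u - w ∈ C ∧ hammingNorm u ≤ 4) univ).card ∧
        g (Submodule.Quotient.mk w) ≤ 6) := fun w => by
    by_cases h : ∃ u, u - w ∈ C ∧ hammingNorm u ≤ 3
    · obtain ⟨u, h1, h2⟩ := h
      refine Or.inl ⟨u, eq_singleton_iff_unique_mem.2 ⟨by simp [h1]; omega, fun u' hu' => ?_⟩, h2⟩
      by_contra hne
      have := (two w u u' h1 (mem_filter.1 hu').2.1 (Ne.symm hne) (by omega) (mem_filter.1 hu').2.2).1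
      omega
    · have h4 : ∀ u, u - w ∈ C → hammingNorm u ≤ 4 → hammingNorm u = 4 := fun u h1 h2 => by
        have : ¬ hammingNorm u ≤ 3 := fun h3 => h ⟨u, h1, h3⟩
        omega
      have e : g (Submodule.Quotient.mk w) = (filter (fun u => u - w ∈ C ∧ hammingNorm u ≤ 4) univ).card := by
        rw [gS, card_eq_sum_ones]
        exact sum_congr rfl fun u hu => by rw [h4 u (mem_filter.1 hu).2.1 (mem_filter.1 hu).2.2]; rfl
      refine Or.inr ⟨h4, e, ?_⟩
      have h5 := card_le_univ ((filter (fun u => u - w ∈ C ∧ hammingNorm u ≤ 4) univ).biUnion support₂)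
      rw [card_biUnion, sum_congr rfl (g := fun _ => 4), sum_const, smul_eq_mul, hα] at h5
      · omega
      · exact fun u hu => by rw [card_support, h4 u (mem_filter.1 hu).2.1 (mem_filter.1 hu).2.2]
      · intro u hu u' hu' hne
        have a := (mem_filter.1 (mem_coe.1 hu)).2
        have b := (mem_filter.1 (mem_coe.1 hu')).2
        exact (two w u u' a.1 b.1 hne a.2 b.2).2
  have le : ∀ q ∈ (univ : Finset ((α → ZMod 2) ⧸ C)), g q ≤ 6 := fun q _ => by
    obtain ⟨w, rfl⟩ := Submodule.Quotient.mk_surjective C q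
    rcases alt w with ⟨u, h1, h2⟩ | h
    · rw [gS, h1, sum_singleton]; simp [f, h2]
    · exact h.2.2
  have tot : ∑ q, g q = ∑ _q : (α → ZMod 2) ⧸ C, 6 := by
    rw [show ∑ q, g q = _ from sum_fiberwise univ (fun u => (Submodule.Quotient.mk u : _ ⧸ C))
      fun u => f (hammingNorm u), sum_norm, hα, sum_const, card_univ, hq]
    decide +kernel
  have eq6 := (sum_eq_sum_iff_of_le le).1 tot _ (mem_univ (Submodule.Quotient.mk w))
  have cs : {u | u - w ∈ C ∧ hammingNorm u ≤ 4} = ↑(filter (fun u => u - w ∈ C ∧ hammingNorm u ≤ 4) univ) := by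
    ext; simp
  rcases alt w with ⟨u, h1, h2⟩ | h
  · exact Or.inl ⟨u, by rw [cs, h1, coe_singleton], h2⟩
  · exact Or.inr ⟨by rw [cs, Set.ncard_coe_finset, ← h.2.1, eq6], fun u hu =>
      ⟨h.1 u hu.1 hu.2, fun u' hu' hne => (two w u u' hu.1 hu'.1 hne hu.2 hu'.2).2⟩⟩

theorem steiner_code (hα : Fintype.card α = 24) (hC : Nat.card C = 4096) (hmin : ∀ w ∈ C, w ≠ 0 → 8 ≤ hammingNorm w) :
    IsSteinerSystem 5 8 (wordsOfWeight (C : Set (α → ZMod 2)) 8) := by
  refine ⟨fun b hb => hb.2, fun s hs => existsUnique_of_exists_of_unique ?_ ?_⟩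
  · obtain ⟨x, hx⟩ : s.Nonempty := card_pos.1 (by omega)
    have h4 : hammingNorm (ind (s.erase x)) = 4 := by rw [← card_support, support_ind, card_erase_of_mem hx, hs]
    have hw : ind (s.erase x) ∈ {u | u - ind (s.erase x) ∈ C ∧ hammingNorm u ≤ 4} := ⟨by simp, h4.le⟩
    rcases cosets hα hC hmin (ind (s.erase x)) with ⟨u, h1, h2⟩ | ⟨h1, h2⟩
    · rw [h1, Set.mem_singleton_iff] at hw; rw [← hw] at h2; omega
    obtain ⟨S, hS⟩ := (Set.toFinite {u | u - ind (s.erase x) ∈ C ∧ hammingNorm u ≤ 4}).exists_finset_coe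
    rw [← hS] at h2
    have h5 : S.biUnion support₂ = univ := (card_eq_iff_eq_univ _).1 (by
      rw [card_biUnion fun u hu u' hu' => (h2 u hu).2 u' hu',
        sum_congr rfl fun u hu => (card_support u).trans (h2 u hu).1, sum_const, ← Set.ncard_coe_finset, hS, h1, hα]
      rfl)
    obtain ⟨u, hu, hxu⟩ := mem_biUnion.1 (h5 ▸ mem_univ x)
    have hne : u ≠ ind (s.erase x) := fun e => by rw [e, support_ind] at hxu; simp at hxu
    have hd := (h2 u hu).2 _ (hS ▸ hw) hne
    have hu' : u ∈ {u | u - ind (s.erase x) ∈ C ∧ hammingNorm u ≤ 4} := hS ▸ hu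
    have hn := norm_add u (ind (s.erase x))
    rw [disjoint_iff_inter_eq_empty.1 hd, (h2 u hu).1, h4] at hn
    refine ⟨_, ⟨⟨_, sub_eq u _ ▸ hu'.1, rfl⟩, (card_support _).trans hn⟩, fun y hy => ?_⟩
    rw [support_add, support_ind] at *
    rw [mem_symmDiff]
    by_cases e : y = x
    · exact Or.inl ⟨e ▸ hxu, by simp [e]⟩
    · exact Or.inr ⟨mem_erase.2 ⟨e, hy⟩, disjoint_right.1 hd (mem_erase.2 ⟨e, hy⟩)⟩
  · rintro _ _ ⟨⟨⟨v, hv, rfl⟩, h1⟩, h2⟩ ⟨⟨⟨w, hw, rfl⟩, h3⟩, h4⟩
    by_contra hne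
    have h5 := hmin _ (C.sub_mem hv hw) fun e => hne (by rw [sub_eq_zero.1 e])
    have h6 := norm_add v w
    have h7 := card_le_card (subset_inter h2 h4)
    rw [card_support] at h1 h3
    rw [sub_eq] at h5
    omega

theorem card_golay : Nat.card golayCode = 4096 := by
  rw [← ncard_Cw_eq, Cw, supports, Set.ncard_image_of_injective _ fun _ _ => support_inj]; rfl

theorem min_golay : ∀ w ∈ golayCode, w ≠ 0 → 8 ≤ hammingNorm w := fun w hw h => by
  have := card_of_mem_Cw (support_mem_Cw.2 hw)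
  rw [card_support] at this
  have := hammingNorm_pos_iff.2 h
  omega

theorem dvd_golay {w : GolayPt → ZMod 2} (hw : w ∈ golayCode) : 4 ∣ hammingNorm w := by
  have := card_of_mem_Cw (support_mem_Cw.2 hw)
  rw [card_support] at this
  omega

theorem golay_ind {Q : (GolayPt → ZMod 2) → Prop} (h0 : Q 0) (ha : ∀ v w, Q v → Q w → Q (v + w))
    (h8 : ∀ w ∈ golayCode, hammingNorm w = 8 → Q w) {w : GolayPt → ZMod 2} (hw : w ∈ golayCode) : Q w := by
  obtain ⟨m, hm, rfl⟩ := exists_wd w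
  refine isC_ind (Q := fun m => Q (wd m)) (wd_zero ▸ h0) (fun a b h h' => wd_xor a b ▸ ha _ _ h h') (fun r hr => ?_)
    ((wd_mem_iff hm).1 hw)
  have := ds_octad (allL_iff.1 (show allL basis isO = true by decide +kernel) r hr)
  exact h8 _ (ds_mem_Cw'.1 this.1) (by rw [← card_support, support_wd]; exact this.2)

theorem golay_uniq (hα : Fintype.card α = 24) (hC : Nat.card C = 4096) (hmin : ∀ w ∈ C, w ≠ 0 → 8 ≤ hammingNorm w) :
    ∃ e : α ≃ GolayPt, ∀ w : GolayPt → ZMod 2, w ∈ golayCode ↔ (fun i => w (e i)) ∈ C := by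
  obtain ⟨e, he⟩ := mod24 hα (steiner_code hα hC hmin)
  let φ : α ≃ GolayPt := Equiv.ofBijective e ⟨e.injective, fun x => (he.rng x).1 (ds_full ▸ mem_univ x)⟩
  have h1 : ∀ w ∈ golayCode, (fun i => w (φ i)) ∈ C := fun w hw => by
    refine golay_ind (Q := fun w => (fun i => w (φ i)) ∈ C) C.zero_mem (fun _ _ => C.add_mem) (fun w hw h8 => ?_) hw
    obtain ⟨b, hb⟩ := he.exists_map (s := support₂ w) (ds_full ▸ subset_univ _)
    obtain ⟨⟨c, hc, rfl⟩, -⟩ := (he.mem b).2 (hb ▸ ⟨support_mem_Cw.2 hw, (card_support w).trans h8⟩)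
    have : (fun i => w (φ i)) = c := support_inj (by
      ext a; rw [mem_support, ← mem_support, ← hb]; exact mem_map' e)
    exact this ▸ hc
  refine ⟨φ, fun w => ⟨h1 w, fun hw => ?_⟩⟩
  have hi : Function.Injective fun (w : GolayPt → ZMod 2) i => w (φ i) := fun v w h =>
    funext fun x => by simpa using congrFun h (φ.symm x)
  obtain ⟨v, hv⟩ := ((Nat.bijective_iff_injective_and_card (fun w : golayCode => (⟨_, h1 w w.2⟩ : C))).2
    ⟨fun v w h => Subtype.ext (hi (congrArg Subtype.val h)), card_golay.trans hC.symm⟩).2 ⟨_, hw⟩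
  exact hi (congrArg Subtype.val hv) ▸ v.2

omit [DecidableEq α] in
theorem norm_comp (e : α ≃ GolayPt) (w : GolayPt → ZMod 2) : hammingNorm (fun i => w (e i)) = hammingNorm w :=
  card_equiv e fun _ => by simp

end CA.GolayUniq
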