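import Cfsg.Agent.Lib.Spor.H12Y1
import Cfsg.Prelude.Def_Spor_M

/-! The spider relation on `Y₅₅₅`: reduction to the three sub-diagrams `Y₅₃₂`. -/

set_option autoImplicit false
set_option maxRecDepth 100000

namespace CA.H12Y
open CA.CNet CA.CWord CA.CTodd CA.CPres Cfsg.Spor

noncomputable section

def R16 : List Word := [[0,0], [2,2], [4,4], [6,6], [8,8], [10,10], [12,12], [14,14], [16,16], [18,18], [20,20], [22,22], [24,24], [26,26], [28,28], [30,30], [0,2,0,2,0,2], [0,4,0,4], [0,6,0,6], [0,8,0,8], [0,10,0,10], [0,12,0,12,0,12], [0,14,0,14], [0,16,0,16], [0,18,0,18], [0,20,0,20], [0,22,0,22,0,22], [0,24,0,24], [0,26,0,26], [0,28,0,28], [0,30,0,30], [2,4,2,4,2,4], [2,6,2,6], [2,8,2,8], [2,10,2,10], [2,12,2,12], [2,14,2,14], [2,16,2,16], [2,18,2,18], [2,20,2,20], [2,22,2,22], [2,24,2,24], [2,26,2,26], [2,28,2,28], [2,30,2,30], [4,6,4,6,4,6], [4,8,4,8], [4,10,4,10], [4,12,4,12],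 [4,14,4,14], [4,16,4,16], [4,18,4,18], [4,20,4,20], [4,22,4,22], [4,24,4,24], [4,26,4,26], [4,28,4,28], [4,30,4,30], [6,8,6,8,6,8], [6,10,6,10], [6,12,6,12], [6,14,6,14], [6,16,6,16], [6,18,6,18], [6,20,6,20], [6,22,6,22], [6,24,6,24], [6,26,6,26], [6,28,6,28], [6,30,6,30], [8,10,8,10,8,10], [8,12,8,12], [8,14,8,14], [8,16,8,16], [8,18,8,18], [8,20,8,20], [8,22,8,22], [8,24,8,24], [8,26,8,26], [8,28,8,28], [8,30,8,30], [10,12,10,12], [10,14,10,14], [10,16,10,16], [10,18,10,18], [10,20,10,20], [10,22,10,22], [10,24,10,24], [10,26,10,26], [10,28,10,28], [10,30,10,30], [12,14,12,14,12,14], [12,16,12,16], [12,18,12,18], [12,20,12,20], [12,22,12,22], [12,24,12,24], [12,26,12,26], [12,28,12,28], [12,30,12,30], [14,16,14,16,14,16], [14,18,14,18], [14,20,14,20], [14,22,14,22], [14,24,14,24], [14,26,14,26], [14,28,14,28], [14,30,14,30], [16,18,16,18,16,18], [16,20,16,20], [16,22,16,22],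 [16,24,16,24], [16,26,16,26], [16,28,16,28], [16,30,16,30], [18,20,18,20,18,20], [18,22,18,22], [18,24,18,24], [18,26,18,26], [18,28,18,28], [18,30,18,30], [20,22,20,22], [20,24,20,24], [20,26,20,26], [20,28,20,28], [20,30,20,30], [22,24,22,24,22,24], [22,26,22,26], [22,28,22,28], [22,30,22,30], [24,26,24,26,24,26], [24,28,24,28], [24,30,24,30], [26,28,26,28,26,28], [26,30,26,30], [28,30,28,30,28,30], [0,2,4,0,12,14,0,22,24,0,2,4,0,12,14,0,22,24,0,2,4,0,12,14,0,22,24,0,2,4,0,12,14,0,22,24,0,2,4,0,12,14,0,22,24,0,2,4,0,12,14,0,22,24,0,2,4,0,12,14,0,22,24,0,2,4,0,12,14,0,22,24,0,2,4,0,12,14,0,22,24,0,2,4,0,12,14,0,22,24]]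
def s1 : List Word := [[26], [24], [22], [0], [2], [4], [6], [12], [14], [8], [10]]
def K1 : List (ℕ × ℕ) := [(0, 0), (0, 0), (0, 0), (0, 0), (0, 0), (0, 0), (0, 0), (0, 0), (0, 0), (0, 0), (0, 0), (260, 0), (254, 0), (56, 0), (84, 0), (110, 0), (134, 0), (194, 0), (210, 0), (156, 0), (176, 0), (252, 0), (54, 0), (82, 0), (108, 0), (132, 0), (192, 0), (208, 0), (154, 0), (174, 0), (52, 0), (80, 0), (106, 0), (130, 0), (190, 0), (206, 0), (152, 0), (172, 0), (32, 1), (34, 1), (36, 1), (42, 1), (44, 1), (38, 1), (40, 1), (62, 1), (64, 1), (70, 1), (72, 1), (66, 1), (68, 1), (90, 1), (96, 1), (98, 1), (92, 1), (94, 1), (120, 1), (122, 1), (116, 1), (118, 1), (182, 1), (142, 0), (162, 0), (144, 0), (164, 0), (140, 1), (273, 3)]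
def s2 : List Word := [[6], [4], [2], [0], [12], [14], [16], [22], [24], [18], [20]]
def K2 : List (ℕ × ℕ) := [(0, 0), (0, 0), (0, 0), (0, 0), (0, 0), (0, 0), (0, 0), (0, 0), (0, 0), (0, 0), (0, 0), (90, 0), (64, 0), (36, 0), (120, 1), (122, 1), (124, 1), (130, 1), (132, 1), (126, 1), (128, 1), (62, 0), (34, 0), (96, 1), (98, 1), (100, 1), (106, 1), (108, 1), (102, 1), (104, 1), (32, 0), (70, 1), (72, 1), (74, 1), (80, 1), (82, 1), (76, 1), (78, 1), (42, 1), (44, 1), (46, 1), (52, 1), (54, 1), (48, 1), (50, 1), (182, 1), (184, 1), (190, 1), (192, 1), (186, 1), (188, 1), (200, 1), (206, 1), (208, 1), (202, 1), (204, 1), (220, 1), (222, 1), (216, 1), (218, 1), (252, 1), (232, 0), (242, 0), (234, 0), (244, 0), (230, 1), (273, 0)]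
def s3 : List Word := [[16], [14], [12], [0], [22], [24], [26], [2], [4], [28], [30]]
def K3 : List (ℕ × ℕ) := [(0, 0), (0, 0), (0, 0), (0, 0), (0, 0), (0, 0), (0, 0), (0, 0), (0, 0), (0, 0), (0, 0), (200, 0), (184, 0), (46, 0), (220, 1), (222, 1), (224, 1), (74, 0), (100, 0), (226, 1), (228, 1), (182, 0), (44, 0), (206, 1), (208, 1), (210, 1), (72, 0), (98, 0), (212, 1), (214, 1), (42, 0), (190, 1), (192, 1), (194, 1), (70, 0), (96, 0), (196, 1), (198, 1), (52, 1), (54, 1), (56, 1), (32, 1), (34, 1), (58, 1), (60, 1), (252, 1), (254, 1), (80, 0), (106, 0), (256, 1), (258, 1), (260, 1), (82, 0), (108, 0), (262, 1), (264, 1), (84, 0), (110, 0), (266, 1), (268, 1), (62, 1), (86, 1), (88, 1), (112, 1), (114, 1), (270, 1), (273, 6)]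
def pairs : List (Bimonster.Gen × Bimonster.Gen) := [(.a, .a), (.b1, .b1), (.c1, .c1), (.d1, .d1), (.e1, .e1), (.f1, .f1), (.b2, .b2), (.c2, .c2), (.d2, .d2), (.e2, .e2), (.f2, .f2), (.b3, .b3), (.c3, .c3), (.d3, .d3), (.e3, .e3), (.f3, .f3), (.a, .b1), (.a, .c1), (.a, .d1), (.a, .e1), (.a, .f1), (.a, .b2), (.a, .c2), (.a, .d2), (.a, .e2), (.a, .f2), (.a, .b3), (.a, .c3), (.a, .d3), (.a, .e3), (.a, .f3), (.b1, .c1), (.b1, .d1), (.b1, .e1), (.b1, .f1), (.b1, .b2), (.b1, .c2), (.b1, .d2), (.b1, .e2), (.b1, .f2), (.b1, .b3), (.b1, .c3), (.b1, .d3), (.b1, .e3), (.b1, .f3), (.c1, .d1), (.c1, .e1), (.c1, .f1), (.c1, .b2), (.c1, .c2), (.c1, .d2), (.c1, .e2), (.c1, .f2), (.c1, .b3), (.c1, .c3), (.c1, .d3), (.c1, .e3), (.c1, .f3), (.d1, .e1), (.d1, .f1), (.d1, .b2), (.d1, .c2), (.d1, .d2), (.d1, .e2), (.d1, .f2), (.d1, .b3), (.d1, .c3), (.d1, .d3), (.d1, .e3), (.d1, .f3), (.e1,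 .f1), (.e1, .b2), (.e1, .c2), (.e1, .d2), (.e1, .e2), (.e1, .f2), (.e1, .b3), (.e1, .c3), (.e1, .d3), (.e1, .e3), (.e1, .f3), (.f1, .b2), (.f1, .c2), (.f1, .d2), (.f1, .e2), (.f1, .f2), (.f1, .b3), (.f1, .c3), (.f1, .d3), (.f1, .e3), (.f1, .f3), (.b2, .c2), (.b2, .d2), (.b2, .e2), (.b2, .f2), (.b2, .b3), (.b2, .c3), (.b2, .d3), (.b2, .e3), (.b2, .f3), (.c2, .d2), (.c2, .e2), (.c2, .f2), (.c2, .b3), (.c2, .c3), (.c2, .d3), (.c2, .e3), (.c2, .f3), (.d2, .e2), (.d2, .f2), (.d2, .b3), (.d2, .c3), (.d2, .d3), (.d2, .e3), (.d2, .f3), (.e2, .f2), (.e2, .b3), (.e2, .c3), (.e2, .d3), (.e2, .e3), (.e2, .f3), (.f2, .b3), (.f2, .c3), (.f2, .d3), (.f2, .e3), (.f2, .f3), (.b3, .c3), (.b3, .d3), (.b3, .e3), (.b3, .f3), (.c3, .d3), (.c3, .e3), (.c3, .f3), (.d3, .e3), (.d3, .f3), (.e3, .f3)]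
def gen (i : ℕ) : Bimonster.Gen := [.a, .b1, .c1, .d1, .e1, .f1, .b2, .c2, .d2, .e2, .f2, .b3, .c3, .d3, .e3, .f3].getD i .a
def EX : List Word := [[0,2,4,0,12,14,0,22,24,0,2,4,0,12,14,0,22,24,0,2,4,0,12,14,0,22,24,0,2,4,0,12,14,0,22,24,0,2,4,0,12,14,0,22,24,0,2,4,0,12,14,0,22,24,0,2,4,0,12,14,0,22,24,0,2,4,0,12,14,0,22,24,0,2,4,0,12,14,0,22,24,0,2,4,0,12,14,0,22,24], [10,7,15,5,23,13,3,1,7,15,5,23,13,3,1,7,15,5,23,13,3,1,7,15,5,23,13,3,1,7,15,5,23,13,3,1,7,15,5,23,13,3,1,7,15,5,23,13,3,1,7,15,5,23,13,3,1,7,15,5,23,13,3,1], [10,7,25,5,13,23,3,1,7,25,5,13,23,3,1,7,25,5,13,23,3,1,7,25,5,13,23,3,1,7,25,5,13,23,3,1,7,25,5,13,23,3,1,7,25,5,13,23,3,1,7,25,5,13,23,3,1,7,25,5,13,23,3,1], [20,17,5,15,23,3,13,1,17,5,15,23,3,13,1,17,5,15,23,3,13,1,17,5,15,23,3,13,1,17,5,15,23,3,13,1,17,5,15,23,3,13,1,17,5,15,23,3,13,1,17,5,15,23,3,13,1,17,5,15,23,3,13,1], [20,17,25,15,3,23,13,1,17,25,15,3,23,13,1,17,25,15,3,23,13,1,17,25,15,3,23,13,1,17,25,15,3,23,13,1,17,25,15,3,23,13,1,17,25,15,3,23,13,1,17,25,15,3,23,13,1,17,25,15,3,23,13,1],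 [30,27,5,25,13,3,23,1,27,5,25,13,3,23,1,27,5,25,13,3,23,1,27,5,25,13,3,23,1,27,5,25,13,3,23,1,27,5,25,13,3,23,1,27,5,25,13,3,23,1,27,5,25,13,3,23,1,27,5,25,13,3,23,1], [30,27,15,25,3,13,23,1,27,15,25,3,13,23,1,27,15,25,3,13,23,1,27,15,25,3,13,23,1,27,15,25,3,13,23,1,27,15,25,3,13,23,1,27,15,25,3,13,23,1,27,15,25,3,13,23,1,27,15,25,3,13,23,1]]
def idx : Bimonster.Gen → ℕ
  | .a => 0
  | .b1 => 1
  | .c1 => 2
  | .d1 => 3
  | .e1 => 4
  | .f1 => 5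
  | .b2 => 6
  | .c2 => 7
  | .d2 => 8
  | .e2 => 9
  | .f2 => 10
  | .b3 => 11
  | .c3 => 12
  | .d3 => 13
  | .e3 => 14
  | .f3 => 15

abbrev ex1 : List (FreeGroup Bimonster.Gen) := [(Bimonster.a * Bimonster.b1 * Bimonster.c1 * Bimonster.a * Bimonster.b2 *
  Bimonster.c2 * Bimonster.a * Bimonster.b3 * Bimonster.c3) ^ 10]

theorem enc : Enc Bimonster.edges ex1 gen 16 R16 :=
  enc_of idx pairs (EX.take 1) (fun t => by cases t <;> decide) (by decide) (by decide +kernel) (by decide +kernel)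
    (by decide +kernel) (by decide +kernel) (by decide +kernel)

theorem red3 (M : ∀ {P : Type} [Group P] {g : ℕ → P}, (∀ r ∈ R11, ev g r = 1) → g 10 = ev g W1 ∧ g 10 = ev g W2)
    {P : Type} [Group P] {g : ℕ → P} (h : ∀ r ∈ R16, ev g r = 1) : ∀ w ∈ EX, ev g w = 1 := fun w hw => by
  have k : ∀ s : List Word, (∀ r ∈ R11, ev (fun i => ev g (nth s [] i)) r = 1) →
      ev g (lapp (nth s [] 10) (winv (subst s W1))) = 1 ∧ ev g (lapp (nth s [] 10) (winv (subst s W2))) = 1 := by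
    intro s hs
    obtain ⟨a, b⟩ := M hs
    rw [ev_lapp, ev_lapp, ev_winv, ev_winv, ev_subst, ev_subst, mul_inv_eq_one, mul_inv_eq_one]
    exact ⟨a, b⟩
  have k1 := k s1 (der_zip s1 K1 h (by decide +kernel) (by decide +kernel))
  have k2 := k s2 (der_zip s2 K2 h (by decide +kernel) (by decide +kernel))
  have k3 := k s3 (der_zip s3 K3 h (by decide +kernel) (by decide +kernel))
  rcases (by decide +kernel : ∀ w ∈ EX, w ∈ R16 ∨
    w = lapp (nth s1 [] 10) (winv (subst s1 W1)) ∨ w = lapp (nth s1 [] 10) (winv (subst s1 W2)) ∨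
    w = lapp (nth s2 [] 10) (winv (subst s2 W1)) ∨ w = lapp (nth s2 [] 10) (winv (subst s2 W2)) ∨
    w = lapp (nth s3 [] 10) (winv (subst s3 W1)) ∨ w = lapp (nth s3 [] 10) (winv (subst s3 W2))) w hw with
    e | e | e | e | e | e | e
  exacts [h w e, e ▸ k1.1, e ▸ k1.2, e ▸ k2.1, e ▸ k2.2, e ▸ k3.1, e ▸ k3.2]

theorem fin (M : ∀ {P : Type} [Group P] {g : ℕ → P}, (∀ r ∈ R11, ev g r = 1) → g 10 = ev g W1 ∧ g 10 = ev g W2) :
    ∀ r ∈ Bimonster.extra, PresentedGroup.mk (coxRelators Bimonster.edges ∪ {r' | r' ∈ ex1}) r = 1 := fun r hr => by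
  rw [← (by decide +kernel : EX.map (ev (fg gen)) = Bimonster.extra)] at hr
  obtain ⟨w, hw, rfl⟩ := List.mem_map.1 hr
  rw [mk_ev]
  exact red3 M enc.hold w hw

end
end CA.H12Y
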