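import Cfsg.Agent.Lib.Spor.HNG2
import Cfsg.Agent.Lib.Lin.SnPres
import Cfsg.Agent.Lib.Spor.HNC

/-! The Harada–Norton group contains `A₁₂`. -/

set_option autoImplicit false
set_option maxRecDepth 100000

namespace CA.HNG
open Equiv CA.CNet CA.CWord CA.CLevel CA.CSimple CA.CPoint CA.CTodd CA.CPres CA.CLow CA.DCos CA.HNM CA.HNT
open Cfsg.Spor

noncomputable section

def nmul (A A' : List ℕ × Word) : List ℕ × Word := (lapp A'.1 (lmap (ipt lk (winv A'.2)) A.1), lapp A'.2 A.2)
def Lt (A : List ℕ × Word) : Prop := ∀ l ∈ A.1, l < C.n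
def Dat.τ' (D : Dat) (l : ℕ) : HN := if h : l < C.n then D.τ ⟨l, h⟩ else 1
def Dat.pr (D : Dat) (ls : List ℕ) : HN := (ls.reverse.map D.τ').prod
def Dat.val (D : Dat) (A : List ℕ × Word) : HN := (D.φ ⟨_, mem A.2⟩)⁻¹ * D.pr A.1

theorem Lt.mul {A A' : List ℕ × Word} (h : Lt A) (h' : Lt A') : Lt (nmul A A') := fun l hl => by
  simp only [nmul, lapp_eq, lmap_eq, List.mem_append, List.mem_map] at hl
  rcases hl with hl | ⟨a, ha, rfl⟩
  · exact h' l hl
  · rw [show a = (⟨a, h a ha⟩ : Fin C.n) from rfl, ipt_eq hlk]; exact Fin.is_lt _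

theorem Dat.val_mul (D : Dat) {A : List ℕ × Word} (h : Lt A) (A' : List ℕ × Word) :
    D.val (nmul A A') = D.val A * D.val A' := by
  obtain ⟨ls, r⟩ := A
  obtain ⟨ls', r'⟩ := A'
  have : D.pr (ls.map (ipt lk (winv r'))) = D.φ ⟨_, mem r'⟩ * D.pr ls * (D.φ ⟨_, mem r'⟩)⁻¹ := by
    induction ls with
    | nil => simp [Dat.pr]
    | cons l ls ih =>
      have e : D.τ' (ipt lk (winv r') l) = D.φ ⟨_, mem r'⟩ * D.τ' l * (D.φ ⟨_, mem r'⟩)⁻¹ := by
        obtain ⟨s, hs, e⟩ := trans ⟨l, h l (by simp)⟩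
        have := D.hτ (⟨_, mem r'⟩ * ⟨s, hs⟩)
        rw [show l = (⟨l, h l (by simp)⟩ : Fin C.n) from rfl, ipt_eq hlk, ← e, Ctx.ev, ev_winv, inv_inv]
        simp only [Dat.τ', Fin.is_lt, dif_pos, Fin.eta, D.hτ ⟨s, hs⟩]
        exact this.trans (by rw [map_mul]; simp [mul_assoc])
      have := ih fun l hl => h l (by simp [hl])
      simp only [Dat.pr, List.map_cons, List.reverse_cons, List.map_append, List.prod_append, List.map_nil,
        List.prod_singleton] at this ⊢
      rw [this, e]; simp [mul_assoc]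
  have e : (⟨_, mem (lapp r' r)⟩ : H) = ⟨_, mem r'⟩ * ⟨_, mem r⟩ := Subtype.ext (ev_lapp _ _ _)
  simp only [Dat.val, nmul, e, map_mul, lapp_eq ls', lmap_eq]
  rw [Dat.pr, List.reverse_append, List.map_append, List.prod_append, ← Dat.pr, ← Dat.pr, this]
  simp [mul_assoc]

theorem Mod.app {D : Dat} (M : Mod D) (ls : List ℕ) (ξ : XM) : M.S.app ls ξ = M.ψ (D.pr ls) ξ := by
  induction ls generalizing ξ with
  | nil => simp [Dat.pr, Sys.app]
  | cons l ls ih =>
    refine (ih (M.S.m l ξ)).trans ?_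
    simp only [Dat.pr, List.reverse_cons, List.map_append, List.prod_append, List.map_singleton, List.prod_singleton,
      map_mul, Perm.mul_apply]
    congr 1
    unfold Sys.m Dat.τ'
    split_ifs
    · exact M.hμ _ _
    · simp

def Y : List (List ℕ × Word) := [([], [21,14,16,14,20,23]), ([], [23,14,16,20,20]), ([], [12,18,18,21,21,23]), ([], [14,23,17,20,23]), ([], [18,12,14,21]), ([], [5,7,5,0,6,12,18,17,21,21]), ([4,118], [5,7,5,0,6,12,18,17,21,21]), ([2,77], [5,7,5,0,6,12,18,17,21,21]), ([1,66], [5,7,5,0,6,12,18,17,21,21]), ([0,45], [5,7,5,0,6,12,18,17,21,21])]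
def starts : List (ℕ × Word) := [(0, []), (1, [1,1]), (1, [5,1,1]), (1, [5,2,5,1,8,5,1,1]), (1, [20,0,7,5,2,5,1,1])]
def DA0 : List (List (List ℕ)) := [[[], [], [], [], []],
  [[], [], [], [], []],
  [[], [], [], [], []],
  [[], [], [], [], []],
  [[], [], [], [], []],
  [[], [], [], [], []],
  [[26,26,32,64,84,91,113,144,76,26,26,1,9,20,1,11,14], [68,62,60,42,86,272,70,48,60,62,34], [74,60,62,78,132,62,74,48,57,35], [35,64,42,88,293,288,330,282,289,330,292,332,66,51,34,64,34], [35,61,67,86,204,215,221,270,410,228,272,44,64,50,53,35]],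
  [[27,32,64,84,91,113,144,76,26,20,9,15,10], [70,62,60,42,84,91,113,144,68,48,60,62,34], [78,90,112,150,244,132,62,62,56,35], [38,62,88,274,288,293,322,398,292,332,35,64,39,57], [51,84,91,118,112,110,152,320,112,118,144,45,61,43,67]],
  [[26,32,64,84,91,113,144,76,27,20,9,15,10], [72,64,86,272,72,65], [80,165,180,182,192,198,80,182,192,198,48,57,35], [42,44,88,278,285,293,322,398,292,332,51,66,50,53,34], [35,61,67,84,118,90,120,152,320,91,113,118,144,35,56,67,67,35]],
  [[32,64,84,91,113,144,76,1,9,20,1,11,14], [76,24,16,24,26,32,76,24,17,24,27,32,61,50,42], [82,90,112,118,142,242,118,128,51,57,50,34], [35,67,42,88,285,293,330,282,289,330,292,332,38,66,60,56,34], [51,86,205,223,228,270,410,272,52,60,50]]]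
def DA1 : List (List (List ℕ)) := [[[], [], [], [], []],
  [[], [], [], [], []],
  [[], [], [], [], []],
  [[], [], [], [], []],
  [[], [], [], [], []],
  [[], [], [], [], []],
  [[26,26,32,64,84,91,113,144,76,26,26,1,9,20,1,11,14], [68,62,60,42,86,272,70,48,60,62,34], [74,60,62,78,132,62,74,48,57,35], [35,64,42,88,293,288,330,282,289,330,292,332,66,51,34,64,34], [35,61,67,86,204,215,221,270,410,228,272,44,64,50,53,35]],
  [[27,32,64,84,91,113,144,76,26,20,9,15,10], [70,62,60,42,84,91,113,144,68,48,60,62,34], [78,90,112,150,244,132,62,62,56,35], [38,62,88,274,288,293,322,398,292,332,35,64,39,57], [51,84,91,118,112,110,152,320,112,118,144,45,61,43,67]],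
  [[26,32,64,84,91,113,144,76,27,20,9,15,10], [72,64,86,272,72,65], [80,165,180,182,192,198,80,182,192,198,48,57,35], [42,44,88,278,285,293,322,398,292,332,51,66,50,53,34], [35,61,67,84,118,90,120,152,320,91,113,118,144,35,56,67,67,35]],
  [[32,64,84,91,113,144,76,1,9,20,1,11,14], [76,24,16,24,26,32,76,24,17,24,27,32,61,50,42], [82,90,112,118,142,242,118,128,51,57,50,34], [35,67,42,88,285,293,330,282,289,330,292,332,38,66,60,56,34], [51,86,205,223,228,270,410,272,52,60,50]]]
def DA2 : List (List (List ℕ)) := [[[], [], [], [], []],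
  [[], [], [], [], []],
  [[], [], [], [], []],
  [[], [], [], [], []],
  [[], [], [], [], []],
  [[], [], [], [], []],
  [[26,26,32,64,84,91,113,144,76,26,26,1,9,20,1,11,14], [68,62,60,42,86,272,70,48,60,62,34], [74,60,62,78,132,62,74,48,57,35], [35,64,42,88,293,288,330,282,289,330,292,332,66,51,34,64,34], [35,61,67,86,204,215,221,270,410,228,272,44,64,50,53,35]],
  [[27,32,64,84,91,113,144,76,26,20,9,15,10], [70,62,60,42,84,91,113,144,68,48,60,62,34], [78,90,112,150,244,132,62,62,56,35], [38,62,88,274,288,293,322,398,292,332,35,64,39,57], [51,84,91,118,112,110,152,320,112,118,144,45,61,43,67]],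
  [[26,32,64,84,91,113,144,76,27,20,9,15,10], [72,64,86,272,72,65], [80,165,180,182,192,198,80,182,192,198,48,57,35], [42,44,88,278,285,293,322,398,292,332,51,66,50,53,34], [35,61,67,84,118,90,120,152,320,91,113,118,144,35,56,67,67,35]],
  [[32,64,84,91,113,144,76,1,9,20,1,11,14], [76,24,16,24,26,32,76,24,17,24,27,32,61,50,42], [82,90,112,118,142,242,118,128,51,57,50,34], [35,67,42,88,285,293,330,282,289,330,292,332,38,66,60,56,34], [51,86,205,223,228,270,410,272,52,60,50]]]
def DA3 : List (List (List ℕ)) := [[[], [], [], [], []],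
  [[], [], [], [], []],
  [[], [], [], [], []],
  [[], [], [], [], []],
  [[], [], [], [], []],
  [[], [], [], [], []],
  [[26,26,32,64,84,91,113,144,76,26,26,1,9,20,1,11,14], [68,62,60,42,86,272,70,48,60,62,34], [74,60,62,78,132,62,74,48,57,35], [35,64,42,88,293,288,330,282,289,330,292,332,66,51,34,64,34], [35,61,67,86,204,215,221,270,410,228,272,44,64,50,53,35]],
  [[27,32,64,84,91,113,144,76,26,20,9,15,10], [70,62,60,42,84,91,113,144,68,48,60,62,34], [78,90,112,150,244,132,62,62,56,35], [38,62,88,274,288,293,322,398,292,332,35,64,39,57], [51,84,91,118,112,110,152,320,112,118,144,45,61,43,67]],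
  [[26,32,64,84,91,113,144,76,27,20,9,15,10], [72,64,86,272,72,65], [80,165,180,182,192,198,80,182,192,198,48,57,35], [42,44,88,278,285,293,322,398,292,332,51,66,50,53,34], [35,61,67,84,118,90,120,152,320,91,113,118,144,35,56,67,67,35]],
  [[32,64,84,91,113,144,76,1,9,20,1,11,14], [76,24,16,24,26,32,76,24,17,24,27,32,61,50,42], [82,90,112,118,142,242,118,128,51,57,50,34], [35,67,42,88,285,293,330,282,289,330,292,332,38,66,60,56,34], [51,86,205,223,228,270,410,272,52,60,50]]]
def DA4 : List (List (List ℕ)) := [[[], [], [], [], []],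
  [[], [], [], [], []],
  [[], [], [], [], []],
  [[], [], [], [], []],
  [[], [], [], [], []],
  [[], [], [], [], []],
  [[26,26,32,64,84,91,113,144,76,26,26,1,9,20,1,11,14], [68,62,60,42,86,272,70,48,60,62,34], [74,60,62,78,132,62,74,48,57,35], [35,64,42,88,293,288,330,282,289,330,292,332,66,51,34,64,34], [35,61,67,86,204,215,221,270,410,228,272,44,64,50,53,35]],
  [[27,32,64,84,91,113,144,76,26,20,9,15,10], [70,62,60,42,84,91,113,144,68,48,60,62,34], [78,90,112,150,244,132,62,62,56,35], [38,62,88,274,288,293,322,398,292,332,35,64,39,57], [51,84,91,118,112,110,152,320,112,118,144,45,61,43,67]],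
  [[26,32,64,84,91,113,144,76,27,20,9,15,10], [72,64,86,272,72,65], [80,165,180,182,192,198,80,182,192,198,48,57,35], [42,44,88,278,285,293,322,398,292,332,51,66,50,53,34], [35,61,67,84,118,90,120,152,320,91,113,118,144,35,56,67,67,35]],
  [[32,64,84,91,113,144,76,1,9,20,1,11,14], [76,24,16,24,26,32,76,24,17,24,27,32,61,50,42], [82,90,112,118,142,242,118,128,51,57,50,34], [35,67,42,88,285,293,330,282,289,330,292,332,38,66,60,56,34], [51,86,205,223,228,270,410,272,52,60,50]]]
def DA5 : List (List (List ℕ)) := [[[], [], [], [], []],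
  [[], [], [], [], []],
  [[], [], [], [], []],
  [[], [], [], [], []],
  [[], [], [], [], []],
  [[], [], [], [], []],
  [[26,26,32,64,84,112,144,76,1,2,16,24,29,24,1,9,20,1,9,9,0,0,2], [68,62,60,42,86,221,226,250,91,113,118,144,38,56,63,57,53], [74,60,62,78,100,112,90,138,118,132,51,61,62,61,44], [35,64,42,88,293,288,330,282,284,330,292,332,61,67,34,50], [35,61,67,86,204,215,221,270,335,350,410,272,60,56,42,66]],
  [[27,32,64,84,112,144,76,2,13,28,24,17,24,15,9,15,1,1,2], [70,62,60,42,84,94,104,140,226,272,66,49,61,66], [78,90,112,150,204,221,226,250,128,43,61,62,56,39], [38,62,88,274,288,293,322,342,344,398,292,332,57,52,34,65,48], [51,84,91,118,112,110,152,290,320,112,118,144,65,65,34,67,38]],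
  [[26,32,64,84,112,144,76,28,9,24,16,24,17,14,0,15,0,0,2], [72,64,86,219,226,268,226,228,272,65,51,61,38], [80,165,180,182,192,198,56,62,74,56,39,65,74,60,63,38,57,39], [42,44,88,278,285,293,322,334,355,398,292,332,66,57,35,56,34], [35,61,67,84,118,90,120,152,278,320,91,113,118,144,39,67,44,67,49]],
  [[32,64,84,112,144,76,0,12,29,24,29,24,2,16,10,1,14], [76,24,16,24,26,32,67,84,90,112,144,65,51,43,57,38], [82,90,112,118,142,219,226,260,158,176,182,198,42,62,60,52], [35,67,42,88,285,293,330,290,285,330,292,332,64,63,65,43], [51,86,205,223,228,270,362,410,272,43,56,39]]]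
def DA6 : List (List (List ℕ)) := [[[26,26,32,45,64,84,91,113,144,76,26,26,1,9,20,0,14,8], [68,62,60,52,86,272,70,60,38,61,63], [74,38,56,62,78,132,62,74,39,56,45,35], [35,64,42,88,278,284,292,330,282,289,330,292,332,67,50,56,63,39], [35,61,67,86,204,215,220,270,410,228,272,64,53,66,57]],
  [[26,26,32,45,64,84,91,113,144,76,26,26,1,9,20,0,14,8], [68,62,60,52,86,272,70,60,38,61,63], [74,38,56,62,78,132,62,74,39,56,45,35], [35,64,42,88,278,284,292,330,282,289,330,292,332,67,50,56,63,39], [35,61,67,86,204,215,220,270,410,228,272,64,53,66,57]],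
  [[26,26,32,45,64,84,91,113,144,76,26,26,1,9,20,0,14,8], [68,62,60,52,86,272,70,60,38,61,63], [74,38,56,62,78,132,62,74,39,56,45,35], [35,64,42,88,278,284,292,330,282,289,330,292,332,67,50,56,63,39], [35,61,67,86,204,215,220,270,410,228,272,64,53,66,57]],
  [[26,26,32,45,64,84,91,113,144,76,26,26,1,9,20,0,14,8], [68,62,60,52,86,272,70,60,38,61,63], [74,38,56,62,78,132,62,74,39,56,45,35], [35,64,42,88,278,284,292,330,282,289,330,292,332,67,50,56,63,39], [35,61,67,86,204,215,220,270,410,228,272,64,53,66,57]],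
  [[26,26,32,45,64,84,91,113,144,76,26,26,1,9,20,0,14,8], [68,62,60,52,86,272,70,60,38,61,63], [74,38,56,62,78,132,62,74,39,56,45,35], [35,64,42,88,278,284,292,330,282,289,330,292,332,67,50,56,63,39], [35,61,67,86,204,215,220,270,410,228,272,64,53,66,57]],
  [[24,16,24,27,32,67,84,90,112,144,76,26,26,1,9,20,15,13,2], [62,60,42,84,94,104,140,226,272,70,50,62,61,66,48], [60,62,78,100,112,90,138,118,132,38,56,62,74,56,60,38], [34,42,67,88,278,298,292,330,282,284,330,292,332,67,60,38,63,35], [61,67,86,208,221,228,270,355,410,272,38,57,51,66]],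
  [[26,26,32,64,84,91,113,144,34,65,84,91,113,144,76,26,26,1,9,20,0,14,10,2], [68,62,60,42,86,272,35,45,86,272,70,50,60,62,35], [74,60,62,78,132,35,61,66,78,132,38,56,62,74,61,50,53,34], [35,64,42,88,293,288,330,282,289,330,274,282,284,330,282,289,330,292,332,67,50,56,63,39], [35,61,67,86,204,215,221,270,410,204,236,228,270,410,228,272,60,65,45,56,45]],
  [[27,32,64,84,91,113,150,226,236,250,118,138,95,148,118,144,76,26,26,1,9,20,0,8,1,1,2], [70,62,60,42,84,91,113,150,208,226,266,380,226,228,248,228,272,70,49,61,34,62], [78,90,112,150,248,219,226,258,396,184,196,118,132,38,56,62,74,57,49,51,34], [38,62,88,274,288,293,322,382,334,356,422,344,335,424,344,356,350,386,282,289,330,292,332,67,60,38,63,35], [51,84,91,118,112,110,152,284,292,310,351,356,422,344,335,424,335,344,416,410,228,272,64,53,66,57]],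
  [[26,32,64,84,95,118,148,112,118,99,138,90,118,120,140,226,244,144,76,26,26,1,9,20,0,8,10,15,0,2], [72,64,86,228,248,221,226,228,246,370,91,113,142,228,272,70,51,61,62,60,35], [80,165,180,182,192,198,74,56,62,78,118,128,56,39,65,82,118,132,60,62,74,38,56,45,35], [42,44,88,278,285,293,322,386,274,284,297,330,278,290,274,326,484,476,480,490,289,297,330,292,332,67,60,38,63,35], [35,61,67,84,118,90,120,152,284,292,308,284,296,330,278,290,274,326,484,483,494,335,344,410,228,272,64,53,66,57]],
  [[32,64,84,91,113,142,205,226,260,181,158,192,202,226,228,242,144,76,26,26,1,9,20,10,10,1,2], [76,24,16,24,26,32,68,57,39,86,228,244,113,150,228,272,70,65,60,63,38,35], [82,90,112,118,142,248,226,228,246,368,118,130,118,132,38,56,62,74,61,48,50], [35,67,42,88,285,293,330,278,290,274,322,334,355,356,418,418,356,354,398,282,297,330,292,332,67,60,38,63,35], [51,86,205,223,228,270,426,477,489,482,482,502,228,262,484,488,496,410,228,272,60,65,45,56,45]]]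
def DA7 : List (List (List ℕ)) := [[[27,32,45,64,84,91,113,144,76,26,20,11,1,12,2], [70,62,60,52,84,91,113,144,68,60,38,61,63], [78,91,113,150,244,132,44,61,51], [38,62,88,292,290,278,322,398,292,332,50,44,64,60], [51,84,118,113,152,320,90,113,118,144,42,65,61,67,34]],
  [[27,32,45,64,84,91,113,144,76,26,20,11,1,12,2], [70,62,60,52,84,91,113,144,68,60,38,61,63], [78,91,113,150,244,132,44,61,51], [38,62,88,292,290,278,322,398,292,332,50,44,64,60], [51,84,118,113,152,320,90,113,118,144,42,65,61,67,34]],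
  [[27,32,45,64,84,91,113,144,76,26,20,11,1,12,2], [70,62,60,52,84,91,113,144,68,60,38,61,63], [78,91,113,150,244,132,44,61,51], [38,62,88,292,290,278,322,398,292,332,50,44,64,60], [51,84,118,113,152,320,90,113,118,144,42,65,61,67,34]],
  [[27,32,45,64,84,91,113,144,76,26,20,11,1,12,2], [70,62,60,52,84,91,113,144,68,60,38,61,63], [78,91,113,150,244,132,44,61,51], [38,62,88,292,290,278,322,398,292,332,50,44,64,60], [51,84,118,113,152,320,90,113,118,144,42,65,61,67,34]],
  [[27,32,45,64,84,91,113,144,76,26,20,11,1,12,2], [70,62,60,52,84,91,113,144,68,60,38,61,63], [78,91,113,150,244,132,44,61,51], [38,62,88,292,290,278,322,398,292,332,50,44,64,60], [51,84,118,113,152,320,90,113,118,144,42,65,61,67,34]],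
  [[24,16,24,32,39,67,84,90,112,144,76,26,20,1,1,11,1], [62,60,42,86,221,226,250,91,113,118,144,68,51,61,62,56,44], [60,62,82,112,118,101,140,226,244,132,45,61,44], [38,48,64,88,284,282,293,322,342,344,398,292,332,50,44,64,60], [42,84,90,95,118,113,152,278,288,320,118,113,144,45,66,51,38]],
  [[26,26,32,64,84,95,118,148,112,118,99,138,90,118,120,140,226,244,144,76,26,20,0,10,10,1], [68,62,60,42,86,228,248,205,226,258,376,226,228,244,144,68,53,61,34,62,56], [74,60,62,78,118,126,177,159,184,200,380,226,248,244,132,56,61,57,34], [35,64,42,88,293,288,330,278,290,274,328,334,356,355,412,342,350,418,356,382,334,398,292,332,50,44,64,60], [35,61,67,86,204,215,221,270,416,334,362,412,342,350,418,338,356,392,320,90,113,118,144,42,65,61,67,34]],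
  [[27,32,64,84,91,113,144,34,65,84,91,113,144,76,26,20,0,11,2], [70,62,60,42,84,91,113,144,35,45,84,91,113,144,68,50,60,62,35], [78,90,112,150,244,90,112,150,244,132,49,60,42], [38,62,88,274,288,293,322,398,288,288,322,398,292,332,57,51,67,45,35], [51,84,91,118,112,110,152,320,101,152,320,90,112,118,144,45,62,67,51,38]],
  [[26,32,64,84,91,113,142,205,226,260,181,158,192,202,226,228,242,144,76,26,20,0,8], [72,64,86,228,244,107,112,90,136,374,226,228,242,144,68,50,60,63,57,34], [80,165,180,182,192,198,78,112,150,228,272,45,64,86,228,244,132,51,61,45,34], [42,44,88,278,285,293,322,378,476,476,480,477,502,228,262,477,489,489,477,492,334,398,292,332,50,44,64,60], [35,61,67,84,118,90,120,152,284,292,314,362,356,418,418,334,356,404,297,320,118,113,144,45,66,56,39,34]],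
  [[32,64,84,91,113,150,226,236,250,118,138,95,148,118,144,76,26,20,0,10,12,2], [76,24,16,24,26,32,70,57,39,84,95,118,148,91,148,118,144,68,53,61,62,60,51], [82,90,112,118,142,244,100,112,90,136,370,91,113,142,244,132,44,60,52], [35,67,42,88,285,293,330,278,290,274,326,476,482,484,488,490,289,297,330,288,290,328,398,292,332,50,44,64,60], [51,86,205,223,228,270,420,477,483,480,476,490,289,297,330,293,290,308,282,290,320,90,112,118,144,45,62,67,51,38]]]
def DA8 : List (List (List ℕ)) := [[[26,32,45,64,84,91,113,144,76,27,20,11,1,12,2], [72,45,64,86,272,72,65,44], [80,158,176,182,192,198,80,182,192,198,49,60,50], [42,44,88,294,274,292,322,398,292,332,51,63,57,49], [35,61,67,84,98,112,118,152,320,118,113,144,34,57,34,67,39]],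
  [[26,32,45,64,84,91,113,144,76,27,20,11,1,12,2], [72,45,64,86,272,72,65,44], [80,158,176,182,192,198,80,182,192,198,49,60,50], [42,44,88,294,274,292,322,398,292,332,51,63,57,49], [35,61,67,84,98,112,118,152,320,118,113,144,34,57,34,67,39]],
  [[26,32,45,64,84,91,113,144,76,27,20,11,1,12,2], [72,45,64,86,272,72,65,44], [80,158,176,182,192,198,80,182,192,198,49,60,50], [42,44,88,294,274,292,322,398,292,332,51,63,57,49], [35,61,67,84,98,112,118,152,320,118,113,144,34,57,34,67,39]],
  [[26,32,45,64,84,91,113,144,76,27,20,11,1,12,2], [72,45,64,86,272,72,65,44], [80,158,176,182,192,198,80,182,192,198,49,60,50], [42,44,88,294,274,292,322,398,292,332,51,63,57,49], [35,61,67,84,98,112,118,152,320,118,113,144,34,57,34,67,39]],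
  [[26,32,45,64,84,91,113,144,76,27,20,11,1,12,2], [72,45,64,86,272,72,65,44], [80,158,176,182,192,198,80,182,192,198,49,60,50], [42,44,88,294,274,292,322,398,292,332,51,63,57,49], [35,61,67,84,98,112,118,152,320,118,113,144,34,57,34,67,39]],
  [[16,24,17,24,32,45,64,84,113,144,76,27,20,2,8,15,0,0,2], [64,86,219,226,268,226,228,272,72,65,51,61,38], [60,62,74,35,61,66,74,38,56,62,80,181,182,192,198,61,50,48,38], [44,50,64,88,292,297,322,334,355,398,292,332,51,63,57,49], [61,67,84,90,120,98,118,152,288,320,112,118,144,49,64,50,56]],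
  [[26,26,32,64,84,91,113,150,226,236,250,118,138,95,148,118,144,76,27,20,0,10,12,2], [68,62,60,42,86,228,242,101,112,90,134,374,226,248,228,272,72,49,64,61,62], [74,60,62,78,118,128,35,61,66,82,118,132,38,56,62,74,80,181,182,192,198,61,50,48,38], [35,64,42,88,293,288,330,278,290,274,326,480,484,477,490,289,297,330,274,290,296,328,398,292,332,51,63,57,49], [35,61,67,86,204,215,221,270,420,484,482,490,289,297,330,289,292,308,282,290,320,118,113,144,34,57,34,67,39]],
  [[27,32,64,84,91,113,142,205,226,260,181,158,192,202,226,228,242,144,76,27,20,0,8], [70,62,60,42,84,91,113,142,221,226,246,368,91,113,150,228,272,72,62,43,65], [78,90,112,150,228,272,34,56,86,228,244,132,80,158,176,182,192,198,57,35,56,35], [38,62,88,274,288,293,322,378,476,480,477,477,502,228,262,476,484,489,489,492,334,398,292,332,62,38,61,38], [51,84,91,118,112,110,152,284,292,314,356,342,422,335,345,422,342,356,404,297,320,118,113,144,61,63,35,67,44]],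
  [[26,32,64,84,91,113,144,34,65,84,91,113,144,76,27,20,0,11,2], [72,64,86,272,34,65,86,272,72,64,35,65], [80,165,180,182,192,198,80,181,182,192,198,80,176,182,192,198,35,61,57], [42,44,88,278,285,293,322,398,282,274,322,398,292,332,51,63,57,49], [35,61,67,84,118,90,120,152,320,98,111,152,320,90,113,118,144,51,66,45,43]],
  [[32,64,84,95,118,148,112,118,99,138,90,118,120,140,226,244,144,76,27,20,0,10,10,1], [76,24,16,24,26,32,72,67,86,228,242,91,113,142,228,272,72,65,50,60,45], [82,90,112,118,142,228,272,52,57,62,86,228,242,118,128,80,180,182,192,198,61,50,60,34], [35,67,42,88,285,293,330,278,290,274,328,334,356,424,335,350,422,356,334,382,334,398,292,332,51,63,57,49], [51,86,205,223,228,270,416,344,360,424,335,350,422,351,356,392,320,112,118,144,49,64,50,56]]]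
def DA9 : List (List (List ℕ)) := [[[32,45,64,84,91,113,144,76,1,9,20,0,14,8], [76,2,24,16,24,26,32,76,24,17,24,27,32,61,43], [82,91,113,118,142,242,118,128,44,61,51], [35,67,42,88,274,282,292,330,282,289,330,292,332,64,62,61,63,34], [51,86,230,228,270,410,272,35,57,45,35]],
  [[32,45,64,84,91,113,144,76,1,9,20,0,14,8], [76,2,24,16,24,26,32,76,24,17,24,27,32,61,43], [82,91,113,118,142,242,118,128,44,61,51], [35,67,42,88,274,282,292,330,282,289,330,292,332,64,62,61,63,34], [51,86,230,228,270,410,272,35,57,45,35]],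
  [[32,45,64,84,91,113,144,76,1,9,20,0,14,8], [76,2,24,16,24,26,32,76,24,17,24,27,32,61,43], [82,91,113,118,142,242,118,128,44,61,51], [35,67,42,88,274,282,292,330,282,289,330,292,332,64,62,61,63,34], [51,86,230,228,270,410,272,35,57,45,35]],
  [[32,45,64,84,91,113,144,76,1,9,20,0,14,8], [76,2,24,16,24,26,32,76,24,17,24,27,32,61,43], [82,91,113,118,142,242,118,128,44,61,51], [35,67,42,88,274,282,292,330,282,289,330,292,332,64,62,61,63,34], [51,86,230,228,270,410,272,35,57,45,35]],
  [[32,45,64,84,91,113,144,76,1,9,20,0,14,8], [76,2,24,16,24,26,32,76,24,17,24,27,32,61,43], [82,91,113,118,142,242,118,128,44,61,51], [35,67,42,88,274,282,292,330,282,289,330,292,332,64,62,61,63,34], [51,86,230,228,270,410,272,35,57,45,35]],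
  [[24,16,24,26,32,67,84,90,112,144,76,1,9,20,15,13,2], [64,84,112,144,76,0,12,29,24,29,24,32,67,60,62,61,52], [60,62,80,177,159,202,226,228,242,118,128,57,50,43,35], [42,56,88,274,292,330,290,285,330,292,332,64,62,61,63,34], [42,86,223,228,270,335,360,410,272,38,56,60,38]],
  [[26,26,32,64,84,91,113,142,205,226,260,181,158,192,202,226,228,242,144,76,1,9,20,10,10,1,2], [68,62,60,42,86,228,244,90,113,150,228,272,70,76,0,8,24,20,24,32,49,61,63,57,49], [74,60,62,78,118,130,112,118,101,136,374,226,248,242,118,128,56,43,57], [35,64,42,88,293,288,330,278,290,274,322,355,356,422,335,345,422,356,362,398,282,297,330,292,332,64,62,61,63,34], [35,61,67,86,204,215,221,270,426,484,482,502,228,262,480,482,496,410,228,272,67,50,52,60]],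
  [[27,32,64,84,95,118,148,112,118,99,138,90,118,120,140,226,244,144,76,1,9,20,0,8,10,15,0,2], [70,62,60,42,84,95,118,148,100,148,118,144,68,76,15,24,29,24,32,51,64,52,65,35], [78,90,112,150,242,106,112,90,134,368,91,113,150,242,118,128,49,61,57], [38,62,88,274,288,293,322,386,284,330,278,290,274,326,476,482,489,490,289,297,330,292,332,64,62,61,63,34], [51,84,91,118,112,110,152,284,292,308,285,278,330,278,290,274,326,482,494,335,344,410,228,272,64,63,56,42]],
  [[26,32,64,84,91,113,150,226,236,250,118,138,95,148,118,144,76,1,9,20,0,8,1,1,2], [72,64,86,228,242,91,112,142,228,272,72,76,28,17,24,29,24,32,60,64,51,66,39], [80,165,180,182,192,198,82,112,118,142,228,272,34,65,86,228,242,118,128,43,61,57], [42,44,88,278,285,293,322,382,334,338,356,418,412,351,355,356,386,282,289,330,292,332,57,35,66,43], [35,61,67,84,118,90,120,152,284,292,310,356,362,418,412,335,354,416,410,272,38,56,60,38]],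
  [[32,64,84,91,113,144,34,65,84,91,113,144,76,1,9,20,0,14,10,2], [76,24,16,24,26,32,76,24,20,16,24,32,76,0,24,16,24,27,32,60,38,57], [82,90,112,118,142,242,90,112,142,242,118,128,60,57,60], [35,67,42,88,285,293,330,282,289,330,290,285,330,282,289,330,292,332,64,62,61,63,34], [51,86,205,223,228,270,410,204,219,228,270,410,272,38,56,60,38]]]
def DA : List (List (List (List ℕ))) := [DA0, DA1, DA2, DA3, DA4, DA5, DA6, DA7, DA8, DA9]

def okN (A : List ℕ × Word) (mvs : List (List ℕ)) : Bool :=
  zipAll (fun s mv => chk lk 1408 B FM 252 ⟨s.1, 1408, s.1, []⟩ A s.2 mv) starts mvs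

theorem Mod.one {D : Dat} (M : Mod D) {A : List ℕ × Word} (hA : Lt A) {mvs : List (List ℕ)} (h : okN A mvs = true) :
    D.val A = 1 := by
  have h1 : ∀ s ∈ starts, M.ψ (D.val A) (M.S.w s.2 • pM H 8 Sg s.1) = M.S.w s.2 • pM H 8 Sg s.1 := fun s hs => by
    obtain ⟨mv, h⟩ := zipAll_spec h s hs
    have := Sys.verify hlk base M.holds hA h
    rw [M.app, M.hS, M.hS, M.hp] at this
    rw [Dat.val, map_mul, Perm.mul_apply, this, ← map_inv, M.hρ]; exact inv_smul_smul _ _
  have h2 : D.val A ∈ K := by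
    rw [M.stab.1]; simpa [Sys.w_nil] using h1 (0, []) (by decide)
  obtain ⟨k, hk⟩ := D.surj _ h2
  rw [← hk, show k = 1 from Subtype.ext (base _ k.2 fun b hb => ?_), map_one]
  obtain ⟨s, hs, e1, e2⟩ := (by decide +kernel : ∀ b ∈ B, ∃ s ∈ starts, s.1 = 1 ∧ mapsP C lk s.2 4 b = true) b hb
  have := h1 s hs
  rw [← hk, M.hρ, e1, smul_smul, pM_eq (by decide) (by decide)] at this
  have h3 := fix_of_mapsP hlk (ws := s1H0) (p := pt 4) (by decide +kernel) _ this.2
  have h4 : (M.S.w s.2).1 (pt 4) = b := Fin.ext (mapsP_spec hlk (p := pt 4) e2)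
  simp only [Subgroup.coe_mul, Subgroup.coe_inv, mul_inv_rev, Perm.mul_apply, h4, Perm.inv_eq_iff_eq] at h3
  exact h3.symm

def rY (i j : ℕ) : List ℕ × Word := Bool.rec
  (nmul (nmul (nth Y ([], []) i) (nth Y ([], []) j)) (nmul (nth Y ([], []) i) (nth Y ([], []) j)))
  (nmul (nmul (nth Y ([], []) i) (nth Y ([], []) i)) (nth Y ([], []) i)) (Nat.beq i j)
theorem hA0 : ∀ j < 10, okN (rY 0 j) (nth DA0 [] j) = true := by decide +kernel
theorem hA1 : ∀ j < 10, okN (rY 1 j) (nth DA1 [] j) = true := by decide +kernel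
theorem hA2 : ∀ j < 10, okN (rY 2 j) (nth DA2 [] j) = true := by decide +kernel
theorem hA3 : ∀ j < 10, okN (rY 3 j) (nth DA3 [] j) = true := by decide +kernel
theorem hA4 : ∀ j < 10, okN (rY 4 j) (nth DA4 [] j) = true := by decide +kernel
theorem hA5 : ∀ j < 10, okN (rY 5 j) (nth DA5 [] j) = true := by decide +kernel
theorem hA6 : ∀ j < 10, okN (rY 6 j) (nth DA6 [] j) = true := by decide +kernel
theorem hA7 : ∀ j < 10, okN (rY 7 j) (nth DA7 [] j) = true := by decide +kernel
theorem hA8 : ∀ j < 10, okN (rY 8 j) (nth DA8 [] j) = true := by decide +kernel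
theorem hA9 : ∀ j < 10, okN (rY 9 j) (nth DA9 [] j) = true := by decide +kernel

theorem Mod.alt {D : Dat} (M : Mod D) : ∃ f : alternatingGroup (Fin 12) →* HN, Function.Injective f := by
  have h0 : ∀ i < 10, Lt (nth Y ([], []) i) := by unfold Lt; decide +kernel
  have h1 : ∀ i < 10, ∀ j < 10, ∃ m, okN (rY i j) m = true := fun i hi j hj => by
    interval_cases i
    exacts [⟨_, hA0 j hj⟩, ⟨_, hA1 j hj⟩, ⟨_, hA2 j hj⟩, ⟨_, hA3 j hj⟩, ⟨_, hA4 j hj⟩, ⟨_, hA5 j hj⟩, ⟨_, hA6 j hj⟩,
      ⟨_, hA7 j hj⟩, ⟨_, hA8 j hj⟩, ⟨_, hA9 j hj⟩]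
  have h2 : ∀ i : Fin 12, i ≠ 10 → i ≠ 11 → (i : ℕ) < 10 := by decide
  obtain ⟨f, hf, -⟩ := CA.SnPres.exists_inj_alt (α := Fin 12) (by simp) (p := 10) (q := 11) (by decide)
    (fun i => D.val (nth Y ([], []) i)) (fun i a b => by
      obtain ⟨m, h⟩ := h1 i (h2 i a b) i (h2 i a b)
      have l := h0 i (h2 i a b)
      rw [rY, Nat.beq_refl] at h
      have := M.one ((l.mul l).mul l) h
      rwa [D.val_mul (l.mul l), D.val_mul l, ← pow_three'] at this)
    (fun i j a b c d e => by
      obtain ⟨m, h⟩ := h1 i (h2 i a b) j (h2 j c d)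
      have l := (h0 i (h2 i a b)).mul (h0 j (h2 j c d))
      rw [rY, show Nat.beq i j = false from Bool.eq_false_iff.2 fun h => e (Fin.ext (Nat.eq_of_beq_eq_true h))] at h
      have := M.one (l.mul l) h
      rwa [D.val_mul l, D.val_mul (h0 i (h2 i a b)), ← pow_two] at this)
    (i := 0) (by decide) (by decide) (fun h => by
      have h : (D.φ ⟨_, mem [21, 14, 16, 14, 20, 23]⟩)⁻¹ * 1 = 1 := h
      rw [mul_one, inv_eq_one, ← map_one D.φ] at h
      have := mapsP_spec hlk (w := [21, 14, 16, 14, 20, 23]) (p := pt 869) (q := 7) (by decide +kernel)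
      rw [show C.ev [21, 14, 16, 14, 20, 23] = 1 from congrArg Subtype.val (M.inj h)] at this
      exact absurd this (by decide))
  exact ⟨f, hf⟩

theorem coset_action {G : Type} [Group G] [Finite G] [IsSimpleGroup G] (A : Subgroup G) (hA : A ≠ ⊤) {n : ℕ} [NeZero n]
    (hn : A.index = n) : ∃ L : Subgroup (Perm (Fin n)), Nonempty (G ≃* L) ∧ MulAction.IsPretransitive L (Fin n) ∧
      Nonempty (A ≃* MulAction.stabilizer L (0 : Fin n)) := by
  obtain ⟨e, he⟩ : ∃ e : G ⧸ A ≃ Fin n, e (1 : G) = 0 :=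
    let e := Finite.equivFinOfCardEq hn; ⟨e.trans (swap (e (1 : G)) 0), by simp⟩
  let ψ : G →* Perm (Fin n) := e.permCongrHom.toMonoidHom.comp (MulAction.toPermHom G (G ⧸ A))
  have h1 : ∀ x q, ψ x (e q) = e (x • q) := fun x q => by simp [ψ]
  have h2 : ∀ x, ψ x 0 = 0 ↔ x ∈ A := fun x => by
    rw [← he, h1, e.apply_eq_iff_eq, eq_comm]; exact QuotientGroup.eq.trans (by simp)
  have h3 : Function.Injective ψ := (MonoidHom.ker_eq_bot_iff _).1 ((IsSimpleGroup.eq_bot_or_eq_top_of_normal _ inferInstance).resolve_right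
    fun h => hA (eq_top_iff.2 fun x _ => (h2 x).1 (by rw [show ψ x = 1 from (h ▸ Subgroup.mem_top x : x ∈ ψ.ker)]; rfl)))
  refine ⟨ψ.range, ⟨ψ.ofInjective h3⟩, ⟨fun a b => ?_⟩, ⟨((ψ.ofInjective h3).subgroupMap A).trans (MulEquiv.subgroupCongr ?_)⟩⟩
  · obtain ⟨x, hx⟩ := MulAction.exists_smul_eq G (e.symm a) (e.symm b)
    exact ⟨⟨_, x, rfl⟩, by simpa [hx] using! h1 x (e.symm a)⟩
  · ext ⟨_, x, rfl⟩
    refine Iff.trans ⟨?_, fun h => ⟨x, h, rfl⟩⟩ (h2 x).symm
    rintro ⟨y, hy, h⟩
    exact h3 (congrArg Subtype.val h) ▸ hy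

section
variable (hB : Bound.{0} relsH gens 177408000)
include hB

theorem facts_of : K.index = 1539000 ∧ Nat.card K = 177408000 ∧ Nat.card HN = 273030912000000 ∧ IsSimpleGroup HN ∧
    ∃ f : alternatingGroup (Fin 12) →* HN, Function.Injective f := by
  obtain ⟨D⟩ := dat hB
  obtain ⟨M⟩ := mod D
  exact ⟨M.stab.2, M.cardK, M.cardG, M.simple (HNC.norm hB (fun r hr => rel r (List.mem_of_mem_take (i := 10) hr)) M.cardK), M.alt⟩

theorem cover_of : ∃ L : Subgroup K, L.Normal ∧ L.index = 2 ∧ Cfsg.IsNonsplitDoubleCover L Cfsg.Spor.HS :=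
  HNC.cover hB (fun r hr => rel r (List.mem_of_mem_take (i := 10) hr)) (facts_of hB).2.1

theorem perm_of : ∃ L : Subgroup (Perm (Fin 1140000)), (IsSimpleGroup L ∧ Nat.card L = 273030912000000) ∧
    MulAction.IsPretransitive L (Fin 1140000) ∧
    Nonempty (MulAction.stabilizer L (0 : Fin 1140000) ≃* alternatingGroup (Fin 12)) := by
  obtain ⟨-, -, h1, h2, f, hf⟩ := facts_of hB
  have : Finite HN := Nat.finite_of_card_ne_zero (by rw [h1]; decide)
  have h3 := f.range.index_mul_card
  have h4 := two_mul_nat_card_alternatingGroup (α := Fin 12)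
  rw [← Nat.card_congr (f.ofInjective hf).toEquiv, h1] at h3
  rw [Nat.card_perm, Nat.card_fin, show Nat.factorial 12 = 479001600 by decide] at h4
  have h5 : f.range.index = 1140000 := by
    rw [show Nat.card (alternatingGroup (Fin 12)) = 239500800 by omega] at h3; omega
  obtain ⟨L, ⟨e⟩, a, ⟨b⟩⟩ := coset_action f.range (fun h => by rw [h, Subgroup.index_top] at h5; omega) h5
  exact ⟨L, ⟨e.symm.isSimpleGroup, (Nat.card_congr e.toEquiv).symm.trans h1⟩, a, ⟨((f.ofInjective hf).trans b).symm⟩⟩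

end

theorem K_eq : (Subgroup.closure ({HN.x, HN.y, HN.z} : Set (FreeGroup HN.Gen))).map
    (PresentedGroup.mk (coxRelators HN.edges ∪ {r | r ∈ HN.extra})) = K :=
  map_closure_eq (gen := HNRel.gen) gens (l := [HN.x, HN.y, HN.z]) (by decide +kernel)
    (fun x => by simp only [Set.mem_insert_iff, Set.mem_singleton_iff, List.mem_cons, List.not_mem_nil, or_false])

end
end CA.HNG
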