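import Cfsg.Agent.Lib.Spor.HNG
import Cfsg.Agent.Lib.Spor.HNB1
import Cfsg.Agent.Lib.Spor.HNB2
import Cfsg.Agent.Lib.Spor.HNB3

/-! The first ten relators of the Harada–Norton group define a group of order at most `177408000`. -/

set_option autoImplicit false
set_option maxRecDepth 100000

namespace CA.HNB
open Equiv CA.CNet CA.CWord CA.CLevel CA.CSimple CA.CPoint CA.CTodd

universe u

theorem card_inf_ker {A Q : Type*} [Group A] [Group Q] (f : A →* Q) (D : Subgroup A) :
    Nat.card (f.ker ⊓ D : Subgroup A) * Nat.card (D.map f) = Nat.card D := by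
  rw [← Subgroup.relIndex_ker, ← Subgroup.card_mul_index (f.ker.subgroupOf D), Subgroup.relIndex,
    ← Subgroup.inf_subgroupOf_right, Nat.card_congr (Subgroup.subgroupOfEquivOfLe inf_le_right).toEquiv]

theorem sq_cent {A : Type*} [Group A] (N : Subgroup A) [Finite N] (hc : Nat.card N ≤ 3) {g : A}
    (hn : ∀ n ∈ N, g * n * g⁻¹ ∈ N) : g * g ∈ Subgroup.centralizer (N : Set A) := by
  classical
  rw [Subgroup.mem_centralizer_iff]
  intro n hn0
  by_contra hne
  have h1 := hn n hn0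
  have h2 := hn _ h1
  have e0 : n ≠ 1 := by rintro rfl; simp at hne
  have e1 : g * n * g⁻¹ ≠ 1 := fun h => e0 (by
    have : n = g⁻¹ * (g * n * g⁻¹) * g := by group
    rw [this, h]; group)
  have e2 : g * (g * n * g⁻¹) * g⁻¹ ≠ 1 := fun h => e1 (by
    have : g * n * g⁻¹ = g⁻¹ * (g * (g * n * g⁻¹) * g⁻¹) * g := by group
    rw [this, h]; group)
  have e3 : g * (g * n * g⁻¹) * g⁻¹ ≠ n := fun h => hne (by
    have : g * g * n = g * (g * n * g⁻¹) * g⁻¹ * (g * g) := by group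
    rw [this, h])
  have e4 : g * n * g⁻¹ ≠ n := fun h => e3 (by rw [h, h])
  have e5 : g * (g * n * g⁻¹) * g⁻¹ ≠ g * n * g⁻¹ := fun h => e4 (mul_left_cancel (mul_right_cancel h))
  have := Fintype.ofFinite N
  have h4 : ({⟨1, N.one_mem⟩, ⟨n, hn0⟩, ⟨_, h1⟩, ⟨_, h2⟩} : Finset N).card = 4 := by
    rw [Finset.card_eq_four]
    refine ⟨_, _, _, _, ?_, ?_, ?_, ?_, ?_, ?_, rfl⟩ <;> rw [Ne, Subtype.mk.injEq]
    exacts [e0.symm, e1.symm, e2.symm, e4.symm, e3.symm, e5.symm]
  have h5 := Finset.card_le_univ ({⟨1, N.one_mem⟩, ⟨n, hn0⟩, ⟨_, h1⟩, ⟨_, h2⟩} : Finset N)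
  rw [Nat.card_eq_fintype_card] at hc
  omega

theorem comm_one {A : Type*} [Group A] (N : Subgroup A) {a b h : A}
    (ha : a ∈ Subgroup.centralizer (N : Set A)) (hb : b ∈ Subgroup.centralizer (N : Set A))
    (hh : h ∈ Subgroup.centralizer (N : Set A)) (h1 : a * b * a⁻¹ * b⁻¹ ∈ N) (h2 : a * a * a ∈ N)
    (h3 : h * a * h⁻¹ * a⁻¹ ∈ N) (h4 : h * b * h⁻¹ * b ∈ N) : a * b * a⁻¹ * b⁻¹ = 1 := by
  have c1 := mul_mem (mul_mem (mul_mem hh ha) (inv_mem hh)) (inv_mem ha)
  rw [Subgroup.mem_centralizer_iff] at ha hb hh c1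
  have wa := ha _ h1
  have wb := hb _ h1
  have wh := hh _ h1
  have tb := hb _ h2
  have ma := ha _ h3
  have mb := hb _ h3
  have na := ha _ h4
  have nb := hb _ h4
  have mn := c1 _ h4
  obtain ⟨w, hw⟩ : ∃ w, w = a * b * a⁻¹ * b⁻¹ := ⟨_, rfl⟩
  obtain ⟨m, hm⟩ : ∃ m, m = h * a * h⁻¹ * a⁻¹ := ⟨_, rfl⟩
  obtain ⟨n, hn⟩ : ∃ n, n = h * b * h⁻¹ * b := ⟨_, rfl⟩
  rw [← hw] at wa wb wh ⊢
  rw [← hm] at ma mb mn
  rw [← hn] at na nb mn
  have ab : a * b = w * b * a := by rw [hw]; group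
  have t3 : w * w * w = 1 := by
    have : a * a * a * b = w * w * w * (b * (a * a * a)) := by
      calc a * a * a * b = a * a * (a * b) := by group
        _ = a * (a * w) * b * a := by rw [ab]; group
        _ = a * (w * a) * b * a := by rw [wa]
        _ = (a * w) * (a * b) * a := by group
        _ = w * a * w * b * a * a := by rw [ab, ← wa]; group
        _ = w * (a * w) * b * a * a := by group
        _ = w * w * (a * b) * a * a := by rw [← wa]; group
        _ = w * w * w * (b * (a * a * a)) := by rw [ab]; group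
    rw [tb] at this
    exact (mul_right_cancel (this.symm.trans (one_mul _).symm))
  have ca : Commute m a := ma
  have cb : Commute m b := mb
  have da : Commute n a := na
  have db : Commute n b := nb
  have dm : Commute n m := mn
  have t2 : w * w = 1 := by
    have e1 : h * w * h⁻¹ = w := by rw [← wh]; group
    have e2 : h * w * h⁻¹ = (m * a) * (n * b⁻¹) * (m * a)⁻¹ * (n * b⁻¹)⁻¹ := by
      rw [hw, hm, hn]; group
    have e3 : (m * a) * (n * b⁻¹) = (m * n) * (a * b⁻¹) := by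
      rw [mul_assoc, ← mul_assoc a, ← da.eq]; group
    have e4 : (n * b⁻¹) * (m * a) = (m * n) * (b⁻¹ * a) := by
      rw [mul_assoc, ← mul_assoc b⁻¹, ← cb.inv_right.eq, ← dm.eq]; group
    have e5 : (m * a) * (n * b⁻¹) * (m * a)⁻¹ * (n * b⁻¹)⁻¹
        = ((m * a) * (n * b⁻¹)) * ((n * b⁻¹) * (m * a))⁻¹ := by group
    have e6 : Commute (m * n) (a * b⁻¹ * (b⁻¹ * a)⁻¹) :=
      Commute.mul_left ((ca.mul_right cb.inv_right).mul_right (cb.inv_right.mul_right ca).inv_right)
        ((da.mul_right db.inv_right).mul_right (db.inv_right.mul_right da).inv_right)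
    have e7 : w = a * b⁻¹ * (b⁻¹ * a)⁻¹ := by
      rw [← e1, e2, e5, e3, e4]
      calc m * n * (a * b⁻¹) * (m * n * (b⁻¹ * a))⁻¹
          = m * n * (a * b⁻¹ * (b⁻¹ * a)⁻¹) * (m * n)⁻¹ := by group
        _ = _ := by rw [e6.eq]; group
    have e8 : b * w * b⁻¹ = w := by rw [← wb]; group
    calc w * w = (b * w * b⁻¹) * w := by rw [e8]
      _ = (b * (a * b⁻¹ * (b⁻¹ * a)⁻¹) * b⁻¹) * (a * b * a⁻¹ * b⁻¹) := by rw [← e7, ← hw]
      _ = 1 := by group
  rw [t2, one_mul] at t3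
  exact t3

theorem ev_fst {P Q : Type*} [Group P] [Group Q] (g : ℕ → P) (q : ℕ → Q) (w : Word) :
    (MonoidHom.fst P Q) (ev (fun i => (g i, q i)) w) = ev g w := map_ev _ _ _
theorem ev_snd {P Q : Type*} [Group P] [Group Q] (g : ℕ → P) (q : ℕ → Q) (w : Word) :
    (MonoidHom.snd P Q) (ev (fun i => (g i, q i)) w) = ev q w := map_ev _ _ _

/-- a new relation that is of order more than two in a model divides the bound by three -/
theorem bound_quot {rels rels' gens : List Word} {N : ℕ} (h : Bound.{u} rels gens (3 * N))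
    (hs : ∀ r ∈ rels, r ∈ rels') {Q : Type} [Group Q] {q : ℕ → Q} (hq : ∀ r ∈ rels, ev q r = 1)
    (v : Word) (hv : Der.{u} rels' (subst gens v)) (h1 : ev q (subst gens v) ≠ 1)
    (h2 : ev q (subst gens v) * ev q (subst gens v) ≠ 1) : Bound.{u} rels' gens N := by
  classical
  intro P _ g hr
  obtain ⟨a1, a2⟩ := h (P × Q) (fun i => (g i, q i)) fun r hr' =>
    Prod.ext ((ev_fst g q r).trans (hr r (hs r hr'))) ((ev_snd g q r).trans (hq r hr'))
  have e := card_inf_ker (MonoidHom.fst P Q) (grp (fun i => (g i, q i)) gens)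
  have em : (grp (fun i => (g i, q i)) gens).map (MonoidHom.fst P Q) = grp g gens := map_grp _ _ _
  rw [em] at e
  have hf : Finite ((MonoidHom.fst P Q).ker ⊓ grp (fun i => (g i, q i)) gens : Subgroup (P × Q)) :=
    Finite.of_injective _ (Subgroup.inclusion_injective inf_le_right)
  have m1 : ev (fun i => (g i, q i)) (subst gens v) ∈
      ((MonoidHom.fst P Q).ker ⊓ grp (fun i => (g i, q i)) gens : Subgroup (P × Q)) :=
    ⟨(ev_fst g q _).trans (hv P g hr), subst_mem_grp _ _ _⟩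
  have s1 := ev_snd g q (subst gens v)
  generalize ev (fun i => (g i, q i)) (subst gens v) = x at m1 s1
  rw [← s1] at h1 h2
  have h3 : 3 ≤ Nat.card ((MonoidHom.fst P Q).ker ⊓ grp (fun i => (g i, q i)) gens : Subgroup (P × Q)) := by
    have := Fintype.ofFinite ((MonoidHom.fst P Q).ker ⊓ grp (fun i => (g i, q i)) gens : Subgroup (P × Q))
    rw [Nat.card_eq_fintype_card]
    refine le_trans (le_of_eq ?_) (Finset.card_le_univ {⟨1, one_mem _⟩, ⟨x, m1⟩, ⟨x * x, mul_mem m1 m1⟩})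
    symm
    rw [Finset.card_eq_three]
    have x1 : x ≠ 1 := by rintro rfl; simp at h1
    have x2 : x * x ≠ 1 := fun h => h2 (by rw [← map_mul, h, map_one])
    refine ⟨_, _, _, ?_, ?_, ?_, rfl⟩ <;> rw [Ne, Subtype.mk.injEq]
    exacts [x1.symm, x2.symm, fun h => x1 (mul_left_cancel (h.symm.trans (mul_one x).symm))]
  have hp : 0 < Nat.card (grp (fun i => (g i, q i)) gens) := Nat.card_pos
  refine ⟨Nat.finite_of_card_ne_zero ?_, ?_⟩
  · intro h0; rw [h0] at e; omega
  · have := Nat.mul_le_mul_right (Nat.card (grp g gens)) h3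
    omega

def sg : List Word := [[2], [0,2,2,2,1], [0,0]]

theorem lv0 {P : Type*} [Group P] (g : ℕ → P) : lv g 0 = g 0 := rfl
theorem lv1 {P : Type*} [Group P] (g : ℕ → P) : lv g 1 = (g 0)⁻¹ := rfl
theorem lv2 {P : Type*} [Group P] (g : ℕ → P) : lv g 2 = g 1 := rfl
theorem lv3 {P : Type*} [Group P] (g : ℕ → P) : lv g 3 = (g 1)⁻¹ := rfl

theorem d2 : Der.{u} relsK [0,2,2,2,1,0,2,2,2,1] := by
  intro P _ g hr
  have h := hr [2,2,2,2,2,2] (by simp [relsK])
  simp only [ev_cons, ev_nil, lv0, lv1, lv2] at h ⊢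
  calc _ = g 0 * (g 1 * (g 1 * (g 1 * (g 1 * (g 1 * (g 1 * 1)))))) * (g 0)⁻¹ := by group
    _ = 1 := by rw [h]; group

theorem d6 : Der.{u} relsK [0,0,0,2,2,2,1,0,0,0,3,3,3,1] := by
  intro P _ g hr
  have h := hr [0,0,2,0,0,3] (by simp [relsK])
  simp only [ev_cons, ev_nil, lv0, lv1, lv2, lv3] at h ⊢
  obtain ⟨t, ht⟩ : ∃ t, t = g 0 * g 0 := ⟨_, rfl⟩
  have h1 : g 1 * t * (g 1)⁻¹ = t⁻¹ := by
    rw [eq_inv_iff_mul_eq_one, mul_eq_one_comm, ← h, ht]; group
  have h2 : g 1 * t⁻¹ * (g 1)⁻¹ = t := by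
    calc _ = (g 1 * t * (g 1)⁻¹)⁻¹ := by group
      _ = t := by rw [h1, inv_inv]
  calc _ = g 0 * (t * (g 1 * (g 1 * (g 1 * t * (g 1)⁻¹) * (g 1)⁻¹) * (g 1)⁻¹)) * (g 0)⁻¹ := by
        rw [ht]; group
    _ = 1 := by rw [h1, h2, h1]; group

theorem b1 : Bound.{u} relsK sg 240 := by
  refine Bound.subst (Bound.of_idx HNB1.T0.idx (Bound.nil _) (le_refl _)) sg ?_ (by decide +kernel)
  intro r hr
  simp only [relsL, List.mem_cons, List.not_mem_nil, or_false] at hr
  rcases hr with rfl | rfl | rfl | rfl | rfl | rfl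
  · exact Der.of_triv 1 0 (by decide +kernel)
  · exact (show [0,2,2,2,1,0,2,2,2,1] = subst sg [2,2] by decide +kernel) ▸ d2
  · exact Der.of_triv 7 6 (by decide +kernel)
  · exact Der.of_triv 11 5 (by decide +kernel)
  · exact Der.of_triv 3 0 (by decide +kernel)
  · exact (show [0,0,0,2,2,2,1,0,0,0,3,3,3,1] = subst sg [4,2,4,3] by decide +kernel) ▸ d6

theorem b2 : Bound.{u} relsK [[0], [2]] (3 * 504000) := Bound.of_idx HNB1.T1.idx b1 (by norm_num)

theorem hKH : ∀ r ∈ relsK, r ∈ relsH := by decide +kernel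

theorem b3 : Bound.{u} relsH [[0], [2], [4]] (3 * 177408000) :=
  Bound.of_idx HNB2.idx (b2.mono hKH) (by norm_num)

def Bw : Word := [1,2,0,3,3,1,2,2,0,2,1,2,2,0,3,3,1,2,0,2]
def sqs : List Word := [[2,2], [0,2,0,2], [2,4,2,4], [0,2,4,0,2,4]]
def hw : Word := [1,2,5,3,6,3,0,7,7,3,0,2,4,3]
noncomputable def wa : Word := [2,2]
noncomputable def wb : Word := lapp Bw Bw
noncomputable def wh : Word := subst sqs hw
noncomputable def om : Word := lapp (lapp (lapp wa wb) (winv wa)) (winv wb)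

theorem relsH_eq : relsH = HNG.relsH := by decide +kernel

theorem triv_model (w : Word) (h : eqQ HNM.lk HNT.B (w, []) = true) : HNM.C.ev w = 1 :=
  eq_of_eqQ HNM.hlk HNG.base (HNG.mem _) (HNG.mem _) h

theorem d_om : Der.{u} relsH om := by
  intro P _ g hr
  let G : ℕ → P × Perm (Fin HNM.C.n) := fun i => (g i, HNM.C.g i)
  obtain ⟨a1, a2⟩ := b3 _ G fun r hr' =>
    Prod.ext ((ev_fst g _ r).trans (hr r hr')) ((ev_snd g _ r).trans (HNG.hrelH r (relsH_eq ▸ hr')))
  have e := card_inf_ker (MonoidHom.snd P (Perm (Fin HNM.C.n))) (grp G [[0], [2], [4]])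
  have em : (grp G [[0], [2], [4]]).map (MonoidHom.snd P _) = HNM.C.grp HNM.gens := map_grp _ _ _
  rw [em, HNM.card] at e
  obtain ⟨N, hN⟩ : ∃ N, N = ((MonoidHom.snd P (Perm (Fin HNM.C.n))).ker ⊓ grp G [[0], [2], [4]]) := ⟨_, rfl⟩
  have hf : Finite N := by
    rw [hN]; exact Finite.of_injective _ (Subgroup.inclusion_injective inf_le_right)
  rw [← hN] at e
  have hc : Nat.card N ≤ 3 := by omega
  have hD : ∀ w, subst [[0], [2], [4]] w = w → ev G w ∈ grp G [[0], [2], [4]] :=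
    fun w h => h ▸ subst_mem_grp _ _ _
  have hsq : ∀ w, subst [[0], [2], [4]] w = w → ev G (lapp w w) ∈ Subgroup.centralizer (N : Set _) := by
    intro w h
    rw [ev_lapp]
    refine sq_cent N hc fun n hn => ?_
    rw [hN] at hn ⊢
    exact ⟨(MonoidHom.normal_ker _).conj_mem _ hn.1 _,
      Subgroup.mul_mem _ (Subgroup.mul_mem _ (hD w h) hn.2) (Subgroup.inv_mem _ (hD w h))⟩
  have hm : ∀ w, subst [[0], [2], [4]] w = w → eqQ HNM.lk HNT.B (w, []) = true → ev G w ∈ N := by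
    intro w h h'
    rw [hN]
    exact ⟨(ev_snd g _ w).trans (triv_model w h'), hD w h⟩
  have hh : ev G wh ∈ Subgroup.centralizer (N : Set _) := by
    refine (grp_le_iff G (ws := sqs)).2 ?_ (subst_mem_grp _ _ _)
    intro w hw
    simp only [sqs, List.mem_cons, List.not_mem_nil, or_false] at hw
    rcases hw with rfl | rfl | rfl | rfl
    exacts [hsq [2] (by decide +kernel), hsq [0,2] (by decide +kernel), hsq [2,4] (by decide +kernel),
      hsq [0,2,4] (by decide +kernel)]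
  have h1 := hm om (by decide +kernel) (by decide +kernel)
  have h2 := hm (lapp (lapp wa wa) wa) (by decide +kernel) (by decide +kernel)
  have h3 := hm (lapp (lapp (lapp wh wa) (winv wh)) (winv wa)) (by decide +kernel) (by decide +kernel)
  have h4 := hm (lapp (lapp (lapp wh wb) (winv wh)) wb) (by decide +kernel) (by decide +kernel)
  simp only [om, ev_lapp, ev_winv] at h1 h2 h3 h4
  have := comm_one N (hsq [2] (by decide +kernel)) (hsq Bw (by decide +kernel)) hh h1 h2 h3 h4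
  rw [← ev_fst g HNM.C.g om]
  refine (congrArg _ ?_).trans (map_one _)
  simp only [om, ev_lapp, ev_winv]
  exact this

theorem hq3 : ∀ r ∈ relsK, HNB3.C.ev r = 1 := rels_of_eqW HNB3.hC (by decide +kernel)
theorem om_eq : subst [[0], [2]] om = om := by decide +kernel

theorem b4 : Bound.{u} relsH [[0], [2]] 504000 := by
  refine bound_quot b2 hKH hq3 om (om_eq.symm ▸ d_om) ?_ ?_
  · rw [om_eq]
    intro h
    have := mapsP_spec HNB3.hlk (w := om) (p := ⟨0, by decide⟩) (q := 3202) (by decide +kernel)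
    rw [Ctx.ev, h] at this
    exact absurd this (by decide)
  · rw [om_eq, ← ev_lapp]
    intro h
    have := mapsP_spec HNB3.hlk (w := lapp om om) (p := ⟨0, by decide⟩) (q := 3045) (by decide +kernel)
    rw [Ctx.ev, h] at this
    exact absurd this (by decide)

theorem bound : Bound.{u} relsH [[0], [2], [4]] 177408000 :=
  Bound.of_idx HNB2.idx b4 (by norm_num)

end CA.HNB
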