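import Cfsg.Agent.Lib.Comp.CTodd
namespace CA.HNB
open CA.CWord
def relsH : List Word := [[2,2,2,2,2,2], [0,0,2,0,0,3], [1,3,0,2,1,3,0,2,1,3,0,2], [1,2,2,0,2,2,2,1,2,2,0,2,2,2,1,2,2,0,2,2,2], [0,2,0,2,0,2,0,2,0,2,0,2,0,2,0,2], [0,2,0,2,2,2,0,2,0,2,2,2,0,2,0,2,2,2,0,2,0,2,2,2], [4,4], [4,0,4,0], [5,2,1,3,3,1,3,1,3,4,2,0,2,0,2,2,0,3,1,1], [4,3,1,3,1,3,3,3,4,2,2,2,0,2,0,2,0,3,1,3,1,3,3,3,4,2,2,2,0,2,0,2,0,3,1,3,1,3,3,3,4,2,2,2,0,2,0,2,0]]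
def relsK : List Word := [[2,2,2,2,2,2], [0,0,2,0,0,3], [1,3,0,2,1,3,0,2,1,3,0,2], [1,2,2,0,2,2,2,1,2,2,0,2,2,2,1,2,2,0,2,2,2], [0,2,0,2,0,2,0,2,0,2,0,2,0,2,0,2], [0,2,0,2,2,2,0,2,0,2,2,2,0,2,0,2,2,2,0,2,0,2,2,2]]
def relsL : List Word := [[0,0,0,0,0,0], [2,2], [0,0,2,0,0,2,0,0,2], [0,2,4,0,2,4,0,2,4,0,2,4], [4,0,4,1], [4,2,4,3]]
end CA.HNB
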