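import Cfsg.Agent.Lib.Comp.CPres
import Cfsg.Prelude.Def_Spor_HN

set_option autoImplicit false
set_option maxRecDepth 100000

namespace CA.HNRel
open CA.CWord CA.CPres Cfsg.Spor

def gen (i : ℕ) : HN.Gen := [.x, .y, .z, .t].getD i .x

def idx : HN.Gen → ℕ
  | .x => 0
  | .y => 1
  | .z => 2
  | .t => 3

def rels : List Word := [[2,2,2,2,2,2], [0,0,2,0,0,3], [1,3,0,2,1,3,0,2,1,3,0,2], [1,2,2,0,2,2,2,1,2,2,0,2,2,2,1,2,2,0,2,2,2], [0,2,0,2,0,2,0,2,0,2,0,2,0,2,0,2], [0,2,0,2,2,2,0,2,0,2,2,2,0,2,0,2,2,2,0,2,0,2,2,2], [4,4], [4,0,4,0], [5,2,1,3,3,1,3,1,3,4,2,0,2,0,2,2,0,3,1,1], [4,3,1,3,1,3,3,3,4,2,2,2,0,2,0,2,0,3,1,3,1,3,3,3,4,2,2,2,0,2,0,2,0,3,1,3,1,3,3,3,4,2,2,2,0,2,0,2,0], [6,6,6,6,6], [1,6,0,6,6], [7,3,6,2], [4,6,4,6,4,6]]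

def gens : List Word := [[0], [2], [4], [6]]

theorem enc : Enc HN.edges HN.extra gen 4 rels :=
  enc_of idx []
    [[2,2,2,2,2,2], [0,0,2,0,0,3], [1,3,0,2,1,3,0,2,1,3,0,2], [1,2,2,0,2,2,2,1,2,2,0,2,2,2,1,2,2,0,2,2,2], [0,2,0,2,0,2,0,2,0,2,0,2,0,2,0,2], [0,2,0,2,2,2,0,2,0,2,2,2,0,2,0,2,2,2,0,2,0,2,2,2], [4,4], [4,0,4,0], [5,2,1,3,3,1,3,1,3,4,2,0,2,0,2,2,0,3,1,1], [4,3,1,3,1,3,3,3,4,2,2,2,0,2,0,2,0,3,1,3,1,3,3,3,4,2,2,2,0,2,0,2,0,3,1,3,1,3,3,3,4,2,2,2,0,2,0,2,0], [6,6,6,6,6], [1,6,0,6,6], [7,3,6,2], [4,6,4,6,4,6]]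
    (fun t => by cases t <;> decide) (by decide) (by decide +kernel) (by decide +kernel) (by decide +kernel)
    (by decide +kernel) (by decide +kernel)

end CA.HNRel
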