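import Cfsg.Agent.Lib.Spor.HNR1
import Cfsg.Agent.Lib.Spor.HNR2
import Cfsg.Agent.Lib.Spor.HNR3
import Cfsg.Agent.Lib.Spor.HNRel

/-! The Harada–Norton group: the permutation model on the 9 double cosets of `2.HS.2`. -/

set_option autoImplicit false
set_option maxRecDepth 100000

namespace CA.HNG
open Equiv CA.CNet CA.CWord CA.CLevel CA.CSimple CA.CPoint CA.CTodd CA.CPres CA.CLow CA.DCos CA.HNM CA.HNT
open CA.HNRel (rels)

universe u
noncomputable section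

abbrev H := C.grp gens
theorem mem (w : Word) : C.ev w ∈ H := ev_mem (fun i => by
  by_cases h : i < 107
  · rw [← ev_gen C.g i]; exact all_mem (by simp; omega)
  · have : nth C.T [] i = [] := by
      rw [nth_eq_getD, List.getD_eq_default]; exact (show C.T.length = 107 by rfl).trans_le (by omega)
    show toPerm _ _ ∈ _
    rw [this]; exact one_mem _) w
theorem base : IsBase H B := by rw [H, gens_eq]; exact H0_base
def Sg (i : ℕ) := C.grp (nth GW [] i)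
theorem hle (i : ℕ) : Sg i ≤ H := (grp_le_iff _).2 fun w _ => mem w
theorem cardS : ∀ i < 9, Nat.card (Sg i) = nth NS 0 i := fun i hi => by
  interval_cases i
  exacts [H0_card, s1H0_card, s2H0_card, s3H0_card, s4H0_card, s5H0_card, s6H0_card, s7H0_card, s8H0_card]
theorem tab : Tab C 9 Sg (Ed FM 9 ES) ∧ ∀ e, Ed FM 9 ES e → ∃ q < 252, e = fget FM q :=
  tab_of hC hlk mem base (N := nth NS 0) (fun i hi => (cardS i hi).le)
    (fun i hi => by interval_cases i; exacts [hu0, hu1, hu2, hu3, hu4, hu5, hu6, hu7, hu8])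
    (fun i hi => by interval_cases i; exacts [he0, he1, he2, he3, he4, he5, he6, he7, he8])

def pt (i : ℕ) (h : i < 1408 := by decide) : Fin C.n := ⟨i, h⟩
theorem st0 {g : Perm (Fin C.n)} (hg : g ∈ H) (h : g (pt 0) = pt 0) : g ∈ C.grp H1 := by
  rw [H, gens_eq, H0_eq] at hg
  exact (L0.stab_eq hC L0_light L0_eqns L0_H).le ⟨hg, h⟩
theorem st1 {g : Perm (Fin C.n)} (hg : g ∈ C.grp H1) (h : g (pt 3) = pt 3) : g ∈ C.grp H2 := by
  rw [H1_eq] at hg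
  exact (L1.stab_eq hC L1_light L1_eqns L1_H).le ⟨hg, h⟩
theorem H1_le : C.grp H1 ≤ C.grp [[2], [1,2,0]] :=
  le_of_eqQ hlk base ((grp_le_iff _).2 fun w _ => mem w) [([21], [0,2,1,3,1,2,1,1,2,2,2,0]), ([23], [0,2,2,0,2,0,3,1]),
    ([20], [3,1,1,3,0,2,0,0,3,1,2,1]), ([22], [0,2,2,0,2,0,3,1]), ([18], [2,0,2,1,3,0,2,2,1,3,0,0,0]),
    ([12], [3,1,1,3,3,0,0,0,2]), ([14], [3,1,2,0,3,0,0,2,0]), ([16], [1,1,2,1,1,2,2,2,1,3,1,2]),
    ([7], [1,3,3,0,2,0,0,0,2,0,3]), ([6], [2,1,3,0,2,2,1,3,0,0,0]), ([8], [1,3,0,0,2,0,0,3,0,0,2,0,0,0]),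
    ([10], [2,1,3,0,2,2,1,3,0,0,0])] rfl ((grp_le_iff _).2 fun w _ => mem w) (by decide +kernel)
theorem trans (a : Fin C.n) : ∃ g ∈ H, g (pt 0) = a := by
  rw [H, gens_eq]
  exact trans_of_clo hC (sched := [24, 26, 16, 20, 24, 16, 8, 28, 26, 14, 24, 16, 28, 8, 2, 8]) (by decide +kernel) a
def relsH : List Word := rels.take 10
theorem hrelH : ∀ r ∈ relsH, C.ev r = 1 := rels_of_eqW hC (by decide +kernel)
theorem mp (w : Word) (a : ℕ) (h : mapsP C lk w 0 a = true := by decide +kernel) (ha : a < 1408 := by decide) :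
    C.ev w (pt 0) = pt a ha := Fin.ext (mapsP_spec hlk h)

section
variable {X : Type u} (S : Sys C H X) (hS : ∀ i < 9, ∀ s : H, s.1 ∈ Sg i → S.ρ s (S.p i) = S.p i)
  (hE : ∀ e, Ed FM 9 ES e → S.Holds e) (hX : ∀ ξ, ∃ i < 9, ∃ g, ξ = S.ρ g (S.p i))
include hS hE

theorem holdsM (q : ℕ) (hq : q < 252) : S.Holds (fget FM q) := by
  rcases hES q hq with ⟨h1, h2, h3, h4⟩ | ⟨i, hi, h⟩
  · rw [Sys.Holds, S.m_ge h1.ge, h2, hS _ h3 (S.w _) (mem_grp C.g h4)]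
  · rw [lmap_eq] at h
    obtain ⟨r, hr, rfl⟩ := List.mem_map.1 h
    exact hE _ ⟨i, hi, r, hr, rfl⟩

include hX
theorem rel12 {ls : List ℕ} {D : List (ℕ × Word × List (List ℕ))} (h : lall D (relOK lk 1408 B FM 252 (ls, []) 0 [[]]) = true)
    (hD : ∀ i < 9, ∀ r ∈ nth ES [] i, r.e ∈ lmap Prod.fst D) (hl : ∀ l ∈ ls, l < C.n)
    (hf : ∀ l ∈ ls, lall H1 (fun w => mapsP C lk w l l) = true) : S.Rel (ls, []) :=
  tab.1.rel S hle hS hX (a₀ := pt 0) (fun g hg => ⟨[], by simp, g, (mul_one g).symm,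
    fun l h => fix_of_mapsP hlk (hf l h) _ (st0 g.2 hg), by simp [Sys.w_nil]⟩)
    (rel_h2 hlk base (holdsM S hS hE) hl h hD)

theorem rel5 : S.Rel ([3,0,3], [4]) := by
  have hz := lall_append hZ0 (lall_append hZ1 hZ2)
  refine tab.1.rel S hle hS hX (a₀ := pt 0) (tv := tv) (fun g hg => ?_)
    (rel_h2 hlk base (holdsM S hS hE) (R := ([3,0,3], [4])) (by decide) (a₀ := pt 0) hz (by decide +kernel))
  have h1 := Ctx.inv_spec hC (ws := H1) (O := msk lk 3 tv) (by decide +kernel) (inv_mem (st0 g.2 hg)) (pt 3)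
  obtain ⟨v, hv, h2⟩ := msk_spec (h1.trans ((tb_eq _ 3).symm.trans (by decide +kernel)))
  have h3 : ipt lk v 0 = 0 := (by decide +kernel : ∀ v ∈ HNT.tv, ipt lk v 0 = 0) v hv
  have h4 : (g * (S.w v)⁻¹).1 (pt 0) = pt 0 :=
    (congrArg g.1 (Fin.ext ((ipt_eq hlk v (pt 0)).symm.trans h3) : _ = pt 0)).trans hg
  have h5 : (g * (S.w v)⁻¹).1 (pt 3) = pt 3 :=
    (congrArg g.1 (Fin.ext ((ipt_eq hlk v (pt 3)).symm.trans h2))).trans (by simp)
  refine ⟨v, hv, g * (S.w v)⁻¹, by simp, fun l hl => ?_, Subtype.ext ?_⟩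
  · obtain rfl | rfl : l = pt 3 ∨ l = pt 0 := by simp only [Fin.ext_iff, pt]; simp at hl; omega
    exacts [h5, h4]
  · refine (Subgroup.mem_centralizer_singleton_iff.1 ((?_ : C.grp H2 ≤ _) (st1 (st0 (Subtype.prop _) h4) h5)))
    rw [grp_le_iff]; intro w hw
    exact Subgroup.mem_centralizer_singleton_iff.2 ((ev_lapp _ w [4]).symm.trans ((eq_of_eqQ hlk base (mem _) (mem _)
      ((by decide +kernel : ∀ w ∈ H2, eqQ lk B (lapp w [4], lapp [4] w) = true) w hw)).trans (ev_lapp _ _ _)))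
end

abbrev XM := DCos.XM H 8 Sg
def nn : List ℕ := [1, 1408, 35200, 2200, 123200, 354816, 739200, 5775, 277200]
theorem cardQ (i : Fin 9) : Nat.card (H ⧸ (Sg i).subgroupOf H) = nth nn 0 i := by
  have h := ((Sg i).subgroupOf H).index_mul_card
  rw [Nat.card_congr (Subgroup.subgroupOfEquivOfLe (hle i)).toEquiv, cardS i i.2, card,
    (by decide +kernel : ∀ i < 9, 177408000 = nth nn 0 i * nth NS 0 i) i i.2] at h
  exact Nat.eq_of_mul_eq_mul_right ((by decide +kernel : ∀ i < 9, 0 < nth NS 0 i) i i.2) h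
theorem cardX : Nat.card XM = 1539000 := by
  rw [Nat.card_sigma]; simp only [cardQ]; decide +kernel

theorem ev_H {P : Type u} [Group P] (ρ : H →* P) {g : ℕ → P} (h : ∀ i < 3, g i = ρ ⟨_, mem [2 * i]⟩) {w : Word}
    (hw : ∀ a ∈ w, a < 2 * 3) : ev g w = ρ ⟨_, mem w⟩ := by
  rw [ev_congr h hw, ← map_ev ρ fun i => ⟨_, mem [2 * i]⟩]
  congr 1; apply Subtype.ext
  exact (map_ev H.subtype (fun i => ⟨_, mem [2 * i]⟩) w).trans (congrArg (ev · w) (funext fun i => ev_gen C.g i))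

theorem model : ∃ (S : Sys C H XM) (g : ℕ → Perm XM), S.ρ = MulAction.toPermHom H _ ∧ S.p = pM H 8 Sg ∧
    (∀ q < 252, S.Holds (fget FM q)) ∧ (∀ i < 3, g i = S.ρ ⟨_, mem [2 * i]⟩) ∧ (∀ ξ, g 3 ξ = S.μ (pt 0) ξ) ∧
    ∀ r ∈ rels, ev g r = 1 := by
  obtain ⟨S, h1, h2, hE⟩ := tab.1.model mem hle
  have hS : ∀ i < 9, ∀ s : H, s.1 ∈ Sg i → S.ρ s (S.p i) = S.p i := fun i hi s hs => by
    rw [h1, h2]; exact ((pM_eq hi hi (g := 1)).2 ⟨rfl, by simpa using hs⟩).symm.trans (one_smul _ _)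
  have hX : ∀ ξ, ∃ i < 9, ∃ g, ξ = S.ρ g (S.p i) := by rw [h1, h2]; exact pM_surj
  have r1 : ∀ ξ, S.μ (pt 4) (S.μ (pt 0) ξ) = ξ := rel12 S hS hE hX hR1 (by decide +kernel) (by decide) (by decide +kernel) |>
    fun h ξ => by simpa [Sys.w_nil] using h ξ
  have r2 : ∀ ξ, S.μ (pt 2) (S.μ (pt 0) (S.μ (pt 0) ξ)) = ξ :=
    rel12 S hS hE hX hR2 (by decide +kernel) (by decide) (by decide +kernel) |> fun h ξ => by simpa [Sys.w_nil] using h ξ
  have r5 : ∀ ξ, S.μ (pt 3) (S.μ (pt 0) (S.μ (pt 3) ξ)) = S.ρ (S.w [4]) ξ := rel5 S hS hE hX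
  obtain ⟨T, hT⟩ : ∃ T : Perm XM, ∀ ξ, S.μ (pt 0) ξ = T ξ :=
    ⟨.ofBijective (S.μ (pt 0)) (Finite.injective_iff_bijective.1 (Function.LeftInverse.injective r1)), fun _ => rfl⟩
  have e : ∀ w ξ, S.μ (C.ev w (pt 0)) ξ = (S.ρ (S.w w) * T * (S.ρ (S.w w))⁻¹) ξ := fun w ξ => by
    simpa [hT] using! S.eqv (S.w w) (pt 0) ((S.ρ (S.w w))⁻¹ ξ)
  let g : ℕ → Perm XM := fun i => if i = 3 then T else S.ρ ⟨_, mem [2 * i]⟩
  have hg : ∀ i < 3, g i = S.ρ ⟨_, mem [2 * i]⟩ := fun i hi => if_neg hi.ne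
  have g3 : g 3 = T := if_pos rfl
  clear_value g
  have a : ∀ r ∈ relsH, ev g r = 1 := fun r hr => by
    rw [ev_H S.ρ hg ((by decide +kernel : ∀ r ∈ relsH, ∀ a ∈ r, a < 2 * 3) r hr), ← map_one S.ρ]
    congr 1; exact Subtype.ext (hrelH r hr)
  have w : ∀ v : Word, (∀ a ∈ v, a < 2 * 3) → S.ρ (S.w v) = ev g v := fun v hv => (ev_H S.ρ hg hv).symm
  have b1 : g 0 * g 0 * g 3 * (g 0 * g 0)⁻¹ * g 3 = 1 := Equiv.ext fun ξ => by
    have := r1 ξ; rw [← mp [0,0] 4, e, w _ (by decide)] at this; simpa [lv, g3, hT] using this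
  have b2 : (g 0)⁻¹ * g 3 * g 0 * g 3 * g 3 = 1 := Equiv.ext fun ξ => by
    have := r2 ξ; rw [← mp [1] 2, e, w _ (by decide)] at this; simpa [lv, g3, hT] using this
  have b3 : g 2 * g 3 * (g 2)⁻¹ * g 3 * (g 2 * g 3 * (g 2)⁻¹) = g 2 := Equiv.ext fun ξ => by
    have := r5 ξ; rw [← mp [4] 3, e, e, w _ (by decide)] at this; simpa [lv, g3, hT, -EmbeddingLike.apply_eq_iff_eq] using this
  have b4 : g 1 * g 3 * (g 1)⁻¹ = g 3 := Equiv.ext fun ξ => by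
    have := e [2] ξ; rw [mp [2] 0, w _ (by decide)] at this; simpa [lv, g3, hT] using this.symm
  have b5 : g 2 * g 2 = 1 := by simpa [lv] using a [4,4] (by decide)
  refine ⟨S, g, h1, h2, holdsM S hS hE, hg, fun _ => by rw [g3, hT], fun r hr => ?_⟩
  rcases (by decide +kernel : ∀ r ∈ rels, r ∈ relsH ∨ r = [6,6,6,6,6] ∨ r = [1,6,0,6,6] ∨ r = [7,3,6,2] ∨ r = [4,6,4,6,4,6])
    r hr with h | rfl | rfl | rfl | rfl
  · exact a r h
  all_goals simp only [ev_cons, ev_nil, lv]; norm_num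
  all_goals generalize g 0 = x, g 1 = y, g 2 = z, g 3 = t at *
  · have c1 : x⁻¹ * t * x = (t * t)⁻¹ := eq_inv_of_mul_eq_one_left (by simpa [mul_assoc] using b2)
    have c2 : (x * x)⁻¹ * t * (x * x) = t * t * t * t := by
      calc _ = x⁻¹ * (x⁻¹ * t * x) * x := by group
        _ = x⁻¹ * (t * t)⁻¹ * x := by rw [c1]
        _ = ((x⁻¹ * t * x) * (x⁻¹ * t * x))⁻¹ := by group
        _ = _ := by rw [c1]; simp [mul_assoc]
    have c3 : (x * x)⁻¹ * t * (x * x) = t⁻¹ := by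
      generalize x * x = c at b1
      calc _ = (c⁻¹ * t⁻¹ * c)⁻¹ := by group
        _ = (c⁻¹ * (c * t * c⁻¹) * c)⁻¹ := by rw [eq_inv_of_mul_eq_one_left b1]
        _ = _ := by group
    calc _ = t * t * t * t * t := by group
      _ = 1 := by rw [← c2, c3, inv_mul_cancel]
  · simpa [mul_assoc] using b2
  · calc _ = t⁻¹ * (y⁻¹ * (y * t * y⁻¹ * y)) := by rw [b4]
      _ = 1 := by group
  · rw [← eq_inv_of_mul_eq_one_left b5] at b3
    calc _ = z * t * z * t * (z * t * z) * z⁻¹ := by group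
      _ = 1 := by rw [b3, mul_inv_cancel]

end
end CA.HNG
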