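import Cfsg.Agent.Lib.Spor.HNG

/-! The Harada–Norton group: order, index of `2.HS.2`, maximality. -/

set_option autoImplicit false
set_option maxRecDepth 100000

namespace CA.HNG
open Equiv CA.CNet CA.CWord CA.CLevel CA.CSimple CA.CPoint CA.CTodd CA.CPres CA.CLow CA.DCos CA.HNM CA.HNT
open CA.HNRel (rels enc)
open Cfsg.Spor

noncomputable section

abbrev g : ℕ → HN := pg HN.edges HN.extra HNRel.gen
abbrev K : Subgroup HN := grp g gens
theorem top : grp g HNRel.gens = ⊤ := enc.top _ (by decide)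
theorem rel (r : Word) (h : r ∈ rels := by decide +kernel) : ev g r = 1 := enc.hold r h

structure Dat where
  φ : H →* HN
  τ : Fin C.n → HN
  hφ : ∀ i < 3, g i = φ ⟨_, mem [2 * i]⟩
  hτ : ∀ h : H, τ (h.1 (pt 0)) = φ h * g 3 * (φ h)⁻¹
  memK : ∀ h, φ h ∈ K
  surj : ∀ x ∈ K, ∃ h, φ h = x

theorem trel : (g 0)⁻¹ * g 3 * g 0 = (g 3 * g 3)⁻¹ ∧ g 3 * g 3 * g 3 * g 3 * g 3 = 1 ∧ g 1 * g 3 = g 3 * g 1 ∧ g 2 * g 2 = 1 ∧
    g 2 * g 3 * g 2 * g 3 * g 2 * g 3 = 1 := by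
  have a1 := rel [1,6,0,6,6]
  have a2 := rel [6,6,6,6,6]
  have a3 := rel [7,3,6,2]
  have a4 := rel [4,4]
  have a5 := rel [4,6,4,6,4,6]
  simp only [ev_cons, ev_nil, lv] at a1 a2 a3 a4 a5; norm_num at a1 a2 a3 a4 a5
  generalize g 0 = x, g 1 = y, g 2 = z, g 3 = t at *
  refine ⟨eq_inv_of_mul_eq_one_left (by simpa [mul_assoc] using a1), by simpa [mul_assoc] using a2, ?_, a4,
    by simpa [mul_assoc] using a5⟩
  calc _ = y * t * (t⁻¹ * (y⁻¹ * (t * y))) := by rw [a3, mul_one]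
    _ = _ := by group

theorem dat (hB : Bound.{0} relsH gens 177408000) : Nonempty Dat := by
  obtain ⟨φ, hφ⟩ := hom_of_bound hB hrelH card.ge (g := g) fun r hr => rel r (List.mem_of_mem_take hr)
  have h1 : ∀ i < 3, g i = φ ⟨_, mem [2 * i]⟩ := fun i hi => by
    rw [← ev_gen g i]; interval_cases i
    exacts [(hφ [0]).symm, (hφ [2]).symm, (hφ [4]).symm]
  obtain ⟨τ, hτ⟩ := exists_tau φ (g 3) (pt 0) trans fun h hh => by
    obtain ⟨v, hv⟩ := exists_subst (H1_le (st0 h.2 hh))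
    have : ∀ w ∈ [[2], [1,2,0]], ev g w ∈ Subgroup.centralizer {g 3} := by
      obtain ⟨a1, a2, a3, -⟩ := trel
      simp only [List.forall_mem_cons, Subgroup.mem_centralizer_singleton_iff, ev_cons, ev_nil, lv]; norm_num
      generalize g 0 = x, g 1 = y, g 3 = t at *
      refine ⟨a3, ?_⟩
      have b : t = (x⁻¹ * t * x) * (x⁻¹ * t * x) := by
        rw [a1, ← mul_inv_rev, eq_inv_iff_mul_eq_one, ← a2]; group
      have c : Commute y t := a3
      calc _ = x⁻¹ * (y * x) * ((x⁻¹ * t * x) * (x⁻¹ * t * x)) := by rw [← b]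
        _ = x⁻¹ * (y * (t * t)) * x := by group
        _ = x⁻¹ * (t * t * y) * x := by rw [(c.mul_right c).eq]
        _ = ((x⁻¹ * t * x) * (x⁻¹ * t * x)) * (x⁻¹ * (y * x)) := by group
        _ = _ := by rw [← b]
    have e : φ h = ev g (subst [[2], [1,2,0]] v) := by
      rw [ev_subst, show h = ev (fun i => (⟨_, mem (nth [[2], [1,2,0]] [] i)⟩ : H)) v from
        Subtype.ext (hv.symm.trans ((ev_subst _ _ _).trans (map_ev H.subtype (fun i => ⟨_, mem _⟩) v).symm)), map_ev]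
      congr 1; funext i
      refine (ev_H φ h1 ?_).symm
      rcases nth_mem_or [[2], [1,2,0]] [] i with h | h
      · exact (by decide : ∀ w ∈ [[2], [1,2,0]], ∀ a ∈ w, a < 2 * 3) _ h
      · simp [h]
    rw [e]
    exact Subgroup.mem_centralizer_singleton_iff.1 ((grp_le_iff g).2 this (subst_mem_grp _ _ _))
  refine ⟨φ, τ, h1, hτ, fun h => ?_, fun x hx => ?_⟩
  · obtain ⟨v, hv⟩ := exists_subst h.2
    rw [show h = ⟨_, subst_mem_grp _ gens v⟩ from Subtype.ext hv.symm, hφ]; exact subst_mem_grp _ _ _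
  · obtain ⟨v, rfl⟩ := exists_subst hx
    exact ⟨_, hφ v⟩

namespace Dat
variable (D : Dat)

def S : Sys C H (HN ⧸ K) where
  ρ := (MulAction.toPermHom HN _).comp D.φ
  μ a ξ := D.τ a • ξ
  p j := (nth ws [] j).foldr (fun a ξ => if h : a < C.n then D.τ ⟨a, h⟩ • ξ else ξ) (1 : HN)
  eqv h a ξ := by
    obtain ⟨s, hs, rfl⟩ := trans a
    have := D.hτ (h * ⟨s, hs⟩)
    simp only [Subgroup.coe_mul, Perm.mul_apply] at this
    simp [this, D.hτ ⟨s, hs⟩, mul_smul]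
  mem := mem

theorem tw (w : Word) (a : ℕ) (hw : ∀ a ∈ w, a < 2 * 3 := by decide) (h : mapsP C lk w 0 a = true := by decide +kernel)
    (ha : a < 1408 := by decide) : D.τ (pt a ha) = ev g w * g 3 * (ev g w)⁻¹ := by
  rw [← mp w a h ha, ev_H D.φ D.hφ hw]; exact D.hτ ⟨_, mem w⟩

theorem h0 (h : H) : D.S.ρ h (D.S.p 0) = D.S.p 0 :=
  (QuotientGroup.eq.2 (by simpa using D.memK h) : ((D.φ h * 1 : HN) : HN ⧸ K) = (1 : HN))

theorem relS : ∀ R ∈ RL, (∀ l ∈ R.1, l < C.n) ∧ D.S.Rel R := by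
  have t0 := D.tw [] 0
  have t1 := D.tw [0] 1
  have t2 := D.tw [1] 2
  have t3 := D.tw [4] 3
  have t4 := D.tw [0,0] 4
  have z : D.φ (D.S.w [4]) = g 2 := (D.hφ 2 (by decide)).symm
  obtain ⟨a1, a2, -, a4, a5⟩ := trel
  simp only [ev_cons, ev_nil, lv] at t0 t1 t2 t3 t4; norm_num at t0 t1 t2 t3 t4
  have b : (g 0)⁻¹ * (g 3 * g 3) * g 0 = g 3 := by
    calc _ = ((g 0)⁻¹ * g 3 * g 0) * ((g 0)⁻¹ * g 3 * g 0) := by group
      _ = _ := by rw [a1, ← mul_inv_rev, inv_eq_iff_mul_eq_one, ← a2]; group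
  have u1 : D.τ (pt 1) = g 3 * g 3 := by
    calc _ = g 0 * ((g 0)⁻¹ * (g 3 * g 3) * g 0) * (g 0)⁻¹ := by rw [t1, b]
      _ = _ := by simp [mul_assoc]
  have u4 : D.τ (pt 4) = g 3 * g 3 * (g 3 * g 3) := by
    calc _ = g 0 * (g 0 * g 3 * (g 0)⁻¹) * (g 0)⁻¹ := by rw [t4]; simp [mul_assoc]
      _ = g 0 * (g 3 * g 3) * (g 0)⁻¹ := by rw [← t1, u1]
      _ = (g 0 * g 3 * (g 0)⁻¹) * (g 0 * g 3 * (g 0)⁻¹) := by simp [mul_assoc]
      _ = _ := by rw [← t1, u1]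
  rw [a1] at t2
  rw [← eq_inv_of_mul_eq_one_left a4] at t3
  simp only [RL, List.forall_mem_cons]
  refine ⟨⟨by decide, fun ξ => by simp [Sys.app, Sys.w_nil]⟩, ⟨by decide, fun ξ => ?_⟩, ⟨by decide, fun ξ => ?_⟩,
    ⟨by decide, fun ξ => ?_⟩, ⟨by decide, fun ξ => ?_⟩, ⟨by decide, fun ξ => ?_⟩, by simp⟩
  · show D.τ (pt 4) • D.τ (pt 0) • ξ = D.φ 1 • ξ
    rw [u4, t0, smul_smul, map_one, ← a2]; simp only [mul_assoc]
  · show D.τ (pt 2) • D.τ (pt 0) • D.τ (pt 0) • ξ = D.φ 1 • ξ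
    rw [t2, t0, smul_smul, smul_smul, map_one]; congr 1; group
  · show D.τ (pt 1) • D.τ (pt 1) • D.τ (pt 0) • ξ = D.φ 1 • ξ
    rw [u1, t0, smul_smul, smul_smul, map_one, ← a2]; simp only [mul_assoc]
  · show D.τ (pt 0) • D.τ (pt 2) • D.τ (pt 0) • ξ = D.φ 1 • ξ
    rw [t2, t0, smul_smul, smul_smul, map_one]; congr 1; group
  · show D.τ (pt 3) • D.τ (pt 0) • D.τ (pt 3) • ξ = D.φ (D.S.w [4]) • ξ
    rw [t3, t0, smul_smul, smul_smul, z]; congr 1
    calc _ = g 2 * g 3 * g 2 * g 3 * g 2 * g 3 * g 2 := by group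
      _ = _ := by rw [a5, one_mul]

theorem holds (q : ℕ) (hq : q < 252) : D.S.Holds (fget FM q) :=
  (hsig q hq).2 ▸ facts base D.h0 (fun _ => rfl) D.relS _ (hsig q hq).1

theorem hS : ∀ i < 9, ∀ s : H, s.1 ∈ Sg i → D.S.ρ s (D.S.p i) = D.S.p i := fun i hi s hs => by
  have : Sg i ≤ ((MulAction.stabilizer (Perm (HN ⧸ K)) (D.S.p i)).comap D.S.ρ).map H.subtype := by
    rw [Sg, grp_le_iff]; intro w hw
    obtain ⟨q, hq, e⟩ := hgen i hi w hw
    have := D.holds q hq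
    rw [e] at this
    exact ⟨D.S.w w, this.symm.trans (D.S.m_ge (a := 1408) le_rfl _), rfl⟩
  obtain ⟨s', h1, h2⟩ := this hs
  exact (Subtype.ext h2 : s' = s) ▸ h1

theorem all (ξ : HN ⧸ K) : ∃ i < 9, ∃ h, ξ = D.S.ρ h (D.S.p i) := by
  obtain ⟨x, rfl⟩ := QuotientGroup.mk_surjective ξ
  have h1 : ∀ x ∈ K, ∀ ξ : HN ⧸ K, (∃ i < 9, ∃ h, ξ = D.S.ρ h (D.S.p i)) → ∃ i < 9, ∃ h, x • ξ = D.S.ρ h (D.S.p i) := by
    rintro x hx _ ⟨i, hi, h, rfl⟩
    obtain ⟨k, rfl⟩ := D.surj x hx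
    exact ⟨i, hi, k * h, by rw [map_mul]; rfl⟩
  have h2 : ∀ ξ : HN ⧸ K, (∃ i < 9, ∃ h, ξ = D.S.ρ h (D.S.p i)) → ∃ i < 9, ∃ h, g 3 • ξ = D.S.ρ h (D.S.p i) := by
    rintro _ ⟨i, hi, h, rfl⟩
    have := tab.1.closed D.S hle (fun e he => by obtain ⟨q, hq, rfl⟩ := tab.2 e he; exact D.holds q hq) D.hS hi h (pt 0)
    rwa [show D.S.μ (pt 0) = (D.τ (pt 0) • ·) from rfl, D.tw [] 0, ev_nil, inv_one, one_mul, mul_one] at this
  have h3 : ∀ ξ : HN ⧸ K, (∃ i < 9, ∃ h, ξ = D.S.ρ h (D.S.p i)) → ∃ i < 9, ∃ h, x • ξ = D.S.ρ h (D.S.p i) := by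
    have hx : x ∈ grp g HNRel.gens := top ▸ Subgroup.mem_top x
    have hw : ∀ w ∈ HNRel.gens, w ∈ gens ∨ w = [2 * 3] := by decide
    induction hx using Subgroup.closure_induction'' with
    | mem x hx =>
      obtain ⟨w, h, rfl⟩ := hx
      rcases hw w h with h | rfl
      · exact h1 _ (mem_grp _ h)
      · rw [ev_gen]; exact h2
    | inv_mem x hx =>
      obtain ⟨w, h, rfl⟩ := hx
      rcases hw w h with h | rfl
      · exact h1 _ (inv_mem (mem_grp _ h))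
      · rw [ev_gen, ← eq_inv_of_mul_eq_one_left trel.2.1]
        exact fun ξ h => by simpa only [mul_smul] using h2 _ (h2 _ (h2 _ (h2 _ h)))
    | one => simp
    | mul x y _ _ a b => exact fun ξ h => by rw [mul_smul]; exact a _ (b _ h)
  exact mul_one x ▸ h3 _ ⟨0, by decide, 1, (D.h0 1).symm⟩

end Dat

theorem index_le (D : Dat) : Finite (HN ⧸ K) ∧ K.index ≤ 1539000 := cardX ▸ card_le D.S D.hS D.all

structure Mod (D : Dat) where
  ψ : HN →* Perm XM
  hρ : ∀ h ξ, ψ (D.φ h) ξ = h • ξ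
  tr : ∀ ξ, ∃ x, ψ x (pM H 8 Sg 0) = ξ
  S : Sys C H XM
  hS : ∀ h ξ, S.ρ h ξ = h • ξ
  hp : S.p = pM H 8 Sg
  hμ : ∀ a ξ, S.μ a ξ = ψ (D.τ a) ξ
  holds : ∀ q < 252, S.Holds (fget FM q)

theorem mod (D : Dat) : Nonempty (Mod D) := by
  obtain ⟨S, g', h1, h2, h3, h4, h5, h6⟩ := model
  obtain ⟨ψ, hψ, -⟩ := enc.hom' h6
  have a : ∀ i < 4, ψ (g i) = g' i := fun i hi => by
    rw [← ev_gen g, ← ev_gen g']; exact hψ _ (by simp; omega)
  have b : ∀ h, ψ (D.φ h) = S.ρ h := fun h => by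
    obtain ⟨v, hv⟩ := exists_subst h.2
    have e : h = ev (fun i => (⟨_, mem (nth gens [] i)⟩ : H)) v :=
      Subtype.ext (hv.symm.trans ((ev_subst _ _ _).trans (map_ev H.subtype (fun i => ⟨_, mem _⟩) v).symm))
    rw [e, map_ev, map_ev, map_ev]; congr 1; funext i
    have : ∀ a ∈ nth gens [] i, a < 2 * 3 := by
      rcases nth_mem_or gens [] i with h | h
      · exact (by decide : ∀ w ∈ gens, ∀ a ∈ w, a < 2 * 3) _ h
      · simp [h]
    rw [← ev_H D.φ D.hφ this, ← ev_H S.ρ h4 this]; exact hψ _ fun a h => (this a h).trans (by decide)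
  have c : ∀ a ξ, S.μ a ξ = ψ (D.τ a) ξ := fun p ξ => by
    obtain ⟨s, hs, rfl⟩ := trans p
    rw [D.hτ ⟨s, hs⟩, map_mul, map_mul, map_inv, b, a 3 (by decide), Perm.mul_apply, Perm.mul_apply, h5, ← S.eqv]; simp
  have d : ∀ q < 252, (fget FM q).h = [] → (fget FM q).a < 1408 → (∃ x, ψ x (S.p 0) = S.p (fget FM q).i) →
      ∃ x, ψ x (S.p 0) = S.p (fget FM q).j := by
    rintro q hq e1 e2 ⟨x, hx⟩
    have := h3 q hq
    rw [Sys.Holds, e1, S.w_nil, map_one, ← hx, show (fget FM q).a = (⟨_, e2⟩ : Fin C.n) from rfl, S.m_fin, c] at this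
    exact ⟨_ * x, by rw [map_mul]; exact this⟩
  have p1 := d 16 (by decide) rfl (by decide) ⟨1, by simp; rfl⟩
  have p3 := d 40 (by decide) rfl (by decide) p1
  have p4 := d 43 (by decide) rfl (by decide) p1
  have p6 := d 100 (by decide) rfl (by decide) p3
  have e : ∀ i < 9, ∃ x, ψ x (S.p 0) = S.p i := fun i hi => by
    interval_cases i
    exacts [⟨1, by simp⟩, p1, d 39 (by decide) rfl (by decide) p1, p3, p4, d 44 (by decide) rfl (by decide) p1, p6,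
      d 194 (by decide) rfl (by decide) p6, d 131 (by decide) rfl (by decide) p4]
  refine ⟨ψ, fun h ξ => by rw [b, h1]; rfl, fun ξ => ?_, S, fun h ξ => by rw [h1]; rfl, h2, c, h3⟩
  obtain ⟨i, hi, k, rfl⟩ := pM_surj ξ
  obtain ⟨x, hx⟩ := e i hi
  exact ⟨D.φ k * x, by rw [map_mul, Perm.mul_apply, ← h2, hx, b, h1]; rfl⟩

namespace Mod
variable {D : Dat} (M : Mod D)
include M

omit M in
theorem fix0 (h : H) : h • pM H 8 Sg 0 = pM H 8 Sg 0 :=
  ((pM_eq (by decide) (by decide) (g := 1)).2 ⟨rfl, by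
    rw [inv_one, one_mul]; exact gens_eq.le h.2⟩).symm.trans (one_smul _ _)

theorem stab : K = (MulAction.stabilizer _ (pM H 8 Sg 0)).comap M.ψ ∧ K.index = 1539000 := by
  let := MulAction.compHom XM M.ψ
  have h1 : K ≤ MulAction.stabilizer HN (pM H 8 Sg 0) := fun x hx => by
    obtain ⟨h, rfl⟩ := D.surj x hx
    exact (M.hρ h _).trans (fix0 h)
  have h2 : (MulAction.stabilizer HN (pM H 8 Sg 0)).index = 1539000 := by
    rw [MulAction.index_stabilizer, Set.eq_univ_of_forall (s := MulAction.orbit _ _) M.tr, Set.ncard_univ, cardX]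
  have := (index_le D).1
  have h3 := Subgroup.relIndex_mul_index h1
  have h4 := (index_le D).2
  have h5 : K.index ≠ 0 := Nat.card_pos.ne'
  rw [h2] at h3
  have h6 : K.relIndex (MulAction.stabilizer HN (pM H 8 Sg 0)) = 1 := by
    generalize K.relIndex _ = a at h3
    rcases a with _ | _ | a <;> omega
  exact ⟨le_antisymm h1 (Subgroup.relIndex_eq_one.1 h6), by omega⟩

theorem inj : Function.Injective D.φ := by
  refine (injective_iff_map_eq_one _).2 fun h hh => Subtype.ext (Equiv.ext fun a => ?_)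
  obtain ⟨s, hs, e⟩ := trans a
  obtain ⟨u, hu, e'⟩ := trans (pt 4)
  have h1 := M.hρ h ((⟨s, hs⟩ * ⟨u, hu⟩⁻¹ : H) • pM H 8 Sg 1)
  rw [hh, map_one, Perm.one_apply, smul_smul, pM_eq (by decide) (by decide)] at h1
  have := fix_of_mapsP hlk (ws := s1H0) (p := pt 4) (by decide +kernel) _ h1.2
  simpa [← e', ← e, Equiv.symm_apply_eq] using this

theorem cardK : Nat.card K = 177408000 := by
  rw [← card, show K = D.φ.range from le_antisymm D.surj (by rintro _ ⟨h, rfl⟩; exact D.memK h)]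
  exact (Nat.card_congr (D.φ.ofInjective M.inj).toEquiv).symm

theorem cardG : Nat.card HN = 273030912000000 := by
  rw [← K.index_mul_card, M.stab.2, M.cardK]

theorem max (L : Subgroup HN) (hL : K ≤ L) : L = K ∨ L = ⊤ := by
  classical
  let := MulAction.compHom XM M.ψ
  have h1 : K.relIndex L = (MulAction.orbit L (pM H 8 Sg 0)).ncard := by
    rw [← MulAction.index_stabilizer, M.stab.1]; rfl
  let b : Fin 9 → Bool := fun i => pM H 8 Sg i ∈ MulAction.orbit L (pM H 8 Sg 0)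
  have h2 : MulAction.orbit L (pM H 8 Sg 0) = {ξ | b ξ.1} := Set.ext fun ξ => by
    obtain ⟨i, hi, k, rfl⟩ := pM_surj ξ
    have : (k • pM H 8 Sg i).1 = ⟨i, hi⟩ := by rw [pM_fin ⟨i, hi⟩]
    simp only [Set.mem_ofPred_eq, this, b, decide_eq_true_eq]
    rw [← M.hρ]
    exact MulAction.orbit_eq_iff.symm.trans (by
      rw [show M.ψ (D.φ k) (pM H 8 Sg i) = (⟨_, hL (D.memK k)⟩ : L) • pM H 8 Sg i from rfl, MulAction.orbit_smul,
        MulAction.orbit_eq_iff])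
  have h3 : K.relIndex L = ∑ i : Fin 9, if b i then nth nn 0 i else 0 := by
    rw [h1, h2, ← Nat.card_coe_set_eq, Set.coe_ofPred, Nat.card_congr (Equiv.subtypeSigmaEquiv _ fun i => b i = true), Nat.card_sigma]
    simp only [cardQ]
    rw [← Finset.sum_filter, ← Finset.sum_subtype (s := Finset.univ.filter fun i => b i = true) (by simp)
      fun i : Fin 9 => nth nn 0 i]
  have h4 := Subgroup.relIndex_mul_index hL
  have h5 : b 0 = true := decide_eq_true (MulAction.mem_orbit_self _)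
  have h6 := (by decide +kernel : ∀ b : Fin 9 → Bool, b 0 = true → (∑ i : Fin 9, if b i then nth nn 0 i else 0) ∣ 1539000 →
    (∑ i : Fin 9, if b i then nth nn 0 i else 0) = 1 ∨ (∑ i : Fin 9, if b i then nth nn 0 i else 0) = 1539000) b h5
  rw [M.stab.2] at h4
  rw [← h3] at h6
  rcases h6 ⟨_, h4.symm⟩ with h | h
  · exact .inl (le_antisymm (Subgroup.relIndex_eq_one.1 h) hL)
  · rw [h] at h4; exact .inr (Subgroup.index_eq_one.1 (by omega))

theorem t_not : g 3 ∉ K := fun h => by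
  have h1 := M.holds 16 (by decide)
  rw [M.stab.1] at h
  have h2 : M.S.μ (pt 0) (M.S.p 0) = M.S.ρ 1 (M.S.p 1) := h1
  rw [M.hμ, D.tw [] 0, ev_nil, inv_one, one_mul, mul_one, M.hp, show M.ψ (g 3) _ = _ from h, M.hS] at h2
  exact absurd ((pM_eq (by decide) (by decide)).1 ((one_smul _ _).trans h2)).1 (by decide)

theorem simple (hn : ∀ N : Subgroup HN, (∀ h ∈ K, ∀ n ∈ N, h * n * h⁻¹ ∈ N) → N ≤ K → N ≠ ⊥ → ev g [0, 0] ∈ N) :
    IsSimpleGroup HN := by
  have : Finite HN := Nat.finite_of_card_ne_zero (by rw [M.cardG]; decide)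
  have : Nontrivial HN := ⟨_, _, fun h : g 3 = 1 => M.t_not (h ▸ one_mem _)⟩
  obtain ⟨a1, a2, -, a4, a5⟩ := trel
  have c0 : g 0 * g 0 ∈ K := by
    have : g 0 ∈ K := ev_gen g 0 ▸ mem_grp g (by decide : [2 * 0] ∈ gens)
    exact mul_mem this this
  have c1 : (g 0 * g 0)⁻¹ * g 3 * (g 0 * g 0) = (g 3)⁻¹ := by
    calc _ = (g 0)⁻¹ * ((g 0)⁻¹ * g 3 * g 0) * g 0 := by simp [mul_assoc]
      _ = (g 0)⁻¹ * (g 3 * g 3)⁻¹ * g 0 := by rw [a1]
      _ = (((g 0)⁻¹ * g 3 * g 0) * ((g 0)⁻¹ * g 3 * g 0))⁻¹ := by simp [mul_assoc]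
      _ = _ := by rw [a1, eq_inv_iff_mul_eq_one, ← a2]; simp [mul_assoc]
  have c2 : ∀ N : Subgroup HN, g 3 * g 3 ∈ N → g 3 ∈ N := fun N h => by
    have : g 3 = (g 3 * g 3 * (g 3 * g 3))⁻¹ := eq_inv_of_mul_eq_one_right (by rw [← a2]; simp [mul_assoc])
    rw [this]; exact inv_mem (mul_mem h h)
  refine ⟨fun N hN => or_iff_not_imp_left.2 fun h0 => ?_⟩
  by_cases h : N ⊓ K = ⊥
  · exfalso
    have d1 : Subgroup.centralizer {g 0 * g 0} = K := (M.max _ (by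
      rw [K, grp_le_iff]; intro w hw
      rw [Subgroup.mem_centralizer_singleton_iff, show g 0 * g 0 = ev g [0,0] by simp [lv], ← ev_append, ← ev_append]
      have hw' := (by decide : ∀ w ∈ gens, (∀ a ∈ w ++ [0,0], a < 2 * 3) ∧ ∀ a ∈ [0,0] ++ w, a < 2 * 3) w hw
      rw [ev_H D.φ D.hφ hw'.1, ev_H D.φ D.hφ hw'.2]
      congr 1
      exact Subtype.ext (eq_of_eqQ hlk base (mem _) (mem _)
        ((by decide +kernel : ∀ w ∈ gens, eqQ lk B (w ++ [0,0], [0,0] ++ w) = true) w hw)))).resolve_right fun e => by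
      have := Subgroup.mem_centralizer_singleton_iff.1 (e ▸ Subgroup.mem_top (g 3) : g 3 ∈ Subgroup.centralizer {g 0 * g 0})
      rw [mul_assoc, this, inv_mul_cancel_left] at c1
      exact M.t_not (c2 _ ((eq_inv_iff_mul_eq_one.1 c1).symm ▸ one_mem _))
    have d2 : N ⊔ K = ⊤ := (M.max _ le_sup_right).resolve_left fun e => h0 ((inf_eq_left.2 (le_sup_left.trans e.le)).symm.trans h)
    have d3 := (Subgroup.isComplement'_of_disjoint_and_mul_eq_univ (disjoint_iff.2 h)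
      (by rw [← Subgroup.normal_mul, d2]; rfl)).card_mul_card
    rw [M.cardK, M.cardG] at d3
    have d4 : g 0 * g 0 * (g 0 * g 0) = 1 := by
      rw [show g 0 * g 0 * (g 0 * g 0) = ev g [0,0,0,0] by simp [lv, mul_assoc], ev_H D.φ D.hφ (by decide), ← map_one D.φ]
      congr 1; exact Subtype.ext (eq_of_eqQ hlk base (mem _) (mem []) (by decide +kernel))
    have := MonoidHom.FixedPointFree.odd_card_of_involutive (φ := (MulAut.conjNormal (H := N) (g 0 * g 0)).toMonoidHom)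
      (fun n hn => Subtype.ext (Subgroup.mem_bot.1 (h ▸ ⟨n.2, d1 ▸ Subgroup.mem_centralizer_singleton_iff.2
        (eq_comm.1 (mul_inv_eq_iff_eq_mul.1 (congrArg Subtype.val hn)))⟩)))
      (fun n => Subtype.ext (by
        show g 0 * g 0 * (g 0 * g 0 * n * (g 0 * g 0)⁻¹) * (g 0 * g 0)⁻¹ = n
        rw [← mul_assoc, ← mul_assoc, d4, one_mul, mul_assoc, ← mul_inv_rev, d4, inv_one, mul_one]))
    rw [show Nat.card N = 1539000 by omega] at this
    exact absurd this (by decide)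
  · have e1 : g 0 * g 0 ∈ N := by
      simpa [lv] using (hn (N ⊓ K) (fun k hk n hn => ⟨hN.conj_mem _ hn.1 _, K.mul_mem (K.mul_mem hk hn.2) (K.inv_mem hk)⟩)
        inf_le_right h).1
    have e2 : g 3 ∈ N := c2 _ (by
      have := mul_mem (hN.conj_mem _ (inv_mem e1) (g 3)) e1
      rwa [show _ * (g 0 * g 0) = g 3 * ((g 0 * g 0)⁻¹ * g 3 * (g 0 * g 0))⁻¹ by simp [mul_assoc], c1, inv_inv] at this)
    let π := QuotientGroup.mk' N
    have hm : ∀ x, π x = 1 ↔ x ∈ N := fun x => QuotientGroup.eq_one_iff x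
    have r := fun r h => (map_ev π g r).symm.trans ((congrArg π (rel r h)).trans (map_one π))
    have t := (hm _).2 e2
    have x2 := (hm _).2 e1
    have z := congrArg π a5
    have z2 := congrArg π a4
    simp only [map_mul, t, mul_one, map_one] at z z2 x2
    rw [z2, one_mul] at z
    have r1 := r [4,3,1,3,1,3,3,3,4,2,2,2,0,2,0,2,0,3,1,3,1,3,3,3,4,2,2,2,0,2,0,2,0,3,1,3,1,3,3,3,4,2,2,2,0,2,0,2,0]
      (by decide +kernel)
    have r2 := r [1,2,2,0,2,2,2,1,2,2,0,2,2,2,1,2,2,0,2,2,2] (by decide +kernel)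
    have r3 := r [0,2,0,2,0,2,0,2,0,2,0,2,0,2,0,2] (by decide +kernel)
    simp only [ev_cons, ev_nil, lv] at r1 r2 r3; norm_num [z] at r1
    have x : π (g 0) = 1 := by rwa [← mul_assoc, x2, one_mul] at r1
    norm_num [x] at r2 r3
    have y : π (g 1) = 1 := by
      generalize π (g 1) = y at r2 r3
      have h8 : y ^ 8 = 1 := by simpa [pow_succ, mul_assoc] using r3
      have h15 : y ^ 15 = 1 := by simpa [pow_succ, mul_assoc] using r2
      calc y = y ^ 8 * y ^ 8 * (y ^ 15)⁻¹ := by group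
        _ = 1 := by simp [h8, h15]
    rw [eq_top_iff, ← top, grp_le_iff]
    simp only [HNRel.gens, List.forall_mem_cons, ← hm]
    simp [lv, x, y, z, t]

end Mod

end
end CA.HNG
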