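import Cfsg.Agent.Lib.Spor.HNG2

/-! The centraliser of an element of order 22 in `2.HS.2` and related facts in the model on 1408 points. -/

set_option autoImplicit false
set_option maxRecDepth 100000
set_option linter.all false

namespace CA.HNO
open CA.CNet hiding pt
open Equiv CA.CWord CA.CLevel CA.CSimple CA.CPoint CA.CTodd CA.CPres CA.CLow CA.DCos CA.HNM CA.HNT CA.HNG

noncomputable section
def vw : Word := [2,108]
def m0 : ℕ := 0x200000000000000000000000001000000000000000000000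
def m1 : ℕ := 0x1000000000000000000020000210008200000000000000004000002000000000000000000000000100800028000200000004000000000000000000000000000000000000001000000000000000000400000004000000000000000000000000000000000000000000040000000100010100000000000000000000001000000000008028004000000300010000020008000000002009000020000400000000000
def m2 : ℕ := 0xc0180c000d9836a81830770600400195df0003fc0d437000c7a03d01331400c3000cc30020400086c10063a0038408008037f806c430400300d4006c06d22400d8ffe401b0000030010000100802001540000c001b3020400600060001200404020006034830100000c000000030480600000280044000000d44401b6ff90381c00000082b002000602008300840cf0001a9bf2861b66c935a1105af46029c014018ac30495fb870000c0aa88000000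
def m3 : ℕ := 0xf0c070001b026004067cd087801830c022021b403f028888038514056c8030008000000315b3b840008ff905c2400303001000020200801540000c00030204018030000a0081020008037f801b10c0400300d4006c006d224301b51ffc800d80000028008800000351100d9fc870e00000234000601a418040000300000000c1e09053000001a9bf2861b66c935a1105af002000602008300840cf00031586092bf23014e00a0018155c380000220000
def R1 : List (Word × ℕ × ℕ) := [([3,4], 4, m3), ([78,212], 4, m3), ([78], 2, m2), ([2,106], 1, m3), ([13,176], 2, m2), ([150], 1, m3), ([176], 2, m2), ([76,186], 1, m3), ([28,209], 2, m2), ([179,150], 1, m3), ([184], 2, m2), ([131,185], 3, m2), ([33,211], 1, m3), ([213], 4, m3), ([194,179], 3, m2), ([209], 1, m3), ([183], 1, m3), ([212], 1, m3), ([188], 2, m2), ([7,211], 3, m2), ([208,213], 1, m3), ([187], 4, m3), ([26,150], 3, m2), ([130], 1, m3), ([16,187], 1, m3), ([182,108], 1, m3), ([4,78], 1, m3), ([4,194], 1, m3), ([36,178], 1, m3), ([27,213], 1, m3), ([179], 4, m3), ([185], 2, m2), ([7,52],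 1, m3), ([133,183], 1, m3), ([61,208], 1, m3), ([27,187], 1, m3), ([113,211], 1, m3), ([32,186], 1, m3), ([66,182], 1, m3), ([85,187], 4, m3), ([78,210], 2, m2), ([208], 1, m3), ([7,212], 1, m3), ([94,209], 1, m3), ([60,186], 2, m2), ([113,78], 1, m3), ([0,179], 1, m3), ([34,208], 4, m3), ([211], 1, m3), ([161,208], 2, m2), ([189,213], 2, m2), ([178], 1, m3), ([35,209], 4, m3), ([124,209], 2, m2), ([54,209], 2, m2), ([28,108], 2, m2), ([13,130], 1, m3), ([94,208], 1, m3), ([79,183], 2, m2), ([58,182], 2, m2)]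
def R2 : List (Word × ℕ × ℕ) := [([132,78,16], 2, m1), ([0,176], 2, m1)]
def R3 : List (Word × ℕ × ℕ) := [([14,188,7,12,21,19,12,14,13,20,8,23,21,21,8], 2, m0)]
def lowV_w2 : List Word := [[19,12,14,13,20]]
theorem lowV_2 : Low (C.grp lowV_w2) 2 [189] :=
  low_orb hC hlk 189 (by decide) [(189,0)] (m := 2) (grp_mono _ (by decide +kernel))
    (by decide +kernel) (by decide +kernel) (low_nil C) (by decide)
def lowV_w1 : List Word := [[19,12,14,13,20], [8], [23,21,21]]
theorem lowV_1 : Low (C.grp lowV_w1) 360 [105,189] :=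
  low_orb hC hlk 105 (by decide) [(105,2), (105,4), (199,0), (199,4), (378,0), (378,2), (1086,4), (141,0), (141,2), (78,2), (78,4), (430,0), (430,4), (1124,0), (1124,2), (604,2), (604,4), (103,0), (103,4), (529,0), (529,4), (880,0), (880,2), (80,4), (407,0), (485,2), (485,4), (1044,0), (1044,4), (881,0), (881,4), (914,0), (914,2), (206,4), (192,0), (562,4), (509,0), (509,2), (75,2), (605,0), (605,4), (1251,0), (1251,2), (638,2), (638,4), (1134,4), (677,0), (677,2), (111,4), (1320,0), (71,0), (71,2), (1349,2), (134,0), (134,4), (35,0), (35,2), (766,2), (766,4), (1252,2), (1252,4), (313,0), (313,4), (209,0), (209,4), (161,4), (915,0), (989,2), (989,4), (584,0), (584,4), (1250,4), (466,0), (466,2), (1310,0), (1310,2), (721,2), (1383,0), (1383,4), (1130,0), (305,2), (305,4), (387,2), (387,4), (528,0), (528,4), (1392,0), (1392,4), (678,4), (314,0), (599,2), (599,4), (263,0), (986,4), (1274,0), (1274,2), (1004,4), (875,0), (875,2), (976,4), (156,0), (102,4), (31,0), (31,2),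 (198,0), (1316,2), (1316,4), (768,4), (1283,0), (724,2), (1131,4), (412,2), (1019,0), (1019,4), (1329,0), (1329,4), (1336,0), (857,2), (522,4), (882,0), (563,4), (510,0), (727,4), (860,2), (1060,0), (1001,4), (883,4), (902,0), (396,2), (1008,4), (725,2), (139,0), (870,0), (694,2), (694,4), (602,4), (262,0), (1085,4), (713,0), (713,2), (1276,0), (1276,2), (1225,4), (112,0), (416,4), (1043,0), (888,2), (166,4), (1345,4), (212,0), (1253,4), (186,4), (876,0), (876,2), (345,0), (345,2), (832,4), (890,0), (436,4), (791,2), (791,4), (1061,0), (1061,2), (905,0), (873,4), (1106,0), (693,2), (1328,4), (402,2), (1188,2), (154,0), (1065,4), (413,0), (413,2), (1180,4), (879,2), (942,2), (1066,0), (241,4)] (m := 180) (grp_mono _ (by decide +kernel))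
    (by decide +kernel) (by decide +kernel) lowV_2 (by decide)
theorem lowV : Low (C.grp H1) 126000 [54,105,189] :=
  low_clo hC hlk 54 (by decide) [0,2,8,12,16,20,10,0,14,8,16,0] (m := 350) (le_of_subst _ [[9,10,12,11,1], [20], [2,0,0]] (by decide +kernel))
    (by decide +kernel) (by decide +kernel) lowV_1 (by decide)

def cj (w : Word) (k : ℕ) : ℕ := ipt lk (lapp (lapp (winv w) (wpow vw k)) w) 0
def ok (ws : List Word) (r : Word × ℕ × ℕ) : Bool :=
  band (C.inv ws r.2.2) (band (tb r.2.2 (cj [] r.2.1)) (Bool.not (tb r.2.2 (cj r.1 r.2.1))))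
def tv : List Word := [] :: lmap (fun r => winv r.1) (lapp R1 (lapp R2 R3))
theorem hcov : sub (full C.n) (C.clo [vw] [0,0,0,0,0,0,0,0,0,0,0,0,0,0,0,0,0,0,0,0,0] (msk lk 0 tv)) = true := by decide +kernel
theorem hR1 : lall R1 (ok H1) = true := by decide +kernel
theorem hR2 : lall R2 (fun r => band (Nat.beq (cj r.1 1) 54) (ok lowV_w1 r)) = true := by decide +kernel
theorem hR3 : lall R3 (fun r => band (band (Nat.beq (cj r.1 1) 54) (Nat.beq (cj r.1 3) 105)) (ok lowV_w2 r)) = true := by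
  decide +kernel
theorem he : cj [] 1 = 54 ∧ cj [] 3 = 105 ∧ cj [] 2 = 189 := by decide +kernel

theorem hm1 : 350 ≤ Nat.card {i : Fin C.n // ∃ x ∈ C.grp H1, x • pt 54 = i} :=
  (Nat.le_of_ble_eq_true (by decide +kernel : Nat.ble 350 (cnt C.n (C.clo H1 [0,2,8,12,16,20,10,0,14,8,16,0] (bit 54))) = true)).trans
    (cnt_le_orbit hC fun i hi => clo_bit hC H1 [0,2,8,12,16,20,10,0,14,8,16,0] (HNG.pt 54) i hi)
theorem hm2 : 180 ≤ Nat.card {i : Fin C.n // ∃ x ∈ C.grp lowV_w1, x • pt 105 = i} :=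
  (Nat.le_of_ble_eq_true (by decide +kernel : Nat.ble 180 (cnt C.n (C.clo lowV_w1 [2,4,0,2,4,0,2,4,0,2,4,0,4,2,0] (bit 105))) = true)).trans
    (cnt_le_orbit hC fun i hi => clo_bit hC lowV_w1 [2,4,0,2,4,0,2,4,0,2,4,0,4,2,0] (HNG.pt 105) i hi)
theorem sA : C.grp H1 ⊓ MulAction.stabilizer _ (pt 54) = C.grp lowV_w1 :=
  stab_of_card (le_of_subst _ [[9,10,12,11,1], [20], [2,0,0]] (by decide +kernel)) (fix_of_mapsP hlk (by decide +kernel)) hm1
    (H1_card.le.trans (Nat.mul_le_mul_left 350 lowV_1.1))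
theorem cA : Nat.card (C.grp lowV_w1) ≤ 360 := by
  have h := card_eq_orbit_mul (C.grp H1) (pt 54)
  rw [sA, H1_card] at h
  have h2 := Nat.mul_le_mul_right (Nat.card (C.grp lowV_w1)) hm1
  omega
theorem sB : C.grp lowV_w1 ⊓ MulAction.stabilizer _ (pt 105) = C.grp lowV_w2 :=
  stab_of_card (grp_mono _ (by decide +kernel)) (fix_of_mapsP hlk (by decide +kernel)) hm2
    (cA.trans (Nat.mul_le_mul_left 180 lowV_2.1))

def V : Perm (Fin C.n) := C.ev vw
def cp (w : Word) (k : ℕ) : Fin C.n := ((C.ev w)⁻¹ * (V ^ k)⁻¹ * C.ev w) (pt 0)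
theorem cj_eq (w : Word) (k : ℕ) : cj w k = cp w k := by
  refine (ipt_eq hlk _ (pt 0)).trans ?_
  unfold cp V Ctx.ev
  rw [ev_lapp, ev_lapp, ev_winv, ev_wpow]
  simp [mul_assoc]

theorem key {h : Perm (Fin C.n)} (hc : Commute h V) {w : Word} (h0 : h (pt 0) = C.ev w (pt 0)) (k : ℕ) :
    ((C.ev w)⁻¹ * h) (cp [] k) = cp w k := by
  have h1 : h * (V ^ k)⁻¹ = (V ^ k)⁻¹ * h := (hc.pow_right k).inv_right.eq
  have h2 : cp [] k = (V ^ k)⁻¹ (pt 0) := by unfold cp Ctx.ev; simp
  rw [h2, cp, Perm.mul_apply, ← Perm.mul_apply h, h1, Perm.mul_apply, h0]; rfl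

theorem no {h : Perm (Fin C.n)} (hc : Commute h V) {ws : List Word} {r : Word × ℕ × ℕ}
    (h0 : h (pt 0) = C.ev r.1 (pt 0)) (hs : (C.ev r.1)⁻¹ * h ∈ C.grp ws) (hr : ok ws r = true) : False := by
  simp only [ok, band_iff, tb_eq, cj_eq, Bool.not_eq_true'] at hr
  have := Ctx.inv_spec hC hr.1 hs (cp [] r.2.1)
  rw [key hc h0, hr.2.1, hr.2.2] at this
  exact absurd this (by decide)

theorem cent {h : Perm (Fin C.n)} (hh : h ∈ H) (hc : Commute h V) : h ∈ Subgroup.zpowers V := by
  obtain ⟨x, hx, e⟩ := Ctx.clo_spec hC _ _ _ (h (pt 0)) (sub_spec hcov (by simp [testBit_full]))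
  have hx1 : x ∈ Subgroup.zpowers V := ((grp_le_iff _).2 fun w hw => by
    rw [List.mem_singleton.1 hw]; exact Subgroup.mem_zpowers V) hx
  have hx2 : x ∈ H := ((grp_le_iff _).2 fun w _ => mem w) hx
  have hc' : Commute (x * h) V := by
    obtain ⟨j, rfl⟩ := hx1
    exact ((Commute.refl V).zpow_left j).mul_left hc
  have hh' := H.mul_mem hx2 hh
  obtain ⟨u, hu, e2⟩ := msk_spec e
  have st : ∀ w : Word, (x * h) (pt 0) = C.ev w (pt 0) → (C.ev w)⁻¹ * (x * h) ∈ C.grp H1 := fun w h0 =>
    st0 (H.mul_mem (H.inv_mem (mem w)) hh') (by rw [Perm.mul_apply, h0]; simp)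
  have f : ∀ {w : Word} {k p : ℕ} (hp : p < 1408), (x * h) (pt 0) = C.ev w (pt 0) → cj [] k = p → cj w k = p →
      ((C.ev w)⁻¹ * (x * h)) (pt p hp) = pt p hp := fun {w k p} hp h0 a b => by
    have := key hc' h0 k
    rwa [show cp [] k = pt p hp from Fin.ext ((cj_eq _ _).symm.trans a),
      show cp w k = pt p hp from Fin.ext ((cj_eq _ _).symm.trans b)] at this
  rcases List.mem_cons.1 hu with rfl | hu
  · have h0 : (x * h) (pt 0) = C.ev [] (pt 0) := Fin.ext e2.symm
    have h1 := lowV.2 H1_card.le _ (st [] h0) fun i hi => by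
      obtain rfl | rfl | rfl : i = pt 54 ∨ i = pt 105 ∨ i = pt 189 := by
        simp only [Fin.ext_iff, HNG.pt]; simpa using hi
      exacts [f _ h0 he.1 he.1, f _ h0 he.2.1 he.2.1, f _ h0 he.2.2 he.2.2]
    have h2 : x * h = 1 := by simpa [Ctx.ev] using h1
    rw [eq_inv_of_mul_eq_one_right h2]; exact inv_mem hx1
  · exfalso
    rw [lmap_eq] at hu
    obtain ⟨r, hr, rfl⟩ := List.mem_map.1 hu
    have h0 : (x * h) (pt 0) = C.ev r.1 (pt 0) := Fin.ext (by
      have := (ipt_eq hlk (winv r.1) (pt 0)).symm.trans e2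
      unfold Ctx.ev at this ⊢
      rw [ev_winv, inv_inv] at this
      exact this.symm)
    rw [lapp_eq, lapp_eq, List.mem_append, List.mem_append] at hr
    rcases hr with hr | hr | hr
    · exact no hc' h0 (st _ h0) (lall_iff.1 hR1 r hr)
    · obtain ⟨a, b⟩ := band_iff.1 (lall_iff.1 hR2 r hr)
      exact no hc' h0 (sA.le ⟨st _ h0, f _ h0 he.1 (Nat.eq_of_beq_eq_true a)⟩) b
    · obtain ⟨a, b⟩ := band_iff.1 (lall_iff.1 hR3 r hr)
      obtain ⟨a1, a2⟩ := band_iff.1 a
      exact no hc' h0 (sB.le ⟨sA.le ⟨st _ h0, f _ h0 he.1 (Nat.eq_of_beq_eq_true a1)⟩,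
        f _ h0 he.2.1 (Nat.eq_of_beq_eq_true a2)⟩) b

theorem V11 : V ^ 11 = C.ev [0,0] :=
  (ev_wpow _ vw 11).symm.trans (eq_of_eqQ hlk base (mem (wpow vw 11)) (mem _) (by decide +kernel))
theorem c2 : C.ev [0,0,0,0] = 1 := eq_of_eqQ hlk base (mem _) (mem []) (by decide +kernel)
theorem V2 : V ^ 2 ≠ 1 := fun h => by
  have h1 := (cj_eq [] 2).symm.trans he.2.2
  unfold cp at h1
  rw [h] at h1
  simp [HNG.pt] at h1
theorem fix4 (b : Fin C.n) (h1 : C.ev [2] b = b) (h2 : C.ev [1,2,0] b = b) :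
    b = pt 0 ∨ b = pt 1 ∨ b = pt 2 ∨ b = pt 4 := by
  have h := lall_iff.1 (by decide +kernel : lall (List.range 1408) (fun b => Bool.or
    (Bool.not (band (Nat.beq (ipt lk [2] b) b) (Nat.beq (ipt lk [1,2,0] b) b))) (tb 23 b)) = true) b (List.mem_range.2 b.2)
  rw [ipt_eq hlk, ipt_eq hlk, show (C.ev [2])⁻¹ b = b from Perm.inv_eq_iff_eq.2 h1.symm,
    show (C.ev [1,2,0])⁻¹ b = b from Perm.inv_eq_iff_eq.2 h2.symm, Nat.beq_refl, tb_eq] at h
  have h3 : (23 : ℕ).testBit b = true := by simpa [band] using h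
  have h4 : (b : ℕ) < 5 := by
    by_contra h5
    rw [Nat.testBit_lt_two_pow (lt_of_lt_of_le (by decide : 23 < 2 ^ 5) (Nat.pow_le_pow_right (by decide) (by omega)))] at h3
    exact absurd h3 (by decide)
  simp only [Fin.ext_iff, HNG.pt]
  generalize (b : ℕ) = a at h3 h4 ⊢
  interval_cases a <;> revert h3 <;> decide
theorem th : ∀ r ∈ relsH, C.ev (subst [[0], [2], [4,0,0]] r) = 1 := fun r hr =>
  eq_of_eqQ hlk base (mem _) (mem []) (lall_iff.1 (by decide +kernel :
    lall relsH (fun r => eqQ lk B (subst [[0], [2], [4,0,0]] r, [])) = true) r hr)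
theorem s1 : ∀ x ∈ Sg 1, x (pt 0) = pt 0 := fix_of_mapsP hlk (ws := s1H0) (p := pt 0) (by decide +kernel)

end
end CA.HNO
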