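import Cfsg.Agent.Lib.Spor.HNO1
import Cfsg.Agent.Lib.Spor.HNA
import Cfsg.Agent.Lib.Spor.HNB
import Cfsg.Agent.Lib.Spor.CGOut
import Cfsg.Agent.Lib.Lin.AutPhi
import Cfsg.Agent.S2072
import Cfsg.Agent.Lib.Comp.CLink2

/-! The outer automorphism group of the Harada–Norton group. -/

set_option autoImplicit false
set_option maxRecDepth 100000
set_option linter.all false

namespace CA.HNO
open CA.CNet hiding pt
open Equiv CA.CWord CA.CLevel CA.CSimple CA.CPoint CA.CTodd CA.CPres CA.CLow CA.DCos CA.HNM CA.HNT CA.HNG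
open CA.HNRel (rels enc)
open Cfsg.Spor
open scoped commutatorElement

noncomputable section

theorem autK {Q : Type*} [Group Q] [Finite Q] (L : Subgroup Q) [L.Normal] (hp : commutator L = ⊤)
    (hZ : Nat.card (Subgroup.center L) = 2) (hA : 2 * Nat.card (MulAut (L ⧸ Subgroup.center L)) ≤ Nat.card Q)
    (hc : ∀ k : Q, (∀ l ∈ L, k * l = l * k) → k ∈ L) (β : MulAut L) : ∃ k : Q, ∀ l : L, (β l : Q) = k * l * k⁻¹ := by
  have h1 : Function.Injective (AutPhi.quotAut (S := L)) := by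
    refine (injective_iff_map_eq_one _).2 fun γ hγ => ?_
    have h2 : ∀ a : L, ∃ z ∈ Subgroup.center L, γ a = a * z := fun a =>
      ⟨a⁻¹ * γ a, QuotientGroup.eq.1 ((DFunLike.congr_fun hγ (a : L ⧸ Subgroup.center L)).symm.trans
        (AutPhi.quotAut_mk γ a)), by simp⟩
    have h3 : commutator L ≤ γ.toMonoidHom.eqLocus (MonoidHom.id L) := Subgroup.commutator_le.2 fun a _ b _ => by
      obtain ⟨u, hu, e1⟩ := h2 a
      obtain ⟨v, hv, e2⟩ := h2 b
      show γ ⁅a, b⁆ = ⁅a, b⁆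
      have hu' := Subgroup.mem_center_iff.1 hu
      have hv' := Subgroup.mem_center_iff.1 hv
      rw [commutatorElement_def, map_mul, map_mul, map_mul, map_inv, map_inv, e1, e2]
      calc _ = a * (u * (b * v) * u⁻¹) * a⁻¹ * (b * v)⁻¹ := by group
        _ = a * b * (v * a⁻¹ * v⁻¹) * b⁻¹ := by rw [← hu' (b * v)]; group
        _ = _ := by rw [← hv' a⁻¹]; group
    exact MulEquiv.ext fun a => h3 (hp.ge (Subgroup.mem_top a))
  have h2 := Nat.card_le_card_of_injective _ h1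
  let f : Q →* MulAut L := MulAut.conjNormal
  have h3 : Nat.card f.ker ≤ 2 := by
    have h4 : ∀ k : f.ker, ∀ l ∈ L, k.1 * l = l * k.1 := fun k l hl => by
      have := congrArg Subtype.val (DFunLike.congr_fun (show f k.1 = 1 from k.2) ⟨l, hl⟩)
      exact mul_inv_eq_iff_eq_mul.1 this
    rw [← hZ]
    exact Nat.card_le_card_of_injective (fun k : f.ker => (⟨⟨k.1, hc _ (h4 k)⟩,
      Subgroup.mem_center_iff.2 fun l => Subtype.ext (h4 k l.1 l.2).symm⟩ : Subgroup.center L))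
      fun a b e => Subtype.ext (congrArg (fun x : Subgroup.center L => x.1.1) e)
  have h4 := f.ker.card_mul_index
  rw [Subgroup.index_ker] at h4
  have h5 := Nat.mul_le_mul_right (Nat.card f.range) h3
  have h6 : f.range = ⊤ := Subgroup.eq_top_of_le_card _ (by omega)
  obtain ⟨k, rfl⟩ := h6.ge (Subgroup.mem_top β)
  exact ⟨k, fun l => rfl⟩

def c : HN := g 0 * g 0
theorem gK (i : ℕ) (h : [2 * i] ∈ gens := by decide) : g i ∈ K := ev_gen g i ▸ mem_grp g h
theorem c_eq : ev g [0,0] = c := by simp [lv, c]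
theorem t5 : g 3 ^ 5 = 1 := by rw [← trel.2.1]; simp [pow_succ]
theorem xt : g 0 * g 3 * (g 0)⁻¹ = g 3 ^ 2 := by
  obtain ⟨a1, a2, -⟩ := trel
  have b : (g 0)⁻¹ * (g 3 * g 3) * g 0 = g 3 := by
    calc _ = ((g 0)⁻¹ * g 3 * g 0) * ((g 0)⁻¹ * g 3 * g 0) := by group
      _ = _ := by rw [a1, ← mul_inv_rev, inv_eq_iff_mul_eq_one, ← a2]; group
  calc _ = g 0 * ((g 0)⁻¹ * (g 3 * g 3) * g 0) * (g 0)⁻¹ := by rw [b]
    _ = _ := by simp [mul_assoc, sq]
theorem ct : c * g 3 * c⁻¹ = (g 3)⁻¹ := by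
  calc _ = g 0 * (g 0 * g 3 * (g 0)⁻¹) * (g 0)⁻¹ := by unfold c; group
    _ = (g 0 * g 3 * (g 0)⁻¹) ^ 2 := by rw [conj_pow, xt]
    _ = _ := by rw [xt, eq_inv_iff_mul_eq_one, ← t5]; group
theorem ext4 {P : Type*} [Group P] {α β : HN →* P} (h : ∀ i < 4, α (g i) = β (g i)) : α = β :=
  MonoidHom.eq_of_eqOn_dense top fun x ⟨w, hw, e⟩ => by
    obtain ⟨i, hi, rfl⟩ := (by decide : ∀ w ∈ HNRel.gens, ∃ i < 4, w = [2 * i]) w hw
    rw [← e, ev_gen]; exact h i hi

section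
variable {D : Dat} (M : Mod D)

theorem φ_ev (D : Dat) (w : Word) (hw : ∀ a ∈ w, a < 2 * 3 := by decide) : D.φ ⟨_, mem w⟩ = ev g w :=
  (ev_H D.φ D.hφ hw).symm

theorem cc (D : Dat) : c * c = 1 := by
  have := φ_ev D [0,0,0,0]
  rw [show (⟨_, mem [0,0,0,0]⟩ : H) = 1 from Subtype.ext c2, map_one] at this
  rw [this]; simp [lv, mul_assoc, c]

include M

theorem cK : Subgroup.centralizer {c} = K := by
  refine (M.max _ ?_).resolve_right fun h => ?_
  · rw [K, grp_le_iff]; intro w hw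
    rw [Subgroup.mem_centralizer_singleton_iff, ← c_eq, ← ev_append, ← ev_append]
    have hw' := (by decide : ∀ w ∈ gens, (∀ a ∈ w ++ [0,0], a < 2 * 3) ∧ ∀ a ∈ [0,0] ++ w, a < 2 * 3) w hw
    rw [← φ_ev D _ hw'.1, ← φ_ev D _ hw'.2]
    congr 1
    exact Subtype.ext (eq_of_eqQ hlk base (mem _) (mem _)
      ((by decide +kernel : ∀ w ∈ gens, eqQ lk B (w ++ [0,0], [0,0] ++ w) = true) w hw))
  · have h1 := Subgroup.mem_centralizer_singleton_iff.1 (h.ge (Subgroup.mem_top (g 3)))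
    have h2 := ct
    rw [← h1, mul_inv_cancel_right] at h2
    have h3 : g 3 = 1 := by
      calc _ = g 3 ^ 5 * ((g 3 * g 3)⁻¹) ^ 2 := by group
        _ = _ := by rw [t5, mul_eq_one_iff_eq_inv.2 h2]; simp
    exact M.t_not (h3 ▸ one_mem _)

theorem memK {a : HN} : a ∈ K ↔ a * c = c * a := by
  rw [← cK M, Subgroup.mem_centralizer_singleton_iff]

theorem fixK {a : HN} : a ∈ K ↔ M.ψ a (pM H 8 Sg 0) = pM H 8 Sg 0 := by rw [M.stab.1]; rfl

theorem c_ne : c ≠ 1 := fun h => M.t_not ((memK M).2 (by rw [h]; simp))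

/-- the points fixed by a subgroup of `H` normalised by `a` -/
theorem fixed {a : HN} {A : Subgroup H} (hA : ∀ s ∈ A, a⁻¹ * D.φ s * a ∈ K) :
    ∃ i < 9, ∃ k : H, M.ψ a (pM H 8 Sg 0) = k • pM H 8 Sg i ∧ (∀ s ∈ A, (k⁻¹ * (s * k)).1 ∈ Sg i) ∧
      Nat.card A ∣ nth NS 0 i := by
  obtain ⟨i, hi, k, e⟩ := pM_surj (M.ψ a (pM H 8 Sg 0))
  have h1 : ∀ s ∈ A, (k⁻¹ * (s * k)).1 ∈ Sg i := fun s hs => by
    refine ((pM_eq hi hi).1 ?_).2
    rw [mul_smul, ← e, ← M.hρ, ← Perm.mul_apply, ← map_mul,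
      show D.φ s * a = a * (a⁻¹ * D.φ s * a) by group, map_mul, Perm.mul_apply, (fixK M).1 (hA s hs)]
  refine ⟨i, hi, k, e, h1, ?_⟩
  rw [← cardS i hi]
  exact Subgroup.card_dvd_of_injective ((H.subtype.comp ((MulAut.conj k⁻¹).toMonoidHom.comp A.subtype)).codRestrict (Sg i)
    fun s => by simpa [mul_assoc] using h1 s.1 s.2) fun s s' e => by
      have e1 : H.subtype (MulAut.conj k⁻¹ s.1) = H.subtype (MulAut.conj k⁻¹ s'.1) := congrArg (fun x : Sg i => x.1) e
      exact Subtype.ext ((MulAut.conj k⁻¹).injective (H.subtype_injective e1))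

def v : H := ⟨V, mem vw⟩
omit M in
theorem v11 (D : Dat) : D.φ v ^ 11 = c := by
  rw [← map_pow, show v ^ 11 = ⟨_, mem [0,0]⟩ from Subtype.ext V11, φ_ev D [0,0], c_eq]
omit M in
theorem u11 (D : Dat) : (D.φ v ^ 2) ^ 11 = 1 := by rw [← pow_mul, mul_comm, pow_mul, v11, sq, cc D]

theorem cenV {d : HN} (h5 : d ∈ K) (h1 : Commute d (D.φ v ^ 2)) : ∃ j : ℤ, d ^ 11 = c ^ j := by
  obtain ⟨h, rfl⟩ := D.surj _ h5
  have h6 : Commute (D.φ h) (D.φ v) := by
    have : D.φ v = D.φ v ^ 11 * (D.φ v ^ 2) ^ 6 := by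
      calc _ = D.φ v * (D.φ v ^ 2) ^ 11 := by rw [u11, mul_one]
        _ = _ := by group
    rw [this, v11]
    exact Commute.mul_right ((memK M).1 h5) (h1.pow_right 6)
  obtain ⟨j, hj⟩ := cent h.2 (congrArg Subtype.val (M.inj (show D.φ (h * v) = D.φ (v * h) by
    rw [map_mul, map_mul, h6.eq])))
  have h8 : h = v ^ j := Subtype.ext hj.symm
  exact ⟨j, by rw [h8, map_zpow, ← v11 D]; group⟩

theorem stepA (α : MulAut HN) : ∃ a, a * α c * a⁻¹ = c := by
  have : Finite HN := Nat.finite_of_card_ne_zero (by rw [M.cardG]; decide)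
  haveI : Fact (Nat.Prime 11) := ⟨by decide⟩
  have v11 := v11 D
  have u11 := u11 D
  have ou : orderOf (D.φ v ^ 2) = 11 := orderOf_eq_prime u11 fun h => V2 (congrArg Subtype.val
    (M.inj (show D.φ (v ^ 2) = D.φ 1 by rw [map_pow, h, map_one])))
  obtain ⟨k, -, hk⟩ := CGOut.conj_zpowers (K := ⊤) (z := α⁻¹ (D.φ v ^ 2)) (by decide) ou trivial
    (by rw [Subgroup.card_top, M.cardG]; decide) trivial (by rw [← map_pow, u11, map_one])
  refine ⟨(α k)⁻¹, ?_⟩
  have h1 : Commute ((α k)⁻¹ * α c * (α k)⁻¹⁻¹) (D.φ v ^ 2) := by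
    have h2 : Commute c (k * α⁻¹ (D.φ v ^ 2) * k⁻¹) := by
      obtain ⟨j, hj⟩ := hk
      rw [← hj, ← v11]
      exact ((Commute.refl _).pow_pow 11 2).zpow_right j
    have h3 := (h2.map α).eq
    simp only [map_mul, map_inv, MulAut.apply_inv_self] at h3
    show _ = _
    calc _ = (α k)⁻¹ * (α c * (α k * D.φ v ^ 2 * (α k)⁻¹)) * α k := by group
      _ = _ := by rw [h3]; group
  have h2 : ((α k)⁻¹ * α c * (α k)⁻¹⁻¹) ^ 2 = 1 := by
    rw [conj_pow, ← map_pow, sq, cc D]; simp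
  have h3 : (α k)⁻¹ * α c * (α k)⁻¹⁻¹ ≠ 1 := fun h => c_ne M (by simpa using conj_eq_one_iff.1 h)
  generalize (α k)⁻¹ * α c * (α k)⁻¹⁻¹ = d at h1 h2 h3
  obtain ⟨i, hi, r, e, -, h4⟩ := fixed M (a := d) (A := Subgroup.zpowers (v ^ 2)) fun s ⟨j, hj⟩ => by
    rw [← hj, map_zpow, map_pow, mul_assoc, ← (h1.zpow_right j).eq, inv_mul_cancel_left, ← map_pow, ← map_zpow]
    exact D.memK _
  rw [Nat.card_zpowers, ← orderOf_injective D.φ M.inj, map_pow, ou] at h4
  obtain rfl := (by decide +kernel : ∀ i < 9, 11 ∣ nth NS 0 i → i = 0) i hi h4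
  have h5 := (fixK M).2 (e.trans (Mod.fix0 r))
  obtain ⟨j, hj⟩ := cenV M h5 h1
  have h7 : d = c ^ j := by
    calc _ = d ^ 11 * ((d ^ 2) ^ 5)⁻¹ := by group
      _ = _ := by rw [h2, hj]; simp
  rw [h7] at h3 ⊢
  rcases Int.even_or_odd' j with ⟨m, rfl | rfl⟩
  · exact absurd (by rw [zpow_mul, zpow_ofNat, sq, cc D, one_zpow]) h3
  · rw [zpow_add, zpow_mul, zpow_ofNat, sq, cc D, one_zpow, one_mul, zpow_one]

theorem hcen {k : HN} (hk : k ∈ K) (h1 : k * g 1 = g 1 * k) (h2 : k * ev g [1,2,0] = ev g [1,2,0] * k)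
    {L : Subgroup HN} (hx : g 0 ∈ L) (hy : g 1 ∈ L) : k ∈ L := by
  obtain ⟨h, rfl⟩ := D.surj k hk
  have f : ∀ w : Word, (∀ a ∈ w, a < 2 * 3) → C.ev w (pt 0) = pt 0 → D.φ h * ev g w = ev g w * D.φ h →
      C.ev w (h.1 (pt 0)) = h.1 (pt 0) := fun w hw a b => by
    rw [← φ_ev D w hw, ← map_mul, ← map_mul] at b
    have := DFunLike.congr_fun (congrArg Subtype.val (M.inj b)) (pt 0)
    simpa [a] using this.symm
  have e : ∀ w : Word, (∀ a ∈ w, a < 2 * 2) → ev g w ∈ L := fun w hw => by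
    rw [ev_congr (g' := fun i => if i < 2 then g i else 1) (fun i hi => (if_pos hi).symm) hw]
    refine ev_mem (fun i => ?_) w
    split_ifs with hi
    · interval_cases i; exacts [hx, hy]
    · exact one_mem _
  have e2 : ∀ w : Word, (∀ a ∈ w, a < 2 * 2) → h.1 (pt 0) = C.ev w (pt 0) → D.φ h ∈ L := fun w hw a => by
    have hw' : ∀ a ∈ w, a < 2 * 3 := fun a ha => (hw a ha).trans (by decide)
    have h3 := H1_le (st0 (H.mul_mem (H.inv_mem (mem w)) h.2) (by rw [Perm.mul_apply, a]; simp))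
    obtain ⟨s, hs, e3⟩ := (show C.grp [[2], [1,2,0]] ≤ (L.comap D.φ).map H.subtype from (grp_le_iff _).2 fun u hu => by
      have hu' := (by decide : ∀ u ∈ [[2], [1,2,0]], (∀ a ∈ u, a < 2 * 3) ∧ ∀ a ∈ u, a < 2 * 2) u hu
      exact ⟨⟨_, mem u⟩, show D.φ _ ∈ L from (φ_ev D u hu'.1).symm ▸ e u hu'.2, rfl⟩) h3
    have e4 : h = ⟨_, mem w⟩ * s := Subtype.ext (by
      show h.1 = C.ev w * H.subtype s
      rw [e3]; simp)
    rw [e4, map_mul, φ_ev D w hw']
    exact mul_mem (e w hw) hs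
  rcases fix4 _ (f [2] (by decide) (mp [2] 0) (by rw [show ev g [2] = g 1 from ev_gen g 1]; exact h1))
    (f [1,2,0] (by decide) (mp [1,2,0] 0) h2) with a | a | a | a
  exacts [e2 [] (by decide) a, e2 [0] (by decide) (a.trans (mp [0] 1).symm), e2 [1] (by decide) (a.trans (mp [1] 2).symm),
    e2 [0,0] (by decide) (a.trans (mp [0,0] 4).symm)]

theorem stepB {α : MulAut HN} (hα : α c = c) :
    ∃ k, k * α c * k⁻¹ = c ∧ k * α (g 0) * k⁻¹ = g 0 ∧ k * α (g 1) * k⁻¹ = g 1 ∧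
      (k * α (g 2) * k⁻¹ = g 2 ∨ k * α (g 2) * k⁻¹ = g 2 * c) := by
  have : Finite HN := Nat.finite_of_card_ne_zero (by rw [M.cardG]; decide)
  obtain ⟨L, hn, hi, hZ, ⟨e⟩, -⟩ := cover_of HNB.bound
  have hL : Nat.card L = 88704000 := by
    have := L.index_mul_card; rw [hi, M.cardK] at this; omega
  have hQ : Nat.card (L ⧸ Subgroup.center L) = 44352000 := by
    have := Subgroup.card_eq_card_quotient_mul_card_subgroup (Subgroup.center L); rw [hL, hZ] at this; omega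
  have hr : ∀ r ∈ HNC.relsH, ev (CTrans.sg g [[0], [2], [4]]) r = 1 := fun r h => Subtype.ext (by
    rw [CTrans.ev_sg, show subst [[0], [2], [4]] r = r from
      (by decide +kernel : ∀ r ∈ HNC.relsH, subst [[0], [2], [4]] r = r) r h]
    exact rel r (List.mem_of_mem_take (i := 10) h))
  let e' := e.trans (Leech.eMap Leech.HS_eq).symm
  have hp : commutator L = ⊤ := HNC.perfect hi (e'.toMonoidHom.comp (QuotientGroup.mk' _))
    (e'.surjective.comp (QuotientGroup.mk'_surjective _)) (by rw [← Nat.card_congr e'.toEquiv, hL, hQ])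
    HNC.perfect_HS (CTrans.grp_sg g _ (by decide)) hr
  have hLe : commutator K = L := le_antisymm (Subgroup.commutator_le.2 fun a _ b _ => by
      simp only [commutatorElement_def, Subgroup.mul_mem_iff_of_index_two hi, inv_mem_iff]; tauto) (by
    rw [← L.range_subtype, MonoidHom.range_eq_map, ← hp, commutator_def, Subgroup.map_commutator]
    exact Subgroup.commutator_mono le_top le_top)
  subst hLe
  have hab := HNC.ab (Q := Abelianization K) (fun i => Abelianization.of (CTrans.sg g [[0], [2], [4]] i))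
    fun r h => (map_ev (Abelianization.of (G := K)) (CTrans.sg g [[0], [2], [4]]) r).symm.trans
      ((congrArg (Abelianization.of (G := K)) (hr r h)).trans (map_one _))
  have hx : (⟨g 0, gK 0⟩ : K) ∈ commutator K := by
    rw [← Abelianization.ker_of, show (⟨g 0, gK 0⟩ : K) = CTrans.sg g [[0], [2], [4]] 0 from Subtype.ext (ev_gen g 0).symm]
    exact hab.1
  have hy : (⟨g 1, gK 1⟩ : K) ∈ commutator K := by
    rw [← Abelianization.ker_of, show (⟨g 1, gK 1⟩ : K) = CTrans.sg g [[0], [2], [4]] 1 from Subtype.ext (ev_gen g 1).symm]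
    exact hab.2.1
  have hc : ∀ k : K, (∀ l ∈ commutator K, k * l = l * k) → k ∈ commutator K := fun k hk => by
    obtain ⟨k', h1, h2⟩ := hcen M k.2 (L := (commutator K).map K.subtype) (congrArg Subtype.val (hk _ hy))
      (by simpa [lv, mul_assoc] using congrArg Subtype.val (hk _ (mul_mem (inv_mem hx) (mul_mem hy hx))))
      ⟨_, hx, rfl⟩ ⟨_, hy, rfl⟩
    exact (Subtype.ext h2 : k' = k) ▸ h1
  have hA : Nat.card (MulAut (commutator K ⧸ Subgroup.center (commutator K))) ≤ 2 * 44352000 := by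
    rw [Nat.card_congr (MulAut.congr e).toEquiv, Subgroup.card_eq_card_quotient_mul_card_subgroup (Cfsg.Inn HS),
      Cfsg.Agent.S2072.result, ← hQ, Nat.card_congr e.toEquiv]
    have : Finite HS := Finite.of_equiv _ e.toEquiv
    exact Nat.mul_le_mul_left _ (Nat.card_le_card_of_surjective _ (MonoidHom.rangeRestrict_surjective _))
  have hK : K.map α.toMonoidHom = K := Subgroup.eq_of_le_of_card_ge (by
    rintro _ ⟨k, hk, rfl⟩
    rw [memK M, ← hα]
    exact (map_mul α _ _).symm.trans ((congrArg α ((memK M).1 hk)).trans (map_mul α _ _)))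
    (Nat.card_congr (K.equivMapOfInjective _ α.injective).toEquiv).le
  let β : MulAut K := (α.subgroupMap K).trans (MulEquiv.subgroupCongr hK)
  have hβ : ∀ k : K, (β k : HN) = α k := fun _ => rfl
  obtain ⟨k, hk⟩ := autK (commutator K) hp hZ (by rw [M.cardK]; omega) hc (MulAut.characteristic _ β)
  have hk' : ∀ l ∈ commutator K, β l = k * l * k⁻¹ := fun l hl => hk ⟨l, hl⟩
  have v : ∀ l ∈ commutator K, (k : HN)⁻¹ * α l * (k : HN)⁻¹⁻¹ = l := fun l hl => by
    rw [← hβ, hk' l hl]; simp [mul_assoc]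
  refine ⟨k⁻¹, v _ (mul_mem hx hx), v _ hx, v _ hy, ?_⟩
  let z : K := ⟨g 2, gK 2⟩
  have w : ∀ l ∈ commutator K, z⁻¹ * (k⁻¹ * β z * k) * l = l * (z⁻¹ * (k⁻¹ * β z * k)) := fun l hl => by
    have a := hk' _ (Subgroup.Normal.conj_mem inferInstance l hl z)
    rw [map_mul, map_mul, map_inv, hk' l hl] at a
    calc _ = z⁻¹ * k⁻¹ * (β z * (k * l * k⁻¹) * (β z)⁻¹) * β z * k := by group
      _ = _ := by rw [a]; group
  have c1 : (⟨_, mul_mem hx hx⟩ : commutator K) ∈ Subgroup.center (commutator K) :=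
    Subgroup.mem_center_iff.2 fun l => Subtype.ext (Subtype.ext ((memK M).1 l.1.2))
  obtain ⟨u, -, hu⟩ := (Nat.card_eq_two_iff' (1 : Subgroup.center (commutator K))).1 hZ
  have w1 : (⟨_, hc _ w⟩ : commutator K) ∈ Subgroup.center (commutator K) :=
    Subgroup.mem_center_iff.2 fun l => Subtype.ext (w l.1 l.2).symm
  by_cases h : (⟨_, w1⟩ : Subgroup.center (commutator K)) = 1
  · have a : (g 2)⁻¹ * ((k : HN)⁻¹ * α (g 2) * k) = 1 := congrArg (fun x : Subgroup.center (commutator K) => x.1.1.1) h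
    exact .inl (by rw [inv_inv]; exact (inv_mul_eq_one.1 a).symm)
  · have a : (g 2)⁻¹ * ((k : HN)⁻¹ * α (g 2) * k) = c :=
      congrArg (fun x : Subgroup.center (commutator K) => x.1.1.1) ((hu _ h).trans (hu ⟨_, c1⟩ fun e =>
        c_ne M (congrArg (fun x : Subgroup.center (commutator K) => x.1.1.1) e)).symm)
    exact .inr (by rw [inv_inv, ← a]; simp)

theorem stepC {α : MulAut HN} (h0 : α (g 0) = g 0) (h1 : α (g 1) = g 1) (h2 : α (g 2) = g 2) :
    α ∈ Cfsg.Inn HN := by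
  obtain ⟨a1, a2, a3, a4, a5⟩ := trel
  have hα : α c = c := by rw [c, map_mul, h0]
  have ty : Commute (g 1) (g 3) := a3
  have tyx : Commute (ev g [1,2,0]) (g 3) := by
    have b := (ty.pow_right 2).eq
    rw [← xt] at b
    show _ = _
    simp only [ev_cons, ev_nil, lv]; norm_num
    calc _ = (g 0)⁻¹ * (g 1 * (g 0 * g 3 * (g 0)⁻¹)) * g 0 := by group
      _ = _ := by rw [b]; group
  have fx : ∀ w : Word, (∀ a ∈ w, a < 2 * 2) → α (ev g w) = ev g w := fun w hw =>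
    (map_ev α.toMonoidHom g w).trans (ev_congr (fun i hi => by interval_cases i; exacts [h0, h1]) hw)
  have cm : ∀ w ∈ [[2], [1,2,0]], (∀ a ∈ w, a < 2 * 3) ∧ Commute (ev g w) (α (g 3)) := by
    simp only [List.forall_mem_cons]
    refine ⟨⟨by decide, ?_⟩, ⟨by decide, ?_⟩, by simp⟩
    · rw [← fx [2] (by decide), show ev g [2] = g 1 from ev_gen g 1]; exact ty.map α
    · rw [← fx [1,2,0] (by decide)]; exact tyx.map α
  have hA : ∀ s ∈ (C.grp [[2], [1,2,0]]).subgroupOf H, Commute (D.φ s) (α (g 3)) := fun s hs => by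
    obtain ⟨s', h3, h4⟩ := (show C.grp [[2], [1,2,0]] ≤ ((Subgroup.centralizer {α (g 3)}).comap D.φ).map H.subtype from
      (grp_le_iff _).2 fun u hu => ⟨⟨_, mem u⟩, show D.φ _ ∈ _ from (φ_ev D u (cm u hu).1).symm ▸
        Subgroup.mem_centralizer_singleton_iff.2 (cm u hu).2.eq, rfl⟩) hs
    exact Subgroup.mem_centralizer_singleton_iff.1 ((Subtype.ext h4 : s' = s) ▸ h3)
  obtain ⟨i, hi, r, e, h3, h4⟩ := fixed M (a := α (g 3)) (A := (C.grp [[2], [1,2,0]]).subgroupOf H) fun s hs => by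
    rw [mul_assoc, (hA s hs).eq, inv_mul_cancel_left]; exact D.memK _
  have h5 : 126000 ≤ nth NS 0 i := by
    refine le_trans ?_ (Nat.le_of_dvd ((by decide +kernel : ∀ i < 9, 0 < nth NS 0 i) i hi) h4)
    rw [Nat.card_congr (Subgroup.subgroupOfEquivOfLe ((grp_le_iff _).2 fun w _ => mem w)).toEquiv, ← H1_card]
    exact Subgroup.card_le_of_le H1_le
  have h6 : ∃ τ ∈ Subgroup.zpowers (g 3), τ⁻¹ * α (g 3) ∈ K := by
    rcases (by decide +kernel : ∀ i < 9, 126000 ≤ nth NS 0 i → i = 0 ∨ i = 1) i hi h5 with rfl | rfl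
    · exact ⟨1, one_mem _, by simpa using (fixK M).2 (e.trans (Mod.fix0 r))⟩
    · have p1 : M.ψ (g 3) (pM H 8 Sg 0) = pM H 8 Sg 1 := by
        have h2 : M.S.μ (pt 0) (M.S.p 0) = M.S.ρ 1 (M.S.p 1) := M.holds 16 (by decide)
        rwa [M.hμ, D.tw [] 0, ev_nil, inv_one, one_mul, mul_one, M.hp, M.hS, one_smul] at h2
      have f : ∀ u ∈ [[2], [1,2,0]], C.ev u (r.1 (pt 0)) = r.1 (pt 0) := fun u hu => by
        have := s1 _ (h3 ⟨_, mem u⟩ (mem_grp C.g hu))
        exact Perm.inv_eq_iff_eq.1 this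
      refine ⟨D.τ (r.1 (pt 0)), ?_, ?_⟩
      · have t0 := D.tw [] 0
        have t1 := D.tw [0] 1
        have t2 := D.tw [1] 2
        have t4 := D.tw [0,0] 4
        rw [c_eq, ct] at t4
        simp only [ev_cons, ev_nil, lv] at t0 t1 t2; norm_num at t0 t1 t2
        rw [xt] at t1
        rw [a1] at t2
        have m := Subgroup.mem_zpowers (g 3)
        rcases fix4 _ (f _ (by simp)) (f _ (by simp)) with a | a | a | a <;> rw [a]
        exacts [t0 ▸ m, t1 ▸ pow_mem m 2, t2 ▸ inv_mem (mul_mem m m), t4 ▸ inv_mem m]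
      · rw [fixK M, map_mul, Perm.mul_apply, e, map_inv, Perm.inv_eq_iff_eq, D.hτ, map_mul, map_mul, Perm.mul_apply,
          Perm.mul_apply, (fixK M).1 (inv_mem (D.memK r)), p1, M.hρ]
  obtain ⟨τ, hτ, h7⟩ := h6
  have i1 : c * α (g 3) * c⁻¹ = (α (g 3))⁻¹ := by rw [← map_inv, ← ct, map_mul, map_mul, map_inv, hα]
  have i2 : c * τ * c⁻¹ = τ⁻¹ ∧ τ ^ 5 = 1 := by
    obtain ⟨j, rfl⟩ := hτ
    refine ⟨by rw [← conj_zpow, ct, inv_zpow], ?_⟩
    rw [← zpow_natCast, ← zpow_mul, mul_comm, zpow_mul, zpow_natCast, t5, one_zpow]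
  have i3 : α (g 3) ^ 5 = 1 := by rw [← map_pow, t5, map_one]
  have i4 : α (g 3) = τ := by
    have b := (memK M).1 h7
    have b1 : α (g 3) ^ 2 = τ ^ 2 := by
      calc _ = α (g 3) * (c * α (g 3) * c⁻¹)⁻¹ := by rw [i1, inv_inv, sq]
        _ = τ * (τ⁻¹ * α (g 3) * c) * (α (g 3))⁻¹ * c⁻¹ := by group
        _ = τ * (c * τ * c⁻¹)⁻¹ := by rw [b]; group
        _ = _ := by rw [i2.1, inv_inv, sq]
    calc _ = (α (g 3) ^ 2) ^ 3 * (α (g 3) ^ 5)⁻¹ := by group
      _ = τ * τ ^ 5 := by rw [b1, i3]; group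
      _ = _ := by rw [i2.2, mul_one]
  have t1 : g 3 ≠ 1 := fun h => M.t_not (h ▸ one_mem _)
  have a6 : (g 2 * g 3) ^ 3 = 1 := by rw [← a5]; simp [pow_succ, mul_assoc]
  have cz : c * g 2 * c⁻¹ = g 2 := by rw [← (memK M).1 (gK 2), mul_inv_cancel_right]
  have no2 : (g 2 * g 3 ^ 2) ^ 3 ≠ 1 := fun h => by
    have z1 : (g 2)⁻¹ = g 2 := inv_eq_of_mul_eq_one_left a4
    have b1 : g 2 * g 3 ^ 2 = ((g 3)⁻¹ * g 2) * (g 3)⁻¹ * ((g 3)⁻¹ * g 2)⁻¹ := by
      calc _ = (g 3)⁻¹ * (g 2)⁻¹ * (g 3)⁻¹ * (g 2)⁻¹ * (g 2 * g 3 * g 2 * g 3 * g 2 * g 3) * g 3 := by rw [sq]; group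
        _ = _ := by rw [a5, mul_inv_rev, inv_inv, z1]; group
    rw [b1, conj_pow, conj_eq_one_iff, inv_pow, inv_eq_one] at h
    apply t1
    calc _ = (g 3 ^ 3) ^ 2 * (g 3 ^ 5)⁻¹ := by group
      _ = _ := by rw [h, t5]; simp
  have a7 : (g 2 * τ) ^ 3 = 1 := by rw [← i4, ← h2, ← map_mul, ← map_pow, a6, map_one]
  have hf : IsOfFinOrder (g 3) := isOfFinOrder_iff_pow_eq_one.2 ⟨5, by decide, t5⟩
  obtain ⟨j, rfl⟩ := hf.mem_powers_iff_mem_zpowers.2 hτ
  simp only [← pow_mod_orderOf (g 3) j] at i4 a7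
  haveI : Fact (Nat.Prime 5) := ⟨by decide⟩
  rw [orderOf_eq_prime t5 t1] at i4 a7
  have hj := Nat.mod_lt j (by decide : 0 < 5)
  generalize j % 5 = m at hj i4 a7
  interval_cases m
  · exact absurd (by simpa using i4) t1
  · refine ⟨1, MulEquiv.toMonoidHom_injective (ext4 fun i hi => ?_)⟩
    interval_cases i <;> simp [h0, h1, h2, i4]
  · exact absurd a7 no2
  · refine absurd ?_ no2
    have : g 2 * g 3 ^ 2 = c * (g 2 * g 3 ^ 3) * c⁻¹ := by
      calc _ = g 2 * (g 3)⁻¹ ^ 3 * g 3 ^ 5 := by group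
        _ = (c * g 2 * c⁻¹) * (c * g 3 * c⁻¹) ^ 3 := by rw [t5, cz, ct, mul_one]
        _ = _ := by rw [conj_pow]; group
    rw [this, conj_pow, a7]; simp
  · refine ⟨c, MulEquiv.toMonoidHom_injective (ext4 fun i hi => ?_)⟩
    show c * g i * c⁻¹ = α (g i)
    interval_cases i
    · rw [h0, ← (memK M).1 (gK 0), mul_inv_cancel_right]
    · rw [h1, ← (memK M).1 (gK 1), mul_inv_cancel_right]
    · rw [h2, cz]
    · rw [i4, ct, inv_eq_iff_mul_eq_one, ← pow_succ', t5]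

theorem theta : ∃ θ : MulAut HN, θ (g 0) = g 0 ∧ θ (g 1) = g 1 ∧ θ (g 2) = g 2 * c ∧ θ ∉ Cfsg.Inn HN := by
  obtain ⟨-, -, h1, h2, -⟩ := facts_of HNB.bound
  have : Finite HN := Nat.finite_of_card_ne_zero (by rw [h1]; decide)
  obtain ⟨a1, a2, a3, a4, a5⟩ := trel
  have zx : (g 0)⁻¹ * g 2 * g 0 = g 2 * c := by
    have b := rel [4,0,4,0]
    simp only [ev_cons, ev_nil, lv] at b; norm_num at b
    calc _ = (g 0)⁻¹ * (g 2)⁻¹ * (g 2 * g 2) * g 0 := by group
      _ = (g 2 * g 0)⁻¹ * g 0 := by rw [a4]; group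
      _ = _ := by rw [← eq_inv_of_mul_eq_one_left (show g 2 * g 0 * (g 2 * g 0) = 1 by rw [← b]; group), c]; group
  let g' : ℕ → HN := fun i => ev g (nth [[0], [2], [4,0,0], [1,6,0]] [] i)
  have e0 : g' 0 = g 0 := ev_gen g 0
  have e1 : g' 1 = g 1 := ev_gen g 1
  have e2 : g' 2 = g 2 * c := by show ev g [4,0,0] = _; simp [lv, c]
  have e3 : g' 3 = (g 0)⁻¹ * g 3 * g 0 := by show ev g [1,6,0] = _; simp [lv, mul_assoc]
  have cj : ∀ w : Word, (∀ a ∈ w, a < 2 * 4 ∧ a / 2 ≠ 1) → w ∈ rels → ev g' w = 1 := fun w hw hr => by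
    have : ev g' w = (g 0)⁻¹ * ev g w * g 0 := by
      clear hr
      induction w with
      | nil => simp
      | cons a w ih =>
        rw [ev_cons, ev_cons, ih fun b hb => hw b (by simp [hb])]
        have : lv g' a = (g 0)⁻¹ * lv g a * g 0 := by
          obtain ⟨b1, b2⟩ := hw a (by simp)
          have b3 : g' (a / 2) = (g 0)⁻¹ * g (a / 2) * g 0 := by
            have : a / 2 = 0 ∨ a / 2 = 2 ∨ a / 2 = 3 := by omega
            rcases this with h | h | h <;> rw [h]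
            exacts [by rw [e0]; simp, e2.trans zx.symm, e3]
          unfold lv; rw [b3]; split_ifs <;> group
        rw [this]; group
    rw [this, rel w hr]; simp
  obtain ⟨ψ, hψ⟩ := enc.hom HN g' fun r hr => by
    rcases (by decide +kernel : ∀ r ∈ rels, (r ∈ relsH ∧ (∀ a ∈ subst [[0], [2], [4,0,0]] r, a < 2 * 3) ∧
      subst [[0], [2], [4,0,0], [1,6,0]] r = subst [[0], [2], [4,0,0]] r) ∨
      (∀ a ∈ r, a < 2 * 4 ∧ a / 2 ≠ 1) ∨ r = [7,3,6,2]) r hr with h | h | rfl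
    · rw [← ev_subst, h.2.2, ← φ_ev D _ h.2.1, show (⟨_, mem _⟩ : H) = 1 from Subtype.ext (th r h.1), map_one]
    · exact cj r h hr
    · simp only [ev_cons, ev_nil, lv]; norm_num
      rw [e1, e3, a1]
      have b : Commute (g 1) (g 3 * g 3)⁻¹ := (Commute.mul_right a3 a3).inv_right
      rw [← b.eq]; simp
  have hi := CLink2.inj_of_simple h2 ψ (x := g 0) fun h => c_ne M (by
    rw [hψ 0 (by decide), e0] at h; rw [c, h, one_mul])
  refine ⟨MulEquiv.ofBijective ψ (Finite.injective_iff_bijective.1 hi), (hψ 0 (by decide)).trans e0,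
    (hψ 1 (by decide)).trans e1, (hψ 2 (by decide)).trans e2, fun ⟨a, ha⟩ => ?_⟩
  have b : ∀ i < 4, a * g i * a⁻¹ = g' i := fun i hi => (DFunLike.congr_fun ha (g i)).trans (hψ i hi)
  have b0 := mul_inv_eq_iff_eq_mul.1 ((b 0 (by decide)).trans e0)
  have b1 := mul_inv_eq_iff_eq_mul.1 ((b 1 (by decide)).trans e1)
  have b2 := (b 2 (by decide)).trans e2
  have ak : a ∈ K := (memK M).2 (Commute.mul_right b0 b0)
  have ac : Commute a c := (memK M).1 ak
  have hk : ∀ k ∈ K, a * k * a⁻¹ = k ∨ a * k * a⁻¹ = k * c := fun k hk => by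
    induction hk using Subgroup.closure_induction with
    | mem x hx =>
      obtain ⟨w, hw, rfl⟩ := hx
      simp only [gens, List.mem_cons, List.not_mem_nil, or_false] at hw
      rcases hw with rfl | rfl | rfl
      · exact .inl (by rw [show ev g [0] = g 0 from ev_gen g 0, b0, mul_inv_cancel_right])
      · exact .inl (by rw [show ev g [2] = g 1 from ev_gen g 1, b1, mul_inv_cancel_right])
      · exact .inr (by rw [show ev g [4] = g 2 from ev_gen g 2, b2])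
    | one => simp
    | mul x y hx hy p q =>
      have r := (memK M).1 hy
      rw [← conj_mul]
      rcases p with p | p <;> rcases q with q | q <;> rw [p, q]
      · exact .inl rfl
      · exact .inr (mul_assoc _ _ _).symm
      · exact .inr (by rw [mul_assoc, ← r, mul_assoc])
      · exact .inl (by rw [mul_assoc, ← mul_assoc c, ← r, mul_assoc y, cc D, mul_one])
    | inv x hx p =>
      rw [← conj_inv]
      rcases p with p | p <;> rw [p]
      · exact .inl rfl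
      · exact .inr (by rw [(memK M).1 hx, mul_inv_rev, inv_eq_of_mul_eq_one_left (cc D)])
  have sq' : ∀ k ∈ K, Commute a (k ^ 2) := fun k h => by
    refine mul_inv_eq_iff_eq_mul.1 ?_
    rw [← conj_pow]
    rcases hk k h with p | p <;> rw [p]
    rw [Commute.mul_pow ((memK M).1 h), sq c, cc D, mul_one]
  obtain ⟨j, hj⟩ := cenV M ak (sq' _ (D.memK v))
  have z2 : Commute (a ^ 2) (g 2) := by
    refine mul_inv_eq_iff_eq_mul.1 ?_
    calc _ = a * (a * g 2 * a⁻¹) * a⁻¹ := by rw [sq]; group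
      _ = a * (g 2 * c) * a⁻¹ := by rw [b2]
      _ = a * g 2 * a⁻¹ * (a * c * a⁻¹) := by group
      _ = _ := by rw [b2, ac.eq, mul_inv_cancel_right, mul_assoc, cc D, mul_one]
  have z3 : Commute a (g 2) := by
    have : a = a ^ 11 * ((a ^ 2) ^ 5)⁻¹ := by group
    rw [this, hj]
    exact ((Commute.symm ((memK M).1 (gK 2))).zpow_left j).mul_left (z2.pow_left 5).inv_left
  rw [z3.eq, mul_inv_cancel_right] at b2
  exact c_ne M (left_eq_mul.1 b2)

theorem out : Nat.card (Cfsg.Out HN) = 2 := by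
  obtain ⟨θ, t0, t1, t2, t3⟩ := theta M
  refine Subgroup.index_eq_two_iff.2 ⟨θ, fun α => ?_⟩
  have hin : ∀ a, MulAut.conj a ∈ Cfsg.Inn HN := fun a => ⟨a, rfl⟩
  have key : α * θ ∈ Cfsg.Inn HN ∨ α ∈ Cfsg.Inn HN := by
    obtain ⟨a, ha⟩ := stepA M α
    obtain ⟨k, k1, k2, k3, k4⟩ := stepB M (α := MulAut.conj a * α) ha
    rcases k4 with k4 | k4
    · have := stepC M (α := MulAut.conj k * (MulAut.conj a * α)) k2 k3 k4
      exact .inr (((Cfsg.Inn HN).mul_mem_cancel_left (hin a)).1 (((Cfsg.Inn HN).mul_mem_cancel_left (hin k)).1 this))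
    · have := stepC M (α := MulAut.conj k * (MulAut.conj a * α) * θ)
        (by rw [MulAut.mul_apply, t0]; exact k2) (by rw [MulAut.mul_apply, t1]; exact k3)
        (by rw [MulAut.mul_apply, t2, map_mul, show (MulAut.conj k * (MulAut.conj a * α)) (g 2) = _ from k4,
          show (MulAut.conj k * (MulAut.conj a * α)) c = _ from k1, mul_assoc, cc D, mul_one])
      rw [mul_assoc, mul_assoc] at this
      exact .inl (((Cfsg.Inn HN).mul_mem_cancel_left (hin a)).1 (((Cfsg.Inn HN).mul_mem_cancel_left (hin k)).1 this))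
  by_cases h : α ∈ Cfsg.Inn HN
  · exact .inr ⟨h, fun h' => t3 (((Cfsg.Inn HN).mul_mem_cancel_left h).1 h')⟩
  · exact .inl ⟨key.resolve_right h, h⟩

end
end
end CA.HNO
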