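import Cfsg.Agent.Lib.Comp.DCos2
import Cfsg.Agent.Lib.Spor.HNM
set_option autoImplicit false
set_option maxRecDepth 100000
set_option linter.all false
namespace CA.HNT
open CA.CNet CA.CWord CA.CLevel CA.CSimple CA.CPoint CA.CTodd CA.DCos CA.HNM
noncomputable section
def B : List ℕ := [0,3,140,720]
def F_0 : List Fact := [⟨0, 1408, 0, [21]⟩,
  ⟨0, 1408, 0, [23]⟩,
  ⟨0, 1408, 0, [20]⟩,
  ⟨0, 1408, 0, [22]⟩,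
  ⟨0, 1408, 0, [18]⟩,
  ⟨0, 1408, 0, [12]⟩,
  ⟨0, 1408, 0, [14]⟩,
  ⟨0, 1408, 0, [16]⟩,
  ⟨0, 1408, 0, [7]⟩,
  ⟨0, 1408, 0, [6]⟩,
  ⟨0, 1408, 0, [8]⟩,
  ⟨0, 1408, 0, [10]⟩,
  ⟨0, 1408, 0, [5]⟩,
  ⟨0, 1408, 0, [0]⟩,
  ⟨0, 1408, 0, [2]⟩,
  ⟨0, 1408, 0, [4]⟩,
  ⟨0, 0, 1, []⟩,
  ⟨1, 4, 0, []⟩,
  ⟨1, 1408, 1, [24]⟩,
  ⟨1, 1408, 1, [26]⟩,
  ⟨1, 2, 1, [0,0]⟩,
  ⟨1, 0, 1, [0]⟩,
  ⟨1, 1, 1, [1]⟩,
  ⟨1, 3, 1, [0,0]⟩,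
  ⟨1, 5, 2, []⟩,
  ⟨2, 6, 1, []⟩,
  ⟨2, 1408, 2, [48]⟩,
  ⟨2, 1408, 2, [50]⟩,
  ⟨2, 2, 1, [5,0]⟩,
  ⟨1, 9, 2, [5,0]⟩,
  ⟨2, 0, 1, [5,1]⟩,
  ⟨2, 1408, 2, [52]⟩]
def F_1 : List Fact := [⟨2, 4, 2, [0,0]⟩,
  ⟨1, 6, 3, []⟩,
  ⟨3, 5, 1, []⟩,
  ⟨3, 1408, 3, [72]⟩,
  ⟨3, 1408, 3, [74]⟩,
  ⟨3, 1, 1, [5]⟩,
  ⟨3, 1408, 3, [4]⟩,
  ⟨3, 2, 1, [5,0,0]⟩,
  ⟨3, 1408, 3, [76]⟩,
  ⟨3, 0, 2, [0]⟩,
  ⟨2, 1, 3, [1]⟩,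
  ⟨1, 17, 9, []⟩,
  ⟨9, 54, 1, []⟩,
  ⟨9, 1408, 9, [21,23,15,17,23]⟩,
  ⟨9, 1408, 9, [21,7,8,13,13,23]⟩,
  ⟨9, 29, 1, [1,8,5,23,7,21,12,21,23]⟩,
  ⟨9, 1408, 9, [1,8,5,8,7,21,19,17,21]⟩,
  ⟨9, 3, 2, [5,1,8,5,8]⟩,
  ⟨2, 12, 9, [23,7,5,6,5,21,19,8,18,12,16,21,23]⟩,
  ⟨9, 18, 2, [2,5,6,20,13,21,21]⟩,
  ⟨2, 45, 9, [7,5,20,18,8,21,23,17,18,21]⟩,
  ⟨9, 1408, 2, [2,5,21,17,15,20]⟩,
  ⟨2, 38, 1, [5,18,23,8,19,17,15,21]⟩,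
  ⟨3, 36, 2, [6,5,7,13,20,14,23]⟩,
  ⟨3, 1408, 3, [78]⟩,
  ⟨1, 27, 4, []⟩,
  ⟨4, 33, 1, []⟩,
  ⟨4, 1408, 4, [98]⟩,
  ⟨4, 1408, 4, [100]⟩,
  ⟨4, 1408, 4, [102]⟩,
  ⟨4, 1408, 4, [104]⟩,
  ⟨4, 165, 1, [2,5,7,21,12,12,21,21]⟩]
def F_2 : List Fact := [⟨4, 1408, 4, [106]⟩,
  ⟨4, 0, 2, [23,7,5,0,18,6,21,23,17]⟩,
  ⟨2, 36, 4, [6,5,0,6,23,14,21,23]⟩,
  ⟨4, 6, 2, [23,7,5,0,18,6,12,20,16,21,23]⟩,
  ⟨2, 22, 4, [23,7,5,6,5,21,19,8,21,14,17,21]⟩,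
  ⟨4, 5, 2, [1,8,15,17,21,23]⟩,
  ⟨4, 1408, 4, [108]⟩,
  ⟨4, 2, 2, [0,8,5,23,7,20,17,15,20,20,23]⟩,
  ⟨2, 57, 4, [6,5,1,8,6,23,17]⟩,
  ⟨4, 19, 3, [1,8,5,23,7,18,12,17,21,21,23]⟩,
  ⟨3, 10, 4, [23,5,7,5,0,8,7,21,19,17,20,23]⟩,
  ⟨4, 4, 4, [0,0,15,20,8,21,14,16,14,21,23]⟩,
  ⟨4, 29, 4, [0,0,21,18,8,12,14,13,21]⟩,
  ⟨4, 8, 4, [21,3,5,20,7,21,23,12,15,23]⟩,
  ⟨1, 99, 5, []⟩,
  ⟨5, 252, 1, []⟩,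
  ⟨5, 1408, 5, [124]⟩,
  ⟨5, 1408, 5, [126]⟩,
  ⟨5, 1408, 5, [128]⟩,
  ⟨5, 17, 2, [13,2,20,5,7,5,20,8,7,17,19,17,20,20]⟩,
  ⟨2, 65, 5, [14,5,1,8,5,13,8,19,19,19,20]⟩,
  ⟨5, 12, 4, [5,0,8,5,1,20,8,7,21,13]⟩,
  ⟨4, 23, 5, [23,7,5,2,5,18,23,8,21,12,21,13,21]⟩,
  ⟨5, 7, 4, [8,7,5,0,8,7,15,16,20,20]⟩,
  ⟨4, 11, 5, [0,20,14,8,18,12,18,21,21]⟩,
  ⟨5, 64, 4, [2,5,1,8,5,19,17,8,14,19,21,21,23]⟩,
  ⟨5, 1408, 5, [130]⟩,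
  ⟨5, 22, 5, [5,0,8,5,12,16,8,19,16,21,21]⟩,
  ⟨5, 50, 5, [3,5,3,5,20,14,8,14,17,13,23]⟩,
  ⟨5, 5, 5, [18,6,5,1,7,8,18,12,17,23]⟩,
  ⟨5, 2, 5, [0,0,20,18,8,20,17,18,20,23]⟩,
  ⟨5, 1, 5, [1,19,17,8,21,23,17,18,20,23]⟩]
def F_3 : List Fact := [⟨5, 0, 5, [0,8,23,19,19,21,21]⟩,
  ⟨3, 7, 6, []⟩,
  ⟨6, 22, 3, []⟩,
  ⟨6, 1408, 6, [144]⟩,
  ⟨6, 1408, 6, [146]⟩,
  ⟨6, 1408, 6, [148]⟩,
  ⟨6, 1408, 6, [150]⟩,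
  ⟨6, 0, 2, [0,8,5,8]⟩,
  ⟨2, 10, 6, [0,8,5,8,18,12,14,20,20]⟩,
  ⟨6, 1, 2, [5,0,8,23,17,15,21,23]⟩,
  ⟨2, 7, 6, [1,8,5,13,18,20,20]⟩,
  ⟨6, 19, 2, [7,5,15,20,8,21,14,17,20,23]⟩,
  ⟨2, 44, 6, [14,2,5,7,23,19,16]⟩,
  ⟨6, 47, 2, [23,7,5,15,20,8,14,19,21,21,23]⟩,
  ⟨6, 1408, 6, [152]⟩,
  ⟨6, 4, 4, [5,0,0,23,19,16,20,23]⟩,
  ⟨4, 3, 6, [5,20,19,8,20,20,18,21,21,23]⟩,
  ⟨6, 10, 4, [18,6,18,12,16,20,20,23]⟩,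
  ⟨4, 18, 6, [23,7,18,20,18,21,21]⟩,
  ⟨6, 57, 4, [18,23,5,2,5,20,8,6,21,12,20,13,20,20]⟩,
  ⟨4, 13, 6, [8,2,5,8,5,18,20,19,20,23]⟩,
  ⟨6, 7, 4, [0,0,6,23,15,17,21,23]⟩,
  ⟨4, 28, 6, [0,0,23,7,20,16,16,20,20,23]⟩,
  ⟨6, 44, 4, [2,6,5,3,5,23,8,6,21,23,15,17,21,21]⟩,
  ⟨4, 31, 6, [7,5,6,5,21,7,21,19,17,13,21,21]⟩,
  ⟨6, 36, 5, [20,6,5,2,5,7,7,15,17,13,23]⟩,
  ⟨5, 10, 6, [5,8,5,15,8,20,19,19,20,20]⟩,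
  ⟨6, 23, 5, [21,7,5,0,0,20,14,8,21,23,19,14,20,23]⟩,
  ⟨5, 21, 6, [20,0,0,3,5,7,23,19,12,21,21,23]⟩,
  ⟨6, 28, 5, [0,8,5,19,17,8,20,12,15,20,23]⟩,
  ⟨5, 9, 6, [14,5,2,5,8,6,20,12,17,20,20,23]⟩,
  ⟨6, 18, 5, [5,20,8,21,23,14]⟩]
def F_4 : List Fact := [⟨5, 6, 6, [18,6,5,7,5,21,19,8,20,20,13,20]⟩,
  ⟨6, 13, 5, [5,2,6,5,7,5,18,6,12,15,17,21,21,23]⟩,
  ⟨5, 35, 6, [12,5,6,5,2,5,14,7,8,17,18,23]⟩,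
  ⟨6, 2, 6, [0,0,20,19,8,21,12,21,21]⟩,
  ⟨6, 15, 6, [1,18,12,17,23]⟩,
  ⟨6, 25, 6, [0,18,12,17,23]⟩,
  ⟨6, 29, 6, [5,0,3,5,15,20,8,18,21]⟩,
  ⟨6, 11, 6, [5,0,3,5,1,16,16,20,20,23]⟩,
  ⟨6, 12, 6, [0,0,23,16,16,20,20]⟩,
  ⟨6, 24, 6, [23,5,7,5,0,6,16,14,20,20]⟩,
  ⟨6, 65, 6, [14,5,2,5,7,7,23,18,17,21,21]⟩,
  ⟨6, 80, 6, [8,5,3,7,5,20,14,8,21,19,23]⟩,
  ⟨6, 73, 6, [8,12,5,3,5,17,8,16,21,23]⟩,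
  ⟨6, 100, 6, [17,3,5,7,5,7,8,19,12,15]⟩,
  ⟨6, 52, 6, [8,19,5,7,5,23,8,12,20,13]⟩,
  ⟨6, 14, 7, []⟩,
  ⟨7, 15, 6, []⟩,
  ⟨7, 1408, 7, [168]⟩,
  ⟨7, 1408, 7, [170]⟩,
  ⟨7, 1408, 7, [172]⟩,
  ⟨7, 1408, 7, [174]⟩,
  ⟨7, 1, 6, [8,5,20,19,8,19,13,23]⟩,
  ⟨7, 1408, 7, [176]⟩,
  ⟨7, 11, 6, [0,3,5,1,15,20,8,23,18,17,21,21]⟩,
  ⟨7, 1408, 7, [178]⟩,
  ⟨7, 52, 7, [23,15,2,5,6,5,19,7,13,23,16,21]⟩,
  ⟨4, 21, 8, []⟩,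
  ⟨8, 56, 4, []⟩,
  ⟨8, 1408, 8, [204]⟩,
  ⟨8, 1408, 8, [206]⟩,
  ⟨8, 70, 4, [23,8,5,20,16,8,12,18,17,23]⟩,
  ⟨8, 1408, 8, [208]⟩]
def F_5 : List Fact := [⟨8, 0, 5, [5,3,5,0,20,7,20,14,21]⟩,
  ⟨5, 31, 8, [5,3,5,1,19,7,8,18,15,21,23]⟩,
  ⟨8, 1, 6, [21,1,3,5,20,19,8,21,18,15]⟩,
  ⟨6, 8, 8, [3,5,0,8,19,16,12,20,20,23]⟩,
  ⟨8, 11, 6, [5,8,5,6,5,21,19,8,21,19,17,21,23]⟩,
  ⟨6, 117, 8, [5,8,5,7,5,21,6,6,13,16,21]⟩,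
  ⟨8, 8, 6, [1,8,5,23,7,23,19,14,20,23]⟩,
  ⟨6, 76, 8, [18,6,5,0,8,6,20,19,21,21,23]⟩,
  ⟨8, 36, 8, [19,1,3,5,3,5,7,7,21,16,20,23]⟩,
  ⟨8, 13, 8, [20,5,0,8,5,18,8,19,12,15,20,20]⟩,
  ⟨1, 1408, 1, [47]⟩,
  ⟨1, 1408, 1, [46]⟩,
  ⟨1, 1408, 1, [43]⟩,
  ⟨1, 1408, 1, [42]⟩,
  ⟨1, 1408, 1, [44]⟩,
  ⟨1, 1408, 1, [39]⟩,
  ⟨1, 1408, 1, [38]⟩,
  ⟨1, 1408, 1, [40]⟩,
  ⟨1, 1408, 1, [37]⟩,
  ⟨1, 1408, 1, [34]⟩,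
  ⟨1, 1408, 1, [36]⟩,
  ⟨1, 1408, 1, [31]⟩,
  ⟨1, 1408, 1, [30]⟩,
  ⟨1, 1408, 1, [32]⟩,
  ⟨1, 1408, 1, [28]⟩,
  ⟨2, 1408, 2, [71]⟩,
  ⟨2, 1408, 2, [70]⟩,
  ⟨2, 1408, 2, [67]⟩,
  ⟨2, 1408, 2, [66]⟩,
  ⟨2, 1408, 2, [68]⟩,
  ⟨2, 1408, 2, [63]⟩,
  ⟨2, 1408, 2, [62]⟩]
def F_6 : List Fact := [⟨2, 1408, 2, [64]⟩,
  ⟨2, 1408, 2, [59]⟩,
  ⟨2, 1408, 2, [58]⟩,
  ⟨2, 1408, 2, [60]⟩,
  ⟨2, 1408, 2, [55]⟩,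
  ⟨2, 1408, 2, [54]⟩,
  ⟨2, 1408, 2, [56]⟩,
  ⟨2, 1408, 2, [53]⟩,
  ⟨3, 1408, 3, [97]⟩,
  ⟨3, 1408, 3, [96]⟩,
  ⟨3, 1408, 3, [93]⟩,
  ⟨3, 1408, 3, [92]⟩,
  ⟨3, 1408, 3, [94]⟩,
  ⟨3, 1408, 3, [89]⟩,
  ⟨3, 1408, 3, [88]⟩,
  ⟨3, 1408, 3, [90]⟩,
  ⟨3, 1408, 3, [85]⟩,
  ⟨3, 1408, 3, [84]⟩,
  ⟨3, 1408, 3, [86]⟩,
  ⟨3, 1408, 3, [81]⟩,
  ⟨3, 1408, 3, [80]⟩,
  ⟨3, 1408, 3, [82]⟩,
  ⟨3, 1408, 3, [79]⟩,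
  ⟨3, 1408, 3, [5]⟩,
  ⟨4, 1408, 4, [123]⟩,
  ⟨4, 1408, 4, [122]⟩,
  ⟨4, 1408, 4, [119]⟩,
  ⟨4, 1408, 4, [118]⟩,
  ⟨4, 1408, 4, [120]⟩,
  ⟨4, 1408, 4, [115]⟩,
  ⟨4, 1408, 4, [114]⟩,
  ⟨4, 1408, 4, [116]⟩]
def F_7 : List Fact := [⟨4, 1408, 4, [113]⟩,
  ⟨4, 1408, 4, [110]⟩,
  ⟨4, 1408, 4, [112]⟩,
  ⟨4, 1408, 4, [107]⟩,
  ⟨4, 1408, 4, [109]⟩,
  ⟨5, 1408, 5, [143]⟩,
  ⟨5, 1408, 5, [142]⟩,
  ⟨5, 1408, 5, [139]⟩,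
  ⟨5, 1408, 5, [138]⟩,
  ⟨5, 1408, 5, [140]⟩,
  ⟨5, 1408, 5, [133]⟩,
  ⟨5, 1408, 5, [132]⟩,
  ⟨5, 1408, 5, [134]⟩,
  ⟨5, 1408, 5, [136]⟩,
  ⟨5, 1408, 5, [131]⟩,
  ⟨6, 1408, 6, [167]⟩,
  ⟨6, 1408, 6, [166]⟩,
  ⟨6, 1408, 6, [163]⟩,
  ⟨6, 1408, 6, [162]⟩,
  ⟨6, 1408, 6, [164]⟩,
  ⟨6, 1408, 6, [161]⟩,
  ⟨6, 1408, 6, [158]⟩,
  ⟨6, 1408, 6, [160]⟩,
  ⟨6, 1408, 6, [155]⟩,
  ⟨6, 1408, 6, [154]⟩,
  ⟨6, 1408, 6, [156]⟩,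
  ⟨6, 1408, 6, [153]⟩,
  ⟨7, 1408, 7, [203]⟩,
  ⟨7, 1408, 7, [202]⟩,
  ⟨7, 1408, 7, [199]⟩,
  ⟨7, 1408, 7, [198]⟩,
  ⟨7, 1408, 7, [200]⟩]
def F_8 : List Fact := [⟨7, 1408, 7, [195]⟩,
  ⟨7, 1408, 7, [194]⟩,
  ⟨7, 1408, 7, [196]⟩,
  ⟨7, 1408, 7, [189]⟩,
  ⟨7, 1408, 7, [188]⟩,
  ⟨7, 1408, 7, [190]⟩,
  ⟨7, 1408, 7, [192]⟩,
  ⟨7, 1408, 7, [186]⟩,
  ⟨7, 1408, 7, [182]⟩,
  ⟨7, 1408, 7, [184]⟩,
  ⟨7, 1408, 7, [180]⟩,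
  ⟨8, 1408, 8, [213]⟩,
  ⟨8, 1408, 8, [212]⟩,
  ⟨8, 1408, 8, [207]⟩,
  ⟨8, 1408, 8, [210]⟩,
  ⟨1, 17, 2, [2,5,18,21,21,23]⟩,
  ⟨2, 12, 2, [23,7,5,6,19,17,21]⟩,
  ⟨2, 45, 2, [7,21,17,15,21,21,23]⟩]
def F : List (List Fact) := [F_0, F_1, F_2, F_3, F_4, F_5, F_6, F_7, F_8]
def FM_0 : List Fact := [⟨0, 1408, 0, [21]⟩,
  ⟨0, 1408, 0, [23]⟩,
  ⟨0, 1408, 0, [20]⟩,
  ⟨0, 1408, 0, [22]⟩,
  ⟨0, 1408, 0, [18]⟩,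
  ⟨0, 1408, 0, [12]⟩,
  ⟨0, 1408, 0, [14]⟩,
  ⟨0, 1408, 0, [16]⟩,
  ⟨0, 1408, 0, [7]⟩,
  ⟨0, 1408, 0, [6]⟩,
  ⟨0, 1408, 0, [8]⟩,
  ⟨0, 1408, 0, [10]⟩,
  ⟨0, 1408, 0, [5]⟩,
  ⟨0, 1408, 0, [0]⟩,
  ⟨0, 1408, 0, [2]⟩,
  ⟨0, 1408, 0, [4]⟩,
  ⟨0, 0, 1, []⟩,
  ⟨1, 1408, 1, [47]⟩,
  ⟨1, 1408, 1, [46]⟩,
  ⟨1, 1408, 1, [43]⟩,
  ⟨1, 1408, 1, [42]⟩,
  ⟨1, 1408, 1, [44]⟩,
  ⟨1, 1408, 1, [39]⟩,
  ⟨1, 1408, 1, [38]⟩,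
  ⟨1, 1408, 1, [40]⟩,
  ⟨1, 1408, 1, [37]⟩,
  ⟨1, 1408, 1, [34]⟩,
  ⟨1, 1408, 1, [36]⟩,
  ⟨1, 1408, 1, [31]⟩,
  ⟨1, 1408, 1, [30]⟩,
  ⟨1, 1408, 1, [32]⟩,
  ⟨1, 1408, 1, [28]⟩]
def FM_1 : List Fact := [⟨1, 1408, 1, [24]⟩,
  ⟨1, 1408, 1, [26]⟩,
  ⟨1, 0, 1, [0]⟩,
  ⟨1, 1, 1, [1]⟩,
  ⟨1, 2, 1, [0,0]⟩,
  ⟨1, 3, 1, [0,0]⟩,
  ⟨1, 4, 0, []⟩,
  ⟨1, 5, 2, []⟩,
  ⟨1, 6, 3, []⟩,
  ⟨1, 9, 2, [5,0]⟩,
  ⟨1, 17, 2, [2,5,18,21,21,23]⟩,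
  ⟨1, 27, 4, []⟩,
  ⟨1, 99, 5, []⟩,
  ⟨2, 1408, 2, [71]⟩,
  ⟨2, 1408, 2, [70]⟩,
  ⟨2, 1408, 2, [67]⟩,
  ⟨2, 1408, 2, [66]⟩,
  ⟨2, 1408, 2, [68]⟩,
  ⟨2, 1408, 2, [63]⟩,
  ⟨2, 1408, 2, [62]⟩,
  ⟨2, 1408, 2, [64]⟩,
  ⟨2, 1408, 2, [59]⟩,
  ⟨2, 1408, 2, [58]⟩,
  ⟨2, 1408, 2, [60]⟩,
  ⟨2, 1408, 2, [55]⟩,
  ⟨2, 1408, 2, [54]⟩,
  ⟨2, 1408, 2, [56]⟩,
  ⟨2, 1408, 2, [53]⟩,
  ⟨2, 1408, 2, [48]⟩,
  ⟨2, 1408, 2, [50]⟩,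
  ⟨2, 1408, 2, [52]⟩,
  ⟨2, 1, 3, [1]⟩]
def FM_2 : List Fact := [⟨2, 2, 1, [5,0]⟩,
  ⟨2, 4, 2, [0,0]⟩,
  ⟨2, 6, 1, []⟩,
  ⟨2, 7, 6, [1,8,5,13,18,20,20]⟩,
  ⟨2, 10, 6, [0,8,5,8,18,12,14,20,20]⟩,
  ⟨2, 12, 2, [23,7,5,6,19,17,21]⟩,
  ⟨2, 22, 4, [23,7,5,6,5,21,19,8,21,14,17,21]⟩,
  ⟨2, 36, 4, [6,5,0,6,23,14,21,23]⟩,
  ⟨2, 38, 1, [5,18,23,8,19,17,15,21]⟩,
  ⟨2, 44, 6, [14,2,5,7,23,19,16]⟩,
  ⟨2, 45, 2, [7,21,17,15,21,21,23]⟩,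
  ⟨2, 57, 4, [6,5,1,8,6,23,17]⟩,
  ⟨2, 65, 5, [14,5,1,8,5,13,8,19,19,19,20]⟩,
  ⟨3, 1408, 3, [97]⟩,
  ⟨3, 1408, 3, [96]⟩,
  ⟨3, 1408, 3, [93]⟩,
  ⟨3, 1408, 3, [92]⟩,
  ⟨3, 1408, 3, [94]⟩,
  ⟨3, 1408, 3, [89]⟩,
  ⟨3, 1408, 3, [88]⟩,
  ⟨3, 1408, 3, [90]⟩,
  ⟨3, 1408, 3, [85]⟩,
  ⟨3, 1408, 3, [84]⟩,
  ⟨3, 1408, 3, [86]⟩,
  ⟨3, 1408, 3, [81]⟩,
  ⟨3, 1408, 3, [80]⟩,
  ⟨3, 1408, 3, [82]⟩,
  ⟨3, 1408, 3, [79]⟩,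
  ⟨3, 1408, 3, [5]⟩,
  ⟨3, 1408, 3, [72]⟩,
  ⟨3, 1408, 3, [74]⟩,
  ⟨3, 1408, 3, [4]⟩]
def FM_3 : List Fact := [⟨3, 1408, 3, [76]⟩,
  ⟨3, 1408, 3, [78]⟩,
  ⟨3, 0, 2, [0]⟩,
  ⟨3, 5, 1, []⟩,
  ⟨3, 7, 6, []⟩,
  ⟨3, 10, 4, [23,5,7,5,0,8,7,21,19,17,20,23]⟩,
  ⟨4, 1408, 4, [123]⟩,
  ⟨4, 1408, 4, [122]⟩,
  ⟨4, 1408, 4, [119]⟩,
  ⟨4, 1408, 4, [118]⟩,
  ⟨4, 1408, 4, [120]⟩,
  ⟨4, 1408, 4, [115]⟩,
  ⟨4, 1408, 4, [114]⟩,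
  ⟨4, 1408, 4, [116]⟩,
  ⟨4, 1408, 4, [113]⟩,
  ⟨4, 1408, 4, [110]⟩,
  ⟨4, 1408, 4, [112]⟩,
  ⟨4, 1408, 4, [107]⟩,
  ⟨4, 1408, 4, [109]⟩,
  ⟨4, 1408, 4, [98]⟩,
  ⟨4, 1408, 4, [100]⟩,
  ⟨4, 1408, 4, [102]⟩,
  ⟨4, 1408, 4, [104]⟩,
  ⟨4, 1408, 4, [106]⟩,
  ⟨4, 1408, 4, [108]⟩,
  ⟨4, 0, 2, [23,7,5,0,18,6,21,23,17]⟩,
  ⟨4, 2, 2, [0,8,5,23,7,20,17,15,20,20,23]⟩,
  ⟨4, 3, 6, [5,20,19,8,20,20,18,21,21,23]⟩,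
  ⟨4, 4, 4, [0,0,15,20,8,21,14,16,14,21,23]⟩,
  ⟨4, 6, 2, [23,7,5,0,18,6,12,20,16,21,23]⟩,
  ⟨4, 8, 4, [21,3,5,20,7,21,23,12,15,23]⟩,
  ⟨4, 11, 5, [0,20,14,8,18,12,18,21,21]⟩]
def FM_4 : List Fact := [⟨4, 13, 6, [8,2,5,8,5,18,20,19,20,23]⟩,
  ⟨4, 18, 6, [23,7,18,20,18,21,21]⟩,
  ⟨4, 19, 3, [1,8,5,23,7,18,12,17,21,21,23]⟩,
  ⟨4, 21, 8, []⟩,
  ⟨4, 23, 5, [23,7,5,2,5,18,23,8,21,12,21,13,21]⟩,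
  ⟨4, 28, 6, [0,0,23,7,20,16,16,20,20,23]⟩,
  ⟨4, 29, 4, [0,0,21,18,8,12,14,13,21]⟩,
  ⟨4, 31, 6, [7,5,6,5,21,7,21,19,17,13,21,21]⟩,
  ⟨4, 33, 1, []⟩,
  ⟨5, 1408, 5, [143]⟩,
  ⟨5, 1408, 5, [142]⟩,
  ⟨5, 1408, 5, [139]⟩,
  ⟨5, 1408, 5, [138]⟩,
  ⟨5, 1408, 5, [140]⟩,
  ⟨5, 1408, 5, [133]⟩,
  ⟨5, 1408, 5, [132]⟩,
  ⟨5, 1408, 5, [134]⟩,
  ⟨5, 1408, 5, [136]⟩,
  ⟨5, 1408, 5, [131]⟩,
  ⟨5, 1408, 5, [124]⟩,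
  ⟨5, 1408, 5, [126]⟩,
  ⟨5, 1408, 5, [128]⟩,
  ⟨5, 1408, 5, [130]⟩,
  ⟨5, 0, 5, [0,8,23,19,19,21,21]⟩,
  ⟨5, 1, 5, [1,19,17,8,21,23,17,18,20,23]⟩,
  ⟨5, 2, 5, [0,0,20,18,8,20,17,18,20,23]⟩,
  ⟨5, 5, 5, [18,6,5,1,7,8,18,12,17,23]⟩,
  ⟨5, 6, 6, [18,6,5,7,5,21,19,8,20,20,13,20]⟩,
  ⟨5, 7, 4, [8,7,5,0,8,7,15,16,20,20]⟩,
  ⟨5, 9, 6, [14,5,2,5,8,6,20,12,17,20,20,23]⟩,
  ⟨5, 10, 6, [5,8,5,15,8,20,19,19,20,20]⟩,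
  ⟨5, 12, 4, [5,0,8,5,1,20,8,7,21,13]⟩]
def FM_5 : List Fact := [⟨5, 17, 2, [13,2,20,5,7,5,20,8,7,17,19,17,20,20]⟩,
  ⟨5, 21, 6, [20,0,0,3,5,7,23,19,12,21,21,23]⟩,
  ⟨5, 22, 5, [5,0,8,5,12,16,8,19,16,21,21]⟩,
  ⟨5, 31, 8, [5,3,5,1,19,7,8,18,15,21,23]⟩,
  ⟨5, 35, 6, [12,5,6,5,2,5,14,7,8,17,18,23]⟩,
  ⟨5, 50, 5, [3,5,3,5,20,14,8,14,17,13,23]⟩,
  ⟨5, 252, 1, []⟩,
  ⟨6, 1408, 6, [167]⟩,
  ⟨6, 1408, 6, [166]⟩,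
  ⟨6, 1408, 6, [163]⟩,
  ⟨6, 1408, 6, [162]⟩,
  ⟨6, 1408, 6, [164]⟩,
  ⟨6, 1408, 6, [161]⟩,
  ⟨6, 1408, 6, [158]⟩,
  ⟨6, 1408, 6, [160]⟩,
  ⟨6, 1408, 6, [155]⟩,
  ⟨6, 1408, 6, [154]⟩,
  ⟨6, 1408, 6, [156]⟩,
  ⟨6, 1408, 6, [153]⟩,
  ⟨6, 1408, 6, [144]⟩,
  ⟨6, 1408, 6, [146]⟩,
  ⟨6, 1408, 6, [148]⟩,
  ⟨6, 1408, 6, [150]⟩,
  ⟨6, 1408, 6, [152]⟩,
  ⟨6, 0, 2, [0,8,5,8]⟩,
  ⟨6, 1, 2, [5,0,8,23,17,15,21,23]⟩,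
  ⟨6, 2, 6, [0,0,20,19,8,21,12,21,21]⟩,
  ⟨6, 4, 4, [5,0,0,23,19,16,20,23]⟩,
  ⟨6, 7, 4, [0,0,6,23,15,17,21,23]⟩,
  ⟨6, 8, 8, [3,5,0,8,19,16,12,20,20,23]⟩,
  ⟨6, 10, 4, [18,6,18,12,16,20,20,23]⟩,
  ⟨6, 11, 6, [5,0,3,5,1,16,16,20,20,23]⟩]
def FM_6 : List Fact := [⟨6, 12, 6, [0,0,23,16,16,20,20]⟩,
  ⟨6, 13, 5, [5,2,6,5,7,5,18,6,12,15,17,21,21,23]⟩,
  ⟨6, 14, 7, []⟩,
  ⟨6, 15, 6, [1,18,12,17,23]⟩,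
  ⟨6, 18, 5, [5,20,8,21,23,14]⟩,
  ⟨6, 19, 2, [7,5,15,20,8,21,14,17,20,23]⟩,
  ⟨6, 22, 3, []⟩,
  ⟨6, 23, 5, [21,7,5,0,0,20,14,8,21,23,19,14,20,23]⟩,
  ⟨6, 24, 6, [23,5,7,5,0,6,16,14,20,20]⟩,
  ⟨6, 25, 6, [0,18,12,17,23]⟩,
  ⟨6, 28, 5, [0,8,5,19,17,8,20,12,15,20,23]⟩,
  ⟨6, 29, 6, [5,0,3,5,15,20,8,18,21]⟩,
  ⟨6, 36, 5, [20,6,5,2,5,7,7,15,17,13,23]⟩,
  ⟨6, 44, 4, [2,6,5,3,5,23,8,6,21,23,15,17,21,21]⟩,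
  ⟨6, 52, 6, [8,19,5,7,5,23,8,12,20,13]⟩,
  ⟨6, 57, 4, [18,23,5,2,5,20,8,6,21,12,20,13,20,20]⟩,
  ⟨6, 65, 6, [14,5,2,5,7,7,23,18,17,21,21]⟩,
  ⟨6, 73, 6, [8,12,5,3,5,17,8,16,21,23]⟩,
  ⟨6, 76, 8, [18,6,5,0,8,6,20,19,21,21,23]⟩,
  ⟨6, 80, 6, [8,5,3,7,5,20,14,8,21,19,23]⟩,
  ⟨6, 100, 6, [17,3,5,7,5,7,8,19,12,15]⟩,
  ⟨6, 117, 8, [5,8,5,7,5,21,6,6,13,16,21]⟩,
  ⟨7, 1408, 7, [203]⟩,
  ⟨7, 1408, 7, [202]⟩,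
  ⟨7, 1408, 7, [199]⟩,
  ⟨7, 1408, 7, [198]⟩,
  ⟨7, 1408, 7, [200]⟩,
  ⟨7, 1408, 7, [195]⟩,
  ⟨7, 1408, 7, [194]⟩,
  ⟨7, 1408, 7, [196]⟩,
  ⟨7, 1408, 7, [189]⟩,
  ⟨7, 1408, 7, [188]⟩]
def FM_7 : List Fact := [⟨7, 1408, 7, [190]⟩,
  ⟨7, 1408, 7, [192]⟩,
  ⟨7, 1408, 7, [186]⟩,
  ⟨7, 1408, 7, [182]⟩,
  ⟨7, 1408, 7, [184]⟩,
  ⟨7, 1408, 7, [180]⟩,
  ⟨7, 1408, 7, [168]⟩,
  ⟨7, 1408, 7, [170]⟩,
  ⟨7, 1408, 7, [172]⟩,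
  ⟨7, 1408, 7, [174]⟩,
  ⟨7, 1408, 7, [176]⟩,
  ⟨7, 1408, 7, [178]⟩,
  ⟨7, 15, 6, []⟩,
  ⟨7, 52, 7, [23,15,2,5,6,5,19,7,13,23,16,21]⟩,
  ⟨8, 1408, 8, [213]⟩,
  ⟨8, 1408, 8, [212]⟩,
  ⟨8, 1408, 8, [207]⟩,
  ⟨8, 1408, 8, [210]⟩,
  ⟨8, 1408, 8, [204]⟩,
  ⟨8, 1408, 8, [206]⟩,
  ⟨8, 1408, 8, [208]⟩,
  ⟨8, 0, 5, [5,3,5,0,20,7,20,14,21]⟩,
  ⟨8, 1, 6, [21,1,3,5,20,19,8,21,18,15]⟩,
  ⟨8, 8, 6, [1,8,5,23,7,23,19,14,20,23]⟩,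
  ⟨8, 11, 6, [5,8,5,6,5,21,19,8,21,19,17,21,23]⟩,
  ⟨8, 13, 8, [20,5,0,8,5,18,8,19,12,15,20,20]⟩,
  ⟨8, 36, 8, [19,1,3,5,3,5,7,7,21,16,20,23]⟩,
  ⟨8, 56, 4, []⟩]
def FM : List (List Fact) := [FM_0, FM_1, FM_2, FM_3, FM_4, FM_5, FM_6, FM_7]
def ws : List (List ℕ) := [[], [0], [5,0], [6,0], [27,0], [99,0], [7,6,0], [14,7,6,0], [21,27,0], [17,0]]
def RL : List (List ℕ × Word) := [([], []), ([0,4], []), ([0,0,2], []), ([0,1,1], []), ([0,2,0], []), ([3,0,3], [4])]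
def sig : List ℕ := [0,1,2,3,4,5,6,7,8,9,10,11,12,13,14,15,16,170,171,172,173,174,175,176,177,178,179,180,181,182,183,184,18,19,21,22,20,23,17,24,33,29,271,57,78,185,186,187,188,189,190,191,192,193,194,195,196,197,198,199,26,27,31,42,28,32,25,106,104,272,68,66,54,108,273,72,84,200,201,202,203,204,205,206,207,208,209,210,211,212,213,214,215,35,36,38,40,56,41,34,97,74,216,217,218,219,220,221,222,223,224,225,226,227,228,59,60,61,62,64,70,65,71,112,75,67,77,88,116,114,73,154,86,118,76,120,58,229,230,231,232,233,234,235,236,237,238,80,81,82,90,96,95,94,93,128,87,126,122,85,83,124,91,161,130,92,79,239,240,241,242,243,244,245,246,247,248,249,250,99,100,101,102,110,103,105,131,111,117,163,113,135,136,129,143,132,127,107,98,123,137,133,125,134,121,119,142,115,138,140,167,139,141,165,251,252,253,254,255,256,257,258,259,260,261,262,263,264,265,266,145,146,147,148,150,152,144,153,267,268,269,270,156,157,159,160,162,166,164,169,168,155]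
def GW : List (List Word) := [H0, s1H0, s2H0, s3H0, s4H0, s5H0, s6H0, s7H0, s8H0]
def NS : List ℕ := [177408000,126000,5040,80640,1440,500,240,30720,640]
def D0 : List (ℕ × Word × List ℕ) := [(0, [], []),
  (0, [], []),
  (0, [], []),
  (0, [], []),
  (0, [], []),
  (0, [], []),
  (0, [], []),
  (0, [], []),
  (0, [], []),
  (0, [], []),
  (0, [], []),
  (0, [], []),
  (0, [], []),
  (0, [], []),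
  (0, [], []),
  (0, [], []),
  (0, [], []),
  (1, [], [32]),
  (1, [0,0], [34,1,9,20,1,11,14,32]),
  (1, [0,0], [34,20,9,15,10,32]),
  (2, [0,0], [34,26,26,32]),
  (3, [0,0], [34,27,32]),
  (1, [], [42]),
  (5, [5,0,0], [34,24,26,26,32]),
  (0, [], []),
  (1, [5,0], [48]),
  (1, [5,1], [50,36,39,36,48]),
  (1, [5,1], [50,38,36,38,36,48]),
  (5, [5], [42,48]),
  (1, [0], [56]),
  (2, [5], [46,58]),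
  (1, [], [60,48]),
  (3, [0], [56,48,62]),
  (0, [], []),
  (1, [5,1], [66]),
  (1, [5,0], [68,36,39,36,66]),
  (1, [5,0], [68,38,36,38,36,66]),
  (5, [5,0], [40,66]),
  (1, [1], [74,66]),
  (3, [5], [46,66,76])]
theorem hD0 : allD lk 1408 B F ws RL D0 0 = true := by decide +kernel
def D1 : List (ℕ × Word × List ℕ) := [(1, [0], [78,66]),
  (4, [0], [56,66,76]),
  (1, [], [82]),
  (0, [], []),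
  (1, [5,3,5], [86]),
  (1, [8,5,8,7,5,15,20,8,18,23,16,20,20,23], [88,38,37,37,38,36,86]),
  (1, [8,5,8,7,5,15,20,8,18,23,16,20,20,23], [88,37,38,36,38,36,36,86]),
  (5, [5,3,5], [46,36,36,39,37,38,36,36,36,86]),
  (1, [5,0,0,8,19,17,12], [94,36,36,39,37,38,36,36,36,86]),
  (5, [5,0,16,8,19,13,21,21], [56,86]),
  (1, [5], [98,53,53,54,52,52]),
  (5, [5,6,5,1,23,18,17,20,20], [50,36,36,38,37,39,36,36,36,86,96,91,96,90]),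
  (1, [5,1,8,19,17,12], [102,52,54,52,54,53]),
  (5, [21,5,7,5,1,8,7,16,12,21], [100,96,91,96,90,96,90,92,98,62,100]),
  (1, [5,3,5], [86,106,53,54,52,54,52]),
  (5, [0,6,21,15,20], [108,37,66,80,70,72,70,72,70]),
  (1, [5,1,6,21,15,20], [110,84]),
  (0, [], []),
  (1, [5,0,3,5], [114]),
  (1, [5,1,3,5], [116,38,36,38,36,114]),
  (1, [5,1,3,5], [116,38,37,37,38,36,114]),
  (1, [5,1,3,5], [116,39,37,38,38,37,114]),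
  (1, [5,1,3,5], [116,37,38,36,38,36,36,114]),
  (5, [5,6,5,19], [46,36,36,38,37,39,36,36,36,114]),
  (1, [23,7,5,0,0,23,7,12,18,17,20,20], [126,36,36,38,37,39,36,36,36,114]),
  (5, [5,0,6,21,15,20], [56,39,36,38,37,39,36,36,36,114,128]),
  (1, [], [130]),
  (5, [5,3,5,1], [50,39,36,114,118,123,120,124]),
  (1, [5,1], [134,62]),
  (3, [5,1,8,6,20,18,18,20,20], [100,106,62,53,53,54,52,52,136]),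
  (1, [5,0], [138,136]),
  (3, [5,0,6,21,15,20], [108,36,36,39,37,38,36,36,36,114,140]),
  (1, [0], [142]),
  (5, [5,3,5,0], [68,38,38,37,39,36,38,38,36,114]),
  (1, [5,0,8,19,17,12], [146,113,113,76]),
  (4, [], [130,144]),
  (5, [5,14,8,21,23,17,15,20,23], [130,54,62,54,52,132]),
  (5, [5,3,5,0,8,19,17,12], [146,71,113,70,113,72,70,148,128,118,123,118]),
  (0, [], []),
  (1, [5,3,5,3,5], [156])]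
theorem hD1 : allD lk 1408 B F ws RL D1 40 = true := by decide +kernel
def D2 : List (ℕ × Word × List ℕ) := [(1, [21,2,5,6,5,2,5,18,6,20,20,15,20,20,23], [158,39,39,37,39,37,38,156]),
  (1, [21,2,5,6,5,2,5,18,6,20,20,15,20,20,23], [158,38,36,36,39,39,37,37,156]),
  (1, [21,2,5,6,5,2,5,18,6,20,20,15,20,20,23], [158,36,39,36,36,36,38,37,156]),
  (5, [5,3,5,0,6,21,15,20], [108,39,36,38,38,37,156,162,164,160,164]),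
  (1, [5,3,5], [166,62,53,54,62,53,54,52]),
  (5, [5,13,8,21,18,15,20], [130,53,54,53,54,53,54,52,168]),
  (1, [5,1,8,6,20,18,18,20,20], [170,120]),
  (5, [13,5,8,5,1,16,14,23], [134,52,54,62,53,54,53,168,162,162]),
  (1, [5,8,6,20,18,18,20,20], [174,128,124,120,123,120,118]),
  (5, [5,3,5,20,19,8,20,13,16], [154,123,140,124,118,172,163]),
  (1, [14,5,8,5,1,16,16,21], [178,120,124,140,128,123,118,176]),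
  (4, [5,8,6,20,18,18,20,20], [174,128,124,120,123,120,118,172]),
  (5, [19,5,3,5,20,19,8,21,14,16,21], [174,124,140,124,122,118,172,180,160,181]),
  (5, [5,6,5,7,8,23,19,19,23], [174,124,120,123,120,118,172,181,163]),
  (5, [1,8,6,20,18,18,20,20], [170,140,128,122,172]),
  (5, [0,0,8,6,20,18,18,20,20], [182,180,162,162,186,180]),
  (1, [1], [190]),
  (0, [], []),
  (1, [5,8,6,20,18,18,20,20], [194]),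
  (1, [5,0,0,8,6,20,18,18,20,20], [196,72,194]),
  (1, [5,0,0,8,6,20,18,18,20,20], [196,70,72,71,194]),
  (1, [5,0,0,8,6,20,18,18,20,20], [196,113,72,112,194]),
  (1, [5,0,0,8,6,20,18,18,20,20], [196,112,71,113,71,112,76,70,70,194]),
  (5, [5,1,16,8,19,13,21,21], [84,80,76,194]),
  (1, [], [206,53,53,54,52,52]),
  (2, [5,1,8,6,20,18,18,20,20], [100,106,62,53,53,54,52,52,208]),
  (1, [1], [210]),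
  (5, [5,6,5,1,14,7,8,12,14,13,21,23], [100,106,52,212,202,198,200]),
  (1, [5,0,8,19,17,12], [214,52,54,52,52,52,54,52]),
  (5, [5,3,5,3,5,20,19,8,20,13,16], [104,106,62,52,52,54,52,52,216,205,198,202,198,200]),
  (1, [5,0,8,5,19,17,12], [218,62,52,54,52,54,52,54,216]),
  (5, [5], [130,62,52,54,52,54,52,208,220]),
  (1, [0,0], [222,140]),
  (5, [5,0,14,8,21,23,17,15,20,23], [142,62,53,54,52,54,52,212]),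
  (1, [5,0,8,6,20,18,18,20,20], [226,120]),
  (5, [5,0,6,21,15,20], [142,52,54,52,54,216,200,220]),
  (1, [5,6,21,15,20], [230,121,124,120,123,118]),
  (5, [5,0,0,14,8,21,23,17,15,20,23], [150,124,224]),
  (1, [5,8,6,20,18,18,20,20], [234,120]),
  (5, [14,5,8,5,1,16,16,21], [134,52,54,62,54,52,52,52,216,220,202,220])]
theorem hD2 : allD lk 1408 B F ws RL D2 80 = true := by decide +kernel
def D3 : List (ℕ × Word × List ℕ) := [(1, [5,3,5,8,6,20,18,18,20,20], [238,140,121]),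
  (2, [5,8,6,20,18,18,20,20], [174,128,124,120,123,120,118,232,220,200,220,204]),
  (1, [5,1,6,21,15,20], [242]),
  (5, [13,5,8,5,17,8,21,18,20,20,23], [174,140,128,124,118,240,220,204,220,202]),
  (1, [5,0,0,20,19,8,20,13,16], [246,181,160,181,162]),
  (5, [21,5,8,5,19,6,6,20,15], [174,120,236,205,220]),
  (1, [5,8,19,17,12], [250,164,180,162]),
  (5, [21,5,7,5,6,6,23,16,20,20], [174,140,124,120,123,118,232,205,220]),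
  (1, [5,1,8,19,17,12], [254,180,162,162]),
  (5, [5,8,5,1,20,19,8,21,12,21,21], [170,118,122,140,124,120,240,204,202]),
  (1, [5,1,20,19,8,20,13,16], [258,163,164,162,164]),
  (3, [], [206,53,53,54,52,52,212]),
  (5, [5,16,8,19,13,21,21], [206,62,53,53,54,52,52,212,198]),
  (1, [5,0,16,8,19,13,21,21], [264]),
  (5, [5,14,8,21,23,17,15,20,23], [206,62,53,54,62,54,52,216,220]),
  (5, [5,1,13,8,21,18,15,20], [210,52,52,52,54,52,216,220]),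
  (5, [5,0,8,6,20,18,18,20,20], [262,220,262]),
  (5, [5,0,0,16,8,19,13,21,21], [222,128,120,124,224,204]),
  (5, [5,1,3,5,8,6,20,18,18,20,20], [226,118,122,120,118,240,205,220,204]),
  (5, [5,1,3,5,20,16,8,23,14,21,21,23], [270,202,276,198,204,220]),
  (1, [5,8,5,0,8,6,20,13,20], [278,200,198]),
  (5, [5,6,5,0,21,18,8,23,19,16,20], [270,198,205,198,278,202,220,204,198]),
  (1, [5,3,5,19,17,8,18,18,18,21,21], [282,220,204,220,205]),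
  (0, [], []),
  (1, [5,1,16,8,19,13,21,21], [286]),
  (1, [5,0,16,8,19,13,21,21], [288,204,202,286]),
  (1, [5,0,16,8,19,13,21,21], [288,198,200,198,286]),
  (1, [5,0,16,8,19,13,21,21], [288,198,202,198,286]),
  (1, [5,0,16,8,19,13,21,21], [288,205,198,202,286]),
  (5, [5,0,16,8,19,13,21,21], [262,198,286]),
  (1, [1], [298,286]),
  (5, [5,1,17,8,5,12,16,8,21,17,20,23], [270,220,202,286,290,300]),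
  (1, [5,0,20,19,8,20,13,16], [302,220,202,286]),
  (5, [5,1,3,5,21,18,8,19,12,12,20], [288,220,200,286,305,294,292]),
  (0, [], []),
  (1, [5,2,5], [308]),
  (1, [5,0,8,5,1,19,17,12], [310,122,120,308]),
  (1, [5,0,8,5,1,19,17,12], [310,118,122,140,124,121,118,123,118,308]),
  (5, [5,8,5,21,6,8,21,23,15,17,21,21], [154,140,128,124,123,121,308]),
  (1, [5,0,0,20,14,8,19,20,15,20,20], [316,140,124,120,118,308])]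
theorem hD3 : allD lk 1408 B F ws RL D3 120 = true := by decide +kernel
def D4 : List (ℕ × Word × List ℕ) := [(5, [5,6,5,7,8,21,17,15,20], [174,128,120,308,318,312,318,312,318,318,318]),
  (1, [], [320,160,181,160,181]),
  (5, [5,0,0,13,8,21,18,15,20], [222,122,118,123,121,308,319,319,319,319,319,314]),
  (1, [1], [324,204,198,204]),
  (5, [5,3,5,8,6,20,18,18,20,20], [234,140,123,118,122,308,319,314,318]),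
  (1, [5,0,20,19,8,20,13,16], [328]),
  (5, [5,8,5,0,21,8,18,20,18,20,23], [270,200,220,205,198,326,318,314,318]),
  (1, [5,20,19,8,20,13,16], [332,198,200]),
  (5, [5,6,19], [320,180,164,160,163,322,319,319]),
  (5, [5,14,8,21,23,17,15,20,23], [320,180,163,322,312,319,319,314]),
  (0, [], [36,36,39,37,38,37,39,37]),
  (0, [], [36,38,36,39,36,38,37,37]),
  (0, [], [37,37,38,36,39,36,38,36]),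
  (0, [], [37,39,37,38,37,39,36,36]),
  (0, [], [38,38,37,37,38,37,37,39]),
  (0, [], [37,39,36,36,39,36,38,38,36,36,39,36]),
  (0, [], [36,39,36,36,38,38,36,39,36,36,38,36]),
  (0, [], [38,36,38,36,39,37,37,38,37,39,36,36]),
  (0, [], [39,37,37,39,37,37,38,38,37,37,39,37,38,36]),
  (0, [], [36,36,39,36,38,38,36,38,37,37]),
  (0, [], [39,36,36,39,37,39,37,38,36,39,36,36,38,36]),
  (0, [], [36,39,36]),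
  (0, [], [37,38,37]),
  (0, [], [36,36,39,36,36,38,37,39,37,38,36,38,38]),
  (0, [], [36,38]),
  (0, [], [52,52,54,52,54,53,53,54,52]),
  (0, [], [53,54,52,52,54,53,54,53,53]),
  (0, [], [62,53,54,62,52,52,52,54,53]),
  (0, [], [52,54,62,52,52,52,54,62,52]),
  (0, [], [62,54,62,52,52,54,52,52]),
  (0, [], [53,54,62,53,54,62,53]),
  (0, [], [62,52,54,62,52,54,52]),
  (0, [], [53,54,52,52,54,52,52,52]),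
  (0, [], [52,54,53,53,54,52]),
  (0, [], [53,54,52,52,54,53]),
  (0, [], [53,54,62,52,54,62,52]),
  (0, [], [62,54,62,52]),
  (0, [], [62,53,54,62]),
  (0, [], [62,54,62]),
  (0, [], [62])]
theorem hD4 : allD lk 1408 B F ws RL D4 160 = true := by decide +kernel
def D5 : List (ℕ × Word × List ℕ) := [(0, [], [112,112,72]),
  (0, [], [72,113,113]),
  (0, [], [72,70,70,72,71,71]),
  (0, [], [70,70,72,71,71,72]),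
  (0, [], [72,113,113]),
  (0, [], [71,72,70,70,72,71]),
  (0, [], [70,72,71,71,72,70]),
  (0, [], [71,71,112,112,72]),
  (0, [], [70,70,112,112]),
  (0, [], [113,113,71,71]),
  (0, [], [70,72,113,113,71,112,112]),
  (0, [], [113,71,72,112,70,112,80]),
  (0, [], [113,71,113,72,70,112,80]),
  (0, [], [71,113,71,71,112,72]),
  (0, [], [112]),
  (0, [], [76]),
  (0, [], [123]),
  (0, [], [122]),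
  (0, [], [120]),
  (0, [], [121]),
  (0, [], [122,120]),
  (0, [], [118,123]),
  (0, [], [122,118]),
  (0, [], [120,118,122]),
  (0, [], [121,124,120,118]),
  (0, [], [120,123,118]),
  (0, [], [120,124,121,118]),
  (0, [], [128]),
  (0, [], [140]),
  (0, [], [162,164,180,180,162]),
  (0, [], [162,164,180,180,162]),
  (0, [], [181,181,163,164,160]),
  (0, [], [181,181,163,164,160]),
  (0, [], [164,163,160]),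
  (0, [], [160,180,180]),
  (0, [], [181,181,160]),
  (0, [], [181,163,160,180]),
  (0, [], [164,160,162]),
  (0, [], [180]),
  (0, [], [205,198,205])]
theorem hD5 : allD lk 1408 B F ws RL D5 200 = true := by decide +kernel
def D6 : List (ℕ × Word × List ℕ) := [(0, [], [204,198,204]),
  (0, [], [198,200,198]),
  (0, [], [198,200,198]),
  (0, [], [220,205,220,198,204]),
  (0, [], [204,198,205,198]),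
  (0, [], [220,205,220,198,204]),
  (0, [], [198,204,198,205]),
  (0, [], [220,205,220]),
  (0, [], [220,204,220]),
  (0, [], [198,202]),
  (0, [], [220]),
  (0, [], [300,290,300,290]),
  (0, [], [300,290,300,290]),
  (0, [], [305,300,290,300,304]),
  (0, [], [305,300,290,300,304]),
  (0, [], [305,290,304]),
  (0, [], [304,294,305,296,304,294,305]),
  (0, [], [304,294,305,296,304,294,305]),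
  (0, [], [305,290,304]),
  (0, [], [290,305,290,304,296,292,290]),
  (0, [], [290,296,305,290,304,294,290]),
  (0, [], [305,290,304]),
  (0, [], [294,305,294,304,296,292]),
  (0, [], [304,304,300,305,296,305,300,294]),
  (0, [], [305,290,305,290,296,304,292]),
  (0, [], [292,305,296,305,290,305,294]),
  (0, [], [290,300]),
  (0, [], [312,318,312,318,318,318,312]),
  (0, [], [312,319,319,319,312,319,312]),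
  (0, [], [314]),
  (0, [], [314,318]),
  (1, [7,5,0,21,7,19,13,19,20], [371,393,108]),
  (1, [8,5,8,5,13,18,20,20], [370,398,52,100,106,370,398,52]),
  (1, [5,6,5,1,7,21,14,17], [392,380,104,106,392,380])]
theorem hD6 : allD lk 1408 B F ws RL D6 240 = true := by decide +kernel
theorem facts {X : Type*} {S : Sys C (C.grp gens) X} (hB : IsBase (C.grp gens) B) (h0 : ∀ h, S.ρ h (S.p 0) = S.p 0)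
    (hp : ∀ j, S.p j = (nth ws [] j).foldr S.m (S.p 0)) (hR : ∀ R ∈ RL, (∀ l ∈ R.1, l < C.n) ∧ S.Rel R) :
    ∀ q < 274, S.Holds (fget F q) :=
  (allD_sound hlk hB h0 hp hR (t := 240) (allD_sound hlk hB h0 hp hR (t := 200) (allD_sound hlk hB h0 hp hR (t := 160) (allD_sound hlk hB h0 hp hR (t := 120) (allD_sound hlk hB h0 hp hR (t := 80) (allD_sound hlk hB h0 hp hR (t := 40) (allD_sound hlk hB h0 hp hR (t := 0) (fun _ h => absurd h (Nat.not_lt_zero _)) hD0) hD1) hD2) hD3) hD4) hD5) hD6)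
theorem hsig : ∀ q < 252, nth sig 0 q < 274 ∧ fget FM q = fget F (nth sig 0 q) := by decide +kernel
theorem hgen : ∀ i < 9, ∀ w ∈ nth GW [] i, ∃ q < 252, fget FM q = ⟨i, 1408, i, w⟩ := by decide +kernel
def ES0 : List ER := [⟨16, [24,26,16,20,24,16,8,28,26,14,24,16,28,8,2,8], [([1,8,13], [27,19]), ([2,12,11,1], [26,17,11]), ([13,9,0], [26,11,4]), ([2,20,15,8], [33,9,30,5])], [(3, [6,0,2,6,4,0,2,4,0,0], [[0], [2], [4]]), (7, [4,0,2,4,0,4,2,0,0], [[0], [2]]), (52, [0,2,0,2,0,2,0,2,0,0], [])]⟩]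
def ES1 : List ER := [⟨34, [], [([27,16,10,5], [27,9,26,0]), ([27,17,1], [27,22,8]), ([27,11,17,11], [22,27,18,1]), ([32,22,16,15,4], [30,1,26,10])], [(3, [6,0,4,6,0,4,2,6,4], [[0], [2], [4]]), (7, [4,0,2,4,0,2,4,0,4], [[0], [2]]), (52, [0,2,0,2,0,2,0,2,2,0], [])]⟩,
  ⟨35, [], [([16,9,0], [0,17,0]), ([22,11,17,9], [26,10,26,0]), ([4,22,5], [4,23,5]), ([11,31,4,27,16], [23,8,32,11])], [(3, [6,0,2,4,6,2,4,6,0], [[0], [2], [4]]), (7, [4,0,2,4,0,4,2,0,0], [[0], [2]]), (52, [0,2,0,0,2,0,2,0,2,0,2], [])]⟩,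
  ⟨36, [], [([26,14,4,0], [18,26]), ([22,14,9,1], [22,19,10]), ([17,15,0], [17,15,0]), ([11,31,26,9], [11,31,26,9])], [(3, [6,0,2,4,0,2,6,2,0], [[0], [2], [4]]), (7, [4,0,2,4,0,2,4,0,0], [[0], [2]]), (52, [0,2,0,2,0,2,0,2,0,0], [])]⟩,
  ⟨37, [28,30,26,0,16,28,26,0], [([27,15,5], [26,22]), ([1,16,9], [1,16,9]), ([22,17,9], [23,4])], [(7, [4,0,2,4,0,2,4,0,4], [[0], [2]]), (52, [0,2,0,2,0,2,0,2,0,0], [])]⟩,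
  ⟨38, [], [([26,14,4,0], [12,9,0]), ([1,16,9], [1,14,14,1,2]), ([22,14], [12,15,11,0,0]), ([0,15,30,9,0], [0,14,20,10,15,13,1,1])], [(3, [6,0,2,4,0,6,0,4,0,0], [[0], [2], [4]]), (7, [4,0,2,0,4,2,0,4,0], [[0], [2]]), (52, [0,2,0,2,0,2,0,2,0,0], [])]⟩,
  ⟨39, [28,30,26,0,16,28,26,0], [([1,16,9], [11,26,4]), ([26,15,4], [14,22,22]), ([4,1], [9,11,1])], [(7, [4,0,2,0,2,0,4,2,0,2], [[0], [2]]), (52, [0,2,0,2,0,2,0,2,0,0], [])]⟩,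
  ⟨40, [28,30,26,0,16,28,26,0], [([27,10,9,0], [32,1,23]), ([26,17,11], [21,22,10]), ([4,27,1], [10,23,1])], [(7, [4,0,2,4,0,2,0,4,0], [[0], [2]]), (52, [0,2,0,2,0,2,0,2,0,0], [])]⟩,
  ⟨41, [28,30,26,0,16,28,26,0], [([26,15,4], [30,21,23,0]), ([26,11,17,4,0], [0,30,21]), ([26,17,10], [1,20,22])], [(7, [4,0,2,4,0,2,4,0,2], [[0], [2]]), (52, [0,2,0,2,0,0,2,2,0,0,2,0], [])]⟩,
  ⟨42, [0,4,14,28,22,26,30,28,10,22,26], [([14,32,26,17,15,5], [20,9,0]), ([4,27,1,16,10,1], [32,26]), ([26,16,11], [10,30,0])], [(8, [4,0,2,0,4,0,2,4,0,0], [[0], [2]]), (20, [0,2,0,0,0], [])]⟩,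
  ⟨43, [0,4,14,28,22,26,30,28,10,22,26], [([11,30,22,16,15,9], [32,10,16]), ([11,30,5,22,9,1], [10,16,5,0]), ([11,30,22,4,1], [14,32,4,0])], [(8, [4,0,2,0,4,0,2,0,0,0,4], [[0], [2]]), (20, [0,2,0,0,0], [])]⟩,
  ⟨44, [0,4,10,16,22,26,28,14,30,26,10,0], [([11,17,11], [4,0]), ([15,1], [4]), ([0,33,16,5,1], [10,8,14])], [(3, [4,0,2,4,0,2,4], [[0], [2]]), (8, [0,2,0,0,0], [])]⟩]
def ES2 : List ER := [⟨63, [28], [([1,22,10,5], [10,32,26,0]), ([22,0,10], [33,20,14]), ([1,23,5], [14,23,14,0])], [(7, [4,0,2,4,2,4,0,2,0], [[0], [2]]), (52, [0,2,0,2,0,2,0,2,0,2,0], [])]⟩,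
  ⟨64, [28], [([22,4,21,5,0], [22,11,0]), ([22,0,10], [22,10,5,0]), ([17,11,1], [15,16,9])], [(7, [4,0,2,4,2,0,4,2,0], [[0], [2]]), (52, [0,2,0,2,0,2,0,2,0,2,0], [])]⟩,
  ⟨65, [28], [([16,0,10,0], [4,32,0]), ([23,21,11,1], [26,22,16]), ([0,23,17,4], [9,30,32])], [(7, [4,0,4,0,2,0,4,0,4], [[0], [2]]), (52, [0,2,0,0,2,0,2,0,2,0,2], [])]⟩,
  ⟨66, [28], [([23,4,21], [1,26,26,1]), ([16,0,10,0], [0,16,19]), ([23,17,5], [5,22,4])], [(7, [4,0,2,4,0,2,4,2,0], [[0], [2]]), (52, [0,2,0,2,0,2,0,2,0,0], [])]⟩,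
  ⟨67, [0,8,10,16,28,30,22,16,0], [([1,22,16,11,1], [10,1]), ([23,21,11,1], [16,16])], [(52, [0,2,0,0,2,0,2,0,2,0,2], [])]⟩,
  ⟨68, [0,8,10,16,28,30,22,16,0], [([23,4,21], [20,8]), ([23,21,11,1], [26,11,0])], [(52, [0,2,0,0,2,0,2,0,2,0,2], [])]⟩,
  ⟨69, [0,8,10,16,28,30,22,16,0], [([1,22,10,5], [30,10,9,0]), ([23,17], [4,32,0])], [(52, [0,2,0,2,0,0,2,2,0,0,2,0], [])]⟩,
  ⟨70, [0,8,10,16,28,30,22,16,0], [([1,22,10,5], [10,19]), ([23,17,4,1], [1])], [(52, [0,2,0,2,0,2,0,2,2,0], [])]⟩,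
  ⟨71, [22,28,30,0,0], [([4,21,10,4], [17,8,15]), ([21,10,4,0], [14,32,14,0]), ([10,1], [32,4])], [(7, [4,0,2,0,4,2,0,4,0], [[0], [2]]), (8, [0,2,0,0,0], [])]⟩,
  ⟨72, [22,28,30,0,0], [([21,10,8,0], [19,4,32,26,1]), ([4,1], [30,29,4,23]), ([21,8], [16,32,18,26])], [(7, [4,0,2,4,0,2,4,0,0], [[0], [2]]), (8, [0,2,0,0,0], [])]⟩,
  ⟨73, [0,4,10,16,22,28,30,0,26,10,8], [([4,21,10], [11]), ([5,0], [24,11])], [(8, [0,2,0,0,0], [])]⟩,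
  ⟨74, [0,4,28,30], [([22,4,21,5,0], [26,14,0]), ([23,21,11,1], [14,0]), ([1,23,16], [11,26,8])], [(7, [4,0,2,4,0,2,0,4,2], [[0], [2]]), (16, [0,2,0,0,0], [])]⟩,
  ⟨75, [22,28,30,0,0], [([16,0,10,0], [16,18]), ([16,0,10,8], [8]), ([21,0], [14,32,14])], [(7, [4,0,2,4,0,4,0,4,0], [[0], [2]]), (8, [0,2,0,0,0], [])]⟩,
  ⟨76, [0,4,10,16,22,28,30,0,26,10,8], [([21,10,5], [22,14,4]), ([5,0], [4,16,4])], [(8, [0,2,0,0,0], [])]⟩]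
def ES3 : List ER := [⟨98, [28,30,38,22,26,14,0], [([22,16,5], [11,32,23,5]), ([27,21,0,10], [22,17,10]), ([22,0,16,11], [20,0,30,4])], [(7, [4,0,2,0,4,2,4,0,0], [[0], [2]]), (52, [0,2,0,2,0,2,0,2,0,0], [])]⟩,
  ⟨99, [28,30,38,22,26,14,0], [([22,16,5], [22,4,22]), ([16,10,0], [18,17,1]), ([22,16,10], [19,23,17])], [(7, [4,0,4,0,2,4,0,4,2], [[0], [2]]), (52, [0,2,0,2,0,0,2,2,0,0,2,0], [])]⟩,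
  ⟨100, [0,4,16,28,30,38,26,10,22,14,28,10], [([22,16,11,5,1], [8,0]), ([4,22,28,30,4,22,16,0,10,5,0], [16])], [(8, [2,0,2,0,2,0,2,0,2,0,2,2,0,2,0,2], [[0]]), (16, [0], [])]⟩,
  ⟨101, [0,4,16,28,30,38,26,10,22,14,28,10], [([22,16,11,5,1], [8]), ([4,22,28,30,22,10,17,11,0,5,0], [24,1,17,1])], [(8, [2,0,2,0,2,0,2,2,0,2,0,2], [[0]]), (16, [0], [])]⟩]
def ES4 : List ER := [⟨121, [22,24], [([16,11,1], [21]), ([4,1], [26,21]), ([17,14,0], [4,17])], [(8, [4,0,2,4,0,2,4,0,4], [[0], [2]]), (20, [0,2,0,0,0], [])]⟩,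
  ⟨122, [22,24], [([4,16,11,5,1], [21]), ([16,11,5], [26,21]), ([16,14], [20,16,5])], [(8, [4,0,2,4,0,2,4,4,0], [[0], [2]]), (20, [0,2,0,0,0], [])]⟩,
  ⟨123, [16,22,24,16,14,0], [([14], [21]), ([14,1], [8,11])], [(52, [0,2,0,2,0,2,0,2,0,0], [])]⟩,
  ⟨124, [22,24], [([0,17,11,5,1], [32,1,5]), ([4,1], [32,0]), ([16,14,4], [16,10,1])], [(8, [4,0,2,4,0,2,4,2,0], [[0], [2]]), (20, [0,2,0,0,0], [])]⟩,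
  ⟨125, [16,22,24,16,14,0], [([10,4], [20,31,1]), ([10], [14,20,22])], [(52, [0,2,0,2,0,2,0,2,0,0], [])]⟩,
  ⟨126, [0,10,14,22,24,0,16,32,10], [([16,11,1], [10,19]), ([4,1], [8,15,0])], [(20, [0,2,0,0,0], [])]⟩,
  ⟨127, [0,10,14,22,24,0,16,32,10], [([16,11,1], [22,14,4]), ([4,1], [4,16,4])], [(20, [0,2,0,0,0], [])]⟩,
  ⟨128, [0,10,14,22,24,0,16,32,10], [([16,11,1], [21]), ([17,11,0], [28])], [(20, [0,2,0,0,0], [])]⟩,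
  ⟨129, [0,10,22,0], [([4,1], [24,11]), ([24,17,0], [10,31])], [(8, [2,0,2,0,2,0,2,2,0,2,0,2], [[0]]), (16, [0], [])]⟩,
  ⟨130, [0,10,22,0], [([4,1], [33,15,1]), ([24,17,10], [30,10,26,29,26,16])], [(8, [2,0,2,0,2,0,2,0,2,0,2,2,0,2,0,2], [[0]]), (16, [0], [])]⟩,
  ⟨131, [0,10,14,16,22,24,8,0,18,16,0], [([4,1], [8]), ([24,11,16,14,0], [8,4])], [(16, [0,2], [])]⟩,
  ⟨132, [0,10,14,22,24,0,16,32,10], [([16,11,1], [0,20]), ([4,1], [4,16,4])], [(20, [0,2,0,0,0], [])]⟩,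
  ⟨133, [0,10,22,0], [([4,1], [26,0]), ([24,4,16,4,10,5,0], [17,8,0])], [(8, [2,0,2,0,2,0,2,2,0,2,0,2], [[0]]), (16, [0], [])]⟩,
  ⟨134, [0,10,22,0], [([4,1], [11,17,4]), ([24,17,10,4,1], [24,10,16,18,0])], [(8, [2,0,2,0,2,0,2,2,0,2,2,0,2,0,2,2], [[0]]), (16, [0], [])]⟩,
  ⟨135, [0,10,14,16,22,24,8,0,18,16,0], [([4,1], [9,1]), ([24,11,16,14,0], [21,17,0])], [(16, [0,2], [])]⟩,
  ⟨136, [22,24], [([16,11,1], [28,33,14,31]), ([4,1], [19,23,11]), ([16], [15,16,31,27,1])], [(8, [4,0,2,4,0,4,2,0], [[0], [2]]), (20, [0,2,0,0,0], [])]⟩]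
def ES5 : List ER := [⟨151, [18], [([4,0], [22,14,4]), ([8], [0,20,0]), ([8,16], [15,8,0])], [(3, [4,0,2,4,0,2,0,4], [[0], [2]]), (8, [0,2,0,0,0], [])]⟩,
  ⟨152, [18], [([4,0], [20,0]), ([4], [20]), ([10,14], [14,10])], [(3, [4,0,2,4,0,2,0,4], [[0], [2]]), (8, [0,2,0,0,0], [])]⟩,
  ⟨153, [18], [([4,0], [15,8,0]), ([0], [0,20,0]), ([10], [4,11,4])], [(3, [4,0,2,4,0,2,4,4], [[0], [2]]), (8, [0,2,0,0,0], [])]⟩,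
  ⟨154, [10,14,16,18,10,20,10,0], [([0,8], [20,0]), ([0], [0,20,0])], [(8, [0,2,0,0,0], [])]⟩,
  ⟨155, [10,14,16,18,10,20,10,0], [([0,4], [28,1]), ([0], [24])], [(8, [0,2,0,0,0], [])]⟩,
  ⟨156, [4,10,14,18,22,0,24], [([0,11,0,8], [15]), ([0], [26,5])], [(20, [0,2,0,0,0], [])]⟩,
  ⟨157, [10,14,16,18,10,20,10,0], [([4,0], [10]), ([0,4,0], [24])], [(8, [0,2,0,0,0], [])]⟩,
  ⟨158, [4,10,14,18,22,0,24], [([0,4,16,4], [0,11]), ([0], [28])], [(20, [0,2,0,0,0], [])]⟩,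
  ⟨159, [4,10,14,18,22,0,24], [([0,11,0,8], [19,17,4]), ([0], [32])], [(20, [0,2,0,0,0], [])]⟩,
  ⟨160, [4,10,14,18,22,0,24], [([4,16,4,0], [0,21,1]), ([0], [26,16,10])], [(20, [0,2,0,0,0], [])]⟩,
  ⟨161, [0,4,10,16,18,22,10,20,0,8], [([8,10,0,4,0], [8,0])], [(3, [0], [])]⟩,
  ⟨162, [4,10,14,18,22,0,24], [([11,0,8,0], [22,14,4]), ([11,0,8], [20])], [(20, [0,2,0,0,0], [])]⟩,
  ⟨163, [0,4,10,16,18,22,10,20,0,8], [([8,10,0,4,0], [8])], [(3, [0], [])]⟩,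
  ⟨164, [0,4,10,16,18,22,10,20,0,8], [([8,10,0,4,0], [8,0])], [(3, [0], [])]⟩,
  ⟨165, [0,4,10,14,16,18,10,20,10,4,0], [([8], [0])], [(7, [0], [])]⟩,
  ⟨166, [18], [([0,4], [16,19,0]), ([4], [15,1]), ([10,0], [19,27,31,22,9])], [(3, [4,0,2,4,0,2,4], [[0], [2]]), (8, [0,2,0,0,0], [])]⟩]
def ES6 : List ER := [⟨184, [16,22], [([1,11,9,1], [23,1,23]), ([11,0], [23,11,16,0])], [(52, [0,2,0,2,0,0,2,2,0,0,2,0], [])]⟩,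
  ⟨185, [16,22], [([11,8,1], [31,5,20]), ([4,0], [23,9,14])], [(52, [0,2,0,2,0,2,0,2,2,0], [])]⟩,
  ⟨186, [16,22], [([10], [0,11]), ([9], [9])], [(52, [0,2,0,2,0,2,0,2,0,2,0], [])]⟩,
  ⟨187, [16,22], [([10], [18,11]), ([10,4], [10])], [(52, [0,2,0,2,0,2,0,2,0,2,0], [])]⟩,
  ⟨188, [22], [([8,0], [32,10,0]), ([16,10], [24,19,32])], [(8, [2,0,2,0,2,0,2,2,0,2,2,0,2,0,2,2], [[0]]), (16, [0], [])]⟩,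
  ⟨189, [0,8,10,16,22,28,4,20,0], [([8,0], [8])], [(16, [0], [])]⟩,
  ⟨190, [22], [([8,0], [19,16]), ([16,10], [0,16,24,0])], [(8, [2,0,2,0,2,0,2,2,0,2,2,0,2,0,2,2], [[0]]), (16, [0], [])]⟩,
  ⟨191, [0,8,10,16,22,28,4,20,0], [([8,0], [9,1])], [(16, [0], [])]⟩,
  ⟨192, [22], [([8,0], [16,16]), ([16,11], [16,11])], [(8, [2,0,2,0,2,0,2,0,2,0,2,2,0,2,0,2], [[0]]), (16, [0], [])]⟩,
  ⟨193, [0,8,10,16,22,28,4,20,0], [([8,0], [0])], [(16, [0], [])]⟩,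
  ⟨194, [10,16,22,4], [([16,1,11,8,0], [38,36]), ([1], [38,32])], [(20, [0,2,0,0,2,0,2,0], [])]⟩,
  ⟨195, [10,16,22,4], [([16,1,11,8,1], [21,17]), ([9,0], [4,0])], [(20, [0,2,0,0,2,0,2,0], [])]⟩,
  ⟨196, [0,8,16,22,10], [([11], [22,14,4]), ([11,8,0], [0])], [(16, [0,2,0,0,0], [])]⟩,
  ⟨197, [0,8,16,22,10], [([11], [23,10,20]), ([8,0], [30,1,23])], [(16, [0,2,0,0,0], [])]⟩,
  ⟨198, [22], [([8,0], [21,27,4,0]), ([16,11,1], [30,4,22,14,28,23,5])], [(8, [2,0,2,0,2,0,2,2,0,2,2,0,2,0,2,2], [[0]]), (16, [0], [])]⟩,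
  ⟨199, [0,8,10,16,22,28,4,20,0], [([8,0], [22,8,10])], [(16, [0], [])]⟩,
  ⟨200, [10,16,22,4], [([16,1,11,1], [31,11]), ([0], [4,1])], [(20, [0,2,0,2,0,2,0], [])]⟩,
  ⟨201, [10,16,22,4], [([16,1,11,9], [16,20]), ([9], [1])], [(20, [0,2,0,0,2,0,2,0], [])]⟩,
  ⟨202, [0,8,16,22,10], [([10], [20,0]), ([8,0], [0])], [(16, [0,2,0,0,0], [])]⟩,
  ⟨203, [0,8,16,22,10], [([10], [30,17]), ([8,0], [24,11])], [(16, [0,2,0,0,0], [])]⟩,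
  ⟨204, [0,4,16,22,0,0], [([0,11], [22,14,4]), ([11,9], [24,10,4])], [(8, [0,2,0,0,0], [])]⟩,
  ⟨205, [0,4,10,16,22,20,8], [([9,1], [5,0]), ([16,1,11,0], [24,11,16,14,0])], [(8, [0,2], [])]⟩,
  ⟨206, [0,4,10,16,22,24,20,0,0], [([16,1,11,0], [30,28])], [(0, [0], [])]⟩,
  ⟨207, [0,4,16,22,0,0], [([0,11], [11,15]), ([9,1], [18,10,1])], [(8, [0,2,0,0,0], [])]⟩,
  ⟨208, [0,4,10,16,22,20,8], [([9,1], [9,1]), ([16,1,11,0], [24,17,0])], [(8, [0,2], [])]⟩,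
  ⟨209, [0,4,10,16,22,24,20,0,0], [([16,1,11,0], [21,17,0])], [(0, [0], [])]⟩,
  ⟨210, [0,4,10,16,22,20,8], [([9,1], [8]), ([16,1,11,0], [6,13,0,0])], [(8, [0,2], [])]⟩,
  ⟨211, [0,4,10,16,22,24,20,0,0], [([16,1,11,0], [16,0])], [(0, [0], [])]⟩,
  ⟨212, [0,4,10,16,22,20,10,4,0], [([16,1,11,4,1], [16,20,1])], [(0, [0], [])]⟩,
  ⟨213, [0,4,10,16,22,20,8], [([9,1], [8]), ([16,1,11,0], [12,7,1,1])], [(8, [0,2], [])]⟩]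
def ES7 : List ER := [⟨236, [0,4,10,24,26,30,42,16,36,24,42,26,16], [([36,38], [21,17]), ([16,4], [21,17,0])], [(20, [0,2,0,0,2,0,0,0], [])]⟩,
  ⟨237, [30,32,34,36,42,24,28,36,26], [([28,16,10,0], [40,29,22,40]), ([28,16,10,4], [42,16,43,32]), ([4,26], [24,40,22,30])], [(8, [4,0,2,4,0,4,2,4], [[0], [2]]), (0, [0,2,0], [])]⟩]
def ES8 : List ER := [⟨245, [0,4,6,12,0,8,12,0,4,6,0,12,0], [([8], [0,20,0])], [(16, [0], [])]⟩,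
  ⟨246, [0,4,6,12,0,8,12,0,4,6,0,12,0], [([8], [9,1])], [(16, [0], [])]⟩,
  ⟨247, [0,4,6,12,0,8,6,0,8,12,6,0], [([8], [16,16]), ([12,7,1,1], [30,8])], [(20, [0,2], [])]⟩,
  ⟨248, [0,4,6,12,0,8,6,0,8,12,6,0], [([8], [9,1]), ([12,7,1,1], [21,17,0])], [(20, [0,2], [])]⟩,
  ⟨249, [0,4,6,12,0,8,6,0,8,12,6,0], [([8], [8,12,4,6]), ([6,13,0,0], [8,4])], [(20, [0,2], [])]⟩,
  ⟨250, [4,6,8,12,0,8,12,4,0,8], [([1], [1])], [(0, [0,0,0,0], [])]⟩,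
  ⟨251, [0,6,12,4,0,8,0,6,8,0,12,0], [([4], [24,17,8,16,0]), ([8], [8])], [(16, [0,2], [])]⟩]
def ES : List (List ER) := [ES0, ES1, ES2, ES3, ES4, ES5, ES6, ES7, ES8]
theorem hu0 : sub (full C.n) (uni C FM (nth GW [] 0) (nth ES [] 0)) = true := by decide +kernel
theorem he0_0 : lall (ES0) (erOK C lk B FM 252 9 GW 177408000 0 ES0) = true := by decide +kernel
theorem he0 : lall (ES0) (erOK C lk B FM 252 9 GW 177408000 0 ES0) = true := he0_0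
theorem hu1 : sub (full C.n) (uni C FM (nth GW [] 1) (nth ES [] 1)) = true := by decide +kernel
theorem he1_0 : lall (ltake (ES1) 5) (erOK C lk B FM 252 9 GW 126000 1 ES1) = true := by decide +kernel
theorem he1_1 : lall (ldrop (ES1) 5) (erOK C lk B FM 252 9 GW 126000 1 ES1) = true := by decide +kernel
theorem he1 : lall (ES1) (erOK C lk B FM 252 9 GW 126000 1 ES1) = true := (lall_split 5 he1_0 he1_1)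
theorem hu2 : sub (full C.n) (uni C FM (nth GW [] 2) (nth ES [] 2)) = true := by decide +kernel
theorem he2_0 : lall (ltake (ES2) 7) (erOK C lk B FM 252 9 GW 5040 2 ES2) = true := by decide +kernel
theorem he2_1 : lall (ldrop (ES2) 7) (erOK C lk B FM 252 9 GW 5040 2 ES2) = true := by decide +kernel
theorem he2 : lall (ES2) (erOK C lk B FM 252 9 GW 5040 2 ES2) = true := (lall_split 7 he2_0 he2_1)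
theorem hu3 : sub (full C.n) (uni C FM (nth GW [] 3) (nth ES [] 3)) = true := by decide +kernel
theorem he3_0 : lall (ES3) (erOK C lk B FM 252 9 GW 80640 3 ES3) = true := by decide +kernel
theorem he3 : lall (ES3) (erOK C lk B FM 252 9 GW 80640 3 ES3) = true := he3_0
theorem hu4 : sub (full C.n) (uni C FM (nth GW [] 4) (nth ES [] 4)) = true := by decide +kernel
theorem he4_0 : lall (ltake (ES4) 8) (erOK C lk B FM 252 9 GW 1440 4 ES4) = true := by decide +kernel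
theorem he4_1 : lall (ldrop (ES4) 8) (erOK C lk B FM 252 9 GW 1440 4 ES4) = true := by decide +kernel
theorem he4 : lall (ES4) (erOK C lk B FM 252 9 GW 1440 4 ES4) = true := (lall_split 8 he4_0 he4_1)
theorem hu5 : sub (full C.n) (uni C FM (nth GW [] 5) (nth ES [] 5)) = true := by decide +kernel
theorem he5_0 : lall (ltake (ES5) 8) (erOK C lk B FM 252 9 GW 500 5 ES5) = true := by decide +kernel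
theorem he5_1 : lall (ldrop (ES5) 8) (erOK C lk B FM 252 9 GW 500 5 ES5) = true := by decide +kernel
theorem he5 : lall (ES5) (erOK C lk B FM 252 9 GW 500 5 ES5) = true := (lall_split 8 he5_0 he5_1)
theorem hu6 : sub (full C.n) (uni C FM (nth GW [] 6) (nth ES [] 6)) = true := by decide +kernel
theorem he6_0 : lall (ltake (ltake (ES6) 15) 7) (erOK C lk B FM 252 9 GW 240 6 ES6) = true := by decide +kernel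
theorem he6_1 : lall (ldrop (ltake (ES6) 15) 7) (erOK C lk B FM 252 9 GW 240 6 ES6) = true := by decide +kernel
theorem he6_2 : lall (ltake (ldrop (ES6) 15) 7) (erOK C lk B FM 252 9 GW 240 6 ES6) = true := by decide +kernel
theorem he6_3 : lall (ldrop (ldrop (ES6) 15) 7) (erOK C lk B FM 252 9 GW 240 6 ES6) = true := by decide +kernel
theorem he6 : lall (ES6) (erOK C lk B FM 252 9 GW 240 6 ES6) = true := (lall_split 15 (lall_split 7 he6_0 he6_1) (lall_split 7 he6_2 he6_3))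
theorem hu7 : sub (full C.n) (uni C FM (nth GW [] 7) (nth ES [] 7)) = true := by decide +kernel
theorem he7_0 : lall (ES7) (erOK C lk B FM 252 9 GW 30720 7 ES7) = true := by decide +kernel
theorem he7 : lall (ES7) (erOK C lk B FM 252 9 GW 30720 7 ES7) = true := he7_0
theorem hu8 : sub (full C.n) (uni C FM (nth GW [] 8) (nth ES [] 8)) = true := by decide +kernel
theorem he8_0 : lall (ES8) (erOK C lk B FM 252 9 GW 640 8 ES8) = true := by decide +kernel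
theorem he8 : lall (ES8) (erOK C lk B FM 252 9 GW 640 8 ES8) = true := he8_0
theorem hES : ∀ q < 252, (fget FM q).a = 1408 ∧ (fget FM q).j = (fget FM q).i ∧ (fget FM q).i < 9 ∧
    (fget FM q).h ∈ nth GW [] (fget FM q).i ∨ ∃ i < 9, q ∈ lmap ER.e (nth ES [] i) := by decide +kernel
end
end CA.HNT
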