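import Cfsg.Agent.Lib.Spor.H22Co
import Cfsg.Agent.Lib.Grp.SchurMon
set_option autoImplicit false
set_option maxRecDepth 100000
set_option linter.all false
set_option Elab.async false
namespace CA.HSCov2
open Cfsg CA.SchurHopf CA.SchurPc CA.SchurCG CA.SchurLow CA.CWord CA.Leech CA.H22Co
open CA.NatBits (allL)
open CA.CNet CA.CLevel CA.CSimple CA.CPoint CA.CTodd
universe u
noncomputable section
def rels : List Word := [[0,0,0], [2,2,2,2], [0,2,0,2,0,2,0,2], [0,2,0,3,0,2,0,3], [0,2,2,0,2,2,0,2,2], [4,4], [0,4,0,4,0,4], [2,2,4,2,2,4,2,2,4], [0,2,4,1,3,0,2,4,1,3], [0,2,1,2,4,3,1,4,0,2,4,2], [6,6], [2,6,2,6], [0,3,6,1,3,6], [2,2,4,6,4,2,2,4,6,4,6], [8,8], [0,8,1,8], [0,2,0,8,2,8], [0,2,4,1,3,8,4,8], [0,6,8,6,1,8,2,6,8]]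
namespace T4
noncomputable def A_0 : List (ℕ) := [nat_lit 0x2020120100a00]
noncomputable def A : List (List (ℕ)) := [A_0]
noncomputable def K_0 : List (ℕ) := [nat_lit 0x4060000]
noncomputable def K : List (List (ℕ)) := [K_0]
noncomputable def R_0 : List (Rule) := [Rule.mk (nat_lit 1) (nat_lit 19) (Steps.bwd (nat_lit 1) (Steps.bwd (nat_lit 1) Steps.nil)) (nat_lit 0) (nat_lit 0)]
noncomputable def R : List (List (Rule)) := [R_0]
def LW : List Word := [[], [0], [1]]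
def par : Par := ⟨9, 2, 11, 20, 511, 2047, 1048575⟩
theorem hpar : par.ok := by decide
theorem hR0_0 : lall (R) (fun l => lall l (ruleOK rels LW par)) = true := by decide +kernel
theorem hR0 : lall (R) (fun l => lall l (ruleOK rels LW par)) = true := hR0_0
theorem hR : RulesOK rels LW par R := rulesOK_of rfl hR0
def cols : List (ℕ × ℕ) := [(512, 2)]
theorem hcols : lall cols (colOK rels LW par) = true := by decide +kernel
noncomputable def JS0 : List ℕ := [nat_lit 0x401]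
theorem S0_c : blocks (facts 9 2 11 20 511 2047 1048575 9 511 1 1 A R 32) 32 JS0 257 = true := by decide +kernel
theorem S0 : On (Step.{u} rels LW par A) 257 289 :=
  steps_of_blocks hpar hR S0_c (by decide +kernel)
theorem D0_c : allB (defOK 9 11 20 511 1048575 258 A K) 1 2 = true := by decide +kernel
theorem D0 : On (fun r => defOK par.W par.WL par.E par.mW par.mE 258 A K r = true) 256 384 :=
  On.of_allB D0_c
noncomputable def JW0 : List ℕ := [nat_lit 0x3e10042]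
theorem W0_c : blocks (rows 9 2 11 20 511 2047 1048575 10 1023 10 A 289 3 cols 128) 128 JW0 0 = true := by decide +kernel
theorem W0 : On (Row.{u} rels LW par A 289 3 cols) 0 128 :=
  rows_of_blocks hpar (by decide) hcols W0_c (by decide +kernel)
theorem idx : Idx.{u} rels [[0]] [] 3 :=
  idx_of_cert hpar hR (K := K) (by decide +kernel) (T := 258) (T' := 384) (by decide) D0
    (subs := []) (by decide +kernel) (T1 := 257) (by decide) (N := 289) S0
    (by decide) (n' := 128) (by decide) W0 (by decide +kernel) (by decide +kernel)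
end T4
theorem b4 : Bound.{u} rels [[0]] 3 := .of_idx T4.idx (.nil _) (by decide)
namespace T3
noncomputable def A_0 : List (ℕ) := [nat_lit 0xe309076048228241581d0e20e87d07028c3e1961e0f10f0388641482a092140590480d8242d0160a8160d20b03d0283501e0e81a0810701e040268361721b0440981d84418c300d6170290680881c0240801805001000490203a83e1c8150fb0c879850324201540f0a10582584c17008164180530203e018344300e6060840d86e0442642e11208043018618342ec180d20c0610281c8180c40404203019008160080500001600]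
noncomputable def A : List (List (ℕ)) := [A_0]
noncomputable def K_0 : List (ℕ) := [nat_lit 0x8dc6a3b1c87446330a84c52311786c7a190f8944211078ac4e2d0b83416050481c060000]
noncomputable def K : List (List (ℕ)) := [K_0]
noncomputable def R_0 : List (Rule) := [Rule.mk (nat_lit 4) (nat_lit 32) (Steps.bwd (nat_lit 4) (Steps.bwd (nat_lit 4) (Steps.fwd (nat_lit 1536) Steps.nil))) (nat_lit 3) (nat_lit 0),
  Rule.mk (nat_lit 1) (nat_lit 23) (Steps.bwd (nat_lit 1) (Steps.bwd (nat_lit 1) Steps.nil)) (nat_lit 0) (nat_lit 0),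
  Rule.mk (nat_lit 3) (nat_lit 77) (Steps.bwd (nat_lit 3) (Steps.bwd (nat_lit 1) (Steps.fwd (nat_lit 2048) (Steps.bwd (nat_lit 3) (Steps.bwd (nat_lit 1) (Steps.fwd (nat_lit 2048) (Steps.fwd (nat_lit 2048) (Steps.bwd (nat_lit 1) Steps.nil)))))))) (nat_lit 8) (nat_lit 2),
  Rule.mk (nat_lit 3) (nat_lit 32) (Steps.bwd (nat_lit 3) (Steps.bwd (nat_lit 3) (Steps.bwd (nat_lit 3) Steps.nil))) (nat_lit 2) (nat_lit 0),
  Rule.mk (nat_lit 3) (nat_lit 68) (Steps.bwd (nat_lit 1) (Steps.bwd (nat_lit 3) (Steps.bwd (nat_lit 1) (Steps.bwd (nat_lit 3) (Steps.bwd (nat_lit 1) (Steps.fwd (nat_lit 2048) (Steps.bwd (nat_lit 1) Steps.nil))))))) (nat_lit 4) (nat_lit 0),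
  Rule.mk (nat_lit 4) (nat_lit 68) (Steps.bwd (nat_lit 1) (Steps.bwd (nat_lit 3) (Steps.bwd (nat_lit 1) (Steps.bwd (nat_lit 4) (Steps.bwd (nat_lit 1) (Steps.bwd (nat_lit 3) (Steps.bwd (nat_lit 1) Steps.nil))))))) (nat_lit 6) (nat_lit 0),
  Rule.mk (nat_lit 1) (nat_lit 68) (Steps.bwd (nat_lit 4) (Steps.bwd (nat_lit 1) (Steps.bwd (nat_lit 3) (Steps.bwd (nat_lit 1) (Steps.bwd (nat_lit 4) (Steps.bwd (nat_lit 1) (Steps.bwd (nat_lit 3) Steps.nil))))))) (nat_lit 6) (nat_lit 3),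
  Rule.mk (nat_lit 2) (nat_lit 77) (Steps.bwd (nat_lit 4) (Steps.fwd (nat_lit 1536) (Steps.fwd (nat_lit 512) (Steps.bwd (nat_lit 4) (Steps.fwd (nat_lit 1536) (Steps.fwd (nat_lit 512) (Steps.fwd (nat_lit 1536) (Steps.bwd (nat_lit 4) Steps.nil)))))))) (nat_lit 9) (nat_lit 0),
  Rule.mk (nat_lit 1) (nat_lit 68) (Steps.bwd (nat_lit 3) (Steps.bwd (nat_lit 1) (Steps.fwd (nat_lit 2048) (Steps.bwd (nat_lit 1) (Steps.bwd (nat_lit 3) (Steps.bwd (nat_lit 1) (Steps.fwd (nat_lit 2048) Steps.nil))))))) (nat_lit 4) (nat_lit 1),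
  Rule.mk (nat_lit 4) (nat_lit 68) (Steps.bwd (nat_lit 1) (Steps.bwd (nat_lit 3) (Steps.bwd (nat_lit 1) (Steps.fwd (nat_lit 1536) (Steps.bwd (nat_lit 1) (Steps.fwd (nat_lit 2048) (Steps.bwd (nat_lit 1) Steps.nil))))))) (nat_lit 6) (nat_lit 0),
  Rule.mk (nat_lit 4) (nat_lit 32) (Steps.bwd (nat_lit 4) (Steps.fwd (nat_lit 1536) (Steps.bwd (nat_lit 4) Steps.nil))) (nat_lit 3) (nat_lit 0),
  Rule.mk (nat_lit 2) (nat_lit 68) (Steps.bwd (nat_lit 3) (Steps.fwd (nat_lit 512) (Steps.bwd (nat_lit 4) (Steps.fwd (nat_lit 512) (Steps.bwd (nat_lit 3) (Steps.fwd (nat_lit 512) (Steps.bwd (nat_lit 4) Steps.nil))))))) (nat_lit 7) (nat_lit 0),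
  Rule.mk (nat_lit 2) (nat_lit 23) (Steps.bwd (nat_lit 2) (Steps.fwd (nat_lit 512) Steps.nil)) (nat_lit 1) (nat_lit 0),
  Rule.mk (nat_lit 4) (nat_lit 68) (Steps.bwd (nat_lit 2) (Steps.fwd (nat_lit 1536) (Steps.fwd (nat_lit 512) (Steps.fwd (nat_lit 1536) (Steps.fwd (nat_lit 512) (Steps.bwd (nat_lit 4) (Steps.bwd (nat_lit 2) Steps.nil))))))) (nat_lit 5) (nat_lit 1),
  Rule.mk (nat_lit 3) (nat_lit 32) (Steps.bwd (nat_lit 3) (Steps.fwd (nat_lit 2048) (Steps.bwd (nat_lit 3) Steps.nil))) (nat_lit 2) (nat_lit 0),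
  Rule.mk (nat_lit 1) (nat_lit 68) (Steps.bwd (nat_lit 3) (Steps.bwd (nat_lit 1) (Steps.bwd (nat_lit 3) (Steps.bwd (nat_lit 1) (Steps.fwd (nat_lit 2048) (Steps.bwd (nat_lit 1) (Steps.fwd (nat_lit 2048) Steps.nil))))))) (nat_lit 4) (nat_lit 1),
  Rule.mk (nat_lit 2) (nat_lit 23) (Steps.bwd (nat_lit 2) (Steps.bwd (nat_lit 2) Steps.nil)) (nat_lit 1) (nat_lit 0),
  Rule.mk (nat_lit 1) (nat_lit 68) (Steps.bwd (nat_lit 3) (Steps.bwd (nat_lit 1) (Steps.bwd (nat_lit 4) (Steps.bwd (nat_lit 1) (Steps.bwd (nat_lit 3) (Steps.bwd (nat_lit 1) (Steps.fwd (nat_lit 1536) Steps.nil))))))) (nat_lit 6) (nat_lit 1),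
  Rule.mk (nat_lit 3) (nat_lit 77) (Steps.bwd (nat_lit 3) (Steps.bwd (nat_lit 1) (Steps.fwd (nat_lit 2048) (Steps.fwd (nat_lit 2048) (Steps.fwd (nat_lit 1024) (Steps.fwd (nat_lit 2048) (Steps.fwd (nat_lit 2048) (Steps.bwd (nat_lit 1) Steps.nil)))))))) (nat_lit 8) (nat_lit 2),
  Rule.mk (nat_lit 2) (nat_lit 68) (Steps.bwd (nat_lit 4) (Steps.bwd (nat_lit 2) (Steps.bwd (nat_lit 4) (Steps.fwd (nat_lit 512) (Steps.bwd (nat_lit 4) (Steps.fwd (nat_lit 512) (Steps.fwd (nat_lit 1536) Steps.nil))))))) (nat_lit 5) (nat_lit 0),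
  Rule.mk (nat_lit 4) (nat_lit 68) (Steps.bwd (nat_lit 2) (Steps.fwd (nat_lit 1536) (Steps.fwd (nat_lit 512) (Steps.fwd (nat_lit 1536) (Steps.fwd (nat_lit 512) (Steps.fwd (nat_lit 1536) (Steps.bwd (nat_lit 2) Steps.nil))))))) (nat_lit 5) (nat_lit 1),
  Rule.mk (nat_lit 4) (nat_lit 68) (Steps.bwd (nat_lit 2) (Steps.bwd (nat_lit 3) (Steps.fwd (nat_lit 512) (Steps.fwd (nat_lit 1536) (Steps.bwd (nat_lit 2) (Steps.fwd (nat_lit 2048) (Steps.bwd (nat_lit 2) Steps.nil))))))) (nat_lit 7) (nat_lit 3),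
  Rule.mk (nat_lit 3) (nat_lit 68) (Steps.bwd (nat_lit 2) (Steps.bwd (nat_lit 4) (Steps.bwd (nat_lit 2) (Steps.fwd (nat_lit 2048) (Steps.fwd (nat_lit 512) (Steps.fwd (nat_lit 1536) (Steps.bwd (nat_lit 2) Steps.nil))))))) (nat_lit 7) (nat_lit 1)]
noncomputable def R : List (List (Rule)) := [R_0]
def LW : List Word := [[], [0], [1], [2], [3], [0], [1]]
def par : Par := ⟨9, 3, 12, 21, 511, 4095, 2097151⟩
theorem hpar : par.ok := by decide
theorem hR0_0 : lall (R) (fun l => lall l (ruleOK rels LW par)) = true := by decide +kernel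
theorem hR0 : lall (R) (fun l => lall l (ruleOK rels LW par)) = true := hR0_0
theorem hR : RulesOK rels LW par R := rulesOK_of rfl hR0
def cols : List (ℕ × ℕ) := [(512, 2), (1536, 4)]
theorem hcols : lall cols (colOK rels LW par) = true := by decide +kernel
noncomputable def JS0 : List ℕ := [nat_lit 0x823128bc2a17105c0421040a872320fd8601e681850370481c041ea8003b10f0801e33138843b40f0003a40082c140903818401d98700404190843e1c9028382030722000e083a11090ac52250e404c0a0dbc001d0dac02020f0944e0a0db83a1a6800380813034181a6000381a580038031108c421a506c0406038a04a1a480c361a08043a251409c0c020d20060403890381b0c9c3400020903e1d0c98062403094441a0c9436000d1000211101046030e06861b0d08381b10743820f8783a1]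
theorem S0_c : blocks (facts 9 3 12 21 511 4095 2097151 9 511 5 31 A R 32) 32 JS0 287 = true := by decide +kernel
theorem S0 : On (Step.{u} rels LW par A) 287 319 :=
  steps_of_blocks hpar hR S0_c (by decide +kernel)
theorem D0_c : allB (defOK 9 12 21 511 2097151 287 A K) 1 2 = true := by decide +kernel
theorem D0 : On (fun r => defOK par.W par.WL par.E par.mW par.mE 287 A K r = true) 256 384 :=
  On.of_allB D0_c
noncomputable def JW0 : List ℕ := [nat_lit 0x300b0381000c4511c0918c2e09421120120d05c0d8640745701c4f128161482d000430c8051844c16c2309c281a8381b06e1545007c15068180c4660ac3a178721ec701603c1a0761f4740fc781f840]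
theorem W0_c : blocks (rows 9 3 12 21 511 4095 2097151 10 1023 20 A 319 32 cols 64) 64 JW0 0 = true := by decide +kernel
theorem W0 : On (Row.{u} rels LW par A 319 32 cols) 0 64 :=
  rows_of_blocks hpar (by decide) hcols W0_c (by decide +kernel)
theorem idx : Idx.{u} rels [[0], [2]] [[0]] 32 :=
  idx_of_cert hpar hR (K := K) (by decide +kernel) (T := 287) (T' := 384) (by decide) D0
    (subs := [1]) (by decide +kernel) (T1 := 287) (by decide) (N := 319) S0
    (by decide) (n' := 64) (by decide) W0 (by decide +kernel) (by decide +kernel)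
end T3
theorem b3 : Bound.{u} rels [[0], [2]] 96 := .of_idx T3.idx b4 (by decide)
namespace T2
noncomputable def A_0 : List (ℕ) := [nat_lit 0xa98bc5082f17a8bc7642f1688b02a42c1628b45a82c1aa0b47283b1d20e456a391410e46083a1b28e822a281728904042e1808b860a161008c06a6201d88d4688340fa8d06e2341ba0c8648371328dc4aa1e1b1094542250f1894568361198d870a381518741861e15887836a1b0e287028a211128401e60c09a090488130988ac4642402a83c2ea230b105c122170e185c2c61c0588704c6160810984461110a0440e41114a89c4e83809209c24a2a14a048526381890e0284290fa0346681f0da0cc1a81b1110843022104a8381c622028838308310ca864322190ea8743421d060868108140408200c81005a82c0880b0208280ca060120180620200880c006000008005e4351620805a4151c90e8744281418b85c6151818ec40a0d1aa8cc76a311a08c86e4321928602aa0812983c6c22a0f084c5661a09a81c4840f07908c4681a0b98983821b0b08244c4270890484e410152074244071c10cc5241f0f9050664310d882c4260e1108601c20d068814628190ca0283060a0e883034a0a0628102880904a00c1060308201c0e80205a0140a8010508180c20402180406a0201080402a00]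
noncomputable def A : List (List (ℕ)) := [A_0]
noncomputable def K_0 : List (ℕ) := [nat_lit 0x984da6f1b974aa632f8c4b625339d4d271399447635358f4825726924562d328cca61f228bc3a231091c86590c93c723f0992c52270d83c16170a844120d03814060000]
noncomputable def K : List (List (ℕ)) := [K_0]
noncomputable def R_0 : List (Rule) := [Rule.mk (nat_lit 1) (nat_lit 52) (Steps.bwd (nat_lit 5) (Steps.bwd (nat_lit 1) (Steps.bwd (nat_lit 5) (Steps.bwd (nat_lit 1) (Steps.fwd (nat_lit 2560) Steps.nil))))) (nat_lit 12) (nat_lit 1),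
  Rule.mk (nat_lit 1) (nat_lit 25) (Steps.bwd (nat_lit 1) (Steps.bwd (nat_lit 1) Steps.nil)) (nat_lit 0) (nat_lit 0),
  Rule.mk (nat_lit 4) (nat_lit 88) (Steps.bwd (nat_lit 1) (Steps.bwd (nat_lit 3) (Steps.bwd (nat_lit 5) (Steps.fwd (nat_lit 512) (Steps.fwd (nat_lit 1536) (Steps.bwd (nat_lit 1) (Steps.bwd (nat_lit 3) (Steps.fwd (nat_lit 2560) (Steps.fwd (nat_lit 512) Steps.nil))))))))) (nat_lit 16) (nat_lit 0),
  Rule.mk (nat_lit 5) (nat_lit 106) (Steps.bwd (nat_lit 1) (Steps.bwd (nat_lit 3) (Steps.bwd (nat_lit 5) (Steps.bwd (nat_lit 3) (Steps.bwd (nat_lit 1) (Steps.bwd (nat_lit 3) (Steps.fwd (nat_lit 512) (Steps.bwd (nat_lit 3) (Steps.fwd (nat_lit 2560) (Steps.fwd (nat_lit 1536) (Steps.fwd (nat_lit 512) Steps.nil))))))))))) (nat_lit 18) (nat_lit 8),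
  Rule.mk (nat_lit 4) (nat_lit 34) (Steps.bwd (nat_lit 4) (Steps.bwd (nat_lit 4) (Steps.fwd (nat_lit 1536) Steps.nil))) (nat_lit 3) (nat_lit 0),
  Rule.mk (nat_lit 5) (nat_lit 79) (Steps.bwd (nat_lit 4) (Steps.bwd (nat_lit 4) (Steps.bwd (nat_lit 5) (Steps.fwd (nat_lit 1536) (Steps.fwd (nat_lit 1536) (Steps.fwd (nat_lit 2560) (Steps.fwd (nat_lit 1536) (Steps.bwd (nat_lit 4) Steps.nil)))))))) (nat_lit 15) (nat_lit 1),
  Rule.mk (nat_lit 4) (nat_lit 34) (Steps.bwd (nat_lit 4) (Steps.bwd (nat_lit 4) (Steps.bwd (nat_lit 4) Steps.nil))) (nat_lit 3) (nat_lit 0),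
  Rule.mk (nat_lit 1) (nat_lit 70) (Steps.bwd (nat_lit 3) (Steps.bwd (nat_lit 1) (Steps.bwd (nat_lit 4) (Steps.bwd (nat_lit 1) (Steps.bwd (nat_lit 3) (Steps.bwd (nat_lit 1) (Steps.fwd (nat_lit 1536) Steps.nil))))))) (nat_lit 6) (nat_lit 1),
  Rule.mk (nat_lit 1) (nat_lit 52) (Steps.bwd (nat_lit 5) (Steps.bwd (nat_lit 1) (Steps.fwd (nat_lit 2560) (Steps.bwd (nat_lit 1) (Steps.fwd (nat_lit 2560) Steps.nil))))) (nat_lit 12) (nat_lit 1),
  Rule.mk (nat_lit 5) (nat_lit 52) (Steps.bwd (nat_lit 1) (Steps.bwd (nat_lit 5) (Steps.bwd (nat_lit 1) (Steps.fwd (nat_lit 2560) (Steps.bwd (nat_lit 1) Steps.nil))))) (nat_lit 12) (nat_lit 0),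
  Rule.mk (nat_lit 1) (nat_lit 70) (Steps.bwd (nat_lit 4) (Steps.bwd (nat_lit 1) (Steps.fwd (nat_lit 2048) (Steps.bwd (nat_lit 1) (Steps.fwd (nat_lit 1536) (Steps.bwd (nat_lit 1) (Steps.fwd (nat_lit 2048) Steps.nil))))))) (nat_lit 6) (nat_lit 3),
  Rule.mk (nat_lit 5) (nat_lit 88) (Steps.fwd (nat_lit 512) (Steps.bwd (nat_lit 4) (Steps.bwd (nat_lit 1) (Steps.fwd (nat_lit 2048) (Steps.fwd (nat_lit 2560) (Steps.fwd (nat_lit 512) (Steps.fwd (nat_lit 1536) (Steps.bwd (nat_lit 1) (Steps.fwd (nat_lit 2048) Steps.nil))))))))) (nat_lit 16) (nat_lit 3),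
  Rule.mk (nat_lit 3) (nat_lit 70) (Steps.bwd (nat_lit 1) (Steps.bwd (nat_lit 3) (Steps.bwd (nat_lit 1) (Steps.fwd (nat_lit 2048) (Steps.bwd (nat_lit 1) (Steps.fwd (nat_lit 2048) (Steps.bwd (nat_lit 1) Steps.nil))))))) (nat_lit 4) (nat_lit 0),
  Rule.mk (nat_lit 5) (nat_lit 106) (Steps.bwd (nat_lit 3) (Steps.bwd (nat_lit 1) (Steps.bwd (nat_lit 3) (Steps.fwd (nat_lit 512) (Steps.bwd (nat_lit 3) (Steps.bwd (nat_lit 5) (Steps.fwd (nat_lit 1536) (Steps.fwd (nat_lit 512) (Steps.fwd (nat_lit 2560) (Steps.bwd (nat_lit 1) (Steps.fwd (nat_lit 2048) Steps.nil))))))))))) (nat_lit 18) (nat_lit 11),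
  Rule.mk (nat_lit 1) (nat_lit 79) (Steps.bwd (nat_lit 3) (Steps.bwd (nat_lit 3) (Steps.bwd (nat_lit 1) (Steps.bwd (nat_lit 3) (Steps.fwd (nat_lit 2048) (Steps.bwd (nat_lit 1) (Steps.fwd (nat_lit 2048) (Steps.fwd (nat_lit 2048) Steps.nil)))))))) (nat_lit 8) (nat_lit 1),
  Rule.mk (nat_lit 2) (nat_lit 106) (Steps.bwd (nat_lit 3) (Steps.fwd (nat_lit 2560) (Steps.bwd (nat_lit 4) (Steps.fwd (nat_lit 512) (Steps.bwd (nat_lit 5) (Steps.bwd (nat_lit 1) (Steps.bwd (nat_lit 3) (Steps.fwd (nat_lit 2560) (Steps.fwd (nat_lit 2048) (Steps.bwd (nat_lit 1) (Steps.bwd (nat_lit 3) Steps.nil))))))))))) (nat_lit 18) (nat_lit 3),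
  Rule.mk (nat_lit 4) (nat_lit 70) (Steps.bwd (nat_lit 1) (Steps.fwd (nat_lit 2048) (Steps.bwd (nat_lit 1) (Steps.fwd (nat_lit 1536) (Steps.bwd (nat_lit 1) (Steps.bwd (nat_lit 3) (Steps.bwd (nat_lit 1) Steps.nil))))))) (nat_lit 6) (nat_lit 0),
  Rule.mk (nat_lit 4) (nat_lit 70) (Steps.bwd (nat_lit 2) (Steps.bwd (nat_lit 4) (Steps.fwd (nat_lit 512) (Steps.bwd (nat_lit 4) (Steps.fwd (nat_lit 512) (Steps.bwd (nat_lit 4) (Steps.fwd (nat_lit 512) Steps.nil))))))) (nat_lit 5) (nat_lit 1),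
  Rule.mk (nat_lit 4) (nat_lit 79) (Steps.bwd (nat_lit 2) (Steps.bwd (nat_lit 4) (Steps.bwd (nat_lit 4) (Steps.fwd (nat_lit 512) (Steps.fwd (nat_lit 1536) (Steps.bwd (nat_lit 4) (Steps.fwd (nat_lit 512) (Steps.bwd (nat_lit 4) Steps.nil)))))))) (nat_lit 9) (nat_lit 2),
  Rule.mk (nat_lit 2) (nat_lit 25) (Steps.bwd (nat_lit 2) (Steps.bwd (nat_lit 2) Steps.nil)) (nat_lit 1) (nat_lit 0),
  Rule.mk (nat_lit 3) (nat_lit 70) (Steps.bwd (nat_lit 2) (Steps.bwd (nat_lit 4) (Steps.bwd (nat_lit 2) (Steps.fwd (nat_lit 2048) (Steps.fwd (nat_lit 512) (Steps.bwd (nat_lit 4) (Steps.bwd (nat_lit 2) Steps.nil))))))) (nat_lit 7) (nat_lit 1),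
  Rule.mk (nat_lit 4) (nat_lit 70) (Steps.bwd (nat_lit 2) (Steps.bwd (nat_lit 4) (Steps.fwd (nat_lit 512) (Steps.fwd (nat_lit 1536) (Steps.fwd (nat_lit 512) (Steps.bwd (nat_lit 4) (Steps.bwd (nat_lit 2) Steps.nil))))))) (nat_lit 5) (nat_lit 1),
  Rule.mk (nat_lit 5) (nat_lit 106) (Steps.bwd (nat_lit 4) (Steps.fwd (nat_lit 512) (Steps.bwd (nat_lit 5) (Steps.bwd (nat_lit 1) (Steps.fwd (nat_lit 2048) (Steps.fwd (nat_lit 2560) (Steps.fwd (nat_lit 1536) (Steps.bwd (nat_lit 1) (Steps.bwd (nat_lit 4) (Steps.bwd (nat_lit 2) (Steps.bwd (nat_lit 4) Steps.nil))))))))))) (nat_lit 19) (nat_lit 2),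
  Rule.mk (nat_lit 4) (nat_lit 79) (Steps.bwd (nat_lit 2) (Steps.bwd (nat_lit 4) (Steps.bwd (nat_lit 4) (Steps.fwd (nat_lit 512) (Steps.fwd (nat_lit 1536) (Steps.bwd (nat_lit 4) (Steps.bwd (nat_lit 2) (Steps.bwd (nat_lit 4) Steps.nil)))))))) (nat_lit 9) (nat_lit 2),
  Rule.mk (nat_lit 4) (nat_lit 34) (Steps.fwd (nat_lit 1536) (Steps.bwd (nat_lit 4) (Steps.bwd (nat_lit 4) Steps.nil))) (nat_lit 3) (nat_lit 0),
  Rule.mk (nat_lit 5) (nat_lit 88) (Steps.bwd (nat_lit 4) (Steps.bwd (nat_lit 2) (Steps.fwd (nat_lit 2048) (Steps.bwd (nat_lit 1) (Steps.fwd (nat_lit 2560) (Steps.bwd (nat_lit 4) (Steps.fwd (nat_lit 512) (Steps.fwd (nat_lit 2048) (Steps.fwd (nat_lit 1024) Steps.nil))))))))) (nat_lit 17) (nat_lit 3),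
  Rule.mk (nat_lit 4) (nat_lit 70) (Steps.bwd (nat_lit 2) (Steps.fwd (nat_lit 2048) (Steps.bwd (nat_lit 2) (Steps.bwd (nat_lit 4) (Steps.fwd (nat_lit 512) (Steps.bwd (nat_lit 3) (Steps.bwd (nat_lit 2) Steps.nil))))))) (nat_lit 7) (nat_lit 3),
  Rule.mk (nat_lit 3) (nat_lit 70) (Steps.bwd (nat_lit 2) (Steps.bwd (nat_lit 4) (Steps.bwd (nat_lit 2) (Steps.fwd (nat_lit 2048) (Steps.fwd (nat_lit 512) (Steps.fwd (nat_lit 1536) (Steps.fwd (nat_lit 512) Steps.nil))))))) (nat_lit 7) (nat_lit 1),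
  Rule.mk (nat_lit 3) (nat_lit 70) (Steps.bwd (nat_lit 1) (Steps.fwd (nat_lit 2048) (Steps.fwd (nat_lit 1024) (Steps.fwd (nat_lit 2048) (Steps.fwd (nat_lit 1024) (Steps.fwd (nat_lit 2048) (Steps.fwd (nat_lit 1024) Steps.nil))))))) (nat_lit 4) (nat_lit 0),
  Rule.mk (nat_lit 3) (nat_lit 79) (Steps.bwd (nat_lit 1) (Steps.fwd (nat_lit 2048) (Steps.fwd (nat_lit 2048) (Steps.fwd (nat_lit 1024) (Steps.bwd (nat_lit 3) (Steps.fwd (nat_lit 2048) (Steps.fwd (nat_lit 1024) (Steps.bwd (nat_lit 3) Steps.nil)))))))) (nat_lit 8) (nat_lit 0),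
  Rule.mk (nat_lit 3) (nat_lit 34) (Steps.bwd (nat_lit 3) (Steps.bwd (nat_lit 3) (Steps.bwd (nat_lit 3) Steps.nil))) (nat_lit 2) (nat_lit 0),
  Rule.mk (nat_lit 1) (nat_lit 70) (Steps.bwd (nat_lit 3) (Steps.fwd (nat_lit 1024) (Steps.fwd (nat_lit 2048) (Steps.bwd (nat_lit 1) (Steps.bwd (nat_lit 3) (Steps.bwd (nat_lit 1) (Steps.fwd (nat_lit 2048) Steps.nil))))))) (nat_lit 4) (nat_lit 1),
  Rule.mk (nat_lit 2) (nat_lit 70) (Steps.bwd (nat_lit 3) (Steps.bwd (nat_lit 2) (Steps.bwd (nat_lit 4) (Steps.bwd (nat_lit 2) (Steps.fwd (nat_lit 2048) (Steps.fwd (nat_lit 512) (Steps.fwd (nat_lit 1536) Steps.nil))))))) (nat_lit 7) (nat_lit 0),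
  Rule.mk (nat_lit 5) (nat_lit 106) (Steps.bwd (nat_lit 4) (Steps.fwd (nat_lit 512) (Steps.bwd (nat_lit 5) (Steps.bwd (nat_lit 1) (Steps.fwd (nat_lit 2048) (Steps.fwd (nat_lit 2560) (Steps.fwd (nat_lit 2048) (Steps.fwd (nat_lit 1024) (Steps.fwd (nat_lit 2048) (Steps.fwd (nat_lit 512) (Steps.bwd (nat_lit 3) Steps.nil))))))))))) (nat_lit 18) (nat_lit 5),
  Rule.mk (nat_lit 5) (nat_lit 52) (Steps.bwd (nat_lit 2) (Steps.fwd (nat_lit 2560) (Steps.fwd (nat_lit 512) (Steps.bwd (nat_lit 5) (Steps.fwd (nat_lit 512) Steps.nil))))) (nat_lit 13) (nat_lit 1),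
  Rule.mk (nat_lit 1) (nat_lit 106) (Steps.bwd (nat_lit 3) (Steps.bwd (nat_lit 5) (Steps.fwd (nat_lit 2048) (Steps.bwd (nat_lit 1) (Steps.fwd (nat_lit 2048) (Steps.bwd (nat_lit 2) (Steps.fwd (nat_lit 2048) (Steps.fwd (nat_lit 2560) (Steps.bwd (nat_lit 4) (Steps.bwd (nat_lit 2) (Steps.fwd (nat_lit 2560) Steps.nil))))))))))) (nat_lit 18) (nat_lit 9),
  Rule.mk (nat_lit 4) (nat_lit 88) (Steps.bwd (nat_lit 1) (Steps.bwd (nat_lit 3) (Steps.bwd (nat_lit 5) (Steps.fwd (nat_lit 512) (Steps.bwd (nat_lit 4) (Steps.bwd (nat_lit 1) (Steps.bwd (nat_lit 3) (Steps.bwd (nat_lit 5) (Steps.bwd (nat_lit 2) Steps.nil))))))))) (nat_lit 16) (nat_lit 0),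
  Rule.mk (nat_lit 4) (nat_lit 79) (Steps.bwd (nat_lit 4) (Steps.bwd (nat_lit 5) (Steps.bwd (nat_lit 4) (Steps.bwd (nat_lit 4) (Steps.fwd (nat_lit 2560) (Steps.bwd (nat_lit 4) (Steps.bwd (nat_lit 4) (Steps.fwd (nat_lit 2560) Steps.nil)))))))) (nat_lit 15) (nat_lit 2),
  Rule.mk (nat_lit 3) (nat_lit 88) (Steps.bwd (nat_lit 1) (Steps.bwd (nat_lit 5) (Steps.fwd (nat_lit 1536) (Steps.fwd (nat_lit 512) (Steps.bwd (nat_lit 3) (Steps.fwd (nat_lit 1024) (Steps.fwd (nat_lit 2560) (Steps.bwd (nat_lit 4) (Steps.bwd (nat_lit 2) Steps.nil))))))))) (nat_lit 17) (nat_lit 1),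
  Rule.mk (nat_lit 5) (nat_lit 106) (Steps.fwd (nat_lit 2048) (Steps.bwd (nat_lit 1) (Steps.bwd (nat_lit 3) (Steps.fwd (nat_lit 512) (Steps.fwd (nat_lit 2048) (Steps.fwd (nat_lit 2560) (Steps.bwd (nat_lit 4) (Steps.bwd (nat_lit 2) (Steps.fwd (nat_lit 2560) (Steps.bwd (nat_lit 1) (Steps.bwd (nat_lit 3) Steps.nil))))))))))) (nat_lit 18) (nat_lit 11),
  Rule.mk (nat_lit 5) (nat_lit 52) (Steps.fwd (nat_lit 1024) (Steps.bwd (nat_lit 5) (Steps.fwd (nat_lit 1024) (Steps.fwd (nat_lit 2560) (Steps.fwd (nat_lit 1024) Steps.nil))))) (nat_lit 12) (nat_lit 0),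
  Rule.mk (nat_lit 5) (nat_lit 88) (Steps.fwd (nat_lit 512) (Steps.bwd (nat_lit 4) (Steps.bwd (nat_lit 1) (Steps.bwd (nat_lit 3) (Steps.bwd (nat_lit 5) (Steps.bwd (nat_lit 2) (Steps.fwd (nat_lit 1536) (Steps.fwd (nat_lit 1024) (Steps.bwd (nat_lit 3) Steps.nil))))))))) (nat_lit 16) (nat_lit 3),
  Rule.mk (nat_lit 5) (nat_lit 52) (Steps.bwd (nat_lit 1) (Steps.fwd (nat_lit 2560) (Steps.bwd (nat_lit 1) (Steps.fwd (nat_lit 2560) (Steps.bwd (nat_lit 1) Steps.nil))))) (nat_lit 12) (nat_lit 0),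
  Rule.mk (nat_lit 3) (nat_lit 79) (Steps.bwd (nat_lit 1) (Steps.fwd (nat_lit 2048) (Steps.fwd (nat_lit 2048) (Steps.bwd (nat_lit 1) (Steps.bwd (nat_lit 3) (Steps.fwd (nat_lit 2048) (Steps.fwd (nat_lit 1024) (Steps.bwd (nat_lit 3) Steps.nil)))))))) (nat_lit 8) (nat_lit 0),
  Rule.mk (nat_lit 3) (nat_lit 106) (Steps.bwd (nat_lit 1) (Steps.bwd (nat_lit 3) (Steps.fwd (nat_lit 512) (Steps.bwd (nat_lit 3) (Steps.bwd (nat_lit 5) (Steps.fwd (nat_lit 1536) (Steps.fwd (nat_lit 512) (Steps.bwd (nat_lit 5) (Steps.fwd (nat_lit 1024) (Steps.fwd (nat_lit 2048) (Steps.bwd (nat_lit 5) Steps.nil))))))))))) (nat_lit 18) (nat_lit 0),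
  Rule.mk (nat_lit 5) (nat_lit 79) (Steps.fwd (nat_lit 2048) (Steps.fwd (nat_lit 2048) (Steps.bwd (nat_lit 5) (Steps.bwd (nat_lit 3) (Steps.fwd (nat_lit 2048) (Steps.fwd (nat_lit 2560) (Steps.fwd (nat_lit 2048) (Steps.bwd (nat_lit 3) Steps.nil)))))))) (nat_lit 14) (nat_lit 0),
  Rule.mk (nat_lit 3) (nat_lit 70) (Steps.bwd (nat_lit 1) (Steps.bwd (nat_lit 3) (Steps.bwd (nat_lit 1) (Steps.bwd (nat_lit 3) (Steps.bwd (nat_lit 1) (Steps.fwd (nat_lit 2048) (Steps.fwd (nat_lit 1024) Steps.nil))))))) (nat_lit 4) (nat_lit 0),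
  Rule.mk (nat_lit 4) (nat_lit 70) (Steps.bwd (nat_lit 1) (Steps.bwd (nat_lit 3) (Steps.bwd (nat_lit 1) (Steps.fwd (nat_lit 1536) (Steps.fwd (nat_lit 1024) (Steps.fwd (nat_lit 2048) (Steps.bwd (nat_lit 1) Steps.nil))))))) (nat_lit 6) (nat_lit 0),
  Rule.mk (nat_lit 2) (nat_lit 70) (Steps.bwd (nat_lit 3) (Steps.bwd (nat_lit 2) (Steps.bwd (nat_lit 4) (Steps.fwd (nat_lit 512) (Steps.bwd (nat_lit 3) (Steps.fwd (nat_lit 512) (Steps.bwd (nat_lit 4) Steps.nil))))))) (nat_lit 7) (nat_lit 0),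
  Rule.mk (nat_lit 5) (nat_lit 79) (Steps.bwd (nat_lit 3) (Steps.bwd (nat_lit 3) (Steps.fwd (nat_lit 2560) (Steps.fwd (nat_lit 2048) (Steps.fwd (nat_lit 2048) (Steps.fwd (nat_lit 2560) (Steps.bwd (nat_lit 3) (Steps.bwd (nat_lit 3) Steps.nil)))))))) (nat_lit 14) (nat_lit 0),
  Rule.mk (nat_lit 5) (nat_lit 52) (Steps.bwd (nat_lit 2) (Steps.bwd (nat_lit 5) (Steps.fwd (nat_lit 512) (Steps.bwd (nat_lit 5) (Steps.bwd (nat_lit 2) Steps.nil))))) (nat_lit 13) (nat_lit 1),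
  Rule.mk (nat_lit 4) (nat_lit 106) (Steps.bwd (nat_lit 2) (Steps.bwd (nat_lit 5) (Steps.bwd (nat_lit 1) (Steps.bwd (nat_lit 3) (Steps.fwd (nat_lit 2560) (Steps.fwd (nat_lit 2048) (Steps.fwd (nat_lit 1024) (Steps.fwd (nat_lit 2048) (Steps.bwd (nat_lit 2) (Steps.fwd (nat_lit 2048) (Steps.fwd (nat_lit 2560) Steps.nil))))))))))) (nat_lit 18) (nat_lit 6),
  Rule.mk (nat_lit 4) (nat_lit 79) (Steps.bwd (nat_lit 4) (Steps.fwd (nat_lit 2560) (Steps.fwd (nat_lit 1536) (Steps.fwd (nat_lit 1536) (Steps.fwd (nat_lit 2560) (Steps.fwd (nat_lit 1536) (Steps.fwd (nat_lit 1536) (Steps.bwd (nat_lit 5) Steps.nil)))))))) (nat_lit 15) (nat_lit 2),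
  Rule.mk (nat_lit 1) (nat_lit 25) (Steps.bwd (nat_lit 1) (Steps.fwd (nat_lit 1024) Steps.nil)) (nat_lit 0) (nat_lit 0),
  Rule.mk (nat_lit 5) (nat_lit 52) (Steps.bwd (nat_lit 1) (Steps.bwd (nat_lit 5) (Steps.bwd (nat_lit 1) (Steps.fwd (nat_lit 2560) (Steps.fwd (nat_lit 1024) Steps.nil))))) (nat_lit 12) (nat_lit 0),
  Rule.mk (nat_lit 4) (nat_lit 88) (Steps.bwd (nat_lit 1) (Steps.fwd (nat_lit 2048) (Steps.fwd (nat_lit 2560) (Steps.bwd (nat_lit 2) (Steps.bwd (nat_lit 4) (Steps.fwd (nat_lit 1024) (Steps.fwd (nat_lit 2048) (Steps.fwd (nat_lit 2560) (Steps.fwd (nat_lit 512) Steps.nil))))))))) (nat_lit 16) (nat_lit 0),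
  Rule.mk (nat_lit 1) (nat_lit 52) (Steps.bwd (nat_lit 5) (Steps.fwd (nat_lit 1024) (Steps.fwd (nat_lit 2560) (Steps.fwd (nat_lit 1024) (Steps.fwd (nat_lit 2560) Steps.nil))))) (nat_lit 12) (nat_lit 1),
  Rule.mk (nat_lit 3) (nat_lit 106) (Steps.bwd (nat_lit 5) (Steps.fwd (nat_lit 2048) (Steps.fwd (nat_lit 1024) (Steps.bwd (nat_lit 3) (Steps.bwd (nat_lit 2) (Steps.fwd (nat_lit 2048) (Steps.fwd (nat_lit 2560) (Steps.bwd (nat_lit 4) (Steps.bwd (nat_lit 2) (Steps.fwd (nat_lit 2560) (Steps.bwd (nat_lit 1) Steps.nil))))))))))) (nat_lit 18) (nat_lit 10),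
  Rule.mk (nat_lit 1) (nat_lit 106) (Steps.bwd (nat_lit 3) (Steps.bwd (nat_lit 5) (Steps.fwd (nat_lit 2048) (Steps.bwd (nat_lit 1) (Steps.bwd (nat_lit 3) (Steps.fwd (nat_lit 512) (Steps.fwd (nat_lit 2048) (Steps.fwd (nat_lit 2560) (Steps.bwd (nat_lit 4) (Steps.fwd (nat_lit 512) (Steps.fwd (nat_lit 2560) Steps.nil))))))))))) (nat_lit 18) (nat_lit 9),
  Rule.mk (nat_lit 1) (nat_lit 88) (Steps.bwd (nat_lit 3) (Steps.bwd (nat_lit 5) (Steps.fwd (nat_lit 512) (Steps.bwd (nat_lit 4) (Steps.fwd (nat_lit 1024) (Steps.fwd (nat_lit 2048) (Steps.fwd (nat_lit 2560) (Steps.fwd (nat_lit 512) (Steps.fwd (nat_lit 1536) Steps.nil))))))))) (nat_lit 16) (nat_lit 1),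
  Rule.mk (nat_lit 2) (nat_lit 106) (Steps.bwd (nat_lit 3) (Steps.bwd (nat_lit 5) (Steps.bwd (nat_lit 4) (Steps.bwd (nat_lit 2) (Steps.bwd (nat_lit 5) (Steps.fwd (nat_lit 1024) (Steps.bwd (nat_lit 3) (Steps.fwd (nat_lit 2560) (Steps.bwd (nat_lit 3) (Steps.bwd (nat_lit 1) (Steps.bwd (nat_lit 3) Steps.nil))))))))))) (nat_lit 18) (nat_lit 3),
  Rule.mk (nat_lit 5) (nat_lit 52) (Steps.bwd (nat_lit 2) (Steps.fwd (nat_lit 2560) (Steps.fwd (nat_lit 512) (Steps.fwd (nat_lit 2560) (Steps.bwd (nat_lit 2) Steps.nil))))) (nat_lit 13) (nat_lit 1),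
  Rule.mk (nat_lit 5) (nat_lit 79) (Steps.bwd (nat_lit 3) (Steps.bwd (nat_lit 3) (Steps.bwd (nat_lit 5) (Steps.bwd (nat_lit 3) (Steps.fwd (nat_lit 2048) (Steps.bwd (nat_lit 5) (Steps.bwd (nat_lit 3) (Steps.bwd (nat_lit 3) Steps.nil)))))))) (nat_lit 14) (nat_lit 0),
  Rule.mk (nat_lit 5) (nat_lit 52) (Steps.bwd (nat_lit 2) (Steps.fwd (nat_lit 2560) (Steps.bwd (nat_lit 2) (Steps.bwd (nat_lit 5) (Steps.fwd (nat_lit 512) Steps.nil))))) (nat_lit 13) (nat_lit 1)]
noncomputable def R_1 : List (Rule) := [Rule.mk (nat_lit 4) (nat_lit 88) (Steps.bwd (nat_lit 2) (Steps.bwd (nat_lit 3) (Steps.fwd (nat_lit 1024) (Steps.bwd (nat_lit 5) (Steps.bwd (nat_lit 4) (Steps.fwd (nat_lit 512) (Steps.bwd (nat_lit 3) (Steps.fwd (nat_lit 1024) (Steps.fwd (nat_lit 2560) Steps.nil))))))))) (nat_lit 17) (nat_lit 4),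
  Rule.mk (nat_lit 4) (nat_lit 88) (Steps.fwd (nat_lit 1024) (Steps.bwd (nat_lit 3) (Steps.bwd (nat_lit 5) (Steps.bwd (nat_lit 2) (Steps.fwd (nat_lit 1536) (Steps.fwd (nat_lit 1024) (Steps.fwd (nat_lit 2048) (Steps.bwd (nat_lit 5) (Steps.bwd (nat_lit 2) Steps.nil))))))))) (nat_lit 16) (nat_lit 0),
  Rule.mk (nat_lit 4) (nat_lit 79) (Steps.bwd (nat_lit 2) (Steps.fwd (nat_lit 1536) (Steps.fwd (nat_lit 1536) (Steps.bwd (nat_lit 2) (Steps.bwd (nat_lit 4) (Steps.fwd (nat_lit 1536) (Steps.fwd (nat_lit 512) (Steps.fwd (nat_lit 1536) Steps.nil)))))))) (nat_lit 9) (nat_lit 2),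
  Rule.mk (nat_lit 4) (nat_lit 34) (Steps.bwd (nat_lit 4) (Steps.fwd (nat_lit 1536) (Steps.bwd (nat_lit 4) Steps.nil))) (nat_lit 3) (nat_lit 0),
  Rule.mk (nat_lit 5) (nat_lit 79) (Steps.bwd (nat_lit 4) (Steps.bwd (nat_lit 4) (Steps.bwd (nat_lit 5) (Steps.bwd (nat_lit 4) (Steps.bwd (nat_lit 4) (Steps.fwd (nat_lit 2560) (Steps.bwd (nat_lit 4) (Steps.bwd (nat_lit 4) Steps.nil)))))))) (nat_lit 15) (nat_lit 1),
  Rule.mk (nat_lit 2) (nat_lit 88) (Steps.bwd (nat_lit 4) (Steps.bwd (nat_lit 1) (Steps.bwd (nat_lit 3) (Steps.bwd (nat_lit 5) (Steps.bwd (nat_lit 2) (Steps.fwd (nat_lit 1536) (Steps.fwd (nat_lit 1024) (Steps.fwd (nat_lit 2048) (Steps.fwd (nat_lit 2560) Steps.nil))))))))) (nat_lit 16) (nat_lit 4),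
  Rule.mk (nat_lit 1) (nat_lit 106) (Steps.bwd (nat_lit 4) (Steps.bwd (nat_lit 2) (Steps.fwd (nat_lit 1536) (Steps.fwd (nat_lit 2560) (Steps.fwd (nat_lit 1536) (Steps.bwd (nat_lit 2) (Steps.fwd (nat_lit 2560) (Steps.fwd (nat_lit 1024) (Steps.fwd (nat_lit 2048) (Steps.fwd (nat_lit 2560) (Steps.bwd (nat_lit 4) Steps.nil))))))))))) (nat_lit 19) (nat_lit 10),
  Rule.mk (nat_lit 2) (nat_lit 25) (Steps.bwd (nat_lit 2) (Steps.fwd (nat_lit 512) Steps.nil)) (nat_lit 1) (nat_lit 0),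
  Rule.mk (nat_lit 5) (nat_lit 52) (Steps.bwd (nat_lit 2) (Steps.bwd (nat_lit 5) (Steps.bwd (nat_lit 2) (Steps.fwd (nat_lit 2560) (Steps.bwd (nat_lit 2) Steps.nil))))) (nat_lit 13) (nat_lit 1),
  Rule.mk (nat_lit 4) (nat_lit 70) (Steps.bwd (nat_lit 2) (Steps.bwd (nat_lit 4) (Steps.bwd (nat_lit 2) (Steps.fwd (nat_lit 1536) (Steps.fwd (nat_lit 512) (Steps.bwd (nat_lit 4) (Steps.bwd (nat_lit 2) Steps.nil))))))) (nat_lit 5) (nat_lit 1),
  Rule.mk (nat_lit 3) (nat_lit 88) (Steps.fwd (nat_lit 2560) (Steps.bwd (nat_lit 2) (Steps.bwd (nat_lit 4) (Steps.bwd (nat_lit 1) (Steps.fwd (nat_lit 2048) (Steps.fwd (nat_lit 2560) (Steps.fwd (nat_lit 512) (Steps.bwd (nat_lit 4) (Steps.fwd (nat_lit 1024) Steps.nil))))))))) (nat_lit 16) (nat_lit 2)]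
noncomputable def R : List (List (Rule)) := [R_0, R_1]
def LW : List Word := [[], [0], [1], [2], [3], [4], [0], [1], [2], [3]]
def par : Par := ⟨9, 4, 13, 22, 511, 8191, 4194303⟩
theorem hpar : par.ok := by decide
theorem hR0_0 : lall (R) (fun l => lall l (ruleOK rels LW par)) = true := by decide +kernel
theorem hR0 : lall (R) (fun l => lall l (ruleOK rels LW par)) = true := hR0_0
theorem hR : RulesOK rels LW par R := rulesOK_of rfl hR0
def cols : List (ℕ × ℕ) := [(512, 2), (1536, 4), (2560, 5)]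
theorem hcols : lall cols (colOK rels LW par) = true := by decide +kernel
noncomputable def JS0 : List ℕ := [nat_lit 0x8066402040a1403852288f0c00006130a13cae1a2a12c223c2e020904c9c1a280f0b0042212088f8063c2a3e1d941e0eca00002020e001e044a0162411c744c76100890410401d121e8ec02410803c744404032514028152804c8a011d10018f40a3e1f8e802391e430893826122712c1a3e1c80070008e4c071207a381a391c021d8e87214720923834900b228e4003070082312014441c0b000e80e3b1c8a000e010e48406208e048ec74390a3a039048005030e84010763a0e001f9080c06210f076187c3b1d051e0ec10ec783f018100604018fc783b083d1f0080602018f8763a06001e021e004783b1d01,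
  nat_lit 0x407370e4e8122800990080e0619958aa4f625c189441c0c299390010144d3e0c051441268011358030144d0119c024c5e1d0e06cb0000d86832b834192b014be6433130020032ad029389e4b040180e4a58072482278001c2e2d2b060249a0f00888466906aa0c848a2000f29100840a480091ccc6d359a854a08e002303c1a582e97c4c9c8a63140b05a642280130040606040a4545d21801290c9c1106838265810164b842484421940d864040021a301114284f2a870ac262d080868804440992c144621a12d0a0c4611081084800002209f0090c0e0b2483822413c4b2002208148c0d2415480748440284a27968364102100e034204a049100a3f36411f142101c92550c9141241001a,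
  nat_lit 0x100c030281806072f006598416103197c0c5d9400331f8ca5c92122dc80198c807b1210c680a2f830b71cce4d1e8ec786330038b5180001308fc80602c80228001a58880c0597400032d970b10c00032e192b8002c13319a00a5900c20d04424022b402b154a0144826348e4b2032b1560980606b0015200a4763a3f1fcba552a3f00158ea1f313e01810a8011299c54312096ca6f4a6032a8c8da4020968a4f00053388d8c828a4713e904fa37370d0705428bb0014cd630088c0d02b348b8a2e8a42b0619ca2e4a4541a8a84a6102008a4e0ce101814ca2dca2506c010e0681a192d80400d4a031328a4c8711719c5a5027b40d834ce4f2733]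
theorem S0_c : blocks (facts 9 4 13 22 511 8191 4194303 9 511 7 127 A R 32) 32 JS0 316 = true := by decide +kernel
theorem S0 : On (Step.{u} rels LW par A) 316 412 :=
  steps_of_blocks hpar hR S0_c (by decide +kernel)
theorem D0_c : allB (defOK 9 13 22 511 4194303 315 A K) 1 2 = true := by decide +kernel
theorem D0 : On (fun r => defOK par.W par.WL par.E par.mW par.mE 315 A K r = true) 256 384 :=
  On.of_allB D0_c
noncomputable def JW0 : List ℕ := [nat_lit 0x1fc87414240241f1f8813f43f3c8f91044611026184ed1a0f11945b270971607b260d50c0290dc8f41c40140522984e2a0561c072150933d11d3a0aa28917290de2850e1a46e1b02c1d06b384d0044594848d3ac5f3988520d01094783ec5a49c77198e23bc9a4309e350954411f1711a2c92b4291c460b626d233d8e02b4ae3a9291f4b82c52e19d2d4491e2d5304d5242f9342ecbc4e5324d938300c2,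
  nat_lit 0x364d20342206ccd0701932c4c221030f83b374231284335c170c8360d43835891424df0f4da3611522c2d0842e02806314273382a048153241331c0e07449188843fce4]
theorem W0_c : blocks (rows 9 4 13 22 511 8191 4194303 10 1023 30 A 412 60 cols 42) 42 JW0 0 = true := by decide +kernel
theorem W0 : On (Row.{u} rels LW par A 412 60 cols) 0 84 :=
  rows_of_blocks hpar (by decide) hcols W0_c (by decide +kernel)
theorem idx : Idx.{u} rels [[0], [2], [4]] [[0], [2]] 60 :=
  idx_of_cert hpar hR (K := K) (by decide +kernel) (T := 315) (T' := 384) (by decide) D0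
    (subs := [1,3]) (by decide +kernel) (T1 := 316) (by decide) (N := 412) S0
    (by decide) (n' := 84) (by decide) W0 (by decide +kernel) (by decide +kernel)
end T2
theorem b2 : Bound.{u} rels [[0], [2], [4]] 5760 := .of_idx T2.idx b3 (by decide)
namespace T1
noncomputable def A_0 : List (ℕ) := [nat_lit 0x2631309884c2629309044c23a92c9624b24192c90c4b252128940512511209485125312880a4021090076440193100768402110ec8e83b23990466c4120a9046c4411d311c924471a31087e8421fa9247e4491f31248a84921a0fc8624521a90c8c2431b210c884362329108c6442330e08a6461b2914386351620d46aa351c10d4662320e10c864a3319a0c8748331ea0e07c83d1828f45843d1ba0f878a3e0aa8b068a2a1390d06e2341ba8744e2371d189c7023a1cb0e4728391328e46223918b0846282110a0c430a311588f04ac2b1298ac2482b1708ac52c3c1710f06083c17a8bc48c2e1718901e6250b90941ec1209a84c28a1405286836a200d01344004e0881402460f11b0c054c2a0ba0a8548170b88c02ec1726a1409c84f1490a82ca2e0328483ca290f08741841d08b0742881d0c88601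44180d30602861e0ab07840c140990501a2200d10802282008a830348110810442a81a0b085432c190508641221617b058326161798645ac2d1698bc5022f1308b4362261330985082609b04c266101430403e2281228904622407888c44c1b05a06c44a221108883e82206a07c1c80d05882c1cc0b02883812c090520241080a04302010a0801a0200cc0603a0180ea0702b01404c0702080c0420400900402601002800006000008009844a25992090a3b28a12894a4220210476c272091108e43f2120d8928441fb0b086c352230dc8c44522b0f46cc1c1a90e8648271990707a43e1f10b0586341a18706e63813a84074a281c287c7222118908442a0d0e282c56a251e20a44a43018188c2ea092821389e84d27286c9aa0a1510485c8240910a4528230ea0603081e0f103028407102054224060d08342a2090b18b432a2d17887c5a21b1320402020614184c2620712083c46a0e07a8143680c1120383ec0c0620101ac040598101c20804a00c14c030408140c8020398140a60202280c0620201280402c00]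
noncomputable def A : List (List (ℕ)) := [A_0]
noncomputable def K_0 : List (ℕ) := [nat_lit 0x29b2b954a65150a7d328d4ea450a8343a251e934ba2cee792fa54da69359c5027f399ecfa672d8cc9a313a9849e49159bc5e5d138943e651f8748647318847635229646e39208a4963d1688c2a190d85c22130782c1a0903814060000]
noncomputable def K : List (List (ℕ)) := [K_0]
noncomputable def R_0 : List (Rule) := [Rule.mk (nat_lit 3) (nat_lit 38) (Steps.bwd (nat_lit 6) (Steps.bwd (nat_lit 3) (Steps.fwd (nat_lit 3072) Steps.nil))) (nat_lit 22) (nat_lit 1),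
  Rule.mk (nat_lit 2) (nat_lit 58) (Steps.fwd (nat_lit 1536) (Steps.bwd (nat_lit 6) (Steps.bwd (nat_lit 1) (Steps.fwd (nat_lit 1536) (Steps.fwd (nat_lit 3072) Steps.nil))))) (nat_lit 24) (nat_lit 4),
  Rule.mk (nat_lit 1) (nat_lit 58) (Steps.bwd (nat_lit 5) (Steps.bwd (nat_lit 1) (Steps.bwd (nat_lit 5) (Steps.fwd (nat_lit 1024) (Steps.fwd (nat_lit 2560) Steps.nil))))) (nat_lit 12) (nat_lit 1),
  Rule.mk (nat_lit 1) (nat_lit 28) (Steps.bwd (nat_lit 1) (Steps.bwd (nat_lit 1) Steps.nil)) (nat_lit 0) (nat_lit 0),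
  Rule.mk (nat_lit 6) (nat_lit 108) (Steps.bwd (nat_lit 3) (Steps.bwd (nat_lit 3) (Steps.bwd (nat_lit 5) (Steps.bwd (nat_lit 6) (Steps.fwd (nat_lit 2560) (Steps.bwd (nat_lit 3) (Steps.bwd (nat_lit 3) (Steps.fwd (nat_lit 2560) (Steps.fwd (nat_lit 3072) (Steps.fwd (nat_lit 2560) Steps.nil)))))))))) (nat_lit 26) (nat_lit 0),
  Rule.mk (nat_lit 6) (nat_lit 38) (Steps.bwd (nat_lit 3) (Steps.bwd (nat_lit 6) (Steps.bwd (nat_lit 3) Steps.nil))) (nat_lit 22) (nat_lit 0),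
  Rule.mk (nat_lit 5) (nat_lit 108) (Steps.bwd (nat_lit 3) (Steps.bwd (nat_lit 3) (Steps.bwd (nat_lit 5) (Steps.bwd (nat_lit 6) (Steps.fwd (nat_lit 2560) (Steps.fwd (nat_lit 3072) (Steps.bwd (nat_lit 3) (Steps.bwd (nat_lit 3) (Steps.fwd (nat_lit 2560) (Steps.bwd (nat_lit 6) Steps.nil)))))))))) (nat_lit 26) (nat_lit 5),
  Rule.mk (nat_lit 4) (nat_lit 38) (Steps.bwd (nat_lit 4) (Steps.fwd (nat_lit 1536) (Steps.fwd (nat_lit 1536) Steps.nil))) (nat_lit 3) (nat_lit 0),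
  Rule.mk (nat_lit 6) (nat_lit 38) (Steps.bwd (nat_lit 4) (Steps.bwd (nat_lit 6) (Steps.bwd (nat_lit 4) Steps.nil))) (nat_lit 23) (nat_lit 1),
  Rule.mk (nat_lit 4) (nat_lit 98) (Steps.bwd (nat_lit 1) (Steps.bwd (nat_lit 3) (Steps.bwd (nat_lit 5) (Steps.bwd (nat_lit 2) (Steps.fwd (nat_lit 1536) (Steps.fwd (nat_lit 1024) (Steps.bwd (nat_lit 3) (Steps.fwd (nat_lit 2560) (Steps.fwd (nat_lit 512) Steps.nil))))))))) (nat_lit 16) (nat_lit 0),
  Rule.mk (nat_lit 5) (nat_lit 118) (Steps.bwd (nat_lit 1) (Steps.bwd (nat_lit 3) (Steps.bwd (nat_lit 5) (Steps.bwd (nat_lit 3) (Steps.fwd (nat_lit 1024) (Steps.bwd (nat_lit 3) (Steps.bwd (nat_lit 2) (Steps.bwd (nat_lit 3) (Steps.fwd (nat_lit 2560) (Steps.fwd (nat_lit 1536) (Steps.fwd (nat_lit 512) Steps.nil))))))))))) (nat_lit 18) (nat_lit 8),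
  Rule.mk (nat_lit 6) (nat_lit 58) (Steps.bwd (nat_lit 1) (Steps.fwd (nat_lit 1536) (Steps.fwd (nat_lit 3072) (Steps.fwd (nat_lit 512) (Steps.bwd (nat_lit 4) Steps.nil))))) (nat_lit 24) (nat_lit 0),
  Rule.mk (nat_lit 4) (nat_lit 38) (Steps.bwd (nat_lit 6) (Steps.bwd (nat_lit 4) (Steps.fwd (nat_lit 3072) Steps.nil))) (nat_lit 23) (nat_lit 0),
  Rule.mk (nat_lit 4) (nat_lit 38) (Steps.bwd (nat_lit 4) (Steps.bwd (nat_lit 4) (Steps.bwd (nat_lit 4) Steps.nil))) (nat_lit 3) (nat_lit 0),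
  Rule.mk (nat_lit 6) (nat_lit 38) (Steps.bwd (nat_lit 4) (Steps.fwd (nat_lit 3072) (Steps.bwd (nat_lit 4) Steps.nil))) (nat_lit 23) (nat_lit 1),
  Rule.mk (nat_lit 6) (nat_lit 58) (Steps.bwd (nat_lit 3) (Steps.fwd (nat_lit 512) (Steps.bwd (nat_lit 6) (Steps.bwd (nat_lit 3) (Steps.bwd (nat_lit 1) Steps.nil))))) (nat_lit 25) (nat_lit 4),
  Rule.mk (nat_lit 1) (nat_lit 78) (Steps.bwd (nat_lit 3) (Steps.bwd (nat_lit 1) (Steps.bwd (nat_lit 4) (Steps.bwd (nat_lit 1) (Steps.bwd (nat_lit 3) (Steps.bwd (nat_lit 1) (Steps.fwd (nat_lit 1536) Steps.nil))))))) (nat_lit 6) (nat_lit 1),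
  Rule.mk (nat_lit 4) (nat_lit 38) (Steps.bwd (nat_lit 6) (Steps.fwd (nat_lit 1536) (Steps.fwd (nat_lit 3072) Steps.nil))) (nat_lit 23) (nat_lit 0),
  Rule.mk (nat_lit 1) (nat_lit 78) (Steps.bwd (nat_lit 4) (Steps.bwd (nat_lit 1) (Steps.fwd (nat_lit 2048) (Steps.bwd (nat_lit 1) (Steps.fwd (nat_lit 1536) (Steps.bwd (nat_lit 1) (Steps.fwd (nat_lit 2048) Steps.nil))))))) (nat_lit 6) (nat_lit 3),
  Rule.mk (nat_lit 5) (nat_lit 98) (Steps.fwd (nat_lit 512) (Steps.bwd (nat_lit 4) (Steps.bwd (nat_lit 1) (Steps.fwd (nat_lit 2048) (Steps.fwd (nat_lit 2560) (Steps.fwd (nat_lit 512) (Steps.fwd (nat_lit 1536) (Steps.bwd (nat_lit 1) (Steps.fwd (nat_lit 2048) Steps.nil))))))))) (nat_lit 16) (nat_lit 3),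
  Rule.mk (nat_lit 4) (nat_lit 38) (Steps.bwd (nat_lit 4) (Steps.bwd (nat_lit 4) (Steps.fwd (nat_lit 1536) Steps.nil))) (nat_lit 3) (nat_lit 0),
  Rule.mk (nat_lit 1) (nat_lit 58) (Steps.bwd (nat_lit 5) (Steps.bwd (nat_lit 1) (Steps.fwd (nat_lit 2560) (Steps.bwd (nat_lit 1) (Steps.fwd (nat_lit 2560) Steps.nil))))) (nat_lit 12) (nat_lit 1),
  Rule.mk (nat_lit 5) (nat_lit 58) (Steps.bwd (nat_lit 1) (Steps.bwd (nat_lit 5) (Steps.bwd (nat_lit 1) (Steps.fwd (nat_lit 2560) (Steps.bwd (nat_lit 1) Steps.nil))))) (nat_lit 12) (nat_lit 0),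
  Rule.mk (nat_lit 1) (nat_lit 78) (Steps.bwd (nat_lit 3) (Steps.bwd (nat_lit 1) (Steps.bwd (nat_lit 3) (Steps.bwd (nat_lit 1) (Steps.fwd (nat_lit 2048) (Steps.bwd (nat_lit 1) (Steps.fwd (nat_lit 2048) Steps.nil))))))) (nat_lit 4) (nat_lit 1),
  Rule.mk (nat_lit 6) (nat_lit 58) (Steps.bwd (nat_lit 1) (Steps.bwd (nat_lit 4) (Steps.bwd (nat_lit 6) (Steps.fwd (nat_lit 512) (Steps.fwd (nat_lit 1536) Steps.nil))))) (nat_lit 24) (nat_lit 0),
  Rule.mk (nat_lit 3) (nat_lit 88) (Steps.bwd (nat_lit 1) (Steps.fwd (nat_lit 2048) (Steps.bwd (nat_lit 3) (Steps.bwd (nat_lit 1) (Steps.fwd (nat_lit 2048) (Steps.fwd (nat_lit 2048) (Steps.bwd (nat_lit 1) (Steps.bwd (nat_lit 3) Steps.nil)))))))) (nat_lit 8) (nat_lit 0),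
  Rule.mk (nat_lit 6) (nat_lit 38) (Steps.bwd (nat_lit 3) (Steps.fwd (nat_lit 3072) (Steps.bwd (nat_lit 3) Steps.nil))) (nat_lit 22) (nat_lit 0),
  Rule.mk (nat_lit 1) (nat_lit 58) (Steps.bwd (nat_lit 4) (Steps.fwd (nat_lit 3072) (Steps.fwd (nat_lit 512) (Steps.bwd (nat_lit 4) (Steps.bwd (nat_lit 6) Steps.nil))))) (nat_lit 24) (nat_lit 1),
  Rule.mk (nat_lit 3) (nat_lit 78) (Steps.bwd (nat_lit 1) (Steps.bwd (nat_lit 4) (Steps.bwd (nat_lit 1) (Steps.fwd (nat_lit 2048) (Steps.bwd (nat_lit 1) (Steps.bwd (nat_lit 4) (Steps.bwd (nat_lit 1) Steps.nil))))))) (nat_lit 6) (nat_lit 2),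
  Rule.mk (nat_lit 6) (nat_lit 58) (Steps.bwd (nat_lit 3) (Steps.fwd (nat_lit 512) (Steps.bwd (nat_lit 6) (Steps.fwd (nat_lit 2048) (Steps.bwd (nat_lit 1) Steps.nil))))) (nat_lit 25) (nat_lit 4),
  Rule.mk (nat_lit 3) (nat_lit 98) (Steps.bwd (nat_lit 5) (Steps.fwd (nat_lit 512) (Steps.bwd (nat_lit 4) (Steps.bwd (nat_lit 1) (Steps.fwd (nat_lit 2048) (Steps.fwd (nat_lit 2560) (Steps.fwd (nat_lit 512) (Steps.fwd (nat_lit 1536) (Steps.bwd (nat_lit 1) Steps.nil))))))))) (nat_lit 16) (nat_lit 2),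
  Rule.mk (nat_lit 3) (nat_lit 38) (Steps.bwd (nat_lit 3) (Steps.bwd (nat_lit 3) (Steps.bwd (nat_lit 3) Steps.nil))) (nat_lit 2) (nat_lit 0),
  Rule.mk (nat_lit 1) (nat_lit 78) (Steps.bwd (nat_lit 3) (Steps.bwd (nat_lit 1) (Steps.fwd (nat_lit 2048) (Steps.bwd (nat_lit 1) (Steps.bwd (nat_lit 3) (Steps.bwd (nat_lit 1) (Steps.fwd (nat_lit 2048) Steps.nil))))))) (nat_lit 4) (nat_lit 1),
  Rule.mk (nat_lit 1) (nat_lit 88) (Steps.bwd (nat_lit 3) (Steps.bwd (nat_lit 3) (Steps.bwd (nat_lit 1) (Steps.fwd (nat_lit 2048) (Steps.bwd (nat_lit 3) (Steps.bwd (nat_lit 1) (Steps.fwd (nat_lit 2048) (Steps.fwd (nat_lit 2048) Steps.nil)))))))) (nat_lit 8) (nat_lit 1),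
  Rule.mk (nat_lit 6) (nat_lit 108) (Steps.bwd (nat_lit 5) (Steps.fwd (nat_lit 3072) (Steps.bwd (nat_lit 3) (Steps.bwd (nat_lit 3) (Steps.bwd (nat_lit 5) (Steps.fwd (nat_lit 3072) (Steps.fwd (nat_lit 2560) (Steps.bwd (nat_lit 3) (Steps.bwd (nat_lit 3) (Steps.fwd (nat_lit 2560) Steps.nil)))))))))) (nat_lit 26) (nat_lit 9),
  Rule.mk (nat_lit 4) (nat_lit 78) (Steps.bwd (nat_lit 1) (Steps.fwd (nat_lit 2048) (Steps.bwd (nat_lit 1) (Steps.bwd (nat_lit 4) (Steps.bwd (nat_lit 1) (Steps.bwd (nat_lit 3) (Steps.bwd (nat_lit 1) Steps.nil))))))) (nat_lit 6) (nat_lit 0),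
  Rule.mk (nat_lit 2) (nat_lit 28) (Steps.bwd (nat_lit 2) (Steps.fwd (nat_lit 512) Steps.nil)) (nat_lit 1) (nat_lit 0),
  Rule.mk (nat_lit 4) (nat_lit 78) (Steps.bwd (nat_lit 2) (Steps.bwd (nat_lit 4) (Steps.fwd (nat_lit 512) (Steps.bwd (nat_lit 4) (Steps.fwd (nat_lit 512) (Steps.bwd (nat_lit 4) (Steps.fwd (nat_lit 512) Steps.nil))))))) (nat_lit 5) (nat_lit 1),
  Rule.mk (nat_lit 5) (nat_lit 118) (Steps.bwd (nat_lit 4) (Steps.fwd (nat_lit 512) (Steps.bwd (nat_lit 5) (Steps.fwd (nat_lit 1024) (Steps.bwd (nat_lit 3) (Steps.fwd (nat_lit 2560) (Steps.fwd (nat_lit 1536) (Steps.bwd (nat_lit 1) (Steps.bwd (nat_lit 4) (Steps.fwd (nat_lit 512) (Steps.bwd (nat_lit 4) Steps.nil))))))))))) (nat_lit 19) (nat_lit 2),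
  Rule.mk (nat_lit 2) (nat_lit 78) (Steps.bwd (nat_lit 4) (Steps.fwd (nat_lit 512) (Steps.fwd (nat_lit 1536) (Steps.fwd (nat_lit 512) (Steps.bwd (nat_lit 4) (Steps.fwd (nat_lit 512) (Steps.bwd (nat_lit 4) Steps.nil))))))) (nat_lit 5) (nat_lit 0),
  Rule.mk (nat_lit 6) (nat_lit 58) (Steps.bwd (nat_lit 2) (Steps.bwd (nat_lit 4) (Steps.fwd (nat_lit 3072) (Steps.fwd (nat_lit 1024) (Steps.bwd (nat_lit 4) Steps.nil))))) (nat_lit 24) (nat_lit 3),
  Rule.mk (nat_lit 6) (nat_lit 58) (Steps.bwd (nat_lit 2) (Steps.bwd (nat_lit 4) (Steps.fwd (nat_lit 3072) (Steps.bwd (nat_lit 1) (Steps.bwd (nat_lit 4) Steps.nil))))) (nat_lit 24) (nat_lit 3),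
  Rule.mk (nat_lit 3) (nat_lit 58) (Steps.bwd (nat_lit 2) (Steps.fwd (nat_lit 3072) (Steps.fwd (nat_lit 2048) (Steps.bwd (nat_lit 1) (Steps.bwd (nat_lit 6) Steps.nil))))) (nat_lit 25) (nat_lit 5),
  Rule.mk (nat_lit 2) (nat_lit 58) (Steps.bwd (nat_lit 4) (Steps.fwd (nat_lit 3072) (Steps.bwd (nat_lit 1) (Steps.bwd (nat_lit 4) (Steps.fwd (nat_lit 3072) Steps.nil))))) (nat_lit 24) (nat_lit 4),
  Rule.mk (nat_lit 1) (nat_lit 58) (Steps.bwd (nat_lit 4) (Steps.fwd (nat_lit 3072) (Steps.fwd (nat_lit 512) (Steps.fwd (nat_lit 1536) (Steps.fwd (nat_lit 3072) Steps.nil))))) (nat_lit 24) (nat_lit 1),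
  Rule.mk (nat_lit 2) (nat_lit 58) (Steps.bwd (nat_lit 4) (Steps.fwd (nat_lit 3072) (Steps.bwd (nat_lit 1) (Steps.bwd (nat_lit 4) (Steps.bwd (nat_lit 6) Steps.nil))))) (nat_lit 24) (nat_lit 4),
  Rule.mk (nat_lit 1) (nat_lit 58) (Steps.bwd (nat_lit 4) (Steps.fwd (nat_lit 3072) (Steps.bwd (nat_lit 2) (Steps.bwd (nat_lit 4) (Steps.bwd (nat_lit 6) Steps.nil))))) (nat_lit 24) (nat_lit 1),
  Rule.mk (nat_lit 5) (nat_lit 118) (Steps.bwd (nat_lit 4) (Steps.fwd (nat_lit 512) (Steps.bwd (nat_lit 5) (Steps.bwd (nat_lit 1) (Steps.fwd (nat_lit 2048) (Steps.fwd (nat_lit 2560) (Steps.fwd (nat_lit 2048) (Steps.bwd (nat_lit 1) (Steps.bwd (nat_lit 3) (Steps.bwd (nat_lit 2) (Steps.bwd (nat_lit 3) Steps.nil))))))))))) (nat_lit 18) (nat_lit 5),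
  Rule.mk (nat_lit 5) (nat_lit 58) (Steps.bwd (nat_lit 2) (Steps.fwd (nat_lit 2560) (Steps.bwd (nat_lit 2) (Steps.fwd (nat_lit 2560) (Steps.bwd (nat_lit 2) Steps.nil))))) (nat_lit 13) (nat_lit 1),
  Rule.mk (nat_lit 5) (nat_lit 98) (Steps.bwd (nat_lit 4) (Steps.fwd (nat_lit 512) (Steps.fwd (nat_lit 2048) (Steps.fwd (nat_lit 1024) (Steps.fwd (nat_lit 2560) (Steps.bwd (nat_lit 4) (Steps.fwd (nat_lit 512) (Steps.fwd (nat_lit 2048) (Steps.bwd (nat_lit 1) Steps.nil))))))))) (nat_lit 17) (nat_lit 3),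
  Rule.mk (nat_lit 2) (nat_lit 28) (Steps.bwd (nat_lit 2) (Steps.bwd (nat_lit 2) Steps.nil)) (nat_lit 1) (nat_lit 0),
  Rule.mk (nat_lit 4) (nat_lit 88) (Steps.bwd (nat_lit 4) (Steps.bwd (nat_lit 5) (Steps.bwd (nat_lit 4) (Steps.bwd (nat_lit 4) (Steps.fwd (nat_lit 2560) (Steps.fwd (nat_lit 1536) (Steps.bwd (nat_lit 4) (Steps.fwd (nat_lit 2560) Steps.nil)))))))) (nat_lit 15) (nat_lit 2),
  Rule.mk (nat_lit 6) (nat_lit 108) (Steps.bwd (nat_lit 5) (Steps.fwd (nat_lit 3072) (Steps.fwd (nat_lit 2048) (Steps.fwd (nat_lit 2048) (Steps.fwd (nat_lit 2560) (Steps.fwd (nat_lit 3072) (Steps.fwd (nat_lit 2560) (Steps.fwd (nat_lit 2048) (Steps.fwd (nat_lit 2048) (Steps.fwd (nat_lit 2560) Steps.nil)))))))))) (nat_lit 26) (nat_lit 9),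
  Rule.mk (nat_lit 1) (nat_lit 118) (Steps.bwd (nat_lit 3) (Steps.bwd (nat_lit 5) (Steps.fwd (nat_lit 2048) (Steps.bwd (nat_lit 1) (Steps.fwd (nat_lit 2048) (Steps.fwd (nat_lit 512) (Steps.bwd (nat_lit 3) (Steps.bwd (nat_lit 5) (Steps.fwd (nat_lit 1536) (Steps.fwd (nat_lit 512) (Steps.fwd (nat_lit 2560) Steps.nil))))))))))) (nat_lit 18) (nat_lit 9),
  Rule.mk (nat_lit 4) (nat_lit 98) (Steps.bwd (nat_lit 1) (Steps.bwd (nat_lit 3) (Steps.bwd (nat_lit 5) (Steps.fwd (nat_lit 512) (Steps.fwd (nat_lit 1536) (Steps.fwd (nat_lit 1024) (Steps.bwd (nat_lit 3) (Steps.bwd (nat_lit 5) (Steps.bwd (nat_lit 2) Steps.nil))))))))) (nat_lit 16) (nat_lit 0),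
  Rule.mk (nat_lit 4) (nat_lit 88) (Steps.bwd (nat_lit 4) (Steps.bwd (nat_lit 5) (Steps.bwd (nat_lit 4) (Steps.bwd (nat_lit 4) (Steps.fwd (nat_lit 2560) (Steps.bwd (nat_lit 4) (Steps.bwd (nat_lit 4) (Steps.fwd (nat_lit 2560) Steps.nil)))))))) (nat_lit 15) (nat_lit 2),
  Rule.mk (nat_lit 6) (nat_lit 58) (Steps.fwd (nat_lit 512) (Steps.bwd (nat_lit 4) (Steps.fwd (nat_lit 3072) (Steps.fwd (nat_lit 1024) (Steps.bwd (nat_lit 4) Steps.nil))))) (nat_lit 24) (nat_lit 3),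
  Rule.mk (nat_lit 3) (nat_lit 98) (Steps.bwd (nat_lit 1) (Steps.bwd (nat_lit 5) (Steps.bwd (nat_lit 4) (Steps.fwd (nat_lit 512) (Steps.fwd (nat_lit 2048) (Steps.bwd (nat_lit 1) (Steps.fwd (nat_lit 2560) (Steps.bwd (nat_lit 4) (Steps.bwd (nat_lit 2) Steps.nil))))))))) (nat_lit 17) (nat_lit 1),
  Rule.mk (nat_lit 0) (nat_lit 128) (Steps.fwd (nat_lit 2048) (Steps.bwd (nat_lit 5) (Steps.fwd (nat_lit 2048) (Steps.bwd (nat_lit 1) (Steps.bwd (nat_lit 3) (Steps.fwd (nat_lit 512) (Steps.fwd (nat_lit 2048) (Steps.fwd (nat_lit 2560) (Steps.bwd (nat_lit 4) (Steps.bwd (nat_lit 2) (Steps.fwd (nat_lit 2560) (Steps.fwd (nat_lit 1024) Steps.nil)))))))))))) (nat_lit 18) (nat_lit 9),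
  Rule.mk (nat_lit 0) (nat_lit 38) (Steps.fwd (nat_lit 2048) (Steps.fwd (nat_lit 0) (Steps.bwd (nat_lit 4) Steps.nil))) (nat_lit 38) (nat_lit 0),
  Rule.mk (nat_lit 0) (nat_lit 38) (Steps.bwd (nat_lit 4) (Steps.fwd (nat_lit 0) (Steps.fwd (nat_lit 2048) Steps.nil))) (nat_lit 38) (nat_lit 0),
  Rule.mk (nat_lit 5) (nat_lit 28) (Steps.bwd (nat_lit 0) (Steps.bwd (nat_lit 5) Steps.nil)) (nat_lit 38) (nat_lit 0),
  Rule.mk (nat_lit 5) (nat_lit 98) (Steps.bwd (nat_lit 4) (Steps.fwd (nat_lit 512) (Steps.fwd (nat_lit 2048) (Steps.fwd (nat_lit 1024) (Steps.bwd (nat_lit 5) (Steps.bwd (nat_lit 4) (Steps.bwd (nat_lit 2) (Steps.fwd (nat_lit 2048) (Steps.fwd (nat_lit 1024) Steps.nil))))))))) (nat_lit 17) (nat_lit 3),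
  Rule.mk (nat_lit 5) (nat_lit 58) (Steps.bwd (nat_lit 1) (Steps.fwd (nat_lit 2560) (Steps.fwd (nat_lit 1024) (Steps.fwd (nat_lit 2560) (Steps.fwd (nat_lit 1024) Steps.nil))))) (nat_lit 12) (nat_lit 0)]
noncomputable def R_1 : List (Rule) := [Rule.mk (nat_lit 6) (nat_lit 58) (Steps.bwd (nat_lit 3) (Steps.bwd (nat_lit 1) (Steps.bwd (nat_lit 6) (Steps.bwd (nat_lit 3) (Steps.fwd (nat_lit 512) Steps.nil))))) (nat_lit 25) (nat_lit 1),
  Rule.mk (nat_lit 3) (nat_lit 58) (Steps.bwd (nat_lit 2) (Steps.fwd (nat_lit 3072) (Steps.fwd (nat_lit 2048) (Steps.fwd (nat_lit 1024) (Steps.fwd (nat_lit 3072) Steps.nil))))) (nat_lit 25) (nat_lit 5),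
  Rule.mk (nat_lit 3) (nat_lit 118) (Steps.bwd (nat_lit 1) (Steps.bwd (nat_lit 3) (Steps.bwd (nat_lit 2) (Steps.bwd (nat_lit 3) (Steps.bwd (nat_lit 5) (Steps.bwd (nat_lit 4) (Steps.fwd (nat_lit 512) (Steps.fwd (nat_lit 2560) (Steps.bwd (nat_lit 1) (Steps.bwd (nat_lit 3) (Steps.bwd (nat_lit 5) Steps.nil))))))))))) (nat_lit 18) (nat_lit 0),
  Rule.mk (nat_lit 5) (nat_lit 88) (Steps.bwd (nat_lit 3) (Steps.bwd (nat_lit 3) (Steps.bwd (nat_lit 5) (Steps.bwd (nat_lit 3) (Steps.fwd (nat_lit 2048) (Steps.fwd (nat_lit 2560) (Steps.bwd (nat_lit 3) (Steps.bwd (nat_lit 3) Steps.nil)))))))) (nat_lit 14) (nat_lit 0),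
  Rule.mk (nat_lit 2) (nat_lit 78) (Steps.bwd (nat_lit 4) (Steps.bwd (nat_lit 2) (Steps.bwd (nat_lit 4) (Steps.bwd (nat_lit 2) (Steps.fwd (nat_lit 1536) (Steps.fwd (nat_lit 512) (Steps.fwd (nat_lit 1536) Steps.nil))))))) (nat_lit 5) (nat_lit 0),
  Rule.mk (nat_lit 6) (nat_lit 58) (Steps.fwd (nat_lit 1024) (Steps.bwd (nat_lit 4) (Steps.bwd (nat_lit 6) (Steps.bwd (nat_lit 2) (Steps.bwd (nat_lit 4) Steps.nil))))) (nat_lit 24) (nat_lit 0),
  Rule.mk (nat_lit 1) (nat_lit 58) (Steps.bwd (nat_lit 5) (Steps.fwd (nat_lit 1024) (Steps.bwd (nat_lit 5) (Steps.bwd (nat_lit 1) (Steps.bwd (nat_lit 5) Steps.nil))))) (nat_lit 12) (nat_lit 1),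
  Rule.mk (nat_lit 4) (nat_lit 88) (Steps.bwd (nat_lit 5) (Steps.fwd (nat_lit 1536) (Steps.fwd (nat_lit 1536) (Steps.fwd (nat_lit 2560) (Steps.bwd (nat_lit 4) (Steps.fwd (nat_lit 1536) (Steps.fwd (nat_lit 2560) (Steps.fwd (nat_lit 1536) Steps.nil)))))))) (nat_lit 15) (nat_lit 0),
  Rule.mk (nat_lit 3) (nat_lit 98) (Steps.bwd (nat_lit 5) (Steps.bwd (nat_lit 2) (Steps.bwd (nat_lit 4) (Steps.fwd (nat_lit 1024) (Steps.bwd (nat_lit 3) (Steps.fwd (nat_lit 2560) (Steps.fwd (nat_lit 512) (Steps.fwd (nat_lit 1536) (Steps.fwd (nat_lit 1024) Steps.nil))))))))) (nat_lit 16) (nat_lit 2),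
  Rule.mk (nat_lit 6) (nat_lit 108) (Steps.bwd (nat_lit 5) (Steps.bwd (nat_lit 3) (Steps.fwd (nat_lit 2048) (Steps.fwd (nat_lit 2560) (Steps.fwd (nat_lit 3072) (Steps.bwd (nat_lit 5) (Steps.fwd (nat_lit 3072) (Steps.bwd (nat_lit 3) (Steps.bwd (nat_lit 3) (Steps.bwd (nat_lit 5) Steps.nil)))))))))) (nat_lit 26) (nat_lit 4),
  Rule.mk (nat_lit 1) (nat_lit 78) (Steps.bwd (nat_lit 4) (Steps.fwd (nat_lit 1024) (Steps.bwd (nat_lit 3) (Steps.bwd (nat_lit 1) (Steps.fwd (nat_lit 1536) (Steps.fwd (nat_lit 1024) (Steps.bwd (nat_lit 3) Steps.nil))))))) (nat_lit 6) (nat_lit 3),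
  Rule.mk (nat_lit 5) (nat_lit 58) (Steps.bwd (nat_lit 2) (Steps.bwd (nat_lit 5) (Steps.fwd (nat_lit 512) (Steps.fwd (nat_lit 2560) (Steps.bwd (nat_lit 2) Steps.nil))))) (nat_lit 13) (nat_lit 1),
  Rule.mk (nat_lit 4) (nat_lit 118) (Steps.bwd (nat_lit 2) (Steps.bwd (nat_lit 5) (Steps.bwd (nat_lit 1) (Steps.fwd (nat_lit 2048) (Steps.bwd (nat_lit 5) (Steps.fwd (nat_lit 2048) (Steps.bwd (nat_lit 1) (Steps.fwd (nat_lit 2048) (Steps.fwd (nat_lit 512) (Steps.fwd (nat_lit 2048) (Steps.fwd (nat_lit 2560) Steps.nil))))))))))) (nat_lit 18) (nat_lit 6),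
  Rule.mk (nat_lit 4) (nat_lit 88) (Steps.bwd (nat_lit 4) (Steps.fwd (nat_lit 2560) (Steps.bwd (nat_lit 4) (Steps.fwd (nat_lit 1536) (Steps.fwd (nat_lit 2560) (Steps.bwd (nat_lit 4) (Steps.bwd (nat_lit 4) (Steps.bwd (nat_lit 5) Steps.nil)))))))) (nat_lit 15) (nat_lit 2),
  Rule.mk (nat_lit 6) (nat_lit 108) (Steps.bwd (nat_lit 5) (Steps.bwd (nat_lit 6) (Steps.bwd (nat_lit 5) (Steps.bwd (nat_lit 4) (Steps.bwd (nat_lit 4) (Steps.bwd (nat_lit 5) (Steps.bwd (nat_lit 6) (Steps.bwd (nat_lit 5) (Steps.bwd (nat_lit 4) (Steps.bwd (nat_lit 4) Steps.nil)))))))))) (nat_lit 27) (nat_lit 1),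
  Rule.mk (nat_lit 1) (nat_lit 28) (Steps.bwd (nat_lit 1) (Steps.fwd (nat_lit 1024) Steps.nil)) (nat_lit 0) (nat_lit 0),
  Rule.mk (nat_lit 4) (nat_lit 98) (Steps.bwd (nat_lit 1) (Steps.fwd (nat_lit 2048) (Steps.fwd (nat_lit 2560) (Steps.fwd (nat_lit 512) (Steps.fwd (nat_lit 1536) (Steps.bwd (nat_lit 1) (Steps.fwd (nat_lit 2048) (Steps.fwd (nat_lit 2560) (Steps.fwd (nat_lit 512) Steps.nil))))))))) (nat_lit 16) (nat_lit 0),
  Rule.mk (nat_lit 6) (nat_lit 58) (Steps.bwd (nat_lit 1) (Steps.bwd (nat_lit 4) (Steps.bwd (nat_lit 6) (Steps.fwd (nat_lit 512) (Steps.bwd (nat_lit 4) Steps.nil))))) (nat_lit 24) (nat_lit 0),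
  Rule.mk (nat_lit 3) (nat_lit 118) (Steps.bwd (nat_lit 5) (Steps.fwd (nat_lit 2048) (Steps.bwd (nat_lit 1) (Steps.bwd (nat_lit 3) (Steps.fwd (nat_lit 512) (Steps.bwd (nat_lit 3) (Steps.fwd (nat_lit 2560) (Steps.fwd (nat_lit 1536) (Steps.fwd (nat_lit 512) (Steps.fwd (nat_lit 2560) (Steps.bwd (nat_lit 1) Steps.nil))))))))))) (nat_lit 18) (nat_lit 10),
  Rule.mk (nat_lit 1) (nat_lit 118) (Steps.bwd (nat_lit 3) (Steps.bwd (nat_lit 5) (Steps.fwd (nat_lit 2048) (Steps.bwd (nat_lit 1) (Steps.fwd (nat_lit 2048) (Steps.bwd (nat_lit 2) (Steps.fwd (nat_lit 2048) (Steps.fwd (nat_lit 2560) (Steps.bwd (nat_lit 4) (Steps.fwd (nat_lit 512) (Steps.fwd (nat_lit 2560) Steps.nil))))))))))) (nat_lit 18) (nat_lit 9),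
  Rule.mk (nat_lit 5) (nat_lit 58) (Steps.fwd (nat_lit 1024) (Steps.fwd (nat_lit 2560) (Steps.fwd (nat_lit 1024) (Steps.fwd (nat_lit 2560) (Steps.bwd (nat_lit 1) Steps.nil))))) (nat_lit 12) (nat_lit 0),
  Rule.mk (nat_lit 1) (nat_lit 98) (Steps.bwd (nat_lit 3) (Steps.bwd (nat_lit 5) (Steps.fwd (nat_lit 512) (Steps.bwd (nat_lit 4) (Steps.bwd (nat_lit 1) (Steps.fwd (nat_lit 2048) (Steps.fwd (nat_lit 2560) (Steps.fwd (nat_lit 512) (Steps.fwd (nat_lit 1536) Steps.nil))))))))) (nat_lit 16) (nat_lit 1),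
  Rule.mk (nat_lit 2) (nat_lit 118) (Steps.bwd (nat_lit 3) (Steps.bwd (nat_lit 5) (Steps.bwd (nat_lit 4) (Steps.fwd (nat_lit 512) (Steps.fwd (nat_lit 2560) (Steps.bwd (nat_lit 1) (Steps.fwd (nat_lit 2048) (Steps.fwd (nat_lit 2560) (Steps.bwd (nat_lit 3) (Steps.bwd (nat_lit 1) (Steps.bwd (nat_lit 3) Steps.nil))))))))))) (nat_lit 18) (nat_lit 3),
  Rule.mk (nat_lit 5) (nat_lit 58) (Steps.bwd (nat_lit 2) (Steps.fwd (nat_lit 2560) (Steps.fwd (nat_lit 512) (Steps.fwd (nat_lit 2560) (Steps.bwd (nat_lit 2) Steps.nil))))) (nat_lit 13) (nat_lit 1),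
  Rule.mk (nat_lit 5) (nat_lit 88) (Steps.bwd (nat_lit 3) (Steps.bwd (nat_lit 3) (Steps.bwd (nat_lit 5) (Steps.bwd (nat_lit 3) (Steps.fwd (nat_lit 2048) (Steps.fwd (nat_lit 2560) (Steps.fwd (nat_lit 2048) (Steps.fwd (nat_lit 2048) Steps.nil)))))))) (nat_lit 14) (nat_lit 0),
  Rule.mk (nat_lit 5) (nat_lit 58) (Steps.bwd (nat_lit 2) (Steps.fwd (nat_lit 2560) (Steps.fwd (nat_lit 512) (Steps.bwd (nat_lit 5) (Steps.bwd (nat_lit 2) Steps.nil))))) (nat_lit 13) (nat_lit 1),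
  Rule.mk (nat_lit 4) (nat_lit 98) (Steps.bwd (nat_lit 2) (Steps.bwd (nat_lit 3) (Steps.fwd (nat_lit 1024) (Steps.bwd (nat_lit 5) (Steps.fwd (nat_lit 1536) (Steps.bwd (nat_lit 2) (Steps.bwd (nat_lit 3) (Steps.bwd (nat_lit 1) (Steps.fwd (nat_lit 2560) Steps.nil))))))))) (nat_lit 17) (nat_lit 4),
  Rule.mk (nat_lit 4) (nat_lit 98) (Steps.fwd (nat_lit 1024) (Steps.bwd (nat_lit 3) (Steps.bwd (nat_lit 5) (Steps.bwd (nat_lit 2) (Steps.bwd (nat_lit 4) (Steps.bwd (nat_lit 1) (Steps.fwd (nat_lit 2048) (Steps.bwd (nat_lit 5) (Steps.bwd (nat_lit 2) Steps.nil))))))))) (nat_lit 16) (nat_lit 0),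
  Rule.mk (nat_lit 4) (nat_lit 38) (Steps.fwd (nat_lit 1536) (Steps.bwd (nat_lit 4) (Steps.bwd (nat_lit 4) Steps.nil))) (nat_lit 3) (nat_lit 0),
  Rule.mk (nat_lit 4) (nat_lit 88) (Steps.bwd (nat_lit 2) (Steps.fwd (nat_lit 1536) (Steps.fwd (nat_lit 1536) (Steps.bwd (nat_lit 2) (Steps.bwd (nat_lit 4) (Steps.fwd (nat_lit 1536) (Steps.fwd (nat_lit 512) (Steps.fwd (nat_lit 1536) Steps.nil)))))))) (nat_lit 9) (nat_lit 2),
  Rule.mk (nat_lit 4) (nat_lit 38) (Steps.bwd (nat_lit 4) (Steps.fwd (nat_lit 1536) (Steps.bwd (nat_lit 4) Steps.nil))) (nat_lit 3) (nat_lit 0),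
  Rule.mk (nat_lit 5) (nat_lit 88) (Steps.bwd (nat_lit 4) (Steps.bwd (nat_lit 4) (Steps.bwd (nat_lit 5) (Steps.fwd (nat_lit 1536) (Steps.fwd (nat_lit 1536) (Steps.fwd (nat_lit 2560) (Steps.bwd (nat_lit 4) (Steps.bwd (nat_lit 4) Steps.nil)))))))) (nat_lit 15) (nat_lit 1),
  Rule.mk (nat_lit 2) (nat_lit 98) (Steps.bwd (nat_lit 4) (Steps.bwd (nat_lit 1) (Steps.bwd (nat_lit 3) (Steps.bwd (nat_lit 5) (Steps.fwd (nat_lit 512) (Steps.fwd (nat_lit 1536) (Steps.bwd (nat_lit 1) (Steps.fwd (nat_lit 2048) (Steps.fwd (nat_lit 2560) Steps.nil))))))))) (nat_lit 16) (nat_lit 4),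
  Rule.mk (nat_lit 1) (nat_lit 118) (Steps.bwd (nat_lit 4) (Steps.bwd (nat_lit 2) (Steps.fwd (nat_lit 1536) (Steps.fwd (nat_lit 2560) (Steps.bwd (nat_lit 4) (Steps.bwd (nat_lit 2) (Steps.fwd (nat_lit 2560) (Steps.bwd (nat_lit 1) (Steps.fwd (nat_lit 2048) (Steps.fwd (nat_lit 2560) (Steps.bwd (nat_lit 4) Steps.nil))))))))))) (nat_lit 19) (nat_lit 10),
  Rule.mk (nat_lit 4) (nat_lit 78) (Steps.bwd (nat_lit 2) (Steps.bwd (nat_lit 4) (Steps.bwd (nat_lit 2) (Steps.fwd (nat_lit 1536) (Steps.fwd (nat_lit 512) (Steps.bwd (nat_lit 4) (Steps.bwd (nat_lit 2) Steps.nil))))))) (nat_lit 5) (nat_lit 1),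
  Rule.mk (nat_lit 3) (nat_lit 98) (Steps.fwd (nat_lit 2560) (Steps.bwd (nat_lit 2) (Steps.bwd (nat_lit 4) (Steps.bwd (nat_lit 1) (Steps.fwd (nat_lit 2048) (Steps.fwd (nat_lit 2560) (Steps.fwd (nat_lit 512) (Steps.bwd (nat_lit 4) (Steps.fwd (nat_lit 1024) Steps.nil))))))))) (nat_lit 16) (nat_lit 2),
  Rule.mk (nat_lit 5) (nat_lit 108) (Steps.bwd (nat_lit 6) (Steps.fwd (nat_lit 2048) (Steps.fwd (nat_lit 2048) (Steps.bwd (nat_lit 5) (Steps.fwd (nat_lit 3072) (Steps.bwd (nat_lit 5) (Steps.fwd (nat_lit 2048) (Steps.fwd (nat_lit 2048) (Steps.fwd (nat_lit 2560) (Steps.fwd (nat_lit 3072) Steps.nil)))))))))) (nat_lit 26) (nat_lit 10),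
  Rule.mk (nat_lit 3) (nat_lit 58) (Steps.bwd (nat_lit 2) (Steps.bwd (nat_lit 6) (Steps.fwd (nat_lit 2048) (Steps.fwd (nat_lit 1024) (Steps.fwd (nat_lit 3072) Steps.nil))))) (nat_lit 25) (nat_lit 5),
  Rule.mk (nat_lit 6) (nat_lit 38) (Steps.fwd (nat_lit 2048) (Steps.fwd (nat_lit 3072) (Steps.bwd (nat_lit 3) Steps.nil))) (nat_lit 22) (nat_lit 0),
  Rule.mk (nat_lit 5) (nat_lit 108) (Steps.bwd (nat_lit 6) (Steps.bwd (nat_lit 3) (Steps.fwd (nat_lit 2048) (Steps.fwd (nat_lit 2560) (Steps.fwd (nat_lit 3072) (Steps.bwd (nat_lit 5) (Steps.fwd (nat_lit 2048) (Steps.fwd (nat_lit 2048) (Steps.fwd (nat_lit 2560) (Steps.fwd (nat_lit 3072) Steps.nil)))))))))) (nat_lit 26) (nat_lit 10),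
  Rule.mk (nat_lit 2) (nat_lit 58) (Steps.bwd (nat_lit 6) (Steps.bwd (nat_lit 3) (Steps.fwd (nat_lit 1024) (Steps.fwd (nat_lit 3072) (Steps.bwd (nat_lit 3) Steps.nil))))) (nat_lit 25) (nat_lit 0),
  Rule.mk (nat_lit 1) (nat_lit 58) (Steps.bwd (nat_lit 6) (Steps.fwd (nat_lit 2048) (Steps.bwd (nat_lit 2) (Steps.fwd (nat_lit 3072) (Steps.bwd (nat_lit 3) Steps.nil))))) (nat_lit 25) (nat_lit 3),
  Rule.mk (nat_lit 5) (nat_lit 108) (Steps.bwd (nat_lit 6) (Steps.fwd (nat_lit 2048) (Steps.bwd (nat_lit 3) (Steps.bwd (nat_lit 5) (Steps.fwd (nat_lit 3072) (Steps.fwd (nat_lit 2560) (Steps.bwd (nat_lit 3) (Steps.bwd (nat_lit 3) (Steps.fwd (nat_lit 2560) (Steps.fwd (nat_lit 3072) Steps.nil)))))))))) (nat_lit 26) (nat_lit 10),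
  Rule.mk (nat_lit 1) (nat_lit 58) (Steps.fwd (nat_lit 2560) (Steps.fwd (nat_lit 1024) (Steps.fwd (nat_lit 2560) (Steps.bwd (nat_lit 1) (Steps.fwd (nat_lit 2560) Steps.nil))))) (nat_lit 12) (nat_lit 1),
  Rule.mk (nat_lit 2) (nat_lit 58) (Steps.bwd (nat_lit 4) (Steps.bwd (nat_lit 6) (Steps.bwd (nat_lit 1) (Steps.fwd (nat_lit 1536) (Steps.fwd (nat_lit 3072) Steps.nil))))) (nat_lit 24) (nat_lit 4),
  Rule.mk (nat_lit 5) (nat_lit 88) (Steps.bwd (nat_lit 4) (Steps.fwd (nat_lit 1536) (Steps.bwd (nat_lit 5) (Steps.fwd (nat_lit 1536) (Steps.fwd (nat_lit 1536) (Steps.fwd (nat_lit 2560) (Steps.bwd (nat_lit 4) (Steps.bwd (nat_lit 4) Steps.nil)))))))) (nat_lit 15) (nat_lit 1),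
  Rule.mk (nat_lit 6) (nat_lit 38) (Steps.bwd (nat_lit 4) (Steps.bwd (nat_lit 6) (Steps.fwd (nat_lit 1536) Steps.nil))) (nat_lit 23) (nat_lit 1),
  Rule.mk (nat_lit 6) (nat_lit 58) (Steps.bwd (nat_lit 2) (Steps.bwd (nat_lit 4) (Steps.fwd (nat_lit 3072) (Steps.fwd (nat_lit 1024) (Steps.fwd (nat_lit 1536) Steps.nil))))) (nat_lit 24) (nat_lit 3),
  Rule.mk (nat_lit 6) (nat_lit 58) (Steps.bwd (nat_lit 2) (Steps.fwd (nat_lit 1536) (Steps.bwd (nat_lit 6) (Steps.bwd (nat_lit 1) (Steps.bwd (nat_lit 4) Steps.nil))))) (nat_lit 24) (nat_lit 3),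
  Rule.mk (nat_lit 3) (nat_lit 58) (Steps.bwd (nat_lit 2) (Steps.bwd (nat_lit 6) (Steps.bwd (nat_lit 3) (Steps.bwd (nat_lit 1) (Steps.bwd (nat_lit 6) Steps.nil))))) (nat_lit 25) (nat_lit 5),
  Rule.mk (nat_lit 4) (nat_lit 38) (Steps.bwd (nat_lit 6) (Steps.fwd (nat_lit 1536) (Steps.bwd (nat_lit 6) Steps.nil))) (nat_lit 23) (nat_lit 0),
  Rule.mk (nat_lit 2) (nat_lit 58) (Steps.bwd (nat_lit 6) (Steps.fwd (nat_lit 2048) (Steps.fwd (nat_lit 1024) (Steps.fwd (nat_lit 3072) (Steps.fwd (nat_lit 2048) Steps.nil))))) (nat_lit 25) (nat_lit 0),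
  Rule.mk (nat_lit 1) (nat_lit 58) (Steps.bwd (nat_lit 4) (Steps.fwd (nat_lit 3072) (Steps.bwd (nat_lit 2) (Steps.fwd (nat_lit 1536) (Steps.bwd (nat_lit 6) Steps.nil))))) (nat_lit 24) (nat_lit 1),
  Rule.mk (nat_lit 5) (nat_lit 98) (Steps.bwd (nat_lit 4) (Steps.bwd (nat_lit 2) (Steps.fwd (nat_lit 2048) (Steps.fwd (nat_lit 1024) (Steps.bwd (nat_lit 5) (Steps.bwd (nat_lit 4) (Steps.bwd (nat_lit 2) (Steps.fwd (nat_lit 2048) (Steps.bwd (nat_lit 1) Steps.nil))))))))) (nat_lit 17) (nat_lit 3),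
  Rule.mk (nat_lit 6) (nat_lit 108) (Steps.bwd (nat_lit 5) (Steps.fwd (nat_lit 3072) (Steps.bwd (nat_lit 3) (Steps.bwd (nat_lit 3) (Steps.fwd (nat_lit 2560) (Steps.fwd (nat_lit 3072) (Steps.fwd (nat_lit 2560) (Steps.fwd (nat_lit 2048) (Steps.fwd (nat_lit 2048) (Steps.fwd (nat_lit 2560) Steps.nil)))))))))) (nat_lit 26) (nat_lit 9),
  Rule.mk (nat_lit 2) (nat_lit 58) (Steps.bwd (nat_lit 5) (Steps.bwd (nat_lit 2) (Steps.fwd (nat_lit 2560) (Steps.fwd (nat_lit 512) (Steps.fwd (nat_lit 2560) Steps.nil))))) (nat_lit 13) (nat_lit 0),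
  Rule.mk (nat_lit 0) (nat_lit 128) (Steps.bwd (nat_lit 4) (Steps.bwd (nat_lit 2) (Steps.bwd (nat_lit 5) (Steps.fwd (nat_lit 1024) (Steps.fwd (nat_lit 2048) (Steps.bwd (nat_lit 5) (Steps.fwd (nat_lit 2048) (Steps.fwd (nat_lit 1024) (Steps.bwd (nat_lit 3) (Steps.bwd (nat_lit 2) (Steps.fwd (nat_lit 2048) (Steps.fwd (nat_lit 2560) Steps.nil)))))))))))) (nat_lit 18) (nat_lit 5),
  Rule.mk (nat_lit 4) (nat_lit 28) (Steps.bwd (nat_lit 0) (Steps.fwd (nat_lit 2048) Steps.nil)) (nat_lit 38) (nat_lit 0),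
  Rule.mk (nat_lit 6) (nat_lit 58) (Steps.bwd (nat_lit 3) (Steps.fwd (nat_lit 1024) (Steps.fwd (nat_lit 3072) (Steps.fwd (nat_lit 2048) (Steps.bwd (nat_lit 2) Steps.nil))))) (nat_lit 25) (nat_lit 1),
  Rule.mk (nat_lit 3) (nat_lit 88) (Steps.bwd (nat_lit 3) (Steps.bwd (nat_lit 5) (Steps.fwd (nat_lit 2048) (Steps.bwd (nat_lit 3) (Steps.fwd (nat_lit 2560) (Steps.fwd (nat_lit 2048) (Steps.fwd (nat_lit 2048) (Steps.fwd (nat_lit 2560) Steps.nil)))))))) (nat_lit 14) (nat_lit 1),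
  Rule.mk (nat_lit 1) (nat_lit 98) (Steps.bwd (nat_lit 3) (Steps.bwd (nat_lit 5) (Steps.bwd (nat_lit 2) (Steps.bwd (nat_lit 4) (Steps.fwd (nat_lit 1024) (Steps.fwd (nat_lit 2048) (Steps.fwd (nat_lit 2560) (Steps.bwd (nat_lit 2) (Steps.fwd (nat_lit 1536) Steps.nil))))))))) (nat_lit 16) (nat_lit 1),
  Rule.mk (nat_lit 5) (nat_lit 108) (Steps.fwd (nat_lit 3072) (Steps.bwd (nat_lit 3) (Steps.bwd (nat_lit 3) (Steps.bwd (nat_lit 5) (Steps.bwd (nat_lit 6) (Steps.bwd (nat_lit 5) (Steps.fwd (nat_lit 2048) (Steps.fwd (nat_lit 2048) (Steps.fwd (nat_lit 2560) (Steps.bwd (nat_lit 6) Steps.nil)))))))))) (nat_lit 26) (nat_lit 10),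
  Rule.mk (nat_lit 5) (nat_lit 58) (Steps.bwd (nat_lit 2) (Steps.bwd (nat_lit 5) (Steps.bwd (nat_lit 2) (Steps.fwd (nat_lit 2560) (Steps.bwd (nat_lit 2) Steps.nil))))) (nat_lit 13) (nat_lit 1),
  Rule.mk (nat_lit 4) (nat_lit 78) (Steps.bwd (nat_lit 2) (Steps.bwd (nat_lit 4) (Steps.bwd (nat_lit 2) (Steps.fwd (nat_lit 1536) (Steps.fwd (nat_lit 512) (Steps.fwd (nat_lit 1536) (Steps.bwd (nat_lit 2) Steps.nil))))))) (nat_lit 5) (nat_lit 1)]
noncomputable def R_2 : List (Rule) := [Rule.mk (nat_lit 6) (nat_lit 58) (Steps.fwd (nat_lit 1024) (Steps.fwd (nat_lit 1536) (Steps.fwd (nat_lit 3072) (Steps.bwd (nat_lit 2) (Steps.bwd (nat_lit 4) Steps.nil))))) (nat_lit 24) (nat_lit 0)]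
noncomputable def R : List (List (Rule)) := [R_0, R_1, R_2]
def LW : List Word := [[], [0], [1], [2], [3], [4], [6], [0], [1], [2], [3], [4], [5]]
def par : Par := ⟨9, 4, 13, 22, 511, 8191, 4194303⟩
theorem hpar : par.ok := by decide
theorem hR0_0 : lall (R) (fun l => lall l (ruleOK rels LW par)) = true := by decide +kernel
theorem hR0 : lall (R) (fun l => lall l (ruleOK rels LW par)) = true := hR0_0
theorem hR : RulesOK rels LW par R := rulesOK_of rfl hR0
def cols : List (ℕ × ℕ) := [(512, 2), (1536, 4), (2560, 5), (3072, 6)]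
theorem hcols : lall cols (colOK rels LW par) = true := by decide +kernel
noncomputable def JS0 : List ℕ := [nat_lit 0x174010006c5c004091880e1b01616c685b170181a85a1901c061800c1a85b16860001700b1745b170005a0416c650386216858031745b0f17c5d168545a0186504c660305f1680014164051906602c5e1644c00004580e16859160340116859121640e1805d01c0d16444001780b034581016c5804000591603c0000c570e0000215c340117006164570c15859170090200902009170591582c5a16c0801c0801c5b160550a000031542455158540800458014051640616458154540714c00150185615c04014050105715853148140015010540005414c52031500200c5400008530045301,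
  nat_lit 0x71cc0b0146f2f20c2a1d0041b8b80c00c6d0f00c6d1b0540e0480d00c6c2d214841c4021acb00a0046a0f004030907d1a8ac6b0087e1f4692a00c6b0b42e1a4a4741a094201b80c020261ac68130106a094070280519ca00100c660e0006707821200830c02f20c2e1dc9c6607479098811f465261b0642500005008211dc1b19090021901065190031940519404018051948c1d1d4271cc131986300888740987206012194622100c021846c000086020008651982007c6418c031807c0218808004001e004040201003c1017c740717810001781009034050105e1c000031743c5e0045c08,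
  nat_lit 0x210851104301c03010842092411280ad2ac1c04407205201a0c88401c80472000000c89001180326c040141205c7f45200891f854332441621801058300c5103d1f80c0f400100502e0ac05234442607d1f00025d0c01210850287b420347a250e87a0203a01d041d0008613092402144a21c210001720c12054fc7c004f87a004f81e004093d06c001d8f08202c7900c7425c9e270991007801cec780087320c1d20839234323a1e8070000100ce40000c010f1c03b0f03e0fc931c000380100703c7b258382246e000dc6e0707f2001f204320c48b2206d361b4900f03b0e83b0e4380dc6d351b8001b4386e0b08c2508e0d86f1b4d0711bccc172309323c001c07109c6f321d80f1cc001bcc4070287e08c2b0a4840c0820986f30,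
  nat_lit 0x9702c102649501893630009c1849b249301224494032645b1642b1204d028950309162274632d8552d4992580e2418400004972e05b2588f00180000348e5f0300b24c0000c912488e5e00003249748d0001b050172880523c015c2689804c02231688c22ccc050cc3a0f45423c032308b5b0582f1100022968421003f2dcb924c8b2296400230ad0b89c5800c042280127c332a0aa15c912255c8900c8b1344b1585c2408856000890f43b0b954882a46419464284390dc58228875400089138a905ca91184511ca721d4c882901011487160008800c05221488722454288400b00500c8751110160c8882185c862154001000020ac131605b2d4ac2193c01250270442b25401001388413c4610840298310c02e210834d09c102608320930012188711c1423c854b20c000240b0785707801000834a,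
  nat_lit 0xa62ac17054ae0801e2e40d299dc002a8172ac0e03cab2a0a67602cb72cc06295d4a52c41f014a42c0840428c3c01008a25f294ac074ae289d0040b0a17300c2c2c8a7285c81d0ac12044a071000132980f27cc40d278cc2708c010089e7000c9d332aca4275bc040209c0e00c070340c028090289c6e270a707c9e26db4192749a0902407264209a02c990d0000101003021b0980280828c180f81828809261ac0526813020976a268062584801008080149969004a31c0c93183903c0d28095680009f25004002540b672509902c9424d989428c693104f10c130340a24d9404018030140600c072500164,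
  nat_lit 0x2018af00a0401010032b808018ad80000ae03cb02b1fc062accc133108638cc32c0ac2ac01009f8aa010ad2c8112b8092acaa7d2a80a2b40f0340c2a8a97c00800010022a1ec02001e8a92b81b074b3054120440829c002a1e4a800c02010a67829c0f05016060ac29ca638]
theorem S0_c : blocks (facts 9 4 13 22 511 8191 4194303 10 1023 8 255 A R 32) 32 JS0 339 = true := by decide +kernel
theorem S0 : On (Step.{u} rels LW par A) 339 531 :=
  steps_of_blocks hpar hR S0_c (by decide +kernel)
theorem D0_c : allB (defOK 9 13 22 511 4194303 337 A K) 1 2 = true := by decide +kernel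
theorem D0 : On (fun r => defOK par.W par.WL par.E par.mW par.mE 337 A K r = true) 256 384 :=
  On.of_allB D0_c
noncomputable def JW0 : List ℕ := [nat_lit 0x4166f0ab9f42203fc871e5208290f090034c714da08929c37d039f621a3708f91924c7cc981282182ecf19081e473c768d52583ec9712a22227491924224368839e7280360fe1151ac3f0619dd20a4748d9eb2886e0a11211ae814732002be808ad96041e708ac9ec414471069032bc710a895c42e374b290b2c47390a9ee2d05a8b3a122ec5c8b89fe2dc3f50d9fa2e88110e21841c8850817a42c880b69782ee8950f22244e890bf17d44c600c1184,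
  nat_lit 0x33a1842f8630ca268499b1348250489af18c26ce48bc326628258470b26ec478aa1582c0578b20f06f4db0853402944c8a634e1f43885733c2083f1a90ba27cd90a20a6228469ad09222cd588616a2e85b9c11d0254658f025a3309a13619c3e8ed8c92647c8f81383382704089717c71c600c41d4278779d918e3f8ef8f928a6e89f9463246e4540a12782c4fc93a17e718691cb19e5206814a1d280ce614c29e5490495416870c5c9be226378f4916,
  nat_lit 0x500b01598706c0c01a03208063c1c83d0c8180cd85b06e62cc402f0b00c4279970f21d43d1a334a1f03386a3421d03b07333e1b03486e0b8638cc84d0a415028195090108c8844]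
theorem W0_c : blocks (rows 9 4 13 22 511 8191 4194303 11 2047 44 A 531 77 cols 32) 32 JW0 0 = true := by decide +kernel
theorem W0 : On (Row.{u} rels LW par A 531 77 cols) 0 96 :=
  rows_of_blocks hpar (by decide) hcols W0_c (by decide +kernel)
theorem idx : Idx.{u} rels [[0], [2], [4], [6]] [[0], [2], [4]] 77 :=
  idx_of_cert hpar hR (K := K) (by decide +kernel) (T := 337) (T' := 384) (by decide) D0
    (subs := [1,3,5]) (by decide +kernel) (T1 := 339) (by decide) (N := 531) S0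
    (by decide) (n' := 96) (by decide) W0 (by decide +kernel) (by decide +kernel)
end T1
theorem b1 : Bound.{u} rels [[0], [2], [4], [6]] 443520 := .of_idx T1.idx b2 (by decide)
namespace T0
noncomputable def A_0 : List (ℕ) := [nat_lit 0x1838c06a8301b18c066e33103880406361b28d86ae361c90d8506331c18e444a391438e4786281c38f06a62010a8e06a4381410d474c3a1d18e84ea3a1d38e86423a1930906482412389064e321220c834a3217a8bc5cc251720945c62512a8944ae250f08947622e0cb8b85842e1638c458c261328b07642c09a0b054c3b1338ec6283b188898324260c88c43c83108304c56c2b0cb0643262b15986456e2b0988ac54e2a09b84c2661015084c3ce1e0838403c62a080878468180a186038c180b3860144180e382c1c21c1090703481c0b2858102160a905846c1613b09c5282708989c5ee270f889c28c1a0d188424c210db8841641a0d88683aa1d06b8743a21d1120741861d1138b41e8220730885242216b0b45e82d1488bc3682f0aa85436c1b0da8b41621b0a282c1c61f0f98342e62d14b87c2a8290ab05422e2308881c2421109208c1e223092838288120790501ee1206203c1a20d0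6303408e0c0308301041504385c08a05033814084050530280860a02302c0ec0704201c10a0804b0240cc0603202012a0901a01806e090138080440201180802a010098040240100300000a0000180000200319988c4a61301978c245f2f9178bcc592c3974ace5b2da93cba45c2e1164b2a4e2528f4c885028290ca244b259138ae855272168b424d26a11c9e4532a3918a4e442ab920a6e4523b8dc828421eb0a0844452491008683726211480c302230d88ac382411188cc3e1bb08068a331f20e47e6381828606c43c1988807223c1e28a4704281aa8ac50a111d08906442412283c40a0d1288405ca171620987682a13204062c1e0ca8285622a09a81c54a1c0f283020a060c105c388160b20844e22d10883834e0e0eb07c4442f17b05c3661716887c3ea2314b044228151188501c8050a381c2440707b0141a6050608242ae0a0b90280a40305182c1660903a00c10c030310241260402080c06a0201300402e00,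
  nat_lit 0xc6c6331a98cc626331198cc4e63313188c4262302980c0e60300980b8c602f9980bac612fa184bc66130b984bc4612fa978b6c5f2fb97cbce5e2c3160b0a582c1960a0258251160acc4a24a95894856251958ac4562ea16cb865b2d896ca2a5d2e2164b8a5c2ca174b245d28397094e59282140a0064281128a0864283140a2c5128a14486e5127114496a4b25a15caec4b29a12c7ae4b2ba95c92e5726895cb44572d313882e4e27a138a865a2a296898e5a26991c9ac4d2aa93480e4d23b11ca8c4f2a213c84e4f23913ca42542a9150a4c52292948a46522a8948a6c552999548ea5323894c82a412189047a44119b1047a8412190f49283d24990868c422129086e4421e3124984491ab10c808432029308044c1fb1308c84c22210088246222910902441ba1108a437242914906452430e48c6481ba91868e341a08cc666341e20d0402341f10fc62a3e1f38f86043e1fa0f87ee3f1da8fc6023f]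
noncomputable def A : List (List (ℕ)) := [A_0]
noncomputable def K_0 : List (ℕ) := [nat_lit 0x156b1d8ac161afd7ab559add42b15da9572974da5532a955a75469f43a9d5e8b3fa4cfa8141a251a91429d4ee8f35954c66d349ece2673c9bcc251398ccb22f2b934922b328f4a65b2f89c6a3b2e8b48e37208c4724f2185c7e191192c42292287c4a1d0d84426090683c161503814060000]
noncomputable def K : List (List (ℕ)) := [K_0]
noncomputable def R_0 : List (Rule) := [Rule.mk (nat_lit 2) (nat_lit 38) (Steps.bwd (nat_lit 7) (Steps.bwd (nat_lit 1) (Steps.fwd (nat_lit 3584) Steps.nil))) (nat_lit 30) (nat_lit 3),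
  Rule.mk (nat_lit 3) (nat_lit 58) (Steps.bwd (nat_lit 7) (Steps.bwd (nat_lit 1) (Steps.bwd (nat_lit 3) (Steps.bwd (nat_lit 1) (Steps.fwd (nat_lit 3584) Steps.nil))))) (nat_lit 32) (nat_lit 5),
  Rule.mk (nat_lit 5) (nat_lit 78) (Steps.bwd (nat_lit 7) (Steps.bwd (nat_lit 1) (Steps.bwd (nat_lit 3) (Steps.fwd (nat_lit 2560) (Steps.fwd (nat_lit 512) (Steps.fwd (nat_lit 1536) (Steps.fwd (nat_lit 3584) Steps.nil))))))) (nat_lit 34) (nat_lit 7),
  Rule.mk (nat_lit 3) (nat_lit 38) (Steps.bwd (nat_lit 6) (Steps.bwd (nat_lit 3) (Steps.fwd (nat_lit 3072) Steps.nil))) (nat_lit 22) (nat_lit 1),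
  Rule.mk (nat_lit 2) (nat_lit 58) (Steps.fwd (nat_lit 1536) (Steps.bwd (nat_lit 6) (Steps.fwd (nat_lit 1024) (Steps.fwd (nat_lit 1536) (Steps.fwd (nat_lit 3072) Steps.nil))))) (nat_lit 24) (nat_lit 4),
  Rule.mk (nat_lit 7) (nat_lit 88) (Steps.bwd (nat_lit 3) (Steps.bwd (nat_lit 6) (Steps.bwd (nat_lit 7) (Steps.bwd (nat_lit 1) (Steps.fwd (nat_lit 3072) (Steps.fwd (nat_lit 3584) (Steps.fwd (nat_lit 3072) (Steps.bwd (nat_lit 2) Steps.nil)))))))) (nat_lit 36) (nat_lit 6),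
  Rule.mk (nat_lit 7) (nat_lit 78) (Steps.bwd (nat_lit 3) (Steps.bwd (nat_lit 1) (Steps.bwd (nat_lit 5) (Steps.fwd (nat_lit 1536) (Steps.bwd (nat_lit 2) (Steps.fwd (nat_lit 3584) (Steps.fwd (nat_lit 2560) Steps.nil))))))) (nat_lit 35) (nat_lit 3),
  Rule.mk (nat_lit 4) (nat_lit 78) (Steps.bwd (nat_lit 2) (Steps.fwd (nat_lit 3584) (Steps.bwd (nat_lit 5) (Steps.fwd (nat_lit 3584) (Steps.bwd (nat_lit 3) (Steps.fwd (nat_lit 1024) (Steps.fwd (nat_lit 2560) Steps.nil))))))) (nat_lit 35) (nat_lit 7),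
  Rule.mk (nat_lit 5) (nat_lit 118) (Steps.fwd (nat_lit 1024) (Steps.fwd (nat_lit 2048) (Steps.bwd (nat_lit 5) (Steps.bwd (nat_lit 3) (Steps.fwd (nat_lit 1024) (Steps.bwd (nat_lit 3) (Steps.bwd (nat_lit 2) (Steps.bwd (nat_lit 3) (Steps.fwd (nat_lit 2560) (Steps.bwd (nat_lit 4) (Steps.bwd (nat_lit 2) Steps.nil))))))))))) (nat_lit 18) (nat_lit 8),
  Rule.mk (nat_lit 4) (nat_lit 108) (Steps.bwd (nat_lit 6) (Steps.bwd (nat_lit 5) (Steps.bwd (nat_lit 6) (Steps.fwd (nat_lit 2560) (Steps.fwd (nat_lit 1536) (Steps.fwd (nat_lit 1536) (Steps.fwd (nat_lit 2560) (Steps.fwd (nat_lit 3072) (Steps.fwd (nat_lit 2560) (Steps.bwd (nat_lit 4) Steps.nil)))))))))) (nat_lit 27) (nat_lit 0),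
  Rule.mk (nat_lit 6) (nat_lit 38) (Steps.fwd (nat_lit 2048) (Steps.fwd (nat_lit 3072) (Steps.fwd (nat_lit 2048) Steps.nil))) (nat_lit 22) (nat_lit 0),
  Rule.mk (nat_lit 6) (nat_lit 58) (Steps.bwd (nat_lit 3) (Steps.bwd (nat_lit 1) (Steps.fwd (nat_lit 3072) (Steps.fwd (nat_lit 2048) (Steps.bwd (nat_lit 2) Steps.nil))))) (nat_lit 25) (nat_lit 1),
  Rule.mk (nat_lit 5) (nat_lit 108) (Steps.fwd (nat_lit 2048) (Steps.fwd (nat_lit 2048) (Steps.bwd (nat_lit 5) (Steps.bwd (nat_lit 6) (Steps.fwd (nat_lit 2560) (Steps.fwd (nat_lit 3072) (Steps.bwd (nat_lit 3) (Steps.bwd (nat_lit 3) (Steps.fwd (nat_lit 2560) (Steps.fwd (nat_lit 3072) Steps.nil)))))))))) (nat_lit 26) (nat_lit 5),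
  Rule.mk (nat_lit 4) (nat_lit 38) (Steps.bwd (nat_lit 4) (Steps.bwd (nat_lit 4) (Steps.bwd (nat_lit 4) Steps.nil))) (nat_lit 3) (nat_lit 0),
  Rule.mk (nat_lit 6) (nat_lit 38) (Steps.bwd (nat_lit 4) (Steps.fwd (nat_lit 3072) (Steps.bwd (nat_lit 4) Steps.nil))) (nat_lit 23) (nat_lit 1),
  Rule.mk (nat_lit 6) (nat_lit 38) (Steps.bwd (nat_lit 3) (Steps.fwd (nat_lit 3072) (Steps.bwd (nat_lit 3) Steps.nil))) (nat_lit 22) (nat_lit 0),
  Rule.mk (nat_lit 3) (nat_lit 38) (Steps.bwd (nat_lit 3) (Steps.bwd (nat_lit 3) (Steps.bwd (nat_lit 3) Steps.nil))) (nat_lit 2) (nat_lit 0),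
  Rule.mk (nat_lit 2) (nat_lit 28) (Steps.bwd (nat_lit 2) (Steps.fwd (nat_lit 512) Steps.nil)) (nat_lit 1) (nat_lit 0),
  Rule.mk (nat_lit 7) (nat_lit 38) (Steps.bwd (nat_lit 2) (Steps.bwd (nat_lit 7) (Steps.fwd (nat_lit 1024) Steps.nil))) (nat_lit 30) (nat_lit 2),
  Rule.mk (nat_lit 5) (nat_lit 58) (Steps.bwd (nat_lit 2) (Steps.bwd (nat_lit 5) (Steps.bwd (nat_lit 2) (Steps.fwd (nat_lit 2560) (Steps.fwd (nat_lit 512) Steps.nil))))) (nat_lit 13) (nat_lit 1),
  Rule.mk (nat_lit 7) (nat_lit 58) (Steps.bwd (nat_lit 2) (Steps.fwd (nat_lit 1536) (Steps.bwd (nat_lit 2) (Steps.fwd (nat_lit 3584) (Steps.bwd (nat_lit 4) Steps.nil))))) (nat_lit 33) (nat_lit 3),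
  Rule.mk (nat_lit 2) (nat_lit 38) (Steps.bwd (nat_lit 7) (Steps.fwd (nat_lit 1024) (Steps.fwd (nat_lit 3584) Steps.nil))) (nat_lit 30) (nat_lit 3),
  Rule.mk (nat_lit 1) (nat_lit 28) (Steps.bwd (nat_lit 1) (Steps.fwd (nat_lit 1024) Steps.nil)) (nat_lit 0) (nat_lit 0),
  Rule.mk (nat_lit 7) (nat_lit 38) (Steps.bwd (nat_lit 1) (Steps.fwd (nat_lit 3584) (Steps.fwd (nat_lit 512) Steps.nil))) (nat_lit 30) (nat_lit 0),
  Rule.mk (nat_lit 6) (nat_lit 58) (Steps.bwd (nat_lit 3) (Steps.bwd (nat_lit 2) (Steps.fwd (nat_lit 3072) (Steps.fwd (nat_lit 2048) (Steps.bwd (nat_lit 1) Steps.nil))))) (nat_lit 25) (nat_lit 4),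
  Rule.mk (nat_lit 1) (nat_lit 78) (Steps.bwd (nat_lit 3) (Steps.fwd (nat_lit 1024) (Steps.fwd (nat_lit 1536) (Steps.fwd (nat_lit 1024) (Steps.fwd (nat_lit 2048) (Steps.fwd (nat_lit 1024) (Steps.fwd (nat_lit 1536) Steps.nil))))))) (nat_lit 6) (nat_lit 1),
  Rule.mk (nat_lit 4) (nat_lit 38) (Steps.bwd (nat_lit 6) (Steps.fwd (nat_lit 1536) (Steps.fwd (nat_lit 3072) Steps.nil))) (nat_lit 23) (nat_lit 0),
  Rule.mk (nat_lit 7) (nat_lit 58) (Steps.bwd (nat_lit 2) (Steps.bwd (nat_lit 4) (Steps.fwd (nat_lit 512) (Steps.bwd (nat_lit 7) (Steps.bwd (nat_lit 4) Steps.nil))))) (nat_lit 33) (nat_lit 3),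
  Rule.mk (nat_lit 4) (nat_lit 78) (Steps.bwd (nat_lit 2) (Steps.bwd (nat_lit 4) (Steps.fwd (nat_lit 512) (Steps.fwd (nat_lit 1536) (Steps.fwd (nat_lit 512) (Steps.bwd (nat_lit 4) (Steps.bwd (nat_lit 2) Steps.nil))))))) (nat_lit 5) (nat_lit 1),
  Rule.mk (nat_lit 5) (nat_lit 78) (Steps.bwd (nat_lit 4) (Steps.bwd (nat_lit 2) (Steps.bwd (nat_lit 7) (Steps.fwd (nat_lit 2560) (Steps.fwd (nat_lit 3584) (Steps.fwd (nat_lit 2048) (Steps.fwd (nat_lit 1024) Steps.nil))))))) (nat_lit 35) (nat_lit 6),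
  Rule.mk (nat_lit 4) (nat_lit 118) (Steps.bwd (nat_lit 1) (Steps.bwd (nat_lit 4) (Steps.bwd (nat_lit 2) (Steps.bwd (nat_lit 4) (Steps.bwd (nat_lit 5) (Steps.fwd (nat_lit 1536) (Steps.bwd (nat_lit 2) (Steps.fwd (nat_lit 2560) (Steps.fwd (nat_lit 1024) (Steps.fwd (nat_lit 2048) (Steps.fwd (nat_lit 2560) Steps.nil))))))))))) (nat_lit 19) (nat_lit 9),
  Rule.mk (nat_lit 1) (nat_lit 78) (Steps.bwd (nat_lit 4) (Steps.fwd (nat_lit 1024) (Steps.fwd (nat_lit 2048) (Steps.bwd (nat_lit 1) (Steps.bwd (nat_lit 4) (Steps.bwd (nat_lit 1) (Steps.fwd (nat_lit 2048) Steps.nil))))))) (nat_lit 6) (nat_lit 3),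
  Rule.mk (nat_lit 1) (nat_lit 28) (Steps.fwd (nat_lit 1024) (Steps.bwd (nat_lit 1) Steps.nil)) (nat_lit 0) (nat_lit 0),
  Rule.mk (nat_lit 7) (nat_lit 38) (Steps.fwd (nat_lit 512) (Steps.bwd (nat_lit 7) (Steps.bwd (nat_lit 1) Steps.nil))) (nat_lit 30) (nat_lit 2),
  Rule.mk (nat_lit 6) (nat_lit 58) (Steps.fwd (nat_lit 2048) (Steps.bwd (nat_lit 1) (Steps.fwd (nat_lit 3072) (Steps.fwd (nat_lit 2048) (Steps.bwd (nat_lit 2) Steps.nil))))) (nat_lit 25) (nat_lit 1),
  Rule.mk (nat_lit 4) (nat_lit 38) (Steps.bwd (nat_lit 6) (Steps.bwd (nat_lit 4) (Steps.fwd (nat_lit 3072) Steps.nil))) (nat_lit 23) (nat_lit 0),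
  Rule.mk (nat_lit 7) (nat_lit 78) (Steps.bwd (nat_lit 5) (Steps.fwd (nat_lit 3584) (Steps.bwd (nat_lit 1) (Steps.fwd (nat_lit 2048) (Steps.fwd (nat_lit 2560) (Steps.bwd (nat_lit 2) (Steps.bwd (nat_lit 4) Steps.nil))))))) (nat_lit 34) (nat_lit 6),
  Rule.mk (nat_lit 3) (nat_lit 58) (Steps.bwd (nat_lit 1) (Steps.fwd (nat_lit 3584) (Steps.fwd (nat_lit 2048) (Steps.bwd (nat_lit 7) (Steps.fwd (nat_lit 1024) Steps.nil))))) (nat_lit 32) (nat_lit 2),
  Rule.mk (nat_lit 3) (nat_lit 78) (Steps.bwd (nat_lit 1) (Steps.bwd (nat_lit 3) (Steps.fwd (nat_lit 1024) (Steps.bwd (nat_lit 3) (Steps.fwd (nat_lit 1024) (Steps.bwd (nat_lit 3) (Steps.bwd (nat_lit 1) Steps.nil))))))) (nat_lit 4) (nat_lit 0),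
  Rule.mk (nat_lit 3) (nat_lit 38) (Steps.bwd (nat_lit 3) (Steps.bwd (nat_lit 3) (Steps.fwd (nat_lit 2048) Steps.nil))) (nat_lit 2) (nat_lit 0),
  Rule.mk (nat_lit 5) (nat_lit 88) (Steps.bwd (nat_lit 3) (Steps.bwd (nat_lit 3) (Steps.bwd (nat_lit 5) (Steps.fwd (nat_lit 2048) (Steps.bwd (nat_lit 3) (Steps.bwd (nat_lit 5) (Steps.fwd (nat_lit 2048) (Steps.fwd (nat_lit 2048) Steps.nil)))))))) (nat_lit 14) (nat_lit 0),
  Rule.mk (nat_lit 1) (nat_lit 88) (Steps.bwd (nat_lit 3) (Steps.bwd (nat_lit 3) (Steps.bwd (nat_lit 1) (Steps.bwd (nat_lit 3) (Steps.bwd (nat_lit 3) (Steps.fwd (nat_lit 1024) (Steps.bwd (nat_lit 3) (Steps.bwd (nat_lit 3) Steps.nil)))))))) (nat_lit 8) (nat_lit 1),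
  Rule.mk (nat_lit 5) (nat_lit 58) (Steps.bwd (nat_lit 1) (Steps.bwd (nat_lit 5) (Steps.bwd (nat_lit 1) (Steps.bwd (nat_lit 5) (Steps.bwd (nat_lit 1) Steps.nil))))) (nat_lit 12) (nat_lit 0),
  Rule.mk (nat_lit 6) (nat_lit 58) (Steps.bwd (nat_lit 3) (Steps.bwd (nat_lit 2) (Steps.fwd (nat_lit 3072) (Steps.bwd (nat_lit 3) (Steps.bwd (nat_lit 1) Steps.nil))))) (nat_lit 25) (nat_lit 4),
  Rule.mk (nat_lit 5) (nat_lit 78) (Steps.bwd (nat_lit 7) (Steps.bwd (nat_lit 3) (Steps.bwd (nat_lit 1) (Steps.bwd (nat_lit 5) (Steps.fwd (nat_lit 1536) (Steps.bwd (nat_lit 2) (Steps.fwd (nat_lit 3584) Steps.nil))))))) (nat_lit 35) (nat_lit 2),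
  Rule.mk (nat_lit 1) (nat_lit 88) (Steps.bwd (nat_lit 6) (Steps.fwd (nat_lit 3584) (Steps.bwd (nat_lit 6) (Steps.fwd (nat_lit 512) (Steps.bwd (nat_lit 7) (Steps.bwd (nat_lit 6) (Steps.fwd (nat_lit 1536) (Steps.fwd (nat_lit 3584) Steps.nil)))))))) (nat_lit 37) (nat_lit 5),
  Rule.mk (nat_lit 4) (nat_lit 38) (Steps.fwd (nat_lit 1536) (Steps.fwd (nat_lit 1536) (Steps.bwd (nat_lit 4) Steps.nil))) (nat_lit 3) (nat_lit 0),
  Rule.mk (nat_lit 6) (nat_lit 108) (Steps.fwd (nat_lit 2560) (Steps.bwd (nat_lit 4) (Steps.bwd (nat_lit 4) (Steps.fwd (nat_lit 2560) (Steps.fwd (nat_lit 3072) (Steps.bwd (nat_lit 5) (Steps.fwd (nat_lit 1536) (Steps.fwd (nat_lit 1536) (Steps.fwd (nat_lit 3072) (Steps.bwd (nat_lit 5) Steps.nil)))))))))) (nat_lit 27) (nat_lit 3),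
  Rule.mk (nat_lit 6) (nat_lit 58) (Steps.bwd (nat_lit 2) (Steps.bwd (nat_lit 4) (Steps.fwd (nat_lit 3072) (Steps.bwd (nat_lit 1) (Steps.fwd (nat_lit 1536) Steps.nil))))) (nat_lit 24) (nat_lit 3),
  Rule.mk (nat_lit 4) (nat_lit 88) (Steps.bwd (nat_lit 2) (Steps.bwd (nat_lit 4) (Steps.fwd (nat_lit 1536) (Steps.bwd (nat_lit 2) (Steps.fwd (nat_lit 1536) (Steps.fwd (nat_lit 1536) (Steps.fwd (nat_lit 512) (Steps.bwd (nat_lit 4) Steps.nil)))))))) (nat_lit 9) (nat_lit 2),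
  Rule.mk (nat_lit 7) (nat_lit 38) (Steps.bwd (nat_lit 1) (Steps.fwd (nat_lit 3584) (Steps.bwd (nat_lit 2) Steps.nil))) (nat_lit 30) (nat_lit 0),
  Rule.mk (nat_lit 4) (nat_lit 38) (Steps.bwd (nat_lit 6) (Steps.fwd (nat_lit 1536) (Steps.bwd (nat_lit 6) Steps.nil))) (nat_lit 23) (nat_lit 0),
  Rule.mk (nat_lit 1) (nat_lit 58) (Steps.bwd (nat_lit 6) (Steps.bwd (nat_lit 3) (Steps.fwd (nat_lit 512) (Steps.fwd (nat_lit 3072) (Steps.bwd (nat_lit 3) Steps.nil))))) (nat_lit 25) (nat_lit 3),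
  Rule.mk (nat_lit 7) (nat_lit 88) (Steps.bwd (nat_lit 6) (Steps.fwd (nat_lit 512) (Steps.fwd (nat_lit 3584) (Steps.fwd (nat_lit 2048) (Steps.bwd (nat_lit 6) (Steps.fwd (nat_lit 3584) (Steps.bwd (nat_lit 1) (Steps.bwd (nat_lit 6) Steps.nil)))))))) (nat_lit 36) (nat_lit 3),
  Rule.mk (nat_lit 5) (nat_lit 108) (Steps.bwd (nat_lit 6) (Steps.bwd (nat_lit 5) (Steps.fwd (nat_lit 2048) (Steps.fwd (nat_lit 2048) (Steps.bwd (nat_lit 5) (Steps.fwd (nat_lit 3072) (Steps.bwd (nat_lit 5) (Steps.fwd (nat_lit 3072) (Steps.fwd (nat_lit 2048) (Steps.bwd (nat_lit 3) Steps.nil)))))))))) (nat_lit 26) (nat_lit 3),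
  Rule.mk (nat_lit 1) (nat_lit 58) (Steps.bwd (nat_lit 7) (Steps.bwd (nat_lit 3) (Steps.fwd (nat_lit 3584) (Steps.bwd (nat_lit 1) (Steps.fwd (nat_lit 2048) Steps.nil))))) (nat_lit 32) (nat_lit 3),
  Rule.mk (nat_lit 2) (nat_lit 58) (Steps.bwd (nat_lit 7) (Steps.bwd (nat_lit 4) (Steps.fwd (nat_lit 3584) (Steps.bwd (nat_lit 2) (Steps.fwd (nat_lit 1536) Steps.nil))))) (nat_lit 33) (nat_lit 0),
  Rule.mk (nat_lit 6) (nat_lit 58) (Steps.bwd (nat_lit 1) (Steps.bwd (nat_lit 4) (Steps.fwd (nat_lit 3072) (Steps.bwd (nat_lit 2) (Steps.bwd (nat_lit 4) Steps.nil))))) (nat_lit 24) (nat_lit 0),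
  Rule.mk (nat_lit 3) (nat_lit 78) (Steps.bwd (nat_lit 1) (Steps.bwd (nat_lit 4) (Steps.fwd (nat_lit 1024) (Steps.bwd (nat_lit 3) (Steps.fwd (nat_lit 1024) (Steps.fwd (nat_lit 1536) (Steps.bwd (nat_lit 1) Steps.nil))))))) (nat_lit 6) (nat_lit 2),
  Rule.mk (nat_lit 6) (nat_lit 38) (Steps.bwd (nat_lit 3) (Steps.fwd (nat_lit 3072) (Steps.fwd (nat_lit 2048) Steps.nil))) (nat_lit 22) (nat_lit 0),
  Rule.mk (nat_lit 1) (nat_lit 28) (Steps.bwd (nat_lit 1) (Steps.bwd (nat_lit 1) Steps.nil)) (nat_lit 0) (nat_lit 0),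
  Rule.mk (nat_lit 3) (nat_lit 58) (Steps.bwd (nat_lit 1) (Steps.fwd (nat_lit 3072) (Steps.fwd (nat_lit 2048) (Steps.fwd (nat_lit 512) (Steps.bwd (nat_lit 6) Steps.nil))))) (nat_lit 25) (nat_lit 2),
  Rule.mk (nat_lit 4) (nat_lit 78) (Steps.bwd (nat_lit 1) (Steps.fwd (nat_lit 2048) (Steps.fwd (nat_lit 1024) (Steps.bwd (nat_lit 4) (Steps.bwd (nat_lit 1) (Steps.fwd (nat_lit 2048) (Steps.fwd (nat_lit 1024) Steps.nil))))))) (nat_lit 6) (nat_lit 0),
  Rule.mk (nat_lit 6) (nat_lit 38) (Steps.fwd (nat_lit 1536) (Steps.fwd (nat_lit 3072) (Steps.bwd (nat_lit 4) Steps.nil))) (nat_lit 23) (nat_lit 1)]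
noncomputable def R_1 : List (Rule) := [Rule.mk (nat_lit 2) (nat_lit 58) (Steps.bwd (nat_lit 4) (Steps.fwd (nat_lit 3072) (Steps.bwd (nat_lit 1) (Steps.bwd (nat_lit 4) (Steps.fwd (nat_lit 3072) Steps.nil))))) (nat_lit 24) (nat_lit 4),
  Rule.mk (nat_lit 1) (nat_lit 58) (Steps.bwd (nat_lit 4) (Steps.fwd (nat_lit 3072) (Steps.bwd (nat_lit 2) (Steps.bwd (nat_lit 4) (Steps.fwd (nat_lit 3072) Steps.nil))))) (nat_lit 24) (nat_lit 1),
  Rule.mk (nat_lit 5) (nat_lit 108) (Steps.bwd (nat_lit 4) (Steps.fwd (nat_lit 1536) (Steps.fwd (nat_lit 3072) (Steps.bwd (nat_lit 5) (Steps.fwd (nat_lit 3072) (Steps.bwd (nat_lit 5) (Steps.fwd (nat_lit 1536) (Steps.fwd (nat_lit 1536) (Steps.bwd (nat_lit 5) (Steps.bwd (nat_lit 6) Steps.nil)))))))))) (nat_lit 27) (nat_lit 9),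
  Rule.mk (nat_lit 4) (nat_lit 38) (Steps.bwd (nat_lit 4) (Steps.bwd (nat_lit 4) (Steps.fwd (nat_lit 1536) Steps.nil))) (nat_lit 3) (nat_lit 0),
  Rule.mk (nat_lit 2) (nat_lit 58) (Steps.bwd (nat_lit 4) (Steps.fwd (nat_lit 3072) (Steps.bwd (nat_lit 1) (Steps.bwd (nat_lit 4) (Steps.bwd (nat_lit 6) Steps.nil))))) (nat_lit 24) (nat_lit 4),
  Rule.mk (nat_lit 1) (nat_lit 58) (Steps.bwd (nat_lit 4) (Steps.fwd (nat_lit 3072) (Steps.fwd (nat_lit 512) (Steps.bwd (nat_lit 4) (Steps.fwd (nat_lit 3072) Steps.nil))))) (nat_lit 24) (nat_lit 1),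
  Rule.mk (nat_lit 7) (nat_lit 38) (Steps.bwd (nat_lit 2) (Steps.bwd (nat_lit 7) (Steps.bwd (nat_lit 1) Steps.nil))) (nat_lit 30) (nat_lit 2),
  Rule.mk (nat_lit 2) (nat_lit 28) (Steps.bwd (nat_lit 2) (Steps.bwd (nat_lit 2) Steps.nil)) (nat_lit 1) (nat_lit 0),
  Rule.mk (nat_lit 7) (nat_lit 38) (Steps.bwd (nat_lit 2) (Steps.fwd (nat_lit 3584) (Steps.bwd (nat_lit 1) Steps.nil))) (nat_lit 30) (nat_lit 2),
  Rule.mk (nat_lit 6) (nat_lit 58) (Steps.bwd (nat_lit 2) (Steps.fwd (nat_lit 1536) (Steps.fwd (nat_lit 3072) (Steps.bwd (nat_lit 1) (Steps.bwd (nat_lit 4) Steps.nil))))) (nat_lit 24) (nat_lit 3),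
  Rule.mk (nat_lit 3) (nat_lit 58) (Steps.bwd (nat_lit 2) (Steps.fwd (nat_lit 3072) (Steps.fwd (nat_lit 2048) (Steps.bwd (nat_lit 1) (Steps.fwd (nat_lit 3072) Steps.nil))))) (nat_lit 25) (nat_lit 5),
  Rule.mk (nat_lit 4) (nat_lit 58) (Steps.bwd (nat_lit 2) (Steps.fwd (nat_lit 3584) (Steps.bwd (nat_lit 4) (Steps.fwd (nat_lit 3584) (Steps.fwd (nat_lit 512) Steps.nil))))) (nat_lit 33) (nat_lit 5),
  Rule.mk (nat_lit 1) (nat_lit 58) (Steps.bwd (nat_lit 5) (Steps.bwd (nat_lit 1) (Steps.fwd (nat_lit 2560) (Steps.fwd (nat_lit 1024) (Steps.fwd (nat_lit 2560) Steps.nil))))) (nat_lit 12) (nat_lit 1),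
  Rule.mk (nat_lit 3) (nat_lit 118) (Steps.bwd (nat_lit 5) (Steps.fwd (nat_lit 2048) (Steps.fwd (nat_lit 1024) (Steps.bwd (nat_lit 3) (Steps.fwd (nat_lit 512) (Steps.bwd (nat_lit 3) (Steps.fwd (nat_lit 2560) (Steps.fwd (nat_lit 1536) (Steps.fwd (nat_lit 512) (Steps.fwd (nat_lit 2560) (Steps.bwd (nat_lit 1) Steps.nil))))))))))) (nat_lit 18) (nat_lit 10),
  Rule.mk (nat_lit 7) (nat_lit 78) (Steps.bwd (nat_lit 5) (Steps.bwd (nat_lit 7) (Steps.fwd (nat_lit 2048) (Steps.bwd (nat_lit 1) (Steps.fwd (nat_lit 2560) (Steps.fwd (nat_lit 1536) (Steps.fwd (nat_lit 512) Steps.nil))))))) (nat_lit 35) (nat_lit 1),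
  Rule.mk (nat_lit 7) (nat_lit 38) (Steps.fwd (nat_lit 512) (Steps.fwd (nat_lit 3584) (Steps.bwd (nat_lit 1) Steps.nil))) (nat_lit 30) (nat_lit 2),
  Rule.mk (nat_lit 1) (nat_lit 58) (Steps.bwd (nat_lit 5) (Steps.fwd (nat_lit 1024) (Steps.bwd (nat_lit 5) (Steps.bwd (nat_lit 1) (Steps.fwd (nat_lit 2560) Steps.nil))))) (nat_lit 12) (nat_lit 1),
  Rule.mk (nat_lit 3) (nat_lit 118) (Steps.bwd (nat_lit 5) (Steps.fwd (nat_lit 2048) (Steps.fwd (nat_lit 1024) (Steps.fwd (nat_lit 2048) (Steps.fwd (nat_lit 512) (Steps.fwd (nat_lit 2048) (Steps.fwd (nat_lit 2560) (Steps.bwd (nat_lit 4) (Steps.bwd (nat_lit 2) (Steps.fwd (nat_lit 2560) (Steps.bwd (nat_lit 1) Steps.nil))))))))))) (nat_lit 18) (nat_lit 10),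
  Rule.mk (nat_lit 7) (nat_lit 58) (Steps.bwd (nat_lit 3) (Steps.fwd (nat_lit 3584) (Steps.bwd (nat_lit 1) (Steps.bwd (nat_lit 3) (Steps.bwd (nat_lit 1) Steps.nil))))) (nat_lit 32) (nat_lit 4),
  Rule.mk (nat_lit 7) (nat_lit 58) (Steps.bwd (nat_lit 1) (Steps.bwd (nat_lit 3) (Steps.bwd (nat_lit 1) (Steps.fwd (nat_lit 3584) (Steps.bwd (nat_lit 3) Steps.nil))))) (nat_lit 32) (nat_lit 0),
  Rule.mk (nat_lit 3) (nat_lit 78) (Steps.bwd (nat_lit 5) (Steps.bwd (nat_lit 2) (Steps.fwd (nat_lit 1536) (Steps.bwd (nat_lit 7) (Steps.fwd (nat_lit 2560) (Steps.fwd (nat_lit 3584) (Steps.bwd (nat_lit 1) Steps.nil))))))) (nat_lit 34) (nat_lit 2),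
  Rule.mk (nat_lit 3) (nat_lit 88) (Steps.bwd (nat_lit 3) (Steps.bwd (nat_lit 5) (Steps.bwd (nat_lit 3) (Steps.bwd (nat_lit 3) (Steps.fwd (nat_lit 2560) (Steps.bwd (nat_lit 3) (Steps.bwd (nat_lit 3) (Steps.fwd (nat_lit 2560) Steps.nil)))))))) (nat_lit 14) (nat_lit 1),
  Rule.mk (nat_lit 6) (nat_lit 108) (Steps.bwd (nat_lit 5) (Steps.fwd (nat_lit 3072) (Steps.bwd (nat_lit 3) (Steps.bwd (nat_lit 3) (Steps.fwd (nat_lit 2560) (Steps.fwd (nat_lit 3072) (Steps.fwd (nat_lit 2560) (Steps.bwd (nat_lit 3) (Steps.bwd (nat_lit 3) (Steps.fwd (nat_lit 2560) Steps.nil)))))))))) (nat_lit 26) (nat_lit 9),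
  Rule.mk (nat_lit 6) (nat_lit 88) (Steps.fwd (nat_lit 3584) (Steps.bwd (nat_lit 1) (Steps.fwd (nat_lit 3072) (Steps.fwd (nat_lit 3584) (Steps.fwd (nat_lit 3072) (Steps.fwd (nat_lit 512) (Steps.fwd (nat_lit 3584) (Steps.bwd (nat_lit 3) Steps.nil)))))))) (nat_lit 36) (nat_lit 8),
  Rule.mk (nat_lit 4) (nat_lit 58) (Steps.bwd (nat_lit 6) (Steps.fwd (nat_lit 512) (Steps.fwd (nat_lit 1536) (Steps.fwd (nat_lit 3072) (Steps.bwd (nat_lit 1) Steps.nil))))) (nat_lit 24) (nat_lit 2),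
  Rule.mk (nat_lit 2) (nat_lit 58) (Steps.bwd (nat_lit 4) (Steps.bwd (nat_lit 6) (Steps.bwd (nat_lit 1) (Steps.fwd (nat_lit 1536) (Steps.fwd (nat_lit 3072) Steps.nil))))) (nat_lit 24) (nat_lit 4),
  Rule.mk (nat_lit 1) (nat_lit 58) (Steps.bwd (nat_lit 4) (Steps.bwd (nat_lit 6) (Steps.fwd (nat_lit 512) (Steps.fwd (nat_lit 1536) (Steps.fwd (nat_lit 3072) Steps.nil))))) (nat_lit 24) (nat_lit 1),
  Rule.mk (nat_lit 4) (nat_lit 38) (Steps.bwd (nat_lit 4) (Steps.fwd (nat_lit 1536) (Steps.bwd (nat_lit 4) Steps.nil))) (nat_lit 3) (nat_lit 0),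
  Rule.mk (nat_lit 7) (nat_lit 58) (Steps.bwd (nat_lit 4) (Steps.fwd (nat_lit 3584) (Steps.fwd (nat_lit 512) (Steps.fwd (nat_lit 1536) (Steps.bwd (nat_lit 2) Steps.nil))))) (nat_lit 33) (nat_lit 1),
  Rule.mk (nat_lit 6) (nat_lit 88) (Steps.bwd (nat_lit 4) (Steps.fwd (nat_lit 3584) (Steps.bwd (nat_lit 1) (Steps.fwd (nat_lit 3072) (Steps.fwd (nat_lit 3584) (Steps.bwd (nat_lit 6) (Steps.fwd (nat_lit 512) (Steps.fwd (nat_lit 3584) Steps.nil)))))))) (nat_lit 37) (nat_lit 2),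
  Rule.mk (nat_lit 2) (nat_lit 78) (Steps.bwd (nat_lit 4) (Steps.fwd (nat_lit 512) (Steps.fwd (nat_lit 2048) (Steps.fwd (nat_lit 512) (Steps.fwd (nat_lit 1536) (Steps.fwd (nat_lit 512) (Steps.fwd (nat_lit 2048) Steps.nil))))))) (nat_lit 7) (nat_lit 2),
  Rule.mk (nat_lit 5) (nat_lit 88) (Steps.bwd (nat_lit 4) (Steps.bwd (nat_lit 4) (Steps.bwd (nat_lit 5) (Steps.bwd (nat_lit 4) (Steps.bwd (nat_lit 4) (Steps.fwd (nat_lit 2560) (Steps.bwd (nat_lit 4) (Steps.bwd (nat_lit 4) Steps.nil)))))))) (nat_lit 15) (nat_lit 1),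
  Rule.mk (nat_lit 6) (nat_lit 108) (Steps.bwd (nat_lit 5) (Steps.bwd (nat_lit 4) (Steps.bwd (nat_lit 4) (Steps.bwd (nat_lit 6) (Steps.bwd (nat_lit 5) (Steps.fwd (nat_lit 3072) (Steps.fwd (nat_lit 2560) (Steps.bwd (nat_lit 4) (Steps.bwd (nat_lit 4) (Steps.bwd (nat_lit 5) Steps.nil)))))))))) (nat_lit 27) (nat_lit 8),
  Rule.mk (nat_lit 7) (nat_lit 78) (Steps.bwd (nat_lit 1) (Steps.fwd (nat_lit 2048) (Steps.fwd (nat_lit 2560) (Steps.fwd (nat_lit 512) (Steps.bwd (nat_lit 4) (Steps.fwd (nat_lit 3584) (Steps.bwd (nat_lit 5) Steps.nil))))))) (nat_lit 34) (nat_lit 0),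
  Rule.mk (nat_lit 2) (nat_lit 58) (Steps.bwd (nat_lit 5) (Steps.bwd (nat_lit 2) (Steps.fwd (nat_lit 2560) (Steps.bwd (nat_lit 2) (Steps.bwd (nat_lit 5) Steps.nil))))) (nat_lit 13) (nat_lit 0),
  Rule.mk (nat_lit 7) (nat_lit 78) (Steps.bwd (nat_lit 5) (Steps.fwd (nat_lit 3584) (Steps.bwd (nat_lit 1) (Steps.fwd (nat_lit 2048) (Steps.fwd (nat_lit 2560) (Steps.fwd (nat_lit 512) (Steps.fwd (nat_lit 1536) Steps.nil))))))) (nat_lit 34) (nat_lit 6),
  Rule.mk (nat_lit 1) (nat_lit 78) (Steps.bwd (nat_lit 5) (Steps.fwd (nat_lit 1536) (Steps.fwd (nat_lit 512) (Steps.fwd (nat_lit 3584) (Steps.fwd (nat_lit 2560) (Steps.fwd (nat_lit 3584) (Steps.fwd (nat_lit 2048) Steps.nil))))))) (nat_lit 35) (nat_lit 5),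
  Rule.mk (nat_lit 5) (nat_lit 58) (Steps.bwd (nat_lit 1) (Steps.bwd (nat_lit 5) (Steps.bwd (nat_lit 1) (Steps.fwd (nat_lit 2560) (Steps.bwd (nat_lit 1) Steps.nil))))) (nat_lit 12) (nat_lit 0),
  Rule.mk (nat_lit 3) (nat_lit 58) (Steps.bwd (nat_lit 1) (Steps.fwd (nat_lit 3584) (Steps.fwd (nat_lit 2048) (Steps.bwd (nat_lit 7) (Steps.bwd (nat_lit 1) Steps.nil))))) (nat_lit 32) (nat_lit 2),
  Rule.mk (nat_lit 4) (nat_lit 78) (Steps.bwd (nat_lit 1) (Steps.fwd (nat_lit 2048) (Steps.fwd (nat_lit 1024) (Steps.fwd (nat_lit 1536) (Steps.bwd (nat_lit 1) (Steps.fwd (nat_lit 2048) (Steps.bwd (nat_lit 1) Steps.nil))))))) (nat_lit 6) (nat_lit 0),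
  Rule.mk (nat_lit 6) (nat_lit 88) (Steps.fwd (nat_lit 3584) (Steps.bwd (nat_lit 1) (Steps.bwd (nat_lit 6) (Steps.fwd (nat_lit 3584) (Steps.fwd (nat_lit 3072) (Steps.fwd (nat_lit 512) (Steps.fwd (nat_lit 3584) (Steps.fwd (nat_lit 2048) Steps.nil)))))))) (nat_lit 36) (nat_lit 8),
  Rule.mk (nat_lit 5) (nat_lit 108) (Steps.bwd (nat_lit 6) (Steps.fwd (nat_lit 2560) (Steps.bwd (nat_lit 6) (Steps.fwd (nat_lit 2048) (Steps.bwd (nat_lit 3) (Steps.fwd (nat_lit 2560) (Steps.fwd (nat_lit 3072) (Steps.bwd (nat_lit 5) (Steps.bwd (nat_lit 3) (Steps.fwd (nat_lit 2048) Steps.nil)))))))))) (nat_lit 26) (nat_lit 8),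
  Rule.mk (nat_lit 5) (nat_lit 58) (Steps.bwd (nat_lit 2) (Steps.bwd (nat_lit 5) (Steps.bwd (nat_lit 2) (Steps.bwd (nat_lit 5) (Steps.bwd (nat_lit 2) Steps.nil))))) (nat_lit 13) (nat_lit 1),
  Rule.mk (nat_lit 4) (nat_lit 118) (Steps.bwd (nat_lit 2) (Steps.bwd (nat_lit 5) (Steps.bwd (nat_lit 1) (Steps.fwd (nat_lit 2048) (Steps.bwd (nat_lit 5) (Steps.bwd (nat_lit 3) (Steps.bwd (nat_lit 1) (Steps.fwd (nat_lit 2048) (Steps.bwd (nat_lit 2) (Steps.fwd (nat_lit 2048) (Steps.fwd (nat_lit 2560) Steps.nil))))))))))) (nat_lit 18) (nat_lit 6),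
  Rule.mk (nat_lit 7) (nat_lit 78) (Steps.fwd (nat_lit 2560) (Steps.bwd (nat_lit 7) (Steps.bwd (nat_lit 1) (Steps.fwd (nat_lit 2048) (Steps.bwd (nat_lit 5) (Steps.bwd (nat_lit 2) (Steps.bwd (nat_lit 4) Steps.nil))))))) (nat_lit 34) (nat_lit 6),
  Rule.mk (nat_lit 7) (nat_lit 78) (Steps.bwd (nat_lit 5) (Steps.bwd (nat_lit 7) (Steps.fwd (nat_lit 2048) (Steps.fwd (nat_lit 1024) (Steps.fwd (nat_lit 2560) (Steps.bwd (nat_lit 4) (Steps.bwd (nat_lit 2) Steps.nil))))))) (nat_lit 35) (nat_lit 1),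
  Rule.mk (nat_lit 4) (nat_lit 88) (Steps.bwd (nat_lit 4) (Steps.fwd (nat_lit 2560) (Steps.bwd (nat_lit 4) (Steps.bwd (nat_lit 4) (Steps.fwd (nat_lit 2560) (Steps.bwd (nat_lit 4) (Steps.fwd (nat_lit 1536) (Steps.bwd (nat_lit 5) Steps.nil)))))))) (nat_lit 15) (nat_lit 2),
  Rule.mk (nat_lit 6) (nat_lit 108) (Steps.bwd (nat_lit 5) (Steps.bwd (nat_lit 6) (Steps.fwd (nat_lit 2560) (Steps.fwd (nat_lit 1536) (Steps.fwd (nat_lit 1536) (Steps.fwd (nat_lit 2560) (Steps.bwd (nat_lit 6) (Steps.bwd (nat_lit 5) (Steps.bwd (nat_lit 4) (Steps.bwd (nat_lit 4) Steps.nil)))))))))) (nat_lit 27) (nat_lit 1),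
  Rule.mk (nat_lit 3) (nat_lit 58) (Steps.bwd (nat_lit 1) (Steps.fwd (nat_lit 3584) (Steps.fwd (nat_lit 2048) (Steps.fwd (nat_lit 3584) (Steps.bwd (nat_lit 1) Steps.nil))))) (nat_lit 32) (nat_lit 2),
  Rule.mk (nat_lit 6) (nat_lit 88) (Steps.fwd (nat_lit 3584) (Steps.bwd (nat_lit 1) (Steps.fwd (nat_lit 3072) (Steps.fwd (nat_lit 3584) (Steps.bwd (nat_lit 6) (Steps.fwd (nat_lit 512) (Steps.fwd (nat_lit 3584) (Steps.bwd (nat_lit 3) Steps.nil)))))))) (nat_lit 36) (nat_lit 8),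
  Rule.mk (nat_lit 2) (nat_lit 58) (Steps.bwd (nat_lit 5) (Steps.fwd (nat_lit 512) (Steps.bwd (nat_lit 5) (Steps.fwd (nat_lit 512) (Steps.fwd (nat_lit 2560) Steps.nil))))) (nat_lit 13) (nat_lit 0),
  Rule.mk (nat_lit 5) (nat_lit 58) (Steps.bwd (nat_lit 2) (Steps.bwd (nat_lit 5) (Steps.fwd (nat_lit 512) (Steps.bwd (nat_lit 5) (Steps.fwd (nat_lit 512) Steps.nil))))) (nat_lit 13) (nat_lit 1),
  Rule.mk (nat_lit 3) (nat_lit 118) (Steps.bwd (nat_lit 5) (Steps.bwd (nat_lit 3) (Steps.fwd (nat_lit 1024) (Steps.bwd (nat_lit 3) (Steps.bwd (nat_lit 2) (Steps.fwd (nat_lit 2048) (Steps.fwd (nat_lit 2560) (Steps.fwd (nat_lit 1536) (Steps.fwd (nat_lit 512) (Steps.bwd (nat_lit 5) (Steps.fwd (nat_lit 1024) Steps.nil))))))))))) (nat_lit 18) (nat_lit 10),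
  Rule.mk (nat_lit 7) (nat_lit 78) (Steps.bwd (nat_lit 5) (Steps.bwd (nat_lit 7) (Steps.bwd (nat_lit 3) (Steps.bwd (nat_lit 1) (Steps.fwd (nat_lit 2560) (Steps.fwd (nat_lit 1536) (Steps.bwd (nat_lit 2) Steps.nil))))))) (nat_lit 35) (nat_lit 1),
  Rule.mk (nat_lit 3) (nat_lit 78) (Steps.fwd (nat_lit 1024) (Steps.fwd (nat_lit 2560) (Steps.fwd (nat_lit 1536) (Steps.fwd (nat_lit 512) (Steps.bwd (nat_lit 7) (Steps.bwd (nat_lit 5) (Steps.bwd (nat_lit 7) Steps.nil))))))) (nat_lit 35) (nat_lit 4),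
  Rule.mk (nat_lit 5) (nat_lit 58) (Steps.bwd (nat_lit 1) (Steps.bwd (nat_lit 5) (Steps.bwd (nat_lit 1) (Steps.fwd (nat_lit 2560) (Steps.fwd (nat_lit 1024) Steps.nil))))) (nat_lit 12) (nat_lit 0),
  Rule.mk (nat_lit 3) (nat_lit 78) (Steps.bwd (nat_lit 1) (Steps.bwd (nat_lit 5) (Steps.bwd (nat_lit 4) (Steps.fwd (nat_lit 512) (Steps.fwd (nat_lit 3584) (Steps.fwd (nat_lit 2560) (Steps.fwd (nat_lit 3584) Steps.nil))))))) (nat_lit 35) (nat_lit 4),
  Rule.mk (nat_lit 3) (nat_lit 78) (Steps.bwd (nat_lit 1) (Steps.bwd (nat_lit 5) (Steps.fwd (nat_lit 1536) (Steps.fwd (nat_lit 512) (Steps.fwd (nat_lit 3584) (Steps.bwd (nat_lit 5) (Steps.fwd (nat_lit 3584) Steps.nil))))))) (nat_lit 35) (nat_lit 4),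
  Rule.mk (nat_lit 7) (nat_lit 38) (Steps.bwd (nat_lit 2) (Steps.fwd (nat_lit 3584) (Steps.fwd (nat_lit 1024) Steps.nil))) (nat_lit 30) (nat_lit 2),
  Rule.mk (nat_lit 3) (nat_lit 118) (Steps.bwd (nat_lit 2) (Steps.bwd (nat_lit 3) (Steps.bwd (nat_lit 5) (Steps.bwd (nat_lit 4) (Steps.bwd (nat_lit 2) (Steps.fwd (nat_lit 2560) (Steps.fwd (nat_lit 1024) (Steps.fwd (nat_lit 2048) (Steps.fwd (nat_lit 2560) (Steps.bwd (nat_lit 3) (Steps.bwd (nat_lit 1) Steps.nil))))))))))) (nat_lit 18) (nat_lit 2),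
  Rule.mk (nat_lit 7) (nat_lit 58) (Steps.bwd (nat_lit 3) (Steps.fwd (nat_lit 3584) (Steps.fwd (nat_lit 1024) (Steps.bwd (nat_lit 3) (Steps.bwd (nat_lit 1) Steps.nil))))) (nat_lit 32) (nat_lit 4),
  Rule.mk (nat_lit 7) (nat_lit 58) (Steps.bwd (nat_lit 1) (Steps.bwd (nat_lit 3) (Steps.fwd (nat_lit 1024) (Steps.fwd (nat_lit 3584) (Steps.bwd (nat_lit 3) Steps.nil))))) (nat_lit 32) (nat_lit 0),
  Rule.mk (nat_lit 3) (nat_lit 78) (Steps.bwd (nat_lit 5) (Steps.bwd (nat_lit 2) (Steps.fwd (nat_lit 1536) (Steps.bwd (nat_lit 7) (Steps.bwd (nat_lit 5) (Steps.bwd (nat_lit 7) (Steps.fwd (nat_lit 1024) Steps.nil))))))) (nat_lit 34) (nat_lit 2),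
  Rule.mk (nat_lit 4) (nat_lit 88) (Steps.bwd (nat_lit 5) (Steps.fwd (nat_lit 1536) (Steps.bwd (nat_lit 4) (Steps.bwd (nat_lit 5) (Steps.bwd (nat_lit 4) (Steps.fwd (nat_lit 1536) (Steps.fwd (nat_lit 2560) (Steps.fwd (nat_lit 1536) Steps.nil)))))))) (nat_lit 15) (nat_lit 0)]
noncomputable def R_2 : List (Rule) := [Rule.mk (nat_lit 7) (nat_lit 78) (Steps.fwd (nat_lit 2048) (Steps.fwd (nat_lit 1024) (Steps.bwd (nat_lit 5) (Steps.bwd (nat_lit 4) (Steps.bwd (nat_lit 2) (Steps.bwd (nat_lit 7) (Steps.fwd (nat_lit 2560) Steps.nil))))))) (nat_lit 35) (nat_lit 3),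
  Rule.mk (nat_lit 1) (nat_lit 58) (Steps.bwd (nat_lit 3) (Steps.fwd (nat_lit 1024) (Steps.bwd (nat_lit 7) (Steps.bwd (nat_lit 3) (Steps.fwd (nat_lit 3584) Steps.nil))))) (nat_lit 32) (nat_lit 1),
  Rule.mk (nat_lit 5) (nat_lit 88) (Steps.bwd (nat_lit 3) (Steps.bwd (nat_lit 3) (Steps.fwd (nat_lit 2560) (Steps.fwd (nat_lit 2048) (Steps.fwd (nat_lit 2048) (Steps.fwd (nat_lit 2560) (Steps.bwd (nat_lit 3) (Steps.fwd (nat_lit 2048) Steps.nil)))))))) (nat_lit 14) (nat_lit 0),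
  Rule.mk (nat_lit 7) (nat_lit 78) (Steps.bwd (nat_lit 3) (Steps.fwd (nat_lit 1024) (Steps.bwd (nat_lit 5) (Steps.fwd (nat_lit 1536) (Steps.bwd (nat_lit 2) (Steps.bwd (nat_lit 7) (Steps.bwd (nat_lit 5) Steps.nil))))))) (nat_lit 35) (nat_lit 3),
  Rule.mk (nat_lit 4) (nat_lit 38) (Steps.bwd (nat_lit 4) (Steps.fwd (nat_lit 1536) (Steps.fwd (nat_lit 1536) Steps.nil))) (nat_lit 3) (nat_lit 0),
  Rule.mk (nat_lit 2) (nat_lit 58) (Steps.bwd (nat_lit 4) (Steps.bwd (nat_lit 2) (Steps.fwd (nat_lit 3584) (Steps.bwd (nat_lit 4) (Steps.fwd (nat_lit 3584) Steps.nil))))) (nat_lit 33) (nat_lit 4),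
  Rule.mk (nat_lit 7) (nat_lit 58) (Steps.bwd (nat_lit 4) (Steps.fwd (nat_lit 3584) (Steps.bwd (nat_lit 2) (Steps.bwd (nat_lit 4) (Steps.bwd (nat_lit 2) Steps.nil))))) (nat_lit 33) (nat_lit 1),
  Rule.mk (nat_lit 5) (nat_lit 78) (Steps.bwd (nat_lit 4) (Steps.bwd (nat_lit 2) (Steps.fwd (nat_lit 3584) (Steps.bwd (nat_lit 5) (Steps.fwd (nat_lit 3584) (Steps.bwd (nat_lit 3) (Steps.bwd (nat_lit 1) Steps.nil))))))) (nat_lit 35) (nat_lit 6),
  Rule.mk (nat_lit 2) (nat_lit 88) (Steps.bwd (nat_lit 4) (Steps.bwd (nat_lit 4) (Steps.bwd (nat_lit 2) (Steps.fwd (nat_lit 1536) (Steps.fwd (nat_lit 1536) (Steps.bwd (nat_lit 2) (Steps.fwd (nat_lit 1536) (Steps.bwd (nat_lit 4) Steps.nil)))))))) (nat_lit 9) (nat_lit 0),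
  Rule.mk (nat_lit 1) (nat_lit 58) (Steps.bwd (nat_lit 5) (Steps.bwd (nat_lit 1) (Steps.bwd (nat_lit 5) (Steps.bwd (nat_lit 1) (Steps.fwd (nat_lit 2560) Steps.nil))))) (nat_lit 12) (nat_lit 1),
  Rule.mk (nat_lit 4) (nat_lit 88) (Steps.bwd (nat_lit 5) (Steps.fwd (nat_lit 1536) (Steps.fwd (nat_lit 1536) (Steps.bwd (nat_lit 5) (Steps.bwd (nat_lit 4) (Steps.fwd (nat_lit 1536) (Steps.fwd (nat_lit 2560) (Steps.fwd (nat_lit 1536) Steps.nil)))))))) (nat_lit 15) (nat_lit 0),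
  Rule.mk (nat_lit 3) (nat_lit 118) (Steps.bwd (nat_lit 5) (Steps.fwd (nat_lit 1536) (Steps.bwd (nat_lit 2) (Steps.bwd (nat_lit 5) (Steps.bwd (nat_lit 1) (Steps.fwd (nat_lit 2048) (Steps.bwd (nat_lit 5) (Steps.bwd (nat_lit 3) (Steps.fwd (nat_lit 1024) (Steps.bwd (nat_lit 3) (Steps.fwd (nat_lit 512) Steps.nil))))))))))) (nat_lit 18) (nat_lit 4),
  Rule.mk (nat_lit 1) (nat_lit 118) (Steps.bwd (nat_lit 3) (Steps.bwd (nat_lit 5) (Steps.fwd (nat_lit 1536) (Steps.fwd (nat_lit 1024) (Steps.fwd (nat_lit 1536) (Steps.fwd (nat_lit 512) (Steps.fwd (nat_lit 1536) (Steps.fwd (nat_lit 2560) (Steps.fwd (nat_lit 1536) (Steps.fwd (nat_lit 512) (Steps.fwd (nat_lit 2560) Steps.nil))))))))))) (nat_lit 19) (nat_lit 6),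
  Rule.mk (nat_lit 7) (nat_lit 78) (Steps.bwd (nat_lit 1) (Steps.bwd (nat_lit 3) (Steps.bwd (nat_lit 5) (Steps.fwd (nat_lit 512) (Steps.fwd (nat_lit 1536) (Steps.fwd (nat_lit 3584) (Steps.fwd (nat_lit 2560) Steps.nil))))))) (nat_lit 34) (nat_lit 0),
  Rule.mk (nat_lit 5) (nat_lit 108) (Steps.bwd (nat_lit 6) (Steps.fwd (nat_lit 2048) (Steps.bwd (nat_lit 3) (Steps.fwd (nat_lit 2560) (Steps.fwd (nat_lit 3072) (Steps.bwd (nat_lit 5) (Steps.bwd (nat_lit 3) (Steps.bwd (nat_lit 3) (Steps.fwd (nat_lit 2560) (Steps.fwd (nat_lit 3072) Steps.nil)))))))))) (nat_lit 26) (nat_lit 10),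
  Rule.mk (nat_lit 3) (nat_lit 58) (Steps.bwd (nat_lit 2) (Steps.bwd (nat_lit 6) (Steps.fwd (nat_lit 2048) (Steps.fwd (nat_lit 1024) (Steps.fwd (nat_lit 3072) Steps.nil))))) (nat_lit 25) (nat_lit 5),
  Rule.mk (nat_lit 6) (nat_lit 38) (Steps.fwd (nat_lit 2048) (Steps.fwd (nat_lit 3072) (Steps.bwd (nat_lit 3) Steps.nil))) (nat_lit 22) (nat_lit 0),
  Rule.mk (nat_lit 5) (nat_lit 108) (Steps.bwd (nat_lit 6) (Steps.bwd (nat_lit 3) (Steps.fwd (nat_lit 2048) (Steps.fwd (nat_lit 2560) (Steps.bwd (nat_lit 6) (Steps.bwd (nat_lit 5) (Steps.bwd (nat_lit 3) (Steps.fwd (nat_lit 2048) (Steps.bwd (nat_lit 5) (Steps.fwd (nat_lit 3072) Steps.nil)))))))))) (nat_lit 26) (nat_lit 10),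
  Rule.mk (nat_lit 2) (nat_lit 58) (Steps.bwd (nat_lit 6) (Steps.bwd (nat_lit 3) (Steps.fwd (nat_lit 1024) (Steps.fwd (nat_lit 3072) (Steps.bwd (nat_lit 3) Steps.nil))))) (nat_lit 25) (nat_lit 0),
  Rule.mk (nat_lit 1) (nat_lit 58) (Steps.bwd (nat_lit 6) (Steps.bwd (nat_lit 3) (Steps.bwd (nat_lit 2) (Steps.fwd (nat_lit 3072) (Steps.bwd (nat_lit 3) Steps.nil))))) (nat_lit 25) (nat_lit 3),
  Rule.mk (nat_lit 5) (nat_lit 108) (Steps.bwd (nat_lit 6) (Steps.bwd (nat_lit 3) (Steps.fwd (nat_lit 2048) (Steps.bwd (nat_lit 5) (Steps.fwd (nat_lit 3072) (Steps.fwd (nat_lit 2560) (Steps.bwd (nat_lit 3) (Steps.bwd (nat_lit 3) (Steps.fwd (nat_lit 2560) (Steps.fwd (nat_lit 3072) Steps.nil)))))))))) (nat_lit 26) (nat_lit 10),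
  Rule.mk (nat_lit 1) (nat_lit 58) (Steps.fwd (nat_lit 2560) (Steps.fwd (nat_lit 1024) (Steps.fwd (nat_lit 2560) (Steps.bwd (nat_lit 1) (Steps.fwd (nat_lit 2560) Steps.nil))))) (nat_lit 12) (nat_lit 1),
  Rule.mk (nat_lit 6) (nat_lit 38) (Steps.bwd (nat_lit 4) (Steps.bwd (nat_lit 6) (Steps.fwd (nat_lit 1536) Steps.nil))) (nat_lit 23) (nat_lit 1),
  Rule.mk (nat_lit 2) (nat_lit 58) (Steps.bwd (nat_lit 4) (Steps.bwd (nat_lit 6) (Steps.fwd (nat_lit 1024) (Steps.bwd (nat_lit 4) (Steps.fwd (nat_lit 3072) Steps.nil))))) (nat_lit 24) (nat_lit 4),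
  Rule.mk (nat_lit 5) (nat_lit 88) (Steps.bwd (nat_lit 4) (Steps.fwd (nat_lit 1536) (Steps.bwd (nat_lit 5) (Steps.fwd (nat_lit 1536) (Steps.fwd (nat_lit 1536) (Steps.fwd (nat_lit 2560) (Steps.bwd (nat_lit 4) (Steps.bwd (nat_lit 4) Steps.nil)))))))) (nat_lit 15) (nat_lit 1),
  Rule.mk (nat_lit 6) (nat_lit 58) (Steps.bwd (nat_lit 2) (Steps.bwd (nat_lit 4) (Steps.fwd (nat_lit 3072) (Steps.fwd (nat_lit 1024) (Steps.fwd (nat_lit 1536) Steps.nil))))) (nat_lit 24) (nat_lit 3),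
  Rule.mk (nat_lit 5) (nat_lit 58) (Steps.bwd (nat_lit 2) (Steps.fwd (nat_lit 2560) (Steps.bwd (nat_lit 2) (Steps.fwd (nat_lit 2560) (Steps.bwd (nat_lit 2) Steps.nil))))) (nat_lit 13) (nat_lit 1),
  Rule.mk (nat_lit 6) (nat_lit 58) (Steps.bwd (nat_lit 2) (Steps.fwd (nat_lit 1536) (Steps.bwd (nat_lit 6) (Steps.bwd (nat_lit 1) (Steps.bwd (nat_lit 4) Steps.nil))))) (nat_lit 24) (nat_lit 3),
  Rule.mk (nat_lit 3) (nat_lit 58) (Steps.bwd (nat_lit 2) (Steps.bwd (nat_lit 6) (Steps.bwd (nat_lit 3) (Steps.bwd (nat_lit 1) (Steps.bwd (nat_lit 6) Steps.nil))))) (nat_lit 25) (nat_lit 5),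
  Rule.mk (nat_lit 2) (nat_lit 58) (Steps.bwd (nat_lit 6) (Steps.bwd (nat_lit 3) (Steps.bwd (nat_lit 1) (Steps.fwd (nat_lit 3072) (Steps.fwd (nat_lit 2048) Steps.nil))))) (nat_lit 25) (nat_lit 0),
  Rule.mk (nat_lit 6) (nat_lit 38) (Steps.bwd (nat_lit 4) (Steps.fwd (nat_lit 3072) (Steps.fwd (nat_lit 1536) Steps.nil))) (nat_lit 23) (nat_lit 1),
  Rule.mk (nat_lit 2) (nat_lit 58) (Steps.bwd (nat_lit 4) (Steps.fwd (nat_lit 3072) (Steps.bwd (nat_lit 1) (Steps.fwd (nat_lit 1536) (Steps.fwd (nat_lit 3072) Steps.nil))))) (nat_lit 24) (nat_lit 4),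
  Rule.mk (nat_lit 1) (nat_lit 58) (Steps.bwd (nat_lit 4) (Steps.fwd (nat_lit 3072) (Steps.fwd (nat_lit 512) (Steps.fwd (nat_lit 1536) (Steps.bwd (nat_lit 6) Steps.nil))))) (nat_lit 24) (nat_lit 1),
  Rule.mk (nat_lit 5) (nat_lit 98) (Steps.bwd (nat_lit 4) (Steps.bwd (nat_lit 2) (Steps.fwd (nat_lit 2048) (Steps.fwd (nat_lit 1024) (Steps.bwd (nat_lit 5) (Steps.bwd (nat_lit 4) (Steps.bwd (nat_lit 2) (Steps.fwd (nat_lit 2048) (Steps.bwd (nat_lit 1) Steps.nil))))))))) (nat_lit 17) (nat_lit 3),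
  Rule.mk (nat_lit 1) (nat_lit 38) (Steps.bwd (nat_lit 7) (Steps.bwd (nat_lit 2) (Steps.fwd (nat_lit 3584) Steps.nil))) (nat_lit 30) (nat_lit 1),
  Rule.mk (nat_lit 5) (nat_lit 78) (Steps.bwd (nat_lit 7) (Steps.fwd (nat_lit 1024) (Steps.fwd (nat_lit 2048) (Steps.fwd (nat_lit 2560) (Steps.fwd (nat_lit 512) (Steps.bwd (nat_lit 4) (Steps.fwd (nat_lit 3584) Steps.nil))))))) (nat_lit 34) (nat_lit 7),
  Rule.mk (nat_lit 3) (nat_lit 58) (Steps.bwd (nat_lit 7) (Steps.bwd (nat_lit 1) (Steps.fwd (nat_lit 2048) (Steps.fwd (nat_lit 1024) (Steps.fwd (nat_lit 3584) Steps.nil))))) (nat_lit 32) (nat_lit 5),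
  Rule.mk (nat_lit 6) (nat_lit 88) (Steps.bwd (nat_lit 7) (Steps.bwd (nat_lit 6) (Steps.bwd (nat_lit 2) (Steps.fwd (nat_lit 3584) (Steps.bwd (nat_lit 3) (Steps.fwd (nat_lit 3072) (Steps.fwd (nat_lit 3584) (Steps.bwd (nat_lit 1) Steps.nil)))))))) (nat_lit 36) (nat_lit 2),
  Rule.mk (nat_lit 1) (nat_lit 38) (Steps.bwd (nat_lit 7) (Steps.fwd (nat_lit 512) (Steps.fwd (nat_lit 3584) Steps.nil))) (nat_lit 30) (nat_lit 1),
  Rule.mk (nat_lit 5) (nat_lit 78) (Steps.bwd (nat_lit 7) (Steps.bwd (nat_lit 1) (Steps.bwd (nat_lit 3) (Steps.bwd (nat_lit 5) (Steps.bwd (nat_lit 2) (Steps.bwd (nat_lit 4) (Steps.fwd (nat_lit 3584) Steps.nil))))))) (nat_lit 34) (nat_lit 7),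
  Rule.mk (nat_lit 6) (nat_lit 88) (Steps.bwd (nat_lit 7) (Steps.bwd (nat_lit 1) (Steps.bwd (nat_lit 6) (Steps.fwd (nat_lit 3584) (Steps.fwd (nat_lit 3072) (Steps.fwd (nat_lit 512) (Steps.fwd (nat_lit 3584) (Steps.bwd (nat_lit 3) Steps.nil)))))))) (nat_lit 36) (nat_lit 8),
  Rule.mk (nat_lit 4) (nat_lit 58) (Steps.bwd (nat_lit 2) (Steps.bwd (nat_lit 7) (Steps.fwd (nat_lit 1536) (Steps.fwd (nat_lit 3584) (Steps.bwd (nat_lit 2) Steps.nil))))) (nat_lit 33) (nat_lit 5),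
  Rule.mk (nat_lit 6) (nat_lit 88) (Steps.bwd (nat_lit 2) (Steps.bwd (nat_lit 7) (Steps.fwd (nat_lit 2048) (Steps.fwd (nat_lit 3072) (Steps.fwd (nat_lit 3584) (Steps.fwd (nat_lit 1024) (Steps.fwd (nat_lit 3072) (Steps.fwd (nat_lit 3584) Steps.nil)))))))) (nat_lit 36) (nat_lit 4),
  Rule.mk (nat_lit 6) (nat_lit 88) (Steps.bwd (nat_lit 7) (Steps.bwd (nat_lit 6) (Steps.fwd (nat_lit 512) (Steps.fwd (nat_lit 3584) (Steps.bwd (nat_lit 3) (Steps.bwd (nat_lit 6) (Steps.bwd (nat_lit 7) (Steps.fwd (nat_lit 1024) Steps.nil)))))))) (nat_lit 36) (nat_lit 2),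
  Rule.mk (nat_lit 7) (nat_lit 58) (Steps.bwd (nat_lit 4) (Steps.bwd (nat_lit 7) (Steps.bwd (nat_lit 2) (Steps.fwd (nat_lit 1536) (Steps.bwd (nat_lit 2) Steps.nil))))) (nat_lit 33) (nat_lit 1),
  Rule.mk (nat_lit 5) (nat_lit 78) (Steps.bwd (nat_lit 4) (Steps.bwd (nat_lit 2) (Steps.fwd (nat_lit 3584) (Steps.fwd (nat_lit 2560) (Steps.bwd (nat_lit 7) (Steps.fwd (nat_lit 2048) (Steps.fwd (nat_lit 1024) Steps.nil))))))) (nat_lit 35) (nat_lit 6),
  Rule.mk (nat_lit 6) (nat_lit 88) (Steps.bwd (nat_lit 4) (Steps.bwd (nat_lit 7) (Steps.fwd (nat_lit 1024) (Steps.bwd (nat_lit 6) (Steps.bwd (nat_lit 7) (Steps.bwd (nat_lit 6) (Steps.bwd (nat_lit 2) (Steps.bwd (nat_lit 7) Steps.nil)))))))) (nat_lit 37) (nat_lit 2),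
  Rule.mk (nat_lit 3) (nat_lit 38) (Steps.fwd (nat_lit 3072) (Steps.fwd (nat_lit 2048) (Steps.fwd (nat_lit 3072) Steps.nil))) (nat_lit 22) (nat_lit 1),
  Rule.mk (nat_lit 5) (nat_lit 58) (Steps.bwd (nat_lit 1) (Steps.fwd (nat_lit 2560) (Steps.bwd (nat_lit 1) (Steps.fwd (nat_lit 2560) (Steps.bwd (nat_lit 1) Steps.nil))))) (nat_lit 12) (nat_lit 0),
  Rule.mk (nat_lit 3) (nat_lit 58) (Steps.bwd (nat_lit 1) (Steps.fwd (nat_lit 3072) (Steps.bwd (nat_lit 3) (Steps.bwd (nat_lit 2) (Steps.fwd (nat_lit 3072) Steps.nil))))) (nat_lit 25) (nat_lit 2),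
  Rule.mk (nat_lit 6) (nat_lit 88) (Steps.bwd (nat_lit 4) (Steps.fwd (nat_lit 3584) (Steps.fwd (nat_lit 1024) (Steps.bwd (nat_lit 6) (Steps.fwd (nat_lit 3584) (Steps.fwd (nat_lit 3072) (Steps.bwd (nat_lit 2) (Steps.bwd (nat_lit 7) Steps.nil)))))))) (nat_lit 37) (nat_lit 2),
  Rule.mk (nat_lit 2) (nat_lit 58) (Steps.bwd (nat_lit 4) (Steps.fwd (nat_lit 3072) (Steps.fwd (nat_lit 1024) (Steps.bwd (nat_lit 4) (Steps.fwd (nat_lit 3072) Steps.nil))))) (nat_lit 24) (nat_lit 4),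
  Rule.mk (nat_lit 1) (nat_lit 58) (Steps.bwd (nat_lit 4) (Steps.fwd (nat_lit 3072) (Steps.fwd (nat_lit 512) (Steps.fwd (nat_lit 1536) (Steps.fwd (nat_lit 3072) Steps.nil))))) (nat_lit 24) (nat_lit 1),
  Rule.mk (nat_lit 7) (nat_lit 58) (Steps.bwd (nat_lit 4) (Steps.bwd (nat_lit 7) (Steps.bwd (nat_lit 2) (Steps.bwd (nat_lit 4) (Steps.bwd (nat_lit 2) Steps.nil))))) (nat_lit 33) (nat_lit 1),
  Rule.mk (nat_lit 5) (nat_lit 78) (Steps.bwd (nat_lit 4) (Steps.bwd (nat_lit 2) (Steps.bwd (nat_lit 7) (Steps.fwd (nat_lit 2560) (Steps.fwd (nat_lit 3584) (Steps.fwd (nat_lit 2048) (Steps.bwd (nat_lit 1) Steps.nil))))))) (nat_lit 35) (nat_lit 6),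
  Rule.mk (nat_lit 4) (nat_lit 58) (Steps.bwd (nat_lit 2) (Steps.fwd (nat_lit 3584) (Steps.bwd (nat_lit 4) (Steps.bwd (nat_lit 7) (Steps.bwd (nat_lit 2) Steps.nil))))) (nat_lit 33) (nat_lit 5),
  Rule.mk (nat_lit 6) (nat_lit 88) (Steps.bwd (nat_lit 2) (Steps.fwd (nat_lit 3584) (Steps.fwd (nat_lit 2048) (Steps.bwd (nat_lit 6) (Steps.bwd (nat_lit 7) (Steps.bwd (nat_lit 1) (Steps.bwd (nat_lit 6) (Steps.bwd (nat_lit 7) Steps.nil)))))))) (nat_lit 36) (nat_lit 4),
  Rule.mk (nat_lit 4) (nat_lit 58) (Steps.bwd (nat_lit 6) (Steps.bwd (nat_lit 2) (Steps.bwd (nat_lit 4) (Steps.bwd (nat_lit 6) (Steps.fwd (nat_lit 1024) Steps.nil))))) (nat_lit 24) (nat_lit 2),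
  Rule.mk (nat_lit 5) (nat_lit 108) (Steps.fwd (nat_lit 3072) (Steps.fwd (nat_lit 2560) (Steps.bwd (nat_lit 6) (Steps.fwd (nat_lit 2048) (Steps.bwd (nat_lit 3) (Steps.bwd (nat_lit 5) (Steps.fwd (nat_lit 3072) (Steps.fwd (nat_lit 2560) (Steps.fwd (nat_lit 2048) (Steps.fwd (nat_lit 2048) Steps.nil)))))))))) (nat_lit 26) (nat_lit 8),
  Rule.mk (nat_lit 6) (nat_lit 88) (Steps.bwd (nat_lit 2) (Steps.fwd (nat_lit 3584) (Steps.fwd (nat_lit 2048) (Steps.fwd (nat_lit 3072) (Steps.fwd (nat_lit 3584) (Steps.fwd (nat_lit 1024) (Steps.bwd (nat_lit 6) (Steps.bwd (nat_lit 7) Steps.nil)))))))) (nat_lit 36) (nat_lit 4),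
  Rule.mk (nat_lit 6) (nat_lit 108) (Steps.bwd (nat_lit 5) (Steps.fwd (nat_lit 3072) (Steps.bwd (nat_lit 3) (Steps.bwd (nat_lit 3) (Steps.fwd (nat_lit 2560) (Steps.fwd (nat_lit 3072) (Steps.fwd (nat_lit 2560) (Steps.fwd (nat_lit 2048) (Steps.fwd (nat_lit 2048) (Steps.fwd (nat_lit 2560) Steps.nil)))))))))) (nat_lit 26) (nat_lit 9),
  Rule.mk (nat_lit 4) (nat_lit 88) (Steps.bwd (nat_lit 4) (Steps.bwd (nat_lit 5) (Steps.bwd (nat_lit 4) (Steps.bwd (nat_lit 4) (Steps.fwd (nat_lit 2560) (Steps.bwd (nat_lit 4) (Steps.bwd (nat_lit 4) (Steps.fwd (nat_lit 2560) Steps.nil)))))))) (nat_lit 15) (nat_lit 2),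
  Rule.mk (nat_lit 2) (nat_lit 58) (Steps.bwd (nat_lit 5) (Steps.bwd (nat_lit 2) (Steps.fwd (nat_lit 2560) (Steps.fwd (nat_lit 512) (Steps.fwd (nat_lit 2560) Steps.nil))))) (nat_lit 13) (nat_lit 0),
  Rule.mk (nat_lit 0) (nat_lit 128) (Steps.bwd (nat_lit 4) (Steps.bwd (nat_lit 2) (Steps.bwd (nat_lit 5) (Steps.fwd (nat_lit 1024) (Steps.fwd (nat_lit 2048) (Steps.bwd (nat_lit 5) (Steps.fwd (nat_lit 2048) (Steps.fwd (nat_lit 1024) (Steps.bwd (nat_lit 3) (Steps.bwd (nat_lit 2) (Steps.fwd (nat_lit 2048) (Steps.fwd (nat_lit 2560) Steps.nil)))))))))))) (nat_lit 18) (nat_lit 5)]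
noncomputable def R_3 : List (Rule) := [Rule.mk (nat_lit 4) (nat_lit 28) (Steps.bwd (nat_lit 0) (Steps.fwd (nat_lit 2048) Steps.nil)) (nat_lit 38) (nat_lit 0),
  Rule.mk (nat_lit 7) (nat_lit 78) (Steps.bwd (nat_lit 5) (Steps.fwd (nat_lit 3584) (Steps.fwd (nat_lit 2048) (Steps.fwd (nat_lit 1024) (Steps.fwd (nat_lit 2560) (Steps.bwd (nat_lit 4) (Steps.bwd (nat_lit 2) Steps.nil))))))) (nat_lit 35) (nat_lit 1),
  Rule.mk (nat_lit 5) (nat_lit 118) (Steps.fwd (nat_lit 1024) (Steps.fwd (nat_lit 2048) (Steps.bwd (nat_lit 5) (Steps.fwd (nat_lit 2048) (Steps.fwd (nat_lit 1024) (Steps.fwd (nat_lit 2048) (Steps.fwd (nat_lit 512) (Steps.fwd (nat_lit 2048) (Steps.fwd (nat_lit 2560) (Steps.bwd (nat_lit 4) (Steps.bwd (nat_lit 2) Steps.nil))))))))))) (nat_lit 18) (nat_lit 8),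
  Rule.mk (nat_lit 4) (nat_lit 118) (Steps.bwd (nat_lit 5) (Steps.bwd (nat_lit 4) (Steps.bwd (nat_lit 2) (Steps.fwd (nat_lit 2560) (Steps.fwd (nat_lit 1024) (Steps.fwd (nat_lit 2048) (Steps.fwd (nat_lit 2560) (Steps.bwd (nat_lit 4) (Steps.fwd (nat_lit 1024) (Steps.bwd (nat_lit 4) (Steps.bwd (nat_lit 2) Steps.nil))))))))))) (nat_lit 19) (nat_lit 1),
  Rule.mk (nat_lit 5) (nat_lit 78) (Steps.bwd (nat_lit 2) (Steps.bwd (nat_lit 4) (Steps.fwd (nat_lit 3584) (Steps.bwd (nat_lit 5) (Steps.bwd (nat_lit 7) (Steps.fwd (nat_lit 1024) (Steps.fwd (nat_lit 2048) Steps.nil))))))) (nat_lit 34) (nat_lit 3),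
  Rule.mk (nat_lit 1) (nat_lit 58) (Steps.bwd (nat_lit 5) (Steps.fwd (nat_lit 1024) (Steps.bwd (nat_lit 5) (Steps.fwd (nat_lit 1024) (Steps.fwd (nat_lit 2560) Steps.nil))))) (nat_lit 12) (nat_lit 1),
  Rule.mk (nat_lit 3) (nat_lit 78) (Steps.bwd (nat_lit 5) (Steps.bwd (nat_lit 2) (Steps.bwd (nat_lit 4) (Steps.fwd (nat_lit 3584) (Steps.fwd (nat_lit 2560) (Steps.bwd (nat_lit 7) (Steps.fwd (nat_lit 1024) Steps.nil))))))) (nat_lit 34) (nat_lit 2),
  Rule.mk (nat_lit 4) (nat_lit 88) (Steps.bwd (nat_lit 5) (Steps.bwd (nat_lit 4) (Steps.bwd (nat_lit 4) (Steps.fwd (nat_lit 2560) (Steps.bwd (nat_lit 4) (Steps.bwd (nat_lit 4) (Steps.fwd (nat_lit 2560) (Steps.bwd (nat_lit 4) Steps.nil)))))))) (nat_lit 15) (nat_lit 0),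
  Rule.mk (nat_lit 4) (nat_lit 58) (Steps.bwd (nat_lit 7) (Steps.fwd (nat_lit 512) (Steps.fwd (nat_lit 1536) (Steps.bwd (nat_lit 2) (Steps.fwd (nat_lit 3584) Steps.nil))))) (nat_lit 33) (nat_lit 2),
  Rule.mk (nat_lit 5) (nat_lit 78) (Steps.bwd (nat_lit 7) (Steps.bwd (nat_lit 1) (Steps.fwd (nat_lit 2048) (Steps.fwd (nat_lit 2560) (Steps.bwd (nat_lit 2) (Steps.bwd (nat_lit 4) (Steps.fwd (nat_lit 3584) Steps.nil))))))) (nat_lit 34) (nat_lit 7),
  Rule.mk (nat_lit 6) (nat_lit 108) (Steps.bwd (nat_lit 3) (Steps.fwd (nat_lit 2048) (Steps.bwd (nat_lit 5) (Steps.bwd (nat_lit 6) (Steps.bwd (nat_lit 5) (Steps.bwd (nat_lit 3) (Steps.fwd (nat_lit 2048) (Steps.fwd (nat_lit 2560) (Steps.bwd (nat_lit 6) (Steps.bwd (nat_lit 5) Steps.nil)))))))))) (nat_lit 26) (nat_lit 0),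
  Rule.mk (nat_lit 3) (nat_lit 58) (Steps.bwd (nat_lit 7) (Steps.fwd (nat_lit 1024) (Steps.fwd (nat_lit 2048) (Steps.fwd (nat_lit 1024) (Steps.fwd (nat_lit 3584) Steps.nil))))) (nat_lit 32) (nat_lit 5),
  Rule.mk (nat_lit 5) (nat_lit 78) (Steps.bwd (nat_lit 7) (Steps.fwd (nat_lit 1024) (Steps.fwd (nat_lit 2048) (Steps.fwd (nat_lit 2560) (Steps.bwd (nat_lit 2) (Steps.bwd (nat_lit 4) (Steps.fwd (nat_lit 3584) Steps.nil))))))) (nat_lit 34) (nat_lit 7),
  Rule.mk (nat_lit 6) (nat_lit 58) (Steps.bwd (nat_lit 3) (Steps.fwd (nat_lit 512) (Steps.fwd (nat_lit 3072) (Steps.fwd (nat_lit 2048) (Steps.bwd (nat_lit 1) Steps.nil))))) (nat_lit 25) (nat_lit 4),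
  Rule.mk (nat_lit 7) (nat_lit 88) (Steps.bwd (nat_lit 6) (Steps.bwd (nat_lit 2) (Steps.fwd (nat_lit 3584) (Steps.bwd (nat_lit 3) (Steps.fwd (nat_lit 3072) (Steps.bwd (nat_lit 7) (Steps.fwd (nat_lit 1024) (Steps.fwd (nat_lit 3072) Steps.nil)))))))) (nat_lit 36) (nat_lit 3),
  Rule.mk (nat_lit 6) (nat_lit 88) (Steps.bwd (nat_lit 2) (Steps.fwd (nat_lit 3584) (Steps.bwd (nat_lit 6) (Steps.bwd (nat_lit 4) (Steps.fwd (nat_lit 3584) (Steps.fwd (nat_lit 1024) (Steps.fwd (nat_lit 3072) (Steps.bwd (nat_lit 7) Steps.nil)))))))) (nat_lit 37) (nat_lit 8),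
  Rule.mk (nat_lit 5) (nat_lit 108) (Steps.bwd (nat_lit 6) (Steps.fwd (nat_lit 2048) (Steps.bwd (nat_lit 3) (Steps.bwd (nat_lit 5) (Steps.fwd (nat_lit 3072) (Steps.bwd (nat_lit 5) (Steps.fwd (nat_lit 2048) (Steps.fwd (nat_lit 2048) (Steps.fwd (nat_lit 2560) (Steps.bwd (nat_lit 6) Steps.nil)))))))))) (nat_lit 26) (nat_lit 10),
  Rule.mk (nat_lit 3) (nat_lit 58) (Steps.bwd (nat_lit 2) (Steps.fwd (nat_lit 3072) (Steps.fwd (nat_lit 2048) (Steps.fwd (nat_lit 1024) (Steps.fwd (nat_lit 3072) Steps.nil))))) (nat_lit 25) (nat_lit 5),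
  Rule.mk (nat_lit 6) (nat_lit 88) (Steps.bwd (nat_lit 2) (Steps.fwd (nat_lit 3584) (Steps.fwd (nat_lit 3072) (Steps.fwd (nat_lit 1536) (Steps.fwd (nat_lit 3584) (Steps.bwd (nat_lit 1) (Steps.fwd (nat_lit 3072) (Steps.bwd (nat_lit 7) Steps.nil)))))))) (nat_lit 37) (nat_lit 8),
  Rule.mk (nat_lit 6) (nat_lit 38) (Steps.bwd (nat_lit 3) (Steps.bwd (nat_lit 6) (Steps.fwd (nat_lit 2048) Steps.nil))) (nat_lit 22) (nat_lit 0),
  Rule.mk (nat_lit 1) (nat_lit 78) (Steps.bwd (nat_lit 3) (Steps.fwd (nat_lit 1024) (Steps.bwd (nat_lit 4) (Steps.fwd (nat_lit 1024) (Steps.bwd (nat_lit 3) (Steps.fwd (nat_lit 1024) (Steps.fwd (nat_lit 1536) Steps.nil))))))) (nat_lit 6) (nat_lit 1),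
  Rule.mk (nat_lit 7) (nat_lit 88) (Steps.bwd (nat_lit 3) (Steps.bwd (nat_lit 6) (Steps.fwd (nat_lit 3584) (Steps.fwd (nat_lit 1024) (Steps.fwd (nat_lit 3072) (Steps.bwd (nat_lit 7) (Steps.bwd (nat_lit 6) (Steps.fwd (nat_lit 512) Steps.nil)))))))) (nat_lit 36) (nat_lit 6),
  Rule.mk (nat_lit 5) (nat_lit 118) (Steps.bwd (nat_lit 3) (Steps.fwd (nat_lit 1024) (Steps.bwd (nat_lit 3) (Steps.fwd (nat_lit 512) (Steps.bwd (nat_lit 3) (Steps.fwd (nat_lit 2560) (Steps.bwd (nat_lit 4) (Steps.bwd (nat_lit 2) (Steps.bwd (nat_lit 5) (Steps.fwd (nat_lit 1024) (Steps.bwd (nat_lit 3) Steps.nil))))))))))) (nat_lit 18) (nat_lit 11),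
  Rule.mk (nat_lit 1) (nat_lit 58) (Steps.bwd (nat_lit 5) (Steps.fwd (nat_lit 1024) (Steps.fwd (nat_lit 2560) (Steps.fwd (nat_lit 1024) (Steps.fwd (nat_lit 2560) Steps.nil))))) (nat_lit 12) (nat_lit 1),
  Rule.mk (nat_lit 6) (nat_lit 108) (Steps.bwd (nat_lit 5) (Steps.fwd (nat_lit 3072) (Steps.fwd (nat_lit 2048) (Steps.fwd (nat_lit 2048) (Steps.fwd (nat_lit 2560) (Steps.bwd (nat_lit 6) (Steps.fwd (nat_lit 2560) (Steps.bwd (nat_lit 3) (Steps.bwd (nat_lit 3) (Steps.fwd (nat_lit 2560) Steps.nil)))))))))) (nat_lit 26) (nat_lit 9),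
  Rule.mk (nat_lit 3) (nat_lit 88) (Steps.bwd (nat_lit 3) (Steps.bwd (nat_lit 5) (Steps.fwd (nat_lit 2048) (Steps.bwd (nat_lit 3) (Steps.fwd (nat_lit 2560) (Steps.bwd (nat_lit 3) (Steps.bwd (nat_lit 3) (Steps.fwd (nat_lit 2560) Steps.nil)))))))) (nat_lit 14) (nat_lit 1),
  Rule.mk (nat_lit 1) (nat_lit 98) (Steps.bwd (nat_lit 3) (Steps.bwd (nat_lit 5) (Steps.bwd (nat_lit 2) (Steps.bwd (nat_lit 4) (Steps.fwd (nat_lit 1024) (Steps.bwd (nat_lit 3) (Steps.fwd (nat_lit 2560) (Steps.fwd (nat_lit 512) (Steps.fwd (nat_lit 1536) Steps.nil))))))))) (nat_lit 16) (nat_lit 1),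
  Rule.mk (nat_lit 5) (nat_lit 118) (Steps.bwd (nat_lit 3) (Steps.bwd (nat_lit 1) (Steps.bwd (nat_lit 3) (Steps.fwd (nat_lit 512) (Steps.bwd (nat_lit 3) (Steps.bwd (nat_lit 5) (Steps.fwd (nat_lit 1536) (Steps.bwd (nat_lit 2) (Steps.fwd (nat_lit 2560) (Steps.bwd (nat_lit 1) (Steps.bwd (nat_lit 3) Steps.nil))))))))))) (nat_lit 18) (nat_lit 11),
  Rule.mk (nat_lit 6) (nat_lit 58) (Steps.bwd (nat_lit 1) (Steps.fwd (nat_lit 1536) (Steps.fwd (nat_lit 3072) (Steps.fwd (nat_lit 512) (Steps.fwd (nat_lit 1536) Steps.nil))))) (nat_lit 24) (nat_lit 0)]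
noncomputable def R : List (List (Rule)) := [R_0, R_1, R_2, R_3]
def LW : List Word := [[], [0], [1], [2], [3], [4], [6], [8], [0], [1], [2], [3], [4], [5], [6], [7]]
def par : Par := ⟨9, 4, 13, 22, 511, 8191, 4194303⟩
theorem hpar : par.ok := by decide
theorem hR0_0 : lall (R) (fun l => lall l (ruleOK rels LW par)) = true := by decide +kernel
theorem hR0 : lall (R) (fun l => lall l (ruleOK rels LW par)) = true := hR0_0
theorem hR : RulesOK rels LW par R := rulesOK_of rfl hR0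
def cols : List (ℕ × ℕ) := [(512, 2), (1536, 4), (2560, 5), (3072, 6), (3584, 7)]
theorem hcols : lall cols (colOK rels LW par) = true := by decide +kernel
noncomputable def JS0 : List ℕ := [nat_lit 0x761fc18058181f0741e000021e0812087e1d474001d07316000032007c1cc70011d0731b1cc770487c1f4071cc680103c7a1d872191f0111c860791c45c001c8711602c01008041c454781e40f1e471141d40c1c04c761bc48000046f101cc6f1b8447200c6e100006f1b83c030146d0e1b471020081c8091c871010020d1b4011b06f1b830001ac020b0046e1bc0601c070186f1b86a0a1a8001b40400c0400c041b4001a8246c008030046c00069081ac00004021ac6a1a41c001ac6c014081b06b004186a008031a800051a4011a410690100500c0401469031a00400c041a0086700c6701,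
  nat_lit 0x48a224609d2802a24c89390300b05412220e0030809409c2c0401d0688d220dc2108c2724c0400c8b21cd8010801f040863500c0e214d01e03884040080f21ccc1a24099094920340320cc80a2140100882310088112014042080a0140401400008053000481024bc0901c17060952481b1fcb8011fc7e1b2288b018010088d228b4012301c2287d2c000012047e1f4ac8a06c19214021f0031eca80c0247c000800588e228a47f20c00281e40021418058820389c8420c010007826000100681900c021e094001e4782403817058011e08c0101c03220007a21000010180a0600b1d480011d87e2181c0748620478008751f0087417,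
  nat_lit 0x403284b502c0e27d549f0049f1800c9e3d014030180100950010100500c00530009d030a2038a2290af2dc5227d489c028392c09b510080000940010009a020ac10c9c4f0009b0f81d0641d2c0b505c09265389a2dc4c2bc994d2a0aa1183e269301005422284994b0141408ca126128060ec97492b096480009a0411c1805c2d01495460302e28404251140a25093440089c084a40d83b07c0802493432acaa284092490823270260209141098072403c0026401400440c02c0c24c1323cfc9704c120448e3e2440c234cc93230f423004003c00c90274300b89622cec21088982548a3a,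
  nat_lit 0x3000040f053378e21a8d72ddc0030f0c60c8c50c403009bcb4004b517c5e180b56e000b30042f0b4c7005b4b3110460d0371405b1645a2ccb26c0ec4e170b22c5ac46140b40000300801000b431da80000cb20501c050b200da4042d0b805c102d4b16800c0c2d01e2c19c012e45d2e8af662b81c2b8601d2b4f4af054b508845304ad65040b22d0b80985b2b19002024b0330ab630040501807004ab01d88002a8022c05f2c00a2b0aa00184a9004af17c632c8ab2a580a90481105807010a85f040a929d100d04006048060400d29d7802020aa030a65d00c1129570a60400d00ca55b01005020022916805008a6038a435038000240e28d640801c05000040000501d60010000210284503105815458300bf13ca1572804f30c572fcbe2800056,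
  nat_lit 0x3330180580c03ccb00e24380f83f3480d038ca880000605c113261c040140b030c8863200d31e14000c0330e4ce04cc784358423747d1880c02cc6830000201c1131608c51144d3a8cc0440081034cf3bceb1d877108c4803100b03455390db30dfc0502004004c47e30c0403402001f4c200cc73944811848394c701cc17c00404170c3301ac09018bf7b300be1200801158de190c72f9e8032fc65124462fcbe7936412168be2f5e0be004bc33000021284c120022f5dc02000c21b85f184bb76004003485d364330dc771d4e1305d4d119c642f0ba74000b9482e86131c272e5cc00008ba01007010ba009c80201804014b9710f8d3184ba2e198b700cb7182dcb617,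
  nat_lit 0x1c010de9f0040237570e039ced0b8dd9e01031370d0033b02d388dc9d060eb0481136e700004ce103cda9b034d9480b031004023666803361202c37cd8970100835c380301c0d0300a0240a35e64d706c2b364d698378d83565c0901cd485354193506c000040400c089634c1b068243844a3841605cd395014d503c1634a50d5060d11b00402068173524c010706f1c0ed3a00a3541b3424800068cf04000d034e44cf0180a33cce9033cde1ec7a21464074d2024ce8f33c0f0040033c0100238ce34c100440d028d035814338008d3481906ccf020df38cd60701333630163585b168d3058123322cd9214d9340cb8a,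
  nat_lit 0x13dcfd0e4f904cf4b709c2d418fa3ced80801c19058f2b5000023d4153c6d0040a10010d000a0043c6cc190742300cf087024003bd70070280200cefb20280d03c033bac42300ced33000ed00ec0013d81c128fb0a4f23b2bc0700c0406404014ebae3d016064f03aab403008160b83c404fb3beb0ea3e4300d41e3d0ed3a6ac033ac263b0e8aa3bceb39c4c0939848e7074e6a739cf339458013941b3cc2c3cc1b396a4e40741e07c22068e4a838c1b0841938c08e3068e2a7008e43c03d0d436078e2a63881a0641838694e239c02004e3394e1a4384183828c00394173980e03ce638ce1a202c380800638284e00c41c014dfa0,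
  nat_lit 0x1094300b03909cc0390b4228c0e0310716000444b8b52d9314710c00402cb070174380600c0541b280b4200301105c9028080040341295030090301015060742707d0d07503c841007418150510f40b1d014383009d01c60310704d0401400407150000402005024241604c1642502c43fc00405084250a09018404003ff0cff00403004feb83f8fd4800c003f5ec02001000c02f04cfdc200800c13f90f104434503b0e0370b8fc000fdc03f4290a02a3eefcfc0d43a0f03e434fc3eef8fb4303d0ed0f15c56180333eef4010c861178300ac073eef00103028018fab80a0053e5ecf93e120003e41003c100780200404006ecf701cf93dc00ba00c2a44c564082301cf6b93e812400063d6e01f014f47b,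
  nat_lit 0x11a0140400801dd004044680e0311a4640000404467711800d1902c0d0291b46518db4600a4640301c0946117da45c0a02c0945c014581d1602117004040781d07c0645b651545c0a02515d800d1702516014094540100d174575c000041e0902207d174535913018040180345513d50611544b500100911284500802c1a04c0501911d300c020000600c05440211105c1000d0fd243803439ed0e43520004442b46c2d0d1110381143b450f01c064381243401433410b0010b7b42c11430000090c0450bcf0081305c02007390a0390e0340c03d0acd]
theorem S0_c : blocks (facts 9 4 13 22 511 8191 4194303 10 1023 8 255 A R 32) 32 JS0 359 = true := by decide +kernel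
theorem S0 : On (Step.{u} rels LW par A) 359 647 :=
  steps_of_blocks hpar hR S0_c (by decide +kernel)
theorem D0_c : allB (defOK 9 13 22 511 4194303 356 A K) 1 2 = true := by decide +kernel
theorem D0 : On (fun r => defOK par.W par.WL par.E par.mW par.mE 356 A K r = true) 256 384 :=
  On.of_allB D0_c
noncomputable def JW0 : List ℕ := [nat_lit 0x19c334a70cc2cd428b715b2de5f2674d71a85a26a97b9f43c07ccd6aed3767a501ae83105e162969318818dfa013fabbcfbae4554b9cfd1902f2b2cc52b440ebc5581d340ab58eaa005d6b50e4a0c5647b10520e41ab2104a10340880f42fc386bd90e2c043c67d1922845cbf97a21560689912a135d8889623013f0865152ca45ac150c2f042cbc97da0f44285d8321b466c0985a316108d186b0a4708dd87b0c4748f11fb0e48090922246,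
  nat_lit 0x16057e40cb7974220a294e91420e6dd6e94c3b6770ae14f56e544ad1d03b0790f72d22c258cb22b92be608bd2a82fc610c316b58e649611f15caa90d99d7252a015592a26a6d8d813b3686e0b69622caaf4b815629c550a9158288501589495587d8d7ae232e7f8e89d424e7356d9c037c4c4de1a5230a515992e5407c16c2e33d4b80c72be5925dcca1c85b2718e71ca34266d632cf344704f11e53be7996b9ba29669ce215d2f8b04c0173,
  nat_lit 0x6308c98425845106340248c750a9e0788ed1e4a453e89c16e25052a745263d06f8e24f4a3c760ee1d69d9468e41c2398398d44c8a1c628a3194330642831163005d27f17826d458d91ae36c850dd218424871045244094c9010fea05300c317e4b068aa51faa88b616a21aaecb393c26c4e89c13e2503c0931242424b547130534a9d3e2951ea3a46791e5184708d29f23e355549132663d865a971f43f88b0c152c4887c146282528a1aaf,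
  nat_lit 0x1a0240500c01603607125a4803c0c01524a05c93c110260400a01203806c0d416a5107494c1a24c066950158560a296c300270b41652ea5606e964290541242244808e10e1892925f0ba17d2a83c07c100210820f6201358844ae11c2404c09e9e4590991682a53a89f1222845327b1662d83e8b84ee2a8560ae1601c8370570e299c3086c4ca194348a213c96046a731142212f26d0ea2684b0984e29b8498dc1b0a246987e0f41d83ca69]
theorem W0_c : blocks (rows 9 4 13 22 511 8191 4194303 11 2047 55 A 647 100 cols 25) 25 JW0 0 = true := by decide +kernel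
theorem W0 : On (Row.{u} rels LW par A 647 100 cols) 0 100 :=
  rows_of_blocks hpar (by decide) hcols W0_c (by decide +kernel)
theorem idx : Idx.{u} rels [[0], [2], [4], [6], [8]] [[0], [2], [4], [6]] 100 :=
  idx_of_cert hpar hR (K := K) (by decide +kernel) (T := 356) (T' := 384) (by decide) D0
    (subs := [1,3,5,6]) (by decide +kernel) (T1 := 359) (by decide) (N := 647) S0
    (by decide) (n' := 100) (by decide) W0 (by decide +kernel) (by decide +kernel)
end T0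
theorem b0 : Bound.{u} rels [[0], [2], [4], [6], [8]] 44352000 := .of_idx T0.idx b1 (by decide)
theorem bound : Bound.{u} rels (sg 5) 44352000 := b0
def V_t0 : Net := [(nat_lit 0x1540141544105105501554104150045104014514514500551400550454510004451554405540055505155100551015545404444004400145140551045154544104145500414500510104555110400115001550005040045, nat_lit 1),
  (nat_lit 0x22222202022321212323102330020021302223002231233121221003202022112312022221321311122113222221320223230311132330032320131010121332323100211310201332313232023330211000121010131022, nat_lit 2),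
  (nat_lit 0xf070904090f010e0d0303080b09020c0e0b04010d010f020806060f070c08090708030d06010b0602030e0e010b0c0b050f0b0104030e07020e0e06020d090f020303050d02000a030b070300010e0100060706070f0a0a, nat_lit 4),
  (nat_lit 0xfc007f002200ce00ae003e00a700cd006800a1004d004c000e003f0068006a000e00be007500bc007800540006002e000c008100f20070007600db00530004000200330081002300a7001900c300ae00f800e50084003c, nat_lit 8),
  (nat_lit 0x1cae000078cb0000922a000057960000c73300006fec0000137f000064380000c06e000021900000b9fe0000aaed0000fa3200004ddd0000c0b00000dd930000029c0000223b000084e800005c52000011000000ed50, nat_lit 16),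
  (nat_lit 0x444b73cf00000000127d8c3e00000000194ab35300000000bc4a6a590000000049c1b66600000000290f4653000000001811b96b00000000764e9053000000003ef693ef0000000045a4b20d00000000e2bf8e40, nat_lit 32),
  (nat_lit 0x79c7240ad65deaf30000000000000000555db6c520abc67400000000000000003019e63180854366000000000000000064546fda5ece54c70000000000000000df30adf2f0110000, nat_lit 64),
  (nat_lit 0x55c448dc13013d9e00000000000000000000000000000000dff6d01445da88b50688054a4b4d0692000000000000000000000000000000007d067538daef68de082a954542400000, nat_lit 128),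
  (nat_lit 0x1010840809862014908022624868640892e740b844d8cae0c4c4429572710502, nat_lit 256),
  (nat_lit 0x11c008582900b89c5be7273acfdedaf1c24c47d530310542, nat_lit 512),
  (nat_lit 0x108000080100309019e7201840c048e1c24c47d530310542, nat_lit 256),
  (nat_lit 0x11c44a953100b98c0000000000000000000000000000000089f7e0904ddacae5868827000a284090000000000000000000000000000000004a0023228f0a12110000000000000000, nat_lit 128),
  (nat_lit 0xc4ee224b876e963100000000000000009f08754e4719369000000000000000001014c03a0185010600000000000000004d0044197c418c9000000000000000000000020802000000, nat_lit 64),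
  (nat_lit 0x444181cc000000005a410990000000004055822a00000000a28f20a2000000005275018900000000290e4651000000009830a269000000007a783d9b000000009ffbd19c000000000021aa8d0000000000000000, nat_lit 32),
  (nat_lit 0x400c000070010000099b0000a2000000ed2c00006687000090cc00006fa200006fbb00000540000022d80000a4090000d0b20000fc06000058830000d4b10000bc120000301100008cf1000002a90000b60900000000, nat_lit 16),
  (nat_lit 0xfa0047001e00140066007f00ab0049009100d1002400730087003a00a4003300c100aa000a00f800ea002e00620029001b001100580039005600e3005c008c00060037008a0081009c003600cb00f600c100ec00010000, nat_lit 8),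
  (nat_lit 0x4000a08010c04070f0c050d060a080d0e06050d0c08080e0801030108070004010f0306090001000b0e000b080e0e050109020d0808000406080c04070c08070f0309060d0e0a00040603000a0206030f08040401000300, nat_lit 4),
  (nat_lit 0x21301121232131002233331121310031302131101201133201310013201322021231232200000011222032332130010133123320232312121023033000233203213302200323101203321013000302120211211202130000, nat_lit 2),
  (nat_lit 0x1041140511145445011450041400514010554104000505551515455055454014150114104455004105105150044510001400410055010551411504154500145155505000404010050410150140444145110055145045040, nat_lit 1)]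
def V_t1 : Net := [(nat_lit 0x41454451411515550404001115541540514155501400004441115504511155400504015541100555005544004145445141151555040400111554154051415550140000444111550451115540050401554110055500554400, nat_lit 1),
  (nat_lit 0x3110100131002220023000033100010220300210311003311020203320113311312220013010001201232230311010013100222002300003310001022030021031100331102020332011331131222001301000120123223, nat_lit 2),
  (nat_lit 0xf0b0505010d0405070a0e0d04020d0a0d0c05000301060b02040a030500020506090e0b080c0f0f0c04080e0e0a0404000c0504060b0e0c05030c0b0c0d04010200070a03050b020401030406080f0a090d0e0f0d04090e, nat_lit 4),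
  (nat_lit 0x31006200ff000600af009400c2006c00f8002e006100cb007e00ee0013004a009c00b900e500380052000d00b900ea0077008e0036001d004800e4006100ae0078005a00ef006600990042000f003900f400a900c30014, nat_lit 8),
  (nat_lit 0x552d0000b3aa0000d3560000dbbc0000260100006dbd0000093b0000e3be0000ca4400008fc40000777900005d65000033730000d214000051f40000acc90000747c000082e20000e8e60000519d000084950000ee78, nat_lit 16),
  (nat_lit 0xea5bacc70000000090fc6c8f0000000010a98d6100000000a00398f3000000008b323dd300000000540def9e00000000b69ae550000000001b1282d200000000efffb7b700000000414c6d1400000000d9a8e300, nat_lit 32),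
  (nat_lit 0xfebac7461face46f0000000000000000a726a3b8ad21aa500000000000000000c484c85d669b35e30000000000000000a50206ed4bde3bcd000000000000000064a31a9cae817010, nat_lit 64),
  (nat_lit 0x8d8465b4d79212f10000000000000000000000000000000033b067b3c3eca1bf808324875e98db14000000000000000000000000000000007a0eba23642fe43d82cd801010803000, nat_lit 128),
  (nat_lit 0x8c1905452004463118b28925e94da969500eee2e1fc2ba58655638689b45e81, nat_lit 256),
  (nat_lit 0x258d2477569252f0945cff4369f5279f065443808b342a11, nat_lit 512),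
  (nat_lit 0x1810402421252901410e74340952009065443808b342a11, nat_lit 256),
  (nat_lit 0x278c60b4c42640e1000000000000000000000000000000009590e7f3d3ec698f000304060c00c8040000000000000000000000000000000000549841294107900000000000000000, nat_lit 128),
  (nat_lit 0x9a502f5218f7534700000000000000009fa088e08a446c9800000000000000000085e9d3f21905a30000000000000000340b82e55de0d81c0000000000000000200001c010801010, nat_lit 64),
  (nat_lit 0xae9914d100000000d76dd93100000000411c106800000000ab84f29200000000c0963e9f00000000500dcf9e00000000912600500000000053a8d72500000000e66e81ae000000002020c0040000000000000000, nat_lit 32),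
  (nat_lit 0xd5910000d12c0000e350000038c200000e0600000d640000ebea00003258000022390000964900000b100000d540000051f50000fa1000003999000094c50000043c000070330000a8180000326000009c0100000000, nat_lit 16),
  (nat_lit 0x4d00f000e30006009a00d40070000500b3001600a3009c0058000a00b2006800e800cb008f00cb00d1001100d40069007a008e0003005d00e9009e0039008f00b0000d00490082002300e800600052001e00d200510000, nat_lit 8),
  (nat_lit 0x5020009050c0f070805040b060c00000a0a0601000d0e090c0408050f0803050d080f050a0b05050103020004030108040d0e060904040a060d01010b0b0700010c0f080d0509040e0902040c090e040a0a040400020200, nat_lit 4),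
  (nat_lit 0x12331122220103220131301231100001321311301301122113121313232013322322113030123111102301001233112222010322013130123110000132131130130112211312131323201332232211303012311110230100, nat_lit 2),
  (nat_lit 0x44540540500144450400145410440011515105015050105401140401510505450415105015055555101510104454054050014445040014541044001151510501505010540114040151050545041510501505555510151010, nat_lit 1)]
def V_t2 : Net := [(nat_lit 0x15055551005100450144110451051540414004054055010000415114451005451045444500154014100010544051014105000045014411500144145141014505100010500041455151104051041004144011400405141004, nat_lit 1),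
  (nat_lit 0x10221230323322013033302023010021332010021311232230002012201311232311110233110100000122013210223201312302030121222320003020022203113002220010013022223201213211100311020220012001, nat_lit 2),
  (nat_lit 0xb01070f0a0f0d0b060c0f0b0c0a0e0b0c030706010a0c0001050e0e00040f03010e0408090f0d0c0b0808000c0d010100080f07030a080e04040e0604000104070206000006040201060c0007080e0a0a0c080f06020b00, nat_lit 4),
  (nat_lit 0x6000a100ff0032003e00b000930063000e00480050008b00360040006900c1002100da00b200ff0095004a00cf0027008c0044008c00b800a9003700dd0062001b003100de005b00b2001300890028005c003400e00008, nat_lit 8),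
  (nat_lit 0xe2790000a8c00000140100009a8e0000436c000050580000607e00004ba6000058580000c0dd0000c0b0000062750000b82300007a770000ba920000a676000042890000460700000e3c0000c0030000400000000070, nat_lit 16),
  (nat_lit 0xfdf2294200000000cb0e814b00000000cb8fe7740000000002bb9752000000000d575a4b00000000a84755080000000034a1a073000000002d27804200000000fd7f4d6d000000002000248000000000220cf400, nat_lit 32),
  (nat_lit 0x93d92b4eaa7ecd59000000000000000017ddf95af3f7adb900000000000000008802550ef584690e000000000000000016c070e2bd56cff00000000000000000808042ffdd830001, nat_lit 64),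
  (nat_lit 0x5bbeb56255897c37000000000000000000000000000000001fc8814590534e483d2241400d464350000000000000000000000000000000006427960a22cf4ffbd933000000000001, nat_lit 128),
  (nat_lit 0x880000849808100cfdaac473a561125a88c0510541164b4c1520134015843920, nat_lit 256),
  (nat_lit 0xcb2ed5624d032802db9a530f418f4b470520524015843920, nat_lit 512),
  (nat_lit 0x492ac4600d0300028880510741044b440520124015843920, nat_lit 256),
  (nat_lit 0xc20c9522508338220000000000000000000000000000000080c0010718144b4004004102a842025000000000000000000000000000000000c002020a008b00030000000000000000, nat_lit 128),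
  (nat_lit 0x1b9a230c000a4c110000000000000000b7c88150097304080000000000000000a80250045d82680c0000000000000000a600140000444bf000000000000000000000400000000001, nat_lit 64),
  (nat_lit 0x95b0284000000000cb08810f00000000cb8de724000000002a399b92000000002555504b00000000804555080000000044004052000000001525844200000000cd77496900000000000000800000000000000000, nat_lit 32),
  (nat_lit 0x60400000a8e00000500500008a8a0000436c00004858000068fe00004926000050580000c05d0000c000000060000000f80200003a420000ba020000a67600004009000046070000063c0000c0030000400000000000, nat_lit 16),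
  (nat_lit 0xac00a1007b0032001e00b000130041000e00480050008b00360000006900c1002100da00b200ff009500420047002700800044008400b800a1003400dd0062001b003100de005300b2001300890028005c003400e00000, nat_lit 8),
  (nat_lit 0x50d05070a0f050b060c0f0b0c0a060b0c010706010a0c0001050e0e00040f03010e0408090f0d0c0b0808000401010100080707030a080e0404060604050104070206000006040201060c0007080e0a0a0c080f06020b00, nat_lit 4),
  (nat_lit 0x10221230321322013033302022010021332010021311232230002012201311232310110233110100000122003210223201212302030121222220003020132203113002220000013022223201213011100311020220012000, nat_lit 2),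
  (nat_lit 0x15055451005100450144100451051540414004054055010000415114451005451045444500154014100010544051004105000045014410500144145141014505100010500041455151104051041004144011400405141004, nat_lit 1)]
def V_t3 : Net := [(nat_lit 0x41100404551505040101400140140404005044145004010444115101501454055154411011455011415054111441514100001415155551441415554451111001554044540541011504154010111050041511440440101100, nat_lit 1),
  (nat_lit 0x32202101110012223113221203101111330230302012030013232223101102223112231110212021322012223110130303203220022000220000220000233203110013030202121110012020220030131033300111021000, nat_lit 2),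
  (nat_lit 0xb020101050e000b0a090c03060f05030901090608080d02020009070d0f0c0f00040c0206000d0e01000c08050103030c0f0e040f06060706000505080306070c03020b0d060b00020a080802050e010501000002030401, nat_lit 4),
  (nat_lit 0x95008e006e0077008d00440040005a006800f80007003a002d00b500a900bd008300a0008000f30085007f0064007b009c00c0007a0073000900430009004000a70026006600b0006600c000a1002200b7000300e20006, nat_lit 8),
  (nat_lit 0xc0900000030d0000d1290000c2a10000d03800004c0c0000c2410000cb17000078430000012400007338000002410000a100000002220000823d0000532300002a8d00004fc1000056810000264100009002000010e8, nat_lit 16),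
  (nat_lit 0xf6b971aa00000000d26b67270000000013f26d7f00000000e09dfeac0000000068e41a08000000002e5c856800000000c8a10a0d000000006003ab2400000000dffe3402000000007280c490000000003014b900, nat_lit 32),
  (nat_lit 0x2c3f56f0ae7f4773000000000000000034b6eaf08519af3700000000000000002e7586c28d4763d400000000000000009a80741656bbad230000000000000000a282025dbd030000, nat_lit 64),
  (nat_lit 0xa99d67e88142a0cd0000000000000000000000000000000082116bf484dec9dc102a7ba17a1ed84200000000000000000000000000000000fb7dd52912bcee0b45680000b0000000, nat_lit 128),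
  (nat_lit 0x280002808e46519c119929611618f90282316b6601464ae808255bfff012d084, nat_lit 256),
  (nat_lit 0x838835a00000e0888771616f01c22ad80a2e0b5d80109084, nat_lit 512),
  (nat_lit 0x810001200000e0000231616601c228c8082e0b5d80109084, nat_lit 256),
  (nat_lit 0x898404e88000208c00000000000000000000000000000000823169e480c208dc100278a3661a59020000000000000000000000000000000081400009000020080000000000000000, nat_lit 128),
  (nat_lit 0xa4996ef000d228510000000000000000a89240f2021880000000000000000000080500c2894662d400000000000000003200d40030b80e0300000000000000000200100080020000, nat_lit 64),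
  (nat_lit 0xa219538800000000a2eb4f27000000000372457f000000008215d6ac0000000048243000000000002e5c856800000000000928250000000040030b2400000000ef78920200000000408040100000000000000000, nat_lit 32),
  (nat_lit 0xc080000023050000f1090000c0810000d01800004e0c0000c8430000c91700007a4100001b240000013a00002041000083280000000a0000823d000051230000288d00005fc100004c81000024010000800000000000, nat_lit 16),
  (nat_lit 0x9400a0006e0073008d00440042004a006800f80005003a002c00b700a900bd008100a2008000f30007007800460063009c0080007a0071000b00030009004000a50026002400b0006400c000a1002200b7000100e00000, nat_lit 8),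
  (nat_lit 0x9020203050c020b0a090a03040f0503090101020a080d02020809070d0f0c0f00040c0206000d0e01000c00060301010e0f0c0c0706020706080505000302050c03020b0d060300020a000802050e010501000002030400, nat_lit 4),
  (nat_lit 0x32002101110012223113221203101111330230302012020013232223101102223112231110212021322012223100130303203220022000220000220000233203110011030202121110012020220030131033300111021000, nat_lit 2),
  (nat_lit 0x41100404551505040100400140140404005044145004010444115101501454055154411011455011415054111441514100001415155451441415554451111001554044540541011504154010111050041511440440101100, nat_lit 1)]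
def V_t4 : Net := [(nat_lit 0x50540411455144014050001415455005405400451000050404054444511051155511550511141141515054544014001010105150150144014011055004411511411541504040055114440110000005100545404100550410, nat_lit 1),
  (nat_lit 0x33133001110322123133122100121202111220032312213222220210303203030311102113212102233011202202221103210000331201013003211032332300220313233022110020020102101332020021130233100102, nat_lit 2),
  (nat_lit 0x506080d0405040b0d0d090e010a090c050208020d0a0001000206060805080d080e010e0903030b0506070f010e050005070402020809050f0b0b010d01050d0a060b0f090b080209030a0d0205090603050e0a04000401, nat_lit 4),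
  (nat_lit 0xc30091002600e100d900060051000100d400ca000000c6001b0061004c0076000600ca00ef001800d400e8004700da00d1004a002900bd004b0001003700e800cd00a20073002e008a005600ed005600cb00490063008e, nat_lit 8),
  (nat_lit 0x669c000050ae0000b0370000bd5400002a4600002d7e00006dbc0000645b0000b31e0000699100004c170000b1da000049010000891400002a200000e548000013610000a11c0000045e000062d600008a04000082e8, nat_lit 16),
  (nat_lit 0x8692b17700000000ae799079000000002d7756480000000096c26d430000000051e29f800000000005420c48000000006a7c829000000000105a6e2d00000000f73b6caa0000000010118304000000000189f300, nat_lit 32),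
  (nat_lit 0x47cb83cd4a33aa8e000000000000000053219e9b2c4314dc0000000000000000844bad048998b201000000000000000043a01755926e0dbb00000000000000008a158c1169161000, nat_lit 64),
  (nat_lit 0x10d2fc27fa48bf410000000000000000000000000000000032eb93187df6bfea4a2c195001900009000000000000000000000000000000007fe278e39209c41a2440884800801000, nat_lit 128),
  (nat_lit 0x4198001098032005a34584160d8010920ca250cf1b6ab220bc41e6b14f0dec1, nat_lit 256),
  (nat_lit 0x10105950a29c29412eca3c0dd1b6ea828bc41e2b14e0dec1, nat_lit 512),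
  (nat_lit 0x101058102098010120ca240cd1b6a2828bc41e2b1460dec1, nat_lit 256),
  (nat_lit 0x10d04423b248bf400000000000000000000000000000000020cb810979b6bba2ca24001000900008000000000000000000000000000000000c001801000048800000000000000000, nat_lit 128),
  (nat_lit 0x15ca820d5a32a282000000000000000092221a1924400cc800000000000000008049ad048990b2010000000000000000532011d1824c049a00000000000000000000000000801000, nat_lit 64),
  (nat_lit 0x92b13700000000ba209048000000003c54d2480000000084c08c0300000000c1f017810000000005420c48000000004a2c82c00000000000526e2500000000e7aa242a00000000000188000000000000000000, nat_lit 32),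
  (nat_lit 0x690000050e60000b0270000bd440000a86400000dde0000e1980000e4530000139e0000e181000004110000004a000009110000894c00002aa80000a500000012e100000b90000004c6000062160000a20c00000000, nat_lit 16),
  (nat_lit 0xc00001002600e0005900060051000100d600c8002000e6003b0061006c0071000200c400bf000000de00480095004a00d1004a002800bd004b0001007700a800cd0022007b0026008a001300cc00520068004000420000, nat_lit 8),
  (nat_lit 0x106080d0404040a0d0d09060108090c050000000d0a000000000e060a05080d080c01070801030c050f070e010e010004060402020809040f0a0b000d01040d0a060b0f0109000009030b0d0201010201030c0c04040600, nat_lit 4),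
  (nat_lit 0x33133001100323123133122102121002111220232312211202200010303202130311132113212313010010002202221100210000330201013003200032332300220313233002110020220012101313020221111303220220, nat_lit 2),
  (nat_lit 0x50540401455144014050001415455005405400441000040404054444511151155511544511101501514050544014000010105150150144014011055004411510411540504040055114450110000004500541440100450010, nat_lit 1)]
def V_t5 : Net := [(nat_lit 0xffffffff00000000ffffffff00000000ffffffff00000000ffffffff00000000ffffffff00000000ffffffff00000000ffffffff00000000ffffffff00000000ffffffff00000000ffffffff00000000ffffffff, nat_lit 32),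
  (nat_lit 0xffffffff000000000000000000000000ffffffff000000000000000000000000ffffffff00000000, nat_lit 64),
  (nat_lit 0xffffffffffffffff000000000000000000000000000000000000000000000000ffffffffffffffff0000000000000000000000000000000000000000ffffffffffffffffffffffff, nat_lit 128),
  (nat_lit 0xffffffffffffffffffffffffffffffffffffffff000000000000000000000000, nat_lit 256),
  (nat_lit 0xffffffffffffffffffffffffffffffffffffffffffffffff, nat_lit 512),
  (nat_lit 0xffffffffffffffffffffffff, nat_lit 256),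
  (nat_lit 0xffffffff000000000000000000000000, nat_lit 128),
  (nat_lit 0xffffffff000000000000000000000000ffffffff000000000000000000000000ffffffff, nat_lit 64)]
def V : Ctx := ⟨704, 10, [V_t0, V_t1, V_t2, V_t3, V_t4, V_t5]⟩
theorem V_ok : V.ok = true := by decide +kernel
def V_ps : List (Word × ℕ) := [([], 2), ([0,0,0], 0), ([2,2,2,2], 0), ([0,2,0,2,0,2,0,2], 0), ([0,2,0,3,0,2,0,3], 0), ([0,2,2,0,2,2,0,2,2], 0), ([4,4], 0), ([0,4,0,4,0,4], 0), ([2,2,4,2,2,4,2,2,4], 1), ([0,2,4,1,3,0,2,4,1,3], 0), ([0,2,1,2,4,3,1,4,0,2,4,2], 0), ([6,6], 0), ([2,6,2,6], 0), ([0,3,6,1,3,6], 0), ([2,2,4,6,4,2,2,4,6,4,6], 1), ([8,8], 0), ([0,8,1,8], 0), ([0,2,0,8,2,8], 0), ([0,2,4,1,3,8,4,8], 0), ([0,6,8,6,1,8,2,6,8], 0)]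
theorem V_e_0 : lall (ceq [10] 6 V_ps) (eqP V) = true := by decide +kernel
theorem V_e : lall (ceq [10] 6 V_ps) (eqP V) = true := V_e_0
theorem V_cov : Cov V.g rels (V.ev [10]) 2 := cov_of V_ok V_e 2 2 0 (by decide +kernel) (by decide)
theorem V_w : ev V.g (cw (sg 5) [([8,4], [2], 3)]) = V.ev [10] := Ctx.eq_of_eqW V_ok (v := [10]) (by decide +kernel)
theorem presL {ps xs : List ℕ} {n : ℕ} (hn : Nat.card (CA.Leech.St (ps.map vec)) = n)
    {L : List (ℕ × List (List ℕ))} (h0 : allL xs okC = true) (hf : fixOK ps xs = true) (h3 : lowP L xs n = true)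
    {rels : List Word} {k : ℕ} (hk : xs.length = k)
    (h : lall rels (fun r => Nat.beq (CA.CGParts.evalW cG.mul cG.inv cG.one xs r) cG.one) = true) :
    ∃ X : ℕ → Co0, grp X (sg k) = CA.Leech.St (ps.map vec) ∧ ∀ r ∈ rels, ev X r = 1 := by
  obtain ⟨X, h1, h2⟩ := of_codes (cG_ok h0)
  refine ⟨X, hk ▸ h1.trans (lowP_spec h3 (in_St (cG_ok h0) hf) hn.le).1, fun r hr => cG.R_fun (h2 r) ?_⟩
  rw [Nat.eq_of_beq_eq_true (lall_iff.1 h r hr)]
  exact cG.R_one
def xs : List ℕ := [nat_lit 0x8000000000000000000000000000000000000000000000000080000000000000000000000000000000000000000000000000800000000000008000000000000000000000000000000000000000000000000000000000000000000000000000000000000080000000000000000000000000000000000000000000008000000000000000000000000080000000000000000000000000000000000000000000000000000000000000800000000000000000000000000000000000000000000000000000000000000000800000000000000000000000000000000000000000000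00000000000000000800000000000000000000000800000000000000000000000000000000000000000000000008000000000000000000000000000000000000000000000000000000000000000008000000000000000000000000000000000000000008000000000000000000000000000000000000000000000000000000000000000000000008000000000000000000000000000000000000000000000000000008000000000000000008000000000000000000000000000000000000000000000000000000000800000000000000000000000000000000000000000000000000000000000000000800000000000000000000000000000000000000000000000000000008000000000000000000000000000000000000000000080000000000000000000000000000000000000000000000000000000000000800000000000000000000000000000000000000000008000000000000000000000000000000080000000000000000000000000000000000000000000000,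
  nat_lit 0x800000000000000000008000000000000000000000000000000000000000000000000000000000000000000000000000800000000000000000800000000000000000000000000000000000000000000000000000000000000000000000000000000000000000800000000000000000000000000000000080000000000000000000000000000000000000000000000000000000000000800000000000000000000000008000000000000000000000000000000000000000000000000000000000000000000000008000000000000000000000000000000000000000000000000000000000000000800000000000000000000000000000000000008000000000000000000000000000000000000000000000000000000000000080000000000000000000008000000000000000000000000000000000000000000000008000000000000000000000000000000000000000000000000000000000000000000000000000000000800000000000000000000000000000008000000000000000000000000000000000000000000000000000000000008000000000000000000000000000000000000000000000000000008000000000000000000000000000000000000000000000008000000000000000000000000000000000000000000080000000000000000000000000000000000000000000000000000000008000000000000000000000000000000000000000000000000000000000000000008000000000000000000000000000000000000000000000000000000000000000008000000080000000000000000000000000000000000000000000000,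
  nat_lit 0x800000000000000000000000000000000000000000000000008000000000000000000000000000800000000000000000000000000000000000000080000000000000000000000000000000000000000000000000000000000000000000000000000000008000000000000000000000000000008000000000000000000000000000000000000000000000000000000000000000000000800000000000000000000000000000000000000000000000800000000000000000000000000000000000000000000000000000800000000000000000000000000000000000000000000000800000000000000000000000000080000000000000000000000000000000000000000000000000000080000000000000000000000000000000000000000000000000000000000000000000800000000000000000000000000000000000000000000000000000000000000000000000800000000000000000008000000000000000000000000000000000000000000000000000000000000000000000000000008000000000000000008000000000000000000000000000000000000000000000000000000000000080000000000000000000000000000000000000000000000000000000008000000000000000000000000000000000000000000000000000000000000000000000000080000000000000000000000000000000000080000000000000000000000000000000000000000000000000000080000000000000000000000000000000000000008000000000000000000000000000000000000080000000000000000000000000000000000000000000000,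
  nat_lit 0x800000000000000000000000000000000080000000000000000000000000000000000000000000000000000000000000000080000000000080000000000000000000000000000000000000000000000000000000000000000000000000000000000000008000000000000000000000000000000000000000000000000080000000000000000000000000000000000000000000000000800000000000000000000000000000000000800000000000000000000000000000000000000000000000800000000000000000000000000000000000000000000000000000000000000000000000000000000080000000000000000000000000000000008000000000000000000000000000000000000000000000000080000000000000000000000000000000000000008000000000000000000000000000000000000000000080000000000000000000000000000000000000000000000000000000000000000000000000000000800000000000000000000000008000000000000000000000000000000000000000000000000000000000000000000000000000800000000000000000000000000000000000000000008000000000000000000000000000000000000080000000000000000000000000000000000000000000000000000080000000000000000000000000000000000000000000000000000000008000000000000000000000000000000000000000000000000000000080000000000000000000000000000000000000000000000000000000000000000000000080000000000080000000000000000000000000000000000000000000000,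
  nat_lit 0xc04000000000004000004000000000000000004000403fc00000fe0200000000000200000200000000000000000200020206000001fdfffffffffffdfffffdfffffffffffffffffdfffe0602000001fdfffffffffffdfffffe000000000000000005fffdfe0200000000020201fe01fffe01fffe01fe0201fdfe020002000000000001fdfffffffffffdfffffdfffffffffffffffffe0005fe020000fffffe020201fdfffdfe00020201fe01fe02020002000000000000000201fe01fe000201fffe020201fdfe0201fffe000000000000000201fe0201fffe0200020201fe0201fdfdfffe0000000000000001fdfe01fe0001fe000201fe020201fe020002000000000000000201fdfe020001fe0001fe020201fe01fe00020000000000000001fe01fe01fffdfe0002020201fe020201fffe0000000000fffffdfdfdfe02000201fffe0201fe0202020200020000000000fffffe0201fdfe0002020001fe02020201fe01fffe000000000001fdfffffffffffe000005fffffffffffffffffdfffdfe0200000000020201fdfe000202000201fdfdfe0201fe00020000000000fffffdfe020202000202000201fe0201fe01fdfffe000000000001fe000000000005fffffdfffffffffffffffffdfffdfe020000fffffe020202020001fdfffe020201fe01fdfe00020000000000000002020202020001fdfffdfdfdfe02020201fffe0000000000000001fe0202020002020001fe01fdfdfdfe0200020000000000fffffe01fe0201fffe020001fdfe01fe02020200020000000000000001fe0201fdfffe01fffdfe0202020201fe000200000000000205fffffffffffdfffffdfffffffffffffffffdfffdfe0200000602000000000002000002000000000000000002000201fe]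
theorem xs_r : lall (cw (sg 5) [([8,4], [2], 3)] :: rels) (fun r => Nat.beq (CA.CGParts.evalW cG.mul cG.inv cG.one xs r) cG.one) = true := by
  decide +kernel
theorem xs_low : lowP [(98848967279067215459914085892424648832004004241866229764, [[0], [2], [4], [6]]), (147697262644167422139521622976144619829761250994839488006, [[0], [2], [4]]), (147888076297937345505087070474600182489271138418946344966, [[0], [2]]), (147888824586731057436984129355876176186193505956772840966, [[0]]), (172312596657673589595492258676293717713931353070613497607, [])] xs 44352000 = true := by decide +kernel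
theorem xs_ok : allL xs okC = true := by decide +kernel
theorem xs_fix : fixOK [cV, cU2] xs = true := by decide +kernel
theorem xs_len : xs.length = 5 := by decide +kernel
theorem pres : ∃ X : ℕ → Co0, grp X (sg 5) = CA.Leech.St ([cV, cU2].map vec) ∧ ∀ r ∈ cw (sg 5) [([8,4], [2], 3)] :: rels, ev X r = 1 :=
  presL (ps := [cV, cU2]) (xs := xs) card_HS xs_ok xs_fix xs_low xs_len xs_r
theorem st : CA.SchurLow.St (CA.Leech.St ([cV, cU2].map vec)) (Multiplicative (ZMod 2)) := by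
  obtain ⟨X, h1, h2⟩ := pres
  exact st_cyc bound h1 card_HS.ge (fun r h => h2 r (List.mem_cons_of_mem _ h)) V_cov _ (h2 _ List.mem_cons_self) V_w
end
end CA.HSCov2
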