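import Cfsg.Agent.Lib.Spor.Tr3Basic
import Cfsg.Agent.Lib.Grp.Subn

/-! Hall's theorem: a conjugation-closed set of involutions any two of which have product of order dividing 3
generates a group whose even words form a 3-group.  The proof is a kernel-checked closure computation in the
Hall triple system of order 81. -/

set_option autoImplicit false
open Cfsg

namespace CA.Hall81

def linesN : ℕ := 0x142203a1141480342600a13e0839f0014e033e3809f3a6049cfc1c2053a74a113a587900274d940e6ba04fc0cd88026cc860e6028d313a599242cc031e5bb072e48280065c6012e53b05040ca8602549740e101931404991186487a1e4431f2178890589488e12433072013e2eea3c7842a3b50b1cf118ee41c704e234217196098c687c6640e3016d1508e8ac01c502f62026f10e8c88a02c402be1a7170d6028605e427c1613d0908f09849c442801e12b070803182f022d05060bf110508782014c06c1202111011838001ab77ed5faf08fd3877ee093f2031f9e04fc0347c7c1be02d5f142cf96207c904be5e45f3816d803e7ad853d6825a827af4e887aec7bd4a0de8070f1a8968f01bc341de3a18f128278019a102edd805ce9b854e05d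3a00a1b3920e51027205a395659ca622bc0395ce04381289c231ee15036205c376221bae06a80b76eb083200dd6361cd98186c85536344db2410d8a926c6c1b604c5a863ad588c6a3cb350699a0534d07a9686c63404999b128a198766719334a559893eccf0c669012902cd9290ec959a6445832500990b1ac80a462615ae62a989b1ec43226248d312e5589322c4f0e620d0305e2d82e04740b0580182f428979c14bd4835e5c82f045971d1eb82165c0502c5a916a516b53835aac0ad38156803eb14035804d2b3e455a51cac58f568412b401958044815084ea8518540950f0a9150450a52293c6149618a429f525ca2926414a316a411c4888e9c4098c1732a0ca75084ba8343140436a0c135004e270871391189d1824e00da63e21325129868a4c8c3263c14b804c5c0a548703a4320d2002a8cd8e46780a30074b220a61103444c6a2142111f088422042649213c0d0802c80d8940743a028150101660020367c3193e08f93147c6873c5859e323cf003468e842e7419d3614e161270d0838543190070d900e6ca0b3204d9a1c24d160c68a912e08d192a30c901a6088a30507980258b93245c70b2c547162220a930454094280c994121c8120644902222431100408090a347831c3c08f0c107080c3800d1a2020a180858c0230284161c28b00285070940d939e6884e42266a30f30b13967844a362a4961b20c898e604c63222297111098b865c3c2301a0921700b867e5c2be2421e940cf0a85763463a1e29c920ee09866e385361e25a9010d0887664c2b2281188d12c07875e304ae1c1d69108b0608564022a280148a12a05884e382a62405293009060646342a2220508b0c807823e4009e1418e8e0470603363411a160cc870c604052e24216140ca8706504022624092120088506403021e2000e080c6860230380161010a0a0448304201810e0808606002820010080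
def justs : List ℕ := [0x3003000004507080428201, 0x3801000018582080050502, 0x38030020005870a0820101, 0x400100000c605080038203, 0x2700800013458c020050709, 0x2700800213c50c04005870b, 0x4804000008688080430301, 0x5002000024703080068602, 0x50040040007080c0c20101, 0x5802000010786080040303, 0x2a00b00014c70f020068809, 0x2a00b00415468f06007080d, 0x60050020088090a0830301, 0x68020020308830a0080604, 0x68050040048890c0c28201, 0x2d00e00216489204008090b, 0x2d00e00416c81206008890d, 0x8005006010a090e0840303, 0x800500803ca02100c98902, 0x8804006040a830e04a0804, 0x3000f006178a930404a090f, 0x900d008018b11100c50503, 0x9011014134b151c0c50709, 0x980a00e014b8e161048305, 0x980f01c000b93242420101, 0xa006008048c051004b0a06, 0x330600ae18cc141e04b151d, 0xa00d00c010c11141440303, 0xa80c01200cc901a1838203, 0xa811010008c95181c30301, 0x980700a058b841208d0b06, 0x358610b8194d152208b9325, 0xb012004138d160c0c58a01, 0xb00a00a01cd0e120c58405, 0xa80900605cc860e04d8d04, 0x378600a21a8d941604c9519, 0xb80c006024d900e0868603,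 0xa808004060c870c00e0c06, 0xc011004020e150c0c60701, 0xc016008144e1a100c60b03, 0xc01200a148e16120c60a05, 0xc817002150e9b0a0870d01, 0x3581900a1b8b9d0608d0e13, 0x3581900e190d1d0808b8e17, 0xd04e004058f0a0c00d0b06, 0x3c8720161d0f191e00d1c11, 0xd01209c008f16162830301, 0xd809006030f8d0e0480605, 0xd80f00c164f9314048090b, 0x3781b0061c4c9f0404d900f, 0x3781b0121a4d9f0c04c901b, 0xa00b002070c080a0100f04, 0x4005a09c1a10101600c1115, 0xe01000202d0140a0878801, 0xe01900615d01d0e0878e03, 0xe01700a16101b120878d07, 0xe84e00404908b0c00b0a06, 0x428790041b509e0600b1a0d, 0x4287201c1d50992400b1c13, 0xe85600e071086161100f04, 0xf01b00016911f080489001, 0xf00600803510a100488507, 0xf00f01216d1131a048890d, 0x3301e008188c220604b1111, 0x3301e00c1a0b220a04c1115, 0xf85400206518d0a00e8e04, 0x470790001e119e0200e9a09, 0x4786f0ae1e919b1c04f191f, 0x1000800404520c0c00a8706, 0x488720041cd2190600a9c0d, 0x488720101a921c0e00a9919, 0x980f000084b89080529300, 0x980e000088b89080131202, 0x4a8790021ad31e0a00b9a05, 0x4a88e0041dd3230c00b9d07,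 0x4a85409c19130d1400b8e17, 0x4a82101c1953251200b9325, 0x1101b00817531f100491007, 0x1185400205d38e0a00d8d04, 0x4d88e0021d93a30400d9d0b, 0x4d85a0101c53911800d900f, 0x118500140613851c10e0c06, 0x1205100806140b1004e0c06, 0x4f86601e1d54182604e1613, 0x4f89e00026d41c0210da700, 0x508780a01d941a1810d9d0b, 0x508880262114212e10da013, 0x5106a13a1b14194e30d1523, 0x500a30ca21cc28265cca124, 0x3908012a294e204c00c982f, 0x4908c0ee2952223a0cc982f, 0x1285200a06148a1208e0c06, 0x5409c00e2794a31608e2709, 0x540610181cd4932008e150d, 0x5406b0201d14972808e1a11, 0x1285900c06d4891414f9002, 0x5608d0a02254961814fa209, 0x5609602826949e3014fa611, 0x510ad0401b54294830d160d, 0x4882600018122a0800a9403, 0x1300b00204150f0a00a0805, 0x40026002208c2a04010140b, 0x4d82609c1c13aa1400d9417, 0x4002601619d02a1000c141f, 0x1385a000079590080111102, 0x5a8800042315a00c0111807, 0x5a8850022355a104011160b, 0x5a84e01622958b1e0110a11, 0x5a8210a822d5a51c011131b, 0x5b87e0b821d59f220909925, 0x1405100805960c1004d0b06, 0x5d89f0081d16280604d1c11,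 0x1485a00006d6910800f9002, 0x5e8720021f969c0a00f9905, 0x5e8b50002256ab0200fa209, 0x5e89b0041fd6a70600f9b0d, 0x5e82109c1f56a51600f9315, 0x5e0c012429162d480d42733, 0x1505700607170e0e0500f04, 0x618880002157200210b2100, 0x620780ac1b571d1e10b1a0d, 0x1585200a04978c1208b0a06, 0x6306b0181b57972008b1a0d, 0x630a800a1d57a90608b1c13, 0x630a80a42b579c1408b2919, 0x640861182b97a1440d49e31, 0x1400b0100b1608180180f0e, 0x3c0bb00032ce9a080582c00, 0x660c300620d82e0404ea00f, 0x668c600e31182f160971609, 0x1685800a07188d120d00f04, 0x6788601422189e1c0d02109, 0x6785f01a209893220d0140b, 0x6787702220d8972a0d01d0f, 0x6785d02c205892340d01017, 0x678b60042d58a0061912b00, 0x6a07f0ac22589b1e1911f09, 0x628d51621d9731543ce9b0b, 0x6a8671701c1898563cd9417, 0x17060000245914080521500, 0x6c05101208190b1a0520c0d, 0x6c09f00624d928040521c0f, 0x6c01e19829d91160052223b, 0x6c0bf17630992b340522d59, 0x6d0a800627d9290e0941c03, 0x1280f00c0bd48914059930a, 0x6f0d80063759a404054b20f, 0x6f08f0a22a599e18054a317, 0x6f00f0362a99893e0549321,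 0x6f0940c02ad9a52a0549729, 0x6f09f1b02bd99c64054a849, 0x6d0df0063614330e0992403, 0x7082d0bc1f19b12824f8d0f, 0x1805c006089a110e0931202, 0x730170a4261a1b180930d15, 0x7301c150299a0f520932039, 0x730960021e5a260414d1e00, 0x1885d008089a90100d31202, 0x75058024261a8f2c0d30d15, 0x750cf030299ab1180d32039, 0x75097004239aa60618ea300, 0x1901c00a33db0f12098a006, 0x7701700a0b5b1b060988d13, 0x770610b8345b15240989323, 0x770df020395b2410098b329, 0x7706b0c2349b1a26098972b, 0x770b716435db2154098ab31, 0x770cd164359b3030098ae55, 0x5e0ef0142856361c0d41b09, 0x6c85409c0cd90d1601b8e14, 0x7b0cb0b436dbac200193023, 0x580d80003d95240805bb200, 0x7c0c30082d1bae060552011, 0x7c8cf00830dbb1100d72003, 0x1680f0120d18891a05c130c, 0x7d8f80083e9c2a06058b711, 0x7d88f0ae341c231e0589e1d, 0x7d80f03c345c09440589323, 0x7c8fc0083e1738100dbaa03, 0x1580e0100d57891801c920e, 0x800950b431dca6220179721, 0x800b510a329cab2c017a243, 0x1a822006399c920e05a2604, 0x8181e0060c1ca20405a110f, 0x77104018351b3920098a20d, 0x1b04e016091d0a1e0140b10,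 0x4f09f00041939c0805d2800, 0x838f800c2cdd370a053aa15, 0x1b8540100a9d8d180170e0e, 0x440c30004250a00805dae00, 0x1c09100237de150a019a404, 0x858210020bde2504019930b, 0x85906010391e3a18019a80f, 0x85879010381e1a0e0199e19, 0x7310c00a265a3c060932513, 0x878ea00a399e35120da2605, 0x1c8260043f1e940c01c2a06, 0x888210040d1ea50601c130d, 0x889090163fdebb1e01c2e11, 0x8888e0163f5e9d1001c231f, 0x8810c00a449abc1209ea506, 0x8a8e600a3a9eb41209aa607, 0x8a8ee0a43b1eb61409ab119, 0x1900e0160e9b091e01f1210, 0x8c11109c45df381601b3d15, 0x8c1000b4415f2f2201b3921, 0x8c09101c3c1f241201b1525, 0x8c0cb1003d1f2c4001b3031, 0x8c02610a3cdf142c01b2a43, 0x1d0220083a9f121005aa606, 0x8f01b0080c5f1f0605a9011, 0x1d895002399f970a01a2604, 0x900790023a5f9e0401a1a0b, 0x9005a0100c1f901801a110f, 0x9011101c459fb82401a3d13, 0x9009b01039dfa70e01a1b19, 0x908c600e1edfaf0808f1617, 0x7b9220620a1bbf6a4160c11, 0x1e0950043aa0170c01aa606, 0x9388e0043b60230601a9d0d, 0x938850163ae0211001a961f, 0x940ef014242036080d19b1d, 0x1e84e01c09608b240148a12,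 0x958850102b60a10e0149619, 0x959200163a20bf10014b41f, 0x5f0a80024ad69c0a0a0a900, 0x9710c00e3060bc08096a517, 0x1f08000433e1180c018a006, 0x980b500435212b06018a20d, 0x981270103b21400e018b519, 0x9809b016356127100189b1f, 0x9807901c34e11e120189a25, 0x989120142e613d080d5a51d, 0x9891f01a2ea13e0a0d59f23, 0x1f8940064321970e05e2504, 0x9b8bb00643a1ac0405e1a0f, 0x9b9070a24361a71605e3a19, 0x2005101e0ae20b260578c12, 0x9d09f00c3262280a0579c15, 0x9d0cc0a233a21d18057b017, 0x9d8da0023da2280a09bb200, 0x2089400844a2971005ea506, 0x9f0cc0084522b00605e9d11, 0x9f10a0ae44e2a11c05ebb1f, 0x2106f0083be3191005b1b06, 0xa08d80083c63320605b2411, 0xa08bb0ae3d631a1e05b2c1d, 0xa08bb01e3ca32c1205b1a27, 0xa113102c372342160d92b35, 0x218b200a3f23981209c2a06, 0xa310400a3fa3b90609c2213, 0xa31210b848e39e2209c3f25, 0xa38ea01a4063b50a0dca623, 0xa393102440a3c2140dcab2d, 0x1d908292498bba8e15fb76b, 0x2207e00a47e4191209f1f06, 0xa60df00a46e4330609f2413, 0xa614600e4664470809f3817, 0xa60c60b846a4162409f2f23, 0xa60c602047642f1009f1629,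 0xa61380384724431e09f2c41, 0xa691202238a43d0e0d9a52b, 0xa694203038e446180d9b239, 0xa00850a81162a11c024961a, 0x9a93e00055213d08064c500, 0xaa9070084ce4ba060612711, 0x9c89b09c11a1a7160251b14, 0x9793700055e0bc080654300, 0xac10a0064b253b04060a10f, 0xa187901611e31a1e0259e10, 0x9514100056a03608065c600, 0xad9550064ca5c904060420f, 0xad90a0084a65bb060602111, 0x2406601e10e616260639812, 0xaf15500c52a6490a063c215, 0xaf10712852e6274a063ba2f, 0xaf95c00256a6490a0a34b00, 0xb093800a512643060a32c13, 0x9e08e01012621d18026a30e, 0x9293a00058dfaf08066c400, 0xb21070064926ba0405fa70f, 0xb21580084b66ca0605fc111, 0xa788501c12a416240272112, 0xb395a01054e74b0e0244619, 0xb395701654674a10024431f, 0x9b14c00259e13e0a0a74800, 0xb512100a4d273f060a11e13, 0xb516100e51674c080a14617, 0xa40790b412e39e220279a20, 0xb615e0005b674c08067c700, 0xb715b0065a27c0040674b0f, 0xb71580085a67c1060674a11, 0xb009b0421326274a0281b26, 0xa715e0005c6447080684c00, 0xb913e00654a845040643d0f, 0xb913a008542844060642f11]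
def tabN : ℕ := 0x891644c83027477f0a7c894e9fc4871a3d077260469aee0c3752e14566fa84e72e264f6531b4b6141ec9a0dd7cd98b1e4a573a4b19eb6529473e5b59c7a6b43f21ab64ad62b868961b397290ae93353a88e89a2f551d8bd5d1153236c633e4cf5f407899cbf90914bc8ca123740d9c428ab8eac525a2396ec103b4f0559f510cd3084856a27061b945e719c158c8e3a5a8dd1b6ad09177af0b9332cd915809cf1d30e48ab3cadd96623d7187c6482d42fd19a2e3982318a54196c34ca7165d61e487cd9c44a8b203a692a614bcc210e4ca242620aaa28544a520453090a491102418f911a80708087478d1e6c30e3828587341060a2c3028b040c992025018f2a0410c004068322005021c2c00106244061208385101c0840c14200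
def srcN : ℕ := 0x2e85ccb91712e05bcb716d2d65a8b71672cc594b21632c4584af1712ba570ad95a2cc564ac1572ac570aa95429a530b916728e518af16d284584a095a27e5cc9f1542e84f49d1632c44e09b9572625a8aa9302e04b8ac12b2505bcad9272d6484b212023e5308f1182244549f11121e4309b90b2ba564851092ac5948390628e410819001f85187d9111f24f47c0f61de3b8a09181d44548f12721e3988192029a37c6f10b2843686c0f619e3b87d93027e334660cb1903189d1001f2334619091804b85f8bd1784e05d8cb2622dc5f8b51f82c87c0261902a06f12b1783684f9061802708389b1d4398110952244304a02112437c6c0912502704788e1184100f0b510c2dc8508519e0706188023e1f80d8bd10c484478790ee0646608e0302a04f8721de05c3789b02c1ac5d8791241f8378721182c8330800ee1ac4a09502431833085022184300910be040300260be184078210ba1701100e01a1700f05a0ba0300d85a0b00702b80b0140642b8540b005c048540301482880802c01c2884e0241480304e00a0140780e0080400200b02200c018080040300480201a0040300101401c000000000140200200a0000180100800c0000000400400000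
def cN : ℕ := 0x408141508084904482424888a0608a624aa249469268a8a1895886855161a445645294599865669154966aa91aa59a16aaa6195a2a69261555952925995614241811211205090628220a20080210040100

def la (t : ℕ) : ℕ := (linesN >>> (21 * t)) % 128
def lb (t : ℕ) : ℕ := (linesN >>> (21 * t + 7)) % 128
def lc (t : ℕ) : ℕ := (linesN >>> (21 * t + 14)) % 128

/-- `(a,b,c)` is a permutation of `(x,y,z)` -/
def pm (a b c x y z : ℕ) : Bool :=
  (a == x && b == y && c == z) || (a == x && b == z && c == y) || (a == y && b == x && c == z) ||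
  (a == y && b == z && c == x) || (a == z && b == x && c == y) || (a == z && b == y && c == x)

def has (t a b c : ℕ) : Bool := (a == b && b == c) || pm a b c (la t) (lb t) (lc t)

def pt (j r : ℕ) : ℕ := (j >>> (1 + 7 * r)) % 128
def pr (j r : ℕ) : ℕ := (j >>> (50 + 11 * r)) % 2048

def okStep (t j : ℕ) : Bool :=
  decide (pr j 0 < t) && decide (pr j 1 < t) && decide (pr j 2 < t) && decide (pr j 3 < t) &&
  has (pr j 0) (pt j 0) (pt j 1) (pt j 2) && has (pr j 1) (pt j 0) (pt j 3) (pt j 4) &&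
  has (pr j 2) (pt j 1) (pt j 3) (pt j 5) &&
  ((has (pr j 3) (pt j 4) (pt j 5) (pt j 6) && pm (la t) (lb t) (lc t) (pt j 2) (pt j 3) (pt j 6)) ||
   (has (pr j 3) (pt j 2) (pt j 3) (pt j 6) && pm (la t) (lb t) (lc t) (pt j 4) (pt j 5) (pt j 6)))

def okAll : ℕ → List ℕ → Bool
  | _, [] => true
  | t, j :: l => okStep t j && okAll (t + 1) l

def tab (g i : ℕ) : ℕ := (tabN >>> (7 * (4 * i + g))) % 128
def src (g i : ℕ) : ℕ := (srcN >>> (11 * (4 * i + g))) % 2048
def co (k i : ℕ) : ℕ := (cN >>> (2 * (4 * i + k))) % 4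

theorem chk_defs : ∀ t < 77, la t < 4 + t ∧ lb t < 4 + t ∧ lc t = 4 + t := by decide +kernel
theorem chk_all : okAll 77 justs = true := by decide +kernel
theorem chk_len : justs.length = 296 := by decide +kernel
theorem chk_tab : ∀ g < 4, ∀ i < 81, src g i < 373 ∧ has (src g i) i g (tab g i) = true ∧ tab g i < 81 := by
  decide +kernel

def agreeB (k x y : ℕ) : Bool := (List.range k).all fun j => co j x == co j y

theorem chk_inj : ∀ x < 81, ∀ y < 81, agreeB 4 x y = true → x = y := by decide +kernel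
theorem chk_lt : ∀ x < 81, ∀ k < 4, co k x < 3 := by decide +kernel
theorem chk_tri : ∀ g < 4, ∀ x < 81, ∀ y < 81, ∀ k < 4, agreeB k x y = true →
    (co k (tab g x) + co k x) % 3 = (co k (tab g y) + co k y) % 3 := by decide +kernel

section
variable {G : Type*} [Group G] {S : Set G}

/-- hypothesis: involutions (or 1) pairwise braiding, closed under mutual conjugation -/
structure Hyp (S : Set G) : Prop where
  sq : ∀ x ∈ S, x * x = 1
  br : ∀ x ∈ S, ∀ y ∈ S, x * y * x = y * x * y
  cl : ∀ x ∈ S, ∀ y ∈ S, y * x * y ∈ S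

def Line (f : ℕ → G) (a b c : ℕ) : Prop := f b * f a * f b = f c

variable (hS : Hyp S) {f : ℕ → G} (hf : ∀ i, f i ∈ S)
include hS hf

theorem Line.swap12 {a b c : ℕ} (h : Line f a b c) : Line f b a c := by
  unfold Line at *; rw [← h, hS.br _ (hf a) _ (hf b)]

theorem Line.swap13 {a b c : ℕ} (h : Line f a b c) : Line f c b a := by
  unfold Line at *
  rw [← h, ← mul_assoc, ← mul_assoc, hS.sq _ (hf b), one_mul, mul_assoc, hS.sq _ (hf b), mul_one]

theorem pm_sound {a b c x y z : ℕ} (h : pm a b c x y z = true) (hl : Line f x y z) : Line f a b c := by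
  simp only [pm, Bool.or_eq_true, Bool.and_eq_true, beq_iff_eq] at h
  rcases h with ((((⟨⟨rfl, rfl⟩, rfl⟩ | ⟨⟨rfl, rfl⟩, rfl⟩) | ⟨⟨rfl, rfl⟩, rfl⟩) | ⟨⟨rfl, rfl⟩, rfl⟩) |
    ⟨⟨rfl, rfl⟩, rfl⟩) | ⟨⟨rfl, rfl⟩, rfl⟩
  · exact hl
  · exact ((hl.swap12 hS hf).swap13 hS hf).swap12 hS hf
  · exact hl.swap12 hS hf
  · exact (hl.swap13 hS hf).swap12 hS hf
  · exact (hl.swap13 hS hf).swap12 hS hf |>.swap13 hS hf |>.swap12 hS hf
  · exact hl.swap13 hS hf

theorem has_sound {t a b c : ℕ} (h : has t a b c = true) (hl : Line f (la t) (lb t) (lc t)) : Line f a b c := by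
  simp only [has, Bool.or_eq_true, Bool.and_eq_true, beq_iff_eq] at h
  rcases h with ⟨rfl, rfl⟩ | h
  · unfold Line; rw [hS.sq _ (hf a), one_mul]
  · exact pm_sound hS hf h hl

theorem rule {i j k l i' j' k' : ℕ} (h1 : Line f i j k) (h2 : Line f i l i') (h3 : Line f j l j') :
    Line f i' j' k' ↔ Line f k l k' := by
  unfold Line at *
  rw [← h1, ← h2, ← h3]
  have : f l * f j * f l * (f l * f i * f l) * (f l * f j * f l) = f l * (f j * f i * f j) * f l := by
    simp only [mul_assoc, Tr3Basic.cancel_left (hS.sq _ (hf l))]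
  rw [this]

theorem okStep_sound {t j : ℕ} (h : okStep t j = true) (ih : ∀ s < t, Line f (la s) (lb s) (lc s)) :
    Line f (la t) (lb t) (lc t) := by
  simp only [okStep, Bool.or_eq_true, Bool.and_eq_true, decide_eq_true_eq] at h
  obtain ⟨⟨⟨⟨⟨⟨⟨l0, l1⟩, l2⟩, l3⟩, h0⟩, h1⟩, h2⟩, h3⟩ := h
  have r := @rule G _ S hS f hf _ _ _ _ _ _ (pt j 6) (has_sound hS hf h0 (ih _ l0)) (has_sound hS hf h1 (ih _ l1))
    (has_sound hS hf h2 (ih _ l2))
  rcases h3 with ⟨h3, h4⟩ | ⟨h3, h4⟩
  · exact pm_sound hS hf h4 (r.1 (has_sound hS hf h3 (ih _ l3)))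
  · exact pm_sound hS hf h4 (r.2 (has_sound hS hf h3 (ih _ l3)))

theorem okAll_sound (l : List ℕ) : ∀ t, okAll t l = true → (∀ s < t, Line f (la s) (lb s) (lc s)) →
    ∀ s < t + l.length, Line f (la s) (lb s) (lc s) := by
  induction l with
  | nil => intro t _ ih; simpa using ih
  | cons j l ihl =>
    intro t h ih
    rw [show okAll t (j :: l) = (okStep t j && okAll (t + 1) l) from rfl, Bool.and_eq_true] at h
    have := ihl (t + 1) h.2 (fun s hs => by
      rcases Nat.lt_succ_iff_lt_or_eq.1 hs with hs | rfl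
      · exact ih s hs
      · exact okStep_sound hS hf h.1 ih)
    intro s hs
    exact this s (by simp only [List.length_cons] at hs; omega)

omit hf in
theorem exists_pts {a b c e : G} (ha : a ∈ S) (hb : b ∈ S) (hc : c ∈ S) (he : e ∈ S) (n : ℕ) (hn : n ≤ 77) :
    ∃ f : ℕ → G, (∀ i, f i ∈ S) ∧ f 0 = a ∧ f 1 = b ∧ f 2 = c ∧ f 3 = e ∧
      ∀ t < n, Line f (la t) (lb t) (lc t) := by
  induction n with
  | zero =>
    refine ⟨fun i => if i = 0 then a else if i = 1 then b else if i = 2 then c else e, fun i => ?_, by simp, by simp,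
      by simp, by simp, by simp⟩
    dsimp only; split_ifs <;> assumption
  | succ n ih =>
    obtain ⟨f, hf, h0, h1, h2, h3, hl⟩ := ih (by omega)
    refine ⟨Function.update f (4 + n) (f (lb n) * f (la n) * f (lb n)), fun i => ?_, ?_, ?_, ?_, ?_, ?_⟩
    · by_cases hi : i = 4 + n
      · subst hi; rw [Function.update_self]; exact hS.cl _ (hf _) _ (hf _)
      · rw [Function.update_of_ne hi]; exact hf i
    · rw [Function.update_of_ne (by omega)]; exact h0
    · rw [Function.update_of_ne (by omega)]; exact h1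
    · rw [Function.update_of_ne (by omega)]; exact h2
    · rw [Function.update_of_ne (by omega)]; exact h3
    · intro t ht
      obtain ⟨c1, c2, c3⟩ := chk_defs t (by omega)
      unfold Line
      rw [Function.update_of_ne (by omega), Function.update_of_ne (by omega)]
      rcases Nat.lt_succ_iff_lt_or_eq.1 ht with ht | rfl
      · rw [Function.update_of_ne (by omega)]; exact hl t ht
      · rw [c3, Function.update_self]

omit hf in
theorem exists_table {a b c e : G} (ha : a ∈ S) (hb : b ∈ S) (hc : c ∈ S) (he : e ∈ S) :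
    ∃ f : ℕ → G, (∀ i, f i ∈ S) ∧ f 0 = a ∧ f 1 = b ∧ f 2 = c ∧ f 3 = e ∧
      ∀ g < 4, ∀ i < 81, f g * f i * f g = f (tab g i) := by
  obtain ⟨f, hf, h0, h1, h2, h3, hl⟩ := exists_pts hS ha hb hc he 77 le_rfl
  refine ⟨f, hf, h0, h1, h2, h3, fun g hg i hi => ?_⟩
  have := okAll_sound hS hf justs 77 chk_all hl
  rw [chk_len] at this
  obtain ⟨c1, c2, -⟩ := chk_tab g hg i hi
  exact has_sound hS hf c2 (this _ c1)

end

/-! triangular maps -/

def cz (k x : ℕ) : ZMod 3 := (co k x : ZMod 3)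
def Agree (k x y : ℕ) : Prop := ∀ j < k, cz j x = cz j y
def Tri (s : ZMod 3) (σ : ℕ → ℕ) : Prop :=
  (∀ x < 81, σ x < 81) ∧ ∀ k < 4, ∀ x < 81, ∀ y < 81, Agree k x y → cz k (σ x) - s * cz k x = cz k (σ y) - s * cz k y

theorem agreeB_of {k x y : ℕ} (hk : k ≤ 4) (hx : x < 81) (hy : y < 81) (h : Agree k x y) : agreeB k x y = true := by
  simp only [agreeB, List.all_eq_true, List.mem_range, beq_iff_eq]
  intro j hj
  have := (ZMod.natCast_eq_natCast_iff' _ _ 3).1 (h j hj)
  rwa [Nat.mod_eq_of_lt (chk_lt x hx j (by omega)), Nat.mod_eq_of_lt (chk_lt y hy j (by omega))] at this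

theorem tri_tab {g : ℕ} (hg : g < 4) : Tri (-1) (tab g) := by
  refine ⟨fun x hx => (chk_tab g hg x hx).2.2, fun k hk x hx y hy h => ?_⟩
  have := (ZMod.natCast_eq_natCast_iff' _ _ 3).2 (chk_tri g hg x hx y hy k hk (agreeB_of hk.le hx hy h))
  push_cast at this
  unfold cz
  linear_combination this

theorem Tri.agree {s : ZMod 3} {σ : ℕ → ℕ} (h : Tri s σ) {k x y : ℕ} (hk : k ≤ 4) (hx : x < 81) (hy : y < 81)
    (ha : Agree k x y) : Agree k (σ x) (σ y) := by
  intro j hj
  have := h.2 j (by omega) x hx y hy (fun i hi => ha i (by omega))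
  rw [ha j hj] at this
  linear_combination this

theorem Tri.comp {s t : ZMod 3} {σ τ : ℕ → ℕ} (h : Tri s σ) (h' : Tri t τ) : Tri (s * t) (σ ∘ τ) := by
  refine ⟨fun x hx => h.1 _ (h'.1 x hx), fun k hk x hx y hy ha => ?_⟩
  have e1 := h.2 k hk _ (h'.1 x hx) _ (h'.1 y hy) (h'.agree hk.le hx hy ha)
  have e2 := h'.2 k hk x hx y hy ha
  simp only [Function.comp]
  linear_combination e1 + s * e2

theorem tri_id : Tri 1 id := ⟨fun _ h => h, fun k _ x _ y _ _ => by simp⟩

theorem Tri.iter {σ : ℕ → ℕ} (h : Tri 1 σ) (n : ℕ) : Tri 1 σ^[n] := by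
  induction n with
  | zero => exact tri_id
  | succ n ih => rw [Function.iterate_succ]; simpa using ih.comp h

theorem Tri.cube {σ : ℕ → ℕ} (h : Tri 1 σ) {k : ℕ} (hk : k < 4) (ha : ∀ x < 81, Agree k (σ x) x) :
    ∀ x < 81, Agree (k + 1) (σ^[3] x) x := by
  intro x hx j hj
  have h1 := h.1 x hx
  have h2 := h.1 _ h1
  show cz j (σ (σ (σ x))) = cz j x
  rcases Nat.lt_succ_iff_lt_or_eq.1 hj with hj | rfl
  · rw [ha _ h2 j hj, ha _ h1 j hj, ha _ hx j hj]
  · have e1 := h.2 j hk _ h1 _ hx (ha x hx)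
    have e2 := h.2 j hk _ h2 _ h1 (ha _ h1)
    have e3 : (3 : ZMod 3) = 0 := rfl
    linear_combination e2 + 2 * e1 + (cz j (σ x) - cz j x) * e3

theorem Tri.iter81 {σ : ℕ → ℕ} (h : Tri 1 σ) : ∀ x < 81, σ^[81] x = x := by
  have key : ∀ k ≤ 4, ∀ x < 81, Agree k (σ^[3 ^ k] x) x := by
    intro k
    induction k with
    | zero => intro _ x _ j hj; omega
    | succ k ih =>
      intro hk x hx
      rw [pow_succ, Function.iterate_mul]
      exact (h.iter _).cube (by omega) (ih (by omega)) x hx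
  intro x hx
  exact chk_inj _ ((h.iter 81).1 x hx) x hx (agreeB_of le_rfl ((h.iter 81).1 x hx) hx (key 4 le_rfl x hx))

variable {G : Type*} [Group G] {S : Set G}

/-- every element of `⟨ab, ce⟩` has its 81st power commuting with `a, b, c, e` -/
theorem pow81 (hS : Hyp S) {a b c e : G} (ha : a ∈ S) (hb : b ∈ S) (hc : c ∈ S) (he : e ∈ S)
    {h : G} (hh : h ∈ Subgroup.closure ({a * b, c * e} : Set G)) :
    Commute (h ^ 81) a ∧ Commute (h ^ 81) b ∧ Commute (h ^ 81) c ∧ Commute (h ^ 81) e := by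
  obtain ⟨f, hf, h0, h1, h2, h3, hl⟩ := exists_table hS ha hb hc he
  have gen : ∀ g < 4, ∀ g' < 4, ∃ σ, Tri 1 σ ∧ ∀ i < 81, (f g * f g') * f i * (f g * f g')⁻¹ = f (σ i) := by
    intro g hg g' hg'
    refine ⟨tab g ∘ tab g', by simpa using (tri_tab hg).comp (tri_tab hg'), fun i hi => ?_⟩
    simp only [Function.comp]
    rw [← hl g hg _ ((tri_tab hg').1 i hi), ← hl g' hg' i hi, mul_inv_rev,
      Tr3Basic.inv_of_mul_self (hS.sq _ (hf g)), Tr3Basic.inv_of_mul_self (hS.sq _ (hf g'))]
    simp only [mul_assoc]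
  have key : ∃ σ, Tri 1 σ ∧ ∀ i < 81, h * f i * h⁻¹ = f (σ i) := by
    induction hh using Subgroup.closure_induction'' with
    | mem x hx =>
      rcases hx with rfl | rfl
      · rw [← h0, ← h1]; exact gen 0 (by omega) 1 (by omega)
      · rw [← h2, ← h3]; exact gen 2 (by omega) 3 (by omega)
    | inv_mem x hx =>
      rcases hx with rfl | rfl
      · rw [mul_inv_rev, Tr3Basic.inv_of_mul_self (hS.sq _ ha), Tr3Basic.inv_of_mul_self (hS.sq _ hb), ← h0, ← h1]
        exact gen 1 (by omega) 0 (by omega)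
      · rw [mul_inv_rev, Tr3Basic.inv_of_mul_self (hS.sq _ hc), Tr3Basic.inv_of_mul_self (hS.sq _ he), ← h2, ← h3]
        exact gen 3 (by omega) 2 (by omega)
    | one => exact ⟨id, tri_id, by simp⟩
    | mul x y _ _ hx hy =>
      obtain ⟨σ, s1, s2⟩ := hx
      obtain ⟨τ, t1, t2⟩ := hy
      refine ⟨σ ∘ τ, by simpa using s1.comp t1, fun i hi => ?_⟩
      simp only [Function.comp]
      rw [← s2 _ (t1.1 i hi), ← t2 i hi]
      group
  obtain ⟨σ, s1, s2⟩ := key
  have pw : ∀ n, ∀ i < 81, h ^ n * f i * (h ^ n)⁻¹ = f (σ^[n] i) := by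
    intro n
    induction n with
    | zero => simp
    | succ n ih =>
      intro i hi
      rw [Function.iterate_succ', Function.comp, ← s2 _ ((s1.iter n).1 i hi), ← ih i hi, pow_succ']
      group
  have fin : ∀ i < 81, Commute (h ^ 81) (f i) := by
    intro i hi
    have := pw 81 i hi
    rw [s1.iter81 i hi] at this
    exact (Tr3Basic.conj_eq_iff_commute _ _).1 this
  exact ⟨h0 ▸ fin 0 (by omega), h1 ▸ fin 1 (by omega), h2 ▸ fin 2 (by omega), h3 ▸ fin 3 (by omega)⟩

theorem isPGroup_closure [Finite G] (hS : Hyp S) {a b c e : G} (ha : a ∈ S) (hb : b ∈ S) (hc : c ∈ S) (he : e ∈ S) :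
    IsPGroup 3 (Subgroup.closure ({a * b, c * e} : Set G)) := by
  set R := Subgroup.closure ({a * b, c * e} : Set G) with hR
  have hz : ∀ h : R, h ^ 81 ∈ Subgroup.center R := by
    intro h
    obtain ⟨c1, c2, c3, c4⟩ := pow81 hS ha hb hc he h.2
    rw [Subgroup.mem_center_iff]
    rintro ⟨x, hx⟩
    apply Subtype.ext
    show x * (h : G) ^ 81 = (h : G) ^ 81 * x
    induction hx using Subgroup.closure_induction with
    | mem x hx =>
      rcases hx with rfl | rfl
      · exact (c1.mul_right c2).eq.symm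
      · exact (c3.mul_right c4).eq.symm
    | one => simp
    | mul x y _ _ hx hy => rw [mul_assoc, hy, ← mul_assoc, hx, mul_assoc]
    | inv x _ hx => exact (Commute.inv_left hx).eq
  haveI : Fact (Nat.Prime 3) := ⟨Nat.prime_three⟩
  have hq : IsPGroup 3 (R ⧸ Subgroup.center R) := by
    intro x
    induction x using QuotientGroup.induction_on with
    | H h => exact ⟨4, by rw [← QuotientGroup.mk_pow, QuotientGroup.eq_one_iff]; exact hz h⟩
  haveI : Group.IsNilpotent R := Group.of_quotient_center_nilpotent hq.isNilpotent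
  have z3 : ∀ x ∈ S, ∀ y ∈ S, IsPGroup 3 (Subgroup.zpowers (x * y)) := fun x hx y hy =>
    IsPGroup.of_card_dvd_pow (n := 1) (by
      rw [Nat.card_zpowers, pow_one]
      exact orderOf_dvd_of_pow_eq_one (Tr3Basic.cube_of_braid (hS.sq _ hx) (hS.sq _ hy) (hS.br _ hx _ hy)))
  have hle : R ≤ (pCore 3 R).map R.subtype := by
    rw [hR, Subgroup.closure_le]
    rintro x (rfl | rfl)
    · exact Fitting.le_map_pCore_of_isNilpotent this
        (Subgroup.zpowers_le.2 (Subgroup.subset_closure (by simp))) (z3 _ ha _ hb) (Subgroup.mem_zpowers _)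
    · exact Fitting.le_map_pCore_of_isNilpotent this
        (Subgroup.zpowers_le.2 (Subgroup.subset_closure (by simp))) (z3 _ hc _ he) (Subgroup.mem_zpowers _)
  exact (Core.isPGroup_pCore.map R.subtype).to_le hle

/-- if `S` is closed under conjugation by `G`, products of two members lie in `O₃(G)` -/
theorem mul_mem_pCore [Finite G] (hS : Hyp S) (hc : ∀ g : G, ∀ x ∈ S, g * x * g⁻¹ ∈ S) {a b : G} (ha : a ∈ S)
    (hb : b ∈ S) : a * b ∈ pCore 3 G := by
  haveI : Fact (Nat.Prime 3) := ⟨Nat.prime_three⟩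
  refine Subn.baer_suzuki (Subgroup.zpowers (a * b)) (fun g => ?_) (Subgroup.mem_zpowers _)
  refine (isPGroup_closure hS ha hb (hc g a ha) (hc g b hb)).to_le (sup_le ?_ ?_)
  · exact Subgroup.zpowers_le.2 (Subgroup.subset_closure (by simp))
  · rw [MonoidHom.map_zpowers]
    refine Subgroup.zpowers_le.2 (Subgroup.subset_closure (Or.inr ?_))
    simp [mul_assoc]

theorem Hyp.conj_mem (hS : Hyp S) {g : G} (hg : g ∈ Subgroup.closure S) : ∀ x ∈ S, g * x * g⁻¹ ∈ S := by
  induction hg using Subgroup.closure_induction'' with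
  | mem y hy => intro x hx; rw [Tr3Basic.inv_of_mul_self (hS.sq _ hy)]; exact hS.cl _ hx _ hy
  | inv_mem y hy => intro x hx; rw [inv_inv, Tr3Basic.inv_of_mul_self (hS.sq _ hy)]; exact hS.cl _ hx _ hy
  | one => simp
  | mul y z _ _ hy hz =>
    intro x hx
    have := hy _ (hz _ hx)
    simpa [mul_assoc] using this

/-- Hall's theorem: the even words form a 3-group -/
theorem isPGroup_even [Finite G] (hS : Hyp S) :
    IsPGroup 3 (Subgroup.closure {x : G | ∃ a ∈ S, ∃ b ∈ S, x = a * b}) := by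
  set H := Subgroup.closure S with hH
  have hS' : Hyp (H.subtype ⁻¹' S) :=
    ⟨fun x hx => Subtype.ext (hS.sq _ hx), fun x hx y hy => Subtype.ext (hS.br _ hx _ hy),
      fun x hx y hy => hS.cl _ hx _ hy⟩
  refine ((Core.isPGroup_pCore (p := 3) (G := H)).map H.subtype).to_le ?_
  rw [Subgroup.closure_le]
  rintro _ ⟨a, ha, b, hb, rfl⟩
  refine ⟨⟨a, Subgroup.subset_closure ha⟩ * ⟨b, Subgroup.subset_closure hb⟩, ?_, rfl⟩
  exact mul_mem_pCore hS' (fun g x hx => hS.conj_mem g.2 _ hx) ha hb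

end CA.Hall81
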