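import Cfsg.Agent.Lib.Comp.CLink3
import Cfsg.Agent.Lib.Spor.HePres
import Cfsg.Agent.S0245

/-! The point stabiliser `S₄(4):2` of the Held group. -/

set_option autoImplicit false
set_option maxRecDepth 100000
set_option maxHeartbeats 400000
set_option linter.all false

namespace CA.HeSp
open Matrix CA.CNet CA.CWord CA.CLevel CA.CSimple CA.CPoint CA.CTrans CA.CMat CA.CLink CA.CLink2 CA.CLink3 CA.CBlk
  CA.CLow CA.HePerm CA.HePres

def low_w3 : List Word := [[0,0,2,0,2]]
theorem low_3 : Low (C.grp low_w3) 2 [9] :=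
  low_orb hC hlk 9 (by decide) [(9,0)] (m := 2) (grp_mono _ (by decide +kernel))
    (by decide +kernel) (by decide +kernel) (low_nil C) (by decide)
def low_w2 : List Word := [[0,0,2,0,2], [0], [4,10,6,8,10,4,6,10,4,6], [9,7,5,3,9,7,5,3,9,7,5,3,9,7,5,3,9,7,5,3,9,7,5,3,9,7,5,3,10,2,4,6,8,2,4,6,8,2,4,6,8,2,4,6,8,2,4,6,8,2,4,6,8,2,4,6,8,6,10,8,4,6,10,4,6,9,7,5,3,9,7,5,3,9,7,5,3,9,7,5,3,9,7,5,3,9,7,5,3,9,7,5,3,10,2,4,6,8,2,4,6,8,2,4,6,8,2,4,6,8,2,4,6,8,2,4,6,8,2,4,6,8]]
theorem low_2 : Low (C.grp low_w2) 72 [23,9] :=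
  low_orb hC hlk 23 (by decide) [(23,2), (23,4), (23,5), (23,6), (23,7), (41,4), (41,5), (41,6), (41,7), (1559,4), (1559,6), (1559,7), (1560,5), (1560,6), (1560,7), (1554,0), (1554,2), (1554,4), (1554,5), (795,0), (795,2), (795,4), (795,5), (1212,4), (1212,6), (1216,5), (1216,6), (1200,4), (1200,5), (1553,4), (1553,7), (1206,2), (1206,4), (1127,5), (1139,6)] (m := 36) (grp_mono _ (by decide +kernel))
    (by decide +kernel) (by decide +kernel) low_3 (by decide)
def low_w1 : List Word := [[0,0,2,0,2], [0], [4,10,6,8,10,4,6,10,4,6], [9,7,5,3,9,7,5,3,9,7,5,3,9,7,5,3,9,7,5,3,9,7,5,3,9,7,5,3,10,2,4,6,8,2,4,6,8,2,4,6,8,2,4,6,8,2,4,6,8,2,4,6,8,2,4,6,8,6,10,8,4,6,10,4,6,9,7,5,3,9,7,5,3,9,7,5,3,9,7,5,3,9,7,5,3,9,7,5,3,9,7,5,3,10,2,4,6,8,2,4,6,8,2,4,6,8,2,4,6,8,2,4,6,8,2,4,6,8,2,4,6,8], [4], [9,7,5,3,9,7,5,3,9,7,5,3,9,7,5,3,9,7,5,3,9,7,5,3,9,7,5,3,10,2,4,6,8,2,4,6,8,2,4,6,8,2,4,6,8,2,4,6,8,2,4,6,8,2,4,6,8,6,8,10,6,9,7,5,3,9,7,5,3,9,7,5,3,9,7,5,3,9,7,5,3,9,7,5,3,9,7,5,3,10,2,4,6,8,2,4,6,8,2,4,6,8,2,4,6,8,2,4,6,8,2,4,6,8,2,4,6,8]]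
theorem low_1 : Low (C.grp low_w1) 4608 [5,23,9] :=
  low_orb hC hlk 5 (by decide) [(5,8), (5,10), (9,0), (9,4), (9,5), (9,6), (9,7), (9,10), (1697,0), (1697,4), (1697,5), (1697,6), (1697,7), (20,5), (20,7), (20,8), (20,10), (36,10), (19,10), (39,8), (39,10), (38,8), (38,10), (41,4), (41,5), (41,6), (41,7), (1914,4), (1914,5), (1914,6), (1914,7), (1138,4), (1138,6), (1138,7), (1138,8), (1553,5), (1553,7), (1214,0), (1214,5), (846,4), (846,5), (846,8), (69,8), (21,8), (21,10), (23,6), (1122,0), (1122,2), (860,4), (860,6), (22,4), (22,10), (71,5), (71,7), (1212,10), (797,4), (797,8), (1205,6), (1175,10), (795,8), (1270,8), (11,10), (1985,5)] (m := 64) (grp_mono _ (by decide +kernel))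
    (by decide +kernel) (by decide +kernel) low_2 (by decide)
theorem low : Low (C.grp subs) 1958400 [2,5,23,9] :=
  low_clo hC hlk 2 (by decide) [4,12,6,8,2,4,12,8,6,2,4,0,2,6,12,8,4] (m := 425) (le_of_subst _ [[0,10], [0], [2,8,4,6,8,2,4,8,2,4], [13,8,12,4,8,6,2,4,8,2,4,13,8,12], [2], [13,8,12,4,6,8,4,13,8,12]] (by decide +kernel))
    (by decide +kernel) (by decide +kernel) low_1 (by decide)
theorem cardH : Nat.card (C.grp subs) = 1958400 := low.card
  (card_le_of_fix hC (ls := gens) (p := ⟨0, by decide⟩) (grp_le_iff _ |>.2 fun w hw => all_mem (by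
    revert w; decide +kernel)) coset_fix [2,12,4,6,4,8,10,6,2,4,12,10,6,12,8,4,6,10,2,4,6,12,2,10]
    (m := 2058) (by decide) (by decide +kernel) card.le)
theorem stab : C.grp gens ⊓ MulAction.stabilizer _ (⟨0, by decide⟩ : Fin C.n) = C.grp subs :=
  stab_of_card (grp_le_iff _ |>.2 fun w hw => all_mem (by revert w; decide +kernel)) coset_fix (m := 2058)
    (by rw [Nat.card_congr (Equiv.subtypeUnivEquiv (p := fun i : Fin C.n => ∃ x ∈ C.grp gens, x • _ = i) coset_trans),
      Nat.card_eq_fintype_card, Fintype.card_fin]; decide) (by rw [card, cardH])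

def ms : List (Mat × Mat) := [([[2,3,1,1],[1,0,0,2],[3,1,2,0],[1,0,1,1]], [[2,1,1,0],[0,1,1,2],[3,1,2,1],[1,0,3,0]]),
  ([[2,2,0,1],[0,2,1,0],[0,2,2,0],[2,0,2,2]], [[2,2,0,1],[0,2,1,0],[0,2,2,0],[2,0,2,2]])]
def SL : Mat := [[nat_lit 0x400200400000000018320000200006000c2c11190010000d0c000800000020100600400002000000c000000c00b256c002000a135c00001800a2d05801df0160000000101800040440000000000200298000e000080000040000000800740088035d0313600200107bfe000904881d1016d406040000000018000000000000008000000000038003000000000000180008001fc0500260060200007fa80114064003f0c00200000003008000040000000000003840000000006000000b30d8003448006e15c9070000001000000000005800008803040610060648280000000027407408000f3409580000034010003059f00000800012ac00000ff000c00e24, nat_lit 0],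
 [nat_lit 0x2000000000020822000004000200002811180010001d040008000000011000004000000000408800002600325400000006504600002800a1901021588141000000501000000080000000000000058000d0000800000400000018002000080329073170020001f0590003808c09000b380c800000000010000000000280008000000000016002000000000000000010000b804001822e20001032d80704021000906002000000010080000100000000000008600000000040102008209001646000581941050000001000000000004800002042040560460c8008000000002040140000083411400000030010002851b00000800001b00000031000380c04, nat_lit 0x20000000000000012000020000400002800000010000500000800000020000200400002000000c0000008009040400200021304000000002040580052014000000010180004004000000000000029000040000800000400000008001000080345011220020000298a0009000804001284000000000000180000000000000000000000000080000000000000001000080009405002000202000004a00100000001c040000000000300000004000000000000004000000000400000081058002448004414c104000000100000000000400000880004021006040000000000000400700800032408000000020010003048f000000000120c00000d0000c00024],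
 [nat_lit 0x400200400000000018220000040000000c00011800100000040008000000001002000000000000400800000c0032544000000c0346000008000210000056802000000000000004008000000000020001000030000000000400000008007c0088034800007002000182a5000b01801d1016800c0400000000100040000002000000000000000380020000000000001000100002806001a0000200106ac001120c1003202000000000014000000100000000000010200000000060002006905800344000741980064000001000000000001100002842040f6046060a0800000000344050080003241810000004420000094c400000000015fc0000061000780c20, nat_lit 0x400000000000000218120000200000000c280118001000140c0000000000011000004000020000000000000a0090540002000010100000080083400000c301010000005008000400800000000000000000000000000000040000000000040088005005322002001031920000000c0010140402840000000010000000000080008000000000000001000000000000180010001a000001c22a0200001ea8000006400170c00200000002000000050000000000003840000000002010200130d8015460002609000700000010000000000018000028420005704202c008000000000140740000073011080000000010001859300000800013300000051000380c04],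
 [nat_lit 0x200000000002000004101900100014000008000000201002000000000000400000000400220040000002031200003800231040200e81400000004010000404400000000002002080004000000000040000000800200080026c053040020011b0bf0002000c080015ac020000000000080000000002000000000000000160010000000000000000080008026006022a0000004ff8011604000090c00000000003408000050000000000000840000000002000000bb09800102800181481060000001000000000005000003043040370640a48000000000005007400000c345858000005420000195440000000001760000004f000000e00, nat_lit 0x4002204000000000181200000400000004000118001000190c0000000000201002000000000000008000002c0090544000000603020000080082c050004280400000000008000400000000000000002400005000080000040000000000740000017d0623300200003098000a858c1c0013880804000000000800400000028000000000000003a000000000000000100000001cc05000200c0200001a9804160640019040000000000300800001000000000000284000000000401020038000016000001400080700000000000000000018000080410408504404ca200000000033002000000c0410580000054010001004300000000002d000000be000b80204]]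
def O : ℕ := nat_lit 0x400220400000000218320000240006000c2c11190010001d0c000800000021100600400002000040c800002e00b256c002000e535e00003800a3d05821df81610000005018000404c00000000002002d8000f0000800000400000018007c0088037d073370020011fbff000b858c1d101ffc0e84000000001800400000028000800000000003e003000000000000180018001fc27007e22e2200107ff807160e5003f0e00200000003408000050000000000003860000000006010200fb0d8017468007e1dc907400000100000000000590000b843040f70660eca280000000037407408000f345958000007421000395df00000800017fc00000ff000f80e24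
def gN : List Word := [[2,4,6,8,2,4,6,8,2,4,6,8,2,4,6,8,2,4,6,8,2,4,6,8,2,4,6,8,10,6,4], [0]]
theorem NH : C.grp gN ≤ C.grp subs := le_of_subst subs [[12,8,4,2], [0]] (by decide +kernel)
theorem baseN : IsBase (C.grp gN) [2,5,23,9] := (low.2 cardH.le).mono NH
abbrev e : Fin 2 ⊕ Fin 2 ≃ Fin 4 := finSumFinEquiv
def J : Mat := [[0,0,1,0],[0,0,0,1],[1,0,0,0],[0,1,0,0]]
theorem hact : allR 2 (actI ar4 4 C SL O (nz ar4) (lets ms) gN) = true := by decide +kernel
theorem hframe : frameOK ar4 4 C.n SL O [248,1264,1915,1800] 1560 [[2,3,0,2],[1,2,3,0],[3,1,2,3],[3,2,1,1]] [3,1,3,2] = true := by decide +kernel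
theorem hO : sub O (C.clo gN [0,0,0,2,0,0,2,0,0,2,0,0,2,0,0,2,0,0,2,0,0,0] (bit 2)) = true := by decide +kernel

def C85 : Ctx := ⟨85, 7, [[(nat_lit 0x400044510455405101004, nat_lit 1),
  (nat_lit 0x300202112211132101221, nat_lit 2),
  (nat_lit 0x1090f0d0d0f08040d0c, nat_lit 4),
  (nat_lit 0x600006003c00fe00f1, nat_lit 8),
  (nat_lit 0x1f00009ed10000d201, nat_lit 16),
  (nat_lit 0x8eda5000, nat_lit 32),
  (nat_lit 0x1b7000, nat_lit 64),
  (nat_lit 0x1b7000, nat_lit 32),
  (nat_lit 0x120000788000002000, nat_lit 16),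
  (nat_lit 0xf008f000300010001, nat_lit 8),
  (nat_lit 0x10b090004010203000000, nat_lit 4),
  (nat_lit 0x30221111002000001320, nat_lit 2),
  (nat_lit 0x415544140001041000005, nat_lit 1)], [(nat_lit 0x451004054145151514451, nat_lit 1),
  (nat_lit 0x232202332200333233303, nat_lit 2),
  (nat_lit 0x10e03030a050d02030f06, nat_lit 4),
  (nat_lit 0x4a0057008900b50090, nat_lit 8),
  (nat_lit 0xa00007fee00002d00, nat_lit 16),
  (nat_lit 0x42660804, nat_lit 32),
  (nat_lit 0x804, nat_lit 64),
  (nat_lit 0x804, nat_lit 32),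
  (nat_lit 0x4a6600000000, nat_lit 16),
  (nat_lit 0xa00150008002c0000, nat_lit 8),
  (nat_lit 0xe0002020404020a0900, nat_lit 4),
  (nat_lit 0x202302233000200030, nat_lit 2),
  (nat_lit 0x451000005010404041104, nat_lit 1)]]⟩
theorem ok85 : C85.ok = true := by decide +kernel
theorem lk85 : Good C85 (look C85 64) := good_look ok85 (by decide +kernel)
def SL85 : Mat := [[nat_lit 0x1faffe9befd779bf15fcef, nat_lit 0],
 [nat_lit 0xa9d6dee6abd4563ef1272, nat_lit 0x12a7e60ba814782c102482],
 [nat_lit 0x1f434c30fbaea7383b0cb8, nat_lit 0x1831773c23f119895688da],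
 [nat_lit 0x1b3d89407f70ec9b8e2d06, nat_lit 0x1678b6b2e7ace4d5c140c2]]
theorem hact85 : allR 2 (actI ar4 4 C85 SL85 (full 85) (nz ar4) (lets ms) [[0], [2]]) = true := by decide +kernel
def low85_w3 : List Word := [[1,2,1,1,1,2,0,0,2,1,2,1,2,1,2,1,2,1,2,0,2,1,1,2], [1,1,1,1,2,0,2,0,0,0,2,1,1,2,0,0,0,0,0,0,0,0,2,1,1,1,1,1,1,2]]
theorem low85_3 : Low (C85.grp low85_w3) 4 [2] :=
  low_orb ok85 lk85 2 (by decide) [(2,0), (2,2), (57,2)] (m := 4) (grp_mono _ (by decide +kernel))
    (by decide +kernel) (by decide +kernel) (low_nil C85) (by decide)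
def low85_w2 : List Word := [[1,2,1,1,1,2,0,0,2,1,2,1,2,1,2,1,2,1,2,0,2,1,1,2], [1,1,1,1,2,0,2,0,0,0,2,1,1,2,0,0,0,0,0,0,0,0,2,1,1,1,1,1,1,2], [1,1,1,1,2,0,2,0,0,0], [0,0,0,0,0,0,0,0,2,1,1]]
theorem low85_2 : Low (C85.grp low85_w2) 180 [3,2] :=
  low_orb ok85 lk85 3 (by decide) [(3,4), (3,5), (3,6), (3,7), (64,6), (64,7), (67,6), (67,7), (29,0), (29,2), (29,4), (29,5), (29,6), (68,0), (68,2), (68,4), (68,5), (68,7), (66,0), (66,2), (66,4), (66,5), (66,6), (40,0), (40,4), (40,5), (40,7), (52,0), (52,2), (52,4), (52,6), (35,0), (35,4), (35,5), (35,7), (16,4), (10,4), (10,5), (39,7), (81,6), (24,2), (24,5), (47,2), (11,4)] (m := 45) (grp_mono _ (by decide +kernel))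
    (by decide +kernel) (by decide +kernel) low85_3 (by decide)
def low85_w1 : List Word := [[1,2,1,1,1,2,0,0,2,1,2,1,2,1,2,1,2,1,2,0,2,1,1,2], [1,1,1,1,2,0,2,0,0,0,2,1,1,2,0,0,0,0,0,0,0,0,2,1,1,1,1,1,1,2], [1,1,1,1,2,0,2,0,0,0], [0,0,0,0,0,0,0,0,2,1,1], [0,2,0,2,1,1]]
theorem low85_1 : Low (C85.grp low85_w1) 11520 [1,3,2] :=
  low_orb ok85 lk85 1 (by decide) [(1,8), (1,9), (7,5), (7,6), (7,7), (19,6), (19,7), (41,6), (41,7), (35,0), (35,2), (35,4), (35,5), (35,6), (35,8), (35,9), (58,0), (58,2), (58,4), (58,5), (58,7), (58,8), (58,9), (68,0), (68,2), (68,4), (68,5), (68,6), (68,8), (68,9), (54,0), (54,4), (54,5), (54,7), (40,0), (40,4), (40,6), (40,8), (40,9), (48,0), (48,4), (48,5), (48,7), (31,9), (59,4), (59,5), (59,9), (84,8), (67,6), (67,8), (4,6), (43,5), (43,9), (45,9), (10,2), (33,8), (60,6), (64,8), (64,9), (53,8), (53,9), (42,0), (42,6)] (m := 64) (grp_mono _ (by decide +kernel))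
    (by decide +kernel) (by decide +kernel) low85_2 (by decide)
theorem low85 : Low (C85.grp [[0], [2]]) 979200 [0,1,3,2] :=
  low_orb ok85 lk85 0 (by decide) [(0,0), (0,1), (0,2), (31,0), (31,2), (1,1), (1,2), (2,0), (2,1), (21,0), (21,2), (20,1), (3,1), (3,2), (4,0), (4,1), (54,0), (54,2), (5,1), (52,0), (52,2), (30,1), (30,2), (6,1), (6,2), (7,0), (7,1), (25,0), (25,2), (8,2), (44,0), (44,2), (63,0), (9,1), (53,2), (40,0), (40,1), (42,2), (43,0), (43,1), (10,2), (11,0), (72,2), (12,1), (16,2), (36,0), (36,1), (14,0), (14,1), (32,2), (55,0), (57,0), (57,2), (15,1), (62,0), (48,0), (48,1), (64,2), (75,1), (18,1), (41,0), (24,1), (45,1), (82,0), (82,2), (46,2), (67,0), (67,1), (23,1), (28,1), (68,0), (27,1), (77,0), (56,1), (56,2), (81,2), (76,0), (51,1), (34,1), (58,2), (38,1), (65,2), (66,1), (69,0)] (m := 85) (le_of_subst _ [[1,2,1,1,1,2,0,0,2,1,2,1,2,1,2,1,2,1,2,0,2,1,1,2], [1,1,1,1,2,0,2,0,0,0,2,1,1,2,0,0,0,0,0,0,0,0,2,1,1,1,1,1,1,2], [1,1,1,1,2,0,2,0,0,0], [0,0,0,0,0,0,0,0,2,1,1], [0,2,0,2,1,1]] (by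 decide +kernel))
    (by decide +kernel) (by decide +kernel) low85_1 (by decide)

theorem iso (F : Type*) [Field F] [Fintype F] (hF : Fintype.card F = 4) :
    Nat.card (C.grp gN) = 979200 ∧ Nonempty (C.grp gN ≃* symplecticGroup (Fin 2) F) := by
  classical
  obtain ⟨ω, hω⟩ := exists_omega hF
  have hA := sound4 hF hω
  have := charP_two hF
  let ρ := (symplecticGroup (Fin 2) F).subtype
  have hρ : Function.Injective ρ := Subtype.val_injective
  have hJ : mval (elQ 2 ω) e J = Matrix.J (Fin 2) F := by
    ext i j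
    rcases i with i | i <;> rcases j with j | j <;> fin_cases i <;> fin_cases j <;>
      simp [Matrix.J, CharTwo.neg_eq] <;> first | exact hA.zero | exact hA.one
  obtain ⟨γ, hL, -, h0⟩ := exists_let e hA ρ (ms := ms) (by decide +kernel) (S := ⊤) fun x hx => by
    obtain ⟨g, hg⟩ := exists_Sp e hA hJ
      (lall_iff.1 (show lall ms (fun x => isoOK ar4 4 J x.1) = true by decide +kernel) x hx)
    exact ⟨g, trivial, hg⟩
  have hl := link ρ e ⊤ hA hC (inS_top hA) hL (k := 2) rfl h0 fun _ => allR_spec hact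
  have hl' := link ρ e ⊤ hA ok85 (inS_top hA) hL (k := 2) rfl h0 fun _ => allR_spec hact85
  have hc : Nat.card (symplecticGroup (Fin 2) F) = 979200 := by
    rw [Cfsg.Agent.S0245.result hF 2]; decide
  have : Finite (symplecticGroup (Fin 2) F) := Nat.finite_of_card_ne_zero (by omega)
  have ht : Subgroup.closure (Set.range γ) = ⊤ := Subgroup.eq_top_of_le_card _ (hc.le.trans (low85.1.trans
    (card_ge ρ hl' (inj_orb ρ e hA ok85 hl' (p := ⟨0, by decide⟩) (by decide +kernel) (sched := [0,2,0,0,2,0,0,2,0,0,2,0,0,0])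
      (by decide +kernel) (by decide +kernel)) (isBase_all _ _) (by decide +kernel))))
  obtain ⟨ψ, -, -, h3⟩ := hom_range hl (MonoidHom.id _) fun v hv => by
    obtain ⟨s, -, hs⟩ := frameOK_spec ρ ⊤ e hA hframe hv
    have h4 := SymplecticGroup.mem_iff.1 (ev γ v).2
    rw [show ((ev γ v).1 : Matrix _ _ F) = _ from hs] at h4
    have h5 := congrFun (congrFun h4 (.inr 0)) (.inl 0)
    have h6 : (s : F) ^ 2 = 1 := by simpa [Matrix.J, pow_two] using h5
    exact hρ (by rw [MonoidHom.id_apply, hs, eq_one_of_root hA (by decide +kernel) h6, one_smul, map_one])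
  rw [ht, Subgroup.map_id] at h3
  have hi := inj_of_center ψ (center_bot hC (hs := [[1,1,3,1,1,3,1,1,2,0,0,0,2,1]]) (p := ⟨2, by decide⟩) (by decide +kernel)
    (orb_iff ρ hC hl (by decide +kernel) hO) baseN (by decide +kernel))
    (by rw [h3, Subgroup.card_top, hc]; exact (Subgroup.card_le_of_le NH).trans cardH.le)
  let f := MulEquiv.ofBijective ψ ⟨hi, MonoidHom.range_eq_top.1 h3⟩
  exact ⟨(Nat.card_congr f.toEquiv).trans hc, ⟨f⟩⟩

theorem struct {X : Type*} [Group X] (f : X ≃* C.grp subs) (F : Type*) [Field F] [Fintype F]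
    (hF : Fintype.card F = 4) : ∃ N : Subgroup X, N.index = 2 ∧ Nonempty (N ≃* symplecticGroup (Fin 2) F) := by
  obtain ⟨h1, ⟨g⟩⟩ := iso F hF
  refine ⟨((C.grp gN).subgroupOf _).map f.symm.toMonoidHom, ?_,
    ⟨(f.symm.subgroupMap _).symm.trans ((Subgroup.subgroupOfEquivOfLe NH).trans g)⟩⟩
  rw [Subgroup.index_map_of_bijective f.symm.bijective]
  have := ((C.grp gN).subgroupOf (C.grp subs)).card_mul_index
  rw [Nat.card_congr (Subgroup.subgroupOfEquivOfLe NH).toEquiv, h1, cardH] at this
  omega

end CA.HeSp
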