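/-
The triple cover of `J₃` as a computable group: the stabiliser of an isotropic point and the centralizer of an
involution.
-/
import Cfsg.Agent.Lib.Spor.H28Cent2
import Cfsg.Agent.Lib.Spor.CGSim
import Cfsg.Agent.Lib.Spor.CGNorm
import Cfsg.Agent.S2041

set_option autoImplicit false
set_option maxRecDepth 100000
set_option exponentiation.threshold 5000
set_option Elab.async false

namespace CA.J3CG

open CA.NatBits CA.OrbBfs CA.CGroup CA.CGConstr CA.CGParts CA.CGCert CA.CGDec CA.H28CG CA.H28Mat CA.CGSim CA.CGNorm
open MulAction Matrix Cfsg.Spor
open CA.CMat (ar4 elQ sound4 charP_two mval Mat)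
open CA.J3Mat (e9)

section
variable {D : Type*} [Group D] {G : CG D}

theorem cent_gen {l : List ℕ} (hl : G.Ok l) {c : ℕ} {g : D} (r : G.R c g)
    (h : allL l (fun a => Nat.beq (G.mul c a) (G.mul a c)) = true) : ∀ x ∈ G.gen l, g * x = x * g := fun _ hx =>
  (Subgroup.mem_centralizer_singleton_iff.1 (CG.In.gen_le (H := Subgroup.centralizer {g})
    (CG.In.of_forall hl fun a ha _ hy => Subgroup.mem_centralizer_singleton_iff.2
      (G.R_fun (G.R_mul hy r) (beq_iff.1 (allL_iff.1 h a ha) ▸ G.R_mul r hy))) hx)).symm

theorem words {H : Subgroup D} {l l' : List ℕ} (h : G.In l H) (ws : List (List ℕ))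
    (e : mapK (evalW G.mul G.inv G.one l) ws (fun r => decide (r = l')) = true) : G.In l' H := by
  rw [mapK_eq, decide_eq_true_eq] at e
  exact e ▸ in_words h ws

/-- the normalizer of a group with centre of order two centralizes the central involution -/
theorem norm_cent [Finite D] (hi : ∀ {c d : ℕ} {x : D}, G.R c x → G.R d x → c = d) {l : List ℕ} (hl : G.Ok l) {c : ℕ}
    {z : D} (hz : G.R c z) (h : (!(Nat.beq c G.one) && allL l (fun a => Nat.beq (G.mul c a) (G.mul a c)) &&
      orb G.mul l G.one fun t _ => t.mem c && t.all fun x _ => Nat.beq x G.one || Nat.beq x c ||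
        anyL l fun a => !(Nat.beq (G.mul a x) (G.mul x a))) = true) {g : D}
    (hg : g ∈ Subgroup.normalizer (G.gen l : Set D)) : g * z * g⁻¹ = z := by
  simp only [Bool.and_eq_true] at h
  obtain ⟨⟨h1, h2⟩, h3⟩ := h
  obtain ⟨t, n, h4, -, h6, h7⟩ := elts_spec hi hl h3
  rw [Bool.and_eq_true] at h4
  obtain ⟨x, -, r, h8⟩ := h7 _ h4.2 _ ((Subgroup.mem_normalizer_iff.1 hg z).1 ((h6 _ _ hz).2 h4.1))
  simp only [Bool.or_eq_true, beq_iff, anyL_iff, Bool.not_eq_true'] at h8
  rcases h8 with (h8 | h8) | ⟨a, ha, h8⟩
  · rw [h8] at r
    rw [hi hz ((by simpa using G.R_fun r G.R_one : z = 1) ▸ G.R_one), Nat.beq_refl] at h1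
    cases h1
  · rw [h8] at r; exact G.R_fun r hz
  · obtain ⟨b, hb, r'⟩ := hl.in_gen a ha
    have h9 := cent_gen hl hz h2 _ ((Subgroup.mem_normalizer_iff.1 (inv_mem hg) b).1 hb)
    have h10 : b * (g * z * g⁻¹) = g * z * g⁻¹ * b := by
      calc _ = g * (g⁻¹ * b * g⁻¹⁻¹ * z) * g⁻¹ := by group
        _ = _ := by rw [← h9]; group
    rw [hi (G.R_mul r' r) (h10 ▸ G.R_mul r r'), Nat.beq_refl] at h8
    cases h8

theorem mem_mul_of_cent {c : ℕ} {l : List ℕ} {z g : D} [Finite D] (hz : G.R c z) (hc : ∀ x ∈ G.gen l, z * x = x * z)
    (hg : g ∈ G.gen (c :: l)) : ∃ a ∈ Subgroup.zpowers z, ∃ h ∈ G.gen l, g = a * h := by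
  refine CG.gen_induction (p := fun g => ∃ a ∈ Subgroup.zpowers z, ∃ h ∈ G.gen l, g = a * h)
    ⟨1, one_mem _, 1, one_mem _, (mul_one _).symm⟩ ?_ hg
  rintro d hd x _ r ⟨_, ⟨n, rfl⟩, h, hh, rfl⟩
  rcases List.mem_cons.1 hd with hd | hd
  · rw [hd] at r
    exact ⟨x * z ^ n, mul_mem (G.R_fun hz r ▸ Subgroup.mem_zpowers _) ⟨n, rfl⟩, h, hh, (mul_assoc _ _ _).symm⟩
  · refine ⟨_, ⟨n, rfl⟩, x * h, mul_mem (CG.mem_gen hd r) hh, ?_⟩
    have := (Commute.zpow_left (hc x (CG.mem_gen hd r)) n).eq
    rw [← mul_assoc, ← mul_assoc, this]

theorem cover_img {V : Type*} [AddCommGroup V] {p n w : ℕ} (F : Fr V p n w) (f : V →+ V) {good : V → Prop}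
    (h0 : good 0) (hs : ∀ j < n, ∀ v, good v → good (f (F.b j) + v)) (u : V) : good (f u) := by
  obtain ⟨g, rfl⟩ := F.span u
  have key : ∀ m ≤ n, good (f (∑ i ∈ Finset.range m, g i • F.b i)) := fun m => by
    induction m with
    | zero => exact fun _ => by simpa using h0
    | succ m ih =>
      intro hm
      rw [Finset.sum_range_succ, map_add, map_nsmul, add_comm]
      induction g m with
      | zero => simpa using ih (by omega)
      | succ k ik => rw [succ_nsmul', add_assoc]; exact hs m (by omega) _ ik
  exact key n le_rfl

variable {V : Type*} [AddCommGroup V] {p n w : ℕ} (F : Fr V p n w) {P : Par p n w} (hP : P.OK) [DistribMulAction D V]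
  [FaithfulSMul D V]
theorem cg_mul : (F.cgP hP D).mul = P.mul := rfl
theorem cg_inv : (F.cgP hP D).inv = P.inv := rfl
theorem cg_one : (F.cgP hP D).one = P.e := rfl
theorem cg_act : (F.vecP hP D).act = P.mv := rfl

theorem orbsK_spec3 {X : Type*} [MulAction D X] {A : CAct G X} [Finite D] {l : List ℕ} (hl : G.Ok l) {cs : List ℕ}
    (hc : ∀ c ∈ cs, ∃ x, A.S c x) {k : List T → Bool} (h : orbsK A.act l cs k = true) : ∃ ts, k ts = true ∧
      (∀ t ∈ ts, ∃ c ∈ cs, ∃ x n, A.S c x ∧ IsOrb A (orbit (G.gen l) x) t n) ∧
      ∀ c ∈ cs, ∀ x, A.S c x → ∃ t ∈ ts, ∃ n, IsOrb A (orbit (G.gen l) x) t n := by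
  induction cs generalizing k with
  | nil => exact ⟨[], h, by simp, by simp⟩
  | cons c cs ih =>
    obtain ⟨x, hx⟩ := hc c List.mem_cons_self
    obtain ⟨t, n, h1, h2⟩ := orb_spec hl hx (k := fun t _ => orbsK A.act l cs fun ts => k (t :: ts)) h
    obtain ⟨ts, h3, h4, h5⟩ := ih (fun d hd => hc d (List.mem_cons_of_mem _ hd)) h1
    refine ⟨t :: ts, h3, fun u hu => ?_, fun d hd y hy => ?_⟩
    · rcases List.mem_cons.1 hu with rfl | hu
      · exact ⟨c, List.mem_cons_self, x, n, hx, h2⟩
      · obtain ⟨d, hd, h6⟩ := h4 u hu
        exact ⟨d, List.mem_cons_of_mem _ hd, h6⟩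
    · rcases List.mem_cons.1 hd with rfl | hd
      · exact ⟨t, List.mem_cons_self, n, A.S_fun hx hy ▸ h2⟩
      · obtain ⟨u, hu, h6⟩ := h5 d hd y hy
        exact ⟨u, List.mem_cons_of_mem _ hu, h6⟩

/-- the orbits of `cv` and `reps` under `lC` cover the image of `z + 1` -/
noncomputable def centOK (P : Par p n w) (rd : ℕ → ℕ) (lK lC lS : List ℕ) (cz cv cu : ℕ) (reps : List (ℕ × List ℕ)) : Bool :=
  allL lC (fun a => Nat.beq (cjG P.mul P.inv a cz) cz) && !(Nat.beq cv 0) && redV p n w cu &&
  Nat.beq (mva rd n w P.W cz cu cu) cv && allL (reps.map Prod.fst) (redV p n w) &&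
  orb (cjG P.mul P.inv) lS cz (fun tz _ => allL reps fun r => force (evalW P.mul P.inv P.e lK r.2) fun k =>
    Nat.beq (P.mv k r.1) cv && !(tz.mem (cjG P.mul P.inv k cz))) &&
  orbsK P.mv lC (cv :: reps.map Prod.fst) fun ts => allLt n fun j => force (mva rd n w P.W cz (unit w j) (unit w j)) fun d =>
    (Nat.beq d 0 || anyL ts fun u => u.mem d) && allL ts fun t => t.all fun c _ =>
      force (mva rd n w P.W P.I d c) fun x => Nat.beq x 0 || anyL ts fun u => u.mem x

variable {F hP} in
theorem cent_le_of [Finite D] {rd : ℕ → ℕ} (hr : RdOK p n w rd) {K H : Subgroup D} {lK lC lS : List ℕ}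
    (hK : (F.cgP hP D).In lK K) (hC : (F.cgP hP D).In lC K) (hS : (F.cgP hP D).Ok lS) (eS : (F.cgP hP D).gen lS = H)
    {cz cv : ℕ} {z : D} {v0 : V} (hz : F.R cz z) (hv : F.S cv v0) (hH : ∀ g ∈ K, g • v0 = v0 → g ∈ H)
    (h0 : H ⊓ stabilizer D (toCj z) ≤ (F.cgP hP D).gen lC) (cu : ℕ) (reps : List (ℕ × List ℕ))
    (h : centOK P rd lK lC lS cz cv cu reps = true) {g : D} (hg : g ∈ K) (hc : g * z * g⁻¹ = z) :
    g ∈ (F.cgP hP D).gen lC := by
  let B := cjAct (F.cgP hP D) (cjG P.mul P.inv) R_cjG Fr.R.inj
  simp only [centOK, Bool.and_eq_true, beq_iff, hP.sp.2.1] at h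
  obtain ⟨⟨⟨⟨⟨⟨h1, h2⟩, h3⟩, h4⟩, h5⟩, h6⟩, h7⟩ := h
  have hC' := CAct.in_stabilizer (A := B) (x := toCj z) hC.ok hz h1
  obtain ⟨tz, nz, h8, oz⟩ := orb_spec (A := B) hS (x0 := toCj z) hz h6
  rw [eS] at oz
  obtain ⟨ts, h9, o1, o2⟩ := orbsK_spec3 (A := F.vecP hP D) hC.ok
    (List.forall_mem_cons.2 ⟨⟨_, hv⟩, Fr.ex_S h5⟩) h7
  simp only [allLt_iff, force_eq, Bool.and_eq_true, allL_iff, Bool.not_eq_true', beq_iff] at h8 h9
  let good : V → Prop := fun v => v = 0 ∨ ∃ c ∈ cv :: reps.map Prod.fst, ∃ x, F.S c x ∧
    v ∈ orbit ((F.cgP hP D).gen lC) x
  have e1 : ∀ {c v}, F.S c v → (Nat.beq c 0 || anyL ts fun u => u.mem c) = true → good v := fun r h => by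
    simp only [Bool.or_eq_true, beq_iff, anyL_iff] at h
    refine h.imp (fun e => Fr.S.fn (e ▸ r) Fr.S_zero) fun ⟨t, ht, e⟩ => ?_
    obtain ⟨d, hd, x, m, a, b⟩ := o1 t ht
    exact ⟨d, hd, x, a, (b.mem_iff r).2 e⟩
  have hI : F.Col (AddMonoidHom.id _) P.I := hP.sp.2.2.2.2.1 ▸ Fr.idM_lt.2
  let f := DistribSMul.toAddMonoidHom V z + AddMonoidHom.id _
  have e2 := cover_img F f (good := good) (.inl rfl) fun j hj v hv => by
    have r : F.S _ (f (F.b j)) := Fr.S_mva hr hz.2.1 (Fr.S_unit hj) (Fr.S_unit hj)
    rcases hv with hv | ⟨c, hc, x, a, b⟩
    · rw [hv, add_zero]; exact e1 r (h9 j hj).1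
    · obtain ⟨t, ht, m, o⟩ := o2 c hc x a
      obtain ⟨d, -, a', b'⟩ := o.forall ((h9 j hj).2 t ht) b
      exact e1 (Fr.S_mva hr (f := AddMonoidHom.id _) hI r a') b'
  have hu := Fr.S_of (F := F) h3
  generalize (∑ i ∈ Finset.range n, ap w cu i • F.b i) = u at hu
  have e3 : z • u + u = v0 := Fr.S.fn (Fr.S_mva hr hz.2.1 hu hu) (h4 ▸ hv)
  have e4 : f (g • u) = g • v0 := by
    rw [← e3]
    show z • g • u + g • u = g • (z • u + u)
    rw [smul_add, smul_smul, smul_smul, ← hc, inv_mul_cancel_right, hc]
  have e5 : ∀ k ∈ K, ∀ c ∈ (F.cgP hP D).gen lC, k • c⁻¹ • g • v0 = v0 →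
      k * c⁻¹ * g ∈ H ∧ (k * c⁻¹ * g) • toCj z = k • toCj z := fun k hk c hc' h =>
    ⟨hH _ (mul_mem (mul_mem hk (inv_mem (hC.gen_le hc'))) hg) (by rw [mul_smul, mul_smul, h]), by
      rw [mul_smul, mul_smul, smul_toCj g, hc, show c⁻¹ • toCj z = toCj z from inv_mem (hC'.gen_le hc')]⟩
  rcases e4 ▸ e2 (g • u) with h | ⟨d, hd, x, a, h⟩
  · rw [hv.inj (((smul_eq_zero_iff_eq g).1 h).symm ▸ Fr.S_zero)] at h2
    cases h2
  obtain ⟨c, hc', e⟩ := mem_orbit_sub.1 h
  rcases List.mem_cons.1 hd with rfl | hd
  · obtain ⟨h5, h6⟩ := e5 1 (one_mem _) c hc' (by rw [← e, inv_smul_smul, one_smul]; exact a.fn hv)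
    rw [one_mul] at h5 h6
    have := mul_mem hc' (h0 ⟨h5, h6.trans (one_smul _ _)⟩)
    rwa [mul_inv_cancel_left] at this
  · obtain ⟨q, hq, rfl⟩ := List.mem_map.1 hd
    obtain ⟨k, hk, r⟩ := evalW_mem hK q.2
    obtain ⟨h5, h6⟩ := e5 k hk c hc' (by
      rw [← e, inv_smul_smul]; rw [← (h8 q hq).1] at hv; exact Fr.S.fn ((F.vecP hP D).S_act r a) hv)
    exact absurd ((oz.mem_iff (B.S_act r (x := toCj z) hz)).1 (mem_orbit_sub.2 ⟨_, h5, h6⟩))
      (Bool.eq_false_iff.1 (h8 q hq).2)

end

/-- subspaces, with the action of the group -/
def Ln {M K ι : Type*} [Group M] [Field K] [Fintype ι] [DecidableEq ι] (_ρ : M →* Matrix ι ι K) : Type _ :=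
  Submodule K (ι → K)

instance {M K ι : Type*} [Group M] [Field K] [Fintype ι] [DecidableEq ι] (ρ : M →* Matrix ι ι K) :
    MulAction M (Ln ρ) where
  smul g L := Submodule.map (Matrix.toLin' (ρ g)) L
  one_smul L := by
    show Submodule.map (Matrix.toLin' (ρ 1)) L = L
    rw [map_one, Matrix.toLin'_one]; exact Submodule.map_id _
  mul_smul g h L := by
    show Submodule.map (Matrix.toLin' (ρ (g * h))) L = Submodule.map _ (Submodule.map _ L)
    rw [map_mul, Matrix.toLin'_mul]; exact Submodule.map_comp _ _ _

noncomputable def P : Par 2 18 5 := ⟨Nat.land 0x2108421084210842108421, Nat.land 0x84210842108421084210842108421084210842108421084210842108421084210842108421084210842108421084210842108421084210842108421084210842108421084210842108421084210842108421084210842108421084210842108421084210842108421084210842108421084210842108421084210842108421084210842108421084210842108421084210842108421084210842108421084210842108421084210842108421084210842108421084210842108421084210842108421084210842108421,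
  90, 1620, nat_lit 0x7c000000000000000000001f0000000000000000000007c000000000000000000001f0000000000000000000007c000000000000000000001f0000000000000000000007c000000000000000000001f0000000000000000000007c000000000000000000001f0000000000000000000007c000000000000000000001f0000000000000000000007c000000000000000000001f0000000000000000000007c000000000000000000001f0000000000000000000007c000000000000000000001f,
  nat_lit 0x80000000000000000000000100000000000000000000000200000000000000000000000400000000000000000000000800000000000000000000001000000000000000000000002000000000000000000000004000000000000000000000008000000000000000000000010000000000000000000000020000000000000000000000040000000000000000000000080000000000000000000000100000000000000000000000200000000000000000000000400000000000000000000000800000000000000000000001,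
  nat_lit 0x80000000000000000000000100000000000000000000000200000000000000000000000400000000000000000000000800000000000000000000001000000000000000000000002000000000000000000000004000000000000000000000008000000000000000000000010000000000000000000000020000000000000000000000040000000000000000000000080000000000000000000000100000000000000000000000200000000000000000000000400000000000000000000000800000000000000000000001080000000000000000000000100000000000000000000000200000000000000000000000400000000000000000000000800000000000000000000001000000000000000000000002000000000000000000000004000000000000000000000008000000000000000000000010000000000000000000000020000000000000000000000040000000000000000000000080000000000000000000000100000000000000000000000200000000000000000000000400000000000000000000000800000000000000000000001⟩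

theorem hP : P.OK := ⟨Rd.two (by decide +kernel), Rd.two (by decide +kernel), by decide +kernel⟩
theorem hr : RdOK 2 18 5 P.rv := rd2_ok (m := 0x2108421084210842108421) (by decide) (by decide +kernel)
attribute [irreducible] P

def c0 : ℕ := nat_lit 0x84000000000000000000002000000000000000000001000000000000000000000840000000000200000000000000000000000400000000000000000000000000008000000000000000000000010000000000080000000000000000000000100000000000000000000000000000000000000000800000000000000000000001000000800000000000000000000001000000000000000000000000000000000200000000000000000000000400000000002000000000000000000000004000000000000000000000008000000000000000000000010000000000000000800000000000000000000001000000000000000000000000000000080000000000000000000000100000000000000000000000000800000000000000000000001000000002000000000000000000000004000000000000000210000000000000000000008000000000000000000004000000000000000000002100000000000000000000000000000000000000200000000000000000000000400000000000000020000000000000000000000040000000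
def c1 : ℕ := nat_lit 0x20080200000000000000000040100400000000800000020000200000000001000000040000400000200002008000000000000000400004010000000000000000800000020080000000000001000000040100000000000800000000080200000000001000000000100400080200002000000000000000100400004000000000000080000002008000000000000100000004010000000000080200000008000000000000100400000010000000000000000000000000000000800000000000000000000001000000000000020080200000000000000000040100400000000800000020000200000000001000000040000400000200002008000000000000000400004010000000000000000800000020080000000000001000000040100000000000800000000080200000000001000000000100400080200002000000000000000100400004000000000000080000002008000000000000100000004010000000000080200000008000000000000100400000010000000000000000000000000000000800000000000000000000001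
/-- generators of the group -/
def gJ : List ℕ := [c0, c1]
/-- a scalar -/
def cs : ℕ := nat_lit 0x84000000000000000000002000000000000000000000000210000000000000000000008000000000000000000000000840000000000000000000020000000000000000000000002100000000000000000000080000000000000000000000008400000000000000000000200000000000000000000000021000000000000000000000800000000000000000000000084000000000000000000002000000000000000000000000210000000000000000000008000000000000000000000000840000000000000000000020004000000000000000000002100000000000000000000000010000000000000000000008400000000000000000000000040000000000000000000021000000000000000000000000100000000000000000000084000000000000000000000000400000000000000000000210000000000000000000000001000000000000000000000840000000000000000000000004000000000000000000002100000000000000000000000010000000000000000000008400000000000000000000000040000000000000000000021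
/-- generators of the stabiliser of `v0` -/
def lV : List ℕ := [nat_lit 0x84010000000400000000002008400000210000000000004200000100000000000002100400084000000000000000000000000020084010000000000000000042008400000010002100400000000000008400080210000000000004000000108000000000002100000084010000000000000000800000000084010000000001000000002008400000000840000021004000000000020000000802100000000000040000001000210000000021000000840008000000000000000000000000840000000000000000000020004210000008400000000002108000000200000000000084200002100000000000002000400080000000000000000000000000020004210000000000000000042108000000210000108400000000000008000084200000000000084000002108000000000002000000080010000000000000000800000000004210000000001000000002108000000000040000001084000000000021000000842000000000000840000021000010000000020000000800008400000000000000000000000040000000000000000000021,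
  nat_lit 0x840008421000000000000020000200800000000080000000000000000210040100000000000000008021000210000008020000000000008000000010040000000000210800000020000000000008001000000040000000000000002000000000210040000000004000000008021000210800008000000000000008001000010000000000084000002100000000010002000000080000000008400000000000000000084000000000000000000002000000004000000100000000000842100000084000000000020000200000000000004000840000400000000002100020000000040100001000000000000021084000840000000004000002000020000000002100000004000040000000000000000008000004000840000000000010002100020004000800000020000000002100001000000040000000004000802000000000000002100001004000000000000000000000000000000010000000000000000000008400000010000000400084000000008400000210002000000000210000008400000000040008000000200000000021]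
/-- an involution -/
def cz : ℕ := nat_lit 0x80010000000400000000000108400000210000000000084200002100000000000002000400080000000000000000000000000020004210000000000000000042108000000010002000400000000000008400004210000000000084000002108000000000002000000080010000000000000000800000000004210000000001000000002108000000000840000021080000000000020000000800100000000000040000001000200000000021000000840000400000000000000000000000800000000000000000000001080010000000400000000000108400000210000000000084200002100000000000002000400080000000000000000000000000020004210000000000000000042108000000010002000400000000000008400004210000000000084000002108000000000002000000080010000000000000000800000000004210000000001000000002108000000000840000021080000000000020000000800100000000000040000001000200000000021000000840000400000000000000000000000800000000000000000000001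
def lC0 : List ℕ := [nat_lit 0x210842008421000200800008020004200800000401004200840100021000000002100420084000800000000080200002000421004200000100400004210802100400080210840008421000200800108020000200800000401004000040108001000000002100021084010840000000080200842000400004200000100420004210002100400000000800000020084000000000001000000042000000084000042100001000210002000021080000840008000004000000100000000000042100000084000000000021000210802008420000010840008001004200040008420004200800100020000000002100401084000040000000004010000108401080210002108400084200840108000080210800008420000010840108001000200040008420004000840108021000000002100020084010800000000004010040108400080210002108421084200000108000000000840000021004000000000020000000802100000080000802000020000010000100001004000040008400080000002000000000000840100000004000000000020,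
  nat_lit 0x200000000000004000840000400000000002100020000000040100001000000000000021084000840000000004000002000020000000002100000004000040000000000000000008000004000840000000000010002100020004000800000020000000002100001000000040000000004000802000000000000002100001004000000000000000000000000000000010000000000000000000008400000010000000400084000000008400000210002000000000210000008400000000040008000000200000000021000000840008421000000000000020000200800000000080000000000000000210040100000000000000008021000210000008020000000000008000000010040000000000210800000020000000000008001000000040000000000000002000000000210040000000004000000008021000210800008000000000000008001000010000000000084000002100000000010002000000080000000008400000000000000000084000000000000000000002000000004000000100000000000842100000084000000000020]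
/-- generators of the perfect part of the centralizer of the involution -/
def lH : List ℕ := [nat_lit 0x80010802108421004010800108401080200802108401084200800008000080000002000401000010000100000000000040008400080210040000021000200000108021080000042108000080210800100021080010000108001080210800108400084210000108001084200002008000084200842100420080210042000420080210040108021004200800000420080000042100401000210040100021084200800108420004010802000401084200042108401000210040008401004210800008021000200842108001080010002008001084010000108400004010842008400084200000000420080200042000400000210040100421080200842108001080200840100420080010840100420004000000108401000210002100000084200840008000004200042000421084010042100421004210802008421004000000000020080200842100000000000040100420084200802000420080210842000401004210040108020084000040100401000210042000021084210840008021080000842000021084200800100020004000802000401,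
  nat_lit 0x4000040100401000000002100021084210840000000084210040008401000010802008021000200840008401004210800108000080200002108001084010000100400004010840100021000000002108420084000800000000000210042108401000010800008021080200840008401004210000108020080200002108000084010040100400084000042100001000010002000021080000840008400000000840000021084000000000020000000802000000084000002100000000000802000000080000000000001084010842100021004000042008420080000802100021000010042100401000000000008421080210840000000084210800108400084010002008001084200002008400084000842100421004000042000020080210802100021084010800000420000000002008401000210040000000084210000108420084010002008000084200042008400000000800000020000010000000001000000040008400000210800008420084000000008001000200042000000000200000008000000000800000400000010000000001]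
/-- generators of a Sylow subgroup -/
def lP : List ℕ := [nat_lit 0x10800000020080000840008401000000040100020084200840008021000200042000420000010800000421080010002108020004000800108400080010042100001000000040000401080000840000021000210840100020000200802108020000200040000401080010040000421080010802108000004000800108401080010002100001080000842000021000010000100020004000800008400000200000008000084000000000400000010002000000004210800108420000000802108001084200040000001000010800000020080000840008401000000040100020084200840008021000200042000420000010800000421080010002108020004000800108400080010042100001000000040000401080000840000021000210840100020000200802108020000200040000401080010040000421080010802108000004000800108401080010002100001080000842000021000010000100020004000800008400000200000008000084000000000400000010002000000004210800108420000000802108001084200040000001,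
  nat_lit 0x200802008020000010840000401004010040008420000000800008020004000840000001000010042100020004010802008000080000042108401004010000100021080200840008021000010840100420000010800008420000200840000021004000840000420000000802100020004010002008020080000042108400004010040100021000210000008400080000000008000000200000100000084000802100020000200002000001080000040000400004010840100421000000802108420084210800000001000000842000021000010840000020004000800008420080000842008021004000840100020004010802100020080200800100400000200040100401084210000000421080000800000020000010840100001000000040008420080200802000020004000840100401004000042100020080200000100420000200040100400084210040000421000210800008420080000000008001000200040100000084000002100000000200002000000080000000000400004010840100421000000802108420084210800000001,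
  nat_lit 0x802000020000210040000001004000040008021080000802008020084000040100001004010042000021084210802008000000200842008001004010000000420080000040000001000210040100021000000840008021080200042000001084000040100421004000842000021084210002008020000200842008000004010040000420000010800000420080000000008401000210040100000004000000100000000200002100000084000000000400084210042108401000000802008021080200840000001000200042008001000210040000421004010840008021000000040008001084000040000021000010842000021080200802108400080000840100401080200000100020080200800008020000210040100401000010040008021000200800000020084000040000401000000042000021080200002108420080000840100400080200040100020000010000000400080000000008400000210000100000004000800100020000200002100001084000040000400084210042108401000000802008021080200840000001]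
/-- an isotropic vector -/
def cv : ℕ := 0x1000000040000000
/-- conjugation -/
noncomputable def cj : ℕ → ℕ → ℕ := cjG P.mul P.inv

/-- the natural representation -/
abbrev ρ9 (F : Type*) [Field F] : GL F9 F →* Matrix F9 F9 F := Units.coeHom _
instance (F : Type*) [Field F] : Fact (Function.Injective (ρ9 F)) := ⟨Units.val_injective⟩

variable {F : Type*} [Field F] [Fintype F] (hF : Fintype.card F = 4) {ω : F} (hω : ω ^ 2 + ω + 1 = 0)
include hF

theorem dig : Dig ar4 (elQ 2 ω) 2 2 := by
  have := charP_two hF
  exact digQ (by decide) ω

/-- the frame -/
noncomputable def Fm : Fr (Vc (ρ9 F)) 2 18 5 := frK (ρ9 F) e9 (sound4 hF hω) (dig hF) rfl (by norm_num)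
/-- the computable group -/
noncomputable def jG : CG (GL F9 F) := (Fm hF hω).cgP hP _
/-- the action on vectors -/
noncomputable def jV : CAct (jG hF hω) (Vc (ρ9 F)) := (Fm hF hω).vecP hP _
theorem jG_mul : (jG hF hω).mul = P.mul := cg_mul _ hP
theorem jG_inv : (jG hF hω).inv = P.inv := cg_inv _ hP
theorem jG_one : (jG hF hω).one = P.e := cg_one _ hP
theorem jV_act : (jV hF hω).act = P.mv := cg_act _ hP
theorem R_inj {c d : ℕ} {x : GL F9 F} (h : (jG hF hω).R c x) (h' : (jG hF hω).R d x) : c = d := Fr.R.inj h h'
theorem R_cj {a c : ℕ} {g x : GL F9 F} (h : (jG hF hω).R a g) (h' : (jG hF hω).R c x) :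
    (jG hF hω).R (cj a c) (g * x * g⁻¹) := by
  rw [cj, ← jG_mul hF hω, ← jG_inv hF hω]; exact R_cjG h h'
/-- the action by conjugation -/
noncomputable def jC : CAct (jG hF hω) (Cj (GL F9 F)) := cjAct _ cj (R_cj hF hω) (R_inj hF hω)
theorem jC_act : (jC hF hω).act = cj := by dsimp only [jC, cjAct]

theorem jwords {H : Subgroup (GL F9 F)} {l l' : List ℕ} (h : (jG hF hω).In l H) (ws : List (List ℕ))
    (e : mapK (evalW P.mul P.inv P.e l) ws (fun r => decide (r = l')) = true) : (jG hF hω).In l' H :=
  words h ws (by rw [jG_mul, jG_inv, jG_one]; exact e)

theorem exS {l : List ℕ} (h : allL l (redV 2 18 5) = true) : ∀ c ∈ l, ∃ v, (jV hF hω).S c v := Fr.ex_S h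

theorem sgJ : Sg (jG hF hω) gJ (threeJ3 F ω) 150698880 := by
  obtain ⟨γ, h1, h2, h3⟩ := Cfsg.Agent.S2041.exists_γ hF hω
  have r0 : (jG hF hω).R c0 (γ 0) := R_of_link hP (_, _, c0) (h1 0)
    (by decide +kernel : linkOK ar4 9 2 2 5 P.W P.K (CA.CWord.nth (CA.CMat.lets J3U.ms) (CA.CMat.mone 9) 0,
      CA.CWord.nth (CA.CMat.lets J3U.ms) (CA.CMat.mone 9) 1, c0) = true)
  have r1 : (jG hF hω).R c1 (γ 1) := R_of_link hP (_, _, c1) (h1 2)
    (by decide +kernel : linkOK ar4 9 2 2 5 P.W P.K (CA.CWord.nth (CA.CMat.lets J3U.ms) (CA.CMat.mone 9) 2,
      CA.CWord.nth (CA.CMat.lets J3U.ms) (CA.CMat.mone 9) 3, c1) = true)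
  have h4 : (jG hF hω).In gJ (threeJ3 F ω) := h3 ▸ in_cons r0 (Subgroup.subset_closure ⟨0, rfl⟩)
    (in_cons r1 (Subgroup.subset_closure ⟨1, rfl⟩) fun _ h => nomatch h)
  refine ⟨h4.ok, le_antisymm h4.gen_le ?_, (CA.J3Mat.main _ e9 (sound4 hF hω) Units.val_injective h1 h2 h3).2.1⟩
  rw [h3, Subgroup.closure_le]
  rintro _ ⟨i, rfl⟩
  rcases i with _ | _ | i
  · exact CG.mem_gen (by simp [gJ]) r0
  · exact CG.mem_gen (by simp [gJ]) r1
  · rw [h2 _ (by omega)]; exact one_mem _

theorem inS : (jG hF hω).In (cs :: lV) (threeJ3 F ω) := jwords hF hω (sgJ hF hω).in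
  [[0, 0, 0, 2, 1, 2, 0, 0, 0, 2, 1, 2, 0, 0, 0, 2, 1, 2, 0, 0, 0, 2, 1, 2, 0, 0, 0, 2, 1, 2], [1, 3, 1, 3, 1, 1, 3, 0, 3, 0, 2, 1, 2, 0, 2, 0, 0, 2, 0], [0, 3, 0, 0, 0, 3, 0, 3, 0, 2, 1, 1, 2, 0, 0, 2, 1, 1, 1]] (by decide +kernel)

theorem inH : (jG hF hω).In lH (threeJ3 F ω) := jwords hF hω (in_append (sgJ hF hω).in (inS hF hω))
  [[1, 3, 1, 3, 1, 1, 3, 1, 1, 3, 0, 0, 2, 1, 1, 2, 0, 0, 0, 2], [6, 8, 6]] (by decide +kernel)

/-- the isotropic vector -/
noncomputable def v0 : Vc (ρ9 F) := ∑ i ∈ Finset.range 18, ap 5 cv i • (Fm hF hω).b i
theorem S_v0 : (jV hF hω).S cv (v0 hF hω) := Fr.S_of (by decide +kernel)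
/-- the isotropic point -/
noncomputable def L0 : Ln (ρ9 F) := Submodule.span F {(show F9 → F from v0 hF hω)}

theorem smul_L0 (g : GL F9 F) : g • L0 hF hω = Submodule.span F {(show F9 → F from g • v0 hF hω)} :=
  (Submodule.map_span _ _).trans (by rw [Set.image_singleton]; rfl)

theorem orb_L0 : (orbit (threeJ3 F ω) (L0 hF hω)).ncard = 43605 := by
  obtain ⟨γ, h1, h2, h3⟩ := Cfsg.Agent.S2041.exists_γ hF hω
  have hA := sound4 hF hω
  have h := CA.CLink.link _ e9 ⊤ hA J3Iso.hC (CA.CMat.inS_top hA) h1 (k := 2) rfl h2 J3Iso.hact
  have h4 := CA.CLink4.ncard_lines _ J3Iso.hC h (p := ⟨0, by decide⟩) J3Iso.htr J3Iso.hp h3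
    (CA.CLink3.inj_orb _ e9 hA J3Iso.hC h (p := ⟨0, by decide⟩) J3Iso.hp J3Iso.htr J3Iso.hsep)
  have h5 : CA.CMat.labv e9 (elQ 2 ω) J3Iso.SL 0 = v0 hF hω := by
    rw [← CA.CMat.vval_pv, J3Iso.hpv]; funext i
    have : ∀ i : F9, CA.CWord.nth [0,0,0,1,0,0,1,0,0] 0 (e9 i) = cmp 2 2 5 cv (e9 i) := by decide +kernel
    exact (congrArg _ (this i)).trans (S_apply (S_v0 hF hω) i).symm
  rw [J3Iso.hcnt] at h4
  rw [← h4]
  refine congrArg Set.ncard (Set.ext fun L => mem_orbit_sub.trans (exists_congr fun g => and_congr_right fun _ => ?_))
  rw [smul_L0, ← h5]; exact eq_comm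

theorem fix_L0 {a s : ℕ} {g : GL F9 F} (r : (jG hF hω).R a g) (h : (Nat.ble 1 s && Nat.ble s 3 && allLt 9 fun i =>
    Nat.beq (cmp 2 2 5 (P.mv a cv) i) (ar4.mul s (cmp 2 2 5 cv i))) = true) : g ∈ stabilizer _ (L0 hF hω) := by
  simp only [Bool.and_eq_true, ble_iff, allLt_iff, beq_iff] at h
  have hA := sound4 hF hω
  have h1 : (show F9 → F from g • v0 hF hω) = elQ 2 ω s • (show F9 → F from v0 hF hω) := funext fun i => by
    have := S_apply ((jV hF hω).S_act r (S_v0 hF hω)) i
    rw [jV_act, h.2 _ (e9 i).2, hA.mul, ← S_apply (S_v0 hF hω) i] at this
    exact this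
  rw [mem_stabilizer_iff, smul_L0, h1]
  exact Submodule.span_singleton_smul_eq (IsUnit.mk0 _ fun e => by
    have := hA.inj s 0 (Nat.lt_succ_of_le h.1.2) (by decide) (e.trans hA.zero.symm)
    omega) _

theorem sgS : Sg (jG hF hω) (cs :: lV) (threeJ3 F ω ⊓ stabilizer _ (L0 hF hω)) 3456 := by
  have h1 := card_stab_eq (n := 43605) (N := 3456) (sgJ hF hω).2.2 (orb_L0 hF hω) (by norm_num)
  have h2 : (jG hF hω).In (cs :: lV) (stabilizer _ (L0 hF hω)) := CG.In.of_forall (inS hF hω).ok fun c hc g r => by
    obtain ⟨s, -, h⟩ := (by decide +kernel : ∀ c ∈ cs :: lV, ∃ s ∈ [1, 3], (Nat.ble 1 s && Nat.ble s 3 && allLt 9 fun i =>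
      Nat.beq (cmp 2 2 5 (P.mv c cv) i) (ar4.mul s (cmp 2 2 5 cv i))) = true) c hc
    exact fix_L0 hF hω r h
  refine ⟨h2.ok, gen_eq_of_lowc (A := jV hF hω) (L := [(0x1, [[5, 2, 5, 2, 5, 5, 2, 0], [5, 5, 5, 3, 4, 4, 3]]), (0x400, [[3, 0, 3]]), (0x100000, [])]) (exS hF hω (by decide +kernel)) ((inS hF hω).inf h2) h1.le ?_, h1⟩
  rw [jV_act, jG_mul, jG_inv, jG_one]
  decide +kernel

theorem okz : (jG hF hω).In [cz] (threeJ3 F ω) := jwords hF hω (inS hF hω) [[4, 4, 4, 4, 4, 4]] (by decide +kernel)

/-- the centralizer of the involution -/
theorem cent_le {z : GL F9 F} (hz : (jG hF hω).R cz z) {g : GL F9 F} (hg : g ∈ threeJ3 F ω) (hc : g * z * g⁻¹ = z) :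
    g ∈ (jG hF hω).gen (cs :: lH) := by
  have hC : (jG hF hω).In (cs :: lH) (threeJ3 F ω) := fun c hc => (List.mem_cons.1 hc).elim
    (fun e => inS hF hω c (e ▸ List.mem_cons_self)) (inH hF hω c)
  have s0 : Sg (jG hF hω) lC0 _ 1152 := (sgS hF hω).step (A := jC hF hω) (x := toCj z) (jV hF hω) hz 3 [[5, 3, 4, 3, 0], [5]]
    [(0x1, [[3, 3, 1, 2, 1], [1, 3, 1, 2, 0, 2]]), (0x400, [])] (exS hF hω (by decide +kernel)) rfl
    (by rw [jC_act, jV_act, jG_mul, jG_inv, jG_one]; decide +kernel)
  have s1 : (jG hF hω).In lC0 _ := jwords hF hω hC.ok.in_gen [[4, 4, 4, 2, 2, 4, 3, 1], [2, 5, 3, 3, 1]] (by decide +kernel)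
  exact cent_le_of hr (sgJ hF hω).in hC (sgS hF hω).1 (sgS hF hω).2.1 hz (S_v0 hF hω)
    (fun k hk h => Subgroup.mem_inf.2 ⟨hk, by rw [mem_stabilizer_iff, smul_L0, h]; rfl⟩) (s0.2.1.ge.trans s1.gen_le)
    0x8000 [(0x2000400, [3, 1, 3, 1, 1, 1]), (0x108420004210802108000, [0, 0, 3, 0, 0, 0, 3, 0, 0, 3, 1])] (by decide +kernel) hg hc

theorem inP : (jG hF hω).In lP ((jG hF hω).gen lH) := jwords hF hω (inH hF hω).ok.in_gen
  [[3, 3, 1, 1, 2, 2, 0, 0], [3, 1, 1, 2, 2, 0, 0], [1, 1, 3, 0, 0, 2, 1, 1]] (by decide +kernel)

theorem cs_cent {s : GL F9 F} (hs : (jG hF hω).R cs s) : s ∈ threeJ3 F ω ∧ ∀ x ∈ threeJ3 F ω, s * x = x * s := by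
  obtain ⟨s', h1, h2⟩ := inS hF hω cs List.mem_cons_self
  exact ⟨(jG hF hω).R_fun h2 hs ▸ h1, (sgJ hF hω).2.1 ▸ cent_gen (sgJ hF hω).1 hs (by rw [jG_mul]; decide +kernel)⟩

/-- an element centralizing the involution, up to a scalar -/
theorem cent_eq {z : GL F9 F} (hz : (jG hF hω).R cz z) {g : GL F9 F} (hg : g ∈ threeJ3 F ω) (hc : g * z * g⁻¹ = z) :
    ∃ a ∈ threeJ3 F ω, (∀ x ∈ threeJ3 F ω, a * x = x * a) ∧ ∃ h ∈ (jG hF hω).gen lH, g = a * h := by
  obtain ⟨s, -, hs⟩ := inS hF hω cs List.mem_cons_self
  obtain ⟨h1, h2⟩ := cs_cent hF hω hs
  obtain ⟨_, ⟨n, rfl⟩, h⟩ := mem_mul_of_cent hs (fun x hx => h2 x ((inH hF hω).gen_le hx)) (cent_le hF hω hz hg hc)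
  exact ⟨_, zpow_mem h1 n, fun x hx => (Commute.zpow_left (h2 x hx) n).eq, h⟩

include hω in
theorem card_center : Nat.card (Subgroup.center (threeJ3 F ω)) = 3 := (Cfsg.Agent.S2041.iso hF hω).2.2

end CA.J3CG
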