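import Cfsg.Agent.Lib.Spor.J4M

/-! Derivations of the double coset table of `J₄`. -/

set_option autoImplicit false
set_option maxRecDepth 100000
set_option linter.all false
namespace CA.J4M
open CA.CNet CA.CWord CA.CLevel CA.CSimple CA.CPoint CA.CLow CA.CTodd CA.TCos
noncomputable section

def D0 : List (ℕ × Word × List (ℕ × Word) × Word) := [(100,[],[],[]),
  (1,[],[(2,[])],[]),
  (1,[],[(6,[]),(3,[0]),(2,[0])],[]),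
  (1,[],[(6,[]),(3,[2]),(2,[2])],[]),
  (1,[],[(6,[]),(3,[4]),(2,[4])],[]),
  (1,[],[(6,[]),(3,[6]),(2,[6])],[]),
  (100,[],[],[]),
  (1,[3,1,2],[(26,[])],[]),
  (1,[],[(30,[]),(17,[]),(13,[]),(8,[]),(26,[2,15,8,14,12])],[]),
  (1,[],[(30,[]),(12,[]),(16,[]),(8,[]),(26,[0,2,4,3,3])],[]),
  (1,[],[(30,[]),(20,[]),(16,[]),(12,[]),(26,[5,13,2,4,12])],[]),
  (1,[],[(30,[]),(16,[]),(20,[]),(17,[]),(26,[2,14,6,6,2])],[]),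
  (1,[],[(30,[]),(20,[]),(8,[]),(12,[]),(8,[]),(26,[0,5,12,7])],[]),
  (101,[],[(2,[]),(26,[12,6,12,3])],[2,11,5,11,9]),
  (1,[3,12,12,2],[(54,[]),(2,[0,7,0,15,5])],[]),
  (2,[0,4,8,0],[(6,[0,2,6,0]),(3,[]),(2,[]),(16,[]),(21,[])],[2,12,8,0,8]),
  (100,[],[],[]),
  (1,[3],[(66,[])],[]),
  (1,[],[(70,[]),(13,[]),(8,[]),(12,[]),(66,[3,15,8,15,8])],[]),
  (1,[],[(70,[]),(17,[]),(12,[]),(17,[]),(8,[]),(66,[6,4,8,8,15])],[]),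
  (1,[],[(70,[]),(8,[]),(13,[]),(8,[]),(12,[]),(8,[]),(66,[2,7,13,8,6])],[]),
  (1,[],[(70,[]),(17,[]),(8,[]),(17,[]),(17,[]),(8,[]),(66,[2,6,3,10,5])],[]),
  (4,[5,14,12,6,0],[(6,[3,12,10,4,0]),(3,[]),(2,[]),(16,[]),(13,[]),(16,[]),(20,[]),(66,[0,4,14,5,3])],[14,14,12,3]),
  (1,[2],[(90,[]),(21,[]),(12,[]),(8,[]),(17,[]),(66,[10,5,13,5])],[]),
  (2,[6,10,10,4,3,1,2],[(26,[4,8,8,2]),(57,[]),(13,[]),(20,[]),(12,[]),(21,[]),(8,[]),(66,[3,4,14,14,5])],[3,0,3,11,6]),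
  (1,[3,9,9,2],[(98,[]),(8,[]),(16,[]),(13,[]),(21,[]),(8,[]),(66,[15,15,2,2])],[]),
  (2,[4,0,10,0,10],[(70,[2,0,8,0,8]),(17,[]),(17,[]),(17,[]),(12,[]),(12,[]),(66,[2,15,4,6,8]),(84,[])],[6,2,2,5,3]),
  (2,[4,11,5,5,11],[(70,[2,9,3,3,9]),(16,[]),(12,[]),(8,[]),(16,[]),(12,[]),(66,[2,9,13,10,5]),(92,[]),(92,[]),(76,[])],[0,2,13,8,3]),
  (2,[0,6,13,6,8],[(70,[0,4,11,4,6]),(20,[]),(16,[]),(16,[]),(20,[]),(16,[]),(66,[0,5,2,2])],[0,6,9,7,10]),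
  (3,[14,14,14,5],[(70,[12,12,12,3]),(20,[]),(20,[]),(66,[4,9,15,7]),(92,[]),(76,[])],[6,0,2,9]),
  (4,[8,12,15],[(70,[6,10,13]),(13,[]),(13,[]),(16,[]),(8,[]),(66,[0,4,6,15,13]),(100,[]),(84,[]),(110,[4,13,8,14]),(101,[]),(101,[])],[5,5,8]),
  (100,[],[],[]),
  (1,[3,13,7,14],[(126,[])],[]),
  (1,[],[(130,[]),(92,[]),(126,[2,0,2,11,5])],[]),
  (1,[],[(130,[]),(100,[]),(76,[]),(72,[]),(126,[7,5,11])],[]),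
  (4,[5,9,14,5,7],[(70,[3,7,12,3,5]),(16,[]),(12,[]),(12,[]),(8,[]),(66,[7,5,6,3,11]),(92,[]),(72,[]),(126,[2,0,10,8,4]),(132,[])],[4,3,11,7,5]),
  (1,[2],[(142,[]),(101,[]),(101,[]),(72,[])],[4,7,10,15]),
  (5,[14,10,0,6],[(70,[12,8,0,4]),(13,[]),(17,[]),(17,[]),(12,[]),(66,[0,4,3,5,10]),(84,[]),(84,[]),(146,[15,0,9,10]),(136,[])],[0,7,10,8,10]),
  (1,[3,13,2],[(150,[]),(85,[]),(72,[])],[2,8,12,6,0]),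
  (6,[5,9,17,17,7],[(70,[3,7,15,15,5]),(12,[]),(8,[]),(16,[]),(66,[9,5,13,5]),(72,[]),(76,[]),(72,[]),(146,[5,11,13,4])],[2,4,11,4,0]),
  (1,[3,1,2,5,10],[(158,[]),(85,[]),(126,[0,12,6,15,11])],[]),
  (2,[0,12,8,5,10],[(130,[0,10,6,3,8]),(80,[]),(154,[0,3,7,4,15]),(136,[]),(160,[])],[2,8,5,13,7]),
  (7,[6,14,5,6,17],[(130,[4,12,3,4,15]),(85,[]),(106,[12,9,11,9]),(80,[]),(154,[0,8,2,10]),(160,[]),(132,[])],[3,8,14,13]),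
  (3,[4,13,14,13,2],[(142,[2,11,12,11]),(100,[]),(100,[]),(146,[14,14,2,8,0])],[11,5,0,2]),
  (100,[],[],[]),
  (1,[3,1,3],[(178,[])],[]),
  (1,[],[(182,[]),(21,[]),(13,[]),(16,[]),(12,[]),(12,[]),(178,[2,15,4,3])],[]),
  (1,[],[(182,[]),(16,[]),(21,[]),(12,[]),(21,[]),(12,[]),(178,[3,4,9,9])],[]),
  (2,[5,13,11,5,6],[(70,[3,11,9,3,4]),(13,[]),(16,[]),(20,[]),(8,[]),(178,[6,6,12,6,3]),(189,[]),(184,[])],[4,10,7,2]),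
  (1,[3,4,10,17,3],[(194,[]),(85,[]),(72,[])],[4,9,14,3]),
  (2,[5,9,14,10],[(70,[3,7,12,8]),(20,[]),(12,[]),(12,[]),(178,[2,7,9,10,8]),(184,[])],[4,11,6,4,3]),
  (1,[3,13,2,13],[(202,[]),(101,[]),(93,[]),(100,[]),(80,[])],[2,11,6,11,14]),
  (2,[0,6,6,12,8,2,1],[(122,[0,4,4,10,6]),(72,[]),(100,[]),(206,[0,12,10,15,5])],[14,0,8,2]),
  (1,[3,1,2,13],[(210,[]),(101,[]),(92,[]),(76,[]),(206,[0,2,13,6,13])],[]),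
  (2,[15,10,12,5],[(182,[13,8,10,3]),(17,[]),(21,[]),(8,[]),(21,[]),(8,[]),(178,[4,4,3,9,12]),(185,[])],[5,7,4,11]),
  (2,[7,10,10,0],[(182,[5,8,8,0]),(16,[]),(16,[]),(13,[]),(21,[]),(8,[]),(178,[2,13,11,2,10]),(184,[])],[5,6,9]),
  (2,[0,6,15,12,6],[(182,[0,4,13,10,4]),(16,[]),(16,[]),(20,[]),(8,[]),(178,[0,3,14,10,12]),(212,[]),(212,[])],[4,15,13,4,6]),
  (4,[5,5,16,14],[(182,[3,3,14,12]),(8,[]),(20,[]),(12,[]),(62,[4,15,6,0]),(12,[]),(20,[]),(17,[]),(20,[]),(13,[]),(178,[0,8,4,7,10])],[14,12,5,8]),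
  (4,[6,12,17,5],[(182,[4,10,15,3]),(12,[]),(8,[]),(16,[]),(66,[3,13,2,2]),(92,[]),(72,[]),(100,[]),(206,[5,7,5,7,9]),(185,[])],[3,13,9,10]),
  (5,[4,10],[(182,[2,8]),(21,[]),(8,[]),(178,[2,0,5,9,10]),(212,[]),(185,[]),(226,[4,11,5,7,2]),(212,[]),(212,[]),(185,[])],[2,11,6,10,3]),
  (5,[0,12,17,6,14],[(182,[0,10,15,4,12]),(8,[]),(13,[]),(26,[2,4,13,7,13]),(57,[]),(13,[]),(16,[]),(178,[2,0,9,3,10])],[2,11,7,0]),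
  (6,[4,15,15,8,11],[(182,[2,13,13,6,9]),(13,[]),(20,[]),(8,[]),(26,[8,12,15,6]),(57,[]),(13,[]),(13,[]),(21,[]),(13,[]),(178,[2,5,13,11,15]),(185,[])],[3,10,4,6]),
  (6,[0,6,4,6,0],[(182,[0,4,2,4,0]),(17,[]),(21,[]),(62,[0,12,11,13,5]),(20,[]),(13,[]),(16,[]),(21,[]),(178,[0,5,6,2,7]),(185,[])],[14,12,12,8]),
  (7,[5,6,6,15,3,1,2,1,3],[(226,[3,4,4,13]),(185,[]),(250,[0,5,7,3,8]),(212,[]),(212,[]),(185,[]),(226,[15,13,4,8,11]),(185,[])],[3,14,7,5]),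
  (2,[8,5,17,8,2,7,1],[(250,[6,3,15,6]),(212,[]),(185,[]),(218,[10,2,5]),(188,[])],[4,14,14,14,13]),
  (3,[0,8,0,5,0,2,7,1],[(250,[0,6,0,3,0]),(184,[]),(218,[10,6,11,7]),(184,[])],[14,14,12,0]),
  (4,[5,16,10,16,2,7,1],[(250,[3,14,8,14]),(246,[0,4,2,10,15]),(213,[]),(185,[]),(250,[3,8,6,4]),(185,[])],[0,9,15,3,11]),
  (5,[4,7,11,0,17,2,7,1],[(250,[2,5,9,0,15]),(189,[]),(184,[]),(242,[15,3,3,13]),(212,[]),(184,[]),(250,[0,6,11,8,5]),(189,[]),(213,[])],[4,14,12,12]),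
  (2,[4,4,13,4,0,3,5,1,7,3],[(266,[2,2,11,2,0]),(185,[]),(230,[0,7,14,11,2])],[2,14,3,15]),
  (2,[0,10,7,5,10,3,5,1,7,3],[(266,[0,8,5,3,8]),(184,[]),(250,[10,13,5]),(189,[]),(184,[])],[3,8,11,15,7]),
  (2,[15,6,17,9,3,13,2,13],[(202,[13,4,15,7]),(92,[]),(101,[]),(206,[11,15,3,9])],[14,10,10,10]),
  (2,[8,10,10,17,9,3,13,2,9],[(222,[6,8,8,15,7]),(184,[]),(282,[2,15,5,14])],[9,15,5,9]),
  (5,[0,5,0,14,12,3,4,10,17,3],[(194,[0,3,0,12,10]),(101,[]),(84,[]),(206,[8,10,2,5]),(212,[]),(278,[0,3,7,0,6]),(188,[])],[8,10,13,6]),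
  (2,[11,7,9,7,0,2,1,4,6],[(234,[9,5,7,5,0]),(188,[]),(290,[13,0,15,5]),(184,[])],[3,9,10,10,7]),
  (7,[6,0,9,6,6,3,1,16,2],[(290,[4,0,7,4,4]),(262,[7,3,7,10,14]),(185,[]),(294,[5,8,4,4,15]),(185,[])],[0,13,6,11,9]),
  (1,[2,4,11,2],[(298,[]),(185,[])],[2,0,13,0,8]),
  (6,[0,10,14,17,9,3,4,10,17,3],[(194,[0,8,12,15,7]),(92,[]),(100,[]),(72,[]),(198,[2,5,10,2,7]),(212,[]),(185,[]),(270,[5,14,13,8]),(185,[])],[4,15,2,4]),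
  (5,[0,15,9,12,8,2,4,9,2],[(306,[0,13,7,10,6]),(184,[]),(234,[2,9,2,12,4]),(306,[5,6,4,0,3]),(184,[])],[2,11,12,12,5]),
  (2,[4,12,9,17,17,2,9,10],[(246,[2,10,7,15,15]),(185,[]),(310,[4,4,8,5]),(185,[]),(188,[])],[0,6,15,15,8]),
  (4,[4,6,10,9,3,11,13,9],[(314,[2,4,8,7]),(184,[]),(202,[0,12,6,3,8]),(92,[]),(72,[]),(146,[2,2,11,8,3]),(136,[]),(133,[])],[3,3,6]),
  (1,[2,6,3,7],[(318,[]),(189,[])],[15,13,14,3]),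
  (6,[7,14,14,12,8,3,11,13,9],[(314,[5,12,12,10,6]),(212,[]),(202,[3,0,2,12,3]),(76,[]),(106,[4,14,13,6,4]),(84,[]),(76,[]),(72,[])],[0,6,2,11,13]),
  (1,[3,5,8,11],[(326,[]),(189,[]),(184,[])],[15,3,10,14]),
  (6,[8,6,16,6,3,1,16,2],[(290,[6,4,14,4]),(185,[]),(330,[4,12,12,5,11]),(80,[]),(154,[15,9,2,6]),(161,[]),(132,[])],[0,3,15,6,14]),
  (1,[3,7,14,3,8],[(334,[]),(188,[]),(185,[])],[3,7,11,6,11]),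
  (4,[4,7,11,4],[(70,[2,5,9,2]),(12,[]),(8,[]),(17,[]),(12,[]),(178,[0,6,14,9]),(185,[]),(338,[0,4,9,13,7]),(137,[]),(160,[]),(136,[])],[4,13,3,9]),
  (1,[2,7,1,3],[(342,[]),(72,[]),(92,[]),(85,[])],[11,6,15,2]),
  (7,[5,0,17,4,14,3,1,15,8],[(238,[3,0,15,2,12]),(189,[]),(185,[]),(238,[0,9,0,6,5]),(212,[]),(212,[]),(188,[]),(238,[13,4,14,8,10]),(184,[])],[6,14,14,4,11]),
  (2,[16,5,0,15,3,6,2,7],[(350,[14,3,0,13]),(184,[]),(213,[]),(238,[9,6,0,13]),(189,[])],[3,9,15,3,8]),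
  (3,[5,6,11,7,3,6,2,7],[(350,[3,4,9,5]),(189,[]),(270,[10,8,13,14]),(213,[]),(213,[]),(184,[])],[0,4,6,10,12]),
  (2,[4,9,16,5,14,2,4,11,2],[(298,[2,7,14,3,12]),(185,[]),(354,[11,13,7,15]),(188,[])],[6,0,5,8,4]),
  (1,[3,4,3,9],[(362,[]),(188,[])],[2,7,11,5]),
  (3,[6,10,9,14,17,2,4,11,2],[(298,[4,8,7,12,15]),(188,[]),(188,[]),(362,[0,9,3,7,15]),(188,[]),(184,[])],[13,10,6,15]),
  (100,[],[],[]),
  (1,[3],[(374,[])],[]),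
  (1,[],[(378,[]),(84,[]),(76,[]),(374,[3,8,13,9,12])],[]),
  (1,[],[(378,[]),(100,[]),(72,[]),(76,[]),(72,[]),(374,[14,4,6,12])],[]),
  (5,[17,10,5,14],[(70,[15,8,3,12]),(16,[]),(8,[]),(20,[]),(13,[]),(13,[]),(66,[10,2,11,14]),(85,[]),(80,[]),(72,[]),(374,[15,12,3,6])],[4,13,7,3,8]),
  (1,[3,4,10,17],[(390,[]),(92,[]),(76,[]),(374,[3,12,11,4,8])],[]),
  (2,[8,12,17,8,2,7,1,3],[(342,[6,10,15,6]),(84,[]),(72,[]),(374,[0,7,0,13,11]),(392,[]),(392,[])],[3,13,8,3,5]),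
  (1,[3,4,2,15,6],[(398,[]),(132,[]),(132,[])],[2,15,7,9,6]),
  (4,[4,13,9,6,11],[(182,[2,11,7,4,9]),(16,[]),(8,[]),(20,[]),(66,[5,7,8,12]),(101,[]),(84,[]),(76,[]),(72,[]),(374,[3,8,13,8]),(384,[])],[2,11,12,15,10]),
  (1,[2],[(406,[]),(213,[])],[2,6,3,10,12]),
  (7,[0,10,13,14,17,3,5,1,7,3],[(266,[0,8,11,12,15]),(338,[5,2,2,7]),(160,[]),(133,[]),(136,[]),(132,[]),(402,[3,15,13,9,15]),(393,[]),(384,[])],[2,2,14,11,14]),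
  (1,[2,7],[(414,[]),(189,[]),(184,[])],[3,3,7,13,13]),
  (3,[15,13,15,6,2,4,9,2],[(306,[13,11,13,4]),(212,[]),(184,[]),(410,[0,5,8,14,2]),(380,[])],[0,7,0,8,3]),
  (1,[3,1,16,2,11],[(422,[]),(410,[3,7,9,10])],[]),
  (2,[4,4,13,4,0],[(378,[2,2,11,2,0]),(100,[]),(76,[]),(374,[0,9,6,0,11]),(393,[])],[8,15,11,4])]
theorem hD0 : allD2 lk B KW KW F A RL R0 D0 0 = true := by decide +kernel
def D1 : List (ℕ × Word × List (ℕ × Word) × Word) := [(5,[12,9,12,15],[(378,[10,7,10,13]),(92,[]),(84,[]),(72,[]),(146,[8,12,2,4,15]),(160,[]),(160,[]),(132,[]),(402,[3,6,4,12])],[3,13,7,0,11]),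
  (2,[10,14,6,10,2],[(406,[8,12,4,8]),(189,[]),(185,[]),(410,[8,7])],[3,11,8,10,4]),
  (5,[16,9,4,13,2],[(406,[14,7,2,11]),(213,[]),(188,[]),(278,[4,4,15,9]),(188,[]),(188,[]),(185,[]),(358,[3,10,8,4,6]),(188,[]),(184,[])],[0,8,11,6,0]),
  (1,[3,5,12,5,3],[(442,[]),(424,[]),(380,[])],[11,15,10,8]),
  (3,[0,4,6,5,0,3,1,3],[(446,[0,2,4,3,0]),(188,[]),(188,[]),(442,[3,14,2,12,15]),(424,[])],[13,13,9,3]),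
  (3,[0,13,11,17,9,3,1,3],[(446,[0,11,9,15,7]),(213,[]),(188,[]),(442,[0,13,8,13,4]),(385,[]),(393,[])],[2,9,12,12,10]),
  (5,[8,15,12,6,3,1,3],[(446,[6,13,10,4]),(212,[]),(242,[0,11,14,9,7]),(212,[]),(442,[0,15,5,15,0]),(385,[])],[12,12,9,7]),
  (2,[0,10,14,17,8,3,15,11,2],[(430,[0,8,12,15,6]),(424,[]),(392,[]),(430,[2,10,14,6,13])],[0,3,8,14,8]),
  (3,[0,9,17,7,16,3,15,11,2],[(430,[0,7,15,5,14]),(392,[]),(430,[7,4,12,8,6])],[0,8,12,7]),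
  (2,[4,7,4,16,0,2,7,1],[(454,[2,5,2,14,0]),(392,[]),(385,[]),(393,[]),(384,[]),(454,[0,8,4,4]),(425,[]),(393,[]),(384,[])],[0,10,3,9]),
  (3,[6,11,5,13,16,3,5,8,1,2],[(450,[4,9,3,11,14]),(458,[0,2,5,7,15]),(380,[])],[4,3,0,15,2]),
  (2,[4,13,9,12,17,3,1,14,17],[(470,[2,11,7,10,15]),(424,[]),(424,[]),(380,[]),(470,[4,13,3,15,0]),(385,[])],[3,6,12,2]),
  (6,[7,17,17,17,3,1,14,17],[(470,[5,15,15,15]),(384,[]),(434,[5,7,5,7]),(425,[]),(393,[]),(470,[0,14,14,5,9]),(392,[]),(380,[])],[7,3,15]),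
  (7,[7,8,4,4,3,1,14,17],[(470,[5,6,2,2]),(424,[]),(384,[]),(424,[]),(454,[0,6,12,5,6]),(424,[]),(392,[]),(470,[6,5,5,12]),(425,[]),(384,[])],[13,8,8,8]),
  (2,[4,11,13,17,17,3,5,8,16,3],[(486,[2,9,11,15,15]),(424,[]),(384,[]),(486,[12,9,9]),(380,[])],[3,0,14,6]),
  (2,[12,5,0,4,2,13,15],[(434,[10,3,0,2]),(385,[]),(490,[15,7,0,10]),(380,[])],[4,8,2,14,2]),
  (100,[],[],[]),
  (1,[2,7,3],[(498,[])],[]),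
  (1,[],[(502,[]),(380,[]),(498,[6,10,12,8])],[]),
  (1,[],[(502,[]),(424,[]),(498,[5,8,14,13,10])],[]),
  (5,[5,7,14,10,8,2,1,2],[(274,[3,5,12,8,6]),(410,[11,15,2,7,4]),(392,[]),(498,[0,12,15,9,5]),(508,[])],[5,0,8,2]),
  (1,[3,17,10,9],[(514,[]),(188,[]),(212,[])],[2,5,9,5]),
  (4,[0,9,11,6,3,6,2,7],[(350,[0,7,9,4]),(212,[]),(212,[]),(212,[]),(226,[2,15,3,15]),(189,[]),(213,[]),(518,[5,5,13,9]),(508,[])],[2,12,9,14,12]),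
  (1,[3,1,8,15,3],[(522,[]),(213,[]),(188,[]),(184,[])],[9,3,11,13]),
  (3,[12,14,9,0,4,3,12,2,5],[(218,[10,12,7,0,2]),(185,[]),(526,[7,4,8,0]),(504,[]),(508,[]),(504,[])],[0,10,13,11,3]),
  (1,[3,11,7,2],[(530,[]),(188,[]),(185,[]),(526,[2,4,7,14,4])],[]),
  (4,[9,12,6,8,3,12,2,5],[(218,[7,10,4,6]),(213,[]),(185,[]),(442,[3,8,6,8,11]),(498,[2,15,0,15]),(532,[]),(508,[])],[0,3,0,13,14]),
  (1,[3,4,12,9],[(538,[]),(185,[]),(526,[8,12,5,2])],[]),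
  (4,[4,4,15,9,4,3,13,3,6],[(258,[2,2,13,7,2]),(212,[]),(442,[3,14,12,10,6]),(384,[]),(498,[2,2,7,10]),(532,[]),(532,[]),(508,[])],[2,6,9,6,4]),
  (1,[3,15,11,3],[(546,[]),(212,[]),(526,[9,3,15])],[]),
  (2,[0,5,16,9,15,2,7],[(414,[0,3,14,7,13]),(185,[]),(518,[6,14,12,7]),(549,[]),(540,[])],[3,3,3,0,5]),
  (1,[3],[(554,[]),(384,[])],[3,13,13,5]),
  (2,[0,11,14,17,7],[(502,[0,9,12,15,5]),(384,[]),(498,[0,11,7,11,6])],[0,15,7,2,13]),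
  (3,[11,11,6,9],[(502,[9,9,4,7]),(384,[]),(392,[]),(498,[2,11,7,11,9]),(540,[])],[0,14,3,15,7]),
  (2,[0,5,9,4,8,3],[(554,[0,3,7,2,6]),(380,[]),(424,[]),(558,[4,10,8,15,2]),(508,[]),(504,[])],[0,5,15,9,13]),
  (2,[12,4,13,10,3],[(554,[10,2,11,8]),(392,[]),(384,[]),(558,[2,9,0,6,12])],[13,3,7]),
  (2,[7,0,8,0,3],[(554,[5,0,6,0]),(424,[]),(424,[]),(384,[]),(558,[2,13,0,11,3]),(508,[])],[8,7,8,5]),
  (2,[16,0,13,13,3],[(554,[14,0,11,11]),(424,[]),(393,[]),(558,[0,11,11,14,5]),(504,[])],[0,6,2,2,2]),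
  (3,[6,11,16,12,3,1,2,1,3],[(562,[4,9,14,10]),(540,[]),(540,[]),(562,[10,6,12,5])],[4,12,10,12]),
  (3,[7,5,8,17,13,3,5,2,14,4],[(582,[5,3,6,15,11]),(504,[]),(570,[0,4,14,6,6]),(548,[]),(532,[])],[0,2,14,4,15]),
  (2,[11,5,10,14,7,3,5,9,6],[(566,[9,3,8,12,5]),(540,[]),(508,[]),(566,[5,14,2,12]),(504,[])],[10,12,10,3]),
  (2,[10,16,8,15,5,3,5,9,6],[(566,[8,14,6,13,3]),(549,[]),(508,[]),(566,[3,7,10,3,13])],[7,3,5]),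
  (100,[],[],[]),
  (1,[2,15,2,7],[(602,[])],[]),
  (1,[],[(606,[]),(548,[]),(602,[10,12,7,5])],[]),
  (1,[],[(606,[]),(533,[]),(508,[]),(602,[7,15,4,11])],[]),
  (1,[],[(606,[]),(532,[]),(509,[]),(602,[0,4,3,14,14])],[]),
  (1,[],[(606,[]),(540,[]),(540,[]),(504,[]),(602,[0,10])],[]),
  (2,[6,8,17,8,14,2,16,9],[(594,[4,6,15,6,12]),(541,[]),(508,[]),(602,[0,9,5,2])],[0,6,8,5,5]),
  (1,[3,7,14,3,8],[(626,[]),(508,[]),(602,[3,5,7,14,7])],[]),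
  (2,[11,13,7,5,3,5,2,17,12],[(590,[9,11,5,3]),(508,[]),(602,[3,7,10,10]),(616,[])],[8,13,9,11]),
  (1,[3,15,11,3],[(634,[]),(541,[]),(602,[3,7,0,12,10])],[]),
  (2,[14,9,4,10],[(606,[12,7,2,8]),(540,[]),(508,[]),(602,[2,2,15,5,10])],[15,2,5,6]),
  (2,[17,4,15,6],[(606,[15,2,13,4]),(509,[]),(602,[2,15,6,6,5]),(637,[])],[2,6,4,11,6]),
  (4,[0,13,5,9,13],[(606,[0,11,3,7,11]),(541,[]),(562,[12,3,10,14]),(504,[]),(602,[11,9,9,3,6])],[0,14,3,14,7]),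
  (2,[10,4,10,5,3,1,14,17],[(646,[8,2,8,3]),(608,[]),(636,[]),(646,[0,7,5,13,8]),(636,[])],[0,12,3,3,9]),
  (4,[0,9,6,10,17],[(606,[0,7,4,8,15]),(549,[]),(540,[]),(508,[]),(566,[6,12,0,5]),(504,[]),(602,[0,13,0,4]),(636,[]),(612,[])],[9,6,14,4]),
  (3,[17,5,7,3,8,3],[(658,[15,3,5]),(637,[]),(628,[]),(658,[12,14,4,14]),(608,[]),(636,[]),(646,[0,6,4,3,3])],[]),
  (100,[],[],[]),
  (1,[3,14,1,3],[(666,[])],[]),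
  (1,[],[(670,[]),(612,[]),(608,[]),(666,[0,7,15,4,10])],[]),
  (1,[],[(670,[]),(629,[]),(608,[]),(666,[0,6,6,10])],[]),
  (1,[],[(670,[]),(616,[]),(609,[]),(666,[0,7,5,11,6])],[]),
  (1,[],[(670,[]),(661,[]),(609,[]),(666,[0,4,7,15])],[]),
  (2,[4,7,11,6,17,3,1,14,17],[(646,[2,5,9,4,15]),(660,[]),(608,[]),(666,[10,8,8,13]),(681,[]),(684,[]),(676,[])],[8,6,10,12]),
  (1,[3,1,2,1,3],[(690,[]),(620,[]),(609,[]),(666,[3,8,10,15,13])],[]),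
  (2,[9,5,8,8],[(670,[7,3,6,6]),(660,[]),(620,[]),(666,[2,5,6,6,5]),(692,[]),(692,[]),(684,[])],[10,2,12,10]),
  (3,[0,8,4,4,7],[(670,[0,6,2,2,5]),(620,[]),(609,[]),(666,[2,5,13,9,4])],[15,15,11,11]),
  (4,[4,7,5,0,16],[(670,[2,5,3,0,14]),(661,[]),(637,[]),(646,[0,6,15,11,8]),(661,[]),(608,[]),(661,[]),(628,[]),(606,[5,8,10,8,13]),(549,[]),(508,[])],[3,12,11,5]),
  (1,[2,12,8,14],[(706,[]),(676,[]),(693,[]),(684,[]),(672,[])],[2,0,2,4,7]),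
  (4,[10,8,15,12],[(670,[8,6,13,10]),(612,[]),(660,[]),(642,[4,3,14,14,10]),(620,[]),(666,[7,11,11,15]),(684,[]),(672,[])],[5,10,13,3]),
  (5,[4,14,6,14,16],[(670,[2,12,4,12,14]),(628,[]),(660,[]),(608,[]),(646,[4,11,4,14,8]),(661,[]),(608,[]),(661,[]),(606,[11,11,8,4,4]),(548,[]),(706,[4,9,14,11,3])],[]),
  (100,[],[],[]),
  (1,[2,12,3],[(722,[])],[]),
  (1,[],[(726,[]),(616,[]),(661,[]),(612,[]),(722,[3,0,13,15,0])],[]),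
  (1,[],[(726,[]),(661,[]),(661,[]),(620,[]),(722,[3,8,11,12])],[]),
  (2,[5,17,7,14,10],[(670,[3,15,5,12,8]),(629,[]),(620,[]),(608,[]),(722,[15,10,7]),(728,[])],[4,6,2,15,5]),
  (1,[3,7,14,3,4],[(738,[]),(680,[]),(684,[]),(693,[]),(676,[])],[6,6,8,4]),
  (2,[0,6,11,9,16],[(726,[0,4,9,7,14]),(661,[]),(629,[]),(722,[6,6,5,12]),(732,[]),(729,[]),(732,[])],[0,5,0,11,15]),
  (2,[5,11,12,16,9],[(726,[3,9,10,14,7]),(629,[]),(608,[]),(722,[0,6,2]),(728,[])],[4,6,8,13,14]),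
  (5,[10,9,17,12],[(726,[8,7,15,10]),(608,[]),(608,[]),(666,[4,4,12,5,2]),(693,[]),(676,[]),(717,[]),(742,[0,8,7,9,0]),(732,[]),(728,[])],[3,15,11,4,9]),
  (2,[4,4,6,17,15,3,1,13,6],[(754,[2,2,4,15,13]),(728,[]),(754,[0,8,2,13]),(728,[])],[6,5,0,13,6]),
  (3,[5,9,11,12,7,3,1,13,6],[(754,[3,7,9,10,5]),(754,[3,14,13,10]),(728,[])],[2,4,3,14,8]),
  (2,[11,0,11,17,3,7,14,3,4],[(738,[9,0,9,15]),(680,[]),(684,[]),(693,[]),(681,[]),(742,[11,5,10,8]),(732,[]),(729,[])],[2,4,7,5,5]),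
  (100,[],[],[]),
  (1,[3,1,2,1,2],[(770,[])],[]),
  (1,[],[(774,[]),(660,[]),(608,[]),(770,[2,8,11,15])],[]),
  (1,[],[(774,[]),(616,[]),(612,[]),(770,[0,8,14,4,7])],[]),
  (1,[],[(774,[]),(636,[]),(629,[]),(636,[]),(608,[]),(770,[3,5,15,15,5])],[]),
  (1,[],[(774,[]),(661,[]),(637,[]),(661,[]),(629,[]),(770,[2,7,15,4])],[]),
  (2,[0,10,15,12,2,15,2,7],[(602,[0,8,13,10]),(661,[]),(608,[]),(770,[4,11,15,11,8]),(784,[]),(776,[])],[0,7,13,5,11]),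
  (1,[3,13,2,12],[(794,[]),(548,[]),(508,[])],[6,2,2,0,8]),
  (3,[7,11,7,12],[(606,[5,9,5,10]),(541,[]),(798,[0,14,11,7,10])],[11,14,4,12]),
  (1,[3,7,14,3,4],[(802,[]),(661,[]),(616,[]),(609,[]),(770,[3,3,13,0])],[]),
  (2,[15,0,10,10],[(774,[13,0,8,8]),(660,[]),(637,[]),(660,[]),(770,[2,14,2,6,15]),(804,[]),(788,[]),(776,[])],[0,8,13,15,11]),
  (2,[0,9,4,9,16],[(774,[0,7,2,7,14]),(608,[]),(616,[]),(608,[]),(770,[2,6,14,7,13])],[4,6,11,13,4]),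
  (2,[8,14,8,4],[(774,[6,12,6,2]),(629,[]),(620,[]),(637,[]),(770,[0,5,3,13,2]),(776,[])],[2,9,11,7,13]),
  (4,[15,10,4,6],[(774,[13,8,2,4]),(609,[]),(660,[]),(629,[]),(606,[0,3,9,12,9]),(549,[]),(504,[]),(798,[10,7,2,10]),(784,[])],[5,14,13,15,11]),
  (4,[4,10,15,4,13],[(774,[2,8,13,2,11]),(637,[]),(661,[]),(606,[15,6,3,8]),(508,[]),(504,[]),(508,[]),(798,[3,9,3,9]),(784,[])],[3,7,12,7,9]),
  (5,[6,6,8,7,12],[(774,[4,4,6,5,10]),(620,[]),(660,[]),(642,[6,0,13,7]),(661,[]),(629,[]),(612,[]),(770,[7,14,14,0,11]),(785,[])],[6,14,0,15,11]),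
  (5,[0,5,0,14,12],[(774,[0,3,0,12,10]),(612,[]),(660,[]),(642,[14,7,2,14]),(628,[]),(628,[]),(770,[15,6,6,2]),(785,[])],[3,6,6,13,5]),
  (7,[0,6,15,7,14],[(774,[0,4,13,5,12]),(661,[]),(637,[]),(629,[]),(606,[0,9,12,8,6]),(504,[]),(508,[]),(798,[0,4,7,14,11]),(784,[]),(780,[])],[0,15,15,12]),
  (2,[4,14,12,10,6,2,1,3],[(810,[2,12,10,8,4]),(788,[]),(810,[0,6,4,15,13])],[12,15,9]),
  (4,[6,14,16,2,1,3],[(810,[4,12,14]),(784,[]),(834,[3,8,12,6]),(810,[5,13,3,10])],[2,13,2,7]),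
  (2,[7,17,4,13,3,1,2,1,3],[(818,[5,15,2,11]),(788,[]),(822,[2,6,0,3,13]),(780,[])],[15,13,4,4]),
  (2,[0,12,17,8,0,3,1,2,1,3],[(818,[0,10,15,6,0]),(788,[]),(826,[7,0,14,4]),(780,[])],[3,10,2,13,3]),
  (5,[0,10,0,6,16,3,13,2,12],[(794,[0,8,0,4,14]),(548,[]),(541,[]),(532,[]),(522,[4,0,8,4,9]),(212,[]),(184,[]),(278,[2,15,2,2,5]),(213,[]),(213,[]),(185,[])],[7,5,15,13]),
  (1,[3,4],[(858,[]),(785,[]),(780,[]),(784,[])],[0,14,13,6,0])]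
theorem hD1 : allD2 lk B KW KW F A RL R0 D1 108 = true := by decide +kernel
def D2 : List (ℕ × Word × List (ℕ × Word) × Word) := [(4,[4,14,14,16],[(378,[2,12,12,14]),(101,[]),(93,[]),(100,[]),(76,[]),(198,[15,7,15,11]),(213,[]),(189,[]),(858,[14,0,9,15]),(780,[]),(776,[])],[5]),
  (1,[3,12,5,3],[(866,[]),(424,[])],[4,0,15,8]),
  (4,[4,15,5,13,3,1,3],[(446,[2,13,3,11]),(212,[]),(358,[7,0,10,2]),(189,[]),(858,[8,12,4,10]),(785,[]),(776,[])],[14,5,0,13]),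
  (1,[3,1,8,17],[(874,[]),(393,[]),(385,[])],[4,0,10,7,11]),
  (2,[8,14,7,12,3,5,8,3],[(482,[6,12,5,10]),(384,[]),(392,[]),(384,[]),(870,[7,10,4,9]),(784,[]),(776,[])],[12,15,0,10,3]),
  (1,[3,4,2,16],[(882,[]),(384,[])],[8,2,0,10]),
  (5,[7,4,11,16,15],[(502,[5,2,9,14,13]),(392,[]),(380,[]),(425,[]),(454,[2,0,2,15,5]),(384,[]),(424,[]),(878,[7,12,10]),(804,[])],[0,6,0,15,6]),
  (1,[3,4,15,2,17],[(890,[]),(540,[]),(549,[]),(509,[])],[0,12,15,4,4]),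
  (4,[7,11,12,10,3],[(554,[5,9,10,8]),(393,[]),(425,[]),(482,[8,2,7,2]),(384,[]),(424,[]),(380,[]),(886,[0,13,0,6]),(804,[]),(788,[])],[0,4,3,13,15]),
  (1,[3,4,8,2,9],[(898,[]),(509,[]),(541,[]),(509,[])],[3,12,15,2,15]),
  (7,[8,12,7,11,3,7,14,3,4],[(738,[6,10,5,9]),(684,[]),(716,[]),(672,[]),(692,[]),(710,[11,6,2,10]),(533,[]),(540,[]),(504,[]),(894,[6,14,11,6]),(780,[]),(785,[])],[0,3,8,14,14]),
  (1,[3,1,3,1,2],[(906,[]),(729,[])],[0,14,14,0,3]),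
  (2,[9,0,15,7,7,3,17,3,13,14],[(910,[7,0,13,5,5]),(805,[]),(784,[]),(906,[3,13,4,13,9]),(729,[])],[2,2,13,10,7]),
  (2,[4,17,6,14,0,3,17,3,13,14],[(910,[2,15,4,12,0]),(866,[7,12,2]),(424,[])],[8,10,15,3,6]),
  (1,[3,5,8,16],[(918,[]),(732,[]),(729,[])],[14,0,2,14]),
  (4,[4,8,14,7,16,3,17,3,13,14],[(910,[2,6,12,5,14]),(788,[]),(810,[13,13,10,12]),(780,[]),(784,[]),(866,[0,15,13,7]),(424,[]),(393,[])],[5,15,10,3]),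
  (1,[2,16,2,8],[(926,[]),(728,[]),(732,[])],[12,14,0,3,15]),
  (2,[0,9,17,7,16,3,16,16],[(758,[0,7,15,5,14]),(729,[]),(914,[3,9,5,2])],[9,5,0,5]),
  (5,[0,6,6,16,16,3,1,2,1,3],[(818,[0,4,4,14,14]),(788,[]),(874,[6,9,15]),(424,[]),(393,[]),(926,[2,9,12]),(732,[]),(728,[]),(728,[])],[12,5,10,7]),
  (1,[3,1,3,1,2],[(938,[]),(804,[]),(789,[])],[11,14,4,0]),
  (2,[4,11,7,16,11,2,4,3,9],[(862,[2,9,5,14,9]),(212,[]),(188,[]),(184,[]),(858,[2,14,0]),(788,[]),(776,[])],[0,2,0,5,5]),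
  (2,[5,12,12,11,15,2,4,3,9],[(862,[3,10,10,9,13]),(188,[]),(212,[]),(184,[]),(858,[5,5,13,7,12]),(785,[]),(788,[]),(776,[])],[0,2,14,2,0]),
  (2,[5,0,17,17,6,3,1,8,17],[(874,[3,0,15,15,4]),(425,[]),(384,[]),(878,[12,15,5,0]),(776,[]),(780,[]),(776,[])],[4,9,9,11]),
  (2,[13,8,6,5,2,7,9],[(942,[11,6,4,3]),(733,[]),(728,[]),(938,[7,0,5]),(785,[]),(805,[])],[9,9,11,6]),
  (2,[6,12,11,12,6,3,4,2,16],[(882,[4,10,9,10,4]),(425,[]),(392,[]),(384,[]),(870,[0,9,14,6,9]),(785,[])],[0,3,11,2,8]),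
  (3,[4,15,15,9,0,3,4,2,16],[(882,[2,13,13,7,0]),(870,[2,0,6]),(776,[])],[12,2,7,0]),
  (4,[0,10,17,9,17,3,5,3,1,11],[(950,[0,8,15,7,15]),(788,[]),(898,[3,0,2,14,5]),(504,[]),(532,[]),(902,[2,4,13,3]),(789,[]),(785,[]),(780,[])],[0,13,9,0,8]),
  (5,[5,14,0,12,2,6,12,2],[(946,[3,12,0,10]),(958,[4,2,10,2]),(780,[]),(776,[]),(780,[]),(970,[12,2,12,7]),(789,[]),(776,[])],[7,10,12,12]),
  (2,[4,11,15,17,8,3,4,15,2,17],[(890,[2,9,13,15,6]),(540,[]),(549,[]),(509,[]),(902,[10,3,6,15]),(780,[]),(788,[])],[0,2,15,3,12]),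
  (1,[2,15,7,2],[(978,[]),(789,[]),(785,[])],[15,12,10,5]),
  (7,[4,6,14,4,9,2,8],[(418,[2,4,12,2,7]),(425,[]),(878,[11,11,11,9]),(780,[]),(804,[]),(906,[0,5,13,4,6]),(728,[]),(728,[]),(732,[]),(728,[])],[7,5,3,15]),
  (1,[3,17,6],[(986,[]),(184,[]),(189,[])],[2,4,13,10,13]),
  (5,[4,7,0,8,16,3,1,14,17],[(470,[2,5,0,6,14]),(384,[]),(393,[]),(870,[4,15,7,11]),(776,[]),(780,[]),(942,[2,8,7,14,4]),(732,[]),(732,[])],[2,5,0]),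
  (1,[2,15,2,7,10],[(994,[]),(424,[])],[2,14,0,8,14]),
  (4,[0,6,4,6,6,3,5,2,17,12],[(590,[0,4,2,4,4]),(549,[]),(533,[]),(894,[4,10,3,8,2]),(789,[]),(942,[4,11,13,7]),(729,[])],[9,7,0,4]),
  (1,[3,9,9,6],[(1002,[]),(541,[]),(508,[]),(504,[])],[0,5,15,5,5]),
  (2,[7,5,7,11],[(606,[5,3,5,9]),(504,[]),(541,[]),(1006,[0,5,15,11,11])],[14,6,11,8]),
  (1,[3,1,2,1],[(1010,[]),(629,[])],[0,11,13,10,14]),
  (2,[16,4,12,7],[(726,[14,2,10,5]),(629,[]),(660,[]),(616,[]),(608,[]),(1014,[0,15,6,3,3]),(729,[])],[3,10,13,5]),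
  (2,[7,7,10,13,16,3,1,2,1],[(1010,[5,5,8,11,14]),(629,[]),(661,[]),(609,[]),(1014,[9,4,8,11]),(729,[])],[4,2,7,13,11]),
  (100,[],[],[]),
  (1,[3,1,2,5,13],[(1026,[])],[]),
  (1,[],[(1030,[]),(780,[]),(1026,[3,15,8,2,10])],[]),
  (1,[],[(1030,[]),(784,[]),(1026,[0,7,14,0])],[]),
  (1,[],[(1030,[]),(788,[]),(776,[]),(1026,[2,13,13,8,14])],[]),
  (1,[],[(1030,[]),(804,[]),(776,[]),(1026,[9,0,3,5,8])],[]),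
  (3,[5,6,11,14,2,1,3],[(810,[3,4,9,12]),(1026,[2,15,2,2,5]),(1044,[]),(1040,[])],[12,0,3,6]),
  (1,[3,1,13,2],[(1050,[]),(1026,[3,5,14,13])],[]),
  (3,[10,14,17,9,2,17,14],[(970,[8,12,15,7]),(776,[]),(1026,[12,4,14,0]),(1053,[]),(1037,[])],[2,8,13,15,9]),
  (1,[2,1],[(1058,[]),(1026,[0,15,10,3,5])],[]),
  (2,[6,10,9,10],[(1030,[4,8,7,8]),(776,[]),(1026,[15,0,8,11]),(1052,[]),(1044,[])],[4,11,15]),
  (5,[9,12,7,12],[(1030,[7,10,5,10]),(785,[]),(846,[2,5,6,5,15]),(776,[]),(1026,[0,3,7,12,12]),(1061,[]),(1044,[]),(1032,[])],[9,9,13,0]),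
  (100,[],[],[]),
  (1,[3,1,3],[(1074,[])],[]),
  (1,[],[(1078,[]),(1052,[]),(1040,[]),(1032,[]),(1074,[0,5,0,13,7])],[]),
  (1,[],[(1078,[]),(1053,[]),(1061,[]),(1044,[]),(1032,[]),(1037,[]),(1074,[0,14,6,5])],[]),
  (1,[],[(1078,[]),(1044,[]),(1053,[]),(1040,[]),(1052,[]),(1044,[]),(1074,[2,7,0,9,11])],[]),
  (1,[],[(1078,[]),(1061,[]),(1053,[]),(1036,[]),(1032,[]),(1060,[]),(1074,[0,5,6,13])],[]),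
  (2,[13,13,11,12,7,3,1,2,5,13],[(1026,[11,11,9,10,5]),(1036,[]),(1061,[]),(1032,[]),(1074,[2,4,15,12,14]),(1088,[]),(1092,[])],[2,14,12,8]),
  (1,[3,12,2,5],[(1098,[]),(785,[]),(776,[])],[0,12,5,13,7]),
  (2,[5,7,9,11,8],[(1030,[3,5,7,9,6]),(1102,[9,11,13,13])],[13,3,8,5]),
  (1,[3,13,2,16],[(1106,[]),(1032,[]),(1061,[]),(1032,[]),(1074,[5,3,9,12,7])],[]),
  (2,[7,11,9,12],[(1078,[5,9,7,10]),(1044,[]),(1052,[]),(1032,[]),(1036,[]),(1074,[2,15,5,9,2]),(1092,[])],[4,8,8,12,5]),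
  (2,[0,7,11,16,6],[(1078,[0,5,9,14,4]),(1060,[]),(1032,[]),(1044,[]),(1074,[0,10,14,14,8]),(1088,[]),(1092,[])],[0,5,10,10,15]),
  (4,[5,16,9,0],[(1078,[3,14,7,0]),(1044,[]),(1060,[]),(1044,[]),(1036,[]),(1074,[0,13,9,5,8]),(1093,[]),(1109,[]),(1084,[]),(1114,[5,7,10,14,14]),(1088,[]),(1080,[])],[3,5,6,4,9]),
  (5,[4,16,9,11,5],[(1078,[2,14,7,9,3]),(1060,[]),(1053,[]),(1060,[]),(1044,[]),(1066,[4,15,15,4]),(1040,[]),(1052,[]),(1060,[]),(1074,[0,5,10,13,14]),(1109,[]),(1092,[])],[3,15,8,15,13]),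
  (5,[16,16,15,16],[(1078,[14,14,13,14]),(1061,[]),(1061,[]),(1040,[]),(1052,[]),(1074,[11,11,4,12]),(1108,[]),(1093,[]),(1084,[]),(1114,[0,2,5,3,9]),(1109,[]),(1093,[])],[5,2,4,2]),
  (6,[8,14,4,14,7],[(1078,[6,12,2,12,5]),(1052,[]),(1070,[5,6,6,10,6]),(1053,[]),(1060,[]),(1074,[0,3,10,10,15]),(1088,[]),(1092,[])],[2,4,12,10,14]),
  (7,[0,5,5,10,2,6,1,11],[(1130,[0,3,3,8]),(1092,[]),(1108,[]),(1118,[6,4,7,9]),(1093,[]),(1108,[]),(1130,[3,8,4,7])],[7,12,4,15,9]),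
  (2,[9,5,9,4,3,4],[(1134,[7,3,7,2]),(1108,[]),(1092,[]),(1118,[4,9,3,9]),(1092,[]),(1084,[])],[0,7,3,0,4]),
  (100,[],[],[]),
  (1,[3,14,10,2],[(1146,[])],[]),
  (1,[],[(1150,[]),(1092,[]),(1146,[14,10,13,6])],[]),
  (1,[],[(1150,[]),(1088,[]),(1080,[]),(1146,[0,9,5,12,7])],[]),
  (1,[],[(1150,[]),(1108,[]),(1108,[]),(1146,[12,0,15])],[]),
  (1,[],[(1150,[]),(1108,[]),(1084,[]),(1088,[]),(1084,[]),(1146,[0,12,8,11,13])],[]),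
  (2,[9,0,11,12,5,2,6,1,11],[(1130,[7,0,9,10,3]),(1146,[4,11,7,2,0]),(1156,[]),(1152,[])],[3,13,7,0,13]),
  (1,[3,15,11,3],[(1170,[]),(1080,[]),(1146,[3,9,14,10])],[]),
  (2,[4,8,8,14,17],[(1150,[2,6,6,12,15]),(1080,[]),(1146,[0,12,0,13,15]),(1173,[]),(1153,[]),(1160,[]),(1172,[]),(1172,[])],[12,14,4,6]),
  (3,[8,4,7,4,13,3,1],[(1178,[6,2,5,2,11]),(1173,[]),(1152,[]),(1160,[]),(1172,[]),(1172,[]),(1178,[6,0,2,13]),(1172,[]),(1172,[]),(1156,[])],[0,11,12,8,3]),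
  (4,[6,12,14,4,3,1],[(1178,[4,10,12,2]),(1173,[]),(1173,[]),(1164,[]),(1173,[]),(1173,[]),(1150,[2,6,14,13,7]),(1108,[]),(1092,[]),(1126,[0,12,4,10]),(1088,[])],[6,4,15,0,6]),
  (1,[3,7,16,2,14],[(1186,[]),(1153,[]),(1172,[]),(1172,[]),(1164,[]),(1160,[]),(1172,[]),(1150,[0,14,2,14,3])],[]),
  (1,[],[(1150,[]),(1108,[]),(1189,[]),(1108,[]),(1078,[3,12,12,11])],[]),
  (100,[],[],[]),
  (1,[3,5,6,13,2],[(1198,[])],[]),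
  (1,[],[(1202,[]),(1108,[]),(1108,[]),(1198,[2,10,3,15,8])],[]),
  (1,[],[(1202,[]),(1088,[]),(1093,[]),(1080,[]),(1198,[2,15,8,0,8])],[]),
  (1,[],[(1202,[]),(1189,[]),(1189,[]),(1084,[]),(1198,[0,11,7,9,6])],[]),
  (2,[4,10,9,6,12,3,8,6,15],[(1126,[2,8,7,4,10]),(1108,[]),(1092,[]),(1080,[]),(1198,[3,6,0,5,10]),(1208,[])],[12,3,11,13]),
  (1,[3,12,2,12],[(1218,[]),(1093,[]),(1084,[]),(1198,[3,8,10,3,10])],[]),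
  (2,[0,8,10,12],[(1202,[0,6,8,10]),(1189,[]),(1093,[]),(1198,[0,10,15,13,5])],[0,7,2,14,3]),
  (4,[9,12,11,7],[(1202,[7,10,9,5]),(1084,[]),(1088,[]),(1126,[0,6,0,6,12]),(1109,[]),(1093,[]),(1198,[0,6,6,10,7]),(1212,[]),(1209,[]),(1204,[])],[2,11,12,12]),
  (5,[6,4,15,4,10],[(1202,[4,2,13,2,8]),(1188,[]),(1092,[]),(1080,[]),(1098,[10,13,10,2]),(780,[]),(776,[]),(906,[3,15,3,10,8]),(732,[]),(729,[])],[0,4,12,8,4]),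
  (1,[3,4,2,1],[(1234,[]),(1220,[]),(1209,[])],[2,7,4,12]),
  (5,[7,9,16,8],[(1202,[5,7,14,6]),(1093,[]),(1126,[3,11,14,2,0]),(1093,[]),(1198,[6,11,2]),(1208,[])],[0,13,4,2,2]),
  (2,[12,17,13,9,2,7],[(1238,[10,15,11,7]),(733,[]),(728,[]),(732,[]),(728,[]),(986,[4,4,11]),(212,[]),(188,[])],[11,13,3,15,7]),
  (1,[3,7,9,3],[(1246,[]),(1209,[]),(1220,[]),(1212,[]),(1220,[]),(1213,[])],[6,13,13,13]),
  (2,[13,14,16,13,2,7],[(1238,[11,12,14,11]),(733,[]),(728,[]),(732,[]),(728,[]),(938,[2,15,11,4]),(776,[])],[8,8,2,11]),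
  (1,[2,4,11],[(1254,[]),(1204,[]),(1209,[]),(1220,[]),(1209,[])],[13,3,4,2]),
  (2,[8,10,7,16,2,7],[(1238,[6,8,5,14]),(733,[]),(728,[]),(1234,[0,15,4,3,14]),(1213,[])],[4,13,13,13,6]),
  (2,[17,12,17,14,3,14,1],[(1242,[15,10,15,12]),(1209,[]),(1204,[]),(1242,[0,2,7,11,8])],[7,4,14,0]),
  (4,[0,5,8,5,12,3,14,1],[(1242,[0,3,6,3,10]),(1212,[]),(1212,[]),(1262,[3,3,8,10,2]),(1212,[]),(1209,[]),(1204,[]),(1230,[5,6,0,8,8])],[3,0,14,11,8]),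
  (4,[5,10,12,6,8,3,14,1],[(1242,[3,8,10,4,6]),(1220,[]),(1212,[]),(1204,[]),(1262,[0,10,10,15]),(1208,[]),(1242,[15,4,12,0]),(1212,[]),(1212,[])],[0,7,2,10,8]),
  (100,[],[],[]),
  (1,[3,16,2,16],[(1278,[])],[]),
  (1,[],[(1282,[]),(424,[]),(385,[]),(1278,[0,5,8,13])],[]),
  (1,[],[(1282,[]),(385,[]),(425,[]),(380,[]),(1278,[2,10,9,14])],[]),
  (1,[],[(1282,[]),(392,[]),(384,[]),(392,[]),(384,[]),(1278,[5,10,12,11,12])],[])]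
theorem hD2 : allD2 lk B KW KW F A RL R0 D2 216 = true := by decide +kernel
def D3 : List (ℕ × Word × List (ℕ × Word) × Word) := [(4,[5,5,16,5,17,3,5,8,1,2],[(450,[3,3,14,3,15]),(392,[]),(380,[]),(486,[0,15,2,4,6]),(385,[]),(1278,[8,14,2,13]),(1284,[])],[3,0,7,14,3]),
  (1,[3,4,7],[(1298,[]),(384,[]),(424,[])],[15,15,2,7]),
  (7,[4,9,15,13,11,3,5,8,1,2],[(450,[2,7,13,11,9]),(425,[]),(384,[]),(486,[0,8,2,12,14]),(392,[]),(1278,[10,7,0,8])],[12,2,11,14]),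
  (1,[3,1,10,3],[(1306,[]),(392,[]),(1302,[4,2,12,15,2])],[]),
  (2,[12,11,14,10,16,3,4,2,5,14],[(494,[10,9,12,8,14]),(392,[]),(385,[]),(1278,[3,3,10,15])],[3,7,10,10,6]),
  (1,[3,1,2,1,3],[(1314,[]),(393,[]),(385,[]),(1278,[0,13,6,9])],[]),
  (4,[0,11,16,9,13,2,6,3,7],[(798,[0,9,14,7,11]),(788,[]),(780,[]),(874,[5,5,13,15]),(425,[]),(380,[]),(1302,[15,6,4,12])],[3,12,14,7,0]),
  (1,[3,15,15,2],[(1322,[]),(549,[]),(508,[]),(508,[])],[9,0,10,13]),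
  (4,[13,4,9,13,2,6,3,7],[(798,[11,2,7,11]),(784,[]),(780,[]),(874,[0,6,3,8,10]),(384,[]),(392,[]),(1302,[0,2,10,14,11]),(1308,[])],[13,11,9,11]),
  (1,[3,4,6,3,12],[(1330,[]),(549,[]),(533,[]),(509,[])],[2,0,13,0,14]),
  (2,[4,7,7,11,16],[(606,[2,5,5,9,14]),(540,[]),(549,[]),(1326,[0,6,10,7,10]),(1284,[])],[9,10,14,12]),
  (1,[3,1,3,7,14],[(1338,[]),(629,[]),(636,[]),(629,[]),(609,[])],[10,3,0,14]),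
  (4,[7,12,15,17],[(726,[5,10,13,15]),(660,[]),(629,[]),(609,[]),(646,[0,12,4,8,7]),(608,[]),(636,[]),(1342,[6,15,12,2,4]),(1308,[])],[3,14,13,11,14]),
  (1,[3,1,11,14],[(1346,[]),(732,[]),(728,[]),(732,[])],[3,5,3,7]),
  (4,[10,15,7,12,3,1,2],[(934,[8,13,5,10]),(732,[]),(746,[3,4,2,6,15]),(732,[]),(732,[]),(1350,[2,12,11,14]),(1308,[]),(1284,[])],[2,9,2,14,3]),
  (1,[3,1,3,4,10],[(1354,[]),(732,[]),(732,[])],[5,10,7,14]),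
  (5,[4,14,13,11,17,3,1,2],[(934,[2,12,11,9,15]),(733,[]),(728,[]),(922,[0,11,15,13,3]),(384,[]),(1278,[0,13,15,4,13]),(1284,[])],[0,4,10,7,12]),
  (1,[2,7,9,5],[(1362,[]),(733,[]),(729,[])],[12,14,13,13]),
  (7,[0,14,16,9,14,3,8,13,2],[(930,[0,12,14,7,12]),(392,[]),(384,[]),(498,[6,0,2,9,12]),(549,[]),(540,[]),(1326,[0,4,14,14,12]),(1308,[])],[0,10,8,7,3]),
  (1,[3,12,2,12],[(1370,[]),(728,[]),(728,[])],[6,9,15,12]),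
  (4,[0,7,12,17,0,2,1,3],[(810,[0,5,10,15,0]),(789,[]),(890,[0,5,0,9,10]),(541,[]),(541,[]),(1334,[0,9,15,0,7]),(1292,[])],[9,14,13,3]),
  (1,[3,17,14,2],[(1378,[])],[9,12,9,12]),
  (4,[5,13,7,16,15,3,4],[(958,[3,11,5,14,13]),(776,[]),(794,[13,7,13,6]),(508,[]),(508,[]),(1326,[5,7,4,2,7]),(1284,[])],[7,10,3,14,11]),
  (1,[3,4,15,10],[(1386,[]),(780,[]),(776,[]),(780,[])],[2,10,15,13,3]),
  (2,[13,8,16,12,3,1,8,17],[(874,[11,6,14,10]),(425,[]),(384,[]),(1278,[0,9,15,13]),(1292,[]),(1284,[])],[5,14,11,5,12]),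
  (1,[3,4,10,17,3],[(1394,[]),(788,[])],[14,11,4,3]),
  (4,[0,6,11,6,17,3,1,8,17],[(874,[0,4,9,4,15]),(385,[]),(392,[]),(918,[2,9,7,0,14]),(733,[]),(728,[]),(732,[]),(1350,[2,4,13,3,7]),(1308,[]),(1288,[])],[0,7,15,12,3]),
  (1,[3,1,3,9,16],[(1402,[]),(805,[]),(776,[])],[15,3,7,3]),
  (5,[5,8,8,13,5,3,1,8,17],[(874,[3,6,6,11,3]),(380,[]),(918,[0,3,6,15,3]),(728,[]),(733,[]),(1350,[6,9,7,2]),(1309,[])],[10,9,3,9]),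
  (1,[3,6,13,9,2],[(1410,[]),(785,[]),(805,[])],[4,6,12,8,0]),
  (7,[4,7,16,13,17,3,4,2,16],[(882,[2,5,14,11,15]),(392,[]),(392,[]),(558,[3,5,12,10,12]),(540,[]),(509,[]),(1334,[5,5,2,9,10]),(1288,[]),(1284,[])],[8,5,12,4]),
  (1,[2,14,9],[(1418,[]),(776,[]),(780,[])],[2,2,10,9,12]),
  (5,[9,16,4,0,2,15,12],[(826,[7,14,2,0]),(776,[]),(780,[]),(970,[0,13,3,9]),(805,[]),(776,[]),(1422,[3,10,9,11]),(1288,[])],[3,10,5,12]),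
  (1,[3,11,3,13,17],[(1426,[]),(789,[])],[2,13,5,5]),
  (6,[4,10,12,7,2,15,12],[(826,[2,8,10,5]),(780,[]),(789,[]),(950,[5,8,8,8]),(788,[]),(776,[]),(1422,[0,5,3,9,14]),(1309,[])],[15,3,0,4]),
  (1,[3,5,16,2,5],[(1434,[])],[0,15,12,10,12]),
  (3,[15,15,15,16,3,1,16,2,11],[(982,[13,13,13,14]),(789,[]),(784,[]),(1390,[2,5,8,14,13]),(1316,[])],[2,11,14,12,6]),
  (1,[2,6,1,11],[(1442,[]),(785,[]),(780,[]),(784,[])],[6,13,14,5]),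
  (4,[6,8,12,4,9],[(1078,[4,6,10,2,7]),(1053,[]),(1061,[]),(1040,[]),(1060,[]),(1060,[]),(1052,[]),(1030,[4,4,15,3]),(784,[]),(1414,[13,4,4,13]),(1308,[])],[13,4,14,13]),
  (1,[3,11,9,2],[(1450,[]),(1189,[]),(1093,[]),(1189,[]),(1084,[]),(1080,[])],[5,8,4,11,8]),
  (4,[4,9,0,6],[(1202,[2,7,0,4]),(1093,[]),(1098,[10,10]),(776,[]),(1382,[4,12,7,5]),(1308,[])],[0,9,11,6,13]),
  (1,[2,8,3,11],[(1458,[]),(1220,[]),(1209,[]),(1204,[])],[15,3,12,8]),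
  (2,[13,6,0,16,2,4,3,9],[(1258,[11,4,0,14]),(788,[]),(776,[]),(1438,[6,10,14,0,2]),(1308,[])],[7,2,14,2,4]),
  (1,[2,4,3,15],[(1466,[]),(1208,[]),(1220,[]),(1213,[]),(1204,[])],[14,3,12,8]),
  (6,[9,13,17,10,3,11,2,6,5],[(1462,[7,11,15,8]),(1292,[]),(1284,[]),(1394,[0,14,7,15]),(804,[]),(780,[]),(1414,[8,3,8,13])],[5,9,7,13,0]),
  (1,[3,5,5,3,13],[(1474,[]),(1212,[]),(1204,[])],[0,13,14,5]),
  (2,[4,17,17,10,9],[(1282,[2,15,15,8,7]),(425,[]),(384,[]),(1278,[0,3,11,9,3])],[2,0,7,0,13]),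
  (2,[4,0,12,6,16],[(1282,[2,0,10,4,14]),(393,[]),(385,[]),(1278,[0,6,3,9,14])],[3,13,10,13,4]),
  (2,[0,9,12,4,6],[(1282,[0,7,10,2,4]),(392,[]),(385,[]),(1278,[0,9,5,7,0])],[2,7,2,7,5]),
  (6,[6,14,7,16,0],[(1282,[4,12,5,14,0]),(466,[6,15,3,5]),(392,[]),(380,[]),(1278,[7,8,3,5])],[14,14,14,12]),
  (2,[9,11,5,12,2,6,1,11],[(1442,[7,9,3,10]),(805,[]),(780,[]),(1398,[6,5,5,8,8]),(1309,[]),(1316,[]),(1284,[])],[8,14,6,14]),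
  (2,[17,6,12,4,2,6,1,11],[(1442,[15,4,10,2]),(780,[]),(776,[]),(780,[]),(1446,[0,5,15,5,10]),(1309,[]),(1292,[])],[3,3,11,5,12]),
  (4,[0,5,0,15,16,2,6,1,11],[(1442,[0,3,0,13,14]),(789,[]),(776,[]),(946,[4,2,10,6,0]),(804,[]),(785,[]),(776,[]),(1398,[0,10,15,4,11]),(1316,[]),(1309,[])],[15,4,14,11]),
  (5,[10,5,12,16,2,6,1,11],[(1442,[8,3,10,14]),(805,[]),(776,[]),(1430,[7,10,8,0,13]),(1308,[]),(1284,[]),(1502,[3,10,3]),(1316,[])],[2,7,15,6]),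
  (6,[7,14,14,10,13,2,6,1,11],[(1442,[5,12,12,8,11]),(780,[]),(788,[]),(862,[6,12,2,15]),(212,[]),(184,[]),(266,[0,13,8,14,6]),(212,[]),(188,[])],[10,14,6]),
  (1,[3,16,2,14],[(1514,[]),(1316,[]),(1292,[])],[0,14,6,12]),
  (6,[12,8,15,8,2,6,1,11],[(1442,[10,6,13,6]),(780,[]),(784,[]),(970,[4,12,5,10,13]),(805,[]),(776,[]),(1382,[8,2,2,4,13]),(1308,[]),(1284,[])],[10,4,9,0]),
  (1,[3,17,17,12,3],[(1522,[])],[7,11,3,8]),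
  (2,[5,11,7,11,13,2,7,9],[(1502,[3,9,5,9,11]),(1510,[9,3,0,6]),(1308,[]),(1288,[])],[15,6,6,2]),
  (6,[7,15,5,16,2,7,9],[(1502,[5,13,3,14]),(1308,[]),(1284,[]),(1346,[0,9,4,11,11]),(729,[]),(733,[]),(728,[]),(728,[]),(1374,[0,12,5,6,6]),(1308,[]),(1316,[])],[3,10,12,4,7]),
  (2,[6,14,13,7,12,2,14,9],[(1418,[4,12,11,5,10]),(776,[]),(780,[]),(776,[]),(1390,[0,10,9,2,7]),(1308,[])],[2,15,11,8,5]),
  (2,[0,8,10,14,8,2,14,9],[(1418,[0,6,8,12,6]),(776,[]),(780,[]),(1390,[0,3,6,3,13]),(1308,[]),(1284,[])],[4,9,6,14]),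
  (3,[10,8,11,5,14,2,14,9],[(1418,[8,6,9,3,12]),(780,[]),(776,[]),(1422,[3,3,7,12,6]),(1308,[])],[0,14,6,9,14]),
  (7,[16,7,17,0,2,14,9],[(1418,[14,5,15,0]),(785,[]),(788,[]),(982,[4,14,8,15,4]),(805,[]),(788,[]),(1382,[4,11,2,6,2]),(1309,[]),(1316,[]),(1284,[])],[13,10,9,5]),
  (7,[17,17,6,5,2,14,9],[(1418,[15,15,4,3]),(950,[0,14,5,2,10]),(785,[]),(805,[]),(776,[]),(1446,[4,13,15,2,14]),(1308,[]),(1284,[])],[5,10,6,10]),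
  (2,[0,17,5,16,7,3,4,15,10],[(1386,[0,15,3,14,5]),(785,[]),(780,[]),(784,[]),(1390,[4,12,14,11,5]),(1308,[])],[7,2,15,6]),
  (2,[0,17,7,8,10,3,13,2,12],[(1482,[0,15,5,6,8]),(1494,[2,2,11,11,15])],[4,9,14,5,13]),
  (3,[7,12,15,11,3,12,2,12],[(1370,[5,10,13,9]),(729,[]),(732,[]),(728,[]),(986,[9,3,7,3]),(189,[]),(213,[])],[2,6,5,14,13]),
  (1,[3,1,8,15,2],[(1566,[]),(1316,[]),(1308,[])],[0,10,3,3,8]),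
  (3,[7,11,13,7,3,12,2,12],[(1370,[5,9,11,5]),(732,[]),(729,[]),(1374,[12,15,7,15])],[5,8,3,14,0]),
  (4,[0,8,14,14,6,3,12,2,12],[(1370,[0,6,12,12,4]),(733,[]),(728,[]),(728,[]),(728,[]),(910,[7,14,12,15]),(804,[]),(788,[]),(1438,[0,6,15,9,0]),(1284,[])],[2,10,13,10]),
  (2,[0,8,6,10,14,3,11,9,2],[(1450,[0,6,4,8,12]),(1188,[]),(1108,[]),(1093,[]),(1080,[]),(1454,[0,14,0,15,7]),(1308,[])],[13,3,11,4]),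
  (3,[5,12,16,5,8,3,11,9,2],[(1450,[3,10,14,3,6]),(1188,[]),(1108,[]),(1093,[]),(1454,[2,2,11,14,5])],[0,5,9,2,14]),
  (2,[4,6,17,14,5,3,5,1,13,3],[(1506,[2,4,15,12,3]),(1316,[]),(1292,[]),(1518,[7,12,4,13]),(188,[]),(185,[])],[0,10,7,13,10]),
  (1,[3,4,2,7],[(1590,[]),(1316,[]),(1308,[])],[0,12,11,9]),
  (7,[6,0,6,0,3,5,1,13,3],[(1506,[4,0,4,0]),(1316,[]),(1309,[]),(1498,[15,3,10,10]),(1309,[]),(1292,[]),(1518,[6,8,3,14]),(212,[]),(212,[])],[0,12,15,0,14]),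
  (1,[3,1,7,2],[(1598,[]),(1308,[]),(1292,[])],[0,7,15,3,6]),
  (2,[16,6,0,11,3,6,1,5],[(1546,[14,4,0,9]),(1494,[2,14,7,11]),(1308,[])],[6,3,9]),
  (4,[5,8,17,8,4,2,6,17,13],[(1538,[3,6,15,6,2]),(1308,[]),(1288,[]),(1602,[9,7,13,10]),(189,[]),(213,[]),(306,[0,6,5,6,12]),(189,[]),(184,[])],[2,5,10,15,3]),
  (1,[3,1,9,1,3],[(1610,[]),(1308,[]),(1284,[])],[2,12,3,9,11]),
  (7,[7,8,0,11,3,1,2,10],[(1542,[5,6,0,9]),(1606,[0,9,14,8,12]),(1542,[6,2,9,4])],[2,6,12,10,2]),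
  (7,[4,9,6,15,7,2,5,2,16],[(1554,[2,7,4,13,5]),(1316,[]),(1284,[]),(1442,[5,14,6,13]),(788,[]),(776,[]),(1406,[5,0,15,12]),(1308,[]),(1284,[])],[0,12,8,0]),
  (2,[4,10,4,12,3,1,3,4,10],[(1354,[2,8,2,10]),(728,[]),(733,[]),(729,[]),(1358,[9,7,0,7])],[0,7,2,5,5]),
  (6,[0,4,12,4,10,3,17,14,2],[(1378,[0,2,10,2,8]),(804,[]),(776,[]),(890,[7,5,5,9]),(532,[]),(541,[]),(1334,[0,12,15,4,4]),(1308,[])],[0,12,4,15]),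
  (2,[6,6,8,6,5,2,8,3,11],[(1458,[4,4,6,4,3]),(1220,[]),(1208,[]),(1220,[]),(1470,[12,12,3,11]),(1284,[])],[3,0,4,13,4]),
  (1,[3,1,3,15,3],[(1634,[]),(1308,[])],[0,13,3,10]),
  (6,[16,8,16,15,2,8,3,11],[(1458,[14,6,14,13]),(1204,[]),(1209,[]),(1220,[]),(1258,[0,15,9,0]),(789,[]),(784,[]),(906,[12,2,12,15]),(732,[]),(732,[]),(728,[]),(728,[]),(728,[])],[2,12,6]),
  (1,[2,5,3,6],[(1642,[]),(1308,[]),(1288,[])],[11,5,9,13]),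
  (7,[7,11,8,4,2,8,3,11],[(1458,[5,9,6,2]),(1220,[]),(1209,[]),(1226,[2,5,7,13,6]),(1212,[]),(1204,[]),(1208,[]),(1204,[]),(1462,[5,15,6,12]),(1308,[])],[2,15,7,9,9]),
  (4,[9,11,7,9,3,15,15,2],[(1322,[7,9,5,7]),(548,[]),(590,[10,14,13,3]),(540,[]),(533,[]),(1334,[6,14,11,15]),(1316,[]),(1284,[])],[4,6,4,13]),
  (4,[5,11,12,7,10,3,1,10,7,3],[(1626,[3,9,10,5,8]),(1526,[4,12,6,14,3]),(1654,[4,8,0,13,2]),(1288,[])],[9,11,5,9]),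
  (100,[],[],[]),
  (1,[3,5,3,12,8],[(1662,[])],[]),
  (1,[],[(1666,[]),(424,[]),(385,[]),(1662,[3,0,11,2])],[]),
  (1,[],[(1666,[]),(425,[]),(385,[]),(1662,[0,10,7,9,13])],[]),
  (4,[10,8,7,13,2,1,2],[(274,[8,6,5,11]),(188,[]),(188,[]),(442,[4,0,12,14,6]),(380,[]),(1662,[3,3,11,2,4]),(1673,[])],[10,5,10,9]),
  (1,[2,1,14,5],[(1678,[]),(184,[]),(213,[])],[6,13,11,13,3]),
  (5,[4,14,17,4,10,2,1,2],[(274,[2,12,15,2,8]),(188,[]),(185,[]),(442,[2,0,14,11,13]),(385,[]),(1662,[0,9,12,5,14])],[3,14,6,13,13]),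
  (1,[3,11,6,15],[(1686,[]),(188,[]),(185,[])],[2,9,3,8,13]),
  (6,[13,7,5,0,2,1,2],[(274,[11,5,3,0]),(188,[]),(184,[]),(242,[4,14,7,4,10]),(188,[]),(185,[]),(1682,[4,0,7,0]),(1672,[]),(1668,[])],[3,5,14,12,14]),
  (1,[3,5,2,17,1],[(1694,[]),(188,[]),(188,[])],[0,2,8,4,0]),
  (2,[7,7,11,12,12,3,1,2,1,3],[(226,[5,5,9,10,10]),(185,[]),(1690,[4,2,13,3,11])],[2,10,8,0]),
  (1,[3,1,9,3,5],[(1702,[])],[0,4,9,0,9]),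
  (2,[14,0,13,11,2,7,1],[(250,[12,0,11,9]),(189,[]),(185,[]),(1698,[2,4,6,15,5]),(1668,[])],[9,5,12,3]),
  (1,[3,11,2,15,3],[(1710,[]),(212,[]),(185,[])],[0,3,3,9,14]),
  (2,[4,4,16,14,17,2,7,1],[(250,[2,2,14,12,15]),(213,[]),(189,[]),(184,[]),(1682,[2,7,9,12]),(1672,[])],[3,11,9,14,3]),
  (1,[3,7,9,16],[(1718,[]),(188,[]),(1690,[15,10,3,15])],[]),
  (4,[0,6,9,10,7,2,7,1],[(250,[0,4,7,8,5]),(212,[]),(212,[]),(185,[]),(350,[2,12,9,3]),(189,[]),(1706,[5,9,9,4,7]),(1673,[]),(1668,[])],[2,5,15,6])]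
theorem hD3 : allD2 lk B KW KW F A RL R0 D3 324 = true := by decide +kernel
def D4 : List (ℕ × Word × List (ℕ × Word) × Word) := [(1,[3,5,12,6],[(1726,[]),(213,[]),(213,[]),(184,[])],[0,11,5,3,3]),
  (2,[10,15,15,3,6,2,7],[(350,[8,13,13]),(184,[]),(189,[]),(1682,[0,2,5,0,12]),(1720,[]),(1672,[])],[4,2,2,5]),
  (1,[3,15,1,3],[(1734,[]),(213,[]),(185,[])],[9,11,11,2]),
  (5,[0,8,0,16,0,3,6,2,7],[(350,[0,6,0,14,0]),(212,[]),(185,[]),(242,[7,13,15,6]),(213,[]),(188,[]),(1738,[2,8,11,6,14]),(1673,[]),(1668,[])],[3,8,12,0]),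
  (1,[3],[(1742,[]),(185,[])],[2,4,7,12]),
  (4,[0,13,16,6,16,3,12,2,5],[(218,[0,11,14,4,14]),(212,[]),(185,[]),(358,[0,6,11,12,15]),(185,[]),(1706,[8,2,12,14,2]),(1720,[]),(1668,[])],[4,8,6,8,11]),
  (1,[3,1,2,1,3],[(1750,[]),(188,[]),(212,[])],[5,11,13,9]),
  (4,[4,9,4,9,17,2,4,11,2],[(298,[2,7,2,7,15]),(213,[]),(370,[6,5,0,4]),(188,[]),(212,[]),(1714,[8,7,2,14]),(1720,[]),(1673,[])],[8,12,11,6,11]),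
  (1,[3,5,15,2,6],[(1758,[]),(189,[]),(184,[])],[2,14,13,0]),
  (5,[0,7,5,7,12,2,4,11,2],[(298,[0,5,3,5,10]),(188,[]),(188,[]),(366,[11,12,14,6]),(188,[]),(185,[]),(1682,[3,15,0,9,4])],[9,3,3,6]),
  (1,[3,9,11,3,16],[(1766,[]),(189,[]),(184,[])],[8,15,13,10]),
  (2,[5,0,16,12,7,2],[(406,[3,0,14,10,5]),(184,[]),(189,[]),(1706,[0,3,6,5,6]),(1720,[]),(1672,[]),(1668,[])],[0,11,7,4]),
  (1,[3,4,12,9],[(1774,[]),(393,[]),(384,[]),(393,[])],[5,7,0,8]),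
  (4,[0,6,0,15,13,2],[(406,[0,4,0,13,11]),(184,[]),(213,[]),(184,[]),(358,[2,11,3,7,14]),(185,[]),(188,[]),(1746,[2,6,10,3])],[10,14,2,14]),
  (1,[3,8,15,3],[(1782,[]),(425,[]),(384,[])],[15,6,2,5]),
  (7,[4,7,12,4,0,3,16,2,16],[(1278,[2,5,10,2,0]),(1292,[]),(1288,[]),(1570,[0,4,14,2,7]),(188,[]),(188,[]),(185,[]),(1754,[10,6,15,2])],[6,14,6,11]),
  (1,[3,5,3,13,10],[(1790,[]),(393,[]),(385,[]),(393,[])],[12,8,11,9]),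
  (6,[13,9,15,16,2,7,1],[(454,[11,7,13,14]),(393,[]),(425,[]),(392,[]),(446,[2,6,3,3,5]),(212,[]),(212,[]),(184,[]),(1746,[2,6,2,8]),(1720,[])],[3,3,12,2,6]),
  (1,[3,5,16,2],[(1798,[]),(392,[]),(425,[])],[0,2,11,12,2]),
  (2,[6,14,6,17],[(502,[4,12,4,15]),(384,[]),(392,[]),(1786,[0,8,2,13])],[2,0,10,8,4]),
  (1,[3,1,2,12,3],[(1806,[]),(509,[]),(548,[]),(508,[])],[2,6,15,13]),
  (2,[0,7,15,16,16],[(502,[0,5,13,14,14]),(392,[]),(384,[]),(392,[]),(1662,[0,10,2,11,14])],[2,13,8,14,5]),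
  (1,[3,13,2,12],[(1814,[]),(549,[]),(504,[])],[6,4,10,2,12]),
  (6,[15,8,8,4,3],[(554,[13,6,6,2]),(393,[]),(424,[]),(446,[12,8,14,11]),(213,[]),(188,[]),(1690,[0,5,6,4,13])],[5,5,15,4,12]),
  (1,[3,8,1,3],[(1822,[]),(541,[]),(548,[])],[2,13,15,3,4]),
  (6,[7,4,14,7,3],[(554,[5,2,12,5]),(393,[]),(425,[]),(392,[]),(446,[4,15,15,0]),(188,[]),(212,[]),(1690,[13,3,3,12])],[2,14,4,2,4]),
  (1,[3,10,3,14,3],[(1830,[]),(504,[])],[2,8,0,8,3]),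
  (2,[4,11,5,9,6,3,1,3,1],[(710,[2,9,3,7,4]),(509,[]),(549,[]),(508,[]),(1826,[11,3,13]),(1720,[])],[0,8,3,0,2]),
  (1,[3,4,3,10,5],[(1838,[]),(716,[]),(684,[]),(681,[]),(684,[])],[0,6,5,5,2]),
  (4,[0,17,0,16,0],[(726,[0,15,0,14,0]),(609,[]),(660,[]),(606,[3,10,14,9,11]),(532,[]),(532,[]),(1834,[0,7,15,5,6]),(1720,[])],[0,8,4,6,4]),
  (1,[3,12,2,15],[(1846,[]),(729,[]),(733,[]),(728,[])],[0,13,15,11,2]),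
  (4,[6,16,14,11,14],[(726,[4,14,12,9,12]),(628,[]),(609,[]),(636,[]),(1014,[0,6,13,5,14]),(732,[]),(729,[]),(729,[]),(1850,[5,3,14,8,12])],[0,2,4,9,15]),
  (1,[3,7,12,3,5],[(1854,[]),(728,[]),(732,[]),(728,[]),(728,[])],[0,7,15,12,8]),
  (6,[5,7,10,10,5],[(726,[3,5,8,8,3]),(660,[]),(608,[]),(636,[]),(629,[]),(1014,[2,0,14,2,6]),(732,[]),(729,[]),(729,[]),(1858,[12,8,3,8]),(1672,[])],[2,5,6,8,13]),
  (1,[3,13,7,14],[(1862,[]),(733,[]),(728,[]),(728,[]),(728,[])],[0,11,7,11,9]),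
  (7,[12,8,17,3,1,2],[(934,[10,6,15]),(728,[]),(733,[]),(729,[]),(1022,[6,6,15,3,5]),(732,[]),(729,[]),(729,[]),(1850,[0,12,11,2]),(1720,[]),(1672,[])],[6,9,13,0,15]),
  (1,[3,9,2,9],[(1870,[]),(733,[]),(728,[]),(728,[]),(728,[])],[3,7,15,10]),
  (4,[0,10,17,5,0,2,1,3],[(766,[0,8,15,3,0]),(728,[]),(732,[]),(729,[]),(1022,[2,14,9,3,14]),(733,[]),(1866,[3,4,13,9]),(1672,[]),(1672,[]),(1668,[])],[6,10,13,7,8]),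
  (1,[2,4,4,2],[(1878,[]),(733,[]),(729,[]),(729,[]),(732,[]),(728,[])],[0,15,2,10,4]),
  (4,[5,11,5,6,2,6,1,11],[(1350,[3,9,3,4]),(1292,[]),(1288,[]),(1646,[0,4,10,13,7]),(729,[]),(733,[]),(729,[]),(1874,[4,4,15,8,6])],[6,0,7,0]),
  (1,[3,12,5,2],[(1886,[]),(728,[]),(728,[])],[0,9,4,9,14]),
  (6,[0,17,11,12,17,3,9,9,6],[(1002,[0,15,9,10,15]),(509,[]),(548,[]),(514,[2,4,12,14,7]),(184,[]),(213,[]),(1746,[0,7,14,0,3]),(1673,[]),(1668,[])],[4,4,10,7,8]),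
  (1,[3,14,2,1],[(1894,[]),(729,[]),(729,[])],[3,14,3,3,10]),
  (4,[0,9,5,11,5],[(774,[0,7,3,9,3]),(636,[]),(636,[]),(628,[]),(606,[0,8,3,12,8]),(549,[]),(532,[]),(504,[]),(1818,[0,3,9,9,13])],[4,9,14,14,5]),
  (1,[3,4,6,3,16],[(1902,[]),(805,[]),(784,[])],[13,5,5,11]),
  (4,[15,6,12,9],[(774,[13,4,10,7]),(628,[]),(612,[]),(770,[4,15,10,10]),(788,[]),(784,[]),(1906,[13,13,0,9]),(1672,[]),(1668,[])],[2,10,4,10,9]),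
  (1,[2,4,11],[(1910,[]),(789,[]),(785,[]),(776,[])],[15,2,7,12]),
  (5,[4,17,0,14,12],[(774,[2,15,0,12,10]),(609,[]),(629,[]),(661,[]),(609,[]),(1014,[0,14,8,14]),(728,[]),(732,[]),(728,[]),(1898,[9,15,10,7])],[15,4,12,12]),
  (1,[3,5,12,2],[(1918,[]),(785,[]),(805,[])],[3,3,5,13,5]),
  (5,[4,13,4,8,13],[(774,[2,11,2,6,11]),(636,[]),(722,[0,7,11,14,10]),(728,[]),(733,[]),(728,[]),(728,[]),(1898,[7,9,9,15])],[0,2,7,14]),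
  (1,[3,1,16,3,9],[(1926,[]),(805,[]),(784,[]),(776,[])],[0,13,10,6,0]),
  (2,[14,17,12,10,2,1,3],[(810,[12,15,10,8]),(780,[]),(785,[]),(1906,[7,10,4,14]),(1668,[])],[4,0,3,11]),
  (1,[3,15,2,4],[(1934,[]),(785,[])],[13,13,3,5]),
  (6,[4,10,13,17,9,2,4,3,9],[(862,[2,8,11,15,7]),(213,[]),(213,[]),(350,[0,3,13,2,8]),(185,[]),(188,[]),(1714,[9,9,15,6]),(1672,[])],[3,0,12,6]),
  (1,[3,9,3,1],[(1942,[]),(780,[]),(776,[]),(780,[])],[2,2,14,5,12]),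
  (7,[13,8,10,4,15,3,4],[(958,[11,6,8,2,13]),(804,[]),(788,[]),(862,[3,11,9,11,5]),(213,[]),(185,[]),(1714,[0,7,2,13,5])],[0,15,8,14,12]),
  (1,[3,8,15],[(1950,[]),(804,[]),(785,[]),(780,[]),(776,[])],[0,8,7,2,8]),
  (4,[4,6,0,11],[(1078,[2,4,0,9]),(1061,[]),(1061,[]),(1052,[]),(1032,[]),(1061,[]),(1030,[3,5,15,2,2]),(776,[]),(1938,[4,8,2,12,15])],[9,10,13,6,14]),
  (1,[2,15],[(1958,[]),(1080,[]),(1189,[]),(1189,[])],[0,6,15,8,4]),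
  (2,[5,0,12,14,14],[(1202,[3,0,10,12,12]),(1189,[]),(1080,[]),(1188,[]),(1962,[6,2,14,0])],[0,4,13,9,0]),
  (1,[2,8,3,4],[(1966,[]),(1208,[]),(1213,[])],[0,3,6,0,8]),
  (2,[4,14,4,9,11],[(1282,[2,12,2,7,9]),(1662,[9,7,12,8]),(1672,[])],[4,9,5,8,14]),
  (1,[3,13,2,15],[(1974,[])],[8,0,14,10]),
  (2,[0,9,7,5,16],[(1282,[0,7,5,3,14]),(393,[]),(424,[]),(392,[]),(1794,[0,4,15,3,12]),(1672,[])],[3,6,14,3,4]),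
  (1,[3,1,3,12],[(1982,[])],[4,12,5,2,8]),
  (4,[14,5,11,8],[(1282,[12,3,9,6]),(392,[]),(384,[]),(392,[]),(498,[2,10,10,6,11]),(549,[]),(508,[]),(1818,[9,0,7,8])],[2,10,12,0,9]),
  (1,[3,1,3,15,5],[(1990,[]),(1292,[])],[5,11,14,4]),
  (4,[0,11,7,10],[(1282,[0,9,5,8]),(392,[]),(380,[]),(998,[7,13,11,13]),(732,[]),(732,[]),(1850,[5,6,15,6,8]),(1668,[])],[4,7,15,3]),
  (1,[3,7,11,13],[(1998,[]),(1308,[]),(1284,[])],[3,6,9,5,0]),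
  (4,[0,8,16,8,12,3,1,2],[(1498,[0,6,14,6,10]),(1292,[]),(1288,[]),(1646,[2,9,10,3,15]),(729,[]),(732,[]),(1882,[3,11,8,8,0]),(1672,[]),(1668,[])],[0,6,13,2,8]),
  (1,[3,4,14,3,12],[(2006,[]),(1308,[]),(1316,[]),(1284,[])],[0,7,4,14,3]),
  (5,[11,17,11,6,3,10,2,13],[(1534,[9,15,9,4]),(1288,[]),(1410,[0,5,6,6,5]),(804,[]),(789,[]),(1954,[3,7,11,6,5]),(1720,[]),(1672,[])],[12,2,5,5]),
  (1,[3,8],[(2014,[]),(1308,[]),(1288,[])],[14,7,0,5]),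
  (2,[17,14,7,14,3,4,2,7],[(1602,[15,12,5,12]),(212,[]),(212,[]),(188,[]),(1730,[3,14,12,8]),(1672,[]),(1672,[]),(1668,[])],[5,2,7,14]),
  (1,[3,4,9,2,13],[(2022,[]),(1308,[]),(1288,[])],[2,12,15,11]),
  (3,[12,4,14,10,3,4,2,7],[(1602,[10,2,12,8]),(188,[]),(1746,[11,5,15,13]),(1720,[]),(1672,[]),(1668,[])],[0,14,6,10,15]),
  (1,[3,15,2,14],[(2030,[]),(1308,[]),(1308,[])],[0,9,2,8,7]),
  (3,[7,7,14,14,3,7,2,16,11],[(1594,[5,5,12,12]),(185,[]),(188,[]),(1762,[0,3,4,7,2])],[2,8,2,2]),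
  (1,[3,1,3,4,10],[(2038,[]),(1292,[]),(1284,[])],[2,7,4,4,15]),
  (6,[4,8,6,9,10,2,7,9],[(1502,[2,6,4,7,8]),(1526,[5,9,11,12]),(1292,[]),(1284,[]),(2002,[2,4,0,10,12]),(1720,[])],[4,13,3,11,9]),
  (1,[3,14,2],[(2046,[]),(1292,[])],[8,15,5,11,15]),
  (2,[10,0,14,17],[(1666,[8,0,12,15]),(380,[]),(1662,[0,9,2,12,14])],[6,6,8,6]),
  (2,[7,10,13,10,13],[(1666,[5,8,11,8,11]),(392,[]),(385,[]),(393,[]),(1794,[4,13,5,0,11]),(1672,[])],[0,8,7,0,2]),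
  (1,[3,1,11,2,16],[(2058,[]),(1672,[]),(1672,[])],[3,13,3,11,12]),
  (2,[14,11,15,5],[(1666,[12,9,13,3]),(384,[]),(1662,[15,3,9,4])],[2,9,13,0,4]),
  (4,[10,4,7,12],[(1666,[8,2,5,10]),(424,[]),(392,[]),(385,[]),(1794,[0,10,6,0,10]),(1672,[]),(1672,[]),(2058,[9,10,7,2]),(1720,[]),(1668,[])],[4,9,15,13,3]),
  (4,[4,4,17,8,11],[(1666,[2,2,15,6,9]),(392,[]),(384,[]),(1278,[3,14,3,6,6]),(1308,[]),(1978,[0,6,14,3,8]),(1672,[])],[7,9,15]),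
  (4,[8,16,0,6],[(1666,[6,14,0,4]),(385,[]),(425,[]),(392,[]),(446,[2,13,14,4,3]),(188,[]),(185,[]),(1714,[5,8,14,6]),(1720,[]),(1672,[])],[3,12,2,12]),
  (5,[4,10,13,17,9],[(1666,[2,8,11,15,7]),(392,[]),(384,[]),(393,[]),(406,[7,13,14,2]),(213,[]),(1754,[12,6,5,10]),(1668,[])],[4,14,4,15]),
  (5,[11,15,4],[(1666,[9,13,2]),(424,[]),(998,[0,9,2,11]),(732,[]),(729,[]),(732,[]),(728,[]),(728,[]),(1858,[0,7,10,12,7]),(1672,[]),(1668,[])],[0,3,13,3,8]),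
  (5,[0,4,17,7,8],[(1666,[0,2,15,5,6]),(384,[]),(450,[0,15,5,9,12]),(384,[]),(1662,[0,2,2,10,15])],[4,15,2,10]),
  (5,[5,13,13,16,4],[(1666,[3,11,11,14,2]),(392,[]),(438,[13,6,9,5]),(384,[]),(392,[]),(384,[]),(1662,[5,5,15,4,0])],[3,14,0,3]),
  (5,[0,12,14,13,16],[(1666,[0,10,12,11,14]),(393,[]),(998,[3,12,12,6]),(732,[]),(732,[]),(1850,[6,8,11,15]),(1668,[])],[9,15,4,12]),
  (6,[0,4,17,0,11],[(1666,[0,2,15,0,9]),(392,[]),(450,[0,3,9,14,0]),(392,[]),(384,[]),(1662,[0,8,8,10,13]),(1720,[])],[4,7,10,12,8]),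
  (6,[4,9,10,4,4],[(1666,[2,7,8,2,2]),(462,[2,11,7,4,15]),(393,[]),(384,[]),(1662,[11,4,4,4])],[14,11,6,5]),
  (7,[4,4,11,7,14],[(1666,[2,2,9,5,12]),(392,[]),(430,[0,14,11,14,14]),(384,[]),(1662,[13,13,5,10])],[4,11,15,5,7]),
  (7,[0,6,0,15,13],[(1666,[0,4,0,13,11]),(462,[12,8,14]),(392,[]),(384,[]),(1662,[3,4,12,4,9])],[13,13,0,9]),
  (7,[0,9,16,14,11],[(1666,[0,7,14,12,9]),(384,[]),(392,[]),(384,[]),(454,[0,8,14,13,6]),(393,[]),(384,[]),(392,[]),(384,[]),(1662,[0,4,7,14,4])],[0,9,14,10,12]),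
  (2,[8,13,4,14,3],[(1742,[6,11,2,12]),(213,[]),(188,[]),(1746,[2,2,9,6,8]),(1672,[])],[0,2,13,13,3]),
  (4,[0,11,12,9,5,3],[(1742,[0,9,10,7,3]),(213,[]),(184,[]),(990,[7,5,7,0]),(728,[]),(728,[]),(728,[]),(1890,[0,3,14,3,9]),(1720,[]),(1672,[]),(1668,[])],[0,14,9,5,0]),
  (4,[8,16,5,14,3],[(1742,[6,14,3,12]),(188,[]),(194,[0,8,4,12,4]),(92,[]),(92,[]),(72,[]),(146,[0,5,12,14,3]),(137,[]),(133,[]),(136,[]),(132,[])],[3,5,2,11,4]),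
  (1,[3,1,2,1,3],[(2130,[]),(1720,[])],[2,13,0,2,0]),
  (5,[7,13,8,8,3],[(1742,[5,11,6,6]),(212,[]),(1770,[9,4,3]),(1668,[]),(2086,[10,12,10,8]),(1720,[]),(1672,[]),(1668,[])],[0,8,2,12]),
  (5,[8,7,7,16,13,3],[(1742,[6,5,5,14,11]),(362,[11,8,6]),(188,[]),(184,[]),(1770,[10,12,14,14,6]),(1720,[]),(1672,[])],[2,10,7,10,13]),
  (5,[14,10,4,4,3],[(1742,[12,8,2,2]),(184,[]),(213,[]),(1698,[3,8,12,5,3]),(1672,[]),(2110,[4,15,2,10,5]),(1668,[]),(1720,[]),(1668,[])],[2,10,10,3,12]),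
  (6,[4,17,14,16,6,3],[(1742,[2,15,12,14,4]),(212,[]),(212,[]),(212,[]),(1738,[3,12,10,9,15]),(2078,[0,9,9,10,13]),(1668,[]),(1720,[])],[2,10,10,5,15]),
  (1,[2,6,17,13],[(2150,[]),(1672,[]),(1672,[])],[11,8,8,2]),
  (6,[6,5,7,10,17,3],[(1742,[4,3,5,8,15]),(188,[]),(184,[]),(218,[4,3,6,0,7]),(1746,[3,15,5,12,11])],[10,10,15,15])]
theorem hD4 : allD2 lk B KW KW F A RL R0 D4 432 = true := by decide +kernel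
def D5 : List (ℕ × Word × List (ℕ × Word) × Word) := [(6,[11,12,10,12,3],[(1742,[9,10,8,10]),(184,[]),(194,[2,0,5,14,12]),(106,[0,2,11,7]),(101,[]),(93,[]),(84,[])],[0,6,5,7,5]),
  (1,[3,1,3],[(2162,[]),(1668,[])],[2,14,11,13,0]),
  (7,[17,8,11,6,3],[(1742,[15,6,9,4]),(212,[]),(184,[]),(330,[2,7,10,15,15]),(93,[]),(101,[]),(92,[]),(146,[3,3,5,8,6]),(132,[]),(136,[]),(161,[]),(132,[])],[2,10,12,4,4]),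
  (1,[3,6,10,2,17],[(2170,[]),(1720,[]),(1673,[])],[4,6,14,8]),
  (4,[0,8,5,10,7,3,15,11,2],[(2142,[0,6,3,8,5]),(1668,[]),(2090,[0,10,2,8]),(1720,[]),(2078,[2,11,14,11])],[8,14,14,0]),
  (4,[11,11,4,11,3,15,11,2],[(2142,[9,9,2,9]),(1720,[]),(1673,[]),(1678,[3,9,15,2,9]),(213,[]),(189,[]),(185,[]),(1714,[6,3,8,8,15]),(1672,[]),(1672,[]),(1668,[])],[0,12,8,2,10]),
  (5,[4,9,5,10,6,3,15,11,2],[(2142,[2,7,3,8,4]),(1720,[]),(1672,[]),(1886,[0,12,9,9]),(732,[]),(732,[]),(1850,[0,5,13,0,15]),(1672,[]),(1672,[])],[3,3,11,4]),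
  (2,[7,17,4,7,3,1,2,1,3],[(1750,[5,15,2,5]),(188,[]),(188,[]),(1730,[12,4,10]),(1668,[]),(1720,[])],[0,4,9,0]),
  (5,[0,5,9,11,14,3,1,2,1,3],[(1750,[0,3,7,9,12]),(188,[]),(310,[0,10,13,7,8]),(213,[]),(213,[]),(184,[]),(1754,[3,15,5,10,6])],[6,9,7,10,4]),
  (6,[15,17,4,6,3,1,2,1,3],[(1750,[13,15,2,4]),(188,[]),(188,[]),(184,[]),(238,[13,5,6,9]),(213,[]),(213,[]),(1730,[6,5,8]),(1720,[]),(1673,[])],[12,15,7,8]),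
  (6,[0,4,13,9,14,3,1,2,1,3],[(1750,[0,2,11,7,12]),(189,[]),(270,[0,12,8,13,4]),(212,[]),(212,[]),(185,[]),(1730,[2,9,7,15]),(1720,[]),(1673,[]),(1668,[])],[15,4,0]),
  (6,[0,12,10,13,17,3,1,2,1,3],[(1750,[0,10,8,11,15]),(184,[]),(189,[]),(990,[0,2,14,8,7]),(732,[]),(732,[]),(729,[]),(1882,[5,13,0,9]),(1720,[]),(1673,[]),(1668,[])],[13,4,12,14]),
  (7,[4,16,5,5,14,3,1,2,1,3],[(1750,[2,14,3,3,12]),(185,[]),(314,[0,6,2,0,2]),(189,[]),(1754,[4,4,9,5]),(1672,[])],[0,8,0,9,2]),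
  (2,[5,17,7,5,9,3,4,12,9],[(1774,[3,15,5,3,7]),(384,[]),(424,[]),(392,[]),(380,[]),(1794,[2,15,15,2,15]),(1720,[]),(1673,[]),(1668,[])],[3,6,0,12,3]),
  (2,[0,11,8,4,16,3,4,12,9],[(1774,[0,9,6,2,14]),(424,[]),(392,[]),(1778,[3,15,2]),(1720,[])],[5,8,7,3]),
  (3,[8,5,0,8,3,4,12,9],[(1774,[6,3,0,6]),(392,[]),(424,[]),(393,[]),(1778,[3,12,5,7,0])],[2,12,7,3,9]),
  (5,[0,14,13,7,3,7,14,3,8],[(2062,[0,12,11,5]),(1720,[]),(1673,[]),(1668,[]),(2182,[3,13,11,3,6]),(1720,[]),(1673,[]),(2186,[10,7,10,7]),(1672,[])],[0,13,15,9,14]),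
  (2,[0,9,12,16,6,3,5,8,11],[(2118,[0,7,10,14,4]),(1720,[]),(1668,[]),(2190,[13,3,12,2]),(1668,[]),(1720,[])],[6,6,12,2]),
  (2,[8,13,10,10,2,7,3],[(2222,[6,11,8,8]),(2086,[3,12,15,8,6]),(1668,[])],[7,8,4,11]),
  (2,[8,14,4,7,3,14,3],[(2154,[6,12,2,5]),(1720,[]),(1672,[]),(2126,[2,13,0,15,6]),(1672,[]),(1672,[])],[0,10,6,9,3]),
  (2,[4,0,5,17,13,3,15,2,14],[(2030,[2,0,3,15,11]),(1309,[]),(1292,[]),(2050,[2,10,6,0,10]),(1720,[]),(1672,[])],[8,10,15,12]),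
  (6,[16,14,6,13,3,9,2,9],[(1870,[14,12,4,11]),(728,[]),(728,[]),(732,[]),(986,[2,9,12,11,8]),(188,[]),(188,[]),(354,[2,0,7,15,13])],[12,3,13,0,7]),
  (1,[3,15,2,14],[(2246,[]),(1720,[]),(1673,[])],[14,14,12,0]),
  (3,[0,11,12,4,12,3,13,7,14],[(1862,[0,9,10,2,10]),(732,[]),(732,[]),(728,[]),(1850,[6,9,3,13,10]),(1672,[])],[3,4,0,2,7]),
  (3,[13,9,15,15,3,7,11,13],[(1998,[11,7,13,13]),(1308,[]),(2002,[4,7,12,9])],[0,8,15,15,4]),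
  (100,[],[],[]),
  (1,[3],[(2262,[])],[]),
  (1,[],[(2266,[]),(620,[]),(616,[]),(612,[]),(2262,[0,4,15,3,14])],[]),
  (1,[],[(2266,[]),(660,[]),(637,[]),(660,[]),(612,[]),(2262,[2,5,5,9,12])],[]),
  (2,[0,4,11,16,7],[(726,[0,2,9,14,5]),(620,[]),(629,[]),(636,[]),(616,[]),(2262,[0,13,8,8,15])],[3,0,2,6,4]),
  (1,[3,12,2,4],[(2278,[]),(733,[])],[0,14,3,8,11]),
  (2,[4,6,11,4,8,3,1,2,1],[(1010,[2,4,9,2,6]),(620,[]),(661,[]),(616,[]),(2262,[14,5,5,8]),(2268,[])],[7,15,8,6]),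
  (1,[3,12,2,5],[(2286,[]),(728,[]),(732,[]),(728,[]),(728,[])],[2,4,6,8]),
  (2,[7,12,10,8,11,3,1,2,1],[(1010,[5,10,8,6,9]),(660,[]),(660,[]),(660,[]),(628,[]),(2262,[0,8,14,14,7])],[0,5,14,2,2]),
  (1,[3,7,14,3,8],[(2294,[]),(733,[]),(729,[]),(729,[])],[0,9,0,3,10]),
  (4,[13,5,11,11,3,1,2,1],[(1010,[11,3,9,9]),(661,[]),(628,[]),(608,[]),(1014,[6,6,10,3]),(728,[]),(728,[]),(728,[]),(2298,[0,11,11,14,11])],[9,6,4,10]),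
  (1,[3,4,11,4],[(2302,[]),(732,[]),(732,[]),(728,[]),(728,[])],[4,0,13,8,10]),
  (4,[7,17,15,13,5,3,7,14,3,8],[(1018,[5,15,13,11,3]),(732,[]),(934,[4,6,5,13,15]),(729,[]),(732,[]),(728,[]),(2290,[0,3,8,12,12]),(2268,[])],[0,10,3,8,12]),
  (1,[3,8],[(2310,[]),(729,[])],[0,8,3,0,3]),
  (5,[4,8,5,14,10,3,7,14,3,8],[(1018,[2,6,3,12,8]),(766,[2,0,7,5,7]),(729,[]),(729,[]),(733,[]),(728,[]),(2298,[6,12,8,5])],[2,6,5,3]),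
  (1,[3,6,12,9],[(2318,[]),(729,[]),(733,[])],[15,0,5,3]),
  (2,[0,5,10,5,0,3,5,10,14],[(1022,[0,3,8,3,0]),(729,[]),(729,[]),(732,[]),(2322,[7,4,8,12]),(2272,[])],[13,10,2,8]),
  (1,[3,1,15],[(2326,[]),(733,[]),(728,[]),(728,[]),(728,[])],[0,2,9,4,0]),
  (2,[7,12,15,12,9,3,5,10,14],[(1022,[5,10,13,10,7]),(728,[]),(733,[]),(728,[]),(728,[]),(2306,[0,6,6]),(2273,[])],[0,8,2,6,12]),
  (1,[2,8,3],[(2334,[]),(733,[]),(729,[]),(732,[]),(728,[]),(732,[]),(728,[])],[4,0]),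
  (7,[0,9,12,6,14,2,14,14],[(914,[0,7,10,4,12]),(732,[]),(728,[]),(728,[]),(766,[4,11,6,15,5]),(728,[]),(732,[]),(729,[]),(2314,[0,5,11,13,15]),(2268,[])],[12,3,10,15]),
  (1,[3,1,2,11],[(2342,[]),(732,[]),(732,[])],[2,4,6,6]),
  (4,[0,17,8,11,11,3,1,13,6],[(754,[0,15,6,9,9]),(729,[]),(729,[]),(1022,[0,5,11,6,14]),(729,[]),(733,[]),(728,[]),(2338,[6,4,10,6,5]),(2273,[])],[12,0,10,12]),
  (1,[3,1,3],[(2350,[]),(733,[]),(728,[]),(732,[]),(728,[])],[6,4,4,15]),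
  (2,[6,8,12,4,9],[(774,[4,6,10,2,7]),(637,[]),(661,[]),(608,[]),(608,[]),(2262,[0,5,13,3,3]),(2272,[])],[15,5,14,6,2]),
  (1,[3,13,2,5],[(2358,[]),(780,[]),(804,[])],[2,7,13,10]),
  (4,[4,17,4,11,3,1],[(2362,[2,15,2,9]),(2273,[]),(2334,[2,7,4,14,5]),(732,[]),(729,[]),(729,[]),(732,[]),(728,[]),(2354,[2,9,11,12]),(2268,[])],[0,5,9,14]),
  (1,[2,14,7,2],[(2366,[]),(788,[]),(784,[]),(776,[])],[0,6,8,8]),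
  (2,[4,4,11,5,9,3,1,3,1,2],[(906,[2,2,9,3,7]),(729,[]),(733,[]),(728,[]),(732,[]),(728,[]),(2330,[0,15,13,7,13])],[3,13,9,0,14]),
  (1,[3,4,2,5,14],[(2374,[]),(785,[]),(780,[])],[6,13,7,2,14]),
  (3,[0,15,4,7,9,3,1,3,1,2],[(906,[0,13,2,5,7]),(728,[]),(2306,[8,11,3,9])],[0,4,13,0,6]),
  (1,[3,4,16,9,2],[(2382,[]),(804,[]),(784,[]),(776,[])],[3,11,3,0]),
  (4,[6,15,5,9,2,17,14],[(970,[4,13,3,7]),(804,[]),(788,[]),(776,[]),(810,[15,2,4,6]),(776,[]),(780,[]),(776,[]),(2362,[0,7,10,2,6]),(2268,[])],[12,7,15,12]),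
  (1,[3,5,8,3],[(2390,[]),(788,[]),(780,[])],[3,7,14,4,2]),
  (6,[0,6,15,8,14,3,7,17,3,14],[(1446,[0,4,13,6,12]),(1288,[]),(1284,[]),(1646,[0,13,15,7,3]),(733,[]),(729,[]),(2306,[7,3,4,0,15]),(2272,[])],[0,15,15,6,13]),
  (1,[2,9,10,2],[(2398,[]),(780,[]),(784,[]),(780,[])],[10,15,13]),
  (2,[5,8,14,12,9,2,7,9],[(942,[3,6,12,10,7]),(729,[]),(733,[]),(729,[]),(2290,[10,9,3,10])],[0,4,14,8,2]),
  (1,[3,1,2,10],[(2406,[]),(784,[]),(776,[])],[2,6,11,12,11]),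
  (5,[0,15,11,13,2,4,11],[(1254,[0,13,9,11]),(1258,[5,2,2,13]),(805,[]),(776,[]),(785,[]),(2402,[6,6,0,8,8])],[2,11,4,7,2]),
  (1,[2,7,8,2],[(2414,[]),(804,[]),(784,[]),(776,[])],[9,0,10,6]),
  (2,[10,16,6,12,16,3,5,2,17,12],[(974,[8,14,4,10,14]),(805,[]),(780,[]),(788,[]),(776,[]),(2394,[0,15,12,6,14]),(2272,[])],[0,14,8,5]),
  (1,[3,4,3,6,5],[(2422,[]),(789,[]),(785,[])],[7,8,13]),
  (7,[7,16,0,12,5,3],[(1250,[5,14,0,10,3]),(185,[]),(212,[]),(990,[2,2,14,4,4]),(732,[]),(728,[]),(728,[]),(2314,[3,9,5,0,2]),(2272,[])],[4,9,3,15,6]),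
  (1,[3,7,5,3,6],[(2430,[]),(1220,[]),(1208,[]),(1220,[]),(1213,[]),(1204,[])],[13,3,8,4]),
  (7,[15,11,0,17,3,10,2,13],[(1534,[13,9,0,15]),(1308,[]),(1338,[6,9,13,13,5]),(661,[]),(608,[]),(628,[]),(609,[]),(2262,[0,9,10,15,13]),(2272,[])],[5,0,8,2]),
  (1,[3,16,12],[(2438,[]),(1308,[])],[0,7,2,0,5]),
  (2,[7,12,6,11,2,6,1,11],[(1442,[5,10,4,9]),(804,[]),(785,[]),(780,[]),(2426,[0,15,15,4,8]),(2273,[]),(2268,[])],[4,12,6,12]),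
  (1,[3,8,11,9],[(2446,[]),(1308,[]),(1316,[]),(1284,[])],[12,15,13,7]),
  (3,[13,10,12,5,3,5,8,1],[(1578,[11,8,10,3]),(1316,[]),(1292,[]),(1288,[]),(2450,[0,2,14,5,5]),(2273,[]),(2268,[])],[13,13,14,2]),
  (1,[2,1,13],[(2454,[]),(1308,[]),(1292,[])],[5,15,2,13]),
  (7,[4,8,8,11,9,3,1,3,15],[(2018,[2,6,6,9,7]),(1720,[]),(2022,[4,3,3,0]),(1316,[]),(1284,[]),(2442,[6,0,2]),(2268,[])],[3,11,15,3,10]),
  (1,[3,4,3,17],[(2462,[]),(1309,[]),(1316,[]),(1284,[])],[4,2,10,14]),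
  (5,[4,16,4,10,6,2,7,9],[(1502,[2,14,2,8,4]),(1309,[]),(1284,[]),(1550,[2,4,7,14,10]),(1316,[]),(1288,[]),(2442,[2,15,15,8,7]),(2272,[]),(2268,[])],[0,5,15,0,12]),
  (1,[2,1,3,15],[(2470,[]),(1292,[]),(1284,[])],[5,8,6,10]),
  (7,[4,7,11,17,13,2,7,9],[(1502,[2,5,9,15,11]),(1316,[]),(1308,[]),(1284,[]),(1646,[2,10,7,2,15]),(732,[]),(2314,[2,2,14,6]),(2268,[])],[0,4,2,7,11]),
  (1,[3,15,2,14,13],[(2478,[]),(1292,[]),(1288,[])],[7,0,14,14]),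
  (7,[12,11,15,11,2,7,9],[(1502,[10,9,13,9]),(1316,[]),(1292,[]),(1284,[]),(1534,[5,5,0,2,13]),(1316,[]),(1292,[]),(1284,[]),(2450,[0,15,12,2,6]),(2268,[])],[5,3,0,13,14]),
  (1,[3,15,11,3],[(2486,[]),(1308,[]),(1292,[])],[2,4,0,4,9]),
  (4,[4,8,12,11,16,3,7,17,13],[(1550,[2,6,10,9,14]),(1309,[]),(1284,[]),(1442,[3,9,12,4,11]),(776,[]),(2362,[2,7,3,4,13]),(2268,[])],[2,15,3,15,12]),
  (1,[3,15,4,3],[(2494,[]),(1309,[])],[0,3,3,15]),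
  (5,[6,14,16,13,7,3,7,17,13],[(1550,[4,12,14,11,5]),(1284,[]),(1626,[2,12,14,9,9]),(1316,[]),(1292,[]),(2450,[2,2,9,9])],[0,11,12,10,12]),
  (1,[2,1,3],[(2502,[]),(1308,[]),(1308,[])],[0,4,10,5,10]),
  (2,[0,8,13,11,0,3,1,3,15,3],[(1634,[0,6,11,9,0]),(1308,[]),(2458,[3,3,9,11,14])],[2,0,7,11]),
  (1,[3,5,8,1,3],[(2510,[]),(1308,[]),(1308,[])],[3,3,0,4,4]),
  (3,[12,11,13,8,3,9,2,9],[(1646,[10,9,11,6]),(733,[]),(728,[]),(732,[]),(729,[]),(732,[]),(2354,[0,9,14,10])],[3,13,2,5,0]),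
  (1,[3,7,11,3,10],[(2518,[]),(1308,[]),(1316,[]),(1284,[])],[5,0,13,6,6]),
  (3,[4,16,9,4,11,3,9,2,9],[(1646,[2,14,7,2,9]),(732,[]),(728,[]),(732,[]),(728,[]),(728,[]),(2354,[0,4,3,5,3]),(2268,[])],[5,15,12,3,14]),
  (1,[3,6,2,10,16],[(2526,[]),(1316,[]),(1308,[]),(1308,[])],[15,15,4,13]),
  (3,[13,16,15,5,3,12,2,12],[(1370,[11,14,13,3]),(732,[]),(732,[]),(728,[]),(728,[]),(728,[]),(2322,[9,6,11,12]),(2272,[])],[12,5,6,4]),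
  (1,[3,4,2,12,17],[(2534,[]),(1309,[]),(1316,[])],[8,11,5,0]),
  (3,[0,17,11,8,4,3,12,2,12],[(1370,[0,15,9,6,2]),(728,[]),(732,[]),(728,[]),(2314,[5,14,3,9,10]),(2268,[])],[4,12,15,4]),
  (1,[2,4,9,2],[(2542,[]),(1292,[]),(1284,[])],[7,10,2,6]),
  (5,[15,5,6,10,3,11,9,2],[(1450,[13,3,4,8]),(1084,[]),(1198,[6,2,15,2]),(1213,[]),(1213,[]),(1209,[]),(1204,[]),(2434,[0,6,2,11,13]),(2273,[])],[2,12,14,11,6]),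
  (1,[3,11,6,3],[(2550,[]),(1284,[])],[7,10,9,4]),
  (6,[6,12,17,9,6,3,11,9,2],[(1450,[4,10,15,7,4]),(1092,[]),(1108,[]),(1188,[]),(1454,[5,5,7,0,9]),(1316,[]),(1292,[]),(1288,[]),(2498,[3,12,2,15,7]),(2273,[]),(2268,[])],[3,13,5,2]),
  (1,[3,6,10,2,8],[(2558,[]),(1288,[])],[15,3,14,0]),
  (2,[13,16,6,12,2,15,9],[(1622,[11,14,4,10]),(1309,[]),(1284,[]),(2546,[3,9,12,12,5])],[7,3,9,10]),
  (1,[3,1,3,14,17],[(2566,[]),(1292,[]),(1284,[])],[2,2,8,14]),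
  (3,[5,7,7,17,6,2,15,9],[(1622,[3,5,5,15,4]),(1316,[]),(1288,[]),(2466,[0,13,0,15,9])],[4,7,4,10]),
  (1,[3,4,2,4,16],[(2574,[]),(1308,[])],[3,9,5,0]),
  (4,[7,17,10,2,15,9],[(1622,[5,15,8]),(1316,[]),(1308,[]),(1534,[2,8,4,9,6]),(1288,[]),(1284,[]),(2562,[0,4,12,5,7]),(2273,[]),(2268,[])],[2,12,15,8,3]),
  (1,[3,15,2,5],[(2582,[]),(1309,[]),(1288,[])],[7,12,11,6]),
  (2,[15,17,15,11,3,11,3,13,17],[(1426,[13,15,13,9]),(805,[]),(780,[]),(2394,[0,3,4,11,2]),(2273,[])],[3,3,3,7,2])]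
theorem hD5 : allD2 lk B KW KW F A RL R0 D5 540 = true := by decide +kernel
end
end CA.J4M
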