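import Cfsg.Agent.Lib.Spor.J4M

/-! Derivations of the double coset table of `J₄`. -/

set_option autoImplicit false
set_option maxRecDepth 100000
set_option linter.all false
namespace CA.J4M
open CA.CNet CA.CWord CA.CLevel CA.CSimple CA.CPoint CA.CLow CA.CTodd CA.TCos
noncomputable section

def D6 : List (ℕ × Word × List (ℕ × Word) × Word) := [(1,[3,1,2,5,10],[(2590,[]),(1309,[])],[0,14,12,12,10]),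
  (4,[0,10,10,13,7,2,11,16],[(1570,[0,8,8,11,5]),(188,[]),(184,[]),(858,[4,6,5,5,13]),(804,[]),(789,[]),(2394,[0,7,13,0,2]),(2272,[])],[5,6,8,7,8]),
  (1,[2,6,3,7],[(2598,[]),(1288,[]),(1284,[])],[14,4,4,13]),
  (5,[6,13,4,16,7,2,11,16],[(1570,[4,11,2,14,5]),(212,[]),(188,[]),(184,[]),(1514,[0,3,6,13,8]),(1308,[]),(2490,[0,14,3,9,10])],[0,13,2,12,12]),
  (1,[3,16,2,8,3],[(2606,[]),(1292,[]),(1284,[])],[0,9,0,2,12]),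
  (6,[7,0,6,17,0,3,5,14,2],[(2594,[5,0,4,15,0]),(2272,[]),(2430,[3,10,3,0,12]),(1220,[]),(1209,[]),(1204,[]),(1220,[]),(1204,[]),(2434,[4,2,11,15]),(2273,[]),(2268,[])],[6,4,8,4]),
  (1,[2,9,2,12],[(2614,[]),(1292,[]),(1284,[])],[2,12,9,11,7]),
  (2,[4,13,11,7,16,3,1,2,10],[(1542,[2,11,9,5,14]),(1292,[]),(2546,[0,9,15,3,4]),(2268,[])],[3,13,3,12,10]),
  (1,[3,1,7,2,7],[(2622,[]),(1316,[]),(1292,[])],[4,10,15,15,13]),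
  (2,[0,5,5,7,16,3,5,3,9,12],[(1658,[0,3,3,5,14]),(1292,[]),(2594,[12,0,15,8])],[0,4,15,5,8]),
  (1,[3,1,13,2],[(2630,[]),(1308,[]),(1308,[])],[4,6,3,4,14]),
  (5,[4,13,17,12],[(1666,[2,11,15,10]),(380,[]),(424,[]),(1302,[4,6,9,15,0]),(1308,[]),(1292,[]),(2626,[8,0,10])],[3,0,8,11]),
  (1,[3,7,8,5],[(2638,[]),(1720,[]),(1673,[])],[2,10,13,15,10]),
  (5,[0,11,15,4,17,2],[(2186,[0,9,13,2,15]),(1720,[]),(1673,[]),(1668,[]),(2014,[4,2,12,12,3]),(1292,[]),(2570,[14,5,0,12]),(2273,[]),(2268,[])],[2,5,15,5,0]),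
  (1,[3,17,5,11],[(2646,[]),(1720,[]),(1668,[])],[2,0,6,4]),
  (6,[5,0,12,4,8,3,15,11,2],[(2142,[3,0,10,2,6]),(1673,[]),(1668,[]),(2046,[0,3,11,8,6]),(1308,[]),(2618,[2,6,15,10,12]),(2272,[]),(2268,[])],[5,9,5,14]),
  (1,[3,1,3,14,6,14],[(2654,[]),(1720,[]),(1672,[])],[2,5,14,13,14]),
  (4,[0,6,9,17,10,3,7,14,3,8],[(2062,[0,4,7,15,8]),(1673,[]),(1668,[]),(2014,[0,15,3,0,12]),(1308,[]),(1284,[]),(2514,[0,3,14,6,12]),(2273,[])],[2,5,0,2]),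
  (1,[3,4,2,8,3],[(2662,[]),(1720,[]),(1668,[])],[4,0,13,0,12]),
  (5,[15,11,6,16,3,7,14,3,8],[(2062,[13,9,4,14]),(1672,[]),(1668,[]),(1910,[10,3,10,6]),(788,[]),(784,[]),(2426,[13,7,8,15])],[10,10,3,0]),
  (1,[3,11,12,7],[(2670,[]),(1720,[]),(1668,[])],[6,4,13]),
  (5,[8,13,7,9,17,3,7,14,3,8],[(2062,[6,11,5,7,15]),(1720,[]),(1672,[]),(1942,[12,3,14,14]),(780,[]),(785,[]),(2410,[0,13,3,7,4])],[3,4,9,2,6]),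
  (1,[3,8,15,3],[(2678,[]),(1668,[]),(1720,[]),(1668,[])],[6,10,6,3]),
  (7,[10,12,15,0,3,7,14,3,8],[(2062,[8,10,13,0]),(1720,[]),(1673,[]),(2238,[14,0,10]),(1672,[]),(2666,[3,6,0,10]),(2273,[]),(2268,[])],[4,0,11,2,4]),
  (1,[3,6,2,11,12],[(2686,[]),(1673,[]),(1668,[])],[3,9,3,13]),
  (2,[0,6,5,3,5,8,11],[(2118,[0,4,3]),(1668,[]),(2674,[0,5,3,4,11])],[15,13,13,14]),
  (1,[2,12],[(2694,[]),(1720,[]),(1673,[]),(1668,[])],[0,7,5,2,6]),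
  (2,[10,4,13,4,3,5,8,11],[(2118,[8,2,11,2]),(1720,[]),(1672,[]),(1668,[]),(2698,[0,8,0,8,6]),(2272,[])],[2,10,12,12]),
  (1,[3,14,1],[(2702,[])],[7,4,15,8]),
  (2,[15,9,10,13,3,5,8,11],[(2118,[13,7,8,11]),(1668,[]),(2690,[15,0,2,15]),(2268,[])],[3,14,13,0]),
  (1,[3,1,2,1,2],[(2710,[]),(1672,[])],[6,15,2,14]),
  (5,[5,13,15,13,3,5,8,11],[(2118,[3,11,13,11]),(1720,[]),(1668,[]),(2146,[3,9,5,7,8]),(1673,[]),(1668,[]),(2658,[3,9,3]),(2272,[]),(2268,[])],[2,15,3,10,5]),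
  (1,[3,5,12,2],[(2718,[]),(1720,[]),(1672,[]),(1668,[])],[0,12,6,8,5]),
  (7,[7,11,4,11,3,5,8,11],[(2118,[5,9,2,9]),(1668,[]),(1720,[]),(1668,[]),(1878,[10,5,6,13,15]),(732,[]),(729,[]),(729,[]),(732,[]),(728,[]),(2338,[9,7,0,2]),(2268,[])],[3,13,13]),
  (1,[3,11,14,2],[(2726,[])],[0,2,9,7,5]),
  (6,[0,5,8,7,12,3,7,17,3,14],[(2218,[0,3,6,5,10]),(1672,[]),(2154,[2,15,4,0,3]),(1673,[]),(2666,[4,14,5,5,0]),(2273,[])],[2,6,14,12,11]),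
  (1,[3,5,2,13,4],[(2734,[]),(1672,[]),(1672,[]),(1668,[])],[0,14,13,9,3]),
  (3,[4,16,7,14,17,2,6,1,11],[(2190,[2,14,5,12,15]),(1672,[]),(1672,[]),(1668,[]),(2738,[0,3,15,0,8])],[2,7,11,7,2]),
  (1,[3,4,2,8,17],[(2742,[]),(1668,[]),(1720,[]),(1668,[])],[0,8,3]),
  (4,[5,9,13,9,2,4,11,2],[(2698,[3,7,11,7]),(2272,[]),(2302,[4,11,11,8,6]),(728,[]),(733,[]),(2306,[4,6,8,13,2]),(2273,[])],[0,7,3,4,14]),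
  (1,[3,15,2,6],[(2750,[])],[0,5,11,4]),
  (4,[8,4,17,5,10,2,4,11,2],[(2698,[6,2,15,3,8]),(2272,[]),(2318,[13,15,4,3]),(732,[]),(729,[]),(732,[]),(729,[]),(2338,[8,0,14,11])],[2,11,5,5,12]),
  (1,[3,1,10,2,15],[(2758,[]),(1668,[]),(1720,[]),(1668,[])],[2,2,14,14,0]),
  (2,[8,17,11,8,3,14,3],[(2154,[6,15,9,6]),(1673,[]),(2682,[14,14,5,10]),(2273,[]),(2268,[])],[0,3,6,6,5]),
  (1,[2,15,2,7,10],[(2766,[]),(1672,[])],[0,8,8,12,3]),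
  (2,[4,7,0,7,16,3,14,3],[(2154,[2,5,0,5,14]),(1672,[]),(1672,[]),(1668,[]),(2682,[8,6,8,5]),(2268,[])],[4,11,2,12,7]),
  (1,[3,5,2,1,7],[(2774,[]),(1720,[]),(1673,[])],[0,9,14,13]),
  (2,[8,0,13,10,3,14,3],[(2154,[6,0,11,8]),(1720,[]),(1672,[]),(2682,[0,4,10,13,6]),(2272,[])],[8,2,15,5]),
  (1,[3,10,8,2],[(2782,[]),(1673,[]),(1668,[])],[3,4,12,2,11]),
  (5,[0,9,16,11,14,3,14,3],[(2154,[0,7,14,9,12]),(1673,[]),(1668,[]),(2206,[6,9,14,0,8]),(1720,[]),(1672,[]),(1668,[]),(2650,[0,10,14,6,15]),(2272,[])],[0,8,8,0,15]),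
  (1,[3,5,8,4],[(2790,[]),(1720,[]),(1672,[])],[13,9,11,4]),
  (7,[10,5,10,6,3,14,3],[(2154,[8,3,8,4]),(2210,[2,0,8,6,13]),(2682,[4,14,0,9])],[4,3,14,10,6]),
  (1,[2,13,2,1],[(2798,[]),(1672,[]),(1672,[]),(1668,[])],[2,4,8,6,5]),
  (7,[17,13,6,10,3,17,10,9],[(2738,[15,11,4,8]),(2574,[7,0,10,15,10]),(1288,[]),(2586,[0,15,0,2,2]),(2268,[])],[3,0,11,13,3]),
  (1,[2,4,17,12],[(2806,[]),(1672,[]),(1668,[])],[11,4,4]),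
  (2,[0,9,16,4,3,15,2,14],[(2030,[0,7,14,2]),(1309,[]),(1316,[]),(2506,[4,0,11,12])],[14,5,7,12]),
  (1,[3,13,5],[(2814,[])],[8,7,8,3]),
  (2,[11,15,17,3,15,2,14],[(2030,[9,13,15]),(1288,[]),(1284,[]),(2522,[3,9,2,9,13]),(2272,[]),(2268,[])],[9,10,2,12]),
  (1,[3,1,7,2,9],[(2822,[]),(1672,[]),(1668,[])],[0,5,7,0,12]),
  (2,[10,7,4,8,3,15,2,14],[(2030,[8,5,2,6]),(1308,[]),(1308,[]),(2514,[3,13,6,3,6]),(2273,[]),(2268,[])],[6,9,3,3,13]),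
  (1,[3,1,3,15,11],[(2830,[]),(1672,[]),(1668,[])],[0,11,8,10,2]),
  (3,[4,9,13,3,15,2,14],[(2030,[2,7,11]),(1308,[]),(1316,[]),(2474,[12,15,3,8]),(2273,[])],[4,9,14,3]),
  (1,[3,12,12,5],[(2838,[]),(1668,[])],[2,6,2,4]),
  (5,[4,9,17,15,3,15,2,14],[(2030,[2,7,15,13]),(1292,[]),(1284,[]),(1578,[5,11,5,14,13]),(1308,[]),(1316,[]),(1284,[]),(2450,[15,15,11,11]),(2272,[]),(2268,[])],[13,3,5,9]),
  (1,[2,12,3,10],[(2846,[]),(1672,[]),(1672,[]),(1668,[])],[13,10,15,3]),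
  (5,[0,8,7,9,12,3,15,2,14],[(2030,[0,6,5,7,10]),(1308,[]),(1284,[]),(1510,[0,7,13,0,2]),(1292,[]),(1288,[]),(2482,[2,12,14,6,5]),(2273,[]),(2268,[])],[9,15,9,14]),
  (1,[2,4,2,8],[(2854,[])],[4,15,5,7]),
  (5,[7,0,16,13,3,15,2,14],[(2030,[5,0,14,11]),(1308,[]),(1288,[]),(1534,[11,14,13,14]),(1292,[]),(2482,[3,4,8,7])],[2,10,5,8,5]),
  (1,[3,6,1],[(2862,[]),(1672,[]),(1672,[])],[0,2,11,6,9]),
  (5,[0,9,5,7,10,3,15,2,14],[(2030,[0,7,3,5,8]),(1284,[]),(1434,[2,7,10,13]),(776,[]),(2418,[0,2,8,8,2]),(2273,[])],[11,7,10,3]),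
  (1,[3,14,2,16],[(2870,[]),(1672,[]),(1668,[])],[4,13,2,7]),
  (7,[14,5,8,17,3,15,2,14],[(2030,[12,3,6,15]),(1316,[]),(1292,[]),(1284,[]),(1646,[0,4,9,15,10]),(733,[]),(728,[]),(732,[]),(728,[]),(728,[]),(2354,[8,3,13,10]),(2273,[]),(2268,[])],[4,0,5,3,5]),
  (1,[2,8,13],[(2878,[]),(1720,[]),(1672,[])],[5,15,2,7,4]),
  (2,[0,9,17,15,15,2,4,11],[(1910,[0,7,15,13,13]),(789,[]),(784,[]),(2410,[0,7,13,11,2])],[0,15,9,2,6]),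
  (1,[2,12,8,14],[(2886,[]),(1668,[]),(1720,[]),(1668,[])],[8,6,12,4]),
  (2,[0,5,11,16,0,2,4,11],[(1910,[0,3,9,14,0]),(776,[]),(784,[]),(2418,[3,13,0,11,9]),(2273,[])],[3,4,7,12,11]),
  (1,[3,6,3,9],[(2894,[]),(1720,[]),(1668,[])],[10,10,8,4,14]),
  (4,[6,6,6,4,10,2,4,11],[(1910,[4,4,4,2,8]),(785,[]),(1414,[0,14,12,3]),(1308,[]),(1316,[]),(2538,[0,10,6,4,0]),(2272,[])],[13,5,13,15]),
  (1,[3,8,1,3],[(2902,[]),(1668,[]),(1720,[]),(1668,[])],[0,2,11,12,11]),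
  (2,[4,17,11,7,5,3,14,2],[(2046,[2,15,9,5,3]),(1292,[]),(1288,[]),(2578,[12,5,6,6])],[15,8,4,7]),
  (1,[3,16,15,2,5],[(2910,[]),(1720,[])],[15,0,4,8]),
  (2,[5,7,17,15,16,3,14,2],[(2046,[3,5,15,13,14]),(1316,[]),(1288,[]),(2562,[10,9,2,15]),(2273,[])],[8,3,7,0]),
  (1,[3,8,10,3],[(2918,[]),(1672,[]),(1672,[])],[6,3,15,13]),
  (3,[0,7,10,8,3,14,2],[(2046,[0,5,8,6]),(1308,[]),(1292,[]),(2586,[2,7,3]),(2273,[])],[0,8,0,13,2]),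
  (1,[3,8,3,1],[(2926,[]),(1672,[]),(1672,[])],[15,10,15]),
  (3,[6,10,15,8,3,14,2],[(2046,[4,8,13,6]),(1292,[]),(1288,[]),(2498,[3,13,15,3,13]),(2272,[]),(2268,[])],[11,12,12,4]),
  (1,[3,5,9,6,3],[(2934,[]),(1672,[]),(1672,[]),(1668,[])],[3,4,9,13,13]),
  (6,[4,4,10,10,16,3,14,2],[(2046,[2,2,8,8,14]),(1309,[]),(1316,[]),(1284,[]),(2042,[0,6,2,8,5]),(1720,[]),(1672,[]),(1668,[]),(2802,[12,3,7,4]),(2273,[]),(2268,[])],[5,7,10,4,15]),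
  (1,[3,1,3,4,10],[(2942,[]),(1668,[]),(1720,[]),(1668,[])],[5,11,5,9,6]),
  (7,[8,17,17,4,3,14,2],[(2046,[6,15,15,2]),(1308,[]),(1316,[]),(1284,[]),(1646,[4,7,2,2,6]),(729,[]),(732,[]),(729,[]),(2338,[13,6,6,5]),(2273,[])],[3,3,14,3]),
  (1,[2,14,7,3],[(2950,[]),(1720,[]),(1673,[])],[6,0,3,11,13]),
  (4,[5,10,8,0,10,3,5,12,2],[(1918,[3,8,6,0,8]),(789,[]),(1930,[12,3,6,14]),(1672,[]),(1672,[]),(1668,[]),(2786,[0,2,10,8]),(2273,[]),(2268,[])],[2,4,15,4,0]),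
  (1,[3,7,2,15,12],[(2958,[]),(1668,[])],[4,15,3,0,4]),
  (4,[4,10,6,11,15,3,1,3,15,3],[(2842,[2,8,4,9,13]),(2606,[13,7,11,14]),(1316,[]),(1288,[]),(1284,[]),(2578,[2,11,13,5]),(2268,[])],[0,14,3,9,4]),
  (1,[3,5,12,6],[(2966,[]),(1668,[])],[9,15,2,15]),
  (7,[6,5,0,15,8,3,1,3,15,3],[(2842,[4,3,0,13,6]),(2272,[]),(2726,[13,4,14,11]),(1720,[]),(1672,[]),(2826,[0,14,8,7,12]),(2268,[])],[6,2,5,15,4]),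
  (1,[3,4,2,16],[(2974,[])],[14,4,4,3]),
  (4,[0,4,0,7,3,5,2,1,7],[(2810,[0,2,0,5]),(2272,[]),(2870,[2,13,8,11,2]),(1668,[]),(2914,[0,8,12,7,11]),(2272,[]),(2268,[])],[2,4,11,15,15]),
  (1,[3,1,9,7,3],[(2982,[]),(1668,[]),(1720,[])],[2,4,9,11,2]),
  (5,[4,0,5,6,4,3,5,2,1,7],[(2810,[2,0,3,4,2]),(2273,[]),(2430,[0,15,13,5,5]),(1209,[]),(1220,[]),(1209,[]),(2434,[2,5,5,7]),(2272,[]),(2268,[])],[9,5,8,0]),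
  (1,[3,5,9,10],[(2990,[]),(1720,[]),(1668,[])],[2,4,12,8]),
  (2,[0,4,7,16,5,3,14,2,1],[(1894,[0,2,5,14,3]),(733,[]),(728,[]),(728,[]),(728,[]),(2314,[6,14,8,11])],[2,4,13,9,11]),
  (1,[3,5,3,11,7],[(2998,[]),(1668,[])],[3,5,5,11,14]),
  (7,[0,14,4,15,7,3,14,2,1],[(1894,[0,12,2,13,5]),(733,[]),(728,[]),(732,[]),(729,[]),(732,[]),(728,[]),(1890,[9,5,6,5]),(1720,[]),(2818,[12,12,2,7]),(2268,[])],[0,10,9,3,13]),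
  (1,[3,14,2,1],[(3006,[]),(1668,[])],[2,6,0,9,14]),
  (2,[5,0,8,4,6,3,9,2,9],[(1870,[3,0,6,2,4]),(732,[]),(732,[]),(728,[]),(728,[]),(2306,[3,9,10,13,11])],[0,13,2,8]),
  (1,[3,1,5,5,15],[(3014,[]),(1668,[])],[2,7,2,15]),
  (6,[5,6,11,9,7,3,9,2,9],[(1870,[3,4,9,7,5]),(728,[]),(733,[]),(728,[]),(1642,[9,6,3,12]),(1309,[]),(1316,[]),(2458,[15,3,5,2]),(2268,[])],[7,3,12,12])]
theorem hD6 : allD2 lk B KW KW F A RL R0 D6 648 = true := by decide +kernel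
def D7 : List (ℕ × Word × List (ℕ × Word) × Word) := [(1,[3,6,11,3],[(3022,[]),(1720,[]),(1668,[])],[3,8,5,8,4]),
  (6,[4,13,15,11,12,3,7,11,16],[(2102,[2,11,13,9,10]),(1720,[]),(1673,[]),(2242,[0,14,4,8,5]),(1668,[]),(1720,[]),(1668,[]),(2818,[7,2,10,8]),(2273,[])],[0,15,3,7,4]),
  (1,[2,6,17,2],[(3030,[]),(1720,[]),(1673,[])],[0,8,11,9,14]),
  (5,[14,11,14,11,2,8,13],[(2714,[12,9,12,9]),(3022,[7,5,12,9]),(1668,[]),(1720,[]),(1668,[]),(2770,[0,2,14,4,10]),(2268,[])],[0,7,12,15,13]),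
  (1,[2,5,15,3],[(3038,[]),(1673,[])],[3,12,9,12,8]),
  (5,[13,10,12,14,2,8,13],[(2714,[11,8,10,12]),(2478,[0,15,0,6,4]),(1308,[]),(1284,[]),(2610,[3,14,14,9,2]),(2273,[]),(2268,[])],[2,2,7,14,6]),
  (1,[3,5,11,2],[(3046,[]),(1668,[])],[13,6,0,9]),
  (5,[0,17,0,14,17,3,14,3,14],[(2906,[0,15,0,12,15]),(2268,[]),(2614,[5,13,3,11,7]),(1309,[]),(2482,[2,5,9,7,5]),(2272,[])],[12,8,10,8]),
  (1,[2,4],[(3054,[]),(1720,[]),(1673,[]),(1668,[])],[0,14,14,3,4]),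
  (6,[0,9,11,13,13,3,13,2,12],[(1814,[0,7,9,11,11]),(533,[]),(1834,[0,15,4,11,2]),(2986,[2,0,5,0])],[4,10,2,11]),
  (1,[3,4,3,1,6],[(3062,[]),(1720,[]),(1672,[]),(1668,[])],[4,8,15,15,2]),
  (2,[8,15,6,17,2,13,3,16],[(2146,[6,13,4,15]),(1720,[]),(1668,[]),(3042,[5,6,15,7]),(2268,[])],[5,6,6,11,2]),
  (1,[3,17,3,13,14],[(3070,[])],[10,8,5,2,13]),
  (2,[0,12,9,12,17,3,8,15],[(1950,[0,10,7,10,15]),(805,[]),(776,[]),(2410,[7,4,0,10]),(2272,[]),(2268,[])],[2,14,5,3,10]),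
  (1,[3,11,13,10],[(3078,[])],[4,9,7]),
  (2,[17,7,16,5,3,12,3,12],[(2230,[15,5,14,3]),(1668,[]),(3042,[4,11,5,0]),(2273,[])],[0,9,15,15,10]),
  (1,[3,10,1,3,11],[(3086,[]),(1720,[]),(1668,[])],[6,6,15,8,0]),
  (6,[9,6,16,15,3,6,1,5],[(2954,[7,4,14,13]),(2272,[]),(2750,[3,11,9,4,12]),(1673,[]),(2842,[12,12,11,6])],[8,0,7,3]),
  (1,[3,5,15,4],[(3094,[]),(1668,[]),(1720,[])],[15,3,15,0]),
  (7,[6,12,11,12,3,13,7,14],[(1862,[4,10,9,10]),(732,[]),(728,[]),(732,[]),(729,[]),(732,[]),(1890,[6,13,8,12]),(1720,[]),(1672,[]),(1668,[]),(3042,[6,14,11]),(2268,[])],[0,3,5,6]),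
  (1,[3,1,11,14],[(3102,[]),(1672,[]),(1672,[]),(1668,[])],[0,3,3,7,14]),
  (6,[5,16,11,4,12,3,1,2,10,3],[(2818,[3,14,9,2,10]),(2272,[]),(3038,[7,5,10,3]),(1672,[]),(2818,[2,7,2,0,7]),(2272,[])],[0,7,9,4,4]),
  (1,[3,7,8,2],[(3110,[]),(1672,[])],[5,12,3,9]),
  (2,[4,15,8,16,12,2,6,17,13],[(2150,[2,13,6,14,10]),(1720,[]),(1668,[]),(2922,[3,0,8,12,14]),(2268,[])],[4,14,9,14,7]),
  (1,[3,10,8,15],[(3118,[]),(1668,[])],[15,7,5,6]),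
  (4,[8,14,14,10,13,3,8,1,3],[(1822,[6,12,12,8,11]),(549,[]),(540,[]),(1834,[0,3,15,13,9]),(1673,[]),(2810,[14,11,13,9]),(2273,[]),(2268,[])],[7,14,9,9]),
  (1,[3,1,15,12,2],[(3126,[]),(1673,[]),(1668,[])],[9,14,6,0]),
  (2,[5,14,0,6,3,1,11,2,16],[(2058,[3,12,0,4]),(1720,[]),(2962,[3,12,7,12,6]),(2273,[]),(2268,[])],[6,10,2,11]),
  (1,[3,6,4,3,7],[(3134,[]),(1672,[]),(1672,[])],[9,2,7,11]),
  (2,[5,16,9,13,8],[(2266,[3,14,7,11,6]),(660,[]),(608,[]),(2262,[0,14,6,2,15]),(2273,[]),(2268,[])],[5,2,10,2,11]),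
  (2,[8,11,5,5,15],[(2266,[6,9,3,3,13]),(620,[]),(608,[]),(608,[]),(2262,[0,4,4,4,4])],[5,8,13,8,4]),
  (2,[4,12,15,7,17],[(2266,[2,10,13,5,15]),(660,[]),(637,[]),(660,[]),(616,[]),(2262,[2,9,9,14,2]),(2272,[])],[9,5,8]),
  (2,[10,14,4,16],[(2266,[8,12,2,14]),(608,[]),(628,[]),(608,[]),(608,[]),(2262,[0,15,12,3,4])],[4,9,5,5,2]),
  (2,[0,9,10,10,17],[(2266,[0,7,8,8,15]),(620,[]),(660,[]),(620,[]),(609,[]),(2262,[4,9,14,11,7])],[3,14,10,6,15]),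
  (2,[0,8,4,15,5],[(2266,[0,6,2,13,3]),(660,[]),(660,[]),(660,[]),(2262,[0,12,8,0,2]),(2268,[])],[0,14,12,11]),
  (2,[0,13,5,16,8],[(2266,[0,11,3,14,6]),(608,[]),(636,[]),(608,[]),(608,[]),(2262,[0,9,14,3,3]),(2268,[])],[15,5,13,5]),
  (3,[14,12,5,17],[(2266,[12,10,3,15]),(637,[]),(612,[]),(2262,[2,0,14,9,5])],[0,12,4,0]),
  (4,[0,14,7,8,12],[(2266,[0,12,5,6,10]),(628,[]),(642,[0,10,3,0,13]),(660,[]),(660,[]),(616,[]),(636,[]),(2262,[5,12,15,13]),(2268,[])],[3,11,13,7,10]),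
  (4,[0,16,16,5,14],[(2266,[0,14,14,3,12]),(636,[]),(629,[]),(609,[]),(1342,[0,6,10,9,12]),(1292,[]),(2634,[3,13,2,2]),(2272,[])],[4,11,12,10,12]),
  (4,[11,14,16,10],[(2266,[9,12,14,8]),(629,[]),(660,[]),(629,[]),(1014,[2,7,0,4,10]),(733,[]),(728,[]),(732,[]),(729,[]),(2354,[10,5,12,15,11]),(2268,[])],[8,0,14,11]),
  (4,[0,7,9,13,13],[(2266,[0,5,7,11,11]),(628,[]),(637,[]),(628,[]),(612,[]),(1342,[6,3,0,15]),(1308,[]),(1284,[]),(2626,[0,3,6,10,9])],[0,5,10,9]),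
  (5,[10,10,12,5],[(2266,[8,8,10,3]),(612,[]),(637,[]),(1342,[11,11,2,6]),(1308,[]),(1284,[]),(2554,[0,3,11,8,8]),(2273,[]),(2268,[])],[2,4,2,8]),
  (5,[16,11,6,15],[(2266,[14,9,4,13]),(612,[]),(660,[]),(660,[]),(620,[]),(1342,[2,2,15,9,6]),(1316,[]),(1292,[]),(1284,[]),(2522,[0,6,3,5]),(2273,[]),(2268,[])],[0,10,13,7,8]),
  (1,[3,1,3,10,4],[(3194,[])],[14,9,5,2]),
  (6,[0,10,4,14,16],[(2266,[0,8,2,12,14]),(629,[]),(620,[]),(637,[]),(770,[0,4,3,14]),(788,[]),(780,[]),(2410,[5,5,7,4])],[3,0,5,10]),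
  (1,[3,13,11,11],[(3202,[])],[12,6,4,12]),
  (6,[5,16,11,6],[(2266,[3,14,9,4]),(616,[]),(608,[]),(722,[5,2,13,13,2]),(732,[]),(728,[]),(728,[]),(2298,[8,10,9,3]),(2273,[])],[8,11,12,7]),
  (1,[3,13,8],[(3210,[]),(2272,[])],[5,10,14,11,12]),
  (2,[5,13,15,15,10,3,1,3],[(2350,[3,11,13,13,8]),(733,[]),(729,[]),(732,[]),(728,[]),(732,[]),(2354,[2,9,13,6,8])],[10,15,6,8]),
  (1,[2,1,2],[(3218,[]),(2273,[])],[0,3,6,2,10]),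
  (2,[8,5,12,5,11,3,1,3],[(2350,[6,3,10,3,9]),(732,[]),(728,[]),(732,[]),(728,[]),(2354,[13,7,13])],[0,9,13,15,10]),
  (2,[0,14,13,5,10,3,1,3],[(2350,[0,12,11,3,8]),(2354,[3,11,5,12,10]),(2273,[])],[5,7,14,6,9]),
  (2,[9,0,15,7,3,1,3],[(2350,[7,0,13,5]),(729,[]),(732,[]),(728,[]),(728,[]),(2354,[5,13,3,6,12])],[0,8,12,12,5]),
  (2,[7,15,0,7,3,1,3],[(2350,[5,13,0,5]),(1002,[0,8,3,15,8]),(508,[]),(504,[]),(508,[]),(504,[])],[4,6,11,13]),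
  (1,[3,1,2,1,2],[(3238,[]),(2273,[])],[4,13,4,2]),
  (2,[6,17,5,10,3,1,3],[(2350,[4,15,3,8]),(728,[]),(732,[]),(729,[]),(2346,[2,2,10,8])],[7,11,3,9]),
  (1,[3,5,1,17],[(3246,[]),(2273,[])],[3,14,13,5,7]),
  (3,[8,7,16,10,3,1,3],[(2350,[6,5,14,8]),(728,[]),(732,[]),(729,[]),(2354,[10,6,10,8])],[9,3,6,4]),
  (1,[3,5,1,7,3],[(3254,[])],[0,12,4,8,7]),
  (3,[14,8,14,4,3,1,3],[(2350,[12,6,12,2]),(732,[]),(732,[]),(2354,[2,8,11,5,0]),(2272,[])],[5,7,14,12,2]),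
  (3,[8,10,10,17,3,1,3],[(2350,[6,8,8,15]),(733,[]),(728,[]),(728,[]),(2298,[3,9,15,10,8]),(2272,[]),(2268,[])],[13,4,13,13]),
  (1,[3,4,16],[(3266,[]),(2272,[]),(2268,[])],[3,6,2,15]),
  (3,[9,4,3,1,3],[(2350,[7,2]),(732,[]),(732,[]),(2346,[11,11,11,15]),(2273,[])],[3,14,6,13]),
  (1,[2,15,17],[(3274,[])],[3,15,5,12,4]),
  (4,[7,12,17,8,3,1,3],[(2350,[5,10,15,6]),(728,[]),(733,[]),(729,[]),(732,[]),(729,[]),(1642,[6,6,4,12]),(1292,[]),(1284,[]),(1594,[0,9,6,13,2]),(213,[])],[4,3,12,9]),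
  (1,[3,1,3,15],[(3282,[]),(2272,[]),(2268,[])],[0,5,11,4,8]),
  (6,[9,10,9,4,3,1,3],[(2350,[7,8,7,2]),(732,[]),(728,[]),(732,[]),(728,[]),(1882,[2,4,15,0,12]),(1673,[]),(1686,[13,0,5,15]),(213,[]),(184,[])],[0,14,8,13,7]),
  (1,[3,1,7,3,17],[(3290,[])],[4,11,6,5]),
  (6,[0,5,16,5,7,3,1,3],[(2350,[0,3,14,3,5]),(728,[]),(732,[]),(729,[]),(910,[2,2,15,12,3]),(788,[]),(780,[]),(776,[]),(2402,[6,12,15,5,11]),(2273,[])],[2,6,9,11,8]),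
  (1,[3,13,7,2,16],[(3298,[]),(2273,[])],[3,12,2,4,15]),
  (6,[6,9,6,13,3,1,3],[(2350,[4,7,4,11]),(732,[]),(728,[]),(732,[]),(729,[]),(732,[]),(728,[]),(1882,[0,2,5,0,9]),(1673,[]),(1668,[]),(2714,[5,3,9,14]),(2268,[])],[3,6,2,9,7]),
  (1,[2,15,8,3],[(3306,[])],[4,13,9,0,9]),
  (3,[9,16,8,4,2,1,3],[(2502,[7,14,6,2]),(1316,[]),(1292,[]),(2506,[6,9,10,9]),(2273,[]),(2268,[])],[0,11,11,9]),
  (5,[5,15,13,10,14,2,1,3],[(2502,[3,13,11,8,12]),(1292,[]),(1626,[3,8,10,15,4]),(1308,[]),(2490,[2,4,15,10]),(2268,[])],[3,3,9,5,7]),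
  (5,[9,11,8,5,2,1,3],[(2502,[7,9,6,3]),(1316,[]),(1284,[]),(1426,[3,0,10,6]),(804,[]),(780,[]),(2370,[6,4,11,11,11])],[2,0,7,2,13]),
  (1,[3,13,4,3,17],[(3322,[])],[9,4,15,6,0]),
  (5,[12,4,15,5,2,1,3],[(2502,[10,2,13,3]),(1316,[]),(2010,[11,12,12,4,0]),(1720,[]),(1673,[]),(1668,[]),(2970,[12,2,11,9]),(2273,[]),(2268,[])],[15,12,12,4]),
  (1,[3,5,6,3,11],[(3330,[])],[9,11,6,3]),
  (6,[4,16,15,10,12,2,1,3],[(2502,[2,14,13,8,10]),(1316,[]),(1308,[]),(1284,[]),(2466,[2,11,2]),(2268,[]),(3286,[4,9,6,2]),(185,[]),(212,[])],[0,4,13,10,4]),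
  (1,[3,5,1,13,3],[(3338,[]),(2272,[])],[0,7,15,13,6]),
  (7,[0,13,10,16,10,2,1,3],[(2502,[0,11,8,14,8]),(1316,[]),(1309,[]),(1284,[]),(2042,[0,3,14,3,4]),(1672,[]),(1672,[]),(1668,[]),(1734,[11,12,8,4]),(213,[]),(188,[]),(184,[])],[6,4,7]),
  (1,[3,1,3,12,9],[(3346,[]),(2268,[])],[8,14,8,5]),
  (2,[12,12,11,14,2,1,2],[(3218,[10,10,9,12]),(2273,[]),(2268,[]),(2438,[10,6,2,5]),(1309,[]),(1284,[])],[0,8,12,4]),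
  (1,[3,14,2,12],[(3354,[]),(2272,[])],[0,5,13,6,0]),
  (2,[6,9,17,17,2,1,2],[(3218,[4,7,15,15]),(3278,[0,6,14,13,15]),(2273,[]),(2268,[])],[2,15,7,2,14]),
  (1,[3,5,9,5],[(3362,[]),(2273,[])],[14,12,5,0]),
  (2,[5,10,16,5,7,2,1,2],[(3218,[3,8,14,3,5]),(2273,[]),(3366,[2,2,13,4,9]),(2273,[]),(2268,[])],[6,10,13,7,8]),
  (1,[3,9,3,5],[(3370,[]),(2273,[])],[3,10,3,11,2]),
  (4,[14,13,8,4,2,1,2],[(3218,[12,11,6,2]),(2273,[]),(2646,[3,5,13]),(1672,[]),(1672,[]),(2698,[9,15,3,4])],[10,8,4,13]),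
  (1,[3,1,5,2,6],[(3378,[]),(2273,[])],[13,4,6,14]),
  (7,[0,7,15,8,2,1,2],[(3218,[0,5,13,6]),(2273,[]),(2438,[0,9,0,3,5]),(1316,[]),(1308,[]),(3354,[15,3,12,8])],[0,10,15,13,4]),
  (7,[0,13,14,13,9,2,1,2],[(3218,[0,11,12,11,7]),(2272,[]),(2598,[4,3,14,7]),(1309,[]),(1288,[]),(1518,[2,6,12,7,4]),(213,[]),(189,[])],[0,4,9,6]),
  (1,[3,14,3,1],[(3390,[]),(2272,[])],[0,9,0,9,14]),
  (7,[5,16,11,5,0,2,1,2],[(3218,[3,14,9,3,0]),(2374,[3,12,14,7,5]),(784,[]),(2426,[9,11,8,8,10]),(2268,[])],[3,12,15,5,3]),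
  (1,[3,4,3,1,2],[(3398,[])],[15,3,3,0]),
  (2,[10,10,4,13,3,1,2,1,3],[(3150,[8,8,2,11]),(3206,[2,9,14,11,6]),(2273,[])],[3,9,11,2,5]),
  (1,[2],[(3406,[])],[3,10,4,9,0]),
  (4,[0,14,13,8,17,3,1,2,1,3],[(3150,[0,12,11,6,15]),(2662,[2,2,10,14,0]),(1720,[]),(1673,[]),(2914,[9,3,7,3]),(2268,[])],[4,2,6,9]),
  (5,[0,15,10,8,10,3,1,2,1,3],[(3150,[0,13,8,6,8]),(2272,[]),(3046,[0,9,4,6,3]),(1668,[]),(1720,[]),(2914,[7,8,4,4]),(2273,[]),(2268,[])],[12,14,8,12]),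
  (7,[0,4,10,0,3,1,2,1,3],[(3150,[0,2,8,0]),(2273,[]),(2268,[]),(2470,[3,0,6,5,6]),(1292,[]),(2522,[4,8,3,3]),(2273,[]),(2268,[])],[0,13,0,7,14]),
  (7,[8,7,13,17,17,3,1,2,1,3],[(3150,[6,5,11,15,15]),(2268,[]),(2350,[3,5,14,12,14]),(733,[]),(729,[]),(729,[]),(2314,[5,6,14]),(2268,[])],[2,14,10,10,13]),
  (1,[3,7,11,6,2],[(3426,[]),(2268,[])],[7,10,8,0,13]),
  (7,[4,4,4,9,3,1,2,1,3],[(3150,[2,2,2,7]),(2268,[]),(2958,[0,7,15,15,4]),(1720,[]),(1672,[]),(2770,[0,12,5,3,14]),(2273,[])],[12,2,11,15]),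
  (2,[8,4,13,11,15,3,1,2,1,2],[(2710,[6,2,11,9,13]),(1720,[]),(1668,[]),(2722,[14,9,15,6])],[0,7,15,0,7]),
  (2,[4,15,15,8,14,3,1,2,1,2],[(2710,[2,13,13,6,12]),(1672,[]),(2850,[0,7,4,8,7])],[2,6,13,7,14]),
  (1,[3,1,3,1,3],[(3442,[])],[3,5,5,0]),
  (2,[12,11,4,17,3,1,2,1,2],[(2710,[10,9,2,15]),(1668,[]),(3130,[5,5,8,12,2])],[0,9,6,4,10]),
  (2,[12,12,10,6,3,1,2,1,2],[(2710,[10,10,8,4]),(1672,[]),(1672,[]),(2730,[0,3,5,13,8]),(2273,[])],[2,4,4,10,4])]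
theorem hD7 : allD2 lk B KW KW F A RL R0 D7 756 = true := by decide +kernel
def D8 : List (ℕ × Word × List (ℕ × Word) × Word) := [(1,[2,4,2,12],[(3454,[]),(2268,[])],[0,2,12,2,15]),
  (2,[9,17,4,15,3,1,2,1,2],[(2710,[7,15,2,13]),(2690,[0,4,9,5,11]),(2268,[])],[7,8,8,15]),
  (2,[0,11,14,8,8,3,1,2,1,2],[(2710,[0,9,12,6,6]),(1720,[]),(1672,[]),(1668,[]),(3042,[5,12,14,11,11]),(2268,[])],[2,0,9,9,15]),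
  (2,[0,7,11,6,6,3,1,2,1,2],[(2710,[0,5,9,4,4]),(1672,[]),(3130,[0,12,4,7,9]),(2273,[]),(2268,[])],[0,2,4,3,7]),
  (4,[16,5,0,8,3,1,2,1,2],[(2710,[14,3,0,6]),(2158,[0,4,13,3,0]),(1673,[]),(1668,[]),(3074,[2,12,15,12,12]),(2273,[])],[0,13,11,15,15]),
  (4,[5,8,8,14,5,3,1,2,1,2],[(2710,[3,6,6,12,3]),(1720,[]),(2882,[2,5,5,2,9]),(2273,[]),(2268,[]),(3198,[2,7,3,11,5])],[8,4,6,13]),
  (1,[3,5,8],[(3478,[]),(2268,[])],[6,9,6,0]),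
  (4,[0,10,10,12,5,3,1,2,1,2],[(2710,[0,8,8,10,3]),(1720,[]),(2134,[0,4,8,0,11]),(137,[]),(160,[]),(342,[2,2,11,9,5]),(72,[]),(101,[]),(93,[]),(80,[])],[0,9,3,13,5]),
  (1,[3,10,2,13],[(3486,[]),(2272,[]),(2268,[])],[7,10,2,12]),
  (5,[5,5,0,10,16,3,1,2,1,2],[(2710,[3,3,0,8,14]),(1672,[]),(1672,[]),(1668,[]),(2666,[2,6,10,3,7]),(2272,[]),(3146,[14,2,4,7]),(2273,[]),(2268,[])],[14,7,10,3,14]),
  (1,[3,14,9,3],[(3494,[])],[8,11,14,8]),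
  (5,[5,17,7,8,10,3,1,2,1,2],[(2710,[3,15,5,6,8]),(1720,[]),(1673,[]),(1668,[]),(2698,[7,14,3,8]),(2273,[]),(3182,[3,5,5,10]),(2273,[]),(2268,[])],[4,0,11,6,12]),
  (1,[3,5,3,9,12],[(3502,[]),(2273,[])],[0,5,7,9,7]),
  (5,[10,6,6,13,3,1,2,1,2],[(2710,[8,4,4,11]),(1720,[]),(1673,[]),(2070,[8,11,9,14]),(2786,[6,0,2,4]),(2272,[]),(2268,[])],[12,9,9,15]),
  (1,[3,6,1,2],[(3510,[]),(2272,[]),(2268,[])],[5,0,13,6,6]),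
  (6,[4,9,4,8,15,3,1,2,1,2],[(2710,[2,7,2,6,13]),(1720,[]),(1672,[]),(2078,[12,7,5,5]),(1673,[]),(2650,[3,14,10,3,12])],[0,2,14,2,15]),
  (6,[8,0,3,1,2,1,2],[(2710,[6,0]),(1672,[]),(1862,[4,13,9,6]),(732,[]),(728,[]),(732,[]),(729,[]),(732,[]),(2354,[6,13,4])],[2,14,4,8,5]),
  (1,[2,4,3,11],[(3522,[]),(2268,[])],[9,14,7,11]),
  (7,[0,5,9,6,16,3,1,2,1,2],[(2710,[0,3,7,4,14]),(1720,[]),(1672,[]),(2218,[12,10,15,15]),(2714,[0,4,15,5,9]),(2268,[])],[5,5,15]),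
  (2,[0,9,13,11,13,3,15,11,3],[(2486,[0,7,11,9,11]),(1316,[]),(1292,[]),(2474,[14,10,2,14]),(2268,[])],[2,15,7,4,0]),
  (4,[5,10,17,4,15,3,15,11,3],[(2486,[3,8,15,2,13]),(1309,[]),(1338,[2,15,12,6,15]),(629,[]),(661,[]),(628,[]),(609,[]),(2262,[0,14,13,2]),(2272,[]),(2268,[])],[11,12,2,4]),
  (4,[9,12,12,10,13,3,15,11,3],[(2486,[7,10,10,8,11]),(1292,[]),(1284,[]),(2050,[7,11,12,5]),(1668,[]),(1814,[0,4,6,14,3]),(509,[]),(548,[]),(509,[])],[3,5,5,13,5]),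
  (1,[3,10,2,13],[(3542,[]),(2268,[])],[7,8,15,13]),
  (4,[0,5,16,7,17,3,15,11,3],[(2486,[0,3,14,5,15]),(1308,[]),(2602,[12,14,4,4]),(2272,[]),(2302,[13,11,6,9]),(728,[]),(728,[]),(728,[])],[0,14,14,9,0]),
  (1,[3,5,2,14,4],[(3550,[]),(2273,[])],[12,14,3,5]),
  (6,[9,6,14,8,3,15,11,3],[(2486,[7,4,12,6]),(1292,[]),(1284,[]),(1530,[4,14,2,14,3]),(1292,[]),(1288,[]),(2634,[6,9,7,5]),(2268,[])],[14,7,8,15]),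
  (7,[9,13,17,17,3,15,11,3],[(2486,[7,11,15,15]),(1316,[]),(1308,[]),(2034,[2,8,11,4,3]),(1720,[]),(1734,[7,14,10,5,11]),(213,[])],[2,9,0,14]),
  (1,[3,5,12,5,2],[(3562,[])],[13,11,9,11]),
  (7,[7,12,8,3,15,11,3],[(2486,[5,10,6]),(1284,[]),(2002,[0,6,3,3,15]),(1668,[]),(1720,[]),(1668,[]),(2994,[0,5,3,13,7])],[0,2,2,9,7]),
  (1,[2,8,3,16],[(3570,[])],[2,9,6,15,11]),
  (7,[6,6,13,7,3,15,11,3],[(2486,[4,4,11,5]),(1316,[]),(1284,[]),(1518,[7,13,13,9]),(213,[]),(189,[]),(184,[]),(3390,[2,2,4,3,3]),(2273,[]),(2268,[])],[4,11,8,4]),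
  (7,[0,16,13,10,0,3,15,11,3],[(2486,[0,14,11,8,0]),(1309,[]),(1630,[0,10,4,14,4]),(1292,[]),(1284,[]),(2490,[2,11,5,6,14])],[3,3,15,3,9]),
  (7,[0,4,12,7,3,15,11,3],[(2486,[0,2,10,5]),(1308,[]),(1530,[8,0,15,8]),(1316,[]),(1292,[]),(1284,[]),(2458,[6,9,3,12]),(2273,[])],[0,6,4,12,2]),
  (2,[13,8,12,2,4,3,9],[(3506,[11,6,10]),(2268,[]),(3502,[14,2,9,7]),(2273,[])],[2,2,15,15,13]),
  (2,[7,7,11,15,11,2,4,3,9],[(3506,[5,5,9,13,9]),(2268,[]),(3510,[7,12,9,9]),(2273,[])],[15,6,2,13]),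
  (4,[0,8,4,9,11,2,4,3,9],[(3506,[0,6,2,7,9]),(2272,[]),(3198,[5,0,6,15,2]),(2272,[]),(3146,[2,0,5,2,9]),(2272,[]),(2268,[])],[2,5,9,7]),
  (1,[3,4,6,3,16],[(3598,[]),(2272,[])],[11,3,5,15]),
  (6,[0,14,6,2,4,3,9],[(3506,[0,12,4]),(2273,[]),(2268,[]),(2678,[5,5,15,12]),(1720,[]),(1673,[]),(1668,[]),(2826,[8,2,8,7]),(2272,[])],[7,11,14,6,3]),
  (1,[3,1,3,16,12],[(3606,[]),(2272,[]),(2268,[])],[0,11,2,13,10]),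
  (2,[4,14,13,4,14,3,7,14,3,8],[(2294,[2,12,11,2,12]),(728,[]),(728,[]),(728,[]),(986,[3,5,9,10,8]),(212,[]),(212,[]),(212,[])],[0,5,8,3,3]),
  (1,[3,6,13,10],[(3614,[]),(2273,[])],[2,6,2,7]),
  (4,[0,4,0,10,13,3,7,14,3,8],[(2294,[0,2,0,8,11]),(729,[]),(733,[]),(728,[]),(1882,[3,7,8,11,4]),(1720,[]),(1673,[]),(1668,[]),(3050,[3,9,10,9,5])],[0,6,6,3]),
  (1,[3,7,13,3,1],[(3622,[]),(2273,[]),(2268,[])],[2,9,3,14,7]),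
  (4,[17,14,12,10,3,7,14,3,8],[(2294,[15,12,10,8]),(732,[]),(728,[]),(728,[]),(728,[]),(2338,[5,0,8,2]),(3522,[0,7,3,9,9])],[2,9,5,10]),
  (1,[3,5,6,17],[(3630,[]),(2273,[])],[12,2,9,7]),
  (5,[0,12,16,16,8,3,7,14,3,8],[(2294,[0,10,14,14,6]),(733,[]),(728,[]),(728,[]),(732,[]),(728,[]),(2354,[2,4,0,10,12]),(2273,[]),(2268,[]),(3458,[0,3,3,3,10]),(2273,[]),(2268,[])],[4,10,9,6,12]),
  (1,[3,1,3,13,3],[(3638,[]),(2272,[])],[11,15,8,7,10]),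
  (6,[4,12,10,10,13,3,7,14,3,8],[(2294,[2,10,8,8,11]),(729,[]),(733,[]),(728,[]),(732,[]),(728,[]),(3550,[14,4,15]),(3158,[2,10,12,2,6])],[0,11,6,5,10]),
  (1,[3,5,2,8,13],[(3646,[]),(2272,[]),(2268,[])],[9,2,11,6]),
  (6,[0,11,4,11,9,3,7,14,3,8],[(2294,[0,9,2,9,7]),(732,[]),(728,[]),(732,[]),(729,[]),(2338,[0,3,9,15,8]),(2272,[]),(3366,[10,13,5,8]),(2273,[])],[2,4,15,12,4]),
  (2,[4,12,7,10,7,3,5,8,11],[(3178,[2,10,5,8,5]),(2272,[]),(3202,[0,2,2,7,12])],[0,13,15,13,0]),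
  (7,[10,12,17,14,4,3,5,8,11],[(3178,[8,10,15,12,2]),(2272,[]),(2790,[15,9,12,15]),(1668,[]),(1720,[]),(2642,[0,14,2,12,11])],[11,9,5,6]),
  (2,[0,11,7,16,2,6,3,7],[(2598,[0,9,5,14]),(1308,[]),(1288,[]),(2610,[2,7,15,4]),(2273,[])],[14,13,2,8]),
  (2,[4,17,4,15,2,6,3,7],[(2598,[2,15,2,13]),(1316,[]),(1308,[]),(2554,[4,12,7,10])],[11,3,14,11]),
  (1,[3,1,3,6],[(3670,[]),(2272,[]),(2268,[])],[0,14,2,6]),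
  (2,[0,12,9,10,14,2,6,3,7],[(2598,[0,10,7,8,12]),(1288,[]),(1284,[]),(2474,[0,2,4,7,11]),(2273,[])],[12,0,4,11]),
  (1,[3,11,11,12],[(3678,[])],[12,5,13,10]),
  (2,[4,8,14,10,13,2,6,3,7],[(2598,[2,6,12,8,11]),(1292,[]),(2570,[5,6,12,11,6]),(2272,[])],[3,14,11,7]),
  (1,[2,7,12,2],[(3686,[])],[10,6,9,11]),
  (2,[4,16,10,13,2,6,3,7],[(2598,[2,14,8,11]),(1292,[]),(1570,[0,10,7,11,9]),(212,[])],[10,3,6]),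
  (1,[3,5,2,17,12],[(3694,[])],[2,2,10,12,7]),
  (3,[0,4,16,7,4,2,6,3,7],[(2598,[0,2,14,5,2]),(1308,[]),(1284,[]),(2626,[15,0,7,0])],[7,4,8,15]),
  (4,[4,17,10,6,6,2,6,3,7],[(2598,[2,15,8,4,4]),(1316,[]),(1288,[]),(1284,[]),(2474,[4,3,0]),(2294,[5,0,15,11]),(733,[]),(728,[]),(728,[]),(728,[])],[4,13,3,7,12]),
  (1,[3,11,2,6,5],[(3706,[]),(2268,[])],[15,6,9,0]),
  (4,[11,7,16,5,2,6,3,7],[(2598,[9,5,14,3]),(1288,[]),(1284,[]),(2018,[12,5,3,10]),(1672,[]),(2890,[2,9,3,8,0]),(2268,[])],[7,11,4,4]),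
  (6,[0,15,0,4,0,2,6,3,7],[(2598,[0,13,0,2,0]),(1309,[]),(1292,[]),(2498,[0,9,12,10]),(2273,[]),(2268,[]),(3370,[9,11,8,0]),(2272,[]),(2268,[])],[2,13,0,6,4]),
  (1,[3,5,11,14,3],[(3718,[]),(2272,[]),(2268,[])],[10,9,14,13]),
  (2,[4,6,0,11,13,3,4,3],[(3358,[2,4,0,9,11]),(1308,[]),(1316,[]),(1594,[7,3,4,6]),(188,[]),(185,[])],[2,9,10,12,3]),
  (1,[3,1,3,1,3],[(3726,[])],[3,3,3,9,15]),
  (3,[8,10,5,6,3,4,3],[(3358,[6,8,3,4]),(1308,[]),(1308,[]),(2634,[0,3,8,0,4]),(2273,[])],[10,12,10,12]),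
  (1,[3,13,7,14],[(3734,[]),(2268,[])],[4,13,3,5]),
  (4,[4,9,4,13,6,3,4,3],[(3358,[2,7,2,11,4]),(1316,[]),(1308,[]),(2490,[0,8,12,4,4]),(2273,[]),(3222,[0,11,7,8,2])],[0,14,6,2,15]),
  (4,[7,5,10,12,3,4,3],[(3358,[5,3,8,10]),(1309,[]),(1316,[]),(2034,[2,13,15,11,6]),(1720,[]),(1672,[]),(1668,[]),(2698,[2,7,13,3,4]),(2272,[])],[4,0,11,9,5]),
  (4,[12,11,13,4,3,4,3],[(3358,[10,9,11,2]),(1309,[]),(1288,[]),(1594,[6,2,4,6,15]),(188,[]),(185,[]),(242,[5,5,2,15,15]),(189,[]),(185,[])],[12,6,10,2]),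
  (1,[2,16,9,2],[(3750,[])],[2,6,12,8]),
  (5,[5,10,12,15,0,3,4,3],[(3358,[3,8,10,13,0]),(1316,[]),(1308,[]),(2538,[3,11,13,4,10]),(2273,[]),(2268,[]),(3246,[3,14,9,15]),(2268,[])],[2,4,2,6]),
  (1,[2,5,3,13],[(3758,[]),(2272,[])],[7,10,7,9]),
  (2,[4,9,17,17,7,3,5,9,6,3],[(2934,[2,7,15,15,5]),(1720,[]),(2914,[4,7,10,10,15]),(2273,[])],[3,6,5,8]),
  (1,[3,1,5,15],[(3766,[])],[0,12,15,10,6]),
  (2,[15,0,16,8,3,5,9,6,3],[(2934,[13,0,14,6]),(1672,[]),(1742,[8,15,11,7]),(184,[]),(213,[])],[13,2,14,6]),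
  (1,[3,4,3,14],[(3774,[])],[9,7,5,14]),
  (3,[14,4,15,5,3,5,9,6,3],[(2934,[12,2,13,3]),(1720,[]),(1673,[]),(1668,[]),(2874,[2,6,0,6,0]),(2273,[])],[3,3,5,11,4]),
  (1,[3,5,7,10,2],[(3782,[]),(2273,[]),(2268,[])],[12,14,13]),
  (3,[0,6,12,15,3,5,9,6,3],[(2934,[0,4,10,13]),(1672,[]),(1672,[]),(1878,[2,14,6,3,6]),(728,[]),(732,[]),(729,[]),(732,[]),(729,[])],[3,15,4,4]),
  (1,[2,7,1,3],[(3790,[])],[15,7,13,8]),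
  (4,[5,6,8,14,9,3,5,9,6,3],[(2934,[3,4,6,12,7]),(1720,[]),(1673,[]),(1678,[5,7,15,12]),(212,[]),(188,[]),(184,[]),(3774,[6,14,8,2]),(2272,[])],[0,5,11,14,7]),
  (1,[3,5,9,5,3],[(3798,[]),(2273,[]),(2268,[])],[0,3,15,8,15]),
  (5,[5,15,15,4,3,5,9,6,3],[(2934,[3,13,13,2]),(1720,[]),(1673,[]),(1668,[]),(2238,[7,11,2,13]),(2874,[5,3,11,13,4]),(2273,[]),(2268,[])],[6,12,6,5,9]),
  (7,[0,11,6,16,5,3,5,9,6,3],[(2934,[0,9,4,14,3]),(1672,[]),(1668,[]),(2786,[8,13,15,11]),(2273,[]),(2268,[]),(3626,[5,2,2,10]),(2268,[])],[2,13,6,15,12]),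
  (2,[0,13,16,13,15,3,5,8,1,3],[(2510,[0,11,14,11,13]),(1316,[]),(1288,[]),(2578,[5,2,4]),(2273,[])],[4,10,9,9,0]),
  (1,[3,7,1,2,1],[(3814,[])],[0,6,3,7,15]),
  (2,[0,16,8,15,15,3,5,8,1,3],[(2510,[0,14,6,13,13]),(1316,[]),(1288,[]),(2514,[0,8,15,7,4])],[4,8,13,13]),
  (3,[16,0,12,15,3,5,8,1,3],[(2510,[14,0,10,13]),(1284,[]),(1614,[4,8,8,14,14]),(185,[]),(212,[])],[2,7,15,8,2]),
  (1,[3,9,2,9,2],[(3826,[]),(2273,[])],[6,12,5,12]),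
  (3,[6,10,17,3,5,8,1,3],[(2510,[4,8,15]),(1309,[]),(1284,[]),(2482,[0,8,11,15,15])],[5,12,0,5]),
  (1,[3,5,14,3,5],[(3834,[])],[0,8,14,7,12]),
  (6,[8,4,13,17,3,5,8,1,3],[(2510,[6,2,11,15]),(1308,[]),(1288,[]),(1434,[0,7,13,13,0]),(780,[]),(776,[]),(866,[2,4,15,13,11]),(393,[])],[12,15,8,2,0]),
  (1,[3,14,3],[(3842,[])],[13,3,12,10]),
  (6,[4,14,14,10,6,3,5,8,1,3],[(2510,[2,12,12,8,4]),(1308,[]),(1292,[]),(2594,[2,6,13,14,14]),(3758,[0,9,14,12,0]),(2268,[])],[7,11,6,13]),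
  (2,[8,0,13,15,3,11,2,6,5],[(3490,[6,0,11,13]),(72,[]),(76,[]),(72,[]),(346,[12,4,12,5]),(133,[]),(136,[])],[8,4,10,8]),
  (1,[3,1,3],[(3854,[]),(2273,[])],[6,15,2,4]),
  (2,[0,12,14,14,14,3,11,2,6,5],[(3490,[0,10,12,12,12]),(101,[]),(76,[]),(72,[]),(374,[0,10,10,8,4]),(392,[])],[5,14,12,9,12]),
  (1,[3,1,2,1],[(3862,[]),(2273,[])],[7,3,5]),
  (2,[0,16,11,4,8,3,11,2,6,5],[(3490,[0,14,9,2,6]),(101,[]),(80,[]),(93,[]),(101,[]),(3486,[7,13,0,12])],[7,4,0,12,4]),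
  (1,[2,6,3,8],[(3870,[])],[0,3,11,9,9]),
  (2,[8,16,12,3,11,2,6,5],[(3490,[6,14,10]),(85,[]),(101,[]),(85,[]),(80,[]),(72,[]),(3486,[4,9,12,6]),(2273,[])],[0,2,10,12,7]),
  (1,[3,4,3,4,2],[(3878,[]),(2273,[])],[4,0,3,13]),
  (2,[4,13,17,12,15,3,11,2,6,5],[(3490,[2,11,15,10,13]),(92,[]),(85,[]),(93,[]),(72,[]),(3486,[15,7,15,9]),(2272,[]),(2268,[])],[0,7,2,2,6])]
theorem hD8 : allD2 lk B KW KW F A RL R0 D8 864 = true := by decide +kernel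
def D9 : List (ℕ × Word × List (ℕ × Word) × Word) := [(2,[4,0,12,15,4,3,11,2,6,5],[(3490,[2,0,10,13,2]),(93,[]),(80,[]),(76,[]),(72,[]),(374,[0,14,14,5]),(385,[]),(393,[])],[3,13,6,10,3]),
  (1,[3,7,11,16],[(3890,[])],[9,0,10]),
  (3,[7,5,6,6,15,3,11,2,6,5],[(3490,[5,3,4,4,13]),(100,[]),(92,[]),(198,[3,7,12,15,0]),(213,[]),(188,[])],[2,15,13,5,6]),
  (1,[2,4,3,5],[(3898,[])],[4,15,5,12,3]),
  (3,[13,7,7,7,3,11,2,6,5],[(3490,[11,5,5,5]),(101,[]),(93,[]),(84,[]),(346,[7,15,9,13,14]),(161,[]),(136,[]),(160,[]),(132,[])],[9,6,5,15]),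
  (1,[3,5,1,7],[(3906,[]),(2273,[])],[2,4,15,5]),
  (5,[0,17,15,15,7,3,11,2,6,5],[(3490,[0,15,13,13,5]),(101,[]),(93,[]),(198,[0,11,5,12,15]),(189,[]),(185,[]),(226,[0,4,12,9,4]),(188,[])],[2,5,2,7,5]),
  (1,[3,5,9,6],[(3914,[]),(2272,[]),(2268,[])],[0,8,7,4,3]),
  (7,[0,11,9,15,5,3,11,2,6,5],[(3490,[0,9,7,13,3]),(72,[]),(92,[]),(72,[]),(326,[4,13,13,7,8]),(212,[]),(184,[]),(3694,[7,0,3]),(2272,[]),(2268,[])],[6,6,5,9]),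
  (1,[3,5,14,2],[(3922,[]),(2272,[]),(2268,[])],[2,0,10,10,8]),
  (7,[8,11,12,6,3,11,2,6,5],[(3490,[6,9,10,4]),(92,[]),(85,[]),(101,[]),(72,[]),(326,[6,0,7,11]),(189,[]),(3390,[2,4,3,14,6])],[0,9,12,4,12]),
  (1,[3,1,3,10],[(3930,[]),(2273,[])],[12,4,7,14]),
  (2,[14,9,11,6,3,1,8,17],[(3410,[12,7,9,4]),(3574,[3,5,12,8,6]),(2268,[])],[14,7,12,11]),
  (5,[4,11,9,7,15,3,1,8,17],[(3410,[2,9,7,5,13]),(2272,[]),(2268,[]),(2982,[6,12,10,2]),(1672,[]),(3058,[9,15,4,9]),(2268,[])],[0,14,12,0,15]),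
  (1,[2,15,8],[(3942,[]),(2272,[])],[2,2,12,7,10]),
  (7,[10,13,4,0,3,1,8,17],[(3410,[8,11,2,0]),(2272,[]),(2268,[]),(3806,[3,0,8,15]),(2273,[]),(3406,[2,4,0,11,6]),(2272,[]),(2268,[])],[6,8,3,4,6]),
  (6,[14,7,14,3,1,8,17,3],[(3438,[12,5,12]),(2272,[]),(2268,[]),(2822,[8,7,12,11]),(1720,[]),(2962,[0,5,6,5]),(2273,[]),(2268,[])],[0,3,5,15,0]),
  (1,[2,16,2,10],[(3954,[]),(2268,[])],[8,14,11,15]),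
  (7,[0,9,0,15,17,3,1,8,17,3],[(3438,[0,7,0,13,15]),(3594,[0,5,9,5,7]),(2272,[]),(3450,[3,8,0,9,5]),(2272,[])],[13,13,8,15]),
  (6,[4,11,15,5,3,12,2,5],[(2286,[2,9,13,3]),(733,[]),(729,[]),(729,[]),(1898,[0,6,14,0,11]),(1672,[]),(1672,[]),(1668,[]),(2174,[8,0,9,14]),(160,[]),(136,[]),(161,[]),(132,[])],[0,2,7,4,4]),
  (1,[3,15,11],[(3966,[]),(2268,[])],[2,12,2,9]),
  (7,[4,12,10,17,3,12,2,5],[(2286,[2,10,8,15]),(732,[]),(729,[]),(732,[]),(728,[]),(732,[]),(728,[]),(728,[]),(3790,[3,6,10,2,5]),(2272,[]),(2268,[]),(3254,[6,15,3,0]),(2272,[]),(2268,[])],[2,2,9,0,9]),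
  (1,[3,1,11,2,16],[(3974,[]),(2268,[])],[15,11,8,5]),
  (2,[6,5,11,7,4,3,11,2,8],[(3394,[4,3,9,5,2]),(188,[]),(212,[]),(184,[]),(350,[5,7,11,13,2]),(213,[]),(213,[]),(185,[])],[8,0]),
  (1,[3,1,3,1,2],[(3982,[]),(2272,[])],[2,12,6,0,7]),
  (2,[12,14,6,3,11,2,8],[(3394,[10,12,4]),(212,[]),(188,[]),(185,[]),(226,[7,2,6,5]),(213,[]),(189,[]),(184,[])],[0,2,10,8,6]),
  (1,[3,5,8,1,3],[(3990,[]),(2268,[])],[11,14,14,5]),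
  (2,[14,7,8,6,3,11,2,8],[(3394,[12,5,6,4]),(213,[]),(270,[3,5,5,9]),(212,[]),(212,[]),(184,[])],[0,5,10,15,7]),
  (1,[2,1],[(3998,[]),(2268,[])],[0,15,9,9]),
  (3,[8,8,16,6,3,11,2,8],[(3394,[6,6,14,4]),(188,[]),(212,[]),(184,[]),(3982,[0,7,8,0,13])],[2,6,4,7,12]),
  (3,[7,0,4,3,11,2,8],[(3394,[5,0,2]),(184,[]),(189,[]),(3990,[3,0,10,6,4]),(2268,[])],[0,9,15,5,8]),
  (5,[0,7,7,12,17,3,11,2,8],[(3394,[0,5,5,10,15]),(185,[]),(212,[]),(1610,[2,9,13,0,11]),(1316,[]),(1292,[]),(2498,[0,10,9,10])],[0,8,0,4,0]),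
  (1,[3,8,17,3],[(4014,[]),(2268,[])],[9,10,12,3]),
  (5,[9,10,8,6,10,3,11,2,8],[(3394,[7,8,6,4,8]),(185,[]),(212,[]),(226,[0,6,13,7,15]),(184,[]),(282,[8,5,9,0]),(189,[]),(213,[]),(189,[])],[0,4,3,12]),
  (1,[3,5,10],[(4022,[])],[4,15,6,9,15]),
  (6,[8,10,5,17,6,3,11,2,8],[(3394,[6,8,3,15,4]),(212,[]),(185,[]),(1714,[4,11,6,12]),(1862,[2,7,10,6,9]),(733,[]),(729,[]),(732,[]),(728,[]),(732,[]),(728,[])],[13,3,13]),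
  (1,[3,4,3,14],[(4030,[]),(2273,[])],[2,13,7,13,6]),
  (6,[7,10,5,8,3,11,2,8],[(3394,[5,8,3,6]),(188,[]),(212,[]),(188,[]),(4022,[3,9,4,14]),(2272,[]),(2268,[]),(3218,[4,12,12,7]),(2273,[]),(2268,[])],[2,8,12,5,10]),
  (1,[3,1,3,8],[(4038,[]),(2268,[])],[0,9,13,15,10]),
  (2,[6,13,8,11,3,4,3,1,2],[(3398,[4,11,6,9]),(2272,[]),(2268,[]),(3970,[2,0,8,11,7]),(132,[]),(136,[]),(161,[]),(136,[])],[8,7,14,8,8]),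
  (1,[3,4,12,9],[(4046,[]),(2273,[])],[8,6,9,11]),
  (4,[0,9,0,4,17,3,4,3,1,2],[(3398,[0,7,0,2,15]),(2273,[]),(2268,[]),(3194,[3,10,6,5,11]),(2273,[]),(2268,[]),(3958,[2,15,2,9,7]),(2268,[])],[2,12,10,4,10]),
  (7,[0,9,5,11,5,3,4,3,1,2],[(3398,[0,7,3,9,3]),(2273,[]),(3598,[2,12,9,10,9]),(3434,[3,7,0,9,4])],[6,5,12,10]),
  (7,[0,10,4,16,13,2,7,9,3],[(3858,[0,8,2,14,11]),(136,[]),(133,[]),(2170,[0,15,13,3,11]),(1720,[]),(1673,[]),(2738,[3,6,2,8,2])],[3,3,4,9,3]),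
  (3,[0,14,16,6,14,3,5,1,7,3],[(3254,[0,12,14,4,12]),(3366,[3,14,5,2,13]),(2268,[])],[9,2,6,10]),
  (1,[3,1,3,11,14],[(4066,[]),(2272,[]),(2268,[])],[3,0,15,3]),
  (5,[0,9,0,16,16,3,5,1,7,3],[(3254,[0,7,0,14,14]),(2273,[]),(2268,[]),(3470,[11,9,11]),(2273,[]),(2268,[]),(3366,[0,15,9,15,5]),(2273,[]),(2268,[])],[12,4,9,12]),
  (6,[12,15,12,17,3,5,1,7,3],[(3254,[10,13,10,15]),(2272,[]),(2268,[]),(3270,[2,12,5,6,0]),(2273,[]),(2268,[]),(3578,[7,5,6,2]),(2272,[])],[14,3,0,9]),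
  (2,[6,0,11,17,0,3,4,3,17],[(2462,[4,0,9,15,0]),(1316,[]),(1309,[]),(1284,[]),(2482,[0,4,7,5,13]),(2272,[])],[3,14,14,6,5]),
  (3,[4,13,9,10,14,2,4,11,2],[(3946,[2,11,7,8,12]),(2272,[]),(2326,[11,2,5]),(732,[]),(729,[]),(732,[])],[0,10,14,7,9]),
  (1,[3,1,2,1,2],[(4086,[]),(2272,[]),(2268,[])],[6,12,8,4]),
  (5,[4,0,11,17,8,2,4,11,2],[(3946,[2,0,9,15,6]),(2273,[]),(2718,[2,4,14,0,14]),(1668,[]),(1720,[]),(1726,[12,11,5]),(185,[])],[8,14,2,7]),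
  (1,[3,1],[(4094,[]),(2272,[])],[2,0,11,14,5]),
  (6,[5,16,11,5,0,2,4,11,2],[(3946,[3,14,9,3,0]),(2686,[0,6,10,12]),(1673,[]),(3098,[15,0,4,8]),(2273,[])],[0,2,10,8,4]),
  (6,[6,15,13,17,0,2,4,11,2],[(3946,[4,13,11,15,0]),(2268,[]),(3190,[5,8,8,8]),(2273,[]),(2268,[]),(3254,[0,2,10,8]),(2273,[]),(2268,[])],[0,5,9,12,9]),
  (1,[3,5,6,8],[(4106,[]),(2268,[])],[4,7,14,2,0]),
  (4,[16,14,4,9,3,8,3,1,2],[(3418,[14,12,2,7]),(2273,[]),(2268,[]),(2854,[5,14,2]),(1672,[]),(1668,[]),(1798,[3,0,8,15,6]),(380,[]),(424,[]),(380,[])],[0,9,10,15]),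
  (1,[3,5,9,6,3],[(4114,[]),(2273,[])],[3,7,4,0,3]),
  (5,[6,11,17,11,17,3,8,3,1,2],[(3418,[4,9,15,9,15]),(2273,[]),(2268,[]),(3882,[15,9,11,8]),(2268,[]),(3602,[0,12,8,5,12]),(2273,[])],[2,2,6,6,14]),
  (4,[10,5,6,6,3,13,2,10],[(3166,[8,3,4,4]),(2766,[13,2,8,0]),(1672,[]),(1668,[]),(1790,[2,2,8,5,13]),(424,[]),(392,[]),(380,[]),(424,[])],[2,7,0,9]),
  (1,[3,1,3,1],[(4126,[]),(2273,[])],[0,6,9,11]),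
  (7,[14,14,11,15,3,13,2,10],[(3166,[12,12,9,13]),(3566,[6,0,15]),(212,[]),(212,[]),(3898,[0,11,13,14,6])],[0,9,2,0,14]),
  (5,[8,11,9,17,3,14,9,3],[(3494,[6,9,7,15]),(2273,[]),(2822,[7,11,4,8]),(1673,[]),(1668,[]),(1798,[8,2,12,15]),(385,[]),(392,[]),(384,[])],[3,0,11,2,6]),
  (1,[3,11,2,6,5],[(4138,[]),(2272,[])],[13,3,5,9]),
  (5,[0,8,5,9,6,3,14,9,3],[(3494,[0,6,3,7,4]),(3330,[4,8,0,14,13]),(2272,[]),(3794,[2,10,5,12,3]),(732,[]),(732,[]),(728,[])],[2,8,2,9,11]),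
  (1,[3,15,11,2],[(4146,[])],[6,3,7,8,5]),
  (2,[0,9,14,14,16,2,5,3,6],[(3310,[0,7,12,12,14]),(2273,[]),(2268,[]),(3866,[4,12,11,9,5]),(393,[]),(385,[]),(392,[])],[2,7,15,10]),
  (1,[3,1,3,7,4],[(4154,[])],[6,10,12,10]),
  (2,[4,11,7,17,7,3,4,12,17],[(3634,[2,9,5,15,5]),(3634,[2,7,14,5,5])],[0,10,5,3,4]),
  (2,[0,13,10,12,4,3,4,12,17],[(3634,[0,11,8,10,2]),(3146,[4,11,13,8]),(2272,[])],[0,11,15,11,12]),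
  (7,[10,4,12,3,13,11,11],[(3202,[8,2,10]),(2273,[]),(4102,[2,5,0,5,6]),(3646,[0,4,15,4,4]),(2272,[])],[0,2,15,6]),
  (3,[14,8,16,3,5,6,3,5],[(3934,[12,6,14]),(2273,[]),(2268,[]),(3350,[0,15,12,8,8]),(213,[]),(184,[])],[7,14,5,8]),
  (1,[3,7,17,3,14],[(4174,[])],[3,6,5,13]),
  (4,[0,10,8,6,8,3,1,3,15,3],[(3586,[0,8,6,4,6]),(2273,[]),(2268,[]),(3226,[5,3,15,10,2]),(2272,[]),(2268,[]),(3714,[3,5,6,13,6]),(2268,[])],[4,2,2,11,12]),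
  (7,[4,15,5,11,16,3,14,2,1],[(3006,[2,13,3,9,14]),(2174,[6,2,7,0]),(160,[]),(132,[]),(3966,[11,4,2,13]),(2272,[])],[10,12,10,8]),
  (2,[8,7,15,5,3,5,12,5,2],[(3894,[6,5,13,3]),(392,[]),(470,[3,11,11,7])],[4,4,3,12,9]),
  (1,[3,1,8,2,13],[(4190,[]),(2272,[])],[0,14,11,14,14]),
  (3,[0,16,10,4,14,3,6,11,3],[(3022,[0,14,8,2,12]),(1720,[]),(1673,[]),(1668,[]),(2174,[5,5,5,0]),(136,[]),(160,[]),(132,[])],[0,10,5,7,5]),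
  (1,[3,5,12,2,6],[(4198,[]),(2272,[]),(2268,[])],[7,2,6]),
  (2,[17,12,8,7,3,17,9,11],[(3654,[15,10,6,5]),(3662,[0,2,8,7,11])],[14,14,8,15]),
  (100,[],[],[]),
  (1,[2,1,2],[(4210,[])],[]),
  (1,[],[(4214,[]),(93,[]),(101,[]),(80,[]),(72,[]),(4210,[10,13,9,11])],[]),
  (3,[0,9,0,5,2,7,1,3],[(342,[0,7,0,3]),(100,[]),(72,[]),(100,[]),(72,[]),(4210,[5,10,13,2]),(4217,[])],[12,3,10]),
  (1,[3,7,14,3,8],[(4222,[]),(161,[]),(132,[]),(137,[]),(160,[])],[11,2,11,11]),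
  (7,[4,0,11,7,12],[(182,[2,0,9,5,10]),(20,[]),(13,[]),(20,[]),(8,[]),(66,[15,11,11,7]),(85,[]),(101,[]),(85,[]),(4210,[7,2,11,9]),(4217,[])],[2,11,7,0]),
  (1,[3,1,4,10],[(4230,[]),(188,[]),(212,[]),(188,[])],[0,15,8,15,5]),
  (7,[16,4,17,0],[(182,[14,2,15,0]),(8,[]),(16,[]),(12,[]),(16,[]),(178,[2,4,8,8,3]),(213,[]),(188,[]),(184,[]),(4234,[0,4,6,12,5]),(4217,[])],[0,13,13,0,9]),
  (1,[3,4,10,17,3],[(4238,[]),(213,[]),(189,[]),(185,[])],[5,13,2,4,12]),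
  (2,[4,17,7,15,15,3,1,3],[(358,[2,15,5,13,13]),(188,[]),(4234,[15,2,2,7])],[0,2,15,13,7]),
  (1,[3,4,2,13,16],[(4246,[]),(189,[]),(185,[])],[5,8,0,13]),
  (2,[10,4,12,6,3,1,2,1,3],[(226,[8,2,10,4]),(213,[]),(189,[]),(4234,[4,13,3,0]),(4217,[])],[4,3,9,3]),
  (1,[3],[(4254,[]),(213,[]),(213,[])],[7,15,0,6]),
  (5,[4,16,6,0,16,3,16,2,14],[(1514,[2,14,4,0,14]),(1316,[]),(1288,[]),(1518,[0,2,10,2,6]),(212,[]),(189,[]),(4250,[3,13])],[0,7,4,9,15]),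
  (1,[3,5,1,3,1],[(4262,[]),(213,[]),(188,[])],[2,8,11,7,9]),
  (6,[4,0,9,6,8,3,7,17,3,14],[(4174,[2,0,7,4,6]),(3986,[10,9,5,11]),(212,[]),(188,[]),(184,[]),(4234,[4,3,9,5,2])],[11,2,11,5]),
  (1,[3,13,9,5,3],[(4270,[]),(212,[]),(212,[]),(185,[])],[0,7,12,14]),
  (6,[9,7,5,17,3,4],[(858,[7,5,3,15]),(804,[]),(780,[]),(776,[]),(862,[4,15,9,9]),(213,[]),(185,[]),(4258,[2,7,5,3,13]),(4216,[])],[4,15,11,7]),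
  (1,[3,1,9,1,3],[(4278,[]),(213,[]),(189,[]),(185,[])],[2,13,5,7]),
  (2,[5,12,7,12,3,1,15,8],[(238,[3,10,5,10]),(184,[]),(189,[]),(184,[]),(4266,[4,14,13,7])],[2,6,8,6,15]),
  (1,[3,15,9,3],[(4286,[]),(213,[]),(213,[])],[3,4,7,10,13]),
  (2,[5,8,16,8,7,3,6,2,7],[(350,[3,6,14,6,5]),(184,[]),(189,[]),(4234,[3,8,5,3]),(4217,[])],[2,11,14,6,9]),
  (1,[3,5,9,1,3],[(4294,[]),(212,[]),(212,[]),(185,[])],[14,13,2,8]),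
  (5,[0,5,5,17,0,3,6,2,7],[(350,[0,3,3,15,0]),(213,[]),(213,[]),(184,[]),(358,[5,9,6,6,4]),(184,[]),(4282,[0,5,15,9,6]),(4217,[])],[14,10,13,6]),
  (1,[2,1,12],[(4302,[]),(188,[])],[0,5,2,9,6]),
  (5,[7,16,9,7,4,3,14,3,1],[(3390,[5,14,7,5,2]),(3730,[2,8,7,3,13]),(188,[]),(4290,[2,13,0,9,9]),(4217,[])],[4,0,4]),
  (1,[3,4,2,15,7],[(4310,[]),(184,[]),(213,[])],[12,10,7,5]),
  (6,[4,12,4,11,8,3,12,2,5],[(218,[2,10,2,9,6]),(188,[]),(184,[]),(218,[0,10,6,3,0]),(213,[]),(189,[]),(184,[]),(4250,[8,4,11,12])],[8,12,14,6])]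
theorem hD9 : allD2 lk B KW KW F A RL R0 D9 972 = true := by decide +kernel
def D10 : List (ℕ × Word × List (ℕ × Word) × Word) := [(1,[2,14,4,2],[(4318,[]),(188,[]),(188,[]),(184,[])],[0,9,10,9,2]),
  (5,[15,12,17,0,3,11,2,8],[(4298,[13,10,15,0]),(4217,[]),(4238,[0,12,14,8,12]),(188,[]),(212,[]),(188,[]),(4242,[0,12,15,7,5])],[0,2,2,0,6]),
  (1,[3,5,7,10,2],[(4326,[]),(213,[]),(185,[])],[3,5,6,6]),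
  (5,[4,0,7,8,10,3,5,1,7,3],[(266,[2,0,5,6,8]),(188,[]),(184,[]),(350,[4,10,7,4,11]),(184,[]),(189,[]),(4306,[15,3,13,0]),(4216,[])],[2,10,7,8]),
  (1,[3,4,2,8,2],[(4334,[]),(184,[]),(189,[]),(184,[])],[0,8,14,4,9]),
  (5,[6,16,14,13,2,16,9,2],[(3750,[4,14,12,11]),(2273,[]),(4026,[4,14,13,5]),(184,[]),(189,[]),(184,[]),(4322,[13,11,15]),(4216,[])],[2,11,4,12,5]),
  (1,[2,14,7,3],[(4342,[]),(212,[]),(212,[]),(185,[])],[4,3,5,5]),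
  (2,[8,10,5,17,6,2,4,11,2],[(298,[6,8,3,15,4]),(212,[]),(212,[]),(185,[]),(4346,[7,11,12,10,2])],[14,9,4,12]),
  (1,[2,15,16,2],[(4350,[]),(188,[]),(188,[]),(185,[])],[2,12,4,13,4]),
  (2,[0,4,0,10,8,2,4,11,2],[(298,[0,2,0,8,6]),(185,[]),(4282,[7,5,13,11]),(4217,[])],[2,6,15,5,9]),
  (1,[3,12,3,1,13],[(4358,[]),(188,[]),(188,[]),(185,[])],[3,5,12,11,6]),
  (4,[7,8,15,5,2,4,11,2],[(298,[5,6,13,3]),(212,[]),(189,[]),(270,[9,13,11,9]),(188,[]),(212,[]),(4290,[3,4,6,12,3]),(4216,[])],[11,8,3,10]),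
  (1,[2,6,3,16,16],[(4366,[]),(189,[]),(213,[])],[2,10,14,8,12]),
  (6,[9,10,0,8,2,4,11,2],[(298,[7,8,0,6]),(213,[]),(188,[]),(184,[]),(350,[2,0,5,10,6]),(188,[]),(4370,[7,12,4,0]),(4216,[])],[11,9,4,13]),
  (1,[3,6,11,2],[(4374,[]),(188,[])],[5,7,10,4,6]),
  (6,[0,9,6,15,5,3,1,3,15],[(3282,[0,7,4,13,3]),(2273,[]),(4002,[5,12,0,9]),(212,[]),(184,[]),(4306,[5,8,11,12])],[5,3,0,4]),
  (1,[3,7,17,3,14],[(4382,[]),(189,[])],[3,5,7,11]),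
  (2,[4,16,10,6,15,3,6,10,2,8],[(366,[2,14,8,4,13]),(212,[]),(188,[]),(4314,[5,3,12,7]),(4217,[])],[15,15,6,2]),
  (1,[2,7],[(4390,[]),(213,[]),(188,[]),(184,[])],[0,2,2,8,4]),
  (2,[5,13,11,4,11,3,6,10,2,8],[(366,[3,11,9,2,9]),(212,[]),(212,[]),(4242,[5,9,12,9]),(4217,[])],[2,6,5,14]),
  (1,[2,12],[(4398,[]),(212,[]),(212,[]),(185,[])],[3,3,0,5,5]),
  (6,[5,14,12,12,3,6,10,2,8],[(366,[3,12,10,10]),(213,[]),(184,[]),(238,[0,5,12,14,7]),(213,[]),(213,[]),(185,[]),(4346,[2,4,7,3]),(4216,[])],[4,10,9,7]),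
  (1,[3,4,13,5],[(4406,[]),(212,[]),(212,[]),(188,[])],[4,10,3,8,2]),
  (7,[5,8,0,14,16,3,6,13,10],[(3614,[3,6,0,12,14]),(2272,[]),(2268,[]),(3986,[9,7,0,8]),(188,[]),(188,[]),(185,[]),(4402,[2,13,15,15,8]),(4216,[])],[13,4,11,15]),
  (1,[3,1,9,13,3],[(4414,[]),(189,[]),(213,[])],[0,12,9,3,8]),
  (2,[8,15,12,6,3,7,17,13],[(310,[6,13,10,4]),(185,[]),(212,[]),(4298,[9,0,5,2])],[0,5,13,15,15]),
  (1,[3,15,2,6,6],[(4422,[]),(213,[])],[5,10,15,6,9]),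
  (4,[10,8,4,8,3,5,12,5,2],[(3562,[8,6,2,6]),(2273,[]),(3994,[0,4,12,11,3]),(184,[]),(189,[]),(4402,[0,15,3,7]),(4216,[])],[4,13,15]),
  (1,[3,8,10,3,1],[(4430,[]),(213,[])],[0,2,12,14,13]),
  (6,[4,16,5,16,3,7,11,16],[(242,[2,14,3,14]),(212,[]),(242,[2,12,15,12,12]),(189,[]),(185,[]),(4250,[0,2,12,6,2]),(4216,[])],[6,0,2,4]),
  (1,[2,7,3],[(4438,[]),(212,[]),(212,[]),(184,[])],[0,4,11,5,9]),
  (5,[0,15,7,9,13,3,8,3],[(1738,[0,13,5,7,11]),(1720,[]),(1672,[]),(1710,[9,3,0,15]),(212,[]),(189,[]),(4394,[0,6,14,2,12])],[3,9,10,5]),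
  (1,[3,5,6,8],[(4446,[]),(188,[]),(212,[]),(184,[])],[2,12,11,8,14]),
  (4,[5,11,16,6,5,3,4,9,2,13],[(990,[3,9,14,4,3]),(729,[]),(986,[15,12,4,14]),(213,[]),(185,[]),(4346,[3,8,6,4]),(4217,[])],[2,8,12]),
  (1,[3,14,2,13],[(4454,[]),(213,[]),(213,[]),(184,[])],[0,15,5,8,12]),
  (7,[4,13,11,15,8,3,11,9,2],[(4426,[2,11,9,13,6]),(4216,[]),(4238,[2,13,6,9,14]),(185,[]),(4450,[4,9,7,14,3]),(4217,[])],[4,10,4,9]),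
  (1,[3,5,1,13,3],[(4462,[]),(212,[]),(185,[])],[2,0,13,14,13]),
  (6,[0,12,17,7,9,3,1,8,10,2],[(518,[0,10,15,5,7]),(540,[]),(508,[]),(508,[]),(522,[0,3,9,3,15]),(185,[]),(4362,[4,3,7,10,8])],[0,7,5,15,5]),
  (1,[3,17,14,3],[(4470,[]),(185,[]),(188,[])],[2,0]),
  (7,[0,4,4,12,3,7,9,3],[(1246,[0,2,2,10]),(1204,[]),(1250,[2,11,7,14,0]),(188,[]),(184,[]),(4274,[2,9,7,13,8]),(4217,[])],[6,15,9,10,9]),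
  (1,[3,4,3,1],[(4478,[]),(213,[])],[9,2,2,10]),
  (5,[0,8,13,5,8,2,4,9,2],[(306,[0,6,11,3,6]),(213,[]),(189,[]),(185,[]),(350,[13,2,5]),(188,[]),(188,[]),(4354,[13,14,7,9]),(4217,[])],[6,6,13,8]),
  (1,[3,5,10],[(4486,[]),(189,[]),(185,[])],[0,9,15,3,0]),
  (2,[10,13,14,3,11,13,9],[(314,[8,11,12]),(212,[]),(185,[]),(4274,[11,5,15,13])],[0,14,9,9,5]),
  (1,[3,7,1,2,12],[(4494,[]),(184,[])],[14,2,8,5]),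
  (5,[8,10,9,11,3,4,3,9],[(362,[6,8,7,9]),(242,[10,9,11,6]),(189,[]),(4234,[3,11,12,15]),(4217,[])],[3,6,12,12]),
  (1,[3,13,6,3,4],[(4502,[]),(212,[])],[3,7,11,11,7]),
  (2,[8,14,17,13],[(378,[6,12,15,11]),(92,[]),(101,[]),(72,[]),(4210,[3,11,15,7]),(4216,[])],[4,4,10,5,8]),
  (1,[3,13,2,12],[(4510,[]),(393,[]),(380,[]),(424,[])],[0,3,5,5,15]),
  (4,[16,0,5,5],[(378,[14,0,3,3]),(100,[]),(93,[]),(101,[]),(206,[0,7,0,8,2]),(213,[]),(4250,[5,7,13,8])],[3,9,4,11,11]),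
  (1,[3,7,17,2,16],[(4518,[]),(380,[]),(425,[]),(380,[])],[0,9,0,15,9]),
  (5,[0,13,10,7,0],[(378,[0,11,8,5,0]),(84,[]),(84,[]),(76,[]),(326,[5,6,5,8]),(212,[]),(212,[]),(4506,[14,10,5,2]),(4216,[])],[0,7,4,14]),
  (1,[3,7,1,10,2],[(4526,[]),(392,[]),(424,[]),(392,[])],[3,13,10,6,10]),
  (6,[0,4,9,13,17,15],[(378,[0,2,7,11,15,13]),(72,[]),(92,[]),(72,[]),(326,[12,3,8,6]),(212,[]),(212,[]),(4434,[2,8,14,5]),(4217,[])],[6,12,9,14]),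
  (1,[2,1,11,3,8],[(4534,[]),(392,[]),(392,[]),(385,[])],[2,9,12,7,15]),
  (2,[0,5,6,4,15,2],[(406,[0,3,4,2,13]),(184,[]),(189,[]),(4386,[5,12,3,7,4]),(4216,[])],[5,14,14,6]),
  (1,[3,1,7,2,4],[(4542,[]),(425,[]),(393,[])],[11,6,13,2]),
  (2,[0,11,14,8,8,2],[(406,[0,9,12,6,6]),(184,[]),(4250,[5,12,15,7,15])],[4,9,11,4]),
  (1,[2,11,2],[(4550,[]),(392,[]),(392,[]),(384,[])],[11,11,4,0,7]),
  (4,[0,7,12,9,2],[(406,[0,5,10,7]),(212,[]),(212,[]),(238,[0,12,15,6]),(188,[]),(188,[]),(4242,[13,0,10,7])],[15,0,8,6]),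
  (1,[3,1,6],[(4558,[]),(425,[]),(393,[]),(384,[])],[3,0,14,9]),
  (7,[9,17,9,12,2],[(406,[7,15,7,10]),(188,[]),(212,[]),(188,[]),(350,[0,15,15,9]),(212,[]),(188,[]),(184,[]),(4338,[0,13,6,11,8])],[0,2,0,9,15,13]),
  (1,[3,9,5,9],[(4566,[]),(384,[]),(392,[]),(384,[])],[4,3,5,15,3]),
  (5,[9,14,10,13,2,1],[(4514,[7,12,8,11]),(4217,[]),(4398,[4,8,12,8]),(212,[]),(212,[]),(188,[]),(4506,[10,15,2,9]),(4216,[])],[14,2,12,11]),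
  (1,[3,14,4],[(4574,[]),(392,[]),(385,[]),(392,[]),(384,[])],[2,13,10,8]),
  (2,[0,11,0,8,3,1,3],[(446,[0,9,0,6]),(4378,[14,11])],[4,12,2]),
  (1,[3,1,13,6],[(4582,[]),(424,[]),(392,[]),(380,[])],[5,14,0,12]),
  (4,[4,14,6,17,4,2,1,2],[(4562,[2,12,4,15,2]),(4216,[]),(4246,[2,0,11,11]),(185,[]),(188,[]),(4234,[2,2,15,5,10]),(4217,[])],[0,4,12,12,15]),
  (1,[3,11,11],[(4590,[]),(425,[]),(380,[]),(424,[]),(380,[])],[6,0,14,6,8]),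
  (6,[0,6,16,8,8,3,1,2,1],[(3862,[0,4,14,6,6]),(2272,[]),(3566,[0,15,10,15,3]),(188,[]),(184,[]),(4442,[0,4,4,15,13]),(4216,[])],[3,0,13,9,11]),
  (1,[2,5,10],[(4598,[]),(424,[]),(393,[]),(380,[])],[0,14,0,3,4]),
  (4,[4,9,12,14,9,2,7,1],[(454,[2,7,10,12,7]),(470,[0,2,0,5,10]),(424,[]),(384,[]),(424,[]),(392,[]),(4562,[8,4,9,15]),(4216,[])],[7,14,11]),
  (1,[3,6,2,10,16],[(4606,[])],[0,11,5,10]),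
  (4,[0,11,13,9,11,2,7,1],[(454,[0,9,11,7,9]),(462,[13,6,11,13]),(424,[]),(392,[]),(384,[]),(4562,[10,13,0])],[6,0,2]),
  (1,[3,8,1,3],[(4614,[]),(425,[]),(392,[]),(380,[])],[8,13,2,15]),
  (5,[0,10,16,14,13],[(502,[0,8,14,12,11]),(392,[]),(425,[]),(392,[]),(384,[]),(454,[2,7,10]),(392,[]),(392,[]),(385,[]),(392,[]),(4530,[2,14,3,4,6])],[3,12,2,6,12]),
  (1,[3,5,7,10],[(4622,[]),(504,[]),(509,[]),(504,[])],[10,7,10,6]),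
  (6,[4,11,5,15,8],[(502,[2,9,3,13,6]),(393,[]),(385,[]),(393,[]),(454,[0,5,5,8,10]),(392,[]),(424,[]),(384,[]),(4570,[7,12,7,9])],[4,12,5,8,11]),
  (1,[3,9,2,9],[(4630,[]),(549,[]),(533,[]),(504,[])],[]),
  (2,[4,6,4,10,3],[(554,[2,4,2,8]),(392,[]),(424,[]),(393,[]),(4578,[6,11,2,7,10])],[0,4,4,4,0]),
  (1,[3,1,4,15,3],[(4638,[]),(541,[]),(548,[]),(540,[])],[4,6,11,12]),
  (6,[6,17,4,10,3],[(1890,[4,15,2,8]),(1720,[]),(1673,[]),(1758,[2,9,12,9,6]),(188,[]),(4306,[8,3,11,8]),(4217,[])],[3,9,13,7,3]),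
  (1,[3,1,3,5,12],[(4646,[]),(732,[]),(732,[]),(728,[]),(728,[])],[4,8,6,12]),
  (7,[0,5,6,9,7,3],[(1890,[0,3,4,7,5]),(1830,[8,8,8,3]),(532,[]),(541,[]),(541,[]),(4634,[4,13,4,4,8]),(4216,[])],[3,0,13,4,6]),
  (1,[3,7,4,8],[(4654,[]),(729,[]),(732,[]),(728,[])],[2,2,14,4,11]),
  (7,[12,4,7,3],[(1890,[10,2,5]),(1758,[13,3,11,12]),(184,[]),(213,[]),(184,[]),(4410,[11,8,10,7]),(4216,[])],[3,11,3,5]),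
  (1,[3,1,3,13,16],[(4662,[]),(728,[]),(728,[]),(733,[])],[2,12,10,13,9]),
  (7,[0,12,9,15,2],[(2290,[0,10,7,13]),(2273,[]),(2268,[]),(3698,[4,9,15,9]),(213,[]),(188,[]),(4458,[3,11,11,15])],[4,8,15,10,7]),
  (1,[3,1,16,2,11],[(4670,[]),(733,[]),(729,[]),(732,[]),(728,[]),(732,[]),(728,[]),(728,[])],[3,8,2,15,2]),
  (6,[15,6,17,5,3,1],[(1874,[13,4,15,3]),(1720,[]),(1822,[6,5,9,9]),(540,[]),(549,[]),(533,[]),(4626,[3,4,13,6])],[2,4,0,10,13]),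
  (1,[3,11,3,1],[(4678,[]),(732,[]),(729,[]),(732,[]),(728,[]),(732,[]),(728,[])],[6,8,0,6,13]),
  (5,[4,12,8,13,4,3,1,3],[(2314,[2,10,6,11,2]),(2273,[]),(2268,[]),(3986,[12,9,13,6]),(213,[]),(184,[]),(4330,[4,2,5,7,8]),(4217,[])],[0,8,7,4,3]),
  (1,[3,4,14,2,5],[(4686,[]),(729,[]),(729,[]),(732,[])],[10,8,12,10]),
  (5,[6,15,11,5,15,2,1,2],[(4674,[4,13,9,3,13]),(4454,[2,6,2,6,11]),(188,[]),(184,[]),(4354,[2,12,12,14])],[14,3,3]),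
  (1,[3,5,8,15,2],[(4694,[]),(732,[]),(729,[]),(729,[]),(732,[])],[6,15,13,0]),
  (7,[0,7,12,4,11,2,1,2],[(4674,[0,5,10,2,9]),(4254,[7,11,9,4,0]),(189,[]),(185,[]),(4242,[0,7,4,4,3]),(4217,[])],[9,7,2,5]),
  (1,[3,5,11,6,3],[(4702,[]),(732,[]),(729,[]),(732,[]),(728,[]),(732,[]),(728,[]),(728,[])],[5,6,5,8,14]),
  (7,[0,13,14,12,2,1,2],[(4674,[0,11,12,10]),(4438,[2,15,11,13,10]),(212,[]),(189,[]),(4274,[0,12,0,7,9]),(4217,[])],[2,5,14,7,15]),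
  (1,[3,14,2,14,9],[(4710,[]),(732,[]),(728,[]),(732,[]),(729,[]),(732,[]),(728,[])],[3,3,14,14,13]),
  (4,[4,16,6,10,5,3,10,2,13],[(2354,[2,14,4,8,3]),(3730,[4,12,15,5,12]),(212,[]),(212,[]),(212,[]),(4338,[3,13,5,8]),(4217,[])],[4,0,7,14,9]),
  (1,[3,17,3,17],[(4718,[]),(732,[]),(729,[]),(732,[]),(729,[])],[6,12,11,14]),
  (5,[4,9,7,11,3,10,2,13],[(2354,[2,7,5,9]),(2273,[]),(3754,[0,4,8,11,9]),(189,[]),(184,[]),(4346,[2,0,8,14,13]),(4216,[])],[3,10,10,13]),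
  (1,[3,5,1,3,5],[(4726,[]),(729,[]),(733,[])],[9,7,0,10]),
  (4,[16,7,14,4,3,15,11,3],[(2282,[14,5,12,2]),(2272,[]),(2268,[]),(3846,[8,13,9,9]),(425,[]),(393,[]),(384,[]),(4578,[0,7,11,12,8]),(4217,[])],[3,15,2,14,6]),
  (1,[2,6,3,17],[(4734,[]),(729,[]),(733,[]),(728,[]),(732,[]),(728,[])],[0,3,14,6,6]),
  (6,[8,10,4,9,3,4,2,1],[(1234,[6,8,2,7]),(1213,[]),(1220,[]),(1213,[]),(1213,[]),(1250,[3,7,2,10,2]),(212,[]),(189,[]),(4410,[0,10,3,11,2])],[5,15,7,9,6]),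
  (1,[3,11,2,1,11],[(4742,[]),(729,[]),(733,[]),(729,[])],[4,8,12,8]),
  (7,[5,5,9,10,17,3,4,2,1],[(1234,[3,3,7,8,15]),(1208,[]),(1220,[]),(1212,[]),(1208,[]),(1204,[]),(1250,[6,13,5]),(213,[]),(184,[]),(4258,[0,6,9,14,10]),(4217,[])],[0,2,6,14,11])]
theorem hD10 : allD2 lk B KW KW F A RL R0 D10 1080 = true := by decide +kernel
def D11 : List (ℕ × Word × List (ℕ × Word) × Word) := [(1,[3,4,4,10,2],[(4750,[]),(728,[]),(732,[]),(729,[]),(732,[]),(729,[])],[8,11,13,9]),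
  (4,[0,5,12,4,8,2,4,3,9],[(4706,[0,3,10,2,6]),(4217,[]),(4406,[0,5,7,2,8]),(213,[]),(4458,[5,3,15,9]),(4217,[])],[3,13,5,11,5]),
  (1,[3,15,15,2],[(4758,[]),(728,[]),(733,[]),(728,[])],[0,15,2,11]),
  (6,[13,5,7,12,3,14,3,1],[(4682,[11,3,5,10]),(4526,[7,10,4]),(425,[]),(380,[]),(424,[]),(4610,[4,10,8,14]),(4216,[])],[3,0,8,14]),
  (1,[3,7,4],[(4766,[]),(732,[]),(728,[]),(732,[]),(728,[])],[0,13,6,8]),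
  (4,[6,15,8,7,11],[(774,[4,13,6,5,9]),(612,[]),(661,[]),(661,[]),(608,[]),(1014,[2,13,0,12,11]),(733,[]),(729,[]),(732,[]),(728,[]),(4738,[4,7,8,4,15]),(4216,[])],[2,4,0,2,2]),
  (1,[3,4,15,2,10],[(4774,[]),(780,[])],[0,3,14,7,13]),
  (4,[15,16,13,15],[(774,[13,14,11,13]),(636,[]),(636,[]),(608,[]),(1014,[0,9,9,11,8]),(732,[]),(728,[]),(728,[]),(4698,[0,5,0,14]),(4217,[])],[2,6,11,4,4]),
  (1,[3,5,9,2,12],[(4782,[]),(780,[]),(785,[]),(780,[])],[0,3,11,3,4]),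
  (5,[4,11,6,14,8],[(774,[2,9,4,12,6]),(612,[]),(660,[]),(636,[]),(1014,[3,4,0,2,13]),(732,[]),(729,[]),(732,[]),(4770,[5,11,2,10,8]),(4216,[])],[3,3,6,12]),
  (1,[2,1,2,6],[(4790,[]),(789,[]),(780,[]),(776,[])],[0,4,0,3]),
  (5,[0,12,15,12,11],[(774,[0,10,13,10,9]),(612,[]),(660,[]),(620,[]),(629,[]),(1014,[2,10,7,10,10]),(733,[]),(729,[]),(729,[]),(732,[]),(4674,[4,6,11,2]),(4217,[])],[15,6,2,12]),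
  (1,[3,1,3,15,2],[(4798,[]),(804,[]),(776,[])],[0,3,5,8,11]),
  (5,[8,5,0,8,5,3],[(2410,[6,3,0,6,3]),(2268,[]),(3866,[5,9,4]),(424,[]),(392,[]),(380,[]),(424,[]),(4514,[9,0,10,12]),(4217,[])],[3,13,10,9]),
  (1,[3,1,2,13,3],[(4806,[]),(785,[])],[0,2,6,11,5]),
  (7,[6,12,16,8,8,3],[(2410,[4,10,14,6,6]),(2268,[]),(2358,[3,3,7,5,11]),(805,[]),(780,[]),(788,[]),(4802,[6,10,13,10]),(4216,[])],[12,8,4,13]),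
  (1,[3,5,3,4,17],[(4814,[]),(789,[]),(785,[]),(780,[]),(776,[])],[8,0,12,12]),
  (7,[5,8,0,13,6,2],[(4794,[3,6,0,11,4]),(4217,[]),(4358,[2,8,2,0,7]),(212,[]),(189,[]),(4394,[13,13,14,9]),(4216,[])],[2,9,5,12,11]),
  (1,[3,6,2,11,11],[(4822,[]),(805,[]),(780,[])],[2,9,13,15,13]),
  (7,[0,5,0,17,2,1],[(4786,[0,3,0,15]),(4217,[]),(4478,[6,11,7,3]),(212,[]),(212,[]),(212,[]),(4346,[9,15,8,6])],[0,3,9,14,12]),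
  (1,[3,12,8,14],[(4830,[]),(789,[]),(784,[]),(776,[])],[2,0,4,0]),
  (7,[15,4,16,12,2,1],[(4786,[13,2,14,10]),(4216,[]),(4326,[0,4,13,4,10]),(4434,[8,4,0,9])],[7,2,13,6]),
  (1,[2,4,11],[(4838,[]),(805,[]),(776,[])],[4,6,10,6,5]),
  (5,[11,4,10,12,2,1,3],[(810,[9,2,8,10]),(804,[]),(789,[]),(780,[]),(776,[]),(862,[2,6,14]),(212,[]),(212,[]),(184,[]),(4266,[15,0,5]),(4217,[])],[2,6,2,0]),
  (1,[3,11,3,14],[(4846,[]),(789,[]),(785,[])],[13,3,10,5]),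
  (5,[17,6,8,5,2,1,2],[(2402,[15,4,6,3]),(2268,[]),(4150,[0,4,15,12,2]),(729,[]),(733,[]),(4706,[13,3,11,15]),(4217,[])],[12,2,14,8]),
  (1,[3,5,2,17,14],[(4854,[]),(785,[]),(788,[]),(776,[])],[4,9,7,13]),
  (4,[0,17,4,6,3,1,3,1],[(1390,[0,15,2,4]),(1316,[]),(1288,[]),(1284,[]),(1646,[3,3,14,5]),(732,[]),(729,[]),(732,[]),(728,[]),(732,[]),(728,[]),(728,[]),(4722,[4,10,3,7,5]),(4217,[])],[8,10,2,4,12]),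
  (1,[2,8,3],[(4862,[]),(785,[]),(788,[])],[2,0,2,11,8]),
  (2,[0,12,9,17,12,3,1,3,1,2],[(906,[0,10,7,15,10]),(4682,[7,10,2,7]),(4216,[])],[15,5,9,13]),
  (1,[2,17,5,3],[(4870,[]),(804,[]),(785,[]),(780,[])],[5,8,15,11,7]),
  (5,[0,5,12,16,0,3,1,3,1,2],[(906,[0,3,10,14,0]),(728,[]),(733,[]),(1022,[0,3,14,9,5]),(733,[]),(729,[]),(732,[]),(728,[]),(732,[]),(728,[]),(4658,[2,0,8,11,7]),(4216,[])],[5,6,6,11,12]),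
  (1,[3,14,16,2,17],[(4878,[]),(804,[]),(784,[]),(776,[])],[2,14,0,7,15]),
  (5,[0,12,12,17,0,3,1,2,1,3],[(818,[0,10,10,15,0]),(788,[]),(784,[]),(780,[]),(974,[3,7,8,11,4]),(805,[]),(788,[]),(4826,[2,0,11,5,5])],[2,7,8,5]),
  (1,[3,8,6,17,3],[(4886,[]),(804,[]),(780,[]),(788,[]),(776,[])],[8,3,7,8]),
  (6,[0,15,7,7,4,3,1,2,1,3],[(818,[0,13,5,5,2]),(804,[]),(788,[]),(974,[2,13,13,2,5]),(785,[]),(805,[]),(4882,[8,5,9,0]),(4217,[])],[0,8,14,2,10]),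
  (1,[3,5,2,11,13],[(4894,[]),(805,[]),(776,[])],[2,9,3,10,5]),
  (5,[4,11,8,4,16,2,4,3,9],[(862,[2,9,6,2,14]),(518,[0,11,15,3,10]),(540,[]),(532,[]),(509,[]),(504,[]),(4634,[0,6,0,6,8]),(4217,[])],[0,3,15,6,4]),
  (1,[3,5,14,6,2],[(4902,[]),(805,[]),(788,[])],[3,6,10,2,5]),
  (2,[7,11,13,6,14,2,17,14],[(970,[5,9,11,4,12]),(804,[]),(789,[]),(4802,[2,0,7,4,10])],[2,8,2,12,15]),
  (1,[3,14,3,5,15],[(4910,[]),(785,[]),(780,[]),(776,[])],[2,0,3,3,3]),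
  (4,[4,9,12,12,9],[(1078,[2,7,10,10,7]),(1061,[]),(1044,[]),(1060,[]),(1060,[]),(1052,[]),(1030,[4,7,9,11,6]),(805,[]),(776,[]),(4834,[7,3,3,14])],[2,6,15,5,11]),
  (1,[3,1,9,2],[(4918,[]),(1108,[]),(1088,[]),(1108,[]),(1084,[])],[0,15,8,0,7]),
  (2,[0,5,12,4,3],[(1250,[0,3,10,2]),(213,[]),(4426,[12,7,14,3]),(4216,[])],[7,14,6,9]),
  (1,[3,5,10,7],[(4926,[]),(1209,[])],[3,5,3,5]),
  (2,[0,10,5,14,17,3],[(1250,[0,8,3,12,15]),(184,[]),(213,[]),(184,[]),(4466,[12,0,10,6])],[0,9,11,13]),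
  (1,[3,1,15,9,3],[(4934,[]),(1204,[]),(1212,[])],[4,13,10,6]),
  (2,[8,12,15,5],[(1282,[6,10,13,3]),(392,[]),(392,[]),(4586,[2,15,13,4,11])],[13,3,13,14]),
  (1,[3,8,3,1],[(4942,[]),(1288,[]),(1284,[])],[4,11,12,9,10]),
  (2,[5,14,12],[(1282,[3,12,10]),(380,[]),(424,[]),(380,[]),(4618,[12,7,8]),(4216,[])],[14,6,4,9]),
  (1,[3,5,2,17],[(4950,[]),(1316,[]),(1292,[]),(1284,[])],[11,5,5,0,14]),
  (4,[4,8,6,0,4],[(1282,[2,6,4,0,2]),(380,[]),(424,[]),(454,[3,4,8,12,8]),(425,[]),(384,[]),(4522,[7,8,8,2]),(4216,[])],[3,6,3,13,7]),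
  (1,[3,8,3,1,2],[(4958,[]),(1288,[]),(1284,[])],[2,12,2,5,13]),
  (4,[0,6,8,11,8],[(1282,[0,4,6,9,6]),(393,[]),(424,[]),(446,[12,15,10,13]),(185,[]),(212,[]),(4490,[0,5,3,6,4]),(4217,[])],[13,4,14,8,10]),
  (1,[2,7,1,3],[(4966,[]),(1308,[]),(1308,[])],[0,2,10,6,2]),
  (5,[12,17,7],[(1282,[10,15,5]),(384,[]),(424,[]),(380,[]),(482,[2,4,4]),(392,[]),(384,[]),(392,[]),(384,[]),(4618,[0,6,15,7,13])],[0,12,10,4,12]),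
  (1,[3,9,2,6,3],[(4974,[]),(1309,[]),(1316,[]),(1284,[])],[2,6,2,10]),
  (5,[6,16,11,7,8],[(1282,[4,14,9,5,6]),(392,[]),(392,[]),(380,[]),(886,[3,6,11,13]),(785,[]),(805,[]),(4898,[3,7,3,6,2])],[2,8,8,3,7]),
  (1,[3,5,15,3,10],[(4982,[]),(1308,[]),(1316,[]),(1284,[])],[4,14,5,12]),
  (6,[7,11,0,17],[(1282,[5,9,0,15]),(385,[]),(392,[]),(384,[]),(446,[2,4,4,2,5]),(213,[]),(4402,[2,14,12,12,8]),(4216,[])],[7,10,15,12]),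
  (1,[3,5,2,7,13],[(4990,[]),(1308,[])],[0,2,13,2,14]),
  (4,[0,13,13,8,13,2,1],[(4970,[0,11,11,6,11]),(4216,[]),(4526,[4,0,2,6,11]),(392,[]),(380,[]),(4562,[11,12,14,8]),(4217,[])],[11,9,14,13]),
  (1,[3,4,6,6],[(4998,[]),(1292,[])],[0,10,6,4,2]),
  (6,[6,0,14,13,5,2,1],[(4970,[4,0,12,11,3]),(4217,[]),(4854,[6,2,9,15]),(805,[]),(780,[]),(788,[]),(4794,[0,4,12,10,4]),(4217,[])],[4,11,2,8]),
  (1,[3,10,7,13,2],[(5006,[]),(1316,[]),(1288,[]),(1284,[])],[12,11,5,12]),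
  (6,[9,5,12,14,2,1],[(4970,[7,3,10,12]),(4216,[]),(4462,[0,9,6,12,5]),(189,[]),(213,[]),(4290,[0,3,10,7,11])],[10,13,5,10]),
  (1,[3,1],[(5014,[]),(1308,[]),(1316,[]),(1284,[])],[7,8,5,8]),
  (6,[11,11,12,17,2,1],[(4970,[9,9,10,15]),(4342,[0,7,8,11,13]),(4450,[7,12,11,15])],[0,7,8,4,13]),
  (1,[3,6,2,5,7],[(5022,[]),(1316,[]),(1308,[]),(1308,[])],[3,14,9,2,10]),
  (4,[6,0,10,0,8,3,1,3],[(4986,[4,0,8,0,6]),(4216,[]),(4798,[2,6,4,8,12]),(784,[]),(804,[]),(776,[]),(4842,[3,12,3,5,11]),(4217,[])],[4,14,6,9,5]),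
  (1,[3,8,17,5],[(5030,[])],[2,13,4,12,0]),
  (6,[0,4,4,11,17,3,1,3],[(4986,[0,2,2,9,15]),(4217,[]),(4518,[2,10,6,15,7]),(392,[]),(392,[]),(384,[]),(4562,[4,2,6,14,11]),(4217,[])],[2,6,13]),
  (1,[3,1,3,13,4],[(5038,[]),(1308,[]),(1308,[])],[10,7,4,8]),
  (6,[0,9,12,5,15,3,1,3],[(4986,[0,7,10,3,13]),(4216,[]),(4566,[4,14,11,8]),(393,[]),(424,[]),(393,[]),(4570,[0,12,0,8,13]),(4216,[])],[0,13,11,2,5]),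
  (1,[3,15,2,6,16],[(5046,[]),(1316,[]),(1308,[])],[2,8,3,4]),
  (2,[0,4,10,15,11,3,1,2],[(1498,[0,2,8,13,9]),(1288,[]),(4962,[2,0,15,12,6]),(4217,[])],[8,4,7,3,8]),
  (1,[3,15,2,16,4],[(5054,[])],[7,0,2,9,11]),
  (2,[5,15,12,5,3,1,2],[(1498,[3,13,10,3]),(1309,[]),(1288,[]),(5010,[2,9,15,7,3]),(4217,[])],[10,7,14,5]),
  (1,[3,5,8,4,2],[(5062,[]),(1292,[])],[0,10,5,9,15]),
  (2,[14,9,16,10,3,1,2],[(1498,[12,7,14,8]),(1316,[]),(1288,[]),(5066,[11,14,8]),(4216,[])],[2,5,5,13]),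
  (1,[2,7,3,8],[(5070,[]),(1308,[]),(1284,[])],[0,8,15,8,11]),
  (2,[4,4,17,9,15,3,1,2],[(1498,[2,2,15,7,13]),(1309,[]),(1316,[]),(5010,[0,3,6,3,5]),(4217,[])],[13,2,12,15]),
  (1,[3,4,6,11,2],[(5078,[]),(1308,[]),(1284,[])],[11,6,8,7]),
  (2,[6,8,6,17,3,1,2],[(1498,[4,6,4,15]),(1316,[]),(1288,[]),(1284,[]),(5074,[3,5,3,11,12])],[0,14,4,9,5]),
  (1,[3,11,2,15,3],[(5086,[]),(1316,[]),(1292,[]),(1288,[])],[0,9,14,3,14]),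
  (3,[7,12,12,12,3,1,2],[(1498,[5,10,10,10]),(4970,[0,14,6,6,0]),(4216,[])],[4,0,8,4]),
  (1,[3,5,14,4,3],[(5094,[])],[9,2,11,8]),
  (2,[0,4,16,15,8,3,10,2,13],[(1534,[0,2,14,13,6]),(1309,[]),(1316,[]),(1284,[]),(4978,[0,4,6,8,2])],[8,3,5,10,10]),
  (1,[3,10,2,8],[(5102,[]),(1308,[]),(1284,[])],[8,11,12,15]),
  (3,[10,14,13,4,3,10,2,13],[(1534,[8,12,11,2]),(1292,[]),(1288,[]),(5034,[14,6,14,3]),(4217,[])],[0,3,6,5,2]),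
  (1,[2,13,2],[(5110,[])],[4,3,13,9]),
  (4,[0,11,15,4,11,3,10,2,13],[(1534,[0,9,13,2,9]),(1316,[]),(1308,[]),(1284,[]),(1550,[3,11,15,11,7]),(1316,[]),(1309,[]),(1284,[]),(5114,[3,9,5,7,8]),(4216,[])],[0,5,8,12,10]),
  (1,[3,14,16,15,3],[(5118,[]),(1316,[]),(1288,[]),(1284,[])],[4,7,11,3,9]),
  (4,[9,5,14,17,3,10,2,13],[(1534,[7,3,12,15]),(1288,[]),(1284,[]),(1362,[13,4,13,14]),(732,[]),(732,[]),(729,[]),(4666,[3,13,0,2,15]),(4216,[])],[6,14,11,5,11]),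
  (1,[3,5,9,2,16],[(5126,[]),(1316,[]),(1309,[])],[9,0,11]),
  (5,[9,6,13,13,3,10,2,13],[(1534,[7,4,11,11]),(1308,[]),(1288,[]),(1554,[0,7,2,12,6]),(1316,[]),(1288,[]),(1284,[]),(4954,[2,5,0,14]),(4216,[])],[0,3,6,5,8]),
  (1,[3,6,1,2],[(5134,[]),(1316,[]),(1288,[]),(1284,[])],[0,11,9,11,13]),
  (6,[0,14,8,12,8,3,10,2,13],[(1534,[0,12,6,10,6]),(1288,[]),(1570,[3,15,15,7]),(188,[]),(4306,[5,10,6,12])],[14,12,5,2]),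
  (1,[3,7,9,7],[(5142,[]),(1309,[]),(1288,[])],[10,2,9,4]),
  (7,[9,11,15,11,3,10,2,13],[(1534,[7,9,13,9]),(1309,[]),(1362,[9,3,13,5]),(733,[]),(728,[]),(728,[]),(732,[]),(728,[]),(4762,[5,15,11])],[2,14,8,4,8]),
  (1,[3,4,14,3,15],[(5150,[]),(1308,[]),(1292,[])],[9,13,6,14]),
  (7,[0,6,13,10,7,3,10,2,13],[(1534,[0,4,11,8,5]),(1309,[]),(1570,[4,15,0,8,4]),(184,[]),(189,[]),(184,[]),(4506,[11,2,14,9]),(4217,[])],[8,11,2,8]),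
  (1,[3,5,15,4,2],[(5158,[]),(1309,[]),(1316,[]),(1284,[])],[0,4,0,3]),
  (4,[5,8,0,13,9,3,1,3,1,2],[(2482,[3,6,0,11,7]),(3866,[4,0,12,10,3]),(424,[]),(393,[]),(385,[]),(4530,[2,0,9,9]),(4217,[])],[5,10,8,3]),
  (1,[3,10,2,8,3],[(5166,[]),(1308,[]),(1292,[])],[13,10,14,4]),
  (6,[8,6,12,10,5,3,1,3,1,2],[(2482,[6,4,10,8,3]),(2268,[]),(2406,[0,2,4,6,13]),(780,[]),(784,[]),(4890,[4,6,2,12]),(4216,[])],[7,10,13,13]),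
  (1,[3,5,14,3,5],[(5174,[]),(1316,[]),(1309,[])],[3,15,3,7]),
  (6,[14,7,8,8,3,1,3,1,2],[(2482,[12,5,6,6]),(2273,[]),(2268,[]),(3778,[14,8,3,15]),(185,[]),(212,[]),(4506,[2,14,8,4]),(4216,[])],[0,5,11,9,6])]
theorem hD11 : allD2 lk B KW KW F A RL R0 D11 1188 = true := by decide +kernel
end
end CA.J4M
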