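import Cfsg.Agent.Lib.Spor.J4M

/-! Derivations of the double coset table of `J₄`. -/

set_option autoImplicit false
set_option maxRecDepth 100000
set_option linter.all false
namespace CA.J4M
open CA.CNet CA.CWord CA.CLevel CA.CSimple CA.CPoint CA.CLow CA.CTodd CA.TCos
noncomputable section

def D12 : List (ℕ × Word × List (ℕ × Word) × Word) := [(1,[3,5,3,12,10],[(5182,[]),(1316,[])],[2,15,4,4]),
  (6,[9,15,7,11,3,1,3,1,2],[(2482,[7,13,5,9]),(2273,[]),(2268,[]),(3342,[2,6,6,12,15]),(184,[]),(4322,[9,14,14,2])],[3,0,9,12,2]),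
  (1,[3,5,9,14],[(5190,[]),(1288,[])],[4,12,10]),
  (6,[0,17,11,13,17,3,15,11,3],[(4946,[0,15,9,11,15]),(4217,[]),(4230,[0,15,9,0,5]),(188,[]),(212,[]),(188,[]),(4290,[2,5,8,15,15])],[3,0,3,9,5]),
  (1,[3,5,1,7],[(5198,[]),(1288,[]),(1284,[])],[2,2,5,6,4]),
  (7,[8,4,13,11,15,3,15,11,3],[(4946,[6,2,11,9,13]),(4216,[]),(4462,[0,3,3,4,4]),(4346,[0,9,6,12,11]),(4217,[])],[0,12,12,3,7]),
  (1,[2,1,4,4],[(5206,[]),(1309,[]),(1292,[])],[0,4,4,6,14]),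
  (7,[4,4,13,14,14,3,15,11,3],[(4946,[2,2,11,12,12]),(4217,[]),(5006,[2,10,8,8]),(1316,[]),(1288,[]),(4962,[4,8,10,5]),(4216,[])],[9,15,12,11]),
  (1,[2,15,7],[(5214,[]),(1316,[]),(1288,[])],[6,8,10,15,5]),
  (2,[6,4,15,6,4,3,4,2,7],[(1602,[4,2,13,4,2]),(188,[]),(184,[]),(4314,[3,15,5,9,5])],[2,5,13,10,8]),
  (1,[3,7,7],[(5222,[]),(1316,[]),(1292,[]),(1284,[])],[6,12,3,5,10]),
  (2,[0,17,15,13,3,4,2,7],[(1602,[0,15,13,11]),(188,[]),(4490,[0,4,14,7,5])],[13,15,13,15]),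
  (1,[3,9,2],[(5230,[]),(1308,[]),(1292,[])],[8,7,0,3]),
  (2,[4,8,13,7,9,3,4,2,7],[(1602,[2,6,11,5,7]),(212,[]),(189,[]),(4402,[6,0,5,9,0]),(4216,[])],[10,12,7,8]),
  (1,[2,6,17],[(5238,[]),(1316,[]),(1284,[])],[3,9,7,15,9]),
  (2,[0,8,15,17,12,3,4,2,7],[(1602,[0,6,13,15,10]),(188,[]),(188,[]),(4274,[2,8,13,8,15])],[13,3,4,8]),
  (1,[3,12,3,4,3],[(5246,[]),(1308,[]),(1292,[])],[8,2,5,5,9]),
  (3,[0,5,12,12,16,3,4,2,7],[(1602,[0,3,10,10,14]),(212,[]),(188,[]),(185,[]),(4442,[2,6,15,12,2])],[0,10,5,5,2]),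
  (1,[3,4,2,9,4],[(5254,[]),(1308,[]),(1292,[])],[7,14,7,9,4]),
  (7,[4,6,0,7,3,4,2,7],[(1602,[2,4,0,5]),(302,[0,11,14,12,9]),(213,[]),(213,[]),(184,[]),(4442,[5,10,7,4])],[0,9,14,6,3]),
  (1,[3,4,9,7],[(5262,[]),(1292,[]),(1284,[])],[0,3,14,2,10]),
  (5,[0,14,16,4,14,3,16,2,14],[(5050,[0,12,14,2,12]),(4217,[]),(4414,[3,14,9,4]),(188,[]),(212,[]),(188,[]),(4490,[0,13,14,13,3]),(4216,[])],[12,10,14,7]),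
  (1,[3,1,8,2,6],[(5270,[]),(1316,[]),(1288,[]),(1284,[])],[15,3,11,6]),
  (6,[14,8,16,14,3,16,2,16],[(1614,[12,6,14,12]),(189,[]),(185,[]),(442,[14,6,3,9]),(393,[]),(424,[]),(392,[]),(384,[]),(4602,[3,5,12,11,6]),(4216,[])],[0,13,2,11,14]),
  (1,[3,16,1,3],[(5278,[]),(1316,[]),(1292,[]),(1284,[])],[6,8,11,4]),
  (6,[0,7,13,11,5,3,16,2,16],[(1614,[0,5,11,9,3]),(184,[]),(189,[]),(184,[]),(302,[5,13,11,14]),(212,[]),(188,[]),(4290,[4,0,8,12,0]),(4217,[])],[8,13,9,6]),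
  (1,[3,4,13,4],[(5286,[]),(1316,[]),(1292,[]),(1288,[])],[10,2,4,6]),
  (6,[5,8,12,7,7,3,16,2,16],[(1614,[3,6,10,5,5]),(184,[]),(213,[]),(1514,[0,12,8,2,10]),(1292,[]),(1284,[]),(4978,[0,9,12,11]),(4217,[])],[0,13,11,6,10]),
  (1,[3,5,6,2,15],[(5294,[]),(1309,[]),(1316,[])],[5,3,7,12,4]),
  (7,[11,13,9,13,3,16,2,16],[(1614,[9,11,7,11]),(185,[]),(1598,[6,3,6,13,10]),(1308,[]),(1316,[]),(1284,[]),(5114,[2,9,0,12,2])],[0,7,10,5,7]),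
  (1,[3,9,9,6,2],[(5302,[]),(1316,[]),(1288,[]),(1284,[])],[7,4,0,2,6]),
  (7,[16,7,5,15,3,16,2,16],[(1614,[14,5,3,13]),(306,[4,12,11,2]),(213,[]),(213,[]),(189,[]),(4442,[8,13,13,6])],[2,7,9]),
  (1,[3,7,2,11,14],[(5310,[]),(1308,[]),(1308,[])],[8,6,9,3,3]),
  (4,[14,8,14,4,3,7,17,3,14],[(5138,[12,6,12,2]),(4216,[]),(4382,[5,8,6,0,14]),(212,[]),(4370,[13,13,8,14]),(4216,[])],[6,8,5,8,11]),
  (1,[3,1,16,3,9],[(5318,[]),(1316,[]),(1292,[]),(1284,[])],[9,10,7,15]),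
  (7,[13,17,7,17,3,7,17,3,14],[(5138,[11,15,5,15]),(4216,[]),(4270,[15,0,7,13]),(184,[]),(189,[]),(184,[]),(4450,[5,7,0,9,3]),(4217,[])],[3,5,15,4,0]),
  (1,[3,5,11,3,15],[(5326,[]),(1316,[]),(1308,[]),(1308,[])],[3,8,2]),
  (5,[5,15,15,0,3,1,3,7,4],[(2450,[3,13,13,0]),(2273,[]),(3618,[3,3,4,12,4]),(213,[]),(189,[]),(185,[]),(4354,[6,2,13,13])],[2,9,5,13]),
  (1,[3,1,7,2,9],[(5334,[]),(1316,[]),(1308,[])],[4,12,2,4,13]),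
  (2,[4,16,4,0,4,2,6,1,11],[(1442,[2,14,2,0,2]),(805,[]),(4834,[4,11,3,4,12]),(4216,[])],[2,11,14,13,11]),
  (1,[2,16,4],[(5342,[]),(1308,[]),(1292,[])],[4,13,3,0]),
  (2,[0,7,15,5,16,2,6,1,11],[(1442,[0,5,13,3,14]),(805,[]),(784,[]),(4786,[9,14,6,12]),(4216,[])],[5,11,8,12]),
  (1,[3,7,2,6,1],[(5350,[]),(1309,[]),(1288,[])],[9,0,14,9]),
  (2,[4,14,4,11,16,2,6,1,11],[(1442,[2,12,2,9,14]),(805,[]),(784,[]),(4794,[15,0,5,6])],[3,12,3,15]),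
  (1,[3,5,1,11,2],[(5358,[]),(1308,[]),(1308,[])],[2,4,11,8,11]),
  (4,[15,17,8,5,2,6,1,11],[(1442,[13,15,6,3]),(805,[]),(780,[]),(970,[0,2,4,10,13]),(805,[]),(784,[]),(780,[]),(4786,[3,7,4,6]),(4216,[])],[9,10,8,3,0]),
  (1,[3,5,1,13],[(5366,[]),(1309,[]),(1316,[]),(1284,[])],[0,5,15,4]),
  (6,[0,11,16,8,14,3,4,3,14,3],[(2586,[0,9,14,6,12]),(2268,[]),(4090,[3,14,13,4]),(732,[]),(729,[]),(729,[]),(732,[]),(728,[]),(4754,[0,13,4,15,10])],[4,8,2,14]),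
  (1,[2,7,12,2],[(5374,[])],[3,4,12,15,5]),
  (5,[4,4,7,8,4,3,5,9,6,3],[(2466,[2,2,5,6,2]),(3242,[2,13,5,15]),(509,[]),(549,[]),(508,[]),(508,[]),(4642,[11,2,5,5]),(4217,[])],[3,0,5,6,15]),
  (1,[3,1,3,15,16],[(5382,[]),(1309,[]),(1284,[])],[0,2,9,6]),
  (6,[0,7,5,13,9,2,7],[(2490,[0,5,3,11,7]),(2272,[]),(2268,[]),(3902,[2,4,13,13,4]),(188,[]),(4266,[4,0,13]),(4216,[])],[5,5,6,9]),
  (1,[2,17,11],[(5390,[]),(1284,[])],[0,2,6,2,10]),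
  (7,[0,6,14,7,3,17,6],[(5178,[0,4,12,5]),(4216,[]),(5390,[6,0,11,3,15]),(1309,[]),(5338,[0,5,3,10,13]),(4216,[])],[4,7,15,12,8]),
  (1,[3,13,14,3,9],[(5398,[]),(1316,[]),(1292,[]),(1284,[])],[3,11,15,13,6]),
  (2,[0,15,10,15,5],[(1666,[0,13,8,13,3]),(393,[]),(424,[]),(393,[]),(384,[]),(4586,[11,8]),(4217,[])],[8,15,5,0,10]),
  (1,[3,4,3,6,6],[(5406,[]),(1668,[])],[3,4,4,15,12]),
  (2,[17,6,16,10],[(1666,[15,4,14,8]),(392,[]),(425,[]),(392,[]),(4618,[6,2,9,6,0]),(4216,[])],[11,2,7,12]),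
  (1,[3,4,13,6,3],[(5414,[]),(1720,[]),(1672,[])],[0,4,13,6,9]),
  (4,[4,17,0,12,12],[(1666,[2,15,0,10,10]),(392,[]),(385,[]),(392,[]),(454,[3,7,4,15]),(384,[]),(393,[]),(384,[]),(4562,[0,13,7,10,13]),(4216,[])],[0,4,4,2,4]),
  (1,[3,6,2,11,7],[(5422,[]),(1672,[]),(1672,[]),(1668,[])],[11,8,2,5]),
  (5,[0,4,9,17,6],[(1666,[0,2,7,15,4]),(392,[]),(424,[]),(384,[]),(482,[4,15,10,15]),(424,[]),(424,[]),(4618,[5,5,5,13])],[0,14,10,6,5]),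
  (1,[3,15,2,8],[(5430,[]),(1673,[])],[3,14,14,13]),
  (6,[0,12,7,15],[(1666,[0,10,5,13]),(424,[]),(392,[]),(380,[]),(1778,[2,10,2,2]),(1720,[]),(1668,[]),(5418,[10,12,8,10]),(4216,[])],[0,2,14,14,12]),
  (1,[3,7,2,1],[(5438,[]),(1668,[]),(1720,[])],[0,10,4,13,2]),
  (2,[8,5,9,15,3],[(1742,[6,3,7,13]),(213,[]),(188,[]),(4490,[3,14,11,2])],[6,5,0,13]),
  (1,[2,13,11],[(5446,[])],[0,5,6,12,10]),
  (2,[0,14,10,5,15,3],[(1742,[0,12,8,3,13]),(213,[]),(189,[]),(4458,[3,0,4,13,4]),(4216,[])],[3,0,4,4,14]),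
  (1,[3,1,13,9],[(5454,[]),(1668,[])],[11,8,3,9]),
  (2,[4,17,15,13,17,3],[(1742,[2,15,13,11,15]),(189,[]),(213,[]),(4306,[0,13,6,5,15])],[0,2,11,2,2]),
  (1,[3,12,14],[(5462,[])],[11,7,13,14]),
  (2,[9,13,11,7,3],[(1742,[7,11,9,5]),(189,[]),(4234,[3,7,10,14,10]),(4217,[])],[9,6,11,8,2]),
  (1,[3,1,7,12,2],[(5470,[]),(1673,[]),(1668,[])],[7,9,13,14,6]),
  (2,[15,5,10,6,3],[(1742,[13,3,8,4]),(213,[]),(213,[]),(4466,[2,14,0,11,7])],[8,0,8,12]),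
  (1,[3,4,9,12],[(5478,[]),(1668,[]),(1720,[]),(1668,[])],[15,12,14,4]),
  (2,[5,10,10,15,17,3],[(1742,[3,8,8,13,15]),(184,[]),(189,[]),(184,[]),(4394,[0,11,9,5])],[0,3,14,12,0]),
  (1,[3,9,6,9,3],[(5486,[]),(1720,[]),(1673,[])],[2,6,0,7,4]),
  (2,[4,11,6,17,5,3],[(1742,[2,9,4,15,3]),(213,[]),(185,[]),(4386,[0,5,9,2,14]),(4217,[])],[3,9,14,13,6]),
  (1,[3,1,14,3,9],[(5494,[]),(1672,[]),(1668,[])],[0,2,14,9,2]),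
  (2,[7,12,16,12,17,3],[(1742,[5,10,14,10,15]),(189,[]),(4402,[6,13,9,5,13]),(4217,[])],[5,10,6,14]),
  (1,[3,14,9],[(5502,[]),(1720,[])],[8,6,14,7]),
  (2,[10,4,16,16,3],[(1742,[8,2,14,14]),(188,[]),(184,[]),(4338,[14,5,7])],[0,14,3,15,12]),
  (1,[3,1,3,17,11],[(5510,[]),(1668,[]),(1720,[])],[0,13,3,8,12]),
  (3,[0,16,15,4,10,3],[(1742,[0,14,13,2,8]),(185,[]),(4490,[2,14,0,12,15]),(4216,[])],[9,6,2,5]),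
  (1,[3,4,11,4],[(5518,[]),(1720,[]),(1673,[])],[0,2,4,9,4]),
  (3,[7,4,12,6,3],[(1742,[5,2,10,4]),(184,[]),(189,[]),(184,[]),(4466,[4,3,13,8])],[2,0,8,6,8]),
  (1,[3,1,3,9,1],[(5526,[]),(1668,[]),(1720,[]),(1668,[])],[15,15,8,7]),
  (3,[7,7,7,14,5,3],[(1742,[5,5,5,12,3]),(212,[]),(184,[]),(4402,[0,7,11,4]),(4216,[])],[5,5,12,14]),
  (1,[2,7,11,11],[(5534,[]),(1672,[]),(1668,[])],[8,15,8,0]),
  (3,[0,8,4,11,14,3],[(1742,[0,6,2,9,12]),(212,[]),(212,[]),(184,[]),(4458,[0,8,3,14,6]),(4216,[])],[0,10,5,9,6]),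
  (1,[3,5,15,3,7],[(5542,[])],[4,6,8,2]),
  (4,[6,11,13,9,7,3],[(1742,[4,9,11,7,5]),(184,[]),(338,[0,9,3,12,11]),(160,[]),(136,[]),(160,[]),(132,[]),(4226,[0,3,13,10,12]),(4216,[])],[3,3,3,6]),
  (1,[3,1,2,12],[(5550,[]),(1720,[]),(1672,[]),(1668,[])],[4,12,4,12]),
  (4,[16,15,8,6,3],[(1742,[14,13,6,4]),(185,[]),(1738,[13,5,15,0]),(1672,[]),(5458,[7,14,7,0,10])],[0,5,9,13]),
  (1,[3,1,5,15],[(5558,[]),(1672,[])],[2,15,5,0,9]),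
  (4,[15,17,14,10,3],[(1742,[13,15,12,8]),(212,[]),(350,[5,7,0,7,11]),(212,[]),(189,[]),(4466,[11,5,0,6]),(4217,[])],[2,12,12,12,10]),
  (1,[3,5,6,2],[(5566,[]),(1672,[]),(1672,[]),(1668,[])],[6,5,13,10]),
  (5,[5,9,4,13,3],[(1742,[3,7,2,11]),(212,[]),(184,[]),(242,[6,0,10,5]),(213,[]),(213,[]),(4466,[10,12,4,3])],[0,8,14,8,13]),
  (1,[3,1,3,13,11],[(5574,[]),(1672,[]),(1668,[])],[3,13,9,10,6]),
  (5,[5,0,6,17,4,3],[(1742,[3,0,4,15,2]),(189,[]),(858,[2,10,12,15]),(805,[]),(780,[]),(776,[]),(4890,[12,7,9,6])],[0,7,3,0,5]),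
  (1,[2,16,2,7],[(5582,[]),(1672,[]),(1668,[])],[12,11,13,8]),
  (5,[0,11,4,16,11,3],[(1742,[0,9,2,14,9]),(213,[]),(184,[]),(242,[6,6,10,6]),(212,[]),(185,[]),(4274,[3,4,9,5,10]),(4216,[])],[0,2,4,9,11]),
  (1,[2,1,7],[(5590,[]),(1668,[])],[6,5,9,14]),
  (6,[13,8,16,16,3],[(1742,[11,6,14,14]),(213,[]),(858,[6,0,13,6,13]),(805,[]),(788,[]),(780,[]),(4818,[0,10,10,7,11]),(4217,[])],[0,5,0,5,3]),
  (1,[3,10,8,3,14],[(5598,[]),(1672,[]),(1672,[]),(1668,[])],[2,6,11,12,15]),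
  (6,[16,10,5,11,3],[(1742,[14,8,3,9]),(188,[]),(184,[]),(858,[11,14,14,0]),(805,[]),(788,[]),(776,[]),(4850,[0,7,11,2,13]),(4217,[])],[6,2,12,4,0]),
  (1,[3,5,3,13,16],[(5606,[]),(1668,[])],[11,8,3,12,12]),
  (7,[17,15,15,7,3],[(1742,[15,13,13,5]),(189,[]),(213,[]),(189,[]),(226,[0,14,10,12]),(212,[]),(188,[]),(4266,[15,0,11,6]),(4216,[])],[0,5,2,9,7])]
theorem hD12 : allD2 lk B KW KW F A RL R0 D12 1296 = true := by decide +kernel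
def D13 : List (ℕ × Word × List (ℕ × Word) × Word) := [(1,[3,13,2,10],[(5614,[]),(1720,[]),(1668,[])],[6,6,0]),
  (7,[7,12,14,8,3],[(1742,[5,10,12,6]),(213,[]),(189,[]),(184,[]),(1590,[0,11,2,12,4]),(1316,[]),(1288,[]),(1284,[]),(5186,[0,8,14,4,7])],[2,15,6,14,2]),
  (1,[3,1,14,2,12],[(5622,[]),(1720,[]),(1673,[]),(1668,[])],[0,12,12,9,14]),
  (2,[0,7,11,7,11,2],[(2186,[0,5,9,5,9]),(1720,[]),(1672,[]),(1668,[]),(5426,[0,12,2,14,13]),(4217,[])],[6,8,15,13,14]),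
  (1,[3,1,3,11,6],[(5630,[]),(1720,[]),(1673,[]),(1668,[])],[10,5,5,9]),
  (2,[0,17,7,5,15,2],[(2186,[0,15,5,3,13]),(1720,[]),(1673,[]),(5426,[3,14,3]),(4217,[])],[3,7,0,13,4]),
  (1,[3,13,4,3,17],[(5638,[])],[12,2,10,12]),
  (2,[4,17,11,7,10,2],[(2186,[2,15,9,5,8]),(5578,[15,13,2,7])],[0,9,15,7,10]),
  (1,[3,15,15,2,13],[(5646,[]),(1720,[]),(1672,[])],[5,8,13,14]),
  (3,[5,15,0,17,9,2],[(2186,[3,13,0,15,7]),(1668,[]),(1720,[]),(1668,[]),(5442,[3,11,11,7,10]),(4216,[])],[15,4,6]),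
  (1,[3,8,3,7,8],[(5654,[]),(1720,[]),(1672,[])],[3,3,5,14,13]),
  (3,[15,13,15,4,2],[(2186,[13,11,13,2]),(1672,[]),(1672,[]),(1668,[]),(5658,[3,12,0,10,5]),(4217,[])],[3,12,2,8,14]),
  (1,[3,15,2,10],[(5662,[]),(1673,[])],[3,5,5,11]),
  (4,[13,14,17,5,2],[(2186,[11,12,15,3]),(1668,[]),(2046,[3,5,8,8,5]),(1284,[]),(5090,[8,0,8,5])],[0,6,11,12]),
  (1,[3,5,12,2],[(5670,[]),(1668,[]),(1720,[])],[8,12,6,0]),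
  (6,[15,13,17,15,2],[(2186,[13,11,15,13]),(1720,[]),(1668,[]),(1950,[3,10,4,15]),(780,[]),(789,[]),(776,[]),(4906,[3,11,9,2,9]),(4216,[])],[8,3,6,15]),
  (1,[3,8,4,11,2],[(5678,[]),(1673,[])],[15,5,11,13]),
  (6,[0,12,10,10,17,2],[(2186,[0,10,8,8,15]),(1673,[]),(2030,[4,8,12,2,5]),(1309,[]),(1284,[]),(5114,[2,5,2,12,15]),(4216,[])],[3,13,10,8]),
  (1,[3,1,3,17,5],[(5686,[]),(1668,[]),(1720,[])],[0,14,12,9,9]),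
  (7,[0,6,16,11,5,2],[(2186,[0,4,14,9,3]),(1672,[]),(1894,[4,15,7]),(728,[]),(4690,[10,9,0,10])],[2,0,8,15,2]),
  (1,[3,4,3,13],[(5694,[]),(1672,[]),(1672,[])],[10,6,4,3]),
  (7,[10,9,13,15,2],[(2186,[8,7,11,13]),(1673,[]),(2250,[3,4,12,9]),(184,[]),(189,[]),(4466,[2,5,15,6,12]),(4217,[])],[5,6,0,5,13]),
  (1,[3,5,9,6,3],[(5702,[]),(1720,[]),(1673,[]),(1668,[])],[3,7,11,8,10]),
  (7,[4,11,15,17,2],[(2186,[2,9,13,15]),(1668,[]),(1720,[]),(1668,[]),(2038,[8,5,12,14,7]),(1316,[]),(1292,[]),(5162,[3,7,0,10,2])],[11,5,3,0]),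
  (1,[3,7,12,7],[(5710,[]),(1720,[]),(1672,[])],[0,14,13,8,13]),
  (6,[6,6,11,9,3,1],[(2682,[4,4,9,7]),(2430,[0,3,13,2,8]),(1212,[]),(1204,[]),(1213,[]),(1204,[]),(4930,[0,2,14,0,15])],[2,6,3,6,11]),
  (1,[3,7,9,16,3],[(5718,[]),(1672,[]),(1672,[])],[5,5,9,11,7]),
  (6,[12,17,17,6,3,1],[(2682,[10,15,15,4]),(2273,[]),(2268,[]),(3086,[3,5,15,13,5]),(1673,[]),(1668,[]),(5474,[10,13,11,14]),(4217,[])],[3,4,9,10]),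
  (1,[2,1,7,3],[(5726,[]),(1672,[]),(1672,[]),(1668,[])],[6,6,2,4,13]),
  (6,[8,4,9,0,3,1],[(2682,[6,2,7,0]),(4034,[9,6,10,2,5]),(729,[]),(733,[]),(4762,[2,2,15,7,0]),(4217,[])],[13,8,4,11]),
  (1,[3,4,3,16,8],[(5734,[]),(1672,[]),(1672,[]),(1668,[])],[14,13,8,10]),
  (7,[17,5,15,11,3,1],[(2682,[15,3,13,9]),(2273,[]),(2510,[7,9,12,2]),(1288,[]),(5042,[2,15,4,12]),(4216,[])],[2,5,13,10,8]),
  (1,[3,10,14,2],[(5742,[]),(1672,[])],[5,2,7,5]),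
  (4,[0,14,0,6,10,3,1,3],[(3130,[0,12,0,4,8]),(2273,[]),(2926,[0,5,7,15,10]),(1668,[]),(1720,[]),(1668,[]),(5482,[0,2,0,15]),(4217,[])],[2,5,5,2,9]),
  (1,[3,5,2,9,6],[(5750,[]),(1672,[])],[7,5,11,8]),
  (5,[4,8,6,10,14,3,1,3],[(3130,[2,6,4,8,12]),(2273,[]),(3094,[15,5,5,11]),(1720,[]),(5666,[0,6,9,14,6])],[0,7,10,3,12]),
  (1,[3,11,2,4,13],[(5758,[]),(1673,[]),(1668,[])],[10,14,9,15]),
  (5,[12,15,9,3,1,3],[(3130,[10,13,7]),(2272,[]),(2582,[0,9,7,3,4]),(1308,[]),(5082,[14,0,2,0]),(4216,[])],[3,5,3,6,0]),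
  (1,[2,9,13,3],[(5766,[]),(1720,[]),(1673,[]),(1668,[])],[3,11,9,5,5]),
  (4,[10,6,0,14,3,1,2],[(2858,[8,4,0,12]),(2273,[]),(3866,[8,5,9,15,5]),(393,[]),(424,[]),(393,[]),(4618,[6,12,14,5]),(4217,[])],[8,10,12,3,9]),
  (1,[3,14,3],[(5774,[]),(1672,[]),(1672,[])],[14,0,3,11]),
  (7,[9,6,12,14,3,1,2],[(2858,[7,4,10,12]),(2268,[]),(2358,[8,10,13,14]),(789,[]),(784,[]),(4898,[3,7,11,4,0])],[0,5,5,9]),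
  (1,[3,11,2,5,11],[(5782,[]),(1720,[]),(1673,[]),(1668,[])],[8,15,4,13]),
  (7,[4,8,10,14,11,3,1,2],[(2858,[2,6,8,12,9]),(2268,[]),(2886,[9,2,15,12]),(1720,[]),(1672,[]),(1668,[]),(5642,[6,10,2,4,9])],[5,2,11,14]),
  (1,[2,17,17,3],[(5790,[]),(1672,[]),(1672,[])],[6,5,10,14,4]),
  (4,[0,5,5,13,10,2,1,3],[(5626,[0,3,3,11,8]),(5134,[11,5,0]),(1316,[]),(1292,[]),(1284,[]),(5386,[5,8,8,4]),(4217,[])],[7,12,9,11]),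
  (1,[2,5,2,6],[(5798,[]),(1720,[]),(1668,[])],[7,0,13]),
  (4,[15,17,15,17,2,1,2],[(5538,[13,15,13,15]),(5278,[9,14,4,14]),(1292,[]),(4986,[0,2,10,12,7]),(4216,[])],[6,13,14,5,2]),
  (1,[3,5,10,14],[(5806,[]),(1668,[])],[6,12,14,6,5]),
  (5,[4,12,6,11,2,1,2],[(5538,[2,10,4,9]),(4217,[]),(5254,[2,9,4,7,4]),(1288,[]),(5178,[2,7,5,13,8]),(4216,[])],[14,14,8]),
  (1,[3,5,3,7,1],[(5814,[]),(1668,[])],[2,9,11,11]),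
  (6,[4,11,8,12,5,2,1,2],[(5538,[2,9,6,10,3]),(4216,[]),(4278,[15,6,9]),(184,[]),(189,[]),(4506,[0,4,12,12,5]),(4217,[])],[5,5,7,2]),
  (1,[3,5,3,16,10],[(5822,[]),(1672,[]),(1672,[])],[9,4,14,14]),
  (7,[4,15,11,11,4,2,1,2],[(5538,[2,13,9,9,2]),(4217,[]),(5726,[2,6,14,13,9]),(1672,[]),(5554,[15,11,12,9]),(4217,[])],[0,14,4,6,12]),
  (1,[3,6,13,9,2],[(5830,[]),(1672,[]),(1672,[]),(1668,[])],[0,13,0,10,7]),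
  (3,[7,4,16,10,0,3,15,11,2],[(2142,[5,2,14,8,0]),(1668,[]),(1720,[]),(5410,[0,14,10,9,0])],[2,11,14,4,7]),
  (1,[3,12,3,7],[(5838,[]),(1672,[]),(1672,[])],[8,10,5,6,13]),
  (4,[0,8,14,11,17,3,10,2,13],[(5530,[0,6,12,9,15]),(4238,[12,14,13,0]),(212,[]),(188,[]),(4442,[0,6,0,8,3])],[2,5,2,2]),
  (1,[3,4,13,5,2],[(5846,[]),(1720,[])],[0,5,3,10]),
  (5,[0,12,8,16,5,3,10,2,13],[(5530,[0,10,6,14,3]),(4216,[]),(5046,[10,7,5,6]),(1309,[]),(5202,[6,12,3,13]),(4216,[])],[14,12,15,4]),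
  (1,[3,8,6,15],[(5854,[]),(1672,[]),(1672,[]),(1668,[])],[3,5,11,12,14]),
  (6,[4,9,7,10,0,3,10,2,13],[(5530,[2,7,5,8,0]),(4217,[]),(4326,[2,10,7,9,10]),(188,[]),(212,[]),(184,[]),(4250,[13,10,6,4]),(4216,[])],[5,0,8,13,2]),
  (1,[3,1,16,3],[(5862,[]),(1720,[]),(1672,[])],[3,14,14,2]),
  (4,[4,4,9,0,4,3,1,3,1,3],[(2754,[2,2,7,0,2]),(2273,[]),(2268,[]),(3350,[5,3,15,8,2]),(189,[]),(185,[]),(4410,[3,13,6,4,11]),(4216,[])],[5,10,8,5]),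
  (1,[2,13,11,2],[(5870,[]),(1673,[])],[13,6,10,4]),
  (5,[5,9,16,8,12,3,1,3,1,3],[(2754,[3,7,14,6,10]),(2272,[]),(2854,[5,11,7,4]),(1672,[]),(1672,[]),(5490,[2,15,5,15]),(4216,[])],[12,3,8,11]),
  (1,[3,1,3,16,4],[(5878,[]),(1672,[])],[5,9,12,6,6]),
  (5,[0,14,17,10,4,3,1,3,1,3],[(2754,[0,12,15,8,2]),(2273,[]),(3022,[0,7,5,8,8]),(1668,[]),(1720,[]),(1668,[]),(5778,[0,4,14,14,14]),(4217,[])],[11,2,6,6]),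
  (1,[3,1,3,11,11],[(5886,[])],[3,13,5,8]),
  (6,[13,11,12,4,3,1,3,1,3],[(2754,[11,9,10,2]),(2273,[]),(2950,[4,4,10,4,4]),(1672,[]),(1672,[]),(1668,[]),(5666,[3,14,13,7,8]),(4217,[])],[3,12,10,6,6]),
  (1,[3,1,8,10,2],[(5894,[]),(1720,[]),(1672,[]),(1668,[])],[3,8,10,13,0]),
  (2,[7,7,15,12,17,3,1,2,1,3],[(1750,[5,5,13,10,15]),(188,[]),(188,[]),(4402,[3,7,10])],[4,0,14,14]),
  (1,[3,5,2,17,12],[(5902,[]),(1720,[]),(1673,[]),(1668,[])],[2,15,5,12]),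
  (2,[0,17,14,9,7,3,1,2,1,3],[(1750,[0,15,12,7,5]),(188,[]),(188,[]),(185,[]),(4306,[9,5,0,9]),(4217,[])],[3,8,15,8,2]),
  (1,[3,11,2,17],[(5910,[]),(1668,[]),(1720,[]),(1668,[])],[0,6,3,10]),
  (3,[7,17,5,17,3,1,2,1,3],[(1750,[5,15,3,15]),(188,[]),(212,[]),(184,[]),(4482,[14,13,9,11]),(4217,[])],[0,2,10,8,2]),
  (1,[2,14,8],[(5918,[]),(1672,[]),(1672,[]),(1668,[])],[0,8,5,8,5]),
  (4,[0,15,12,10,16,3,1,2,1,3],[(1750,[0,13,10,8,14]),(212,[]),(188,[]),(1738,[0,8,10,4,6]),(1720,[]),(1673,[]),(1668,[]),(5882,[3,12,7,8]),(4216,[])],[0,11,8,12,14]),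
  (1,[3,12,3,5,16],[(5926,[])],[0,8,4,10,14]),
  (6,[0,17,12,15,11,3,1,2,1,3],[(1750,[0,15,10,13,9]),(213,[]),(185,[]),(1610,[5,10,5,2]),(1288,[]),(1284,[]),(4978,[2,15,7,10,6]),(4216,[])],[0,7,11,2,6]),
  (1,[2,9,15,5],[(5934,[]),(1672,[]),(1672,[])],[0,3,5,2,13]),
  (6,[0,16,16,10,14,3,1,2,1,3],[(1750,[0,14,14,8,12]),(212,[]),(212,[]),(188,[]),(184,[]),(1738,[0,10,14,11,14]),(1720,[]),(1672,[]),(5530,[10,4,9]),(4216,[])],[5,11,2,7,13]),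
  (1,[3,5,2,5,11],[(5942,[]),(1668,[])],[5,0,15,5,11]),
  (7,[0,13,16,6,17,3,1,2,1,3],[(1750,[0,11,14,4,15]),(185,[]),(212,[]),(226,[2,15,13,5,7]),(213,[]),(213,[]),(4490,[7,12,11,7]),(4216,[])],[6,14,14,11,6]),
  (1,[3,16,2,8,3],[(5950,[]),(1672,[]),(1672,[]),(1668,[])],[13,13,6,12]),
  (4,[5,12,16,15,3,1,2,1,2],[(5546,[3,10,14,13]),(4217,[]),(4334,[11,7,0,15]),(188,[]),(212,[]),(188,[]),(4410,[2,6,6,2,4]),(4217,[])],[2,11,3,5,3]),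
  (1,[3,4,9,2,13],[(5958,[]),(1672,[]),(1668,[])],[5,2,4,4,4]),
  (4,[5,17,7,12,7,3,1,2,1,2],[(5546,[3,15,5,10,5]),(5054,[2,13,9,11]),(1308,[]),(1316,[]),(1284,[]),(5050,[10,7,12,11])],[9,6,0,14]),
  (1,[3,1,11,2,9],[(5966,[])],[0,13,3,10,13]),
  (5,[10,5,17,13,3,1,2,1,2],[(5546,[8,3,15,11]),(4534,[4,6,2,2]),(392,[]),(424,[]),(4538,[3,8,15,6]),(4216,[])],[5,0,13,8]),
  (1,[3,1,15,12,3],[(5974,[])],[4,11,6,15,13]),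
  (5,[12,14,9,17,3,1,2,1,2],[(5546,[10,12,7,15]),(4217,[]),(4870,[7,8,0,15]),(804,[]),(788,[]),(776,[]),(4906,[11,14,9,7]),(4216,[])],[10,9,0,2]),
  (1,[3,1,3,8,1],[(5982,[]),(1720,[])],[2,9,3,3,10]),
  (7,[15,5,13,8,3,1,2,1,2],[(5546,[13,3,11,6]),(4216,[]),(5158,[0,12,3,14,10]),(1308,[]),(1284,[]),(4978,[6,0,3,11,8]),(4216,[])],[2,9,3,3,15]),
  (1,[3,17,17,12,3],[(5990,[]),(1720,[])],[11,9,4,0]),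
  (4,[0,13,9,10,17,3,15,11,3],[(5410,[0,11,7,8,15]),(4216,[]),(5622,[0,8,13,7,0]),(1672,[]),(1668,[]),(5554,[0,11,14,3]),(4216,[])],[2,6,14,6,12]),
  (1,[3,17,6],[(5998,[]),(1672,[]),(1672,[])],[12,3,4]),
  (7,[4,4,9,4,17,3,15,11,3],[(5410,[2,2,7,2,15]),(4217,[]),(4398,[3,3,10,13,2]),(212,[]),(212,[]),(4506,[9,15,0,9])],[10,2,8,11]),
  (1,[3,1,5,2,16],[(6006,[]),(1668,[])],[10,15,15,11]),
  (2,[17,9,17,12,3,4,12,9],[(1774,[15,7,15,10]),(425,[]),(380,[]),(4522,[5,14,12,6]),(4217,[])],[0,14,11,6]),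
  (1,[3,6,2,15,16],[(6014,[]),(1720,[]),(1672,[]),(1668,[])],[2,12,5,6,8]),
  (2,[0,11,9,4,15,3,4,12,9],[(1774,[0,9,7,2,13]),(384,[]),(392,[]),(384,[]),(4578,[3,8,11,8,10]),(4216,[])],[11,9,4,15]),
  (1,[2,4,13],[(6022,[]),(1673,[]),(1668,[])],[7,9,2,6,2]),
  (2,[13,7,14,0,3,4,12,9],[(1774,[11,5,12,0]),(425,[]),(384,[]),(4546,[4,11,14,13]),(4217,[])],[14,0,11]),
  (1,[3,5,12,2,9],[(6030,[]),(1668,[]),(1720,[])],[11,2,8,2]),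
  (2,[0,11,14,13,14,3,4,12,9],[(1774,[0,9,12,11,12]),(380,[]),(425,[]),(380,[]),(4522,[2,7,13,7,0])],[0,4,9,15,3]),
  (1,[3,1,3,16,12],[(6038,[])],[10,15,7,0,2]),
  (2,[5,12,9,14,3,4,12,9],[(1774,[3,10,7,12]),(392,[]),(385,[]),(393,[]),(4618,[0,7,0,9,7])],[0,15,13,6,3])]
theorem hD13 : allD2 lk B KW KW F A RL R0 D13 1404 = true := by decide +kernel
def D14 : List (ℕ × Word × List (ℕ × Word) × Word) := [(1,[3,8,4,11],[(6046,[]),(1672,[]),(1672,[])],[13,7,12]),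
  (2,[4,14,17,17,3,4,12,9],[(1774,[2,12,15,15]),(425,[]),(393,[]),(4546,[0,12,9,3,13]),(4217,[])],[0,15,13,6,11]),
  (1,[3,8,1,12,2],[(6054,[])],[5,3,5,2]),
  (5,[16,15,17,11,3,4,12,9],[(1774,[14,13,15,9]),(392,[]),(384,[]),(392,[]),(498,[4,8,12,14]),(541,[]),(548,[]),(541,[]),(4634,[3,6,8,12,15])],[2,7,15,4]),
  (1,[3,4,11,8],[(6062,[]),(1720,[]),(1672,[]),(1668,[])],[0,7,14,5,13]),
  (6,[7,8,0,7,11,3,4,12,9],[(1774,[5,6,0,5,9]),(425,[]),(384,[]),(470,[2,8,6,15,4]),(380,[]),(424,[]),(380,[]),(4538,[6,5,6,14]),(4217,[])],[6,13,4,15]),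
  (1,[3,1,3,7,11],[(6070,[]),(1720,[]),(1672,[])],[2,0,8,7,15]),
  (7,[4,12,10,8,17,3,4,12,9],[(1774,[2,10,8,6,15]),(392,[]),(385,[]),(1778,[4,15,0,8,3]),(1668,[]),(1720,[]),(5642,[0,3,15,12,14]),(4216,[])],[6,10,8,0]),
  (1,[3,8,17,5,2],[(6078,[])],[2,7,8,4,3]),
  (5,[16,8,10,8,3,4,2,1],[(2722,[14,6,8,6]),(2272,[]),(2294,[0,12,9,15,7]),(729,[]),(729,[]),(733,[]),(4746,[2,13,15,2,9])],[3,9,2,6]),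
  (1,[3,11,3,16,8],[(6086,[]),(1673,[]),(1668,[])],[11,12,4,13]),
  (5,[4,6,4,4,6,3,4,2,1],[(2722,[2,4,2,2,4]),(2268,[]),(2606,[14,12,3,13]),(1316,[]),(1292,[]),(5306,[4,9,0,14,9])],[0,6,5,7,0]),
  (1,[3,1,13,3],[(6094,[]),(1668,[]),(1720,[]),(1668,[])],[0,9,4,14,3]),
  (7,[15,17,15,12,3,16,2,14],[(5602,[13,15,13,10]),(4958,[7,14,7,9]),(1288,[]),(5138,[2,15,3,6,9]),(4216,[])],[6,10,12,14,11]),
  (1,[3,7,10,3,13],[(6102,[]),(1720,[]),(1668,[])],[0,2,2,15,15]),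
  (4,[6,17,12,8,17,2,17,14],[(2922,[4,15,10,6,15]),(2268,[]),(2406,[0,10,5,6,14]),(804,[]),(788,[]),(780,[]),(4898,[2,11,5,10,12]),(4216,[])],[5,3,9]),
  (1,[3,11,12,17],[(6110,[]),(1672,[])],[5,3,15,4,0]),
  (3,[7,16,11,4,3,7,14,3,8],[(2062,[5,14,9,2]),(1672,[]),(1672,[]),(1668,[]),(5458,[2,9,14,11]),(4217,[])],[2,7,2,7,5]),
  (1,[3,6,11,6],[(6118,[]),(1672,[]),(1668,[])],[12,11,12]),
  (6,[7,8,6,9,13,3,7,14,3,8],[(2062,[5,6,4,7,11]),(1672,[]),(1672,[]),(2214,[7,2,14,9]),(1720,[]),(1673,[]),(1668,[]),(6090,[3,14,5])],[5,9,0]),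
  (1,[3,8,7,2,12],[(6126,[]),(1672,[]),(1672,[])],[0,2,13,5,12]),
  (7,[9,6,6,5,5,3,7,14,3,8],[(2062,[7,4,4,3,3]),(1672,[]),(1672,[]),(1734,[2,4,9,6,2]),(213,[]),(213,[]),(189,[]),(4442,[4,6,8,15,4]),(4216,[])],[8,8,15,12]),
  (1,[3,4,2,15,1],[(6134,[]),(1720,[]),(1672,[])],[2,8,0,15]),
  (2,[8,14,5,3,5,8,11],[(2118,[6,12,3]),(1672,[]),(1672,[]),(5650,[15,8,5,15])],[4,4,12,10,5]),
  (1,[3,1,7,11],[(6142,[]),(1672,[]),(1672,[])],[3,6,11,2]),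
  (3,[6,10,13,9,3,5,8,11],[(2118,[4,8,11,7]),(1672,[]),(1672,[]),(5578,[0,8,7,4,4])],[0,8,4,4,6]),
  (1,[3,1,3,15,5],[(6150,[]),(1720,[]),(1672,[]),(1668,[])],[4,14,6,8,7]),
  (3,[6,14,0,6,3,5,8,11],[(2118,[4,12,0,4]),(1668,[]),(6114,[11,5,0,14]),(4217,[])],[2,10,3,4,2]),
  (1,[3,1,13,5],[(6158,[])],[14,4,7,2]),
  (3,[0,13,8,12,9,3,5,8,11],[(2118,[0,11,6,10,7]),(1668,[]),(1720,[]),(1668,[]),(6122,[9,11,3,7]),(4217,[])],[0,12,12,10,4]),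
  (1,[2,1,3,15],[(6166,[]),(1672,[])],[4,10,9,14,4]),
  (6,[4,14,14,4,3,4,2],[(5938,[2,12,12,2]),(4216,[]),(5614,[4,11,15,13]),(1672,[]),(1672,[]),(1668,[]),(5442,[13,13,11,8])],[2,11,4,9]),
  (1,[3,8,3,16,8],[(6174,[]),(1720,[]),(1672,[]),(1668,[])],[0,12,11,5,13]),
  (7,[7,10,13,4,16,3,4,2],[(5938,[5,8,11,2,14]),(4217,[]),(4550,[8,15,7,12]),(392,[]),(385,[]),(393,[]),(4522,[9,13,9,6]),(4216,[])],[0,15,6,5,9]),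
  (1,[3,5,3,16,8],[(6182,[]),(1668,[]),(1720,[])],[11,11,6,14]),
  (7,[9,6,14,8,0,3,7,17,3,14],[(2218,[7,4,12,6,0]),(1673,[]),(1668,[]),(2038,[0,12,4,2]),(1309,[]),(1316,[]),(1284,[]),(5218,[6,8,6,2,12]),(4216,[])],[0,15,10,2,12]),
  (1,[2,14,14,3],[(6190,[]),(1720,[]),(1672,[])],[6,10,12,0]),
  (7,[10,7,17,17,3,7,17,3,14],[(2218,[8,5,15,15]),(1673,[]),(1870,[4,15,7,3,12]),(733,[]),(728,[]),(732,[]),(729,[]),(732,[]),(728,[]),(4690,[2,9,0,15]),(4217,[])],[13,14,11,3]),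
  (1,[3,17,5,11],[(6198,[]),(1668,[])],[2,11,7,8]),
  (6,[4,13,9,10,17,2,7,1,3],[(5570,[2,11,7,8,15]),(4217,[]),(5846,[2,6,3,13]),(1668,[]),(1720,[]),(5618,[6,14,14,3]),(4216,[])],[7,2,15,7]),
  (1,[3,4,3,6,3],[(6206,[]),(1720,[]),(1672,[]),(1668,[])],[4,7,5,0,2]),
  (5,[7,15,13,6,3,5,2,14,4],[(5466,[5,13,11,4]),(4216,[]),(4462,[0,5,9,6,5]),(212,[]),(212,[]),(184,[]),(4434,[0,13,7,4,14])],[4,3,11]),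
  (1,[2,6,5,2],[(6214,[])],[15,5,3,14]),
  (5,[4,15,5,7,12,2,6,3,7],[(5802,[2,13,3,5,10]),(5726,[0,6,0,6,0]),(1673,[]),(1668,[]),(5842,[5,15,4,6]),(4217,[])],[7,10,12,8,10]),
  (1,[3,1,5,16],[(6222,[]),(1720,[]),(1673,[]),(1668,[])],[14,4,6,12]),
  (6,[10,14,0,6,2,6,3,7],[(5802,[8,12,0,4]),(4217,[]),(5966,[0,10,6,2,8]),(1668,[]),(1720,[]),(5842,[5,14,4,11,15])],[2,2,14,4]),
  (1,[3,7,14,2,8],[(6230,[]),(1668,[])],[5,13,4,7,15]),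
  (6,[0,5,12,14,0,2,6,3,7],[(5802,[0,3,10,12,0]),(4678,[3,14,0,9,6]),(733,[]),(728,[]),(732,[]),(728,[]),(4682,[13,10,12,7]),(4217,[])],[14,3,4,6]),
  (1,[3,4,3,8,5],[(6238,[]),(1672,[])],[3,10,2,0]),
  (4,[5,5,7,14,10,3,4],[(5418,[3,3,5,12,8]),(4217,[]),(6238,[0,2,2,14,5]),(1720,[]),(1673,[]),(1668,[]),(6066,[7,12,5,11]),(4216,[])],[10,2,4,8]),
  (1,[3,7,14],[(6246,[]),(1673,[]),(1668,[])],[8,6,10,9,6]),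
  (5,[4,15,0,4,3,5,12,2,6],[(5522,[2,13,0,2]),(4216,[]),(5142,[9,7,2,14]),(1316,[]),(1309,[]),(5010,[2,6,6,0,13]),(4216,[])],[7,0,12,15]),
  (1,[2,9,13],[(6254,[]),(1720,[]),(1668,[])],[0,3,8,14,2]),
  (5,[5,0,11,9,13,3,5,9,6,3],[(3074,[3,0,9,7,11]),(2273,[]),(2268,[]),(2510,[3,13,3,12]),(1316,[]),(1288,[]),(1284,[]),(5378,[5,8,8,15,10]),(4216,[])],[0,9,0,8,11]),
  (1,[2,4,11,3],[(6262,[]),(1672,[]),(1668,[])],[9,14,13,6,12]),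
  (4,[4,14,11,14,16,3,5,8,1,3],[(2970,[2,12,9,12,14]),(2272,[]),(2422,[0,2,9,5,3]),(789,[]),(785,[]),(776,[]),(4906,[15,5,5,15]),(4217,[])],[4,12,9,7,4]),
  (1,[3,7,2,12,11],[(6270,[]),(1668,[])],[3,15,10,13,6]),
  (7,[11,17,5,15,3,4,3,14],[(5578,[9,15,3,13]),(4216,[]),(4910,[8,0,8,8,0]),(784,[]),(804,[]),(4850,[7,10,9]),(4216,[])],[7,2,13,3,9]),
  (1,[3,11,1],[(6278,[]),(1672,[]),(1672,[])],[0,6,10,4,11]),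
  (4,[12,5,13,4,3,6,10,2,17],[(5666,[10,3,11,2]),(4217,[]),(5278,[5,3,5,15,5]),(1308,[]),(1316,[]),(5306,[0,6,6,11,2])],[2,11,12,12,12]),
  (1,[3,1,2,5],[(6286,[]),(1668,[])],[2,0,7,9,7]),
  (4,[14,9,5,5],[(2266,[12,7,3,3]),(608,[]),(636,[]),(1014,[0,14,13,5]),(733,[]),(728,[]),(728,[]),(728,[]),(4650,[3,13,8,8]),(4216,[])],[4,6,2,12]),
  (1,[3,11,4],[(6294,[]),(2268,[])],[11,12,8,10]),
  (4,[6,4,6,16,8],[(2266,[4,2,4,14,6]),(629,[]),(616,[]),(608,[]),(1342,[3,8,12,6]),(1292,[]),(5210,[5,2,15,4,9]),(4216,[])],[0,12,4,12,5]),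
  (1,[3,12,14,2],[(6302,[])],[0,2,15,9,11]),
  (4,[12,15,7],[(2266,[10,13,5]),(660,[]),(620,[]),(628,[]),(636,[]),(1342,[4,4,10,5]),(1316,[]),(1308,[]),(1308,[]),(4970,[0,7,4,4,9])],[5,7,14,0,2]),
  (1,[3,13,14,2],[(6310,[]),(2268,[])],[2,13,2,11,15]),
  (4,[7,16,7,17,15],[(2266,[5,14,5,15,13]),(628,[]),(636,[]),(660,[]),(620,[]),(1342,[15,15,12,11]),(1288,[]),(5034,[0,2,15,0,6])],[0,4,11,8,11]),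
  (1,[3,4,16,2,4],[(6318,[]),(2273,[]),(2268,[])],[0,3,13,7,15]),
  (4,[14,4,9],[(2266,[12,2,7]),(636,[]),(609,[]),(629,[]),(608,[]),(1342,[0,8,5,9,7]),(1316,[]),(1292,[]),(1288,[]),(4994,[3,3,9,2]),(4217,[])],[0,4,6,9]),
  (1,[3,4,13,11,2],[(6326,[]),(2273,[])],[9,15,15,9]),
  (4,[4,7,11,6,14],[(2266,[2,5,9,4,12]),(608,[]),(628,[]),(770,[2,5,8,0]),(789,[]),(4778,[6,10,13,5]),(4217,[])],[7,2,14,11,12]),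
  (1,[3,5,16,2,8],[(6334,[])],[2,5,5,10,7]),
  (4,[0,16,5],[(2266,[0,14,3]),(628,[]),(608,[]),(608,[]),(1342,[11,8,7,10]),(1316,[]),(1309,[]),(1284,[]),(5170,[14,7,10,6]),(4217,[])],[5,11,7,4]),
  (1,[3,15,2,9,3],[(6342,[]),(2272,[])],[0,4,10,2]),
  (4,[0,4,6,11,15],[(2266,[0,2,4,9,13]),(661,[]),(612,[]),(661,[]),(1342,[2,6,9,13,8]),(1308,[]),(1308,[]),(5362,[3,12,4,11,15])],[3,6,14,0,7]),
  (1,[3,1,3,12,9],[(6350,[]),(2272,[]),(2268,[])],[12,3,3,9]),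
  (5,[4,12,4,9],[(2266,[2,10,2,7]),(636,[]),(616,[]),(608,[]),(608,[]),(1342,[9,15,13,4]),(1316,[]),(1309,[]),(1284,[]),(5090,[2,11,9,15,0]),(4216,[])],[9,12,14,11]),
  (1,[3,13,14,17],[(6358,[]),(2272,[]),(2268,[])],[0,13,5,12,4]),
  (5,[14,17,4,9],[(2266,[12,15,2,7]),(629,[]),(608,[]),(636,[]),(608,[]),(1014,[5,10,15,11,11]),(732,[]),(729,[]),(4666,[0,6,3,9,12]),(4216,[])],[2,4,2,15,7]),
  (1,[3,11,1,2,1],[(6366,[]),(2273,[]),(2268,[])],[2,0,14,11,6]),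
  (5,[5,6,11,5],[(2266,[3,4,9,3]),(628,[]),(636,[]),(606,[0,7,4,4,0]),(549,[]),(509,[]),(504,[]),(4626,[0,9,5,7,2])],[2,0,2,12,7]),
  (1,[3,4,6,2,8],[(6374,[]),(2272,[]),(2268,[])],[2,10,14,12,6]),
  (5,[0,14,16,15],[(2266,[0,12,14,13]),(660,[]),(636,[]),(636,[]),(609,[]),(2262,[11,12,12,7]),(2272,[]),(6370,[7,13,10,3]),(4217,[])],[8,8,15,5]),
  (1,[3,5,2,7,10],[(6382,[]),(2273,[])],[12,0,10,3]),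
  (5,[5,13,5,10,6],[(2266,[3,11,3,8,4]),(612,[]),(660,[]),(628,[]),(1342,[15,15,11,9]),(1316,[]),(1292,[]),(1288,[]),(4970,[6,4,10,13,11])],[4,12,12,6]),
  (1,[3,17,6,13],[(6390,[])],[2,14,5,12,0]),
  (5,[4,17,5,5,5],[(2266,[2,15,3,3,3]),(612,[]),(637,[]),(660,[]),(770,[4,9,15,0]),(785,[]),(788,[]),(776,[]),(4866,[0,11,4,4,8]),(4216,[])],[10,13,4,8]),
  (1,[3,1,16,2,14],[(6398,[]),(2273,[])],[4,9,9,13]),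
  (5,[4,0,7,8,10],[(2266,[2,0,5,6,8]),(608,[]),(636,[]),(636,[]),(609,[]),(1342,[0,8,15,5,0]),(1308,[]),(1284,[]),(5258,[2,2,11,12,10]),(4216,[])],[0,8,7,8,0]),
  (1,[3,6,2,12,10],[(6406,[]),(2273,[])],[7,11,3,10]),
  (5,[8,0,12,11],[(2266,[6,0,10,9]),(661,[]),(637,[]),(608,[]),(770,[8,3,15,4]),(804,[]),(789,[]),(784,[]),(776,[]),(4802,[2,4,14,12,9]),(4216,[])],[0,11,4,2,4]),
  (1,[3,4,15,3,14],[(6414,[]),(2272,[]),(2268,[])],[13,3,12,8]),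
  (6,[4,11,17,14],[(2266,[2,9,15,12]),(612,[]),(660,[]),(616,[]),(1342,[3,5,7]),(1308,[]),(1284,[]),(5338,[0,2,9,4]),(4216,[])],[15,9,11,5]),
  (1,[3,16,10],[(6422,[]),(2268,[])],[3,7,0,2]),
  (6,[4,0,11,4,10],[(2266,[2,0,9,2,8]),(637,[]),(628,[]),(609,[]),(1342,[7,11,13,5,15]),(1316,[]),(1292,[]),(1288,[]),(5130,[0,5,15,10,13]),(4216,[])],[0,4,9,6,15]),
  (1,[3,1,2,16,2],[(6430,[]),(2273,[])],[14,2,14,14]),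
  (6,[13,15,17],[(2266,[11,13,15]),(620,[]),(612,[]),(636,[]),(608,[]),(1342,[0,4,12,11]),(1316,[]),(1309,[]),(5394,[0,12,2,7,8])],[11,15,2,13]),
  (1,[3,4,3,6,16],[(6438,[])],[0,6,15,12,7]),
  (7,[0,17,9,4,15],[(2266,[0,15,7,2,13]),(661,[]),(620,[]),(636,[]),(608,[]),(1014,[3,13,13,9,6]),(728,[]),(732,[]),(728,[]),(4738,[6,0,9,15,7]),(4217,[])],[10,9,4,2]),
  (1,[3,4,3,4,2],[(6446,[]),(2273,[])],[15,13,5]),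
  (7,[10,7,5,8,17],[(2266,[8,5,3,6,15]),(637,[]),(620,[]),(609,[]),(770,[3,3,0,10]),(804,[]),(776,[]),(4866,[0,3,11,8]),(4216,[])],[2,6,11,12,9]),
  (1,[3,14,2,15],[(6454,[]),(2268,[])],[0,9,10,9,2]),
  (7,[16,8,14,4],[(2266,[14,6,12,2]),(661,[]),(629,[]),(612,[]),(1342,[0,9,15,4,8]),(1309,[]),(1316,[]),(1284,[]),(5394,[3,15,12,5]),(4217,[])],[0,3,4,13,6]),
  (1,[3,6,1,5],[(6462,[]),(2268,[])],[9,5,12,11,7]),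
  (7,[0,11,14,6,15],[(2266,[0,9,12,4,13]),(660,[]),(636,[]),(636,[]),(1342,[2,9,0,6,5]),(5362,[3,13,3])],[5,2,8,11]),
  (1,[2,6,3,7],[(6470,[]),(2272,[]),(2268,[])],[0,3,6,5,13]),
  (7,[4,17,0,13],[(2266,[2,15,0,11]),(620,[]),(616,[]),(661,[]),(1342,[0,6,10,6]),(1316,[]),(1292,[]),(1284,[]),(5298,[10,14,9,15,5])],[12,5,14,0])]
theorem hD14 : allD2 lk B KW KW F A RL R0 D14 1512 = true := by decide +kernel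
def D15 : List (ℕ × Word × List (ℕ × Word) × Word) := [(1,[3,6,11,3,1],[(6478,[]),(2273,[]),(2268,[])],[2,15,5,11,6]),
  (7,[10,6,9,10],[(2266,[8,4,7,8]),(620,[]),(629,[]),(637,[]),(1014,[11,12,10,2]),(732,[]),(732,[]),(729,[]),(729,[]),(4746,[3,0,2,15,7])],[2,6,13,3]),
  (1,[2,9,10,2],[(6486,[]),(2273,[])],[6,8,5,7,14]),
  (7,[11,12,9,12],[(2266,[9,10,7,10]),(620,[]),(636,[]),(1342,[2,0,14,5,9]),(1316,[]),(1288,[]),(1284,[]),(5034,[0,2,5,14,8])],[6,11,14,9,7]),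
  (1,[3,1,14,17,2],[(6494,[]),(2272,[])],[4,2,14,13,4]),
  (7,[4,4,17,6,0],[(2266,[2,2,15,4,0]),(616,[]),(636,[]),(661,[]),(609,[]),(1014,[3,6,10,13]),(732,[]),(732,[]),(729,[]),(729,[]),(4698,[3,5,14,14,8])],[2,6,10,15,12]),
  (1,[3,5,3,4],[(6502,[]),(2273,[])],[10,13,14,11]),
  (7,[6,9,15,10],[(2266,[4,7,13,8]),(628,[]),(616,[]),(1342,[2,12,10,4,6]),(5370,[9,5,10,15]),(4217,[])],[9,2,8,4]),
  (1,[3,1,2,14,2],[(6510,[]),(2268,[])],[2,11,5,5,12]),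
  (2,[0,14,16,7,7,3],[(3446,[0,12,14,5,5]),(6418,[4,6,14,10,12])],[0,5,2,14,8]),
  (1,[3,7,17,13],[(6518,[]),(2268,[])],[3,5,15,6,12]),
  (4,[5,0,11,12,10,3],[(3446,[3,0,9,10,8]),(2272,[]),(3434,[0,5,0,5,12]),(2272,[]),(6378,[7,10,3]),(4216,[])],[0,2,4,0,15]),
  (1,[3,5,10,1],[(6526,[])],[0,15,3,12]),
  (4,[14,16,9,0,3],[(3446,[12,14,7,0]),(2273,[]),(2268,[]),(3030,[4,14,12,4,6]),(1672,[]),(1668,[]),(6050,[5,5,5,5]),(4217,[])],[0,12,11,13,5]),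
  (1,[2,17,14],[(6534,[]),(2272,[]),(2268,[])],[2,11,5,12,9]),
  (5,[7,16,4,11,3],[(3446,[5,14,2,9]),(2273,[]),(2990,[3,14,14,12]),(1672,[]),(5458,[3,11,11,15]),(4217,[])],[2,14,14,10,10]),
  (1,[2,4,2],[(6542,[]),(2268,[])],[2,12,14,9,9]),
  (5,[0,7,17,17,10,3],[(3446,[0,5,15,15,8]),(2272,[]),(2268,[]),(2446,[2,13,8,10]),(1309,[]),(1316,[]),(5234,[13,3,4,2]),(4217,[])],[0,5,9,11,7]),
  (1,[3,14,3,7,15],[(6550,[])],[3,3,6,12,15]),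
  (5,[6,13,9,11,13,3],[(3446,[4,11,7,9,11]),(2272,[]),(2268,[]),(2686,[0,10,6,0,7]),(1672,[]),(5906,[4,14,4,12,15]),(4217,[])],[0,6,13,3,9]),
  (1,[3,4,14,6,2],[(6558,[]),(2268,[])],[3,9,0,4,7]),
  (5,[9,5,10,7,3],[(3446,[7,3,8,5]),(2350,[12,12,12,11]),(728,[]),(733,[]),(4714,[0,13,15,5]),(4216,[])],[2,15,7,9,7]),
  (1,[3,11,3,14,3],[(6566,[]),(2273,[]),(2268,[])],[10,7,4,11]),
  (6,[6,4,16,8,16,3],[(3446,[4,2,14,6,14]),(2272,[]),(2268,[]),(3038,[8,10,14,13]),(1720,[]),(1673,[]),(1668,[]),(5658,[5,5,7,4]),(4216,[])],[4,3,13,0,5]),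
  (1,[3,5,3,9,10],[(6574,[])],[0,4,8,13,4]),
  (6,[6,6,8,7,3],[(3446,[4,4,6,5]),(2966,[0,7,0,8,4]),(1668,[]),(1720,[]),(1668,[]),(5842,[9,0,2,5])],[2,15,4,14,6]),
  (1,[3,7,5,3,17],[(6582,[]),(2272,[])],[0,4,4]),
  (7,[4,4,7,0,8,3],[(3446,[2,2,5,0,6]),(3094,[2,0,5,9,2]),(1673,[]),(1668,[]),(5970,[0,11,13,8,10]),(4216,[])],[0,2,15,2,4]),
  (1,[3,7,2,7],[(6590,[]),(2273,[]),(2268,[])],[7,3,12,0]),
  (7,[0,9,0,12,5,3],[(3446,[0,7,0,10,3]),(2273,[]),(2854,[2,7,14,6,13]),(1668,[]),(1720,[]),(6162,[0,2,10,14,0]),(4217,[])],[4,6,0,14]),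
  (1,[3,1,2,16],[(6598,[])],[2,4,12,12,12]),
  (2,[8,5,13,9,2],[(3406,[6,3,11,7]),(2272,[]),(6458,[7,10,8,14,0]),(4217,[])],[9,13,6,14]),
  (1,[3,13,2,11,2],[(6606,[]),(2273,[]),(2268,[])],[0,12,6,15,13]),
  (5,[4,13,14,13,9,2],[(3406,[2,11,12,11,7]),(2273,[]),(2268,[]),(3194,[12,15,8]),(2273,[]),(6346,[12,2,12,6]),(4217,[])],[5,15,3,9]),
  (1,[3,4,3,16,2],[(6614,[]),(2273,[]),(2268,[])],[2,2,9,9,4]),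
  (5,[5,13,16,9,7,2],[(3406,[3,11,14,7,5]),(2518,[0,5,5,12,12]),(1292,[]),(1284,[]),(5282,[5,5,15,7]),(4216,[])],[3,11,2,2]),
  (1,[3,5,2,14,7],[(6622,[]),(2273,[]),(2268,[])],[3,14,7,11,11]),
  (5,[4,9,12,6,8,2],[(3406,[2,7,10,4,6]),(2273,[]),(3578,[2,15,0,8]),(2268,[]),(6538,[3,15,3,0,15])],[4,0,5,3,5]),
  (1,[3,13,7,14],[(6630,[]),(2273,[]),(2268,[])],[2,2,7,0,15]),
  (5,[0,6,8,14,12,2],[(3406,[0,4,6,12,10]),(2272,[]),(2268,[]),(3554,[10,8,12]),(729,[]),(729,[]),(4666,[4,12,11,12,11])],[5,12,14,13]),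
  (1,[3,5,3,9,12],[(6638,[]),(2268,[])],[2,8,8,11,3]),
  (6,[4,14,8,0,15,2],[(3406,[2,12,6,0,13]),(2272,[]),(3078,[0,2,0,7,10]),(1668,[]),(5722,[4,8,13,15,5])],[3,3,13,6]),
  (1,[3,7,15,3,1],[(6646,[]),(2273,[])],[4,6,2,11]),
  (6,[15,0,9,13,2],[(3406,[13,0,7,11]),(2742,[0,12,0,8,10]),(1668,[]),(1720,[]),(1668,[]),(6050,[3,8,4,11,6])],[3,12,0,4,4]),
  (1,[3,8,14,3,15],[(6654,[]),(2268,[])],[0,15,4,10,4]),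
  (6,[6,15,6,17,9,2],[(3406,[4,13,4,15,7]),(2273,[]),(3650,[0,3,3,5,14]),(2273,[]),(2268,[]),(6458,[0,3,11,14,3])],[7,11,5,9]),
  (1,[3,5,12,9],[(6662,[]),(2272,[])],[0,2,13,15,7]),
  (6,[4,11,12,15,8,2],[(3406,[2,9,10,13,6]),(2798,[4,13,10,13,8]),(1720,[]),(5626,[4,4,4,10,5]),(4217,[])],[0,10,15,4,0]),
  (1,[3,5,1,7,3],[(6670,[]),(2272,[])],[2,8,14,4,10]),
  (6,[0,9,10,10,16,2],[(3406,[0,7,8,8,14]),(2273,[]),(3554,[11,7,4,7]),(733,[]),(729,[]),(732,[]),(728,[]),(4650,[11,7,10,5]),(4216,[])],[3,7,3,4,9]),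
  (1,[3,8,3,14],[(6678,[])],[0,10,15,12,14]),
  (7,[4,11,16,15,6,2],[(3406,[2,9,14,13,4]),(2272,[]),(2268,[]),(2750,[3,0,6,11,12]),(5786,[6,0,14,5,12]),(4217,[])],[2,7,4,10,15]),
  (1,[3,6,1,3],[(6686,[]),(2273,[]),(2268,[])],[2,7,15,5,5]),
  (7,[12,10,6,10,2],[(3406,[10,8,4,8]),(2670,[0,3,13,13,8]),(1720,[]),(1673,[]),(5634,[5,12,15,3]),(4217,[])],[0,7,11,3,4]),
  (1,[3,5,2,1,7],[(6694,[])],[14,8,11,11]),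
  (7,[0,11,12,17,8,2],[(3406,[0,9,10,15,6]),(2268,[]),(3794,[12,14,12,11]),(732,[]),(729,[]),(729,[]),(732,[]),(728,[]),(4722,[12,9,11,9])],[2,4,9,12,2]),
  (1,[3,10,2,16,7],[(6702,[]),(2273,[])],[14,9,11]),
  (7,[8,16,14,2],[(3406,[6,14,12]),(3126,[0,10,8,8,10]),(1720,[]),(1672,[]),(1668,[]),(5962,[12,10,6]),(4217,[])],[2,15,10,8,4]),
  (1,[3,13,8],[(6710,[]),(2273,[])],[0,3,7,14,2]),
  (4,[8,7,15,11,9,3,1],[(6370,[6,5,13,9,7]),(4350,[0,7,15,12,14]),(213,[]),(185,[]),(4234,[2,13,9,4]),(4216,[])],[4,6,4,8,6]),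
  (1,[3,5,12,9,3],[(6718,[])],[3,12,14,3,14]),
  (4,[0,16,16,7,14,3,1],[(6370,[0,14,14,5,12]),(4326,[3,5,14,13,5]),(185,[]),(212,[]),(4258,[0,4,14,5,10]),(4216,[])],[0,13,4,14,11]),
  (1,[3,9,7,14,2],[(6726,[]),(2272,[])],[3,14,3]),
  (4,[5,6,11,13,17,3,1],[(6370,[3,4,9,11,15]),(5614,[2,7,15,0]),(1720,[]),(1673,[]),(1668,[]),(5970,[2,13,5,10,14])],[2,9,14,2,9]),
  (1,[3,5,7,2,5],[(6734,[]),(2273,[]),(2268,[])],[0,8,0,13,3]),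
  (5,[0,17,11,8,17,3,1],[(6370,[0,15,9,6,15]),(4217,[]),(5214,[5,8,4,4,11]),(1316,[]),(1284,[]),(4994,[0,13,2,8,7]),(4216,[])],[7,8,8,10]),
  (1,[2,13,9],[(6742,[]),(2272,[]),(2268,[])],[12,15,8,6]),
  (5,[4,17,13,13,9,3,1],[(6370,[2,15,11,11,7]),(4216,[]),(4798,[2,4,0,12,10]),(785,[]),(780,[]),(4914,[0,8,10,8,5])],[13,2,14,14]),
  (1,[3,6,11],[(6750,[]),(2268,[])],[4,15,5,14]),
  (5,[5,16,15,15,10,3,1],[(6370,[3,14,13,13,8]),(4217,[]),(5734,[0,3,6,13,7]),(1672,[]),(1672,[]),(5722,[0,4,3,10,8])],[2,11,14,8,5]),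
  (1,[3,4,12,3],[(6758,[]),(2268,[])],[2,15,10,5,7]),
  (5,[12,7,11,7,3,1],[(6370,[10,5,9,5]),(4216,[]),(6270,[15,5,9,6]),(1668,[]),(1720,[]),(6186,[12,12,3,5]),(4217,[])],[0,6,2,10,15]),
  (1,[3,11,6,3],[(6766,[])],[0,13,6,4,7]),
  (7,[0,17,8,15,11,3,1],[(6370,[0,15,6,13,9]),(4217,[]),(4942,[2,6,4,13,8]),(1316,[]),(1292,[]),(1288,[]),(5066,[6,3,10,7,4]),(4216,[])],[4,6,0,8]),
  (1,[3,1,11,3,16],[(6774,[])],[2,14,8,0]),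
  (4,[0,9,7,10,16,2,1],[(3666,[0,7,5,8,14]),(2272,[]),(2574,[5,2,11,5,12]),(1316,[]),(1288,[]),(1284,[]),(5002,[9,14,7,8]),(4217,[])],[0,8,6,13,3]),
  (1,[3,9,7,4],[(6782,[])],[3,6,0,10,3]),
  (4,[4,11,12,7,11,2,1],[(3666,[2,9,10,5,9]),(2273,[]),(3646,[6,8,12,7]),(2273,[]),(2268,[]),(6538,[2,0,2,9,7]),(4216,[])],[8,3,4,11,11]),
  (1,[3,14,10,2],[(6790,[]),(2273,[])],[0,10,3,13]),
  (4,[0,16,11,11,6,2,1],[(3666,[0,14,9,9,4]),(2272,[]),(2910,[14,6,3,10]),(1720,[]),(1672,[]),(1668,[]),(6170,[8,11,11]),(4216,[])],[6,6,0,6]),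
  (1,[3,1,3,11,17],[(6798,[]),(2273,[]),(2268,[])],[11,2,10,7]),
  (5,[6,16,14,12,2,1],[(3666,[4,14,12,10]),(2273,[]),(2510,[0,10,6,4]),(1316,[]),(1292,[]),(5090,[3,8,3,10]),(4217,[])],[4,2,13,13,3]),
  (1,[3,5,12,5],[(6806,[])],[6,5,9,14]),
  (5,[0,7,4,11,6,2,1],[(3666,[0,5,2,9,4]),(2272,[]),(2838,[0,6,12,4,7]),(1672,[]),(5602,[7,15,9,15]),(4216,[])],[2,4,11,11,6]),
  (1,[3,17,2,12,17],[(6814,[]),(2272,[])],[0,2,6,3,6]),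
  (5,[4,8,6,4,10,2,1],[(3666,[2,6,4,2,8]),(2272,[]),(3054,[0,7,15,12,3]),(1668,[]),(1720,[]),(5834,[15,2,11,6]),(4217,[])],[12,0,8,3]),
  (1,[3,4,6,2,15],[(6822,[]),(2272,[]),(2268,[])],[15,8,7,15]),
  (6,[8,15,11,8,2,1],[(3666,[6,13,9,6]),(2268,[]),(2926,[8,10,14,0]),(1720,[]),(1673,[]),(5946,[2,13,10,9,12])],[2,12,7,5]),
  (1,[3,7,2,12,16],[(6830,[]),(2273,[]),(2268,[])],[0,10,8,3,6]),
  (6,[9,4,9,2,1],[(3666,[7,2,7]),(2268,[]),(3350,[3,11,9,5,5]),(212,[]),(4498,[5,5,6,3,15])],[0,5,13,2,12]),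
  (1,[3,5,6,3,11],[(6838,[]),(2272,[])],[12,3,3,6]),
  (6,[0,9,15,12,10,2,1],[(3666,[0,7,13,10,8]),(2272,[]),(2758,[0,2,12]),(1668,[]),(1720,[]),(1668,[]),(5826,[0,10,2,2,12])],[4,6,13,6,15]),
  (1,[3,9,11,8],[(6846,[]),(2273,[])],[2,11,2,7,9]),
  (6,[8,10,8,2,1],[(3666,[6,8,6]),(2268,[]),(2542,[3,5,11,7,0]),(1309,[]),(1292,[]),(5122,[3,7,13,8]),(4217,[])],[6,10,12,0]),
  (1,[3,1,9,2,8],[(6854,[]),(2273,[])],[5,14,7,5]),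
  (7,[0,17,10,4,0,2,1],[(3666,[0,15,8,2,0]),(2272,[]),(4026,[0,8,8,8,2]),(212,[]),(212,[]),(188,[]),(4434,[0,7,8,4]),(4216,[])],[15,7,8,10]),
  (1,[2,8,2],[(6862,[]),(2268,[])],[10,12,4,8]),
  (7,[7,5,9,0,11,2,1],[(3666,[5,3,7,0,9]),(2273,[]),(2268,[]),(3226,[3,3,10,3]),(2272,[]),(2268,[]),(6298,[0,7,10,15,9]),(4217,[])],[0,6,11,6,2]),
  (1,[3,6,13,3],[(6870,[]),(2273,[])],[0,9,3,7]),
  (2,[0,10,5,14,10,3,1,3],[(2350,[0,8,3,12,8]),(733,[]),(728,[]),(4722,[9,14,11,8]),(4216,[])],[0,10,12,14]),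
  (1,[3,11,2,10,15],[(6878,[]),(2273,[])],[5,13,0,15]),
  (2,[0,7,4,10,4,3,1,3],[(2350,[0,5,2,8,2]),(732,[]),(728,[]),(732,[]),(729,[]),(732,[]),(729,[]),(4738,[0,14,4,14]),(4216,[])],[5,6,13,9]),
  (1,[2,6],[(6886,[])],[2,2,6,12,12]),
  (2,[7,0,14,8,16,3,1,3],[(2350,[5,0,12,6,14]),(733,[]),(728,[]),(732,[]),(728,[]),(4770,[9,10,8,3,0]),(4216,[])],[4,14,11,7]),
  (1,[2,8,3,4],[(6894,[])],[12,14,10]),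
  (3,[13,11,12,4,3,1,3],[(2350,[11,9,10,2]),(729,[]),(732,[]),(728,[]),(728,[]),(4770,[0,12,0,9,3])],[3,3,8,0,7]),
  (1,[3,5,13,7],[(6902,[])],[6,2,12,8]),
  (3,[7,4,17,17,9,3,1,3],[(2350,[5,2,15,15,7]),(733,[]),(729,[]),(732,[]),(728,[]),(732,[]),(728,[]),(4682,[8,4,12])],[12,10,14,10])]
theorem hD15 : allD2 lk B KW KW F A RL R0 D15 1620 = true := by decide +kernel
def D16 : List (ℕ × Word × List (ℕ × Word) × Word) := [(1,[3,6,12,2,1],[(6910,[])],[6,6,12]),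
  (3,[4,9,17,15,0,3,1,3],[(2350,[2,7,15,13,0]),(732,[]),(732,[]),(729,[]),(4746,[3,6,0,2,6])],[6,8,2,14]),
  (1,[3,15,12,2],[(6918,[])],[2,2,11,13,6]),
  (4,[13,14,14,12,3,1,3],[(2350,[11,12,12,10]),(766,[2,11,14,13,2]),(732,[]),(732,[]),(728,[]),(728,[]),(728,[]),(4658,[3,0,15,6,8]),(4217,[])],[11,9,13,6]),
  (1,[3,12,2,12],[(6926,[]),(2268,[])],[3,9,15,9,11]),
  (4,[4,10,6,6,9,3,1,3],[(2350,[2,8,4,4,7]),(732,[]),(729,[]),(766,[4,13,4,10]),(729,[]),(732,[]),(728,[]),(732,[]),(728,[]),(4722,[0,9,9,4,14])],[2,10,10,3,5]),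
  (1,[3,5,7,2,11],[(6934,[]),(2268,[])],[2,2,7,11,15]),
  (4,[9,16,8,17,4,3,1,3],[(2350,[7,14,6,15,2]),(728,[]),(732,[]),(728,[]),(3550,[0,7,15,4,14]),(2273,[]),(6578,[4,12,12,5,6])],[2,0,7,0,10]),
  (1,[3,17,2,12,16],[(6942,[]),(2273,[]),(2268,[])],[0,10,8,4,13]),
  (4,[0,16,0,14,12,3,1,3],[(2350,[0,14,0,12,10]),(733,[]),(729,[]),(732,[]),(728,[]),(728,[]),(1882,[11,8,5,5,12]),(1673,[]),(5466,[0,6,2,0,9]),(4216,[])],[2,13,13,5,6]),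
  (1,[3,15,2,14,13],[(6950,[]),(2273,[])],[3,9,4,8,2]),
  (4,[0,7,0,7,14,3,1,3],[(2350,[0,5,0,5,12]),(732,[]),(732,[]),(728,[]),(1874,[5,10,13,6]),(1672,[]),(6154,[0,7,4,7,13]),(4216,[])],[14,14,9,7]),
  (1,[2,5,8,1],[(6958,[]),(2272,[]),(2268,[])],[4,7,13,11]),
  (5,[17,10,13,13,3,1,3],[(2350,[15,8,11,11]),(732,[]),(729,[]),(766,[5,8,7,8,12]),(729,[]),(732,[]),(728,[]),(4658,[10,8,3,11]),(4216,[])],[0,3,9,10,10]),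
  (1,[3,13,2,13],[(6966,[]),(2273,[])],[14,6,14,0]),
  (5,[0,8,13,15,12,3,1,3],[(2350,[0,6,11,13,10]),(733,[]),(728,[]),(732,[]),(1358,[12,2,6,8]),(1316,[]),(1308,[]),(1308,[]),(5298,[3,5,15,2,2]),(4216,[])],[11,4,13,0]),
  (1,[3,1,7,1],[(6974,[]),(2273,[]),(2268,[])],[0,5,0,11,2]),
  (6,[6,16,15,16,3,1,3],[(2350,[4,14,13,14]),(733,[]),(728,[]),(732,[]),(3550,[2,10,6,0]),(6530,[5,2,6,10,9]),(4217,[])],[12,3,9,6]),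
  (1,[3,15,4,3],[(6982,[]),(2273,[]),(2268,[])],[11,2,4,14]),
  (6,[9,14,16,7,3,1,3],[(2350,[7,12,14,5]),(728,[]),(728,[]),(1366,[0,9,10,2,2]),(1284,[]),(5258,[6,12,0])],[6,14,11,11,2]),
  (1,[3,11,7,2],[(6990,[]),(2268,[])],[8,0,7,15]),
  (6,[4,15,0,4,16,3,1,3],[(2350,[2,13,0,2,14]),(728,[]),(728,[]),(733,[]),(1874,[0,4,15,15,4]),(1668,[]),(1720,[]),(5650,[0,3,5,15,13]),(4217,[])],[3,4,15,13,14]),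
  (1,[3,4,9,2,5],[(6998,[]),(2272,[]),(2268,[])],[2,9,15,6,6]),
  (6,[5,14,17,15,11,3,1,3],[(2350,[3,12,15,13,9]),(728,[]),(732,[]),(4146,[14,14,11,12]),(2272,[]),(6626,[12,6,10,9]),(4216,[])],[0,5,12,15,9]),
  (1,[3,4,2,11],[(7006,[]),(2268,[])],[4,9,5,8,5]),
  (6,[9,5,17,9,3,1,3],[(2350,[7,3,15,7]),(729,[]),(732,[]),(728,[]),(1642,[4,12,0,3,14]),(1309,[]),(1284,[]),(4978,[3,6,10,14,5]),(4217,[])],[3,9,5,2]),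
  (1,[3,4,8,3,16],[(7014,[]),(2272,[]),(2268,[])],[13,9,15,2]),
  (6,[10,7,0,14,14,3,1,3],[(2350,[8,5,0,12,12]),(732,[]),(728,[]),(732,[]),(729,[]),(732,[]),(2354,[11,14,4,7]),(2268,[]),(6354,[2,14,3,6,8]),(4217,[])],[6,3,7,0]),
  (1,[3,4,2,16,9],[(7022,[]),(2273,[])],[5,3,8,11]),
  (7,[4,6,6,12,10,3,1,3],[(2350,[2,4,4,10,8]),(732,[]),(728,[]),(728,[]),(728,[]),(1858,[4,12,8,8]),(1672,[]),(1672,[]),(1668,[]),(5666,[14,11,7,15])],[12,6,14,4]),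
  (1,[2,11,16,2,13],[(7030,[]),(2273,[]),(2268,[])],[13,4,10,6]),
  (7,[0,16,5,9,4,3,1,3],[(2350,[0,14,3,7,2]),(732,[]),(729,[]),(732,[]),(729,[]),(1874,[2,7,13,0,4]),(1672,[]),(1668,[]),(5970,[8,6,3,10,9])],[2,4,4,13,2]),
  (1,[3,5,15,9],[(7038,[]),(2273,[])],[2,14,5,5,10]),
  (7,[0,9,11,13,15,3,1,3],[(2350,[0,7,9,11,13]),(1882,[2,0,4,14,8]),(1720,[]),(1673,[]),(5962,[0,3,11,14,3]),(4216,[])],[5,10,4]),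
  (1,[2,7,9,3],[(7046,[]),(2273,[]),(2268,[])],[7,0,10,2,9]),
  (2,[10,8,16,4,3,1,2],[(4122,[8,6,14,2]),(2273,[]),(6298,[0,12,2,14,14])],[0,9,12,4,12]),
  (1,[3,9,9,15],[(7054,[]),(2268,[])],[0,9,14,9]),
  (4,[5,15,8,11,3,1,2],[(4122,[3,13,6,9]),(3086,[0,9,14,3]),(1673,[]),(1668,[]),(5522,[0,4,9,6,10]),(4216,[])],[4,8,12,7]),
  (1,[2,13,9,2],[(7062,[]),(2268,[])],[6,8,7,10]),
  (4,[5,15,16,11,3,1,2],[(4122,[3,13,14,9]),(2268,[]),(3450,[7,14,12,12,11]),(7050,[0,3,0,14,5])],[12,4,12,14]),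
  (1,[3,4,2,8],[(7070,[]),(2273,[]),(2268,[])],[0,13,7,9,5]),
  (4,[6,0,9,0,3,1,2],[(4122,[4,0,7,0]),(2272,[]),(3930,[2,6,14,14,5]),(2272,[]),(6986,[2,2,14,3,12])],[8,6,8,5]),
  (1,[2,16,4,2],[(7078,[]),(2268,[])],[2,12,7,2,4]),
  (5,[0,7,16,7,0,3,1,2],[(4122,[0,5,14,5,0]),(2273,[]),(3778,[11,3,10,5]),(213,[]),(189,[]),(184,[]),(4346,[0,14,6,9,5]),(4217,[])],[0,7,5,2,14]),
  (1,[3,8,3,17],[(7086,[]),(2268,[])],[2,5,7,3,6]),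
  (5,[4,12,6,14,4,3,1,2],[(4122,[2,10,4,12,2]),(2273,[]),(3414,[0,4,11,6,3]),(2268,[]),(7026,[15,3,9])],[0,4,6,13,10]),
  (1,[2,13,3,6],[(7094,[]),(2268,[])],[11,15,2,14]),
  (5,[11,0,13,3,1,2],[(4122,[9,0,11]),(2273,[]),(2268,[]),(3274,[4,2,12,0,10]),(2272,[]),(2268,[]),(6426,[0,7,5,11,6]),(4216,[])],[8,12,2,4]),
  (1,[2,1,10,1],[(7102,[]),(2273,[]),(2268,[])],[2,8,11,9,4]),
  (5,[6,13,6,10,3,1,2],[(4122,[4,11,4,8]),(2268,[]),(3170,[0,14,5,9]),(6298,[5,11,7,10,4]),(4216,[])],[6,3,7,13,13]),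
  (1,[2,4,14],[(7110,[]),(2273,[]),(2268,[])],[3,9,13,2,12]),
  (6,[13,5,17,15,3,1,2],[(4122,[11,3,15,13]),(2273,[]),(3330,[2,7,14,6,9]),(2273,[]),(2268,[]),(6842,[4,2,2,10])],[0,9,6,6]),
  (1,[3,8,17,2],[(7118,[]),(2272,[]),(2268,[])],[0,3,0,12,9]),
  (7,[0,6,6,8,10,3,1,2],[(4122,[0,4,4,6,8]),(2268,[]),(2510,[4,14,9,14,9]),(1316,[]),(1292,[]),(1284,[]),(5362,[0,9,5,14,0]),(4217,[])],[0,14,7,2,13]),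
  (1,[3,1,3,5,3],[(7126,[]),(2272,[]),(2268,[])],[2,15,7,9,15]),
  (7,[5,11,13,10,15,3,1,2],[(4122,[3,9,11,8,13]),(2273,[]),(2268,[]),(2990,[3,3,13,0,15]),(1720,[]),(6050,[3,10,13,15,10]),(4216,[])],[2,2,4,11,4]),
  (1,[3,11,3,15,10],[(7134,[]),(2272,[])],[4,14,13,2]),
  (7,[0,17,5,13,10,3,1,2],[(4122,[0,15,3,11,8]),(2272,[]),(2886,[3,4,14,2,12]),(5938,[11,15,5])],[0,7,2,4,9]),
  (1,[3,17,15,2,8],[(7142,[]),(2273,[]),(2268,[])],[13,10,3,15]),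
  (2,[6,17,6,0,2,1,3],[(2502,[4,15,4,0]),(1316,[]),(1292,[]),(1288,[]),(5322,[3,8,11,8,10]),(4216,[])],[5,13,15,5,13]),
  (1,[3,7,8,2,6],[(7150,[]),(2268,[])],[0,4,10,2,4]),
  (2,[0,6,10,9,14,2,1,3],[(2502,[0,4,8,7,12]),(1316,[]),(1288,[]),(1284,[]),(5042,[3,3,13,15])],[6,8,4,6]),
  (1,[3,5,11,4,3],[(7158,[]),(2273,[])],[3,3,3,12,0]),
  (2,[0,8,7,9,7,2,1,3],[(2502,[0,6,5,7,5]),(1316,[]),(1292,[]),(5362,[3,10,4,15])],[0,10,6,2,6]),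
  (1,[3,17,5,2],[(7166,[]),(2272,[])],[3,9,12,9,12]),
  (2,[5,8,12,6,15,2,1,3],[(2502,[3,6,10,4,13]),(1316,[]),(1309,[]),(1284,[]),(5370,[9,14,12,3]),(4217,[])],[4,6,4,8]),
  (1,[2,15,9],[(7174,[]),(2272,[]),(2268,[])],[0,8,15,12,11]),
  (2,[0,11,11,16,16,2,1,3],[(2502,[0,9,9,14,14]),(1316,[]),(1309,[]),(1284,[]),(5250,[3,6,3,5])],[2,7,10,12,7]),
  (1,[3,4,2,13,13],[(7182,[])],[3,10,6,12,0]),
  (2,[10,14,17,13,2,1,3],[(2502,[8,12,15,11]),(1308,[]),(1308,[]),(5362,[3,0,4,14]),(4216,[])],[12,3,11,7]),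
  (1,[3,14,3,15,5],[(7190,[])],[0,6,15,2,9]),
  (2,[0,10,7,12,15,2,1,3],[(2502,[0,8,5,10,13]),(1316,[]),(1309,[]),(1284,[]),(5290,[3,11,9,14])],[0,9,4,7,8]),
  (1,[3,7,5,12],[(7198,[]),(2272,[]),(2268,[])],[4,13,11,2,14]),
  (3,[4,0,13,17,0,2,1,3],[(2502,[2,0,11,15,0]),(1308,[]),(1308,[]),(5298,[0,12,6,11,2]),(4217,[])],[2,10,12,11]),
  (1,[3,14,2,1],[(7206,[]),(2268,[])],[5,3,10,4]),
  (3,[6,6,15,4,4,2,1,3],[(2502,[4,4,13,2,2]),(1308,[]),(1288,[]),(5066,[8,10,2,12]),(4217,[])],[0,6,0,15,10]),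
  (1,[3,15,10,3,14],[(7214,[])],[0,7,5,13,5]),
  (4,[4,10,10,0,2,1,3],[(2502,[2,8,8,0]),(1308,[]),(1316,[]),(1284,[]),(2042,[5,9,11,3]),(5650,[4,7,12]),(4216,[])],[4,2,5,7,10]),
  (1,[3,4,14,5],[(7222,[]),(2268,[])],[15,10,15,2]),
  (4,[8,16,16,6,13,2,1,3],[(2502,[6,14,14,4,11]),(1308,[]),(1638,[0,10,5,9,4]),(1284,[]),(4962,[4,3,6,4,0]),(4216,[])],[7,11,6,15]),
  (1,[3,1,10,13],[(7230,[]),(2273,[]),(2268,[])],[0,8,14,3,7]),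
  (4,[0,17,10,4,12,2,1,3],[(2502,[0,15,8,2,10]),(1316,[]),(1292,[]),(1284,[]),(2530,[0,6,8,10,5]),(2272,[]),(2268,[]),(6930,[0,6,9,13,10]),(4217,[])],[6,3,7,0,13]),
  (1,[2,5,7],[(7238,[]),(2268,[])],[3,4,11,7,2]),
  (5,[8,7,4,12,4,2,1,3],[(2502,[6,5,2,10,2]),(1316,[]),(1284,[]),(1506,[0,7,13,3,0]),(1309,[]),(1316,[]),(5234,[4,4,15,15,13])],[9,14,11,15]),
  (1,[3,1,13,9,3],[(7246,[]),(2272,[])],[0,5,6,4]),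
  (6,[0,7,15,9,7,2,1,3],[(2502,[0,5,13,7,5]),(1309,[]),(1284,[]),(1410,[4,7,11,13,9]),(805,[]),(784,[]),(780,[]),(4874,[14,8,8,8]),(4217,[])],[11,6,8,2,13]),
  (1,[3,1,5,2,14],[(7254,[])],[0,5,15,12,14]),
  (6,[5,11,11,17,17,2,1,3],[(2502,[3,9,9,15,15]),(1308,[]),(1534,[0,3,14,5,6]),(1308,[]),(1288,[]),(5314,[0,10,14,8,12]),(4216,[])],[0,6,12,11]),
  (1,[3,6,4,15,2],[(7262,[]),(2273,[])],[0,14,9,7,11]),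
  (7,[0,5,17,9,2,1,3],[(2502,[0,3,15,7]),(1308,[]),(1308,[]),(2498,[2,13,2,14,9]),(2272,[]),(2268,[]),(7130,[5,2,13,11,13]),(4216,[])],[2,4,14,11,4]),
  (1,[3,6,12,7],[(7270,[]),(2273,[])],[4,2,8,15,4]),
  (7,[12,10,4,13,2,1,3],[(2502,[10,8,2,11]),(1309,[]),(1292,[]),(1502,[6,4,9,7]),(1288,[]),(4978,[8,5,10,13])],[0,11,9,3,6]),
  (1,[3,8,14,3,14],[(7278,[]),(2273,[]),(2268,[])],[4,13,3,0]),
  (7,[8,7,10,16,2,1,3],[(2502,[6,5,8,14]),(1308,[]),(1316,[]),(2010,[0,3,3,5,14]),(1720,[]),(5786,[13,6,3,8])],[0,13,5,10,2]),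
  (1,[3,14,2,14],[(7286,[]),(2272,[])],[3,6,14,6,11]),
  (7,[14,16,14,4,2,1,3],[(2502,[12,14,12,2]),(1308,[]),(1284,[]),(1378,[3,7,0,15]),(776,[]),(4842,[3,14,11,2,15])],[2,15,0,7,0]),
  (1,[2,4,3,9],[(7294,[])],[6,11,11,13]),
  (7,[11,16,0,16,2,1,3],[(2502,[9,14,0,14]),(1292,[]),(1630,[14,14,3]),(1316,[]),(1292,[]),(1284,[]),(5250,[0,6,3,11,13]),(4217,[])],[2,15,12,7]),
  (1,[3,17,2,16,10],[(7302,[]),(2273,[])],[0,8,3,13,3]),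
  (2,[16,8,11,15,2,1,2],[(3218,[14,6,9,13]),(2273,[]),(2268,[]),(6986,[2,14,5,3,3])],[0,6,4,7,2]),
  (1,[3,4,3,4],[(7310,[]),(2273,[])],[3,10,3,6,6]),
  (2,[10,14,9,4,2,1,2],[(3218,[8,12,7,2]),(6986,[10,3,5,10])],[4,6,3,15,5]),
  (1,[3,6,2,6,8],[(7318,[])],[11,7,9,3]),
  (4,[0,8,4,9,12,2,1,2],[(3218,[0,6,2,7,10]),(2822,[11,14,4]),(1720,[]),(1673,[]),(1668,[]),(6226,[2,0,9,5,15]),(4216,[])],[9,2,0,8]),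
  (1,[3,1,2],[(7326,[]),(2273,[]),(2268,[])],[6,8,3,13,14]),
  (4,[0,4,4,14,9,2,1,2],[(3218,[0,2,2,12,7]),(2272,[]),(2268,[]),(2886,[0,12,0,10,15]),(1672,[]),(1668,[]),(5746,[0,11,14,12,0])],[14,4,9,5]),
  (1,[3,15,10,2],[(7334,[])],[0,10,4,15,15]),
  (4,[0,11,17,12,5,2,1,2],[(3218,[0,9,15,10,3]),(2273,[]),(2726,[5,0,14,10]),(1668,[]),(5570,[0,12,5,14,0])],[5,6,0,7])]
theorem hD16 : allD2 lk B KW KW F A RL R0 D16 1728 = true := by decide +kernel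
def D17 : List (ℕ × Word × List (ℕ × Word) × Word) := [(1,[3,7,13,3,1],[(7342,[]),(2272,[]),(2268,[])],[0,2,13,7,15]),
  (5,[6,10,17,2,1,2],[(3218,[4,8,15]),(2822,[2,14,12,10,13]),(1720,[]),(1673,[]),(1668,[]),(5666,[3,5,9,9]),(4217,[])],[0,6,12,11,3]),
  (1,[3,7,7,14],[(7350,[]),(2272,[])],[12,11,14]),
  (5,[9,11,5,5,2,1,2],[(3218,[7,9,3,3]),(2273,[]),(2268,[]),(2886,[2,11,13,13,15]),(1673,[]),(5538,[11,14,2,0]),(4216,[])],[7,14,14,4]),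
  (1,[3,4,17,13],[(7358,[]),(2268,[])],[0,8,11,8,3]),
  (5,[0,14,13,9,11,2,1,2],[(3218,[0,12,11,7,9]),(2273,[]),(3830,[4,8,11,11]),(212,[]),(189,[]),(4410,[0,2,14,14,2]),(4216,[])],[2,11,12,4]),
  (1,[3,6,12,9],[(7366,[]),(2272,[]),(2268,[])],[2,2,7,0,14]),
  (5,[11,14,10,7,2,1,2],[(3218,[9,12,8,5]),(4026,[4,6,11,12,15]),(212,[]),(185,[]),(4242,[4,7,13,0,12]),(4217,[])],[0,3,13,4,8]),
  (1,[3,10,2,14],[(7374,[]),(2272,[])],[0,15,0,6,4]),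
  (6,[0,9,11,8,5,2,1,2],[(3218,[0,7,9,6,3]),(2272,[]),(2268,[]),(3030,[13,10,13,6]),(1672,[]),(1672,[]),(6242,[4,8,5,15,12]),(4217,[])],[8,7,11,14]),
  (1,[3,4,7,2,6],[(7382,[]),(2268,[])],[3,14,2,11]),
  (6,[0,5,8,4,11,2,1,2],[(3218,[0,3,6,2,9]),(2606,[7,11,15,0]),(1288,[]),(1284,[]),(5266,[2,0,13,15,0]),(4217,[])],[2,9,14,3]),
  (1,[3,11,3,6,14],[(7390,[]),(2272,[])],[12,5,0]),
  (6,[0,16,12,7,16,2,1,2],[(3218,[0,14,10,5,14]),(2272,[]),(3358,[3,12,2,14]),(1309,[]),(1292,[]),(5322,[6,3,15,7]),(4217,[])],[0,8,8,5,5]),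
  (1,[3,1,8,2,13],[(7398,[]),(2268,[])],[7,4,4,2]),
  (7,[0,7,16,16,16,2,1,2],[(3218,[0,5,14,14,14]),(3450,[10,9,0,15]),(7002,[5,12,14,4]),(4216,[])],[12,2,4,13]),
  (1,[3,7,4,2,8],[(7406,[]),(2273,[])],[4,0,4,14,7]),
  (7,[6,12,5,13,17,2,1,2],[(3218,[4,10,3,11,15]),(3950,[3,7,12,6,12]),(2273,[]),(2268,[]),(6802,[2,15,5,7,0]),(4216,[])],[0,2,2,0,4]),
  (1,[2,1,17,3,5],[(7414,[]),(2272,[]),(2268,[])],[6,9,13,13]),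
  (2,[4,8,8,14,14,3,1,3,1],[(3430,[2,6,6,12,12]),(2273,[]),(7066,[11,3,10,14]),(4217,[])],[14,7,15,4]),
  (1,[3,5,6,3,7],[(7422,[]),(2272,[]),(2268,[])],[0,14,8,7,12]),
  (2,[9,5,17,15,6,3,1,3,1],[(3430,[7,3,15,13,4]),(2268,[]),(7226,[11,9,9,14]),(4217,[])],[14,8,3,15]),
  (1,[3,4,8,3],[(7430,[])],[15,13,4,11]),
  (2,[17,15,7,8,3,1,3,1],[(3430,[15,13,5,6]),(2272,[]),(2268,[]),(7290,[15,3,6,13])],[6,0,9,2,6]),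
  (1,[3,9,3],[(7438,[]),(2273,[]),(2268,[])],[0,8,3,11]),
  (2,[6,11,6,10,9,3,1,3,1],[(3430,[4,9,4,8,7]),(2268,[]),(6522,[9,11,14,11]),(4217,[])],[5,7,3,5,8]),
  (1,[3,1,6,16,2],[(7446,[]),(2273,[]),(2268,[])],[6,8,2,4,9]),
  (3,[0,15,11,0,10,3,1,3,1],[(3430,[0,13,9,0,8]),(2273,[]),(2268,[]),(7186,[15,4,3,7])],[6,15,7,10]),
  (1,[3,9,7,7],[(7454,[])],[2,5,9,0,15]),
  (3,[11,0,17,5,14,3,1,3,1],[(3430,[9,0,15,3,12]),(2272,[]),(2268,[]),(6554,[4,7,2,0,2]),(4217,[])],[9,2,8,11]),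
  (1,[3,1,6,16,3],[(7462,[])],[4,10,7,2,9]),
  (4,[5,12,12,12,12,3,1,3,1],[(3430,[3,10,10,10,10]),(2273,[]),(3402,[2,9,14,9,12]),(2272,[]),(6418,[9,2,4,15]),(4217,[])],[8,10,15,7]),
  (1,[3,1,14,3,14],[(7470,[]),(2268,[])],[7,15,12,3]),
  (4,[8,8,4,13,13,3,1,3,1],[(3430,[6,6,2,11,11]),(2272,[]),(3242,[0,8,3,5]),(548,[]),(533,[]),(509,[]),(504,[]),(4626,[3,15,4,8,3])],[0,2,10,12,12]),
  (1,[3,1,5,2,5],[(7478,[]),(2272,[]),(2268,[])],[6,8,6,13]),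
  (4,[13,8,10,14,0,3,1,3,1],[(3430,[11,6,8,12,0]),(2272,[]),(4142,[14,9,4,15]),(424,[]),(392,[]),(380,[]),(4578,[0,6,10,14,13]),(4217,[])],[2,8,4,15,0]),
  (1,[2,5,2,16,3],[(7486,[]),(2268,[])],[5,9,4,9]),
  (5,[6,15,15,17,6,3,1,3,1],[(3430,[4,13,13,15,4]),(2273,[]),(2366,[0,4,4,10,4]),(805,[]),(780,[]),(776,[]),(4826,[12,5,3,4])],[2,14,9,4,15]),
  (1,[3,5,3,11,15],[(7494,[]),(2268,[])],[0,3,8,14,14]),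
  (6,[9,5,8,17,3,1,3,1],[(3430,[7,3,6,15]),(3994,[5,9,4,13]),(213,[]),(188,[]),(184,[]),(4402,[6,13,7,5])],[0,9,3,10,15]),
  (1,[3,5,1,3,8],[(7502,[]),(2268,[])],[0,9,15,3,8]),
  (6,[7,14,13,8,6,3,1,3,1],[(3430,[5,12,11,6,4]),(2268,[]),(2806,[5,0,14,4]),(1720,[]),(6218,[12,11,2,6]),(4217,[])],[9,9,15,13]),
  (1,[3,14,2,12],[(7510,[]),(2272,[])],[3,3,11,6,4]),
  (6,[10,13,8,12,3,1,3,1],[(3430,[8,11,6,10]),(2686,[6,4,14,14]),(1672,[]),(1672,[]),(5466,[11,9,5,6]),(4216,[])],[0,4,7,14,10]),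
  (1,[3,6,3,6,3],[(7518,[]),(2268,[])],[0,15,3,3,15]),
  (7,[17,14,9,13,3,1,3,1],[(3430,[15,12,7,11]),(3006,[9,0,11,4]),(1720,[]),(1672,[]),(1668,[]),(5890,[0,5,12,3,13]),(4216,[])],[0,14,7,12,8]),
  (1,[3,7,17,3,7],[(7526,[]),(2272,[])],[11,8,7,5]),
  (7,[0,4,15,8,6,3,1,3,1],[(3430,[0,2,13,6,4]),(2273,[]),(3322,[9,14,12,0]),(6322,[0,6,10,14,5]),(4217,[])],[7,14,0,11]),
  (1,[3,17,3,5,6],[(7534,[]),(2272,[]),(2268,[])],[2,10,12,15,4]),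
  (7,[0,15,13,15,12,3,1,3,1],[(3430,[0,13,11,13,10]),(2268,[]),(3038,[0,3,3,15]),(1673,[]),(1668,[]),(6218,[12,14,0,7])],[3,15,3,11,8]),
  (1,[2,6,12],[(7542,[]),(2272,[]),(2268,[])],[11,8,8,11]),
  (7,[0,7,9,0,14,3,1,3,1],[(3430,[0,5,7,0,12]),(2268,[]),(3526,[3,6,5,3]),(2273,[]),(2268,[]),(6586,[12,7,9,14]),(4216,[])],[8,15,5,12]),
  (1,[3,5,15,2,6],[(7550,[]),(2272,[])],[4,0,11,2,4]),
  (2,[17,8,5,10,3,1,2,1],[(3574,[15,6,3,8]),(7266,[6,15,10,5]),(4216,[])],[5,5,8,11,14]),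
  (1,[2,11,14,2],[(7558,[])],[0,4,0,2,4]),
  (3,[8,14,10,7,3,1,2,1],[(3574,[6,12,8,5]),(7146,[13,9,10,2])],[0,4,14,6,14]),
  (1,[3,5,6,3,8],[(7566,[]),(2273,[]),(2268,[])],[0,10,6,5,5]),
  (3,[0,16,7,12,16,3,1,2,1],[(3574,[0,14,5,10,14]),(2272,[]),(2268,[]),(7114,[6,2,8,14])],[3,6,4,11,14]),
  (1,[3,4,13,2,13],[(7574,[]),(2273,[]),(2268,[])],[7,3,11,13]),
  (4,[11,4,15,8,3,1,2,1],[(3574,[9,2,13,6]),(2272,[]),(2268,[]),(3334,[12,8,0,8]),(6522,[2,11,5,9,13])],[15,11,5,13]),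
  (1,[3,16,16,2],[(7582,[])],[0,7,4,13,2]),
  (4,[0,17,7,12,3,1,2,1],[(3574,[0,15,5,10]),(2268,[]),(3366,[9,3,13,4]),(2268,[]),(7258,[4,3,5,15])],[6,3,9,9]),
  (1,[3,1,16,3,14],[(7590,[]),(2268,[])],[2,9,12,14,14]),
  (5,[6,15,11,14,3,1,2,1],[(3574,[4,13,9,12]),(3226,[3,14,3,13,15]),(2273,[]),(7074,[0,6,5,13,9])],[3,3,6,13,13]),
  (1,[3,4,6,3,10],[(7598,[]),(2273,[]),(2268,[])],[9,11,4,8]),
  (5,[11,8,14,10,3,1,2,1],[(3574,[9,6,12,8]),(2272,[]),(2478,[2,6,5,3,4]),(1308,[]),(1284,[]),(5210,[12,6,12,12]),(4217,[])],[15,3,6,10]),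
  (1,[3,11,11,12],[(7606,[]),(2273,[])],[0,11,8,13,14]),
  (6,[14,14,5,8,3,1,2,1],[(3574,[12,12,3,6]),(2272,[]),(2822,[0,15,10,7,10]),(1673,[]),(1668,[]),(5834,[3,3,0,2,9]),(4216,[])],[6,12,15,13,11]),
  (1,[3,1,16,3,12],[(7614,[]),(2272,[])],[6,9,4,15]),
  (6,[4,0,7,17,7,3,1,2,1],[(3574,[2,0,5,15,5]),(2566,[8,12,9]),(1308,[]),(1316,[]),(5258,[0,2,0,5,10])],[0,3,6,12,14]),
  (1,[3,1,3,1,3],[(7622,[]),(2268,[])],[6,3,11,3]),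
  (6,[5,9,17,0,13,3,1,2,1],[(3574,[3,7,15,0,11]),(2273,[]),(2268,[]),(4018,[3,10,9,5,9]),(2272,[]),(6722,[2,9,15,9,2]),(4217,[])],[7,3,12,9,9]),
  (1,[2,5,2,15,3],[(7630,[]),(2273,[])],[8,6,5,11,12]),
  (6,[0,11,12,15,3,1,2,1],[(3574,[0,9,10,13]),(2272,[]),(2268,[]),(3226,[0,2,0,6,12]),(2273,[]),(7170,[3,12,4,12,4])],[3,6,2,7]),
  (1,[3,4,2,8,3],[(7638,[]),(2272,[])],[2,4,10,3,10]),
  (6,[0,17,5,10,6,3,1,2,1],[(3574,[0,15,3,8,4]),(4002,[0,14,13,5,9]),(185,[]),(188,[]),(4466,[2,13,13,7,11]),(4217,[])],[3,14,13,15,5]),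
  (1,[3,5,2,17,7],[(7646,[]),(2273,[]),(2268,[])],[3,11,2,4,6]),
  (7,[0,4,6,13,7,3,1,2,1],[(3574,[0,2,4,11,5]),(2273,[]),(2268,[]),(3198,[8,7,9,10]),(7122,[7,9,9,11]),(4216,[])],[0,12,3,15,0]),
  (1,[3,5,12,6],[(7654,[]),(2272,[]),(2268,[])],[0,14,0,14,11]),
  (7,[15,5,9,10,3,1,2,1],[(3574,[13,3,7,8]),(2273,[]),(3702,[0,9,11,3,15]),(2272,[]),(7506,[0,2,15,2,2]),(4216,[])],[2,2,7,12]),
  (1,[3,7,2,4,7],[(7662,[])],[10,3,12,11]),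
  (7,[6,5,11,17,8,3,1,2,1],[(3574,[4,3,9,15,6]),(2268,[]),(3918,[9,13,6,4]),(184,[]),(4458,[0,13,0,9]),(4217,[])],[3,4,12,14,3]),
  (1,[3,5,5,3,9],[(7670,[]),(2273,[])],[3,12,2,6,0]),
  (2,[12,6,17,13,5,3,15,11,2],[(3534,[10,4,15,11,3]),(2272,[]),(2268,[]),(6322,[12,0]),(4217,[])],[2,14,12,6]),
  (1,[3,16,15,2,5],[(7678,[]),(2272,[]),(2268,[])],[3,13,0,14,6]),
  (2,[12,12,17,0,3,15,11,2],[(3534,[10,10,15,0]),(2272,[]),(6442,[4,6,4,13,11]),(4217,[])],[3,7,10,14]),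
  (1,[3,16,15,2],[(7686,[]),(2273,[]),(2268,[])],[5,6,4]),
  (2,[5,8,7,14,12,3,15,11,2],[(3534,[3,6,5,12,10]),(2272,[]),(6698,[0,9,2,11,14]),(4216,[])],[11,13,0,15]),
  (1,[3,9,13,15],[(7694,[]),(2273,[]),(2268,[])],[0,13,4,13,11]),
  (2,[15,9,13,13,3,15,11,2],[(3534,[13,7,11,11]),(7306,[0,7,5,7,0])],[0,7,2,8,6]),
  (1,[3,4,6,2,4],[(7702,[])],[14,6,2,6]),
  (3,[5,15,15,6,11,3,15,11,2],[(3534,[3,13,13,4,9]),(2273,[]),(2268,[]),(7706,[13,13,11,15])],[0,13,13,0,14]),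
  (1,[2,4,8,2],[(7710,[]),(2273,[])],[0,6,12,14,4]),
  (4,[0,15,16,6,16,3,15,11,2],[(3534,[0,13,14,4,14]),(2272,[]),(2268,[]),(4054,[4,0,4,9]),(7274,[6,2,8,6,9]),(4216,[])],[0,14,10,6,0]),
  (1,[3,11,3,8,6],[(7718,[]),(2273,[]),(2268,[])],[3,14,7,12,10]),
  (4,[11,13,16,11,3,15,11,2],[(3534,[9,11,14,9]),(2272,[]),(2268,[]),(3358,[10,5,8,2]),(1308,[]),(1308,[]),(5322,[2,7,9,2,15]),(4217,[])],[2,12,7,10,15]),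
  (1,[3,17,5],[(7726,[])],[0,7,9,10,6]),
  (4,[0,6,9,13,9,3,15,11,2],[(3534,[0,4,7,11,7]),(3918,[14,2,0]),(213,[]),(213,[]),(4290,[8,5,2,14]),(4216,[])],[2,7,5,15]),
  (1,[3,4,3,5,5],[(7734,[]),(2272,[])],[2,12,4,14,0]),
  (6,[0,13,14,14,7,3,15,11,2],[(3534,[0,11,12,12,5]),(2268,[]),(3902,[2,6,8,10,12]),(188,[]),(188,[]),(4506,[0,7,13,9]),(4216,[])],[2,2,4,3,3]),
  (1,[3,16,8],[(7742,[]),(2273,[])],[2,12,11,4,2]),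
  (7,[10,4,14,0,3,15,11,2],[(3534,[8,2,12,0]),(2273,[]),(2268,[]),(4002,[4,4,9,11,9]),(212,[]),(188,[]),(185,[]),(4290,[0,9,14,8,11]),(4217,[])],[0,15,9,13,4]),
  (1,[3,12,5,5],[(7750,[]),(2272,[])],[0,8,2,10,7]),
  (7,[4,9,11,7,0,3,15,11,2],[(3534,[2,7,9,5,0]),(2268,[]),(3218,[6,0,7,14]),(2268,[]),(7578,[0,10,15,13,15]),(4217,[])],[15,8,8,2]),
  (1,[3,4,3,6,11],[(7758,[]),(2268,[])],[3,5,13,5,14]),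
  (2,[7,17,12,15,3,1,3,1,3],[(3442,[5,15,10,13]),(2273,[]),(7714,[5,14,13,14]),(4216,[])],[5,7,2,15]),
  (1,[3,4,15,9,2],[(7766,[])],[2,6,12,0]),
  (2,[7,13,14,14,8,3,1,3,1,3],[(3442,[5,11,12,12,6]),(7306,[0,11,6,4,10]),(4217,[])],[0,5,6,15,10])]
theorem hD17 : allD2 lk B KW KW F A RL R0 D17 1836 = true := by decide +kernel
end
end CA.J4M
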