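import Cfsg.Agent.Lib.Spor.J4M

/-! Derivations of the double coset table of `J₄`. -/

set_option autoImplicit false
set_option maxRecDepth 100000
set_option linter.all false
namespace CA.J4M
open CA.CNet CA.CWord CA.CLevel CA.CSimple CA.CPoint CA.CLow CA.CTodd CA.TCos
noncomputable section

def D18 : List (ℕ × Word × List (ℕ × Word) × Word) := [(1,[3,7,5,6],[(7774,[])],[2,13,13,2]),
  (2,[9,14,10,13,3,1,3,1,3],[(3442,[7,12,8,11]),(2273,[]),(2268,[]),(7530,[3,9,6,15,10]),(4216,[])],[0,8,3,9,11]),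
  (1,[3,6,2,6,5],[(7782,[]),(2272,[]),(2268,[])],[0,7,11,2,8]),
  (2,[5,5,10,4,4,3,1,3,1,3],[(3442,[3,3,8,2,2]),(2272,[]),(6442,[7,2,8,10])],[9,10,6,2]),
  (1,[3,15,9,10],[(7790,[])],[10,14,7,8]),
  (3,[0,16,10,9,0,3,1,3,1,3],[(3442,[0,14,8,7,0]),(2273,[]),(2268,[]),(7698,[4,4,10,13,9])],[2,15,15,5,0]),
  (1,[3,1,17,2,7],[(7798,[]),(2272,[]),(2268,[])],[0,8,10,9,12]),
  (3,[11,13,16,12,3,1,3,1,3],[(3442,[9,11,14,10]),(2268,[]),(7658,[2,0,3,9,4])],[3,11,15,0,4]),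
  (1,[3,1,10,17,2],[(7806,[])],[13,15,2,9]),
  (4,[10,16,9,0,3,1,3,1,3],[(3442,[8,14,7,0]),(2272,[]),(3150,[3,12,10,9,4]),(7714,[5,9,13,10,7]),(4217,[])],[2,8,2,14,13]),
  (1,[3,4,4,3,16],[(7814,[])],[0,12,15,5,14]),
  (4,[9,10,8,10,3,1,3,1,3],[(3442,[7,8,6,8]),(2273,[]),(3878,[15,4,6,9]),(2272,[]),(2268,[]),(7474,[7,15,15,5,8]),(4217,[])],[6,11,7]),
  (1,[3,7,1,11],[(7822,[]),(2268,[])],[0,10,3,4,4]),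
  (5,[16,5,10,12,3,1,3,1,3],[(3442,[14,3,8,10]),(4178,[6,2,13,13]),(184,[]),(189,[]),(184,[]),(4258,[7,10,2,2,13])],[2,11,7,0]),
  (1,[3,5,3],[(7830,[]),(2268,[])],[7,4,4,7,12]),
  (5,[7,14,4,8,10,3,1,3,1,3],[(3442,[5,12,2,6,8]),(2268,[]),(2494,[3,11,8,10,4]),(1309,[]),(5146,[0,13,7])],[9,3,6,3]),
  (1,[2,4,11,2],[(7838,[])],[2,14,9,12]),
  (6,[16,11,17,10,3,1,3,1,3],[(3442,[14,9,15,8]),(2272,[]),(3638,[0,14,0,8,7]),(2273,[]),(2268,[]),(6762,[0,9,3,13,10])],[8,14,13,9]),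
  (1,[3,11,2,7],[(7846,[]),(2273,[]),(2268,[])],[13,9,3,13,7]),
  (6,[5,9,16,6,4,3,1,3,1,3],[(3442,[3,7,14,4,2]),(3214,[12,11,3,7]),(2272,[]),(2268,[]),(6362,[6,15,12,2,4])],[3,15,15,12,4]),
  (1,[2,4,17],[(7854,[]),(2273,[])],[2,0,2,5,3]),
  (7,[4,16,9,0,4,3,1,3,1,3],[(3442,[2,14,7,0,2]),(2414,[2,8,7,11,9]),(784,[]),(804,[]),(776,[]),(4874,[8,10,7,8]),(4217,[])],[0,7,13,9,3]),
  (1,[3,15,12,2,4],[(7862,[]),(2272,[])],[5,14,2,2]),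
  (7,[12,9,17,8,3,1,3,1,3],[(3442,[10,7,15,6]),(2273,[]),(2268,[]),(4010,[0,5,12,8,2]),(6410,[6,0,6,13])],[4,8,15,9]),
  (1,[3,1,6,14],[(7870,[]),(2272,[]),(2268,[])],[11,15,0,2]),
  (7,[12,6,11,5,3,1,3,1,3],[(3442,[10,4,9,3]),(2614,[13,3,12,9]),(1288,[]),(4970,[2,14,5,15,9])],[4,2,13,2,8]),
  (1,[3,1,3,10],[(7878,[]),(2272,[])],[14,8,3,8]),
  (5,[4,6,13,11,5,3,1,3,1,2],[(7386,[2,4,11,9,3]),(4216,[]),(7606,[2,2,7,9,15]),(7034,[8,2,5,6]),(4217,[])],[3,3,5,11,5]),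
  (1,[3,11,9,2],[(7886,[]),(2273,[]),(2268,[])],[0,9,7,8,13]),
  (5,[0,11,9,4,15,3,1,3,1,2],[(7386,[0,9,7,2,13]),(4217,[]),(5294,[4,12,6,2,7]),(1316,[]),(1308,[]),(1284,[]),(5026,[0,10,6,13,13])],[14,13,0,6]),
  (1,[3,12,6,15],[(7894,[])],[12,0,4,10]),
  (2,[9,0,10,16,3,1,2,1,3],[(3150,[7,0,8,14]),(2268,[]),(6834,[0,4,14,8,5]),(4217,[])],[3,15,15,3,9]),
  (1,[3,7,1,2],[(7902,[])],[7,2,8,8,3]),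
  (4,[4,8,4,16,10,3,1,2,1,3],[(3150,[2,6,2,14,8]),(2273,[]),(2814,[2,8,14,5,7]),(1720,[]),(6122,[2,4,3,3])],[0,9,14,11,7]),
  (1,[3,4,11,1,2],[(7910,[]),(2273,[])],[0,13,2,8,11]),
  (4,[5,9,11,7,5,3,1,2,1,3],[(3150,[3,7,9,5,3]),(2272,[]),(4018,[4,0,3,8]),(7746,[14,7,4,2]),(4217,[])],[2,9,2,12]),
  (1,[3,7,2,14],[(7918,[]),(2272,[])],[3,7,2,11,7]),
  (5,[0,10,15,16,11,3,1,2,1,3],[(3150,[0,8,13,14,9]),(2582,[3,11,12,12,2]),(4994,[12,4,14,6])],[12,8,7,14]),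
  (1,[3,6,2,14,8],[(7926,[]),(2272,[])],[2,11,2,4,4]),
  (5,[6,13,7,9,13,3,1,2,1,3],[(3150,[4,11,5,7,11]),(2268,[]),(3374,[3,12,3,9,10]),(2268,[]),(7650,[0,15,11,13,10])],[0,14,7,8,11]),
  (1,[2,6,17,13],[(7934,[]),(2273,[])],[2,15,0,6,4]),
  (6,[0,7,15,16,16,3,1,2,1,3],[(3150,[0,5,13,14,14]),(2272,[]),(3374,[0,3,14,10,12]),(2272,[]),(2268,[]),(6434,[6,13,11,15])],[2,5,9,14,5]),
  (1,[3,10,2,16,8],[(7942,[]),(2273,[]),(2268,[])],[0,15,12,10,5]),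
  (7,[0,15,16,4,17,3,1,2,1,3],[(3150,[0,13,14,2,15]),(3650,[11,7,9,14]),(2273,[]),(2268,[]),(6882,[0,14,3,13,3])],[5,9,0]),
  (1,[3,10,1,3],[(7950,[]),(2272,[])],[0,5,10,8,12]),
  (2,[8,11,9,16,3,1,2,1,2],[(2710,[6,9,7,14]),(6162,[5,3,6,0]),(4217,[])],[6,13,13,13]),
  (1,[3,4,10,12],[(7958,[])],[5,7,12,15]),
  (2,[4,8,6,10,12,3,1,2,1,2],[(2710,[2,6,4,8,10]),(1720,[]),(1668,[]),(5634,[4,14,4]),(4217,[])],[12,3,10,7]),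
  (1,[3,1,2,13,2],[(7966,[]),(2272,[])],[3,6,8,15]),
  (2,[0,7,12,8,0,3,1,2,1,2],[(2710,[0,5,10,6,0]),(1720,[]),(1668,[]),(6122,[2,11,15,8,5])],[0,7,13,15,12]),
  (1,[3,9,1],[(7974,[]),(2273,[]),(2268,[])],[0,3,9,10,15]),
  (2,[4,6,14,9,3,1,2,1,2],[(2710,[2,4,12,7]),(1673,[]),(1668,[]),(5842,[3,3,6,12,11]),(4216,[])],[5,0,2,13,14]),
  (1,[3,5,3,6,14],[(7982,[])],[4,4,15,15,9]),
  (2,[16,5,3,1,2,1,2],[(2710,[14,3]),(1720,[]),(5874,[3,3,5,9,11]),(4216,[])],[0,11,3,15,13]),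
  (1,[3,7,8],[(7990,[]),(2272,[]),(2268,[])],[0,13,15,7]),
  (2,[5,10,6,13,8,3,1,2,1,2],[(2710,[3,8,4,11,6]),(1668,[]),(1720,[]),(1668,[]),(5794,[0,2,6,8,4])],[0,2,14,0]),
  (1,[3,11,2,17,13],[(7998,[]),(2272,[])],[4,15,0,7,13]),
  (3,[0,16,13,13,16,3,1,2,1,2],[(2710,[0,14,11,11,14]),(5410,[10,4,0,4]),(4216,[])],[0,12,2,5,7]),
  (1,[3,5,3,14,9],[(8006,[]),(2268,[])],[3,11,6,13]),
  (4,[5,6,4,17,3,1,2,1,2],[(2710,[3,4,2,15]),(1668,[]),(1720,[]),(1668,[]),(2022,[7,2,14,11,7]),(1309,[]),(1316,[]),(1284,[]),(5234,[4,4,13]),(4217,[])],[0,3,10,8]),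
  (1,[2,1,14,2],[(8014,[]),(2272,[])],[8,8,2,14]),
  (7,[5,14,17,11,4,3,1,2,1,2],[(2710,[3,12,15,9,2]),(1672,[]),(2642,[13,10,2,2]),(2272,[]),(7010,[0,2,6,8]),(4216,[])],[10,5,3,10]),
  (1,[3,1,3,11,14],[(8022,[]),(2268,[])],[2,13,3,3,11]),
  (4,[13,4,10,14,3,15,11],[(7482,[11,2,8,12]),(4216,[]),(6886,[12,0,10,5]),(2273,[]),(7738,[4,3,5,6,6]),(4217,[])],[12,9,13,7]),
  (1,[3,5,9,3,15],[(8030,[]),(2268,[])],[2,7,2,4,14]),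
  (4,[0,17,11,15,10,3,15,11],[(7482,[0,15,9,13,8]),(4217,[]),(6342,[5,7,11,13,2]),(2268,[]),(7602,[9,15,6,3])],[2,0,15,8,2]),
  (1,[3,7,16],[(8038,[]),(2273,[]),(2268,[])],[11,12,12,10]),
  (6,[5,0,14,16,4,3,15,11],[(7482,[3,0,12,14,2]),(4216,[]),(5606,[15,6,3,12]),(1668,[]),(1720,[]),(5618,[2,2,13,11,14])],[0,2,8,13]),
  (1,[3,14],[(8046,[]),(2273,[])],[0,5,7,8,15]),
  (7,[8,7,0,8,3,15,11],[(7482,[6,5,0,6]),(4217,[]),(5870,[3,0,9,6,3]),(1720,[]),(1672,[]),(5922,[0,4,8,15,4]),(4216,[])],[0,13,2,9,11]),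
  (1,[3,1,3,15,10],[(8054,[])],[12,10,13,10]),
  (7,[0,10,14,7,10,3,15,11],[(7482,[0,8,12,5,8]),(4216,[]),(6022,[0,7,4,10]),(1672,[]),(5426,[4,8,4,11,6]),(4216,[])],[10,4,0,4]),
  (1,[3,17,3,13,10],[(8062,[])],[3,4,2,11,6]),
  (2,[4,4,12,12,3,15,11,3],[(2486,[2,2,10,10]),(1316,[]),(1292,[]),(1284,[]),(5218,[2,2,10,7,8])],[0,8,8,12,9]),
  (1,[3,1,6,4],[(8070,[]),(2273,[]),(2268,[])],[4,15,0]),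
  (4,[5,7,14,6,15,3,15,11,3],[(2486,[3,5,12,4,13]),(1308,[]),(1530,[2,15,10,8,14]),(1308,[]),(1316,[]),(1284,[]),(5002,[3,5,13,15,15]),(4217,[])],[12,3,5,9]),
  (1,[3,5,16,2,14],[(8078,[]),(2273,[])],[0,9,2]),
  (6,[16,14,11,11,3,15,11,3],[(2486,[14,12,9,9]),(1316,[]),(1292,[]),(1370,[4,3,5,3]),(732,[]),(728,[]),(732,[]),(728,[]),(4714,[4,7,2,14,13]),(4217,[])],[10,2,5,10]),
  (1,[3,1,10,17],[(8086,[]),(2272,[])],[0,3,14,7,2]),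
  (7,[4,6,9,7,15,3,15,11,3],[(2486,[2,4,7,5,13]),(1646,[0,11,3,14,7]),(728,[]),(732,[]),(4666,[2,4,3,14,0])],[3,7,11,7]),
  (1,[3,11,11,3],[(8094,[]),(2273,[])],[2,5,0]),
  (4,[13,14,17,10,3,4,12,9],[(6418,[11,12,15,8]),(4478,[14,14,10,5]),(213,[]),(213,[]),(184,[]),(4362,[4,6,12,4])],[4,14,5,6,15]),
  (1,[3,4,12,3,11],[(8102,[]),(2273,[]),(2268,[])],[2,5,14,5,8]),
  (5,[4,8,6,13,6,3,4,12,9],[(6418,[2,6,4,11,4]),(4217,[]),(5958,[5,2,15,2]),(1720,[]),(1672,[]),(1668,[]),(6194,[0,2,10,3]),(4217,[])],[15,4,13,7]),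
  (1,[3,4,2,17],[(8110,[]),(2273,[])],[0,6,2,7,5]),
  (6,[11,16,12,8,3,4,12,9],[(6418,[9,14,10,6]),(4217,[]),(7846,[7,9,13,3]),(2272,[]),(7538,[14,14,0,9])],[2,4,9,5,6]),
  (1,[3,14,10],[(8118,[]),(2268,[])],[2,6,12,14,14]),
  (6,[0,8,15,6,10,3,4,12,9],[(6418,[0,6,13,4,8]),(4582,[0,15,2,4,2]),(392,[]),(380,[]),(425,[]),(4546,[15,8,2,4]),(4217,[])],[12,14,8,6]),
  (1,[3,5,3,13,14],[(8126,[]),(2273,[])],[3,3,14,11,6]),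
  (6,[8,8,0,17,7,3,4,12,9],[(6418,[6,6,0,15,5]),(4217,[]),(6950,[0,11,12,5,12]),(2273,[]),(2268,[]),(6554,[4,3,13,13,4])],[0,13,14,5,15]),
  (1,[3,7,11,6],[(8134,[]),(2273,[])],[0,12,10,15,13]),
  (7,[4,15,17,12,3,4,12,9],[(6418,[2,13,15,10]),(4216,[]),(5782,[5,6,12,14]),(1673,[]),(1668,[]),(5554,[6,13,11,3])],[0,15,15,9,14]),
  (1,[3,1,3,1,11],[(8142,[]),(2272,[])],[0,8,15,0,3]),
  (2,[17,17,17,10,3,4,2,1],[(4006,[15,15,15,8]),(7386,[2,13,13,6,12])],[15,12,3,14]),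
  (1,[3,8,3,17,11],[(8150,[])],[2,4,2,14,6]),
  (2,[0,6,0,12,3,4,2,1],[(4006,[0,4,0,10]),(7138,[3,7,13,0,14]),(4217,[])],[2,6,13,7,14]),
  (1,[3,12,7],[(8158,[]),(2268,[])],[11,15,8,5]),
  (2,[8,14,4,9,3,4,2,1],[(4006,[6,12,2,7]),(2272,[]),(7930,[0,10,12,10,4])],[10,8,6,4]),
  (1,[3,1,3,17],[(8166,[]),(2272,[])],[4,13,0,15]),
  (3,[15,7,14,17,3,4,2,1],[(4006,[13,5,12,15]),(2272,[]),(7458,[2,11,5,5,11]),(4217,[])],[0,14,6,11,6]),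
  (1,[3,7,7,2],[(8174,[]),(2272,[]),(2268,[])],[15,12,2,14]),
  (5,[4,0,11,15,8,3,4,2,1],[(4006,[2,0,9,13,6]),(3434,[2,12,8,10,15]),(2268,[]),(7138,[0,11,6,2,12]),(4217,[])],[10,10,7,11]),
  (1,[2,6,3,10],[(8182,[])],[14,11,11,2]),
  (5,[7,15,13,6,3,4,2,1],[(4006,[5,13,11,4]),(2268,[]),(3322,[11,3,10,7]),(2273,[]),(2268,[]),(6930,[13,15,13,0]),(4216,[])],[2,9,7,3,4]),
  (1,[2,7,9],[(8190,[]),(2273,[])],[2,10,9,10]),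
  (6,[14,9,17,11,3,4,2,1],[(4006,[12,7,15,9]),(2268,[]),(3974,[0,11,7,13]),(2268,[]),(7690,[5,3,8,2]),(4217,[])],[11]),
  (1,[3,12,3,12],[(8198,[]),(2268,[])],[13,7,4,14]),
  (4,[4,4,10,9,14,3,4,2,7],[(7922,[2,2,8,7,12]),(4217,[]),(7166,[9,0,10,9]),(2273,[]),(6650,[2,5,9,4,8]),(4217,[])],[9,2,14,9])]
theorem hD18 : allD2 lk B KW KW F A RL R0 D18 1944 = true := by decide +kernel
def D19 : List (ℕ × Word × List (ℕ × Word) × Word) := [(1,[3,4,4,3,13],[(8206,[])],[7,11,12,8]),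
  (5,[0,6,14,7,8,3,4,2,7],[(7922,[0,4,12,5,6]),(4217,[]),(7614,[10,13,3,14]),(7010,[0,6,6,4,12])],[5,5,15,7,5]),
  (1,[3,1,8,17,3],[(8214,[]),(2273,[]),(2268,[])],[2,13,6,11,2]),
  (5,[0,8,14,10,5,3,4,2,7],[(7922,[0,6,12,8,3]),(4718,[2,13,0,10,13]),(732,[]),(728,[]),(732,[]),(728,[]),(728,[]),(4722,[5,0,15,5])],[2,4,13,9,15]),
  (1,[2,4,7,3],[(8222,[]),(2272,[]),(2268,[])],[7,0,10,14]),
  (6,[0,11,12,12,8,3,4,2,7],[(7922,[0,9,10,10,6]),(5006,[9,13,7,14]),(1308,[]),(5122,[9,5,0,14]),(4216,[])],[0,2,10,8,13]),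
  (1,[3,9,6,15,3],[(8230,[])],[0,2,10,10,14]),
  (6,[6,17,4,6,15,3,4,2,7],[(7922,[4,15,2,4,13]),(4217,[]),(7958,[0,9,12,14,11]),(2272,[]),(2268,[]),(6658,[8,0,9,10])],[0,4,13,9,15]),
  (1,[3,8,3,7,15],[(8238,[]),(2273,[])],[0,12,9,13,14]),
  (2,[17,7,14,0,2,4,3,9],[(3506,[15,5,12,0]),(2272,[]),(2268,[]),(8138,[0,2,4,7,11]),(4217,[])],[0,2,15,9,9]),
  (1,[3,1,11,2,17],[(8246,[]),(2273,[]),(2268,[])],[3,8,10,13]),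
  (2,[0,11,14,6,14,2,4,3,9],[(3506,[0,9,12,4,12]),(2272,[]),(2268,[]),(6418,[2,0,5,9,11]),(4217,[])],[2,6,3,0,6]),
  (1,[3,1,17,13,2],[(8254,[])],[12,12,15,9]),
  (2,[5,5,17,5,2,4,3,9],[(3506,[3,3,15,3]),(2273,[]),(2268,[]),(7186,[2,14,2,0,2])],[13,2,4,13]),
  (1,[3,5,6,9,2],[(8262,[])],[4,15,6,8]),
  (2,[4,13,10,6,10,2,4,3,9],[(3506,[2,11,8,4,8]),(2273,[]),(2268,[]),(8146,[12,6,12,14])],[12,8,10]),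
  (1,[3,15,10],[(8270,[]),(2273,[]),(2268,[])],[3,3,3,0,5]),
  (7,[15,4,6,2,4,3,9],[(3506,[13,2,4]),(2272,[]),(3778,[4,10,9,14,4]),(213,[]),(188,[]),(184,[]),(4434,[8,7,5,10])],[3,5,8,11,12]),
  (1,[3,6,4,3,7],[(8278,[]),(2268,[])],[5,2,4,2]),
  (7,[14,16,13,7,3,7,14,3,8],[(2294,[12,14,11,5]),(2306,[2,7,13,11]),(2268,[]),(7010,[0,7,5,0]),(4216,[])],[15,6,0,5]),
  (1,[3,1,2,1,15],[(8286,[]),(2268,[])],[4,13,7,15,13]),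
  (5,[5,15,10,8,12,3,5,8,11],[(3178,[3,13,8,6,10]),(2273,[]),(2268,[]),(3182,[0,2,12,15,4]),(2273,[]),(7130,[0,8,7,9,13])],[3,9,12,11,15]),
  (1,[3,1,3,15],[(8294,[]),(2273,[]),(2268,[])],[0,14,0,12,3]),
  (6,[6,8,11,3,5,8,11],[(3178,[4,6,9]),(3946,[9,5,8,5]),(2273,[]),(2268,[]),(7978,[0,4,7,8,11]),(4216,[])],[12,4,3,13]),
  (1,[3,4,14,2,15],[(8302,[]),(2272,[]),(2268,[])],[14,5,3,8]),
  (4,[4,9,15,15,17,3,4,2],[(8258,[2,7,13,13,15]),(4216,[]),(4766,[11,14,8,2]),(733,[]),(729,[]),(732,[]),(728,[]),(732,[]),(728,[]),(728,[]),(4762,[9,6,2,4]),(4216,[])],[0,13,4,15,4]),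
  (1,[3,5,8,16],[(8310,[])],[0,4,8,0]),
  (4,[7,15,8,0,3,4,2],[(8258,[5,13,6,0]),(5214,[0,2,6,3,13]),(1309,[]),(1292,[]),(5130,[3,11,13,6,11])],[0,4,12,2,14]),
  (1,[3,1,2,5,6],[(8318,[]),(2268,[])],[6,6,10,3,7]),
  (7,[8,13,11,14,3,4,2],[(8258,[6,11,9,12]),(4216,[]),(5878,[5,8,11,13,14]),(1720,[]),(1673,[]),(1668,[]),(6274,[10,8,10,10]),(4216,[])],[5,8,11,12]),
  (1,[2,5,13,2],[(8326,[]),(2268,[])],[2,4,15,4,4]),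
  (7,[0,9,5,5,0,3,4,2],[(8258,[0,7,3,3,0]),(4217,[]),(5830,[7,10,12,8,10]),(1673,[]),(6090,[0,11,4,9]),(4217,[])],[9,5,15,7,3]),
  (1,[2,4,2,1],[(8334,[]),(2272,[]),(2268,[])],[6,0,14,6,15]),
  (7,[0,11,7,9,0,3,4,2],[(8258,[0,9,5,7,0]),(8222,[4,10,3,8]),(2273,[]),(2268,[]),(8170,[0,12,10,13,13])],[13,8,13,2]),
  (1,[3,4,12,4],[(8342,[]),(2272,[])],[0,7,9,9]),
  (5,[6,13,9,7,16,3,16,2,16],[(7426,[4,11,7,5,14]),(4216,[]),(6718,[8,2,2,6]),(2273,[]),(2268,[]),(7426,[10,15,4,4])],[4,7,0,3]),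
  (1,[2,5,2,12],[(8350,[])],[14,10,2,7]),
  (5,[5,13,7,9,11,3,16,2,16],[(7426,[3,11,5,7,9]),(6158,[2,7,8,5,7]),(5874,[2,12,0,13,13])],[0,7,14,3,15]),
  (1,[3,4,3,13,7],[(8358,[]),(2272,[]),(2268,[])],[0,14,13,10,4]),
  (4,[4,17,8,4,9,2,6,1,11],[(6986,[2,15,6,2,7]),(4216,[]),(5918,[4,3,10,5,3]),(1720,[]),(1673,[]),(1668,[]),(5858,[15,5,15,13]),(4217,[])],[3,15,4,6,5]),
  (1,[2,13,2,9],[(8366,[]),(2273,[]),(2268,[])],[4,8,7,8,3]),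
  (4,[6,15,16,4,2,6,1,11],[(6986,[4,13,14,2]),(4216,[]),(5878,[10,8,6,15]),(1668,[]),(1720,[]),(6154,[0,8,7,14,13])],[3,0,11,11,6]),
  (1,[3,6,10,3,14],[(8374,[]),(2273,[])],[0,3,10,2,10]),
  (6,[5,10,12,15,10,2,6,1,11],[(6986,[3,8,10,13,8]),(4216,[]),(5230,[2,6,12,6,14]),(5362,[9,3,13,14])],[8,14,8,13]),
  (1,[3,1,5,5],[(8382,[]),(2273,[])],[3,6,5,10,13]),
  (5,[5,16,14,5,17,2,7,1,3],[(3690,[3,14,12,3,15]),(2272,[]),(3422,[2,4,9,3]),(2268,[]),(7738,[0,6,11,12,9])],[9,3,11,15]),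
  (1,[3,4,15,2,9],[(8390,[]),(2273,[]),(2268,[])],[10,8,13,15]),
  (7,[4,15,8,14,9,2,7,1,3],[(3690,[2,13,6,12,7]),(2273,[]),(2268,[]),(3606,[2,4,15,8,11]),(2272,[]),(2268,[]),(8170,[0,6,4,6,0]),(4217,[])],[2,14,10,12,7]),
  (1,[3,4,14,3,5],[(8398,[]),(2272,[])],[0,4,10,9,0]),
  (4,[0,6,17,7,14,3,5,2,14,4],[(7322,[0,4,15,5,12]),(4582,[14,4,14,0]),(424,[]),(384,[]),(424,[]),(4546,[6,15,11,4]),(4216,[])],[9,6,3,15,12]),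
  (1,[3,4,3,9,5],[(8406,[]),(2273,[]),(2268,[])],[0,14,14,7,0]),
  (4,[0,9,16,5,5,3,5,2,14,4],[(7322,[0,7,14,3,3]),(7910,[9,15,5,7,5]),(2272,[]),(2268,[]),(7090,[0,15,11,4,12])],[12,12,6,14]),
  (1,[2,6,3,12],[(8414,[]),(2273,[]),(2268,[])],[5,8,3,10]),
  (2,[4,16,5,17,8,2,6,3,7],[(2598,[2,14,3,15,6]),(1316,[]),(1292,[]),(1284,[]),(5170,[0,5,13,3,12]),(4217,[])],[0,4,7,4,12]),
  (1,[3,5,1,16,2],[(8422,[])],[0,6,10,8,13]),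
  (2,[4,11,0,8,2,6,3,7],[(2598,[2,9,0,6]),(1309,[]),(1288,[]),(5026,[0,3,14,2,2]),(4217,[])],[13,5,14,3]),
  (1,[3,4,15,12],[(8430,[]),(2273,[]),(2268,[])],[4,6,5,15]),
  (4,[15,0,11,4,3,4],[(3938,[13,0,9,2]),(2268,[]),(3850,[7,15,5,0]),(2273,[]),(7194,[15,9,5,3]),(4216,[])],[3,5,9,11]),
  (1,[3,4,14,3,7],[(8438,[]),(2272,[]),(2268,[])],[0,15,8,11,5]),
  (4,[10,13,9,13,13,3,4],[(3938,[8,11,7,11,11]),(3954,[0,2,7,15,7]),(2268,[]),(6618,[3,4,13,5]),(4216,[])],[0,9,11,4,7]),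
  (1,[2,4,9,2],[(8446,[]),(2268,[])],[4,11,7,9,15]),
  (4,[0,6,5,13,6,3,4,3,14,3],[(6618,[0,4,3,11,4]),(7398,[0,7,4,7]),(2268,[]),(8098,[12,6,4]),(4216,[])],[0,15,6,3,9]),
  (1,[3,10,2,6,17],[(8454,[])],[0,11,7]),
  (6,[4,10,8,0,9,3,4,3,14,3],[(6618,[2,8,6,0,7]),(7582,[0,2,5,0,12]),(2268,[]),(6890,[3,5,12,14,9]),(4216,[])],[0,15,0,12,12]),
  (1,[3,1,3,1,13],[(8462,[]),(2272,[])],[3,0,4,3,10]),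
  (2,[4,6,4,11,12,2,16,2,8],[(4142,[2,4,2,9,10]),(424,[]),(424,[]),(385,[]),(4554,[4,10,15,9,10]),(4217,[])],[0,7,15,6]),
  (1,[3,8,10,2],[(8470,[]),(2273,[]),(2268,[])],[0,5,6,6,5]),
  (2,[11,0,4,8,2,16,2,8],[(4142,[9,0,2,6]),(392,[]),(424,[]),(4554,[4,6,5,15,8])],[2,7,10,13,2]),
  (1,[2,14,16],[(8478,[]),(2272,[]),(2268,[])],[2,12,9,13]),
  (3,[17,13,15,8,2,16,2,8],[(4142,[15,11,13,6]),(393,[]),(380,[]),(425,[]),(4618,[0,2,6,3,0])],[0,4,4,4,13]),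
  (1,[3,11,16,10],[(8486,[]),(2273,[]),(2268,[])],[3,6,3,13,7]),
  (5,[6,13,6,16,5,2,16,2,8],[(4142,[4,11,4,14,3]),(393,[]),(414,[6,13,5,10]),(213,[]),(189,[]),(184,[]),(4346,[0,14,14,11,13]),(4216,[])],[0,5,2,9,6]),
  (1,[2,4,1],[(8494,[]),(2272,[])],[0,12,15,3,4]),
  (6,[4,16,6,0,16,2,16,2,8],[(4142,[2,14,4,0,14]),(424,[]),(392,[]),(414,[2,14,6,3,15]),(188,[]),(185,[]),(4338,[0,13,15,7,2]),(4217,[])],[2,6,8,0,2]),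
  (1,[3,5,2,14,4],[(8502,[])],[6,13,4,4,10]),
  (2,[0,16,12,12,3,5,9,6,3],[(2934,[0,14,10,10]),(1720,[]),(1673,[]),(5482,[3,3,7,14,6])],[12,8,0,10]),
  (1,[3,8,17,3],[(8510,[]),(2268,[])],[5,11,6,9]),
  (4,[6,15,5,8,3,5,9,6,3],[(2934,[4,13,3,6]),(1668,[]),(3034,[3,14,13,11]),(2273,[]),(8290,[9,15,15,11]),(4217,[])],[2,12,4,12,4]),
  (1,[3,1,16,2,4],[(8518,[]),(2272,[]),(2268,[])],[4,10,3,15]),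
  (5,[0,17,8,7,3,1,15,8],[(6434,[0,15,6,5]),(4217,[]),(8086,[10,3,8,15]),(2273,[]),(7898,[0,8,3,6,12]),(4217,[])],[3,15,9,5]),
  (1,[3,7,2,11,1],[(8526,[]),(2273,[])],[12,14,4,15]),
  (7,[0,6,5,16,12,3,1,15,8],[(6434,[0,4,3,14,10]),(7430,[4,10,7,14,5]),(6354,[3,4,15,5,8])],[10,9,0,5]),
  (1,[2,5,2,8],[(8534,[]),(2268,[])],[3,9,3,7,11]),
  (2,[9,12,2,7],[(3838,[7,10]),(2272,[]),(2268,[]),(7330,[5,3,7,4]),(4217,[])],[4,0,11,5]),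
  (1,[3,5,11,4],[(8542,[]),(2272,[]),(2268,[])],[8,13,15,2]),
  (3,[0,12,8,0,2,7],[(3838,[0,10,6,0]),(2273,[]),(8362,[6,4,13,7]),(4216,[])],[2,13,3,13,8]),
  (1,[3,14,16,15],[(8550,[])],[4,3,14,14,9]),
  (5,[5,7,11,2,7],[(3838,[3,5,9]),(2272,[]),(2268,[]),(3734,[9,4,8,10]),(2272,[]),(2268,[]),(7322,[13,14,2,7]),(4217,[])],[8,5,9,7]),
  (1,[3,8,3,12,10],[(8558,[]),(2268,[])],[0,12,3,3,15]),
  (2,[11,12,17,9,3,5,8,1,3],[(2510,[9,10,15,7]),(1308,[]),(1292,[]),(5050,[4,4,7,8,12])],[2,11,3,10,8]),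
  (1,[3,15,2,4,2],[(8566,[])],[3,11,7,12,5]),
  (6,[0,6,6,16,3,5,8,1,3],[(2510,[0,4,4,14]),(1308,[]),(1292,[]),(2050,[2,13,3,10,13]),(1673,[]),(6010,[7,4,10,12])],[7,13,3,11]),
  (1,[3,8,3,11,16],[(8574,[]),(2272,[]),(2268,[])],[3,0,4,9,14]),
  (4,[14,9,14,12,3,4,3,14],[(6746,[12,7,12,10]),(4216,[]),(5878,[4,4,4,4]),(1720,[]),(1672,[]),(5858,[0,13,14,6,12]),(4216,[])],[0,10,13,0]),
  (1,[3,7,2,14,5],[(8582,[]),(2268,[])],[7,3,11]),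
  (5,[0,5,13,11,12,3,11,2,6,5],[(3490,[0,3,11,9,10]),(93,[]),(85,[]),(93,[]),(72,[]),(3486,[2,14,13,0,6]),(2272,[]),(2268,[]),(7818,[5,15,5,9,5]),(4217,[])],[2,2,15,10,3]),
  (1,[3,1,5,2],[(8590,[]),(2273,[]),(2268,[])],[14,3,5,8]),
  (6,[0,12,12,16,7,3,11,2,6,5],[(3490,[0,10,10,14,5]),(101,[]),(93,[]),(72,[]),(2162,[7,5,6,3]),(1668,[]),(1720,[]),(1668,[]),(5554,[2,12,12,5,11])],[3,12,14,5,6]),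
  (1,[3,7,2,9,1],[(8598,[])],[3,15,3,13,2]),
  (2,[8,10,4,17,3,5,9,6],[(3538,[6,8,2,15]),(6850,[0,6,15,10,5])],[2,14,14,12,0]),
  (1,[3,8,13],[(8606,[]),(2272,[])],[14,2,11,6]),
  (7,[4,8,12,3,1,8,17],[(3410,[2,6,10]),(2273,[]),(2268,[]),(2462,[2,13,7,5,15]),(1308,[]),(1308,[]),(5274,[5,5,3,11]),(4216,[])],[11,8,5,3]),
  (1,[3,5,7,3,4],[(8614,[])],[11,9,15,0]),
  (7,[10,17,15,3,1,8,17],[(3410,[8,15,13]),(2678,[3,6,15,3,3]),(5922,[0,3,10,4,9])],[3,3,10,7,8]),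
  (1,[3,12,5],[(8622,[]),(2273,[])],[0,12,5,6,6]),
  (4,[4,7,10,4,8,3,1,8,17,3],[(3438,[2,5,8,2,6]),(3978,[10,15,13,5]),(2273,[]),(8138,[10,12,0,15])],[14,14,14,13,6]),
  (1,[3,6,15,8],[(8630,[]),(2272,[]),(2268,[])],[4,7,13,13,0]),
  (6,[4,14,7,5,5,3,17,6],[(7162,[2,12,5,3,3]),(7414,[7,3,9]),(2273,[]),(7594,[13,3,5,10]),(4217,[])],[2,10,3,4,12])]
theorem hD19 : allD2 lk B KW KW F A RL R0 D19 2052 = true := by decide +kernel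
def D20 : List (ℕ × Word × List (ℕ × Word) × Word) := [(1,[2,6,12,2],[(8638,[])],[2,14,0,12,9]),
  (7,[11,6,5,12,3,17,6],[(7162,[9,4,3,10]),(4217,[]),(8022,[4,4,4,2,8]),(2272,[]),(2268,[]),(7138,[4,12,7,12,14]),(4216,[])],[3,3,11,4,9]),
  (1,[3,12,3,5,12],[(8646,[]),(2273,[])],[0,4,0,14,14]),
  (7,[7,10,4,4,3,17,6],[(7162,[5,8,2,2]),(4216,[]),(5774,[0,6,4,4,11]),(1668,[]),(1720,[]),(1668,[]),(6034,[0,6,13,7,12]),(4217,[])],[2,2,9,6,11]),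
  (1,[3,5,7,3,17],[(8654,[]),(2272,[]),(2268,[])],[2,15,13,14,4]),
  (6,[0,4,6,17,6,2,15,2,7],[(8218,[0,2,4,15,4]),(4217,[]),(8238,[2,2,8,5,5]),(2273,[]),(7498,[0,2,7]),(4216,[])],[11,8,13,6]),
  (1,[3,5,3,4,2],[(8662,[])],[4,7,13,7]),
  (6,[5,8,4,13,13,2,15,2,7],[(8218,[3,6,2,11,11]),(4278,[7,5,5,0]),(188,[]),(188,[]),(185,[]),(4506,[10,14,7,5]),(4216,[])],[12,9,13,4]),
  (1,[2,5,2,7],[(8670,[]),(2272,[]),(2268,[])],[3,8,14,3,5]),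
  (5,[0,17,9,6,15,2,16,9,2],[(6546,[0,15,7,4,13]),(7998,[2,2,5,6,3]),(2272,[]),(8138,[3,15,5,10]),(4217,[])],[15,5,3,5]),
  (1,[3,4,3,17],[(8678,[])],[4,14,12,15,13]),
  (2,[14,14,13,8,3,8,3,1,2],[(3418,[12,12,11,6]),(2273,[]),(2268,[]),(7562,[13,9,4,8,8]),(4217,[])],[13,14,8]),
  (1,[3,1,8,2,17],[(8686,[]),(2272,[]),(2268,[])],[5,6,0,7]),
  (2,[6,10,14,0],[(4214,[4,8,12,0]),(72,[]),(92,[]),(100,[]),(4210,[2,11,14,8])],[2,6,0,15,11]),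
  (4,[0,17,4,15,0],[(4214,[0,15,2,13,0]),(93,[]),(101,[]),(76,[]),(72,[]),(3486,[2,6,0,9,10]),(7530,[14,10,10,8]),(4216,[])],[2,4,15,6,10]),
  (1,[2,7,8,2],[(8698,[]),(4217,[])],[13,9,7,4]),
  (4,[12,17,15,12,11],[(4214,[10,15,13,10,9]),(76,[]),(93,[]),(84,[]),(72,[]),(2162,[2,15,5,9,9]),(1720,[]),(1673,[]),(1668,[]),(5850,[6,2,0,11])],[5,13,13,0]),
  (4,[0,5,0,13,9],[(4214,[0,3,0,11,7]),(101,[]),(198,[0,6,8,0,3]),(189,[]),(4370,[12,6,0,14]),(4217,[])],[11,14,6,9]),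
  (1,[3,1,3,13,14],[(8710,[])],[3,8,0,5,9]),
  (4,[5,8,7,12,6],[(4214,[3,6,5,10,4]),(72,[]),(100,[]),(92,[]),(76,[]),(3486,[2,7,8,6,3]),(2268,[]),(8090,[3,5,15]),(4217,[])],[15,0,8,3]),
  (1,[2,4,2,11],[(8718,[])],[3,15,13,13,11]),
  (4,[13,8,8,13],[(4214,[11,6,6,11]),(72,[]),(101,[]),(93,[]),(3486,[6,13,9,0,6]),(2273,[]),(2268,[]),(7786,[15,5,10,6]),(4216,[])],[0,14,8,2]),
  (1,[3,4,15,10],[(8726,[])],[3,14,7,5]),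
  (4,[4,4,17,6,5],[(4214,[2,2,15,4,3]),(100,[]),(72,[]),(93,[]),(72,[]),(326,[5,8,13,7,15]),(189,[]),(213,[]),(4506,[15,0,5,3]),(4217,[])],[4,4,8,3,5]),
  (1,[2,15,9,3],[(8734,[])],[3,5,8,6]),
  (4,[4,7,4,13,8],[(4214,[2,5,2,11,6]),(80,[]),(93,[]),(85,[]),(3486,[7,5,0,2,4]),(2268,[]),(7234,[7,2,13,2,11])],[10,9,6,14]),
  (1,[3,8,11,2,6],[(8742,[])],[0,5,13,15,8]),
  (5,[15,9,10,6],[(4214,[13,7,8,4]),(84,[]),(93,[]),(100,[]),(198,[8,5,15,5]),(213,[]),(189,[]),(184,[]),(4314,[0,7,14,8])],[0,8,2,5,9]),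
  (5,[17,4,15,17],[(4214,[15,2,13,15]),(84,[]),(80,[]),(76,[]),(374,[2,10,12,5,3]),(424,[]),(392,[]),(4514,[2,0,2,2,14]),(4217,[])],[4,9,11,5,13]),
  (5,[7,17,7,12,16],[(4214,[5,15,5,10,14]),(93,[]),(101,[]),(84,[]),(92,[]),(3486,[14,10,9,9]),(8114,[2,6,3,8,14]),(4216,[])],[14,10,9,12]),
  (5,[4,9,10,7],[(4214,[2,7,8,5]),(92,[]),(100,[]),(80,[]),(92,[]),(3486,[11,9,4,14]),(3910,[0,4,15,11,3]),(161,[]),(137,[]),(161,[]),(132,[])],[2,12,10,9,7]),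
  (1,[3,1,3,1],[(8762,[]),(4217,[])],[0,9,5,7]),
  (5,[4,4,10,15,12],[(4214,[2,2,8,13,10]),(84,[]),(80,[]),(72,[]),(2162,[0,13,9,5,2]),(1720,[]),(1672,[]),(1668,[]),(5650,[5,11,7,4,9]),(4217,[])],[0,8,0,8,8]),
  (5,[0,11,17,15],[(4214,[0,9,15,13]),(93,[]),(100,[]),(84,[]),(72,[]),(2162,[9,11,9]),(1668,[]),(1720,[]),(1668,[]),(5882,[2,4,10,8,15]),(4217,[])],[6,3,0,15]),
  (1,[3,4,12,9],[(8774,[]),(4216,[])],[4,15,15,6,8]),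
  (6,[0,13,10,10,6],[(4214,[0,11,8,8,4]),(80,[]),(100,[]),(92,[]),(76,[]),(3486,[3,10,3,14,2]),(2273,[]),(2268,[]),(7394,[0,6,3,8,5]),(4216,[])],[4,10,12,4,13]),
  (1,[2,14,1],[(8782,[]),(4217,[])],[0,6,0,13,7]),
  (6,[0,13,10,10,12],[(4214,[0,11,8,8,10]),(101,[]),(72,[]),(2162,[3,15,15,12,4]),(1720,[]),(1668,[]),(6194,[2,13,15,6]),(4216,[])],[10,6,2,7]),
  (6,[6,8,5,9,16],[(4214,[4,6,3,7,14]),(85,[]),(93,[]),(3486,[6,11,3,5,6]),(2268,[]),(6826,[0,15,3,6,5]),(4217,[])],[4,11,7,9]),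
  (1,[3,7,11],[(8794,[])],[8,2,14,5]),
  (6,[4,13,5,0],[(4214,[2,11,3,0]),(100,[]),(80,[]),(76,[]),(72,[]),(3486,[0,7,4,3,0]),(2272,[]),(7346,[0,7,13,7,3]),(4217,[])],[7,12,12,8,5]),
  (1,[2,14,4,3],[(8802,[]),(4216,[])],[11,12,12,10]),
  (6,[10,12,9,14],[(4214,[8,10,7,12]),(100,[]),(93,[]),(80,[]),(374,[0,5,10,14,9]),(393,[]),(380,[]),(424,[]),(4530,[2,15,7,10]),(4216,[])],[6,13,8,14]),
  (1,[3,15,2,6,15],[(8810,[]),(4216,[])],[0,6,4,13,7]),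
  (6,[4,0,15,6,14],[(4214,[2,0,13,4,12]),(101,[]),(85,[]),(72,[]),(2162,[11,5,9,2]),(1672,[]),(1668,[]),(5906,[0,2,7,3,0])],[4,8,6,12,14]),
  (1,[3,10,2,5,6],[(8818,[]),(4216,[])],[2,14,4,10,7]),
  (6,[4,9,4],[(4214,[2,7,2]),(93,[]),(100,[]),(76,[]),(2162,[4,10,4,6]),(1668,[]),(1720,[]),(1668,[]),(5954,[11,12,9,9]),(4216,[])],[9,10,2]),
  (1,[3,5,6,13,2],[(8826,[]),(4217,[])],[4,10,14,6,13]),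
  (7,[15,0,6,17],[(4214,[13,0,4,15]),(100,[]),(92,[]),(85,[]),(76,[]),(3486,[7,12,12,3]),(7474,[2,2,0,6,10]),(4217,[])],[2,12,4,15,11]),
  (1,[3,5,1,17,2],[(8834,[])],[4,10,15,2,10]),
  (7,[6,5,9,4],[(4214,[4,3,7,2]),(93,[]),(100,[]),(84,[]),(76,[]),(3486,[0,4,3,0,15]),(2272,[]),(2268,[]),(7554,[10,7,2,7,13]),(4216,[])],[4,4,9,9]),
  (1,[3,6,8,15],[(8842,[]),(4217,[])],[8,13,3,15,6]),
  (2,[0,5,7,10,8,3],[(4254,[0,3,5,8,6]),(212,[]),(212,[]),(188,[]),(184,[]),(4314,[7,14,2,7])],[10,8,15,4]),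
  (1,[2,9,2,12],[(8850,[]),(4217,[])],[0,8,0,3,0]),
  (2,[4,15,10,12,4,3],[(4254,[2,13,8,10,2]),(212,[]),(188,[]),(184,[]),(4258,[6,10,9,15]),(4217,[])],[0,2,2,11,15]),
  (2,[0,13,6,11,9,3],[(4254,[0,11,4,9,7]),(188,[]),(188,[]),(185,[]),(4330,[0,7,0,13,4]),(4216,[])],[2,2,15,5,10]),
  (1,[3,4,3,16,16],[(8862,[]),(4216,[])],[2,13,5,11,15]),
  (2,[0,11,6,8,4,3],[(4254,[0,9,4,6,2]),(189,[]),(4314,[12,4,2])],[2,13,9,14,8]),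
  (1,[3,4,16,3,12],[(8870,[]),(4217,[])],[0,9,14,4,9]),
  (2,[0,16,16,6,0,3],[(4254,[0,14,14,4,0]),(212,[]),(212,[]),(188,[]),(184,[]),(4346,[0,11,6,15])],[0,6,3,4,14]),
  (1,[2,15,2,11],[(8878,[]),(4217,[])],[0,8,0,7,3]),
  (2,[0,5,0,16,15,3],[(4254,[0,3,0,14,13]),(188,[]),(188,[]),(185,[]),(4258,[3,4,12,4,9])],[9,9,0,11]),
  (2,[8,15,15,11,3],[(4254,[6,13,13,9]),(213,[]),(189,[]),(184,[]),(4402,[4,13,4,10,15])],[4,2,12]),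
  (1,[3,4,3,1,2],[(8890,[])],[14,0,4,13]),
  (2,[10,0,11,12,3],[(4254,[8,0,9,10]),(212,[]),(185,[]),(4370,[2,7,0,8,12])],[7,10,12,5,9]),
  (1,[3,1,3,15,3],[(8898,[])],[2,12,4,12,14]),
  (2,[4,14,11,8,4,3],[(4254,[2,12,9,6,2]),(188,[]),(185,[]),(4410,[6,15,4,13,3])],[12,12,4,2]),
  (1,[2,5,2,16],[(8906,[])],[15,12,15,5]),
  (2,[17,10,14,16,3],[(4254,[15,8,12,14]),(212,[]),(212,[]),(188,[]),(184,[]),(4482,[2,6,14,10,12]),(4216,[])],[8,5,9,6]),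
  (1,[3,1,15,9],[(8914,[]),(4217,[])],[6,5,10,5,10]),
  (2,[0,6,13,11,6,3],[(4254,[0,4,11,9,4]),(212,[]),(212,[]),(212,[]),(4346,[0,4,3,5,13]),(4217,[])],[7,9,13,7,14]),
  (1,[3,1,5],[(8922,[]),(4217,[])],[4,3,3,3]),
  (2,[4,12,9,15,16,3],[(4254,[2,10,7,13,14]),(188,[]),(188,[]),(184,[]),(4290,[13,10,9,2]),(4216,[])],[2,2,6,14,3]),
  (1,[3,1,4,10,2],[(8930,[]),(4216,[])],[11,8,12,14]),
  (3,[7,16,6,3],[(4254,[5,14,4]),(185,[]),(212,[]),(4370,[5,2,10,14]),(4217,[])],[7,3,15,0,6]),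
  (1,[3,5,14,2],[(8938,[])],[2,0,5,9,0]),
  (3,[17,11,17,3],[(4254,[15,9,15]),(189,[]),(184,[]),(4418,[0,5,13,13,4]),(4217,[])],[3,6,9,14,10]),
  (1,[2,12,15],[(8946,[])],[0,3,9,4,7]),
  (3,[17,6,8,13,3],[(4254,[15,4,6,11]),(212,[]),(330,[13,3,15,3]),(100,[]),(84,[]),(76,[]),(72,[])],[3,6,11,9,3]),
  (1,[3,1,3,1],[(8954,[])],[3,11,6,4,0]),
  (4,[0,9,14,6,0,3],[(4254,[0,7,12,4,0]),(189,[]),(3774,[0,13,4,4,7]),(6802,[7,8,11,7,10])],[9,14,4,11]),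
  (1,[3,4,17,15],[(8962,[]),(4217,[])],[2,8,2,12,14]),
  (4,[11,12,5,15,3],[(4254,[9,10,3,13]),(213,[]),(189,[]),(185,[]),(1590,[0,4,11,3,12]),(1316,[]),(1309,[]),(5066,[2,11,2,8,12]),(4216,[])],[2,13,3,10,12]),
  (1,[3,15,2,5],[(8970,[]),(4217,[])],[0,2,5,0]),
  (4,[4,4,9,15,15,3],[(4254,[2,2,7,13,13]),(185,[]),(212,[]),(1730,[12,8,13]),(1720,[]),(1672,[]),(5538,[0,10,3,9,15])],[10,15,12,3,4]),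
  (4,[4,4,13,14,12,3],[(4254,[2,2,11,12,10]),(212,[]),(188,[]),(4174,[11,6,4,10]),(8578,[14,12,14]),(4216,[])],[3,0,5,3,3]),
  (4,[7,5,15,12,3],[(4254,[5,3,13,10]),(189,[]),(3750,[4,15,0,2,2]),(2272,[]),(8282,[6,11,5,7,15])],[3,14,12,3,7]),
  (1,[3,4,2,1],[(8986,[]),(4216,[])],[0,11,13,14,11]),
  (4,[0,5,12,14,3],[(4254,[0,3,10,12]),(213,[]),(213,[]),(184,[]),(3346,[0,15,0,14]),(2272,[]),(6954,[2,13,4,12,0]),(4216,[])],[2,8,8,2,6]),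
  (1,[3,11,11,14,3],[(8994,[])],[13,6,4,12]),
  (5,[4,0,6,11,16,3],[(4254,[2,0,4,9,14]),(213,[]),(213,[]),(1598,[2,11,4,11,12]),(1316,[]),(1284,[]),(5394,[4,7,8,12]),(4217,[])],[2,0,7,3]),
  (1,[3,10,8,15],[(9002,[]),(4217,[])],[11,13,5,14]),
  (5,[0,13,9,12,8,3],[(4254,[0,11,7,10,6]),(212,[]),(212,[]),(188,[]),(3998,[0,10,3,9,6]),(2268,[]),(6546,[0,11,12,11]),(4216,[])],[4,14,4,9,12]),
  (1,[3,1,8,15,3],[(9010,[])],[14,14,2,8,0]),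
  (6,[13,5,17,15,3],[(4254,[11,3,15,13]),(213,[]),(188,[]),(184,[]),(4458,[2,14,13,15]),(4216,[]),(8714,[3,0,6,3,14]),(4216,[])],[3,0,5,9]),
  (1,[3,13,2,9,11],[(9018,[]),(4216,[])],[2,2,8,15,12]),
  (6,[4,17,0,8,0,3],[(4254,[2,15,0,6,0]),(212,[]),(212,[]),(185,[]),(3390,[0,9,12,5,3]),(8042,[0,10,2,10,6])],[2,0,5,8,14]),
  (1,[2,4,2,17],[(9026,[])],[7,10,2,7,10]),
  (6,[10,7,9,16,3],[(4254,[8,5,7,14]),(189,[]),(185,[]),(330,[11,7,2,10]),(101,[]),(101,[]),(76,[]),(346,[2,8,5,7,14]),(132,[]),(136,[]),(132,[])],[2,7,9,5,12]),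
  (1,[3,1,3,1,2],[(9034,[]),(4217,[])],[0,9,10,7,10]),
  (6,[5,17,0,17,3],[(4254,[3,15,0,15]),(188,[]),(188,[]),(185,[]),(1730,[2,13,4,4,4]),(1672,[]),(1668,[]),(5434,[0,2,14,4])],[6,14,7,15]),
  (1,[3,12,5,2],[(9042,[]),(4216,[])],[2,2,6,10,3]),
  (6,[0,16,11,17,10,3],[(4254,[0,14,9,15,8]),(212,[]),(4426,[11,9,11,13]),(8710,[2,4,6,5]),(4217,[])],[2,4,9,2,6]),
  (6,[0,9,10,12,6,3],[(4254,[0,7,8,10,4]),(188,[]),(184,[]),(330,[3,10,2,2,2]),(85,[]),(8954,[2,15,9]),(4217,[])],[2,8,12,12,4]),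
  (7,[16,6,10,3],[(4254,[14,4,8]),(189,[]),(4354,[3,9,10,10,9]),(4217,[]),(8870,[6,8,12,6,6]),(4217,[])],[4,8,8,11,4]),
  (1,[3,10,1,3,10],[(9058,[]),(4216,[])],[2,0,2,11,9]),
  (7,[0,4,16,15,3],[(4254,[0,2,14,13]),(185,[]),(358,[0,11,12,6]),(189,[]),(4290,[5,11,12,4,13])],[4,13,10,12]),
  (7,[4,7,10,5,12,3],[(4254,[2,5,8,3,10]),(212,[]),(4458,[0,7,13,0,12]),(9058,[0,8,13,10]),(4217,[])],[4,15,13,4,8])]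
theorem hD20 : allD2 lk B KW KW F A RL R0 D20 2160 = true := by decide +kernel
def D21 : List (ℕ × Word × List (ℕ × Word) × Word) := [(7,[0,14,7,15,6,3],[(4254,[0,12,5,13,4]),(188,[]),(3282,[0,12,9,3]),(7930,[3,3,14,8,15]),(4216,[])],[11,3,8,3]),
  (1,[3,9,1,2,12],[(9074,[]),(4216,[])],[0,14,7,12,2]),
  (7,[7,4,6,10,3],[(4254,[5,2,4,8]),(212,[]),(189,[]),(3346,[2,8,7,11,13]),(2272,[]),(2268,[]),(8690,[4,12,10]),(4217,[])],[2,6,4,10,3]),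
  (1,[3,5,2,8],[(9082,[]),(4217,[])],[14,5,6,4]),
  (7,[4,7,7,3],[(4254,[2,5,5]),(212,[]),(212,[]),(212,[]),(350,[0,2,12,14]),(185,[]),(188,[]),(4386,[7,10,13,6]),(4216,[])],[0,2,7,11,9]),
  (1,[3,4,2,15],[(9090,[]),(4217,[])],[0,14,14,4,6]),
  (7,[9,13,8,8,3],[(4254,[7,11,6,6]),(185,[]),(188,[]),(3346,[9,0,13,14,11]),(2273,[]),(7586,[4,10,7,15]),(4217,[])],[2,10,14,5,9]),
  (1,[3,11,2,16,9],[(9098,[]),(4216,[])],[3,9,11,5]),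
  (2,[4,12,4,6,2],[(8978,[2,10,2,4]),(9046,[5,12,3,10])],[11,8,3,13]),
  (1,[2,15,7,2],[(9106,[]),(4217,[])],[4,0,2,10,14]),
  (3,[11,12,16,5,2],[(8978,[9,10,14,3]),(4216,[]),(8754,[13,3,9,7]),(4216,[])],[0,12,2,11,13]),
  (4,[5,0,17,4,10,2],[(8978,[3,0,15,2,8]),(4217,[]),(5094,[0,6,10,13,7]),(1288,[]),(5282,[6,8,12,15]),(4216,[])],[3,13,11,14,9]),
  (1,[3,4,13,2,1],[(9118,[]),(4216,[])],[0,9,11,4,9]),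
  (4,[8,6,9,16,13,2],[(8978,[6,4,7,14,11]),(4216,[]),(5622,[2,4,15,7,4]),(1668,[]),(1720,[]),(1668,[]),(6202,[6,12,6,6]),(4216,[])],[8,4,4,10]),
  (4,[5,12,6,8,12,2],[(8978,[3,10,4,6,10]),(4217,[]),(7358,[12,0,15,2]),(2268,[]),(8178,[5,7,9,14]),(4217,[])],[2,0,15,4,14]),
  (1,[2,6,6],[(9130,[]),(4217,[])],[7,2,7,12]),
  (4,[6,14,13,15,2],[(8978,[4,12,11,13]),(4217,[]),(7574,[2,9,0,9,4]),(2273,[]),(2268,[]),(8394,[7,10,15,7])],[4,0,10,13,7]),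
  (1,[2,14,14,2],[(9138,[]),(4216,[])],[14,3,13,3]),
  (4,[4,0,9,14,14,2],[(8978,[2,0,7,12,12]),(6542,[2,6,0,10,4]),(2268,[]),(8010,[3,9,4,6,11]),(4217,[])],[0,4,15,0,7]),
  (1,[3,1,9,3,5],[(9146,[]),(4217,[])],[12,12,9,7]),
  (5,[0,9,4,4,10,2],[(8978,[0,7,2,2,8]),(4217,[]),(8558,[7,3,5,9]),(2272,[]),(2268,[]),(7698,[0,12,2,10]),(4217,[])],[13,7,11,7]),
  (1,[3,10,9,3,11],[(9154,[]),(4216,[])],[2,13,10,12,7]),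
  (5,[16,8,16,10,2],[(8978,[14,6,14,8]),(4216,[]),(5230,[5,13,11,13,3]),(1316,[]),(1284,[]),(4994,[4,4,12,10,4])],[2,14,3,12]),
  (1,[3,8,4,3,16],[(9162,[]),(4217,[])],[3,6,3,10,6]),
  (5,[0,9,10,13,8,2],[(8978,[0,7,8,11,6]),(7494,[3,9,3,3,12]),(2273,[]),(2268,[]),(7362,[4,4,7,12,5]),(4216,[])],[2,12,3,8,3]),
  (5,[0,10,12,12,8,2],[(8978,[0,8,10,10,6]),(4217,[]),(6398,[2,9,6,6,4]),(7498,[2,10,6,10,13])],[3,10,8,14]),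
  (1,[3,5,6,13],[(9174,[])],[8,4,13,6]),
  (5,[4,8,15,16,9,2],[(8978,[2,6,13,14,7]),(4216,[]),(5094,[15,11,11,13]),(1316,[]),(1288,[]),(1284,[]),(4954,[0,12,12,8]),(4216,[])],[3,5,13,10,7]),
  (1,[3,4,2,1,10],[(9182,[]),(4216,[])],[15,6,5,9]),
  (6,[16,7,7,0,2],[(8978,[14,5,5,0]),(4216,[]),(8382,[0,9,9,0,12]),(2272,[]),(2268,[]),(7314,[10,13,13,10])],[0,13,2,12,15]),
  (6,[4,11,9,16,6,2],[(8978,[2,9,7,14,4]),(4217,[]),(6046,[0,8,14,2,10]),(1672,[]),(5858,[12,4,14,10]),(4217,[])],[14,13,0,15]),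
  (1,[3,1,8,15,2],[(9194,[]),(4216,[])],[2,6,8,7,2]),
  (6,[4,0,12,10,16,2],[(8978,[2,0,10,8,14]),(4217,[]),(4334,[2,4,7,9]),(213,[]),(185,[]),(4386,[5,7,11,9])],[2,0,2,10,4]),
  (1,[3,1,3,8,15],[(9202,[]),(4217,[])],[2,7,15,5,15]),
  (6,[4,7,15,15,10,2],[(8978,[2,5,13,13,8]),(4217,[]),(7446,[7,14,5,15,10]),(2273,[]),(8578,[2,11,11,7,9]),(4217,[])],[5,2,6,0,6]),
  (1,[3,5,16,2],[(9210,[]),(4217,[])],[14,7,10,10]),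
  (6,[5,10,10,4,8,2],[(8978,[3,8,8,2,6]),(8590,[12,8,4,0]),(2272,[]),(7226,[0,11,9,0,15]),(4217,[])],[0,2,12,2,8]),
  (1,[3,12,8,3],[(9218,[]),(4216,[])],[0,11,8,12,4]),
  (7,[4,16,11,6,4,2],[(8978,[2,14,9,4,2]),(4217,[]),(6502,[4,9,6,12,2]),(7746,[4,7,10,8,7]),(4217,[])],[9,15,7,3]),
  (1,[3,4,6,3,16],[(9226,[]),(4216,[])],[12,8,7,11]),
  (2,[11,14,17,0,3,1],[(5014,[9,12,15,0]),(1316,[]),(1292,[]),(5178,[2,6,4,14]),(4216,[])],[5,13,15,9]),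
  (1,[3,14,6,16],[(9234,[])],[7,15,0,12,2]),
  (2,[4,15,15,4,6,3,1],[(5014,[2,13,13,2,4]),(1308,[]),(1316,[]),(1284,[]),(5034,[2,4,7,4,11])],[0,7,5,3]),
  (1,[3,8,10,15,3],[(9242,[]),(4217,[])],[2,4,13,4]),
  (2,[7,11,12,7,13,3,1],[(5014,[5,9,10,5,11]),(1309,[]),(1288,[]),(5226,[9,0,12,15]),(4217,[])],[12,8,5,9]),
  (1,[3,5,2,14,10],[(9250,[])],[11,9,11,8]),
  (2,[0,11,12,11,0,3,1],[(5014,[0,9,10,9,0]),(1308,[]),(1284,[]),(5282,[4,14,9,4])],[10,14,11,4]),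
  (1,[3,5,6,3,5],[(9258,[])],[0,9,0,6,3]),
  (2,[7,13,10,12,3,1],[(5014,[5,11,8,10]),(1288,[]),(5026,[0,3,11,14,8]),(4217,[])],[0,13,3,13,4]),
  (1,[3,4,8,3,5],[(9266,[])],[8,8,5,6]),
  (3,[0,16,5,0,11,3,1],[(5014,[0,14,3,0,9]),(1308,[]),(5338,[2,9,15,2,14])],[15,6,12,0]),
  (1,[3,7,1,2,11],[(9274,[]),(4217,[])],[0,3,5,8,11]),
  (3,[10,4,8,14,3,1],[(5014,[8,2,6,12]),(1308,[]),(1316,[]),(1284,[]),(5274,[0,6,14,11])],[9,14,7,15]),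
  (3,[6,6,9,5,8,3,1],[(5014,[4,4,7,3,6]),(1288,[]),(4970,[2,7,14,7,8])],[6,2,0,11]),
  (1,[3,1,10,3],[(9286,[]),(4217,[])],[0,10,5,14,12]),
  (3,[5,11,8,15,3,1],[(5014,[3,9,6,13]),(1316,[]),(1308,[]),(5202,[6,11,2,2,12])],[4,0,10,12,12]),
  (4,[6,6,12,10,13,3,1],[(5014,[4,4,10,8,11]),(1288,[]),(1284,[]),(2586,[8,8,11,7]),(8418,[6,15,11,8,2]),(4216,[])],[2,9,6,2]),
  (1,[3,12,3,6,17],[(9298,[])],[0,2,6,3,10]),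
  (4,[5,5,9,10,16,3,1],[(5014,[3,3,7,8,14]),(1309,[]),(1284,[]),(2018,[0,12,0,2]),(1672,[]),(6138,[0,3,9,9]),(4216,[])],[5,3,7,4]),
  (1,[3,4,3,5,12],[(9306,[]),(4217,[])],[4,2,15,0,11]),
  (4,[0,16,5,11,17,3,1],[(5014,[0,14,3,9,15]),(1284,[]),(5074,[5,5,11,7,5]),(4217,[]),(9090,[15,6,2,5])],[2,7,10,6,5]),
  (1,[3,5,2,15,11],[(9314,[]),(4217,[])],[4,14,5,3]),
  (5,[12,7,14,4,14,3,1],[(5014,[10,5,12,2,12]),(1284,[]),(1538,[3,15,5,7,11]),(1309,[]),(5170,[0,11,5,13,5]),(4217,[])],[5,5,3,4,13]),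
  (1,[3,4,9,17],[(9322,[]),(4216,[])],[11,2,7,9]),
  (5,[7,14,6,10,16,3,1],[(5014,[5,12,4,8,14]),(1316,[]),(1288,[]),(1646,[15,0,14,13]),(729,[]),(729,[]),(732,[]),(4722,[11,4,4,3]),(4217,[])],[0,9,12,14]),
  (1,[3,10,2,13,10],[(9330,[]),(4216,[])],[0,14,5,8,0]),
  (5,[12,15,5,17,3,1],[(5014,[10,13,3,15]),(1308,[]),(1288,[]),(5298,[2,4,11,7,2]),(4216,[]),(8850,[2,10,6,12,2])],[0,9,15,15,10]),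
  (1,[3,4,9,5],[(9338,[]),(4216,[])],[3,14,3,5]),
  (5,[11,0,6,16,3,1],[(5014,[9,0,4,14]),(1309,[]),(1288,[]),(2618,[2,13,2,7]),(2272,[]),(7938,[8,15,5,14,13]),(4216,[])],[9,14,13,15]),
  (1,[3,6,2],[(9346,[]),(4217,[])],[2,2,9,3,4]),
  (5,[4,7,9,14,6,3,1],[(5014,[2,5,7,12,4]),(1316,[]),(1308,[]),(1308,[]),(5314,[11,12,5,7]),(9338,[3,14,10,8])],[0,15,5,3,13]),
  (1,[3,16,2,8,17],[(9354,[])],[7,14,0,8]),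
  (5,[6,16,16,5,17,3,1],[(5014,[4,14,14,3,15]),(1288,[]),(1284,[]),(1418,[0,5,3,9,0]),(788,[]),(784,[]),(780,[]),(4850,[3,4,15,13]),(4217,[])],[11,8,4,8]),
  (1,[3,4,2,9,7],[(9362,[]),(4216,[])],[6,14,9,12]),
  (5,[0,14,12,11,4,3,1],[(5014,[0,12,10,9,2]),(1316,[]),(1308,[]),(1308,[]),(3354,[2,7,10,9,5]),(2273,[]),(6722,[2,10,15,3,0]),(4217,[])],[3,6,10,8,7]),
  (1,[3,15,7,2,8],[(9370,[])],[5,6,4,7]),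
  (6,[5,11,9,16,14,3,1],[(5014,[3,9,7,14,12]),(4986,[0,2,12,10,2]),(9354,[7,14,0,3]),(4217,[])],[0,12,12,6,12]),
  (1,[3,1,5,2,1],[(9378,[]),(4216,[])],[9,3,14,0]),
  (6,[0,8,14,14,0,3,1],[(5014,[0,6,12,12,0]),(1309,[]),(1316,[]),(2042,[15,10,3,0]),(1668,[]),(1720,[]),(6194,[15,3,6,14]),(4217,[])],[2,0,15,6]),
  (1,[2,1,8,3],[(9386,[]),(4216,[])],[6,3,14,6,10]),
  (6,[0,15,11,14,3,1],[(5014,[0,13,9,12]),(1308,[]),(1316,[]),(2482,[0,15,6,8,7]),(2272,[]),(8482,[6,0,5,14,12])],[0,14,4,8,11]),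
  (1,[3,5,9,3,6],[(9394,[]),(4217,[])],[14,0,6,10]),
  (6,[0,7,11,11,6,3,1],[(5014,[0,5,9,9,4]),(1308,[]),(1284,[]),(2586,[12,3,3,5]),(7898,[14,0,9,9])],[9,10,8]),
  (6,[7,9,16,8,14,3,1],[(5014,[5,7,14,6,12]),(1308,[]),(1284,[]),(5338,[0,6,4,6,4]),(4216,[]),(9086,[13,11,14,3]),(4217,[])],[3,5,3,10]),
  (1,[3,11,11,3,14],[(9406,[])],[8,15,4,3]),
  (6,[6,17,12,14,4,3,1],[(5014,[4,15,10,12,2]),(1309,[]),(1316,[]),(1284,[]),(2018,[0,9,0,7,8]),(1673,[]),(1668,[]),(5938,[6,12,14,7]),(4217,[])],[5,10,10,10,14]),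
  (1,[3,10,1,2],[(9414,[]),(4217,[])],[3,13,3,9,4]),
  (7,[4,14,4,17,7,3,1],[(5014,[2,12,2,15,5]),(1316,[]),(1292,[]),(1288,[]),(2482,[11,14,9,4]),(2273,[]),(6882,[2,2,15,5,14]),(4217,[])],[6,14,12,11]),
  (1,[2,6,1,2],[(9422,[]),(4217,[])],[3,6,5,14,5]),
  (7,[4,9,11,8,12,3,1],[(5014,[2,7,9,6,10]),(1292,[]),(1638,[4,10,12,4,13]),(1316,[]),(1288,[]),(1284,[]),(5138,[0,12,8,4,0]),(4217,[])],[6,13,10,15,3]),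
  (1,[2,9,12],[(9430,[])],[13,2,5,13]),
  (7,[0,4,16,9,6,3,1],[(5014,[0,2,14,7,4]),(2002,[12,4,3,9]),(1668,[]),(2134,[3,13,10,3]),(136,[]),(161,[])],[0,9,4,7,2]),
  (1,[3,4,3,1,2],[(9438,[])],[5,11,12,2,0]),
  (7,[5,0,11,12,10,3,1],[(5014,[3,0,9,10,8]),(1316,[]),(1292,[]),(1284,[]),(1498,[4,11,8,6]),(1308,[]),(1316,[]),(4978,[2,15,5,7,15]),(4217,[])],[7,0,4,13]),
  (1,[2,8,5,3],[(9446,[]),(4217,[])],[5,8,6,10,6]),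
  (7,[4,11,15,5,3,1],[(5014,[2,9,13,3]),(1308,[]),(1316,[]),(2490,[0,6,0,14,6]),(2272,[]),(7890,[0,7,8,5,10])],[0,3,13,7,0]),
  (1,[3,8,10,3],[(9454,[])],[6,10,3,9,0]),
  (7,[0,17,5,13,8,3,1],[(5014,[0,15,3,11,6]),(1316,[]),(1308,[]),(2578,[4,9,3,12]),(2273,[]),(2268,[]),(8178,[12,8,7,12,14]),(4216,[])],[0,9,5,11,12]),
  (1,[3,7,11,13],[(9462,[]),(4216,[])],[2,4,15,2,2]),
  (2,[5,7,4,10,12,3,1,3],[(8874,[3,5,2,8,10]),(4216,[]),(9378,[2,0,5,7,12]),(4217,[])],[2,0,10,15,5]),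
  (1,[3,7,4,10],[(9470,[]),(4217,[])],[13,4,13,11]),
  (2,[12,4,9,16,3,1,3],[(8874,[10,2,7,14]),(9182,[2,6,8,13,6])],[10,2,4,14]),
  (1,[3,10,2,13],[(9478,[]),(4217,[])],[11,6,13,14]),
  (2,[16,15,9,5,3,1,3],[(8874,[14,13,7,3]),(9366,[3,4,0,8]),(4217,[])],[0,11,6,5]),
  (1,[3,9,13,2,15],[(9486,[]),(4217,[])],[7,5,6,3,11]),
  (2,[7,14,5,6,3,1,3],[(8874,[5,12,3,4]),(9390,[4,14,7,15,4])],[3,6,11,14,4]),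
  (1,[3,5,2,7,16],[(9494,[]),(4217,[])],[5,9,15,10]),
  (3,[4,4,9,11,7,3,1,3],[(8874,[2,2,7,9,5]),(8814,[3,15,7,5,6]),(4217,[])],[14,12,11,15])]
theorem hD21 : allD2 lk B KW KW F A RL R0 D21 2268 = true := by decide +kernel
def D22 : List (ℕ × Word × List (ℕ × Word) × Word) := [(1,[3,5,2,15,8],[(9502,[])],[3,5,14,8,8]),
  (3,[0,10,4,16,7,3,1,3],[(8874,[0,8,2,14,5]),(8766,[2,14,13,13,5]),(161,[]),(137,[]),(132,[]),(132,[])],[0,9,3,9,9]),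
  (1,[3,7,17,3,14],[(9510,[])],[3,9,11]),
  (4,[4,7,16,4,14,3,1,3],[(8874,[2,5,14,2,12]),(8110,[0,12,12,4,2]),(2272,[]),(7458,[2,14,2,8,5])],[0,3,3,5,11]),
  (1,[2,4,14,2],[(9518,[])],[5,5,12,11,6]),
  (4,[9,6,14,13,3,1,3],[(8874,[7,4,12,11]),(4217,[]),(7670,[8,0,10,13]),(2272,[]),(8354,[13,6,6,5]),(4216,[])],[12,14,4,14]),
  (1,[3,5,8,1,2],[(9526,[]),(4216,[])],[0,14,14,4,6]),
  (4,[4,17,17,6,16,3,1,3],[(8874,[2,15,15,4,14]),(4216,[]),(5614,[3,6,5,9,10]),(1673,[]),(1668,[]),(5922,[0,13,15,7,10]),(4216,[])],[7,10,6,6]),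
  (4,[6,5,13,8,3,1,3],[(8874,[4,3,11,6]),(9370,[6,0,9,9]),(4216,[]),(9158,[0,8,12,11,14]),(4217,[])],[5,5,6,10,12]),
  (1,[3,4,15,2,5],[(9538,[]),(4217,[])],[10,7,2,11]),
  (5,[7,4,11,6,17,3,1,3],[(8874,[5,2,9,4,15]),(4216,[]),(6158,[5,11,5,9,6]),(1720,[]),(1668,[]),(5794,[9,11,7,14]),(4217,[])],[8,7,2,12,4]),
  (1,[3,6,13,10],[(9546,[]),(4216,[])],[0,2,0,4,6]),
  (5,[0,10,12,9,10,3,1,3],[(8874,[0,8,10,7,8]),(4216,[]),(6774,[2,11,5,11,6]),(2272,[]),(7074,[2,14,3,0,13])],[0,8,6,9,3]),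
  (1,[3,8,11,3,12],[(9554,[])],[0,8,2,11,7]),
  (5,[7,14,13,8,3,1,3],[(8874,[5,12,11,6]),(8254,[2,8,11,13,10]),(2273,[]),(2268,[]),(7194,[2,10,4,0,8]),(4216,[])],[3,4,0,15,7]),
  (1,[3,17,14],[(9562,[]),(4216,[])],[2,13,13,9,6]),
  (6,[4,7,0,17,3,1,3],[(8874,[2,5,0,15]),(4216,[]),(6926,[0,3,10,5,6]),(2273,[]),(8266,[12,10,14,7]),(4216,[])],[4,9,13,8]),
  (1,[3,5,6,2,5],[(9570,[])],[3,12,4,2,2]),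
  (6,[4,6,17,8,4,3,1,3],[(8874,[2,4,15,6,2]),(4216,[]),(6262,[5,7,2,9]),(1720,[]),(1673,[]),(5530,[3,3,4,4])],[5,12,12,0,5]),
  (1,[2,6,1,11],[(9578,[])],[15,4,4,4]),
  (6,[15,13,10,10,3,1,3],[(8874,[13,11,8,8]),(7838,[12,15,15,3]),(2268,[]),(8394,[5,3,13])],[2,11,13,4,9]),
  (1,[3,11,16,4],[(9586,[]),(4216,[])],[0,8,12,7]),
  (7,[7,17,5,6,3,1,3],[(8874,[5,15,3,4]),(8366,[15,9,15,8]),(2273,[]),(2268,[]),(6546,[0,5,5,14,11]),(4216,[])],[11,8,5,3,8]),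
  (7,[4,14,13,16,10,3,1,3],[(8874,[2,12,11,14,8]),(4246,[0,2,9,6,0]),(213,[]),(213,[]),(185,[]),(4298,[14,10,8,0])],[3,4,2]),
  (1,[3,1,7,2,12],[(9598,[]),(4217,[])],[0,10,3,4,11]),
  (7,[7,15,7,17,3,1,3],[(8874,[5,13,5,15]),(4216,[]),(7318,[0,15,0,3,8]),(2272,[]),(2268,[]),(7258,[6,0,3,8,3]),(4217,[])],[5,3,3,10,13]),
  (1,[2,6,1,3],[(9606,[]),(4217,[])],[0,7,2,12,14]),
  (2,[9,12,5,14,3,1,2],[(7326,[7,10,3,12]),(2272,[]),(7450,[0,3,6,0,9]),(4216,[])],[0,4,15,4,0]),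
  (1,[3,17,3,12],[(9614,[]),(4217,[])],[4,10,5,13]),
  (2,[17,17,14,3,1,2],[(7326,[15,15,12]),(8570,[3,0,9,6,2])],[0,11,4,14,5]),
  (1,[3,1,11,14,2],[(9622,[]),(4216,[])],[5,15,9,2]),
  (2,[5,10,13,6,3,1,2],[(7326,[3,8,11,4]),(7650,[0,14,6,13]),(4216,[])],[3,14,8,6,4]),
  (1,[3,7,13,3],[(9630,[])],[7,2,9,7]),
  (2,[5,14,16,9,7,3,1,2],[(7326,[3,12,14,7,5]),(2268,[]),(7242,[10,10,15,0]),(4217,[])],[12,4,12,9]),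
  (2,[6,15,11,9,3,1,2],[(7326,[4,13,9,7]),(2272,[]),(2268,[]),(8290,[2,14,13,0,11]),(4216,[])],[2,9,0,14,5]),
  (1,[3,7,15,13],[(9642,[])],[0,10,14,6,15]),
  (2,[5,9,5,9,11,3,1,2],[(7326,[3,7,3,7,9]),(2272,[]),(7354,[4,4,13]),(4216,[])],[2,4,9,10,9]),
  (1,[3,14,1,3],[(9650,[])],[0,2,4,11,6]),
  (2,[0,6,16,4,12,3,1,2],[(7326,[0,4,14,2,10]),(2273,[]),(2268,[]),(8474,[11,9,13,6]),(4216,[])],[6,4,12,7]),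
  (1,[3,1,9],[(9658,[])],[5,2,4,13]),
  (3,[13,17,5,9,3,1,2],[(7326,[11,15,3,7]),(2272,[]),(2268,[]),(6802,[5,2,13,14,11]),(4216,[])],[13,3,10,13]),
  (1,[3,5,14,3,11],[(9666,[]),(4217,[])],[6,11,13,14]),
  (4,[6,17,5,8,14,3,1,2],[(7326,[4,15,3,6,12]),(8114,[7,10,5,2]),(4217,[]),(9114,[9,14,3,5]),(4216,[])],[2,6,13,14,11]),
  (1,[2,1,9,3],[(9674,[])],[9,2,11,6]),
  (4,[0,15,10,6,13,3,1,2],[(7326,[0,13,8,4,11]),(2272,[]),(4006,[9,5,13,11,2]),(2272,[]),(2268,[]),(7706,[5,15,0,9]),(4216,[])],[14,4,8,5]),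
  (1,[2,13,3,10],[(9682,[]),(4217,[])],[2,7,15,15]),
  (4,[11,16,0,16,3,1,2],[(7326,[9,14,0,14]),(2273,[]),(2268,[]),(3434,[2,6,4,10]),(2268,[]),(6362,[3,0,5,7,13])],[2,2,5,6,2]),
  (4,[5,11,13,11,13,3,1,2],[(7326,[3,9,11,9,11]),(2272,[]),(2268,[]),(3922,[7,13,8,11]),(2272,[]),(2268,[]),(7026,[3,11,3,9,14]),(4216,[])],[0,11,7,9]),
  (1,[3,1,9,1],[(9694,[])],[10,14,11,4]),
  (4,[15,11,6,15,3,1,2],[(7326,[13,9,4,13]),(2998,[14,9,12,10]),(1720,[]),(1673,[]),(5562,[6,11,8,14])],[0,6,5,12]),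
  (4,[0,16,16,4,13,3,1,2],[(7326,[0,14,14,2,11]),(2268,[]),(3746,[3,10,14,5,7]),(2273,[]),(2268,[]),(6450,[3,15,11,4,9]),(4217,[])],[0,13,15,2,15]),
  (5,[0,11,14,10,6,3,1,2],[(7326,[0,9,12,8,4]),(2268,[]),(2966,[14,14,7,12]),(1668,[]),(1720,[]),(1668,[]),(6266,[5,2,11,15,7]),(4217,[])],[0,3,11,6,11]),
  (1,[2,9,10,3],[(9710,[]),(4216,[])],[2,12,14,8,12]),
  (5,[11,15,12,16,3,1,2],[(7326,[9,13,10,14]),(2273,[]),(2268,[]),(3642,[15,9,11,13]),(2268,[]),(6706,[0,4,11,11])],[0,5,9,2,9]),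
  (1,[3,11,2,6,5],[(9718,[]),(4217,[])],[11,4,11,7]),
  (5,[0,17,8,0,4,3,1,2],[(7326,[0,15,6,0,2]),(2268,[]),(6866,[6,0,11,5]),(4216,[]),(9490,[11,5,10,7])],[7,10,7,14]),
  (1,[3,6,10,2,8],[(9726,[]),(4217,[])],[0,8,6,14,11]),
  (5,[17,11,14,8,3,1,2],[(7326,[15,9,12,6]),(2272,[]),(2268,[]),(3270,[13,8,14,11]),(2273,[]),(7338,[0,11,9,6,14])],[3,8,4,4,7]),
  (5,[0,9,10,0,3,1,2],[(7326,[0,7,8,0]),(3022,[8,11,4,2]),(1668,[]),(1720,[]),(2174,[2,11,8,2,5]),(160,[]),(160,[]),(137,[])],[2,9,10,2,11]),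
  (1,[2,4,3,5],[(9738,[]),(4217,[])],[5,2,6,13,8]),
  (5,[9,16,15,4,14,3,1,2],[(7326,[7,14,13,2,12]),(2272,[]),(2766,[12,3,5,14]),(1720,[]),(1672,[]),(5538,[0,6,0,5,14]),(4216,[])],[8,13,15,11]),
  (5,[10,13,6,9,3,1,2],[(7326,[8,11,4,7]),(2273,[]),(2268,[]),(6458,[0,13,4,4,7]),(4217,[]),(9138,[2,5,9,7,15]),(4217,[])],[2,7,2,10,13]),
  (1,[3,5,3,16,4],[(9750,[])],[2,4,12,5,14]),
  (6,[7,11,13,8,4,3,1,2],[(7326,[5,9,11,6,2]),(2273,[]),(2268,[]),(2838,[0,15,4,3,13]),(1720,[]),(6090,[4,2,11,15]),(4217,[])],[13,15,5,7]),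
  (6,[5,17,7,12,8,3,1,2],[(7326,[3,15,5,10,6]),(2272,[]),(2838,[0,10,13,15,10]),(1720,[]),(1672,[]),(1668,[]),(6138,[4,6,14,13]),(4216,[])],[3,11,8,8,4]),
  (1,[3,13,8,2],[(9762,[]),(4216,[])],[0,5,2,8,2]),
  (6,[17,17,10,6,3,1,2],[(7326,[15,15,8,4]),(2273,[]),(2268,[]),(3482,[3,10,5,13,8]),(7810,[8,6,3,3]),(4216,[])],[5,13,9,10,12]),
  (6,[4,6,16,15,5,3,1,2],[(7326,[2,4,14,13,3]),(2272,[]),(3506,[4,9,15,5,0]),(2272,[]),(6930,[2,13,2,11,15]),(4217,[])],[3,10,15,5,6]),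
  (1,[2,4,8,15],[(9774,[])],[4,11,11]),
  (6,[0,11,7,9,0,3,1,2],[(7326,[0,9,5,7,0]),(2273,[]),(3994,[2,12,6,5,2]),(212,[]),(212,[]),(4458,[3,13,3,9,4]),(4216,[])],[14,0,15,11]),
  (1,[3,4,12,4,3],[(9782,[])],[3,5,9,15]),
  (6,[4,7,4,17,3,1,2],[(7326,[2,5,2,15]),(6890,[9,10,8,5]),(4216,[]),(9378,[10,2,6,15])],[0,15,4,8,14]),
  (1,[3,11,11,14],[(9790,[]),(4217,[])],[14,2,13,11]),
  (7,[0,7,9,5,0,3,1,2],[(7326,[0,5,7,3,0]),(3946,[9,9,11,13,4]),(2273,[]),(7010,[6,5,7,10,14]),(4216,[])],[0,9,11,15]),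
  (1,[3,15,8,3,13],[(9798,[])],[0,4,10,7,10]),
  (7,[6,14,12,7,3,1,2],[(7326,[4,12,10,5]),(2273,[]),(2268,[]),(2782,[0,3,3,14,5]),(1720,[]),(1672,[]),(5570,[3,8,4,14,7]),(4217,[])],[0,12,12,3,9]),
  (7,[0,10,8,15,4,3,1,2],[(7326,[0,8,6,13,2]),(6378,[8,2,14,12]),(4217,[]),(9254,[0,8,6,8,3]),(4216,[])],[0,12,12,6,0]),
  (7,[5,6,6,0,9,3,1,2],[(7326,[3,4,4,0,7]),(2272,[]),(2542,[3,4,8,13,14]),(1316,[]),(1288,[]),(4994,[14,10,8,2]),(4217,[])],[3,10,5,14,4]),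
  (1,[3,1,3,15,17],[(9814,[])],[2,4,6,15,9]),
  (7,[6,0,12,6,11,3,1,2],[(7326,[4,0,10,4,9]),(3510,[3,3,0,12,3]),(2272,[]),(2268,[]),(8618,[8,7,3,3])],[14,4,15,15]),
  (7,[0,5,16,5,17,3,1,2],[(7326,[0,3,14,3,15]),(2272,[]),(4010,[2,10,13,0,6]),(2273,[]),(2268,[]),(8514,[2,7,2,11,14]),(4217,[])],[3,5,6,6]),
  (1,[2,9,2,7],[(9826,[]),(4217,[])],[0,9,15,9,5]),
  (2,[7,15,15,15,2,1,2],[(8854,[5,13,13,13]),(4217,[]),(8890,[6,4,9,10]),(4216,[])],[3,3,12,5,14]),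
  (4,[6,8,4,0,13,2,1,2],[(8854,[4,6,2,0,11]),(4216,[]),(9694,[3,15,5,8,12]),(4217,[]),(9050,[0,9,7,12]),(4217,[])],[2,2,13,11,2]),
  (1,[3,1,13,16],[(9838,[])],[6,3,10,8,4]),
  (4,[10,16,10,9,2,1,2],[(8854,[8,14,8,7]),(4217,[]),(4814,[7,4,15,15]),(789,[]),(785,[]),(4778,[0,13,0,2,6])],[3,5,3,3]),
  (1,[3,6,10,2,17],[(9846,[])],[4,12,6]),
  (4,[5,17,9,15,5,2,1,2],[(8854,[3,15,7,13,3]),(4217,[]),(5198,[7,0,5,14,12]),(1308,[]),(1292,[]),(5218,[15,3,13])],[2,4,3,12,8]),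
  (1,[2,1,13],[(9854,[]),(4216,[])],[2,10,2,10,8]),
  (4,[5,11,8,5,17,2,1,2],[(8854,[3,9,6,3,15]),(4216,[]),(4894,[2,14,0,8,8]),(785,[]),(805,[]),(4794,[2,15,6,8,5]),(4217,[])],[4,0,11,6,0]),
  (5,[13,8,12,8,2,1,2],[(8854,[11,6,10,6]),(4217,[]),(4294,[2,0,10]),(189,[]),(184,[]),(4282,[0,3,0,14,12]),(4216,[])],[2,0,8,13,8]),
  (1,[3,1,5,8,2],[(9866,[]),(4216,[])],[10,14,3,12]),
  (5,[0,8,10,7,0,2,1,2],[(8854,[0,6,8,5,0]),(6030,[0,13,3,9,11]),(1720,[]),(5658,[5,0,10,3,14]),(4216,[])],[0,3,15,6,9]),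
  (5,[7,17,12,5,6,2,1,2],[(8854,[5,15,10,3,4]),(5238,[6,0,15,5,12]),(1316,[]),(1308,[]),(1284,[]),(5114,[0,15,4,11,9]),(4217,[])],[8,3]),
  (6,[0,15,15,11,7,2,1,2],[(8854,[0,13,13,9,5]),(7494,[4,7,4,6,11]),(2273,[]),(2268,[]),(8058,[6,0,11,7]),(4217,[])],[12,11,14,3]),
  (1,[2,5,3,6],[(9882,[]),(4216,[])],[11,3,12,4]),
  (6,[0,10,0,7,4,2,1,2],[(8854,[0,8,0,5,2]),(4217,[]),(6014,[3,5,7,13]),(1720,[]),(1673,[]),(2174,[2,0,11,2,14]),(160,[]),(136,[]),(136,[])],[5,5,5,7]),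
  (1,[3,1],[(9890,[]),(4217,[])],[5,7,11,8,3]),
  (6,[4,11,8,4,2,1,2],[(8854,[2,9,6,2]),(4542,[4,3,5,7]),(392,[]),(392,[]),(384,[]),(4546,[2,6,9,13])],[7,0,9,14,3]),
  (7,[5,10,14,4,2,1,2],[(8854,[3,8,12,2]),(4216,[]),(8574,[2,6,12,12,10]),(2273,[]),(7706,[4,3,5,9,7]),(4216,[])],[13,6,5,9]),
  (7,[0,9,13,8,15,2,1,2],[(8854,[0,7,11,6,13]),(4216,[]),(8054,[2,13,2,12]),(2273,[]),(2268,[]),(7826,[2,12,6,2,5]),(4216,[])],[6,14,14,2]),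
  (1,[3,8,4,10],[(9906,[]),(4216,[])],[0,11,5,9,6]),
  (7,[0,10,7,5,12,2,1,2],[(8854,[0,8,5,3,10]),(4217,[]),(9534,[8,4,0,2]),(4216,[]),(8850,[2,12,3,14])],[0,3,8,14,0]),
  (7,[5,8,15,4,2,1,2],[(8854,[3,6,13,2]),(5430,[2,4,13,4,14]),(1672,[]),(1672,[]),(1668,[]),(5858,[0,3,14,9,0]),(4216,[])],[5,13,7,12]),
  (1,[3,5,3,1,11],[(9918,[]),(4217,[])],[8,8,5,10]),
  (2,[0,9,14,12,12,3,1,3,1],[(9702,[0,7,12,10,10]),(4217,[]),(9126,[0,15,4,12])],[0,5,13,10,12]),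
  (2,[7,9,10,7,10,3,1,3,1],[(9702,[5,7,8,5,8]),(8770,[7,13,9,7]),(4217,[])],[2,14,8]),
  (2,[12,11,14,0,3,1,3,1],[(9702,[10,9,12,0]),(4217,[]),(9682,[5,10,3]),(4216,[])],[0,2,9,9,11])]
theorem hD22 : allD2 lk B KW KW F A RL R0 D22 2376 = true := by decide +kernel
def D23 : List (ℕ × Word × List (ℕ × Word) × Word) := [(1,[2,17,4],[(9934,[])],[0,4,8,3,4]),
  (3,[16,16,7,11,3,1,3,1],[(9702,[14,14,5,9]),(9546,[6,11,9,9]),(4216,[])],[0,4,11,6,9]),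
  (1,[3,1,2,1],[(9942,[]),(4217,[])],[6,13,3,8,5]),
  (4,[9,5,10,0,9,3,1,3,1],[(9702,[7,3,8,0,7]),(8502,[13,9,10,12]),(2272,[]),(2268,[]),(6362,[3,4,13,6,10])],[0,7,2,8]),
  (4,[0,17,8,14,3,1,3,1],[(9702,[0,15,6,12]),(4216,[]),(8754,[2,2,4,6,6]),(9434,[7,5,14,11]),(4217,[])],[8,15,9,11,7]),
  (1,[3,5,9,2,13],[(9954,[]),(4217,[])],[0,5,2,2,5]),
  (4,[0,14,7,15,9,3,1,3,1],[(9702,[0,12,5,13,7]),(4217,[]),(4342,[0,4,14,4,9]),(213,[]),(213,[]),(184,[]),(4338,[14,6,6,15]),(4216,[])],[6,14,14,8]),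
  (1,[3,15,2,14],[(9962,[]),(4216,[])],[2,0,11,12,6]),
  (5,[5,16,10,3,1,3,1],[(9702,[3,14,8]),(4217,[]),(6134,[5,9,11,7]),(1720,[]),(1672,[]),(5434,[4,13,13,0]),(4217,[])],[2,12,10,15,2]),
  (1,[3,6,12,2,7],[(9970,[]),(4217,[])],[4,10,15,15,13]),
  (5,[4,7,12,12,5,3,1,3,1],[(9702,[2,5,10,10,3]),(4217,[]),(8870,[2,2,13,14]),(4216,[]),(9334,[11,13,3,11])],[10,2,8,12]),
  (1,[3,14,3,7],[(9978,[])],[3,4,7,9,3]),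
  (5,[0,12,15,5,8,3,1,3,1],[(9702,[0,10,13,3,6]),(4217,[]),(8866,[6,12,4,12]),(4217,[]),(9870,[12,9,11,7]),(4217,[])],[3,6,10,7]),
  (1,[3,17,10,9],[(9986,[])],[6,5,0,10,14]),
  (6,[0,10,0,4,14,3,1,3,1],[(9702,[0,8,0,2,12]),(6614,[0,4,7,12,10]),(2272,[]),(6474,[0,12,10,15,12]),(4217,[])],[0,5,14,0,2]),
  (1,[2,12,16,3],[(9994,[]),(4216,[])],[5,2,14,12]),
  (6,[13,9,3,1,3,1],[(9702,[11,7]),(6758,[15,4,12,11]),(7978,[10,3,7,10])],[0,6,6,3,11]),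
  (1,[3,16,2],[(10002,[]),(4216,[])],[0,13,6,6,2]),
  (6,[6,15,8,8,3,1,3,1],[(9702,[4,13,6,6]),(4216,[]),(8838,[0,3,11,5,6]),(4216,[]),(9314,[0,7,15,11,2]),(4216,[])],[6,0,8,10,13]),
  (1,[2,11,15,2],[(10010,[]),(4216,[])],[2,12,10,5]),
  (7,[5,5,13,13,3,1,3,1],[(9702,[3,3,11,11]),(4216,[]),(6630,[2,0,2,11,8]),(2272,[]),(8042,[0,13,5,11,9])],[7,11,15,8]),
  (1,[3,17,3,15],[(10018,[])],[0,6,10,9,15]),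
  (7,[0,11,7,15,13,3,1,3,1],[(9702,[0,9,5,13,11]),(4302,[3,10,14,9]),(184,[]),(213,[]),(4274,[3,4,4,8,10]),(4216,[])],[2,0,7,15,13]),
  (7,[4,8,5,10,17,3,1,3,1],[(9702,[2,6,3,8,15]),(4216,[]),(5686,[2,5,8,14,4]),(1673,[]),(1668,[]),(5634,[4,12,3,3,12])],[2,14,6,12,9]),
  (1,[3,8,7,2,1],[(10030,[]),(4216,[])],[3,3,12,8]),
  (7,[14,4,7,12,7,3,1,3,1],[(9702,[12,2,5,10,5]),(5790,[4,0,2,2,4]),(1668,[]),(1720,[]),(1668,[]),(6026,[7,14,12,12,15])],[0,9,5,13,10]),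
  (1,[2,1,4,3,5],[(10038,[]),(4217,[])],[2,0,9,12,9]),
  (7,[6,9,15,16,9,3,1,3,1],[(9702,[4,7,13,14,7]),(4216,[]),(5286,[0,12,10,13]),(1316,[]),(1292,[]),(1284,[]),(5274,[3,5,15,11,2]),(4217,[])],[13,11,13]),
  (2,[5,12,17,8,3,1,2,1],[(9942,[3,10,15,6]),(9434,[4,2,9,11,8])],[3,5,11]),
  (2,[13,4,0,10,3,1,2,1],[(9942,[11,2,0,8]),(4217,[]),(9682,[2,2,2,4,9]),(4216,[])],[7,11,8,5,10]),
  (2,[6,6,17,7,16,3,1,2,1],[(9942,[4,4,15,5,14]),(4217,[]),(8782,[4,7,8,4]),(4216,[])],[0,5,8,3,7]),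
  (3,[12,12,5,15,3,1,2,1],[(9942,[10,10,3,13]),(10042,[4,4,6,9])],[10,15,11,2]),
  (1,[3,1,10,2,9],[(10062,[]),(4217,[])],[13,13,10,13]),
  (3,[4,8,16,7,5,3,1,2,1],[(9942,[2,6,14,5,3]),(4217,[]),(8698,[2,0,14,11,14])],[11,4,2,14]),
  (3,[4,11,11,4,4,3,1,2,1],[(9942,[2,9,9,2,2]),(9478,[3,10,7]),(4216,[])],[2,5,10,8,4]),
  (4,[5,11,12,9,3,1,2,1],[(9942,[3,9,10,7]),(5190,[3,15,5,8]),(1308,[]),(1284,[]),(5082,[15,13,11,4])],[4,4,14]),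
  (4,[10,6,0,4,3,1,2,1],[(9942,[8,4,0,2]),(4217,[]),(5982,[5,7,5,11]),(1673,[]),(1668,[]),(6218,[0,9,5,9,10]),(4216,[])],[2,7,0,11]),
  (1,[3,1,14,17],[(10082,[]),(4217,[])],[0,4,10,9,13]),
  (4,[0,13,14,16,9,3,1,2,1],[(9942,[0,11,12,14,7]),(4216,[]),(6526,[4,7,11,4,13]),(2272,[]),(8546,[2,2,15,6,9]),(4217,[])],[4,2,9,0]),
  (1,[2,8],[(10090,[]),(4216,[])],[12,0,7,0]),
  (4,[8,0,12,6,3,1,2,1],[(9942,[6,0,10,4]),(4216,[]),(9166,[0,10,9,6,2]),(4217,[]),(8862,[3,15,5,8,13])],[3,0,5,7]),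
  (4,[13,14,6,17,3,1,2,1],[(9942,[11,12,4,15]),(5350,[15,9,15,7]),(1316,[]),(1292,[]),(1288,[]),(4970,[3,6,2,14])],[0,12,5,2,7]),
  (1,[3,5,13,9,2],[(10102,[]),(4216,[])],[9,12,10,3]),
  (5,[4,9,0,12,3,1,2,1],[(9942,[2,7,0,10]),(4216,[]),(5070,[0,7,13,3]),(1308,[]),(1284,[]),(5114,[0,2,5,10]),(4216,[])],[4,7,2,15,12]),
  (1,[3,15,7,2,9],[(10110,[]),(4217,[])],[2,4,4,4,10]),
  (5,[5,10,14,12,8,3,1,2,1],[(9942,[3,8,12,10,6]),(6014,[0,3,14,3,5]),(1673,[]),(5658,[10,13,3,3]),(4216,[])],[0,10,14,5]),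
  (1,[3,5,2,4,12],[(10118,[]),(4216,[])],[0,5,13,7,11]),
  (5,[4,13,10,10,12,3,1,2,1],[(9942,[2,11,8,8,10]),(4216,[]),(5598,[4,4,7,15,15]),(1668,[]),(1720,[]),(1668,[]),(6226,[0,7,11,11,7]),(4216,[])],[4,4,9,6,14]),
  (5,[4,8,0,17,3,1,2,1],[(9942,[2,6,0,15]),(9258,[2,4,6,8]),(4216,[]),(9430,[10,13,2,9]),(4217,[])],[0,8,3,4,9]),
  (1,[3,4,3,14,3],[(10130,[]),(4216,[])],[0,7,9,11,6]),
  (5,[0,5,15,9,16,3,1,2,1],[(9942,[0,3,13,7,14]),(4217,[]),(6654,[0,4,14,10,2]),(2273,[]),(7786,[0,3,7,5,5]),(4216,[])],[5,11,2,14,8]),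
  (1,[3,7,11,2,1],[(10138,[])],[0,5,0,9,5]),
  (6,[8,15,9,7,3,1,2,1],[(9942,[6,13,7,5]),(9094,[8,4,0,11,12]),(4217,[]),(9126,[3,11,4,11,12])],[4,11,15,11,8]),
  (1,[3,6,2,7],[(10146,[]),(4216,[])],[14,11,12,6]),
  (6,[0,16,7,17,7,3,1,2,1],[(9942,[0,14,5,15,5]),(4217,[]),(9130,[0,5,12,12,10]),(4216,[]),(9426,[12,15,12]),(4217,[])],[2,9,6,12,12]),
  (1,[3,1,3,6,9],[(10154,[]),(4217,[])],[0,8,3,0,12]),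
  (6,[4,10,7,8,10,3,1,2,1],[(9942,[2,8,5,6,8]),(4216,[]),(10026,[0,5,10,9,11]),(4216,[]),(8710,[2,9,2,6,2]),(4217,[])],[3,6,8,4,3]),
  (6,[14,6,8,6,3,1,2,1],[(9942,[12,4,6,4]),(9146,[3,9,14,9,0]),(4216,[]),(10058,[0,4,12,5,6]),(4217,[])],[2,8,7,4,10]),
  (6,[0,14,6,14,11,3,1,2,1],[(9942,[0,12,4,12,9]),(4216,[]),(8922,[2,2,2,12,14]),(8850,[4,7,3]),(4216,[])],[13,6,6,14]),
  (1,[3,5,2,10,8],[(10170,[])],[5,13,8,14]),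
  (6,[4,0,5,17,10,3,1,2,1],[(9942,[2,0,3,15,8]),(9894,[2,2,14,3,8]),(161,[]),(137,[]),(9510,[2,9,9,14]),(4216,[])],[2,12,14,4,2]),
  (1,[3,7,17,3],[(10178,[]),(4217,[])],[7,8,6,10]),
  (2,[5,17,6,8,3,10,2,13],[(9478,[3,15,4,6]),(4216,[]),(9934,[14,9,6,15])],[8,5,7,4]),
  (2,[4,12,10,0,15,3,10,2,13],[(9478,[2,10,8,0,13]),(9094,[4,0,5,12,9])],[13,4,14,14]),
  (1,[3,5,12,16,2],[(10190,[])],[4,3,14,12]),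
  (2,[16,11,17,9,3,10,2,13],[(9478,[14,9,15,7]),(4216,[]),(8702,[12,15,8,14]),(4216,[])],[3,10,6,14]),
  (3,[4,17,5,6,17,3,10,2,13],[(9478,[2,15,3,4,15]),(4217,[]),(9686,[0,6,8,0,13]),(4216,[])],[3,12,5,8]),
  (3,[4,4,13,14,4,3,10,2,13],[(9478,[2,2,11,12,2]),(4216,[]),(9862,[2,2,14,5,12]),(4216,[])],[9,14,14,5]),
  (1,[3,10,3,1],[(10206,[]),(4216,[])],[7,3,3,9]),
  (3,[0,11,11,14,3,10,2,13],[(9478,[0,9,9,12]),(4217,[]),(9490,[0,8,7,0,14]),(4216,[])],[3,12,4,4]),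
  (1,[2,12,3],[(10214,[])],[5,5,12,14]),
  (5,[5,11,6,5,16,3,10,2,13],[(9478,[3,9,4,3,14]),(4216,[]),(7230,[0,7,8,8,2]),(2268,[]),(7890,[4,14,14,13]),(4217,[])],[5,10,12,0]),
  (5,[4,15,5,11,11,3,10,2,13],[(9478,[2,13,3,9,9]),(4217,[]),(6158,[3,14,12,9,7]),(1668,[]),(1720,[]),(5770,[6,5,5,7])],[13,5,15,11]),
  (1,[3,1,3,7,5],[(10226,[]),(4216,[])],[2,11,4,12,10]),
  (5,[4,16,14,11,16,3,10,2,13],[(9478,[2,14,12,9,14]),(4217,[]),(6542,[2,8,2,7,14]),(2272,[]),(2268,[]),(8522,[10,10,15,4]),(4216,[])],[0,3,5,8,8]),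
  (1,[2,15,8,2],[(10234,[]),(4216,[])],[0,13,15,15,12]),
  (5,[0,16,6,11,0,3,10,2,13],[(9478,[0,14,4,9,0]),(4217,[]),(4750,[11,14,10,9]),(733,[]),(728,[]),(732,[]),(728,[]),(728,[]),(4762,[7,3,12,9]),(4216,[])],[6,4,10,13,9]),
  (1,[2,16,6,2],[(10242,[])],[15,13,9]),
  (5,[10,6,11,5,3,10,2,13],[(9478,[8,4,9,3]),(4216,[]),(4742,[4,3,11,8]),(732,[]),(729,[]),(732,[]),(728,[]),(732,[]),(4714,[2,14,6,4,14]),(4216,[])],[2,6,13,13,11]),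
  (6,[15,7,8,11,3,10,2,13],[(9478,[13,5,6,9]),(4216,[]),(9066,[15,7,2,8]),(9830,[0,2,2,2,8])],[0,9,10,7]),
  (1,[3,8,17],[(10254,[])],[15,13,10]),
  (6,[6,8,10,0,6,3,10,2,13],[(9478,[4,6,8,0,4]),(5878,[2,4,15,4,4]),(1668,[]),(1720,[]),(1668,[]),(5506,[0,12,5,0,5]),(4216,[])],[2,2,0,10,4]),
  (6,[0,13,16,14,6,3,10,2,13],[(9478,[0,11,14,12,4]),(4217,[]),(8166,[2,7,0,7,3]),(6866,[2,9,13,13,11]),(4216,[])],[3,5,2,13,13]),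
  (1,[3,15,3,1],[(10266,[]),(4216,[])],[2,13,6,12,11]),
  (6,[13,11,8,13,3,10,2,13],[(9478,[11,9,6,11]),(4216,[]),(8978,[4,14,3,14,7]),(4216,[]),(9430,[4,8,12,2,15]),(4217,[])],[2,2,6,2,10]),
  (6,[4,7,17,11,12,3,10,2,13],[(9478,[2,5,15,9,10]),(6342,[6,3,9,0]),(2268,[]),(8194,[4,12,3,3,5]),(4217,[])],[13,4,14,8,10]),
  (1,[3,13,11,11],[(10278,[]),(4216,[])],[4,14,0,4]),
  (6,[5,0,10,14,16,3,10,2,13],[(9478,[3,0,8,12,14]),(4216,[]),(8038,[0,13,6,5,6]),(2272,[]),(7154,[0,14,4,15,15]),(4217,[])],[4,9,13,2]),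
  (1,[3,5,15,2,13],[(10286,[]),(4217,[])],[8,14,3,9]),
  (7,[8,14,11,9,3,10,2,13],[(9478,[6,12,9,7]),(4217,[]),(8702,[9,14,0,11]),(8946,[0,10,5,15,10]),(4217,[])],[7,12,3,9]),
  (1,[3,4,2,1,14],[(10294,[]),(4216,[])],[0,10,6,13,2]),
  (2,[9,0,6,3,1,3,1,3],[(7622,[7,0,4]),(2273,[]),(2268,[]),(6698,[6,2,13,7,2])],[10,5,11]),
  (1,[3,6,2,16,1],[(10302,[]),(4217,[])],[0,2,15,10,9]),
  (2,[7,13,4,15,3,1,3,1,3],[(7622,[5,11,2,13]),(7258,[11,14,4,7])],[2,12,7,11,7]),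
  (2,[9,15,16,7,3,1,3,1,3],[(7622,[7,13,14,5]),(2273,[]),(2268,[]),(8274,[2,4,14,13,2]),(4216,[])],[14,6,14,9]),
  (1,[3,4,14,3,9],[(10314,[]),(4216,[])],[0,2,15,12,6]),
  (2,[4,13,16,3,1,3,1,3],[(7622,[2,11,14]),(7626,[3,3,9,9,11]),(4217,[])],[2,13,4,2,13]),
  (3,[0,7,16,8,13,3,1,3,1,3],[(7622,[0,5,14,6,11]),(2272,[]),(8114,[0,15,4,8,11]),(4217,[])],[13,15,15]),
  (1,[3,9,3,1],[(10326,[])],[0,13,8,11,2]),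
  (3,[6,9,17,14,3,1,3,1,3],[(7622,[4,7,15,12]),(2268,[]),(7258,[13,0,11,6]),(4217,[])],[2,13,14,6,10]),
  (3,[6,14,14,10,3,1,3,1,3],[(7622,[4,12,12,8]),(2272,[]),(6402,[3,11,12,6,8])],[5,3,9,10,4]),
  (1,[3,1,7,3],[(10338,[]),(4216,[])],[11,6,3,7]),
  (4,[0,10,12,17,3,1,3,1,3],[(7622,[0,8,10,15]),(2272,[]),(6810,[9,9,13,5]),(4216,[]),(9938,[11,14,5,10])],[5,15,2,4]),
  (4,[11,7,10,5,3,1,3,1,3],[(7622,[9,5,8,3]),(2273,[]),(2268,[]),(8530,[0,10,13,11,7]),(4216,[]),(9666,[4,4,2,4]),(4217,[])],[2,6,13,9,7]),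
  (1,[2,15,8],[(10350,[])],[3,3,7,11,6]),
  (4,[5,10,7,10,6,3,1,3,1,3],[(7622,[3,8,5,8,4]),(2272,[]),(2486,[13,6,8,11]),(1316,[]),(1309,[]),(5386,[7,11,9,10]),(4217,[])],[7,4,7,2]),
  (4,[0,17,4,6,4,3,1,3,1,3],[(7622,[0,15,2,4,2]),(2273,[]),(2268,[]),(8010,[0,6,15,3,6]),(4216,[]),(9194,[0,14,14,9,2]),(4217,[])],[2,4,4,8,3]),
  (1,[3,6,6,13],[(10362,[]),(4216,[])],[9,11,7,9])]
theorem hD23 : allD2 lk B KW KW F A RL R0 D23 2484 = true := by decide +kernel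
end
end CA.J4M
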