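import Cfsg.Agent.Lib.Spor.J4M

/-! Derivations of the double coset table of `J₄`. -/

set_option autoImplicit false
set_option maxRecDepth 100000
set_option linter.all false
namespace CA.J4M
open CA.CNet CA.CWord CA.CLevel CA.CSimple CA.CPoint CA.CLow CA.CTodd CA.TCos
noncomputable section

def D24 : List (ℕ × Word × List (ℕ × Word) × Word) := [(4,[4,17,0,7,12,3,1,3,1,3],[(7622,[2,15,0,5,10]),(2268,[]),(4002,[2,0,7,5,7]),(212,[]),(185,[]),(4314,[7,5,15,8]),(4216,[])],[9,5,3,6]),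
  (1,[3,4,9,12,2],[(10370,[]),(4217,[])],[2,8,11,15]),
  (5,[6,13,15,12,11,3,1,3,1,3],[(7622,[4,11,13,10,9]),(2273,[]),(8194,[7,15,9,13]),(4217,[]),(4398,[2,9,11,8,2]),(188,[]),(212,[]),(184,[])],[7,2,4,13,4]),
  (1,[3,14,2],[(10378,[]),(4216,[])],[0,9,5,7,14]),
  (5,[7,5,5,16,3,1,3,1,3],[(7622,[5,3,3,14]),(7634,[14,6,4,11]),(9286,[2,15,9,10,5])],[2,10,15,10,6]),
  (5,[6,12,10,5,3,1,3,1,3],[(7622,[4,10,8,3]),(3666,[2,12,8,6,9]),(2273,[]),(2268,[]),(6634,[2,5,9,2,8])],[2,15,15,6]),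
  (1,[3,1,10,2],[(10390,[]),(4216,[])],[0,9,5,6,9]),
  (5,[4,16,14,11,9,3,1,3,1,3],[(7622,[2,14,12,9,7]),(2268,[]),(7970,[5,13,7,0]),(4217,[]),(10310,[6,2,6,0])],[6,3,8]),
  (6,[0,7,14,14,11,3,1,3,1,3],[(7622,[0,5,12,12,9]),(2268,[]),(6666,[3,13,5,12,15]),(10286,[4,6,10,2,7]),(4217,[])],[0,2,4,9,15]),
  (6,[5,14,12,7,17,3,1,3,1,3],[(7622,[3,12,10,5,15]),(2272,[]),(2268,[]),(7570,[2,2,4,8,3]),(4216,[]),(9782,[3,4,7,8])],[10,10,10,5]),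
  (1,[2,4,3,1],[(10406,[])],[5,0,15,15,3]),
  (6,[7,17,5,14,3,1,3,1,3],[(7622,[5,15,3,12]),(2272,[]),(2268,[]),(2878,[2,13,2,12,9]),(1672,[]),(1668,[]),(6042,[0,2,13,6,12]),(4216,[])],[0,4,6,13,14]),
  (7,[0,14,12,5,10,3,1,3,1,3],[(7622,[0,12,10,3,8]),(3314,[2,5,15,3,7]),(2272,[]),(2268,[]),(8114,[3,5,14,4])],[3,3,13,2,7]),
  (1,[3,7,1,14],[(10418,[])],[10,9,2,8]),
  (2,[4,4,10,10,3,1,2,1,3],[(10086,[2,2,8,8]),(4216,[]),(8778,[3,11,4,8,10]),(4217,[])],[0,10,7,14,13]),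
  (2,[8,13,15,16,11,3,1,2,1,3],[(10086,[6,11,13,14,9]),(4217,[]),(8790,[0,9,12,4,2]),(4216,[])],[0,2,14,9,0]),
  (2,[5,9,7,16,3,1,2,1,3],[(10086,[3,7,5,14]),(4217,[]),(10386,[13,9,0,6])],[3,8,0]),
  (3,[8,6,9,3,1,2,1,3],[(10086,[6,4,7]),(4217,[]),(8886,[8,4,6,2]),(4217,[])],[4,3,13,11,9]),
  (3,[8,13,5,9,3,1,2,1,3],[(10086,[6,11,3,7]),(4217,[]),(10086,[0,10,3,11,12]),(4216,[])],[7,13,14,5]),
  (3,[15,12,9,16,3,1,2,1,3],[(10086,[13,10,7,14]),(4216,[]),(10434,[0,13,7,2,14])],[13,13,10,9]),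
  (4,[6,9,4,17,13,3,1,2,1,3],[(10086,[4,7,2,15,11]),(4216,[]),(7454,[7,4,11,2]),(2273,[]),(2268,[]),(6978,[3,8,11,6,2]),(4217,[])],[0,10,7,11,7]),
  (1,[2,1,9,2,17],[(10450,[]),(4217,[])],[4,0,15,0,11]),
  (4,[0,4,13,7,3,1,2,1,3],[(10086,[0,2,11,5]),(4216,[]),(7758,[7,11,3,15]),(2273,[]),(6970,[2,10,14,3,9])],[0,6,9,5]),
  (4,[8,6,0,8,3,1,2,1,3],[(10086,[6,4,0,6]),(4216,[]),(6726,[9,2,14]),(2273,[]),(2268,[]),(8690,[0,12,11,13]),(4216,[])],[0,9,13]),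
  (4,[4,13,6,14,8,3,1,2,1,3],[(10086,[2,11,4,12,6]),(4216,[]),(6902,[3,13,7,13,15]),(2268,[]),(8394,[4,14,12,14]),(4216,[])],[8,3,13,0]),
  (5,[5,5,12,9,4,3,1,2,1,3],[(10086,[3,3,10,7,2]),(8102,[4,13,9,7]),(2272,[]),(2268,[]),(8434,[2,15,8,11,11]),(4217,[])],[4,14,9,14]),
  (1,[3,5,3,16,12],[(10470,[]),(4216,[])],[2,0,11,2,6]),
  (5,[6,16,16,7,11,3,1,2,1,3],[(10086,[4,14,14,5,9]),(8214,[9,14,8,5]),(2273,[]),(7626,[4,3,9,5,13]),(4217,[])],[0,6,4,4,4]),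
  (1,[3,1,11,2,16],[(10478,[]),(4216,[])],[13,10]),
  (5,[6,4,6,13,17,3,1,2,1,3],[(10086,[4,2,4,11,15]),(4217,[]),(7278,[0,6,5,8]),(2272,[]),(2268,[]),(7618,[0,14,11,8,0])],[2,2,14,12,9]),
  (1,[3,7,17,3,9],[(10486,[]),(4217,[])],[0,13,8,4,14]),
  (5,[8,16,10,15,3,1,2,1,3],[(10086,[6,14,8,13]),(10302,[2,15,0,3]),(4216,[]),(9606,[0,7,3,6,13]),(4216,[])],[2,9,12,5,7]),
  (6,[4,10,12,9,3,1,2,1,3],[(10086,[2,8,10,7]),(4216,[]),(8906,[4,13,7,15,6]),(4217,[]),(9482,[14,7,8,14])],[15,0,8,0]),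
  (1,[3,4,3,8,10],[(10498,[]),(4217,[])],[3,5,5,11,14]),
  (6,[6,12,16,12,3,1,2,1,3],[(10086,[4,10,14,10]),(4217,[]),(8558,[0,3,0,2,0]),(2272,[]),(6498,[4,12,15,5]),(4217,[])],[0,5,9,12,7]),
  (1,[3,1,7,2,11],[(10506,[]),(4216,[])],[7,12,10,14,7]),
  (6,[7,12,8,14,3,1,2,1,3],[(10086,[5,10,6,12]),(6462,[3,10,14,3]),(2272,[]),(3490,[4,7,12]),(101,[]),(85,[]),(92,[]),(101,[]),(72,[])],[7,5,9,0]),
  (1,[3,1],[(10514,[])],[3,15,2]),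
  (7,[0,9,0,16,4,3,1,2,1,3],[(10086,[0,7,0,14,2]),(4216,[]),(8906,[2,11,8,7,11]),(4217,[]),(9550,[0,9,15,9,5]),(4217,[])],[0,7,15,7,13]),
  (1,[3,4,15,2,17],[(10522,[]),(4217,[])],[0,13,4,15,10]),
  (7,[5,16,4,9,6,3,1,2,1,3],[(10086,[3,14,2,7,4]),(8318,[0,8,8,3,0]),(2272,[]),(2268,[]),(8034,[0,4,9,9]),(4217,[])],[0,15,12,4]),
  (1,[3,12,3,15],[(10530,[]),(4216,[])],[8,2,10,9]),
  (7,[4,4,17,4,11,3,1,2,1,3],[(10086,[2,2,15,2,9]),(4217,[]),(5478,[2,0,13,15,4]),(1720,[]),(6154,[3,9,3,14,11]),(4217,[])],[0,15,5,10,14]),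
  (1,[3,1,3,1,2],[(10538,[]),(4217,[])],[5,12,10,13]),
  (4,[4,14,12,3,15,11],[(10074,[2,12,10]),(6790,[3,12,9]),(2273,[]),(6354,[0,9,10,12,3]),(4217,[])],[15,13,8]),
  (1,[3,1,7,2,6],[(10546,[]),(4217,[])],[5,7,15,7,9]),
  (4,[6,10,7,9,6,3,15,11],[(10074,[4,8,5,7,4]),(4216,[]),(8046,[2,14,9,15,6]),(2273,[]),(8338,[4,12,2,4,13]),(4217,[])],[4,9,6,12]),
  (4,[0,11,13,17,9,3,15,11],[(10074,[0,9,11,15,7]),(4217,[]),(4870,[13,6,5]),(785,[]),(780,[]),(4778,[9,3,10,14]),(4216,[])],[5,0,15,4,0]),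
  (1,[3,9,11,3,10],[(10558,[]),(4217,[])],[0,6,14,5,8]),
  (5,[17,13,10,12,3,15,11],[(10074,[15,11,8,10]),(4217,[]),(5038,[13,13,0,6]),(1288,[]),(5242,[3,10,6,6]),(4216,[])],[0,6,13,6]),
  (1,[3,1,3,6,8],[(10566,[]),(4216,[])],[2,7,5,12,3]),
  (6,[4,8,11,5,6,3,15,11],[(10074,[2,6,9,3,4]),(4216,[]),(4382,[0,4,7,4,8]),(212,[]),(212,[]),(188,[]),(184,[]),(4330,[12,5,9,10]),(4217,[])],[0,15,5,15,6]),
  (6,[9,14,17,8,3,15,11],[(10074,[7,12,15,6]),(4217,[]),(10290,[10,4,13,4]),(10358,[4,9,7,8]),(4217,[])],[9,2,15,12]),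
  (6,[7,17,10,9,6,3,15,11],[(10074,[5,15,8,7,4]),(4217,[]),(7662,[0,13,13,2,12]),(6546,[0,14,14,12,15]),(4216,[])],[0,10,9,3,12]),
  (1,[3,6,1,2,6],[(10582,[])],[0,9,5,7]),
  (6,[5,8,8,16,6,3,15,11],[(10074,[3,6,6,14,4]),(4217,[]),(9746,[15,4,6,5]),(10074,[6,8,12,15])],[7,8,0,4]),
  (7,[0,8,6,14,12,3,15,11],[(10074,[0,6,4,12,10]),(10302,[13,14,9,14]),(4216,[]),(9954,[5,13,0,8,6])],[11,9,9,2]),
  (1,[3,1,10,2,15],[(10594,[]),(4217,[])],[6,14,7,11,12]),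
  (4,[15,9,7,3,15,11,3],[(8694,[13,7,5]),(9790,[11,7,11,5]),(9774,[3,0,4,6,10])],[0,15,4,3,6]),
  (1,[2,9,2,15],[(10602,[])],[6,14,3,6]),
  (4,[6,6,17,0,3,15,11,3],[(8694,[4,4,15,0]),(10358,[0,10,3,4,11]),(4216,[]),(10322,[4,4,15]),(4216,[])],[2,15,4,12,8]),
  (1,[3,11,1,2,12],[(10610,[])],[3,14,3,14,6]),
  (5,[4,11,15,10,12,3,15,11,3],[(8694,[2,9,13,8,10]),(4216,[]),(8246,[12,3,3,6]),(2272,[]),(6762,[0,11,4,14,10])],[8,12,11,6]),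
  (5,[4,9,5,13,9,3,15,11,3],[(8694,[2,7,3,11,7]),(4217,[]),(8270,[3,8,8,2,10]),(2272,[]),(7050,[0,13,11,7,5]),(4217,[])],[3,9,9,0,7]),
  (1,[3,5,3,4,3],[(10622,[]),(4216,[])],[0,2,13,15,12]),
  (5,[0,14,6,0,9,3,15,11,3],[(8694,[0,12,4,0,7]),(4216,[]),(9002,[0,2,4,12,2]),(4217,[]),(9306,[15,12,3,14]),(4217,[])],[2,14,0,12,4]),
  (1,[3,9,13,4,3],[(10630,[])],[0,2,6,8,7]),
  (6,[13,16,15,12,3,15,11,3],[(8694,[11,14,13,10]),(4216,[]),(8350,[3,12,2,4,15]),(2273,[]),(2268,[]),(7074,[5,9,9,14,6]),(4217,[])],[6,3,15,7,15]),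
  (7,[4,11,7,16,5,3,15,11,3],[(8694,[2,9,5,14,3]),(4217,[]),(6598,[0,5,3,12,5]),(2268,[]),(7226,[7,11,6,11]),(4216,[])],[11,3,12,15]),
  (7,[6,6,11,12,15,3,15,11,3],[(8694,[4,4,9,10,13]),(7686,[10,5,7,10]),(7298,[13,13,3,15]),(4216,[])],[0,4,3,0,6]),
  (1,[3,6,12,3,10],[(10646,[]),(4216,[])],[2,13,14,9]),
  (7,[5,5,5,8,15,3,15,11,3],[(8694,[3,3,3,6,13]),(4216,[]),(8214,[5,8,8,3]),(2272,[]),(2268,[]),(7010,[5,15,7,14]),(4217,[])],[0,4,8,13,13]),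
  (2,[5,0,4,4,7,3,4,12,9],[(8774,[3,0,2,2,5]),(4216,[]),(10438,[3,12,7,8])],[9,13,7,2,10]),
  (2,[0,10,15,16,7,3,4,12,9],[(8774,[0,8,13,14,5]),(4217,[]),(10422,[5,15,10,6,4])],[2,9,4,11,9]),
  (1,[2,4,3,7,17],[(10662,[]),(4216,[])],[4,2,14,8,2]),
  (4,[0,6,11,15,12,3,4,12,9],[(8774,[0,4,9,13,10]),(4216,[]),(5774,[0,2,10,9,9]),(1672,[]),(1668,[]),(5602,[3,6,11,3,7]),(4217,[])],[0,11,13,5,0]),
  (1,[3,1,17,7],[(10670,[]),(4216,[])],[0,2,8,7,4]),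
  (4,[0,5,16,8,6,3,4,12,9],[(8774,[0,3,14,6,4]),(4216,[]),(8054,[4,15,5,13,9]),(2273,[]),(7706,[0,10,14,6,5])],[3,7,11,14,2]),
  (4,[8,13,11,16,10,3,4,12,9],[(8774,[6,11,9,14,8]),(4216,[]),(7862,[3,14,3,6,2]),(2273,[]),(2268,[]),(8530,[5,3,9,2]),(4216,[])],[2,2,2,12,0]),
  (1,[3,4,3,16,7],[(10682,[]),(4217,[])],[8,15,13,2]),
  (4,[7,17,15,16,3,4,12,9],[(8774,[5,15,13,14]),(4216,[]),(9878,[2,4,7,9,14]),(4217,[]),(8778,[0,6,13,13,8])],[11,7,13,3]),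
  (5,[11,16,12,17,3,4,12,9],[(8774,[9,14,10,15]),(4216,[]),(9402,[0,6,9,15,15]),(4217,[]),(8778,[0,14,6,0,7]),(4217,[])],[3,11,7,0,2]),
  (5,[0,7,9,14,9,3,4,12,9],[(8774,[0,5,7,12,7]),(4217,[]),(4510,[2,13,3,13,8]),(424,[]),(384,[]),(424,[]),(392,[]),(4546,[0,6,15,13,15])],[8,11,11,8]),
  (1,[3,4,14,3,12],[(10698,[]),(4216,[])],[5,8,11,13]),
  (7,[0,7,9,14,12,3,4,12,9],[(8774,[0,5,7,12,10]),(4216,[]),(6614,[0,14,14,10,10]),(2272,[]),(2268,[]),(6986,[3,6,3,13])],[0,8,11,7,15]),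
  (2,[0,4,17,15,15,3,4,2,1],[(8986,[0,2,15,13,13]),(4216,[]),(10570,[7,14,7,11,12])],[14,4,2,5]),
  (1,[3,4,3],[(10710,[])],[12,8,10,9]),
  (2,[17,12,15,9,3,4,2,1],[(8986,[15,10,13,7]),(4216,[]),(8826,[8,12,9,10]),(4217,[])],[3,5,8,3,8]),
  (1,[3,7,12,3],[(10718,[])],[8,11,6]),
  (2,[11,12,17,9,3,4,2,1],[(8986,[9,10,15,7]),(4217,[]),(9638,[0,9,4,11,11]),(4216,[])],[2,7,11,2,5]),
  (3,[0,11,9,6,14,3,4,2,1],[(8986,[0,9,7,4,12]),(4216,[]),(10726,[0,14,14,0,3]),(4217,[])],[4,9,10,9,4]),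
  (4,[8,14,7,14,16,3,4,2,1],[(8986,[6,12,5,12,14]),(4217,[]),(9394,[3,7,12,10,13]),(4217,[]),(10474,[3,12,14,7,5]),(4217,[])],[4,7,13,11]),
  (4,[4,13,10,0,8,3,4,2,1],[(8986,[2,11,8,0,6]),(4216,[]),(4310,[0,2,13,6]),(184,[]),(202,[0,3,3,13,10]),(85,[]),(101,[]),(72,[])],[0,15,15,8]),
  (1,[3,4,3,17],[(10738,[])],[5,6,6,10]),
  (4,[6,8,16,5,3,4,2,1],[(8986,[4,6,14,3]),(4217,[]),(8014,[4,9,5,11,7]),(2273,[]),(8154,[0,2,6,3,5]),(4217,[])],[0,3,7,10,4]),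
  (4,[10,12,5,5,3,4,2,1],[(8986,[8,10,3,3]),(6606,[0,3,8,5,7]),(8498,[0,13,10,6,9])],[10,3,15,11]),
  (4,[0,11,15,7,3,4,2,1],[(8986,[0,9,13,5]),(10546,[0,9,14,8,2]),(4217,[]),(10066,[7,14,4,3])],[3,0,5,0]),
  (1,[3,1,3,9,14],[(10754,[]),(4217,[])],[2,6,0,14,0]),
  (4,[12,8,0,15,3,4,2,1],[(8986,[10,6,0,13]),(4216,[]),(9058,[2,0,10,14]),(4217,[]),(9470,[6,0,9,12])],[2,4,6,0]),
  (5,[5,14,5,7,3,4,2,1],[(8986,[3,12,3,5]),(7798,[0,15,3,8,13]),(2273,[]),(2268,[]),(7578,[8,2,13,3]),(4216,[])],[0,15,9,0,5]),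
  (1,[3,12,5,3],[(10766,[]),(4217,[])],[0,4,12,9]),
  (7,[5,16,16,6,0,3,4,2,1],[(8986,[3,14,14,4,0]),(10446,[3,12,2,10,3]),(4217,[]),(10158,[3,14,11,15]),(4217,[])],[2,8,0,15,11]),
  (7,[17,13,5,17,3,4,2,1],[(8986,[15,11,3,15]),(4217,[]),(8706,[0,10,14,10,13]),(4216,[]),(9802,[8,2,13,6]),(4216,[])],[9,11,13,10]),
  (1,[2,4,14,3],[(10778,[]),(4216,[])],[10,14,8,14]),
  (2,[4,6,16,10,10,2,4,3,9],[(7294,[2,4,14,8,8]),(8146,[0,3,3,4,7]),(4216,[])],[0,13,10,12]),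
  (2,[0,17,14,10,2,4,3,9],[(7294,[0,15,12,8]),(7050,[5,2])],[0,2,4,0]),
  (4,[11,14,7,11,14,2,4,3,9],[(7294,[9,12,5,9,12]),(2272,[]),(3298,[0,4,10,4,2]),(2273,[]),(6330,[0,2,5,3,9]),(4217,[])],[0,8,15,2,7]),
  (1,[3,12,11,11],[(10794,[])],[3,13,3,0,13])]
theorem hD24 : allD2 lk B KW KW F A RL R0 D24 2592 = true := by decide +kernel
def D25 : List (ℕ × Word × List (ℕ × Word) × Word) := [(6,[6,15,16,10,4,2,4,3,9],[(7294,[4,13,14,8,2]),(3870,[0,10,12,15,3]),(2272,[]),(2268,[]),(8210,[0,6,9,5,15])],[9,5,12,11]),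
  (6,[0,6,6,8,16,2,4,3,9],[(7294,[0,4,4,6,14]),(7130,[2,10,7,0,9]),(9470,[2,5,13,14,11]),(4217,[])],[0,5,13,14,2]),
  (6,[8,15,7,11,2,4,3,9],[(7294,[6,13,5,9]),(2272,[]),(2268,[]),(3470,[0,9,5,14,0]),(2272,[]),(2268,[]),(7490,[0,4,2,10,13])],[0,12,3,7,13]),
  (6,[5,9,15,12,17,2,4,3,9],[(7294,[3,7,13,10,15]),(4050,[0,11,6]),(136,[]),(132,[]),(9890,[14,3,12,8]),(4216,[])],[10,15,13,11]),
  (1,[2,15,1,3],[(10814,[]),(4217,[])],[3,6,15,4,10]),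
  (7,[5,7,12,7,16,2,4,3,9],[(7294,[3,5,10,5,14]),(2273,[]),(3262,[6,4,10,15,7]),(2273,[]),(6610,[2,12,11,2]),(4217,[])],[2,10,7,10]),
  (1,[3,1,7,3,6],[(10822,[])],[4,2,6,5,9]),
  (7,[12,10,6,6,2,4,3,9],[(7294,[10,8,4,4]),(2272,[]),(2268,[]),(8058,[0,4,13,7,3]),(4216,[]),(9794,[0,10,13,0,9]),(4216,[])],[14,6,14,0]),
  (1,[3,4,11,13,2],[(10830,[]),(4217,[])],[2,9,12,6,0]),
  (7,[9,4,17,14,2,4,3,9],[(7294,[7,2,15,12]),(2273,[]),(7618,[0,14,8,10,4]),(10050,[11,4,2,12]),(4216,[])],[2,13,2,9,11]),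
  (1,[3,4,3,14,5],[(10838,[]),(4217,[])],[2,2,5,15,15]),
  (2,[4,11,6,11,0,3,16,2,14],[(9186,[2,9,4,9,0]),(4216,[]),(8902,[0,5,3,11,6])],[0,3,6,8,2]),
  (4,[0,14,0,7,15,3,16,2,14],[(9186,[0,12,0,5,13]),(7406,[13,3,9,3]),(2272,[]),(2268,[]),(8578,[3,0,4,3,10])],[0,13,7,0,8]),
  (1,[3,4,3,5,16],[(10850,[]),(4216,[])],[3,6,11,13,14]),
  (4,[0,16,16,6,14,3,16,2,14],[(9186,[0,14,14,4,12]),(4217,[]),(9194,[0,4,0,4,2]),(4216,[]),(9458,[3,14,11,5,12]),(4216,[])],[0,4,15,12,2]),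
  (5,[0,8,15,12,5,3,16,2,14],[(9186,[0,6,13,10,3]),(10026,[3,11,6,5,12]),(10658,[8,0,12,5])],[4,13,4,13]),
  (1,[3,1,3,6,15],[(10862,[]),(4217,[])],[5,10,3,3,11]),
  (5,[0,15,11,7,4,3,16,2,14],[(9186,[0,13,9,5,2]),(4216,[]),(10006,[0,12,15,11]),(4216,[]),(10822,[6,10,14,0,5]),(4217,[])],[5,6,9,5]),
  (1,[3,7,15,3],[(10870,[]),(4217,[])],[3,14,7,5,7]),
  (6,[7,13,15,6,3,16,2,14],[(9186,[5,11,13,4]),(4216,[]),(9142,[12,2,13,15]),(10134,[4,8,6,13])],[8,6,13,2]),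
  (1,[3,1,17,9,3],[(10878,[]),(4217,[])],[14,7,8,14]),
  (2,[11,12,8,6,0,2,17,14],[(6534,[9,10,6,4,0]),(2272,[]),(2268,[]),(8298,[4,6,10,4,10])],[5,12,12,3,11]),
  (5,[4,0,11,14,14,2,17,14],[(6534,[2,0,9,12,12]),(2268,[]),(3754,[2,2,8,2]),(188,[]),(188,[]),(184,[]),(4346,[9,11,14,3])],[15,13,2,5]),
  (5,[0,8,13,4,4,14,2,17,14],[(6534,[0,6,11,2,2,12]),(3734,[6,15,15,11,9]),(2273,[]),(8450,[15,11,4]),(4216,[])],[9,5,5,9,11]),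
  (1,[2,13,3],[(10894,[]),(4217,[])],[3,6,5,8,0]),
  (5,[6,17,12,2,17,14],[(6534,[4,15,10]),(2272,[]),(6482,[5,15,10,10,15]),(9222,[8,4,7,0]),(4217,[])],[4,4,12,4,9]),
  (6,[5,16,0,8,6,2,17,14],[(6534,[3,14,0,6,4]),(2268,[]),(3422,[6,0,15,10,7]),(2268,[]),(6538,[0,3,0,13,3])],[2,0,13,3,7]),
  (6,[0,7,7,8,0,2,17,14],[(6534,[0,5,5,6,0]),(2272,[]),(7930,[15,5,10,5]),(9606,[4,4,0,13,8]),(4216,[])],[3,8,3,0]),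
  (6,[0,10,0,14,17,2,17,14],[(6534,[0,8,0,12,15]),(2272,[]),(2268,[]),(3822,[2,5,0,13]),(2272,[]),(8258,[0,10,5,14,7]),(4216,[])],[10,7,2,8]),
  (1,[3,4,6,15,2],[(10914,[])],[14,12,3,6]),
  (6,[0,8,10,13,10,2,17,14],[(6534,[0,6,8,11,8]),(3566,[0,7,3,6,3]),(188,[]),(212,[]),(4410,[6,2,12,2]),(4216,[])],[5,6,2,12]),
  (1,[3,7,5,3,11],[(10922,[])],[3,9,0,2]),
  (6,[8,6,8,2,17,14],[(6534,[6,4,6]),(2273,[]),(3766,[2,8,5,11,7]),(2268,[]),(6930,[2,6,9,14,10]),(4216,[])],[8,6,12,12]),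
  (7,[5,15,12,4,2,17,14],[(6534,[3,13,10,2]),(2268,[]),(7706,[0,15,9,12,6]),(4216,[]),(9546,[0,12,6,4,6])],[15,4,6,9]),
  (1,[2,4,4,2],[(10934,[]),(4217,[])],[11,5,12]),
  (4,[9,14,7,8,8,3,7,14,3,8],[(4222,[7,12,5,6,6]),(137,[]),(132,[]),(136,[]),(132,[]),(4046,[0,13,3,12,12]),(2268,[]),(6498,[4,14,6,14,13])],[11,12,14,2]),
  (1,[3,1,3,16,3],[(10942,[]),(4217,[])],[10,6,14,8]),
  (7,[16,6,4,8,3,7,14,3,8],[(4222,[14,4,2,6]),(136,[]),(136,[]),(132,[]),(8762,[2,5,15,6,10]),(4217,[]),(9854,[2,2,9,10,12]),(4217,[])],[7,9,9]),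
  (3,[0,15,10,8,3,5,8,11],[(9206,[0,13,8,6]),(4217,[]),(10310,[4,13,10,7]),(4216,[])],[8,13,5,5]),
  (4,[17,13,14,3,5,8,11],[(9206,[15,11,12]),(4217,[]),(8738,[0,6,3,10,14]),(4217,[]),(10206,[15,10,15,7])],[7,9,7,2]),
  (5,[4,13,9,12,7,3,4,2],[(10790,[2,11,7,10,5]),(9042,[6,5,0,10,14]),(10714,[14,6,6,0]),(4217,[])],[3,7,3,6,6]),
  (2,[4,9,11,15,11,3,16,2,16],[(9930,[2,7,9,13,9]),(4216,[]),(9134,[0,11,14,6,9]),(4217,[])],[7,14,4,10]),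
  (1,[3,1,3,9,12],[(10966,[]),(4216,[])],[2,14,0,5,5]),
  (5,[4,17,15,6,3,16,2,16],[(9930,[2,15,13,4]),(4216,[]),(10870,[2,8,14,12,11]),(9138,[7,9,14,8,2]),(4217,[])],[0,12,14,12,5]),
  (6,[17,11,14,0,3,16,2,16],[(9930,[15,9,12,0]),(4217,[]),(5974,[11,3,12,15]),(1672,[]),(1668,[]),(5714,[6,4,14,14,6]),(4216,[])],[15,6,4,7]),
  (2,[4,12,4,4,9,3,7,17,3,14],[(4382,[2,10,2,2,7]),(185,[]),(188,[]),(338,[11,3,4,6]),(133,[]),(136,[])],[5,7,12,7]),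
  (1,[2,1,3],[(10982,[])],[9,13,10,3]),
  (4,[7,8,10,8,15,3,7,17,3,14],[(4382,[5,6,8,6,13]),(188,[]),(184,[]),(4482,[3,9,11,7,15]),(4216,[]),(10678,[0,3,0,5,0]),(4217,[])],[2,9,3]),
  (1,[3,1,13,17,3],[(10990,[])],[0,9,0,10,7]),
  (4,[0,9,0,6,16,3,7,17,3,14],[(4382,[0,7,0,4,14]),(188,[]),(188,[]),(185,[]),(4258,[6,9,7,10]),(4216,[]),(8786,[0,12,11,12,12]),(4216,[])],[2,9,9,11,14]),
  (5,[4,11,8,7,17,3,7,17,3,14],[(4382,[2,9,6,5,15]),(185,[]),(194,[7,15,15,0]),(80,[]),(72,[]),(76,[]),(10514,[0,6,9,9,4])],[14,5,3,5]),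
  (2,[12,16,8,17,3,1,3,7,4],[(10230,[10,14,6,15]),(4216,[]),(10322,[4,12,0,7,12]),(4216,[])],[0,2,2,13,4]),
  (1,[3,4,12],[(11006,[]),(4216,[])],[0,11,6,15,7]),
  (4,[6,17,9,13,3,1,3,7,4],[(10230,[4,15,7,11]),(7558,[5,11,13,10]),(2268,[]),(8226,[2,10,2,8,6])],[2,13,6,0,7]),
  (1,[2,1,7,8],[(11014,[]),(4217,[])],[0,3,6,3,13]),
  (5,[13,14,5,13,3,1,3,7,4],[(10230,[11,12,3,11]),(10310,[0,5,14,0]),(4217,[]),(10914,[0,2,13,8,10]),(4216,[])],[4,8,4,15,6]),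
  (6,[17,0,11,13,3,1,3,7,4],[(10230,[15,0,9,11]),(10838,[13,5,11,5]),(9742,[10,9,12,14]),(137,[]),(161,[]),(132,[]),(132,[])],[10,7,9,6]),
  (1,[3,15,11,2],[(11026,[])],[3,3,0,11]),
  (6,[6,17,5,14,3,1,3,7,4],[(10230,[4,15,3,12]),(4216,[]),(5566,[4,6,10,12,10]),(1720,[]),(1673,[]),(5786,[3,14,5,9,9]),(4216,[])],[8,6,2,4]),
  (2,[4,4,0,16,2,7,1],[(8766,[2,2,0,14]),(136,[]),(132,[]),(132,[]),(9034,[0,14,3,15,12])],[9,5,11,14]),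
  (1,[3,1,3,10,2],[(11038,[])],[4,13,9,9]),
  (5,[0,4,10,2,7,1],[(8766,[0,2,8]),(161,[]),(133,[]),(136,[]),(4226,[2,6,0,7,3]),(9718,[4,7,4,6]),(4216,[])],[3,8,4,6,13]),
  (6,[6,0,8,6,6,2,7,1],[(8766,[4,0,6,4,4]),(136,[]),(133,[]),(137,[]),(9890,[4,2,13,14]),(4216,[]),(8854,[0,11,13,11]),(4217,[])],[2,8,7,2]),
  (6,[0,7,8,4,2,7,1],[(8766,[0,5,6,2]),(160,[]),(137,[]),(161,[]),(9438,[15,2,13,0]),(4216,[]),(8938,[2,0,14,13,10]),(4217,[])],[8,11,3,9]),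
  (1,[3,11,3,16,9],[(11054,[]),(4216,[])],[4,15,10,2]),
  (7,[4,10,9,16,15,2,7,1],[(8766,[2,8,7,14,13]),(136,[]),(161,[]),(136,[]),(132,[]),(132,[]),(9510,[13,8,10,5]),(4217,[]),(10294,[0,14,3,12,3])],[6,2,15,6]),
  (7,[12,10,5,9,2,7,1],[(8766,[10,8,3,7]),(160,[]),(136,[]),(132,[]),(9890,[3,15,4,11]),(4222,[3,13,3,15]),(136,[]),(161,[]),(133,[])],[2,8,11,7,11]),
  (1,[3,4,2,7],[(11066,[])],[15,4,10,9]),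
  (2,[5,13,13,2,7,1,3],[(4966,[3,11,11]),(1292,[]),(4970,[0,13,8,15,12])],[2,10,8,6]),
  (2,[5,17,8,5,8,2,7,1,3],[(4966,[3,15,6,3,6]),(1316,[]),(1292,[]),(1288,[]),(4994,[12,15,8,0])],[4,4,11,5]),
  (6,[6,9,13,4,2,7,1,3],[(4966,[4,7,11,2]),(1308,[]),(1316,[]),(1284,[]),(5402,[3,13,15,7,3]),(4216,[]),(8862,[15,12,11,14]),(4216,[])],[4,7,0,7]),
  (1,[3,4,3,8],[(11082,[])],[0,14,8,11,5]),
  (2,[7,16,11,11,13,3,5,2,14,4],[(8502,[5,14,9,9,11]),(2272,[]),(2268,[]),(6578,[5,6,9,4]),(4216,[])],[2,2,10,14,0]),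
  (1,[3,4,16,1],[(11090,[])],[7,10,5,10]),
  (4,[4,12,9,12,15,3,5,2,14,4],[(8502,[2,10,7,10,13]),(2950,[12,4,6,10]),(1720,[]),(1673,[]),(5770,[0,3,9,5,11]),(4217,[])],[6,5,12,7]),
  (5,[0,15,4,7,5,3,5,2,14,4],[(8502,[0,13,2,5,3]),(2273,[]),(8690,[15,8,2,0]),(9994,[3,9,5,7,8]),(4217,[])],[2,11,3,4,9]),
  (1,[3,4,14,7],[(11102,[]),(4216,[])],[6,10,13,7,12]),
  (5,[10,8,6,4,2,6,3,7],[(6470,[8,6,4,2]),(2272,[]),(8058,[11,8,12,8]),(4217,[]),(9906,[3,0,7,13])],[2,7,14,10,15]),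
  (1,[3,5,11,2],[(11110,[]),(4217,[])],[5,6,12,11]),
  (5,[0,11,6,16,5,2,6,3,7],[(6470,[0,9,4,14,3]),(3758,[0,15,6,0,14]),(2273,[]),(6554,[6,0,3,13]),(4216,[])],[4,4,3,5]),
  (6,[0,5,16,0,8,2,6,3,7],[(6470,[0,3,14,0,6]),(2268,[]),(3546,[7,0,3,5]),(548,[]),(508,[]),(508,[]),(4626,[4,7,8,2]),(4216,[])],[2,11,2,2]),
  (6,[0,12,5,17,17,2,6,3,7],[(6470,[0,10,3,15,15]),(6906,[6,14,2,7]),(9098,[0,14,14,3,13]),(4217,[])],[0,5,10,7,8]),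
  (7,[16,7,8,17,2,6,3,7],[(6470,[14,5,6,15]),(2273,[]),(2268,[]),(6722,[2,2,9,5,14]),(4216,[]),(9722,[4,8,13,14,9]),(4217,[])],[2,7,9,10,13]),
  (7,[4,6,0,4,9,2,6,3,7],[(6470,[2,4,0,2,7]),(3178,[2,15,11,4,4]),(2268,[]),(7874,[13,2])],[0,7,15,8]),
  (2,[8,13,8,4,3,4],[(9590,[6,11,6,2]),(4217,[]),(9514,[13,0,14,14]),(136,[]),(160,[]),(136,[]),(133,[])],[2,2,0,15,7]),
  (1,[2,7,1],[(11138,[])],[0,11,9,10,14]),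
  (4,[0,12,12,10,16,3,4],[(9590,[0,10,10,8,14]),(4217,[]),(9798,[12,5,9,7]),(9178,[0,14,0,6,0]),(4217,[])],[3,9,2,4]),
  (7,[0,4,7,0,7,3,4],[(9590,[0,2,5,0,5]),(4216,[]),(5110,[0,2,15,3,6]),(1316,[]),(1288,[]),(1284,[]),(5362,[2,11,5,11,8]),(4216,[])],[2,12,7,11,6]),
  (6,[9,6,15,13,3,4,3],[(10710,[7,4,13,11]),(7318,[15,8,4,7]),(2268,[]),(6370,[0,12,5,3,15]),(4217,[])],[0,10,4,11,7]),
  (1,[3,8,6,3,5],[(11154,[]),(4216,[])],[2,12,9,12,4]),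
  (5,[9,10,0,16,3,4,3,14,3],[(10130,[7,8,0,14]),(7598,[15,15,13,10]),(2272,[]),(7626,[12,12,10,13]),(4217,[])],[2,2,9,10,14]),
  (4,[4,16,7,5,13,3,5,12,2,6],[(8882,[2,14,5,3,11]),(4216,[]),(5350,[3,5,7,8,11]),(1309,[]),(1292,[]),(5306,[3,11,6,4]),(4217,[])],[6,5,10,5,9]),
  (1,[3,5,9,2,9],[(11166,[]),(4217,[])],[0,5,15,15,12]),
  (2,[14,17,0,5,3,5,9,6,3],[(5702,[12,15,0,3]),(1720,[]),(1673,[]),(1668,[]),(5898,[3,12,3,3,14])],[0,10,2,4,14]),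
  (1,[2,12,10,2],[(11174,[]),(4216,[])],[11,3,9,5]),
  (6,[4,8,8,5,13,3,5,9,6,3],[(5702,[2,6,6,3,11]),(1720,[]),(1673,[]),(1668,[]),(2690,[9,11,13,0]),(2273,[]),(7914,[2,11,12,8,10]),(4217,[])],[14,12,2,13]),
  (4,[8,15,6,6,3,1,15,8],[(8786,[6,13,4,4]),(9430,[4,3,14,0,9]),(4216,[]),(9922,[7,0,3,7]),(4217,[])],[0,10,14,0,15]),
  (3,[0,11,8,6,12,3,1,3,12,9],[(6350,[0,9,6,4,10]),(2272,[]),(2268,[]),(6474,[9,5,0,12])],[10,13,14,12]),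
  (4,[4,12,6,15,3,1,3,12,9],[(6350,[2,10,4,13]),(2273,[]),(3666,[0,2,14,9,6]),(2272,[]),(2268,[]),(7554,[0,7,3,4,6])],[4,0,7,8,7]),
  (4,[6,0,6,8,14,3,4,3,1],[(4478,[4,0,4,6,12]),(184,[]),(189,[]),(184,[]),(306,[0,12,10,4,6]),(189,[]),(184,[]),(4482,[4,14,13,14,7]),(4216,[])],[3,4,6,6,15]),
  (6,[4,17,14,3,4,3,1],[(4478,[2,15,12]),(212,[]),(4450,[3,4,6,0]),(4217,[]),(10406,[3,6,9,3]),(4217,[])],[14,9,12,10]),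
  (6,[5,0,17,17,8,3,6,2,7],[(10146,[3,0,15,15,6]),(4216,[]),(10770,[4,7,10,15,15]),(10458,[0,10,13,13,10])],[3,10,5,10]),
  (3,[0,14,7,8,10,3,14,3,1],[(10898,[0,12,5,6,8]),(4217,[]),(10622,[0,9,12,9,7]),(4217,[])],[0,5,2,2,5]),
  (4,[12,10,7,15,3,14,3,1],[(10898,[10,8,5,13]),(4217,[]),(10682,[15,12,8,5]),(4216,[]),(9030,[9,4,14,10]),(4217,[])],[2,14,0,6,15]),
  (5,[0,9,11,12,14,3,4,3,1,2],[(8890,[0,7,9,10,12]),(4217,[]),(10498,[9,7,12,4]),(9206,[6,14,6,8])],[8,8,15,8]),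
  (1,[3,4,16,1,2],[(11218,[])],[5,6,14,3,3]),
  (7,[6,15,9,12,8,3,5,1,7,3],[(6670,[4,13,7,10,6]),(3142,[13,6,14,10]),(7498,[10,3,4,12])],[2,4,3,9,4]),
  (5,[15,8,5,7,3,14,3],[(5774,[13,6,3,5]),(1720,[]),(1672,[]),(2022,[0,14,6,8,6]),(1308,[]),(1316,[]),(1284,[]),(5282,[6,12,8,0]),(4217,[])],[5,6,12])]
theorem hD25 : allD2 lk B KW KW F A RL R0 D25 2700 = true := by decide +kernel
def D26 : List (ℕ × Word × List (ℕ × Word) × Word) := [(4,[0,11,7,14,9,2,16,9],[(10482,[0,9,5,12,7]),(4217,[]),(5134,[15,0,15,7]),(1316,[]),(1292,[]),(1284,[]),(4970,[0,10,14,5])],[0,4,0,2,13]),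
  (100,[],[],[]),
  (1,[3,7,2,12],[(11238,[])],[]),
  (1,[],[(11242,[]),(212,[]),(188,[]),(184,[]),(11238,[4,11,6,8,10])],[]),
  (2,[11,14,17,0,3,11,13,9],[(314,[9,12,15,0]),(185,[]),(188,[]),(11238,[2,11,8,10])],[0,9,10,7,15]),
  (1,[3,13,2,12],[(11250,[]),(213,[]),(185,[])],[12,10,15,15]),
  (3,[4,0,17,5,6,3,1,3],[(446,[2,0,15,3,4]),(212,[]),(184,[]),(11238,[0,5,0,13,7]),(11244,[])],[3,3,11,6,0]),
  (1,[3,12,2,1],[(11258,[]),(392,[]),(384,[]),(393,[])],[6,10,5,2]),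
  (4,[5,14,10,12,4,3,1,3,1,3],[(4586,[3,12,8,10,2]),(4238,[0,3,8,12,12]),(189,[]),(184,[]),(11238,[2,8,15,8,11])],[0,2,13,3,8]),
  (1,[3,4,10,17],[(11266,[]),(424,[])],[10,13,4,11]),
  (7,[0,15,10,12,3,1,2,1,2],[(4554,[0,13,8,10]),(4216,[]),(4558,[0,2,2,14,13]),(392,[]),(384,[]),(392,[]),(384,[]),(11262,[0,3,14,2,15]),(11244,[])],[9,4,11,15]),
  (1,[3,4,2,11],[(11274,[]),(393,[]),(385,[]),(11262,[0,5,8,14,4])],[]),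
  (2,[17,15,11,17,2,7,1],[(454,[15,13,9,15]),(393,[]),(384,[]),(393,[]),(384,[]),(11262,[0,8,11,12,15]),(11244,[]),(11276,[]),(11244,[]),(11276,[])],[3,11,8,3]),
  (1,[3,1,2,8,2],[(11282,[]),(392,[]),(392,[]),(380,[]),(11262,[0,9,9,10,13])],[]),
  (5,[4,12,6,13,3,5,12,2,6],[(11262,[2,10,4,11]),(11285,[]),(11258,[0,10,3,15,15]),(424,[]),(424,[]),(392,[]),(384,[]),(11262,[4,6,15,2,5]),(11284,[]),(11244,[])],[2,6,5,11,3]),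
  (1,[3,5,12,5,2],[(11290,[]),(384,[]),(393,[])],[0,3,15,12,15]),
  (6,[0,8,6,13,5,3,16,2,14],[(4746,[0,6,4,11,3]),(4216,[]),(4598,[0,5,5,5,0]),(393,[]),(380,[]),(11262,[10,8,2,7]),(11285,[]),(11244,[])],[4,14,8,15,11]),
  (1,[3,5,13,14],[(11298,[]),(733,[]),(729,[]),(732,[]),(728,[])],[0,6,15,13,4]),
  (5,[0,16,11,4,12,3,1,3,7,4],[(4666,[0,14,9,2,10]),(4582,[7,9,4,4]),(385,[]),(425,[]),(392,[]),(380,[]),(11262,[0,9,7,8,14]),(11284,[]),(11244,[])],[2,9,11,4,15]),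
  (1,[3,12,4],[(11306,[]),(728,[]),(732,[]),(728,[])],[14,10,8,6]),
  (5,[5,5,6,17,4,3,5,9,6],[(1882,[3,3,4,15,2]),(1673,[]),(1668,[]),(1886,[4,10,12,7]),(732,[]),(729,[]),(11302,[4,9,10,5,3]),(11284,[]),(11284,[])],[15,15,2,8]),
  (1,[3,5,9,6,3],[(11314,[]),(732,[]),(728,[]),(732,[]),(729,[]),(732,[]),(728,[])],[13,2,11,12]),
  (5,[10,10,4,17,3,17,6],[(986,[8,8,2,15]),(212,[]),(185,[]),(350,[15,13,9,11]),(212,[]),(184,[]),(11254,[10,15,4]),(11276,[]),(11284,[])],[8,8,4,11]),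
  (1,[3,5,9,10],[(11322,[]),(732,[]),(732,[]),(728,[]),(728,[]),(728,[])],[5,5,13,3]),
  (7,[4,0,17,3,17,6],[(986,[2,0,15]),(262,[3,9,9,14]),(212,[]),(189,[]),(11254,[14,5,2,6]),(11284,[]),(11276,[]),(11284,[])],[6,13,15,13,13]),
  (1,[3,5,8,4,3],[(11330,[]),(733,[]),(729,[]),(732,[]),(728,[])],[0,2,11,2,5]),
  (4,[0,17,6,13,7,3,1,3,15,2],[(4650,[0,15,4,11,5]),(4217,[]),(4598,[10,6,11,14]),(425,[]),(392,[]),(385,[]),(11262,[12,12,3]),(11285,[]),(11276,[])],[6,3,14,6]),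
  (1,[3,4,6,2,4],[(11338,[]),(728,[]),(728,[]),(728,[])],[2,4,10,8,15]),
  (5,[5,13,16,11,7,3,8,13,2],[(930,[3,11,14,9,5]),(424,[]),(424,[]),(380,[]),(482,[0,8,15,3,12]),(385,[]),(393,[]),(11294,[4,0,4,8,6]),(11276,[]),(11244,[])],[2,7,12,15]),
  (1,[3,1,2,13,3],[(11346,[]),(729,[]),(733,[]),(728,[]),(732,[]),(728,[]),(728,[])],[4,11,2,4]),
  (4,[17,9,14,9],[(774,[15,7,12,7]),(636,[]),(616,[]),(722,[0,4,10,6]),(729,[]),(729,[]),(11310,[4,8,14,6]),(11284,[]),(11284,[])],[2,14,12,5]),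
  (1,[3,14,14,9],[(11354,[]),(805,[]),(788,[]),(784,[])],[5,5,14]),
  (6,[17,15,12,11],[(774,[15,13,10,9]),(661,[]),(628,[]),(608,[]),(1014,[2,13,3,7,9]),(728,[]),(732,[]),(11302,[10,8,0,2]),(11276,[]),(11244,[])],[3,5,13,4]),
  (1,[3,9,1,12],[(11362,[]),(785,[]),(780,[])],[10,12,10,13]),
  (7,[5,7,14,17,0,2],[(4794,[3,5,12,15,0]),(4217,[]),(4734,[8,11,13,2]),(733,[]),(728,[]),(11334,[6,5,13,3,6]),(11284,[])],[0,2,8,10,8]),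
  (1,[3,10,16,2,10],[(11370,[]),(788,[]),(784,[])],[3,4,14,9,9]),
  (2,[5,17,6,9,3,1,3,1,2],[(906,[3,15,4,7]),(728,[]),(733,[]),(728,[]),(11302,[6,15,8,11]),(11285,[]),(11244,[])],[7,10,13,13]),
  (1,[2,7,8,2],[(11378,[]),(780,[]),(788,[]),(776,[])],[9,10,4,11]),
  (5,[0,17,17,0,12],[(1282,[0,15,15,0,10]),(424,[]),(393,[]),(470,[0,10,8,6,12]),(424,[]),(424,[]),(393,[]),(11294,[3,9,12,10,5]),(11244,[]),(11276,[])],[12,10,6,10]),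
  (1,[3,7,14,3,8],[(11386,[]),(1292,[])],[4,7,13,5,11]),
  (5,[0,14,0,7,10,3,1],[(5074,[0,12,0,5,8]),(4217,[]),(5030,[0,10,12,11,14]),(1316,[]),(1308,[]),(1308,[]),(11390,[6,12,3,4]),(11244,[]),(11285,[])],[6,5,11,8]),
  (1,[2,4,3,9],[(11394,[]),(1316,[]),(1309,[]),(1284,[])],[2,4,13,0,11]),
  (7,[0,10,4,14,3,1],[(5074,[0,8,2,12]),(4216,[]),(4334,[3,6,5,6,8]),(188,[]),(11254,[0,10,9,12,2]),(11284,[]),(11244,[]),(11285,[])],[3,12,2,2,14]),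
  (1,[3,17,6],[(11402,[]),(1316,[]),(1288,[])],[12,7,2,7]),
  (4,[5,5,11,13,16,3,10,2,13],[(1534,[3,3,9,11,14]),(1309,[]),(1284,[]),(1646,[2,2,5,7,4]),(728,[]),(733,[]),(728,[]),(728,[]),(11342,[15,4,11,2]),(11276,[])],[11,7,12,12]),
  (1,[3,4,2],[(11410,[]),(1309,[]),(1292,[])],[0,15,2,4,14]),
  (6,[5,11,4,4,3,4,12,9],[(2626,[3,9,2,2]),(4090,[3,8,14,0,15]),(732,[]),(732,[]),(728,[]),(728,[]),(11310,[7,14,11,13]),(11285,[]),(11276,[])],[6,6,5,8,10]),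
  (1,[3,5,14,3],[(11418,[]),(1316,[]),(1292,[]),(1288,[])],[0,12,15,5,12]),
  (2,[11,5,3,4,2,7],[(1602,[9,3]),(213,[]),(185,[]),(11254,[7,4,12,2]),(11276,[])],[3,0,4,15,2]),
  (1,[3,14,2,12],[(11426,[])],[4,2,8,7,15]),
  (3,[4,13,10,7,4,3,4,2,7],[(1602,[2,11,8,5,2]),(11238,[0,5,13,14,12]),(11285,[]),(11244,[])],[0,12,5,12,7]),
  (1,[2,12,3,4],[(11434,[]),(1309,[]),(1292,[])],[3,6,14,9,9]),
  (7,[6,0,5,7,3,16,2,14],[(5050,[4,0,3,5]),(4217,[]),(5078,[0,8,5,9,4]),(1316,[]),(1288,[]),(1284,[]),(11390,[9,15,3,4]),(11284,[]),(11284,[]),(11244,[])],[12,12,9,15]),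
  (1,[3,14,2],[(11442,[]),(1309,[]),(1284,[])],[7,5,2,12]),
  (4,[8,6,0,6,2,6,1,11],[(1442,[6,4,0,4]),(785,[]),(1390,[0,4,11,11,7]),(1316,[]),(1288,[]),(1284,[]),(11398,[0,2,14,2,2]),(11284,[]),(11276,[])],[3,11,5,6,5]),
  (1,[3,13,3,6],[(11450,[])],[6,3,13,11]),
  (6,[0,6,4,12,11,3,5,9,6,3],[(2466,[0,4,2,10,9]),(2272,[]),(2358,[3,13,13,3,8]),(780,[]),(789,[]),(11382,[4,4,2,5,13])],[2,9,9,13,0]),
  (1,[2,12,8,14],[(11458,[]),(1316,[]),(1309,[]),(1284,[])],[3,3,12]),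
  (6,[4,9,0,11,16,2,7],[(2490,[2,7,0,9,14]),(2272,[]),(2268,[]),(2334,[2,15,15,3]),(728,[]),(733,[]),(11334,[15,6,14,2]),(11284,[]),(11244,[])],[6,10,10,15]),
  (1,[2,13,3,16],[(11466,[]),(1316,[]),(1284,[])],[13,11,14,2]),
  (5,[15,10,12,15,3,4,3,14],[(4978,[13,8,10,13]),(4216,[]),(5238,[0,7,2,9,4]),(11470,[0,8,10,4,2]),(11284,[])],[0,2,9,3,7]),
  (1,[3,6,11,3,15],[(11474,[])],[13,13,13]),
  (4,[0,4,10,6,5],[(1666,[0,2,8,4,3]),(393,[]),(384,[]),(878,[2,0,6,10,6]),(804,[]),(788,[]),(11358,[10,13,15,10]),(11284,[]),(11244,[])],[4,7,5,5]),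
  (1,[3,1,3,5],[(11482,[]),(1720,[]),(1668,[])],[2,6,15,2,14]),
  (4,[15,7,16,0],[(1666,[13,5,14,0]),(393,[]),(384,[]),(470,[7,5,11,6]),(424,[]),(424,[]),(393,[]),(11294,[0,14,0,9,15]),(11244,[]),(11276,[]),(11244,[])],[5,13,10]),
  (1,[2,1],[(11490,[]),(1720,[]),(1672,[]),(1668,[])],[0,2,2,7,13]),
  (6,[4,0,15,15,9,3],[(1742,[2,0,13,13,7]),(212,[]),(188,[]),(990,[15,8,5,13]),(729,[]),(733,[]),(11318,[5,12,4,11]),(11284,[]),(11284,[]),(11244,[])],[0,6,4,11,11]),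
  (1,[3,1,17,2,11],[(11498,[])],[0,2,2,0,13]),
  (5,[16,11,9,7,2],[(2186,[14,9,7,5]),(1672,[]),(1672,[]),(1668,[]),(2022,[3,0,10,13,0]),(1309,[]),(1316,[]),(11406,[2,10,3,7]),(11284,[]),(11244,[])],[3,9,10,10,3]),
  (1,[3,10,2,13],[(11506,[]),(1720,[]),(1672,[]),(1668,[])],[8,0,2,14]),
  (5,[12,6,8,12,2],[(2186,[10,4,6,10]),(1668,[]),(1798,[8,0,6,9]),(424,[]),(424,[]),(380,[]),(11270,[8,13,14,2]),(11285,[]),(11244,[])],[6,9,7,15]),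
  (1,[3,1,3,8,15],[(11514,[]),(1673,[])],[2,7,11,9,12]),
  (6,[0,4,13,16,0,2],[(2186,[0,2,11,14,0]),(1668,[]),(2030,[11,9,9,4]),(1284,[]),(11430,[0,12,4,2,12]),(11285,[]),(11244,[])],[8,14,4,15]),
  (1,[3,1,3,1,2],[(11522,[]),(1720,[])],[8,6,14,14]),
  (4,[0,6,15,15,17,2,1,2],[(5538,[0,4,13,13,15]),(4216,[]),(4958,[0,14,6,12,0]),(1288,[]),(11430,[8,11,12,9]),(11244,[]),(11276,[])],[2,0,11,6,12]),
  (1,[3,8,11,3,12],[(11530,[]),(1672,[]),(1668,[])],[4,4,14,12,4]),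
  (5,[4,9,14,17,0,3,1,2,1,3],[(1750,[2,7,12,15,0]),(189,[]),(213,[]),(189,[]),(1730,[8,2,8,11,5]),(1672,[]),(1672,[]),(11510,[0,5,12,12,9]),(11284,[]),(11276,[]),(11284,[])],[14,0,2,14]),
  (1,[3,1,17,2,16],[(11538,[]),(1720,[]),(1668,[])],[3,9,3,3,12]),
  (4,[10,6,12,3,15,11],[(6154,[8,4,10]),(4774,[3,5,8,3,8]),(804,[]),(788,[]),(784,[]),(11358,[4,10,14,6,6]),(11276,[]),(11244,[])],[3,15,8,14,7]),
  (1,[3,5,9,14],[(11546,[])],[12,7,4,12]),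
  (4,[7,5,8,7,3,15,11,3],[(5410,[5,3,6,5]),(4217,[]),(5078,[2,10,10,10,14]),(1309,[]),(1316,[]),(1284,[]),(11462,[2,7,3,11,12]),(11285,[])],[14,4,7,5]),
  (1,[3,15,11,9],[(11554,[]),(1673,[]),(1668,[])],[4,9,13,4]),
  (2,[0,10,14,12,16,3,7,17,3,14],[(2218,[0,8,12,10,14]),(11550,[0,3,5,5,15]),(11276,[]),(11284,[])],[2,4,15,4,9]),
  (1,[3,1,4,17],[(11562,[]),(1720,[]),(1672,[])],[4,2,12,2,14]),
  (5,[16,8,11,5,8,3,7,17,3,14],[(2218,[14,6,9,3,6]),(1673,[]),(1668,[]),(2082,[4,8,15,2,12]),(1720,[]),(1672,[]),(11534,[0,3,6,6,13])],[12,10,9,11]),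
  (1,[3,4,4,3,16],[(11570,[]),(1720,[]),(1672,[])],[9,5,0,9]),
  (7,[12,16,4,15,2,6,1,11],[(2190,[10,14,2,13]),(2022,[4,11,12,4]),(1316,[]),(1284,[]),(11470,[0,5,7,0,12]),(11276,[]),(11244,[])],[2,12,3,8]),
  (1,[3,5,2,14,4],[(11578,[]),(1720,[]),(1672,[])],[5,6,4,9]),
  (6,[7,15,5,13,9,3,4],[(5418,[5,13,3,11,7]),(4216,[]),(6126,[3,6,3,15,10]),(1720,[]),(1673,[]),(11510,[5,15,6,9,13]),(11244,[]),(11285,[])],[13,0,15]),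
  (1,[3,7,2,16,11],[(11586,[]),(1720,[])],[2,2,7,2,15]),
  (6,[7,9,7,7,0,2,16,2,8],[(5442,[5,7,5,5,0]),(4216,[]),(5358,[4,7,4,11,2]),(1309,[]),(1288,[]),(11422,[11,4,11,3]),(11244,[]),(11285,[])],[0,9,15,12,11]),
  (1,[3,7,2,12],[(11594,[]),(1720,[])],[11,5,5,7]),
  (4,[13,6,15,15,3,5,9,6,3],[(3074,[11,4,13,13]),(2268,[]),(2742,[4,14,8,6,8]),(1668,[]),(1720,[]),(11502,[2,0,2,9,5])],[2,6,5,11,2]),
  (1,[3,1,3,15,11],[(11602,[]),(1673,[])],[7,15,0,9]),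
  (6,[7,10,17,12,10,3,5,9,6,3],[(3074,[5,8,15,10,8]),(2390,[6,6,3,14,7]),(804,[]),(780,[]),(788,[]),(11366,[0,11,2,13,14]),(11285,[]),(11276,[])],[0,5,9,13,3]),
  (1,[2,9,4],[(11610,[])],[3,14,10]),
  (4,[11,11,13],[(2266,[9,9,11]),(628,[]),(608,[]),(636,[]),(628,[]),(608,[]),(1342,[5,7,3,8,6]),(1284,[]),(11438,[0,5,9,9,4]),(11284,[]),(11244,[])],[0,14,8,6,9]),
  (1,[2,13,3,13,9],[(11618,[]),(2273,[])],[2,9,15,12,5]),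
  (6,[6,5,7,10,0],[(2266,[4,3,5,8,0]),(620,[]),(661,[]),(637,[]),(616,[]),(1342,[4,6,12,4,7]),(1308,[]),(11430,[4,7,2,14,5]),(11284,[]),(11244,[])],[3,5,13,13,7]),
  (1,[3,11,2,1],[(11626,[])],[12,3,7,14]),
  (6,[5,8,15,10],[(2266,[3,6,13,8]),(620,[]),(637,[]),(661,[]),(608,[]),(1014,[14,11,2,11]),(728,[]),(728,[]),(732,[]),(728,[]),(11342,[0,5,6,4,3]),(11276,[]),(11284,[]),(11276,[])],[9,2,11,12]),
  (1,[3,13,6,3,4],[(11634,[]),(2272,[])],[5,2,10,5,12]),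
  (7,[5,9,10,10,12],[(2266,[3,7,8,8,10]),(629,[]),(661,[]),(628,[]),(612,[]),(1342,[2,6,2,4]),(1288,[]),(11398,[3,10,5,8]),(11285,[]),(11244,[]),(11276,[])],[2,11,12,14,0]),
  (1,[3,1,3,13,11],[(11642,[])],[0,3,10,3,11]),
  (7,[4,6,13,10],[(2266,[2,4,11,8]),(620,[]),(629,[]),(637,[]),(1342,[15,10,8,13]),(1309,[]),(1284,[]),(11406,[0,10,7,12,12])],[0,2,5,6,0]),
  (1,[3,1,3,12,9],[(11650,[]),(2273,[]),(2268,[])],[0,6,0,5,8]),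
  (7,[10,0,10,17],[(2266,[8,0,8,15]),(612,[]),(722,[0,6,4,6]),(732,[]),(11302,[10,5,3,15]),(11276,[]),(11244,[])],[12,11,9,14]),
  (1,[2,15,12],[(11658,[])],[0,7,11,6,6])]
theorem hD26 : allD2 lk B KW KW F A RL R0 D26 2808 = true := by decide +kernel
def D27 : List (ℕ × Word × List (ℕ × Word) × Word) := [(5,[0,12,10,6,12,3],[(3446,[0,10,8,4,10]),(2273,[]),(2390,[10,14,2,11,6]),(805,[]),(780,[]),(788,[]),(11366,[9,3,3,6]),(11285,[]),(11244,[]),(11276,[])],[9,4,3,9]),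
  (1,[3,1,15,8],[(11666,[]),(2268,[])],[14,10,8,10]),
  (7,[0,16,11,11,6,3],[(3446,[0,14,9,9,4]),(2273,[]),(2486,[2,11,8,14,8]),(1316,[]),(1288,[]),(1284,[]),(11454,[2,2,0,3,7]),(11284,[])],[0,12,11,14]),
  (1,[2,13,4,3],[(11674,[]),(2272,[])],[9,4,15,0]),
  (5,[5,17,7,11,2],[(3406,[3,15,5,9]),(2272,[]),(2318,[3,6,13,14,12]),(728,[]),(732,[]),(729,[]),(732,[]),(728,[]),(11318,[12,12,4,0]),(11244,[]),(11276,[])],[0,15,7,0,2]),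
  (1,[3,15,11,2],[(11682,[]),(2272,[])],[4,4,4,2]),
  (4,[0,5,9,12,9,3,1],[(6370,[0,3,7,10,7]),(4217,[]),(6150,[4,9,4,13]),(1720,[]),(1673,[]),(1668,[]),(11542,[2,14,5,8,5]),(11244,[]),(11285,[])],[3,6,12,15,7]),
  (1,[3,4,15,10],[(11690,[]),(2272,[]),(2268,[])],[0,9,6,5,2]),
  (2,[4,7,16,16,12,2,1],[(3666,[2,5,14,14,10]),(2273,[]),(11630,[12,8,13,6]),(11284,[]),(11276,[])],[8,3,11,4]),
  (1,[3,5,8],[(11698,[]),(2273,[])],[0,8,11,3,9]),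
  (4,[7,4,14,12,2,1],[(3666,[5,2,12,10]),(2268,[]),(2566,[8,5,11,3]),(1308,[]),(1292,[]),(11462,[2,12,7,10,4]),(11276,[]),(11284,[]),(11276,[])],[12,4,4,4]),
  (1,[3,1,17,9,3],[(11706,[]),(2268,[])],[2,8,2,8]),
  (5,[11,17,11,16,2,1],[(3666,[9,15,9,14]),(2273,[]),(3418,[3,8,2,2]),(2272,[]),(11678,[6,6,9,5]),(11276,[]),(11244,[])],[9,13,4,4]),
  (1,[3,4,2,17,1],[(11714,[]),(2273,[])],[2,11,11,15,8]),
  (2,[5,17,6,11,15,3,1,3],[(2350,[3,15,4,9,13]),(728,[]),(732,[]),(728,[]),(11350,[0,6,10,6]),(11276,[]),(11244,[])],[2,8,12,5]),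
  (1,[3,12,5,3],[(11722,[]),(2272,[]),(2268,[])],[2,12,12,6]),
  (2,[14,4,8,15,3,1,3],[(2350,[12,2,6,13]),(729,[]),(732,[]),(728,[]),(728,[]),(11302,[0,2,6,6]),(11244,[]),(11276,[])],[13,6,12,7,12]),
  (1,[2,6,12],[(11730,[])],[6,9,10,8]),
  (3,[7,0,4,10,8,3,1,3],[(2350,[5,0,2,8,6]),(732,[]),(729,[]),(11326,[2,6,0,6,15]),(11284,[]),(11284,[]),(11244,[])],[2,15,0,11]),
  (1,[3,16,12],[(11738,[])],[11,11,14]),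
  (4,[7,4,6,13,16,3,1,3],[(2350,[5,2,4,11,14]),(728,[]),(728,[]),(2314,[0,11,7,2,15]),(2268,[]),(11694,[5,15,0,11]),(11276,[]),(11284,[]),(11276,[])],[3,7,12,15,13]),
  (1,[3,6,1,5],[(11746,[]),(2272,[])],[13,15,12,8]),
  (2,[0,8,14,12,3,1,2],[(4122,[0,6,12,10]),(2272,[]),(11662,[5,6,14,14]),(11276,[])],[2,13,13,0,2]),
  (1,[3,4,10,17,3],[(11754,[]),(2273,[])],[0,6,10,14,7]),
  (4,[4,7,16,11,11,3,1,2],[(4122,[2,5,14,9,9]),(2273,[]),(2268,[]),(3470,[3,11,9,6,2]),(2273,[]),(2268,[]),(11694,[2,14,12,4,2]),(11244,[])],[0,2,9,6,15]),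
  (1,[3,16,2,16],[(11762,[])],[14,10,12,8]),
  (2,[9,10,16,2,1,3],[(2502,[7,8,14]),(11422,[0,6,4,0,6]),(11284,[]),(11244,[])],[7,5,13,5,7]),
  (1,[3,5,15,3,10],[(11770,[])],[2,4,13,2,10]),
  (3,[0,14,8,5,9,2,1,3],[(2502,[0,12,6,3,7]),(11454,[4,11,12,4,13])],[2,2,8,6,2]),
  (1,[3,8,10,15,2],[(11778,[]),(2272,[])],[2,2,5,6,4]),
  (3,[5,0,6,17,10,2,1,3],[(2502,[3,0,4,15,8]),(1309,[]),(1288,[]),(11406,[3,10,13,11]),(11284,[]),(11276,[]),(11284,[])],[5,8,0,6,0]),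
  (1,[3,12,2,12],[(11786,[])],[14,6,0,6]),
  (2,[9,15,5,14,2,1,2],[(3218,[7,13,3,12]),(2272,[]),(11694,[5,8,0,6,14]),(11285,[])],[0,11,6,11,14]),
  (1,[3,4],[(11794,[]),(2272,[])],[7,2,4,13,4]),
  (4,[7,8,8,12,2,1,2],[(3218,[5,6,6,10]),(2268,[]),(3522,[2,0,11,6,3]),(2273,[]),(11630,[8,5,6,4]),(11244,[])],[2,12,7,10,4]),
  (1,[3,5,10,14],[(11802,[]),(2272,[]),(2268,[])],[7,14,6,9]),
  (5,[4,0,7,10,12,2,1,2],[(3218,[2,0,5,8,10]),(2273,[]),(2268,[]),(3426,[11,3,7,4]),(2273,[]),(2268,[]),(11742,[2,14,9,5]),(11284,[]),(11276,[])],[14,3,9]),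
  (1,[2,4],[(11810,[])],[10,4,4,4]),
  (6,[8,6,10,7,17,3,1,3,1],[(3430,[6,4,8,5,15]),(2272,[]),(2268,[]),(2470,[2,4,6,11,13]),(1309,[]),(1316,[]),(11406,[0,15,5,10,7]),(11284,[]),(11244,[]),(11285,[])],[0,7,0,12,14]),
  (1,[2,15,2,7],[(11818,[])],[5,10,8,0]),
  (3,[8,14,14,3,15,11,2],[(3534,[6,12,12]),(11622,[0,9,11,5,6]),(11284,[]),(11284,[])],[3,4,13,15]),
  (1,[3,1,3],[(11826,[]),(2272,[]),(2268,[])],[2,9,14,10,6]),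
  (7,[16,13,6,9,3,15,11,2],[(3534,[14,11,4,7]),(2273,[]),(3874,[15,2,13,3]),(2272,[]),(2268,[]),(11822,[11,6,13]),(11244,[]),(11285,[])],[11,6,5,11]),
  (1,[3,4,15,3,14],[(11834,[]),(2273,[])],[6,9,7,15]),
  (7,[0,16,7,0,14,3,15,11,2],[(3534,[0,14,5,0,12]),(2273,[]),(2268,[]),(3358,[0,6,2,0,5]),(1316,[]),(1308,[]),(1308,[]),(11406,[0,7,0,4,10]),(11244,[]),(11276,[])],[6,12,12,3,4]),
  (1,[3,1,13,6,2],[(11842,[])],[0,7,5,6,4]),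
  (4,[4,14,17,9,4,3,10,2,13],[(8554,[2,12,15,7,2]),(8342,[0,5,14,9,3]),(2268,[]),(11638,[13,3,12,15]),(11276,[]),(11244,[])],[14,8,13,13]),
  (1,[3,1,3,15,3],[(11850,[]),(2268,[])],[0,2,6,8,0]),
  (2,[4,0,11,17,10,3,1,3,1,3],[(3442,[2,0,9,15,8]),(2272,[]),(2268,[]),(11830,[4,2,13,14,6]),(11276,[]),(11284,[])],[2,4,2,2,9]),
  (1,[3,5,12,3],[(11858,[]),(2272,[])],[4,8,4,11,2]),
  (4,[7,10,9,0,3,1,3,1,3],[(3442,[5,8,7,0]),(2272,[]),(3366,[0,3,13,3,12]),(11710,[0,7,5,2,6]),(11284,[]),(11244,[]),(11285,[])],[0,9,15,10,15]),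
  (1,[3,1,3,8,4],[(11866,[]),(2273,[]),(2268,[])],[2,8,12,0,3]),
  (4,[0,6,4,17,10,3,1,3,1,3],[(3442,[0,4,2,15,8]),(2272,[]),(3762,[4,2,11,5]),(11814,[2,14,14,11,12]),(11244,[]),(11285,[])],[0,6,3,10]),
  (1,[3,1,3,15],[(11874,[]),(2268,[])],[4,4,10,3,12]),
  (7,[0,11,7,16,5,3,1,3,1,3],[(3442,[0,9,5,14,3]),(2273,[]),(2366,[5,2,6,13,3]),(785,[]),(11374,[9,6,10,9,0]),(11285,[]),(11244,[]),(11276,[])],[11,2,6,14]),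
  (1,[3,7,17,13],[(11882,[]),(2272,[]),(2268,[])],[0,3,10,3,11]),
  (7,[0,13,11,15,11,3,1,3,1,3],[(3442,[0,11,9,13,9]),(2272,[]),(2268,[]),(3422,[4,13,6,0]),(2268,[]),(11734,[0,14,8,5]),(11284,[]),(11276,[])],[2,12,12,10,4]),
  (1,[3,6],[(11890,[]),(2273,[])],[4,4,10,7,8]),
  (6,[10,9,0,9,16,3,15,11],[(7482,[8,7,0,7,14]),(4217,[]),(5878,[0,2,6,15,7]),(1672,[]),(1672,[]),(11502,[12,4,2,14]),(11285,[]),(11276,[])],[5,2,10,3,5]),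
  (1,[3,15,11],[(11898,[]),(2273,[])],[8,15,6,2]),
  (2,[11,12,17,5,3,15,11,3],[(2486,[9,10,15,3]),(1308,[]),(1308,[]),(11398,[0,5,0,8,2]),(11284,[]),(11284,[]),(11244,[])],[0,2,8,10,7]),
  (1,[3,1,3,7,4],[(11906,[]),(2272,[])],[4,13,14,14]),
  (4,[13,7,7,12,3,4,12,9],[(6418,[11,5,5,10]),(4598,[0,2,7,14,9]),(424,[]),(424,[]),(384,[]),(11262,[5,13,8,12]),(11244,[]),(11285,[])],[0,12,3,14,14]),
  (1,[3,11,7],[(11914,[]),(2273,[]),(2268,[])],[0,6,4,7,11]),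
  (7,[5,16,7,7,3,4,2,1],[(4006,[3,14,5,5]),(2273,[]),(3394,[0,3,8,10,13]),(189,[]),(184,[]),(11238,[0,7,8,8,4]),(11285,[])],[5,5,6,0]),
  (1,[3,6,11,2],[(11922,[]),(2273,[])],[11,2,4,11]),
  (6,[4,15,5,14,14,3,4,2,7],[(7922,[2,13,3,12,12]),(4216,[]),(7862,[0,7,14]),(2272,[]),(11814,[7,8,4,6]),(11284,[])],[9,15,15,12]),
  (1,[3,1,14,17],[(11930,[]),(2272,[])],[0,4,6,13,14]),
  (2,[0,6,4,4,13,2,4,3,9],[(3506,[0,4,2,2,11]),(11918,[3,0,3,11,6]),(11244,[])],[5,13,8,11]),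
  (1,[3,5,8,1],[(11938,[]),(2268,[])],[9,12,14,6]),
  (5,[8,14,6,2,4,3,9],[(3506,[6,12,4]),(2272,[]),(2654,[0,9,14,14,12]),(1668,[]),(11534,[6,6,0,15,12]),(11285,[]),(11244,[])],[8,4,11,12,9]),
  (1,[3,11,16,10],[(11946,[]),(2272,[])],[2,12,7,12,8]),
  (4,[0,6,16,7,5,2,17,14],[(11790,[0,4,14,5,3]),(11285,[]),(11244,[]),(11276,[]),(11330,[9,4,12]),(733,[]),(728,[]),(732,[]),(728,[]),(11334,[2,4,10,8,15])],[10,6,14,7]),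
  (1,[2,15,8,17],[(11954,[])],[2,9,2,2,10]),
  (6,[4,15,17,5,14,2,7,1,3],[(3690,[2,13,15,3,12]),(2272,[]),(2268,[]),(4106,[2,11,9]),(2268,[]),(11942,[7,0,7,5]),(11284,[]),(11276,[]),(11284,[])],[0,9,13,6]),
  (1,[3,5,12,2],[(11962,[]),(2268,[])],[0,5,6,8,13]),
  (6,[0,7,0,15,13,3,5,2,14,4],[(7322,[0,5,0,13,11]),(4216,[]),(8598,[5,10,8,6]),(2272,[]),(11638,[4,4,9,10,3]),(11284,[])],[0,10,4,6,4]),
  (1,[3,8,4,3,16],[(11970,[]),(2272,[]),(2268,[])],[3,12,12,14,6]),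
  (4,[11,9,16,16,2,6,3,7],[(2598,[9,7,14,14]),(1309,[]),(1284,[]),(1346,[2,14,6,15,15]),(728,[]),(733,[]),(729,[]),(11334,[5,2,8,14]),(11276,[]),(11244,[])],[9,2,7,12,14]),
  (1,[3,6,2,7],[(11978,[])],[0,10,14,10,6]),
  (4,[17,11,11,3,4,3],[(3358,[15,9,9]),(1502,[12,5,10,12]),(11462,[0,6,14,6,10]),(11244,[]),(11276,[]),(11244,[])],[5,2,4,7]),
  (1,[3,14,3],[(11986,[]),(2273,[])],[3,6,0,7,4]),
  (5,[0,12,15,6,15,2,16,2,8],[(4142,[0,10,13,4,13]),(425,[]),(384,[]),(998,[3,3,3,8,4]),(733,[]),(728,[]),(732,[]),(11334,[0,9,13,13,13]),(11244,[])],[2,2,10,8,0]),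
  (1,[3,8,17],[(11994,[]),(2273,[])],[7,12,2,10]),
  (5,[16,6,9,11,3,8,3,1,2],[(3418,[14,4,7,9]),(2273,[]),(2268,[]),(3950,[14,3,0,3]),(11798,[2,6,5,2,7]),(11284,[]),(11284,[])],[6,10,6,6]),
  (1,[2,4,11,2],[(12002,[]),(2272,[])],[8,12,15,3,11]),
  (7,[0,16,0,7,13,3,17,10,9],[(7578,[0,14,0,5,11]),(4216,[]),(5342,[3,10,2,12,6]),(1309,[]),(1284,[]),(11406,[10,8,12,3]),(11244,[]),(11285,[])],[0,5,9,6,0]),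
  (1,[3,15,12],[(12010,[]),(2273,[])],[5,5,2,9,3]),
  (7,[12,4,16,8],[(4214,[10,2,14,6]),(101,[]),(80,[]),(93,[]),(84,[]),(3486,[7,11,13,13,0]),(2273,[]),(11942,[3,15,13,13]),(11284,[])],[0,2,2,10,13]),
  (1,[3,15,12,2],[(12018,[])],[10,12,4,6]),
  (3,[7,14,16,3],[(4254,[5,12,14]),(189,[]),(184,[]),(11238,[5,5,0]),(11285,[])],[3,5,3,5,5]),
  (1,[3,4,3,14,3],[(12026,[])],[5,3,11,11]),
  (4,[5,12,7,0,11,3],[(4254,[3,10,5,0,9]),(212,[]),(212,[]),(212,[]),(1706,[0,7,0,10,14]),(1720,[]),(1672,[]),(1668,[]),(11598,[12,10,9,13]),(11284,[]),(11244,[]),(11285,[])],[2,2,14,13]),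
  (1,[2,12,3,1],[(12034,[]),(4216,[])],[2,4,12,3,14]),
  (4,[7,0,10,15,3],[(4254,[5,0,8,13]),(188,[]),(3990,[4,13,15,13]),(2273,[]),(2268,[]),(11734,[2,13,6,8,11]),(11276,[])],[4,10,7,10]),
  (1,[2,7,1],[(12042,[])],[7,12,3,5]),
  (5,[4,4,16,5,5,3],[(4254,[2,2,14,3,3]),(184,[]),(189,[]),(184,[]),(1754,[9,4,14,3]),(1668,[]),(1720,[]),(11526,[0,12,0]),(11276,[]),(11284,[])],[5,9,2,6,2]),
  (1,[3,12,3,12],[(12050,[]),(4216,[])],[2,5,15,15,6]),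
  (5,[11,13,5,5,3],[(4254,[9,11,3,3]),(188,[]),(185,[]),(1762,[2,9,0,12,12]),(1720,[]),(1673,[]),(11526,[6,6,9,9]),(11244,[]),(11276,[]),(11244,[])],[0,3,13,7,14]),
  (1,[3,9,6,9,3],[(12058,[]),(4217,[])],[8,5,11]),
  (5,[15,8,6,10,3],[(4254,[13,6,4,8]),(189,[]),(185,[]),(1514,[9,4,4,7]),(1309,[]),(1292,[]),(11406,[0,11,4,6,12]),(11284,[]),(11244,[])],[9,10,14]),
  (1,[3,7,17,3,14],[(12066,[]),(4216,[])],[8,3,9]),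
  (5,[6,17,0,5,3],[(4254,[4,15,0,3]),(212,[]),(212,[]),(3914,[3,12,9,13,6]),(2272,[]),(11822,[2,4,6,13,5]),(11284,[]),(11276,[]),(11284,[])],[0,3,7,0]),
  (1,[3,5,9,6,2],[(12074,[]),(4216,[])],[2,9,5,14,9]),
  (7,[4,11,15,10,4,3],[(4254,[2,9,13,8,2]),(188,[]),(188,[]),(185,[]),(3282,[5,3,11,13,4]),(2272,[]),(2268,[]),(11726,[2,15,4,11,3]),(11285,[]),(11244,[]),(11276,[])],[0,10,8,11]),
  (1,[3,1,3,13,17],[(12082,[]),(4216,[])],[0,10,12,10,7]),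
  (7,[5,0,6,0,6,3],[(4254,[3,0,4,0,4]),(212,[]),(212,[]),(188,[]),(184,[]),(3998,[14,0,9,6]),(2272,[]),(11894,[6,12,15,10,4]),(11284,[]),(11244,[]),(11285,[])],[2,12,5,3,12]),
  (1,[3,9,7],[(12090,[]),(4216,[])],[0,6,3,7,8])]
theorem hD27 : allD2 lk B KW KW F A RL R0 D27 2916 = true := by decide +kernel
def D28 : List (ℕ × Word × List (ℕ × Word) × Word) := [(5,[4,9,6,15,5,2],[(8978,[2,7,4,13,3]),(4217,[]),(8934,[5,0,5,12]),(4216,[]),(12070,[4,13,15,5,3]),(11276,[])],[0,14,3,13,3]),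
  (1,[3,9,3],[(12098,[])],[10,3,5,6]),
  (5,[6,15,4,10,14,2],[(8978,[4,13,2,8,12]),(4216,[]),(9998,[2,10,12,5,3]),(12054,[2,5,15,15,15]),(11284,[])],[7,10,2,2]),
  (1,[3,5,15,16],[(12106,[]),(4216,[])],[12,15,15,2]),
  (6,[12,12,11,2],[(8978,[10,10,9]),(4217,[]),(8558,[2,0,5,3,14]),(2272,[]),(2268,[]),(11966,[4,15,12,11,13]),(11244,[]),(11276,[]),(11244,[])],[0,2,10,6,0]),
  (1,[3,4,3,1,2],[(12114,[]),(4217,[])],[4,4,7,15]),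
  (7,[9,14,8,10,2],[(8978,[7,12,6,8]),(4217,[]),(6838,[13,13,7,13,6]),(11654,[0,3,4,9,10]),(11284,[]),(11284,[]),(11244,[])],[0,10,3,4,4]),
  (1,[2,7],[(12122,[]),(4217,[])],[6,8,5,10]),
  (2,[0,8,6,4,15,3,1],[(5014,[0,6,4,2,13]),(1308,[]),(1284,[]),(11446,[0,8,14]),(11284,[]),(11244,[]),(11285,[])],[0,12,12,2,7]),
  (1,[3,6,13,10],[(12130,[])],[0,2,0,9,15,13]),
  (3,[0,5,5,8,10,3,1],[(5014,[0,3,3,6,8]),(1316,[]),(1308,[]),(1308,[]),(11462,[4,9,7,2,6]),(11285,[]),(11244,[])],[0,10,14,0,9]),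
  (1,[3,5,16,2],[(12138,[])],[0,7,13,6,10]),
  (3,[14,12,17,3,1],[(5014,[12,10,15]),(1316,[]),(11470,[9,6,0,7,3])],[5,5,10,8]),
  (1,[3,4,2,7],[(12146,[])],[2,2,10,9,12]),
  (5,[8,5,7,15,11,3,1],[(5014,[6,3,5,13,9]),(1308,[]),(1288,[]),(1298,[3,8,13,15]),(393,[]),(385,[]),(11294,[0,5,14,11,13]),(11244,[]),(11276,[])],[0,14,10,12,2]),
  (1,[2,7,1,3],[(12154,[])],[0,4,3,10,3]),
  (6,[16,0,9,15,3,1],[(5014,[14,0,7,13]),(1308,[]),(1308,[]),(2474,[15,2,5]),(2272,[]),(2268,[]),(11942,[8,0,4,8]),(11285,[]),(11244,[])],[4,3,7,3,8]),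
  (1,[3,4,12,9],[(12162,[]),(4216,[])],[14,7,12,2]),
  (6,[5,6,6,12,15,3,1],[(5014,[3,4,4,10,13]),(1316,[]),(1308,[]),(1308,[]),(5266,[5,12,11,6,4]),(12086,[15,6,4,10]),(11285,[]),(11244,[]),(11276,[])],[0,6,14]),
  (1,[3,1,2,1,2],[(12170,[])],[10,6,5,13]),
  (7,[4,16,5,16,16,3,1],[(5014,[2,14,3,14,14]),(1309,[]),(2610,[0,10,4,9,7]),(2268,[]),(11910,[0,14,5,8]),(11244,[]),(11276,[])],[0,2,13,15,8]),
  (1,[3,6,10,2,17],[(12178,[]),(4216,[])],[0,8,14,0,4]),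
  (3,[7,4,10,2,1],[(10890,[5,2,8]),(4216,[]),(12062,[0,5,15,15,2]),(11244,[]),(11276,[])],[2,7,3,12,10]),
  (1,[3,1,16,3,9],[(12186,[]),(4216,[])],[7,11,7,13,9]),
  (4,[0,11,5,11,4,2,1],[(10890,[0,9,3,9,2]),(4217,[]),(8326,[5,5,8]),(2272,[]),(11646,[2,10,15,7,4]),(11284,[]),(11276,[])],[0,3,7,3,15]),
  (1,[3],[(12194,[]),(4217,[])],[8,5,15,3]),
  (4,[6,12,17,15,2,1],[(10890,[4,10,15,13]),(4217,[]),(4750,[6,13,13,7]),(733,[]),(728,[]),(732,[]),(11326,[7,11,11,15]),(11284,[]),(11244,[])],[0,8,7,3]),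
  (1,[3,1,8,17],[(12202,[]),(4216,[])],[14,2,14,5]),
  (5,[8,0,10,5,2,1],[(10890,[6,0,8,3]),(4742,[7,2,2,8,3]),(733,[]),(729,[]),(732,[]),(728,[]),(11326,[3,6,13,10,3]),(11276,[]),(11284,[]),(11276,[])],[0,10,9,10,15]),
  (1,[3,8,15,3],[(12210,[]),(4216,[])],[9,6,14,13]),
  (5,[6,8,13,6,9,3,1,3],[(8874,[4,6,11,4,7]),(5030,[0,14,10,2,0]),(1288,[]),(11390,[8,6,5,15,11]),(11276,[])],[8,2,7,15,6]),
  (1,[3,11,2,8],[(12218,[]),(4217,[])],[3,10,8,4]),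
  (6,[10,17,8,11,3,1,3],[(8874,[8,15,6,9]),(4217,[]),(10938,[7,12,8,4]),(4217,[]),(12070,[5,15,8,5]),(11244,[]),(11276,[]),(11244,[])],[0,2,5,3,7]),
  (1,[3,5,6,3,11],[(12226,[])],[8,5,0,8,15]),
  (6,[0,6,16,9,6,3,1,3],[(8874,[0,4,14,7,4]),(8302,[11,2,2,14]),(11678,[3,11,12,6,12]),(11284,[]),(11244,[]),(11285,[])],[0,4,2,6]),
  (1,[3,5,3,12,8],[(12234,[]),(4217,[])],[11,3,8]),
  (6,[0,11,17,9,17,3,1,3],[(8874,[0,9,15,7,15]),(4217,[]),(9178,[0,9,0,9,11]),(12062,[0,4,7,11,9]),(11244,[]),(11285,[])],[0,10,8,4]),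
  (1,[3,4,2,1],[(12242,[]),(4217,[])],[0,11,4,4,8]),
  (3,[5,14,10,0,3,1,2],[(7326,[3,12,8,0]),(2272,[]),(2268,[]),(11638,[5,6,6,8,3]),(11244,[])],[4,3,6,5]),
  (1,[3,11,11],[(12250,[]),(4217,[])],[0,13,2,12,0]),
  (5,[13,17,10,3,1,2],[(7326,[11,15,8]),(2272,[]),(3478,[8,3,14,5]),(12014,[7,13,13,11]),(11285,[]),(11244,[]),(11276,[])],[3,7,15,8,11]),
  (1,[3,1,3,1,13],[(12258,[])],[2,12,5,9,11]),
  (5,[9,7,15,11,2,1,3],[(12150,[7,5,13,9]),(11284,[]),(11284,[]),(11402,[8,5,13,7]),(1309,[]),(11462,[10,4,13,0]),(11276,[]),(11284,[]),(11276,[])],[2,0,2,12,6]),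
  (1,[3,5,12,2,6],[(12266,[])],[12,10,15,10]),
  (6,[15,13,4,12,2,1,3],[(12150,[13,11,2,10]),(11276,[]),(12114,[2,2,11,12,7]),(4216,[]),(12182,[6,11,14,8,2]),(11276,[])],[6,0,10,7]),
  (1,[3,7,2,6],[(12274,[]),(4217,[])],[2,6,3,14,7]),
  (6,[4,6,4,16,2,1,3],[(12150,[2,4,2,14]),(11284,[]),(11244,[]),(12130,[4,15,7,8,14]),(4217,[]),(12118,[3,0,6,0,12]),(11244,[]),(11276,[]),(11244,[])],[2,4,14,3]),
  (1,[2,6,17,13],[(12282,[])],[4,9,11,15,2]),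
  (7,[6,8,16,0,2,1,3],[(12150,[4,6,14,0]),(11285,[]),(11244,[]),(12130,[2,10,9,6,4]),(4217,[]),(12166,[0,6,11,4,6]),(11276,[]),(11244,[])],[8,4,12]),
  (1,[2,11,14,2],[(12290,[]),(4217,[])],[3,12,11,4,12]),
  (4,[0,5,11,8,12,2,1,2],[(8854,[0,3,9,6,10]),(4217,[]),(10838,[13,2,5,9]),(4216,[]),(12086,[0,15,15,6,13]),(11244,[]),(11276,[]),(11244,[])],[6,12,3,7]),
  (1,[3,1,17,7],[(12298,[]),(4216,[])],[2,15,7,4,6]),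
  (6,[0,9,17,10,2,1,2],[(8854,[0,7,15,8]),(9722,[2,8,14,12,6]),(4217,[]),(12190,[2,14,2,15]),(11244,[])],[7,4,0,7]),
  (1,[3,5,2,1,7],[(12306,[]),(4217,[])],[5,15,9,6,14]),
  (7,[17,0,17,5,2,1,2],[(8854,[15,0,15,3]),(11174,[0,11,6,14,10]),(12150,[0,9,14,14,8]),(11276,[]),(11284,[]),(11276,[])],[15,4,0,15]),
  (1,[3,4,14,3,12],[(12314,[]),(4217,[])],[0,6,0,3]),
  (5,[10,16,9,7,3,1,3,1],[(9702,[8,14,7,5]),(6222,[0,2,10,8,6]),(1720,[]),(1668,[]),(11606,[14,13,5,10]),(11285,[]),(11244,[])],[2,6,5,6,14]),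
  (1,[3,1,2,12,3],[(12322,[])],[6,8,5,10,14]),
  (6,[5,12,4,6,15,3,1,3,1],[(9702,[3,10,2,4,13]),(4216,[]),(7662,[7,5,15]),(2273,[]),(11726,[9,6,13,10])],[12,2,15,15]),
  (1,[2,16,9],[(12330,[]),(4217,[])],[0,5,7,10,13]),
  (7,[8,8,11,5,3,1,3,1],[(9702,[6,6,9,3]),(4217,[]),(9154,[4,9,7,8,3]),(4216,[]),(12278,[11,12,4,3]),(11276,[]),(11284,[])],[2,13,2,11,15]),
  (1,[3,11,11,3],[(12338,[]),(4217,[])],[3,9,15,4]),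
  (4,[5,9,11,12,3,1,2,1],[(9942,[3,7,9,10]),(8174,[0,3,0,15,6]),(2268,[]),(11998,[3,15,11,2,12]),(11285,[])],[2,5,14,0,6]),
  (1,[2,1,2],[(12346,[]),(4216,[])],[7,8,6,15,3]),
  (4,[0,11,4,14,5,3,10,2,13],[(9478,[0,9,2,12,3]),(4217,[]),(5246,[5,7,2,13]),(1309,[]),(1284,[]),(11390,[2,5,6,4,3]),(11284,[])],[15,7,8,10]),
  (1,[2,6,1,11],[(12354,[])],[2,2,12,11,2]),
  (6,[12,10,13,11,3,10,2,13],[(9478,[10,8,11,9]),(7366,[4,3,3,5,3]),(2273,[]),(2268,[]),(11974,[0,5,14,6,9]),(11284,[]),(11276,[])],[0,5,2,8,0]),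
  (1,[2,4,11],[(12362,[])],[2,5,0,6]),
  (2,[5,13,4,17,4,3,1,3,1,3],[(7622,[3,11,2,15,2]),(11998,[8,4,12,10]),(11285,[]),(11244,[])],[2,7,2,4,12]),
  (1,[3,8,1,12,2],[(12370,[])],[8,7]),
  (6,[0,13,16,14,12,3,1,3,1,3],[(7622,[0,11,14,12,10]),(2272,[]),(2268,[]),(2910,[2,10,10,10,5]),(11558,[0,11,12,6,8]),(11244,[]),(11276,[]),(11244,[])],[0,7,4,0,7]),
  (1,[2,8,3,16],[(12378,[])],[3,14,9,5]),
  (3,[6,6,6,16,8,3,1,3,1,2],[(10538,[4,4,4,14,6]),(4217,[]),(12286,[2,8,8,8,10]),(11284,[]),(11244,[])],[2,0,3,6,14]),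
  (1,[3,15,2,5,3],[(12386,[])],[0,15,9,0,11]),
  (4,[0,12,12,5,3,1,3,1,2],[(10538,[0,10,10,3]),(9686,[3,3,15,9]),(4216,[]),(12118,[15,7,15,10]),(11276,[]),(11284,[]),(11276,[])],[2,6,13,7,4]),
  (1,[3,7,4,2,8],[(12394,[]),(4216,[])],[0,4,9,14,14]),
  (4,[9,15,11,12,3,1,3,1,2],[(10538,[7,13,9,10]),(4217,[]),(10414,[13,11,14,3]),(4216,[]),(12022,[0,15,10,3,0]),(11244,[]),(11276,[]),(11244,[])],[0,4,8,13,4]),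
  (1,[3,1,3,1],[(12402,[])],[9,4,7,2]),
  (7,[7,13,7,9,16,3,1,3,1,2],[(10538,[5,11,5,7,14]),(4217,[]),(8478,[5,7,10,3,14]),(2272,[]),(11822,[3,0,8,12,7]),(11285,[]),(11276,[])],[4,10,3,9,13]),
  (1,[3,1,7,2],[(12410,[]),(4216,[])],[3,9,9,2,2]),
  (5,[12,8,4,7,3,1,2,1,3],[(10086,[10,6,2,5]),(4217,[]),(6366,[8,11,3,6]),(2268,[]),(11710,[8,3,11]),(11284,[]),(11244,[]),(11285,[])],[0,7,5,9,6]),
  (1,[3,1],[(12418,[]),(4217,[])],[5,9,11,6]),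
  (6,[4,13,16,0,17,3,1,2,1,3],[(10086,[2,11,14,0,15]),(4216,[]),(10846,[3,0,8,12,14]),(4216,[]),(12030,[14,8,5,11]),(11284,[]),(11276,[])],[6,13,11,14]),
  (1,[3,13,14,17],[(12426,[]),(4216,[])],[0,5,14,7,2]),
  (6,[7,17,11,14,3,15,11,3],[(8694,[5,15,9,12]),(6014,[0,5,2,9]),(1672,[]),(1672,[]),(1668,[]),(11566,[13,10,7,8]),(11276,[]),(11284,[]),(11276,[])],[6,5,9,4]),
  (1,[2,15,7,2],[(12434,[]),(4217,[])],[4,0,12,3]),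
  (3,[11,13,5,9,3,4,12,9],[(8774,[9,11,3,7]),(4217,[]),(12382,[0,6,10,12,14]),(11244,[])],[11,12,9,11]),
  (1,[3,13,2,9,11],[(12442,[]),(4216,[])],[0,8,8,13,10]),
  (4,[0,17,11,0,9,3,4,12,9],[(8774,[0,15,9,0,7]),(4217,[]),(8698,[2,7,2,11,4]),(4217,[]),(12142,[8,7,12,10]),(11276,[]),(11244,[])],[0,9,12,15,10]),
  (1,[3,1,9,7,3],[(12450,[])],[5,11,9,12]),
  (4,[9,14,11,8,14,3,4,2,1],[(8986,[7,12,9,6,12]),(4217,[]),(6294,[3,11,8,0,14]),(2273,[]),(2268,[]),(11990,[7,13,7,4]),(11285,[]),(11276,[])],[0,6,5,14,4]),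
  (1,[3,7,4,2,1],[(12458,[])],[3,6,5,8,3]),
  (7,[11,8,10,3,4,2,1],[(8986,[9,6,8]),(4216,[]),(8778,[3,15,3,10]),(4216,[]),(12118,[3,7,14,6,14]),(11285,[])],[2,15,12,6]),
  (1,[3,11,2,6,5],[(12466,[]),(4216,[])],[8,4,7,15]),
  (7,[0,13,17,13,13,2,4,3,9],[(7294,[0,11,15,11,11]),(2273,[]),(8546,[14,5]),(12374,[0,9,4,0,9]),(11284,[]),(11284,[]),(11244,[])],[2,14,10,9]),
  (1,[3,13,11,11],[(12474,[]),(4217,[])],[3,15,7,13,3]),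
  (7,[0,8,4,17,5,2,4,3,9],[(7294,[0,6,2,15,3]),(2273,[]),(4034,[0,7,4,8]),(732,[]),(728,[]),(732,[]),(11342,[0,9,4,9,14]),(11276,[]),(11284,[]),(11276,[])],[5,6,2,0,14]),
  (1,[3,8,3,1,2],[(12482,[])],[3,5,15,2]),
  (7,[14,6,9,15,3,16,2,14],[(9186,[12,4,7,13]),(4216,[]),(10326,[5,8,2,8]),(4217,[]),(12422,[8,0,2]),(11284,[]),(11276,[])],[4,8,3,4]),
  (1,[3,9,9,3],[(12490,[]),(4216,[])],[2,7,8,12,3]),
  (2,[0,12,16,8,16,2,17,14],[(6534,[0,10,14,6,14]),(11918,[6,6,10,3]),(11276,[])],[9,11,15,8]),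
  (1,[3,6,11,3,1],[(12498,[])],[0,4,7,15,6]),
  (4,[6,13,7,9,4,2,17,14],[(6534,[4,11,5,7,2]),(2273,[]),(2678,[0,13,15,12,15]),(1672,[]),(11526,[10,6,0]),(11244,[]),(11285,[])],[0,5,12,15,3]),
  (1,[3,4,3,17],[(12506,[]),(4217,[])],[3,3,10,8,3]),
  (4,[17,13,11,16,3,7,14,3,8],[(4222,[15,11,9,14]),(136,[]),(160,[]),(136,[]),(133,[]),(4198,[5,5,13,6,3]),(2272,[]),(2268,[]),(11726,[0,3,11,5,6]),(11276,[]),(11284,[])],[3,15,0,8,8]),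
  (1,[3,1,3,1,3],[(12514,[])],[5,6,13,13,11]),
  (6,[9,10,9,13,3,5,8,11],[(9206,[7,8,7,11]),(4217,[]),(8646,[0,3,6]),(11638,[0,7,10,4,4]),(11285,[]),(11276,[])],[4,15,3,5,2]),
  (1,[3,14,9],[(12522,[]),(4217,[])],[2,6,13,11,14])]
theorem hD28 : allD2 lk B KW KW F A RL R0 D28 3024 = true := by decide +kernel
def D29 : List (ℕ × Word × List (ℕ × Word) × Word) := [(7,[7,10,5,5,7,3,5,8,11],[(9206,[5,8,3,3,5]),(4217,[]),(5070,[3,3,3,6,4]),(1316,[]),(1308,[]),(1284,[]),(11422,[2,11,12,9]),(11276,[]),(11244,[])],[0,4,14,14,8]),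
  (1,[2,4,8,15],[(12530,[]),(4217,[])],[10,9,11,13]),
  (4,[0,12,15,17,6,3,4,2],[(10790,[0,10,13,15,4]),(4217,[]),(6558,[5,2,4,10,9]),(11718,[5,3,14,14,3]),(11244,[]),(11276,[]),(11244,[])],[4,0,7,3,15]),
  (1,[3,4,3,6,11],[(12538,[]),(4216,[])],[5,2,4]),
  (5,[4,9,4,6,6,3,16,2,16],[(9930,[2,7,2,4,4]),(4710,[0,11,11,9,10]),(729,[]),(11342,[5,7,12,7,15]),(11244,[])],[10,9,0,2]),
  (1,[2,16,2,8],[(12546,[]),(4217,[])],[0,14,4,10,9]),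
  (7,[17,7,8,10,3,16,2,16],[(9930,[15,5,6,8]),(10226,[0,8,2,11,8]),(4216,[]),(12446,[4,10,9,13,6]),(11276,[])],[0,12,15,8,2]),
  (1,[3,1,3,15,5],[(12554,[])],[6,14,6,5]),
  (5,[4,10,14,6,8,3,7,17,3,14],[(4382,[2,8,12,4,6]),(213,[]),(213,[]),(185,[]),(4362,[4,7,13,11,15]),(4216,[]),(12230,[13,10,12,8])],[2,14,10,5,10]),
  (1,[3,1,10,2,15],[(12562,[]),(4217,[])],[0,14,12,6,15]),
  (6,[0,10,17,0,5,3,7,2,16,11],[(12086,[0,8,15,0,3]),(11284,[]),(11276,[]),(12210,[5,6,6,10,9]),(12102,[8,11,12]),(11285,[]),(11276,[])],[2,11,13,13]),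
  (1,[3,15,11,3],[(12570,[]),(4216,[])],[5,15,2,4,11]),
  (4,[7,14,14,5,2,6,1,11],[(9578,[5,12,12,3]),(9598,[6,4,3]),(4216,[]),(12142,[3,5,2,12,15]),(11244,[]),(11276,[])],[0,14,7,0,15]),
  (1,[3,5,1,7],[(12578,[]),(4217,[])],[0,8,7,2,8]),
  (5,[10,16,0,9,2,6,1,11],[(9578,[8,14,0,7]),(4217,[]),(8974,[0,7,15,7,12]),(4217,[]),(12534,[9,15,13,0]),(11244,[])],[12,12,8]),
  (1,[3,13,2,9],[(12586,[]),(4217,[])],[6,12,3,5,10]),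
  (5,[0,6,16,10,7,2,7,1],[(8766,[0,4,14,8,5]),(132,[]),(132,[]),(318,[4,7,8,4,0]),(188,[]),(185,[]),(11254,[6,14,11,3]),(11285,[]),(11244,[]),(11276,[])],[0,9,10,10,6]),
  (1,[3,4,11,8,2],[(12594,[])],[5,5,7]),
  (7,[7,0,15,12,2,7,1],[(8766,[5,0,13,10]),(132,[]),(136,[]),(160,[]),(2170,[3,7,8,14,13]),(1672,[]),(1668,[]),(11494,[15,3,6,4]),(11285,[])],[0,2,12,3,6]),
  (1,[3,5,14],[(12602,[]),(4216,[])],[10,15,9]),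
  (5,[5,0,13,6,3,5,2,14,4],[(8502,[3,0,11,4]),(2272,[]),(3494,[4,10,14,4]),(2272,[]),(11790,[5,3,8,12,2]),(11284,[]),(11284,[])],[2,9,13,11,13]),
  (1,[3,9,15,10],[(12610,[])],[2,2,2,7,4]),
  (6,[4,0,6,11,3,4,3],[(10710,[2,0,4,9]),(4216,[]),(7070,[2,13,13,4]),(2272,[]),(2268,[]),(11918,[3,10,3,9,6]),(11276,[]),(11284,[]),(11276,[])],[0,11,12,15,8]),
  (1,[2,7,3],[(12618,[])],[3,12,9,0,4]),
  (6,[6,13,4,11,3,4,3,14,3],[(10130,[4,11,2,9]),(4217,[]),(5518,[2,7,3,6,0]),(1672,[]),(1672,[]),(11550,[9,3,6,14]),(11284,[]),(11284,[]),(11244,[])],[6,3,14,7,9]),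
  (1,[3,1,3,15,2],[(12626,[]),(4216,[])],[14,6,3,0]),
  (5,[15,15,0,4,2,16,2,8],[(12446,[13,13,0,2]),(11284,[]),(11284,[]),(12154,[7,14,13,9]),(4216,[]),(12534,[5,3,7,8]),(11244,[]),(11285,[])],[0,6,15,15,2]),
  (1,[3,1,11,2,9],[(12634,[])],[3,15,5]),
  (4,[12,17,15,6,3,5,9,6,3],[(5702,[10,15,13,4]),(1668,[]),(5634,[2,8,11,5,7]),(12542,[9,6,6,3]),(11284,[]),(11244,[])],[0,4,15,8]),
  (1,[2,4,11,3],[(12642,[]),(4216,[])],[0,10,9,15,5]),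
  (7,[0,15,17,4,3,5,9,6,3],[(5702,[0,13,15,2]),(1720,[]),(1886,[6,9,13,0,15]),(728,[]),(733,[]),(11326,[0,13,11,2,14]),(11276,[]),(11244,[])],[3,10,9,4,8]),
  (1,[3,5,8,11],[(12650,[]),(4216,[])],[3,13,10,13,3]),
  (7,[4,11,11,15,12,3,1,3,12,9],[(6350,[2,9,9,13,10]),(2272,[]),(3030,[0,5,12,4,6]),(1668,[]),(1720,[]),(11534,[0,8,7,4,12]),(11285,[]),(11244,[]),(11276,[])],[5,7,14,0,12]),
  (1,[3,4,6,3,16],[(12658,[]),(4217,[])],[0,9,5,9,12]),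
  (6,[6,0,10,15,3,6,2,7],[(10146,[4,0,8,13]),(4216,[]),(4694,[0,5,7,3,8]),(729,[]),(11350,[4,15,9,9]),(11285,[]),(11244,[])],[3,10,6,5]),
  (1,[3,1,15,12,3],[(12666,[]),(4216,[])],[0,9,11,15,5]),
  (2,[11,6,16,16,3,4,3,14],[(10186,[9,4,14,14]),(12214,[2,8,0,7,9]),(11244,[]),(11276,[])],[0,8,3,15,9]),
  (1,[3,4,17,13],[(12674,[])],[3,11,8,8,4]),
  (7,[11,8,12,3,1,8,17,3],[(8214,[9,6,10]),(2273,[]),(2268,[]),(3886,[2,6,15,15,2]),(2272,[]),(2268,[]),(11934,[0,7,15,12,14]),(11285,[]),(11244,[])],[0,13,9,9,4]),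
  (1,[3,6,10,4],[(12682,[]),(4216,[])],[2,15,12,11]),
  (2,[0,8,16,14,5,2,7,3],[(4438,[0,6,14,12,3]),(189,[]),(184,[]),(11254,[2,14,13,11])],[0,5,7,2,15]),
  (1,[3,1,2,1,3],[(12690,[])],[0,15,7,10,13]),
  (4,[8,16,9,17,9,2,5,3,6],[(9882,[6,14,7,15,7]),(11002,[0,8,6,8]),(12598,[13,15,7,2]),(11284,[]),(11276,[]),(11284,[])],[0,8,7,2,14]),
  (1,[3,5,8,1,2],[(12698,[])],[4,8,6,3,10]),
  (2,[5,15,15,10,0],[(11242,[3,13,13,8,0]),(213,[]),(185,[]),(11254,[12,14,7,15]),(11284,[]),(11284,[])],[4,0,2,13,8]),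
  (4,[0,9,15,5],[(11242,[0,7,13,3]),(189,[]),(213,[]),(189,[]),(3998,[3,0,2,14,5]),(2273,[]),(2268,[]),(11838,[0,11,2,4])],[0,12,4,11]),
  (4,[4,8,10,15,6],[(11242,[2,6,8,13,4]),(213,[]),(185,[]),(4250,[0,10,12,0,9]),(12486,[3,3,10,14,2]),(11285,[]),(11244,[]),(11276,[])],[11,3,9]),
  (4,[15,8,5,16],[(11242,[13,6,3,14]),(188,[]),(188,[]),(185,[]),(4434,[0,3,15,5,2]),(12686,[2,14,5,5,8]),(11244,[]),(11276,[]),(11244,[])],[0,10,8,6,10]),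
  (1,[3,4,8,10],[(12718,[]),(11285,[])],[2,4,9,12,4]),
  (4,[15,12,8,17],[(11242,[13,10,6,15]),(189,[]),(3774,[10,4,15,0]),(2268,[]),(11998,[15,15]),(11276,[]),(11284,[]),(11276,[])],[3,7,8,13,8]),
  (1,[3,4,3,14],[(12726,[]),(11284,[]),(11284,[])],[3,3,9,15,15]),
  (4,[10,13,11,14],[(11242,[8,11,9,12]),(184,[]),(1590,[3,14,6,15,13]),(1309,[]),(1288,[]),(11390,[3,0,3,14]),(11284,[])],[5,10,13,14,13]),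
  (4,[4,10,15,5],[(11242,[2,8,13,3]),(212,[]),(3914,[6,3,9]),(2273,[]),(2268,[]),(11646,[0,4,4,13,9]),(11285,[])],[6,0,10,10,9]),
  (1,[3,8,17,2],[(12738,[]),(11285,[]),(11244,[]),(11276,[])],[15,4,12,4]),
  (4,[12,5,17],[(11242,[10,3,15]),(189,[]),(213,[]),(189,[]),(4450,[7,5,12,10]),(4217,[]),(12286,[0,2,8,13]),(11276,[]),(11284,[])],[7,14,5,2,9]),
  (5,[0,5,15,6],[(11242,[0,3,13,4]),(184,[]),(189,[]),(4386,[15,10,13]),(4216,[]),(11070,[5,9,0,14]),(160,[]),(137,[]),(132,[]),(132,[])],[0,13,7,8,13]),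
  (1,[3,5,9,6],[(12750,[]),(11244,[])],[7,0,11,5]),
  (5,[0,8,11,13,7],[(11242,[0,6,9,11,5]),(212,[]),(189,[]),(1754,[0,2,2,9,13]),(11558,[0,12,12,4,15]),(11284,[]),(11276,[]),(11284,[])],[0,15,2,13,0]),
  (5,[0,5,5,12,17],[(11242,[0,3,3,10,15]),(188,[]),(188,[]),(3982,[13,11,3,3]),(2273,[]),(2268,[]),(11918,[0,15,9,11,13]),(11285,[])],[2,6,14,12,6]),
  (1,[3,1,8,10],[(12762,[]),(11244,[]),(11276,[])],[0,6,13,3,10]),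
  (6,[11,8,15,6],[(11242,[9,6,13,4]),(212,[]),(442,[0,2,13,4,12]),(424,[]),(392,[]),(384,[]),(11270,[9,14,6,8]),(11244,[]),(11276,[])],[6,11,2,9,13]),
  (1,[2,6,3,7],[(12770,[]),(11285,[])],[4,8,6,2,15]),
  (2,[7,12,11,4,3],[(12194,[5,10,9,2]),(12230,[5,0,12,8]),(11276,[]),(11244,[])],[0,11,4,4,8]),
  (4,[0,4,17,17,8,3],[(12194,[0,2,15,15,6]),(8982,[6,12,5,11]),(4217,[]),(12222,[5,14,6,6,14]),(11244,[]),(11285,[])],[4,0,6,12,3]),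
  (4,[0,10,15,3],[(12194,[0,8,13]),(5118,[8,5,9,6]),(1292,[]),(1288,[]),(11390,[2,12,4,12]),(11276,[])],[5,10,13,14]),
  (5,[5,11,5,17,13,3],[(12194,[3,9,3,15,11]),(8726,[5,9,14,7]),(4422,[2,2,7,3,6]),(213,[])],[9,14,4,14]),
  (1,[3,4,3,14,3],[(12790,[]),(11244,[])],[0,7,2,4]),
  (5,[9,17,11,15,16,3],[(12194,[7,15,9,13,14]),(4217,[]),(9238,[0,6,2,0,5]),(4217,[]),(12222,[0,9,10,9,12]),(11284,[]),(11244,[])],[3,11,2,2]),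
  (5,[0,17,17,12,6,3],[(12194,[0,15,15,10,4]),(4216,[]),(10538,[15,10,15,12]),(4216,[]),(9894,[2,11,6,12,2]),(161,[]),(132,[]),(136,[])],[0,6,0,7,8]),
  (1,[3],[(12802,[]),(11285,[]),(11244,[]),(11276,[])],[2,10,9,7,12]),
  (6,[0,14,4,14,11,3],[(12194,[0,12,2,12,9]),(4216,[]),(9982,[7,0,12,2,13]),(4216,[]),(12414,[9,13,13,14]),(11244,[]),(11276,[])],[0,3,13,10,6]),
  (6,[9,16,11,16,3],[(12194,[7,14,9,14]),(4217,[]),(12078,[12,8,11,14]),(11284,[]),(11244,[]),(12730,[2,10,2,4,9]),(11276,[]),(11244,[])],[3,12,4,11,9]),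
  (2,[16,7,10,7,2],[(12714,[14,5,8,5]),(11285,[]),(11244,[]),(12714,[10,2,7,10])],[13,14,5,5]),
  (4,[4,14,16,15,13,2],[(12714,[2,12,14,13,11]),(11276,[]),(12562,[0,11,4,2,9]),(12054,[6,5,6,15])],[14,3,12,12]),
  (5,[0,8,7,11,13,2],[(12714,[0,6,5,9,11]),(11285,[]),(11244,[]),(11276,[]),(12746,[13,11,14,6]),(11285,[]),(11244,[]),(12738,[6,4,11,3]),(11244,[]),(11276,[])],[0,2,12,11,9]),
  (7,[4,4,8,8,5,2],[(12714,[2,2,6,6,3]),(11244,[]),(12450,[9,10,5,11]),(4216,[]),(12534,[8,3,7,8]),(11244,[])],[3,7,4,7]),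
  (7,[7,7,15,12,17,2],[(12714,[5,5,13,10,15]),(11284,[]),(11276,[]),(11284,[]),(11330,[12,12,2,15]),(732,[]),(729,[]),(732,[]),(728,[]),(11326,[2,12,7,15,13]),(11284,[]),(11284,[])],[2,12,10,15]),
  (3,[14,8,6,9,3,1],[(12418,[12,6,4,7]),(4217,[]),(12182,[3,3,0,6,11]),(11285,[])],[0,11,8,12]),
  (7,[0,10,9,17,14,3,1],[(12418,[0,8,7,15,12]),(4216,[]),(10846,[6,5,12,2,7]),(4217,[]),(12422,[9,0,12,12]),(11285,[])],[2,0,5,5,5]),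
  (3,[12,8,0,17,3,1,3],[(11826,[10,6,0,15]),(11830,[2,7,14,9])],[0,4,11,5,10]),
  (5,[0,13,6,8,12,2,1,2],[(12346,[0,11,4,6,10]),(7902,[0,13,3,13,8]),(2273,[]),(11654,[4,12,2,4]),(11244,[])],[2,10,12,0,5]),
  (5,[5,14,16,0,17,2,1,2],[(12346,[3,12,14,0,15]),(4216,[]),(7230,[5,9,5,10]),(2272,[]),(12014,[2,0,14,12]),(11284,[]),(11244,[]),(11285,[])],[5,14,9,14,7]),
  (100,[],[],[]),
  (1,[3,4,3],[(12858,[])],[]),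
  (5,[13,6,0,6,2],[(142,[11,4,0,4]),(100,[]),(72,[]),(346,[2,0,6,12,8]),(133,[]),(136,[]),(136,[]),(12858,[6,4,14])],[6,8,0,3]),
  (1,[2,1],[(12866,[]),(137,[]),(133,[]),(12858,[2,11,12,4,13])],[]),
  (6,[13,7,9,0,2],[(142,[11,5,7,0]),(101,[]),(84,[]),(84,[]),(346,[2,13,11,15]),(132,[]),(136,[]),(161,[]),(136,[]),(12858,[2,11,14,10]),(12869,[]),(12869,[])],[8,0,14]),
  (1,[3,7,4,2,8],[(12874,[]),(161,[]),(137,[]),(12858,[3,14,14,0,5])],[]),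
  (7,[13,14,9,11,3],[(1742,[11,12,7,9]),(213,[]),(188,[]),(322,[9,9,2,12]),(136,[]),(160,[]),(136,[]),(12858,[3,5,15,13,5]),(12877,[]),(12869,[]),(12869,[]),(12869,[]),(12876,[])],[3,7,14,7]),
  (1,[2,1,3],[(12882,[]),(1720,[]),(1668,[])],[2,9,5,15,5]),
  (6,[0,14,4,0,17,2,16,2,8],[(4142,[0,12,2,0,15]),(424,[]),(384,[]),(398,[0,5,7,4,6]),(161,[]),(136,[]),(12858,[2,0,14,5,13]),(12868,[]),(12877,[]),(12869,[]),(12869,[])],[3,7,14,8]),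
  (1,[2],[(12890,[]),(2272,[]),(2268,[])],[0,7,10,2,8]),
  (3,[0,15,4,14,0,2,7],[(3838,[0,13,2,12,0]),(2268,[]),(12894,[3,6,4,2,9]),(12877,[]),(12868,[]),(12868,[]),(12868,[])],[10,8,7,9]),
  (1,[3,1,3,1,3],[(12898,[]),(2272,[])],[0,3,8,5,7]),
  (5,[4,6,6,13,3,5,8,1,2],[(6898,[2,4,4,11]),(4216,[]),(7894,[0,2,6,8,7]),(2268,[]),(12902,[3,3,5,11]),(12877,[]),(12877,[]),(12869,[]),(12876,[])],[2,10,9,0,5]),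
  (1,[3,15,11,3],[(12906,[]),(2272,[])],[7,15,15,5,8]),
  (3,[0,17,10,4,14,2,7,9,3],[(3858,[0,15,8,2,12]),(161,[]),(132,[]),(137,[]),(12858,[15,13,13,6]),(12876,[]),(12869,[]),(12869,[]),(12877,[])],[0,2,12,11,6]),
  (1,[3,1],[(12914,[]),(2272,[])],[2,14,5,2,10]),
  (4,[0,5,12,6,11],[(4214,[0,3,10,4,9]),(85,[]),(72,[]),(146,[2,10,3,6,12]),(161,[]),(137,[]),(12858,[0,4,3,5,13]),(12869,[]),(12876,[]),(12868,[]),(12876,[]),(12868,[])],[4,7,5,14]),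
  (1,[3,1,3,7,4],[(12922,[])],[6,4,2,13]),
  (6,[0,16,13,7,14],[(4214,[0,14,11,5,12]),(100,[]),(72,[]),(3486,[5,7,11,8]),(2272,[]),(2268,[]),(12910,[5,13,6,9]),(12868,[]),(12876,[]),(12868,[]),(12868,[])],[12,6,5,10]),
  (1,[3,10,2,13],[(12930,[]),(4216,[])],[14,6,4,14]),
  (7,[5,13,11,11],[(4214,[3,11,9,9]),(93,[]),(101,[]),(92,[]),(346,[6,15,7,4]),(160,[]),(136,[]),(133,[]),(12858,[4,12,12,2]),(12868,[]),(12877,[]),(12869,[])],[4,13,11,3]),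
  (1,[3,4,2,1],[(12938,[]),(4217,[])],[0,6,12,14,7]),
  (4,[7,11,6,17,4,3,1,2],[(7326,[5,9,4,15,2]),(2268,[]),(3718,[12,7,9,12]),(2268,[]),(12910,[8,12,6,6]),(12877,[]),(12868,[]),(12868,[]),(12876,[])],[2,7,3,10,8]),
  (1,[3,1,2,1],[(12946,[]),(4217,[])],[0,13,3,10,7]),
  (5,[0,6,10,4,12,2,1,2],[(8854,[0,4,8,2,10]),(4217,[]),(6030,[0,10,2,11,5]),(1673,[]),(12886,[3,6,13,10,7]),(12876,[]),(12876,[]),(12868,[]),(12877,[])],[4,15,13,14,12]),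
  (1,[3],[(12954,[]),(4217,[])],[8,6,14,11])]
theorem hD29 : allD2 lk B KW KW F A RL R0 D29 3132 = true := by decide +kernel
end
end CA.J4M
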