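import Cfsg.Agent.Lib.Spor.J4M

/-! Derivations of the double coset table of `J₄`. -/

set_option autoImplicit false
set_option maxRecDepth 100000
set_option linter.all false
namespace CA.J4M
open CA.CNet CA.CWord CA.CLevel CA.CSimple CA.CPoint CA.CLow CA.CTodd CA.TCos
noncomputable section

def D30 : List (ℕ × Word × List (ℕ × Word) × Word) := [(2,[0,14,16,16,9,3,1,2,1,3],[(10086,[0,12,14,14,7]),(12942,[0,3,11,6,0]),(12877,[]),(12869,[]),(12877,[]),(12869,[])],[4,12,15,5,5]),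
  (1,[3,4,3,1],[(12962,[])],[0,2,13,13,4]),
  (7,[0,17,4,6,9,3,1,3,7,4],[(10230,[0,15,2,4,7]),(11030,[15,13,13,14]),(133,[]),(136,[]),(161,[]),(132,[]),(12858,[9,6,5]),(12876,[]),(12868,[]),(12877,[]),(12868,[]),(12877,[])],[4,6,13]),
  (1,[3,1,3,1,2],[(12970,[]),(4217,[])],[2,12,7,11,6]),
  (6,[7,11,6],[(11242,[5,9,4]),(213,[]),(189,[]),(184,[]),(3898,[3,9,9,0,3]),(2272,[]),(12918,[11,7,2,0]),(12868,[]),(12868,[]),(12868,[]),(12868,[]),(12868,[])],[0,3,9,14,12]),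
  (1,[3,1,3,1],[(12978,[]),(11284,[]),(11276,[])],[2,2,14,13,9]),
  (5,[0,17,12,7,3],[(12194,[0,15,10,5]),(8374,[0,14,3,5,8]),(2273,[]),(2268,[]),(12910,[2,15,13,15,6]),(12876,[]),(12876,[]),(12869,[]),(12876,[]),(12868,[])],[10,6,2,0]),
  (1,[2,1,2],[(12986,[]),(11244,[]),(11285,[])],[2,12,12,4,14])]
theorem hD30 : allD2 lk B KW KW F A RL R0 D30 3240 = true := by decide +kernel
end
end CA.J4M
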