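import Mathlib

/-! Double coset enumeration and the normal subgroups of `2^11 : M24` and of the fourth Janko group. -/

set_option autoImplicit false
set_option linter.all false

namespace CA.J4Dc
open Subgroup

variable {G : Type*} [Group G]

def DC (H : Subgroup G) (g : G) : Set G := {x | ∃ a ∈ H, ∃ b ∈ H, x = a * g * b}

theorem DC.mul {H : Subgroup G} {g x a b : G} (hx : x ∈ DC H g) (ha : a ∈ H) (hb : b ∈ H) : a * x * b ∈ DC H g := by
  obtain ⟨c, hc, d, hd, rfl⟩ := hx
  exact ⟨a * c, H.mul_mem ha hc, d * b, H.mul_mem hd hb, by group⟩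

theorem cover {ι : Type*} {H K : Subgroup G} {t : G} {g : ι → G} {A : ι → Subgroup G} (i0 : ι) (h0 : g i0 = 1)
    (ht : t * t = 1) (hK : ∀ k ∈ K, t * k * t ∈ H) (hA : ∀ i, ∀ a ∈ A i, (g i)⁻¹ * a * g i ∈ H)
    (hd : ∀ i, ∀ h ∈ H, ∃ k ∈ K, ∃ a ∈ A i, ∃ r, h = k * r * a ∧ ∃ j, t * r * g i ∈ DC H (g j))
    {S : Set G} (hS : ∀ s ∈ S, s ∈ H ∨ s = t) (hgen : closure S = ⊤) (x : G) : ∃ j, x ∈ DC H (g j) := by
  have key : ∀ s, (s ∈ H ∨ s = t) → ∀ y, (∃ j, y ∈ DC H (g j)) → ∃ j, s * y ∈ DC H (g j) := by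
    rintro s (hs | rfl) y ⟨i, hy⟩
    · exact ⟨i, by simpa using DC.mul hy hs H.one_mem⟩
    · obtain ⟨h, hh, b, hb, rfl⟩ := hy
      obtain ⟨k, hk, a, ha, r, rfl, j, hj⟩ := hd i h hh
      refine ⟨j, ?_⟩
      have e : s * (k * r * a * g i * b) = s * k * s * (s * r * g i) * ((g i)⁻¹ * a * g i * b) := by
        calc _ = s * k * (s * s) * r * a * g i * b := by rw [ht]; group
          _ = _ := by group
      rw [e]
      exact DC.mul hj (hK k hk) (H.mul_mem (hA i a ha) hb)
  refine closure_induction_left (p := fun x _ => ∃ j, x ∈ DC H (g j)) ⟨i0, 1, H.one_mem, 1, H.one_mem, by simp [h0]⟩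
    (fun s hs y _ => key s (hS s hs) y) (fun s hs y _ => key _ ?_ y) (hgen ▸ mem_top x)
  exact (hS s hs).imp H.inv_mem fun e => by rw [e]; exact inv_eq_of_mul_eq_one_right ht

variable [Finite G]

theorem ncard_DC {H A : Subgroup G} {g : G} (hle : A ≤ H) (hA : ∀ a ∈ A, g⁻¹ * a * g ∈ H) {d : ℕ}
    (hd : Nat.card H ≤ d * Nat.card A) : (DC H g).ncard ≤ d * Nat.card H := by
  let f : (H ⧸ A.subgroupOf H) × H → G := fun p => p.1.out.1 * g * p.2.1
  have h1 : DC H g ⊆ f '' Set.univ := by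
    rintro _ ⟨a, ha, b, hb, rfl⟩
    obtain ⟨h, e⟩ := QuotientGroup.mk_out_eq_mul (A.subgroupOf H) (⟨a, ha⟩ : H)
    refine ⟨(QuotientGroup.mk ⟨a, ha⟩, ⟨_, H.mul_mem (hA _ (A.inv_mem h.2)) hb⟩), trivial, ?_⟩
    simp only [f, e, coe_mul, coe_subtype]
    group
  have h2 : (A.subgroupOf H).index ≤ d := by
    have := (A.subgroupOf H).index_mul_card
    rw [Nat.card_congr (subgroupOfEquivOfLe hle).toEquiv] at this
    exact Nat.le_of_mul_le_mul_right (this ▸ hd) Nat.card_pos
  refine (Set.ncard_le_ncard h1).trans ((Set.ncard_image_le).trans ?_)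
  rw [Set.ncard_univ, Nat.card_prod]
  exact Nat.mul_le_mul_right _ h2

theorem ncard_le_sum {ι : Type*} [DecidableEq ι] (D : ι → Set G) (T : Finset ι) :
    ∀ S : Set G, (∀ x ∈ S, ∃ j ∈ T, x ∈ D j) → S.ncard ≤ ∑ j ∈ T, (D j).ncard := by
  induction T using Finset.induction_on with
  | empty => intro S h; rw [show S = ∅ from Set.eq_empty_of_forall_notMem fun x hx => by simpa using h x hx]; simp
  | insert i T hi ih =>
    intro S h
    rw [Finset.sum_insert hi]
    have h1 : S ⊆ D i ∪ (S \ D i) := fun x hx => by by_cases e : x ∈ D i <;> simp [e, hx]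
    refine (Set.ncard_le_ncard h1).trans ((Set.ncard_union_le _ _).trans (Nat.add_le_add_left (ih _ fun x hx => ?_) _))
    obtain ⟨j, hj, e⟩ := h x hx.1
    exact ⟨j, (Finset.mem_insert.1 hj).resolve_left fun e' => hx.2 (e' ▸ e), e⟩

section
variable {ι : Type*} [Fintype ι] [DecidableEq ι] {H : Subgroup G} {g : ι → G} {d : ι → ℕ} {M : ℕ}
  (hc : ∀ x, ∃ j, x ∈ DC H (g j)) (hb : ∀ j, (DC H (g j)).ncard ≤ d j * M)
include hc hb

theorem card_le : Nat.card G ≤ (∑ j, d j) * M := by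
  rw [← Set.ncard_univ, Finset.sum_mul]
  exact (ncard_le_sum (fun j => DC H (g j)) _ _ fun x _ => (hc x).imp fun j h => ⟨Finset.mem_univ _, h⟩).trans
    (Finset.sum_le_sum fun j _ => hb j)

theorem card_over (hG : Nat.card G = (∑ j, d j) * M) {L : Subgroup G} (hL : H ≤ L) :
    ∃ T : Finset ι, (∀ j, j ∈ T ↔ g j ∈ L) ∧ Nat.card L = (∑ j ∈ T, d j) * M := by
  classical
  let T := Finset.univ.filter fun j => g j ∈ L
  have iff : ∀ x j, x ∈ DC H (g j) → (x ∈ L ↔ g j ∈ L) := by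
    rintro _ j ⟨a, ha, b, hb, rfl⟩
    rw [L.mul_mem_cancel_right (hL hb), L.mul_mem_cancel_left (hL ha)]
  have h1 := (ncard_le_sum (fun j => DC H (g j)) T (L : Set G) fun x hx => (hc x).imp fun j h =>
    ⟨by simpa [T] using (iff x j h).1 hx, h⟩).trans (Finset.sum_le_sum fun j _ => hb j)
  have h2 := (ncard_le_sum (fun j => DC H (g j)) Tᶜ (L : Set G)ᶜ fun x hx => (hc x).imp fun j h =>
    ⟨by simpa [T] using fun e => hx ((iff x j h).2 e), h⟩).trans (Finset.sum_le_sum fun j _ => hb j)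
  have h3 := Set.ncard_add_ncard_compl (L : Set G)
  rw [← Finset.sum_mul] at h1 h2
  rw [hG, ← Finset.sum_add_sum_compl T, add_mul] at h3
  refine ⟨T, by simp [T], ?_⟩
  rw [← SetLike.coe_sort_coe, Nat.card_coe_set_eq]
  omega
end

theorem dvd_of_disj {Y N : Subgroup G} [Y.Normal] (h : Y ⊓ N = ⊥) : Nat.card N * Nat.card Y ∣ Nat.card G := by
  rw [card_eq_card_quotient_mul_card_subgroup Y]
  refine Nat.mul_dvd_mul_right (card_dvd_of_injective ((QuotientGroup.mk' Y).comp N.subtype) ?_) _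
  refine (injective_iff_map_eq_one _).2 fun x hx => Subtype.ext (mem_bot.1 (h ▸ ⟨(QuotientGroup.eq_one_iff _).1 hx, x.2⟩))

theorem card_mod {p : G} (hp : p ^ 23 = 1) (V : Subgroup G) [V.Normal] :
    Nat.card V ≡ Nat.card ((centralizer {p}).subgroupOf V) [MOD 23] := by
  haveI : Fact (Nat.Prime 23) := ⟨by decide⟩
  have h1 : IsPGroup 23 (zpowers p) := fun x => ⟨1, Subtype.ext (by
    obtain ⟨_, n, rfl⟩ := x
    show (p ^ n) ^ 23 ^ 1 = 1
    rw [pow_one, ← zpow_natCast, ← zpow_mul, mul_comm, zpow_mul, zpow_natCast, hp, one_zpow])⟩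
  letI : MulAction (zpowers p) V := MulAction.compHom V ((MulAut.conjNormal (H := V)).comp (zpowers p).subtype)
  have h2 := h1.card_modEq_card_fixedPoints V
  have h3 : MulAction.fixedPoints (zpowers p) V = ((centralizer {p}).subgroupOf V : Set V) := by
    ext v
    rw [MulAction.mem_fixedPoints, SetLike.mem_coe, mem_subgroupOf, mem_centralizer_singleton_iff]
    refine ⟨fun h => ?_, fun h x => Subtype.ext ?_⟩
    · exact (mul_inv_eq_iff_eq_mul.1 (congrArg Subtype.val (h ⟨p, mem_zpowers p⟩))).symm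
    · obtain ⟨_, n, rfl⟩ := x
      exact mul_inv_eq_iff_eq_mul.2 (Commute.zpow_left (show Commute p v from h.symm) n)
  rwa [h3] at h2

theorem irr {Q : Subgroup G} [Q.Normal] (hQ : Nat.card Q = 2048) {p q : G} (hp : p ^ 23 = 1) (hq : q ∈ Q)
    (hne : p * q ≠ q * p) (U : Subgroup G) [U.Normal] (hU : U ≤ Q) : U = ⊥ ∨ U = Q := by
  have num : ∀ n, n ∣ 2048 → n % 23 = 1 → n = 1 ∨ n = 2048 := fun n h =>
    (by decide +kernel : ∀ n ∈ Nat.divisors 2048, n % 23 = 1 → n = 1 ∨ n = 2048) n (Nat.mem_divisors.2 ⟨h, by decide⟩)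
  have h1 : (centralizer {p}).subgroupOf Q = ⊥ := by
    have := card_mod hp Q
    rw [hQ] at this
    rcases num _ (hQ ▸ card_subgroup_dvd_card _) this.symm with h | h
    · exact card_eq_one.1 h
    · have h2 : (⟨q, hq⟩ : Q) ∈ (centralizer {p}).subgroupOf Q := (card_eq_iff_eq_top _).1 (h.trans hQ.symm) ▸ mem_top _
      exact absurd (mem_centralizer_singleton_iff.1 h2).symm hne
  have h2 : (centralizer {p}).subgroupOf U = ⊥ := by
    rw [subgroupOf_eq_bot] at h1 ⊢
    exact h1.mono_right hU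
  have := card_mod hp U
  rw [h2, card_bot] at this
  exact (num _ (hQ ▸ card_dvd_of_le hU) this).imp card_eq_one.1 fun h => eq_of_le_of_card_ge hU (by omega)

theorem le_or_disj {N : Subgroup G} (hN : IsSimpleGroup N) (Z : Subgroup G) [Z.Normal] : N ≤ Z ∨ Z ⊓ N = ⊥ :=
  (IsSimpleGroup.eq_bot_or_eq_top_of_normal (Z.subgroupOf N) inferInstance).symm.imp subgroupOf_eq_top.1
    fun h => disjoint_iff.1 (subgroupOf_eq_bot.1 h)

theorem tri {N Q : Subgroup G} [Q.Normal] (hN : IsSimpleGroup N) (cN : Nat.card N = 244823040)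
    (hQ : Nat.card Q = 2048) (cG : Nat.card G = 244823040 * 2048) {p q : G} (hp : p ^ 23 = 1) (hq : q ∈ Q)
    (hne : p * q ≠ q * p) (Y : Subgroup G) [Y.Normal] : N ≤ Y ∨ (Y ⊓ N = ⊥ ∧ (Y = ⊥ ∨ Y = Q)) := by
  haveI : Fact (Nat.Prime 2) := ⟨by decide⟩
  have d : ∀ Z : Subgroup G, Z.Normal → Z ⊓ N = ⊥ → Nat.card Z ∣ 2 ^ 11 := fun Z _ h => by
    have := dvd_of_disj h
    rw [cN, cG] at this
    exact Nat.dvd_of_mul_dvd_mul_left (by decide) this
  refine (le_or_disj hN Y).imp_right fun h => ⟨h, irr hQ hp hq hne Y ?_⟩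
  obtain ⟨k, -, hk⟩ := (Nat.dvd_prime_pow Nat.prime_two).1 (d Y inferInstance h)
  have h2 : IsPGroup 2 (Y ⊔ Q : Subgroup G) :=
    (IsPGroup.of_card hk).to_sup_of_normal_right (IsPGroup.of_card (n := 11) hQ)
  rcases le_or_disj hN (Y ⊔ Q) with h3 | h3
  · obtain ⟨m, hm⟩ := (h2.to_le h3).exists_card_eq
    have : 3 ∣ 2 ^ m := by rw [← hm, cN]; decide
    exact absurd (Nat.prime_three.dvd_of_dvd_pow this) (by decide)
  · have := Nat.le_of_dvd (by decide) (d _ inferInstance h3)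
    exact (eq_of_le_of_card_ge (le_sup_right : Q ≤ Y ⊔ Q) (by omega)).symm ▸ le_sup_left

theorem no_reg {W : Subgroup G} [W.Normal] (hW : Nat.card W = 173067389)
    (h : ∀ V : Subgroup G, V.Normal → V ≤ W → Nat.card V = 1 ∨ Nat.card V = 173067389) : False := by
  haveI : Fact (Nat.Prime 29) := ⟨by decide⟩
  obtain ⟨P⟩ : Nonempty (Sylow 29 W) := inferInstance
  have hP : Nat.card P = 29 := by
    obtain ⟨k, hk⟩ := P.2.exists_card_eq
    have h1 := P.1.index_mul_card
    have h2 := P.not_dvd_index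
    rw [hW, hk] at h1
    rcases k with _ | _ | k
    · rw [pow_zero, mul_one] at h1
      exact absurd (h1 ▸ by decide) h2
    · exact hk
    · have : 29 ^ 2 ∣ 173067389 := h1 ▸ Dvd.dvd.mul_left (pow_dvd_pow 29 (by omega)) _
      exact absurd this (by decide)
  have hc : IsCyclic P := isCyclic_of_prime_card hP
  have hn : normalizer (P : Subgroup W) ≤ centralizer (P : Set W) := by
    have key := card_dvd_of_injective _ (QuotientGroup.kerLift_injective P.normalizerMonoidHom)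
    rw [normalizerMonoidHom_ker, ← index, ← relIndex] at key
    refine relIndex_eq_one.mp (Nat.eq_one_of_dvd_coprimes ?_ dvd_rfl key)
    rw [hc.card_mulAut, hP]
    apply Nat.Coprime.coprime_dvd_left <| relIndex_dvd_card ..
    apply Nat.Coprime.coprime_dvd_left <| card_subgroup_dvd_card _
    rw [hW]; decide +kernel
  have hk := MonoidHom.ker_transferSylow_isComplement' P hn
  set K := (MonoidHom.transferSylow P hn).ker with hK
  have h1 : Nat.card K = 5967841 := by
    have := hk.card_mul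
    rw [hP, hW] at this
    omega
  have h2 : ∀ w : W, w ∈ K ↔ w ^ 5967841 = 1 := fun w => by
    refine ⟨fun hw => congrArg Subtype.val (show (⟨w, hw⟩ : K) ^ 5967841 = 1 from h1 ▸ pow_card_eq_one'), fun hw => ?_⟩
    have h3 : MonoidHom.transferSylow P hn w ^ 5967841 = 1 := by rw [← map_pow, hw, map_one]
    have h4 : MonoidHom.transferSylow P hn w ^ 29 = 1 := by
      have := pow_card_eq_one' (x := MonoidHom.transferSylow P hn w)
      rwa [show Nat.card (P : Subgroup W) = 29 from hP] at this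
    exact (pow_eq_one_iff_of_coprime (by decide +kernel)).1 ⟨h3, h4⟩
  have h3 : (K.map W.subtype).Normal := ⟨by
    rintro _ ⟨w, hw, rfl⟩ x
    refine ⟨MulAut.conjNormal x w, (h2 _).2 ?_, rfl⟩
    rw [← map_pow, (h2 w).1 hw, map_one]⟩
  have := h _ h3 (map_subtype_le K)
  rw [card_subtype, h1] at this
  omega

theorem mem_norm {x : G} {S : Set G} (h : ∀ s ∈ S, x * s * x⁻¹ ∈ closure S) : x ∈ normalizer (closure S : Set G) :=
  mem_normalizer_fintype fun n hn => by
    induction hn using closure_induction with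
    | mem s hs => exact h s hs
    | one => show _ ∈ closure S; simpa using one_mem _
    | mul u v _ _ hu hv =>
      show _ ∈ closure S
      rw [show x * (u * v) * x⁻¹ = x * u * x⁻¹ * (x * v * x⁻¹) by group]; exact mul_mem hu hv
    | inv u _ hu =>
      show _ ∈ closure S
      rw [show x * u⁻¹ * x⁻¹ = (x * u * x⁻¹)⁻¹ by group]; exact inv_mem hu

theorem card_sup {V H : Subgroup G} [V.Normal] (h : V ⊓ H = ⊥) : Nat.card (H ⊔ V : Subgroup G) = Nat.card V * Nat.card H := by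
  have h1 := (V.subgroupOf (H ⊔ V)).index_mul_card
  rw [Nat.card_congr (subgroupOfEquivOfLe le_sup_right).toEquiv, ← relIndex, relIndex_sup_right, ← inf_relIndex_right, h,
    relIndex_bot_left] at h1
  rw [← h1, mul_comm]

theorem cube_dvd {a z c : G} {e : ℕ} (ha : a ^ 11 = 1) (hz : z ^ 11 = 1) (hc : c ^ 11 = 1) (h1 : a * z = z * a)
    (h2 : c * z = z * c) (h3 : a * z ^ e * c = c * a) (hne : a * c ≠ c * a) : 11 ^ 3 ∣ Nat.card G := by
  haveI : Fact (Nat.Prime 11) := ⟨by decide⟩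
  have pg : ∀ x : G, x ^ 11 = 1 → IsPGroup 11 (zpowers x) := fun x hx y => ⟨1, Subtype.ext (by
    obtain ⟨_, n, rfl⟩ := y
    show (x ^ n) ^ 11 ^ 1 = 1
    rw [pow_one, ← zpow_natCast, ← zpow_mul, mul_comm, zpow_mul, zpow_natCast, hx, one_zpow])⟩
  have nm : ∀ (x : G) (S : Set G), (∀ s ∈ S, x * s * x⁻¹ ∈ closure S) → zpowers x ≤ normalizer (closure S : Set G) :=
    fun x S h => zpowers_le.2 (mem_norm h)
  have A : IsPGroup 11 (closure {a, z} : Subgroup G) := by
    rw [Set.insert_eq, Subgroup.closure_union, ← zpowers_eq_closure, ← zpowers_eq_closure]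
    refine (pg a ha).to_sup_of_normal_right' (pg z hz) ?_
    rw [zpowers_eq_closure z]
    exact nm a _ fun s hs => by
      rw [Set.mem_singleton_iff.1 hs, h1, mul_inv_cancel_right]; exact subset_closure rfl
  have za : a ∈ closure ({a, z} : Set G) := subset_closure (by simp)
  have zz : z ∈ closure ({a, z} : Set G) := subset_closure (by simp)
  have P : IsPGroup 11 (zpowers c ⊔ closure {a, z} : Subgroup G) := (pg c hc).to_sup_of_normal_right' A (nm c _ (by
    rintro s (rfl | rfl)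
    · rw [← h3, mul_inv_cancel_right]; exact mul_mem za (pow_mem zz _)
    · rw [h2, mul_inv_cancel_right]; exact zz))
  obtain ⟨k, hk⟩ := P.exists_card_eq
  refine (pow_dvd_pow 11 (not_lt.1 fun hlt => hne ?_)).trans (hk ▸ card_subgroup_dvd_card _)
  have cm : IsMulCommutative (zpowers c ⊔ closure {a, z} : Subgroup G) := by
    have : k = 0 ∨ k = 1 ∨ k = 2 := by omega
    rcases this with rfl | rfl | rfl
    · haveI := (Nat.card_eq_one_iff_unique.1 hk).1
      exact ⟨⟨fun x y => Subsingleton.elim _ _⟩⟩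
    · haveI := isCyclic_of_prime_card (p := 11) hk
      exact IsCyclic.isMulCommutative
    · exact IsPGroup.isMulCommutative_of_card_eq_prime_sq hk
  exact congrArg Subtype.val (cm.1.1 ⟨a, mem_sup_right za⟩ ⟨c, mem_sup_left (mem_zpowers c)⟩)

end CA.J4Dc
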