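import Cfsg.Agent.Lib.Comp.CPres
import Cfsg.Prelude.Def_Spor_J4

set_option autoImplicit false
set_option maxRecDepth 100000

namespace CA.J4Rel
open CA.CWord CA.CPres Cfsg.Spor

def gen (i : ℕ) : J4.Gen := [.x, .y, .t].getD i .x

def idx : J4.Gen → ℕ
  | .x => 0
  | .y => 1
  | .t => 2

def rels : List Word := [[0,0], [2,2,2], [0,2,0,2,0,2,0,2,0,2,0,2,0,2,0,2,0,2,0,2,0,2,0,2,0,2,0,2,0,2,0,2,0,2,0,2,0,2,0,2,0,2,0,2,0,2], [1,3,0,2,1,3,0,2,1,3,0,2,1,3,0,2,1,3,0,2,1,3,0,2,1,3,0,2,1,3,0,2,1,3,0,2,1,3,0,2,1,3,0,2,1,3,0,2], [1,3,1,3,0,2,0,2,1,3,1,3,0,2,0,2,1,3,1,3,0,2,0,2,1,3,1,3,0,2,0,2,1,3,1,3,0,2,0,2], [0,2,0,2,0,3,0,2,0,3,0,2,0,3,0,2,0,2,0,3,0,2,0,3,0,2,0,3,0,2,0,2,0,3,0,2,0,3,0,2,0,3,0,2,0,2,0,3,0,2,0,3,0,2,0,3],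 [0,2,0,2,0,3,0,2,0,2,0,3,0,2,0,2,0,3,0,2,0,3,0,3,0,2,0,3,0,3,0,2,0,3,0,3], [4,4], [5,3,1,3,1,3,1,2,1,2,1,3,1,3,4,2,0,2,0,3,0,3,0,2,0,2,0,2], [5,1,4,0], [2,1,2,1,3,1,2,1,3,4,2,0,3,0,2,0,3,0,2,1,2,1,3,1,2,1,3,4,2,0,3,0,2,0,3,0,2,1,2,1,3,1,2,1,3,4,2,0,3,0,2,0,3,0], [2,0,2,0,2,0,2,2,0,2,0,2,0,2,2,0,2,0,2,0,2,4,3,3,1,3,1,3,1,3,1,3,1,3,1,3,3,1,3,1,3,1,4,0,2,0,2,0,2,2,0,2,0,2,0,2,0,2,0,2,0,2,2,2,0,2,0,2,0,2,2,0,2,0,2,0,2,2,0,2,0,2,0,2,4,3,3,1,3,1,3,1,3,1,3,1,3,1,3,3,1,3,1,3,1,4,0,2,0,2,0,2,2,0,2,0,2,0,2,0,2,0,2,0,2,2]]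

def gens : List Word := [[0], [2], [4]]

theorem enc : Enc J4.edges J4.extra gen 3 rels :=
  enc_of idx []
    [[0,0], [2,2,2], [0,2,0,2,0,2,0,2,0,2,0,2,0,2,0,2,0,2,0,2,0,2,0,2,0,2,0,2,0,2,0,2,0,2,0,2,0,2,0,2,0,2,0,2,0,2], [1,3,0,2,1,3,0,2,1,3,0,2,1,3,0,2,1,3,0,2,1,3,0,2,1,3,0,2,1,3,0,2,1,3,0,2,1,3,0,2,1,3,0,2,1,3,0,2], [1,3,1,3,0,2,0,2,1,3,1,3,0,2,0,2,1,3,1,3,0,2,0,2,1,3,1,3,0,2,0,2,1,3,1,3,0,2,0,2], [0,2,0,2,0,3,0,2,0,3,0,2,0,3,0,2,0,2,0,3,0,2,0,3,0,2,0,3,0,2,0,2,0,3,0,2,0,3,0,2,0,3,0,2,0,2,0,3,0,2,0,3,0,2,0,3], [0,2,0,2,0,3,0,2,0,2,0,3,0,2,0,2,0,3,0,2,0,3,0,3,0,2,0,3,0,3,0,2,0,3,0,3], [4,4], [5,3,1,3,1,3,1,2,1,2,1,3,1,3,4,2,0,2,0,3,0,3,0,2,0,2,0,2], [5,1,4,0], [2,1,2,1,3,1,2,1,3,4,2,0,3,0,2,0,3,0,2,1,2,1,3,1,2,1,3,4,2,0,3,0,2,0,3,0,2,1,2,1,3,1,2,1,3,4,2,0,3,0,2,0,3,0],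 [2,0,2,0,2,0,2,2,0,2,0,2,0,2,2,0,2,0,2,0,2,4,3,3,1,3,1,3,1,3,1,3,1,3,1,3,3,1,3,1,3,1,4,0,2,0,2,0,2,2,0,2,0,2,0,2,0,2,0,2,0,2,2,2,0,2,0,2,0,2,2,0,2,0,2,0,2,2,0,2,0,2,0,2,4,3,3,1,3,1,3,1,3,1,3,1,3,1,3,3,1,3,1,3,1,4,0,2,0,2,0,2,2,0,2,0,2,0,2,0,2,0,2,0,2,2]]
    (fun t => by cases t <;> decide) (by decide) (by decide +kernel) (by decide +kernel) (by decide +kernel)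
    (by decide +kernel) (by decide +kernel)

end CA.J4Rel
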