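import Cfsg.Agent.Lib.Spor.J4Ord
import Cfsg.Agent.Lib.Spor.J4Rel

/-! The matrix group of order `|J4|` is an image of the presented group; `t` is not in `⟨x, y, s⟩`. -/

set_option autoImplicit false
set_option linter.all false
set_option maxRecDepth 100000

namespace CA.J4T
open Subgroup CA.CNet CA.CWord CA.CTodd CA.BitW CA.J4H CA.J4D CA.J4Mod CA.J4Mat CA.CPres Cfsg.Spor

def σ : List Word := [[0], [2], [32]]
/-- `s = (y t^w)^3`, `w = (yx)^4 y⁻¹ x` -/
def sw : Word := [2,1,2,1,3,1,3,1,3,1,3,4,2,0,2,0,2,0,2,0,3,0,2,1,2,1,3,1,3,1,3,1,3,4,2,0,2,0,2,0,2,0,3,0,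
  2,1,2,1,3,1,3,1,3,1,3,4,2,0,2,0,2,0,2,0,3,0]

theorem hrels : lall J4Rel.rels (fun r => eqM F (CWord.subst σ r) []) = true := by decide +kernel
theorem hs : eqM F (CWord.subst σ sw) [4] = true := by decide +kernel

theorem data : ∃ (G : Type) (_ : Group G) (_ : Finite G) (γ : ℕ → G), (∀ u v, eqM F u v = true → ev γ u = ev γ v) ∧
    (∀ e, neM F e = true → ev γ e.1 ≠ ev γ e.2.1) ∧ grp γ [[0], [2], [32]] = ⊤ := by
  obtain ⟨g, h0, hE, hN⟩ := exists_gl hI fun a ha => by
    unfold F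
    rw [nth_eq_getD]
    exact List.getD_eq_default _ _ (le_trans (le_of_eq rfl) ha)
  have gm : ∀ i, g i ∈ grp g [[0], [2], [32]] := fun i => by
    induction i using Nat.strong_induction_on with
    | _ i ih =>
      by_cases hi : i < 31
      · rcases (by decide +kernel : ∀ i < 31, [2 * i] ∈ [[0], [2], [32]] ∨ ∀ a ∈ D.getD i [], a / 2 < i ∨
          [2 * (a / 2)] ∈ [[0], [2], [32]]) i hi with h | h
        · exact ev_gen g i ▸ mem_grp g h
        · have := hE _ _ (CMat.allR_spec hD hi)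
          rw [ev_gen, nth_eq_getD] at this
          rw [this]
          exact ev_mem' fun a ha => (h a ha).elim (ih _) fun h => ev_gen g _ ▸ mem_grp g h
      · rw [h0 i (not_lt.1 hi)]; exact one_mem _
  let γ : ℕ → grp g [[0], [2], [32]] := fun i => ⟨g i, gm i⟩
  have e1 : ∀ w, (ev γ w).1 = ev g w := fun w => map_ev (grp g [[0], [2], [32]]).subtype γ w
  refine ⟨_, inferInstance, inferInstance, γ, fun u v h => Subtype.ext ((e1 u).trans ((hE u v h).trans (e1 v).symm)),
    fun e h h' => hN e h ((e1 _).symm.trans ((congrArg Subtype.val h').trans (e1 _))), ?_⟩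
  refine (card_eq_iff_eq_top _).1 ?_
  rw [← card_subtype, map_grp]
  rfl

/-- the image of the presented group; equalities of words in `x, y, t` can be read off the matrices -/
theorem rep : ∃ (G : Type) (_ : Group G) (_ : Finite G) (β : ℕ → G), (∀ r ∈ J4Rel.rels, ev β r = 1) ∧
    grp β [[0], [2], [4]] = ⊤ ∧ IsSimpleGroup G ∧ Nat.card G = 86775571046077562880 ∧
    Nat.card (grp β [[0], [2], sw]) ≤ 501397585920 ∧
    (∀ u v, eqM F (CWord.subst σ u) (CWord.subst σ v) = true → ev β u = ev β v) ∧ ev β [0] ≠ 1 := by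
  obtain ⟨G, _, _, γ, hE, hN, hT⟩ := data
  obtain ⟨h1, h2⟩ := J4Ord.main hE hN hT
  let β : ℕ → G := fun i => ev γ (nth σ [] i)
  have e : ∀ w, ev β w = ev γ (CWord.subst σ w) := fun w => (ev_subst γ σ w).symm
  refine ⟨G, inferInstance, inferInstance, β, fun r hr => (e r).trans (hE _ [] (lall_iff.1 hrels r hr)),
    top_unique (hT.ge.trans ((grp_le_iff γ).2 fun w hw => ?_)), h1, h2, ?_, fun u v h => by rw [e, e, hE _ _ h],
    by rw [e]; exact hN ([0], [], 0, 111) (lall_iff.1 hne _ (by decide +kernel))⟩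
  · obtain ⟨i, hi, rfl⟩ := exists_nth_of_mem [] (show w ∈ σ from hw)
    show β i ∈ _
    exact ev_gen β i ▸ mem_grp β ((by decide : ∀ i < 3, [2 * i] ∈ [[0], [2], [4]]) i hi)
  · refine (card_le_of_le ((grp_le_iff β).2 fun w hw => ?_)).trans
      (J4H.bound _ γ fun r hr => hE r [] (lall_iff.1 J4Mat.hrel r hr)).2
    rw [e]
    rcases (by decide +kernel : ∀ w ∈ [[0], [2], sw], (∀ a ∈ CWord.subst σ w, a < 32) ∨ w = sw) w hw with h | rfl
    · exact memH γ h
    · rw [hE _ _ hs]; exact memH γ (by decide)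

theorem t_not : pg J4.edges J4.extra J4Rel.gen 2 ∉ grp (pg J4.edges J4.extra J4Rel.gen) [[0], [2], sw] := fun h => by
  obtain ⟨G, _, _, β, h1, h2, -, h3, h4, -⟩ := rep
  obtain ⟨φ, h5, h6⟩ := J4Rel.enc.hom' h1
  have h7 : ev β [4] ∈ grp β [[0], [2], sw] := by
    rw [← h6 _ (by decide +kernel), ← h5 _ (by decide)]
    exact mem_map_of_mem φ (ev_gen (pg J4.edges J4.extra J4Rel.gen) 2 ▸ h)
  have h8 : grp β [[0], [2], sw] = ⊤ := top_unique (h2.ge.trans ((grp_le_iff β).2 fun w hw => by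
    rcases (by decide +kernel : ∀ w ∈ [[0], [2], [4]], w ∈ [[0], [2], sw] ∨ w = [4]) w hw with h | rfl
    · exact mem_grp β h
    · exact h7))
  rw [h8, card_top, h3] at h4
  exact absurd h4 (by decide)

end CA.J4T
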