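import Cfsg.Agent.Lib.Spor.J4N
import Cfsg.Agent.Lib.Spor.J4T

/-! The presented fourth Janko group: index of `2¹¹:M₂₄`, order and simplicity. -/

set_option autoImplicit false
set_option maxRecDepth 100000

namespace CA.J4G
open CA.CWord CA.CTodd CA.CPres Cfsg.Spor

theorem hs_eq : J4O.hs = [[0], [2], J4T.sw] := by decide +kernel

theorem index : (grp (pg J4.edges J4.extra J4Rel.gen) J4O.hs).index = 173067389 :=
  J4O.index J4Rel.enc.hold (hs_eq ▸ J4T.t_not) (J4Rel.enc.top _ (by decide))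

theorem isJ4 : IsSimpleGroup J4 ∧ Nat.card J4 = 86775571046077562880 := by
  obtain ⟨G, _, _, β, h1, h2, h3, h4, -⟩ := J4T.rep
  obtain ⟨φ, -, h6⟩ := J4Rel.enc.hom' h1
  obtain ⟨a1, a2⟩ := J4N.bound J4Rel.enc.hold
  have a3 := (grp (pg J4.edges J4.extra J4Rel.gen) J4O.hs).index_mul_card
  rw [index] at a3
  have : Finite J4 := Nat.finite_of_card_ne_zero (by rw [← a3]; exact mul_ne_zero (by decide) Nat.card_pos.ne')
  have a4 : Function.Surjective φ := by
    rw [← MonoidHom.range_eq_top, MonoidHom.range_eq_map, ← J4Rel.enc.top [[0], [2], [4]] (by decide), h6 _ (by decide), h2]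
  have a5 : Function.Bijective φ := a4.bijective_of_nat_card_le (by
    rw [← a3, h4]; exact (Nat.mul_le_mul_left _ a2).trans (by decide))
  exact ⟨(MulEquiv.ofBijective φ a5).isSimpleGroup, (Nat.card_eq_of_bijective φ a5).trans h4⟩

end CA.J4G
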