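import Cfsg.Agent.Lib.Spor.J4M24
set_option autoImplicit false
set_option linter.all false
set_option maxRecDepth 100000
universe u
namespace CA.J4H
open CA.CNet CA.CWord CA.CLevel CA.CSimple CA.CPoint CA.CTodd 
noncomputable section
def relsH : List Word := [[0,0], [2,2,2], [0,2,0,2,0,2,0,2,0,2,0,2,0,2,0,2,0,2,0,2,0,2,0,2,0,2,0,2,0,2,0,2,0,2,0,2,0,2,0,2,0,2,0,2,0,2], [1,3,0,2,1,3,0,2,1,3,0,2,1,3,0,2,1,3,0,2,1,3,0,2,1,3,0,2,1,3,0,2,1,3,0,2,1,3,0,2,1,3,0,2,1,3,0,2], [1,3,1,3,0,2,0,2,1,3,1,3,0,2,0,2,1,3,1,3,0,2,0,2,1,3,1,3,0,2,0,2,1,3,1,3,0,2,0,2], [0,2,0,2,0,3,0,2,0,3,0,2,0,3,0,2,0,2,0,3,0,2,0,3,0,2,0,3,0,2,0,2,0,3,0,2,0,3,0,2,0,3,0,2,0,2,0,3,0,2,0,3,0,2,0,3], [0,2,0,2,0,3,0,2,0,2,0,3,0,2,0,2,0,3,0,2,0,3,0,3,0,2,0,3,0,3,0,2,0,3,0,3], [4,4], [6,6], [8,8], [10,10], [12,12], [14,14], [16,16], [18,18], [20,20], [22,22], [24,24], [6,4,6,4], [8,4,8,4], [8,6,8,6], [10,4,10,4], [10,6,10,6], [10,8,10,8],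 [12,4,12,4], [12,6,12,6], [12,8,12,8], [12,10,12,10], [14,4,14,4], [14,6,14,6], [14,8,14,8], [14,10,14,10], [14,12,14,12], [16,4,16,4], [16,6,16,6], [16,8,16,8], [16,10,16,10], [16,12,16,12], [16,14,16,14], [18,4,18,4], [18,6,18,6], [18,8,18,8], [18,10,18,10], [18,12,18,12], [18,14,18,14], [18,16,18,16], [20,4,20,4], [20,6,20,6], [20,8,20,8], [20,10,20,10], [20,12,20,12], [20,14,20,14], [20,16,20,16], [20,18,20,18], [22,4,22,4], [22,6,22,6], [22,8,22,8], [22,10,22,10], [22,12,22,12], [22,14,22,14], [22,16,22,16], [22,18,22,18], [22,20,22,20], [24,4,24,4], [24,6,24,6], [24,8,24,8], [24,10,24,10], [24,12,24,12], [24,14,24,14], [24,16,24,16], [24,18,24,18], [24,20,24,20], [24,22,24,22], [0,4,1,6], [0,6,1,4], [0,8,1,4,6,12,14,20,22,24], [0,10,1,6,8,14,16,18,20,22,24], [0,12,1,6,10,22,24], [0,14,1,4,10,24], [0,16,1,4,6,12,14,18,24], [0,18,1,8,18,20,24], [0,20,1,4,6,12,14,16,18,20,24], [0,22,1,4,6,12,14],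 [0,24,1,8,16,18,20,22,24], [2,4,3,4], [2,6,3,4,6,12,14,20,22,24], [2,8,3,6,8,14,16,18,20,22,24], [2,10,3,6,10,22,24], [2,12,3,4,10,24], [2,14,3,4,6,12,14,18,24], [2,16,3,8,18,20,24], [2,18,3,4,6,12,14,16,18,20,24], [2,20,3,4,6,12,14], [2,22,3,8,16,18,20,22,24], [2,24,3,6,8,10,20,24], [27,0,3,0,3,0,3,0,2,4,0,2], [29,0,3,4,0,2,0,2,0,3,0,3], [31,0,2,0,2,0,3,0,3,0,4,2]]
def gensH : List Word := [[0], [2], [4], [6], [8], [10], [12], [14], [16], [18], [20], [22], [24], [26], [28], [30]]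
namespace T
noncomputable def A_0 : List (ℕ) := [nat_lit 0x72b03764a0303901c893469a3481d30e9b0ce849261004802e0d506a8268e0cc38d1c68e207083845332999525462a33460e2b370b9c5ce72121091c63031830e0e70741da5000d14a9d91a68234138dcc6e631a1cd0ed1fa8fd521c60e338f527a921d2890a7235992884322190444446b18ae0efc925a92d5c55c2ae14854079287843dac01400a0e1bb370345702b8700e4072d15b99d022b715b9ce6a73568ac456251a792646333263b41c437e70d10688c3409a05c1b30d998a4c52671844c22c3e19f0dc1d619b90ed27697087c43e50780a51c4e91e9887a405b70f5036ce1db8edd21b00d8383c21e120c1c60ec0201ab487ea3f51893649b403881c491088845c5d72eba466674a40ccc66610eb0758e4df26fb8c1660b20d546aae07b83dda356240841001df60f487a4e21d10e9a1970cbb8c8464228ed876ce1490a4981bc0de38dc26e169acc5e4c22b915da4ce3a7109604ce2067433ad0d1868d819e0cf3895e4af6867c33e520b905dc0ea07530d7a6bd71764bb2525812c12691348a01c60e349a54d2a11a7043523aa1c81c1be29b700d806cc0800401c6f537aa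0ff67fb71a90d48c1380ea8828c1381051640f1956867223629a98855a252306f237941b40da0c2ad1568627a063384f427a480d406ae14a8a5505ec2f6381ce0e749ab8d5ce15e0af0859e2cf383b21d949ab0d58e38b1c5904a3251b81e00f049b14d8ae31b98dd84a2297b022811448064032c09a84d501300983020c10648508284c05782bdc2ef1beb8b725b94889844ce02881448104082245de2ef40448224402e8175c2c61632410008070024012303e805d800103ea01be0142837c1fe205602b1809704b9067e087613b09d8819f8cfd84ea2750c6e20ca70dc46e2106f0378a01306f90046023404c826490110089c1c80e41c57203418a2c1e281458a2c628c15ca03761b849d34e9ae1c28e15028c146146201bb113a49d2c1ea0f50634e1a738a5852c483e41f2e0388dd86071038986a235170f787bc91ab0d59c04a0251c69e34f49284942e07683b4c013359a01dc0ee71288944903d01e8e36d1b6904ca452489944ca821510a9c260130243c01e070cf067873a11d09c26d136a406203170884442801b80dd227b13db8064032389844c260208105c31018820c4262170c1060890200101c2221111c05602b4888c446802f817d200b0059c08c0461004c026908088204101080881620b16003428e20278b9180a9027a400a0064800009c30028135c012002a0000012303b01d851c68e34c0dd06e90042021306a0350701000c0e0030021c000011283701b860080080c0020019800001f100081b6305482a46010006c000001020008004100080048000,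
  nat_lit 0x1250c39809328730398d03c81b8a4521de8c8a466f210d4992115e06b824dd2f38c4426f3687d83ec43b2923182bf15f8c1ce5b360ce40c492001000c1f50442044e227619c45e653779bbdc2641320c86430f51610b08d186895820fd373b81fa0fd40820a12818a17edc53129898cca51c18ff0c5a231618b1013f09fb466e4c619a10d08e1788bc521ec0f61caea182700f807cc17a8bd5a0e52bab43742ab10a3451ab01a81c8200903b080ba28f4042c21642ad956c673d1d5904de26f19ae4d72e09d1c6083e11f0a067213a389c06f663f699c9c3d01e81cee877471fb4fdad31998cdc2b2159146a035048db455ee3bf1768a26d268841521fd11e4cf26e0df06f981c00e0384fe27f401800c0e1f70fb9831718bb869034810ff47fa90fa87d5c02719a0808e04758cdc108302090cda067033b855a2ad20914e2ee35d9aec842e1f1380bc05e60f747ba62ce10b82770338881ae0d73038c52023d49dc0c37107c247d0322081480a48005009ca00a0e3889764bb08204102525e12f18241120b8eea775085682b4836d149dc77b3bdb485e42f61b4cda652b3959dc66833418e6e73721b80af6e0551b3ca56b2b5b813009868ac03a4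1158044dc3b11d8a427c13e41bf0df8e082841585472a3b8d786bc31b4097413429a1506c9364841e253a20530b38e31c18e0a0fe07f047507cd70ddc6ee81db07a1a72c3961c9ba026386e8374824c89a860ec1ee3486a43571d4cea61122891500f22a4146843427135c9ae93959cadc26813434f0278160e40ecad0fb87ddc653329a032e3a870ad856c51aa0d51c44f227b4d9c6ce7065832c51ed8f6dc4bf25f84da0468083c81e423669b3504763879092c49661a68d34e0700380e1760bb387e63f361b28d94e33519a9239110c9c1660b3611dc8ee41be0df182f01781c98a4c540d2c5a8329306bc4209104a4ddc6ee70ca865491919f1525bf0d60c92449e49d98ecc411a85d1c4e72738c33c018604d0268e26e9374a2d7005300fe07f707a83d4d0400c0484810a6387f83fc48a6c7fe439a984181cf39c30246123388d446ac18c8c65038e36a30f8e7c7216fcb7ec1918c8ce4c3261905340aa40c80640e2c69634e3911c8b89cc4e660e4c726e029814ce38f1c7b8cf667b29734b9a72b00c50830d1a58880267d18ca465272e784f585602b0109d86c111d383e432760c35c4ec0ad8c10038e3873c39ee3c11e09029a14d0c5ae476282a45aec3509a85073439a3033419a71cf4e7a82639409c1990cca003e29e38fa07d012358db9034e158382c01606127493ae3cc1e61031d18ea43f41fa60434b98305682b5c5cf2e78c1e011011c54e2a238a1c50a6ae36d383aa683687543aa83549aa520e5,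
  nat_lit 0x1d620f7c1b111aa4806813c89e5c7c43e21ce04702707b83dc42f018a8e7b7067381840c26003801cd061830dc4902482ca444c230da46d2a3841f79a36a1b53809804c08934bc090b49f1885c02e0042d20fc49ba4fbee3941ca107083842c6dc6e908d9c6cee1600b0103c01e038ac45622118c8c6e3f89fc58291148b81cc0e6391988ccc03801c0a462118ac9884c4318e8c74d3fa9fd4c5872c3a86b835c4812c09661378d4ce6a22ff2ce701c531edcbb052cb9bd8a3ab1c09059a2cd7124c92682f1978dc7bd15a987863c3381640b2e1e48f25069423138e9274931c9c2bce3a31d1987bc3de387de3ef3048c5d6e3431a1826a235138f7c7be59acc7ecb0991ef527b73db944de1e741a60394534c1a612627131b8a427b468abca4290f89604a5ed2f6b06784536023811ce0da06d026892c88418c5c638ed02d2e1c30e18e0a8329145462a3102a0150e02b0158a1fd2a2841e849c31bc4de2824d186901620b10430a18561afcd7ee3641b21a0ef077b84fc27e299f0cf8723791bd050428230c3861c71db8edcc3ec1f60a3d331fb07f03f8715b0ad8a0a28514a7683b4203e624d18e3cba0c2aa1551c21d10e947e23f150f70b14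c1908c85c67933ca8eda76d21e8858e73b291fc817b0bd04bd85ef30c1cf5891ba9268c07912fb49ca4e5707301f4d3129894830f022a061030849208904e36983d08044022300081ad41ab40e6623c11e18484242382881440806425423650eb821242720451a06670a3400e203392b9038f0a52486a3b449cdc64c43f69c9dc12d096a48be45f71cc4e62c35a9ad5c73a39d2024812471cf0e78c1980cc1c73b39d9c27613b30bd05e811e2029083c41e238d286945837c2c6b0dd063c6081060b4c4e62771488a4443b51da8a1f30f9b8e3241229f6cfb6d3d11e88c17b0bd84d727b6519d8ba262c219d8610506c1c50a28570468234c2079c38a6a63e9a4aee57710f746f092460f3d048c1279cd12689511f08f8e2fa17d181890c4b81b20d941668b34c2df16f9c0b605b3500280161b6cdb6e2d416a0c1b20d93825e12f60bf45fad2bd92a0210b1dab0c5c62e715a4ad2637a0ad1c27613b28570712189ecde8a15b8b4dc03b01da059c2ce7165cb2e61988cc502aa1552c51867708b30598b0dc86e5a79b3cdb85502a830ff87fc43ba07c1826f2488c7bc4c111000a92d07c85c4a2ad33fb8b665377053429a43791bc8a42d216b43e21f128a2451272490b40421e10f14c3661b409a4ed8513489a5877025ea0104082392f897c51ba8dd4c54813394bd83bc711a88d45291948ce13f02b8c0f271918574b76a23a0574c47423a240e4324690c0860e04f827d05462d788d7c6be40a7053843401a01024a,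
  nat_lit 0x70ac02002da0009013300120222002015400040297800804ab00100914002403d000201d900040391000806e000100d3c0020165800402aa00098d826ae30008de000f9800100d20002015e000277b8fea68a70dd0b0661ba018c23741ba0c90e48770d1468a118f0c7964ba3bd2492a70b51254f32e3538f2024ae3e7b88ac6a721f7c34a324a8a18c49524ab85422a130de86f431b3108986e91c48ce4e284615dc13812bd915822f01078443621b51cf4ea223ec1eb5257f2bf8473e39f705a82d4b2408021c0760352005802c708d0468108b845dc1900c8043e0108497d08ce11cf0e7966ae3c604e7273971320990b3f71e5c42c01018cece75f60648822c1991785c4d02681870838429458188e0071f5dc43921cb4e745ee2141ca0ec045822d23521a9104b46df691408a033c0993c25682b4309ca11d619286cce2109084c53b38e2045622b30a1c50e33e41b70c7c83e438a1c50e61618b0ce0df86fd45822c12cf600eb18130840c1b50da065da17b8833c372091c0336e17e90b04429214840f4566516b8b5cb080963183c30a09069834c68288144e006003080992ba38efa77d41024812e04d0269640c2060470e3876814458a6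3c81e41c16e0b71cb8e5c771ec0f60c3d79ebdc2be15f1407403a30afc76421e814ec61780bc0437c36b207f83fcb0d4134863fd08488560262082b815c808b0459a4702381830a56f082ccbca117585bc25bf14b8c7e609909474a3ae22d116965451b81c25812c302a03bae3eb1f5867f73fb84cfe0c868cc8664415d1d74c69215d2cffc45e71e3cf1ed12d0969c6f0378149da4ed49900c80e3e49f2585652b2b8bee5f75189cbac10671955a0ce03d9c5862c351c5cb9c328086488501280b0ffc7fe717e8868e2e81f09a40f050a046023049fc42e6620a105062611b01484a425682d016822f517a9a7883c438f727b951d0845ce37e9bf4474328b0cc306a061d0ca68c30c186166b53a184aa055020608262d030062cc01e00f040561d040fd8f34e3f31f9906773308caba55d39c9cd24e3849c2505e43a608d466a371fb8fdc44022011c8034018cbc85e4705542aa92b49d1dc3921c91458052b397e88b844012009c7673b38cb085c8115d4bf4333d854441a808c0c0a672e10578c0a3329948046ad3ac8cda07b8119c0ce0e11508a8818921bb8b346e2718c8c64537a19d5c53829c1474e3a7708a4452433b10fdc44122094bba5dd711508a8c281940cc4e72743462631370f907c8c2e89981a24d2c8387681a911e74f3a53151060641920ca41503e7085c02e051489efdc4661ce14bc60b20978c9a650859ad9c6852851061430a40e18bd633ff9ffdc62231134d3034d501700b8613c9951a597,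
  nat_lit 0x1100c056876a088d0eb31119d2e422343a444468738088d0e4f1118fc1622312d8c4468711088ce181111a1c2805f1f54c0be3e99017c115102f8ab2005f437bc0be3d95817c7cc202f8e28205f04ad001686e9802d0db2005824a200b048c001686c7802c0d6a005823c600b0430401686ba01190d5302321a6404608f4408c8688011865ef0230c71604618b2808c10ca004d0cf3009842a4013433440268658004c20ef009840d601308128026864a0820b4f3104218e42084314041086178820a1ed1041b6182084302841031248820ef0610410ae810142fcc2022da90404df11080a17a010132f3c20285da02c47d73058a17240b142dc416285a802c4bc4f0589185a0b12ef2c162859482c50b06058938e81473764c28e8579051c0db10a3a15a01471083c28e1e26851d0aac0a388094147336a428e854a0b903273172214e42e4313445c80c980b910a4f1721d8d62e4112245c87ec08b910a340278dfe604f0ffc809e2818813d0a10027a13de04f4275000c0649801909b200321322006030c000c84b780180b43003212a804e424cc09c2779013909110270a82004e1523c09c07c5813863410270c9e804d423cc09a373901340cb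1026a11a004d0e1bc09a36f501340b14002a11660054224800a843880140a90002a109e0050282800a841a004908130090242401241fc402483e8004907af00903ed401202a84024667a03b092f307611b640ec41e441d848e803b08e2f0761b0040ec2c5841d883ba0e3507531c689ce438d2e9c471a83980e34a9af1c68ecda38d2fe0471a624a03743c9306ea0e240dd41bc41ba8368037463ef06e9a3060dd14c041ba1c1a008506b3010a0d24021419c40421bd80085064f010a0c560210db8c042338a06a106130d40f1641a835d4435082f806a0a28f0d420ba8030416cc06082c900c1057101820aa00301333c06025e100c1052101820a26004413c80088268801009100022095e004021ac0080425001007e30022092801107b4c0220f590045047100883ce00114113c022111a0371043306e208240dc40fc41b809480370308f06e1a2d40dc3060c1b881e1037036b40102076602040e4804081b8808103500102065e0200d5a80401a71808034c201000f6800301e4c0068189000d02f1001a05a000301c3c0060335000c05e300180b8400340ad003e1a49807d029200f868a201f0d0c003e1a07807c338b00f8a0e80db0fc4c1b68139036cd11106d95c200db4093c1b64cf5836c3cd405496f660a9408c81525bc882a4a790054a041e0a92dd2c1525b8482a4b6e605482de800d024cc01a80f9003416b1006a03a000d0582c01a0ab300341d3400803a26010406c802080c8804101700082029e010,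
  nat_lit 0x121ac7bc2df10f78daa11ef23c28356477cc6ac8ee90d591db11ab11ce0356093bc6ac71358d58bea21ab23b02356475d0094250981286b3202523aa204a1ac40094357781282fa30250cf4404a176d069e8e998d3d1d121a78772234f3f84069e8e778d3cb6c21a79cc0234f473509428e5992851c92250a38e24a1091409428e279284a0aa250894844a12c4049428e1a03b51c13076963e40ed361c41da8df803b51bcf0769b0940ed2ee0c1da413103b51bb4359a37266b346dc8d668da89acd1b30359a361e6b3279a8d6623d19acce4023598e8280ee46bcc1dc6c6903b91ad1077235600ee46a3c1dc6c4503b87043077234c40ee469509448d1992891a122511f5224a2467c09448ce7928919aa2511cb424a2253500f4074981e9199203d232e207a252c00f48ca781e919341b6a322636d463c86da8c688db430f01b682f5e36d283286da25318db4e0821b68d0684523f04c8a40c09114918b1229029604524623c8a4465a0995187313288da4265461444ca8c180995180f132953142651b20c4ca59d10994b83421522fe642a37d488542e0890a917d021522f5e42a19f288543d1190a840c221522f2826045dcc4c08ba90980e0d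113022e6026045c3c4c08b71098116d40f00b4a61e045ac83c08b48878116700f022c9e1e011c506788b198cf075b219e15f6233c458406788af78cf115c319e22b687424564ce848ab91d0915513a122a607420933ce848a8a09b514f3136982a426d453444da8a5809b4c98f1369944626d16b084da8a4a00c44eb301889d24031451c40628a2800c44e2f01889b940311360c0628a1100c4955411082fa62214504844289f888847070110a279e2210eba84426d62888453a21108a58222144ed006e89c980dd137201b8a8a203744d4006e899780dd130a01b896440370fa0406e7c0a09ece3b313da25e427b16ec44f6776809eca7cf13da259427b38f844f6895a00c9129301909ca4032449c406427d800c84f8f0192249403213c0c064891100c81074130a2426261172c84c288f88984e910130a239e2613ce044c288da01051193020a22e40414454408288980104622f0208c3960411860808226b0810454b4188197e6310167c862024c88c403c701881fade31018c2c6203a418c40a34218822228621443ccc424899188510d131091020621442bcc420bf11884ead418217a263044424860888388c1110501821111e30426c8c6084cc10c1088611820c2e8040440cc0808809010054d102021fe0040184bc0803065810060aa0200c0c604043f04080556a08881a53111136e422243ec444439580888504f1111941622243e2844487ba00ad0f53015a1e6402b43c44056228800ad0eef0158895602b,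
  nat_lit 0x1e0ac1fe55e503fd2e34056172e60ac4b8481585c9882b12df005625b9e0ac2703415821a582b0906905625b4c0ac0518c15896ca025d2d7304b959240972b1c412e96a8025c2d8f04b958560972af8412e969a021c9dd3043855e40874b44410e9678021d2ccf0438b65a087275ac10e965a13b0e6d327617da44ec2f8c49d8964813b12c6f276258964ec4b0d067e44898cfcc77219fa582233f4afc067e95e78cfca7ab19f833c233f4aed09d4754993a89c32275257224ea1afc09d4515793a92b6b2751fd8c4ea4ad5019495998328c8f2065191a20ca1f94019421c783292b03065146c20ca4abd06e295698dc52ab21b8954e2371211bc6e25f258dc4b2621b89a4e80de4aa4c1bc953903792a5106f192600de4a8bc1bc69058378d1ea06f0f3860de4a8501be94f9837d29d206f9a5e20df34b401be94d7837d2994011876260234a5c804694a8808d29300118751e0230e8b00461ce1008cdd14099252261323a848264460884c8e9f009917f5e13209988264947a008839b3011251a40220e5c404494580088392f011071140224a20c0447caa072128730e402ee41c84a14439094180720f00f0e41959a1c832bac3905c45072066c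30e4032c21c84a05006893f900d127d101a0962003449ebc06828e680d1278a01a1b2e80f149dcc1e293a903c52731078a4e200f149bbc1e23af583c49523078a4da828b17dcc51693590a2d2691145903a028b1adbc51608958a2cfdea145a4ce82b94994c57293190ae5261115ca4be02b94973c5720d368ae41aab15c9f6462b935550370191986e125b20dc152a21b84964037092b786e0cccd0dc24a861b8494d0e9a92899d3499523a6a49e274d29840e9a92679d345d833a68584474d492d070a92498e1524721c2a48a23852c4c070a92178e152414146247e628c48f485185b288a3123b01462471e28c164d037691b986ed23520dd991621bb48cc0376918786eccb6b0dd9dfe84e948bcc9d2916913a522b1274a45204e9489bc9d2212593a487a9274a448c4e911f049d2911a0f5122131ea1f2e43d421dc47a890f80f50b68f1ea1191a3d42caac7a87dc08f5121d41a72436634e1614869c90c88d3921701a71699e34e3038869c90aa14b02eb32962426452c48444a58907814b120cf29611d4652c39488a58673094b120b407ca41240f916dc41f2903803e5204f07c97e560f9372a81f218e083e492941bb187e6376480c86ec90088dd865b01bb0d75e37647fac6ec20c08dd91fd4038a3f6607147e480e28fb881c51f5003891b9e07147cb40e246c581c421d41a8a3e2635108e486a28f788d451ed01a8a3d5e35139f0c6a28f410d442b341ef23ce63de479487bc67888f791e301ef1729e3de,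
  nat_lit 0x3373cd5c7a5a0af140b215e13e622bc50240578a0378af0576315e280a859e063ccb3ca01916789a912cf2802059e4ffbcb3c5921967831140eca7fa61d93c9483b29fd887653f900ec94d9e1d911d2c3b2480507653f610eca7ea86ac4fcccd5844991ab13f1135627de06ac4fb3cd589f559ab025ca3560f9466ac30108d582c409ab0897438b27d267164f9c8e2c47a89c593e5038b27c5e71637dace2c5c351c582a4238b029a84a34f84c9469ef9128d3dd1251a7b604a34f63c9467215128d3d63251998844a32fc501e09ea983c13d3207827a220f04f3c01e09e6783c0458a078279440f04f250d8a9e399b153c52362a78626c54f040d8a9df79b14e5eb3628f6946c50a984d8a9dea18dd3bb331ba77246374edc4c6e9da818dd3b2f31b984966372e128c6e539198dd3b14297a75e652f4eb48a5e3be894bd3ab0297a751e52f226aca5e9d3394bca7e2297a74a81144e8cc2289d090450cb9108a130201142433c2289cf58450e36208a273a80190a5cc03214988064291000ca735e019090a803214618064735409a876e61354e64426a741804d4a5cf09aa72d61354e5502609c9984c13912098271e01304e33c26044c584c06d8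3098271681064e24c20c9c39041938510831c0201064e0bc20c6ff184183141083270281424dfcc2849be9050937b10a102f201424de3c28411b58508a3030a10e5841424dd842849baa02bc2cb3057a6e620af4dc4015e9b7782bcbb6b057a6da837d4dacc6fa21490df536911bea6ce037d4d93c6fa9b158df536031be953c237d320d0b729af996e535d22dc99ae25b94d6c0b729ac796e4730b2dca6ae82263694c44c9aa908993531113174a02262843c44c7aa588993514028a69e60514d3480a22bd881447110028a695e0514d22c0a29a350144dc74082268a61044d0c82089a08841133f008213fde1044cf2c20858e5041133a1082267282ef34fcc5de99b90bbd3351177a66602ef4cc3c5de4f058bbc5dc1177892e811212bcc224997904487db1089265a011219abc2246345844932a3089084c21124ca500ba993981747c1202e8f7e205d4c9400ba991781747aeb02e8b8c605d1ad040ba990a0b187753163263e42c64c74458c3a980b1931af1631e1162c64c650100143982013172040262a20804c4c01004b97820084cb040021680094c44c0129879002530d1004a61600094c23c012983580240d2a004a60a80174c0cc02e1399005c271100b84de001709b3c02e11f5005d301403e92c6607d4bfc80fa0d1881f52fd003ea5f5e07d03f080fa97ca0050233300a25ee40144bd440289798005022af00a25e160140878c028977100512ed407fa5d660ff4ba481fe69d883fd2e7007fa5c9e0ff,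
  nat_lit 0x1e3ac33c416a12bceb73257aa6624af54c4095ea97792bc7e8b257aa5844af17f8495ea95a067c5cd30cfaa52419f32ec433ea938067cb0af0cf8bf1619f2948c33ea920867d523420baa426417547c882ea8e8905d51b020baa31e4173f2ac82e4b61905caf2220b93702417545cc1d4a8a903a814f10752a25e0ea1eaac1d4a88383a8a3d435e87be66bd095c8d7aa8789af550d035eaa15e6bd1058cd7aa849976550722ecaa0a25d9540c0bb27d159764582a2ec9f5445d93f25096049f992c0aaf225818e624b054040960a7f792c14fcb25829f6869153e4cd22a7b91a454f51348a9e6069153c3cd2262059a44f9c73489f8c4691170d01c6a779838cb532071a9da20e353ac01c6a747838d4e6a071a9ca6695538c8d2aa7089a554df034aa9b9e6955368cd2aa6ca04354d73086a9aa410d386c421aa69804354d0f086a99e83905334c720a6590e414c911c8298e03905313c72052518e40a8421c814a0239030f50536a6198a6d4c1214d8aa6229b10240536a5f78a6d4bca14da97680361004c06c29f900d94b9101b296e003652d3c06c3a6a040024120801bde210052cc0200a58784000d8b080057c210052bd0deaa5699bd54ab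137aa95206f5529bcdea42859bd4514337aa94a87fb3c1ccff65e691fecaf913fd9d7a07fb1403cff671051fed4a343520f2a66a452848d48a4f89a9149d03520ec166a430c94d48a4da0ea887131d5293243aa304c4754a4b80ea8ec2f1d5292a6270524c84e071a889c14910138291de27027a2c4e022f509c04a94207a91a640f522c881ea448903d4870207a909e40f106ac81ea413903d481419c99b2633951fc8672a3e88ce47f3019ca8f5e33951e2c672a3ba1a989f9335328ea46a651cc4d4ca3881a9946ef35305dd66a651b28d4c732a129146b32521c9244a42ca44948a3481291466b25228c824a4518d06f24fa98de41b521bc9b322379518406f2a2f78de4956b1bca8b863792bc50da0a2d91b40f4d13681e5206d02efbcda051759b40798a36828b2855a515ccab4a2a9156945312ad1966055a5143cab40965956944ea2ad2898a55a51284ab4a24a03194473063288a40c6510c418ca208031943ef063287960c650e8c18c408a09e9439313d12b2427a363c44f40d0809e9436f13d1565627a3d9284f4365089e9435401a8a6660350b44806aa19880d5431001aa85de03550b2806a293100d542a101a92ce829550a4452aa1380a55424f14aa84542950bf8c52a15810a5542142f6059265ec507c8bd8a0e897b141b02f62831e5ec1cdacbd8a0b517b141422f61ac680e704dcc1cea099039d41110738ca200e73583c1ce6af5039cc1c2073a81c20e72d5d0d5c34399ab8c5f2357281a26ae,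
  nat_lit 0x247c07a6b4d78f4cb4ad1e9ad3183d33daac7a6b4ba016d695302dad26405b5a4440b6b478016d68cf02dad1681b65a24c36cb43906d968510db2d0601b65a03c36c218586d967f41db90c663b73b04876e4fd88edcb6b01dbacf9e3b759eac76eb3c18edd67621db98ac23b759d5036075c986c167320d8126221b059c40360b37786c0402d0d807f161b059b04360b35a078566920f0acce01e15992c3c2b31507856614183acbe43075974460e51080c1d65af183acb163071a52860eb2b99ab56551356aca606ad5943cd5ab27a1fa964d33f52c9647ea59244fd4b2381fa8658f3f50f8d67ea59104fd438ca126d643324dac82449b58fc493641e8126d63cf24d9055649b2b8a89362e90926d63b40712c7260e258dc81c4b1a8838963300712c61e0e258ba81c4b161838962b4108ac526211589c8422340888456250108ac45e2113c6ac42272a188445d42108ac4285d73e64cbaeb0f9175d61d12ebac3605d75863cbaeb0b5975d61543a52c26674a58448e94b0789d2960d03a52c15e74a5824c666b0390ccd604f1998c016333580cc3acb00907595ff00eb2bf9e1d657ed09be64b9937d5f9226fabee24df57d409beaf97937c91a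126fabe2860b57bccc16af69182d5eb13059aa2060b0b6bcc163fa5982d5e83305abcc460b579506aaaf198d555e121aaabbe2355577406aaaed78d5486cb1aa8e886355121086aaaeca03dd5d7307babaa40f7574c41eeae8803dc47eb07b87ec40f7573841eeae6a12055cb3240ab92448111dc0902ae3792040ea3240ab8844813ac4c3be5ad8877d5c2f0efab8061df56fd07a4ade98f48b3311e92b7603d256e3c7a428858f495b611e92b6a843a03448874ad9890e95b1021d0911e43a1eb2c874167190e95af40cbab5a619756ac832ead48865d5a700cbab49e1975688c32ead0a1908ddb33212b3e464256744c846b28190959af3212b30464210284c84acb98ed959521db2b2623b65644076c65878ed958eb1db1eee8292399cc524ac690a4958b11492b1202921e33c5247b358a48c0c31491e1681bc561cc378ac2906f158310de2b0201bc55fbc378abe91b8557b1370aaf206e11073cdc2abb51b855743370aae662f255c485e45d588bc956f01790945e2f21fbac5e476210bc8d6f422baada6457202c88ae1948115cad4f22b81bc445755a848aeab4a1d3956733a72aca474e558c0e9cab079d3855cb3a72abe84ce3c34c99caae9133955b12672ab204ce555bc99caaa59338b443267151024ce554d033aaa89867554f20ceaa9a219d552c033a7b17867554830ceaa8e81a35514c346aa19068d54100d1aa7de1a354f0c3464581068d53a10d1aa72819e54dcc33c2e89067953500cf14d5e19e,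
  nat_lit 0x6070ce0ec0da1d9181933b214464764306c4ec8c0b81d9072eb3b2302a8682604ccd04c0891a08fe91341301e06823a2bcd04c0659a086c43341301686e63854cdccc0491b998071373300a06e62d02cdccc0111b998014343affe66875ff48d0ebfd89a1d7f90343afede6875fd0cd0e40709a1d7f341faafe263f55fbc47eabf680fd57eab1faafd043f55f9cc38cbf2907197e310e31109e1c65f82c38cbef507197dc30e32fb687a95f644f52beb81ea57d4f3d49e3967a95f4d090abe8992157cf2242af9a24853d04090abe5792157c8b2429e7944853240490abe3a19297c533252f86464a5f044c94bdf819297bcf325150664325eec886445b890c97b902192f6de43212aac8642caa11ad7b53235af66446b5ec448d63a5791acc9ab235af5e877e5eb4cefcbd591df82a913bf2f52077e5e9bcefcbd209df97a3425aaf4264b55e7c496abce812d579af25aaf32855c5e5ccab8bca91571792f2ae2f20455c5e3d00f2bc6901e578b103c8d7a007905c3c0f2bc4581e45f140f6af0e61ed5e1483dabc1887b578100f6aefde1ed5df50050bbd880a1778f0142eed60280ef2805013c080a177543702ee666e05dc48dc0bb789b8176d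03701b5de6e05daacdc0bb409b81767415c1e5a62b85d948570bb188ae1761015c2ebde2b85d7085704f608ae175b301caeb240395d5c4072baa780e5752301caea040395d3d0ce8ba6999d08d3233a2e9626745d240ce8ba3799d02b8b33a2e8a82b75d0cc56e42790add741115bae7e02b710bbc56e52d58adc9ea315bae7a87355cecce6ab9c91cd5737139aae6a07355ccbce6a59f11cd4fa0139aae6282b15cbcc562b9690ac572b1158943202b12053c5623c258ac5728115891e664995c9c8932b9289265723024cae41e49930aac932b8fa131d71d3263ae3644c75c64498eb8b8131d714f263ae2564c75c40898eb870931caa531bf2e1a237e5c2c06fcb8478df8fe6b1bf2e0e83445c14c688b8190d1170111a22dfe03445bf3c688b7d08d116f94340adee66815bd48d02b7989a056f103408795e6813e92cd02b77a06cd6ed30d9add641b35ba44366b73806cd6e4f0d9adc561b35b808366b6f086cc9b142932dba65265b6c8a4cb6c894996d7029313dd6526388a8a4cb6aa18456d33308ada246115b3c4c22459818456ccf3088e7566115b28cc2243ea1f0d6c933e1ad8e47c35b144f86b6181f0d6c0f3e1915567c35afcc66e0cc90cdd6bd119bad7603375ae3c66e72250cdd6b733b4ad6a47695acc0ed2b5879da4d5623b4ad5e821f25a4c43e5808887d6ad010f84a4221f5aad0528b5498a50ff1214a2d4e22945a9405286f978a516a2d14a1f9d62945a8507a6b4f98f4d69d21e9907e23d3,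
  nat_lit 0x66b44d42cd581a859a8f350b34e873466948e68cd189cd19a1039a333de7346670ce6821511cd199a139a3332819a665cc334cca9066999310cd3322019a663bc3341661066998d439eb316473d66240e7acc379cf424ab39eb308273d660d0a04cc09940997f228132fa050265ebca04cbc9866597710ccb2ea019965cbc332cb8a0a7996f214f32da229e65ac053ccb478a7996741f432ca63e8658c87d0cb088fa195f01f432b9e3e8656d06dccac98db995721b732aa236e654c06dcca878db879631b718a262b019748560ca788ac194d0158329681603c54c2c0ca480581946f0b0328a849d650cc93aca09127593f124eb27a049d64ebc93ac9ca1e6193733cc326a479864cc4f30c9881e60fe413cc325e831d124cc63ac9690c7592b118eb251631d2020c63a3a108c7592740fd324a21fa648c03f4c90787e991f42e6323a45cc646c4b9850d81731918f2e6322c25cc6454c15ac89882b59110056b21de0ad2922c15a7aba173d90d22e79dde25cf642c0b9ec847973d906b2e7b20a8110640cc220c80904418ff108831fa011063ebc220c7c99c558f7238a98a6271563d40e2ac7979c558f0d38ab1dd8715368ace2ac76a1c518eb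338a31d24714639c4e28c7281c518e2f38a0e2d671463804e2847da1b698df336d0b7246da63744db43d881b698daf36d31b28683635ccd0655889a0d8d50341b1a5e6836340cd06c67987558cd20eab19621d5632403aac635875419a30ea88e421d53e0ccd52c6291aa58c31354b181e6a962f8cd52c5e09aa58bb4072b17260e562dc41ca2d558394add4250316a64a062cc8940c58812818aef250315844a062ad01c8c5498390d4b1072314de0e46292c1c8c51a1a358a13346b13e468d62744d1ac4d81a35898f346b12c668d34f08d1a771a074d89530e9b12641d31a3443a6c487874cd6830e9b11c41d31dd843a63fba124988d2249311624926223c92407859248f12a249310e640162148802c41890058810200b0fde40161f50354c3d986a987910d530ede1aa61d50330c399866187110cc30dde1982f9a83302f91866048e10cc30da868e61ac8d1cc3489a39866f3471c0d668e2a5d0384c329870986320e130c221c2617c0384c2e5870985b43329e7e666561648cca34989994f470332b0ade6656152ccca4f191519852f2a3027545466144c566c2788acd84cf15991f962b332208566c25a0b9d8493173993a42e7611c45cec2280b9d842f173b08162e760fd0848c1e9909183b221217c2242460e3c848c1b510909962212306a86300c6ccc606d9918c1833131808f2063060c3cc60c17518c182c33180314463060a84c60c14a1c1d8273383b04a4707608c4e0ec1081c1cf16f383b03d4707,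
  nat_lit 0x6c7c0eccd8e79d98414b3b33634c7666c64c2e8d8b885d1b14f0ba362561746c4182e8d87a139db0d1273b61604e76c2349ced83a0061b05200c360620180a040030d8050061aff409a1751e1346bf509bad7d99375af9226e8236800a0464c014d7b80029af5203f8b8a207f6bcc00fed78781fc970303f92dc407f6bbcc3d4d76887a8964b0f507ac41ea6bad0602d7498c05ae72180b5ca23012aabc602d7158c05ae03180b5bc43016b750298d6d90531ad8f0a619e8614c6b5d07f8d6a80ff1ad2b1fe137a63ff6b4487fed6788ffdacd01ffb595e3ff266ac7fed64a1841ac71308358a06102952cc20d61a1ce0c29339c3581e7380c64c246d5f9048dabd0091b575e1232b984246d5ca08d49c5311ab56e42356ad4446ad59808d5ab0611ab55e83196ab44632d5580c64c2ef18cb55286d46a9ccda8d5289b51aa2b36a354267c76a7c8f8ed4e89f1da9b03e39a6d67c76a618f8ed4ba16fc77332dfb52a45bf6a4c4b7ed48816fda8eb2df9ff4c5bf6a34c646d4590c8da891191b50e84c36a14c986d419130da811261b4fe04c369f3c986d3d5930da79405534ee60aa69d48154d39782a9a7121901baa232069bc0640d3678c802fc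119034d6858d0504cb1ad3491635a6712c6b4ca058d698bcb1a56d59634ff432c69d4a63916984872254388e45a5ef1c8b4b9639116c04722d2da1399a5932731e9244e6695c09cc72579399a5541c9966e4393694d00a63949814da512029b49e2053693400a6d257814da481029b48e838f6914c71ed2190e3da4101c78939e38f68fac71ed1ea19ec9f1233db476067b3d73ccf6d1c099eda3742e6b46a05cd0fcb4b9ad1959735a31318a345e231468b40628d1578c50a00318a1b7823140a850696d1498d2da2721a5b44a234b688c0696d1078d2c13cd1a58b21634b687a4696d0ea19f5a1b233e9a66267d68640cfad0b799f5a14b33e8c08267d684d0652d0898ca5a0f219494ce232968340652d0578ca442cb1948d1d23296824c27ad03904f5a04f09eb406856037248ac0d00895819fef2b033fa86c13caccd82cfd91b059f91360b3ee06c167d3cd8260369b04c08c36095c966c167cd03e4cf8987c99ef20f933da01f267ab43e4cf4607c99e74186b3ca630d678c461acf080c359def1869cfd630d30e8c61acee8856d9db00adb3b1e15b675ac2b648aa0e399d521c71ae2238e674c071c47278e38e4730e7944a41cf6744439ece78073d9ccf0e79d0161cf672ccf0440b91e089b513c116c207826723cf04ce369e099c5414d1de6429a670c4534ce080a68cc8b14d0606847666fc88eccde811d99baf23b04a1647666e505aecdb98b5d9b5116b942e02d766cbc5ae5a410b5d9b13350b35e46a1,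
  nat_lit 0x73550c70e69998e1cd0f31c183c4638733cc1fce66883f88f7007f3995e0fe732081fce63a1f343b533e6b98a07cd730acf9a7dd11f35cc131bbb97e037772f2c6eee5da07a1cb910f4396e01e827950e58e5a89cb1cb2f3963962802672bc404c772886e9cad00dd3956826a72a484d4e53889a9ca501353945e26a334ac4d4e50089a9c9f31ee393a43dc726c47b8e4c80f71c97321ab92a443506b0886ae4991d4dc9113a9b91e07537233cea6e4519d4dc894122b90e62457214848ae4180915c80b122b8fe654871f40a90e3d59521c7921a138ee234271d3c684e39a135dc71326bb8de44d771b409aee357935dc694395b8ce472b71940e56e3179cadc61313438be4268717404d0e2d789a0836b13438b267810cac8f02e2b89e05c5503c0b8a5e78138088f02e28a1d95c4f33b2b89a4765712c4ecae2481d94c10f3b290096765711d03eee22987ddc4300fbb881e1f770fccca6e1e8994dc3af32993ed665370e50750e1b90ea1c3511d4386603a8206ac750e1810ea1c2f415b385a62b670ac856ce1480ad82d6b15b384e8354709486a8e1188d51c2101aa383e844f7074889ee0d1913dc194367382e66ce70548d9ce0951b38306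3367382046ce703d032ce0698659c0b20cb38122196701c032ce0278659c02b0cb380283db6ffc47b6dfe80f6dbfb425fb7f264bf6fdc497edfa812fdbf2f25fb7e064bf6fbd08d0df6811a1beaf23437d220f20a74cd9adf391b35be503669145a6cd222acd9adf119b35be0136696c6870f6f7c8e1edee81c3dbdaf387b7b1a70f6f5d092cdea99259bd3224b37a224966f3c092c613792588ba124b379a869a6f2ccd3424089a69bc9034d378de69a6f12cd34de190381bc11070377de0e06ef502ecddd985d9bb920bb376e21766ed402ec540185d9bb341f9b76243f328fc47e6dd780fcdbad4365375626ca6ea3cd945a369b2889c3365374e866a6e94ccd40d4899a9ba303353741a66a6e7accd4dcea0865b9b210cb73222196e5c0432dcaa02cdb933059b72240b36e3c4166dc6782cdb8b223bb71204776e1bc8eedc298df1b8321be3702237c245bc6f8dbfa0bc0a65217836fa02f06ded098adbc91315b771262b6ea04c56dcbc98a61631315b71116a36de02d46db5035edb5986bdb6920d7b6ce21af6d94035edb1786bdb60a0d7b6be82096d74c412dad88825b590104b6ade2096d54cddcda991bb9b510377369de6ee103acddcda6a0ca9b4b31953692232a6d1c0654da278ca9b42b195368287c56cfc8f8ad9e89f15b3b03e298d5a7c538f2cf8ad9ca06b1b3730d6366a41ac6ccc4358d98786b1b2f424f365a649e6cac893cd9479278c7cd24f0b2c249e6c9d0eccd9299d99b2323b336422766,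
  nat_lit 0x79c4851ef3780a3de6cf147bcd6410b79a50ab6f339956cb2d02adbcca83ab798c8756f3078eade5f1137bcb9e26f796c8d72f2c79ae5e56b35cbcaa4718794c0e30f2879c61e4eb38c3c98e718792d07c2f2490f845f4b1f09bad23e1791c8274f22784e9e42b09d3c82437b78fc06f6f1e78dede3a11bdbc72867278dccce4f1a599c9e3311e83c61e3d0256847a062389dd09fcb3ba3c5e47ed78b48c662d1818cde2b01591e9d62b278a506a0f1398d4049111a80e0063502234055ef1279345e2330febc4201fd787bc3faf0e91e4de1ab3c9bc3221c0785bc380f0a909fde12f13fbc21627f783d00c0f0698181e0b20303c116060781d07dcf0298fb9e0301f73c02831777fc062eefe98d21dfaf1a43bf243fd77dc07fa2a758ff5df4f0fabbe6033477c0466833aa011ddef2023bbd9e04777acc1084d688211de8f0423bcda0847793c866ef19819dde12033bbbe82ad7774055aeed78ab4834b156bbb26717775c8e2eeea89c5ddd3038b9075671777440d76ee7a0f89dcd21f1122223e2772c07c4ee478f89dc7102f3b8a83dd770bc7baee058f7487932173b7e442e76f50ce27fc919c5dbb0338bb71467176dc81ae5c55035ddb5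31483b65e29076c4cee074459dc1daf407c3b5a60f876ac01f0ed4a0c89da701913b4a2052768cc04eed09009dd9f00138cae81c77674c38eecd7871dd99425dbb2e64bb76540976ec9792edd912040bb1e20817633c1020ba58205d8b425e1fe644bc76244978ec3812f1d84f25e3b0544bc34e48482ec088905d7f0120bafa677575ec8eeaebc89dd5d7703babaea815a75ccc2b4eb890569d6ef0ad0fb1615a75b48a4eeb58149dd68b2939d56877b759ccef6eb281dedd62f3bd8ee0477b7584485eeaf810bdd5d2369bab626d375640da6eab79b4dd54b36993566567754c8aceea88959cee6f2b3ba9d656775344cd05a1799a1d4a23343a928737751c8e6eea289cddd43039bba81e7372252ce6ee9f09cdcfc342bdba7a657b74ec4af6e9c815edd36f2bd8bf9657b3d0c4d9e2de09b3dd3532b587a4656b74cd0130e9898261d2f004c3a59e09874ad03a4e9490749d272089ba496113748d076263d08ec5d21309f3a3e413e12ec427ce8e584f9d1aa09f3a30613e3318827c3cd084f9d17437e3a2a66fc744c8df8e8889bf1d0f037e3a19e6fc742a8df8e8409bf0dfd4082ba0e41057414420ae818041445aa082ba02854773fcca8e4109151dcfcf2a39c1565473f4a8a8ee7d1951dcf812a3b9ee66bc73d3cd78e7959af1cf0a35e39de84ba73b4c974e75912e8cb5125d39d204ba739d0d0ae7299a15ce32342b9c22685737a8d0a63111a15cdd0364b9b5e6c973650a7433b994e9cd6f29d111d659c,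
  nat_lit 0x8040200012804000120010000a0020004c002001180040002000000020001ccb8e3641c614ecaf421619fa12465289886e018630901ff015e417fc27fe7fba4cdc63c719b8ef860ab3fd9019312338e48ff549575fe827f9bfcc44340bcc8b14ff248efdfe311980efc2ff07f8086b4fef494446c21625bfba073b7f6a8ede76f69748f2213e73fb1627e7f5c42c6fea6863dfd2f2913fa041f37f3bc824fe691e89fcb03d10d8e017b7f22cba2fe3899d9fc4f33b3f8680d87f050e1cfdfa1f4ceaf42bbbf7a25771d1bcaeefdd595dcdbaf1e7bf7286897edc8d12fda81a25fb300c4bf61e0d933f2c1b2fd7a02d9fad305b3f5620b67ea3c16c5ac49b6dfa742d43f4a25a87e8bcb50fd0784bcfb5217ebf3e22fd7e73c5fafcd78ed5f9903173f2e65697e544ad2fc9815a462af15a3f2267123f12ce24fc7a0b4df8d2169bf15e2d37e230b2efc398cc5f8500dcbf06679b7e040f36fbf79e6df7d315415da02a87deac7fcfbca07c1f7720f83ee944917dccc982fb891305f6f02609ee944c17db44a92fb5999fdf69133fbece067f7d944a6efb1814ddf60f29bbebe614d7d73cde47a8a07c5f5b00f8beb282d07d5ccc36faaa1db1f5323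b6055a076c12e3ced8fa8809a5f4eb134be9a60827d2c8104237a12f9f49125f02e543757d1d04cefa28899df4321de3e81e3bc7cf8c778f9ea11a9f3b22351538246a7ce44a462339015df36f02b97a687197cd44e32f99996edf30f2ddbe5ce5bb7cb402ba78778575f2ac0aebe5204747c9cc64832508c91f2542183e45e09f7c850b5ef8f896bdf1d435f3e3606be7c64c538f8b88a71f1543403e2646807c440d00f8779a01f0d41253e16224a7c240494f839024df0530373e0663bd18d9877af80819bdeff1264bdfa61ae7bebcbce232a1bcdef92379bdede6f30a7cc3ecf7a787d9ef2b0fb1662848c03bac9184a739231ef1315f990c25b37bbc00c4f7678189eeb32003dd244007b9bc800f72a0221ee2f0443dc140887b7cc44e76b1889dedc2113bdb686ef7b644ddef6b81bbded4f377bda566ef7b428ddef6780991eccf1323d96630f7b23c61e72678959ec73373bd8a46e77b0c8a1240689424c0342fdbd8265fb7afc8bf6f5e897edebb02fdbd7165fb7adcca62f5a99471eb3228e3d62251c7abc0a38f5659470b54a28e3d56862d7aa4cc5a180918b4a32f316bd4e462c7a93cc58f51904fdea0309fbd3e24c67a74098cf4d59319e9943423d2e26847a540d0875a59a11e934178bd2262f10be503d8f47907b1e8d10f63d1661827a248304f4388609e8500c105c8618217b3c07cf4178bd4afc217abd02457579fc0556f3e90a34aa31146bcf5428d79e500e4f3ba01d9e75203b3ce62076,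
  nat_lit 0x2519052a221617b057892f60898c5ec38b10bd80316039c0a260739ab080e70ec8826022619ab84dac3570df4c6ae0ec90d5c74260af0b72615e0d3d859e38b24b3c6374167815e62cf1acd81d9362a03b22ef307641dac35603c106ac08218d584a161c58260638b01e984a331ba49461353128c022c078005cc0f007730d8a11231b14a5e631b8449c52f09aa4a5e0af414bc58c42978051c1140a1202284a2304500be408a0064e04d00c980f40017006420c800c802c801900bb826a080204d4208e09802bd213011310260013704180e270831284c1060159020c14238d3828461a78405c142111902845b9202bc6fa4177813d837d028a46fa05d40df4446c2dc8b1905b9015b044c080408980a231c280158051004a00a20136041002e8082040582ef00a302240174844800cc02e8025205d02fb058c00b60200000c004805c80090990802e0de481f4202503e84c8807d00a181dc10140050002900a0018801407f840260ff681186e2407f8034e0ac275101580b13825c9d4804393a4e0871ea1c9d82e438cfc15272750049a0ca026b46e201040378044406f03c460df0dd841be0104837c0461023000920230031404674d384c809e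5099008900020dc1c0440052808805650e40a306034027301e237660a2c370e15c8e1522b9111145721b84008408050dc0c10a74d3109470a1bb48a3037650230085c1bb054a09d22e440f500e291a70128c34e3109069c101394b06ac62960c10852c0099c1f2012403e47bc607c810080f9027206ec04d401c44444038812923511b6a06a24a138d4485441a88f7900ec0769c7bc26020f78d6671ab0780835619e100946b370d3c94481a79d08834f03d2094222121284d669076804500ed018901da6b3304044da4359804520ee019101dc27b21288022e03d00dc807a076386da04d30db44c2e2290cf1045213d9c8a431031148060e13280dce265023184ca33c490a844272150888c42a018204c0031389800806130078102611369c3c030430780c42619e0885274213da0e8422331d080648136813cc26d001a0062005300c40566110800dc0370059806e05f309ec00690190018c032018244c20044810460880208018e0410232462005f38c404449310888ce6210279c6080044010000a702001190222002b805600b400ac09ee1118019c05f000380160047011809a40230005001300290026147208201622104013c8101172101622e41051c09e21720019004f0268400c04d1813800a30268004e01206e9402400420048022707600c080ec06e1c71a1a820e34020706e8008e02100214042030286a000860180004c01100190022020203700065010036c801f0068803e0101836c01a40548008400d,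
  nat_lit 0x831490a1c82121457213250dc5264a188348640ff490c88d6808691aca07115c908d677e10ae4efc415c1d34c77e0f014efc4b5406a0370625a8980a4b524c84ab82b9315703da203c90a8207924d9c0f2499201e43da933a07b4c3370f690666080287b439033e183dc4028001380501c8400a001650140addc6e02409cdc00f729b803be715c0d58a2b8098040722b1380e4094501c99d0a2c617920ce85d7219d06aa515b9205c7350cbb0e6a19d31cd4378539a8ac464e90dd8c5621df70ac4874c158868cc2b10db080421b8196e4932c0dc0c1ca499071b098e37e08df81c62020176441e11838c6fc04f68df8366c1bf0758c37e3a7146fc5d920df8446d1a21f0cc344267146886bd20d10c2213089a04a0db06e04d025b969a04c22634083a886811beb4366417206ccd5cd293075985261db10a4c2bc6984452443089d09a7c33059cf861bc21f0c52a114a9da427692518466e29528cdc66663b4928ca76906e3043e7ea4087c1c4610f80d4429402db052805b10f4c7a4202d80c421b62963036c1e1486d85de70db0d3983b70579c76e071606c026070d80d4421e107cb03c2104387840a271839fa846d03fd8cd5a0e729ab47a49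3f51ab0a7ea3a5389360de6126c95e924d8410a49b199b81c40106038802e5071084580df257a0422112288446aa12eb867905d729794bae5d909d3896012580679274a09814e9413528ccc4dad0eb1b8481d60f0349be0f72137ca5e13058cf1a60b025346aa1bc38d54dc2707b92058642240989601df69204dc25240877c219e03e983be6b32877cc84d1e912bcc3d20ec947a419e310e8b3c521d007cc1971491432e19f319083b2d1db1b8583b620b9876c59e68a481d461490d3da1bc35e9837813509b84bb263708898204a13684b722f209acc1b6d17916e4a2f20cf105e4457487208ae71c2915ca223099388ae1a32115c99ce3a704c9a74e06db099c4b07067403ec0ce9af4a19d03eb83461422868c03ed0cf02bca19e06d8404001f283a8006100f867dc01f03eb095e2ef292bc960c0cf83a82011177b482e5d96105c15ed0750509a6bd080b4bb207d692c0d2a82580379a691027841c60106838c1bed34a8434a04d00a0421a0dd7043437640868a30228c1d5046203aa70e401ba91c81bd5829b353205364a420a6c046201b09c100360789006c0461840020030099a9101000271020037921bd4d4cc3fd9b4087fb11108d4837621a904e031d51a99c27019c9081e27a1903cd4c219c9b1446a6078b894855a4129009ce1bc8dd9c6d0145b8ab427b6031852a90630af100c61631818c63720318064c13d1ab9027a02e984f46c5209e8006c01a839d00350049806a0f0200d406ec14a8200c295,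
  nat_lit 0x8838b9a0ad6173416282e68f5085cd2b03862832960c50220718a0d2d830d1a59c52808770d2c65241a599f524a033e98d1a67d29288cfa42008ac5067d09eb865213d382b4158809e821c813d3a708ac06c11958012e82b01b0503d30f910d82715407c896030f9016ce30d1c71461a15b39e089d850ad8e39c15b0d40871c1cf18a6c0b650e78f50a7821721453447660a68d02223b131dc2d7199b45ae19948b5c334816b838dc6a107234d4229e49a84d22e39a1215a7340cea4e6836d08668e94d0cd007d219a24db4e7a69161cf433e939e940924c7108b4a046956140833e8281175da19914f3033229e71a5453c80ce9a35a29e1d5347d064a28fa06dc11b70db9a64a026a46dc11438db875451b70c40836e2760c9602b0491ac20831581e6182b01d5205601a338ac007261580d38a2b01c29056016040e402c0615c01f4e160296142c074d2058093a903c83b4249d3473493a4af3927436c524e9b68849d3cc3433079828edc33c73cc075487981d53063a5d738c74d52418e81e841fa1999c3f40e5207e880282e60a6da0373fdb4bd80e769a903ac91381a9125261db246ec61149fecda091491a9927c30de24ab422169a98ab4d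2508a2d26e1138340620ed68a2c006d01b03c5a0111bb34d58100680d4b3c11bc83c1a04e03d3494871669b406f2d2518a55a6f521d04dea6f502000b98c3b21730c4572e614e842b12173021a32e602b5000d0868815a4e9202b4220c2e78a5085cf02d90220714104407a6438a9d91c71437334e286ad49c507ea638a0f48871436d2493242409b68384d36d1d3586da1fa9cdb468320660384e341836ce6831c2b03aa2f238754518c35499d0e6a901b881ca1ed383941b8e2501da584a03182094007a292801c8326f8041c0e4199b01c84854039021a70720064a0e4014101c80df71a34baec346868d068d1d51cd1a11429a343a6e011874ce28c014243a64574074c80260e9817ca1d32492466e49241d90924633a0318a49213d948021aa3008c04090d500c8a1aa00f9c3300de19a3833e7347008861c23439c384665386cc06410e103b8266522904a8c2b3311ac566118380e522b33181c56635128accab841598b9c84b515c245ce38d40b9c7bc5173909100dc3f5308481df490901bc621203b4a424158a4c60485318c0942531810e927073f538e0e74a31c1ce2c538390e8280017918ec82bc29d9087443b2065c2197341045240db31a08c225341065c868229314dcc64221b981b6e3439d3986870d994d0e19f21a1c5e4e1fa84c983f51be947ea4af20fd438c63569264e1c60113038c0512871893640e30cf027a90e430f522f249ea43da83d48898a7a9242b0e944854868c37822428379c485,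
  nat_lit 0x13004c1c6400984e010dd06e841ba072b8374021606e84d490ea89a8e7a924cb84d42b9609a81ca81350f7120ec1ee104c20ee38f706ac81ee03dd04351aaa0ea6548489144d05122952180ca0e30ca9014c0952026872a419ec6342134246844c738d083f4d26b8b5ce4d7395b07d031d69cac33083958664e72b347204d0502389a063ae3c0927507811089cf0221f100aceca910f9d94a6c523430eca3d241d9442263b2990901f7281183ee44f0994c332632992fda3a815c307503d238ea093a61d4113ca3a823b8c56c3db68ad8072c15b10e8e2b63cc1856c3541856c10031aa0659a354025306a859e38d5076e61aa0d59844f0ec9c89e1b63113cd9c60791fec26ce07bb0d9c3b639b3897e53670c3461961aab032c2923865836031ed8add83db0cb9c7b619830f6cdc0c25f92fce6423471897e468719f48d0606f877d046806e248d00ee291a0354423403c9a1b60791c82e68e283c8cca40791c3d26cd30838d9a78261b349ce736693a4a6cd19010d9a19d19c3c92c22670c8124963651c92c67b49a687e6734d0e3d20e0335302ec053485d8ddc80bb0e4d23f3195207e64e649b28f8a83650a78666a24f20cd421929d98158e1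0c8ca502192629043200d702ccb9e80598bc080b3058b88ee110411dc5c8e1be016d037c16a1c6f873828df0152e1780a5102f0091945e04c5106649d4e2628b5184c511a9498a2d470cfc5a881868c64a2d40d7b066e1af300a035e501b900521af0103835e4a0206bc412802988248319191b84127666082493cc3771f15832a24f38f8a49e186b0924324f0d3c47662dfb8ecc39141d982e873080d5841741c7302e8235405d069650ba0e448174043949ce15b6139cf8e8273939884e700c0827a0871802803010808060e0ca000b40300f1300601c6500c0028801826e881c4017684d009c609a131ca13403f902684dd30de43d4426e84d5a4dd005040fa0006802806c60050025a07f080180fe036087a8dea60f507b423011ffb86026e660c04e9c61808758a30101934298036485303ac80a609eda3fc3e1a07f858d18ffcb98d1ff9a0983ff267187fe7c328ffcc20339a848d061014a14c2058d21840e7080e78a69c73818c9ce704767048ce84211a9f1dc235250086326d470c64da880ad8a68e6d419f94da832321b50db423e391d8e7c727514f8e5bf192749cc82df82a8e5bf05614b7e39340c8c12e519182a984c333da09860b12930c154307502a884760069415432019994cf6c1901398e3200569464038f61634b9e52c687804391029b072232928e445e4227304f4a4e609a8872667b38e4cac051c9856c83931c6880a63142814c71c40298e3c64a40881471e1cf20e3cf04433d988445cd,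
  nat_lit 0xdb284326da508d4ecca24e81e5449e0423008e1ac58080108b0d786b1c08421994d52310610ccef682198b18e433033b086442f4019c85c7033999502ad1ee9c55a71738914224d38b844d871709a24e2e41741c5c6ee638b9408a7171ee90e2e19929aeca5ed35d8ec586bb26ea4d760ea41aecf9a635d90c8e3e202fb47c442e60f8868881f10ff0c3e21d8907c4241181780bc11c28178a1d202f1022600668178014902f0df9005e0a6180bc42e70f740bad1ee81fd23dd0d9a07ba42e68b1885c834090b8c6380f52485c67168898ce2934099c501ea33898ff667129a14d7843388b5c20d7148381ae0dc6835c1e2506b8a41a4a014818d424a428a40ee083ba8db5a7703a9a4ee04a439dc01f02009008820f8086b41f04d7603e0d42707c0dc4a0f83a998c9464a40c88644735e8d54c3221a7346446cf70c8813051911b4c83221bf240a4005681484e06029071ca052082900a40f91809c04e90e9071d00270990404e0026809c1c64013871c26d30e3b40441c749d38d2240e392ece6a425e049784bc212ec58c204092fd208125e0cd226ce492f06ec725e0f79a24107ba448228b38904eea72ad0d45a7751aaa4eea6a9705683749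0ad1e04815a293a460e0dd1949cccad2938c1185271be9ca4e6da2949c36c42939dec83b7310b0ef65b939dec3aa53bd9995c42f3409c85e683290bcc16636990c906d3310b4da634439b4c67e32b39a4425671c2b4ace6836159c99c72b3826085673343038474d699a0e9c733415ac86680918ce6e77e69cdc602739b937ca73737008af658d415ececc72bd82cca57b09190af652c69b3c1e4c3679764e6cf07b98d9e0981025c2c0d2b59a39856b2581cad66e0315ac20a104c066180981f42013019d3826056e604c008da1d23a7203a469520748226629d1884211300a342260184844cbb280899a54a11308a347626bd40ec4c9471d88a78a3b109f1c6e2018704f8032d09f1375813e2521827c6a1284f820cd37e1af186fc35ea4df855a31bf0e68537e004da1052eca420a0184041451660829a44a10508234a8e4174951c26882a38dd8c54739e94a8e6bc286684ca135e04c1a6bc07524d784dd41af0974815992e8e4a025d1821a38d712e86da525d036d26853d4b4d0a19a21a14d92226187b5a6c916b90d921ea29b2486a729d0d08253a07734a74377614e81e2929d1b85053a13d34b3814c6167020092ce1499059c1bb90b3863860ff0c70937a8319a638308a0c707cd218e01fcd2491a0900fe329901fc63769f346f293e68a4907cd32994f9a6c568ddc09c91bb87dca377373083d01e8406c009ac0f404d4e1e80fd143d072c60dc4a90e396135ca72c0f50804c0262802404c407107b5c026,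
  nat_lit 0x316a494862d406f0c5a73a998b4c3b1316947a062d20ff0a74e3169a09262c34298c587fb298b098ce09f9d90213f07f2427e6c9304fcdea509f9318c1ec0801498c219193181fc63421a10621934234ce83fd61a10d929342036d068421714d0819921a105e28343874982f11ee945e250220bc43d8503f9b25c1ec013343d8027607b098e40f60085a1822bab03040273860807c200200f8200501f141fe1bb680f83ea701f03e0803e2bab85ea6c938bd49ae417a9e0865752ba90684672095d4556d0d50aad0301155983a42ab28530ce4415580d1828d0552c0e40765802c51e603b1285655b085ac4423ab583b4062b13786b0a034147941080aa08a3c068b0018a3d603701a3851e26f7042c756e2ad9dd443ab01a204de42a69ae4c16935c9a98e6b93ba90d7213a11c60226338c103d07181f0880bc24110f84226209d0981a13a25db02744df484e8482409d0ded82681f4386f639068decad681bd9a54e37b33914a74468699c83eec339035d2672240a0ce47ed399c8d2a63390f4186531e82452067d68f40e6a81e80a78c3d03ba187d02ad09dd0564d3ba0add07743a994ee86e041fb486a53f68e35263315c20c66468398cc720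63198f70a63325d2456403940ac8cfa71590ea8c2b21ee386a075368d4009481a81288e3501b7186a045220d40e941157957122af2e61c55e38530abc678515780e482af05784bb45cc71768602d2ed1c5185da0d520bb477e3976826462ed077c85da042048ec4d1592809a2404207f5c4d10feac1b81ac207f44fec3c99265479311aa4f2634841e4c93c43c989a941be3e3a437c317406f8f8a40df0ae541c036a243803ee4070065440e006e1427f18ca44fe6ee209fc690c030008540601c7240c017620180376a1f7056d23ee1f9907dc70f38c5c1caa18b939d23173651062e1ba50d2069090ba19a883481fea099c3fd28f883a4e1fe874da3fd14f107fa1f561b24050d0fa9a8481f5377286680af1811c66830578cd1c46b19a300f233448580668806e8cd0e0de19a185ce334283e4370419a048d43f509928e7017450568d52a273856d428c2b0286dc310513b000ca02d8c35404118ca8e9a30450b5098aa293821d44333bda89d42f2511d8152a2dc8f51405f19fa8c4229a5115c446a17202c541421be2809e101511dc6faa17802cd42ef14a280ba1125173c15ea0068b1944e90f6a8e1e49650ccc15aa2979b3546742eba8640114517343a6a3c119ed468d2c6a84221105005039ea011837d438f029a87200e0500401baa0bb07e946ca07228d343f3504348d6a1950ea943930d1a898634e5025c70aa36a0c8d42b02732863a0aa50678158a1db9f1d41d53cc28b7e16050824f02a1c892bd457b,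
  nat_lit 0x354985122d0486a05a083bf0b40e1aa130945a063320b400dce1680205c21e1eda443c76c40878a38710f0659261b30d88c364bc7186ceeac30d9b40e61b33e88ed832919db097ce3b6179d876c2649ced84d731db0a4643b60dd5c269134884446a4109a46f271349cb0c269235104d251c712f4fd4d25e990924bd0409c97a73d312f46ec525e931460820410c3320827132410490fb820884c606bb010421f6820898e60410138a0821338497c081412f8684625f1c1c237525e206ea04e38dd477841ba9ab5c267316344ce7644899c66e81339ea4c267383904ce3bc412ece2c11de099183bc0801c77809f30ef06ec223501c4646a377b08d46f5391a886062350d2c65232918c8022f36148c5ea6291815da1a802b98304057289905e6e02b86b8e0570f68c0ae71960f78e3292279c64e6ac38c983c24bc69c64e94b2dd99a0215d0f4048e83241990808cc19210cd23240401c6480e528c903d0419203fd8430033a48601ea390c05ea52181cb0843004f8893609f381fc556104f8ab5209f2ba9413e5482027cd0a234015d505af2d7846a05af69264b5e90e11518a5af14e0c3341cc216bc672e35f092886be1f0b853871871a0081e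e12515188093037041261e16824c1e49049952100932a39c1264bc3024c3986040873103421590439868e48730e7a70e60abd006e2009c0dc28c301b856440370a34e3bd337a44c866f30c3c27e33378985a66f26fa0cde14c399bc86a226493258290264a0a382d731324ed2d264994d24c91bc9499213f21324d7820d706b984c60139835c2ab486b8040d0d71001c1ae01b1435c0d7206b8bce135d979da4ba2f3a4ee85e738a40bce607c1dc0a5e717990bce2f319284ee030fb9bcc46ef379a498c6f330bc41fce3798aad86f337320de659c29bcc3ee437987d9c4920d5303ec714407d84f450fb1d94448c19c949185b328afc7a022d98189c2ab1ffa00c4401681881fcc0310ff4c0621fe140c43d02018880023a506bda40009fb08002f33900053652000a4084000441c1fe088287d4014e044002da0880f5301103e248220536604404f88088113b80a402b6889c68891139a98c22737e1044e19908bcc07c61799bbcc0ff37790ee068409bbc4cad3779ae506ef14d9cdde264680c006c713204e90264187b055a30f38178864e1878105a30f0a3840b61cf088204ace2c20959a4ec219284ac74d5851c410b0b00e4160fd1d52cdce0fd114985a8207e9425452c1db08a1209771424432c28491dce50910494a122d42142462832fd982d85fb3089cbf642f317ec32c42fd92ecc546298b09be531492ecc5812989498e53136710a6251c69c1ca3890cb9470c19a36814a3862c21470c5ad25118b587cd,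
  nat_lit 0xd8183e641209c64824429b9bc9c4123799c82417131048fb691de1f6d0531216b8fb666f61f6cb3873ed8ab4c7db0f8b8f4426161e884f473d10d2d417b0bdb008217b4149c2f6702e8ab5a17b219b82f615a285ecf6cc2169ed822683db348a47b649bbcf6c83059ed8e3fc3db10ea666f71ed886463db0ff8a7b633b38ba266f51744cec612b0360a67608028aee2bf514e86f0a0270ddd448c1e7a876c5a8190b8db682d999fd05a82d9b43125f468ce41b2d33f9af9a47c2df345385a860a70ca6a35f0a71419734128d000b668f84db6c1f0990943e117e987c23e102004e30a3731f4d459c19ca83ee6f35103cce4a2d9846942ab125281fc67f50f400c4a142836143fe33b981b06741036055a21428929828533f9050a06210468b66408d1c38670e31630e1c3ff49c3880083871f4c61f63e99481e48c21f4c6f042bb9c5c63781448879e3e128f3c29ad1278ac9824f15b2049e31d3093c51241279e4c46890fe8cd126896994cd1293b49a24a6373449092476571a24cfac34490e906892eb98d120d9611f0b7c823e0c80c47c2fa2016c765517d0b1a62fa11a141891c79831267d50364cf6606c9669a5a82cd1c5682b1516689866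2cd10e945be05518b7c3d2502d8af6605b1909480117e9900248151b6ce24736d84bcc6db39aa8b506f4396a0364d261867541b22b49c3644b0504bcc5c7097867d42fd1da9c5fa4a8688641e4a2540ed4a4a81da84ab676668ed4d1ca1da8825a62e2b5a8c5c712318b8646d2b48261456937a3456803950ad0646615a1c49a276104984ec71251b80de8e389056846f415b8c5a606e58b4cb2e81698aa8c2d31682c0762cc300ecefcb167051cc2ce0ea8cb2e2af5965c28ee1988e156331166385546e720aa8ceed0ad99dd42a812b14cee3b618b305983284851d02cc07e905981b950e3837261680a31c1b90ad30372021486e4e9a80dc808ce1b902094372390206e4f36c0b88609279b33420f361d239e6c61e53cd8dec879b15420ace07108aa086451540a31a2a801f245503fd38aa07d0415405c423fe037347fc6f260ff85e691ff0188e3fe3ba083e00e7587c051a80f812442781248b456649148adc92253ba9305c49110f309225e741244982d173930580813702498224129304e942260824d8549367a4a920ca4152420a72a48904c5490b8b42b44bd185c4aea90b8870901711789c2e2268205c448a233f9af9867f3f6b0a6e4be494dc97e829b87dce53713418a6e14d61dd029a81ed8534c72b1378829a6b918534ed890a6994ce14d3790c75677519bc8512d379148d26f207f1cde442d491a885a82fd98e0e42d0339885a256103183e230e78a6c61f1229303e20c6387c486660f881b98289,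
  nat_lit 0x2c5387e267960fc462861f8962943502b018b1413d30c84652633c913d076d3b684eda2c729db4f58d3b68f71876d3629ceda47f31db458e13d1093dc2c729bb458e63360b1c75081639e04c2c725f0c8fe245691fc1f4c23f8ca5447f07a248fe1b6411fc224723f9e04a47f0bd882f417a6015c2f4726315d4c17a060a02f4523705e882490bd0ef0a17a25f102f47db097bc976d2f7898185ef0739cbde627297bce3242f7989c27ac21ab0f586ce41eb06ee73d60914c7ac29b94f587db21eb0a6e124d1da9c49a040b49342e761268750924d1fa8e49a38c94934627212684be3018097d47c512f9436025f209a88d6c12f81e5c25f3cc244be1fa4097ce94712f9da8c25f1478c9ca198493949ae82728668e4e510f189ca0fa113441f4a18a0db9c0fa009241f452c403e8028707d0f70c0fa1c8141f4041203e8c94e3128915862506524c4a6cf41894226731290d4c6251bd94c4a045703fc08a50c10011a04504fb008a30f4811401470228990c0450651008a04068c20a8cc1840148e30809d1861054920c20608d24119958482187a090437e392089be624119a0a482367909046d3103d0da8307a07a1c0f42a4341e8012603d03c2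807a005ce0f4022045160446827c08821918c8840441923808817b4811060e80220024e0440dd140881ad1041835ad26306b5802019bb835a1f6486b404c60d680d4a1ad10f9035a47808ffc1e010398cc1647839e2c90812458510254b00b8eb8c12a1d70cce43ae583c051a41d71391c577272142486f5513900cc5023819c40660038c0cc28f6019852ab033001d400002da400e4ae684bc95c2219099044ae261b895c57b612b80faa2570824e4ae23b9495c738212b8da6336a0c8c43223250ce7014a19928294c1ba8528c0ca39c0c294770705281d8d0a50905014a0789c2942642052876833d4830583b41480c7684b568ed00ae81da04e8a3b4260907683264815cdb631930ff9c3261683464c41260c98e6e81930aace3263cd9864c66f28c98fda23939c618727180a8e4e73149c9c23483939b6c87270968cd7612d216a0d00c0968ffd412d142a025a45f51c38e74c22f9ced045f19820e6271849ad4e78835a98b1473a34024e7473b6049027ea0920929212439e14aee4c651cf081e939e06b9433008d2466040051cec50a939d8bcd413b06c242762f468fb807ca17a19dd22f42ce0c1481d35829055470520ddc63c4346ac7886e738f1031e134a03f4e6940c7982c63bd2863c58c30c794bc40c1060841820c1292ec182404096bcc0c125ab0c4e6ad3989c93263139488c26a1bc8ca4455c614884ce72911bd4676a10f34ed42b361da856c93b51c1ce76a30db43e6351607cc6a890f99c58e1f3,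
  nat_lit 0xa39c7ec7bd30fd8f7a7167176967bd18e8cf7a2c711edcc34c3db86b107b7209343ce1e70879c512e0f38b4181e70da243ce1f63879c2b460f39e88a1e7163903ce1ca694c4f4480e51f3421ca2f6b83941e060728bde90e51ab8e1ca2939839444f20728c70134c1605c6983bf30d3071439a60db4634c0ea08698131ac77a263417bc92411318ef1a263018304c67a24898c06a71318110c2630da144c65912098c58c13da1cddc7b41ff20f683ff39ed0ace63da182ca7b415b90f680b3194848d4d2908995852114a9ca423243148411c52909da085212c0a4a4437c1960455ec2c08a2505813b21cb021d53160456c42c084d465ed2f68c7265fb697b43e282f68af0e5ed3bd98bda354217b48a61338914ca2650d4388a62f36914c0dc9229957104530d79c8a61bb3114c9744229823922890058c11c52368238a4480470cdce08e0729811c14520238368c0d406d1618f0da1c35a1ba306d02f4d0da189d01b437890368591603b0b22707803d0c5911bab4b2271941644ed0e2c89db5259137894b225c619518b8c124e1718c1c72e328e6270e7171860292e306b905c613814b8c54521718ab820b483b1616902b1c2d238610e140a22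1c30db563862a338ca442f49948860832919c4e6521519cd0a2a3689a854693418a8d02f52d7b85464e520a8c01a105401e960a82ada01504d1282a051e4054015983ae02b2075605610ea84e0202b0045605601a100ac2d019744ba2310f024c45452609ca8a545612f4d2262a29091a54506ba0a8a4814951451652a29270449c24e103740f4292703f4e24e0d09a49c06eb093866a51270f02924e01e5049c0711c93863709bc428ae37892f9a6f11c6b0de23f851bc458e9378887ce6f12f788c346ad598683e0530d063ce1620b10ce2c162606b02c4b0d6811dc162146942c4185213906f0e0c28de5418513f34d7e4a451afcd90915f8de186c8078a8d906c1383bc022a0779a54627e03d284fc4a0519f01b2933e1a68c67c31fb88de56c611bc974a2379551246f1f9988de50448ad0fb0e2820acd450419518a0876a51870ad8830e1f14c61c24d28edc3f841db893c63b7067c627613b24fb06ee31f60fb0a1739c5542601ef287a6030507c8d82a0761b0523f131f94d8263f41f60c7ea1c698fd221d0bb18c7e66a30fe0ba092b61b28c56c3b4085e001918514ed8d0a292e98145127a428a76a40514ed270a287e8c145134b4ed036d61da049a93b4128ce7680f418ed024d60d4049aa1908934e6371269449e76d709346a8812687c4824d2520c49a32111db449ea2e811f0e5d027318ba032129740564a2aa0ad1055406c9caa839331550b1452aa0875027610e9c3125da18874c66a10e814cc21d,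
  nat_lit 0x2c0b4ffe7b461ffcde483ff9a08e7ff34198ffe5fb29ffc7b643ff9470262239bb0c440c14988882483111b98e6220e118c445312988897e43110d34258102dac69a58740d3400cb02e0d71005c13c84ca87b45995075872f003b963ac02b2475838128eb04f241d606c421b10d8ac3be1b140e0436253df1bd921b11e4983627bd206c44fe3201900d47f52018480640330d7080643df09b56403137a48067bd2900c064b13c80d122790f71c4f22cd289e446a13e21f11228f13dacf8849329f10e0482ec1149670216994e041ee107b8bc022f000eca1ee130ac3dc62a592d4184d3151f34462a061b0c542ce498a8ca630670ed160c2060ac01c0c33986831e8061830c662c3168c1866275830ccf2124810d424c206c8c98458a59308a4411b48da5a04c3ef386d256058da4fbca3748c5167de1602c6d436758130dd2235f9e4c25e01ee2cbc06e931780ec833e31ea547c623b24f8c70f41f1837c73e31700443a2e02092c5c039f14e94a2e011d165c005524b800fc305a46fa307e004960fc1c784fbe52c59f7cdd283ef8820a7df394186a634e59ca078653941ba5c70837394e106e9583e81fa537498dc63672b0346ce64a50d9cac4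81b38958836718a3458062550b00b0841600f0184a8284b47806cf50f00c5c51e01fc483c02b114ad23e21958812ed2b10c8945621d88c8c633f6918c1ccc2319b4d446312b208c60703918cfe282c21fc4e23116a34fe248251fc452242541315a291332a85224ea6839885ea07302a5a466340a88cc68629198688311888c5c070172340e0344501c0462a1bf08c4a7491be3446208209310b0ed2621d08263a3fa8ce563b6097f8b0e12931a1867f525004fea37c5961cbfc52c3813d635c1fb146b80055812c38a50258d4c40601a99456a26f08d4c2ec32ec176083530252c6a63f6517f8044b0e28fd921c53db84bb033c597603ce237b165c26f62122cdec1fd41bd8f6e437b0e04c6941c08c3e077418e048d0b1c087f52381166887fc1aa58b3435891669ef502cd01d9c59a7660924c9269042124cc0a4200ac9262d33924cb98b2f1965ce5e33cc0c56a3ab08ad4072b15a965c82b51e19066220870f0c560b1e19b9d03c30030c0b200708164346b02c8f1100591e4907ec62e10f240fab1e48820e3c934a0c8c429a69188d0cc23113394462096988c41b221188e70d3a48bad87493a728e9212f21d24e4ed0af0fbd815e2ed282bc73830578b3421789d184502096b4e8c5cc51d1853463a31668874634034f7876451ef08ec63de16f887bc38c347de71450fbc16c41f78bac82fd34308e5612368bacd0ea1759c60c2eb34318d000db51a188ecd3430d3d66a22ada4d447be11bb8f7a13df0ead27be,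
  nat_lit 0x3490c25a6bb19a487e6d3491d1d26920aaa0d2429111c242ecd3848e4927090590d0065e4182c8d4622331198474c3a6344fe5e421d30a56c351a00c86a322e30fdc80262010ecec4019bb9a5e431724bc815519c484f630aa8ca9a1553a390cee39369d1c7d0a3a395a5074733a98e8e36729d1c0a6d1c90ded43923172072453830e4858022959171c52b3b390a566be11170b5e322e2008624a0e60d0045c839d9cb90808c17e885c83c108b90151417e868432fd046081511c7082a20ce5046071a308c1cb964e630298e5c60559740a40c3028338660529004cde52059550a4052611d6485203fd88a4075908c98eb2b22a1d6542d33dc14eb27ea19d64e04a3dc1ee027ed3dc2c87e4c221ee035423dc06a86670142b4ce0401519c0e8c83381150e6703c118ce00d9219c0234d11506a9422a0af204545dd388a839e61151ef046e71550cb7c6db690dc16cc21b877d44370c4a086e276390dc95c621b857884370b88cdc46e2192f41eea3710e9d06e21e018dc471229b886aaa31908a506322b118c6467520360bae233a9551a6753ba28cea6f4419d4cfe733a88a4a6751ee08a7053841c4843ad29c1fb545382d99ca703a7118cc74e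715f8fc5a3a721aa874e2c030e9cba241d3814842292c534452753508a46ce611490fd84e833b3487e452510fc9d8621f9150a43f2c51087e4416974488290f909854441186988823f121104984323411a060d92ee883be2d05177471c62ee887485dd22a341b006e511502b6622a15508454144a8a064e82940cba042819e8864e82741810e4e820c843e2a2740748431333b3062642d50c4c7c873e990b443e43eda87c87ac71980ea6c33009a526600cb20cc07cd3998029a533010b4866032a2419c260116408fe12c81571a5900672cb207b4496405e682c81c38e59035c94b2049121640352129386a5a5c60d4b0d5a1a959edc35292ed06a500200d49c96a1a93008884840d480c4a1a93ceb8a1426059e7483093ce89bce79d20c38bb04185878083072019060a2ce0f7208304c509064758e20c92896419351208327c4210647ce302f8f9d663037b387ce4d140f9cab651f3934c83e71da88330683185c046ad0b8070941701759c2e03b5205c05e0d3df88c587bf0d9a8f7e29139efc5d653df9a88839c2330473840370e70e84b1ce042d239c3e2207385d838e70164a0750035a0b2233101644d34978c22822698a4424d33dbb89a60844134cd6cc0e3842c66b60e334d6c68749ad83d8835b16bce6b639e90d6c30a08c28bd622851ffc650a2152ca145d84942821672850c292353185087b61b010c286a2b185156ce30a2f5b4ca45eb60888bd693bd89a8a5eb183b8bd6226397ac64882f586c085eb,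
  nat_lit 0x16a18de04ed11a1cdb743f68b0de1e12ed50bba5dd902bce8c139d8a1422762ee84bba21d091043e413380f4c24142e884e2a53809f60c8011d38fc423f1276b4aba4ed417749da70af1df944ed18c989da276213b4c80538a97dd864025aa8c8027f31900fb04320157147c90e018f9250421f24a44a2b286f8c56530e10aca793317dcedc42fb975923862eb1c8325d631c20984a2eb0d4165d61a9a0bac70221758bc0e2eb1240630832a84caa65561240caa31bd9954a50a2699ccaa62a71954ab8b32a965d265503d8418407b412a0580c03d8ca5a07b122a80f62c3093a8b9ce161973da2c3246185865ce682b4b9ca35d82c905ce0c93403c50108450d1a10c91210e1923f71ca0267911ff88b873ff08758434163a88683f8490d0be8721a0e44c43433c948687c231840c5c13e108a987c20fb28f843ef41f08be843e10284240f070084600a118fb808aa050961120a1098941424e8088c0610a1181d30a2301f7841624c3082d8be811e005cd213133bb82e638e685ccf36a0b99e6901732c2142e6392205cc828d2ee905143262e8948280d871050234720a1575041429c1082863310d8074e31b00305c360291346c059060d80ffe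91b0148d03603161c6c02a330d8043c41b01094442525db884a6b961094bf6921291a904253fd9c84a65231094c36421282d1842a05a24bda0b44148416872f602d0c5eb05a14a441f3202d0bdee05a18e965ea0eb28bd4231317a8e4e52f51e2167f5136a8f1037c31e202bc53c41ee446fd3a188f722e431ee4e8c53dc88b941c71170c46a742188b8dfa12b61d25222e3a61c45c731308b8cc2737e9bf5246222f98dfa51651d0cc58b28b1f0c245c07204d465c8584ece76b3b39d9d8144351902880b218510bc820a2051008033f710908767711e09080402117084780e60c8f024a111e08f00401172026a638704bf44b5084602a211301d9d06a03501c2304b5194d0a68e350117d66a029a043c0731594d08f0829a0c5c258d2e784d944e70939c49b40e78822404c2730410e13d084f4bc812e80c84274c0bb04d6a39208c4c262119c923027093a1b8c3048441860e86b39d0511074307c38aa00dd69540684c2a81c2545501bda4aa00e33954019452a804c464a817a38262182504c4e9880989c2481310c5ac69001e10114a0410c5858d418b0c7a803c1d008ef43a0e05206c841d0011ac3a02cc3874059a60e80170a1d034a103a079a31574f34c0b80fd8679a18cb4f3466851e68e9893cd1d24e79a3f894f3462e21e68fcc72311b51a7e62b3a8fcc66149f988c653f315a487e63a638cc2661687005e88330855486612510ccc24a211574e6ea2ae9c48855d17a0cb502f4110b8d24a07c1a4882f4,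
  nat_lit 0x3df18b5c3c9296b86b842d71e61658c0a09c22c35c1850452810a087a1414109ea42826ca28504c2011a60d3120871922869831728d3016c205110c140a22049414409a10268134500611c043e804b8801809818030142c006027d400c2ba04c54574485c0c7e32ba1e4da5743a630ae85af515d013482ba06f9a77d330b0efa2a351df462ed2048bd1840917aa881209a515d4262c04d0d21a09a0c91881818b69030ce2e1c3814983870d9a470e07f40e1ca8c71c39a90c38735b1470e54720e1cd5c31628b14622616284b085d068b14ceac162853542c535f1c58a7c509e409ccd3c81d1d8790395a8f207b039e402f053c805b842af1c8b42dc392605b84d0a0b70ed5016e03d942dc5c740bf4b8e40b782b025c72c6b4b8e2be6171ca04a2e38ce4c5c716194b8e2b219ec0f6052e70c81a7b00cca8f606be31ec0cf6d3d78a7947af0d920f5e74739ebccfe63d78af9012f01d085780ef18af871ed15f1a5542be1c91c57c5b330af8074d0880b0d803a089a80742c0380e8764d2eb0ec9675329db87645b310ec8a76119494ed64352f034a7617860d9c2f072e704f5a17803db82f07c608dacf5821b58e35636b0fe9c6d616928dac3fc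33ed9349c1fe0c7b03fc03b487f8c5480ff06b0e1fe131143fc4d25914c9a491698424a4d20421c9a465541348690326904256265084a0a1410938a3ce0490848989c1091c3102121041042477ac1311e7502621310c566262580c04c490f70988e0340b4904c4130502b801a90571700a0ae08b1492c1355045815a908b11c125ce2b7b88e04dd511c0e9222b795bd41342b79c13256f30de058692b79efc27bf2f2b41665e55105cbca72541794c3cf2f290f7e2fd08bf45fa52f282c9c5e5161a0bca16f698402dea17885bd02eb207982de29709f4ce12514b8a5d40ca14ba458009960a5c142414b8cfc409904c88ace548502640f6904c8f9da51d1c3048b46f6691686e0938403f1c370026ac6e038630dc022430960774212c00cac258076204b03bab03982a841dd0750c3ba0275077445c80ee84c4e1dd198183ba37809f58faca0fa9f58c73b17a1cfac6fd41f58feed3711fdd43563fb98a126f021fdcb5012d40fc507f71e9a4fee27629fdc1b2106403210640064143e41a850320bba90640180c0c831f9019073b115ac664a02b8cc8e3303cd8c66413b70cc8828919904c4c3323aeacbf42ba71d748ded3ae979d475d33aa4eba13b21d74574332a8ae8437b15d34c7e2ba31c24a70915d17a8e45e22f14aba268191788be122f1bc1a45e26fa88bc5d141178fe2622f1b88845e3c790c6460b51e3ccec83c7918cc78f19e284b443f40968f72712d0cfcc25a0f028de071549bc088283781e20e6f0,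
  nat_lit 0x1a1801006a081d80d4303501a9a007005280d40a1381a83ba503500b0e23002928058231480b045c501608d14227038244686fd288d0edc20c91f5c41e01c888fae501197dca06908b941c45072f70cbdc5f719738aca21ee14e045651308cc3861c19050c80233e19fc456c2338c7e23f8181ec6402084042046652b60848a11718a1455a308b823941172b2a022e3173045cad8408b80796190208b432019060320320a0da0640c3481fc04c345f7406407f040c801c02108233b82104c86842043ea0840fe0e10833e308ce56c3919c92c6233919d4769233a48f87396919c806c1cf07c1239e3c60cbd878c607f4f18b10f8eb8a78c0b110f186a359ce4992a39c9af927390c294e7212421ce4990919c9320a3780412899073c21320f2eb16a1e5ce58710190f2e52b11e5c406a3ef880ce566284ac4067de4080cb0831019721c75f1992cebe47839d7cffc43af864964110bd2882273c390441346208931c44d02f08cee01f71978427612f08e1d65e10b1849a067159340ea631c21fed63840621ca2c77b91344546121017dc20c4248341880ce603106c0b0621f5c22d435ab4fae6ad51f5c7de93eb97dce7d721c98f8c565390e44cea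21c9ef124392b2844fe6ee097b8168a2f71594a5ee0f9a8a0e61c2941c11632818f4dc08b1a8a81165042822cfeee1a918c9a352025286a458a40d4812e61a90ad0a35236fa4f924ed71b7c55ea36f915106df3a31cdbe6d431b7c4b4536f8ad086df22828f6845031f98f1e52281575c4500969c8a00d841140de84228193c478f327b0ca464f403fcc9e7113993cc6b911134c9e6d34993c610e32795a043bc2b4282aa46b695a013092b403e1056839a1cad0491315a0fbc33ff19e467de122b823a17850474e58908e9aece11d3301823a72b284740ce408e8ec823b21b30418670868d98c94b1b3013143661d9186cc36a08da884223d60dac44213308484236a51084dd2d210989564212b124e3815529c70456e14b8dc5422b1b3a4456692288ac50e53ae88a522873b82850e6bf38a1c690136e0f4166dc2b104f903c469f2037ec3e40a7967c834a34a1c69559438b0c31d719c865862812cb0c6a3483ac1d61010866561bf07598b046be583ac02230759080677b1b5080f41fa10da8098300885e163681b430098368710800f6b21009c2636810e8c6d0034a077c0acf19a0bdc205617bb4f7c2f759b846e4e17b939c42f71b92c3786a268dc8336321490b0619b055343361b26066c03ea0cd9ec1019b14e183360b22866cd0c40cd819ca42c216382e242c69aa4858c15410b122f521620d0642c39a1085863791cac842c3df28852566310a4fea4214959826e623bacacc5872159869822d71f7ce5ae,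
  nat_lit 0x301408402a1868807a401f80f8603f0570835668b196e0cf8133e19f1c68b08430d1618949a2cc7e73458380c68b07794d161ab21a2c126b0d3983165462f09cc181a72183103c33060698881e1983435622a486ac19070d58090c1ab019943561a61869c07a10d100f440f80090807a284680cc3e47019801cc0330779006602f0893c05eb12b02a1e4a40261005e02e180bc0093026040284200170400802e5892805c90a20936202e0759005c19c18094790c0ce06fd019c267903380e11133cb7a63a19dec25bd07104b740b0216e83fc12dc089945b83e314b700ae216e0f72c2db8af145b73de14b6e0ab216dc02e105801c8a0b02cf281565be282acd2890708694e0e10fe981c20162838404a4070874120250e2a004a1ac3009401050128775a0240e7a40480603809000e5012038080240238402c12c70058254c00b03f0e01602b1802c0082005802a208e844120150779802a0e02805400e400a893606362c18440660009e5cb06530014e844ef3dcac9de39c513bc6e89277926662d402bd076c55c91f5cbfc23bd1a2821a834524fea26f51a28216a1ba160c476817808b060999018ca3b31ba14598487269b490e70e5921cd40a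2438338e48728e9090e68218d148b420cb8308e34529a2868a7b768d14b8cb1a29168834518f0c53c31e119a8de222c10dadc31e1432863c4d138c78e16618f0e18a31e2691063c77a61cb8ef451b49da8277a1c9acef46e751de8a4063bd1c2c41bf385946e06e749c2c34ae3858435670b3cc8c50e7c819e64c42b3cc9760c79919894f3272821e64b5c21e40f20434c1e42c33a39f30f200b2d1e41f2103c83e788ae863f11f3c92cd3e78b5d47cf3d824f9e75141f3ce7263e791c0a7cf22b0c22c6a7191581e533680c8286ad2344897e6a73106022c33538694203a08804d4e30459a9cf2ea3538d70e6a70a394d4e36b3069434ab06e8694a0fc07ea434a2a15069450cd2fd0a1925203168450c7af18a186f4e14311bd62863568492a3f35925454231fc01ec62a10bb2c54237a598fcffcd1bd0dad437a3e48471242218398712e21111fd6422384307127ed18e24d90238400d942840351850833028a10d90414201a9809c04e0c25e09c715fc138a03f8270e00c04e18aee56f20270990622b115944c710da08ac5c749158ade522b083da7c7107b0fcc20f51a0c41e93be883ce686107941cc1707083cea2e10d8bf5221b16704ea275169700ea2a0cd066d27513b70cf5a7ad18648f5ad274919907ad21728f5a5ce21eb4afe215415fce0a22bf989c81ea515fc8e042bf8e7d06dc39aac73e51d48e7c6e451cf85aa219e01a042d41b1685a88b490b50bdca16a004040cc00848170010802580016008,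
  nat_lit 0x1c9c06e23061075860c12761941c306353a460c04340c1809671831e74c3063369460c305098710f8e18288c1a30516a2460a04240c140a071829c54c30513f9460a303086bc606b0af0c0d47bd18198bfc7f528c0cbf89181838c63033cca4ca031c4194044a73281428c65043e0867833f4a1f062c843e0890e87c0e0150f84ef1089444a229d018d6409206380c63ee08894096e112960d42251f82444a076408942166112887c622031b281c263638a841c0b31b0fc045b81f80cd163f0083806b8e1f81d8d43f01eca07e079938fc073861f80e7845bd2dea84b625b59a144b6628b1340a25b267a44b68711896d0e2c1ce21c562bc1cf390e270c10c2092023861c316467351b4e1815d41c307b211158171c3d903b247b27c430f6414851ec8f9c43e62809471406b08f850622035801dc06b1ea240d6224401ac62c703580f5008f0470c11e00a1821810c30439391608602aa410c14428218086e18e01d8e31c0849863837020c70084e18b0d3183162762462c3ee28c586de418b16b9210300b202063ab3040c09640818ef44102081088a41020943d0b2e08111dd210200aa020405020408ad6b2878788850f1950cb1858c71b6093a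b36c215486d8104ad0c02032a18040444300c4844e41c98462433458c4834a818919b4831215ab8ef02b859de036273bc0b388778059308c26bd51184ac4723086c8a461038108c25de10f00acce2ef02c185de3b190bbc0ae6216420ca42c88908859055b10b034f521606a4742c1668a8583dc910b066858788d34242a9b69685518cac4045fe38808f2e5101193e63072b44856666d10614ac0133686e1666d418a0cda1c5399b4c5463369d8c47f12c1ac4487634960cec613b1961dc7632dd30ec64ef31d8c0a0e11208d1a2242dc3044802b50890fd822411fb187883f628d5c5b771fb05e063f60fbca7ec02d3415605a50a480b460590a70a05a1e7b80b40591816875cd03e1599a31a2621063436f110bc1f6e1b788ada36f0a0b06de56048dbc7e651b781404350016340a037c4814000e8028132042340160c456297683ec628907d8054e0fb360981f6176283ec084407d80b8a05514c100aa25e21b004d4236017f047bc37388bf85be1962cb1631551bd9458b41494b165fc2162c766324c8ecc43332f3b87664be60ecc574a1d99fb523b3260a07660d738eccaa061d98528a3b302b907667b7517f0a68d2fe1a28a5fc0faac36e749086dcd1811189a3166a13e424d181b721a30a4e334603aca29815f05062163620c459894188094e8310ff190620432a0c434a441886d861b712f884bc3ab520a485294149a288829021885de0083810c4c4602183f08043050b408430d4810800e702107c8c042,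
  nat_lit 0x619470479d60e083e071c10ef5038213c107048d318e091a6535aa34c2060469a8d488d3415dd12244699afc2858466888728cd098fc4fc9466a16108cd2c51d19a5cd323341b25466a25888cd1ffcc874610a1f1869911b591e246f51e8b0e5a7b019cb4e5a31591e7041a93ce88f3879c38dd067cb3ce1cb5625a3ce28a1472d393bcbb0a3969ee1072d3ce24e5a71f29cb4a0c32fa1b05c506143b4a0c58a49418116828309f8e5061b798a0c46f29418a9842831c128364129846ee2535918c05e81298d9082533820c4a60a451674b3ab3c119ed67041e228e0870439de8b3a43820d04c5ee2f5a868234c40d04b7071a086f8a3411a0a49d4341621f03c421a0953067c20f938a9843f4953067c82a62260e54c18b18a9863258a58b50f14d0a58c3641b2043ee3645958809881b2167463642e80867c71570cf8bdcc19f0969233e0eb9c67c87c30cf8f92519f022c833e1030c7a28604081840cb029881940fd1032454220629f78ef4e10322dce26c2c80916e8ae683f115cb065108528ae43e0d15c65108ca860cd3289945630830630ca22d6199444dc33a3875dc26e3452c4dc788489b806681371c54e26e028184dc57068504ae0c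11595c1472c2b8242f0570391c0132e2b80288857001bc41f40fa0226c020f0728394080b2b80c7de1a678b40080112f0978087e3600437067959b004d8b1909814a26c360384d84c2609b11423136075c648c0eb88eca1d708cc88a1004200c2626a1350105c3ab5069885290d3162ca1a63451034c0300869834c04148370668a30608d1468a020786e8b0eb9ee521d744c203ae2243075c352e36b1c39a6d6133b0dac4d359b58b98936b06bd06d62ae1cdac1c831b58c60436b0a74e04c2f38853a3131226113020e922602898019b91308964a2600d6644c09f8889812cb805e259596106d4412c8394425911044bfc05708880312b1100e054220110203e8027187d03e8307c87d164370d8a83e858b487d085250fa0c0c81f444b04d8289272258f72844b10fce8961ea1912c6702a25838e338f9c7c64bb38facdbe59751c7ceb2838fa2484372019a5124788422488827449016cc892115151243e6489e1122313c22442042448a86ec89140de079e94488c3827471870c81231870c3808691871a9d030e02e1c61c1ee30c3859851871ba4830e186040a030c2943cfbed1861b3d630c1862084208410c30a0291358c6062842088ce0431c48c60f32818c0f64e318381186302aa28c60e10418c1eb4c3a41d22c0aa3a4518e074892720928a3a43e9b874831338e90a3431d2009201df0b50804851a60e7ca34b0cb8670c51a2e68817e4d958b5c37e926c9a3184d92660c9b22986910cab8f0c28ccde6cd,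
  nat_lit 0x2dc8d25403d60bb02c23176058427880b0b01c2161583882c250951e30c161418b8cb62aa4996c9a4632d8c70a65b38590cb672c08848b2ac10916e9021216f984247df110f4afed21e81ad843d0402887a5b8410f4698721e9c3ca43d08b1087a91258b7c748d48922598912063292245b7424489d0748908f9614a11f1915c169688f8a76911f1654618b12934b2a46458948f5ac2320f894464038208c82563919069ae2ca8f6545953b1a0b2a59d2965401c905f82fd66221ab8c2e64bf5981cc0e71ab82fc86071ea08c0e47559b2436ec23a896d047526c908ea729191d4688b2661331a3f026d8873814a90064d4900720df024cc39484e7072959af4e5251e40dc8c72926610e52321199ccce633b69814e673339ac8f80eb699cce189339910ca6732fc88dc25f90856c8d8e2fc88f5a5f93efa4bf20fc417e420672fc890cc5f918914bf2306217e4dca12838cf5c6e5284a4dca0fb41b9420473728f4cc6e537714dca30521b9431c318781ee418e00f2431c25e286380f8847f883163231062878686070830ef4810618ca85d947c88c648f90a3e4a92e47c9c7148f9191251f2371423e4df8747c9dd4c8f92b4151f264f223e4e50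92360dc1046c185188d8650211b04d8839f0f44873e47a0ce7c8f458e391e8a16623d10202103111e824319090614e12189e18243389a44861694090c75671219e74824302ab45be2df09d344d872218b7c84431300c8865901110c886045b8b7ce5dc45b905be49110b7c52c936a8544a6d50614c1f21f1816e024e330d17bc612721cac24e12769d0c24e40ae920821273898cf8835371c4c7ccc389978107133df1ce267df31c4cef053899060871308420bea5f508c64beaa3f517d520b62fa9cedc7d7217d42e822fa9a29a8ec31d251d85342a3b0c84b1ab8d5d816a1abb8a345be08d5c2fad02185f56045328a02fa8ae205f467a30be915a62d62c23c5ee23d08cf467ad38e0cf5407119ea06de33d3a16467a60458cf4a32a04ba467a87c20cf4436c2db16d828ae2db28d225b6484bcb6c72f208b885b63b308b6c73059c9c606d39814d1273031d14e607d311414a0a20fb1b09c50542c24a0a27e414141167282a164c5050eb90a0a252380bc53a41290bcc42522c42cde81514962052c52c417f1e6c23610ccee1a659b089e6936103bd06c21e99cd8410231b084dc4361177164e812f38bb87b8617707a282ee09b085dc2098cbb88a12104c9e610952161c4f3214ac9e66c4413ccfee727991dcc4f321b949e6788213cc47ab2a48c31223d0d3b047a8ae408f4ca2411e9c80623d16b10e408cd71b1057ed36203bd26c41f89cd8811031b103125362224886c4287047cc3e65913ce32b13c0e0965ef,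
  nat_lit 0x1b4912c47f611894f2ee29e894da53d4adb0a7a799514f4ec6729e9cb4c53d4ac0401c958683552b0b069a560c0ce28ebcf6e0cf3a5601c82067833c44df067b04b60cf5995890e6067995da0cf0dba019e5ba3a56c7a264ad9fd825c43fb2c7a225a61fd8bdaa3fb17b927f627420fec5b739fd819634ac1afde72d28d890b015d6946cd46828d9d0c851b44b384cc0325099806691331e2102662209c4cc05b3099845451331b1082661b90c4cc26602248e58b09984cd85f22f90c7ea8ae717c86e0d2f90d9925f227508b263c949a401c283480c48e69037b18d2010329a4038a43480788268f2db34d1e4ae49a3c1c083479bb8e68f08114d1e1c421a3c070113c179e66e11295060c6bb904d528814a20f38212d1e7350b03ce506f079c623096a0a3ce02d3079c63238f38fb281e7251083ce3470c79c1d41010c5de20ea075164a80ea2084005108750ce8e0e88bc5a1d1308283a2026487447ea80e88568e1d10fb183a205d2874442240e8978501ce0e7040661ce581fc95240e700d841ce214bc984474191840e02230118186002301824e460696f48c0b3e3118084740fd048c01330899802e20999711c1c41173438873848710048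80e209fce1c402814388944301c025a54a21ee5a9442f5392887c352510f1e74a20708694432b0cbd01c771958d0ac32b1bf5465626724cac1f5419581a6732b1c38c65611394cac73421958cae11f9978c61c50e2b8cae6005195c1aa732b934cc65711294cae5c459800b88d37e9f1985c414d24b881c03971044852e20cda412c19b34a2c3365049c66cb1339869c336269b066c49038cd808e819b1f0c6336065881943f85832c196c1bd1405a0cb00f1019603658a3875e414724f0229b019ad27868a424f00acd1d781f183af044a075e23e38ebce7d025492a421ab09534952134592a4952603e037c64a9084841123ab682251fec0448bdd208922d1411258c09fbcd84d3f7a24587ef36420fde0d310dd41a610699999c0d3151b01a66615034cace906980f900d32c8181a664f2834cad0406999b5c0d5198a41aa65b40354caa606a9940a0d5013cc3f4040a00dc06e04408100089d12f443e8465513302deb0478bf5603f39808f2003d58bac98c117617f9a2ec3a4ac5d873030bb05d8526210c0431a2620ce5820211948ec6d2329195c4c4232ac0e0253391944a4823299c464652328c1ae253a06b86ef126e82c060b02dd08b745e8716e8bd0c2c397a162f029584bd052b9110cfb213781f65a8cd33f94fb26bf49f6457ee3ec98b547d91149cfb277e19f64ccc331d16bd86663a628ccc668499983048333071ce6661da18ccc308299992541070a4a967693c6392544d1624a8e18a495011c892a,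
  nat_lit 0x2a79826e7c9987501e5107e014623891c48134c54f10c183ac22a7953d84652dd34a9e4665953c5dc52a7931684c61764883278810e6073011cc0fc183982dd287307aa48e60f0881cc21c4c3984d238f544d069ea844ac3d5109907aa3baccb3826fa0f106a7117a0182036409d8d33c9a411d74e9d24d2269026322f0b534804b6269130684d207c0c9a44cf113489a309024b70e4d1814189a3178253460694268cb1c44d19bce499e4cf04de8103626789e094cf04a9099e2c7041440ae71638204c2c702cd258e08fa0b1c5b4603acb68a36e19fd65b4295a4b685b40886807e74ce8868699d4ce8c3ea99d58ed43a854ce93c1e377076bc0240120237c1da041e93c0449d2df889e0727093c0b5cc27818d104f0267a85dc2ee19da45dcb34300f5c2ee2dea45dc63411cdc246231a096826344bc30c6812a498d0844731a0f5c86344caacde09955106132a63cb9cb5c9953fa9d32a2e32265425834ca884d8797109ac98a213397a12b6e1098d68a2131eb84dbe78418d487ae237015ec43d73c2387ae05c60f5d30691eb8b8d67f71719840671350b8c852717181d862e31ad3040435a5215446ab1ad0f65878410928f0842649e100e6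3004067024264c1b884c076610980cc6213260c43174c18486e1ce6a60c010c4c18a34c98309511306069101700d2103490f5c06904e340d2007601a45289034847c806909b880e0460104dc23e24bc0459c11f2b7b423e0156047cb9e908f81f8222a03f3078207e590c0266403f0024407e00b252f05ae425e0dd274bc0eb0c97834a152f005c225e0cae33f70168207c087b4b6e10f5184421e62331a00a10f4a23021e3a44043c0b44087a5dc610f4bb840489775915d2ee932ba5dd00a44bb9c66297728fc0bc664bb8fd9c97702c912ee3c1192bc2fae1e08c71a3c12f9107820a409578142e2af0c59a55e05130abc256495785e852af08ac855e3dcc035429610608950e270158984e00bc209c00b2393801cc42701a84695b10d083ea56160868160710d1cf8c21a4ad904344831943c67ac24186c144830a0a09060ae3920ca0e62419f14a4831a09090696d81f6c31c24b6a5b4430f4b6ace7c2240a5b52da92838d49896d1aa292da321425b415674b69fd8896d09628b260a3501d814692ca81ad60a32c1a01465932028c1fe3051958426a4101b8ac236469584e50a2b08da505612ef1cac220c29584a7a42b09341855f2af8c36655f5889c44ad2af9331255f06794abe2d989518682116c895982d9033a85b20a248b641cc816c9eb4e2d9189985b217820b652c4c275a56d04eb1091c9d65dc313ac52eb2f8a2b945f12f8a46d4252097c416814b100bda96218c292c453d42588b2a74b11ee0c962,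
  nat_lit 0x2ba3ca0c3da107287b413f89709c3da246347b46c460f68cf271ed173cc3da2fa147b45fa3054c92ad0a99a49615330908c2270b09848832c309110d461208e24c243964184889a630917096443466b0b840ab4170864272e102b4c5c223e14b849122170819722ca9a31e7192ca84f947ca50788404d3e51e6967ca3e51c5d87ca108c468823e514e426bd29cacf78127494e46ce329c9134625a31a3889a9cf611353969226976d044d1c49c89a784211353a6b1c491fdc9d308eb53a636e6274c27aa4e987a129d31dba13a624d3274c63a54e990cc89d329f852f053f60daca7eb37894fd40cb29f9cf1818f214fc182229fa73c646f4e784d249787273c25894e7846d09cf3841d39e4193273c78854e78f6489cf38d9c73c71b61060e36b0e51c6d23821f310e364d311c6c8af2195052464570a33029250e50524292b15f023821490908479e495a1da4d5b13b4848444950d2882420157048422cc090964d61212e6a4242859404846de709089f8c12134d1424206b204848cd40a3023a81441ce445c62e30851828cb2e39609c1462c32828c03f4051811e40a3051461461bd093969cb10d98254e4e584b189cb2262139611c3272c84c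44e596ec285536c0489899e71130df4c226176d244c2dd948987aa21130fb861078c4e86951a74872439202430fb821bf0c1c47dc22830fb87ff51f70d0073ee1a8226c035504d406aa6a56cd54b07326c1c6aa129b0d5454f39aa82dc33551aa862af023d0072016884c0fb881b60db021731b634a0631328db01b0c1b61bc9436c1251c6d82c520db03b231b61bfc226437fac4546ff50b34606837f888086ff0d68cdfe3bd506284bc90c50078a18a012cc3c24cfa0df9376a08e0470202508e3015011c5928c23854950eb9c11c0331023811d10470238200a86ac411b08d8815c11b08054b5ce08d9ca5a11b2edb02365de5046cdf4908d9ca0e11b351182360592846c7e0408d96eda51828c2c33419c494609b2828c096c85181cb0ca306a260e5872cb2cf176cc3964389072c1781a6ed376329d910d29bb386153764f31176c9e0e2ed82c145db1cc10bb6504126d8a9f4113889c221410a287cc73e708505c6c10a1b01021410a0c93609f18851362236d1f1c49b12f505362398726c46b8c4d897a149b14d2253623d7426c473c64d893c089b1199cc85e079a0c5862c137d041966fa09620df446c39be8ab6637d1be9c10337d1044a14c19be8426d4d8167862bd118a057a58438af457b32340af28670264c43e42bd5017857ad02d8af5c46415ea40d42bd200e81f940ea03f022bd4d80438c9b058a44d1cf1c3075089b007e0d36026f9a674de54350841223531a98134213740154d42109b843d6137,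
  nat_lit 0x115ac6ca04c48d942a651b2a85821b250b08abca1172858aeed50b00cd8a16357a142c06932858458450b0a4e04d01498408a2932946d3ca41498a5042930352d42a0732a8549c8d508a2618a1148925422a0b4284487a65089c848a110bfb404a17f5809c36ee0bf81cd417f4f5902fe158185fc66f314a8bba8662251c852a295027b8446f0bc05e0087333104fbc206085602b0b2f2198881581cd8ce2e39b10de03e0e1cd8e11a39b085b073687148e6c0cc81cd9ea8c39b19b147366fb20e6cd6a25059abdca0b0ebb14165b74a82cbdc750596e0ca0b21c954165c32282d41541790aed2a0a359c85422a102368ec900bd1801aa0a50504542a0a616f5414b37ea82940cf3501941415222828f1825051abc2509469b4d5e26e61abcfd89357a68cc6af3eb94d5e12e21abcc0443070afc460e5038c0d6a07120c540ea32d8fb96a071621540e4952281cac220b18850c02a396b84fa6f0589f4830a13e9fd4e27d3cb984fa2e3209f4258313e8448427d13e8132a02a08844054d0ea00a982030152c432213200a8434e015010a631a097344ee7ef609dc6eca13b8f3d22771bc204ee8d3209dc064313b89e04277021044ee27702244bd4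e0e19ee5a1c3087b03867c35070cf1e70e181c0c1c3096943863ce2070c38430e1808841c30e1843861c3025100542109084841a20d1286e41a238a5879cb0d10aed6462264bc57646528aec5d8e15d8bb982bb2c91057603a18aecb24b0d9054925921e428b242bd1964847413908e59c23a3df304749f5488e8e5e811d0f98e23a2781847439e208e890023678a682480055b89003cf692009e6c24004b924801ed209000b33120016c52401fb0848032b4112c1629939c30b22739d7606ae3368cc6c636186153f62397057849fb4fdb8b26016527ec02ab4fd98d8a9fb4fa8c7fc9f510b34df6e4faa3fda9f51d5b13ea3ae427d44f074faa678c9f50f8113ea12e19c7025c1104970dc12e448b425c6c2604b845880971638c12e2fa9425c2bd30f947cad1330f95228408d147ca7d360f94298a1f29744e3e52f5207ca2bf20f94c0431f28bf442c4162286382c43828c62cb162258922c437d8478257719becdf631ee956d86fb1cb24df611c41bec898637d941585c3055a4b867214170ca0e72e182b8c5c30b1082a422c71c8430ad39089f987214ddace425c249c8422c6390919ca721177c4fbc7de0266ccc4b3a6198927ca4f5850e29eb683853d6b071a7ad250e346393d66621a7ac456311608b0602c116048c2378688b01dec1160f69222c08f98458108288b033310338a7643982db8c530055102ad3ca10c1279543844f2a010c7432a79426e94f2973c49e530938e5e3ac61cbc75c939798d0c72f,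
  nat_lit 0x51e1041aa415904c5ce25208db1ca4120a314824125290482295208f90aa41048914820419845822c0446934687df054c471e38f02044b8d0075836e00ea0750102418e6904c3249209904c21b9135ac122a3c389ac826413580c4626b136084d626b022854787450a8f04a3c075b94787ee4a8f028c651e05dc472f04d042ee10b685dc708c0bb8c4501772af982ee487285dc12c40bba8d8446f13c407fc6e20a8d939e251b075daa360e1a546c234328d88be551b289c8a3651984e1e3af728cc150d51992ad8a3304b21466311228cc6caf2a61e6865c92e48c7ec5c931fb875d02e4915965c90a324b9218b99580a0523369b7043ac3a30d2ac956194092acb362255943ac214a12ac2202a558898326a15a46a253b3b49a8084513509a8e519047d6a3109529462a31627ed462215f13502a312e3cc9de0ef128c52ac11d9837a23b31d9812a65c9093bc9d8f1e70f3809641fe4831e65e19888b241051997967e632f1c57615a91978f94e32f094ca65e1864142c03f80290cbc12ce0c45629b1470451c28f68c4451ce188951a64762a2d01d4011903d01e80411914a40840420118a6d481f7c622121e86b14a320d90d464a32187408f0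d51906ad6a322fe214646ff4a8c927855190c9daa25003480c4327081880c40426213023272a62c64e2c430c9cf709193842543273ce2064e73d18c9c64e32ad804e810b085810ce0ff892a095004ba02b205c82e4012dc153181f095624e996b824ab03e3895611c692aca2e82559cb9aa2e5172cf203682a8b8b04751714886a2e149ac79851750a4ca2e23db23fdc51737db4a2e0966145c708428ba3b045d019f091d843468244a6ea0488244c16e048b858a091614e0122719c8244453419e506f837c022c4231411512d6207e26648f521b88099c4ce049591fde3b40084010e0870202802004b392d4409139028c3642550b58a0ed3900bc2430d16b34bdc72008e3861a116b0f30e72013bb87985c368f3144ec1e6016923cc0c2a07980961156412c10060cc06089044b812c55b682586e4904b1474a096040cc8c053fa11852f1111612ee41fa51384e243d91289cfdee5139415aa271e72544e6bf4289d44cb28ea8986a262a2b944c6306a898a38c5131cd52a261482144c4913a898e6865131c388a262e41544aa1e10a486e0150f1565ca1e3e23143c2df528780cc950f21c50a1e3c21943c612228780e4650ea874219d50eacb7ca1d48574ce6850e94e48a1d12b0d43a2796156451a92ac8e7905591eb98ab272f21564f6422279e6827b248938f647d369ec84ccc3d9285927b23f620f6429431ec8f8453d90f6887b200ccc29814c0273811f4112851245481b28cbc61c518d946cae2f88d9545f2,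
  nat_lit 0x1060c4188606882ca1ea10596e9e52726ebca4c20b09674416b3170561220b4ceb041615f3882cf9441058b04620b394b8fa25ae69f44634a3e88c30e7d117b98fa2a7e29f44582b18d0b0446bd230b858247768b04bcac16080e902c11e01c58212f28b044624160816a63d13c14ca563f6704388aeb087195d210e0522021c33138438bc660870fc0a10e02c9021c0141843821e20870090210e087012ee5faa161004910f09c3a22c5329bcbb270e80588d6d21bf06ede5c82e4012327d509e08faac37a1f5543db3eaa058a7d538a70bd113ea9f7087d50f088faa51a0a9f8790e53f0f25aa7e0afa94fc6204a9f8a1c853f143cea7e0b5194fc620082fc4c623101a41a6204f5a0c4045a31880ad0e3e70cd1a7ce0e630f9c5e451f38ad693e7154107ce26098f9c54929f38ccc43e7100667a23b65064258869f8cfc612009f8d62b43f1a856a7e34148058f13f18830c7e338f90fc64bc11f8cdc3319a84d646be35f0139833519bf066ab047134983350239c66a49040cd431ee19a8cd426be53988d02476129cc1c0d53991598a7315f254e65b6429cce12753987748a7353684580a6d68c854daa33029b4c178162954da229629b4626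453689f86a6d292ac7de53971494606c292950865252942c7c825e694a082652940719e40952f04b34a5e1102461c252f0a11ca5e44c354bc4e46297946c852f1cecaa5e35f914bc06c08a70850e0360a35a06c147300d83b0401b039c603601f0806c1452509a84d18d5d09a142385cc684d01cbc0b49fc18b0c2bcf090858ce01b097ac2be1ea79a8c58f301d1bda85922cbc41467a290694046f0ea875409492740d36a9b519e8808731908a02474c0173536a539426d45be54da99cc89b54da842c054f885802bee2c9057d803f0b0082be01b1058003610af006d802500dac04c01b3058803654c18584801b151c82be01b1857c29280af8c68a15f176102be428110cc79212140199a428188b0850086510a0708821412ac8428019cc514a2e20a28ed431450119e330198010d00ff78c1860c04b980cc628008d18500280605bc50070b98a0141d21403439e28041d2450090ee8a0082be1401457a04308a0090831e61c4047ee32b88e208d371c41416d38828d987104f2ace2010f49c409c883880b58e71039d14e203cc21c40708e1d807c1a3b027a307605e130ec11fe41d809a0461922f0cc3253d09864c58e30c9ab5a6192e330c326b551864dcc930c931906190609cc326b63186497a430c934824f40bbb89e826f693d11d8a27a0a3904f41a2949e8089213d045eb47628d9c22f1373445e8d3608bcbd491178a11022f0161845e731288bcfde41178834420d0173841a484488348267106823cc20d,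
  nat_lit 0x1542c07051c118247f833049269660929fa0c1227829824c1240618d98a2a501c1054a6e768a947d0b1528a94e7c83048454a2ae10a95554e1570fd9a2ae1762855c1e238ab94fc4157030e22b65550828235c12aa88ee15550439aaaa267b15542bb52aa819e95551330aaaa1e4115546c479f8cb441362168964d709994b444d93968954842d1125865a22a20ca8a5441024ca88b055951143962a21ce7c0b03151088682a22874a544003440c6aa45018c514903185cc60631ab880c604da0dd00c604268dd0084755204312aa458bd40fc555221354aa423a9d54870f1aa901d730bc0219a03c508ac078066500f05be901e26ec803c16c8c0781a3080f0078054e807e21a30d181028021906f837c04199581e45854f04a42a9e58a000e6954f023d8a9e1762153c14922a788b0354f0d150458147148b045808ebc8b0d0d6116161ae22c288f017f3116153a216caa756a110332953a0866aa745be954ea6ec8a9d026bc6e4372021180ccf03b13cdc1c11e7343820ab6070469ea0e0941521c1466a03823523870416260e09668a1c13dc9038251b10704d7e10e08704085834650e86231895409cb104303ae46bf0553c3e026b3025412a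12728255616e2101412aa2e7025428c704aa675009504a8caa0146a06085c714f28025e0820410130a07210020cf742ba8fd203c7039880e43c71849078e11e38fd1c3c70ce3478e05960f1c0e4a1e396ed23c72c61c78e5db28f1cdb732ba8e2685fa24ac47ec7c989c387e923390c19e3ee0d2c0684a2599978ab522ce16700a291f70c7e83f41828406b314d0a680a1a2e7d0d920f191b28d94049ca8564480257402380251a85542a30ce0fd227b836d847e82fc68fd0792c1fa1b60e3f4278147e8a9608468b18d54b06616a9654b1c3383c112a580d7317f8f8644af2758866e2ff113ac5fe319b8bfd859217fac3363c18116807ee17f867142ff039345fe58240bfc5dc417f8bf041d1142045f819c70bf14fcc17e00fd42fc2c3205f835730bf0fca517e023ca52913b0ca52417988504280548957e81c635538ac821369590522b2b20750856407e0cac837d1159038c12b2159009b026e4844e00c8028d362f3a18da464dc549092c408632a48afeb54913708a921ea8c7aa7e509b207aae3f293c1a7e53e8b0fca5b8812d896c119192d9a6fa25b2cdf84b649ca496c604b157c84b62bc8c96c2d6415e4af2a23515e523132bc9c9c80a2315e48e0b26e272c23d52edb47aa72960f5433851eaaa20258218b095100f272a2076ed5440c898a882702951011d42a2032c65440660aa8821791510539917c8a3ca0ae97c8251e383aca3c5bb31478a3c537d947983e728f2125451e20cd8a3c20de1214451e,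
  nat_lit 0x7b814d2518607ec3f6834607ec26d40fdace681fb48f2096c50fd9474c1fb310383f60cf207ec05020fdab9c4554573b1478ae7596ccb68e5738524cae7110355ce45c4ab9c8a8157110b16ae257130070ae24aa90514a571020263931c98131848190c487ac103a81d5600a03a9851c17f281d4010d03a8739807550aa80ea17d381d55c4303aab8245c6570349d61b47ab805b2b5700a28aae0017b15c06aa42b806d0457017746ae0508845103d670a206aed14406c582881fa1851023a28a20d1721e9038de9e54f2814eaadb190dc166f0f607b0693c49e195b60a372b6c010a56da855aadb003ad5b634d4ab6d3f6456d8f58406902e087ac51a68f5943aa1eb147923d61e3987ac39628f583d8b0b3875a61213bd4c7caabaa20c47eb115f0cce43cf0b3b40361e0803bc2ce107783bc08b2459042ce1ce2859c8eae0b385fd81672e00c2cead19073806741448c4e012133540d9cad1599dcb3d0144ab442289144813fe9ff0ab4405e55688a298ad101c295a265e42b448b4356884cd0acc566041b01a772b3064825660814e8601e4a840a15f688143e8610292b962052b31440a5fe2081542d31c70e36622b115810763d9897f03652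3901ace05462a3011b048312b1d58e22879ef02ac73d9b958e23a6ab1c5eec563a3fd2ac73f29958e3572ab1c55c13d98e59a7b31b930f6651749ecc7aa63d99468a7b30e62cc0c1a72981943c33030628c21c0c5944381f280c38438117889b8420e3a38c41c20e50ebc41cb3640838a45c0de0441c1f312aec79ce55d93cdaabb1e7b15767ef4aaec57e855d9b88eabb160995766db2aaecbd4455d9bd5e5f22f9014a8aba08fd4164b55d0bfcaaba058355743d552ae8a9e455d17e46aba0a15017e0bf026fc69d4438a1c4090d34ac53d69eb029c4b9b2103188249bb0573cbaa42a812480faf131975442632490117a263025f8baa33101db965d5304a8baa97e0a2f4baaf0ea1754497e2eaa019630809754cecb1288944c02f128b4f702514a89427411289e6205db1fb8ce725db08fdc99ed1fb843983f71cc147ee3c720fdd3f8d20c27f164df3b11d3f8020a06d0368040e867a80870438153619e025a4b05434503c9c6ba1dbb4d7432261ae89c0a35d047506ba0751cd7419631ae8330535d10bc86ba18b08d7458209ae8d740544139a41df06dc4d126890204cbc0f0581d8821fd3b13480676258758ec4a31d13d1276217b90ec44e611d880df01ad01bd445c037840de06f687f40deb06b81bd045a4f5980de3af281bc8b040378524406f55a88a92ab561350d6731840c2008dd328d156a04752ad4288d55a849d0ab54daa556a03c2aad4e18455a86aa23a41383c7f83fc029214fc201c0aa9a038,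
  nat_lit 0x183316589a43acb0704659607b8234a1a0b869430560d2898a91a5268ce34a3c9946941caa0fd965723e6903de2611308148640f02238c5503729b946b2b28b21656b2b50511656d023acad613f595988eab2b290a07ec159599a2214d1f18ce323e310574a3ce1f19bd983e3144247c678c40f8cc1271f19054c3e34fa947c661a20f8c6deb591110e85e55911cb2630488bad64431758bac08844420964437052c886cad5910da52b2224a956442c422c89617123310782b0b20f1cfca0f25907883d41ce107921a720f3061841e50750d44220f0c99e4d920a8897e41509140b76e20a9a4184151fa2482a1614105533c520a95c425702e038ae221b695c4d1ec2b895ed257158ba0ae249e395c4bea62b89638a5710d12049829d30930498c14c0931c48d1262cfb224c296d075534ada56c0a4d4ad844982e91256cd42217480f4e2e9174b0f942e9585c06b4d1749590a2e917d905d22d78ac64a62a58c8a44cb1958cb08bcb1940f9163221e20ddc4b1917850a42a9e9115962e158bac5e00721d78962e49672c5c8acd58b83818b172c6a562e66a3ac5c210658b847cab1758b34f2e46b7ac58fe2b58b1f28ab16129b962c56462c58988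758b09650b1626e8d62c35209e35616e3c69619a78d34a30f1a16149e347e883c698d0a78d17bcc07c68ea1ca85e5401e80f40ab9137cc5f620b60bec76ab17d825502fb01f9c5f61d428bec434317d87d442fb082045f62fb02674d6710d1068808db082480880440268000b102b015808440213c6303c870a90792d1520bf182a42582c54815f50a90c409152143902a42879c54816a30a90fa251520ab882a401c0c54851a08a90548053f1e4e072a11ec066072a08e90e54b3b40e19872a08e1ce542ea19ca821332db8e16805502a81248012901780bc041f8906072c175046602ea60ab85d4b3438ba9403d267b85d42fc20ba961622eb06fdab0b1e2316163004ac2c78e85859134ab0b0b0b86004d968c00b76818024a8c3004e59460048d58afd2acd2468839248d5739491a3fa199d47f422eb8eb023fa4fe387f45d868fe8ca851fd10d883fa0eb495e82bd7abcc9b8957a2bd0242f57a2cb9caf430a60b04557a0a758af41b41d5e8aba42bd0744457a2bcc6af41c1355e600e2abcd5e6b25dabcce3b0306195e624222bcc74505490360443621b08ce8381090d847ee21b0d4da43614b2886c3b2410d86e4721b0f7643a217fbc484a9248e8874413418e8967ad1d1180aa21268e88a52e1d1094983a25701c74454f40e8848431d109e1a2421211d1fe242592f034e61211c6e41c30623c3845ce7932447ef14527f025ce3d80447e713688fca76811f8bdce23f1861847e9fc208fc2a4a0fd8435e0f7,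
  nat_lit 0x65d0198355a05602b00578975e22061030161e4a3a02ec57af05d8e09a0bb25dac17660e502ec0b0805d8ec0e0bb3061817600e282ec484405d982c60bb305081760cc082ec17604f8047e40731b7c89561d69182853ac3051739660a26e24c14aba418286d073050a60c60a2c114c143a2218293e03305182c460a21784c1460a02bd12f0f19b0305e072297bd3a69d302754ceb018095a160cc0b6141982bd7a7c0704d4f812ed69f0307293e0058427c076074f81830c9f0007153e0242227c0c1634f82bd049f04f8015e60cc0a7c019844ac0330604500f0c19844111c88248d3912ad5672221ca0e4411739c88e1e63912844a72223390e4436869aac712a3559aad8369355ac27a6ab40868d56539709b0c6ab27590d562ee11aacabb204b1f19e5593d63c31e62781a5091a231390c2421f1ba3c25265180a4c252300b04a56a73094b0b92477981c855ce4c38439a987267b130e4ce5a61c576a4c3833d29872661530e3c82261c28234c38d70498723b8530e98702aa85ff009480ae003e01f010ee45c304a53d6a09498d9a1290a4a4252073204a484333cead44423f3e3856a27ad72d4457ac5a894a56b511eea96a209c4ad44f7e8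5a89f4ccb510b7956a22c322d44fce23839f9da52910938fce34d61f9c7aea3f397a107e74db08b4a5a511410b4a12d2890545a537124b4a7ef39694d1e25a6141dcb4c38ca969812e3ad3166265a61db8ab4c137510aa1ce91ed443f03da9ed4228a2dd88f6a24351ed45c693da8698e7b5263503322f390bb0f7f03f697c447bf10c0cbca5e519624be242c4962560a12c4a44b2589505f4b12750a886045893d504430b3d7086083cd10c1f7d821801528430b3248860844810c13c0e2181f3184306d8288602b4359eacf466f41178567a72862cf4434a59e87f12b3d1c4a167a5db3acf4b18559e8ef5a0581de2c0b0af3401600d8702c0edc605859e080b0103081600b0059d94a0cb3c01f482061030acec0d8759daced63bc59db477ab3b42bcd67813292b81cb3c12cb16785293acf0ac8859e10808b3c59d8d67862b513413ca6315aa49062b2a7a4c565bd298ac4023430024dc20147cb0402acc58804d7491009cb1020135e1c40261b308049ca5100994882010fe35598b32707f08d8c0fe1130e1fc579a8c1c16c19e602d8215a85b0e4b60b6348d816c62b302d882f908f5c16c47cac2d816a9934d2c5428702d223e601a48522291024f82d4f38485b022421c5080a422910e2871483010c3c260e30104f3660250908c04659b2cd941a70ea2566cb320acc834ed59917e58b324cf1d66427832cc9658459900ec2b313d98966248372cc4dcac59888652b312c71d66249e2acc469445989831ab2c,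
  nat_lit 0x601cc306259951831d42a203e624ce267012080f902ab418013128301400e3071418019240300180321c9a3262aa0db50f787bc02d10f66e13a08e9a27417bb04e83b6589d11fe913a1f94c2741ab944e84f7209d0a1e313a120c42743de044e827402b1d19a306009b201d0132c09484a4023004ca051a171a60ab2a2505301baa1cec99d106e83740aae2670106e27089d18e8c0524968a05951e89d6fa5461adf56fa32e32df584ef438a96fa1376adf4b7465be96dd6b7d16fa16fa5392adf4a8845be917c46983e908fa417aa11fcbd912c816400a0f3c6406f833f7933099804af936424d918004fa4b7171f48730d3e9133187d22a7a8fa44d049f4873a63e9133ca7d21ea90fa4b7111711362d5b897852b7127b996e22ea2adc4fca45b89c810b705b8048c8b7060a1d6e0a134adc12a6d5b81c30a57032dc0af245b8157c4b705b789658b6f51364d4665b79725cb6f3e7ad6de5824adbc9b855b786a661490d1cc48624302a8ca4f204716dde9780f140748341113dc9ee20f113de20892db849ee39d713dc73cd27b9d8984f71d8249eeac7213dc57d33889a6a28311453c36e0a9816ecb7604081c44269a3888c49e10f71c44fd8d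38897a98711469a4e227d341c4563273889efcc71138c14e223cf21c4473a21a521c5a39d22ab073a13750e7470891ce9ecc839d5b284844b6530038b5eb5b29830ab65303116ca6121ad94ca820e20891e5743f8cce1e7cf88afc7b5251998a9e3bd3e7bcaf26c411154f9e122a9d89c4551ce348aa177491547f4722a9330c4551b9108aa0cc387ecb73421790bc09af0fa4cca4ae070a884b2c151159102a22949c54452830a888404151016062a21db8854465208a88544059e038e80291063805220b680a4412b0148821402910320052205380a44065014880880291008c0521ff080a40520430016203be071d10c01ff0a1810c0053b87fd68590ffa8df41ff497783fe82c9948683bc22b448f408f611e8500b23d01cd247a176208f4149211e88b0323d068c447a290848f447a02a78b0640ff82cc41ff53b843fe1ff114845c9001e00f0085203d406823410232875e33541aa2829322bd031c18e02ad8ca3416d8511a2db26a305b672258b6c08ea16da6d522db093a05b603c28b6ce18416d952462db22b845b62db02ad408b20729a9e00e535434c560e509aa0b70b3541ea946a82dd24d5046029aa0d50c2c18a3a63a2305cc77c3be02be00e4f1df1259c3be22b3477c0e060ef81c4a1df163523be2b8a077c66a38ef821061df047ca3be4f51077c6a818ef875e21df0ef823be1df0162e28e91a0d62e235427a8628e4f52804c9ea38d20048c4f5184129ea387b93d40692a7a962e44f527a8211f,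
  nat_lit 0x5da088a8bb460835768b08d11e8cbb437fb576873042ed08f095da2b9c8bb4043c09da4ed025989da15d729792bae5d73512cbae60e9175ca1fe2eb901c35d71ccec46432eb850a55d70f95cbae3ec9175c46b12eb896270ae284444b1155309626a9592c4962d571022c24b1045c8014503193d89ec3045822544f60d3349ec7ef593d841c827b23b084f65d4b4434ba959380b94c4f29729a3742e52d46c5ca505dd1d8e2e51a80a5ca2e5057521d472ea46c8c5d4aae8eba91b4217526aa22ea575035d482692ba85d4342e8ba8605cd750a0b8aea101705d41c2deba8329042dc45d41044415c0ae08e040a4605702d090ae0fdd015c3c2142b8b0b2057059b34f51dd283af156c48b09f591d24a5b208fad3247703478ca5a52d1ad3059a12968ad5a52d2c428a5a39f394b486c52969950852d04b1c4886d550910614d12205b0c2443baac4884364891056731ff05a683812e04486c307905c42e205971a55e4bd25e814de24408b4c9ea130393d5a10327aac20a4f549f449ea60449880a4f525b389ea23d393d45a6327a967da2792cfac29859f41d8851c92cf9840459f18e30968324592d0968721312d1a07e361049686c2904a4fa0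33611f40467714728fa093c69f4142a63e80a1167d047620fa047829f4041c43e81a4043c20cd847841b170f0873ed1e10f5983c21f3a47842b538f080b261e11a88a3c22f19078415f32e502d4a5ca07d1ab9436dad728ae742e50e6045ca18de825612b013ba0fd91bc4c2af22a961c461530a84c2ab6569854cdac30aa15526150b1a0c2a0c331855658530aae266adb2e0502bc1698806c9bf321090840afd014503fc48d91984e5af08e9faa85ef2f78164c3e3a1480fb725912e2447c63b2097127ee09fb8d1615c49365cb890b0b57129eb62e24b92a5c496192b892549571216722e24f5342000839a3ad077ac75a05650eb52ac91d6869903ad4fd9875a93c20eb498e31d6934043ad2000475a3ad02e2115d01ed2e2024005c43441cb88583bd710a02b2e2101a64ab257109fb32e2127845c413404b882194c89e14aa0f684452329994c087d3b1c027a7f112e1d70e23b1ae1d64963861970e30052e1d6ded5c391d10b872e49caa455231404aa483bf954920952a9108186b60954942b42678dfa416800db82d0475685a03dab0b4011cc168213142d0300205a166c30b4133c21680b40170c020806c0360040c80800b381b440614b361ae188ead5c32e19c01b5c32c3dab863011d70c41802e18a4262678570c5eb888f8efe12f59dfd81583bf9566c2fb49dfcc0ca3bf9dfc67d12e650fe623080e7404d00f71fcc623e1ce84fe64cc71fcc6b8d3f9adc587f326228fe676231fcc55c53f99f4487f3,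
  nat_lit 0x5f808c4465e12fc0f1e15f81e39cbf00e2b17e001b42fc0c2a75f81868cbf04d2157e041522fc0efa13beafbc45ca3e3397de1c462fbc24695f7a7a90bef3c99d7de7d732fbd34655f795c48bef536ccbf2898a153c6fb244c226009b4160482b665678f443a500a62fb826565f7184263d172fb84fac5f71c6d4bee12f217dc21422fb8a9035f7096da78e32bb0f1c46051e387ee93c705a1078e19b18f1c7aa29e38b7643c72d4d65235a9a0188b2b3ad4c66ad5a9aa90cb535a98845014199c40b5d45f201d624845a984e20be408dbd7c821e612104be4348397c81fb6af90b76c5f201652be43269d7c83e732f90df455f2195c8be45dad039479e12ed4fca23cf1a3dc79e2e030f3c4c349e78d3483cf0ca8e79e42c94f3c5c421e7831422702d96615b2acb87347c460e6818cb1cd0b7d439a0332473487140e68f0861cd1848839a1490c73460610e686e011cd0e680a1e370c86e037002af484522fc839866483240c84438a69920d809324032ca6480c510c904db0950450cf4698955e1090384c00e4bea06708e9408e099e24260f44404a1089016400d00300180084b213084aa38208954630d12a80bd42551e0a44aa038289546cc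412a9934449318938c9a0cc6993478693269c2d064d23614c9a0d521934c4332491248088800bd027413a026047a943c99e4c091003ecc7c23e102600fb912f001ae200a089c84c6251902c039cf0da0dfa07623b1017083ee5a364cb6a46c8b10a8d924a911b28311a3640d6246c839c28d946c8140e1b418944b9473371e71a66e512a0cdc118299b8daa433719b822e71738d7a4bd21a9048b4a5e9162dabd222e217a4b944af489ec55e914d08bd25e44058ebc8398acd5495e405a44bc85e2404ec56612f1165815e21819abc4189317886d84af1082a75e21824cbc45991578861522f11776242c8095cbbb0dbb577616862eec14895dd995d0bbb32d9d77608432eec0ec55dd9f1a82511b5c42741de11b603bc138c0091c1de3eb343bc70f60778f0490ef171101de1f71c3bc06b28778d3440ef131e8ae75738171c454a24f0962d15480e182a92162c55228a50aa55489154920462a903a8855245408aa455205712dbdaae924b2d5d230052ba48e885749c30cae93b18d5d27f112ba498e1574aba40b8709fbc0300098020410204c2120603ef1f7815c6099815c4030309e01ba6086396d027a13ca1d8805110fe802e2093049810da6d479208050f075823e01c709e400b24a2884f4278309e84f408d0468082785b8904f00fb10aa8554097f0fdc0f264dc304f0956a09e26eda13c0c2ac278293404f0530909e1a8ca13c04310278bb511f94a5ae5da9de1abb5303b176a16a3aed4a1e65da88fcabb5,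
  nat_lit 0x38da8f9825e41f3042663e6085087cc2a40cf981c611f30cac13e60d5626563cb0ccac7cc02fb8cac05780e7e665d27b4d0aa5d0a0778bc9138c1bc2249e2bfc8b9a2b8916ecb7605d885120620385406105fb5197421e732e9974c0e632e8c7d015f7922491233da96ec648900fcc34a1a502054d66f0740fb960e832da81d02c4283a092a407420c460e8035881d00e7083a01d0046c804220e70738101a01002820007201d00e80817388bcb9a0377844c226044d215446d736b88d346d7590bc8ab436b9f48e6d735528daec0149b5d7e8536b9b5c22bf09c08568855804e15a2609c1d65a13806c2c2705c8484e04a2509c02c262412dd502260e289884c42058d8388088609c0448237279ed48e105f711c0665d0ac50cba78f61974fecd32e8c4d065d58cb8cba2d649974fb8532eaa4a65cd1a74c6d236902438d2b229114880a7032e84b9a37981800c0005178ae207d93ec8175e796117a15e013e61e586af03cb1c60679671c7cf2cb2769e58c2023cb144fa52909e58a53227b1dd1e50308bbc35a26081320990045c1c2846003491ce146f011c28d42a3851395e23438530f9e70a49ebce14d34d1c29ca7338510fac4c809c282a6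c0528295c552052a545cb6f3829414aa2d102948063052887245a089270b402052808a60510288128e0220269c79d415804b621d207c483a82aa80becb4101598e4845a005584b400bf396805d462d013dca5a01ab90b40bc85300412d32af1cbe822c1c5508c828760fa44d2a1f4a9b523e9390207d218538fa4ae061f495e483e90d98c7d255f10fa48c811f48fa40b700064814810e79b9812b357c9831aaf9183315f23075abe5348757c8e08caf930a955f2b3222be56de257caf102af957c8165807e43005802133b300566526009c9a056689320c18e600ab308c010f4098020f3606281e6749e03cd61f2193b81e6262503ccacc307980c6627613b011480959acb0bb945fd084a837203b5051072c891c00d5150886da4285142816844e592f1049af08b83cc6bc409640848bfa089f57f4b1618518abfa305397f44203afe8a5245fd13b46bfa0319c80e77ea2eb975c05eb13b64bd220389664407511d4288620396f504075491480eb6f2101d7ea155dafd462975fa887e63f772fd45d4d5fa8fd98bf55f8257ea8553afd536255fa8fd08bf53e1d0e1270902d905fb32702c8a8648307508a87ea8921490a05929fa80be6187c455276a92fd0919222e05a5e3f5418ccbbe0b06977c164b2ef8f5545df30520bbeba93977c5fe52ef953c85df2fc8cbbe6e11177c7ea12ef977c0aba154a17e8bf408f957e8b341afd0e4cf54b117e85f212fd0884a2809109a53f2212c97c1c50910858d03c79e3c098d,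
  nat_lit 0x14dd04d0268029840df422fa4f227b6037c48bc3c3695a8ad4c54b15a8e3c82b52c13056a314b4ad4815295a9c50f2b5241984f19960cfc121019612051733fc0a7a56a195a8a2e12b51ed847e03f008a2e7e060b7cfc0b44b1f8147c43f0209de7e039ee0b2a63f013c56141355a49e2b22613c49e213f013c4656f3a48c9e234d7a7d413b40948274458126ccc2e2729a1178e71122f91f9c580304b0b002e759600ef092c00dad058037b1cb003123160048652c018a8858031c08b0009d09600b000610136643fe6100413a37c10274694d04e88c1809d148a413a00c40274ae8504e8f9a877f28744bd62708075c3ae05239daa465f341accbe2a94197c99e732f9b5ca65f54b10cbe3f51997cbe4232f8f94265f32f817e85a071d6c72ed3ad9a09675b28b24eb64cf31d6c73a53ad9468875b1b70ceb67d109d6ceb606030bfe27d11d5447ca3e502930b5f028511f8679b23f0866450a091f9840e23f0ad5247e18f208fc3e7391f8c9a623f0c28a47e32a908fc644a1c44c8902ec2b3146443223966cba9499117904322098846446100cc7060963080ef096100dad0c2037b1d84031233080486561018a88c2060d8d662c1b11ecd82e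e60d97d58c1b2c5ad8364374b06cd16860d9f60ec1b347998366c22b06c7a544b125880ade56dc41682018132cdaad265932c22d0265ac1164cb50c28f6ae2659e7084cb12188996c171b05d81ec60b96692c1733e2182e5043b05cf3c660b9414ac1760b1876a7d573058e24c60b12fd4c161f09d82c0914305818a360b03156571062a882a474703144233107883c0b1510dc4054c151083cca8a60a9c7dac1532f1982a4505b054270860a84612c152c41182ac0f8170112c260797d5cc0f0aead81e5be4b03c8ce86079870ec0f2e01981e5c32b03c8724607b039659a152bd81c1f47303943ac6070f094c0e3f19d81c7e71b0393d4f3ea817202201af3409635e581486bc93f98d78c4f43f7b8b4c50569698798c2d3156945a61e724b4c6bf4169946c42d30f6445a638904b4c5a60289cabee1af1785835e3289c6bc07540d789ea41af081a618f1a8d01820c1023e03c3106083040b340ac48d2835e19ed072e208fa5e043970bf8472ec0668e5cbc6c1cb94e5439719b2472e3f730e5d0e251cb8f588397603086dc7d10b018b40e60314592c062679980c39d2b018a344603162843091262861230940dc861271d91065a309316ac612a3348c24db85184828a83702c7447341f188aec61213350a6e06ad356814be29b02ca46c410f88d896747026146c477a68d882a691b128b98362152a86c4ad120d8868a31b10b394796142bc06652978d50468f14690da609f1c0c855647081f307a2e3e609f587cc,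
  nat_lit 0x27b4c1ea138783d585cd07a851d80f536d2c1ea35a503d4c2a907aafd4e0f536c101ea6d7183d4d34207a96ec20f507a810aa0e8781312daf2dfb1484224539858a40e173148d18d6290c018c521e2258a4be443148e1676291344cc52096158a4bbb231496a6c62397214c470672188eb78713716f0b2b79724ab78518b56f0bfa4ade0952a5bc135c6b7823ac40e4b781821428d004282142475042a89b8085312ac9bab0429364a0854e5b410a4db48214952e04284cce0850428c9ae133a0bd4e08c2398bd424731902c8e6b0b511cd5d2923981c904733971c8e6673311cc8e6d2c1311d62f32f3acd3c5fa51a789a4d6239a79a31e625acbe8a3c6b12cce6e62588818c4b35a1189669e1b12d88e434f14a0491235a3441a6b459f0936ae35a1bfd86b40c71cd6852541ad188e335a0eb261051fd4813059c8074c20a31dd8eec667602c2877618a68eecc1c81dd94a123bb0c91477638a20eec508303c01e0631818e040f0493601e136aa03c011d20781cba00f015c301e0734503c1e2569b53e138f1224a69e24ce0c3c49c8927893de20f1250339e24d9a63c4a448a78923e10f125f31962076ae2f996fda5f32b4b0be6790417cc336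72f99f54c5f327014be620f217cc4e8a244922563cf244985f22f95979445f317c9af1e2f901f945f25df70be4634c17c9f9542f90ea1c5f2bfa40be476a317c84ee62471a544e7a5e190660c4100cc091c42511238c36824738a2805c6123823dc2471772048e4074891c744512396088247381842b8a9671c0cdb0d381943d870317da8e0660649c0c5f87381981cc70320f14e06c2e21c0cf081617197dcc2e42ab585c1e2630b85d2a6172d952c2e1751d85c0bf330b985456171689a542385b0a8430039508a84b0fd1d1967a33d1949de7a370c0cf46c29c9e8d45e33d19ce3e7a3230384ce23d1989e65413705050c28602ee4c134246937e42a5152815f67ac9136cc5b25da150465312d138a826064150571272a097926b3d351d08a00e48905457112c496240bb22e84845e7d381d6419f059110cd627c18c304f84eb509f0f08713e0c98627c239c84cc07c191cc33735f21cae87ee050c83ec3c290dbc04f00fb0ebe02970fb044a8a25309504a902f20951655e12a34588254480bc4a8e2c4895143c112a106ca25411a40feb31f99b1685e32f1813c619ba0fd0784212a0f0a26db25048cae0b29054c8e630a989f066db13e2496827c20e244f852588cf8227c07d8c88454158d08a82a2a91108c54126db489a4db59aec9b6a305136ca1bf277cc9b65c9915047aa826d9b52212303b3d85452c79758bac0483936c6c2a6150c73844d0b0a8daee61515914c2a30625854b713b0a883c4615093664bd,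
  nat_lit 0x336bd8e00fc81a9c624363831c064e4519198e0025531c00e6d63800916c7056d958e0636231c0ed4f16e028d82dc213285b8a9268b7087ab16e1aa102dc109245b8424a01fc5b8103f81fc0c1e16e0583c2dc300f05b8318ba60c62dc3f9a07b03d8581787b062cf8f61a05c1ec240ea31110f6085ab63631b0e9b63f7898d83b59a678ab7237a1f1606f42174cd8412da1d1c79d11871dc244b45f8405e299e188718d743788e5e275d31bc87ba3dd0276c438309db1ac49a43ae898d6c6b3a8c58d6632431adc4f1635a18bcc6b208707ba1635a8c9e04b0258c6b4c6859efd8d0a5b885fdec6801e958d05e86b1a0a9ee63413118c682b21d8d0529431a05f2463405c06c68631883800f57318ccbed6318cc58c63258a18c63f73b18cb1846318335a650066acc9e355805cc2e60576a560a0cd328b819ac0160334abe70668f0500cd0b61019a5971833405a811f08e8602d121b405a241580b4112701688f4c02d3a6d03aa1d5024a02d9400d890a215e11cc85be1768007005ae12205d1a01c0b9b003817150070134900e05c1001c0b79c038a41300702dc400e00e4601c5d48803801c02ea0038101688fd202d1213005a239100b4474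211c8549823911ca8a3051b308e48e8d11c9d4562395b7a04722ff488e4b7a411cb17d61f362f983f82787317c614c62f9becec5f395218be1b11b17cd5331abb17a45be191c0d520891b1798bc31982cc94c5e59b358bcb315b178054962f149a88ae457016dc33da0b3047b133b96da458729dc09564b411f14e62d5fb8801a4892944ca4e390906a43520532083a03af0148c40020018804400e2a20800e214214b040023a50800900b10017d8a20010004a4a1ea8949473b03240cc6254f4db046629b668e6936cb31c26d940554db2485039d426d97ee31a52fdc439d5fbb0faebf7597f17eea0d4afdd01ab5fb9cc80bf73071183645fb85792bf7137157ee306a17d8b70e13a81418275028a84ea2f0489d40d2813a8d28e275357984eabef289d4b1c413a9024227513a81346542a177d7ee12a106da240920481686021806f0378041900840ac02fb04bec5f6607d0becb05b17d942882fb21896a1d717d8a4a42fb06e445f6308cc72039002da8c220533181a82d52fb085aa5bb90b54c23229414a00b673dc4cfa00d9a09b8191116a9cd627ed3f68173816f79840874f0dc86e40ad816a883722d5089b82c6e16aaa91a2d532db05aa4b148b542d0716a8cd4c2d525a145aa54220b5437cb62b3158e46018c898ac1c48809cdd010e21ba1a6a73741cfe66e8327f0904b3740788a6e8328a4dd0c2a61ba162ca3740c3086e807d0cdd00eaa16ecb7605459ba064d1004d0108084026200e5123b09ba80f5,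
  nat_lit 0x3e81cda46d229d7c6b2b2c70d65499e1ac9d8bca3140d646b232a61585e4f44dabc56022581b709e833aa2be5475407fcc112089025d80272084842408660413c99475458d28ea8810e1d5122133aa118bc35909b4886613aa0b7e872e3e10c6b243390b0c6f4f18b9e8de17d1e44046072e093284bcc265110564ca0f7289940f3493284fa82651329c7b82650c8667b29b04d3a742989e6a47a32140c99462e1b04d82631e4b04dc407609a411ec8399e686f523d91ef20c13039b182640c3b04c2cea6099210cc132e491826c1309e8c6eb13d1b20c42673d18990637a0b20d7f4d64198a58c8331a29906a314b20cfce46419f78e62925140cc2661023395c871ec04ba85ed104c4c526278967c1bf033b99dc094d0a190e386af1850cdd0857221f1a143231a42862343850ccc250a1850dc2300a1a8c9e143415795c8d1872b91630f572284b2ae4485f484933ed9f6c0c1f36d48bde5ef031b84aae57210848ae40ff095c831298f1c30b439c850c2ae40b144f18ae411f6c72721e38a35e0c2027c00f607b0213c2a5030d01d604820610cc5262932558c52a4bc18a56110314a0acc6294a7ecc5241a697b426291e2458f0c7811f24274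a63c11792c781179d8f0230331e0b4a463c31de060e63b88ca81c4131dcbdce63b97bd4c773579d8ee34a331dcbee563bad308c773241ce341ba8916451931588ac409201460172e270a02b415a0525174640ad0fa34b646db596c82d4a2d92f4925b2573a0b6415f316c8e6042d90ac425b22d901728a2e913a0646f0a99165e3a426e40b1c0ad09164d3ce22c910984591d9ac8b206f3916447c522c9166871522cb46d645951ff88b2226e0da620e61f840c2436911164e34c1d68eb9471a3858ce34021886fce3430df86fc083438d4c22671a1a0d0e34e4dd9c69622c38d194626d19927091340dd1224271a07cbcbba5dd0240cda2f5be9b468a73570458a478e11b455c013689e71c6d13cea8da227d49b441e683689a28e6d13da90da21a29884c1774147833220aa0894407a03d0265c898f109990a01120890159a6420265803d05fd0c9e0bae1098ceb002aa0874423122091040b133ac3026e75851154eb0d2779d6161c33ac188ca758718e8eb092e51d6081a217404eb050ea09f47cd15fd05fde2e82a7b85d05e868ba0988c1741efd62e85b8a85d052940ba0ac8717400f4a2e817c905d017018ba0d0621740ba00c681c53c9ce50e80a8c71622870e2c27221cbb87165a068e2cf7ac1c59495438b30d24716bf530e2c73c51c58a20838b2e8ccbda633a056c726f1798c7c2c1610dcc3fe20f900a582a35f9afcc620f5f9ad0f8bf351940b0675f99e70cbf3162217e653d4afcd7e6110f1592221e,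
  nat_lit 0x124a8eb6249694e449261770925002e124a4e86249284dc3ea11248cc662af3a54536c9b602c20662f2609c844c94282059286e763250e5ca64a15092c942c621928b0b3b250712564a12c48c941c93cebe75f19f047c8d3e09ec8e7c11a598f827fea1ef4f8311899bede7bd3e0b08827c151e88f82e2741f05625e3e090cf240409f04809262f101160b41c94c80849029010704e202142984041cd9c808c5f21010f7a32020314e3a10194c4fe27f0225470543df095627bd0e148aca565030c0344f1ee015601d21e4bc74204380c7474230558e8440551d0ac93c3a152f103eb21d09754c3a13bfb4742c5e28e8459d333e825e85652b2812d6261a159cace04481a46479c3ce014f427f9157c35302b38c7600cf1a584a1a50d59fb4a1a529d94352459286a176a50d1100c4fe2286b22dc1a2645b0912034985782bc04a010de859003a448fe16a9006c694f3e7063982cf3e70d9162cf19f3859ee3ac8b3ce6ff167949945dd58b3c076a1679e5902cf167991e8438293ac221429114880c81353c46d2b51790e04bcf2141f1e02cf00a3c22c116025e49ceb21c0a29a438258a887072e210e07a5337a9bd40adf034047a4b89981a0169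2034028dc06850ab40d0007581a0010a0340d35206849e180d0c70281a13f6403410dc40681e9014ac06802b6c0d0152b10e0606821b8c87043808b3c59e26458e764c8b17ba99164296b22c6346645aaed6c8b246a19164f64b22cb64564598e88c8b3b6cc5c637da092c56101259ad1c24b017344967895892c0f0a1258b6d224b29ca04962df2892cce6412593a0624b3d1084961600892c49604da858222133b6c828cb7892b30572f07c03e0092f39c3c28a4757983010b013c149024d7262409ec52411d604262292320dc52430534a4844d5149016082921aace52422198a484732949042442921d3ca73e3a7b0fc674f3a874e9e83029099c0740e7340e8008601d0012b03a0f5d20744d2200e828d301d0036503a04a8807418b8c0e82dc101d086e103a01d009833565024e127027e4d95412c8c6686a838cd0c1c0e5917d4bea062d904a230f21bc885248290b10828f0cd816de9ea4f50168ec867952482423a79fb20227643204162590b21829276430819ac8604ab190c3925b2186d456433219c3626430c9047ec1b218fbd335b198a45520f740aa46b619c18ad133848dd684a838350c403fc882fcc9f22461671e1d708d405ea70659418e0f10859c18610b085818241b299cf4d2943833048470628e403bcb2231c1870ca383132d070626124e0c28629c1864e4383054663fc1c6d01860c3020e8bf911b31c1823fc4e5bc89e2ec81f0818a51ac9b49a0f336918b121fc19b4944ae3690eed86d2,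
  nat_lit 0x2d2401605a459b28b4852789691a0a52d224e5c5a461254b48a2a11690eae914d08b48215a1f6599af6610275e3ad2a0b41241a5602497888049330860923afd0f6c4eb928d8fbcf2378248653d0493c2fe09238584124b24e0248c53f04938a840922058c285300c006009c012dd010c25b08248c41216d1c69c2da09e345b472158b68238a16d110d22da386145b403c20b682f0316d14ec42da0a1045b42da026ecfc0f3b09d8461be37848ec213c61d85466a3b08839c76135facec224c49d84a5653b097a28cce02b447623ee9333811f2295a895e21516dbcf2e06f78a1cec2110ab338208f66728ef0cce300a44ecb6670b8cacce3f1b999c1f43b338f2c466708546cce641a042a21548d6442ad17c8855856610aac166215513c042a70151cd28729666c4e7020030854160e10a97a082155e93c8c64631b33599a31d8b334e5253cb3199a35a3333431c86669f30accd0c59c2cc1665a7a82ccd60985998c700b3280369cf8859853820b3049422870928c7505187049482ad0929881812517e2424ab8940494c0c7092b30985f16611d6f056a996ccc70f09889a6013a29e8d9841eea330942d26610e28ccc2635b59840995b30966c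866110812cc22a9159847d18b17c796d2e10f2d62981e5a8f9a3cb3173854931e59af8a3cb0c2a479648c70f2cfb2c1e5a9b4e3cb02d207963a420f2ceb631e5997dc1a107ab43421e260684384b0d08ba541a15b2a43422ea3868417e60d0b0a8a1a138190342784086843420617328c41a1651b00deca339109946a3f7328da78c651ac104ca332e25946503e043c2ca33a8b193c73453278364964f3279615264f34f3cc9e716d993c70aab279070a64f10dfac9e1146c382264f1224ec99114d0612417a0fa47d20548119244dc1493cf1e78f02b10e0ef1b48da40c101bfd0b0651d89f9cb531101962a4c131a2bcc5c37f8030c6ea21bf834c637f32f306fe20f58dfccbea1bf8a29037f1771c6fe37f29aa8b52e5e90544e5a9295a0b5268379190b52323232644464232018d42e970dfca36c2d4947545a935010b525a930548b52363516a4237f64c8cb52c99131a9932d10a3264c1d464ca4c0429e0b264fe473220a7a87f214998fe44dc41fc8bbe93f908e4a7f231590fe454f9a1b86fb2437021a286e019b90dca5e6a1b9422c43700dd486e44b250dc1d7421b8a98743701acc86e13f110dc1d21a1b8626243721b8286e437011300868a26076f00fa87d40b3e0754020810402a241d404cf802a0089314b458407480ba858543ce098641450a28111e249104d026821611a5681451610428a145029c97f4c16100e962c218d2058436a38b0891a61611a016249161142922c270a745841539092462c2,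
  nat_lit 0x1fc14c08cf42181181d23620a79e1e80f40196a0f3a16a4b0503f3944a03752c38cae457219854ae5304c825e65662b3012d86e68957cabe060215c986483f384ae4706715c82d2a2b91ed505721d69cae437a295c81e642b933d5e42f282859ea6d25b3d44c8a67a97452cf563c219ea2843b3d4142667a8cc8acf53f7bcce458c802d19e9066733d0458c09db4c8215399984ed12320a3d24692362c884242102784e9cf35d9aec0ab13eabcf5833f815d4aea04af09b645861cbc0b0c64109618b0c04531905c0c8320a88a664130fb8a9853209151264108bb0c827c9419048de43208f6466414533c72e6410a298c8232d333d261b719a5146ccf4797844ab04fa854601e24fa859e832a133d0314b67a098d4cf43e0a59e8c77433d142c767a0640acf43e0d064e40488188ebe239f9cfc47c14b138e7e25969cfc61ca39f9e5d073f1a69ce7e4ca31cfd1e8539f9f78873f30e848d861d59048826a30e82fd061d0cb0cc3a6b159f54b10c3589ac5a74f3588840aceb11ac479ce1f913cda3f21e7b07e4c8b58fc8dc2a1f91fbd23f215fa07e46e238fc858261f91b6ca3f22f5107e41f310fc97ea11f90fc80abb12a4c3d06429871438a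056833ae83672214440a1f389ba43ed223a08144ceb0f9859d68f4733ad5a2d67590e18ceb155299d60e84b3acb3a76759d64cceb4b1159d677a233ac91531eb1c82448435fc06de48409228914b1bc1228cb7824514fdc48a69c68914e09e1229820e245280f848a38e2831222450382640906350bfc5fe0288c7e1213a8eda45912c881592509987301fb422e1f0e425612b016c46af90ac87f0f04a831a000e0070143e2e499d0ce86042a1fb245501f4b4a2450661448ed0a2891448e721289182825124141ca2491909275e5a72db38b4e79e6969cea2c2d3854965a739a28b4e1b24969ce1482d38554e5a737e90b4e51b1969c38222d3969c0c9e28904b4e512295b0a243357850c65123a04c6cc2b609d00b3ae3a011e9a7400e828e80c7049d00bfc83a023d0e74037f98e8034d29d00816862b102d2438074308160636902c62eb2058b55440b205b831640b2169081632619b24640b20bc08cc46602a319c6f0dd15e42ce3140399c63fd5338cfac967191890ce333b9d9c62853338c8c856719ebc8ce318eccfe27f10325d8bf42ef0e8643da0113c3941ca02514cc82396131046642ef04cc85fe71990576d33204a1866408728cc860049990b3a83321e8cc6643b194cc80048011c08e0412846e05da002d00ae05702114667402301180b04199810d61d68808c04605800758094a1104807ca15781f802c309404a061290943c730026084a05dcd0940fdd412823024250539304a0b74509401c88128,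
  nat_lit 0x69209422d24508784d926921871ad243eaa5a487202b490dbc4692347de18e1aa05a3e7047347c292d68f9a514d1f31b25a3e2054347c40c768f8880cd1f31495a3e7402347ca0b01cf95fe89eb1cfc50e2071991c08e0047f19ca43ca4b6b479463260f2832ca1e51c8123ca536a079405a38f289c061e51f54a3ca32e9079457f18f2855021e519ec23ca1e501a38561899ec8d523e98aa243720b1c0bf457f1b471a3831543471419668e189c067293470bf5059918c98d1c02d1da3896d6b4714da868e1c812d1c3ea95a3865d23470d41433b1aaa2c010fc88d4003a707e4b9cc0fc8a7561f91d8a83f2461407e46ce70fc9f64c1f93d7943f2464207e5a32d14e8df5e4dd26e81366b160b464c52e68c94918d194e7a9a325934b464bbc868c8da4ed1938215a3259523464c9af3f6924e058b28004c9a500594dca00922114358500135a8a0060741400c3a428017ec650036f50266314889983cf330e9ede83142ec44dbc1e7911b1928236f1b78472139d1cdbc6de50d80efa636f1595a6de3ee24dbc2d629b782a1109b943646f2379042a071c58540daa60a8054123640a830c88150505b02a081b29de0415004f083202d970278b08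c04f0a89609e156a813c00c48278522804f2d44e09e1f21813c01c282780f6404f1fba42c816404e562c868a889d6e1641cfd82c810e2459021340b20fce71640978c2c810b10590d0f58871a1ed006086c6d0f1a639a1e0426343c088a6878d290d0f0349da1ecf43343c69056878d1c8d0f6853c2760d51342843216850e05cd0a36e35a144d14b42878486850f10cd0a20c95a144932342944a75578c454aaf557ad4bcaaf29d9d55ee3e82abd8086557a0b94aaf21d8555e225a06fa6aa43e28955e17890624abb057381b8430218130e7c75190c08ac261810d4d430214b3460435258c0898481810b8dc302265a46047e328c08e5a418110a66066155ccb70686a047475d408d9a8a22160924402a07a900200100465827e41fe0843c0e61377ab907553083884dc1073553420e53d6041c9d4b08393ad01072dd1c20e3d13041c43440839a8461071748820e24c0841c20e04ad8932002e10b0849821679b3c23a110b1aadc2162103442c7de60858844a10b31ad22160152042cc8338858d80610b31ad63470a0b868e09968d1c1f6c1a383d14347598a068e11f38d1cc0861a399a8a34730188efac170980c50ee301852946031d3a4c065a54180cd9073018a5cc60315d14c06cf52180c6d6f31203d5c62432fb4c48331618903aab31212c506241fb9cc4858c21890380331218104624312018c6c6380dacc0826319812266f1f184c081c011810a24e302192166042c8a8c0867949811698830208b0e604,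
  nat_lit 0x188c48ee243888f4221230818400c7f5f9bcb3ec8c191dc69b1687b232203c3453c996c8c5024d918d598b2316b3664620132c8c492a1918404e8fca824c5fac420e2430b2303f4f1f98fcc0c915490c2fc17e1a58892b20bf105e242c2160151e0137842021004329160e17e3afa82fc1fe685f80aeb0bf311dc17e061202fc459205f8ada20c49228456d239b8ada146695b5a3ec2b69e35456d6971cadac4b315b590652b69fea472734f4c9e01d3a1f1cf8e06250eee2b510984032419202718d3cf11a9289e1050828119e7fa09a78ff4d1d61fe9448d29d2cff43af49fe8612e3fd14ece7fa17ba0ff459f21fe87fe33fd07d6629d174d05e649b886643320590126c0cbb2f1bcfe22148084850e82841698e50828430e4050851dd4a10d045942166d528418e3850871694a1093191e8e63541c9ccfce7e7034a8ae51189304e4d1f0fe04a1054c7959043d33698e9e83233204496cbf39071cfaae29a9c49853525fa8a6a091414d47c2729a8ed4c5350628ca6a630114d463e129a94d40c1618fa0b405b499f7810530d88866840468544f82c93889a08c123af886a46622624836224c79cfc94700a2851409ec354c026813403180780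f3461cf5e5f42fa0198875f0b24c4eab6499d50ec93649a4bd0c9371aa1926a4d2324c835964988be854c98964a0c26498f7e4c860a23c5565878027cdcb01748aac63df6718863e6f358c7cc3a718f8c7d420d18f987be28d10f7c7bea0478f7d62f11efa05d43df4859c7be42c3168a67522a6506b454c08f7cd89209a177867523a90c78040b39d486ad33b19d8c08f03b1c51d88cd78b08ea4616d9d4941683a93480e75259c3cea4e0b31d4904603a9115d275228b7026813a90f626a962a1c8234345810244ea32a1b335454305fb4a862ce6150c18692a18e2ce5432a1acd30543303d4a86538d8f6025431d80da5cd0318ec027b430c340c261830c01a0870c3b40c50cc68195b16d03681b8196d0331691a069302b40c2d046974c5e6d2e1b40c0ce16971cb9cd2e04ab5a5c206634b842c56970d06626713a50fce7bc895c85b3225f1719e2d8142c07226e780958b3e716c0b62426e16c0c5b2525997d41cb31738b9c0c5d072818482d5a0e446d5429a0782436a1b50116820090c64d51233715bdec5628c40b2203c80b8c078316c28ce62da1ec505b013490b6028513879c3c09be572185b01ee68b60cdeb16c27f102d829d905b011860e50e2943a49d240c751e9cc13809c02d40af7120a06de4c70020bc6243120222427b013609b00d021ca0c60a39439d0c728e0600e5140c41ca2cdbc26c08e514230028022e62cc476505a835689f5cfae047712c646770353da485cd79400a00068d349064b1,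
  nat_lit 0x17e8da8ed4718b10418c6a396314d4739721a8e0723b51ce9e66a38868ad472c03cffa7fd19b550b213fe9d3d67fd3eab4ffa2b461ff456ca3fe987127fd2e820ffa5be39ff52da53fe804a803e01f01080005901540aa04219b15e3c01e0013c0d3d110c0634269eb4f42d3d102b9a7a5926b4f40e4c69e81654d3d38221a7a20c3b4f581c669e9778ad3d33211a7ad38680f46d333cb808e61d90ec81298023027f82fd43b383c682c5162812766c989610a452300164dc11e518b023c0155847802ca08f18a5211e1d69823c636284780d0408f1cb8611e0af0823c1d90847823c04fd83f1e6f02c93ce5c0ac78d3c69e04b782b008e769c3cc3a7670b4e0bfcc69c048d6d385faa9a7035a3b4e1a706292b4e1c12869c14bd05c71b4e0e9311d0095603a01a6bc7406fb70e811fed1d00ead83a03562c74023a48e8075c81d009e0e3a04cf187403e328e803e041d00b3463a01ff0874034908e8074004fa8c82604313c50ee803888ab436f41a4978603496673c6921f260d24314b1a4898d43493e0a4692c7740d2542c71a4b43cc3490c81469260420d24b1831a48ca843494fa84692349033d02fd21400da9e4b601cd00bc05e02eb4275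40b70946223c1c2c82601300248870a04e40bb9e36c19bd031418a02d7cfa132b2039a86ab177cce8e7470267061d1177041a44a325181384106027bce6b20e307180b9b39a817e457fa0e54d2b11ca9a31c395070b472ab8960e541c6b1ca84a543952872472a62040e540de61ca85fc83953310c72a4a310e550e211ca8e5409eb2573cf985ae79700e0f41c41eca63882c548710d1f88e20f7901c4101dc3880b33471007360e202cea1c4023d23882061c71048430e20b9241c418b863881e4887107a308e20710060994b844ab4e988a5c428a0b8479311409da603fa1fd016b052e61b00a5c74ab14b945e02973898452e58fc4a5c63ef14b902e329724ae452e2132839d30928f7a8281140811e60dfa1a60d3004a78afa84430ddc4c70638024686092418a0c40883019c850e2e191b54d56129716ea0581274c09984cc0244c0d702218b8527e001e305c234d18b8555ed170a1b962e1147a85c232738b8414661709350a2e1170b92781ea9b2641c543501a800b1c2dd44d5403690a7853c052e00d80cb72e3bc8987e748a059268140a8c482811408c06628110a00502e16e0a058068140ac0d2281501d0502710e0598a281140845c237440b84478217096066cc223bd02c698789340e7b11a68d340cc528f3c55e6ac905b847810b705b809f81624c4789f8088f02a2f1fc1305623c01694478580688f176a911e1168e23c22ca04780c2208f0d1ef15b08f0634d19ecd9182b61b230d4f31a610f68987,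
  nat_lit 0x2934411c08e02db49ccf16a0b500d2b03f3c64422a816a445432950dfe452a0164954816e814a8acd006614a820f30f9bda1e6309a8c9464060d1c7da7242282ce4865451c90230939204e1072432f18e4858821c9041e33922fcc472431804e4872403054bbcf1a3343c63461a30c43623f60d184e871a3326543461f33468c41e30d18d9cb1a3090923463039468c3bb98d7856f302901480ba233a4864432202e94d6910740d18235e1b3ccd648f471ac95a2d35910e186b20adacd642aa51ac81d0935909c906b22ce9cd6475931ac92c453591de886b23588cd6420511ac83e613591ac80ceb35884d6808f694a8e80c2950599252a69c20a546b4314a8fce529515b4852a39bd0fde1bd88a4032c10de814161bd3451837a1bd4961c37ae2c186f58c930dea80961bd401a047b33ef81768123091813263d7a04b0dbf10ee8e3e233d19e81a4257390d68bf2f3ef9c5605412a0818f26df106f4e8ef2c19f7c65732b98c87a573507b01c933539a9c0c550fdd0ae611089a8cd4606400775857304d1cae69ea695cce7862b98e2165730b7a4ae609c295cc8ac42b98cc46d586a639ab04ed6356199ab6ac1a614d582fba5ab03ef3b5604e5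10260f3a645e296cc3e01c2a12f497a0619071283fe018bc4e4202709c8cbcd1391a6d827236a2c4e4331509c99d681391990e27238f984e453d289c8418413909c8427225e844e427202288dd110b884b6445f166c83204bd783e8404e4511979a8a234db11446d45a288662a45133ad08a23321d14471f32288a7a5451083088a2451091444bd0a28914406a8b5444d5125e85aa220273544cbcd6a89a6d8d51198a9aa2ceb43544cc876a89c7ccd5129e95aa220c2354464d36151c9e86a227844d0c759911343f503d51ea80c90350c11d88ec0335074b01f90b2043a52fabc1ae4ba1b275926d64eb275c62b64ea8bc2ced10b2193a91741b896ced14b399da2e36b3b59167676b3b680b4676b1932ced508fd93b14b10e09e2eb6768593a3a5133b474ac02a8e94e2511d2b4fc03a54aabc74ab5d70e94c2521d2a0eb03a520930d3743148e9625ed34d8474a69b80381644234d9a6c42eb1ad38d3637f69a6cc48a34db159269b21c20d3612839a6c20e534db51c869b3bf4c37e1bf02f5c61ef36411ae865b65884cb665b02f69962c68532c56689658a8ce6cb140f58c245658a4a92cb158599962078232c4e102658af682cb165888d905217b530e2f03cf3530666e0e54cf2852d71e50ef0d3ca181d87943702cf2823c49e50a1a83ca05a8e79428798f2823f29e50fca33ca1e7847943ca0176a79e0b530fb8d6a61b7d8d4c2c0a9a985654b530a0686a61ef0ed4c3fb15a987fd23531a8f212a1aa1ed47,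
  nat_lit 0x5b40cec2b680ada4939130306f86b680add0178615682f0b5eb05e068520bc0071817860c282f0c0c405e184860bc30888178422082f017805b291e4637023cc4e98479792288f2733111e5ca0a23c98a68479401cc8f291761db024792ae44ed876c02f2848ef6b786f9e1691cb3c38214280c4862404de35c0239600c2dae03af335c072a56b80059ad70254b1ae08ae3b5c09ea86b801d48d706b78dae04a6597d494c6062929925f6253382ba4a66162c94ca1f19298e5d5253119680e5a1940ca0062e11b044a61dd48d50c1b7284d81ec50998c14a132cd2542667c4284ca0875099e78ca1328295426a131284cc061509a84c0c1767a8c7743ba60b60774e6360ee945281dd2cfb63ba48160774530e994023ba32848f68cb4199400f9265a17f18cb4093b996861a532d0c30d65a1f5d6cb4292a596843f981a461341cb99aa217f65a047a2d6f386fdade121fb5bdac946b7b054ad6f59cadadea51735bd25a26b7a152c0698b5bc55246b796fe626c13601a9674382384730e470adc5a8e11ae311c237d5a384bd0a470a69128e11eba11c239e323857ea547093c088e136d0d1c27c712384bd41470a38409b12a44841a49d917a8bd4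064f85be4394014c041a5795b5b841a16b728958d6e6b738776d6e382182de26b719ea459a37d5083c3168ac2ccad32741a0685482a4016f667a983614bd45bc333a867324dd03ba1dd02c84baf311288940b102964811e08f024205d310960d5643ee1f7015de7cc908c01b910a6053008202c13c13a67a7857ced105bc023a0524083c05d00a180f9ccf4a3512de0267a1bcbcf3479a028c0382b33d1778c67a60714cf41a2699e8852e33d1511867a1811ccf44ef219e8df4333d35a4643f1a385ad259f735a4f88d6b4a6d98d691d2a9ad23114b5a48aa86b48c248d692668ce745e369334eb6c266921d24cd32a1c99a987313348aa52668e7c84cd2954875e5f89156c62733eb9bba67ed2f74c49827ea05d0a1b413e141e82c81a5c467c33e0344cdcb1395901e41741c9485a85ee91ee0ddd20839a1de5f52fa817f8012783f41fa041f1ef5e6706003ce20089805d0803018c8c640c3f20081aaa7be809d02e8160000edac001932d800c0028b6180090bf3001861d60010a1ac0011ef84ff32948f7263ca377098003e89905082806598f4e246b2358169c3d302f60acb23cb11d9e47c23e019bc5ee817e07a5013e89f40adc27c047b84f8684609f0b3e493e1465538fa49f079c293e076b423e13e0447c2fc306a6073911f05cf023e17e0247c23e018420739308584212fc0d5165f859e98bf0c5f497e07cce2fc1cf945f81cb1cbf0407197e029332c397e06b3222c501e6294a2be55f205aa05062bc4,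
  nat_lit 0x520b5b105dd636203cea6c406412d886ac21b107c23b620f8256c410d08d886c23cb4c4b59843421a05e892d40a6b158cd482a4102e60029108c0460097b1b740f787bc032a155f005b361200522d909b084830b610038e6c219dd8d841452db0842c5361081296c2083d0d841b619b082d92b610f2046c21d3662241120125215fa2eec5bf24b68055a1202b7b02400185048007490900a5ce12036418240a73284800d44090048041205dd842401200360177616c036004d8000ab5b0056f6360007496c00a5ced8036419b00a732b6000d446c01438e08c1bdac11808c78da8118628682314c86046341fa08c70a9411882878230a4210aa8411828d98925a7132cf961a84b83b4445d44e4907d4ba2f17d8441e5db2ed818fc4f0802204fd01cd93c607d61784007a4b809da0661325c051de01900c810ac1470273457ab25c11e8a4b81a6b4970a15492e04a4e25c14a584b81ec28970259392e0988825c0b0884b825b8c9704b799f8026943a99d4a2245044489e239b08340cb6d068311cc0d00682c07c0d028f041a0901c03418aa40681c36e0d04256011020681ac4e4b725ba8a344b758a7096e104412ddaa1d25ba01d607fa06c45b9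10d8946d24b717f9896e249212dcab543629b140a2b2ad013c84b2888a42a725129ca60d2e17a889644b2092c839ce2591099a4b2549289644d0412c80fc725910a0c4b223a94964085212c820d417a0bd009c41bbcc2c27049842443f335d9aec0b57132d00a20510230c4ca04d4179e212935e443a81f7907ac78920c5094e47881e23c3d406c7801c334f27013800cc83823ca9ea36807ac06cf14e8a740a5b0d7405c236a407ac3d6138207ada2030f5b03a81eb58f003d6a18607ace31a044c43d6ced307ac41650f58d91c1eb58b103d6026107ac62cf6b88a3206b535a8123805f983801c004380fc2238a125c88684340b29594ab3b53294ac5f652b8c12ca5611f994a728f32948490652885b630898bb0a9226529e4e84822f04424e5d5913180b700d606b00b462f040286d7110381ae2311806b02d71266b9ae27bd6b5c4b40c6b89cc14d711a2a5ae22ae335c4ec456b885a88d711172c8f23e5791e4c2342f1284dc5e22fab0bc458b59788848a2f110dd25e2345a0bc47d839788d1e62f11b08a5e25fb90bc47b31978966222f12da025e22f1016d22a9a00ec8a91598ada222013e2d0f1e7908afc04930157152206091cd4c73a37091fcc37d02942da1a133509b96d25f562da4b16b5b490914b6921ba56d268b42da4fb075b49a3ccb69361156d2bf722da4f6635b4acc44b695b48183637062da03d0b5b413c54b680fe216d09cb3ada0dff30df099241785b424712b6831ca96d052a12da084b4,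
  nat_lit 0x6c6c452c34b79dd4eea06888b3846175e430c2e61750334cdc630bafcda6170a1acc2e2544185c4a6930b8540861730b8485a42d1a8a145031f200b94a2803c354500fe5a8a0eb685140c7dca28595a54509b62a8a0d94f1e1a8a023c31e18db1a4aa0b634ffae6c694d5ad8d13b31b1a3a853634edc96c690d10d8d05b1db1a6ea2b635ab046c6b221a64410d25910c885920d910e62f322141fc644209e2c88102d8144264416014bcf5e78c7b07b398af4695415d87ba2594157481f837d81888c4404d909ea866f337814384c298d08673326493240a4033850b90594a14783e513531a980cf70f9014722bb897c8a4121b290d6453a1e7bc38a1a5793bc60f015d8aec0b2d25840216123792a0b282254042c0a7f15e44262594184c495006af04c40a056af0940ad5e0a9fc6c542ca281445946af0cb28a9281650ea4c2ca03a0e59426a18b28bbb516518e0e2ca0779659430020b2859d4965014652ca28ca62bb2ca0457643d79aac73b23d88689c7b1214b4f6248961ec47e4b3d88bdd47b127b24f6248d41ec59da73d88c68c7b12d914f6263a21ec4f9c33d88b3c47b12e604f627b10322c623036c0c446bcf1185179e5d562f3cb16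75e79f616bcf1bd2179ecce4af3cf6a55e784626a2e0d450dea6f5020c0350052baf4a830f21d48d1468a02b64efd130718380bd55e78545c239828c4bbf40c20c12418434d4430865b706102c6c0c2008561841662430866d4061004a70c207f8c184021943081a5206100d630c203a0418415f04308184020c457301f08f84092e6c5358d8d8a38e68e04c6c517714d8a26a0db1458799b5da49302f2f1286d8390d0e30af98913047510ef149a42bf15f816d805390e1470a0693814c09230f03c0a2051022cc3c004d28245e5396c50c898d8a9b1ddb14b0f8b628c27c04885b143b378670da2f08c84dda119277b02325b7584650e2a08c8b7d01191e89c2325ba30464a72508c951081192a30c2325c610464688108c84640b7d049d00b206e8801c689208684340b801a2014d451279ba80ad01d80c0a06182813c15a0ad032f8d42f0c59ba8418b2810190e18b03354dd432ca9fdd86ea2401cdd444f51ba969893750864c6ea10a2cdd467941ba92dae37533542c87375099aa17e98ec09b946c49ba823b0227bc954517712a8740d255022584aa1bb2c954274492a80f882550908e4aa1d810954d89112a8954047fa3fe044f6c4891fed89090b0870e6c4a3d18d890c5a5b1235a43624a5476c48638cd8916415b12d2e2362552c65891cd245c358904b865c3033456254666ac482cd15892c7b6b127181d624c296ac4946b15891ca34d8899d6db1113323621e77f6c409624c5f0b62031cb6c4140dcd88,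
  nat_lit 0x1600453e29f029b597e227c34664d3831f3c59c13381d4439d029c02f5c51605eb4c340bd5986417aa30c02f525a005e9c01c0bd28ec14bd305e8f0e60b02cd48c2c55a804e463ee09c81e1a13907f2c27202e504e5656909c9d6d01394db1427242d184e47c8209c8f0c213909c81450345602f459c305e82f4661730b5060a0bd89870c2c105eb46446163fb38c2cb1969858de0c30b1f3166160e528c2cc7749858f82830b1fb0e6166ac14c2c6ea21858c67039113fd624f1f34cfea198a1d44ea2061c8452842c216013a224788b38a0316c49809e4ff395407c825180f0d928627f981544ff6589c9fe38b193fc941128713fc650e287018b2c59113fc95530e9340e827e30c45b6029690cb8ffae19714d5a32e13b3065c3a850cb8edc919710d1032e05b1c65c76630cb8dd451973560832e1e18c65c4aa08cb865c06c68f9024ff216bcb8e2ce795b0ea303e0b6c204f76d808ea2538999d4ce9330e18700ba715bc860a30502e81b6116000e5207dc13f05b607d8136c0356e6d81cedadb039131b604d45b6c0ce096d81904edb00ef19b6086e2b6c0cf846d834662207103888827221081db42e1038561a2071d0b040e3125081c052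91038a8502075e79840e0eea00e0070046b9996227813c0185842578f2c08426d090942da138f31b4264d5368441896d092550da131ad0c063d6898d59ea231a98d443ba31f38c6a155618d49caa31a97cd26353a89cc6ad24318d4efa431a910a671e5053ce3c4ca89c78e3c20d79c7862091d0b8e3cd4749c78b48838f11d0e71e64414e3cc5621c78ef2c3f914e9e7790a914ef21ff69de496ca3bc8540e7793bc8c6e426619de5ae326ce12020b896ce05b381735b671b38512cb671a8f46ce395a2d9c391e9b3883e536708c866ce089006cf13670398f06401a1e4391b3c01b2011803c81e4041118f840c831f4cd9e63fa1fb058503131b11c6263ecb4c4c5c261898944a31309f926260e0a0c4c58a39898b9a63130364a62644b10c4c43919898180231318fc26263130119a63e89984f3a131f1791863e3bfacc7c1cc518f876a931f086ce63e64614c7c574218f8596b3198b2d07786b84cba479c61748808a2e90f4525d2165199105d2597b8a0eb1651cf922ca265b0594c5f50b28ba44165178a048c2e908188038a0ab8f67213c0fa242ca165045942ca032c13f933b697de6518111cc324192021d8d1b13861c300c4f165059605ce91db457b024f312e00bf062085962ca180ecfb34165974862cb10cc059638138b2ca1ad16583f4c2cb1b5a45965e028b2c0764165840e85f402c447801038170c41420818744220a6a3b84142fb68828052c1051b61420a1d0a4414d2e4082805451050d68820a]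
noncomputable def A_1 : List (ℕ) := [nat_lit 0x2e5042da16d02ea57def32f968e012c2d188dd26bf1168d7de12d1b741c5a334930b460a55968c9aea2d19e4125a331aa0b467cf3968cae052d1902485a30bd4c9a00739916825141b1009a21f12f6482c6163028381e121c30e1809e81fbbc87a385813cc9e604909139e648057403d844e6937089c616d07b0244e1313c89c116591395d252271491244e518b889c59361139396a22713c4e44e16e1089c12a19138c0931f4963284b62f7d0e4432391fbcfde06a21f6e238b1f1c88c868398ab0774e1563629a2ac216ac5589b638ab0fde21560ab00c6c0ff402e00d4199a12b0c06a096ce0d406a4c9640d4797a81a86062035162a306a381780d442a901a8932f8350ac01114841a87d358e98a5071d30e9a47bd1d31441a3a67015474c6294947463a61d30ccce401785cc2e60620199e00d3333aca0a667307fccce933d199dc1a6333a8ab66673932ccce41ba121e625f28e88cce11e79cbdba036e8026a802d0bbc40384870b740e12c6e815496dd01a129ba016e4b740c7c86e81158edd004c95ba009a2374040f23f234e227e4314b8fc829d69f90a48c3f2173567e44e7a8fc859349f9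0bbc83f20da4e7e438214fc859521f90c2c33f2373c47e431c84fc87e403464d1916e79d9e8639235bcc72253718e4f2ed31c959186393f8acc726e8518e44b2831c9310e6393e514c721eb218e49ba331c8388463968c84c7263902c58fad30f59c5e6231059d017a0bd0372422f4216838a66003000163a6fba082cadf130b08d226173cbc4b743c1896746f123821549adcf6e784e2e956809fdb9e268c98584dcf2d239b9e2a16373c124a6e7b4b92dcf1d0a1b9e0cb3373d8d656e7862c8dcf2992c4cc532509e4e9933a3149269a415ccc3901c8024cc57204a1852a64560a250a641a2a087096b42f097840bd03bf50f0a32781e147cae3c2a259a7851d230f0a3a559e147f8a3c2953527850e1a0f0a67639e148c863c28a14a7853ec90f0a2b819e148d623c293b427853c28175c4aea10f407b11788462213b276c441c3c888c44fe322990c86473b26bc8c6464a9032c19605f01001e59a3a63cad668e80528294061982f6854d5bc4ca9a59291534508e2a6a1b9a54d27230a9aaaf59534536a2a6aeb9254d51b20a9a73b29534d7e42a69024654d18708a9a59a09534a9a052f1a1e027513a817f6738806a435206b01328e5323faa0a645320852814732cd164a4a5e29914dfe5324a4f0a6461a694c9c7e0299112ac53218bc4b34329932fda4ff65fac29acbf42c49ade665f9401ccbf23e0997eb1699d9c3d541600b000d772fcd053e32168a7c452c14f9981429f1f4a453e3ca40a7c796714f85e0c29f1629453e31320a7c4fc314f9a54429f,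
  nat_lit 0x234440e0df169cf142c56f88ca260443f9d0da639d8871c51713669b340935295bcd282bc7840820405020f6e018f1a540f6838280d181e502a1b7c527c20e3488c4df1091888c405f895926df15f885be29ea337c4e44e6f886ad8df10d6a9be21903b7c4fae86f884208df10790dbe20636102821143668ca240701b73ce4e727032a4fa340e81d6e23bd26a4cbd645a99ffcd0541850c280c091494461430a02b1946323bf887a03281313465005860ca04c8b1941b49432816c2465028e38ca02fa619405f8a32811f106507d118ca0efe21941b34232819401be016560740c0d00b294a941651efb42ca1d1585957ea80b28571c16500da42ca3d728594f1a40b2859422b42ed445683db88171992209c0ad04cc9081a9992080786c036004c482000b37664b06b2cc9707fd992b0813324c1a6664a023ccc94959999240de942a63643d6d053836d98f6c7b604648f6c2cc923f483ee70979dc081430360bd625a43753c91840a31720814a0681029a0e82052c5e840a4ab4481440a99028a2543ffc88aa76509028fa236f837c0677f6f828da421e837c00b0c6f80a38edf00be99be02626b7c04c8b6f80b612df00bf15be023e237c03de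c34f07bd2cbf118cc450511107bcb4460f79db161ef221383deb53207bc3de139d14e6273a6f60c190dec118f899a16f615cdcdec3eb31bd84075b7b0d92a6f61024edec09219bd857f2b7b0f9e46f60746637239550d883a48968841522380fa206523290195c67d785b02d8068618ae060a22e88c5645d58a40d3c722e94ad445d268b48ba68c31174a3a822e81bdc45d36e248baa3329174c04c12013d8e2402d2ac480a0a88900bb3405702b80a843224c54268ba1f70ab940c806400bcb03450876480810ec9b2e21d8585a43b1cab08764c7590ecb92a21d9619243b092a0876541390ed946621d92a4a43b0b3908767c6190ecec8221d9a2c243b21d81712499887c03e005c99d3a22621310156471a78910761016999d1e7c63e3017483b382b3048021220901eb3612038daa240500b4480d3da89012ced32204480de289af0964f338930e80c406201a8419798a44522056b865e44d3269815a85f7902d807501623788429138489bc44650b788c6ce6f12ba58de262929bc47044b78892a76f1164cade22ca11bc45c6a15015a341180a2624e813748a805f279760a76f0a68eb207b72a004c0c54059e04a8073c69088a54004924a80c94715001fac2a034b9454036c20a805d81950045ef2e50c3a86f63a3c4b2e26e81c8423d337e90e281c12d1d02a02cf89afd7df13790766456c2b6013fa02d789143a8e0b68869a16d1b2302da4e0585b4c8890b68da1016d2ef9c2da6aa205b403830b680e4416d,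
  nat_lit 0x254b0256018584ac9ea8095a2b8e12b1d798256395284ac0ea4095b5bc612b18088256396084ac25606b835a5e77a1a3c03fc1c56996055c932c1834cc2a298acc1a0bb498349ee730682fca60d1784cc1a60d036fccb1122b1835a71b306b13f860d40ee8c1a41a31834434709fcccb00fd98cd876d424292140acb1db017d25fe89920ba103069841e60d07488c1a65809834c1a06b12b91e658310c090848402214ba106b1071d66581a298cb035e2996019ee32c11e546580bfa0cb062021960cb032c8b58826581454c68c481a083841c0572948a80e933bd1ade2cc890fca5d20749ed6435e0de4810008002b0437804c5b58860e90adc01780bc033b01ccf184244a00e95f7b41d26b5303a4021207303a420e60730101880c083a45d6907488b980e935b281d2574383a4ae68074886c80e90748c68e34d881243e6f0248d31c0490063409204260124438b024811140491a5a409234a401240d270248d24c0491a4140923472012443630248d184049127040920490343c15111271951e53f2ebc0e2a71502c30bae063d093842796464c758581a093848721fd04e5824e249b449c0625893899a812735a4a24e36e1049ce06a08f89d3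21480a4009152db3cc1433c7948ca46045800d202901480127a24e0b43dc0d01033818446234a09c0c1b2a140142d1326b818e37a703283fae0669171c0cb345b818c63670320b16e0648881c0c45193818a3ad14805c0c5f4a1edc78112ec1e0a0a0b505819c8e0119421c02f23aa82c2e011a339c025f86b80486cc7009eccee0158915c027819afc0de946fc1246478f06ac8cde729790545d8f09fb7e026f36fc2cad2df8316206c856fc0831adf8105b9bf056a537e0b2476fc0d890df832f11bf04151b7e08a313e69145e65d2aed0f28093793505cf301e00f00c25048d0a76c77a14cc2e902998ab1a53338130a661f1594ccbb8a2998e68e53313e18a664d4194cc89822998244253329981b141a3899b8cdc05509b21e47a228c09f0451101b860422289e5024510b7b88a2ce36114448eb2289a1144516f6248a268641145b0872288928c4513d6948a27b021144e253222914de4b20274c6f637b021289bb469eb4f40d7d02350664332021a8e5940f5808e21d70eb8129621289c1086112d300fe429769ec835c07c7816420f20308fddc061175340c23f6601847eab030b4e140615f8240c2165401841ea70308e2cc061470940c23f4201847e630308a5c40611f9040c206102fd4860f09c00da029c14e014b4445101b088a32051116612903e5001005a88198248f18d1115e0ab222b448e43009114a54e222967584450ae2888a75249114250822290e0e4451259888a212291148e6422283ca8108,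
  nat_lit 0x228c9c300cf918e099cf1d40ea00aac2d741c30e1809575c30d509b86165a970c2944c3a8a11e81fd1290969cce182d425c305a62b8608be470c04944e183c4bcf7016b81e5871536c31bba865432a01b5468fa100c3c51201939e608a28144114500702289fed0450535608a0f7a4114b1240229ade604513e0608a23e08114d8608228114065f89e645ee1a0c0fb063e33618edcd6c336186279060d0bf00c1891f041ef2af8ff6027e1270db0c18ba3618bd106c302054d8669239b0c5354b6189cf365fb2fc0d873b150f121fd885adb0c165f80e0416b1a73c54816b10a90548048585ac490b3c4842d6b12685ac56ac0b59d3d416b652a42d64ff405ac7ac70b59630c16b2fc142d6782a1ea8f54067293da8e0d214d0ca6533a0d080f51227913c08cc048c4a7458989fd843123ea92fdeae957481bf4e0d09625c1ab67197126e0d12915c1a59d6b8348f4e706891d8e0d5689dc1a2bb43834f64370682ce612f09781b9451780b58af820978270457c275a4af857c60b10af8716e15f144b42be2c69857c2902caf8e10e13512e0c2be109e2e0c095f1c18b3383830c59d70614fc0e0c71bfdc18c125b83144937061ceb2e0c41e8c934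27060ad260c338c506cc1bda14703bd1061865a262231101c0a16590d9843503d79b620e09186c0abc55e033bce4630b29c8d452309db0e4612439c8c8126391845da72336f20e4641171c8c6d8939195e4a72332f4cfa4415a0f548a114e596724300019bc50c37a818b485d026d950e66f71ec49c12a3c51bdc50c337b882227af37b8cf5e72309ebcf5e0431a18c272337b8d0c659e7829014805001bdde53d37b9ca006f7587dcdee62c31bdd035737ba59466f720c7dc1340afb82426f7704c044ae0910290b3827048f29ce0937535c126e263825932b7048f3cee0925419c125352b82563247048f61cd611ecb5ac23e25b5844a4a6b093310d6112a9dac2d6933584d9c36b0860c4d613f305ac2d6103820fcd13949fee643b21d814a4183983ac309421110ea67593ac815b42be882f0deb21930c980a550c1c57a43c9906fcd9d234592f9e71a3f33cdfe0ef81224db7007a860d440c0df843064289860cd0af0c19a2de39c2baac3061636860d548e0c1859ce18305e203065412060dc1030c18cf9e6ce12a9dc10e0809f99c10d1ecb82163e2704284a4e0841331ad267040f61ce083a550f3a79d02c249974148167a6462231014042d08b81861511da159266cc39138d9873c69b30356c36606b546cc3e124d987d741b30320736627a8c6cc50b14d9810821b301e433661b3446cc23104d986cc037c4c7d215790d5e6aa2af40e60396994e44474063031808751118144870c89644ba540958059a12b,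
  nat_lit 0x2a581b60524a18cc1bd4320190009541b8c474e3a702555c6f12fc871a83400e3c468059f80d00c2ed1a021f163403282868053d48d0058881a0160ce3403ce1868072418d0041e21a0087823401a0017e6032909f84fc04498879e3601d53ce487240292cd2b028d14680a6e3c4c0c526330b8dc2a2d71b94116e3723f29c6e286438dc996571b980267893cbc82d6e3749f8dc6e66d0b8ddcbcf71b909f07891b8dca06b71a38d201b771a18870e3429771c68e0c738d1875971a1c496e34218141fc271a0fce60a105081bb268c908a081f132b995c0a4530d507e43f88818454303f72d4c674824250cd048a885744f503a79d3c0a1b3a784e9020049d2094c53a41d2181a63a42c25c74850e80e9061ac9c69074828890e9022811d20450111408a1c2a91142c2e22284860c45080d088a0e3df11418c3a41ba1ac88364114106c45110f788836d6f7106ca80d20d8231841b04aa88365414906ce06820d9618e41b2801883673e984fc40d421a856224c219a48a22026787bc3ad039d1ce80afe303c1bd829581e74f3a05091444acb428884e7c51161a28a22b357944541f064998a2264968654bf4c0ca87bd41953519c32a1953029432a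e280865462246290c32a701a164ce0302989cc62e2438084e6270169b5ce02c3cc9c05677b380a820e701409f0e0271cc1890a70159e90e0245011c05c4cd63bb8998c787131d1a658c98b045593205070287ca1d149c4c09283898ce9032499240ba325da9c4c60e5b899c4c11563898c09d71325632e2670b59c4c328b18606e2607fd0de86f4025d4a73311f9376674e3a701afc4dd02acc4ad416187ca6026013019f2671a0a589d5207e83f4095c09444ce02219114c8a6044f8ed6610a379c821444c70428206c0850411610a1aca82144f04842825480852cc8e10a1d01821441528429348408504ec610a10e082146f40842821404cf1af647b03d80150e5d9886b835c05418402042e217014b01f778ac85640710aa5a059313f4cc9213d89924196e3248a1986492b62cc9260549924e1873249690c6496970cc923b011924c30132499240d0300b4025a5930b8908c2b7120a4607e471218344e2429649c48d2ef3891277971238634e246177dc48a394b890e3647122053ae2421195c48235e06b84e242010880441109009962e2011bdda4021c0b0804c4b51008f1892010a2104023c69880472f29008cc1031393ec4660394049f66f7713ed962d27d9b7184fb075a89f651a413ec114727d86fcc4fb09c909f658ea338c14512bc9034458e0b5b881a60769034ef0c2069825240d1441c81a6d8310347cc5206950c840d19fccd306980258439931d880328e1808dd050e6bea158802b10928cd627c8,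
  nat_lit 0x186cd662b31033cc827115500ee22d63f9c8c9a3027b940a84f28503b601b80dc011bc0ed024b0595007088f86e507280cfe61a693940cc4c7280300ce5005e29ca05745b94081887280ba52e503bf91ca00d6a098c1ad03380359666606b1ccb0349a149c74110d4924a41c00e00188a59590358c4921de819de435356c045222902ca01ff033419a009721f1bc0bc1c07b7e059b026682f180d6331281ac66d683583c4906b008681c006b043801c0020d506a106b03ae20d6061181ac651283592b0e06b132440d61c2500a0387797bc21701bc103203941080881830c90840e5271080d9142103943442043630840644b1080d9902100b62442030c70840ad45108102a6517323cca36473a3914fd9437e8b92256c2b6010a65a489240ecb22b515a80e250d64cc8ed719191d5a2e323a3d1a6470b9acc8e7ca4191c8f473238964a64764310c8e4801991cd9e2323991c264732381b384d3795a8d7922c298d9c585574b0b0a69a596158a4a2c29c11258524a9cb0a59329614b2842c28a44658538488b0a46509614b0a06f1035de958108047082d780e5472a066cb91425a4722acc4ce4551064cf33722b73de7493f219c8a24c6b9152ac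e722910d8e452611dc8a67a43914fc047228e106e453ccc02dca2d697c4cb0c7213908e0bc2b04d632b190340497f40a905480dfc0f950b3859c033e0f0330b21e422164178bc2c878e70591c84d0b2071581640e32c2c80614859003680b21854e16430d182c89a42859082a40b21888616432f082c878f085902c805f819c2265e0bd44f1e1528b308e7b3516898a0a2d3c43d45ab22728b58d6c51683ed6a2d07e2945a7de4a8b423c751695c8ca2d1509545a64f1a8b4f1e251685482a2d5168198c2628331835502b415a00c3b08840e2c716031f422004f93318215266340f10cc6583ed98c62b93318a2a166324fbccc672c8998cc635b31940fc6631c23ccc61193c0194053114640a62d74014ca1368298b52b053289940a62d42414c5a730298b4c5053117c80a61d40c14c12510298aba105302980e183194c21675d99d4c2ff47211e3c4cc610e50a2e2f1895a866f22ae95740b5e4d24895011a79984782f31f988a045e299409e2bf06b908d6cb721059d0e4217525c845e12b909c8413aeb909c25b7211817ae4220495c84334c117c6e4220c485d022e817c5c8017203900441920c09c804226b900842c72010814e4071ea5c8041e43900836572038f44c9d25d09c7a133738f515cc71eb3094e3d0d3a1c7a4a93b8f4a82571e80aa621e60048a966188952c9eef2a586adc54b39db4a967226152c9a8b2a586bd454b33824a966413952c3bc62a5a1b8a54b33e10a967511952cfb022a589f8254b,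
  nat_lit 0x302d09e03a891090848070d0ea00c1d1f1046585627890dcc233e49d99e7c83e401b1e7990b985cbce7309849ae61184b1cc22985398495697309ecd0e6126d99cc24fb2b98536c4730914667793f2cc7802b2a1154b8943b1873227cf3fb44ec6708887e440523ee9b2245f4315bcf9a24a80728fba13841f7585e03eeaceda7dd51b00fba81f31f74e72f21118fba62a11f75cbd1336b97a60d707e4c14838f99674b3a06919582669f16bc4d3e34c81a7c1c4f34f9975c69f30b34d3e45e61a7ca62a34fb899269f1f220d3e71139a7c522634fb824869f1e20cd3e37711a7dcbc134f9a7c0b190f8d04a62ee8b9786c511bb8af6455e3efc8416a2e78b04a8701de1dc266e90cd4ca045020333033406601a02859a217486ce36d9062c316046318de07703b8013b22f479655632f1a6397a05ef72f08a8627513979632172f1cbdae5e3fd31cbc07c4b9784e8872f1bdcae5e044449e42c299744143323e12de8360030d1c6e3f2898cc42521b01c5621450a2818f640f917e0bf005220155e3a738a40ba05d0031c4164f203910a07b01b0049e40d5513c89f0627913c961c0279146804f2489c89e4c62b13c8e600279201d04f2236849e4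222103ec44f22352c29c14e390a029ca6b70538c07e0a72455814e7016029c55a9964662771e60429c620a0e08323412082fe22552b6c42700c69010808405108f3243280f1bdb42aa479f44adaf600864605a02284537444f826e8254e4dd0215a9ba096313741355a6e889ca4dd113529ba22621374b683a6e823864dd0c00a9ba213113743661a6e86f424dd0f5429ba4dd013965da90f54ebed0c88645801e0c8ac190191507f832283b90644ea32015cc45422a021ec42d332b9bfe856d1d2d090826488644d371245007a407e1f9c423a11d037600fb00a08504097d01abc52e2970286059e90c883cca1911bd1032225510644322221315b421910f1d004856d91b003bf007e83f40ae12fb388e24b7691c581cc23896f964711eb288e215d491c4ce682389d3ce471039188e2544291c4a72423889586471063088e219d091c48e2050e95ce03e6387c421c70f7973c21c06f7973c0dee0f184e1e2daa078c7b520f18ebdc1e3054343c64ab6078c948b0f19d8541e3184a43c60964078c8ba50f18c4481e3387819081e3028cd90910870c46861721ec485a2d5788743c616421dc9e6163b9083c6772397f0ee4a3151dc966403b9389f077249e58ee445e79dc8a6d11b404ee4669114dcc2ae3348351a66906ab0cd2c56519a4c4893348b5506693c71ccd2490319a49a7311f162e63f03de50356274892a49d311488a440916076481c00e0020f01d806f09345e23e0b43cd9850f816c860702418e766500,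
  nat_lit 0x207017a407838dcc96261b98a25637319aa46e653328dcc9fe41b98ac660641b6380c8d8868190828c032104d6064209280c84114819081e70320070c0641f2140c8091201917a430320b9c4064032014822b9a01480a40499058202e63c6345cc06f60b98104b1731fb942e637ba45cc44238b98876617301f0a2e60d08c5cc10f08b985cc06518cfa850315c4ccec67602ecc0c811b9b00624f61b9885101c19140c3b5213e192a2322191017c210f92a48088f1930a31e14a0a50123a3d2a0960a1d312c3276225839fb84b002f689609d6c12c13b1625818c284b02c448960a7a812c1654e2583dc184b06b2289606d2412c05f86258549084b00b4089604b004b11c0a04b1002c00a60530210800a0693127a04b525a81b2849e02f382d501d085a861da012083b460f9b5c4e7f20ed06b226e737381b3406a807681170284b23181da2d2983b46e568768e38e0ed0a5d01da1e0243b45e42876846040ed11b6658b29ecc3c4174a027413a06c61e3e86e70b1d04e85a6805d40a4f0ba8071c175273b42ea677605d4514b0ba90b14175204a42ea20f405d48a270ba8db0c17516c942ea790205d4b6420ba920c21750ba81b082b6a07803c0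070b0ad808b60ed04a064d089ef0ce712419d0225340e544a06549711b40e2d2368805846d0b62c8da71c511b464492368dc5046d37e1c8da775311b4ad05236993c846d3190c8da46d091b48da047c9866468f2c04980026a80f747ba07289d75eb4c307bc21e64a81b9cdce05ef0e35e3211908107260f607b8c1ea12f183da3ba307acf446e70983c2c913078ef5260f299b8c1e7dd2183cb002307901d847b2051c8f6767311ec8f6b3eb11eda59423da5c1a47b701cc8f6a0db91ed0a0a23d88df8335111ec2a2a7321a790e64732348fce6459245cc89296b990e51d06619cc82442b990478e73203388e6471a09cc840c79410054f58d0f1e0a800773c9744ba023544fad58d11796b1a4fe2963463a3ac680bd41c609b2438c0353c718d8670e30c38d1c60879438c3eaa471863530e30e4051c61b78838c5088c7184b110e300a611c60e300d243e651928656894100a711748ba40d2858d3c84037d98760e9510ec0e69a1d86b4b03b0638587600aaa0ec10a121d81cea03b02ac3876027250ec398481d82d28c3b05041076066210ec076009b65404d2b0c78a12a408d11988cc4086958d4801c11880475634631cac688ced58d0c4982161ac68b7535402c682a80074ad50061832a0193a554000f52a802deb950047962a01c84a5403940ea801c421500d581aa00794f730aa00633163c0dcc27c899b241e312b11588093a1c38c65832c502fc658d6668cb0c2e91962082632c48300db5407f03f80c6f,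
  nat_lit 0x5661dcf2517339e4a30573c93408e791774cc2e4eba1de05df221690b4099a02f3c7c802e80429cf140b4b9e04289305d024212102bdc1d14121039e216c0b6014125c091de0a5f11e78f3c09d638dc0ef0a2e81bc857f00ad1fc96e783bc05cf03cf139e015cd73c02c92e7823821cf03cc339e0ea2573c190281701d3c47ce0fb91bbc74ef218159602f3737d0480e6f81f8dcde23200e9e6d3d737cceb02d0a1310ea3433e1f628212265c410472c914e0a70072d1912441832049a7a67c90b3884905c29089ab85210b170a2455ae14840a5c2b8f52b8520f2170a41b2ae1483235c290604b855c28570ab8503071cdef0b81089ac1c210b18382455b070840a60e38f52c1c20f2183841b2b070832360e10604c1c60e05838c1c0390098af30b985c0dba20c05cde67c139bc1d2e7379f19ae6f37eb1cde5bd5b9bcd0c9737b7b10e6f3be9dcde73a339bcea247378f6e67aa3d501c006319904433542eb17580ccb1b6c419c0ce0231d993210c1a024a8032e4880446579ea84a703cd1ea8665c1431ccb81a379a14d0a05501971870c32e289a265c694accb8b33e1970c58532e39c0c65c21350c63428098c4265c318b4b92631618d8c62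b1df18c54161318a4ada63140314c6276e7a8c4a631574b8c62166218c4d0023189f3286cb2a038d96d6f69b2cdcec3658c7566cb39728d9654249b2cb188365ac2ce6cb27f98d9638929b2c96243659b7866cb39088d9650409b2cd96064a073a8a11019c45106c991410144f2c81035e06302fc07d03e8021bc0be0657a30a08ae1b9d09b82c58a30882f203201900a8e1440918440d996104eb43cb9026260009dbc6e664a78c3861c05efa3084373461307be8c2511e9184d0e8230961d24612055c8c2485fd18442872308a3d8206d0d7840d0a30888f4209911e031e2238881a58e1111c3b0e2239565a4472cfb088e3a65111c0d8922393dd04471dd1c88e31f2911dcbc4223983e00bb1f44560c40272c189f6d58334298b06344ad60c67352c1925495830f590b0627f9d60cb0b32c18c24558301e08b063640d60c70812c18cb615832c180cb138da0c1e5593983c3b5435f905de7a23d10151a1da819c83b4a2a49a0a616a0b501814292900d006805628a48093f1b9b05a6373538d010b31c599ba65be3fed0bf8534a0438204e2e982b985d30ffacba61065174c16292e9848505d319e9cba65053174cf3c52e9889085d35dd88ba67fd0974cba6042c878220240120116a5b290dcc8eb23910b9e43571ab8184610278a20a64f1038e4602b815c01a5e39102ec061f320713b6440e0c1c481c46381038b52e207162da40e22d2881c5b2490388b8820713d8a40e29a1081c2e7190380c822071df8240e,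
  nat_lit 0x1b828cb236949964b26732c9c18c65924a94cb22c421964d36332c8bac46593f504cb265902c8825b00509fa44a252f984fd256911fa5cf0e3f49639a7e92f2a4fd256f41fa591873f489dcc7e910d94fd2e7d913bcb93472c9cd6653d29e8173c1aba39f4438d050162580a00062c1402a24828077660501030a0a066110140561182802c62050151c20a005001cf84a98b96462f12a39f424619357bc8bc3b67873c39e05640ed80ce6102d0792642890a08500567ad4de7f819639cb20617a8049f103ac1b72046c208a14023d7993e967b32971e06843321981c58e42899d492313aa1b7e4a01117c8d563f4793e8fe4f30c0cce0a015008160445f80d205bf03fc13e8622f27d307644fa599809f450453984e4fa700a09f42ac213e8beed50083016a01060a94026b53a804c2d336e02f6434850095c4ca0171b7940262ba28048d865008c758a01093e850543dab9668b5314dc451428a02981cfb13881b706a0127a3cb24c4781351cb3012d396567dc72c986fee5948e51cb2c3923964e24972c90d62e59117f8ef4272c9241ee7d72c85cfa7b25b9f4fce673e9ad0ae7d1d335cfa2df739f4a64c73e95654e7d12f1dcfa7f81b9f40e3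4003801c08fd127cc1247d3a0be023b41348f3e856110b44e8a6a4904842420527816642a8017c84b64dda0f1874f31e3190243c60d74478c20570f18b24d1e301c983c6261ac78c05950f18e0881e30830e3c66071878c5de28f18cc841e310c063c618d0878c3c608f1878c069e8c69e3ca1a7500a839f8815073ce02a0e75a0541ce300a82bc58150232a02a0e6d20541cd200a83983015072e502a0e5880541118c0a825b1015072a102a0150087124ac00f00aa80bf05f8069c870e020a180c807e2f8080fc07e06b90be1c5b217c2873e2f8416d05f072c40be0c59217c143445a858be181cd17c16a522f825bb05f031c18be05f016b90be06745255ccd90433a01e0e8b41f79d52231c058c84d22690216cb5d23f29bfde79e194c00b005803414e8aa3100c70474522a505047b690a085c2e1411f41a282019ac50403450a08a6491411a2902820799c50406830a0946451410eb482820f60c504e7910a0853611410a08093c3a29c2b074531038e8ae0a91d1565b63a2a02527454857ce8a423c8f22631e574cc4f2141a0ff4bbd436e199223482574868a4c791950ca805c609a427453523c3881c402938ff0a3039fe165353fc204d63fd09fe05f663fc3264a7f8358b8ff032c21fe0ac342f01fe0454735244f2679302940d40f2ad9816054773e0c2c6e7c11584b12c73e0eecce7c10e35cf800c5b9f0544973e1030ae7c66111cf8e79124f03d8273c9131ae7925b31cf27f2539e47aa973c82150e79,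
  nat_lit 0x3af9830258928604302b098860526470c0b0818181419883024331860440884e7cc08a3cd9918dd1930ee969a80cb5665001c070a3a101a020c087224712389012840d88a560df9208404200e88746444ac7ce90cd8d2521498f49e7c33e1815ba3d202d813caf3a380d6029614b0142e57280cd886d022e199603501a8018563360ba30784f7461c49e37807c2dd1869e33a30be457461c2dae8c152a5d185a263a302a6a7461a30ee8c06621d180d023a30cc63746159a65a8331cc730615a1aecc2b12f3998e224937348b505a80300c7b2f2f988b1e2f41e6bc2aa07f801cc0e606bc04fa05f4331b0aa4663384a4cc6d150998d6709331a02b0663297c453a13319ff8c66364324cc61537198c27d31fb834281241cdc475c3cd9176ccaef1e69ac5e2e9387c027c13e037b48c231e68f3464740d13079a5df30f34f66a1e69511a3cd02d2c79a48970f3453081e68a4d23cd25b9479a13720f35d0b427a9cf04e85116b9d0a5d36ba15cf0c7429de56e85230a5d0a71c3ba14b4c6742969cae8511a11d0a4349958994b23e411ee47591964c1f4547a0c30618073f828220502d3bdd087c379584ac205b095886e847420c7c4e845103599c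c74217d8ee843fc35d0820a33a1065cb7421d3dce842eaa5d082142ba1199a4742146e26fe1d9ccbaa0caa15acad604ac87b6865832c017860d4a0078603130698340d7310e44a3002b908a4452043c15ae20984ab4861056b7882c357037f04ae0d6f0f6bc21410a02f00e90e37f170d66fe37f04ad66fe28574dfcd1499bf9254437f30cce6fe51becdfc71651bf902da37f0887ed6911bf845b01b49676222d1134c05c02e026ac2fb31058db2804c1a24d0f887c02e0c2e71126812a4004002011d404a0209c4c0f23a11d008b92f6c036435780ef445a250b1bde631224f501480a4036586ef40fe87f40e60129c4ec4461898302bf32cd8f62459b36c40b362257966c794e2cd9ba9a59b37130b36c995966cd9ca2cd8f3ce59b25418b365352966cd3e42cd8290659b2ce08b366f70966cb360704957a42cb116bc0f638e79c10e08067485f4222d2af0845a102688b4fd2c1168b05222d0902045a1da388b4fde611696d8a22d0161045a6f3a1038f3d13829bd281540e03c2a820b70550418d0aa15a561542b5282a836240550b2470aa1620c1541b2142a865e2055082a30aa12fc4154379842a8154037e0e0b420488720398382c1c6e70511bccdde2382b9e5c70508534e0a4f561c14fca938292a507050d39ce0a4aa31c1424a5382978487053e144fd24a199d30e98047317ce662e2f3d0164340a1724d7712f1887a24ef2c44864264899964fb7232c833e0659516b8cb2365699649e2c32c8dbd6659,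
  nat_lit 0x3b3c90c6d771218dd0c243199564862b22890c60c492196e272431834c4860d09490c41e212189b632430e7044862268490c486030a8716f0291b160441220813be36878d91d24f0510f56071b049c13f877280eace3617491dca85f21b444a3c2758161dd2503843a4847720f189d2425d73a492f0d7490b094e92095a5d247d143a4884277491fe8ce9228715d243d823a48fbb47189cf1e52039940a8023e89cc8240e3990485a73223830e6413e51cc83f293993a1507321159ce646bf31cc8e1453991e34673271888e6473c09cc8e640746a8ca473c39c9dc625e6a1d84bccb5a6068e810f08781544059a01bc00f103788564549173480787f3815240cf021a1e1045e6248504ba6798918c76af1a902ca05e616cc0f1a0b3807e43f206e31ffa06aa3dab0bcc748397984f0a2f31809a5e662f18bcc2ca71798c9082f3085125e62ea94bcc6cea1524bcc12a495240e0b1d6cc89a1eca0d49c1612f338c6892a22744f1a5e610d483f3107090024c2a11e3c9b6e3158655c6262d1b8c4a3e9718b4ad8e3148b15c62c3aeb8c5476c718a0718e3121c8dc6227469e344e31210bc3f21b38052429205b938c421f930accc7a04378c783f23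31e9aaa62d81da509b601ca05e005b10df185643b10954076223a8023c723135018f466a035001a604e6991908c806968bde863d69808c7a2b2918f410f21f48fa4096858d30c7a60d518f4f98d31e9590c63d34facc7a528418f4c1c931e8cb0a63d64c90c7a4267ba3ca2d030b0b6cee8f08badd1e33553a3dc689747902cce8f747b803ce8f21925d1e325536246e8f25a5089a25da00bcd851615118e224f231bc8a825d58ec44ba71b30e0a225d2a0884ba73498f107880669918e62553cb50b363e2a26e8a53137b8cb223d5666c85e80cb794c4fa1031609da03661c3c190625d114c457ef1d88975e7d712eb09b625d50a744bad4e78974c30912ea0e5225d4ba384ba46b08974a7c8231844bae8e89fbdd1cf37d86fa68c8016491907d182320306e4640b55a8c8068311902f55a3200c6a4640aa528c806a211904753a3216a6646401f8a8c82d11119070f1a32033a2464062428c846401548496a1674b3a06f51176220b0cd443121890332829cf14e2f91e4c60a6403821c1035b03ef304082040e23297ccdde6ef02760c1723421a100af51b2489766e978ad4a72f38f8b05e2a9747086de42f13a38582174704adce8e09635d1c08563a3896c874717c8ee8e0f199d1c68c2ba3821b311a08d00a6c274d0e7873c0245c47d17468052411708b812f4e8d11e34e7817468481ce8d090b5d1a47063a343f29746ba150e8d1159dd1a6bf33a34e1457468d422181279cc11012a912dc814e0c081cce181,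
  nat_lit 0x1e788ba877809750ba8073c3a51e7963794cb7a6b9a08e859d474a05ee27210a848ef662891d4470cf21680b601d80bd40b4a7d881b2c70d31e1916a41391f1b5d28e9461169d28b25eba5102e66a638c504ed618a199ab3141a6146282fba4c50d88418a07de731408d4c62830b14c5032e218a066233142a00462831401ab076899de1d28131412e24e7874a246aee9430495d2852553a5080bd74a0c2a07781ba50f0ca6529e198e373c32cc3878641924f0c70aeb419e1d83c3488b22d7980ec076066e069220d7164c85841387341976876833418c6476833459ed066104da0cb20a3419275f60029a0c08f994b461b30d2115221a4017c034848370691918d0d21b9581a462f2c3481e15069043290d20d1d01a42c71c348b4c3069093c50d20d2881a42f10c3487b31069007610d206900b311654c5a6145a1a5c7eb20f31cc5a1e63ebb03cc5fc58798352a0f3057921e60d5a03cc6403879838860f309b8a1e62f1103cc39d1879869420f3150821e60f3017ee0c4a0d785974599150a24d12fbc468c49e8acc966406ca8b2620916674859a003880ec076040c0b2a42440bc3c7fc201909c4c23113884cda2711b8304e21e8589c49e2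a1388e2522710fe204e29ba389c4e5461389508a27125a104e21be189c4ec2213897882271138816d0b31780bc4ef034b8e42027913c814c45018022892501ee0f700c4424901c982d4780ec07606db94ce66973073cd2e5ee71a5dc4cd34b9c5586972f7a8d2e61649a5c692834b9abce6971a518d2e5f729a5d698434b995066970e208d2e697031dcd2e1164844de2c910f2c592ca568b256249164b99182c90f7a05920c420b2407631648b2462ca4614cd120ada1748ba40645127a64ff27f81b2e3e488b2c81b20da130de24712381a7e0ad784558bce08a9911a115241ac22a1fc50454434908a93c501151651822a71e2845416c308a828841156830422a1150322191016830e5a47866830cf0c67381e18e3c63c31755c7863a7a4f0c2ca29e1802d30989af281890c481cf6e929870c0e741489e1825d211850d264b591a4dc6ee349975586933ec2cd2658051a4d99c93498de906932c59cd2620731a4cf6a53499dc886931888cd263d811a4caa613499a4c0bcf078449a64d3027a4a8912e90462655327444aa62c18154cde4f2a98255c55339734aa63626154cf20b2a9b5bd4553052a4aa65823954c6d052a98a2885532910caa63791154d79e12a9954c0a2e19cc408e047028fc6db411b06fa62360164846c7d1808d8306e11b0b55a2360683046c2f5588d80c6a11b0aa5223606a2046c475388d96a6611b01f8a2362d11046c70f188d833a211b0624223611b011903269921880122431b0a2486,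
  nat_lit 0x1a63c1466c27880ce41017f16fde71338981a907b381f245fc15578bf8416f6b7085fc07270bf807ed17f081582fe1fa285fc0c548bf8ada817f0828e2fe2fb185fc21528bf9a70417f1d2a66a235101614e3d98e700d9162b0abe46863d0c88cc4a079d30e98062c102a02c83510cf4225d81624fd533811c080b2723348f0631689e0cf1ae3c186fda7831e230f065d759e0c8e6a3c18c0127831e3a0f066cb39e0d60c63c19134a7830ae10f065d619e0c83c13c19b3a241e3d08c83c78302c2c83c0705382827833d08dc147a163584f42a1d11e85a7843d0ac85c7a130760f4283e91e8524b23d0909b6e3d09e84f4742119f6e6d6935ccd90c36ba162875743679f1a242315ac45bc5ef90d1c2f7212c8309e0e901bc05422a102264b0d01f49ce604fa14d4c62e3170338894942ed976c0a35205d0254a3288fdcb1b124012000d343353cff47fa03744b14f050108e05d3211ac23a423313e884656b7908da389211a426642372e14846c1b3108d43682119c9b642311ce47ee221193d2658a26948846305796288e742aa99e665554ab38aaa24c69554886c2aa9899655520ca8aaa67a4155498472aa9f90c5553f010aaa38419554ea6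22aa969025552aa81c8a42309628e17316f0d166e240cbd01ae0d702b58cd531fe8ff40dd30cbc45ae2d702b5432e066d184a46cf18f48b2630991fe16def0f486ca06cf568c0c8e54780a68534073f151c0ce02c50c5bc2de18c248a7321fb8f682de3cec85bc671935bcc8f03858dd182de2e91c5bc39b50b793cad16f1aa0c2de288b85bca0b58b78078816f046522de093945bc6fe20b783d32012935e673b39d81c72746894900cf321b1572660a305017983479965cdfd319807a6675d08e50cea355989884c40579086e816c2ebc815c0ae02c3841f112107a627d85a9c8cead2e90e04933221790bc0b926b4c8dec56b90ba8e20f1fd1f29e7740c5bdd1c34080eb0e77016007a564e533a843d2710987a4854f1c50e2808be164983d2acc287a552c90f49819c1e9066303d2518387a4b4480f4835081e939d8c3d27729ba502fcf74a373e05e1314446d06287830407531640ad661f50714818e00e8831c841006380a9e0c713eb418e63d6031c8bcb063a7f140c731d1c18e6393031d9da4063885860c71260818e0da0831c18e058d07568107083818ce958a0368b75306d1a0240da1e3c01b44b078368b7ae06d11e580da074ac1b4e425036807a906d0e2100da7281c1b46183036993a506d18a060da198881b4b1a083681b4054008e6224c395c434a1a5038cc7572124ab45e7f50b4ccba84b891750fd2e2ea02b9a5d4742b0ba87f259750d78a2ea02c925d423820ba83cc31750ea252ea0a2465d4,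
  nat_lit 0x38d99d680f52bad0430475a0daa628f0fb4ce44037a0a8c546044e123283f10fa4484070988fc415511b50da80d3a12a48716d897877477013480ee1823e1dc2c6ea3b850e2877081210ee0e07c71e9877044228ee00b041dc108043b8324cc2d6d89a0a948591304986247891cdc0d6c429812a1d5422a93aa9e36f28b05d546e873aa8f32d7551b5d8eaa129a9d540cd4baa84aa87551330eeaa1fd19d54ea72baa842047551b5263df1ef81aa80f79903c81e057603dc0a461915075c0e4a1a98d4c062a03900a3b029442486a389720cd3275487ee454c573c81427377849024807509551e57f3e541d5222980eb88cd032089558ea93d09dd52ae053aa44f8d754819d6ea936ba1d522a92baa4d2342aa3aa425542aa014f870798490248060a3aa42a7c1bac875cea9481f9d5261563aa484237548c78e1241baa5d4f40313a9c4ea70f139d4e3316ba9ccbec75399794ea74ac25d4e03843a9d30e77539950cea72b511d4eea5a0429d4b01bf940a03a21d10197a4f899fdc7b9233f99fc0e4d24b4c7ba3dd037ac33b41bc0de00aa8624d159847189f58405106c11764c6b081bd34822180a88544044f0809e5de1604035c7d613125893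33841bc282843ecc45f8190799484d4f3fb9fdc0e52624b08e8c493b685892a5f23125a152624acf3cc494161589291e331248600624943fe20298eec403411488082c4962488fee6f491ee4e90f0a196a607b92a240ad875379ad0d68072390fe05a4752b0e72ea539d75d4aa1483a95a67c752aca56ea540298f72175299a2849c0aec4b8c70a33a94cfe97529afcaea539d91d4a0d413a9489510361129ee791993cf807d271f011c2d3e01fcd87c00d9acf802e851f00bc293e01218e7c027b98f802ea29f00fca43e0171067c022508f807c002dc56e3019901ba0455225408b044a12dc4b8822251eb4244a32a388942ce6912817ec2250309244a60020894d71391283c4622527f0a44a3ca108943a663a7caa733a49daa857c3bd45c18693906dc71ef0db06d80d201c78168057379135d3ea2cfb8304e9f3164c934531914dc098f1b596e5e49a74f8893449a026b477b331396324e9f0e848f589ad1ba7c970674f94c9ae9f1f2add3e3a573a7cc74874f9f412e9f5da15d3e48d23a7cb1b30b785bc0d3507c445fc5bf88c5c62e06a51496879051e50d5e4ce9873416cf0e69f41c1cd170b439a08660734a9ab0e68c4541cd1d2a439a5ca4073544a70e69d9ca1cd3b09039a4b418734f8a20e68bf821cd0e68155e14c99388776e271289584e22bcac9c414e5138810c72710bf864e20b7889c420d093889c406b71a3a62711388186c7c48883435522f117880c3c2a2485fc7c59080040006cf1e51e16f,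
  nat_lit 0x39481ca61969007803c070206b626b9366c4dfe6ff037cc5b4f0708832092a296404da26d02418a5804528ca9e04502281b461068069c34e04e0ade1869c2f89cd3812b51a7023cd34e0481669c34e0435a69c48b08d3861071a70a12934e1142a69c1933c1c2334e006a615d00ec030a01d5860803aa0c08a8662ab2f64c9424a102840bd80472858a829d0c2c4cc6a0a9027c2f522c40352002c0f43cc6c6360396c2f4200e8f6667ee0c4d003aa36a0f3071d4141993642836614450630c80a0d422e14195dda283019b050603550a0cf6491419abd02831a49c50606930a0cd98514188b082832af0c50622d10a0c36411418a0c0a163714429c020906c8364040d88ae47ee0a93c2f66767910c937035c9ae40b1e0b8c06a61d080fac306c00e85fce01d0bf1803a184680741ac800e8341c01d0be9403a002a00b003a101600b008091b7ccd146baa069cb0511f616ba83c50cdcc78a4c680f14d20e1e287eda3c52ddb078a48558f15892a1e2816523c56292078a64d38f147ce61e29be8a3c532b9078a3cc18f1490821e28dbc23c51e2817c85468053429a061497b1e65732b8141a155580682a2600d0540a01a6d0b4034154480682b0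e00d0331401a0a91c0341534006803430a7007428091a9d012626f881b82f6300e8534201a137bc6a0353816bc0b731ea8f540b4b1f64d66c715a1f48fa4063e176283002e8c46007b789f487c5403682be606d228440da44f801b4254e0368215a06d096300da135581b489ca0369135206d226200da271381b423860368c00a06d213100da366181b46f420368f54206d036813741b08869c34e059c86bde3661b301b6404078c28614043f872607231800839260c5072439316e80724ec9d0e498c1c1c969d50392b04e872500a00e4b97901c949590392459b0724ae50027cc0640320214409e044a1346637a1433c7d671070facd5ed1f588bd83eb352287d671148facaee81f5b898e3eb35a947d627720fac1dc31f58e0843eb030047d63eb0234c619412a8fbe2060028447040e390708384053b038c0c313cd50b78387816f0a48e2de2fe9a5bc314b0b785cf596f0c68a2de28c525bc10aa0b78216396f0ada52de1f9c85bc1338cb787a3116f06f412de16f00c8312f843920307899c4ce0415067de39a1cd015263ec10d4c0c021f6069c23ec258b87d822868fb0598c1f6362543ec0b1a47d80f540fb02ca71f6150083ec2c4d1d68e0d89e38de6f3689fa5e76a0cf3cf647b202a68be30211015a621814650f7e7bf0247dd6942488a3227bf3df8123c78191e38f1c07158bde47aa5703c30478e78585d690283bad045f13df89d6878e0bad0e02e75a1219aeb4353b1d6821353ad15f2975a2384eeb4,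
  nat_lit 0x210a416a23d402d4256705a88f8c0b50be9016a048182d4678205a96d820b505a8115c3449812060ae024050da0481a0b009034058120444a0240cfd204818b200902243812067c60240700a04819e9009033c1812115c20240120087c127c0f7e15081de9db821278afe67ce30150c7474291e6cf3604550af20713389814067130bb70e22276e16e1aedc11a31db862b5bb708cc976e15fd0edc38819db8e6f2bb70ba8476e05ce679e3e14cbee5a0a1f00a0d43d684d267543aa01afe0ab8971486713a90db24d4c3174818872e78b2c866f102b17e063f3aa403f621180d546aa058888440aee2e2c17885c511d50ff1335a1a3663871c3818a240c88648b8b138f8ff646b1055bcb885c5799dc64903e00b7a00c03e004b8a4f411715d4ae2e29a2da5c526430b8a45c59714b6692e28ae8e5c553998b8a6c82971466042e28bfa616e2574c58a34c98330b8f40b6992a8130098017c464a0272819531ae0d70095a3f7c89bc6fb81378316f26f04adc4de096349bc0856137827cb26f097524de25b209bc5f2393783c6626f1a30a4de1b78c9bc42f11378582126f13780e8e15cc4072039024c457205d591e222c10e6c84783c891610c21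205d82ec0d6322b3d7de2cc78b84fa0f3b3967de7b13ecc0b461cc81bc415912e51d1065ca2e5012e074412fbce8933d61d1227673a20d2e0744784a0b3e13a208f9c7441c334e883b249d1048883a2078ce7442f918e8869e29d11c0301af062241a175b0c31040430620310e57cb005a188328303105eb58620e0290c41ea8e18833494310188412d031040fe06206ec92aa51d6c6de63ad88be775b1984ceb62c829d6c7c96bad8230b75b04ed0eb622825d6c1a9a19a4436f1f1bad826690fe501145088b619d92375b3b25838a7649c41cec9508f9d92d2b93b25660376498be2ec940901d9253ff3b2486d206285d925773b975cbae2bcb975a34972ea8778e5d30030776b72e9044ae5d1f225cbacf563975c4c872e82e84e5d05d3c94c0cd082e8592e05d1825a0ba11e30174607482e8884805d3a50e0ba30318174242282e801c405d0d2267f91973cff27f9689b0ff2a27d1fe4e29825e50ff26dc91fe415102a20a7d67f93fc84ff27f930da0ff23315917467f939039d82b4c6bb04b4ac76098096ec12cda5d822773bb059186760b618aec171311d8217b99a70335237c886226f90ffb8df235961be4204b37c840d46f92b324df211e41be434c637c86f486f909c0cdf22b411be47b6137c9be40cc91324c6501ad984e034d230a0c09e61433130c2857459850178a30a0ba5261420620c280da39850180630a0724a6143bf90c2823e19850fe6230a09a8261430a01ca002ba06f437a043d09aa4729,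
  nat_lit 0x3db011ee1ef791a86e332ba15d009570d5504e4272030f4c0f02e595cdc5cb387b4b967d66172c80eb2e59b2545cb228a4b96e6f4172c81272e58490c5cb2bf94b967cf2172cc7c32e5832045cb26684b965cb037b0419406c907682a82e3c499a37688320190048081c6446f237811f60de918a8c5404a91a3a24bd25e8186a5e779f741bd03491a480951237bc8761fa9923c4d122479aa1c48f64eb491e1bd6123c4eab247a691448f2f42491e2814123cea872479444c48f1ac9091e5f41923ca0c22479d7c248f2478192641d11ce899a220e91bc241d26db883a63469075d24c20eafe9441d254a483a7e5410740ca720eb978c41d2c31483aee021074b8540db922045c22444c3e80e978c2cf64e1858e91a30b44b306162df58c2c18ca185a845230b2dba06164e838c2c9d261859e24a30b2e11061652810c2c61604891221e42224434d8048831080910864c9221c7f924424714488214a0910513583e82488770448943e8a0e847420659199265c833dcc8604300347888b11e50c76446b2358192a31d02f64d4d12ef17780a3a19cc0ebe75f028f49af028314180e3577040cf239f13b80a0c17701e85cee01ebb5dc03d863b80a52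a77007392ee03e021dc044733b807be57700911843c30dac878592890f0b6f372f078a60245a64c146720a045474342c7120e8d712754cca86540257463b105102880c960d6482ea175036644f3116193de469f347c821c208805c42e204308b35e3c45a63c27218ba13007153260139e44c0284449805e881300718e2601db9a4c0040a898053549300c7c62603b04a4c05009098024e193004f22260022824c026001b0c1d8833a8652f67504e1ccea167b59d4413633a8828b67530014cea3afa59d4bb43b3a8c8e66751e184cea08a859d4cea0341887823c310f06cea21e3cade43c3945c878d62f90f0cacc21e3848443c4b8048785164ad30243c067cc05e09998ab41ef400880440aeb07b81048098a15b0ad8074c131e80a7050c414e55d8029cb68e0538881a0a751e3014e5b35829c8b8905396c900a70a49814e48d2829d7684053955060a707b8414e0a702b9c20b137e9bf40e832c5c9ab833f9093c49e04b0147647741b63c9ca36583570aa9004a9f1246671a240cced5c0999ccce05bf2dfa27c46ae056fcd5c58289ab862713570a0636ae34af8d5c4ab81ab8e050357182546ae280fcd5c3aa49ab885e4357044e50034c0ca0650213815132db043e871314789ab82e68bb7084900328df9e065211b80ca42268194842c03289156065210280cae3d4819483c8032906ca06520c8c0ca418101940ca103281940b852935016a8c2802d47b4f05a97c9c0b507e3416ae3d602d4194b05a97c540b5,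
  nat_lit 0x71a82182be48430b6c80861c24e10c2e298218120284303ba40861a04610c23b0821869d084302180539978e25c757044d3a0e171a74d18d34e8c01869d0722cd3a58551a74788934e8f15069d3859cd3a4d131a74258534eaeec869d1120cd3a19511a754e6134e9a740c521a2ccd4a73189a94ecaf3528c69c6a52ef34d4a5df61a948c2b3529ca546a53bca4d4a29d41a946c873528688c6a52c914d4a46521a94d78335286b846a52c984d4a6a50389051f218d1a45e6bc35e014f2691039e8132f1e3130e03a61d301a7c7601971cec133df02d68d5c17f50a1a5b68999c69720e687340d123b0442be79979474970f6e8160de3b83b3bc44876079c44978f25a12d00ec33b01c27876028654ec0e1c51d8163e93b0109c43a6998ac221322811400c8208b4ce363d3a05682b405a78f4c0eba2b9d07ce77591050828075e048e21700b801abe6a791054e92f3f90b15e2a2360c0f30798033e8d82064c187202422ebbcc6863402c3474c13b03bcc47f23b009a70ef3889ac0dcf22b3bcde3d908b05de645873bcd656c77990016ef33b3a9de624e4bbcc90e8779b11ceef30db99de63112bbcc8ba4779906a21f30b5bca2241a79f80db6f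2e8986e67c43dad1ab6724a1e3884b4032b68620652c4d0db249199b64a0ef36c9c05c6d924334db26a761b64a4eb36c884d46d957ca4db28e139b64e36636c83d4a6d910c10db25f119b64f7e236c9e3826d936c81d6861b90a28332f29a94d40cba6ad84c36d5b68541ab6c08ab56d633d6ada88d8d5b41965ab670ff9622809f250c45562ab02390ac296ad932ccd5b6d095ab63402356cbe626adb56c458811abc05802c03564f8903e99d3a62891448156846f99b605cd139b16e1a73611a30e6c62b59cd8ce2a39b119927362bfa0e6c71031cd9cde539b175087361278ce6c71111cd8e26139b1cd80edc34d4c7b23d90379860d138988ae27111184d5041ce8aa08feb0541191dea82323b95046b26aa08514c54119dd6a8201c2950440a4aa08cbc85413834ea8209c1950402f2aa086c4454111686a820cb895042890aa0950405689076444c39f3ca6641b791f8833017c106a01bf20d08f8871311068836120d3aa5c41a572308342a25106890c820d3b80e41a1dd18834228290680ca420d0116832d0b34865a97870cb44bad1969135832d08a2c65a7e450cb42589196846d032d3841c65a41930cb478851968f64832d3e58c65a46f10cb4d2411968cb409cf34c4083a1e1989a04d0059a87840e303ee50dc4334a1f2c79933e593ae47cb0f5bcf9622f71f2c3aed3e59c4187cb2e52cf966a651f2c38693e5953507cb11a18f9645f29f2cb4c43e591bc67cb4e788f966e209f2cf96051b0d4647b6,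
  nat_lit 0x3b919e1020723c2013d42c33c1283be2f640c0e60702831e0903e5bc10409e0c809e080e873c10302d782062d8f040c229e088f44bc118e077820644cf0415091e08287a1fa424b12f98a9de76d2f8cc85a5e5a13ec5d71394094a461730dbc17a72810a9cad21153a309c2a70523454ee0d50a9c36e9153a61d02a701c1c54e24e30a9dac251539f2082a722c4cfec3af91711df123e83be2809177c1d8967fa9a4a89a53570030264a939ad066833402e74cd542ed17680dd2057c8612309026e4a67219a1a7a40e127a48da243990e78c4b20d59711e5bd3a74043e21f02ac0e9c05ab0656001e3fb40a5a62513be0fec377c0b7e45c11ebc4b825bf81704fb6f2e09ba9c5c11e534b8235261704e7cb2e08d5145c1283a4b823214170415672e082b0c5c13fe94b827f62170461e32e0863845c111204b825c1025b4e7d477c1b8a4ef803cc844822402f1408f00b3859c0ef6135b5df0d2e33be0868b77c3a110ef8302b9df00cb4bbe0d80577c06388ef82c1c467459f98c58e89237d0abe636f29bcc8e2e0c9933025f310185b6833a31bcce9e74f02778adf42959d2226f1059c4bd05e80372025f100b15be433a3a54878a3c502c1c33b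124d12680aa71be44af857c037044d0f18b0c580e2e0cb3c7983cc0380caf6f11b08d80e9c097bc5e27c280ce81c902a415200c5307201c7c1ff81590139002b8c44c33a19d0425e33a80cf4674b0440ce8a1b719d340ec33a4b584674e03a8ce984b219d1c78233a4157c674426f0ce8431635d08674288793587b5419f1fc6227c36fd04483d78a5b47c30360065a646a23501c0ecb4a08f062943521a900d1818a014a23d1885b8dbd12b084be45ca154bc8c4bb479d1040d01d69c860ae9391c0ec61bd13a40f8af36fba4046df36f81b3a18198ad09ad20b2b6746e900a0c1d205b43ba40a40d7480d88ce9033aadd2058843a40bf4974804e08e90101ccb00dcf981e0737373c9f3662c016001cc6595a1c2098f32bb95dc0b8f7480498229f88728f9513ee8f3624c12c1c813a71790c70638077510dde3f616e3cb024b779d14302f31288c607f1230c02c64d610f689ac30e5135a65af3d9508f03ff91e68f3406b39359e28926b30b044d638d889aca3e41359a70426b2cf5e4d6316d09ac82c91359c14926b11c1a4d628a74302126b1fca8d4c74945de679889e78f3c064d167e82ed3f2485da32088bb4c3b017684a1c2ed01eb45da5fe60bb4246b176818542ed295205da35a38bb4a4a617697a0a2ed17f105da5c718bb4ec021769d9c22ed17681a7073091d9cdc4f3b0153de20d3fca4ec06a39964c155302701380d3c055010920ac982c816404b89b46810c385382180e0684308acc08604a5610c,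
  nat_lit 0x18f24f4e2b541e9da1473d39b9cc7a72eb14f4e2d321e9c701227c01428e9f39bc861830c03a88b1137089fe5e51a17e503862848870c1f141590ac80ed61815007e67d88be05f006869286424a125011c60228873039804a31151e2fc03fbd8bcc5e035e5c22217e384461d11755059e330890e0832f23c3845e389708b0212e1138199c22d0a73845652170898968e1141011c22e1deb845253370890e54e1128cd4c3931cb88b2411119b402225b77844465ae088ba49a11131a3022201458444c52a088805921112d7202226e93844475860889a50a11102e102223971844423e208894fc2111088812f0677a10f8ce3221f01a6243e095c087c247790f8836e21f1b2da43e152b087c72b590f8aa6a21f1689243e54b2087c1bf390f8114621f108ca43e1549087c301190f8256221f10fc243e21f01ade38099be47b9402e01700e4f0d3d00d2485a01d40ea05f4092a8d1f08150dbe3ec881a4c9111eb09282e11287c47ae1029017060b20bf9a06453f29f816f245c910fc688f1eb0f580b7f0db3c2b015802d04a5f013589ac09d41863dad2380793907b5002e039a00751c02cb2205c08e00a1f31c01da1e38029f947003b868e00fba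91c01ca9c3800b4b070064850e0075c71c009e103801de9070005018e0053142bf852a2f0d06ec473e39f020e0121329910f68083268481060098820c55ce0418439a083267b01064ce5820c576a041833d2083153a0106ea73820c99a60419330a0831e4101061411820c6b8204191dc20830418130e538a16b8fb11255bc36262c23bc4f3879c03714462f6460375e68d3468106c0dd03131e1af2a681568f0d298cc12000b80240a5ef04811fdc09008eb412036e60240712b04804f540900f4241203b740240a5e70480934c09018e9412043320240a5c304812ac409078684120090021b0232f0af0bbde03d01e81332502993289940660862e472e14c407aa2809943cc21329d94ec0d64077d09ee7faa0b642cf12db9a7a2341021c820432988d3069806839da5e452229016b276902310cfb03559aac0d0b298cd0d852f7a1b08fee4360475a86c1b7310d83895a1b027aa43607a1286c1dba10d852f3a1b049a64360c74a86c219910d852e1a1b095624363c34286c436013a640481749e1a214c16dc4f0d4e985e1ac5673c34c28d786ba998f0d30aa9e1a35a4bc3431687869d50af0d1d091e1aea6a057447341cf1dede5da2ed01d6432278fc47e2076996f9eea627939d4c6626ba984feb75319b54ea610125d4cf0443a98ee46753081c8ea61f88dd4c46713a99d4c17533a980f080eac48ce4670319873cf066bc2205be784087e246713c21e10178413c9cf0833135e1066d53c2040497843c110f08,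
  nat_lit 0x77f48bccefe30955dfce16c3bf883b277f0c2340621bbf9dfc127f1b7224fe27f08d6aa0b113f8a1ae27f1e9da4fe045309fce90513f8d3c927f14b504fe36e1c9fc2a5313f8764527f0b22479f3f2c0f3e2b7a1bf0df805d08adc0e8b038508d25a7791a4e9ee2349fe1a469667308d232e591a481aa2349755246977c208d25f6391a441462348850a469666908d2562191a47c422349bf0246923481d080fe817a0bd007328b59850c2862ccdc50c2bad8a184284050cc50c19f34a1878f494318f0e2861ae5450c3e59ca18e6e91b60413404d02680dae397cc8981c9895b8970f2b7168dc56e33534adc709615b8aa4b2b70d09456e0b724adc63e415b88ac72b739b8c56e04c94adc09a215b8adc22b7121c256e2b701ba048789fd48c3273705de412e2b33cf06374838f5cdc1397b9b8e4c8175bc8045015b9b9ba067370fe1ae6e048a5cdce31739b8574c73712f94e6e26021cdc411239b8f063737098a60ce1354dc84e420395579143630ea2625e12f01c38040883f81fc044001000e6605748bac61491d75cdc32eb1a0e8696378ccd2c45d91a589e2e34b3309a696516b0d2c34759a5842c934b317906965189cd2c64831a59b9e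534b087086964d20cd2c75d11a587ba134b1a580c6b2860c118766812ec97606c71d980eca3f53cb645b202c8ce40b3cf9b55879f107cc9ee350a1574aba0789b56e84830aad020479fa06e4c3710ba8232250f3634482621b916dc14d22d7815683a93164875214a88ea4a9b01d4b159c3a930a34752ea660ea4f26b1d4985543a91ad2475218b40ea4ea851d48e8483a914c0c7525b710ea412011d48ea40f0d3d3bcd7c7a981b18d8c05f51e7e05f73cf98c8879f68b28f3ee3011e7d443c3cf9c52679f41d80f3e22d905d4479f329d03f61fb0387ce15232588f1c64b23f34c962c96192c922b3258545464b296a4c9669e4192ca3a73258330c64b12214c960ce2192c1fc33259b18464b3d384c9664b03990f3e1363123627a7395ccd8c1b779b1831ce3631d6586c6281acd8c37351b19d1e9363092ce6c621c18d8c5dc29b18c0a4363399066c607f08d8c6c6038d0da92227913c0d5236a01c1c4f6a1dd8b8933bb1e3a477623d38eec59d69dd848ec3bb338d6776153a8eec47b49dd857683bb2a08e77612914eec4d621dd8f6433bb113c47762c484eec776038341b107309cb66347228d068c7a7a1320f2911af3992270a3edccfa86f689f50ef503ea0c31e7d42cfb8fa87c469f503b0c3ea0ff167d41d2a8fa831149f508aa83ea3584c7d412714fa830921f50dfc33ea10fc47d41a384fa87d4035a450ef37f0ea1e61b30d81c327a78060cf4e23da0d7847a773204f4e2cb71e9c9fec3d3948147a7,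
  nat_lit 0x390c4648f21899047f1404f0e7a856e10ec5e084678921de43230d0fc5e12715bbcd966cb02e7c73d023094862755155aceaabb451d54eaa64611d54a59f3aab459a75549160eaae1271d55831f3aa9d800755435c4eaa478d1d54473c11a4c544e8511d5422f232907c1e5e404f3cb0a0398000c00605d500e408167908873c5bd13c8413c17909e75af2105db1e429fc4bc84650879093d0ef2132899e420c22bc8405a47909b5949c94e4b0872295796acbc4e2d58299a5ab607b0b56630516acb3492d599f105ab2821cb5679e316aca0a52d5a72485ab2d588b56603096acb560509980e26362ecbcefa77d02a0539273e4a724c5c44e4b48be9c94152d392e0f3272527464e4914269c92875cc1036079956662619950c101d788deccab231f9f3e02ba18d48c104e489820baad3041301660805d28c107f849820a0283041dfcc60830114c100c02182054033040dec260830401e3a6ac81b04d8204fb1ab00cfb4e48d39203698a80540052e8ae829c91bdcc51a672991f88fc078e142a25750f548d826c1035d83d4067e80e622ba15d01758f1d913906a2f3ff9ffc08f632b4054026670a80f0ad1500c2d82a03f02c54027b50a810dc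91501ee502a021f9c5403d430a80ce05150189882a06078c5406c108a80540044b0c6a4f1d1500de3a0ba53c74baad78e9dfccf1d2602de3a50143c74ff0978e9808af1d06011e3a68da14a4a520628192a65fe2ff017c64eda311c4c943589e162f1a37fc4d687969064857321db0ed8093015c8159429f79eb4f2ef2849b6a070a385018da78d8157c48b423a11d00e43343d03e61f302ffc26f408b97aa8276350c44682340335d1c3114287a247533a981cb81e803924d6522038261e5552aa81d2e3bb7acc988ef138bc6a063978d0899023413c6988e178d1b71cf1a1c0b5e346f763c6814ea78d01bd2f1a0b521e3450d3bc68a1c678d1fe8af1a31a4d9c63b2981587a1302d0a2e60620310126c0149846823404be0c9e2044339d0e1a3d899c34b26f3869c0dc70d2c634e1a56a61c34330b38687a5270d21f20e1a19c39c356246386997c870d2578ce1a3c111c3423413869c340a9612d48af23b290bdc95b203e0dc1ece339ec09b84dc0330c95f029114880a9731b4c95a7e9896ccd5d21e80f400a0633e407a0ce3192b495a318f92b58e8f2569c9a8345912b4b67011e934944ad2e43495a0e8312b4c82b25693e104ad0c8b895a759492b464e52568a1884ad3a941dfc6fb9bad952d33398de281fc1fad0f447a202fe0fad1284177e22c71e0c8cd252c8846823404849669eefe59ec09fc1767b12589206ed17e606061e85063c7026bbf8558c77f1ed96efe128a9dfc3fa43bf8fa8777f13fa6549,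
  nat_lit 0x7f500240120399c1fc0420857280891d4440aa0550386ce071084975a42f8397c8f8053079a4824b018994c181272981c9f05305134ca60d35014c169c929818c0053041350a60e2fe14c127a3298146e80a5094c0ee143819c0c0ed8217442b815c03b7ca6033979cade73179588e62731038c9e57132c93d5e41179589c647020bcac476e7959429af2b33729e563fa4bcac2ee77958334cf2b06715e5624423cac7fef23b91dc0d661ff81b862e380f5847f33a00ada27b03d801c2a3f599decef605fc8fd40eb31e0d00b06fb8840cbbf22de9906423b30d4447679d688ec176c11d84e9623b4fe24476328408ec9e8711d9944c23b0611447602d208ec73c311d96f4423b04f0447623b03c84ae715e98925cbd3292b57a673062f4ce30b5e996814bd330c257a620d42f4c65875e980f4cbd317d117a6d1f1af4c31815e9af4c0f270c64049e18c59b3031860b30631a4840c624d6818c70b6c318c519063141620c61c03c18c432d020620c60828618c0c605e4e5738bc9de4e268f8925cf27292b5e4e73063c9cb40a79398612f27106a1e4e32c3bc9c07a67938be88f2779350d28f26886e431f2223898226d636b0117464b79035e4cf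140bc99632c22385e4c6d613c98fb8e79318a1af262aeb1e4c62253c99402979301910f260b819e4c69f2bc98a6a47930be8474025bb85f45f668be8b64c17d0d5d42fa51e205f47f838be807e617d1224a2fa375ccd084c59a82d41606deb806241930cbc9e41c5993d0785462f1aa6419b0cd818c244291348aeb0589170c66eb07d84dd65f569bac97aa375932106eb2601cdd621b31bac4ee53759ad486eb128d05ba48380b75d4c705c342a8512186d066a335033c843312d3969c0dcd16b44d7c1d57965cb2e063200a209584ac017781c879a10d0804a08776864c12b48c983c279930e16d3261689864c07c2cc981535193054a93260331064c3461cc9869e31930be453260340864c3318cc9813e1193066c132619300e8c05c0801c0b8317f0170a0e282e1a47905c2c3880b8431c0170e30002e125fe05c1437a301a1410a0806ba398682a93ccc48a81ed89b2cd9605e117ec20b80c5385ba4c1988b87ad30ba8a4287663b301db42900364c23f4398381a2493078503b82cd98770fab00ee016de1dc387b83b857368770048c0ee059961dc013283b8610487717de80ee0d20e1dc366183b80692877077c40ee0a3841dc08f843b81dc027a80eb22419b81e27413a0176c2dd315f05ba57478b75a4e216ea4bb82dd60c9c5baa7088b74e03c16ea0ba42dd11934926216e9c7e6f2316e85e462157bc8c9ecc7919d21af2313bade464aa53c8c912979192290f233011de46f2370a4de46322a2ed06f23,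
  nat_lit 0xbe088fe4be105f052d4203888626873438114022102ff4adf316e06f281ff0ff815865e2a05c8d9532be15f00dd63b45066c4cca1ddcd9d33bb9dea277737fb8eee24b61ddcce0b3bb924d477726a24eee7a341ddceb273bb9674c7773f014eee38319ddc93423bb95f027773bb81c184b8899301a920b902ce407f03f81b8e0b3035e805321071541e2960f33c04a525792e0f3b00b9014283832c6487063a570e0ca64d1c18e9983831f2ac70659f50e0cfa091c198e9038325c18706bb428e0c91a41c1926863837060870673708e0c706074f9aede4b725b81dd020081048381210085c8220110081e180d6985c9e1810b90a3e022a11501e6c01c585c882660b90a88a1726c4b42e440c485c8514e0b9191d8172114282e408f385c85d280b90254817214b0c2e457ea0dccafd02870c6a65bc239cc7784b299424afd32d119928c0e2c2d06ea06ca034ca9b426c2b3224d83b4409b0681793609b8e26c28c5a4d834e309b056f59360952a26c2fe924d86611c9b048a31360b92526c15f884d826b8c9b008511360cf4126c13600b7826bd033a19d038e09ae05549c1e44652328182229c8834ccf512c3949224710324981c04e90de86f40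4241c5a22f517a813e64b291abcde0f3f3801de06d239bc2c457e7b334ad30607059a05722933cdf46fa02daceb103eb95f98a152bf1c14057e50738afcd14095f9609c2bf2193ac0e095f85eb4374977a257e239c46ce529495f871052bf2a49c57e5bc10afc4b2115f849546870e224d0e0c741a1c70473438292d68715b58d0e1c7ada1c69453438c6c968708150d0e1031da1c22033438c5256871d008d0e5e989a1c3540b439a1c068f948e82fa1f0cccb665b03c9560d10358d52230218101c247f2a12e46d9225c9485e4b9314389727dc692e4dbec25c960544b92b2a4972503412e4f78725c9f1cc4b93fb149727fd212e4cdc225c9e7824b925c81a9861180a5052805b318440b5279e88cb6f3d08be8078e79e8a098f3d141ade7ae7d4bcf4a22879e8628ef3d14099e7a18c2bcf4e34479e97762f343a14c6ac356022b4e840477999a65dd3b350fae7d70364859f41b40b52449324981b7043889dc8ccd11da98ea48ec3c23cb226667998c33af16e8b740aa579a04ccc490819d5e6906383cd165f779a18752f3468301e689666bcd1877279a28186f343b2d1e68800f3cd085d579a08b2265813cd0753405285ce80ab04844a605a090db0560f04c02600ca615801d2c31c80268a5d00bb97168536230c8a6c6d8894d8d92f29b38c5c5361fc34a6c2ba614d8a02b29b12f94536048a4a6c4c0414d8990729b15b8c53620890a6c783194d8bac229b1cbc253629b01cdc530105dc19d301fb9ba65c5,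
  nat_lit 0x3d4bcd5e6af02faccdf028781202f5028b4dea04e879810f9cb7a808f0cf5011e95ea03126bd40a1e97a80331cf5030331ea015853d40c4077a805f10f5006b11ea066f1bd4082331dc92ea67833c181cee703a13b4d0b220f10780e700ae44f0a40291d69e56f79e8571e11c2f340eec70380f61e9a2381bd3660c70d0d074a78489a6de9b12a6bd35e2c434005e9ab2b73d342c4d7a691618f4d24229e9a31f4bd3417a87a6859ccf4d03615e9a2e623d342df13ad1e8287a1164401067a0909d8f40423e914c67a03d02cfd27a033c8cf40d1ac9e8122f93d038fe47a051c14f40759b1e8104d81a3c877246880ee465af1dc81f9c3b90beb077209f58ee4140a1dc906923b9306207721ce38ee40b061dc860ca3b971e907727a018ee48a621dc9d6823b91dc81beadf511e804b1223e9276047d315b88fa48f691f4bc2a23e8ba1247d2bf208fa1c9391f41b4523e92e8647d71e888fa5f0091f48fa064e82d265f00adbcbe0296717c05c6d2f8326585f03712cbe023f517c048092f81ec4e5f00f598be00c7217c059032f80e9445f064e84be05f0033b4c7142c296140e6925450fba10b89c20e10079a91964698196bdbea2de79a88c6b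03ad1c1a02fa0714056c2b602c601c4070a027d6df502c19bea1832b7d483496fa81f9cdf50beb1bea0a0537d439c76fa98310df571e91beadf51914ceb543ea37d623473ad05bea75a13cf4cb623ad0f7dc75a0ae34eb42a761d6848ea3ad11d5275a267a0eb42a939d6827263ad1e84a75a0df90eb44368bd20ab7411008800f33194ccc5862c034245b536e7946263810d6d0d6c401a0ff07f8062190040d6b16cd0dd4054a0e80d3912a91f8e27061a0c476039588d240af21da94ee45310a148e2e717026f42840775b5c5eeaa3a9c068e34703918331021f90fc0c37095bca8269181458a2c053c13de02ac7a409d54f4819549e9110623d2180fc7a41c254f4851a59e90d71ebd2160f47a418700f4842cc9e90e138bd2124227a4141245180bd200f710be14aa647f079c8b200e6985ec837321309b687c43e20114e22e98308e9141bd106287201a7d069a34d023a4e9f12de1d6286b81204cd7017081ae0fc6f35c03a5c6b83e334d706fd61ae0b7ab35c1a1546b834324d705cb41ae0efa735c1ce8c6b839b14d7075121ae0c80335c19f046b820c04d706b8039bce6112c088ba244e748482f86b9883a41d20796906a419c11ac8b725b90356846a04d70271e47f0633c4de26f0288018c07970bd60f3479a01e8263a7a85445cf35b0aa2017c1823cc8064002208f21026c9541617c046242f817c088b845901ef85f205340be188b217c282d42f8d0d285f1c64c0be30a8217c5198c2f871ca85f0801d,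
  nat_lit 0x7ab4c7d6e26a09e09f341740ab2203828ac4eb00608a79d3ce07829326651512dbca2a72071455698d28a969585153012ca2a4bc51454b36928a89dce51564618a2a4c029455c4c428abd58451527c84a2a51503b04374f12709380e563c4889f2418995a883544f38fe68ec920dc5eac6338831418a078b1ae245172793cf6c2d118ab00c341fc97e643f926bc47f270580fe4d26e1fc8545a3f93c3307f250458fe48fca1fc9f8d23f9143207f2da130fe499651fc93e083f93c48c7f263308fe47f2071b93e443f927c9c2724f968dcc9f2b37913e4c2a927cb8c3a4f94ad4c9f2404513e4a2ac760d0992ec1093e5d83012dbd584ec17ab4464e0629a79c3c4e4f38cc5a9e732fb13ce5675a79ccbca4f3a56129e701c213ce0833a79cca864f3baa8a9e72b5113ce9e71279deac14f3a79c0ea775385eace9473d58a3cd7ab14758f5628da9eac51a4bd58a3287ab0b24ef5628c19eac5172bd58a2c47ab16aa82012d5409a45aa10e7ca36b2d53b8045aa375b8b54c0f696a814cc2d50a7125aa39ca0b5438c396a8ea262d50f30a5aa39d10b544e279464d3af2e48c16875928344a3261c88c99e7b3209933e61e4240443c807e80790c74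f0f201a1a1e42bf303c806a587900eaa0f212e121e42c49c3c87d0307900e650f21a7081e40128c3c819c1079006a10f207900a1514a4c20210102d54528042f8d726ee0385d04d81b6983841c205a28b8e24e33a3c09c60e37938c5bcd271972984e33882c9c63845138c26e9271821904e3315989c67432938c526427183c064e32e7889c61820938c9c604f28f2284cd30944728e31a228cff53451883208a33c6391465196a28c9a2c4519da568a338629146b064a28ca3c84518c00c8a308e151460472228cb72345186e048a3070851468a3024a8305102d816c0f440c1016904ae8972c5f520dc80d6429814c014320188850428206c10d9de3051683ca0e243797d88eef2db96dc0dc41ae3c7ae5b981870c3804d605ca079c21940a4e52702f6c864075a9464430528c8c7286e5a17a8a0f14709466251b28cb08ba519387bca32a3519465a92a28cac99251931364a32e173146524fb28c91656519292ac6b8128c99be855029044e86f5090c784613128176642500e7444a07f580940c8ef128191dc250359344a028a60940ceeb12800e14250205244a065e40940eec712804e0c250017944a0362209408b43128065c4250144844a025002a08e8543f31f9808ac3b24ca5e52f03034ec804eb8d1680483f4d0b6cae4a124c2cf40c797ce20b53b348286143036401df134a3d4221197554809022688a2451204d53586463a305c427e13f02bd87f8f19e0cf00d6a1fe0115e03a78b1492af3333d41ee90,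
  nat_lit 0x197814784be81019d1ed2030510e40617f40ffa4061974c2bf40f29cd5e1e5012b83ca1b7687942d0c0f280a161e52ca283ca0a448794cae80f2996ce1e5042183ca07628794d3a40f2974c61e5203083ca120087943ca05cd057e8b9a012b97341b76ae682d0c5cd00a16b9a2ca297340a44ae68cae85cd196ceb9a042197340762ae68d3a45cd174c6b9a09005734b9a02eec57cf51e10184b9a20330b9040652d4c80cb3919018c063203207284067064880c40ca9018a4e251e0480cf5c9919deb8f2f29ed26608115ccb964f5a10e445b431f981e2f5c0bec4c4c15588be458d21bd8dec098e16301e403d991334da6f32a99540eac38fbc83a155797f011902889aa6250c286018c4f5c10230a1827ae10e42f5c306b9eb83fa63d7055887ae0e74ef5c36b99eb8e0123d70b7131960f8a21fe0ff01dcc48e58f6891c62de1238ac4b24724e3448e7110c91cc4ab1239472f2471cd8048e4080091c473e9238432c213445a266ba0daccd70770145201dd6974038a21999934c9a06e714022d0a2903c11a0d5a1608bf7027c83560614335881aa66b69d80cd6c38319ad6512335a8e5466b489b0cd6816519ace2da335989e266b29924cd6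416e9921c66b25334a2840e61450dd6b28a0be925143f720a2860839450a28a74a0fae808d193c811a41b882344a50046ba51c08d28f3411a51d60234a38b046946d408d28d2411a5194023459270469460c08d28b9411a51620234a2a30469450408d0688411a08d03d588354068818a60d1030441a211e803441e0f0688789c0d1198b41a265f60344aceb068997940d14ac241a20384034410670689950c0d11a1941a256a203441a22068bd5820d1068813ce5147146ca2857919450861800dd02d6199a19accd6065e057a2789179c4a287c6914504db328a3d58651428a88a2866b09450a280454047a09e712941eac8a813d59a1423358fb2066b335851500e1997f02e33052812223431b7c0686d7178d0cdd0e1a19e65a34336bb06866d358d0c4a6a1a18335234312aa06864cc38d0c7f461a1a79ca3431081068655218d0de9021a1945823431a181d54e26988f45a330dc867282aa30cd06ae40ca0db0a2a245414f625be1c3c42e62d1888c4ef5215538c682733fd4c4e6031909cc41901399e31c27328cb44e64d1609cced2b1399c314273583244e651e409cc60061398470a273023904e65b9189cc370213983842273139811463fe914c0a2d231b0ab2433d186bc0a6053033c061a06929945e1772c63ccda2d1798f4cc501550e1c448e0ad409d24e903adc2b4048a1fbe049c168ac3ce2aa08b44ed531688fb0c2d1307945a261d68b4431e91688dcdc2d101db05a218e50b44a8681689fbc62d1,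
  nat_lit 0x744b89ec027a07e43f2076896a683030d7c86fe37f036ccf4912711f768750139ccea072b81d40a6ce3a815b1a7503aeb0ea019559d40ed8a3a80b1527501c620ea073939d40b4663a80fa4a75039190ea073219d40f1a23a807e427503a801c6247aa04d8b7b209b0ca1c136084b426c14e604d8ddeb09b2895413677f2426cf2b404d8622709b0f04c1366239426c744204d8ae2309b3a2441363aa8426c13603da4f48f2df13b8612e00c4c2861430360c927337c120626f832c40df013779be04aae37c0c39a6f820d30df030f59be04b2a37c05f526f837420df03d839be05b0637c108486f83ed8cdf01fe11be0286137c1be00ae427744c0e79079d549dcf19a93b9854c2771d4224ee30d309dca29093b9a5792772c5ba4ee417b89dce1a493b924e827710a244ee2845cf48127713d667a4116b8f485d369e90ba8c3d21de567a437e28f4846149e90e6483d21c70e7a42d318f485a729e9046843d21d5467a439e08f487a403a14342f374bda445717b4cc8f46f291adccbf035b9159e6b73e338d6e0e969adc388c35b871946b7091a4d6e1dc41adcf26735b9f5cc6b713a94d6e57121adcb94335b9d1046b72d184d6e6b702fbcb47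116dbda625bd7b48dd1250479cf0eaa17b48ca1cf69084b5ed214e63da544aa7b4bbf92f69795a1ed23113bda478267b4b11caf693a211ed2728a1a2c9f7121d93edebb463c40e627288094ded142d2029a0d5b7b408e5055a98b745ba051615a66d477b44c972512999b0f8323361402266c09dc0cd8381719b0db8d3362c19866c33eaccd84d1499b078483361e9ce66c1e218cd8419299b0926433619ac666c06a88cd8219099b0cd806851e6686d510cc826213103730553333c036206781e53ccf0e5e719e0c24d33c0c2586783e6accf0298519e0956933c1ecd067827d1ccf04db319e09f6533c0760867863c0ccf07c9119e0f32133c19e00e617b4444ea55591c1544b27919dee070538281d625948055144ab7b41c142f6815389ed0cf573da0a98d7b415e58f6833b25ed050c43da0a9a77b41578cf6809d95ed028723da065f334e901a410c2034c41a32f91389d9310ac8a5e6318282ccfac635983140eb40ac8fd286c83b2d0de06f00389cdb713f2902a27d931ac4daa5ab905659eb21bc0561e4911e8bcedc6357b58403500ac8b9de27c13e0184444580dcc2b2131a8566001b0acad79015930b582b253be8565a3410aca41cc159702742b2c0a1856546520ac9ce6c159402882b2233704e264062c850ffa4b91056448321978cbc0ec02e9c88fe08b79018d5f31978af9e32f075b865ec4b68cbc14ec1978ce5632f37ba865e7ee48cbc5f4819789ace32f0a31865e20d20cbc65e21979018232f,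
  nat_lit 0x321c0d0c348a0fecbcd11fd9d4a03fb2cd3c7f62d870fece04d1fd8ab183fb3db2c7f625150fec26c91fd8fe903fb3ea1c7f625530fec76441fd818863fb08d087f64fe08fec7f6077f066267af3d7818741fda16ccb6607888ba284ad14050a6a3d091d60eb0078c810e231f16648b66263913f848f23919975e6b52c04c880ae99110023f022001a9c440035b488057f61100110a2201191244011a2088055e39100a9a62201f58a4403991088016519100e46222015dc244022001ee0421816cc5df01d90ec8099839b40af21de8117cdb023218778664334d50e4872403794be74321945e464331848e227110306544b03218eca0e7d10830c863d53990c2daa321acf5a64370098c866ba5990c84683219079c64356624c8670d2990cdae4321bdc285803d2402fa104a0f0478204d10e16665f32f8124a717a2cd966c0776017a43e51f281dc6078a12605b5324c1a3224983a4c09305e179260b48e24c1549a498150b093066a59260124a24c34b924981d0a093063139260196624c1a58a4980c5909307e419260c2c224c1c5c249824c01b9e6fb90bec957015a0f6de60230101bfc7e482cd898ef0b2bdc041650b28171662d99aacd56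07aa9ebe662a28e505fe2ff03d68c71318f8c7c0e6a257c8c4462202a64a6b134c3dc22ae904ec8aee286914b8e4722ba0f76028114081dc2f707847c31302bb997a0696062c0c64f7012e2caee17b81c8c4f7003539ee006b6bdc0afec7b811912f7011a21ee055e3bdc0a9a67b81f58af7039911ee076b908b07ed430082e24601595c4c026c0818045eef30084a5c6012c2b4c02b6f61804e14b3009a31460126b24c02152418042a6730094acc60123d90c0222719804ed623009804260130081edcf6e882e026f328d0ba6661410a4cf70461a0f2c6dd31d20e900cad10d50fa2548a11a08d0071f95200df72da44eb614c883c81e406b685300df43b5c4a3464b90f2cd4321520a900cd61b748e5472a032a8937213509a80b1f24d81ca87ed8889c44e078b9575e75b155bc07003803cfc428f1753db9e6c03b5bc8c022b80f2ccf502f5bdba02f73b598a843cb09dacf4f33b59a4de76b38a3c8b845c031c828ab3b59ca8a76b0f7b4ed64ff49daca7ee3b58c79876b324a8ed627339dad94a83b58cd4876b7b70ced63f6a3db8df9431718b80e8a3e1488d25628139044f028dbdb98b6f7b71c2a6f6e51a31edcd2c29c296f6e7b7202a4f6e0bdb965717b713592f6e29599edc12973db88f647b71936671c2a5bce3820d993b819cf2771c7064ee2b8d0df05708850c26d405c17ee47553aa81ebce8931de4ae22744999dae89149b1d125a65ba2412ca74486892e893b0a1d126d53ba24b52574497288e89,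
  nat_lit 0x32a81e5e775a053429a075f056a201a00d01d70a0b80bf4d58f37a1bd009f7238cc5d619d91794bca055315a6647212a448e46a8791c8414e239083184722dfac8e458c511c8e3c92391cb904720391c8e474f311c843452391a6c847217e8c8e42c4111c829e123911c80d4715d4079869a8122891406f1886201913423c29c14f1053829c07a5053c601a0a7c454e14f79a4029e27a5053d802e0a79c27014f5093829ed3bb853d62850a798eec14f72ed029e93b3853c85b40a79474ad470853def3123a3de5e4f611ccc56a23ba033413d105d075643ab1d5818ca1d503cc5cbaf0c83de44f7972e85ef207873de463ed7bc8b358f7935a29ef21624bde471687bc8b44ef790b299ef25592bde480447bc81de64911304ca3a51d022f013310a881dde00824acc3146ad9041820c05951ab409c3180ccdaa6d5035d47bd10f687b408f21ef0178217c99dcc45d2306138240853b98c9c072f89c00a6d4380176e85d303550240195a1e20cdd43811966464e79ec0c9c23b71938a14d3271ae5664e33728c9c3fa4993826c832705dce64e06698c9c0ce2993848843271cc4664e38104c9c64e03cac2c3203b81da21e50f281e747fd90fdc0bb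01ef0f78099102e811e27817921c90e07150192041536ac01e849691c0061f03801c00270038001bd045d99c0061f06f41c002de86f401ec812078ee9ec813801911670039018e0063529c00906d3801381270064638e0071c61c00402a3801750e7002b820e0015921c00daa33801d1661a6055502d0168034ecd0330e487240b7c06e484be25f0207c061113489a4082c147c499e4cf03ce0790f12f8991ed5c6ae01ece70019ff45e4f28f14780ab70c54038818a19dcc45b332408b28773242c42fa17d02f9c61cc3b98f5ce77316428ee641a69dccc1e63b985ed677336ca0ee627c71dcc7d853b990888773312d032a1e5a170490f477995ba211611248240077903000c6f090121de626104c0adc56e036acee6130609ae639207cccdce6e7024141f207b183b68063031811c0303a16f893b11ba0dd00ca00d7c46ae357036d008321898c4c088a0c748c1e00ba0250a9f304a0df640940434412803370250a9ad04a28458094170ac12803750250540904a075d00942a61c12806b30250a96504a09f880940e90c12831310250128104a0250086e31c4021810c039a05db026501de048f03b8890e374101dc32a103b8a61c077247340ee48d601ddcbca03b92292077244a00ee488381dd7f4603b8cbca0771d3100ee4a7592207711253929e867f253889f66601129c53ee25399e5a4a71d3b094e7ac5129cb36825381ecc4a70489494e3e42129c4cd30ef1c62213309981e5464391d88c87433b983a02d8,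
  nat_lit 0x1b518ff87fc11ff18ac13fe1ff00f8c7c60cff8f8c61221f187246be31453b7c634a5cf8c58e9df1861b53e3105f07c625d92c560be30e8d31081cee438418dc8dfc56ba13689b4074d120260742415089c1ec9049c24e07a30c6e20d014d4886e4370338448af03401a00e411c23c19831b787ac2a6f1411d2a07f73fb8160a23da05004f130a00e8a41403b2c4280092805005ace0a01a5da14063c3028060e58500976a0a01a7d214072ea02803eb3850013a60a02804a14028a9028061818500a2c20a00ab021400a001c4cea598eb480113dc9ee40f743e6bc4202100398835743dd9c4247bb277c4f763b281eec920f3dd8b7dc7bb1d334f7653261eecf64b3dd956547bb79ea4f7625e39eecfce63dd9ad0a7bb24710f767f819eeca8e23dd9fd027bb3dd81cfab12a1eace7123d58bd227ab66140f5657e79eac658d3d59e5987ab3142cf5654351ead88293d5863907ab2929cf5635a31eacf9853d591a487ab2318cf563b111eace6813d59eac0ccd05e5070e3e298a4c52607738c6e87d52114481804588cb0737326d1bce04da2253c9b470571368898d26d12d984da35e2c9b47f2513687aa926d021504da5661c9b451731368a30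526d134084da1410c9b41ec11368636126d13680e792e4d0fe8b5399fd095313fa1cb207f412d3cfe832c71fd0e48c3fa1f7167f41ca24fe824939fd06fe63fa1ac487f42ff0cfe877a11fd1cfa13fa1fd00e5936548e6873403754d9406690821e5fe2ff010c45e8a0810ce731020fba4204166c440834980810fc6e10211a5820413b2c40877850810d26910207d0e204014984082e328810f2c41020854620439a0840808f0881040806671bce0e7973c81ef631b81fd8818218d8840631b73c846364b470c6c772d18d810d831b0222c63621c50c6cee6918dabe5031b03a1c63616328c6de90418d87ee223225e4ce4672303b14fc733331b52852329181aa667ca1e10e3f43c6871e87b13d881d9c329a0110088068419f221a113dc46a43520225cda712e617300eae3698191a28b914eca76049a3cf6423225e48f5e7af03b10ab7362097762c4117ac1882c707b104180d6209dc98c412fbad8820c35310599a962080790c4165a1d8823a933104baa462096446c4132c098826660b105882079a1f75e2e62b2bcc6250d79bdc7d301191c4a010f07a400482da8140c2a922918ab6052311904a4652303bb5ddb10aa08c82eed1192c058232323b0464523c88c9a1bd11924988232611f4464a1af08c901e4119085cc1a1108c83eb039c9ce40efa0a750ebe6e98853c799124791ca636715fd05822c103de06a7332a8d1286ac35601704344027e82ed43cd9e6c0ddd08cc45886b5898089bd236b89be4655,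
  nat_lit 0x7648ce4a18811c94cd213929c940eb60074018a44d79e1cdf4f5a999a467872bdd05ac2d603a78d67439b9cdc08dc35981d482f288e0c706055c0c36409c04e019e24a6788c8f0e329b9e1e24293c3b0e3e787394e4f0ed3fa1e1d64b93c398d3678741b18f0ee3d59e1c874f3c3947a24a609e1c12d42981cca2f950064414af95a1971f2a204b15644f952c5b9f2a5a96be54b56b7ca8f9d4f9560725f2a65c43e547f277cab124cf9533395f2a53023e5464b41fc10bde25912c81d5e3258140035f31470a380db6181c851c325901509ed22599aaa24b32b6bc96660c712cc310d259833584b33292c966bc8512ccdae925981f904b32681c9660d4292cc19242599b9864b30f408966676092cc966060085fe669e08fcce62395a0c90ef54102998a86b402e504887de89ac47011169986a432414ac8cec67602850c8523b51da80ace1cbc8ff41dc91c04a7ef1dd9bd6011f08f814a63ff80a3851c06b2888e0324192010e4679803600a101c0868e02ad1568153e1a303bb851c31928770432511dcc75e23aa0c9413d222c01120325624d019200e983249b120648ece00c90d3b81921fc683242d8c064880560c93222819264348324266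80649368e0c921e181921e9283258024064990860c9192081920d808324192056607fd832508a9c64a44c50c94fe4d1929bf8c3250572c64a44e40c946b2e19282c1232523a1464a6a820c94f3941218eb282e519ecc5ca03c90b94b99017288c5e2e5380385ca1a468b943b4c172acd962e5049a85ca4a848b9413281729fa4e2e528a985ca63e28b9413a41728ad862e523b885ca24308b945ca06460921e4e215b4c35c1ae0385c56c07bf092260c81be50ce2671037086f8076f1332245326ec4e80740035f0491206c90520f3d035c88883e889110e94f2221009c44427db488866c61110d12b22219cd4444139a48883d6411109fe72221e0cc4443091488807821110d9032221c20444432d8488844402c1841503f296be62481c63c49041370920d8cd12404e182481b62c4904f95092080c91241fd102480171c49028a309205f431241d0042481240449024803e41f2011243e42038c7c82c6d8f9030a29f20d3633e4124067c838826f90604e1f20a27cbe40e02e7c820fe8f9010be8e8027c806be847d23e81b6a68798b48b012169152e22d2388405a403b68b48c3ac1690c9962d2675285a417e48b4889481691d54e2d216c145a450d20b48f7c31691bb842d20ba045a42d2030008a7462b100e85f518cc880640303558be1218185d2453429a01b160e381a88d44053a12d607f53fa8179a27f831598ac07849ff2057014e50ff852e69ff0910c3fe0e9d67fc29da8ff8ec949ff0be083fe1234e7fc,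
  nat_lit 0x17f9df3e55343e7c6fe47cf95a06f9f1194c88c52391a00d0007ce148c0f891a5c092249103440a9d004a153987a02f84c4e4402989a442d410611d2449427b409280787125063ed24a0b3584940fb2c9286b4512502c4924a0e2d04941689c92816531250ab2524a1008849424a08928e5d0925092807bc8dda411d08e81200e5d8883019d12d511f644bd208c8e8a2648086043007b31971e6e23403c5f02f803e20f430235194e067b33d81c3a6530347421d03871c0c454e063d088c54d9111858902232cadc4460b13488c4586111898cb2231211444618fa488c0bd411182ce622301b0a4461731088c70319118d00122311180f4d1f74c5cc2e603c0c52f42a706f6454e112c821e4461953817f02a713d5454e37cb4a9c4f63153845ab2a71a71054e3bcb8a9c31a49538e8a52a708c8854e30344bd249da1c6ce3606508f9269fc1c5ccad820799500c7342f483b663ea142c87d450788fa8e8701f50e61c3ea3e0347d435c60fa86fab1f517a143ea4d2247d43d740fa8db271f50e78c3ea030947d44f020fa8db431f51f1c43ea2f5047d43ea023849f745a8a30a82850304c7e23f103c1c71512f51f1e472839401a9c40d889d87e3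11f5881e24120e1d0b1eef39163c14502c79c21e58f12eb8b1e1116963c83ac2c7844d658f16128b1e12b4963cfa282c79084e58f3fd18b1e50e2963c7b042c79dc8658f0f188b1e71b0963cb1e074913fe45ce39148dfa00d782d016804073be1e6b1057bcbb85dc026e043af2fb8cc605e9153c04b032079638b1c069b919e00702f48440e5e980734bd2b18297a4c6d12f495d4c5e949e5cbd2e1a017a587542f4a860c5e9386f4bd2205a17a845e91fcd1bae1599375c97706eb95c9add71c531bae6035b75c47ca6eb9ff12dd712021bae20e3b75cbe266eb9ff8add736911bae1881b75ce4a26eb83142dd76eb81d92f97816408254265828e2f9738cc45a01559969ca1932c9128a87b93dc811a241991e948eb03d28d79e7a51a338f4a5f869e9486cc3d2865967a521e24f4a4fa41e94f6673d2990cc7a558914f4af5c21e94a1023d2a82c27a53d281c0272d8ba949932505a82c0f7f04648a2433479ddceee077c9cea07193d840c08f971104845132379d22660f7cbcd8bc511a16983df431514de85c539f44e2473a895d093513e008a2441d373c4e9e74f03d89f2ef19e95b6050c47a408724cd81894a1817cb9d3c4f975e239f2e1e96be5cc9ac7cb897d6f9738f29f2e58c4be5ca8487cbb294cf970fe15f2e66923e5ce9f333486ce84a6253016ec74891c94f0f25b78ee1e6692aa50e4a6fb99c94a4f13929f25a72536f30e4a11859c94b20a3929141272509da0e4a45f39c94cc263929430a725,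
  nat_lit 0x60100af9579ba0b4301648e2620b9272d1e340958b11c9aef04b02580e3634d3c74c3a6037909e2d2d08d9585a12b82cb4213351684c8882d09370e5a10254c5462a3023adf2b33be85de8cf504d44a0a2269108084004d4956645e92d0c8efa5f078a8c13500cd968523682d098ec05a128294b42e66116848d5c24a4053a0b98046c003300f007808072acccf92207a02e41b530078362200f0144001e0d77803c1ace0078355a00f06a3001e0d35803c1a290078341000f0679c01e0ce3003c19a50078330800f0658c01e0ca1003c01c1007803c095838fcc9aaa2591354275126a8855e4d5149b89aa748693549ecc26a89dd64d5255289aa48949354914826a9808e4d53d0189aa51429355768326a915044d516e849aa4d503c8ca6142d28002200e0070100c69188b745ba053d829625a50014805602b02020004043c9079e0b82103c4405fb78c7c63e07ae92f206de36f01d84392808e854632d082e440b805408b4251b995e4f7342af8eb685630854cac672d8958c6fef2b19715c56333e34ac67396158ca56b2b18a41456333fa4ac60a64158ceba72b19c28c56335f94ac673b2158ccd032b1835045633dc84ac656303a9417313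02963a864631a4cc8c1ba819186e0f3230a01c6463c134c8c45161918eecb3230ff546463eb24c8c46241918cee73230a14c64623214c8c7af2191863e332312b446462bc84c8c6460338c172f2fc16842f952ac8417200e102e47d2e05c9811a0b9301b017238a582e494e905c945500b91bc1c172099302e4a6c505cb97480b97cfc803a208995a0ad00432073e464f327819d002ca28f947cf3ac8616611539eccdd86d089bb04c503761e21e6ec32cb8dd85f169bb0d2cc37603ed66ec07e28dd87de49bb023c737615c8c6ec15094dd864f19bb0f1e2376054826ec3760145ac70a15c0e2912b895c40c740b1499d405b885482a405a48f4e064f3278169af9f79d888a7422581b2244b13fc089656f7912c752e22593c9844b0df2c8966695112cd369225902d044b2301c89671e2112c94032258c64444b3fe0489644b03159f3f32348826678c3c601b5e3b19834c1a607489ce6212e069c4c7a3bc91ff00b4f09b1471e73539a81eae51c02e64c6503aa8fde07321bac06a455e99d1014922cf95a206ba7cfacbe66fc8a8f89ece51f199daa3e149b147c5a65a8f812ca51f06892a3e3b0a147c6d53a8f8ef2651f16a4aa3e2e51147c1361a8f8ae2251f28f80e89098cdf3ea3e0be7c3d531ac1e62435810a346b05f060d60b36b1ac0d194358301246b048840d6091271ac0750c3583fc146b063d20d608c831ac16a4435814f046b035803264d6267cf85b4af9f23935f3e2fb73e7c2a8c7cf9c354f9f,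
  nat_lit 0x2c44c84e3549109c71302138ef5c4270a73484e1096109ca42b2138b754427299a484e4044109c0cc721392d0c42719a9484e72a2109c5f83213874444271250484e4270384450921d99941e22f2193c65432a02f7086406d109a5e21b10d81f5031c793d4630f37e94ba87802f24cf004fe79e00430e3c0190da78039430f003b759e00434a3c007f127801c4a0f005db39e00bf063c01630a78038090f0015a19e00de823c008bc27803c00167a77578848424075d9d6a02b536fc81ec59e883d8667007b0185e0f636f381ec5f7683d8180b07b030540f6793241ec411403d8d6a707b15d0c0f60a0141ec4c0203d8db8307b0eb040f627d041ec0ea893e84b8327d03d80a0127d0151425c108bd514107b0972648e2a3ccfde7ef03a00b191050097227d312e0d514008781e04b8c1658970e40212e29df025c694004b8b1638970c54012e2081a25c713fc4b8929f897082d112e14fba3180897185b03319ae6020c10601e585b4a18683bb1616886a23f83944c53e660984b03a533e41f200e951f2505c62b091588ac4065393fe214627dc858059d808687c5012489240ee41c5c0ea46172b0b585a22da07de850628301c44359a1c14da5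17b43b8243640ce3c94ec2d799909a1033030b4ea0a616a801ec2d693c985ab330b0b4c118616b8cc4c2d499781dd233030b42660330011ac8d60b0b4814861680688c2d7d38985afa79975803540ae053627037d3c42e465f78e7df4ef03614ea66a135081cd853a0336078131c319ea821a13cd0dc60f791b8c88113719c8606e325fbcdc663171b8c3f0d371961586e324b2cdc630051b8c8e6937191d106e32d21cdc670c31b8c89c53719d4886e33b18cdc67f111b8c98e13719b8c0ae97d3d03ae4d8896d098f117d8bec0b8d2d544664342904dc26e071d97d2445a038bc0e0070023e832f02bf95fc0ad22d53ca5648481991f4f03e896d04fa72d505f4e3b873e9ce54d7d39d118fa73b029f4e4fa4be9c87887d392acefa709999f4e1ef2be9c29c47d3968626312d0cce78787907e03d300fc1725c1f8574b43f0601607e0f9eb0fc136541f82c1243f0239407e014a70fc1a8cc1f826e143f0407207e15f230fc06cc21f80fc016de2cba02dc151205b927a20b72fd4016e3bb782dc3f8e05b869da0b72fcb016e1e1582dd8bca05b886120b77a42016e10a382dc4f0605baf10a0b757c9016e5f8182dc80e205b82dc20b705b816645a1a0e8966510541df6855832e4cab073289560dd102ac162dc5582d4b4ab015d61560b56b2ac0f9d455860724ab065c415607f272ac3124c55833394ab05302156012c32ac156445582d084ab055803e54367201000800b740d9810381057869c34e07408002000c,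
  nat_lit 0xd301b581eea14f8b03329f0a0e453e0a944a7c7ab794f8b42e29f1a59a53e2f8b0a7c099594f9c7aa29f1081253e59b20a7c4d8394f8714629f1548a53e05010a7c53d194f8124229f1cf4253e29f01984180819f0f4a20c000e1c1801663430022860600f36b0c0191d418000ea43001e2406005a460c01be0a180046103001803a30863f3357831666360c44c03a286a1c70f09411b847a423757cc046e7ba708dca08d11b8e3182370a8ac46e491508dcde8911b9d7502370531c46e155308dca10511b9c9482373690c46e1fc108dc310111b88dc0fba133c831018803e88a13129a94d40f611fcd0c5e25a998bc2b3231792ee062f1f9bcc5e572698bc714c317980d662f11f28c5e7fc498bc48083178838e62f2f898c5e7fe298bcda443178620662f39288c5e0c5098bcc5e06eb9d51e6d231840af857c03060cd2f166074e01880c40189062c80d646b207a91c9604280c004e38fba11b48bf7428414200f607dd4cf08f5ca1875baf412d10e6246c062c4c68fba88478a1030c007f240b87dd3d5f20c08126831017dd07f04fba3dd39f745046bee8718c7dd05456fba37a25f7475d43ee814c77dd0554cfba28415f7472523ee8f314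0b785bc0c9b092cc1722f4a1ee8ec142cb917e80ba153d0f323a689bd88bd1066b1e226d20d5c8f745bf91fc8fe406a48a1e455933c48ad20257879c3e4f125892c0cf61c4bcab02688079c3ce07169fa6059736f404727ba0b1e0f7541ac9eea07463dd083ce6f611ee8fb0d3dd130187ba38924f742ba41ee8bc863dd1694a7ba1ae4cf1444a91e286c913c519ae078a33cbcf147a171e287aed3c50f61878a1eeacf1452951e2839c93c51f01078a20d1cf1444731e287be53c51074878a2d50cf1439f11e28a0c13c51e280ee0247ccbc2503a1ea00c741cc1cea8161377ccf847c203db4cf343988dd223980f7c4f10684918b8c5c07a59242270139fc46c45069092cebf209d9b2a05ee2f701ba8404793a0e7ef20c1e1607a820dc02c23c980b7ce19036a9ea0273f3d4404027a8588c0f5053311ea1a5e93d424c727a87185cf50c0e49ea146513d41c4647a841624f5023c40e6047a82134df526d27bea45f500349815afa974831f522c55bea4114a7d486552fa9358a1f520eb3bea4ae935e998aa418c7d498aa6fa929fe5f52e135bea482487d48da1cbd31bea4c6ab0ab0558a6440ab34e3c1564be7c2ace3bf8559801a0ab283d2156388e42ac805285584d88589082ac22fa15080f9312e162e00a03c0443cc25c900bc05d3127092a667433a01f0c24a02e985f934ab0c62624f22e507f4211a0bc45e2058a08440f4922250ba87c388eb075805b180aa221c32dc4ef031888168009202481240826,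
  nat_lit 0x2c438fc420469f88ff0c3f11e5147e22d91cfc420b31f88be053f13f12827727cc0a30fc480c8455d417609ae2fc426348f667b303d3c721332b19580a67020d061630b02230bed410a97da276129448f983ec78ab854b03d98b56003b7e20855c62299ecc2a940f31bce25422a101ef8fc4889780852185947242ae15701eb0fc479a2461617e20a944fc42a1b9f885815bf10f0ea7e212412fc41b9a1f883973bf10c4867e205ac8fc42e54c17416d90334aed23658322600e3b5cc804602982e08fd32589ffe65043e7d0aec47ba12503d1304d8832409b0c8401365797026c692d04db3d5809b1ddac1363bc5026c7c8904d8501009b2bb9c13600c3026c822504d82e4809b2bb0c1360ba1026c928104d826c0e5d15d50e424a999d70da523ae0f12275c398bceb850c71d70e2ad3ae0501875c09d28eb845e49d719ea83ae08bce75c11818eb85a521d70f9233ae19e0475c3dd04eb875c031e01d1124a2726223a59b44f74386915d81b320078f2e44112fdc4f3679b03d7ca15204581ade0ba2313c1966cd785702b806f90c52077f3bf81a2a4eb815d83090066a72606f62f5c0d2039e91ffcde503ff95d827ff3ff81f5c576a119df5d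11cf15d82fae2bb2cd1e5763162caec537c95d9a7452bb2440a57673124aecc06295d946902bb1c40e576418d8aec405c15d840ba72e88aec2a6a0978c314153192622a61a44054c2d270a985a6d15313e582a61ff2c54c13850a9988e9153195102a61271c54c03830a987f6515313f882a63758c54c5c310a9854c11530a980efd3ded18bed8891ef8f57327e15d604fc108bc9f8607713f02d6d27e14b584fc1edac9f86b1513f0592927e022904fc28d1c9f870d313f0f4a527e055864fc6c4089f85c3093f09f805893bf666182e1c8b90efd91924ddd007d83ec0da72a040c8051599ad4dd74386088e40fb07d810e8176893e49f206ee0b49cefd169b5dfa4f963bf47fcb77e84e14efd623a5dfa65443bf449c777e80e0cefd1fd95dfa4fe23bf4dd6377e970c4efd77e85dfaefd03ef5f7a2375970c4fbd7de85f7a2d273ef45a6d7de93e58fbd09c29f7ac474bef4ca887de8938efbd01c19f7a3fb2bef49fc47de99ca87a43d201e36f1aa0f7d88f12a6140241802bac49dc4ee03d00ab2f284034e018037cc03f82378151446f20161b4a8bb4370486b235902edca11409e00a241fc0fe0177a12e80058a6f01938c9c0fb03994c7d84c59925c993224b9e0a049717ebc92e6af7125ce20d24b875d849716f2c92e5ec5125cb6e924ba84504972f71c92e5b83125c872524b970c849727f0c92e6b51125cf4a124b925c0a0b0bb4c2ca165037783014220962e27a515a44d6a71c88874e7920d38825e1a6,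
  nat_lit 0x399986ca733297e8e66e3179ccc8756153cce6679b79cccfcc3399bf3c473339b518105699302002b060430204c0839981f80c0803f28e6d47e51ccc2c0860409f9401583f29f814153bf282fc032ccdf9e76d7bf3cf6b4605920e6c0b11ac58160a68302c2a0d60584558c0b19ead81646c5302cac2960599650c0b0ff9d8164cb3302db4256058d008c0b2c40d8165f31302cc361605b02c0d5b3f30df80531a1a74d3a07ad9a726f3d2e9d1ac2025a06fcffb13f3047221833f5489c04e002c90c59108604300f530d6c85f41a87830c18604179831e7402703c6c4fcf19f99f9f323a997a87560a9c8eac4d589d5842b03ab190de75636938eac32769d589c4c3ab3da1675609b28eac25149d58cdc83ab0734e75612a18eac5c829d58ad233ab1fa447562ad04eac75602894ab51221910c0a2a2283cee6fcf78979f9e27e03f3d802c7e79c13afcf30fadf9ea1c3bf3da2757e7ac8fafcf40271f9ee39b3f3d27bf7e790fd2fcf283a49c017e789c66315058cc8da46d021748db11f78c56435238b40f6c7b6027c462b0339805e613b09d813045cd98e6c736068d9de6678d03f506ba3dd9981cc0e07710aa2847023801f7c22a898c89eb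134b1de625e205848bc265d903400e311b90dc808fc1de4031c18e03e8004ef0fb87dc0ecf01381c4013378604ef2f3c20b4e046d23681f8a52498d74e9d21ae92a2235d081bc6ba7aa70d74bc2d1ae812d835d028ac6ba48f50d747d491ae81d1035d57c9c6ba1f030d742c851ae8428835d3ae8c6ba69610d74c6411ae8d7409a40bfd0c2626a9984cceb2309891626133f13cc2625b7184c2c8d3099961861335b2cc260da5184c5d49309859d061305e1cc260bd3184cbc253098494861322f8cc266981184ceba1309984c0e4218a888da315198c862b3240193e8c862b4444b231589e50616f1330c55821c18a9c0d03152bc1062aa0218c55273f18ab4b123155810862a60798c5505e918ab858831521bb0ef2118a9f8a62853f145c7a7e27b908975404e02700e761954ce3471a036989e343d01812875a3f044fc43e388ee4af723429a140e9d2bd81ce265191224982f3401a000fb726081f0e5bb806f437a07cc1875e1d167ac090046c81a6d8bd42cc028e259819ec0b3059079661788e2cc07a5a598326b0b3025f59660e3ca2cc163125982a120b305bb3966194a62cc07f0a59833490b3041219660e9e22cc143025982cc01f2e505a1e1c509424d1f8a8cb467ac494c53790bf05f807d91e8223d1384c8a18467a142cc3b3285981e250b2f2c0a1660d7142c7f4c28597ed650b15620a1639d3942cdae62859e94850b0460ca1650c1142c8721285942c0f5c3d03caf87e2111b094c23f11e8027e2,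
  nat_lit 0xd2ccf68621a104882404438b4e606b03581f8e787a181c7c3112209100f24253449ea2c6880e807404c79c66411308981f3471903a4c103026113080ec609d401ac0d603c88ac1031218900cff3c0c040a205038a4b590374091045ac1200cb58624096b014ce2d61789a5ac375b0b5840e596b0a8aa2d6171505ac3dd1cb585b6316b0fde52d61cc485ac2264cfb45dd79f68a6905958d9664d43424cbe25f103d30b553162199660d20eec41a466480348cc6f0691989c0d2279341a46615834801ea069197920d2205201a4a0a383482306069185ca0d200d101a45b4183488922069198020d20690185a4a798bf4d2143ed020a821810c01f4c4cda0bac8d530a7853c0f9e09cd0d364c489ea8b9712f291ca254e1e1c474a4a789b60fef23ed0de666c73bfc4d8e23981b1c89ce3639361a6c708f30d8e11f59b1c254a36396f126c71aca0d8e69639b1ce34636398c4a6c714090d8e2be19b1c1de2363935026c7363814626ef909484a407b6175a84490ebcc892172911240d902249f45e4491dc3889272a69124e88c22489a564493b0288924fa49124878822492ace449099988921ef2912429c4224b0b464492da088925aa091248920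7d390ca2660330017ba0d079970be6f15f15a5e4a125081f9256902388e50f1f2929de6280fe40fb463e818c45fb025d12e80fce17e81ce84fb812b4bacc3ed1848e7da13628fb44fa69f6849ab3ed17e107da3ed0494e68f999703c523189f69272a3ed187127da293fcfb4e3ee9f6885333ed0cf5465c19f6881f03901c800a420834c84442202714441427011d6823332ccc4662fd908cc4bd01199db5e23339b38466275688cc058c11991f562331c3a84667bf488cc13881198274e2331f5984660e9288ccfd241199ccc62333f3084664e0088cc46607e7862a40bc0f6c0e6673302efc79f3387048645fa337bc68434203e00cde071d1f9a07b239b5024456990488d051091005601222a2b824463068488a38c09114756122053282447354848852080911244e12239a1824455a28488e1c4091048841223998424412202898e6d451315a64a263414544c01582898e66151328980c08399b4e0c73361d80e66a3a21ccd06d53999cec228759ccc97f33f31f980dfd2b4d0c2461203f2c54f1385974e87a639c4cf4c63a89e98c2503d318d5e7a61ec38f4c3d969e98f42c3d30f8967a612928f4c33a49e9899883d30954e7a63ea18f4c2a729e984ba43d31b3867a60c188f4c7e609e98f4c06b09cce471330941ac24b9a1d78b4933af09d6475e36944ebccf571d78a98d3af15e5875e3ab2cebc6ef51d78cec93af1431075e2a69cebc55e31d7827653af0a1c875e3940cebc2a711d78e0a13af1d780f68,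
  nat_lit 0x3e830890577591200d8a2240e9924481dd9c89057e311209085224122884482950c89022a11120890122411200fdd295502220cf8bf741e7129f841641910c881d044747909884c07ca14aa05010d9cc26413202ddc36604a412da807e0394c02c01603cf1fbb42328c8e222a11501a8afdd8961404f10fc07e00ed0004c808e04702618012077b9b99e0f907c818046e60240815f007983cc09b77eebc6b81fd78f1478a07883f7604707ee88a5422a13f75fba17ee8219cfdd79eb5fba7d063f740d8a7ee8e992fdd1dd9dfba57e33f7490857ee92288fdd2bfc5fb4427998e849523a11d080f851250115661999ec42353024999284160324882c6c489058ad3020b0a95e4160fa3882c2f8690588e2c20b166964161e12882c55849058cfc820b1f8ce4161e31882c67a29058f46420b1f9c64163838882c57e0905882c060713ae639f37151fb43b2a18344cf32f917c80fa33b4d0e7473a02d6c765132c12fa451e28f01f48769887bc3de05ad17524fda2e644a7a53d0323892513ff1ff80c46386c849c2ff915f832ef31d18e80ad3086c0e1870c029a0359002a01500d98251bc4f2279027b49d6f3453d220fda1e840e8474203c607a0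045486f207c43e20157e2ee81cd9fb412758625e43721b81fb2fda58875fb461033f68a52e7ed246f4fda71481fb4c77c3f6942cb7ed1c440fda40811fb44167bf68463a33309fb467e99f5460f31c18e0c0b3039bc45662b303a8ce6e061399fa24f3338bcd926c903b74ce2073694b262d716b8121452c0336cd2332b815c00a7d26cd08164bba02d816c076592ec0fd7246d08ea4d9899f81031261930c0ec804081a804df8821410a057e035e267333981db6567915c4ae207540e71e465351bd47c1238005402a06ae9236078c33f3cca85b2987f82c5238e8e3a271d0ec40e3a32979c74270e38e8b3da71d209b0e3a41459c745a4a38e9d7d271d5da1ce3a64731c74878338e9e18471d08a84e3a71d033a8f2143d619fa84443e2c4c4e6270367c817132d8ac645b82dc0172a11591c7c356f34583c5e1c70e3812700f103b34816f2c004be004802401fa067e812d0cfc2246989c467e20584cfc220719f8b68d33f19cd867e33628cfc65c499f981c833f1480e67e38218cfc555299f8eee433f16b261d02d6445301c081c0ce06078596b1e4fe39fcc480067a0f8c7c60778989260bf093d002a32aa0f507a806d28ca809112414423665189f70f51232218124d2e2d648c402d978900fc50322193e851035ccca203df91440b9f1288152605101b138a202066944012ac2880e49651004628a206634944041682880524e5101b514a2064721440fd832881208451012c84a20510032187a8f16b0b58090f,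
  nat_lit 0xe7bc81640b0339c7df03c1932285712e550eaa136905b4ae1238502c5e01c00e010b465a79801ce6f3ed90f2016432d40bfc65a10fbcae0232d2f21a65a22594cb411521968cb4c1a01968e6a832d18ba465a71d50cb4a0c41969634132d20af865a4841c4a2e7399329ae7329431ce65d15b9cc5b0a7399b492e73063a1ce63833b9cc4b267399c74ae733fe11ce6e73139cccb41739b9cc0fe47f204cb4fe413f904a2e7f21329afe429431fc82d853f90da497f2031d0fe41c19dfc825933f90e3a57f21ff08fe433c4cd800dca0e1070804109696825f3db5034cf48a1238ff14206169621c913444060030038bc4d00415946227572474488031891d5c37113cc9e64092d340c442021002de87fb11c38e1c0efc01fbc6006be79a70d3807c69bf1e27313981d0e3e2791d88ec07728f880cdd254c0eae61981f4872d0180134a025f09b9ceae75709238eaf00ca9d5d665d3ab98d5475729fd0eaed1e89d5dc63d3aba8a1675740e8ceae2180072447573dc3c7461e979174bb8d1d1894583a3243d065626b90cacb1f11958f66032b022bc65645870cac108d195acad832b2002c65676750cac49c9195921d032b6239c6561b730cac6225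1959174832b3f90c6563a310cac22c11958cac0ef3279c47466d39045822c0756b7e6612a2b84c3b61b79076d88300ed99b5e1db2ca383b60736876c2ccc0ed809161db012a83b67404876c17080edbc10e1db519183b60682876cc6c40ed8c4861db272083b67140876c3b606380eae61d60eb01e643ab02c046a9333699b40e130a6d0bf25f903ebc495437219f666e41c448dc818e81b90e08e3720525a6e42b6b0dc838f59b90d28a37218d926e4102a0dc820639b90440637218a4a6e43a010dc8df919b917a623720d5026e437201a1c15b9006803406771c5246e1370818e671402af8667115a8ad40b033cc4c4002000327019b432902ea22a23f948a4a14f8063013700e8933a024a125015564ce03e105b9317d104e82e234e4c5c423288b8882901711939e2e201e385c444868b88504c1710a0d62e2146a85c47bb48b88a2281710628e2e2140985c418c28b88e344171196c62e23ad085c42fa08b885c4079ebbce00452134dbf276c8b7e4da4f6fc89adcdf9302b5bf2e90637e458ab6fc82294df90caa5bf26b1437e41d676fc954ccdf93fc95bf2248237e57a636fcb4384df91d185bf2df903ea4933008b04580b901783cbbe5df036f8cb701018e8c4ef31d18cfe43a3991e48bb418e125a207803c01bd23a388670746702a8e8d42ac1d1ac6263a332b80746e2940e8d24e21d190ff23a328921f5211d18262656d2b681d3246599120b0b2224033e24481ae408904707912010ce2243cf5a448,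
  nat_lit 0x30c2439620d4072c65870e580f4c1cb17d103966e41872dbf220e5863021cb0e5817a62a492fe8384f27693b40c2f13bbcba631778108084077f81aa644209051b42feaa13c83cb1212812e236003b4838a1c503ce46410025812c0d367f540988fea10109b4227f5012c2fea5a9b9fd417e63fa82f4b7f506494fea30ea5fd400e43fa888c77f5060ccfea02c15fd444223fa8fa730eb875c0fdf376d0a326ed88d7052f21991bb5e0fb376c0dd606198fe87dd406c03600f021f701fc2225883247e521d61e6e06b235901f7e53a81ad0d68073585fa0f1a259cc168676909604b007f188a1e4410f9c0e806ed63178ddab3729bb545f9376a0dd86ed39be440b1376b02dc6ed101a4dda7b531bb440e537697a486ed0f98cdda3f211bb4dda13769bb40fe837685fd0026987cc3e6072c08162fe8359442502034bfa0f6a67f4081cafe8605b9fd05e923fa07e427f405b223630b3ccde2637883bc1de04ee17ae61b425dcc9bc4de03b30a2d319d8466433b18f44676e9080cec198e19d8c49a33b303306767ce58cec2b0a19d943d233b0be2067662038cec478619d88f4a33b06b1067666f18cec27e219d8120233b19d81ea002ca08e0673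211c1bf222383acc04706a3788e09ece11c199da238149b04705a6588e012ca11c068922383b0a04706d5388e0ef2611c16a4a2382e510470136188e0ae2211c2fb0223811c0147c3b49890861541b19f8e86ba21ad0df46fa0392c2fb435b9002860a30501eea40189608b040621130a2316116c4b4642f90eb475a075815064363344c4efe77f03f6c10321608b040ec71a144090048038f08d345f604c66bec00ec57d876282fb05f6e5f611c9abec0aa317d85f35afb0e1aa5f605592bec2a9a17d82ff3afb0d6265f605b4abec1bf917d85681afb077825f628f82bec5f601f3e73479bc4de2066811a1e1fd0fe81bec46803c3cd7b03661b300a850cb50f5c23e99eb892723d70b4227ae1033cf5c65c71eb88b8d3d71a2d67ae0fea8f5c22049eb8b1683d70de8e7ae31b18f5c3ad29eb946443d7118867ae34a08f5c29009eb8f5c07030ed1e07c363c06c60d9818dcc6e07ec036409da35ebc50628302a1898f02ce96740b8a3fe386c636308ed0e31036f9b7c0f281b1ac452363301306c657480d8da4c21b1a4e6636361fe46c6a1d90d8ce24c1b1a052c363209446c623789608436318dccff8028982d816c05df00a00fd61a1d0c760cfa19687df4328945a265a342ccc767db818ec4a2e31d9329a63b29430c765d1598ec5b0a31d9b49263b063a0c76383398ec4b2631d9c74a63b3fe10c7663b118eccb4131d98ec0e73058c465432a0217016206d2136a444b261c427813c0350494101b10d880c57,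
  nat_lit 0x3b788e6079011dbcbb813b79839c76f33730ede2d659dbceae93b79389076f2719cedebc831dbcf3e43b79e46425a3ec4cf225e579e44c7af6529b8a87e12ea48fc257f89f85e9103f09a25e7e129038fc2ef861f8443ab3f08b2d47e11bd24fc220441f8444073f08818c7e129714fc22cf21f84c7433f0999847e127584fc27e103f6837741888c44091b2334d52448699594c6943e71732658f2c78191e5e4a1164f43420a1c6e27b1056c8ba05d003224739420f8b7a641f3f14483e3748107c7eaf20f84cdc41f7a43483e0b56107ca90b20f94f9441f032a483e1a74107c952720f8ee0c41f2a09483e3b92107c8fa320f92e8441f3d08483e41f02fd8a7123e7027244eb06fc487a43d0253833f11ce0e700a9429bbc66e33703ec4a6e05ae03c603831c18126e634794a4da703e71f380eab19f4087047d801d0b1af3a81d400d3212d4005e27f89134f22322691340f0a12d0cf2208898d486a407b91932879178508f226d791e4496f23c6859e0791167c08066d161e44a2273c88e09479130734f2275431e44d2eb3c8862907912e938f227cc49e4588253c8979887917f64cd245a898d3469a07e996a245812c081fa419a80f5c7ae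0663bfb1e1a2240ccd0a68502b9890207391c5261530a9818ec12ba05980b7403601b00b4a314d0a5c3968bfb028f114e0a7008570a381f165ed89aac101225d12e8098a04001cea6c58876c3b604f10e728bf616f4d7ec7e28afd86e905fb04cdcbf67a4357ec0b562fd8a90b5fb14f94bf6032a57ec1a742fd895275fb0ee0cbf62a0957ec3b922fd88fa35fb12e84bf63d0857ecbf6038f4dc2f3531a980abc3708146e4c5817b4bda06dc835e848b2dbcc91666d9122c5dd124597bde48b33c3891672f6922cff4c2458ddd648b03ba891607c4922c4e882459074c48b37b949164472122ca86324589d4448b34f8491648b03978c53038084a261902184ce2c71603e4886004fa0022807b26251414feca11b00cd1061020a22a115081f4a1668987404d20f807c00e5701301f763bc8911488a07d08ddde3811c081cbe469a061c26330c39ea6418700ec430e7628061c5f6e0c391c9a1870aa3030e5f35861ce1aa0c3855921872a9a030e2ff3861cd6260c385b4a1871bf9030e5681861c77820c388e021870c3817d81667baa4501012cbfb0462906109fd81660bfb075ae7f61d85afec16d31fd80a853fb0aaa97f6199d0fec3831dfd859333fb0cb857f60b848fec7f545896fea794901f130c606300ed728d4c4fa004a012c09604140dba805d02e8195836e02650633302101080d5701745fd436e88d686b4065589de25f52ba4c3965738872cefd00e58925c1cb292b43967306072ce30b0e5968141cb,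
  nat_lit 0x3aa908b64c81916c468222db11c245b22d81e3476da15287c932a5024e054a0ecbca943fa71528830d2a51835854a26faca940c75152847692a50b61054a3b11ca946e83152889452a508fc854a16188a945ce09528a9404fe0f6e45d22e901bfe18a79320d410625900207fa3fd01ee6332811e0564f3e91f480f150b4408c8717a1e487d933c91eea47923f240f2424079e48c88e3c93179a792172acf241a751e483a893c914f907923d01cf2460231e48efe53c9072487920b408f241b009e48f24059b05a063611054c60004ba0d84f2421b0874647d2343406c269e804b852cc1b08f34e3613d2a86c216d30d84794b1b08d61c3613fca06c279f48d84d6251b09d5c83617a3a4ffc148a1984edd121081a2643c39751e8e1c593d1c14742cc9dc2259909cc0b3275d79664a0ee2cc9455a5991e9b0b325e659664e32a2cc9ba9259930220b3212e3966434862cc9db8a59934b90b3252d19664d1e22cc90f025992cc816984cf80520176e0a41011a1483273029042558520edea0a4142d21480a7202903843852096660a40310a14821e10290f4710520edc10a405200fed3f63ca5a6eb83d1c35f01488a440db1135b1e8e0a73bd1ca1a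a7a39f85af4728819e8e5385bd1cfc487a39b0dcf473fe15e8e71d23d1c62f325012800f0018b818b47f69944889d438f0c3e812e09701eca20991838c1c06d6963647f53fa81a665c49169cd1af28d946c0c4d20940edc76e03f9de8e138f3fb46f4726fbc32419202be9fdaf2679db82fed05db9fda4046bfb4c9cc7f690956fed285a5fda14e43fb470877f692cccfed06215fda43c23fb4b6543b78ac625dc2ee0172c76f889f4d30f2099dbde5cb36f4c4d67a999f1cf8e05f69ea40d50508d0bb84c1a127493a07dc93040ca239850d9828889dbc27d436185f226c30a0c0d8633b79b0ca40d361b7e586c333aacd864fe51b0cbf49361962106c32da1cd8636231b0c6c6536184e086c336f8cd861bd11b0c98213619b0c0e901a7c48c4462023a0629202081040d1718a011164fba15f477712be90e2057d3d6b8afa294695f457ac2be94a5657d1eea8afa09c495f4f7e82be8278e57d3e998afa16f295f458642be88fc657d3e384afa57d02d44109026a93540ef4249bc47e2d499fc0c7523f81d8e27f0350c0fe05ca71fc0d14d3f808bd67f027a28fe063a49fc0fa083f808c8c7f029a14fe04f621fc0ba033f80cf847f01ab04fe07f0023b0377013709b80918147bce6073003cdc61d33b09c9e620e3e2ccd7e6bf036804f943611dbe84cc0e0c4f2033e892d06f922ee17700dc03a3c842a1bc893c09e005611cd205f62fb0199e1b97921490a07e106e40be52ee3cc2a64b81c9cedf03831dbca394,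
  nat_lit 0x19eacb5a46c516b4ac292d6996505ad0ff9cb5a4cb316b5b4252d68d0085ad2c40cb5a5f3116b4c3612d696b40c0b368c84265887909c4a4f2e19b65e588081cc6b64b188d6c830f1ad9c31c35b3f7346b67ae60d6c210b1ad9e31435b30fa46b64a640d6c19671ad98c4c35b38d146b618c20d6c6b431ad812c435b1df846b635b03fc00baf043021809923914028c6d780b08da221df9259e78e1df88f1c78e0379cb7742e817400f99045d077e05890efcbc9207ab79c63bf2f1c077e3fd78d686b4077d98e983bf31e9c77e4f750efce4cd1df8ba0c3bf388ac77e3a640efc26ee1df872ca3bf2449077eff0a040dfe1020c03e1e6e437201daaff069fb9fe0c3d73fc161087f828f18ff041299fe070659b82635a1ad017744b18bfc0da541f018b643e03a2407c04fb78f8029ee1f01bfda3e0106b07c011a58f80eaaa1f011e123e0398207c071d38f808f461f00e0ca3e0053907c045418f809aa21f01b8023e01f00176861f4bfc0c6267f81c68aff038639fe018c23fc009627f80e8e862b3935083a726891bc255427e909a64fd3b6449fa4bf813f4da4f27e89adc4fd302b49fa6c3613f458ab27e822944fd0caa49fa6b1413f41d6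727e954cc4fd3fc949fa248213f4396327e9b9044fd1d1849fa4fd037e4c8af0e58a8a66631dc501a069088e6cca5214e9c9a655239348d6c67f78f0878407d9948606fd1084c0520df9880840404a81c228645064ccc8a1d3899142ecf32295d9c6450a934c8a47461914f3cb3228f1546451e324c8a58541915b4273229560c6450ff94c8a60021914fee33229f58464510104c8a6450312470920ff880a03ce21b3ce4c11971c98feac3931fb167261cf28e4c51149c98f7683931f30e7262f418e4c52529c9840043930808672632908e4c72609c98e4c07f78d51e5422a101c20fef810d9fde210119484fef7f785fde11973fbcfeac7f79fb16fef1cf29fde7bb43fbcf9877f797a0cfef29295fde20023fbc6c321060905e32c19601d7e36181d706c2d39f13b685562a648aac095895584e302ab1351e5560bf38aac4d2695596a6c2ab0bcd65562e428aac2a64955819c82ab0cace55606818aac13629558d3c42ab074c655635a08aac45b09558aac06239b0265ce37cccf0c1b09847823c059d3faa261f35040c3e0bf7987cce6e30f8cbda61f11030c3e5f45987c804a30f97d9061f77c1cc3e56d3187c91c530f9ad0861f34f0cc3e68d1187c6c2130f987c0c4b01850324192020b4d8740a4142a8437346c834c1a60313898313b71db80fb823f440e84e5a116c7bf322d9e16245b0bf408b66397916cdb8e22d8e05a45b37bb08b66725916c14ea22d81bd245b0b5208b650d3916ca1c622d9fe8a45b,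
  nat_lit 0x1ca19fe637f4bfcd79057f99851cff30ab11fe601c985e4f42f0bc9c5de21610b01dd20c5685e4e8ac0bc886d6179092a82f25c9405e4efe70bc8116632e149c8954179480fc2f2628a05e5c2390bc94f40179203682f231e18cb861797f945790ff298f347c142301b8221fa0fd017706e0032489b943a08a966741280c4e821dd81d04870e3a085c9a74147a30e8217459d047d8a3a0862d27411ad20e8252a39d0431c63a08b20a74121590e824aa19d0432623a090b027413a081b1200c9829c65d308c997e419309f443263598064c84cf0c98079c193203343264ad6064c22eb0c98cd54193363243262db3864c81660c98b74a19332490326d891864c95420c9bfc821930c981d1e331a1514a8a07e18bce842b30248856381890ace5302158715e42b39738856095690ac40cc2158e45642b2a028856498490ac414821595b4e42b77c18856216290adb1242158ec0642b32488856067090ac8560697076220f4033c403001803bc00ce06c083de209604b015d4344892a895405c0bfca47ec0eb3c14e0a702bfcaf7023011800e9b2d2c0278101781980cc042f0ee26739334c8862567890c4f9502188599e43120d3886227c690c44aa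c218819d643112ba886207e490c4dae82189e84e431156188622a9290c48464218849064311e388862554090c48620754bfca83e5315c4aa8e8f8997cd2123c6131284a51794c94a2409129413f12529c7a04a523cb894a60069294b7ac2529bf564a5067a894a2bb492948f682528348e4a53501894a15221294bd832529e3044a51508494a4a502828858f184ba3de359326c045655413fc814e37f93a3c2ff2271b9fe45116bfc8fe0c7f90fad6ff21d829fe444843fc8c1c77f911f4cff230c15fe44d523fc8f1d42449cda23bf36cc4e343bfa13409cef3859c2c0d851dfc0f5a419988284a5307d867a661b30d8153819e03eac9a5312b9a7642572e3444ae1828095c368f12b8a89c257275b44ae02f6095c5b2b12bbaa542576ae244ae6aa4095c744712b8e8cc257145144ae3682095cbba312b877c4257368844ae25702b80e2741ad93ca60be30fc817c02e882f8a49005f1311e0be5a9b817c18f682f82fcc05f05e960be0c92817c61d482f801c805f1118e0be0c19817c058282f8884405f010860be0ab8817c04b082f817c07f5139a842521281a580769887443a079d8a5a204b090502ae0659055c3c6f0ab881dc15700d342ae71e6055c654b0ab99354157106242ae4954055cc8a70ab8fe4c1572d6942ae4f22055dfd430ab81084157212842ae157036848831035058e435b1ad81fd64c5907443a206dd97c646eb3dad0b5a483996b446b12d6829a05ad3b23cb5a6ed716b42a0d2d6845585ad,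
  nat_lit 0x17001422179899187c924ab12a9e7460bcbc0d245380e5c48d00988918a0c765a0848c650189182f211231cc0e2463cb3448c32c60918abab123112942460a5a448c71d40918f9461231f88824630950c0c6dda168cdbb135b9502470b2ec4c15c6dd992ac0c141f80fc00f06070487d63eb03780f6f21311b7645ae3d13c37e1bf03f941dd00b0058008d40770194810079bd8dec052c932a61e7163d025a7a288f3879c07f31cba41e70983c58e2c70271c91cf36e9c95c6dd32034dba0f661b74296b36e8ed146dd2aea4dba33241b74e62736e9d30c6dd3ae14dba7ba21b7458e336e9edc46dd36e84dba6dd03fd4f93038e3fd6048e3db89fea14b5bfd458e37fabfd42ff5392b9fea6406bfd41ecc7fa8ed14ff519921fea7313bfd4e9867fa9d70aff53dd11feaff4a0e91fe901f80219e2a613ccc1805e699390f374652b2940fc107b508dc25aa19b4e19415d055a8ff42b048c686340340026143a588ea474b37b3ce961e671d2c8bed3a590e5874b2982ce966d651d2ce8c93a5952d074b3e49ce965c431d2c3ae53a596ac874b3a588e962ba09d2ce9604e49caa446e32a48c4a54990a3451a07db15240f3e21a48c0410979820e7d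429e0246653c37148a787d0894f0d63029e1815c53c135b4a787e1614f0868b29e0971453c065a4a78469414f0c3e729e10acc53c36014a7818e214f0fec329e1894453c19a04a7853c03be09d9007d03e809630a5bc7beff4785b4b80f23717d5c46e2d5348dc5ab611b82bab2371c1d446e2df248dc467411b8c3872371700c46e2e1948dc439211b8c1032370a80446e7fa048dc46e0303ce6f01bd8dec0ea039b81e3e25b81955fe8c32a3fd0e75b7fa28fe8ff46bf11fe8b3ffbfd104f960785fe860ca102038922040512240830a3881044b690201a4c2041df5640806a2881037f490200c6820416f4e4081ca18810bc8290202ac420410d064087fa0881014b0902081007f993ea2ff40a5c46ca0c44bfd0cbe67fa142caff405fb9fe84fc23fd086827fa1ba2614b0e249fe646a89708b8407ce9dc9a14b060302960c25052cebe80a594d0e14b225b5fe60d263fccefab7f983514ff3031a1fe6ff3396f5fe733061d6e81b53324836a7be886d4eff00da940dc1b50323436a5dd606d431cb0da879d41b50c82436a628406d4f8470da85d0c1b53e09436a434206d49f830da855841b53440436a1b503620f7b4344177a66883e8c4d1063f79a204f0e34410f1a68818530d101f359a20594a34417e1268839520d106fb39a203f863443294a68820210d101b119a20d52234436202688344018be14b91dcc6c0f2440239e5250103c3621b1020682966331052dc1180a58cb844881852c29617f985122ff3,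
  nat_lit 0x19848eea77503fc4660075e947226eb37581eb23ab806c436207981a21e6092d4402ac15603f44567026313180c2615981e9c63c8082cc7890639cc4463c3270cc78156098f0da2d31e1839863c3ae2cc7823b518f0da4831e1fc0e63c3d418c7814b298f0480431e1df2655928cd02ee35c88268ef913938a61e0ce3be3cd746ada0ce0c03219c1f36233829a406707ba78ce088ce19c011da338195b067013f58ce0288a19c04e5233828b20670b5338ce08ea619c10a0a33828c906706e518ce0ef8219c0fd8233819c0165644f99efcf7e07079816612226b50b1270e9992cc9607f0060627763d3c4bf468a90fd8ca723df9efc0e1e3be48e667ba7acac14af04190ce03f61fb01de4088813bc9de07b88fb9e7b43da01e02686997b8f3531ca10b285071e4d0dca77ca1654e83137290a22507302c4f946ee89a88d4406d49eca426c397bc5a4605796f04d702eb1df207fc37288ef8b2b19df0c0a13be1821c77c3c334ef815161df0718b3be0b25477c358a4ef819541df0a3673be1e7ca77c1ca10ef87e5a1128d6143491ac2232d3d6c8d904cf78310393338e860265011b0d0d6050ca1db8e5d42d8871645b10f644b626eb816c44e4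f2d89b0dc5b13f0b4b6226b616c4a70b2d8943545b13ff24b627e2416c414e72d89440c5b13fe14b6271d216c429032d89ac045b138f04b625b103d1cc3f13581662214838f443c625f90454229138e1c7009d0181bc9a671e79c2016d0027813c0fd405b010a0f47809c8d6027a3b105c6b01ca34d604f861ac0acab358124146b03c3a4d6019341ac024e7358112cc6b02e914d6078621ac029023581ac026b035801fecff60bfd829027fb3105cff61ca35fec4f863fd8acab7fb12414ff63c3a5fec1273bfd889667fb1748aff63c311fec2469908c8d941e3987623c71234405a72478cb848cf2e70916665032801c88139991282f331e61982879e31450cae0d2892e459d428f9dca651f0e944a3e7968147c2fcf28f8235c51f1f1b4a3e45a6147c97ab28f9451451f1aba4a3e2e64147c174728f8494c51f25514a3e0bd2147cef0328f8540451f31404a3e51f03a50ea721dd0ee80e481e1c8f5a24690538628f32819400d1607bbc32c19602ba01ee070116d205053bc404a83ba792c4785347a13fe63b31b2d07a207998a2051005e3891a85793f15095823c992b00f922560a7a04ac093b8958618692b0bf8c2561f5d64ac30d28958525492b031882563104e4ac288949584a6212b048c3256194044ac1e8849584ac032d039d4170177262e0035445c005078b80506e1701391a2e004a305c003c58b8052aa1700c2d22e024ba05c04ee38b8087a61701c88a2e0390905c04b118b8071821700a2022e0,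
  nat_lit 0x3dd2dff07fe43fe02a2e7fc1f892ff812015ff014b23fe0dad4272132225ff0a8d0aa234a99544a8b12a891c60551259bcaa20c771544e5ad2a89d5d85513c7acaa23fa51544cdc92a8894505513ac1caa225331544e4852a88a5885512a80caa209511544dac12a895440ff73bf3c31018802f50bff020997fe86c73fbcce7e66798b6c14532c8911e60a038550ffc077a1240cb542ea950e80920cac4cf263b88c207b1112d935247fe33fc8f507a803ed016b420288d664052c5c880a365810144c8f2028281c4052be3480a25461014144b20281f9440512ba480abc84101552472029388c4050319480a5a1210149ca32028a3c44053338480a4050357018d12c716380a222b1bcf1074378525feef2388e1207fe31dc0cc433779a4cd2605ae92bde20f107815306949904037322080a0604103f9bc8207dc71040c50d208157584101962c820622510401ec92080191041038c1c82017031040d3e520814d4841036b088204470904082007931bb9e6d62ff88dac6d6036a0ab730c69006418d2eec431a2f5806343b6f0c69ac1c18d0603431a77260634beeb0c6830d418d3d5a431a01e4063495870c68ea4c18d3c89431a5d520634b22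30c69960418d3330431a18d031044c742ff904045ff3df48bfe66691c91b5032ff8a7e05ff38c3cfbc7de03ca4170c2ff8ea4e5ff0b228bfe0da697fc95862ff9add65ff0b320bfe460717fc5da92ff923ca5ff06290bfe7f37bc98d4b32a81b5a60f41914ca6a53503b500a5218f8c7c0ed22c9c8e86ff791514c5cf2a815400fcc0aebc95a4ad03e59fef30a8860a805302981e8a182034a49c711c603c20064032013cc4c3982a015006a1969284e57fbd069455588254dad10f702da400d00681faa0b60203cd1340d00a1661a0132c83402c58868016af0d00a9dc1a00e8343403df606803a4b0d011e941a00bfa43402ae4068030070d01d54c1a01ec1434050e206806e630d00a2041a0206843401a00230888ef34e99da06d636b01fc45e78084c42607bebfde04b304a89fee5501bfdcdac17fb831dcff7396b5fee75763fdcf1eb7fb8fe94ff7128a1fee7583bfdc4a667fb9c90aff714b11fee244a18f05a710ab05580fc631e448dc0c8786d4c78f216152e664e2e1cc2cc156996b0d01327f13f80f8a21a50c9c3fb8911994b138109fa470227e49fd863c91890e96f3270f0a82172cc4c42e4049085cb7d110b81fde21708ab842e7926885cddac10b8691621705ba842e02a4885cd2c810b8d64e2172f31842e3a12885cea8410b822462171980842e6a90885c42e062f109607020314080440203dd85b70208856a82ea17501d720fb998883a34380855e841531e508c420a89cc484b1228055a26cc,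
  nat_lit 0x1f301f5a68278a4052006039a080ed90704073439a0377ca26f0f3127202f911f88b2c0627900c80607bb8a12070d1b8402a051360924a267392144d44cd289b4f46513584b4a2680a78be425133b2cc6e0370038a0ea112898e6a240a35024a262bb3144ceb052899cc1c51317c10a264791144cfe132798d5a412a095011da1869046c24d300a9fd2861e14a48c3c67589878ff1030f1be9e61e05f38c3c33569878aacc30f148d661e20328c3c4f949878188830f0ce0e61e11b18c3c14e298783de430f08a0661e3a408c3c71009878c3c05a98e3e851128881a447df89cf830d10cd8a0a47102e7bcfdc7ee03214333009504a80cb90c33c8b418698cb4f114320858625861a8c0f7c7be023d4304f02b815c0f420c101f3674d81a98d4c04931d340a38215500cc066022fc0f3100400200bc62d83c9e62a0990c483530a910e683f720cd0f18186a1680a1712ed9316273939c81b78126882acd8322aa15500cfc20dc8dd83cda16c07cb32d80a6645b03f644b604e3716c0a22d2d81fc185b01f5acb603b0516c077e92d8112105b03071cb6047d316c0c3052d8135485b00538cb60554116c032612d816c00ff20f0bcc9e64f02ccc785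30931a4a212621cbc24c6b270498c8ed0931d0581261c72c24c2cc50499e089093080901263a01c24c2cf30498e7e5093081881261a88c24c73e1049830c1093049808f43e0c06b018680074bb620c313cc618647a0430c15070618ddad0c31e4981860ed2c30c23d506183d690c317c501862a71c30c15828618f5040c3023a65281c84429214902995ff120f210d202ca7fc402ae2b3a138c9c606141d9281ee0f70181860998a044ef33ca897a4795135c4f2a68981e54642f3ca950dc7957fa34f2a59761e54b02b3ca9e1d479524824f2a37341e5472e73ca9890c7950b590f2a2ae19e5454a23ca8c2c27953ca81f886c698a65fe5114c9bbe0299163bc5321c970a64cb4d14c985d82990acac5324b350a64d54914c901502993159c53276f30a64810514c991082992ae0c53216910a65ff0114c8a640bc82f050b8062da03bc1de07aa13b262a4152012ca793885a42d207870a1a216728d4460c18290c1c60e07a186080b2f09fc469434a03d4454b21708c2e42a00ffbcfb820078cec720f1a68d340a63377c1790bc803da8932f3d79ebc0b911b8d0fd62fc99fac7c923f58c2227eb13fbcfd655571fac91ad3f5923987eb3622cfd63ac51fac75a93f590a507eb2971cfd662931fac44053f594c887eb3a30cfd650211fac76613f59fac0956268c0e7673b03c489a207f714a2023e18589ff05281bfe07613244064e8ff83cfc9ff06ea903e8ba907fc18218ff82071dff023c53fe0d26d7fc0560cff8,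
  nat_lit 0x2e6d09c24669938421f22708e8a04e12ca3c9c257e713845b8d270965984e12bfac9c24b251384744927098ad04e12029c9c20863138480e5270937084e112c0c9c217e1138433e127093840a9214ea4af4761315e8c0252bd1a71c57a2cb10af454a115e8881336215de45a22d101fbc7e890a8c7db321003d262cd191d03e01f00351864607de12da21903f44477c545914b48baf3479689e7d63f43cae27e8991044cd42fe84ce25fd203bc13c692a16d48d932da93f245b51cb44b6a1a2816d475ae2da9d85a5b516d30b6a27e596d4150a2da955525b5333a0b6a706396d4b2662da9970a5b517090b6a629196d418422da859825b52da81fd815d997f4cd122fe96f9e5fd27938bfa662697f4752c2fe89fd65fd336a8bfa202497f47da82fe82e0e5fd3b918bfa5e9297f440e42fe8fc465fd23388bfa5fd097f4bfa07530ede607b03d8167e62b90308d8900fa1a42663e156cc8dc46e03bbcbc743e799fe862631301f6a7e8a084c165122a9fde263f1df4c7da21d88fb43e901f69f2de3ed074387da18168fb4316c1f6818163ed0c2287da12648fb5d4c81f6876ce3ed0c8987da31528fb454241f6827863ed0c8087da7e808fb47da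07820ee2479d0ab50c463a49988c9f5131185b606231f83cc460bf7188cf2ad311995186233ffacc467f45188c188931193e506233ad9cc4665f3188ca16531193f086232040cc464341188c8dc1311988c0ff4233bcf3823b79021e08f0fa11b6065b3f440eb645511fa0d8833f43c1027e811938fd058369fa0c56c3f408d167e82afa8fd059641fa0c2e73f41728c7e825294fd077921fa0a274306144e048d178d05ec48e98bd8189217b10da22f63f0bc5ec27170bd883ed17b03f182f607a2c5ec69650bd8844917b02dd02f60951c5ec38030bd8124517b0c6c82f61a18c5ec55210bd8a30117b0bd80f4813ec4b2cbfaa16586c143d81c4a84a225101f90712023480dd41680b400f8203701f58230916581271265932c0f83396c8b4c23f913c8c3502cb1f1de64132081a9a545817a8b270103965825962cb2c88059630734b2c523d9659a0a32cb244a459670790b2cc5491659433a2cb1c4a8596115f4b2d42740d62617035acc6c61aca0c0860406cd9db263961cb01f54513982303f3417c970e8247344ccf607b003f70697412d896c0d1418e50f4a198913f09f8061c08fe21b4286c41240788925ca2713c01dce42f914f487ce3e7032d82ed21da0ed00ddb241d0d3260f99a64c8f134c8d0e069918b3cd324cd71a64f7ad34c96818699180acd3273051a6468a934c9d5506992251cd322ae31a64ec4534c85a886990700cd3223011a64358134c9a640d7123cc82563b581a70d3807e687c5e3e6,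
  nat_lit 0xf4032860a70650b78d0ca0b098194161ac32841d506509b090ca0be501942101c3280773065028c50ca14a481942768c328687106504fa10ca06500bfa360ccae4572033f864940e207100f9336c4c93e4e59127c283124f9716049f13b3c93e5987127cc0cd24f8c49849f03cac93e3a15127cdb0924f8249049f20a9c93e6093127c16e524f9854849f0798c93e5661127caae124f927c0bc43734cb325990301473341648a52855704accaae44c9155c9bf02ab88dde5570c438aae60c6955c60cc2ab8c1d65573aa28aae6d94955c63682ab8d74e5571c118aae6152955c16e42ab8e6465570fc08aaebc40955caae057c90f225662e144d2e2a091f9cdd121929e6e878b0b04cf1670291e2cf9113c598f5e78b304b8f162c969e2c8fcc3c59da9678b3c328f1616b49e2ced683c59478e78b2cc18f1668829e2c92043c58b6c678b2a488f1643409e2cf1606529021e28e2e13c7ce00a7822811406bd8e66011857c887321f818e64b8411cc942da3992ec307325ed58e647a2a1cc90112399299a073205438e64e0261cc9e54a3992fc1073241ca1040b7af20e14fe6603088c8b56516a0354927428a0d0e241c3b344cd666b03644eeef3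0187da075e3af01ef4538816acaa5030196da077d3018c8385ab993e04c143be9df408bb20e4ca4074ba13e4775416f85de857825348af0378895e085f02bc1201e5783af38af01f2695e0136c2bc1b49657813228af05d1495e0eb882bc0a10e57805098af0332295e0c0642bc18d465781dd08af0505095e0af0067a8aea25153a6c8ca06500249c97f228294140dfb20e44d74447903547b91301980c0e4e3bec82a22e0799b0838f0d219ba00d51bdc043221903c786f606e59bbde4ac25601ed60d509070efa220e13e9c41c3eeb48387ac59070910a20e0ee1241c1a32083848b390700ca620e1400a41c1dd1083857aa072caf500d6898de57d113d0fc87e403dbc355323c11e00c3e08a4c77a3bd0274822807c0973a61682bd4c64c6eaa11ecd7d326113080f8e1a84c7ce3e703c50edd43ab95f6838921ac466a33503928b5f20b805c00f8f0a44491c7c789f24f9206a795ea209b0c6488f663990850d1d21ff8ffc0c3434701ad050190740a9522679bf2028414201d0c2657827c13e046089940f912c6c0d4a6a5034c457741af98c2635f1fbc86be73c88d7c09701af9351c35f23c346be18c60d7c356b1af86b1435f37fa46be5fc40d7c32271af876cc35f141146be7ae20d7c36431af8740435f252046be35f028c8af4f2e1148a047b23d81fd2683811a48d206349ac207c81f54024a2c3811f8af4c26e15e8e3652bd289bc57a6964caf4b39915e9077923d84af419f98b0c586054a8ec2257a,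
  nat_lit 0x1ccc4e920497852c732f12e0b1a61f80fc013200fa99348b85330f8212829e14f01dea084032e032743b89e7e47710f244ee25d481dc42aef3b88545c771349b4ee260861dc4f74b3b888f147713f124ee27fe41dc481c73b88560c77112014ee214b21dc4a5033b88c2c477114c84ee277103fe08ed11ac0d600cdf14cc47761b389ed0f6805ba922244f41ccc86c247a787e0366f3c31e180b7304bbc21810c025a8ab9004b02580bc91cccca9c407a0684d0f13c21e100bfe2ee503285969865054920ca0f9a2194]
noncomputable def A : List (List (ℕ)) := [A_0, A_1]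
noncomputable def K_0 : List (ℕ) := [nat_lit 0xb089fc5cc3ea2be0e0428a2a30da150ca8437c2a009842a217a1cf84e8278111251067ca0a5040c10f783fe1fd0cd06f49fe25c0ab856021e109082a53468434f1533b5cedae4a3b7183502492a3ea0fdd8eab1a3c60568b5446e47b861d8104b91fa0fd86b66a63111990d588803ca3dda108b9f2860cfca1245112b10282345070b811f441016028308c82083a94f0a350d483603f992548aed8b18235558484d548592408ec28e0afa4e8bd653a17f17a0bce5802f20ec5bd0de725a17c4eec2ef0af178d0482b13208c4853a166121203c2c659222f84e03bcc4a8278b4d4da6b61bc8b502863dc5120bf0b6a9912f2932d03aa5f1578dc8b1a59e2740bc4b362b90900aa82d04010e316647925891858ea0af65851160a842d858308b84542283ee1ea84fca1654915904786fe37b2a395182501242a28b64a5852b19792183b2527096065430a15229304a825c10c29294909fc4ca09113ec9f41dc15009e89f24f80ab055021c108083110c9ec4f527a13cc2ea2460b213c89e216208e84482141022770fd420649408f890c2ca4cc1b8845822610b0838404200000,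
  nat_lit 0x2d1920457cadc53a0829ac651b1360bd45686531ab88846343244ee0fe43ba2db6ee0905e7827c1dd145567856931696c83841320d92e4c8e26e844c3bd42fc7ac32f86e04027a80fd8a34f4e44210e9e98f3a2fd3cd8ee4f3215314f879c7a47982c587d4ac42bb2520af0abc1ab0a509e465014e2ad8714a6a3b00e78cec7fc1c31280be06f424b29787e082410d29714b49ba5220d21480a3e51e0d0868c34a51d24e88584261f70d78995d6ea262d69170ed44c71ae1c7981edbf22222146868f1356c3c87445397468b69a1902248bb634ddb0131a98e1e1ce4834ac096ce5a24822ac03064040d23c122d50e7ed74c933475a92352d33b90f29141ae8e8ceb820e4c80f14610b7510f8a64e0a9163f4423086abb145da354858d5b829b9dc63a23f44f8dbd13c89d08ca26872837641505c492edef16f8a28448b921b10b2903481940c205c2e82453cf855488a17319d23846d64724ed8dd5618d0837b99dd9d236611d1b7d13699540b177c95c70b43f0d3501a42b26411f101217614605a4a7c2064039c343305da16897608fe4c62ea85c851016b2ea174c236194,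
  nat_lit 0x4fbbd006729f03bdbfa5874b9d24fc02c5b036117686a45b82530b52114dd675d1e0aaa5574a020f8a7d4c7e11841a379137e69637f3cf8c9ec843919718fc8d7f10c99bd8d42511981a21fac3183178cb879c3297022ee8e9ed541c4859c91a8de22f1ccd3a23e4179921d0b418047c91ac29e1da0eb89a47963340f90b0c3aa20f160a87455c5f016b0cad3403267db1854c625931d519609b45944cd0848cba3010cb086d24856323b99703081c848f06b07be2a51691e185aa14b0a82624632a62254937069c4d628e1824b4498315d0e78c8c64509586187f86432cb0ccccda66c2b81920cd218f16719a025e66731909e062826f187953c26a2eb1db91f82521331c19539e5f08b2fb91a0ca87884218ba177696d3551b714586f21a3b5b072462e4220bfd96efd161cc3ac4e8a5c37fa9ec536e6253a9cfcd94c0c537a3ad8e86838431a804724c983d41587b64564b71135e3a8c5255109083a60217705b4c005a7090848c25a5ff0e48c5c71e7c62691fd84aeaee5b7b5159ec87241e1d083785b3269a8cd2ce7164ebb7f449e11c70d9a4549699f25f96c15ba99b,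
  nat_lit 0x11e8c9456a23e6272a192c23965158ef43d09f912d1f1c71c5f81e10ae1082f642e097ccbe421120717b51c04155620aac59683941c050455227713222f0bdcc8241aa96d3be1480e386c4d242c71a41ed1e54941666a6007904e04ffa8fcab035f1e52d78ffe3e387222b85f630e627a0c5b4af5c0e206b466e36e2b6121451697c3bf0dd0d023ff167864105c26a20f265976c62a865a9f19646c8267131164840b487a2661ee8655fca1f0c14d7611690cc45e1971158878220ac264417b09ae8592470eb02984ba3309b0479efd02d207482de254164936431434913e85106204e72c712782b24732c5084026e88d2410fbc7e24a01f292b524c69b86a2fc61c24533e7ae80e303d63bba0ccde26ef377050036a2681ea12cc2842c209f051c804496113ab3d8542b66a2314c9ca1d148109c8d50aae0ae1a4cdd81317813ec831a55a0e59e3507e2b30dc91b46583642eeb32ce32ac57c0093444a9082c80db60dc30611a0a887182312b293904165dc82d964447062b15b976e16222820b1728c6a12717518d044063330c1018c2637e0e09848c221253083530480a98,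
  nat_lit 0x4283f655d495d75225391f8d695962e096da96f365bbad84c8462759fa48cc15d3f1856c29241712388b87043732dc36e4fa27f70dbb7304889e43063454c36b31138beb9ea88f5204920057e4bb28b0699b8e61a6089d845f24c10e98b784a43da1198fc86448a41318c4462629c14f0a1504cde16f027983c0b0f48e377502819c0d10dc1fb692c4a49994efa3388271adcd6618b0bd84e427a1fe4e7092841a3a60df0e103a8ae02bc89789b671d1e687e86463f357f95d951a2f471bb488c4cf9c273228c3ca3773fa8df43668ea1c4308190c34577ca3696b837812a8868e5030737c3478aea47b1ce1c40af070e0f10c356f22622628f74d447381f08f1cb787a21b511a9cca4315df11d164ca060d413516384191d904d9ce84b1133b93515688e46ebd1d1cc7da7803f3dce661c30caf6083662420e2c88e82f9539d86c096e979211a9f44ec459158078d5d830514b0aa063649c2e404d093698a5b920948a41f03df93609584a15802af9f410f675cbe9481e4100d027f95784543690d5897af1a0c71de1d3e48f68b2d7c92292e5f140c944ecb31febab03f22f0,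
  nat_lit 0x8780f4cf4056b17210b4e408cb2311f80dea34461d9ef8fbec141c312d876618320291420f062017ba6188f24361e616f49783ed4a196ec8346d343a8b0033a3d10dd918545cdec2b7a1806a239110391744522093fe1c00ff442e2450eb9f1c78e46b22ccd323eb11a8d00a28512184943c2dc50e2869b955d27391791d49ce0d1418192654d50be481c09537a33c2e89cc15fad027272855e9cbeb5b305fcd342816bc0d054cb050196bfe4e6e9533dea3c875e41336c21384604982b98e34eae6db1eb92953e22e9274928c768b0e267c024d00985148c3d53ca9471a542905ae4936ddb4d157651823d31a5b0c395147a89466a4af14a12688c67f03f78f88fd82233f59ff887c1df1680621250c7e4e69839bae3903e02d3600a44643641f0ada69c6199da064227314387cc74ea146c12695780e564549934faa5112420a0916441f18f23b14004496a438d45c675f0bba2556dc146219370d3de9a414c073934cca31860d6476a428729a7748ea2e23e218a604287d4a1112cf9c555879b4717f8ad22e69299954b60682101c5ca85f25a9aacdba39b20c08508b6d5d,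
  nat_lit 0x4433c8489828946b9a5d60c5c54ca0f4032633117b0c7074a46717609394a25b77f436407cc7a517387a8e3ed3f42a90883541db25935721924a819e880d81c5cc5c61978dfa23714aa18d91e18914809984c094c3c209645063a04959b182f26c236b9b504445741d08c0833c286156155c59ad2051490206d0c5109da939218907483060438017d5889dac400a8826f06318c219121d0efc43044a425b15d004f6f6d40975aa03b83d81ebc33235e3de10f43367b63da87d83f856429c13a868c5190f48f005082dd10107ac3a030018fc30c44c39d11537407167021950d408401d83930b2054e42517d23fcb5e9644340961dbe2932bd1d943e8d0d795a33087e414318170d3e68a53a4bc35278a463c79e408c04001358eacce0608258307176a6715490790f70bc73e49f20e98c1f82606b90d64651cbb815e650ee3ec8f653982800bc13c1c2083e1621085e0c1ef4808cd85c22e05720fe1928ccc1ad16ac70056a7ed100c24c9c238e268da4e39a18b0e912f64486d8b8b96aedc173322d039a23c77e24157f65370db19d12eeead397a8f4852d3569b237e0624ef,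
  nat_lit 0x2021169b40f920c93615ee8b092379f307b0bf55a4b2e47c06e73ba90e458a5a631606fde2f0f458211013ce9cf4e042bde8a6a71f48fc1de47361aac2e4ed839825c11c13a06bc1a5aced3a4b6526fa7044fcaa739e1e588c84a711b0fb04983fb0e611618e66522060ef87783c3522427089c4261dd8d495f63b651f249d41c489244359c9a038565121783cd0927ea25151fcd7c6148d51e7ebcb6162f2082263b19391049c220c2602e21a7694415ea3be1ba48c234af415564c3600b31d89244f839286d47882c4c388704dc7913a407849250ed14b938da205c965019385342c67a8bb998ac2a486f0e647143158210d6039439321789244da1ec2d428a92eaaeb25f26108d8ae24fec05884ea6b8669885ec07d213ab6109a27a33d0869c29a43b2fe06e878c63d21a0f117e6f8a22384c112cd186941c1c42a3651b18d9c98423b1491f843ac217521a5586d26e445e90a8d7027b1382aa8e4e3e81b640d9af495468eac5919c6c9325b83cca24ab450a5c86142cc15685f040a20437b0cc965698212f8d3135e5f52712fbc8783e70f71a35e306a961a0fe9d66888,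
  nat_lit 0x38b9c54e287133891c44e1e70c3851c24e107063821c0ce026fc37d9be8df26f43799bc0dd46e93731b8cdc46e13701b78db46d936b1b54da26d03679b38d9a6cc3639b14d886c33601afcd7c6bd35d9ae8d726b535a1ac8d626b03579ab8d4a6a33509a7cd3c69d34c1a54d286903479a38d1868b3451a24d0e6863429a10d0467f33f19f4cf867b33d19e4cf067633a99ccce466e33599a8ccc6633311980cb665a32c995ccac6553281930c946493239910c8464031f18f0c7463931c18dcc6c6283139894c4661f30f1874c2e61630a183cc166073031814c0860330097f8bfa5fb2fd17e4bec5f42f797a8bd25e62f11784bc05de2ec975cbac5d22e8173cb9c5cb2e39710b845c02df96f8b745b92db16d0b625ae2d616a4b4a5a12d0167cb3a59c2cd1660b2e5952c79630b105872c31610b045812bf95f8afa5772b915c4adc5682b39598ac25602af9574ab85592ab1550aa65522a89540a9a54c2a59528a905442a094fca7a53c29d94d8a6853329914c4a6052a29494a0a4652128d145ca265102851420a0650228094009fa4fc27b93b49d843821b90c067c1ed,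
  nat_lit 0x479a3c11dc8ed474a3a11ce8e5472238d1c48dc46da3651b08d346923451a08cf466a3291928c8463a3191888c346123051808bf45f22e91728b845ba2d916a8b145822bd15a8ac45522a114e8a6451228113889744a224d124891448223d11888b445222510e884441a20910287f43da1e90f087743b21d10e687143821bd0dc86d43521a50ce86643221890c285d42e216d0b085742b21510a6852428a13d09a84c4252125090847421210107a83b41d20dd06c83241820bd05a82b414a0a104e823411208504081f40f2071036815409a04502080e406202d0148084032015008803400a000ffa7fb3fc9fe0fe87f23f89fb8fd47e73f31f94fc47de3ee9f70fb67d83eb9f58fa67d03e69f2cf947c53e19f08f827bb3dd1ee4f6e7b33d91ec4f5c7ad3d59ea8f527a43cf1e70f347973ca9e4cf2478b3c51e24f0e7853c19e08f027803bf9df0ef47793ba1dccee47713b81dbced27673b31d90ec67623b01d78eb675a3ac9d60eac7553aa1d4cea27503a71d34e9674a3a39d18e8a7443a19d00e7c73d39d1cd4e687323989cb8e5872b3951ca4e4a7243911c84e3671a,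
  nat_lit 0x54aaa51526a915482a3d51ca8c545aa29512a855422a0d504a8154029fd4fca7a53ca9e14eea76539a9c94e2a7053729b14d2a68533a9994c8a63530a9814bca5d52ca9614aea5652aa9514a6a52528293d49aa4c5252925490a47522a909482a4051da8e9472a3851ba8d946aa3451928c5460a2f516a8a1446a22510a88143ea1e50e2869432a1850ba859426a12508a84141ea0d506282d414a09504281d40aa04501a8053f89fb4fd27e13ec9f44f927b93da9ec4f5a7a93d29e84f1a7893c09de4ed27653b09d64eaa7513a69cb4e527253909c74e327153889c34df26f13769ba4dca6e136e9b64daa6d13669b24d8a6c135c9ad4d626ad3549a94d4269d3449a14cf26753389994cc265d3269924c7a63931a98c4c5a62130297f4bf25f52f49784bb25d12e69714b825b12d696a4b4a5a12cc9654b1a5892c095f4af25712b695a4aca55d2aa9524a8a54129e94b4a5252128c94049fa4f927a93b49ca4e126e93649aa4d1266932498a4c125e92d494a495244921490247d23a91b48d2465230915489a449222910487243521490948224011fa8fb47d23e11ec8f4,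
  nat_lit 0x5f42f9d7ccbe55f22f8d7c2be05efaf797babdc5edaf697b2bd75eb2f557a8bd35e92f4579ebce5e6af31794bc95e32f15788bc35e12f0577ebbd5de2ee5770bb75da2ecd764bb05d7aeb975abac5d5aea9752ba85d3ae9974aba45d1ae89742b9e5ce2e6d734b995cc2e5d72cb955ca2e45720b8f5c72e35716b8a5c4ae1d70cb855c22e0d702b805bfadf96fab7c5bdade96f0b775bb2dd16e6b715b82db16d6b6a5b4ada16ceb645b1ad896c2b5d5adad696b2b585ab2d556a8b535a92d456a0b4f5a72d31696b4a5a42d1d68cb455a22d0d684b415a02cfd67cb3d59d2ce5670b3759b2cd5668b335992cc165eb2e596aca9652b28593ac95646b215902c7d63cb1d58dac65630b1758aac51626b125882c35616b0a5842c1d60ab035812c055fcafc57d2be55f0af757b2bd55e8af35792bc55e0aef576aba15ceae6572ab8d5c2adf56f2b6d5b4ad956c2b5d5acad556a2b4d5a2ad05672b35598acb5652b25590ac75632b0d582ac055faaf5572ab855baad956aab4559aac9562ab0557aab5558aa85532a95548aa35512a85540a9f54f2a75538a9b54d2a6552ea96,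
  nat_lit 0x69eb4f1a74d3969c34dda66d32698b4c1a5ed2e696b4b1a56d2a694b499a4ad24691b485a3ed1b68d3465a2ed136893445a1ed0e685b429a12d076833415a06d0168033fd9fccfd67e33ed9f4cf967c33dd9eacf4679b3c99e2cf0677b3b59d8ceb67533a19cece6672b3919c6ce2670b3819becde66eb3719b6cda66cb3619aecd666ab3519a6cd2668b34199ecce6653325990cc6662b311986cc2660b30197ecbe65eb2f1976cba65c32d996acb4658b2c195ecae656b2b1956ca9654329d94cca5652328593ec9e64eb271936c9a64cb26192ec9664ab24d924c91648323991ac8c645b229912c87642b20d902c8063fb1f58f8c7b63d31e58f0c7763b31c98e2c70637b1b98dac6c635b1a18cec66632b1918c6c62630317d8bcc5d62e316d8b4c5962c31558a8c526283135898c4b624311d88cc45622310d884c4162030fd87cc3d61e30e186ec3661ab0c9862c30617b0b985ac2b614309d84ac23611308583cc1d60db069832c1860bb05982ac13609304181ac0b605302580ec06602b011806c026002ffd7fcbfd5fd2fe17eebf65fa2fc97e0bee5f6afb17d4be9,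
  nat_lit 0x741ba09d02e8073fb9f9cfae7c73db9e9cf2e7873b39d5ce4e71737b9b9cdae6c735b9a9cd2e68733b991cc6e61730397dcbce5d72e396dcb4e5972c395dcaae547293945ca0e4f726392dc92e48723b919c8ae44721b909c82e4071fb8f9c7ae3c71db8e9c72e3871b38d1c66e32718b8c1c5ee2d71638adc54e29714389dc4ce25712388dc44e21710387dc3ce1d70e3869c32e1870bb859c2ae14709b849c22e0e706b831c16e0a704b821c0ee06701b809c02e006ffb7f9bf8dfb6fd37e5bf0df76fb37d5be8df36f937c5be0dee6f6b7adbd4de96f33795bc6de26efb779bb6dda6ecb761bacdd56ea374dba4dd16e7b739b9adcb6e53725b90dc66e2b711b84dc06df36f5b78dba6dc36ddb6cdb56da36cdb64db06d7b6b9b5adac6d5b6a9b52da76d33691b46da26d0b67db3cd9d6ce366db34d996cc365db2cd956ca364db24d916c7b639b18d8a6c4b621b0ed836c0b601afcd7d6bdb5e5aeed756ba35cdae4d716b835bdadcd6d6b5b5a9ad0d666b2b591ac4d616b0357dabcd5a6acb561aaed566a9b549aa2d4f6a73535a96d4a6a4b51da8cd436a13505a80d3e,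
  nat_lit 0x7ddbee9f72fb87dbbed5f68fb37d8bec1f5efad7d63eadf54fa97d43e9df4cfa47d1be89f42f9f7cf3e75f36f9a7ccbe61f2ef967ca3e4df22f907c7be35f18f8b7c4be21f0ef867c2be11f06f827c0bdfdefcf7d7be3dedef4f797bc3dddeeaf737b93dc5ee0f6e7b6bdb1ed6f6a7b4bda1ecef667b2bd8dec4f617afbd79ebaf5b7ad3d65eb0f577ab3d55ea6f527a83d3de9af4c7a5bd29e92f487a33d11e86f427a0bcf5e76f3a79cbce1e6ef3679abcd1e66f317983cb9e5af2c794bca1e4ef26792bc91e46f227903c7de3cf1c78dbc65e2cf1578a3c4de24f117883c3de1cf0c785bc29e12f08783bc15e08f03780bbfddfcefd77dbbe9df0ef777b3bd1de6ef17783bbdddceed7763ba9dd2ee8773bb95dc8ee37713b85dc0ede76ebb71db6eda76cbb61daced576a3b4dda4ed17683b3dd9cecd7663b2dd94ec97643b1dd8cec57623b0dd84ec17603afdd7cebd75e3aedd74eb875b3ad5d68eb2758bac1d5eeae755baa9d52ea8753ba99d4aea37513a85d40e9e74eba71d36e9a74c3a5dd2ce9574a3a4dd24e917483a3dd1ce8c745ba29d12e88743ba19d0ae84,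
  nat_lit 0x10f1877c3b21d50e9874439a1cb0e387143821bf0dc86dc36a1b30d886bc35a1ab0d386943461a10cf86743321950c8863c31a18b0c486143061810bf85ec2f21770ba85c42de16d0b585a42ce1650b085742b61590ab85542a61510a785342961470a2850c28213f09e84ec26e13509984c425e12d09584a424e123090847c23a11b08a844c22210f085841c20a10308083fc1fa0fb07b83cc1de0ed07583a41ce0e3070837c1b60d906b83541a60d106783341960c906383141860c105f82f41760b905a82cc1620af05582a414a0a304d825c12a093048823c11a08b044821c10608103f81f40f607903b81d40e607103781ac0d2067030817c0ba05b02c815c0aa053028813c09a049023810407e03d01d80e406e03501980c405e02b014809404602100f8074036015008803c01a0090038014006000fff7ff3ff5ff8ffb7fd3fe1feeff67fabfd1fe6ff27f8bfc1fdefee7f6bfb1fd6fea7f3bf99fcafe47f1bf89fc2fe07efbf79fbafdc7ec3f5dfaafd37e93f39f9afcc7e5bf29f92fc87e3bf19f8afc47e1bf09f82fc07dfbef9f7afbc]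
noncomputable def K : List (List (ℕ)) := [K_0]
noncomputable def R_0 : List (Rule) := [Rule.mk (nat_lit 3) (nat_lit 59) (Steps.bwd (nat_lit 4) (Steps.bwd (nat_lit 2) (Steps.fwd (nat_lit 32768) Steps.nil))) (nat_lit 168) (nat_lit 3),
  Rule.mk (nat_lit 19) (nat_lit 179) (Steps.bwd (nat_lit 3) (Steps.bwd (nat_lit 4) (Steps.fwd (nat_lit 8192) (Steps.bwd (nat_lit 2) (Steps.fwd (nat_lit 8192) (Steps.bwd (nat_lit 2) (Steps.fwd (nat_lit 8192) (Steps.fwd (nat_lit 16384) (Steps.fwd (nat_lit 8192) (Steps.fwd (nat_lit 16384) (Steps.fwd (nat_lit 8192) Steps.nil))))))))))) (nat_lit 195) (nat_lit 0),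
  Rule.mk (nat_lit 5) (nat_lit 59) (Steps.bwd (nat_lit 1) (Steps.bwd (nat_lit 4) (Steps.fwd (nat_lit 8192) Steps.nil))) (nat_lit 146) (nat_lit 0),
  Rule.mk (nat_lit 18) (nat_lit 179) (Steps.bwd (nat_lit 1) (Steps.bwd (nat_lit 3) (Steps.bwd (nat_lit 4) (Steps.fwd (nat_lit 8192) (Steps.bwd (nat_lit 2) (Steps.fwd (nat_lit 8192) (Steps.bwd (nat_lit 2) (Steps.fwd (nat_lit 8192) (Steps.fwd (nat_lit 16384) (Steps.fwd (nat_lit 8192) (Steps.fwd (nat_lit 16384) Steps.nil))))))))))) (nat_lit 192) (nat_lit 1),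
  Rule.mk (nat_lit 5) (nat_lit 59) (Steps.bwd (nat_lit 4) (Steps.fwd (nat_lit 40960) (Steps.fwd (nat_lit 32768) Steps.nil))) (nat_lit 36) (nat_lit 1),
  Rule.mk (nat_lit 1) (nat_lit 59) (Steps.bwd (nat_lit 4) (Steps.bwd (nat_lit 1) (Steps.bwd (nat_lit 5) Steps.nil))) (nat_lit 146) (nat_lit 1),
  Rule.mk (nat_lit 2) (nat_lit 179) (Steps.bwd (nat_lit 16) (Steps.fwd (nat_lit 8192) (Steps.fwd (nat_lit 16384) (Steps.fwd (nat_lit 8192) (Steps.fwd (nat_lit 16384) (Steps.fwd (nat_lit 8192) (Steps.fwd (nat_lit 16384) (Steps.fwd (nat_lit 8192) (Steps.bwd (nat_lit 2) (Steps.fwd (nat_lit 32768) (Steps.fwd (nat_lit 8192) Steps.nil))))))))))) (nat_lit 190) (nat_lit 0),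
  Rule.mk (nat_lit 4) (nat_lit 59) (Steps.bwd (nat_lit 3) (Steps.bwd (nat_lit 4) (Steps.bwd (nat_lit 2) Steps.nil))) (nat_lit 168) (nat_lit 2),
  Rule.mk (nat_lit 3) (nat_lit 44) (Steps.bwd (nat_lit 3) (Steps.bwd (nat_lit 3) Steps.nil)) (nat_lit 3) (nat_lit 0),
  Rule.mk (nat_lit 2) (nat_lit 44) (Steps.bwd (nat_lit 2) (Steps.bwd (nat_lit 2) Steps.nil)) (nat_lit 2) (nat_lit 0),
  Rule.mk (nat_lit 4) (nat_lit 59) (Steps.bwd (nat_lit 2) (Steps.fwd (nat_lit 32768) (Steps.bwd (nat_lit 3) Steps.nil))) (nat_lit 168) (nat_lit 0),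
  Rule.mk (nat_lit 5) (nat_lit 59) (Steps.bwd (nat_lit 6) (Steps.fwd (nat_lit 40960) (Steps.fwd (nat_lit 49152) Steps.nil))) (nat_lit 40) (nat_lit 0),
  Rule.mk (nat_lit 4) (nat_lit 59) (Steps.bwd (nat_lit 6) (Steps.bwd (nat_lit 4) (Steps.fwd (nat_lit 49152) Steps.nil))) (nat_lit 38) (nat_lit 0),
  Rule.mk (nat_lit 4) (nat_lit 59) (Steps.bwd (nat_lit 5) (Steps.fwd (nat_lit 32768) (Steps.fwd (nat_lit 40960) Steps.nil))) (nat_lit 36) (nat_lit 0),
  Rule.mk (nat_lit 6) (nat_lit 59) (Steps.bwd (nat_lit 5) (Steps.bwd (nat_lit 6) (Steps.fwd (nat_lit 40960) Steps.nil))) (nat_lit 40) (nat_lit 1),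
  Rule.mk (nat_lit 6) (nat_lit 59) (Steps.bwd (nat_lit 7) (Steps.bwd (nat_lit 6) (Steps.fwd (nat_lit 57344) Steps.nil))) (nat_lit 46) (nat_lit 0),
  Rule.mk (nat_lit 5) (nat_lit 59) (Steps.bwd (nat_lit 7) (Steps.fwd (nat_lit 40960) (Steps.fwd (nat_lit 57344) Steps.nil))) (nat_lit 44) (nat_lit 0),
  Rule.mk (nat_lit 7) (nat_lit 59) (Steps.bwd (nat_lit 6) (Steps.bwd (nat_lit 7) (Steps.bwd (nat_lit 6) Steps.nil))) (nat_lit 46) (nat_lit 1),
  Rule.mk (nat_lit 7) (nat_lit 59) (Steps.bwd (nat_lit 4) (Steps.fwd (nat_lit 57344) (Steps.fwd (nat_lit 32768) Steps.nil))) (nat_lit 42) (nat_lit 1),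
  Rule.mk (nat_lit 4) (nat_lit 59) (Steps.bwd (nat_lit 6) (Steps.bwd (nat_lit 4) (Steps.bwd (nat_lit 6) Steps.nil))) (nat_lit 38) (nat_lit 0),
  Rule.mk (nat_lit 7) (nat_lit 59) (Steps.bwd (nat_lit 6) (Steps.fwd (nat_lit 57344) (Steps.fwd (nat_lit 49152) Steps.nil))) (nat_lit 46) (nat_lit 1),
  Rule.mk (nat_lit 7) (nat_lit 59) (Steps.bwd (nat_lit 5) (Steps.fwd (nat_lit 57344) (Steps.fwd (nat_lit 40960) Steps.nil))) (nat_lit 44) (nat_lit 1),
  Rule.mk (nat_lit 4) (nat_lit 59) (Steps.bwd (nat_lit 6) (Steps.fwd (nat_lit 32768) (Steps.fwd (nat_lit 49152) Steps.nil))) (nat_lit 38) (nat_lit 0),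
  Rule.mk (nat_lit 5) (nat_lit 59) (Steps.bwd (nat_lit 6) (Steps.bwd (nat_lit 5) (Steps.bwd (nat_lit 6) Steps.nil))) (nat_lit 40) (nat_lit 0),
  Rule.mk (nat_lit 3) (nat_lit 89) (Steps.bwd (nat_lit 14) (Steps.fwd (nat_lit 57344) (Steps.bwd (nat_lit 4) (Steps.bwd (nat_lit 2) (Steps.fwd (nat_lit 65536) Steps.nil))))) (nat_lit 177) (nat_lit 0),
  Rule.mk (nat_lit 1) (nat_lit 89) (Steps.bwd (nat_lit 9) (Steps.fwd (nat_lit 8192) (Steps.fwd (nat_lit 32768) (Steps.bwd (nat_lit 7) (Steps.fwd (nat_lit 114688) Steps.nil))))) (nat_lit 156) (nat_lit 1),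
  Rule.mk (nat_lit 8) (nat_lit 59) (Steps.bwd (nat_lit 9) (Steps.bwd (nat_lit 8) (Steps.fwd (nat_lit 73728) Steps.nil))) (nat_lit 64) (nat_lit 0),
  Rule.mk (nat_lit 2) (nat_lit 104) (Steps.bwd (nat_lit 12) (Steps.bwd (nat_lit 3) (Steps.bwd (nat_lit 4) (Steps.fwd (nat_lit 40960) (Steps.fwd (nat_lit 65536) (Steps.fwd (nat_lit 73728) Steps.nil)))))) (nat_lit 184) (nat_lit 1),
  Rule.mk (nat_lit 4) (nat_lit 59) (Steps.bwd (nat_lit 12) (Steps.bwd (nat_lit 4) (Steps.fwd (nat_lit 98304) Steps.nil))) (nat_lit 92) (nat_lit 0),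
  Rule.mk (nat_lit 4) (nat_lit 59) (Steps.bwd (nat_lit 2) (Steps.fwd (nat_lit 32768) (Steps.fwd (nat_lit 16384) Steps.nil))) (nat_lit 168) (nat_lit 0),
  Rule.mk (nat_lit 4) (nat_lit 59) (Steps.bwd (nat_lit 9) (Steps.fwd (nat_lit 32768) (Steps.bwd (nat_lit 9) Steps.nil))) (nat_lit 56) (nat_lit 0),
  Rule.mk (nat_lit 8) (nat_lit 104) (Steps.bwd (nat_lit 9) (Steps.bwd (nat_lit 2) (Steps.bwd (nat_lit 12) (Steps.fwd (nat_lit 16384) (Steps.fwd (nat_lit 32768) (Steps.fwd (nat_lit 40960) Steps.nil)))))) (nat_lit 184) (nat_lit 6),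
  Rule.mk (nat_lit 14) (nat_lit 89) (Steps.bwd (nat_lit 2) (Steps.fwd (nat_lit 65536) (Steps.bwd (nat_lit 3) (Steps.bwd (nat_lit 4) (Steps.fwd (nat_lit 57344) Steps.nil))))) (nat_lit 176) (nat_lit 0),
  Rule.mk (nat_lit 14) (nat_lit 59) (Steps.bwd (nat_lit 7) (Steps.fwd (nat_lit 114688) (Steps.bwd (nat_lit 7) Steps.nil))) (nat_lit 132) (nat_lit 1),
  Rule.mk (nat_lit 14) (nat_lit 59) (Steps.bwd (nat_lit 9) (Steps.fwd (nat_lit 114688) (Steps.fwd (nat_lit 73728) Steps.nil))) (nat_lit 136) (nat_lit 1),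
  Rule.mk (nat_lit 14) (nat_lit 59) (Steps.bwd (nat_lit 8) (Steps.fwd (nat_lit 114688) (Steps.bwd (nat_lit 8) Steps.nil))) (nat_lit 134) (nat_lit 1),
  Rule.mk (nat_lit 8) (nat_lit 59) (Steps.bwd (nat_lit 9) (Steps.bwd (nat_lit 8) (Steps.bwd (nat_lit 9) Steps.nil))) (nat_lit 64) (nat_lit 0),
  Rule.mk (nat_lit 14) (nat_lit 59) (Steps.bwd (nat_lit 9) (Steps.fwd (nat_lit 114688) (Steps.bwd (nat_lit 9) Steps.nil))) (nat_lit 136) (nat_lit 1),
  Rule.mk (nat_lit 8) (nat_lit 59) (Steps.bwd (nat_lit 7) (Steps.fwd (nat_lit 65536) (Steps.bwd (nat_lit 7) Steps.nil))) (nat_lit 54) (nat_lit 1),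
  Rule.mk (nat_lit 7) (nat_lit 59) (Steps.bwd (nat_lit 14) (Steps.bwd (nat_lit 7) (Steps.fwd (nat_lit 114688) Steps.nil))) (nat_lit 132) (nat_lit 0),
  Rule.mk (nat_lit 8) (nat_lit 59) (Steps.bwd (nat_lit 14) (Steps.fwd (nat_lit 65536) (Steps.fwd (nat_lit 114688) Steps.nil))) (nat_lit 134) (nat_lit 0),
  Rule.mk (nat_lit 7) (nat_lit 59) (Steps.bwd (nat_lit 9) (Steps.fwd (nat_lit 57344) (Steps.fwd (nat_lit 73728) Steps.nil))) (nat_lit 62) (nat_lit 0),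
  Rule.mk (nat_lit 7) (nat_lit 59) (Steps.bwd (nat_lit 14) (Steps.fwd (nat_lit 57344) (Steps.bwd (nat_lit 14) Steps.nil))) (nat_lit 132) (nat_lit 0),
  Rule.mk (nat_lit 9) (nat_lit 59) (Steps.bwd (nat_lit 14) (Steps.bwd (nat_lit 9) (Steps.bwd (nat_lit 14) Steps.nil))) (nat_lit 136) (nat_lit 0),
  Rule.mk (nat_lit 7) (nat_lit 59) (Steps.bwd (nat_lit 8) (Steps.fwd (nat_lit 57344) (Steps.bwd (nat_lit 8) Steps.nil))) (nat_lit 54) (nat_lit 0),
  Rule.mk (nat_lit 9) (nat_lit 59) (Steps.bwd (nat_lit 8) (Steps.fwd (nat_lit 73728) (Steps.fwd (nat_lit 65536) Steps.nil))) (nat_lit 64) (nat_lit 1),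
  Rule.mk (nat_lit 7) (nat_lit 59) (Steps.bwd (nat_lit 14) (Steps.fwd (nat_lit 57344) (Steps.fwd (nat_lit 114688) Steps.nil))) (nat_lit 132) (nat_lit 0),
  Rule.mk (nat_lit 8) (nat_lit 59) (Steps.bwd (nat_lit 14) (Steps.bwd (nat_lit 8) (Steps.bwd (nat_lit 14) Steps.nil))) (nat_lit 134) (nat_lit 0),
  Rule.mk (nat_lit 9) (nat_lit 59) (Steps.bwd (nat_lit 14) (Steps.fwd (nat_lit 73728) (Steps.fwd (nat_lit 114688) Steps.nil))) (nat_lit 136) (nat_lit 0),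
  Rule.mk (nat_lit 9) (nat_lit 59) (Steps.bwd (nat_lit 6) (Steps.fwd (nat_lit 73728) (Steps.bwd (nat_lit 6) Steps.nil))) (nat_lit 60) (nat_lit 1),
  Rule.mk (nat_lit 9) (nat_lit 59) (Steps.bwd (nat_lit 7) (Steps.fwd (nat_lit 73728) (Steps.bwd (nat_lit 7) Steps.nil))) (nat_lit 62) (nat_lit 1),
  Rule.mk (nat_lit 6) (nat_lit 59) (Steps.bwd (nat_lit 14) (Steps.fwd (nat_lit 49152) (Steps.bwd (nat_lit 14) Steps.nil))) (nat_lit 130) (nat_lit 0),
  Rule.mk (nat_lit 6) (nat_lit 59) (Steps.bwd (nat_lit 9) (Steps.fwd (nat_lit 49152) (Steps.bwd (nat_lit 9) Steps.nil))) (nat_lit 60) (nat_lit 0),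
  Rule.mk (nat_lit 14) (nat_lit 59) (Steps.bwd (nat_lit 9) (Steps.bwd (nat_lit 14) (Steps.fwd (nat_lit 73728) Steps.nil))) (nat_lit 136) (nat_lit 1),
  Rule.mk (nat_lit 6) (nat_lit 59) (Steps.bwd (nat_lit 8) (Steps.fwd (nat_lit 49152) (Steps.bwd (nat_lit 8) Steps.nil))) (nat_lit 52) (nat_lit 0),
  Rule.mk (nat_lit 6) (nat_lit 59) (Steps.bwd (nat_lit 14) (Steps.fwd (nat_lit 49152) (Steps.fwd (nat_lit 114688) Steps.nil))) (nat_lit 130) (nat_lit 0),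
  Rule.mk (nat_lit 8) (nat_lit 59) (Steps.bwd (nat_lit 14) (Steps.bwd (nat_lit 8) (Steps.fwd (nat_lit 114688) Steps.nil))) (nat_lit 134) (nat_lit 0),
  Rule.mk (nat_lit 6) (nat_lit 59) (Steps.bwd (nat_lit 9) (Steps.fwd (nat_lit 49152) (Steps.fwd (nat_lit 73728) Steps.nil))) (nat_lit 60) (nat_lit 0),
  Rule.mk (nat_lit 8) (nat_lit 59) (Steps.bwd (nat_lit 9) (Steps.fwd (nat_lit 65536) (Steps.bwd (nat_lit 9) Steps.nil))) (nat_lit 64) (nat_lit 0),
  Rule.mk (nat_lit 6) (nat_lit 59) (Steps.bwd (nat_lit 7) (Steps.fwd (nat_lit 49152) (Steps.bwd (nat_lit 7) Steps.nil))) (nat_lit 46) (nat_lit 0),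
  Rule.mk (nat_lit 7) (nat_lit 59) (Steps.bwd (nat_lit 14) (Steps.bwd (nat_lit 7) (Steps.bwd (nat_lit 14) Steps.nil))) (nat_lit 132) (nat_lit 0),
  Rule.mk (nat_lit 8) (nat_lit 59) (Steps.fwd (nat_lit 57344) (Steps.bwd (nat_lit 8) (Steps.bwd (nat_lit 7) Steps.nil))) (nat_lit 54) (nat_lit 1),
  Rule.mk (nat_lit 7) (nat_lit 59) (Steps.bwd (nat_lit 9) (Steps.fwd (nat_lit 57344) (Steps.bwd (nat_lit 9) Steps.nil))) (nat_lit 62) (nat_lit 0),
  Rule.mk (nat_lit 6) (nat_lit 59) (Steps.bwd (nat_lit 8) (Steps.fwd (nat_lit 49152) (Steps.fwd (nat_lit 65536) Steps.nil))) (nat_lit 52) (nat_lit 0)]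
noncomputable def R_1 : List (Rule) := [Rule.mk (nat_lit 14) (nat_lit 59) (Steps.bwd (nat_lit 8) (Steps.bwd (nat_lit 14) (Steps.fwd (nat_lit 65536) Steps.nil))) (nat_lit 134) (nat_lit 1),
  Rule.mk (nat_lit 6) (nat_lit 59) (Steps.bwd (nat_lit 4) (Steps.fwd (nat_lit 49152) (Steps.fwd (nat_lit 32768) Steps.nil))) (nat_lit 38) (nat_lit 1),
  Rule.mk (nat_lit 14) (nat_lit 59) (Steps.bwd (nat_lit 4) (Steps.fwd (nat_lit 114688) (Steps.bwd (nat_lit 4) Steps.nil))) (nat_lit 126) (nat_lit 1),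
  Rule.mk (nat_lit 4) (nat_lit 59) (Steps.bwd (nat_lit 7) (Steps.bwd (nat_lit 4) (Steps.fwd (nat_lit 57344) Steps.nil))) (nat_lit 42) (nat_lit 0),
  Rule.mk (nat_lit 14) (nat_lit 59) (Steps.bwd (nat_lit 7) (Steps.fwd (nat_lit 114688) (Steps.fwd (nat_lit 57344) Steps.nil))) (nat_lit 132) (nat_lit 1),
  Rule.mk (nat_lit 4) (nat_lit 59) (Steps.bwd (nat_lit 14) (Steps.fwd (nat_lit 32768) (Steps.bwd (nat_lit 14) Steps.nil))) (nat_lit 126) (nat_lit 0),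
  Rule.mk (nat_lit 9) (nat_lit 59) (Steps.bwd (nat_lit 14) (Steps.bwd (nat_lit 9) (Steps.fwd (nat_lit 114688) Steps.nil))) (nat_lit 136) (nat_lit 0),
  Rule.mk (nat_lit 4) (nat_lit 59) (Steps.bwd (nat_lit 8) (Steps.fwd (nat_lit 32768) (Steps.bwd (nat_lit 8) Steps.nil))) (nat_lit 48) (nat_lit 0),
  Rule.mk (nat_lit 6) (nat_lit 59) (Steps.fwd (nat_lit 32768) (Steps.bwd (nat_lit 6) (Steps.bwd (nat_lit 4) Steps.nil))) (nat_lit 38) (nat_lit 1),
  Rule.mk (nat_lit 4) (nat_lit 59) (Steps.bwd (nat_lit 6) (Steps.fwd (nat_lit 32768) (Steps.bwd (nat_lit 6) Steps.nil))) (nat_lit 38) (nat_lit 0),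
  Rule.mk (nat_lit 8) (nat_lit 59) (Steps.bwd (nat_lit 6) (Steps.fwd (nat_lit 65536) (Steps.bwd (nat_lit 6) Steps.nil))) (nat_lit 52) (nat_lit 1),
  Rule.mk (nat_lit 9) (nat_lit 59) (Steps.bwd (nat_lit 6) (Steps.bwd (nat_lit 9) (Steps.fwd (nat_lit 49152) Steps.nil))) (nat_lit 60) (nat_lit 1),
  Rule.mk (nat_lit 8) (nat_lit 59) (Steps.bwd (nat_lit 14) (Steps.fwd (nat_lit 65536) (Steps.bwd (nat_lit 14) Steps.nil))) (nat_lit 134) (nat_lit 0),
  Rule.mk (nat_lit 8) (nat_lit 59) (Steps.bwd (nat_lit 9) (Steps.fwd (nat_lit 65536) (Steps.fwd (nat_lit 73728) Steps.nil))) (nat_lit 64) (nat_lit 0),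
  Rule.mk (nat_lit 4) (nat_lit 59) (Steps.bwd (nat_lit 7) (Steps.fwd (nat_lit 32768) (Steps.fwd (nat_lit 57344) Steps.nil))) (nat_lit 42) (nat_lit 0),
  Rule.mk (nat_lit 4) (nat_lit 59) (Steps.bwd (nat_lit 14) (Steps.fwd (nat_lit 32768) (Steps.fwd (nat_lit 114688) Steps.nil))) (nat_lit 126) (nat_lit 0),
  Rule.mk (nat_lit 4) (nat_lit 59) (Steps.bwd (nat_lit 9) (Steps.fwd (nat_lit 32768) (Steps.fwd (nat_lit 73728) Steps.nil))) (nat_lit 56) (nat_lit 0),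
  Rule.mk (nat_lit 8) (nat_lit 59) (Steps.bwd (nat_lit 6) (Steps.fwd (nat_lit 65536) (Steps.fwd (nat_lit 49152) Steps.nil))) (nat_lit 52) (nat_lit 1),
  Rule.mk (nat_lit 8) (nat_lit 89) (Steps.bwd (nat_lit 3) (Steps.fwd (nat_lit 32768) (Steps.bwd (nat_lit 7) (Steps.fwd (nat_lit 114688) (Steps.fwd (nat_lit 24576) Steps.nil))))) (nat_lit 176) (nat_lit 2),
  Rule.mk (nat_lit 6) (nat_lit 59) (Steps.bwd (nat_lit 14) (Steps.bwd (nat_lit 6) (Steps.bwd (nat_lit 14) Steps.nil))) (nat_lit 130) (nat_lit 0),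
  Rule.mk (nat_lit 7) (nat_lit 89) (Steps.bwd (nat_lit 14) (Steps.fwd (nat_lit 24576) (Steps.fwd (nat_lit 65536) (Steps.bwd (nat_lit 3) (Steps.bwd (nat_lit 4) Steps.nil))))) (nat_lit 176) (nat_lit 5),
  Rule.mk (nat_lit 8) (nat_lit 89) (Steps.bwd (nat_lit 3) (Steps.fwd (nat_lit 32768) (Steps.fwd (nat_lit 57344) (Steps.fwd (nat_lit 114688) (Steps.bwd (nat_lit 2) Steps.nil))))) (nat_lit 176) (nat_lit 2),
  Rule.mk (nat_lit 8) (nat_lit 59) (Steps.bwd (nat_lit 12) (Steps.fwd (nat_lit 65536) (Steps.bwd (nat_lit 12) Steps.nil))) (nat_lit 100) (nat_lit 0),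
  Rule.mk (nat_lit 14) (nat_lit 89) (Steps.bwd (nat_lit 2) (Steps.fwd (nat_lit 65536) (Steps.bwd (nat_lit 3) (Steps.bwd (nat_lit 4) (Steps.bwd (nat_lit 7) Steps.nil))))) (nat_lit 176) (nat_lit 0),
  Rule.mk (nat_lit 5) (nat_lit 59) (Steps.fwd (nat_lit 114688) (Steps.bwd (nat_lit 5) (Steps.bwd (nat_lit 14) Steps.nil))) (nat_lit 128) (nat_lit 0),
  Rule.mk (nat_lit 9) (nat_lit 59) (Steps.bwd (nat_lit 5) (Steps.fwd (nat_lit 73728) (Steps.fwd (nat_lit 40960) Steps.nil))) (nat_lit 58) (nat_lit 1),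
  Rule.mk (nat_lit 5) (nat_lit 59) (Steps.bwd (nat_lit 8) (Steps.bwd (nat_lit 5) (Steps.bwd (nat_lit 8) Steps.nil))) (nat_lit 50) (nat_lit 0),
  Rule.mk (nat_lit 5) (nat_lit 59) (Steps.bwd (nat_lit 14) (Steps.fwd (nat_lit 40960) (Steps.bwd (nat_lit 14) Steps.nil))) (nat_lit 128) (nat_lit 0),
  Rule.mk (nat_lit 5) (nat_lit 59) (Steps.bwd (nat_lit 9) (Steps.fwd (nat_lit 40960) (Steps.bwd (nat_lit 9) Steps.nil))) (nat_lit 58) (nat_lit 0),
  Rule.mk (nat_lit 8) (nat_lit 59) (Steps.fwd (nat_lit 40960) (Steps.bwd (nat_lit 8) (Steps.bwd (nat_lit 5) Steps.nil))) (nat_lit 50) (nat_lit 1),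
  Rule.mk (nat_lit 9) (nat_lit 59) (Steps.bwd (nat_lit 8) (Steps.bwd (nat_lit 9) (Steps.fwd (nat_lit 65536) Steps.nil))) (nat_lit 64) (nat_lit 1),
  Rule.mk (nat_lit 14) (nat_lit 59) (Steps.bwd (nat_lit 8) (Steps.fwd (nat_lit 114688) (Steps.fwd (nat_lit 65536) Steps.nil))) (nat_lit 134) (nat_lit 1),
  Rule.mk (nat_lit 12) (nat_lit 104) (Steps.bwd (nat_lit 3) (Steps.fwd (nat_lit 73728) (Steps.fwd (nat_lit 65536) (Steps.fwd (nat_lit 40960) (Steps.bwd (nat_lit 4) (Steps.fwd (nat_lit 24576) Steps.nil)))))) (nat_lit 185) (nat_lit 6),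
  Rule.mk (nat_lit 12) (nat_lit 59) (Steps.bwd (nat_lit 8) (Steps.fwd (nat_lit 98304) (Steps.fwd (nat_lit 65536) Steps.nil))) (nat_lit 100) (nat_lit 1),
  Rule.mk (nat_lit 5) (nat_lit 59) (Steps.bwd (nat_lit 7) (Steps.fwd (nat_lit 40960) (Steps.bwd (nat_lit 7) Steps.nil))) (nat_lit 44) (nat_lit 0),
  Rule.mk (nat_lit 5) (nat_lit 59) (Steps.bwd (nat_lit 14) (Steps.fwd (nat_lit 40960) (Steps.fwd (nat_lit 114688) Steps.nil))) (nat_lit 128) (nat_lit 0),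
  Rule.mk (nat_lit 5) (nat_lit 59) (Steps.bwd (nat_lit 9) (Steps.fwd (nat_lit 40960) (Steps.fwd (nat_lit 73728) Steps.nil))) (nat_lit 58) (nat_lit 0),
  Rule.mk (nat_lit 5) (nat_lit 59) (Steps.bwd (nat_lit 8) (Steps.fwd (nat_lit 40960) (Steps.fwd (nat_lit 65536) Steps.nil))) (nat_lit 50) (nat_lit 0),
  Rule.mk (nat_lit 9) (nat_lit 59) (Steps.bwd (nat_lit 8) (Steps.bwd (nat_lit 9) (Steps.bwd (nat_lit 8) Steps.nil))) (nat_lit 64) (nat_lit 1),
  Rule.mk (nat_lit 1) (nat_lit 89) (Steps.fwd (nat_lit 114688) (Steps.bwd (nat_lit 7) (Steps.fwd (nat_lit 32768) (Steps.fwd (nat_lit 8192) (Steps.bwd (nat_lit 9) Steps.nil))))) (nat_lit 157) (nat_lit 0),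
  Rule.mk (nat_lit 9) (nat_lit 59) (Steps.bwd (nat_lit 4) (Steps.fwd (nat_lit 73728) (Steps.fwd (nat_lit 32768) Steps.nil))) (nat_lit 56) (nat_lit 1),
  Rule.mk (nat_lit 1) (nat_lit 59) (Steps.bwd (nat_lit 4) (Steps.bwd (nat_lit 1) (Steps.fwd (nat_lit 40960) Steps.nil))) (nat_lit 146) (nat_lit 1),
  Rule.mk (nat_lit 3) (nat_lit 104) (Steps.bwd (nat_lit 4) (Steps.fwd (nat_lit 40960) (Steps.bwd (nat_lit 8) (Steps.bwd (nat_lit 9) (Steps.fwd (nat_lit 24576) (Steps.bwd (nat_lit 12) Steps.nil)))))) (nat_lit 184) (nat_lit 3),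
  Rule.mk (nat_lit 4) (nat_lit 59) (Steps.bwd (nat_lit 5) (Steps.fwd (nat_lit 32768) (Steps.bwd (nat_lit 5) Steps.nil))) (nat_lit 36) (nat_lit 0),
  Rule.mk (nat_lit 8) (nat_lit 59) (Steps.bwd (nat_lit 5) (Steps.fwd (nat_lit 65536) (Steps.bwd (nat_lit 5) Steps.nil))) (nat_lit 50) (nat_lit 1),
  Rule.mk (nat_lit 13) (nat_lit 104) (Steps.bwd (nat_lit 1) (Steps.fwd (nat_lit 32768) (Steps.fwd (nat_lit 40960) (Steps.bwd (nat_lit 8) (Steps.fwd (nat_lit 73728) (Steps.fwd (nat_lit 8192) Steps.nil)))))) (nat_lit 164) (nat_lit 2),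
  Rule.mk (nat_lit 13) (nat_lit 59) (Steps.bwd (nat_lit 14) (Steps.fwd (nat_lit 106496) (Steps.bwd (nat_lit 14) Steps.nil))) (nat_lit 144) (nat_lit 0),
  Rule.mk (nat_lit 7) (nat_lit 104) (Steps.bwd (nat_lit 3) (Steps.fwd (nat_lit 114688) (Steps.fwd (nat_lit 106496) (Steps.fwd (nat_lit 57344) (Steps.bwd (nat_lit 5) (Steps.fwd (nat_lit 24576) Steps.nil)))))) (nat_lit 175) (nat_lit 6),
  Rule.mk (nat_lit 7) (nat_lit 59) (Steps.bwd (nat_lit 12) (Steps.fwd (nat_lit 57344) (Steps.fwd (nat_lit 98304) Steps.nil))) (nat_lit 98) (nat_lit 0),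
  Rule.mk (nat_lit 8) (nat_lit 59) (Steps.bwd (nat_lit 12) (Steps.bwd (nat_lit 8) (Steps.bwd (nat_lit 12) Steps.nil))) (nat_lit 100) (nat_lit 0),
  Rule.mk (nat_lit 7) (nat_lit 59) (Steps.bwd (nat_lit 4) (Steps.fwd (nat_lit 57344) (Steps.bwd (nat_lit 4) Steps.nil))) (nat_lit 42) (nat_lit 1),
  Rule.mk (nat_lit 4) (nat_lit 59) (Steps.bwd (nat_lit 12) (Steps.bwd (nat_lit 4) (Steps.bwd (nat_lit 12) Steps.nil))) (nat_lit 92) (nat_lit 0),
  Rule.mk (nat_lit 7) (nat_lit 59) (Steps.bwd (nat_lit 12) (Steps.fwd (nat_lit 57344) (Steps.bwd (nat_lit 12) Steps.nil))) (nat_lit 98) (nat_lit 0),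
  Rule.mk (nat_lit 13) (nat_lit 59) (Steps.fwd (nat_lit 32768) (Steps.bwd (nat_lit 13) (Steps.bwd (nat_lit 4) Steps.nil))) (nat_lit 108) (nat_lit 1),
  Rule.mk (nat_lit 1) (nat_lit 59) (Steps.fwd (nat_lit 40960) (Steps.fwd (nat_lit 8192) (Steps.bwd (nat_lit 4) Steps.nil))) (nat_lit 146) (nat_lit 3),
  Rule.mk (nat_lit 4) (nat_lit 59) (Steps.bwd (nat_lit 5) (Steps.bwd (nat_lit 4) (Steps.fwd (nat_lit 40960) Steps.nil))) (nat_lit 36) (nat_lit 0),
  Rule.mk (nat_lit 8) (nat_lit 104) (Steps.bwd (nat_lit 5) (Steps.bwd (nat_lit 4) (Steps.bwd (nat_lit 1) (Steps.fwd (nat_lit 106496) (Steps.bwd (nat_lit 1) (Steps.bwd (nat_lit 9) Steps.nil)))))) (nat_lit 165) (nat_lit 2),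
  Rule.mk (nat_lit 6) (nat_lit 59) (Steps.fwd (nat_lit 65536) (Steps.bwd (nat_lit 6) (Steps.bwd (nat_lit 8) Steps.nil))) (nat_lit 52) (nat_lit 0),
  Rule.mk (nat_lit 4) (nat_lit 59) (Steps.bwd (nat_lit 8) (Steps.bwd (nat_lit 4) (Steps.bwd (nat_lit 8) Steps.nil))) (nat_lit 48) (nat_lit 0),
  Rule.mk (nat_lit 9) (nat_lit 59) (Steps.bwd (nat_lit 8) (Steps.fwd (nat_lit 73728) (Steps.bwd (nat_lit 8) Steps.nil))) (nat_lit 64) (nat_lit 1),
  Rule.mk (nat_lit 2) (nat_lit 104) (Steps.bwd (nat_lit 12) (Steps.bwd (nat_lit 3) (Steps.bwd (nat_lit 4) (Steps.bwd (nat_lit 5) (Steps.fwd (nat_lit 65536) (Steps.fwd (nat_lit 73728) Steps.nil)))))) (nat_lit 184) (nat_lit 1),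
  Rule.mk (nat_lit 4) (nat_lit 59) (Steps.bwd (nat_lit 3) (Steps.fwd (nat_lit 32768) (Steps.bwd (nat_lit 2) Steps.nil))) (nat_lit 168) (nat_lit 2),
  Rule.mk (nat_lit 12) (nat_lit 104) (Steps.bwd (nat_lit 3) (Steps.fwd (nat_lit 32768) (Steps.fwd (nat_lit 40960) (Steps.fwd (nat_lit 65536) (Steps.bwd (nat_lit 9) (Steps.bwd (nat_lit 2) Steps.nil)))))) (nat_lit 184) (nat_lit 2),
  Rule.mk (nat_lit 12) (nat_lit 59) (Steps.bwd (nat_lit 14) (Steps.fwd (nat_lit 98304) (Steps.bwd (nat_lit 14) Steps.nil))) (nat_lit 142) (nat_lit 0)]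
noncomputable def R_2 : List (Rule) := [Rule.mk (nat_lit 12) (nat_lit 59) (Steps.bwd (nat_lit 9) (Steps.fwd (nat_lit 98304) (Steps.fwd (nat_lit 73728) Steps.nil))) (nat_lit 102) (nat_lit 1),
  Rule.mk (nat_lit 12) (nat_lit 59) (Steps.bwd (nat_lit 14) (Steps.fwd (nat_lit 98304) (Steps.fwd (nat_lit 114688) Steps.nil))) (nat_lit 142) (nat_lit 0),
  Rule.mk (nat_lit 12) (nat_lit 59) (Steps.bwd (nat_lit 4) (Steps.fwd (nat_lit 98304) (Steps.bwd (nat_lit 4) Steps.nil))) (nat_lit 92) (nat_lit 1),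
  Rule.mk (nat_lit 8) (nat_lit 59) (Steps.bwd (nat_lit 4) (Steps.fwd (nat_lit 65536) (Steps.bwd (nat_lit 4) Steps.nil))) (nat_lit 48) (nat_lit 1),
  Rule.mk (nat_lit 12) (nat_lit 59) (Steps.bwd (nat_lit 4) (Steps.fwd (nat_lit 98304) (Steps.fwd (nat_lit 32768) Steps.nil))) (nat_lit 92) (nat_lit 1),
  Rule.mk (nat_lit 3) (nat_lit 104) (Steps.bwd (nat_lit 9) (Steps.bwd (nat_lit 8) (Steps.bwd (nat_lit 5) (Steps.fwd (nat_lit 32768) (Steps.fwd (nat_lit 24576) (Steps.bwd (nat_lit 12) Steps.nil)))))) (nat_lit 185) (nat_lit 0),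
  Rule.mk (nat_lit 12) (nat_lit 59) (Steps.bwd (nat_lit 9) (Steps.fwd (nat_lit 98304) (Steps.bwd (nat_lit 9) Steps.nil))) (nat_lit 102) (nat_lit 1),
  Rule.mk (nat_lit 4) (nat_lit 59) (Steps.fwd (nat_lit 98304) (Steps.fwd (nat_lit 32768) (Steps.bwd (nat_lit 12) Steps.nil))) (nat_lit 92) (nat_lit 0),
  Rule.mk (nat_lit 4) (nat_lit 59) (Steps.bwd (nat_lit 12) (Steps.fwd (nat_lit 32768) (Steps.fwd (nat_lit 98304) Steps.nil))) (nat_lit 92) (nat_lit 0),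
  Rule.mk (nat_lit 14) (nat_lit 59) (Steps.bwd (nat_lit 12) (Steps.bwd (nat_lit 14) (Steps.fwd (nat_lit 98304) Steps.nil))) (nat_lit 142) (nat_lit 1),
  Rule.mk (nat_lit 6) (nat_lit 59) (Steps.fwd (nat_lit 114688) (Steps.bwd (nat_lit 6) (Steps.bwd (nat_lit 14) Steps.nil))) (nat_lit 130) (nat_lit 0),
  Rule.mk (nat_lit 6) (nat_lit 59) (Steps.bwd (nat_lit 9) (Steps.bwd (nat_lit 6) (Steps.bwd (nat_lit 9) Steps.nil))) (nat_lit 60) (nat_lit 0),
  Rule.mk (nat_lit 7) (nat_lit 59) (Steps.bwd (nat_lit 9) (Steps.bwd (nat_lit 7) (Steps.fwd (nat_lit 73728) Steps.nil))) (nat_lit 62) (nat_lit 0),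
  Rule.mk (nat_lit 4) (nat_lit 59) (Steps.bwd (nat_lit 12) (Steps.fwd (nat_lit 32768) (Steps.bwd (nat_lit 12) Steps.nil))) (nat_lit 92) (nat_lit 0),
  Rule.mk (nat_lit 9) (nat_lit 59) (Steps.bwd (nat_lit 12) (Steps.bwd (nat_lit 9) (Steps.bwd (nat_lit 12) Steps.nil))) (nat_lit 102) (nat_lit 0),
  Rule.mk (nat_lit 14) (nat_lit 59) (Steps.bwd (nat_lit 12) (Steps.fwd (nat_lit 114688) (Steps.bwd (nat_lit 12) Steps.nil))) (nat_lit 142) (nat_lit 1),
  Rule.mk (nat_lit 4) (nat_lit 59) (Steps.bwd (nat_lit 8) (Steps.fwd (nat_lit 32768) (Steps.fwd (nat_lit 65536) Steps.nil))) (nat_lit 48) (nat_lit 0),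
  Rule.mk (nat_lit 6) (nat_lit 59) (Steps.fwd (nat_lit 114688) (Steps.fwd (nat_lit 49152) (Steps.bwd (nat_lit 14) Steps.nil))) (nat_lit 130) (nat_lit 0),
  Rule.mk (nat_lit 6) (nat_lit 59) (Steps.bwd (nat_lit 9) (Steps.bwd (nat_lit 6) (Steps.fwd (nat_lit 73728) Steps.nil))) (nat_lit 60) (nat_lit 0),
  Rule.mk (nat_lit 6) (nat_lit 59) (Steps.bwd (nat_lit 12) (Steps.bwd (nat_lit 6) (Steps.fwd (nat_lit 98304) Steps.nil))) (nat_lit 96) (nat_lit 0),
  Rule.mk (nat_lit 12) (nat_lit 59) (Steps.bwd (nat_lit 14) (Steps.bwd (nat_lit 12) (Steps.fwd (nat_lit 114688) Steps.nil))) (nat_lit 142) (nat_lit 0),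
  Rule.mk (nat_lit 12) (nat_lit 59) (Steps.bwd (nat_lit 8) (Steps.fwd (nat_lit 98304) (Steps.bwd (nat_lit 8) Steps.nil))) (nat_lit 100) (nat_lit 1),
  Rule.mk (nat_lit 4) (nat_lit 59) (Steps.bwd (nat_lit 14) (Steps.bwd (nat_lit 4) (Steps.bwd (nat_lit 14) Steps.nil))) (nat_lit 126) (nat_lit 0),
  Rule.mk (nat_lit 3) (nat_lit 119) (Steps.bwd (nat_lit 14) (Steps.fwd (nat_lit 98304) (Steps.fwd (nat_lit 57344) (Steps.fwd (nat_lit 49152) (Steps.bwd (nat_lit 5) (Steps.fwd (nat_lit 24576) (Steps.fwd (nat_lit 114688) Steps.nil))))))) (nat_lit 189) (nat_lit 0),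
  Rule.mk (nat_lit 2) (nat_lit 59) (Steps.fwd (nat_lit 32768) (Steps.bwd (nat_lit 3) (Steps.fwd (nat_lit 32768) Steps.nil))) (nat_lit 168) (nat_lit 1),
  Rule.mk (nat_lit 14) (nat_lit 119) (Steps.bwd (nat_lit 3) (Steps.fwd (nat_lit 114688) (Steps.fwd (nat_lit 98304) (Steps.bwd (nat_lit 7) (Steps.fwd (nat_lit 49152) (Steps.fwd (nat_lit 40960) (Steps.fwd (nat_lit 24576) Steps.nil))))))) (nat_lit 189) (nat_lit 7),
  Rule.mk (nat_lit 14) (nat_lit 59) (Steps.bwd (nat_lit 12) (Steps.fwd (nat_lit 114688) (Steps.fwd (nat_lit 98304) Steps.nil))) (nat_lit 142) (nat_lit 1),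
  Rule.mk (nat_lit 2) (nat_lit 59) (Steps.bwd (nat_lit 4) (Steps.bwd (nat_lit 3) (Steps.fwd (nat_lit 32768) Steps.nil))) (nat_lit 168) (nat_lit 1),
  Rule.mk (nat_lit 14) (nat_lit 59) (Steps.bwd (nat_lit 4) (Steps.bwd (nat_lit 14) (Steps.fwd (nat_lit 32768) Steps.nil))) (nat_lit 126) (nat_lit 1),
  Rule.mk (nat_lit 3) (nat_lit 59) (Steps.bwd (nat_lit 4) (Steps.fwd (nat_lit 24576) (Steps.fwd (nat_lit 32768) Steps.nil))) (nat_lit 168) (nat_lit 3),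
  Rule.mk (nat_lit 2) (nat_lit 104) (Steps.bwd (nat_lit 12) (Steps.bwd (nat_lit 3) (Steps.bwd (nat_lit 4) (Steps.bwd (nat_lit 5) (Steps.bwd (nat_lit 8) (Steps.fwd (nat_lit 73728) Steps.nil)))))) (nat_lit 184) (nat_lit 1),
  Rule.mk (nat_lit 3) (nat_lit 89) (Steps.fwd (nat_lit 32768) (Steps.bwd (nat_lit 7) (Steps.bwd (nat_lit 14) (Steps.bwd (nat_lit 2) (Steps.bwd (nat_lit 8) Steps.nil))))) (nat_lit 176) (nat_lit 3),
  Rule.mk (nat_lit 3) (nat_lit 44) (Steps.bwd (nat_lit 3) (Steps.fwd (nat_lit 16384) Steps.nil)) (nat_lit 3) (nat_lit 0),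
  Rule.mk (nat_lit 2) (nat_lit 104) (Steps.bwd (nat_lit 12) (Steps.bwd (nat_lit 3) (Steps.fwd (nat_lit 32768) (Steps.bwd (nat_lit 5) (Steps.bwd (nat_lit 8) (Steps.bwd (nat_lit 9) Steps.nil)))))) (nat_lit 184) (nat_lit 1),
  Rule.mk (nat_lit 12) (nat_lit 59) (Steps.bwd (nat_lit 14) (Steps.bwd (nat_lit 12) (Steps.bwd (nat_lit 14) Steps.nil))) (nat_lit 142) (nat_lit 0),
  Rule.mk (nat_lit 14) (nat_lit 89) (Steps.bwd (nat_lit 7) (Steps.bwd (nat_lit 4) (Steps.bwd (nat_lit 2) (Steps.fwd (nat_lit 65536) (Steps.bwd (nat_lit 3) Steps.nil))))) (nat_lit 177) (nat_lit 1),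
  Rule.mk (nat_lit 1) (nat_lit 89) (Steps.fwd (nat_lit 73728) (Steps.fwd (nat_lit 8192) (Steps.fwd (nat_lit 32768) (Steps.fwd (nat_lit 57344) (Steps.fwd (nat_lit 114688) Steps.nil))))) (nat_lit 156) (nat_lit 1),
  Rule.mk (nat_lit 1) (nat_lit 59) (Steps.fwd (nat_lit 32768) (Steps.bwd (nat_lit 1) (Steps.fwd (nat_lit 40960) Steps.nil))) (nat_lit 146) (nat_lit 1),
  Rule.mk (nat_lit 4) (nat_lit 59) (Steps.bwd (nat_lit 9) (Steps.bwd (nat_lit 4) (Steps.fwd (nat_lit 73728) Steps.nil))) (nat_lit 56) (nat_lit 0),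
  Rule.mk (nat_lit 1) (nat_lit 89) (Steps.bwd (nat_lit 9) (Steps.bwd (nat_lit 1) (Steps.fwd (nat_lit 114688) (Steps.fwd (nat_lit 57344) (Steps.bwd (nat_lit 4) Steps.nil))))) (nat_lit 157) (nat_lit 4),
  Rule.mk (nat_lit 5) (nat_lit 59) (Steps.bwd (nat_lit 1) (Steps.bwd (nat_lit 4) (Steps.bwd (nat_lit 1) Steps.nil))) (nat_lit 146) (nat_lit 0),
  Rule.mk (nat_lit 13) (nat_lit 104) (Steps.bwd (nat_lit 1) (Steps.fwd (nat_lit 32768) (Steps.bwd (nat_lit 5) (Steps.bwd (nat_lit 8) (Steps.fwd (nat_lit 73728) (Steps.bwd (nat_lit 1) Steps.nil)))))) (nat_lit 164) (nat_lit 2),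
  Rule.mk (nat_lit 13) (nat_lit 59) (Steps.bwd (nat_lit 9) (Steps.fwd (nat_lit 106496) (Steps.fwd (nat_lit 73728) Steps.nil))) (nat_lit 118) (nat_lit 1),
  Rule.mk (nat_lit 1) (nat_lit 89) (Steps.bwd (nat_lit 9) (Steps.bwd (nat_lit 1) (Steps.fwd (nat_lit 32768) (Steps.fwd (nat_lit 57344) (Steps.fwd (nat_lit 114688) Steps.nil))))) (nat_lit 156) (nat_lit 1),
  Rule.mk (nat_lit 13) (nat_lit 59) (Steps.bwd (nat_lit 8) (Steps.fwd (nat_lit 106496) (Steps.bwd (nat_lit 8) Steps.nil))) (nat_lit 116) (nat_lit 1),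
  Rule.mk (nat_lit 13) (nat_lit 59) (Steps.bwd (nat_lit 9) (Steps.fwd (nat_lit 106496) (Steps.bwd (nat_lit 9) Steps.nil))) (nat_lit 118) (nat_lit 1),
  Rule.mk (nat_lit 13) (nat_lit 59) (Steps.bwd (nat_lit 5) (Steps.fwd (nat_lit 106496) (Steps.fwd (nat_lit 40960) Steps.nil))) (nat_lit 110) (nat_lit 1),
  Rule.mk (nat_lit 13) (nat_lit 59) (Steps.bwd (nat_lit 12) (Steps.fwd (nat_lit 106496) (Steps.bwd (nat_lit 12) Steps.nil))) (nat_lit 124) (nat_lit 1),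
  Rule.mk (nat_lit 1) (nat_lit 149) (Steps.fwd (nat_lit 49152) (Steps.fwd (nat_lit 8192) (Steps.fwd (nat_lit 32768) (Steps.fwd (nat_lit 40960) (Steps.bwd (nat_lit 8) (Steps.bwd (nat_lit 9) (Steps.bwd (nat_lit 12) (Steps.bwd (nat_lit 13) (Steps.bwd (nat_lit 14) Steps.nil))))))))) (nat_lit 150) (nat_lit 1),
  Rule.mk (nat_lit 12) (nat_lit 59) (Steps.bwd (nat_lit 5) (Steps.fwd (nat_lit 98304) (Steps.bwd (nat_lit 5) Steps.nil))) (nat_lit 94) (nat_lit 1),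
  Rule.mk (nat_lit 5) (nat_lit 59) (Steps.bwd (nat_lit 13) (Steps.bwd (nat_lit 5) (Steps.fwd (nat_lit 106496) Steps.nil))) (nat_lit 110) (nat_lit 0),
  Rule.mk (nat_lit 12) (nat_lit 59) (Steps.bwd (nat_lit 13) (Steps.fwd (nat_lit 98304) (Steps.fwd (nat_lit 106496) Steps.nil))) (nat_lit 124) (nat_lit 0),
  Rule.mk (nat_lit 14) (nat_lit 149) (Steps.bwd (nat_lit 2) (Steps.fwd (nat_lit 40960) (Steps.fwd (nat_lit 16384) (Steps.fwd (nat_lit 32768) (Steps.bwd (nat_lit 5) (Steps.bwd (nat_lit 8) (Steps.bwd (nat_lit 9) (Steps.bwd (nat_lit 12) (Steps.bwd (nat_lit 13) Steps.nil))))))))) (nat_lit 170) (nat_lit 0),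
  Rule.mk (nat_lit 1) (nat_lit 149) (Steps.fwd (nat_lit 114688) (Steps.fwd (nat_lit 106496) (Steps.fwd (nat_lit 98304) (Steps.fwd (nat_lit 73728) (Steps.fwd (nat_lit 65536) (Steps.fwd (nat_lit 40960) (Steps.bwd (nat_lit 4) (Steps.fwd (nat_lit 8192) (Steps.fwd (nat_lit 49152) Steps.nil))))))))) (nat_lit 151) (nat_lit 0),
  Rule.mk (nat_lit 5) (nat_lit 59) (Steps.bwd (nat_lit 1) (Steps.fwd (nat_lit 32768) (Steps.bwd (nat_lit 1) Steps.nil))) (nat_lit 146) (nat_lit 0),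
  Rule.mk (nat_lit 1) (nat_lit 59) (Steps.fwd (nat_lit 40960) (Steps.bwd (nat_lit 1) (Steps.fwd (nat_lit 32768) Steps.nil))) (nat_lit 146) (nat_lit 3),
  Rule.mk (nat_lit 13) (nat_lit 59) (Steps.bwd (nat_lit 14) (Steps.bwd (nat_lit 13) (Steps.bwd (nat_lit 14) Steps.nil))) (nat_lit 144) (nat_lit 0),
  Rule.mk (nat_lit 5) (nat_lit 59) (Steps.bwd (nat_lit 12) (Steps.fwd (nat_lit 40960) (Steps.fwd (nat_lit 98304) Steps.nil))) (nat_lit 94) (nat_lit 0),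
  Rule.mk (nat_lit 5) (nat_lit 59) (Steps.bwd (nat_lit 13) (Steps.fwd (nat_lit 40960) (Steps.bwd (nat_lit 13) Steps.nil))) (nat_lit 110) (nat_lit 0),
  Rule.mk (nat_lit 12) (nat_lit 59) (Steps.bwd (nat_lit 13) (Steps.bwd (nat_lit 12) (Steps.fwd (nat_lit 106496) Steps.nil))) (nat_lit 124) (nat_lit 0),
  Rule.mk (nat_lit 14) (nat_lit 59) (Steps.bwd (nat_lit 13) (Steps.fwd (nat_lit 114688) (Steps.bwd (nat_lit 13) Steps.nil))) (nat_lit 144) (nat_lit 1),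
  Rule.mk (nat_lit 13) (nat_lit 59) (Steps.bwd (nat_lit 4) (Steps.fwd (nat_lit 106496) (Steps.fwd (nat_lit 32768) Steps.nil))) (nat_lit 108) (nat_lit 1),
  Rule.mk (nat_lit 4) (nat_lit 59) (Steps.bwd (nat_lit 13) (Steps.bwd (nat_lit 4) (Steps.bwd (nat_lit 13) Steps.nil))) (nat_lit 108) (nat_lit 0),
  Rule.mk (nat_lit 14) (nat_lit 59) (Steps.bwd (nat_lit 13) (Steps.bwd (nat_lit 14) (Steps.fwd (nat_lit 106496) Steps.nil))) (nat_lit 144) (nat_lit 1)]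
noncomputable def R_3 : List (Rule) := [Rule.mk (nat_lit 7) (nat_lit 59) (Steps.fwd (nat_lit 114688) (Steps.bwd (nat_lit 7) (Steps.bwd (nat_lit 14) Steps.nil))) (nat_lit 132) (nat_lit 0),
  Rule.mk (nat_lit 9) (nat_lit 59) (Steps.fwd (nat_lit 114688) (Steps.fwd (nat_lit 73728) (Steps.bwd (nat_lit 14) Steps.nil))) (nat_lit 136) (nat_lit 0),
  Rule.mk (nat_lit 5) (nat_lit 59) (Steps.bwd (nat_lit 12) (Steps.bwd (nat_lit 5) (Steps.bwd (nat_lit 12) Steps.nil))) (nat_lit 94) (nat_lit 0),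
  Rule.mk (nat_lit 13) (nat_lit 59) (Steps.bwd (nat_lit 12) (Steps.bwd (nat_lit 13) (Steps.fwd (nat_lit 98304) Steps.nil))) (nat_lit 124) (nat_lit 1),
  Rule.mk (nat_lit 1) (nat_lit 104) (Steps.bwd (nat_lit 9) (Steps.fwd (nat_lit 65536) (Steps.bwd (nat_lit 5) (Steps.fwd (nat_lit 32768) (Steps.fwd (nat_lit 8192) (Steps.bwd (nat_lit 13) Steps.nil)))))) (nat_lit 165) (nat_lit 0),
  Rule.mk (nat_lit 1) (nat_lit 59) (Steps.bwd (nat_lit 5) (Steps.bwd (nat_lit 1) (Steps.fwd (nat_lit 32768) Steps.nil))) (nat_lit 146) (nat_lit 3),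
  Rule.mk (nat_lit 1) (nat_lit 89) (Steps.fwd (nat_lit 32768) (Steps.bwd (nat_lit 7) (Steps.bwd (nat_lit 14) (Steps.bwd (nat_lit 1) (Steps.bwd (nat_lit 9) Steps.nil))))) (nat_lit 156) (nat_lit 3),
  Rule.mk (nat_lit 6) (nat_lit 59) (Steps.bwd (nat_lit 13) (Steps.bwd (nat_lit 6) (Steps.bwd (nat_lit 13) Steps.nil))) (nat_lit 112) (nat_lit 0),
  Rule.mk (nat_lit 1) (nat_lit 104) (Steps.bwd (nat_lit 13) (Steps.fwd (nat_lit 8192) (Steps.fwd (nat_lit 32768) (Steps.fwd (nat_lit 40960) (Steps.bwd (nat_lit 8) (Steps.fwd (nat_lit 73728) Steps.nil)))))) (nat_lit 164) (nat_lit 1),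
  Rule.mk (nat_lit 6) (nat_lit 59) (Steps.bwd (nat_lit 12) (Steps.fwd (nat_lit 49152) (Steps.fwd (nat_lit 98304) Steps.nil))) (nat_lit 96) (nat_lit 0),
  Rule.mk (nat_lit 6) (nat_lit 59) (Steps.bwd (nat_lit 5) (Steps.fwd (nat_lit 49152) (Steps.fwd (nat_lit 40960) Steps.nil))) (nat_lit 40) (nat_lit 1),
  Rule.mk (nat_lit 5) (nat_lit 59) (Steps.bwd (nat_lit 14) (Steps.bwd (nat_lit 5) (Steps.bwd (nat_lit 14) Steps.nil))) (nat_lit 128) (nat_lit 0),
  Rule.mk (nat_lit 5) (nat_lit 59) (Steps.bwd (nat_lit 13) (Steps.fwd (nat_lit 40960) (Steps.fwd (nat_lit 106496) Steps.nil))) (nat_lit 110) (nat_lit 0),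
  Rule.mk (nat_lit 6) (nat_lit 59) (Steps.bwd (nat_lit 13) (Steps.fwd (nat_lit 49152) (Steps.bwd (nat_lit 13) Steps.nil))) (nat_lit 112) (nat_lit 0),
  Rule.mk (nat_lit 13) (nat_lit 104) (Steps.bwd (nat_lit 1) (Steps.fwd (nat_lit 73728) (Steps.bwd (nat_lit 8) (Steps.bwd (nat_lit 5) (Steps.fwd (nat_lit 32768) (Steps.fwd (nat_lit 8192) Steps.nil)))))) (nat_lit 165) (nat_lit 6),
  Rule.mk (nat_lit 6) (nat_lit 59) (Steps.fwd (nat_lit 106496) (Steps.bwd (nat_lit 6) (Steps.bwd (nat_lit 13) Steps.nil))) (nat_lit 112) (nat_lit 0),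
  Rule.mk (nat_lit 12) (nat_lit 59) (Steps.bwd (nat_lit 13) (Steps.fwd (nat_lit 98304) (Steps.bwd (nat_lit 13) Steps.nil))) (nat_lit 124) (nat_lit 0),
  Rule.mk (nat_lit 7) (nat_lit 59) (Steps.bwd (nat_lit 13) (Steps.fwd (nat_lit 57344) (Steps.fwd (nat_lit 106496) Steps.nil))) (nat_lit 114) (nat_lit 0),
  Rule.mk (nat_lit 1) (nat_lit 89) (Steps.bwd (nat_lit 4) (Steps.fwd (nat_lit 57344) (Steps.bwd (nat_lit 14) (Steps.fwd (nat_lit 8192) (Steps.bwd (nat_lit 9) Steps.nil))))) (nat_lit 156) (nat_lit 3),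
  Rule.mk (nat_lit 13) (nat_lit 59) (Steps.bwd (nat_lit 14) (Steps.fwd (nat_lit 106496) (Steps.fwd (nat_lit 114688) Steps.nil))) (nat_lit 144) (nat_lit 0),
  Rule.mk (nat_lit 13) (nat_lit 59) (Steps.bwd (nat_lit 7) (Steps.fwd (nat_lit 106496) (Steps.fwd (nat_lit 57344) Steps.nil))) (nat_lit 114) (nat_lit 1),
  Rule.mk (nat_lit 5) (nat_lit 59) (Steps.bwd (nat_lit 1) (Steps.fwd (nat_lit 32768) (Steps.fwd (nat_lit 8192) Steps.nil))) (nat_lit 146) (nat_lit 0),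
  Rule.mk (nat_lit 5) (nat_lit 59) (Steps.bwd (nat_lit 8) (Steps.fwd (nat_lit 40960) (Steps.bwd (nat_lit 8) Steps.nil))) (nat_lit 50) (nat_lit 0),
  Rule.mk (nat_lit 9) (nat_lit 104) (Steps.bwd (nat_lit 8) (Steps.fwd (nat_lit 40960) (Steps.fwd (nat_lit 32768) (Steps.fwd (nat_lit 8192) (Steps.fwd (nat_lit 106496) (Steps.bwd (nat_lit 1) Steps.nil)))))) (nat_lit 165) (nat_lit 1),
  Rule.mk (nat_lit 1) (nat_lit 149) (Steps.bwd (nat_lit 14) (Steps.bwd (nat_lit 13) (Steps.bwd (nat_lit 12) (Steps.bwd (nat_lit 9) (Steps.bwd (nat_lit 8) (Steps.fwd (nat_lit 40960) (Steps.fwd (nat_lit 32768) (Steps.fwd (nat_lit 8192) (Steps.bwd (nat_lit 6) Steps.nil))))))))) (nat_lit 151) (nat_lit 0),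
  Rule.mk (nat_lit 1) (nat_lit 59) (Steps.bwd (nat_lit 4) (Steps.fwd (nat_lit 8192) (Steps.fwd (nat_lit 40960) Steps.nil))) (nat_lit 146) (nat_lit 1),
  Rule.mk (nat_lit 1) (nat_lit 89) (Steps.bwd (nat_lit 9) (Steps.bwd (nat_lit 1) (Steps.fwd (nat_lit 32768) (Steps.bwd (nat_lit 7) (Steps.fwd (nat_lit 114688) Steps.nil))))) (nat_lit 156) (nat_lit 1),
  Rule.mk (nat_lit 12) (nat_lit 59) (Steps.fwd (nat_lit 65536) (Steps.bwd (nat_lit 12) (Steps.bwd (nat_lit 8) Steps.nil))) (nat_lit 100) (nat_lit 1),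
  Rule.mk (nat_lit 12) (nat_lit 59) (Steps.bwd (nat_lit 9) (Steps.bwd (nat_lit 12) (Steps.fwd (nat_lit 73728) Steps.nil))) (nat_lit 102) (nat_lit 1),
  Rule.mk (nat_lit 14) (nat_lit 59) (Steps.bwd (nat_lit 9) (Steps.bwd (nat_lit 14) (Steps.bwd (nat_lit 9) Steps.nil))) (nat_lit 136) (nat_lit 1),
  Rule.mk (nat_lit 5) (nat_lit 59) (Steps.bwd (nat_lit 6) (Steps.fwd (nat_lit 40960) (Steps.bwd (nat_lit 6) Steps.nil))) (nat_lit 40) (nat_lit 0),
  Rule.mk (nat_lit 5) (nat_lit 59) (Steps.bwd (nat_lit 4) (Steps.fwd (nat_lit 40960) (Steps.bwd (nat_lit 4) Steps.nil))) (nat_lit 36) (nat_lit 1),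
  Rule.mk (nat_lit 3) (nat_lit 104) (Steps.bwd (nat_lit 4) (Steps.fwd (nat_lit 40960) (Steps.fwd (nat_lit 65536) (Steps.bwd (nat_lit 9) (Steps.bwd (nat_lit 2) (Steps.bwd (nat_lit 12) Steps.nil)))))) (nat_lit 184) (nat_lit 3),
  Rule.mk (nat_lit 2) (nat_lit 104) (Steps.bwd (nat_lit 12) (Steps.bwd (nat_lit 3) (Steps.bwd (nat_lit 9) (Steps.fwd (nat_lit 65536) (Steps.bwd (nat_lit 5) (Steps.bwd (nat_lit 4) Steps.nil)))))) (nat_lit 185) (nat_lit 5),
  Rule.mk (nat_lit 12) (nat_lit 59) (Steps.bwd (nat_lit 4) (Steps.bwd (nat_lit 12) (Steps.bwd (nat_lit 4) Steps.nil))) (nat_lit 92) (nat_lit 1),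
  Rule.mk (nat_lit 1) (nat_lit 89) (Steps.bwd (nat_lit 4) (Steps.fwd (nat_lit 57344) (Steps.fwd (nat_lit 114688) (Steps.bwd (nat_lit 1) (Steps.bwd (nat_lit 9) Steps.nil))))) (nat_lit 156) (nat_lit 3),
  Rule.mk (nat_lit 1) (nat_lit 89) (Steps.bwd (nat_lit 14) (Steps.fwd (nat_lit 57344) (Steps.fwd (nat_lit 32768) (Steps.fwd (nat_lit 8192) (Steps.bwd (nat_lit 9) Steps.nil))))) (nat_lit 157) (nat_lit 0),
  Rule.mk (nat_lit 2) (nat_lit 119) (Steps.bwd (nat_lit 14) (Steps.bwd (nat_lit 3) (Steps.bwd (nat_lit 14) (Steps.bwd (nat_lit 12) (Steps.fwd (nat_lit 57344) (Steps.bwd (nat_lit 6) (Steps.bwd (nat_lit 5) Steps.nil))))))) (nat_lit 189) (nat_lit 6),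
  Rule.mk (nat_lit 2) (nat_lit 119) (Steps.bwd (nat_lit 14) (Steps.fwd (nat_lit 16384) (Steps.bwd (nat_lit 5) (Steps.bwd (nat_lit 6) (Steps.fwd (nat_lit 57344) (Steps.bwd (nat_lit 12) (Steps.fwd (nat_lit 114688) Steps.nil))))))) (nat_lit 188) (nat_lit 1),
  Rule.mk (nat_lit 6) (nat_lit 59) (Steps.bwd (nat_lit 5) (Steps.fwd (nat_lit 49152) (Steps.bwd (nat_lit 5) Steps.nil))) (nat_lit 40) (nat_lit 1),
  Rule.mk (nat_lit 8) (nat_lit 59) (Steps.bwd (nat_lit 5) (Steps.bwd (nat_lit 8) (Steps.bwd (nat_lit 5) Steps.nil))) (nat_lit 50) (nat_lit 1),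
  Rule.mk (nat_lit 5) (nat_lit 59) (Steps.bwd (nat_lit 14) (Steps.bwd (nat_lit 5) (Steps.fwd (nat_lit 114688) Steps.nil))) (nat_lit 128) (nat_lit 0),
  Rule.mk (nat_lit 1) (nat_lit 149) (Steps.bwd (nat_lit 4) (Steps.fwd (nat_lit 40960) (Steps.fwd (nat_lit 65536) (Steps.bwd (nat_lit 9) (Steps.fwd (nat_lit 98304) (Steps.bwd (nat_lit 13) (Steps.bwd (nat_lit 14) (Steps.fwd (nat_lit 8192) (Steps.bwd (nat_lit 6) Steps.nil))))))))) (nat_lit 150) (nat_lit 3),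
  Rule.mk (nat_lit 1) (nat_lit 59) (Steps.fwd (nat_lit 32768) (Steps.fwd (nat_lit 8192) (Steps.bwd (nat_lit 5) Steps.nil))) (nat_lit 146) (nat_lit 1),
  Rule.mk (nat_lit 13) (nat_lit 59) (Steps.bwd (nat_lit 6) (Steps.fwd (nat_lit 106496) (Steps.fwd (nat_lit 49152) Steps.nil))) (nat_lit 112) (nat_lit 1),
  Rule.mk (nat_lit 1) (nat_lit 149) (Steps.bwd (nat_lit 14) (Steps.fwd (nat_lit 106496) (Steps.fwd (nat_lit 98304) (Steps.bwd (nat_lit 9) (Steps.bwd (nat_lit 8) (Steps.bwd (nat_lit 5) (Steps.fwd (nat_lit 32768) (Steps.fwd (nat_lit 8192) (Steps.fwd (nat_lit 49152) Steps.nil))))))))) (nat_lit 151) (nat_lit 0),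
  Rule.mk (nat_lit 1) (nat_lit 149) (Steps.fwd (nat_lit 114688) (Steps.fwd (nat_lit 106496) (Steps.fwd (nat_lit 98304) (Steps.bwd (nat_lit 9) (Steps.fwd (nat_lit 65536) (Steps.bwd (nat_lit 5) (Steps.bwd (nat_lit 4) (Steps.bwd (nat_lit 1) (Steps.fwd (nat_lit 49152) Steps.nil))))))))) (nat_lit 151) (nat_lit 0),
  Rule.mk (nat_lit 6) (nat_lit 59) (Steps.bwd (nat_lit 12) (Steps.fwd (nat_lit 49152) (Steps.bwd (nat_lit 12) Steps.nil))) (nat_lit 96) (nat_lit 0),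
  Rule.mk (nat_lit 13) (nat_lit 59) (Steps.bwd (nat_lit 12) (Steps.fwd (nat_lit 106496) (Steps.fwd (nat_lit 98304) Steps.nil))) (nat_lit 124) (nat_lit 1),
  Rule.mk (nat_lit 3) (nat_lit 104) (Steps.bwd (nat_lit 14) (Steps.fwd (nat_lit 106496) (Steps.bwd (nat_lit 7) (Steps.bwd (nat_lit 5) (Steps.fwd (nat_lit 24576) (Steps.bwd (nat_lit 7) Steps.nil)))))) (nat_lit 175) (nat_lit 0),
  Rule.mk (nat_lit 2) (nat_lit 104) (Steps.fwd (nat_lit 98304) (Steps.bwd (nat_lit 3) (Steps.fwd (nat_lit 32768) (Steps.bwd (nat_lit 5) (Steps.fwd (nat_lit 65536) (Steps.fwd (nat_lit 73728) Steps.nil)))))) (nat_lit 184) (nat_lit 1),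
  Rule.mk (nat_lit 1) (nat_lit 104) (Steps.fwd (nat_lit 32768) (Steps.bwd (nat_lit 5) (Steps.fwd (nat_lit 65536) (Steps.fwd (nat_lit 73728) (Steps.fwd (nat_lit 8192) (Steps.bwd (nat_lit 13) Steps.nil)))))) (nat_lit 164) (nat_lit 3),
  Rule.mk (nat_lit 5) (nat_lit 149) (Steps.bwd (nat_lit 3) (Steps.bwd (nat_lit 14) (Steps.fwd (nat_lit 106496) (Steps.fwd (nat_lit 98304) (Steps.bwd (nat_lit 9) (Steps.bwd (nat_lit 8) (Steps.fwd (nat_lit 40960) (Steps.bwd (nat_lit 4) (Steps.fwd (nat_lit 24576) Steps.nil))))))))) (nat_lit 171) (nat_lit 9),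
  Rule.mk (nat_lit 12) (nat_lit 59) (Steps.fwd (nat_lit 40960) (Steps.fwd (nat_lit 98304) (Steps.bwd (nat_lit 5) Steps.nil))) (nat_lit 94) (nat_lit 1),
  Rule.mk (nat_lit 3) (nat_lit 104) (Steps.bwd (nat_lit 4) (Steps.bwd (nat_lit 5) (Steps.bwd (nat_lit 8) (Steps.bwd (nat_lit 9) (Steps.fwd (nat_lit 24576) (Steps.bwd (nat_lit 12) Steps.nil)))))) (nat_lit 184) (nat_lit 3),
  Rule.mk (nat_lit 2) (nat_lit 89) (Steps.fwd (nat_lit 65536) (Steps.bwd (nat_lit 3) (Steps.bwd (nat_lit 4) (Steps.bwd (nat_lit 7) (Steps.fwd (nat_lit 114688) Steps.nil))))) (nat_lit 176) (nat_lit 1),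
  Rule.mk (nat_lit 12) (nat_lit 59) (Steps.bwd (nat_lit 5) (Steps.bwd (nat_lit 12) (Steps.bwd (nat_lit 5) Steps.nil))) (nat_lit 94) (nat_lit 1),
  Rule.mk (nat_lit 14) (nat_lit 59) (Steps.bwd (nat_lit 5) (Steps.fwd (nat_lit 114688) (Steps.bwd (nat_lit 5) Steps.nil))) (nat_lit 128) (nat_lit 1),
  Rule.mk (nat_lit 3) (nat_lit 119) (Steps.bwd (nat_lit 5) (Steps.fwd (nat_lit 49152) (Steps.bwd (nat_lit 7) (Steps.bwd (nat_lit 12) (Steps.fwd (nat_lit 114688) (Steps.bwd (nat_lit 2) (Steps.bwd (nat_lit 14) Steps.nil))))))) (nat_lit 188) (nat_lit 3),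
  Rule.mk (nat_lit 3) (nat_lit 44) (Steps.fwd (nat_lit 16384) (Steps.bwd (nat_lit 3) Steps.nil)) (nat_lit 3) (nat_lit 0),
  Rule.mk (nat_lit 5) (nat_lit 59) (Steps.bwd (nat_lit 13) (Steps.bwd (nat_lit 5) (Steps.bwd (nat_lit 13) Steps.nil))) (nat_lit 110) (nat_lit 0),
  Rule.mk (nat_lit 6) (nat_lit 59) (Steps.bwd (nat_lit 13) (Steps.fwd (nat_lit 49152) (Steps.fwd (nat_lit 106496) Steps.nil))) (nat_lit 112) (nat_lit 0),
  Rule.mk (nat_lit 4) (nat_lit 59) (Steps.bwd (nat_lit 1) (Steps.fwd (nat_lit 40960) (Steps.bwd (nat_lit 1) Steps.nil))) (nat_lit 146) (nat_lit 2),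
  Rule.mk (nat_lit 8) (nat_lit 104) (Steps.bwd (nat_lit 1) (Steps.fwd (nat_lit 40960) (Steps.fwd (nat_lit 57344) (Steps.fwd (nat_lit 106496) (Steps.fwd (nat_lit 114688) (Steps.fwd (nat_lit 8192) Steps.nil)))))) (nat_lit 154) (nat_lit 2)]
noncomputable def R_4 : List (Rule) := [Rule.mk (nat_lit 7) (nat_lit 59) (Steps.bwd (nat_lit 13) (Steps.bwd (nat_lit 7) (Steps.bwd (nat_lit 13) Steps.nil))) (nat_lit 114) (nat_lit 0),
  Rule.mk (nat_lit 1) (nat_lit 104) (Steps.bwd (nat_lit 13) (Steps.fwd (nat_lit 8192) (Steps.fwd (nat_lit 32768) (Steps.fwd (nat_lit 40960) (Steps.fwd (nat_lit 65536) (Steps.bwd (nat_lit 9) Steps.nil)))))) (nat_lit 164) (nat_lit 1),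
  Rule.mk (nat_lit 7) (nat_lit 59) (Steps.bwd (nat_lit 13) (Steps.fwd (nat_lit 57344) (Steps.bwd (nat_lit 13) Steps.nil))) (nat_lit 114) (nat_lit 0),
  Rule.mk (nat_lit 14) (nat_lit 59) (Steps.bwd (nat_lit 13) (Steps.bwd (nat_lit 14) (Steps.bwd (nat_lit 13) Steps.nil))) (nat_lit 144) (nat_lit 1),
  Rule.mk (nat_lit 5) (nat_lit 59) (Steps.bwd (nat_lit 7) (Steps.bwd (nat_lit 5) (Steps.fwd (nat_lit 57344) Steps.nil))) (nat_lit 44) (nat_lit 0),
  Rule.mk (nat_lit 8) (nat_lit 59) (Steps.bwd (nat_lit 7) (Steps.fwd (nat_lit 65536) (Steps.fwd (nat_lit 57344) Steps.nil))) (nat_lit 54) (nat_lit 1),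
  Rule.mk (nat_lit 2) (nat_lit 104) (Steps.bwd (nat_lit 7) (Steps.bwd (nat_lit 3) (Steps.bwd (nat_lit 5) (Steps.fwd (nat_lit 57344) (Steps.bwd (nat_lit 13) (Steps.bwd (nat_lit 14) Steps.nil)))))) (nat_lit 174) (nat_lit 1),
  Rule.mk (nat_lit 3) (nat_lit 89) (Steps.fwd (nat_lit 32768) (Steps.bwd (nat_lit 7) (Steps.bwd (nat_lit 14) (Steps.bwd (nat_lit 2) (Steps.fwd (nat_lit 65536) Steps.nil))))) (nat_lit 176) (nat_lit 3),
  Rule.mk (nat_lit 5) (nat_lit 59) (Steps.bwd (nat_lit 12) (Steps.fwd (nat_lit 40960) (Steps.bwd (nat_lit 12) Steps.nil))) (nat_lit 94) (nat_lit 0),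
  Rule.mk (nat_lit 4) (nat_lit 59) (Steps.fwd (nat_lit 40960) (Steps.fwd (nat_lit 32768) (Steps.bwd (nat_lit 5) Steps.nil))) (nat_lit 36) (nat_lit 0),
  Rule.mk (nat_lit 6) (nat_lit 59) (Steps.fwd (nat_lit 40960) (Steps.fwd (nat_lit 49152) (Steps.bwd (nat_lit 5) Steps.nil))) (nat_lit 40) (nat_lit 1),
  Rule.mk (nat_lit 9) (nat_lit 59) (Steps.bwd (nat_lit 5) (Steps.bwd (nat_lit 9) (Steps.bwd (nat_lit 5) Steps.nil))) (nat_lit 58) (nat_lit 1),
  Rule.mk (nat_lit 4) (nat_lit 59) (Steps.bwd (nat_lit 5) (Steps.bwd (nat_lit 4) (Steps.bwd (nat_lit 5) Steps.nil))) (nat_lit 36) (nat_lit 0),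
  Rule.mk (nat_lit 7) (nat_lit 59) (Steps.bwd (nat_lit 5) (Steps.fwd (nat_lit 57344) (Steps.bwd (nat_lit 5) Steps.nil))) (nat_lit 44) (nat_lit 1),
  Rule.mk (nat_lit 1) (nat_lit 59) (Steps.bwd (nat_lit 5) (Steps.fwd (nat_lit 8192) (Steps.fwd (nat_lit 32768) Steps.nil))) (nat_lit 146) (nat_lit 3),
  Rule.mk (nat_lit 2) (nat_lit 149) (Steps.bwd (nat_lit 5) (Steps.fwd (nat_lit 16384) (Steps.fwd (nat_lit 114688) (Steps.fwd (nat_lit 106496) (Steps.bwd (nat_lit 12) (Steps.bwd (nat_lit 9) (Steps.fwd (nat_lit 65536) (Steps.bwd (nat_lit 5) (Steps.fwd (nat_lit 32768) Steps.nil))))))))) (nat_lit 171) (nat_lit 8),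
  Rule.mk (nat_lit 8) (nat_lit 59) (Steps.fwd (nat_lit 49152) (Steps.fwd (nat_lit 65536) (Steps.bwd (nat_lit 6) Steps.nil))) (nat_lit 52) (nat_lit 1),
  Rule.mk (nat_lit 2) (nat_lit 104) (Steps.fwd (nat_lit 57344) (Steps.bwd (nat_lit 3) (Steps.bwd (nat_lit 14) (Steps.fwd (nat_lit 106496) (Steps.bwd (nat_lit 7) (Steps.bwd (nat_lit 5) Steps.nil)))))) (nat_lit 175) (nat_lit 5),
  Rule.mk (nat_lit 5) (nat_lit 59) (Steps.fwd (nat_lit 32768) (Steps.bwd (nat_lit 5) (Steps.bwd (nat_lit 4) Steps.nil))) (nat_lit 36) (nat_lit 1),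
  Rule.mk (nat_lit 8) (nat_lit 59) (Steps.fwd (nat_lit 32768) (Steps.fwd (nat_lit 65536) (Steps.bwd (nat_lit 4) Steps.nil))) (nat_lit 48) (nat_lit 1),
  Rule.mk (nat_lit 9) (nat_lit 89) (Steps.bwd (nat_lit 1) (Steps.bwd (nat_lit 4) (Steps.bwd (nat_lit 7) (Steps.fwd (nat_lit 114688) (Steps.fwd (nat_lit 8192) Steps.nil))))) (nat_lit 156) (nat_lit 2),
  Rule.mk (nat_lit 13) (nat_lit 104) (Steps.bwd (nat_lit 1) (Steps.bwd (nat_lit 4) (Steps.fwd (nat_lit 40960) (Steps.bwd (nat_lit 8) (Steps.bwd (nat_lit 9) (Steps.bwd (nat_lit 1) Steps.nil)))))) (nat_lit 164) (nat_lit 2),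
  Rule.mk (nat_lit 5) (nat_lit 59) (Steps.bwd (nat_lit 7) (Steps.bwd (nat_lit 5) (Steps.bwd (nat_lit 7) Steps.nil))) (nat_lit 44) (nat_lit 0),
  Rule.mk (nat_lit 14) (nat_lit 89) (Steps.bwd (nat_lit 7) (Steps.fwd (nat_lit 32768) (Steps.bwd (nat_lit 1) (Steps.fwd (nat_lit 73728) (Steps.bwd (nat_lit 1) Steps.nil))))) (nat_lit 157) (nat_lit 1),
  Rule.mk (nat_lit 2) (nat_lit 104) (Steps.bwd (nat_lit 7) (Steps.bwd (nat_lit 3) (Steps.fwd (nat_lit 40960) (Steps.fwd (nat_lit 57344) (Steps.fwd (nat_lit 106496) (Steps.fwd (nat_lit 114688) Steps.nil)))))) (nat_lit 174) (nat_lit 1),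
  Rule.mk (nat_lit 8) (nat_lit 59) (Steps.bwd (nat_lit 4) (Steps.bwd (nat_lit 8) (Steps.fwd (nat_lit 32768) Steps.nil))) (nat_lit 48) (nat_lit 1),
  Rule.mk (nat_lit 9) (nat_lit 59) (Steps.bwd (nat_lit 4) (Steps.fwd (nat_lit 73728) (Steps.bwd (nat_lit 4) Steps.nil))) (nat_lit 56) (nat_lit 1),
  Rule.mk (nat_lit 1) (nat_lit 104) (Steps.bwd (nat_lit 4) (Steps.fwd (nat_lit 40960) (Steps.fwd (nat_lit 65536) (Steps.bwd (nat_lit 9) (Steps.bwd (nat_lit 1) (Steps.fwd (nat_lit 106496) Steps.nil)))))) (nat_lit 164) (nat_lit 3),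
  Rule.mk (nat_lit 7) (nat_lit 89) (Steps.bwd (nat_lit 14) (Steps.fwd (nat_lit 8192) (Steps.bwd (nat_lit 9) (Steps.bwd (nat_lit 1) (Steps.fwd (nat_lit 32768) Steps.nil))))) (nat_lit 156) (nat_lit 5),
  Rule.mk (nat_lit 4) (nat_lit 59) (Steps.bwd (nat_lit 13) (Steps.fwd (nat_lit 32768) (Steps.bwd (nat_lit 13) Steps.nil))) (nat_lit 108) (nat_lit 0),
  Rule.mk (nat_lit 14) (nat_lit 59) (Steps.bwd (nat_lit 13) (Steps.fwd (nat_lit 114688) (Steps.fwd (nat_lit 106496) Steps.nil))) (nat_lit 144) (nat_lit 1),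
  Rule.mk (nat_lit 6) (nat_lit 59) (Steps.bwd (nat_lit 14) (Steps.bwd (nat_lit 6) (Steps.fwd (nat_lit 114688) Steps.nil))) (nat_lit 130) (nat_lit 0),
  Rule.mk (nat_lit 1) (nat_lit 149) (Steps.fwd (nat_lit 114688) (Steps.fwd (nat_lit 106496) (Steps.fwd (nat_lit 98304) (Steps.bwd (nat_lit 9) (Steps.fwd (nat_lit 65536) (Steps.bwd (nat_lit 5) (Steps.fwd (nat_lit 32768) (Steps.fwd (nat_lit 8192) (Steps.bwd (nat_lit 6) Steps.nil))))))))) (nat_lit 151) (nat_lit 0),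
  Rule.mk (nat_lit 4) (nat_lit 59) (Steps.bwd (nat_lit 13) (Steps.fwd (nat_lit 32768) (Steps.fwd (nat_lit 106496) Steps.nil))) (nat_lit 108) (nat_lit 0),
  Rule.mk (nat_lit 1) (nat_lit 104) (Steps.bwd (nat_lit 13) (Steps.fwd (nat_lit 8192) (Steps.bwd (nat_lit 9) (Steps.fwd (nat_lit 65536) (Steps.bwd (nat_lit 5) (Steps.fwd (nat_lit 32768) Steps.nil)))))) (nat_lit 165) (nat_lit 5),
  Rule.mk (nat_lit 9) (nat_lit 104) (Steps.bwd (nat_lit 8) (Steps.fwd (nat_lit 40960) (Steps.bwd (nat_lit 4) (Steps.fwd (nat_lit 8192) (Steps.fwd (nat_lit 106496) (Steps.fwd (nat_lit 8192) Steps.nil)))))) (nat_lit 165) (nat_lit 1),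
  Rule.mk (nat_lit 9) (nat_lit 59) (Steps.bwd (nat_lit 12) (Steps.fwd (nat_lit 73728) (Steps.bwd (nat_lit 12) Steps.nil))) (nat_lit 102) (nat_lit 0),
  Rule.mk (nat_lit 8) (nat_lit 59) (Steps.bwd (nat_lit 7) (Steps.bwd (nat_lit 8) (Steps.bwd (nat_lit 7) Steps.nil))) (nat_lit 54) (nat_lit 1),
  Rule.mk (nat_lit 4) (nat_lit 59) (Steps.fwd (nat_lit 73728) (Steps.bwd (nat_lit 4) (Steps.bwd (nat_lit 9) Steps.nil))) (nat_lit 56) (nat_lit 0),
  Rule.mk (nat_lit 9) (nat_lit 59) (Steps.bwd (nat_lit 14) (Steps.fwd (nat_lit 73728) (Steps.bwd (nat_lit 14) Steps.nil))) (nat_lit 136) (nat_lit 0),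
  Rule.mk (nat_lit 1) (nat_lit 89) (Steps.fwd (nat_lit 32768) (Steps.fwd (nat_lit 57344) (Steps.bwd (nat_lit 14) (Steps.bwd (nat_lit 1) (Steps.bwd (nat_lit 9) Steps.nil))))) (nat_lit 156) (nat_lit 3),
  Rule.mk (nat_lit 6) (nat_lit 59) (Steps.fwd (nat_lit 57344) (Steps.bwd (nat_lit 6) (Steps.bwd (nat_lit 7) Steps.nil))) (nat_lit 46) (nat_lit 0),
  Rule.mk (nat_lit 1) (nat_lit 104) (Steps.bwd (nat_lit 13) (Steps.fwd (nat_lit 8192) (Steps.fwd (nat_lit 32768) (Steps.bwd (nat_lit 5) (Steps.fwd (nat_lit 65536) (Steps.fwd (nat_lit 73728) Steps.nil)))))) (nat_lit 164) (nat_lit 1),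
  Rule.mk (nat_lit 1) (nat_lit 89) (Steps.bwd (nat_lit 9) (Steps.fwd (nat_lit 8192) (Steps.fwd (nat_lit 114688) (Steps.fwd (nat_lit 57344) (Steps.bwd (nat_lit 4) Steps.nil))))) (nat_lit 157) (nat_lit 4),
  Rule.mk (nat_lit 7) (nat_lit 104) (Steps.fwd (nat_lit 106496) (Steps.bwd (nat_lit 14) (Steps.fwd (nat_lit 8192) (Steps.fwd (nat_lit 65536) (Steps.bwd (nat_lit 1) (Steps.bwd (nat_lit 5) Steps.nil)))))) (nat_lit 154) (nat_lit 5),
  Rule.mk (nat_lit 7) (nat_lit 104) (Steps.bwd (nat_lit 5) (Steps.fwd (nat_lit 8192) (Steps.fwd (nat_lit 65536) (Steps.fwd (nat_lit 8192) (Steps.bwd (nat_lit 14) (Steps.fwd (nat_lit 106496) Steps.nil)))))) (nat_lit 155) (nat_lit 3),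
  Rule.mk (nat_lit 3) (nat_lit 104) (Steps.bwd (nat_lit 5) (Steps.bwd (nat_lit 7) (Steps.fwd (nat_lit 106496) (Steps.bwd (nat_lit 14) (Steps.fwd (nat_lit 24576) (Steps.bwd (nat_lit 7) Steps.nil)))))) (nat_lit 174) (nat_lit 3),
  Rule.mk (nat_lit 3) (nat_lit 59) (Steps.bwd (nat_lit 4) (Steps.fwd (nat_lit 24576) (Steps.bwd (nat_lit 4) Steps.nil))) (nat_lit 168) (nat_lit 3),
  Rule.mk (nat_lit 9) (nat_lit 89) (Steps.bwd (nat_lit 1) (Steps.bwd (nat_lit 4) (Steps.fwd (nat_lit 57344) (Steps.fwd (nat_lit 114688) (Steps.bwd (nat_lit 1) Steps.nil))))) (nat_lit 156) (nat_lit 2),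
  Rule.mk (nat_lit 6) (nat_lit 59) (Steps.fwd (nat_lit 73728) (Steps.fwd (nat_lit 49152) (Steps.bwd (nat_lit 9) Steps.nil))) (nat_lit 60) (nat_lit 0),
  Rule.mk (nat_lit 6) (nat_lit 59) (Steps.bwd (nat_lit 5) (Steps.bwd (nat_lit 6) (Steps.bwd (nat_lit 5) Steps.nil))) (nat_lit 40) (nat_lit 1),
  Rule.mk (nat_lit 9) (nat_lit 59) (Steps.fwd (nat_lit 40960) (Steps.bwd (nat_lit 9) (Steps.bwd (nat_lit 5) Steps.nil))) (nat_lit 58) (nat_lit 1),
  Rule.mk (nat_lit 5) (nat_lit 59) (Steps.bwd (nat_lit 12) (Steps.bwd (nat_lit 5) (Steps.fwd (nat_lit 98304) Steps.nil))) (nat_lit 94) (nat_lit 0),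
  Rule.mk (nat_lit 7) (nat_lit 59) (Steps.fwd (nat_lit 73728) (Steps.fwd (nat_lit 57344) (Steps.bwd (nat_lit 9) Steps.nil))) (nat_lit 62) (nat_lit 0),
  Rule.mk (nat_lit 14) (nat_lit 59) (Steps.fwd (nat_lit 73728) (Steps.bwd (nat_lit 14) (Steps.bwd (nat_lit 9) Steps.nil))) (nat_lit 136) (nat_lit 1),
  Rule.mk (nat_lit 7) (nat_lit 59) (Steps.bwd (nat_lit 4) (Steps.bwd (nat_lit 7) (Steps.fwd (nat_lit 32768) Steps.nil))) (nat_lit 42) (nat_lit 1),
  Rule.mk (nat_lit 8) (nat_lit 59) (Steps.bwd (nat_lit 4) (Steps.fwd (nat_lit 65536) (Steps.fwd (nat_lit 32768) Steps.nil))) (nat_lit 48) (nat_lit 1),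
  Rule.mk (nat_lit 12) (nat_lit 59) (Steps.bwd (nat_lit 4) (Steps.bwd (nat_lit 12) (Steps.fwd (nat_lit 32768) Steps.nil))) (nat_lit 92) (nat_lit 1),
  Rule.mk (nat_lit 3) (nat_lit 89) (Steps.fwd (nat_lit 32768) (Steps.fwd (nat_lit 57344) (Steps.fwd (nat_lit 114688) (Steps.bwd (nat_lit 2) (Steps.bwd (nat_lit 8) Steps.nil))))) (nat_lit 176) (nat_lit 3),
  Rule.mk (nat_lit 12) (nat_lit 59) (Steps.bwd (nat_lit 6) (Steps.fwd (nat_lit 98304) (Steps.bwd (nat_lit 6) Steps.nil))) (nat_lit 96) (nat_lit 1),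
  Rule.mk (nat_lit 14) (nat_lit 59) (Steps.bwd (nat_lit 6) (Steps.fwd (nat_lit 114688) (Steps.fwd (nat_lit 49152) Steps.nil))) (nat_lit 130) (nat_lit 1),
  Rule.mk (nat_lit 2) (nat_lit 104) (Steps.bwd (nat_lit 12) (Steps.bwd (nat_lit 3) (Steps.bwd (nat_lit 9) (Steps.bwd (nat_lit 8) (Steps.fwd (nat_lit 40960) (Steps.fwd (nat_lit 32768) Steps.nil)))))) (nat_lit 185) (nat_lit 5),
  Rule.mk (nat_lit 12) (nat_lit 59) (Steps.bwd (nat_lit 9) (Steps.bwd (nat_lit 12) (Steps.bwd (nat_lit 9) Steps.nil))) (nat_lit 102) (nat_lit 1),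
  Rule.mk (nat_lit 7) (nat_lit 59) (Steps.bwd (nat_lit 8) (Steps.fwd (nat_lit 57344) (Steps.fwd (nat_lit 65536) Steps.nil))) (nat_lit 54) (nat_lit 0)]
noncomputable def R_5 : List (Rule) := [Rule.mk (nat_lit 14) (nat_lit 104) (Steps.bwd (nat_lit 13) (Steps.fwd (nat_lit 57344) (Steps.fwd (nat_lit 40960) (Steps.fwd (nat_lit 8192) (Steps.fwd (nat_lit 65536) (Steps.bwd (nat_lit 1) Steps.nil)))))) (nat_lit 155) (nat_lit 1),
  Rule.mk (nat_lit 9) (nat_lit 59) (Steps.bwd (nat_lit 5) (Steps.fwd (nat_lit 73728) (Steps.bwd (nat_lit 5) Steps.nil))) (nat_lit 58) (nat_lit 1),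
  Rule.mk (nat_lit 13) (nat_lit 59) (Steps.bwd (nat_lit 5) (Steps.bwd (nat_lit 13) (Steps.bwd (nat_lit 5) Steps.nil))) (nat_lit 110) (nat_lit 1),
  Rule.mk (nat_lit 14) (nat_lit 59) (Steps.bwd (nat_lit 5) (Steps.bwd (nat_lit 14) (Steps.bwd (nat_lit 5) Steps.nil))) (nat_lit 128) (nat_lit 1),
  Rule.mk (nat_lit 12) (nat_lit 104) (Steps.bwd (nat_lit 3) (Steps.bwd (nat_lit 9) (Steps.bwd (nat_lit 8) (Steps.bwd (nat_lit 5) (Steps.bwd (nat_lit 4) (Steps.bwd (nat_lit 2) Steps.nil)))))) (nat_lit 185) (nat_lit 6),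
  Rule.mk (nat_lit 2) (nat_lit 119) (Steps.bwd (nat_lit 14) (Steps.bwd (nat_lit 3) (Steps.fwd (nat_lit 114688) (Steps.fwd (nat_lit 98304) (Steps.bwd (nat_lit 7) (Steps.fwd (nat_lit 49152) (Steps.fwd (nat_lit 40960) Steps.nil))))))) (nat_lit 189) (nat_lit 6),
  Rule.mk (nat_lit 8) (nat_lit 89) (Steps.fwd (nat_lit 16384) (Steps.fwd (nat_lit 32768) (Steps.bwd (nat_lit 7) (Steps.bwd (nat_lit 14) (Steps.bwd (nat_lit 2) Steps.nil))))) (nat_lit 176) (nat_lit 2),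
  Rule.mk (nat_lit 4) (nat_lit 59) (Steps.bwd (nat_lit 3) (Steps.fwd (nat_lit 32768) (Steps.fwd (nat_lit 24576) Steps.nil))) (nat_lit 168) (nat_lit 2),
  Rule.mk (nat_lit 12) (nat_lit 59) (Steps.fwd (nat_lit 32768) (Steps.bwd (nat_lit 12) (Steps.bwd (nat_lit 4) Steps.nil))) (nat_lit 92) (nat_lit 1),
  Rule.mk (nat_lit 0) (nat_lit 164) (Steps.bwd (nat_lit 13) (Steps.fwd (nat_lit 98304) (Steps.bwd (nat_lit 9) (Steps.bwd (nat_lit 8) (Steps.fwd (nat_lit 40960) (Steps.fwd (nat_lit 32768) (Steps.fwd (nat_lit 24576) (Steps.bwd (nat_lit 5) (Steps.bwd (nat_lit 3) (Steps.bwd (nat_lit 14) Steps.nil)))))))))) (nat_lit 171) (nat_lit 1),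
  Rule.mk (nat_lit 1) (nat_lit 44) (Steps.bwd (nat_lit 0) (Steps.fwd (nat_lit 8192) Steps.nil)) (nat_lit 196) (nat_lit 0),
  Rule.mk (nat_lit 13) (nat_lit 44) (Steps.bwd (nat_lit 0) (Steps.bwd (nat_lit 13) Steps.nil)) (nat_lit 196) (nat_lit 0),
  Rule.mk (nat_lit 13) (nat_lit 149) (Steps.fwd (nat_lit 98304) (Steps.fwd (nat_lit 73728) (Steps.bwd (nat_lit 8) (Steps.fwd (nat_lit 40960) (Steps.bwd (nat_lit 4) (Steps.fwd (nat_lit 24576) (Steps.bwd (nat_lit 5) (Steps.bwd (nat_lit 3) (Steps.bwd (nat_lit 14) Steps.nil))))))))) (nat_lit 171) (nat_lit 2),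
  Rule.mk (nat_lit 13) (nat_lit 59) (Steps.fwd (nat_lit 65536) (Steps.bwd (nat_lit 13) (Steps.fwd (nat_lit 65536) Steps.nil))) (nat_lit 116) (nat_lit 1),
  Rule.mk (nat_lit 1) (nat_lit 104) (Steps.bwd (nat_lit 13) (Steps.bwd (nat_lit 1) (Steps.bwd (nat_lit 4) (Steps.fwd (nat_lit 40960) (Steps.fwd (nat_lit 65536) (Steps.bwd (nat_lit 9) Steps.nil)))))) (nat_lit 164) (nat_lit 1),
  Rule.mk (nat_lit 13) (nat_lit 59) (Steps.fwd (nat_lit 65536) (Steps.bwd (nat_lit 13) (Steps.bwd (nat_lit 8) Steps.nil))) (nat_lit 116) (nat_lit 1),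
  Rule.mk (nat_lit 13) (nat_lit 59) (Steps.bwd (nat_lit 12) (Steps.bwd (nat_lit 13) (Steps.bwd (nat_lit 12) Steps.nil))) (nat_lit 124) (nat_lit 1),
  Rule.mk (nat_lit 13) (nat_lit 59) (Steps.fwd (nat_lit 32768) (Steps.bwd (nat_lit 13) (Steps.fwd (nat_lit 32768) Steps.nil))) (nat_lit 108) (nat_lit 1),
  Rule.mk (nat_lit 13) (nat_lit 59) (Steps.bwd (nat_lit 4) (Steps.bwd (nat_lit 13) (Steps.fwd (nat_lit 32768) Steps.nil))) (nat_lit 108) (nat_lit 1),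
  Rule.mk (nat_lit 9) (nat_lit 59) (Steps.bwd (nat_lit 13) (Steps.bwd (nat_lit 9) (Steps.bwd (nat_lit 13) Steps.nil))) (nat_lit 118) (nat_lit 0),
  Rule.mk (nat_lit 9) (nat_lit 59) (Steps.bwd (nat_lit 13) (Steps.fwd (nat_lit 73728) (Steps.bwd (nat_lit 13) Steps.nil))) (nat_lit 118) (nat_lit 0),
  Rule.mk (nat_lit 9) (nat_lit 59) (Steps.fwd (nat_lit 32768) (Steps.bwd (nat_lit 9) (Steps.fwd (nat_lit 32768) Steps.nil))) (nat_lit 56) (nat_lit 1),
  Rule.mk (nat_lit 9) (nat_lit 59) (Steps.bwd (nat_lit 12) (Steps.bwd (nat_lit 9) (Steps.fwd (nat_lit 98304) Steps.nil))) (nat_lit 102) (nat_lit 0),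
  Rule.mk (nat_lit 9) (nat_lit 59) (Steps.fwd (nat_lit 32768) (Steps.bwd (nat_lit 9) (Steps.bwd (nat_lit 4) Steps.nil))) (nat_lit 56) (nat_lit 1),
  Rule.mk (nat_lit 9) (nat_lit 59) (Steps.fwd (nat_lit 98304) (Steps.bwd (nat_lit 9) (Steps.fwd (nat_lit 98304) Steps.nil))) (nat_lit 102) (nat_lit 0),
  Rule.mk (nat_lit 13) (nat_lit 59) (Steps.bwd (nat_lit 14) (Steps.bwd (nat_lit 13) (Steps.fwd (nat_lit 114688) Steps.nil))) (nat_lit 144) (nat_lit 0),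
  Rule.mk (nat_lit 7) (nat_lit 59) (Steps.bwd (nat_lit 12) (Steps.bwd (nat_lit 7) (Steps.fwd (nat_lit 98304) Steps.nil))) (nat_lit 98) (nat_lit 0),
  Rule.mk (nat_lit 2) (nat_lit 104) (Steps.bwd (nat_lit 12) (Steps.bwd (nat_lit 3) (Steps.fwd (nat_lit 32768) (Steps.bwd (nat_lit 5) (Steps.fwd (nat_lit 65536) (Steps.bwd (nat_lit 9) Steps.nil)))))) (nat_lit 184) (nat_lit 1),
  Rule.mk (nat_lit 5) (nat_lit 59) (Steps.fwd (nat_lit 57344) (Steps.bwd (nat_lit 5) (Steps.bwd (nat_lit 7) Steps.nil))) (nat_lit 44) (nat_lit 0),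
  Rule.mk (nat_lit 13) (nat_lit 59) (Steps.fwd (nat_lit 57344) (Steps.bwd (nat_lit 13) (Steps.bwd (nat_lit 7) Steps.nil))) (nat_lit 114) (nat_lit 1),
  Rule.mk (nat_lit 1) (nat_lit 89) (Steps.bwd (nat_lit 14) (Steps.fwd (nat_lit 57344) (Steps.bwd (nat_lit 4) (Steps.bwd (nat_lit 1) (Steps.bwd (nat_lit 9) Steps.nil))))) (nat_lit 157) (nat_lit 0),
  Rule.mk (nat_lit 9) (nat_lit 89) (Steps.fwd (nat_lit 8192) (Steps.bwd (nat_lit 4) (Steps.fwd (nat_lit 57344) (Steps.bwd (nat_lit 14) (Steps.bwd (nat_lit 1) Steps.nil))))) (nat_lit 156) (nat_lit 2),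
  Rule.mk (nat_lit 6) (nat_lit 59) (Steps.fwd (nat_lit 57344) (Steps.fwd (nat_lit 49152) (Steps.bwd (nat_lit 7) Steps.nil))) (nat_lit 46) (nat_lit 0),
  Rule.mk (nat_lit 3) (nat_lit 89) (Steps.bwd (nat_lit 14) (Steps.fwd (nat_lit 57344) (Steps.fwd (nat_lit 32768) (Steps.bwd (nat_lit 2) (Steps.bwd (nat_lit 8) Steps.nil))))) (nat_lit 177) (nat_lit 0),
  Rule.mk (nat_lit 9) (nat_lit 104) (Steps.bwd (nat_lit 8) (Steps.bwd (nat_lit 5) (Steps.bwd (nat_lit 4) (Steps.bwd (nat_lit 2) (Steps.bwd (nat_lit 12) (Steps.bwd (nat_lit 3) Steps.nil)))))) (nat_lit 185) (nat_lit 1),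
  Rule.mk (nat_lit 3) (nat_lit 104) (Steps.bwd (nat_lit 14) (Steps.bwd (nat_lit 13) (Steps.bwd (nat_lit 7) (Steps.fwd (nat_lit 40960) (Steps.fwd (nat_lit 24576) (Steps.bwd (nat_lit 7) Steps.nil)))))) (nat_lit 175) (nat_lit 0),
  Rule.mk (nat_lit 5) (nat_lit 59) (Steps.bwd (nat_lit 8) (Steps.bwd (nat_lit 5) (Steps.fwd (nat_lit 65536) Steps.nil))) (nat_lit 50) (nat_lit 0),
  Rule.mk (nat_lit 13) (nat_lit 59) (Steps.fwd (nat_lit 73728) (Steps.fwd (nat_lit 106496) (Steps.bwd (nat_lit 9) Steps.nil))) (nat_lit 118) (nat_lit 1),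
  Rule.mk (nat_lit 1) (nat_lit 89) (Steps.fwd (nat_lit 32768) (Steps.fwd (nat_lit 57344) (Steps.fwd (nat_lit 114688) (Steps.fwd (nat_lit 8192) (Steps.bwd (nat_lit 9) Steps.nil))))) (nat_lit 156) (nat_lit 3),
  Rule.mk (nat_lit 13) (nat_lit 104) (Steps.bwd (nat_lit 1) (Steps.fwd (nat_lit 32768) (Steps.fwd (nat_lit 40960) (Steps.fwd (nat_lit 65536) (Steps.bwd (nat_lit 9) (Steps.fwd (nat_lit 8192) Steps.nil)))))) (nat_lit 164) (nat_lit 2),
  Rule.mk (nat_lit 13) (nat_lit 59) (Steps.bwd (nat_lit 7) (Steps.fwd (nat_lit 106496) (Steps.bwd (nat_lit 7) Steps.nil))) (nat_lit 114) (nat_lit 1),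
  Rule.mk (nat_lit 8) (nat_lit 59) (Steps.bwd (nat_lit 13) (Steps.bwd (nat_lit 8) (Steps.bwd (nat_lit 13) Steps.nil))) (nat_lit 116) (nat_lit 0),
  Rule.mk (nat_lit 14) (nat_lit 59) (Steps.fwd (nat_lit 106496) (Steps.bwd (nat_lit 14) (Steps.bwd (nat_lit 13) Steps.nil))) (nat_lit 144) (nat_lit 1),
  Rule.mk (nat_lit 12) (nat_lit 59) (Steps.bwd (nat_lit 8) (Steps.bwd (nat_lit 12) (Steps.fwd (nat_lit 65536) Steps.nil))) (nat_lit 100) (nat_lit 1),
  Rule.mk (nat_lit 13) (nat_lit 59) (Steps.bwd (nat_lit 8) (Steps.bwd (nat_lit 13) (Steps.bwd (nat_lit 8) Steps.nil))) (nat_lit 116) (nat_lit 1),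
  Rule.mk (nat_lit 13) (nat_lit 59) (Steps.bwd (nat_lit 8) (Steps.bwd (nat_lit 13) (Steps.fwd (nat_lit 65536) Steps.nil))) (nat_lit 116) (nat_lit 1),
  Rule.mk (nat_lit 1) (nat_lit 104) (Steps.bwd (nat_lit 14) (Steps.fwd (nat_lit 106496) (Steps.bwd (nat_lit 7) (Steps.bwd (nat_lit 5) (Steps.fwd (nat_lit 8192) (Steps.fwd (nat_lit 65536) Steps.nil)))))) (nat_lit 155) (nat_lit 0),
  Rule.mk (nat_lit 2) (nat_lit 149) (Steps.bwd (nat_lit 5) (Steps.bwd (nat_lit 3) (Steps.bwd (nat_lit 4) (Steps.fwd (nat_lit 40960) (Steps.fwd (nat_lit 65536) (Steps.fwd (nat_lit 73728) (Steps.bwd (nat_lit 12) (Steps.bwd (nat_lit 13) (Steps.fwd (nat_lit 114688) Steps.nil))))))))) (nat_lit 170) (nat_lit 1),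
  Rule.mk (nat_lit 12) (nat_lit 104) (Steps.bwd (nat_lit 3) (Steps.fwd (nat_lit 73728) (Steps.bwd (nat_lit 8) (Steps.bwd (nat_lit 5) (Steps.bwd (nat_lit 4) (Steps.bwd (nat_lit 2) Steps.nil)))))) (nat_lit 185) (nat_lit 6),
  Rule.mk (nat_lit 5) (nat_lit 149) (Steps.bwd (nat_lit 3) (Steps.fwd (nat_lit 114688) (Steps.bwd (nat_lit 13) (Steps.fwd (nat_lit 98304) (Steps.bwd (nat_lit 9) (Steps.fwd (nat_lit 65536) (Steps.fwd (nat_lit 40960) (Steps.fwd (nat_lit 32768) (Steps.bwd (nat_lit 2) Steps.nil))))))))) (nat_lit 171) (nat_lit 9),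
  Rule.mk (nat_lit 3) (nat_lit 149) (Steps.bwd (nat_lit 14) (Steps.fwd (nat_lit 106496) (Steps.bwd (nat_lit 12) (Steps.fwd (nat_lit 73728) (Steps.fwd (nat_lit 65536) (Steps.fwd (nat_lit 40960) (Steps.fwd (nat_lit 32768) (Steps.bwd (nat_lit 2) (Steps.bwd (nat_lit 5) Steps.nil))))))))) (nat_lit 171) (nat_lit 0),
  Rule.mk (nat_lit 2) (nat_lit 104) (Steps.bwd (nat_lit 7) (Steps.bwd (nat_lit 3) (Steps.bwd (nat_lit 14) (Steps.fwd (nat_lit 106496) (Steps.fwd (nat_lit 57344) (Steps.bwd (nat_lit 5) Steps.nil)))))) (nat_lit 175) (nat_lit 5),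
  Rule.mk (nat_lit 14) (nat_lit 119) (Steps.bwd (nat_lit 3) (Steps.bwd (nat_lit 14) (Steps.fwd (nat_lit 98304) (Steps.fwd (nat_lit 57344) (Steps.bwd (nat_lit 6) (Steps.bwd (nat_lit 5) (Steps.bwd (nat_lit 2) Steps.nil))))))) (nat_lit 189) (nat_lit 7),
  Rule.mk (nat_lit 5) (nat_lit 149) (Steps.bwd (nat_lit 3) (Steps.bwd (nat_lit 4) (Steps.bwd (nat_lit 5) (Steps.fwd (nat_lit 65536) (Steps.fwd (nat_lit 73728) (Steps.fwd (nat_lit 98304) (Steps.fwd (nat_lit 106496) (Steps.fwd (nat_lit 114688) (Steps.fwd (nat_lit 24576) Steps.nil))))))))) (nat_lit 170) (nat_lit 2),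
  Rule.mk (nat_lit 7) (nat_lit 59) (Steps.fwd (nat_lit 40960) (Steps.bwd (nat_lit 7) (Steps.bwd (nat_lit 5) Steps.nil))) (nat_lit 44) (nat_lit 1),
  Rule.mk (nat_lit 8) (nat_lit 89) (Steps.bwd (nat_lit 3) (Steps.fwd (nat_lit 114688) (Steps.fwd (nat_lit 57344) (Steps.bwd (nat_lit 4) (Steps.bwd (nat_lit 2) Steps.nil))))) (nat_lit 177) (nat_lit 5),
  Rule.mk (nat_lit 4) (nat_lit 59) (Steps.bwd (nat_lit 2) (Steps.bwd (nat_lit 4) (Steps.bwd (nat_lit 3) Steps.nil))) (nat_lit 168) (nat_lit 0),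
  Rule.mk (nat_lit 8) (nat_lit 59) (Steps.bwd (nat_lit 4) (Steps.bwd (nat_lit 8) (Steps.bwd (nat_lit 4) Steps.nil))) (nat_lit 48) (nat_lit 1),
  Rule.mk (nat_lit 8) (nat_lit 59) (Steps.bwd (nat_lit 12) (Steps.fwd (nat_lit 65536) (Steps.fwd (nat_lit 98304) Steps.nil))) (nat_lit 100) (nat_lit 0),
  Rule.mk (nat_lit 7) (nat_lit 59) (Steps.bwd (nat_lit 8) (Steps.bwd (nat_lit 7) (Steps.bwd (nat_lit 8) Steps.nil))) (nat_lit 54) (nat_lit 0),
  Rule.mk (nat_lit 8) (nat_lit 89) (Steps.bwd (nat_lit 3) (Steps.fwd (nat_lit 114688) (Steps.bwd (nat_lit 7) (Steps.fwd (nat_lit 32768) (Steps.fwd (nat_lit 24576) Steps.nil))))) (nat_lit 177) (nat_lit 5),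
  Rule.mk (nat_lit 9) (nat_lit 59) (Steps.fwd (nat_lit 65536) (Steps.fwd (nat_lit 73728) (Steps.bwd (nat_lit 8) Steps.nil))) (nat_lit 64) (nat_lit 1),
  Rule.mk (nat_lit 14) (nat_lit 89) (Steps.bwd (nat_lit 2) (Steps.bwd (nat_lit 8) (Steps.bwd (nat_lit 3) (Steps.fwd (nat_lit 32768) (Steps.bwd (nat_lit 7) Steps.nil))))) (nat_lit 176) (nat_lit 0),
  Rule.mk (nat_lit 12) (nat_lit 59) (Steps.bwd (nat_lit 7) (Steps.fwd (nat_lit 98304) (Steps.bwd (nat_lit 7) Steps.nil))) (nat_lit 98) (nat_lit 1)]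
noncomputable def R_6 : List (Rule) := [Rule.mk (nat_lit 14) (nat_lit 59) (Steps.bwd (nat_lit 7) (Steps.bwd (nat_lit 14) (Steps.fwd (nat_lit 57344) Steps.nil))) (nat_lit 132) (nat_lit 1),
  Rule.mk (nat_lit 2) (nat_lit 104) (Steps.bwd (nat_lit 7) (Steps.fwd (nat_lit 16384) (Steps.fwd (nat_lit 114688) (Steps.fwd (nat_lit 106496) (Steps.bwd (nat_lit 7) (Steps.fwd (nat_lit 40960) Steps.nil)))))) (nat_lit 175) (nat_lit 5),
  Rule.mk (nat_lit 3) (nat_lit 149) (Steps.fwd (nat_lit 114688) (Steps.bwd (nat_lit 13) (Steps.bwd (nat_lit 12) (Steps.bwd (nat_lit 9) (Steps.bwd (nat_lit 8) (Steps.bwd (nat_lit 5) (Steps.bwd (nat_lit 4) (Steps.bwd (nat_lit 2) (Steps.bwd (nat_lit 5) Steps.nil))))))))) (nat_lit 171) (nat_lit 0),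
  Rule.mk (nat_lit 2) (nat_lit 104) (Steps.bwd (nat_lit 7) (Steps.bwd (nat_lit 3) (Steps.fwd (nat_lit 114688) (Steps.bwd (nat_lit 13) (Steps.bwd (nat_lit 7) (Steps.bwd (nat_lit 5) Steps.nil)))))) (nat_lit 175) (nat_lit 5),
  Rule.mk (nat_lit 2) (nat_lit 119) (Steps.bwd (nat_lit 14) (Steps.fwd (nat_lit 16384) (Steps.fwd (nat_lit 40960) (Steps.fwd (nat_lit 49152) (Steps.fwd (nat_lit 57344) (Steps.fwd (nat_lit 98304) (Steps.bwd (nat_lit 14) Steps.nil))))))) (nat_lit 188) (nat_lit 1),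
  Rule.mk (nat_lit 2) (nat_lit 104) (Steps.bwd (nat_lit 12) (Steps.fwd (nat_lit 16384) (Steps.fwd (nat_lit 32768) (Steps.bwd (nat_lit 5) (Steps.bwd (nat_lit 8) (Steps.fwd (nat_lit 73728) Steps.nil)))))) (nat_lit 184) (nat_lit 1),
  Rule.mk (nat_lit 2) (nat_lit 119) (Steps.bwd (nat_lit 14) (Steps.fwd (nat_lit 16384) (Steps.bwd (nat_lit 14) (Steps.fwd (nat_lit 98304) (Steps.fwd (nat_lit 57344) (Steps.bwd (nat_lit 6) (Steps.fwd (nat_lit 40960) Steps.nil))))))) (nat_lit 189) (nat_lit 6),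
  Rule.mk (nat_lit 3) (nat_lit 104) (Steps.fwd (nat_lit 40960) (Steps.fwd (nat_lit 57344) (Steps.bwd (nat_lit 13) (Steps.fwd (nat_lit 114688) (Steps.bwd (nat_lit 2) (Steps.bwd (nat_lit 7) Steps.nil)))))) (nat_lit 174) (nat_lit 3),
  Rule.mk (nat_lit 3) (nat_lit 149) (Steps.fwd (nat_lit 114688) (Steps.fwd (nat_lit 106496) (Steps.fwd (nat_lit 98304) (Steps.fwd (nat_lit 73728) (Steps.fwd (nat_lit 65536) (Steps.bwd (nat_lit 5) (Steps.bwd (nat_lit 4) (Steps.bwd (nat_lit 2) (Steps.bwd (nat_lit 5) Steps.nil))))))))) (nat_lit 171) (nat_lit 0),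
  Rule.mk (nat_lit 2) (nat_lit 89) (Steps.bwd (nat_lit 8) (Steps.fwd (nat_lit 16384) (Steps.bwd (nat_lit 4) (Steps.fwd (nat_lit 57344) (Steps.bwd (nat_lit 14) Steps.nil))))) (nat_lit 176) (nat_lit 1),
  Rule.mk (nat_lit 2) (nat_lit 104) (Steps.bwd (nat_lit 12) (Steps.fwd (nat_lit 16384) (Steps.fwd (nat_lit 73728) (Steps.fwd (nat_lit 65536) (Steps.bwd (nat_lit 5) (Steps.fwd (nat_lit 32768) Steps.nil)))))) (nat_lit 185) (nat_lit 5),
  Rule.mk (nat_lit 7) (nat_lit 59) (Steps.bwd (nat_lit 12) (Steps.bwd (nat_lit 7) (Steps.bwd (nat_lit 12) Steps.nil))) (nat_lit 98) (nat_lit 0),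
  Rule.mk (nat_lit 3) (nat_lit 149) (Steps.fwd (nat_lit 114688) (Steps.fwd (nat_lit 106496) (Steps.bwd (nat_lit 12) (Steps.bwd (nat_lit 9) (Steps.bwd (nat_lit 8) (Steps.bwd (nat_lit 5) (Steps.bwd (nat_lit 4) (Steps.bwd (nat_lit 2) (Steps.bwd (nat_lit 5) Steps.nil))))))))) (nat_lit 171) (nat_lit 0),
  Rule.mk (nat_lit 13) (nat_lit 59) (Steps.bwd (nat_lit 4) (Steps.bwd (nat_lit 13) (Steps.bwd (nat_lit 4) Steps.nil))) (nat_lit 108) (nat_lit 1),
  Rule.mk (nat_lit 13) (nat_lit 59) (Steps.bwd (nat_lit 9) (Steps.bwd (nat_lit 13) (Steps.bwd (nat_lit 9) Steps.nil))) (nat_lit 118) (nat_lit 1),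
  Rule.mk (nat_lit 6) (nat_lit 59) (Steps.bwd (nat_lit 4) (Steps.bwd (nat_lit 6) (Steps.fwd (nat_lit 32768) Steps.nil))) (nat_lit 38) (nat_lit 1),
  Rule.mk (nat_lit 1) (nat_lit 104) (Steps.fwd (nat_lit 32768) (Steps.fwd (nat_lit 40960) (Steps.fwd (nat_lit 65536) (Steps.bwd (nat_lit 9) (Steps.fwd (nat_lit 8192) (Steps.bwd (nat_lit 13) Steps.nil)))))) (nat_lit 164) (nat_lit 3),
  Rule.mk (nat_lit 4) (nat_lit 104) (Steps.bwd (nat_lit 5) (Steps.fwd (nat_lit 65536) (Steps.fwd (nat_lit 73728) (Steps.fwd (nat_lit 8192) (Steps.bwd (nat_lit 13) (Steps.bwd (nat_lit 1) Steps.nil)))))) (nat_lit 164) (nat_lit 4),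
  Rule.mk (nat_lit 6) (nat_lit 59) (Steps.bwd (nat_lit 4) (Steps.bwd (nat_lit 6) (Steps.bwd (nat_lit 4) Steps.nil))) (nat_lit 38) (nat_lit 1),
  Rule.mk (nat_lit 2) (nat_lit 149) (Steps.fwd (nat_lit 40960) (Steps.fwd (nat_lit 16384) (Steps.bwd (nat_lit 4) (Steps.fwd (nat_lit 40960) (Steps.bwd (nat_lit 8) (Steps.fwd (nat_lit 73728) (Steps.fwd (nat_lit 98304) (Steps.bwd (nat_lit 13) (Steps.bwd (nat_lit 14) Steps.nil))))))))) (nat_lit 170) (nat_lit 1),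
  Rule.mk (nat_lit 7) (nat_lit 59) (Steps.fwd (nat_lit 106496) (Steps.fwd (nat_lit 57344) (Steps.bwd (nat_lit 13) Steps.nil))) (nat_lit 114) (nat_lit 0),
  Rule.mk (nat_lit 1) (nat_lit 104) (Steps.fwd (nat_lit 32768) (Steps.bwd (nat_lit 5) (Steps.fwd (nat_lit 65536) (Steps.fwd (nat_lit 73728) (Steps.bwd (nat_lit 1) (Steps.bwd (nat_lit 13) Steps.nil)))))) (nat_lit 164) (nat_lit 3),
  Rule.mk (nat_lit 3) (nat_lit 89) (Steps.bwd (nat_lit 4) (Steps.bwd (nat_lit 7) (Steps.bwd (nat_lit 14) (Steps.fwd (nat_lit 24576) (Steps.bwd (nat_lit 8) Steps.nil))))) (nat_lit 176) (nat_lit 3),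
  Rule.mk (nat_lit 2) (nat_lit 59) (Steps.fwd (nat_lit 32768) (Steps.bwd (nat_lit 3) (Steps.bwd (nat_lit 4) Steps.nil))) (nat_lit 168) (nat_lit 1),
  Rule.mk (nat_lit 8) (nat_lit 89) (Steps.bwd (nat_lit 3) (Steps.bwd (nat_lit 4) (Steps.bwd (nat_lit 7) (Steps.fwd (nat_lit 114688) (Steps.bwd (nat_lit 2) Steps.nil))))) (nat_lit 176) (nat_lit 2),
  Rule.mk (nat_lit 12) (nat_lit 104) (Steps.bwd (nat_lit 3) (Steps.bwd (nat_lit 4) (Steps.fwd (nat_lit 40960) (Steps.fwd (nat_lit 65536) (Steps.bwd (nat_lit 9) (Steps.fwd (nat_lit 24576) Steps.nil)))))) (nat_lit 184) (nat_lit 2),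
  Rule.mk (nat_lit 5) (nat_lit 149) (Steps.bwd (nat_lit 3) (Steps.bwd (nat_lit 14) (Steps.bwd (nat_lit 13) (Steps.fwd (nat_lit 98304) (Steps.bwd (nat_lit 9) (Steps.bwd (nat_lit 8) (Steps.bwd (nat_lit 5) (Steps.fwd (nat_lit 32768) (Steps.fwd (nat_lit 24576) Steps.nil))))))))) (nat_lit 171) (nat_lit 9),
  Rule.mk (nat_lit 2) (nat_lit 119) (Steps.bwd (nat_lit 14) (Steps.bwd (nat_lit 3) (Steps.bwd (nat_lit 14) (Steps.fwd (nat_lit 98304) (Steps.bwd (nat_lit 7) (Steps.bwd (nat_lit 6) (Steps.fwd (nat_lit 40960) Steps.nil))))))) (nat_lit 189) (nat_lit 6),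
  Rule.mk (nat_lit 7) (nat_lit 104) (Steps.bwd (nat_lit 3) (Steps.fwd (nat_lit 40960) (Steps.bwd (nat_lit 7) (Steps.fwd (nat_lit 106496) (Steps.fwd (nat_lit 114688) (Steps.bwd (nat_lit 2) Steps.nil)))))) (nat_lit 174) (nat_lit 2),
  Rule.mk (nat_lit 2) (nat_lit 59) (Steps.bwd (nat_lit 4) (Steps.fwd (nat_lit 16384) (Steps.bwd (nat_lit 4) Steps.nil))) (nat_lit 168) (nat_lit 1),
  Rule.mk (nat_lit 3) (nat_lit 104) (Steps.bwd (nat_lit 9) (Steps.fwd (nat_lit 65536) (Steps.fwd (nat_lit 40960) (Steps.bwd (nat_lit 4) (Steps.bwd (nat_lit 2) (Steps.fwd (nat_lit 98304) Steps.nil)))))) (nat_lit 185) (nat_lit 0),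
  Rule.mk (nat_lit 4) (nat_lit 59) (Steps.fwd (nat_lit 114688) (Steps.fwd (nat_lit 32768) (Steps.bwd (nat_lit 14) Steps.nil))) (nat_lit 126) (nat_lit 0),
  Rule.mk (nat_lit 8) (nat_lit 59) (Steps.fwd (nat_lit 114688) (Steps.bwd (nat_lit 8) (Steps.bwd (nat_lit 14) Steps.nil))) (nat_lit 134) (nat_lit 0),
  Rule.mk (nat_lit 4) (nat_lit 59) (Steps.bwd (nat_lit 2) (Steps.bwd (nat_lit 4) (Steps.fwd (nat_lit 16384) Steps.nil))) (nat_lit 168) (nat_lit 0),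
  Rule.mk (nat_lit 14) (nat_lit 89) (Steps.bwd (nat_lit 2) (Steps.bwd (nat_lit 8) (Steps.fwd (nat_lit 16384) (Steps.fwd (nat_lit 32768) (Steps.bwd (nat_lit 7) Steps.nil))))) (nat_lit 176) (nat_lit 0),
  Rule.mk (nat_lit 9) (nat_lit 104) (Steps.bwd (nat_lit 2) (Steps.fwd (nat_lit 98304) (Steps.fwd (nat_lit 16384) (Steps.fwd (nat_lit 32768) (Steps.fwd (nat_lit 40960) (Steps.fwd (nat_lit 65536) Steps.nil)))))) (nat_lit 184) (nat_lit 0),
  Rule.mk (nat_lit 5) (nat_lit 59) (Steps.bwd (nat_lit 9) (Steps.bwd (nat_lit 5) (Steps.bwd (nat_lit 9) Steps.nil))) (nat_lit 58) (nat_lit 0),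
  Rule.mk (nat_lit 12) (nat_lit 59) (Steps.fwd (nat_lit 73728) (Steps.bwd (nat_lit 12) (Steps.bwd (nat_lit 9) Steps.nil))) (nat_lit 102) (nat_lit 1),
  Rule.mk (nat_lit 5) (nat_lit 149) (Steps.bwd (nat_lit 3) (Steps.bwd (nat_lit 14) (Steps.fwd (nat_lit 106496) (Steps.fwd (nat_lit 98304) (Steps.fwd (nat_lit 73728) (Steps.bwd (nat_lit 8) (Steps.fwd (nat_lit 40960) (Steps.fwd (nat_lit 32768) (Steps.bwd (nat_lit 2) Steps.nil))))))))) (nat_lit 171) (nat_lit 9),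
  Rule.mk (nat_lit 8) (nat_lit 59) (Steps.fwd (nat_lit 40960) (Steps.fwd (nat_lit 65536) (Steps.bwd (nat_lit 5) Steps.nil))) (nat_lit 50) (nat_lit 1),
  Rule.mk (nat_lit 2) (nat_lit 89) (Steps.bwd (nat_lit 8) (Steps.fwd (nat_lit 16384) (Steps.bwd (nat_lit 4) (Steps.bwd (nat_lit 7) (Steps.bwd (nat_lit 14) Steps.nil))))) (nat_lit 176) (nat_lit 1),
  Rule.mk (nat_lit 4) (nat_lit 59) (Steps.bwd (nat_lit 7) (Steps.fwd (nat_lit 32768) (Steps.bwd (nat_lit 7) Steps.nil))) (nat_lit 42) (nat_lit 0),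
  Rule.mk (nat_lit 5) (nat_lit 59) (Steps.fwd (nat_lit 114688) (Steps.fwd (nat_lit 40960) (Steps.bwd (nat_lit 14) Steps.nil))) (nat_lit 128) (nat_lit 0),
  Rule.mk (nat_lit 3) (nat_lit 104) (Steps.bwd (nat_lit 9) (Steps.bwd (nat_lit 8) (Steps.fwd (nat_lit 40960) (Steps.fwd (nat_lit 32768) (Steps.bwd (nat_lit 2) (Steps.fwd (nat_lit 98304) Steps.nil)))))) (nat_lit 185) (nat_lit 0),
  Rule.mk (nat_lit 2) (nat_lit 104) (Steps.fwd (nat_lit 98304) (Steps.bwd (nat_lit 3) (Steps.fwd (nat_lit 32768) (Steps.bwd (nat_lit 5) (Steps.bwd (nat_lit 8) (Steps.bwd (nat_lit 9) Steps.nil)))))) (nat_lit 184) (nat_lit 1),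
  Rule.mk (nat_lit 3) (nat_lit 59) (Steps.bwd (nat_lit 4) (Steps.bwd (nat_lit 2) (Steps.bwd (nat_lit 4) Steps.nil))) (nat_lit 168) (nat_lit 3),
  Rule.mk (nat_lit 14) (nat_lit 59) (Steps.bwd (nat_lit 8) (Steps.bwd (nat_lit 14) (Steps.bwd (nat_lit 8) Steps.nil))) (nat_lit 134) (nat_lit 1),
  Rule.mk (nat_lit 9) (nat_lit 104) (Steps.bwd (nat_lit 8) (Steps.bwd (nat_lit 5) (Steps.fwd (nat_lit 32768) (Steps.bwd (nat_lit 2) (Steps.bwd (nat_lit 12) (Steps.bwd (nat_lit 3) Steps.nil)))))) (nat_lit 185) (nat_lit 1),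
  Rule.mk (nat_lit 5) (nat_lit 104) (Steps.bwd (nat_lit 2) (Steps.fwd (nat_lit 57344) (Steps.bwd (nat_lit 3) (Steps.bwd (nat_lit 14) (Steps.bwd (nat_lit 13) (Steps.bwd (nat_lit 7) Steps.nil)))))) (nat_lit 175) (nat_lit 4),
  Rule.mk (nat_lit 13) (nat_lit 59) (Steps.bwd (nat_lit 5) (Steps.fwd (nat_lit 106496) (Steps.bwd (nat_lit 5) Steps.nil))) (nat_lit 110) (nat_lit 1),
  Rule.mk (nat_lit 4) (nat_lit 59) (Steps.bwd (nat_lit 1) (Steps.fwd (nat_lit 40960) (Steps.fwd (nat_lit 8192) Steps.nil))) (nat_lit 146) (nat_lit 2),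
  Rule.mk (nat_lit 9) (nat_lit 89) (Steps.bwd (nat_lit 1) (Steps.fwd (nat_lit 32768) (Steps.bwd (nat_lit 7) (Steps.fwd (nat_lit 114688) (Steps.fwd (nat_lit 8192) Steps.nil))))) (nat_lit 156) (nat_lit 2),
  Rule.mk (nat_lit 14) (nat_lit 59) (Steps.fwd (nat_lit 65536) (Steps.fwd (nat_lit 114688) (Steps.bwd (nat_lit 8) Steps.nil))) (nat_lit 134) (nat_lit 1),
  Rule.mk (nat_lit 6) (nat_lit 149) (Steps.bwd (nat_lit 1) (Steps.fwd (nat_lit 114688) (Steps.bwd (nat_lit 13) (Steps.fwd (nat_lit 98304) (Steps.fwd (nat_lit 73728) (Steps.bwd (nat_lit 8) (Steps.bwd (nat_lit 5) (Steps.fwd (nat_lit 32768) (Steps.bwd (nat_lit 1) Steps.nil))))))))) (nat_lit 151) (nat_lit 9),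
  Rule.mk (nat_lit 7) (nat_lit 59) (Steps.fwd (nat_lit 49152) (Steps.bwd (nat_lit 7) (Steps.bwd (nat_lit 6) Steps.nil))) (nat_lit 46) (nat_lit 1),
  Rule.mk (nat_lit 3) (nat_lit 119) (Steps.bwd (nat_lit 14) (Steps.fwd (nat_lit 98304) (Steps.fwd (nat_lit 57344) (Steps.bwd (nat_lit 6) (Steps.fwd (nat_lit 40960) (Steps.bwd (nat_lit 2) (Steps.fwd (nat_lit 114688) Steps.nil))))))) (nat_lit 189) (nat_lit 0),
  Rule.mk (nat_lit 12) (nat_lit 59) (Steps.bwd (nat_lit 5) (Steps.fwd (nat_lit 98304) (Steps.fwd (nat_lit 40960) Steps.nil))) (nat_lit 94) (nat_lit 1),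
  Rule.mk (nat_lit 3) (nat_lit 104) (Steps.bwd (nat_lit 5) (Steps.fwd (nat_lit 57344) (Steps.fwd (nat_lit 106496) (Steps.fwd (nat_lit 114688) (Steps.bwd (nat_lit 2) (Steps.bwd (nat_lit 7) Steps.nil)))))) (nat_lit 174) (nat_lit 3),
  Rule.mk (nat_lit 1) (nat_lit 89) (Steps.bwd (nat_lit 14) (Steps.fwd (nat_lit 57344) (Steps.bwd (nat_lit 4) (Steps.fwd (nat_lit 8192) (Steps.bwd (nat_lit 9) Steps.nil))))) (nat_lit 157) (nat_lit 0),
  Rule.mk (nat_lit 6) (nat_lit 149) (Steps.fwd (nat_lit 8192) (Steps.fwd (nat_lit 32768) (Steps.fwd (nat_lit 40960) (Steps.bwd (nat_lit 8) (Steps.bwd (nat_lit 9) (Steps.bwd (nat_lit 12) (Steps.bwd (nat_lit 13) (Steps.fwd (nat_lit 114688) (Steps.bwd (nat_lit 1) Steps.nil))))))))) (nat_lit 150) (nat_lit 2),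
  Rule.mk (nat_lit 3) (nat_lit 89) (Steps.bwd (nat_lit 14) (Steps.fwd (nat_lit 57344) (Steps.bwd (nat_lit 4) (Steps.fwd (nat_lit 24576) (Steps.fwd (nat_lit 65536) Steps.nil))))) (nat_lit 177) (nat_lit 0),
  Rule.mk (nat_lit 3) (nat_lit 119) (Steps.bwd (nat_lit 5) (Steps.fwd (nat_lit 49152) (Steps.fwd (nat_lit 57344) (Steps.fwd (nat_lit 98304) (Steps.fwd (nat_lit 114688) (Steps.bwd (nat_lit 2) (Steps.bwd (nat_lit 14) Steps.nil))))))) (nat_lit 188) (nat_lit 3),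
  Rule.mk (nat_lit 1) (nat_lit 104) (Steps.bwd (nat_lit 8) (Steps.fwd (nat_lit 8192) (Steps.fwd (nat_lit 40960) (Steps.bwd (nat_lit 7) (Steps.bwd (nat_lit 13) (Steps.bwd (nat_lit 14) Steps.nil)))))) (nat_lit 154) (nat_lit 1),
  Rule.mk (nat_lit 8) (nat_lit 59) (Steps.bwd (nat_lit 13) (Steps.fwd (nat_lit 65536) (Steps.bwd (nat_lit 13) Steps.nil))) (nat_lit 116) (nat_lit 0)]
noncomputable def R_7 : List (Rule) := [Rule.mk (nat_lit 12) (nat_lit 149) (Steps.bwd (nat_lit 13) (Steps.bwd (nat_lit 14) (Steps.fwd (nat_lit 8192) (Steps.fwd (nat_lit 49152) (Steps.fwd (nat_lit 8192) (Steps.bwd (nat_lit 4) (Steps.bwd (nat_lit 5) (Steps.bwd (nat_lit 8) (Steps.bwd (nat_lit 9) Steps.nil))))))))) (nat_lit 150) (nat_lit 8),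
  Rule.mk (nat_lit 5) (nat_lit 59) (Steps.fwd (nat_lit 98304) (Steps.bwd (nat_lit 5) (Steps.bwd (nat_lit 12) Steps.nil))) (nat_lit 94) (nat_lit 0),
  Rule.mk (nat_lit 9) (nat_lit 59) (Steps.fwd (nat_lit 98304) (Steps.bwd (nat_lit 9) (Steps.bwd (nat_lit 12) Steps.nil))) (nat_lit 102) (nat_lit 0),
  Rule.mk (nat_lit 8) (nat_lit 59) (Steps.bwd (nat_lit 13) (Steps.fwd (nat_lit 65536) (Steps.fwd (nat_lit 106496) Steps.nil))) (nat_lit 116) (nat_lit 0),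
  Rule.mk (nat_lit 12) (nat_lit 59) (Steps.fwd (nat_lit 106496) (Steps.bwd (nat_lit 12) (Steps.bwd (nat_lit 13) Steps.nil))) (nat_lit 124) (nat_lit 0),
  Rule.mk (nat_lit 3) (nat_lit 104) (Steps.bwd (nat_lit 14) (Steps.fwd (nat_lit 106496) (Steps.fwd (nat_lit 57344) (Steps.fwd (nat_lit 40960) (Steps.bwd (nat_lit 2) (Steps.fwd (nat_lit 57344) Steps.nil)))))) (nat_lit 175) (nat_lit 0),
  Rule.mk (nat_lit 1) (nat_lit 104) (Steps.bwd (nat_lit 5) (Steps.fwd (nat_lit 57344) (Steps.bwd (nat_lit 13) (Steps.fwd (nat_lit 114688) (Steps.bwd (nat_lit 1) (Steps.bwd (nat_lit 8) Steps.nil)))))) (nat_lit 154) (nat_lit 3),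
  Rule.mk (nat_lit 3) (nat_lit 104) (Steps.bwd (nat_lit 5) (Steps.fwd (nat_lit 57344) (Steps.bwd (nat_lit 13) (Steps.fwd (nat_lit 114688) (Steps.fwd (nat_lit 24576) (Steps.bwd (nat_lit 7) Steps.nil)))))) (nat_lit 174) (nat_lit 3),
  Rule.mk (nat_lit 12) (nat_lit 59) (Steps.fwd (nat_lit 57344) (Steps.bwd (nat_lit 12) (Steps.bwd (nat_lit 7) Steps.nil))) (nat_lit 98) (nat_lit 1),
  Rule.mk (nat_lit 9) (nat_lit 104) (Steps.bwd (nat_lit 8) (Steps.fwd (nat_lit 40960) (Steps.bwd (nat_lit 4) (Steps.fwd (nat_lit 8192) (Steps.bwd (nat_lit 13) (Steps.bwd (nat_lit 1) Steps.nil)))))) (nat_lit 165) (nat_lit 1),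
  Rule.mk (nat_lit 8) (nat_lit 104) (Steps.bwd (nat_lit 1) (Steps.fwd (nat_lit 40960) (Steps.fwd (nat_lit 57344) (Steps.fwd (nat_lit 106496) (Steps.bwd (nat_lit 14) (Steps.fwd (nat_lit 8192) Steps.nil)))))) (nat_lit 154) (nat_lit 2),
  Rule.mk (nat_lit 7) (nat_lit 104) (Steps.bwd (nat_lit 13) (Steps.bwd (nat_lit 14) (Steps.bwd (nat_lit 1) (Steps.bwd (nat_lit 8) (Steps.fwd (nat_lit 8192) (Steps.fwd (nat_lit 40960) Steps.nil)))))) (nat_lit 154) (nat_lit 5),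
  Rule.mk (nat_lit 4) (nat_lit 59) (Steps.fwd (nat_lit 57344) (Steps.bwd (nat_lit 4) (Steps.bwd (nat_lit 7) Steps.nil))) (nat_lit 42) (nat_lit 0),
  Rule.mk (nat_lit 9) (nat_lit 59) (Steps.fwd (nat_lit 57344) (Steps.bwd (nat_lit 9) (Steps.bwd (nat_lit 7) Steps.nil))) (nat_lit 62) (nat_lit 1),
  Rule.mk (nat_lit 8) (nat_lit 89) (Steps.bwd (nat_lit 3) (Steps.fwd (nat_lit 32768) (Steps.bwd (nat_lit 7) (Steps.bwd (nat_lit 14) (Steps.bwd (nat_lit 2) Steps.nil))))) (nat_lit 176) (nat_lit 2),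
  Rule.mk (nat_lit 12) (nat_lit 104) (Steps.bwd (nat_lit 3) (Steps.fwd (nat_lit 32768) (Steps.bwd (nat_lit 5) (Steps.fwd (nat_lit 65536) (Steps.fwd (nat_lit 73728) (Steps.bwd (nat_lit 2) Steps.nil)))))) (nat_lit 184) (nat_lit 2),
  Rule.mk (nat_lit 14) (nat_lit 119) (Steps.bwd (nat_lit 3) (Steps.bwd (nat_lit 5) (Steps.bwd (nat_lit 6) (Steps.fwd (nat_lit 57344) (Steps.bwd (nat_lit 12) (Steps.fwd (nat_lit 114688) (Steps.fwd (nat_lit 24576) Steps.nil))))))) (nat_lit 188) (nat_lit 2),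
  Rule.mk (nat_lit 7) (nat_lit 59) (Steps.fwd (nat_lit 114688) (Steps.fwd (nat_lit 57344) (Steps.bwd (nat_lit 14) Steps.nil))) (nat_lit 132) (nat_lit 0),
  Rule.mk (nat_lit 9) (nat_lit 59) (Steps.fwd (nat_lit 114688) (Steps.bwd (nat_lit 9) (Steps.bwd (nat_lit 14) Steps.nil))) (nat_lit 136) (nat_lit 0),
  Rule.mk (nat_lit 12) (nat_lit 59) (Steps.bwd (nat_lit 8) (Steps.bwd (nat_lit 12) (Steps.bwd (nat_lit 8) Steps.nil))) (nat_lit 100) (nat_lit 1),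
  Rule.mk (nat_lit 2) (nat_lit 89) (Steps.bwd (nat_lit 8) (Steps.bwd (nat_lit 3) (Steps.fwd (nat_lit 32768) (Steps.bwd (nat_lit 7) (Steps.bwd (nat_lit 14) Steps.nil))))) (nat_lit 176) (nat_lit 1),
  Rule.mk (nat_lit 1) (nat_lit 104) (Steps.bwd (nat_lit 8) (Steps.bwd (nat_lit 1) (Steps.bwd (nat_lit 5) (Steps.fwd (nat_lit 57344) (Steps.bwd (nat_lit 13) (Steps.bwd (nat_lit 14) Steps.nil)))))) (nat_lit 154) (nat_lit 1),
  Rule.mk (nat_lit 12) (nat_lit 59) (Steps.bwd (nat_lit 7) (Steps.fwd (nat_lit 98304) (Steps.fwd (nat_lit 57344) Steps.nil))) (nat_lit 98) (nat_lit 1),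
  Rule.mk (nat_lit 2) (nat_lit 149) (Steps.bwd (nat_lit 5) (Steps.bwd (nat_lit 3) (Steps.fwd (nat_lit 32768) (Steps.fwd (nat_lit 40960) (Steps.fwd (nat_lit 65536) (Steps.bwd (nat_lit 9) (Steps.bwd (nat_lit 12) (Steps.bwd (nat_lit 13) (Steps.bwd (nat_lit 14) Steps.nil))))))))) (nat_lit 170) (nat_lit 1),
  Rule.mk (nat_lit 12) (nat_lit 59) (Steps.fwd (nat_lit 114688) (Steps.fwd (nat_lit 98304) (Steps.bwd (nat_lit 14) Steps.nil))) (nat_lit 142) (nat_lit 0),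
  Rule.mk (nat_lit 7) (nat_lit 59) (Steps.bwd (nat_lit 13) (Steps.bwd (nat_lit 7) (Steps.fwd (nat_lit 106496) Steps.nil))) (nat_lit 114) (nat_lit 0),
  Rule.mk (nat_lit 8) (nat_lit 59) (Steps.fwd (nat_lit 98304) (Steps.fwd (nat_lit 65536) (Steps.bwd (nat_lit 12) Steps.nil))) (nat_lit 100) (nat_lit 0),
  Rule.mk (nat_lit 2) (nat_lit 89) (Steps.bwd (nat_lit 8) (Steps.bwd (nat_lit 3) (Steps.bwd (nat_lit 14) (Steps.bwd (nat_lit 7) (Steps.bwd (nat_lit 4) Steps.nil))))) (nat_lit 177) (nat_lit 4),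
  Rule.mk (nat_lit 13) (nat_lit 59) (Steps.bwd (nat_lit 8) (Steps.fwd (nat_lit 106496) (Steps.fwd (nat_lit 65536) Steps.nil))) (nat_lit 116) (nat_lit 1),
  Rule.mk (nat_lit 8) (nat_lit 104) (Steps.bwd (nat_lit 1) (Steps.fwd (nat_lit 40960) (Steps.fwd (nat_lit 57344) (Steps.bwd (nat_lit 13) (Steps.bwd (nat_lit 14) (Steps.fwd (nat_lit 8192) Steps.nil)))))) (nat_lit 154) (nat_lit 2),
  Rule.mk (nat_lit 8) (nat_lit 59) (Steps.bwd (nat_lit 5) (Steps.fwd (nat_lit 65536) (Steps.fwd (nat_lit 40960) Steps.nil))) (nat_lit 50) (nat_lit 1),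
  Rule.mk (nat_lit 13) (nat_lit 59) (Steps.bwd (nat_lit 5) (Steps.bwd (nat_lit 13) (Steps.fwd (nat_lit 40960) Steps.nil))) (nat_lit 110) (nat_lit 1),
  Rule.mk (nat_lit 9) (nat_lit 59) (Steps.fwd (nat_lit 106496) (Steps.bwd (nat_lit 9) (Steps.bwd (nat_lit 13) Steps.nil))) (nat_lit 118) (nat_lit 0),
  Rule.mk (nat_lit 13) (nat_lit 59) (Steps.bwd (nat_lit 4) (Steps.fwd (nat_lit 106496) (Steps.bwd (nat_lit 4) Steps.nil))) (nat_lit 108) (nat_lit 1),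
  Rule.mk (nat_lit 7) (nat_lit 89) (Steps.bwd (nat_lit 4) (Steps.bwd (nat_lit 1) (Steps.bwd (nat_lit 9) (Steps.fwd (nat_lit 8192) (Steps.fwd (nat_lit 114688) Steps.nil))))) (nat_lit 157) (nat_lit 2),
  Rule.mk (nat_lit 4) (nat_lit 89) (Steps.bwd (nat_lit 1) (Steps.bwd (nat_lit 9) (Steps.fwd (nat_lit 8192) (Steps.bwd (nat_lit 14) (Steps.fwd (nat_lit 57344) Steps.nil))))) (nat_lit 157) (nat_lit 3),
  Rule.mk (nat_lit 13) (nat_lit 104) (Steps.bwd (nat_lit 1) (Steps.bwd (nat_lit 9) (Steps.fwd (nat_lit 65536) (Steps.bwd (nat_lit 5) (Steps.fwd (nat_lit 32768) (Steps.fwd (nat_lit 8192) Steps.nil)))))) (nat_lit 165) (nat_lit 6),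
  Rule.mk (nat_lit 2) (nat_lit 59) (Steps.bwd (nat_lit 4) (Steps.bwd (nat_lit 3) (Steps.bwd (nat_lit 4) Steps.nil))) (nat_lit 168) (nat_lit 1),
  Rule.mk (nat_lit 9) (nat_lit 104) (Steps.bwd (nat_lit 8) (Steps.fwd (nat_lit 40960) (Steps.bwd (nat_lit 4) (Steps.bwd (nat_lit 2) (Steps.fwd (nat_lit 98304) (Steps.bwd (nat_lit 3) Steps.nil)))))) (nat_lit 185) (nat_lit 1),
  Rule.mk (nat_lit 14) (nat_lit 89) (Steps.bwd (nat_lit 1) (Steps.fwd (nat_lit 73728) (Steps.bwd (nat_lit 1) (Steps.bwd (nat_lit 4) (Steps.bwd (nat_lit 7) Steps.nil))))) (nat_lit 156) (nat_lit 0),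
  Rule.mk (nat_lit 1) (nat_lit 149) (Steps.bwd (nat_lit 6) (Steps.fwd (nat_lit 8192) (Steps.fwd (nat_lit 114688) (Steps.bwd (nat_lit 13) (Steps.fwd (nat_lit 98304) (Steps.bwd (nat_lit 9) (Steps.fwd (nat_lit 65536) (Steps.fwd (nat_lit 40960) (Steps.bwd (nat_lit 4) Steps.nil))))))))) (nat_lit 151) (nat_lit 8),
  Rule.mk (nat_lit 5) (nat_lit 59) (Steps.fwd (nat_lit 8192) (Steps.bwd (nat_lit 4) (Steps.bwd (nat_lit 1) Steps.nil))) (nat_lit 146) (nat_lit 0),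
  Rule.mk (nat_lit 9) (nat_lit 59) (Steps.bwd (nat_lit 12) (Steps.fwd (nat_lit 73728) (Steps.fwd (nat_lit 98304) Steps.nil))) (nat_lit 102) (nat_lit 0),
  Rule.mk (nat_lit 7) (nat_lit 59) (Steps.bwd (nat_lit 9) (Steps.bwd (nat_lit 7) (Steps.bwd (nat_lit 9) Steps.nil))) (nat_lit 62) (nat_lit 0),
  Rule.mk (nat_lit 6) (nat_lit 149) (Steps.fwd (nat_lit 8192) (Steps.bwd (nat_lit 14) (Steps.fwd (nat_lit 106496) (Steps.bwd (nat_lit 12) (Steps.bwd (nat_lit 9) (Steps.bwd (nat_lit 8) (Steps.fwd (nat_lit 40960) (Steps.fwd (nat_lit 32768) (Steps.bwd (nat_lit 1) Steps.nil))))))))) (nat_lit 151) (nat_lit 9),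
  Rule.mk (nat_lit 8) (nat_lit 104) (Steps.bwd (nat_lit 1) (Steps.fwd (nat_lit 40960) (Steps.fwd (nat_lit 57344) (Steps.bwd (nat_lit 13) (Steps.bwd (nat_lit 14) (Steps.bwd (nat_lit 1) Steps.nil)))))) (nat_lit 154) (nat_lit 2),
  Rule.mk (nat_lit 13) (nat_lit 104) (Steps.bwd (nat_lit 1) (Steps.fwd (nat_lit 32768) (Steps.fwd (nat_lit 40960) (Steps.fwd (nat_lit 65536) (Steps.fwd (nat_lit 73728) (Steps.fwd (nat_lit 8192) Steps.nil)))))) (nat_lit 164) (nat_lit 2),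
  Rule.mk (nat_lit 1) (nat_lit 104) (Steps.bwd (nat_lit 13) (Steps.fwd (nat_lit 8192) (Steps.fwd (nat_lit 32768) (Steps.bwd (nat_lit 5) (Steps.fwd (nat_lit 65536) (Steps.bwd (nat_lit 9) Steps.nil)))))) (nat_lit 164) (nat_lit 1),
  Rule.mk (nat_lit 2) (nat_lit 119) (Steps.bwd (nat_lit 14) (Steps.bwd (nat_lit 3) (Steps.fwd (nat_lit 40960) (Steps.bwd (nat_lit 6) (Steps.bwd (nat_lit 7) (Steps.fwd (nat_lit 98304) (Steps.bwd (nat_lit 14) Steps.nil))))))) (nat_lit 188) (nat_lit 1),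
  Rule.mk (nat_lit 3) (nat_lit 89) (Steps.bwd (nat_lit 14) (Steps.fwd (nat_lit 57344) (Steps.bwd (nat_lit 4) (Steps.fwd (nat_lit 24576) (Steps.bwd (nat_lit 8) Steps.nil))))) (nat_lit 177) (nat_lit 0),
  Rule.mk (nat_lit 8) (nat_lit 104) (Steps.bwd (nat_lit 5) (Steps.fwd (nat_lit 32768) (Steps.fwd (nat_lit 8192) (Steps.fwd (nat_lit 106496) (Steps.fwd (nat_lit 8192) (Steps.bwd (nat_lit 9) Steps.nil)))))) (nat_lit 165) (nat_lit 2),
  Rule.mk (nat_lit 6) (nat_lit 119) (Steps.bwd (nat_lit 5) (Steps.fwd (nat_lit 24576) (Steps.fwd (nat_lit 114688) (Steps.bwd (nat_lit 3) (Steps.bwd (nat_lit 14) (Steps.bwd (nat_lit 12) (Steps.fwd (nat_lit 57344) Steps.nil))))))) (nat_lit 189) (nat_lit 4),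
  Rule.mk (nat_lit 14) (nat_lit 119) (Steps.bwd (nat_lit 12) (Steps.fwd (nat_lit 57344) (Steps.fwd (nat_lit 49152) (Steps.bwd (nat_lit 5) (Steps.fwd (nat_lit 24576) (Steps.fwd (nat_lit 114688) (Steps.bwd (nat_lit 3) Steps.nil))))))) (nat_lit 189) (nat_lit 1),
  Rule.mk (nat_lit 4) (nat_lit 59) (Steps.bwd (nat_lit 14) (Steps.bwd (nat_lit 4) (Steps.fwd (nat_lit 114688) Steps.nil))) (nat_lit 126) (nat_lit 0),
  Rule.mk (nat_lit 3) (nat_lit 104) (Steps.bwd (nat_lit 14) (Steps.bwd (nat_lit 13) (Steps.fwd (nat_lit 57344) (Steps.bwd (nat_lit 5) (Steps.fwd (nat_lit 24576) (Steps.bwd (nat_lit 7) Steps.nil)))))) (nat_lit 175) (nat_lit 0),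
  Rule.mk (nat_lit 9) (nat_lit 59) (Steps.fwd (nat_lit 106496) (Steps.fwd (nat_lit 73728) (Steps.bwd (nat_lit 13) Steps.nil))) (nat_lit 118) (nat_lit 0),
  Rule.mk (nat_lit 9) (nat_lit 89) (Steps.bwd (nat_lit 1) (Steps.fwd (nat_lit 32768) (Steps.fwd (nat_lit 57344) (Steps.bwd (nat_lit 14) (Steps.fwd (nat_lit 8192) Steps.nil))))) (nat_lit 156) (nat_lit 2),
  Rule.mk (nat_lit 13) (nat_lit 104) (Steps.bwd (nat_lit 1) (Steps.fwd (nat_lit 73728) (Steps.bwd (nat_lit 8) (Steps.fwd (nat_lit 40960) (Steps.fwd (nat_lit 32768) (Steps.fwd (nat_lit 8192) Steps.nil)))))) (nat_lit 165) (nat_lit 6),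
  Rule.mk (nat_lit 2) (nat_lit 149) (Steps.bwd (nat_lit 5) (Steps.bwd (nat_lit 3) (Steps.bwd (nat_lit 14) (Steps.fwd (nat_lit 106496) (Steps.bwd (nat_lit 12) (Steps.fwd (nat_lit 73728) (Steps.bwd (nat_lit 8) (Steps.fwd (nat_lit 40960) (Steps.fwd (nat_lit 32768) Steps.nil))))))))) (nat_lit 171) (nat_lit 8),
  Rule.mk (nat_lit 4) (nat_lit 89) (Steps.bwd (nat_lit 1) (Steps.fwd (nat_lit 73728) (Steps.bwd (nat_lit 1) (Steps.fwd (nat_lit 114688) (Steps.bwd (nat_lit 7) Steps.nil))))) (nat_lit 157) (nat_lit 3),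
  Rule.mk (nat_lit 1) (nat_lit 59) (Steps.fwd (nat_lit 40960) (Steps.fwd (nat_lit 8192) (Steps.fwd (nat_lit 32768) Steps.nil))) (nat_lit 146) (nat_lit 3),
  Rule.mk (nat_lit 7) (nat_lit 89) (Steps.fwd (nat_lit 114688) (Steps.bwd (nat_lit 1) (Steps.bwd (nat_lit 9) (Steps.fwd (nat_lit 8192) (Steps.bwd (nat_lit 4) Steps.nil))))) (nat_lit 156) (nat_lit 5),
  Rule.mk (nat_lit 9) (nat_lit 59) (Steps.bwd (nat_lit 4) (Steps.bwd (nat_lit 9) (Steps.bwd (nat_lit 4) Steps.nil))) (nat_lit 56) (nat_lit 1),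
  Rule.mk (nat_lit 1) (nat_lit 59) (Steps.bwd (nat_lit 5) (Steps.fwd (nat_lit 8192) (Steps.bwd (nat_lit 4) Steps.nil))) (nat_lit 146) (nat_lit 3)]
noncomputable def R_8 : List (Rule) := [Rule.mk (nat_lit 8) (nat_lit 104) (Steps.bwd (nat_lit 5) (Steps.bwd (nat_lit 4) (Steps.bwd (nat_lit 1) (Steps.bwd (nat_lit 13) (Steps.bwd (nat_lit 1) (Steps.fwd (nat_lit 73728) Steps.nil)))))) (nat_lit 165) (nat_lit 2),
  Rule.mk (nat_lit 3) (nat_lit 104) (Steps.bwd (nat_lit 9) (Steps.fwd (nat_lit 65536) (Steps.bwd (nat_lit 5) (Steps.fwd (nat_lit 32768) (Steps.bwd (nat_lit 2) (Steps.fwd (nat_lit 98304) Steps.nil)))))) (nat_lit 185) (nat_lit 0),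
  Rule.mk (nat_lit 9) (nat_lit 104) (Steps.bwd (nat_lit 8) (Steps.fwd (nat_lit 40960) (Steps.fwd (nat_lit 32768) (Steps.fwd (nat_lit 8192) (Steps.bwd (nat_lit 13) (Steps.fwd (nat_lit 8192) Steps.nil)))))) (nat_lit 165) (nat_lit 1),
  Rule.mk (nat_lit 14) (nat_lit 89) (Steps.bwd (nat_lit 1) (Steps.fwd (nat_lit 73728) (Steps.fwd (nat_lit 8192) (Steps.fwd (nat_lit 32768) (Steps.bwd (nat_lit 7) Steps.nil))))) (nat_lit 156) (nat_lit 0),
  Rule.mk (nat_lit 13) (nat_lit 104) (Steps.bwd (nat_lit 1) (Steps.fwd (nat_lit 32768) (Steps.fwd (nat_lit 40960) (Steps.bwd (nat_lit 8) (Steps.bwd (nat_lit 9) (Steps.bwd (nat_lit 1) Steps.nil)))))) (nat_lit 164) (nat_lit 2),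
  Rule.mk (nat_lit 6) (nat_lit 149) (Steps.bwd (nat_lit 1) (Steps.fwd (nat_lit 32768) (Steps.fwd (nat_lit 40960) (Steps.bwd (nat_lit 8) (Steps.bwd (nat_lit 9) (Steps.bwd (nat_lit 12) (Steps.fwd (nat_lit 106496) (Steps.bwd (nat_lit 14) (Steps.fwd (nat_lit 8192) Steps.nil))))))))) (nat_lit 150) (nat_lit 2),
  Rule.mk (nat_lit 8) (nat_lit 59) (Steps.bwd (nat_lit 7) (Steps.bwd (nat_lit 8) (Steps.fwd (nat_lit 57344) Steps.nil))) (nat_lit 54) (nat_lit 1),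
  Rule.mk (nat_lit 2) (nat_lit 104) (Steps.fwd (nat_lit 57344) (Steps.bwd (nat_lit 3) (Steps.bwd (nat_lit 14) (Steps.bwd (nat_lit 13) (Steps.bwd (nat_lit 7) (Steps.bwd (nat_lit 5) Steps.nil)))))) (nat_lit 175) (nat_lit 5),
  Rule.mk (nat_lit 13) (nat_lit 59) (Steps.bwd (nat_lit 6) (Steps.fwd (nat_lit 106496) (Steps.bwd (nat_lit 6) Steps.nil))) (nat_lit 112) (nat_lit 1),
  Rule.mk (nat_lit 8) (nat_lit 59) (Steps.fwd (nat_lit 106496) (Steps.fwd (nat_lit 65536) (Steps.bwd (nat_lit 13) Steps.nil))) (nat_lit 116) (nat_lit 0),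
  Rule.mk (nat_lit 5) (nat_lit 104) (Steps.bwd (nat_lit 2) (Steps.fwd (nat_lit 57344) (Steps.bwd (nat_lit 3) (Steps.bwd (nat_lit 14) (Steps.bwd (nat_lit 13) (Steps.fwd (nat_lit 57344) Steps.nil)))))) (nat_lit 175) (nat_lit 4),
  Rule.mk (nat_lit 13) (nat_lit 59) (Steps.fwd (nat_lit 40960) (Steps.bwd (nat_lit 13) (Steps.bwd (nat_lit 5) Steps.nil))) (nat_lit 110) (nat_lit 1),
  Rule.mk (nat_lit 5) (nat_lit 59) (Steps.bwd (nat_lit 6) (Steps.bwd (nat_lit 5) (Steps.fwd (nat_lit 49152) Steps.nil))) (nat_lit 40) (nat_lit 0),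
  Rule.mk (nat_lit 14) (nat_lit 59) (Steps.bwd (nat_lit 6) (Steps.bwd (nat_lit 14) (Steps.fwd (nat_lit 49152) Steps.nil))) (nat_lit 130) (nat_lit 1),
  Rule.mk (nat_lit 1) (nat_lit 149) (Steps.bwd (nat_lit 6) (Steps.fwd (nat_lit 8192) (Steps.bwd (nat_lit 4) (Steps.bwd (nat_lit 5) (Steps.bwd (nat_lit 8) (Steps.fwd (nat_lit 73728) (Steps.bwd (nat_lit 12) (Steps.fwd (nat_lit 106496) (Steps.bwd (nat_lit 14) Steps.nil))))))))) (nat_lit 150) (nat_lit 1),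
  Rule.mk (nat_lit 4) (nat_lit 149) (Steps.bwd (nat_lit 2) (Steps.fwd (nat_lit 40960) (Steps.bwd (nat_lit 3) (Steps.bwd (nat_lit 14) (Steps.bwd (nat_lit 13) (Steps.bwd (nat_lit 12) (Steps.bwd (nat_lit 9) (Steps.fwd (nat_lit 65536) (Steps.fwd (nat_lit 40960) Steps.nil))))))))) (nat_lit 171) (nat_lit 7),
  Rule.mk (nat_lit 5) (nat_lit 59) (Steps.fwd (nat_lit 32768) (Steps.fwd (nat_lit 40960) (Steps.bwd (nat_lit 4) Steps.nil))) (nat_lit 36) (nat_lit 1),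
  Rule.mk (nat_lit 6) (nat_lit 59) (Steps.fwd (nat_lit 32768) (Steps.fwd (nat_lit 49152) (Steps.bwd (nat_lit 4) Steps.nil))) (nat_lit 38) (nat_lit 1),
  Rule.mk (nat_lit 9) (nat_lit 104) (Steps.bwd (nat_lit 1) (Steps.fwd (nat_lit 106496) (Steps.bwd (nat_lit 1) (Steps.bwd (nat_lit 4) (Steps.fwd (nat_lit 40960) (Steps.bwd (nat_lit 8) Steps.nil)))))) (nat_lit 164) (nat_lit 0),
  Rule.mk (nat_lit 8) (nat_lit 59) (Steps.fwd (nat_lit 73728) (Steps.bwd (nat_lit 8) (Steps.bwd (nat_lit 9) Steps.nil))) (nat_lit 64) (nat_lit 0),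
  Rule.mk (nat_lit 4) (nat_lit 59) (Steps.fwd (nat_lit 106496) (Steps.fwd (nat_lit 32768) (Steps.bwd (nat_lit 13) Steps.nil))) (nat_lit 108) (nat_lit 0),
  Rule.mk (nat_lit 5) (nat_lit 59) (Steps.fwd (nat_lit 106496) (Steps.fwd (nat_lit 40960) (Steps.bwd (nat_lit 13) Steps.nil))) (nat_lit 110) (nat_lit 0),
  Rule.mk (nat_lit 1) (nat_lit 104) (Steps.bwd (nat_lit 4) (Steps.fwd (nat_lit 40960) (Steps.fwd (nat_lit 65536) (Steps.fwd (nat_lit 73728) (Steps.bwd (nat_lit 1) (Steps.bwd (nat_lit 13) Steps.nil)))))) (nat_lit 164) (nat_lit 3),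
  Rule.mk (nat_lit 7) (nat_lit 89) (Steps.bwd (nat_lit 14) (Steps.bwd (nat_lit 1) (Steps.bwd (nat_lit 9) (Steps.bwd (nat_lit 1) (Steps.bwd (nat_lit 4) Steps.nil))))) (nat_lit 156) (nat_lit 5),
  Rule.mk (nat_lit 5) (nat_lit 104) (Steps.bwd (nat_lit 4) (Steps.bwd (nat_lit 1) (Steps.fwd (nat_lit 106496) (Steps.bwd (nat_lit 1) (Steps.fwd (nat_lit 73728) (Steps.fwd (nat_lit 65536) Steps.nil)))))) (nat_lit 165) (nat_lit 3),
  Rule.mk (nat_lit 14) (nat_lit 119) (Steps.bwd (nat_lit 3) (Steps.bwd (nat_lit 14) (Steps.bwd (nat_lit 12) (Steps.fwd (nat_lit 57344) (Steps.bwd (nat_lit 6) (Steps.bwd (nat_lit 5) (Steps.fwd (nat_lit 24576) Steps.nil))))))) (nat_lit 189) (nat_lit 7),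
  Rule.mk (nat_lit 11) (nat_lit 134) (Steps.fwd (nat_lit 73728) (Steps.bwd (nat_lit 8) (Steps.bwd (nat_lit 5) (Steps.bwd (nat_lit 4) (Steps.bwd (nat_lit 2) (Steps.fwd (nat_lit 73728) (Steps.bwd (nat_lit 3) (Steps.bwd (nat_lit 14) Steps.nil)))))))) (nat_lit 179) (nat_lit 2),
  Rule.mk (nat_lit 11) (nat_lit 59) (Steps.bwd (nat_lit 14) (Steps.fwd (nat_lit 90112) (Steps.fwd (nat_lit 114688) Steps.nil))) (nat_lit 140) (nat_lit 0),
  Rule.mk (nat_lit 12) (nat_lit 59) (Steps.bwd (nat_lit 11) (Steps.fwd (nat_lit 98304) (Steps.fwd (nat_lit 90112) Steps.nil))) (nat_lit 106) (nat_lit 1),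
  Rule.mk (nat_lit 10) (nat_lit 104) (Steps.bwd (nat_lit 3) (Steps.bwd (nat_lit 14) (Steps.bwd (nat_lit 12) (Steps.bwd (nat_lit 11) (Steps.fwd (nat_lit 49152) (Steps.bwd (nat_lit 2) Steps.nil)))))) (nat_lit 181) (nat_lit 6),
  Rule.mk (nat_lit 10) (nat_lit 59) (Steps.bwd (nat_lit 9) (Steps.bwd (nat_lit 10) (Steps.bwd (nat_lit 9) Steps.nil))) (nat_lit 76) (nat_lit 1),
  Rule.mk (nat_lit 10) (nat_lit 59) (Steps.fwd (nat_lit 32768) (Steps.bwd (nat_lit 10) (Steps.fwd (nat_lit 32768) Steps.nil))) (nat_lit 66) (nat_lit 1),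
  Rule.mk (nat_lit 10) (nat_lit 59) (Steps.bwd (nat_lit 5) (Steps.bwd (nat_lit 10) (Steps.fwd (nat_lit 40960) Steps.nil))) (nat_lit 68) (nat_lit 1),
  Rule.mk (nat_lit 10) (nat_lit 59) (Steps.fwd (nat_lit 57344) (Steps.bwd (nat_lit 10) (Steps.fwd (nat_lit 57344) Steps.nil))) (nat_lit 72) (nat_lit 1),
  Rule.mk (nat_lit 10) (nat_lit 59) (Steps.bwd (nat_lit 8) (Steps.bwd (nat_lit 10) (Steps.bwd (nat_lit 8) Steps.nil))) (nat_lit 74) (nat_lit 1),
  Rule.mk (nat_lit 10) (nat_lit 59) (Steps.fwd (nat_lit 98304) (Steps.bwd (nat_lit 10) (Steps.fwd (nat_lit 98304) Steps.nil))) (nat_lit 104) (nat_lit 0),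
  Rule.mk (nat_lit 10) (nat_lit 59) (Steps.bwd (nat_lit 14) (Steps.bwd (nat_lit 10) (Steps.bwd (nat_lit 14) Steps.nil))) (nat_lit 138) (nat_lit 0),
  Rule.mk (nat_lit 10) (nat_lit 59) (Steps.bwd (nat_lit 4) (Steps.bwd (nat_lit 10) (Steps.fwd (nat_lit 32768) Steps.nil))) (nat_lit 66) (nat_lit 1),
  Rule.mk (nat_lit 10) (nat_lit 59) (Steps.fwd (nat_lit 40960) (Steps.bwd (nat_lit 10) (Steps.fwd (nat_lit 40960) Steps.nil))) (nat_lit 68) (nat_lit 1),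
  Rule.mk (nat_lit 10) (nat_lit 59) (Steps.bwd (nat_lit 7) (Steps.bwd (nat_lit 10) (Steps.fwd (nat_lit 57344) Steps.nil))) (nat_lit 72) (nat_lit 1),
  Rule.mk (nat_lit 10) (nat_lit 59) (Steps.fwd (nat_lit 65536) (Steps.bwd (nat_lit 10) (Steps.fwd (nat_lit 65536) Steps.nil))) (nat_lit 74) (nat_lit 1),
  Rule.mk (nat_lit 10) (nat_lit 59) (Steps.fwd (nat_lit 98304) (Steps.bwd (nat_lit 10) (Steps.bwd (nat_lit 12) Steps.nil))) (nat_lit 104) (nat_lit 0),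
  Rule.mk (nat_lit 10) (nat_lit 59) (Steps.bwd (nat_lit 8) (Steps.bwd (nat_lit 10) (Steps.fwd (nat_lit 65536) Steps.nil))) (nat_lit 74) (nat_lit 1),
  Rule.mk (nat_lit 10) (nat_lit 59) (Steps.fwd (nat_lit 65536) (Steps.bwd (nat_lit 10) (Steps.bwd (nat_lit 8) Steps.nil))) (nat_lit 74) (nat_lit 1),
  Rule.mk (nat_lit 10) (nat_lit 59) (Steps.fwd (nat_lit 57344) (Steps.bwd (nat_lit 10) (Steps.bwd (nat_lit 7) Steps.nil))) (nat_lit 72) (nat_lit 1),
  Rule.mk (nat_lit 10) (nat_lit 59) (Steps.bwd (nat_lit 14) (Steps.bwd (nat_lit 10) (Steps.fwd (nat_lit 114688) Steps.nil))) (nat_lit 138) (nat_lit 0),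
  Rule.mk (nat_lit 10) (nat_lit 59) (Steps.fwd (nat_lit 73728) (Steps.bwd (nat_lit 10) (Steps.fwd (nat_lit 73728) Steps.nil))) (nat_lit 76) (nat_lit 1),
  Rule.mk (nat_lit 10) (nat_lit 59) (Steps.bwd (nat_lit 12) (Steps.bwd (nat_lit 10) (Steps.bwd (nat_lit 12) Steps.nil))) (nat_lit 104) (nat_lit 0),
  Rule.mk (nat_lit 10) (nat_lit 59) (Steps.fwd (nat_lit 114688) (Steps.bwd (nat_lit 10) (Steps.bwd (nat_lit 14) Steps.nil))) (nat_lit 138) (nat_lit 0),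
  Rule.mk (nat_lit 10) (nat_lit 59) (Steps.bwd (nat_lit 4) (Steps.bwd (nat_lit 10) (Steps.bwd (nat_lit 4) Steps.nil))) (nat_lit 66) (nat_lit 1),
  Rule.mk (nat_lit 10) (nat_lit 59) (Steps.fwd (nat_lit 32768) (Steps.bwd (nat_lit 10) (Steps.bwd (nat_lit 4) Steps.nil))) (nat_lit 66) (nat_lit 1),
  Rule.mk (nat_lit 10) (nat_lit 59) (Steps.fwd (nat_lit 73728) (Steps.bwd (nat_lit 10) (Steps.bwd (nat_lit 9) Steps.nil))) (nat_lit 76) (nat_lit 1),
  Rule.mk (nat_lit 10) (nat_lit 59) (Steps.fwd (nat_lit 114688) (Steps.bwd (nat_lit 10) (Steps.fwd (nat_lit 114688) Steps.nil))) (nat_lit 138) (nat_lit 0),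
  Rule.mk (nat_lit 10) (nat_lit 59) (Steps.bwd (nat_lit 5) (Steps.bwd (nat_lit 10) (Steps.bwd (nat_lit 5) Steps.nil))) (nat_lit 68) (nat_lit 1),
  Rule.mk (nat_lit 10) (nat_lit 59) (Steps.bwd (nat_lit 12) (Steps.bwd (nat_lit 10) (Steps.fwd (nat_lit 98304) Steps.nil))) (nat_lit 104) (nat_lit 0),
  Rule.mk (nat_lit 4) (nat_lit 104) (Steps.bwd (nat_lit 2) (Steps.fwd (nat_lit 98304) (Steps.bwd (nat_lit 3) (Steps.fwd (nat_lit 73728) (Steps.bwd (nat_lit 8) (Steps.bwd (nat_lit 5) Steps.nil)))))) (nat_lit 185) (nat_lit 4),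
  Rule.mk (nat_lit 6) (nat_lit 59) (Steps.bwd (nat_lit 4) (Steps.fwd (nat_lit 49152) (Steps.bwd (nat_lit 4) Steps.nil))) (nat_lit 38) (nat_lit 1),
  Rule.mk (nat_lit 7) (nat_lit 59) (Steps.fwd (nat_lit 32768) (Steps.fwd (nat_lit 57344) (Steps.bwd (nat_lit 4) Steps.nil))) (nat_lit 42) (nat_lit 1),
  Rule.mk (nat_lit 9) (nat_lit 59) (Steps.fwd (nat_lit 32768) (Steps.fwd (nat_lit 73728) (Steps.bwd (nat_lit 4) Steps.nil))) (nat_lit 56) (nat_lit 1),
  Rule.mk (nat_lit 14) (nat_lit 59) (Steps.fwd (nat_lit 32768) (Steps.fwd (nat_lit 114688) (Steps.bwd (nat_lit 4) Steps.nil))) (nat_lit 126) (nat_lit 1),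
  Rule.mk (nat_lit 3) (nat_lit 59) (Steps.fwd (nat_lit 32768) (Steps.fwd (nat_lit 24576) (Steps.bwd (nat_lit 4) Steps.nil))) (nat_lit 168) (nat_lit 3),
  Rule.mk (nat_lit 10) (nat_lit 59) (Steps.bwd (nat_lit 9) (Steps.bwd (nat_lit 10) (Steps.fwd (nat_lit 73728) Steps.nil))) (nat_lit 76) (nat_lit 1),
  Rule.mk (nat_lit 10) (nat_lit 59) (Steps.bwd (nat_lit 14) (Steps.fwd (nat_lit 81920) (Steps.fwd (nat_lit 114688) Steps.nil))) (nat_lit 138) (nat_lit 0),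
  Rule.mk (nat_lit 7) (nat_lit 89) (Steps.bwd (nat_lit 14) (Steps.bwd (nat_lit 2) (Steps.bwd (nat_lit 8) (Steps.fwd (nat_lit 16384) (Steps.fwd (nat_lit 32768) Steps.nil))))) (nat_lit 176) (nat_lit 5)]
noncomputable def R_9 : List (Rule) := [Rule.mk (nat_lit 10) (nat_lit 59) (Steps.bwd (nat_lit 12) (Steps.fwd (nat_lit 81920) (Steps.bwd (nat_lit 12) Steps.nil))) (nat_lit 104) (nat_lit 0),
  Rule.mk (nat_lit 10) (nat_lit 59) (Steps.bwd (nat_lit 8) (Steps.fwd (nat_lit 81920) (Steps.fwd (nat_lit 65536) Steps.nil))) (nat_lit 74) (nat_lit 1),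
  Rule.mk (nat_lit 10) (nat_lit 59) (Steps.bwd (nat_lit 14) (Steps.fwd (nat_lit 81920) (Steps.bwd (nat_lit 14) Steps.nil))) (nat_lit 138) (nat_lit 0),
  Rule.mk (nat_lit 11) (nat_lit 59) (Steps.fwd (nat_lit 32768) (Steps.fwd (nat_lit 90112) (Steps.bwd (nat_lit 4) Steps.nil))) (nat_lit 78) (nat_lit 1),
  Rule.mk (nat_lit 14) (nat_lit 134) (Steps.bwd (nat_lit 1) (Steps.bwd (nat_lit 10) (Steps.fwd (nat_lit 8192) (Steps.bwd (nat_lit 4) (Steps.bwd (nat_lit 5) (Steps.bwd (nat_lit 8) (Steps.fwd (nat_lit 73728) (Steps.fwd (nat_lit 90112) Steps.nil)))))))) (nat_lit 158) (nat_lit 0),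
  Rule.mk (nat_lit 4) (nat_lit 59) (Steps.fwd (nat_lit 114688) (Steps.bwd (nat_lit 4) (Steps.bwd (nat_lit 14) Steps.nil))) (nat_lit 126) (nat_lit 0),
  Rule.mk (nat_lit 11) (nat_lit 59) (Steps.fwd (nat_lit 114688) (Steps.fwd (nat_lit 90112) (Steps.bwd (nat_lit 14) Steps.nil))) (nat_lit 140) (nat_lit 0),
  Rule.mk (nat_lit 7) (nat_lit 59) (Steps.bwd (nat_lit 5) (Steps.bwd (nat_lit 7) (Steps.bwd (nat_lit 5) Steps.nil))) (nat_lit 44) (nat_lit 1),
  Rule.mk (nat_lit 12) (nat_lit 59) (Steps.bwd (nat_lit 5) (Steps.bwd (nat_lit 12) (Steps.fwd (nat_lit 40960) Steps.nil))) (nat_lit 94) (nat_lit 1),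
  Rule.mk (nat_lit 14) (nat_lit 59) (Steps.bwd (nat_lit 5) (Steps.fwd (nat_lit 114688) (Steps.fwd (nat_lit 40960) Steps.nil))) (nat_lit 128) (nat_lit 1),
  Rule.mk (nat_lit 1) (nat_lit 59) (Steps.bwd (nat_lit 5) (Steps.bwd (nat_lit 1) (Steps.bwd (nat_lit 4) Steps.nil))) (nat_lit 146) (nat_lit 3),
  Rule.mk (nat_lit 1) (nat_lit 89) (Steps.bwd (nat_lit 14) (Steps.bwd (nat_lit 7) (Steps.fwd (nat_lit 32768) (Steps.bwd (nat_lit 1) (Steps.bwd (nat_lit 9) Steps.nil))))) (nat_lit 157) (nat_lit 0),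
  Rule.mk (nat_lit 13) (nat_lit 59) (Steps.bwd (nat_lit 9) (Steps.bwd (nat_lit 13) (Steps.fwd (nat_lit 73728) Steps.nil))) (nat_lit 118) (nat_lit 1),
  Rule.mk (nat_lit 1) (nat_lit 104) (Steps.bwd (nat_lit 14) (Steps.bwd (nat_lit 13) (Steps.fwd (nat_lit 57344) (Steps.fwd (nat_lit 40960) (Steps.bwd (nat_lit 1) (Steps.bwd (nat_lit 8) Steps.nil)))))) (nat_lit 155) (nat_lit 0),
  Rule.mk (nat_lit 6) (nat_lit 149) (Steps.bwd (nat_lit 1) (Steps.fwd (nat_lit 32768) (Steps.fwd (nat_lit 40960) (Steps.fwd (nat_lit 65536) (Steps.bwd (nat_lit 9) (Steps.bwd (nat_lit 12) (Steps.bwd (nat_lit 13) (Steps.bwd (nat_lit 14) (Steps.bwd (nat_lit 1) Steps.nil))))))))) (nat_lit 150) (nat_lit 2),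
  Rule.mk (nat_lit 5) (nat_lit 59) (Steps.fwd (nat_lit 106496) (Steps.bwd (nat_lit 5) (Steps.bwd (nat_lit 13) Steps.nil))) (nat_lit 110) (nat_lit 0),
  Rule.mk (nat_lit 7) (nat_lit 59) (Steps.bwd (nat_lit 6) (Steps.bwd (nat_lit 7) (Steps.fwd (nat_lit 49152) Steps.nil))) (nat_lit 46) (nat_lit 1),
  Rule.mk (nat_lit 13) (nat_lit 59) (Steps.bwd (nat_lit 6) (Steps.bwd (nat_lit 13) (Steps.fwd (nat_lit 49152) Steps.nil))) (nat_lit 112) (nat_lit 1),
  Rule.mk (nat_lit 14) (nat_lit 59) (Steps.bwd (nat_lit 6) (Steps.fwd (nat_lit 114688) (Steps.bwd (nat_lit 6) Steps.nil))) (nat_lit 130) (nat_lit 1),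
  Rule.mk (nat_lit 12) (nat_lit 59) (Steps.fwd (nat_lit 114688) (Steps.bwd (nat_lit 12) (Steps.bwd (nat_lit 14) Steps.nil))) (nat_lit 142) (nat_lit 0),
  Rule.mk (nat_lit 4) (nat_lit 59) (Steps.bwd (nat_lit 7) (Steps.bwd (nat_lit 4) (Steps.bwd (nat_lit 7) Steps.nil))) (nat_lit 42) (nat_lit 0),
  Rule.mk (nat_lit 13) (nat_lit 59) (Steps.bwd (nat_lit 7) (Steps.bwd (nat_lit 13) (Steps.bwd (nat_lit 7) Steps.nil))) (nat_lit 114) (nat_lit 1),
  Rule.mk (nat_lit 2) (nat_lit 104) (Steps.bwd (nat_lit 7) (Steps.bwd (nat_lit 3) (Steps.bwd (nat_lit 5) (Steps.fwd (nat_lit 57344) (Steps.bwd (nat_lit 13) (Steps.fwd (nat_lit 114688) Steps.nil)))))) (nat_lit 174) (nat_lit 1),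
  Rule.mk (nat_lit 2) (nat_lit 89) (Steps.bwd (nat_lit 8) (Steps.fwd (nat_lit 16384) (Steps.bwd (nat_lit 4) (Steps.fwd (nat_lit 57344) (Steps.fwd (nat_lit 114688) Steps.nil))))) (nat_lit 176) (nat_lit 1),
  Rule.mk (nat_lit 2) (nat_lit 44) (Steps.fwd (nat_lit 24576) (Steps.bwd (nat_lit 2) Steps.nil)) (nat_lit 2) (nat_lit 0),
  Rule.mk (nat_lit 14) (nat_lit 119) (Steps.bwd (nat_lit 3) (Steps.bwd (nat_lit 5) (Steps.fwd (nat_lit 49152) (Steps.bwd (nat_lit 7) (Steps.bwd (nat_lit 12) (Steps.bwd (nat_lit 14) (Steps.bwd (nat_lit 2) Steps.nil))))))) (nat_lit 188) (nat_lit 2),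
  Rule.mk (nat_lit 11) (nat_lit 134) (Steps.bwd (nat_lit 9) (Steps.bwd (nat_lit 8) (Steps.fwd (nat_lit 40960) (Steps.fwd (nat_lit 32768) (Steps.fwd (nat_lit 24576) (Steps.bwd (nat_lit 9) (Steps.bwd (nat_lit 3) (Steps.bwd (nat_lit 14) Steps.nil)))))))) (nat_lit 179) (nat_lit 2),
  Rule.mk (nat_lit 1) (nat_lit 134) (Steps.fwd (nat_lit 114688) (Steps.bwd (nat_lit 11) (Steps.bwd (nat_lit 9) (Steps.bwd (nat_lit 8) (Steps.fwd (nat_lit 40960) (Steps.fwd (nat_lit 32768) (Steps.bwd (nat_lit 1) (Steps.fwd (nat_lit 81920) Steps.nil)))))))) (nat_lit 159) (nat_lit 0),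
  Rule.mk (nat_lit 11) (nat_lit 59) (Steps.fwd (nat_lit 65536) (Steps.bwd (nat_lit 11) (Steps.bwd (nat_lit 8) Steps.nil))) (nat_lit 86) (nat_lit 1),
  Rule.mk (nat_lit 11) (nat_lit 59) (Steps.fwd (nat_lit 32768) (Steps.bwd (nat_lit 11) (Steps.fwd (nat_lit 32768) Steps.nil))) (nat_lit 78) (nat_lit 1),
  Rule.mk (nat_lit 11) (nat_lit 59) (Steps.fwd (nat_lit 114688) (Steps.bwd (nat_lit 11) (Steps.bwd (nat_lit 14) Steps.nil))) (nat_lit 140) (nat_lit 0),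
  Rule.mk (nat_lit 11) (nat_lit 59) (Steps.fwd (nat_lit 32768) (Steps.bwd (nat_lit 11) (Steps.bwd (nat_lit 4) Steps.nil))) (nat_lit 78) (nat_lit 1),
  Rule.mk (nat_lit 6) (nat_lit 104) (Steps.bwd (nat_lit 2) (Steps.fwd (nat_lit 81920) (Steps.fwd (nat_lit 16384) (Steps.bwd (nat_lit 14) (Steps.fwd (nat_lit 98304) (Steps.fwd (nat_lit 90112) Steps.nil)))))) (nat_lit 181) (nat_lit 4),
  Rule.mk (nat_lit 11) (nat_lit 59) (Steps.bwd (nat_lit 6) (Steps.fwd (nat_lit 90112) (Steps.bwd (nat_lit 6) Steps.nil))) (nat_lit 82) (nat_lit 1),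
  Rule.mk (nat_lit 11) (nat_lit 104) (Steps.bwd (nat_lit 1) (Steps.fwd (nat_lit 114688) (Steps.fwd (nat_lit 98304) (Steps.fwd (nat_lit 90112) (Steps.fwd (nat_lit 49152) (Steps.fwd (nat_lit 8192) Steps.nil)))))) (nat_lit 161) (nat_lit 6),
  Rule.mk (nat_lit 4) (nat_lit 104) (Steps.bwd (nat_lit 2) (Steps.fwd (nat_lit 98304) (Steps.bwd (nat_lit 3) (Steps.bwd (nat_lit 9) (Steps.bwd (nat_lit 8) (Steps.fwd (nat_lit 40960) Steps.nil)))))) (nat_lit 185) (nat_lit 4),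
  Rule.mk (nat_lit 1) (nat_lit 104) (Steps.bwd (nat_lit 13) (Steps.fwd (nat_lit 8192) (Steps.fwd (nat_lit 73728) (Steps.bwd (nat_lit 8) (Steps.fwd (nat_lit 40960) (Steps.fwd (nat_lit 32768) Steps.nil)))))) (nat_lit 165) (nat_lit 5),
  Rule.mk (nat_lit 1) (nat_lit 104) (Steps.bwd (nat_lit 4) (Steps.fwd (nat_lit 40960) (Steps.fwd (nat_lit 65536) (Steps.bwd (nat_lit 9) (Steps.fwd (nat_lit 8192) (Steps.bwd (nat_lit 13) Steps.nil)))))) (nat_lit 164) (nat_lit 3),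
  Rule.mk (nat_lit 12) (nat_lit 59) (Steps.bwd (nat_lit 7) (Steps.bwd (nat_lit 12) (Steps.fwd (nat_lit 57344) Steps.nil))) (nat_lit 98) (nat_lit 1),
  Rule.mk (nat_lit 13) (nat_lit 59) (Steps.bwd (nat_lit 7) (Steps.bwd (nat_lit 13) (Steps.fwd (nat_lit 57344) Steps.nil))) (nat_lit 114) (nat_lit 1),
  Rule.mk (nat_lit 8) (nat_lit 59) (Steps.fwd (nat_lit 98304) (Steps.bwd (nat_lit 8) (Steps.bwd (nat_lit 12) Steps.nil))) (nat_lit 100) (nat_lit 0),
  Rule.mk (nat_lit 13) (nat_lit 59) (Steps.fwd (nat_lit 98304) (Steps.bwd (nat_lit 13) (Steps.bwd (nat_lit 12) Steps.nil))) (nat_lit 124) (nat_lit 1),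
  Rule.mk (nat_lit 3) (nat_lit 104) (Steps.fwd (nat_lit 32768) (Steps.fwd (nat_lit 40960) (Steps.bwd (nat_lit 8) (Steps.fwd (nat_lit 73728) (Steps.bwd (nat_lit 2) (Steps.bwd (nat_lit 12) Steps.nil)))))) (nat_lit 184) (nat_lit 3),
  Rule.mk (nat_lit 5) (nat_lit 149) (Steps.bwd (nat_lit 3) (Steps.fwd (nat_lit 32768) (Steps.bwd (nat_lit 5) (Steps.fwd (nat_lit 65536) (Steps.bwd (nat_lit 9) (Steps.bwd (nat_lit 12) (Steps.fwd (nat_lit 106496) (Steps.fwd (nat_lit 114688) (Steps.fwd (nat_lit 24576) Steps.nil))))))))) (nat_lit 170) (nat_lit 2),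
  Rule.mk (nat_lit 9) (nat_lit 59) (Steps.bwd (nat_lit 13) (Steps.fwd (nat_lit 73728) (Steps.fwd (nat_lit 106496) Steps.nil))) (nat_lit 118) (nat_lit 0),
  Rule.mk (nat_lit 1) (nat_lit 104) (Steps.bwd (nat_lit 13) (Steps.fwd (nat_lit 8192) (Steps.fwd (nat_lit 73728) (Steps.bwd (nat_lit 8) (Steps.bwd (nat_lit 5) (Steps.bwd (nat_lit 4) Steps.nil)))))) (nat_lit 165) (nat_lit 5),
  Rule.mk (nat_lit 14) (nat_lit 149) (Steps.bwd (nat_lit 13) (Steps.fwd (nat_lit 98304) (Steps.fwd (nat_lit 73728) (Steps.bwd (nat_lit 8) (Steps.bwd (nat_lit 5) (Steps.bwd (nat_lit 4) (Steps.bwd (nat_lit 2) (Steps.fwd (nat_lit 40960) (Steps.bwd (nat_lit 3) Steps.nil))))))))) (nat_lit 171) (nat_lit 1),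
  Rule.mk (nat_lit 14) (nat_lit 149) (Steps.bwd (nat_lit 2) (Steps.fwd (nat_lit 40960) (Steps.bwd (nat_lit 3) (Steps.bwd (nat_lit 4) (Steps.fwd (nat_lit 40960) (Steps.fwd (nat_lit 65536) (Steps.bwd (nat_lit 9) (Steps.fwd (nat_lit 98304) (Steps.bwd (nat_lit 13) Steps.nil))))))))) (nat_lit 170) (nat_lit 0),
  Rule.mk (nat_lit 13) (nat_lit 59) (Steps.fwd (nat_lit 114688) (Steps.bwd (nat_lit 13) (Steps.bwd (nat_lit 14) Steps.nil))) (nat_lit 144) (nat_lit 0),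
  Rule.mk (nat_lit 5) (nat_lit 149) (Steps.bwd (nat_lit 3) (Steps.fwd (nat_lit 114688) (Steps.fwd (nat_lit 106496) (Steps.bwd (nat_lit 12) (Steps.bwd (nat_lit 9) (Steps.fwd (nat_lit 65536) (Steps.bwd (nat_lit 5) (Steps.bwd (nat_lit 4) (Steps.bwd (nat_lit 2) Steps.nil))))))))) (nat_lit 171) (nat_lit 9),
  Rule.mk (nat_lit 6) (nat_lit 59) (Steps.fwd (nat_lit 40960) (Steps.bwd (nat_lit 6) (Steps.bwd (nat_lit 5) Steps.nil))) (nat_lit 40) (nat_lit 1),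
  Rule.mk (nat_lit 9) (nat_lit 59) (Steps.fwd (nat_lit 40960) (Steps.fwd (nat_lit 73728) (Steps.bwd (nat_lit 5) Steps.nil))) (nat_lit 58) (nat_lit 1),
  Rule.mk (nat_lit 1) (nat_lit 149) (Steps.bwd (nat_lit 6) (Steps.fwd (nat_lit 8192) (Steps.bwd (nat_lit 14) (Steps.fwd (nat_lit 106496) (Steps.bwd (nat_lit 12) (Steps.fwd (nat_lit 73728) (Steps.bwd (nat_lit 8) (Steps.bwd (nat_lit 5) (Steps.fwd (nat_lit 32768) Steps.nil))))))))) (nat_lit 151) (nat_lit 8),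
  Rule.mk (nat_lit 9) (nat_lit 59) (Steps.bwd (nat_lit 7) (Steps.bwd (nat_lit 9) (Steps.bwd (nat_lit 7) Steps.nil))) (nat_lit 62) (nat_lit 1),
  Rule.mk (nat_lit 3) (nat_lit 119) (Steps.bwd (nat_lit 14) (Steps.bwd (nat_lit 12) (Steps.fwd (nat_lit 57344) (Steps.bwd (nat_lit 6) (Steps.fwd (nat_lit 40960) (Steps.bwd (nat_lit 2) (Steps.bwd (nat_lit 14) Steps.nil))))))) (nat_lit 189) (nat_lit 0),
  Rule.mk (nat_lit 4) (nat_lit 59) (Steps.bwd (nat_lit 8) (Steps.bwd (nat_lit 4) (Steps.fwd (nat_lit 65536) Steps.nil))) (nat_lit 48) (nat_lit 0),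
  Rule.mk (nat_lit 2) (nat_lit 89) (Steps.bwd (nat_lit 8) (Steps.bwd (nat_lit 3) (Steps.fwd (nat_lit 32768) (Steps.fwd (nat_lit 57344) (Steps.fwd (nat_lit 114688) Steps.nil))))) (nat_lit 176) (nat_lit 1),
  Rule.mk (nat_lit 2) (nat_lit 89) (Steps.bwd (nat_lit 8) (Steps.fwd (nat_lit 16384) (Steps.fwd (nat_lit 32768) (Steps.bwd (nat_lit 7) (Steps.fwd (nat_lit 114688) Steps.nil))))) (nat_lit 176) (nat_lit 1),
  Rule.mk (nat_lit 11) (nat_lit 134) (Steps.bwd (nat_lit 14) (Steps.bwd (nat_lit 2) (Steps.fwd (nat_lit 73728) (Steps.fwd (nat_lit 16384) (Steps.bwd (nat_lit 4) (Steps.fwd (nat_lit 40960) (Steps.bwd (nat_lit 8) (Steps.bwd (nat_lit 9) Steps.nil)))))))) (nat_lit 178) (nat_lit 8),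
  Rule.mk (nat_lit 11) (nat_lit 59) (Steps.bwd (nat_lit 8) (Steps.bwd (nat_lit 11) (Steps.bwd (nat_lit 8) Steps.nil))) (nat_lit 86) (nat_lit 1),
  Rule.mk (nat_lit 11) (nat_lit 59) (Steps.bwd (nat_lit 4) (Steps.bwd (nat_lit 11) (Steps.fwd (nat_lit 32768) Steps.nil))) (nat_lit 78) (nat_lit 1),
  Rule.mk (nat_lit 10) (nat_lit 134) (Steps.bwd (nat_lit 1) (Steps.fwd (nat_lit 114688) (Steps.fwd (nat_lit 90112) (Steps.fwd (nat_lit 73728) (Steps.fwd (nat_lit 65536) (Steps.bwd (nat_lit 5) (Steps.fwd (nat_lit 32768) (Steps.fwd (nat_lit 8192) Steps.nil)))))))) (nat_lit 159) (nat_lit 8),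
  Rule.mk (nat_lit 13) (nat_lit 59) (Steps.fwd (nat_lit 81920) (Steps.bwd (nat_lit 13) (Steps.bwd (nat_lit 10) Steps.nil))) (nat_lit 120) (nat_lit 1),
  Rule.mk (nat_lit 1) (nat_lit 104) (Steps.fwd (nat_lit 65536) (Steps.fwd (nat_lit 8192) (Steps.bwd (nat_lit 14) (Steps.bwd (nat_lit 13) (Steps.fwd (nat_lit 57344) (Steps.bwd (nat_lit 5) Steps.nil)))))) (nat_lit 155) (nat_lit 5)]
noncomputable def R_10 : List (Rule) := [Rule.mk (nat_lit 13) (nat_lit 59) (Steps.bwd (nat_lit 10) (Steps.bwd (nat_lit 13) (Steps.bwd (nat_lit 10) Steps.nil))) (nat_lit 120) (nat_lit 1),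
  Rule.mk (nat_lit 14) (nat_lit 59) (Steps.bwd (nat_lit 10) (Steps.fwd (nat_lit 114688) (Steps.fwd (nat_lit 81920) Steps.nil))) (nat_lit 138) (nat_lit 1),
  Rule.mk (nat_lit 8) (nat_lit 89) (Steps.bwd (nat_lit 3) (Steps.fwd (nat_lit 32768) (Steps.bwd (nat_lit 7) (Steps.fwd (nat_lit 114688) (Steps.bwd (nat_lit 2) Steps.nil))))) (nat_lit 176) (nat_lit 2),
  Rule.mk (nat_lit 7) (nat_lit 104) (Steps.bwd (nat_lit 3) (Steps.bwd (nat_lit 14) (Steps.fwd (nat_lit 106496) (Steps.fwd (nat_lit 57344) (Steps.bwd (nat_lit 5) (Steps.bwd (nat_lit 2) Steps.nil)))))) (nat_lit 175) (nat_lit 6),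
  Rule.mk (nat_lit 4) (nat_lit 59) (Steps.fwd (nat_lit 8192) (Steps.bwd (nat_lit 5) (Steps.bwd (nat_lit 1) Steps.nil))) (nat_lit 146) (nat_lit 2),
  Rule.mk (nat_lit 6) (nat_lit 149) (Steps.bwd (nat_lit 1) (Steps.bwd (nat_lit 14) (Steps.bwd (nat_lit 13) (Steps.fwd (nat_lit 98304) (Steps.fwd (nat_lit 73728) (Steps.bwd (nat_lit 8) (Steps.fwd (nat_lit 40960) (Steps.bwd (nat_lit 4) (Steps.bwd (nat_lit 1) Steps.nil))))))))) (nat_lit 151) (nat_lit 9),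
  Rule.mk (nat_lit 7) (nat_lit 89) (Steps.fwd (nat_lit 32768) (Steps.bwd (nat_lit 1) (Steps.bwd (nat_lit 9) (Steps.fwd (nat_lit 8192) (Steps.bwd (nat_lit 14) Steps.nil))))) (nat_lit 157) (nat_lit 2),
  Rule.mk (nat_lit 12) (nat_lit 59) (Steps.bwd (nat_lit 6) (Steps.bwd (nat_lit 12) (Steps.bwd (nat_lit 6) Steps.nil))) (nat_lit 96) (nat_lit 1),
  Rule.mk (nat_lit 2) (nat_lit 59) (Steps.fwd (nat_lit 32768) (Steps.fwd (nat_lit 16384) (Steps.bwd (nat_lit 4) Steps.nil))) (nat_lit 168) (nat_lit 1),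
  Rule.mk (nat_lit 8) (nat_lit 104) (Steps.bwd (nat_lit 9) (Steps.bwd (nat_lit 2) (Steps.fwd (nat_lit 98304) (Steps.fwd (nat_lit 16384) (Steps.bwd (nat_lit 4) (Steps.bwd (nat_lit 5) Steps.nil)))))) (nat_lit 184) (nat_lit 6),
  Rule.mk (nat_lit 2) (nat_lit 104) (Steps.bwd (nat_lit 12) (Steps.fwd (nat_lit 16384) (Steps.bwd (nat_lit 9) (Steps.bwd (nat_lit 8) (Steps.bwd (nat_lit 5) (Steps.fwd (nat_lit 32768) Steps.nil)))))) (nat_lit 185) (nat_lit 5),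
  Rule.mk (nat_lit 5) (nat_lit 149) (Steps.bwd (nat_lit 3) (Steps.fwd (nat_lit 32768) (Steps.bwd (nat_lit 5) (Steps.bwd (nat_lit 8) (Steps.fwd (nat_lit 73728) (Steps.fwd (nat_lit 98304) (Steps.bwd (nat_lit 13) (Steps.bwd (nat_lit 14) (Steps.bwd (nat_lit 2) Steps.nil))))))))) (nat_lit 170) (nat_lit 2),
  Rule.mk (nat_lit 2) (nat_lit 104) (Steps.bwd (nat_lit 12) (Steps.bwd (nat_lit 3) (Steps.fwd (nat_lit 32768) (Steps.bwd (nat_lit 5) (Steps.bwd (nat_lit 8) (Steps.fwd (nat_lit 73728) Steps.nil)))))) (nat_lit 184) (nat_lit 1),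
  Rule.mk (nat_lit 5) (nat_lit 59) (Steps.bwd (nat_lit 4) (Steps.bwd (nat_lit 5) (Steps.bwd (nat_lit 4) Steps.nil))) (nat_lit 36) (nat_lit 1),
  Rule.mk (nat_lit 14) (nat_lit 59) (Steps.bwd (nat_lit 12) (Steps.bwd (nat_lit 14) (Steps.bwd (nat_lit 12) Steps.nil))) (nat_lit 142) (nat_lit 1),
  Rule.mk (nat_lit 3) (nat_lit 149) (Steps.bwd (nat_lit 14) (Steps.bwd (nat_lit 13) (Steps.fwd (nat_lit 98304) (Steps.fwd (nat_lit 73728) (Steps.fwd (nat_lit 65536) (Steps.fwd (nat_lit 40960) (Steps.bwd (nat_lit 4) (Steps.bwd (nat_lit 2) (Steps.fwd (nat_lit 40960) Steps.nil))))))))) (nat_lit 171) (nat_lit 0),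
  Rule.mk (nat_lit 4) (nat_lit 59) (Steps.bwd (nat_lit 3) (Steps.bwd (nat_lit 4) (Steps.fwd (nat_lit 24576) Steps.nil))) (nat_lit 168) (nat_lit 2),
  Rule.mk (nat_lit 5) (nat_lit 149) (Steps.bwd (nat_lit 3) (Steps.fwd (nat_lit 114688) (Steps.fwd (nat_lit 106496) (Steps.fwd (nat_lit 98304) (Steps.bwd (nat_lit 9) (Steps.bwd (nat_lit 8) (Steps.bwd (nat_lit 5) (Steps.fwd (nat_lit 32768) (Steps.fwd (nat_lit 24576) Steps.nil))))))))) (nat_lit 171) (nat_lit 9),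
  Rule.mk (nat_lit 4) (nat_lit 59) (Steps.bwd (nat_lit 1) (Steps.bwd (nat_lit 5) (Steps.bwd (nat_lit 1) Steps.nil))) (nat_lit 146) (nat_lit 2),
  Rule.mk (nat_lit 14) (nat_lit 89) (Steps.bwd (nat_lit 1) (Steps.bwd (nat_lit 9) (Steps.fwd (nat_lit 8192) (Steps.fwd (nat_lit 32768) (Steps.bwd (nat_lit 7) Steps.nil))))) (nat_lit 156) (nat_lit 0),
  Rule.mk (nat_lit 13) (nat_lit 104) (Steps.bwd (nat_lit 1) (Steps.fwd (nat_lit 32768) (Steps.bwd (nat_lit 5) (Steps.fwd (nat_lit 65536) (Steps.fwd (nat_lit 73728) (Steps.bwd (nat_lit 1) Steps.nil)))))) (nat_lit 164) (nat_lit 2),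
  Rule.mk (nat_lit 9) (nat_lit 104) (Steps.bwd (nat_lit 1) (Steps.fwd (nat_lit 106496) (Steps.bwd (nat_lit 1) (Steps.bwd (nat_lit 4) (Steps.bwd (nat_lit 5) (Steps.fwd (nat_lit 65536) Steps.nil)))))) (nat_lit 164) (nat_lit 0),
  Rule.mk (nat_lit 6) (nat_lit 149) (Steps.bwd (nat_lit 1) (Steps.fwd (nat_lit 32768) (Steps.bwd (nat_lit 5) (Steps.fwd (nat_lit 65536) (Steps.fwd (nat_lit 73728) (Steps.bwd (nat_lit 12) (Steps.fwd (nat_lit 106496) (Steps.fwd (nat_lit 114688) (Steps.bwd (nat_lit 1) Steps.nil))))))))) (nat_lit 150) (nat_lit 2),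
  Rule.mk (nat_lit 9) (nat_lit 89) (Steps.bwd (nat_lit 1) (Steps.bwd (nat_lit 4) (Steps.bwd (nat_lit 7) (Steps.bwd (nat_lit 14) (Steps.bwd (nat_lit 1) Steps.nil))))) (nat_lit 156) (nat_lit 2),
  Rule.mk (nat_lit 13) (nat_lit 104) (Steps.bwd (nat_lit 1) (Steps.bwd (nat_lit 9) (Steps.fwd (nat_lit 65536) (Steps.bwd (nat_lit 5) (Steps.bwd (nat_lit 4) (Steps.fwd (nat_lit 8192) Steps.nil)))))) (nat_lit 165) (nat_lit 6),
  Rule.mk (nat_lit 6) (nat_lit 149) (Steps.bwd (nat_lit 1) (Steps.fwd (nat_lit 114688) (Steps.bwd (nat_lit 13) (Steps.fwd (nat_lit 98304) (Steps.bwd (nat_lit 9) (Steps.bwd (nat_lit 8) (Steps.bwd (nat_lit 5) (Steps.fwd (nat_lit 32768) (Steps.fwd (nat_lit 8192) Steps.nil))))))))) (nat_lit 151) (nat_lit 9),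
  Rule.mk (nat_lit 8) (nat_lit 59) (Steps.bwd (nat_lit 6) (Steps.bwd (nat_lit 8) (Steps.bwd (nat_lit 6) Steps.nil))) (nat_lit 52) (nat_lit 1),
  Rule.mk (nat_lit 2) (nat_lit 89) (Steps.bwd (nat_lit 8) (Steps.bwd (nat_lit 3) (Steps.fwd (nat_lit 32768) (Steps.bwd (nat_lit 7) (Steps.fwd (nat_lit 114688) Steps.nil))))) (nat_lit 176) (nat_lit 1),
  Rule.mk (nat_lit 7) (nat_lit 59) (Steps.bwd (nat_lit 4) (Steps.bwd (nat_lit 7) (Steps.bwd (nat_lit 4) Steps.nil))) (nat_lit 42) (nat_lit 1),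
  Rule.mk (nat_lit 6) (nat_lit 59) (Steps.fwd (nat_lit 106496) (Steps.fwd (nat_lit 49152) (Steps.bwd (nat_lit 13) Steps.nil))) (nat_lit 112) (nat_lit 0),
  Rule.mk (nat_lit 7) (nat_lit 104) (Steps.bwd (nat_lit 3) (Steps.fwd (nat_lit 114688) (Steps.bwd (nat_lit 13) (Steps.fwd (nat_lit 57344) (Steps.fwd (nat_lit 40960) (Steps.bwd (nat_lit 2) Steps.nil)))))) (nat_lit 175) (nat_lit 6),
  Rule.mk (nat_lit 1) (nat_lit 104) (Steps.bwd (nat_lit 13) (Steps.fwd (nat_lit 8192) (Steps.bwd (nat_lit 4) (Steps.bwd (nat_lit 5) (Steps.fwd (nat_lit 65536) (Steps.bwd (nat_lit 9) Steps.nil)))))) (nat_lit 164) (nat_lit 1),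
  Rule.mk (nat_lit 8) (nat_lit 59) (Steps.bwd (nat_lit 5) (Steps.bwd (nat_lit 8) (Steps.fwd (nat_lit 40960) Steps.nil))) (nat_lit 50) (nat_lit 1),
  Rule.mk (nat_lit 4) (nat_lit 149) (Steps.bwd (nat_lit 5) (Steps.bwd (nat_lit 8) (Steps.fwd (nat_lit 73728) (Steps.fwd (nat_lit 98304) (Steps.fwd (nat_lit 106496) (Steps.fwd (nat_lit 114688) (Steps.bwd (nat_lit 1) (Steps.bwd (nat_lit 6) (Steps.bwd (nat_lit 1) Steps.nil))))))))) (nat_lit 150) (nat_lit 4),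
  Rule.mk (nat_lit 14) (nat_lit 119) (Steps.bwd (nat_lit 3) (Steps.fwd (nat_lit 40960) (Steps.fwd (nat_lit 49152) (Steps.fwd (nat_lit 57344) (Steps.bwd (nat_lit 12) (Steps.bwd (nat_lit 14) (Steps.fwd (nat_lit 24576) Steps.nil))))))) (nat_lit 188) (nat_lit 2),
  Rule.mk (nat_lit 3) (nat_lit 89) (Steps.bwd (nat_lit 14) (Steps.bwd (nat_lit 7) (Steps.bwd (nat_lit 4) (Steps.bwd (nat_lit 2) (Steps.bwd (nat_lit 8) Steps.nil))))) (nat_lit 177) (nat_lit 0),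
  Rule.mk (nat_lit 5) (nat_lit 119) (Steps.bwd (nat_lit 2) (Steps.fwd (nat_lit 114688) (Steps.fwd (nat_lit 16384) (Steps.bwd (nat_lit 14) (Steps.fwd (nat_lit 98304) (Steps.fwd (nat_lit 57344) (Steps.bwd (nat_lit 6) Steps.nil))))))) (nat_lit 189) (nat_lit 5),
  Rule.mk (nat_lit 13) (nat_lit 59) (Steps.fwd (nat_lit 40960) (Steps.fwd (nat_lit 106496) (Steps.bwd (nat_lit 5) Steps.nil))) (nat_lit 110) (nat_lit 1),
  Rule.mk (nat_lit 1) (nat_lit 59) (Steps.fwd (nat_lit 32768) (Steps.bwd (nat_lit 1) (Steps.bwd (nat_lit 5) Steps.nil))) (nat_lit 146) (nat_lit 1),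
  Rule.mk (nat_lit 8) (nat_lit 104) (Steps.bwd (nat_lit 1) (Steps.fwd (nat_lit 40960) (Steps.fwd (nat_lit 57344) (Steps.bwd (nat_lit 13) (Steps.fwd (nat_lit 114688) (Steps.bwd (nat_lit 1) Steps.nil)))))) (nat_lit 154) (nat_lit 2),
  Rule.mk (nat_lit 1) (nat_lit 104) (Steps.bwd (nat_lit 8) (Steps.fwd (nat_lit 8192) (Steps.fwd (nat_lit 40960) (Steps.fwd (nat_lit 57344) (Steps.bwd (nat_lit 13) (Steps.bwd (nat_lit 14) Steps.nil)))))) (nat_lit 154) (nat_lit 1),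
  Rule.mk (nat_lit 2) (nat_lit 104) (Steps.fwd (nat_lit 98304) (Steps.bwd (nat_lit 3) (Steps.bwd (nat_lit 4) (Steps.bwd (nat_lit 5) (Steps.bwd (nat_lit 8) (Steps.bwd (nat_lit 9) Steps.nil)))))) (nat_lit 184) (nat_lit 1),
  Rule.mk (nat_lit 12) (nat_lit 119) (Steps.bwd (nat_lit 14) (Steps.bwd (nat_lit 2) (Steps.fwd (nat_lit 114688) (Steps.fwd (nat_lit 16384) (Steps.fwd (nat_lit 40960) (Steps.bwd (nat_lit 6) (Steps.bwd (nat_lit 7) Steps.nil))))))) (nat_lit 188) (nat_lit 7),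
  Rule.mk (nat_lit 3) (nat_lit 104) (Steps.bwd (nat_lit 4) (Steps.fwd (nat_lit 40960) (Steps.bwd (nat_lit 8) (Steps.fwd (nat_lit 73728) (Steps.fwd (nat_lit 24576) (Steps.bwd (nat_lit 12) Steps.nil)))))) (nat_lit 184) (nat_lit 3),
  Rule.mk (nat_lit 1) (nat_lit 89) (Steps.bwd (nat_lit 9) (Steps.bwd (nat_lit 1) (Steps.fwd (nat_lit 114688) (Steps.bwd (nat_lit 7) (Steps.fwd (nat_lit 32768) Steps.nil))))) (nat_lit 157) (nat_lit 4),
  Rule.mk (nat_lit 1) (nat_lit 149) (Steps.bwd (nat_lit 6) (Steps.fwd (nat_lit 8192) (Steps.bwd (nat_lit 4) (Steps.fwd (nat_lit 40960) (Steps.bwd (nat_lit 8) (Steps.bwd (nat_lit 9) (Steps.fwd (nat_lit 98304) (Steps.bwd (nat_lit 13) (Steps.bwd (nat_lit 14) Steps.nil))))))))) (nat_lit 150) (nat_lit 1),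
  Rule.mk (nat_lit 11) (nat_lit 134) (Steps.bwd (nat_lit 10) (Steps.fwd (nat_lit 49152) (Steps.fwd (nat_lit 8192) (Steps.fwd (nat_lit 114688) (Steps.fwd (nat_lit 8192) (Steps.bwd (nat_lit 14) (Steps.fwd (nat_lit 106496) (Steps.bwd (nat_lit 12) Steps.nil)))))))) (nat_lit 167) (nat_lit 4),
  Rule.mk (nat_lit 13) (nat_lit 134) (Steps.bwd (nat_lit 3) (Steps.bwd (nat_lit 6) (Steps.fwd (nat_lit 81920) (Steps.fwd (nat_lit 90112) (Steps.fwd (nat_lit 98304) (Steps.bwd (nat_lit 13) (Steps.fwd (nat_lit 114688) (Steps.fwd (nat_lit 24576) Steps.nil)))))))) (nat_lit 186) (nat_lit 2),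
  Rule.mk (nat_lit 7) (nat_lit 59) (Steps.fwd (nat_lit 106496) (Steps.bwd (nat_lit 7) (Steps.bwd (nat_lit 13) Steps.nil))) (nat_lit 114) (nat_lit 0),
  Rule.mk (nat_lit 7) (nat_lit 104) (Steps.bwd (nat_lit 3) (Steps.bwd (nat_lit 5) (Steps.fwd (nat_lit 57344) (Steps.bwd (nat_lit 13) (Steps.bwd (nat_lit 14) (Steps.bwd (nat_lit 2) Steps.nil)))))) (nat_lit 174) (nat_lit 2),
  Rule.mk (nat_lit 14) (nat_lit 119) (Steps.bwd (nat_lit 3) (Steps.bwd (nat_lit 5) (Steps.fwd (nat_lit 49152) (Steps.bwd (nat_lit 7) (Steps.fwd (nat_lit 98304) (Steps.fwd (nat_lit 114688) (Steps.fwd (nat_lit 24576) Steps.nil))))))) (nat_lit 188) (nat_lit 2),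
  Rule.mk (nat_lit 13) (nat_lit 104) (Steps.bwd (nat_lit 7) (Steps.fwd (nat_lit 40960) (Steps.bwd (nat_lit 1) (Steps.fwd (nat_lit 65536) (Steps.bwd (nat_lit 1) (Steps.bwd (nat_lit 14) Steps.nil)))))) (nat_lit 155) (nat_lit 2),
  Rule.mk (nat_lit 3) (nat_lit 104) (Steps.fwd (nat_lit 32768) (Steps.bwd (nat_lit 5) (Steps.bwd (nat_lit 8) (Steps.bwd (nat_lit 9) (Steps.fwd (nat_lit 24576) (Steps.bwd (nat_lit 12) Steps.nil)))))) (nat_lit 184) (nat_lit 3),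
  Rule.mk (nat_lit 7) (nat_lit 59) (Steps.bwd (nat_lit 5) (Steps.bwd (nat_lit 7) (Steps.fwd (nat_lit 40960) Steps.nil))) (nat_lit 44) (nat_lit 1),
  Rule.mk (nat_lit 3) (nat_lit 119) (Steps.bwd (nat_lit 5) (Steps.fwd (nat_lit 49152) (Steps.fwd (nat_lit 57344) (Steps.fwd (nat_lit 98304) (Steps.bwd (nat_lit 14) (Steps.fwd (nat_lit 24576) (Steps.bwd (nat_lit 14) Steps.nil))))))) (nat_lit 188) (nat_lit 3),
  Rule.mk (nat_lit 2) (nat_lit 149) (Steps.bwd (nat_lit 5) (Steps.bwd (nat_lit 3) (Steps.fwd (nat_lit 32768) (Steps.bwd (nat_lit 5) (Steps.bwd (nat_lit 8) (Steps.bwd (nat_lit 9) (Steps.bwd (nat_lit 12) (Steps.bwd (nat_lit 13) (Steps.fwd (nat_lit 114688) Steps.nil))))))))) (nat_lit 170) (nat_lit 1),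
  Rule.mk (nat_lit 1) (nat_lit 89) (Steps.bwd (nat_lit 14) (Steps.fwd (nat_lit 57344) (Steps.fwd (nat_lit 32768) (Steps.fwd (nat_lit 8192) (Steps.fwd (nat_lit 73728) Steps.nil))))) (nat_lit 157) (nat_lit 0),
  Rule.mk (nat_lit 8) (nat_lit 104) (Steps.bwd (nat_lit 1) (Steps.bwd (nat_lit 5) (Steps.fwd (nat_lit 57344) (Steps.bwd (nat_lit 13) (Steps.bwd (nat_lit 14) (Steps.bwd (nat_lit 1) Steps.nil)))))) (nat_lit 154) (nat_lit 2),
  Rule.mk (nat_lit 8) (nat_lit 59) (Steps.bwd (nat_lit 6) (Steps.bwd (nat_lit 8) (Steps.fwd (nat_lit 49152) Steps.nil))) (nat_lit 52) (nat_lit 1),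
  Rule.mk (nat_lit 1) (nat_lit 149) (Steps.bwd (nat_lit 6) (Steps.fwd (nat_lit 8192) (Steps.bwd (nat_lit 14) (Steps.fwd (nat_lit 106496) (Steps.bwd (nat_lit 12) (Steps.fwd (nat_lit 73728) (Steps.bwd (nat_lit 8) (Steps.fwd (nat_lit 40960) (Steps.fwd (nat_lit 32768) Steps.nil))))))))) (nat_lit 151) (nat_lit 8),
  Rule.mk (nat_lit 6) (nat_lit 59) (Steps.bwd (nat_lit 7) (Steps.fwd (nat_lit 49152) (Steps.fwd (nat_lit 57344) Steps.nil))) (nat_lit 46) (nat_lit 0),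
  Rule.mk (nat_lit 13) (nat_lit 104) (Steps.bwd (nat_lit 7) (Steps.bwd (nat_lit 5) (Steps.fwd (nat_lit 8192) (Steps.bwd (nat_lit 8) (Steps.fwd (nat_lit 8192) (Steps.bwd (nat_lit 14) Steps.nil)))))) (nat_lit 155) (nat_lit 2),
  Rule.mk (nat_lit 12) (nat_lit 119) (Steps.bwd (nat_lit 7) (Steps.fwd (nat_lit 49152) (Steps.fwd (nat_lit 40960) (Steps.fwd (nat_lit 24576) (Steps.bwd (nat_lit 14) (Steps.fwd (nat_lit 16384) (Steps.bwd (nat_lit 14) Steps.nil))))))) (nat_lit 189) (nat_lit 2),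
  Rule.mk (nat_lit 3) (nat_lit 104) (Steps.bwd (nat_lit 4) (Steps.fwd (nat_lit 40960) (Steps.bwd (nat_lit 8) (Steps.fwd (nat_lit 73728) (Steps.bwd (nat_lit 2) (Steps.bwd (nat_lit 12) Steps.nil)))))) (nat_lit 184) (nat_lit 3)]
noncomputable def R_11 : List (Rule) := [Rule.mk (nat_lit 7) (nat_lit 59) (Steps.bwd (nat_lit 8) (Steps.bwd (nat_lit 7) (Steps.fwd (nat_lit 65536) Steps.nil))) (nat_lit 54) (nat_lit 0),
  Rule.mk (nat_lit 14) (nat_lit 89) (Steps.bwd (nat_lit 2) (Steps.fwd (nat_lit 65536) (Steps.bwd (nat_lit 3) (Steps.fwd (nat_lit 32768) (Steps.bwd (nat_lit 7) Steps.nil))))) (nat_lit 176) (nat_lit 0),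
  Rule.mk (nat_lit 3) (nat_lit 104) (Steps.bwd (nat_lit 5) (Steps.fwd (nat_lit 57344) (Steps.bwd (nat_lit 13) (Steps.bwd (nat_lit 14) (Steps.fwd (nat_lit 24576) (Steps.fwd (nat_lit 57344) Steps.nil)))))) (nat_lit 174) (nat_lit 3),
  Rule.mk (nat_lit 2) (nat_lit 149) (Steps.bwd (nat_lit 5) (Steps.fwd (nat_lit 16384) (Steps.fwd (nat_lit 32768) (Steps.bwd (nat_lit 5) (Steps.bwd (nat_lit 8) (Steps.bwd (nat_lit 9) (Steps.bwd (nat_lit 12) (Steps.fwd (nat_lit 106496) (Steps.bwd (nat_lit 14) Steps.nil))))))))) (nat_lit 170) (nat_lit 1),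
  Rule.mk (nat_lit 2) (nat_lit 89) (Steps.bwd (nat_lit 8) (Steps.fwd (nat_lit 16384) (Steps.fwd (nat_lit 32768) (Steps.bwd (nat_lit 7) (Steps.bwd (nat_lit 14) Steps.nil))))) (nat_lit 176) (nat_lit 1),
  Rule.mk (nat_lit 9) (nat_lit 104) (Steps.bwd (nat_lit 8) (Steps.fwd (nat_lit 40960) (Steps.fwd (nat_lit 32768) (Steps.fwd (nat_lit 24576) (Steps.bwd (nat_lit 12) (Steps.bwd (nat_lit 3) Steps.nil)))))) (nat_lit 185) (nat_lit 1),
  Rule.mk (nat_lit 14) (nat_lit 89) (Steps.bwd (nat_lit 2) (Steps.fwd (nat_lit 65536) (Steps.fwd (nat_lit 16384) (Steps.bwd (nat_lit 4) (Steps.bwd (nat_lit 7) Steps.nil))))) (nat_lit 176) (nat_lit 0),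
  Rule.mk (nat_lit 4) (nat_lit 89) (Steps.bwd (nat_lit 2) (Steps.fwd (nat_lit 65536) (Steps.fwd (nat_lit 16384) (Steps.fwd (nat_lit 114688) (Steps.bwd (nat_lit 7) Steps.nil))))) (nat_lit 177) (nat_lit 3),
  Rule.mk (nat_lit 5) (nat_lit 104) (Steps.bwd (nat_lit 2) (Steps.fwd (nat_lit 57344) (Steps.bwd (nat_lit 3) (Steps.fwd (nat_lit 114688) (Steps.fwd (nat_lit 106496) (Steps.bwd (nat_lit 7) Steps.nil)))))) (nat_lit 175) (nat_lit 4),
  Rule.mk (nat_lit 6) (nat_lit 59) (Steps.bwd (nat_lit 7) (Steps.bwd (nat_lit 6) (Steps.bwd (nat_lit 7) Steps.nil))) (nat_lit 46) (nat_lit 0),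
  Rule.mk (nat_lit 12) (nat_lit 59) (Steps.bwd (nat_lit 7) (Steps.bwd (nat_lit 12) (Steps.bwd (nat_lit 7) Steps.nil))) (nat_lit 98) (nat_lit 1),
  Rule.mk (nat_lit 3) (nat_lit 104) (Steps.bwd (nat_lit 5) (Steps.bwd (nat_lit 7) (Steps.fwd (nat_lit 106496) (Steps.bwd (nat_lit 14) (Steps.bwd (nat_lit 2) (Steps.fwd (nat_lit 57344) Steps.nil)))))) (nat_lit 174) (nat_lit 3),
  Rule.mk (nat_lit 2) (nat_lit 104) (Steps.bwd (nat_lit 7) (Steps.bwd (nat_lit 3) (Steps.fwd (nat_lit 40960) (Steps.bwd (nat_lit 7) (Steps.fwd (nat_lit 106496) (Steps.fwd (nat_lit 114688) Steps.nil)))))) (nat_lit 174) (nat_lit 1),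
  Rule.mk (nat_lit 9) (nat_lit 59) (Steps.fwd (nat_lit 57344) (Steps.fwd (nat_lit 73728) (Steps.bwd (nat_lit 7) Steps.nil))) (nat_lit 62) (nat_lit 1),
  Rule.mk (nat_lit 3) (nat_lit 104) (Steps.bwd (nat_lit 5) (Steps.fwd (nat_lit 57344) (Steps.fwd (nat_lit 106496) (Steps.bwd (nat_lit 14) (Steps.fwd (nat_lit 24576) (Steps.fwd (nat_lit 57344) Steps.nil)))))) (nat_lit 174) (nat_lit 3),
  Rule.mk (nat_lit 6) (nat_lit 59) (Steps.fwd (nat_lit 73728) (Steps.bwd (nat_lit 6) (Steps.bwd (nat_lit 9) Steps.nil))) (nat_lit 60) (nat_lit 0),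
  Rule.mk (nat_lit 2) (nat_lit 119) (Steps.bwd (nat_lit 14) (Steps.fwd (nat_lit 16384) (Steps.fwd (nat_lit 114688) (Steps.fwd (nat_lit 98304) (Steps.bwd (nat_lit 7) (Steps.fwd (nat_lit 49152) (Steps.bwd (nat_lit 5) Steps.nil))))))) (nat_lit 189) (nat_lit 6),
  Rule.mk (nat_lit 9) (nat_lit 59) (Steps.bwd (nat_lit 5) (Steps.bwd (nat_lit 9) (Steps.fwd (nat_lit 40960) Steps.nil))) (nat_lit 58) (nat_lit 1),
  Rule.mk (nat_lit 3) (nat_lit 104) (Steps.bwd (nat_lit 5) (Steps.fwd (nat_lit 57344) (Steps.fwd (nat_lit 106496) (Steps.bwd (nat_lit 14) (Steps.bwd (nat_lit 2) (Steps.bwd (nat_lit 7) Steps.nil)))))) (nat_lit 174) (nat_lit 3),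
  Rule.mk (nat_lit 12) (nat_lit 59) (Steps.bwd (nat_lit 13) (Steps.bwd (nat_lit 12) (Steps.bwd (nat_lit 13) Steps.nil))) (nat_lit 124) (nat_lit 0),
  Rule.mk (nat_lit 9) (nat_lit 104) (Steps.bwd (nat_lit 2) (Steps.fwd (nat_lit 98304) (Steps.bwd (nat_lit 3) (Steps.bwd (nat_lit 4) (Steps.bwd (nat_lit 5) (Steps.fwd (nat_lit 65536) Steps.nil)))))) (nat_lit 184) (nat_lit 0),
  Rule.mk (nat_lit 12) (nat_lit 59) (Steps.fwd (nat_lit 73728) (Steps.fwd (nat_lit 98304) (Steps.bwd (nat_lit 9) Steps.nil))) (nat_lit 102) (nat_lit 1),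
  Rule.mk (nat_lit 8) (nat_lit 89) (Steps.bwd (nat_lit 3) (Steps.fwd (nat_lit 32768) (Steps.fwd (nat_lit 57344) (Steps.bwd (nat_lit 14) (Steps.fwd (nat_lit 24576) Steps.nil))))) (nat_lit 176) (nat_lit 2),
  Rule.mk (nat_lit 12) (nat_lit 104) (Steps.bwd (nat_lit 3) (Steps.fwd (nat_lit 32768) (Steps.bwd (nat_lit 5) (Steps.bwd (nat_lit 8) (Steps.fwd (nat_lit 73728) (Steps.bwd (nat_lit 2) Steps.nil)))))) (nat_lit 184) (nat_lit 2),
  Rule.mk (nat_lit 14) (nat_lit 119) (Steps.bwd (nat_lit 3) (Steps.bwd (nat_lit 5) (Steps.fwd (nat_lit 49152) (Steps.bwd (nat_lit 7) (Steps.bwd (nat_lit 12) (Steps.fwd (nat_lit 114688) (Steps.bwd (nat_lit 2) Steps.nil))))))) (nat_lit 188) (nat_lit 2),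
  Rule.mk (nat_lit 1) (nat_lit 104) (Steps.fwd (nat_lit 65536) (Steps.fwd (nat_lit 8192) (Steps.bwd (nat_lit 5) (Steps.fwd (nat_lit 57344) (Steps.fwd (nat_lit 106496) (Steps.bwd (nat_lit 14) Steps.nil)))))) (nat_lit 154) (nat_lit 1),
  Rule.mk (nat_lit 11) (nat_lit 59) (Steps.bwd (nat_lit 12) (Steps.fwd (nat_lit 90112) (Steps.bwd (nat_lit 12) Steps.nil))) (nat_lit 106) (nat_lit 0),
  Rule.mk (nat_lit 2) (nat_lit 104) (Steps.bwd (nat_lit 12) (Steps.bwd (nat_lit 3) (Steps.fwd (nat_lit 32768) (Steps.fwd (nat_lit 40960) (Steps.fwd (nat_lit 65536) (Steps.bwd (nat_lit 9) Steps.nil)))))) (nat_lit 184) (nat_lit 1),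
  Rule.mk (nat_lit 9) (nat_lit 59) (Steps.bwd (nat_lit 6) (Steps.fwd (nat_lit 73728) (Steps.fwd (nat_lit 49152) Steps.nil))) (nat_lit 60) (nat_lit 1),
  Rule.mk (nat_lit 5) (nat_lit 119) (Steps.bwd (nat_lit 6) (Steps.fwd (nat_lit 57344) (Steps.fwd (nat_lit 98304) (Steps.bwd (nat_lit 14) (Steps.bwd (nat_lit 2) (Steps.bwd (nat_lit 14) (Steps.bwd (nat_lit 3) Steps.nil))))))) (nat_lit 188) (nat_lit 4),
  Rule.mk (nat_lit 1) (nat_lit 149) (Steps.bwd (nat_lit 6) (Steps.fwd (nat_lit 8192) (Steps.fwd (nat_lit 32768) (Steps.bwd (nat_lit 5) (Steps.bwd (nat_lit 8) (Steps.bwd (nat_lit 9) (Steps.bwd (nat_lit 12) (Steps.bwd (nat_lit 13) (Steps.bwd (nat_lit 14) Steps.nil))))))))) (nat_lit 150) (nat_lit 1),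
  Rule.mk (nat_lit 8) (nat_lit 104) (Steps.fwd (nat_lit 8192) (Steps.bwd (nat_lit 5) (Steps.bwd (nat_lit 7) (Steps.bwd (nat_lit 13) (Steps.bwd (nat_lit 14) (Steps.bwd (nat_lit 1) Steps.nil)))))) (nat_lit 154) (nat_lit 2),
  Rule.mk (nat_lit 4) (nat_lit 59) (Steps.bwd (nat_lit 11) (Steps.fwd (nat_lit 32768) (Steps.bwd (nat_lit 11) Steps.nil))) (nat_lit 78) (nat_lit 0),
  Rule.mk (nat_lit 8) (nat_lit 59) (Steps.bwd (nat_lit 11) (Steps.fwd (nat_lit 65536) (Steps.bwd (nat_lit 11) Steps.nil))) (nat_lit 86) (nat_lit 0),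
  Rule.mk (nat_lit 3) (nat_lit 89) (Steps.fwd (nat_lit 32768) (Steps.bwd (nat_lit 7) (Steps.fwd (nat_lit 114688) (Steps.bwd (nat_lit 2) (Steps.bwd (nat_lit 8) Steps.nil))))) (nat_lit 176) (nat_lit 3),
  Rule.mk (nat_lit 10) (nat_lit 59) (Steps.fwd (nat_lit 40960) (Steps.bwd (nat_lit 10) (Steps.bwd (nat_lit 5) Steps.nil))) (nat_lit 68) (nat_lit 1),
  Rule.mk (nat_lit 14) (nat_lit 59) (Steps.bwd (nat_lit 11) (Steps.bwd (nat_lit 14) (Steps.fwd (nat_lit 90112) Steps.nil))) (nat_lit 140) (nat_lit 1),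
  Rule.mk (nat_lit 11) (nat_lit 59) (Steps.bwd (nat_lit 8) (Steps.bwd (nat_lit 11) (Steps.fwd (nat_lit 65536) Steps.nil))) (nat_lit 86) (nat_lit 1),
  Rule.mk (nat_lit 3) (nat_lit 104) (Steps.bwd (nat_lit 6) (Steps.fwd (nat_lit 90112) (Steps.bwd (nat_lit 12) (Steps.fwd (nat_lit 114688) (Steps.bwd (nat_lit 2) (Steps.bwd (nat_lit 10) Steps.nil)))))) (nat_lit 180) (nat_lit 3),
  Rule.mk (nat_lit 11) (nat_lit 59) (Steps.bwd (nat_lit 14) (Steps.fwd (nat_lit 90112) (Steps.bwd (nat_lit 14) Steps.nil))) (nat_lit 140) (nat_lit 0),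
  Rule.mk (nat_lit 11) (nat_lit 59) (Steps.bwd (nat_lit 8) (Steps.fwd (nat_lit 90112) (Steps.fwd (nat_lit 65536) Steps.nil))) (nat_lit 86) (nat_lit 1),
  Rule.mk (nat_lit 3) (nat_lit 134) (Steps.bwd (nat_lit 14) (Steps.fwd (nat_lit 90112) (Steps.bwd (nat_lit 9) (Steps.fwd (nat_lit 65536) (Steps.fwd (nat_lit 40960) (Steps.bwd (nat_lit 4) (Steps.fwd (nat_lit 24576) (Steps.bwd (nat_lit 9) Steps.nil)))))))) (nat_lit 179) (nat_lit 0),
  Rule.mk (nat_lit 2) (nat_lit 104) (Steps.bwd (nat_lit 10) (Steps.bwd (nat_lit 3) (Steps.fwd (nat_lit 49152) (Steps.bwd (nat_lit 11) (Steps.bwd (nat_lit 12) (Steps.bwd (nat_lit 14) Steps.nil)))))) (nat_lit 180) (nat_lit 1),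
  Rule.mk (nat_lit 14) (nat_lit 119) (Steps.bwd (nat_lit 3) (Steps.bwd (nat_lit 5) (Steps.bwd (nat_lit 6) (Steps.bwd (nat_lit 7) (Steps.bwd (nat_lit 12) (Steps.bwd (nat_lit 14) (Steps.bwd (nat_lit 2) Steps.nil))))))) (nat_lit 188) (nat_lit 2),
  Rule.mk (nat_lit 10) (nat_lit 59) (Steps.fwd (nat_lit 114688) (Steps.fwd (nat_lit 81920) (Steps.bwd (nat_lit 14) Steps.nil))) (nat_lit 138) (nat_lit 0),
  Rule.mk (nat_lit 6) (nat_lit 59) (Steps.bwd (nat_lit 10) (Steps.fwd (nat_lit 49152) (Steps.bwd (nat_lit 10) Steps.nil))) (nat_lit 70) (nat_lit 0),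
  Rule.mk (nat_lit 13) (nat_lit 59) (Steps.bwd (nat_lit 10) (Steps.fwd (nat_lit 106496) (Steps.fwd (nat_lit 81920) Steps.nil))) (nat_lit 120) (nat_lit 1),
  Rule.mk (nat_lit 10) (nat_lit 59) (Steps.bwd (nat_lit 6) (Steps.bwd (nat_lit 10) (Steps.bwd (nat_lit 6) Steps.nil))) (nat_lit 70) (nat_lit 1),
  Rule.mk (nat_lit 10) (nat_lit 59) (Steps.bwd (nat_lit 12) (Steps.fwd (nat_lit 81920) (Steps.fwd (nat_lit 98304) Steps.nil))) (nat_lit 104) (nat_lit 0),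
  Rule.mk (nat_lit 1) (nat_lit 134) (Steps.fwd (nat_lit 114688) (Steps.bwd (nat_lit 11) (Steps.fwd (nat_lit 73728) (Steps.bwd (nat_lit 8) (Steps.bwd (nat_lit 5) (Steps.fwd (nat_lit 32768) (Steps.bwd (nat_lit 1) (Steps.bwd (nat_lit 10) Steps.nil)))))))) (nat_lit 159) (nat_lit 0),
  Rule.mk (nat_lit 10) (nat_lit 134) (Steps.bwd (nat_lit 1) (Steps.fwd (nat_lit 114688) (Steps.fwd (nat_lit 90112) (Steps.fwd (nat_lit 73728) (Steps.fwd (nat_lit 65536) (Steps.bwd (nat_lit 5) (Steps.bwd (nat_lit 4) (Steps.bwd (nat_lit 1) Steps.nil)))))))) (nat_lit 159) (nat_lit 8),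
  Rule.mk (nat_lit 13) (nat_lit 59) (Steps.fwd (nat_lit 81920) (Steps.fwd (nat_lit 106496) (Steps.bwd (nat_lit 10) Steps.nil))) (nat_lit 120) (nat_lit 1),
  Rule.mk (nat_lit 10) (nat_lit 59) (Steps.bwd (nat_lit 13) (Steps.fwd (nat_lit 81920) (Steps.bwd (nat_lit 13) Steps.nil))) (nat_lit 120) (nat_lit 0),
  Rule.mk (nat_lit 7) (nat_lit 59) (Steps.bwd (nat_lit 6) (Steps.fwd (nat_lit 57344) (Steps.bwd (nat_lit 6) Steps.nil))) (nat_lit 46) (nat_lit 1),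
  Rule.mk (nat_lit 10) (nat_lit 59) (Steps.bwd (nat_lit 6) (Steps.fwd (nat_lit 81920) (Steps.bwd (nat_lit 6) Steps.nil))) (nat_lit 70) (nat_lit 1),
  Rule.mk (nat_lit 7) (nat_lit 59) (Steps.fwd (nat_lit 81920) (Steps.fwd (nat_lit 57344) (Steps.bwd (nat_lit 10) Steps.nil))) (nat_lit 72) (nat_lit 0),
  Rule.mk (nat_lit 10) (nat_lit 59) (Steps.bwd (nat_lit 8) (Steps.fwd (nat_lit 81920) (Steps.bwd (nat_lit 8) Steps.nil))) (nat_lit 74) (nat_lit 1),
  Rule.mk (nat_lit 8) (nat_lit 59) (Steps.fwd (nat_lit 81920) (Steps.bwd (nat_lit 8) (Steps.bwd (nat_lit 10) Steps.nil))) (nat_lit 74) (nat_lit 0),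
  Rule.mk (nat_lit 6) (nat_lit 59) (Steps.bwd (nat_lit 10) (Steps.fwd (nat_lit 49152) (Steps.fwd (nat_lit 81920) Steps.nil))) (nat_lit 70) (nat_lit 0),
  Rule.mk (nat_lit 8) (nat_lit 59) (Steps.bwd (nat_lit 10) (Steps.fwd (nat_lit 65536) (Steps.fwd (nat_lit 81920) Steps.nil))) (nat_lit 74) (nat_lit 0),
  Rule.mk (nat_lit 12) (nat_lit 59) (Steps.bwd (nat_lit 10) (Steps.fwd (nat_lit 98304) (Steps.fwd (nat_lit 81920) Steps.nil))) (nat_lit 104) (nat_lit 1),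
  Rule.mk (nat_lit 14) (nat_lit 59) (Steps.bwd (nat_lit 10) (Steps.bwd (nat_lit 14) (Steps.fwd (nat_lit 81920) Steps.nil))) (nat_lit 138) (nat_lit 1),
  Rule.mk (nat_lit 13) (nat_lit 59) (Steps.fwd (nat_lit 114688) (Steps.fwd (nat_lit 106496) (Steps.bwd (nat_lit 14) Steps.nil))) (nat_lit 144) (nat_lit 0),
  Rule.mk (nat_lit 2) (nat_lit 89) (Steps.bwd (nat_lit 8) (Steps.fwd (nat_lit 16384) (Steps.bwd (nat_lit 14) (Steps.fwd (nat_lit 57344) (Steps.fwd (nat_lit 32768) Steps.nil))))) (nat_lit 177) (nat_lit 4)]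
noncomputable def R_12 : List (Rule) := [Rule.mk (nat_lit 3) (nat_lit 104) (Steps.bwd (nat_lit 9) (Steps.fwd (nat_lit 65536) (Steps.fwd (nat_lit 40960) (Steps.fwd (nat_lit 32768) (Steps.fwd (nat_lit 24576) (Steps.bwd (nat_lit 12) Steps.nil)))))) (nat_lit 185) (nat_lit 0),
  Rule.mk (nat_lit 3) (nat_lit 104) (Steps.fwd (nat_lit 73728) (Steps.bwd (nat_lit 8) (Steps.fwd (nat_lit 40960) (Steps.fwd (nat_lit 32768) (Steps.bwd (nat_lit 2) (Steps.bwd (nat_lit 12) Steps.nil)))))) (nat_lit 185) (nat_lit 0),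
  Rule.mk (nat_lit 2) (nat_lit 104) (Steps.bwd (nat_lit 12) (Steps.bwd (nat_lit 3) (Steps.fwd (nat_lit 32768) (Steps.fwd (nat_lit 40960) (Steps.fwd (nat_lit 65536) (Steps.fwd (nat_lit 73728) Steps.nil)))))) (nat_lit 184) (nat_lit 1),
  Rule.mk (nat_lit 2) (nat_lit 119) (Steps.bwd (nat_lit 14) (Steps.fwd (nat_lit 16384) (Steps.fwd (nat_lit 40960) (Steps.bwd (nat_lit 6) (Steps.fwd (nat_lit 57344) (Steps.fwd (nat_lit 98304) (Steps.bwd (nat_lit 14) Steps.nil))))))) (nat_lit 188) (nat_lit 1),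
  Rule.mk (nat_lit 2) (nat_lit 104) (Steps.bwd (nat_lit 7) (Steps.fwd (nat_lit 16384) (Steps.fwd (nat_lit 114688) (Steps.fwd (nat_lit 106496) (Steps.fwd (nat_lit 57344) (Steps.fwd (nat_lit 40960) Steps.nil)))))) (nat_lit 175) (nat_lit 5),
  Rule.mk (nat_lit 6) (nat_lit 119) (Steps.bwd (nat_lit 7) (Steps.fwd (nat_lit 98304) (Steps.fwd (nat_lit 114688) (Steps.fwd (nat_lit 24576) (Steps.fwd (nat_lit 114688) (Steps.fwd (nat_lit 16384) (Steps.bwd (nat_lit 5) Steps.nil))))))) (nat_lit 188) (nat_lit 5),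
  Rule.mk (nat_lit 10) (nat_lit 59) (Steps.fwd (nat_lit 49152) (Steps.fwd (nat_lit 81920) (Steps.bwd (nat_lit 6) Steps.nil))) (nat_lit 70) (nat_lit 1),
  Rule.mk (nat_lit 0) (nat_lit 74) (Steps.fwd (nat_lit 81920) (Steps.bwd (nat_lit 4) (Steps.fwd (nat_lit 81920) (Steps.bwd (nat_lit 4) Steps.nil)))) (nat_lit 66) (nat_lit 0),
  Rule.mk (nat_lit 6) (nat_lit 44) (Steps.bwd (nat_lit 0) (Steps.fwd (nat_lit 49152) Steps.nil)) (nat_lit 196) (nat_lit 0),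
  Rule.mk (nat_lit 10) (nat_lit 44) (Steps.bwd (nat_lit 0) (Steps.fwd (nat_lit 81920) Steps.nil)) (nat_lit 196) (nat_lit 0),
  Rule.mk (nat_lit 12) (nat_lit 44) (Steps.bwd (nat_lit 0) (Steps.bwd (nat_lit 12) Steps.nil)) (nat_lit 196) (nat_lit 0),
  Rule.mk (nat_lit 13) (nat_lit 44) (Steps.bwd (nat_lit 0) (Steps.fwd (nat_lit 106496) Steps.nil)) (nat_lit 196) (nat_lit 0),
  Rule.mk (nat_lit 12) (nat_lit 59) (Steps.bwd (nat_lit 10) (Steps.bwd (nat_lit 12) (Steps.bwd (nat_lit 10) Steps.nil))) (nat_lit 104) (nat_lit 1),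
  Rule.mk (nat_lit 13) (nat_lit 59) (Steps.bwd (nat_lit 10) (Steps.fwd (nat_lit 106496) (Steps.bwd (nat_lit 10) Steps.nil))) (nat_lit 120) (nat_lit 1),
  Rule.mk (nat_lit 13) (nat_lit 59) (Steps.fwd (nat_lit 98304) (Steps.bwd (nat_lit 13) (Steps.fwd (nat_lit 98304) Steps.nil))) (nat_lit 124) (nat_lit 1),
  Rule.mk (nat_lit 8) (nat_lit 59) (Steps.fwd (nat_lit 114688) (Steps.bwd (nat_lit 8) (Steps.fwd (nat_lit 114688) Steps.nil))) (nat_lit 134) (nat_lit 0),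
  Rule.mk (nat_lit 5) (nat_lit 149) (Steps.bwd (nat_lit 3) (Steps.fwd (nat_lit 114688) (Steps.fwd (nat_lit 106496) (Steps.fwd (nat_lit 98304) (Steps.fwd (nat_lit 73728) (Steps.bwd (nat_lit 8) (Steps.bwd (nat_lit 5) (Steps.bwd (nat_lit 4) (Steps.bwd (nat_lit 2) Steps.nil))))))))) (nat_lit 171) (nat_lit 9),
  Rule.mk (nat_lit 10) (nat_lit 59) (Steps.bwd (nat_lit 6) (Steps.fwd (nat_lit 81920) (Steps.fwd (nat_lit 49152) Steps.nil))) (nat_lit 70) (nat_lit 1),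
  Rule.mk (nat_lit 5) (nat_lit 59) (Steps.bwd (nat_lit 10) (Steps.fwd (nat_lit 40960) (Steps.bwd (nat_lit 10) Steps.nil))) (nat_lit 68) (nat_lit 0),
  Rule.mk (nat_lit 6) (nat_lit 59) (Steps.bwd (nat_lit 10) (Steps.bwd (nat_lit 6) (Steps.fwd (nat_lit 81920) Steps.nil))) (nat_lit 70) (nat_lit 0),
  Rule.mk (nat_lit 1) (nat_lit 89) (Steps.bwd (nat_lit 9) (Steps.bwd (nat_lit 1) (Steps.bwd (nat_lit 4) (Steps.bwd (nat_lit 7) (Steps.bwd (nat_lit 14) Steps.nil))))) (nat_lit 156) (nat_lit 1),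
  Rule.mk (nat_lit 12) (nat_lit 119) (Steps.fwd (nat_lit 57344) (Steps.fwd (nat_lit 49152) (Steps.bwd (nat_lit 5) (Steps.fwd (nat_lit 24576) (Steps.bwd (nat_lit 14) (Steps.bwd (nat_lit 3) (Steps.bwd (nat_lit 14) Steps.nil))))))) (nat_lit 189) (nat_lit 2),
  Rule.mk (nat_lit 8) (nat_lit 59) (Steps.fwd (nat_lit 106496) (Steps.bwd (nat_lit 8) (Steps.bwd (nat_lit 13) Steps.nil))) (nat_lit 116) (nat_lit 0),
  Rule.mk (nat_lit 12) (nat_lit 59) (Steps.bwd (nat_lit 6) (Steps.bwd (nat_lit 12) (Steps.fwd (nat_lit 49152) Steps.nil))) (nat_lit 96) (nat_lit 1),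
  Rule.mk (nat_lit 6) (nat_lit 59) (Steps.bwd (nat_lit 13) (Steps.bwd (nat_lit 6) (Steps.fwd (nat_lit 106496) Steps.nil))) (nat_lit 112) (nat_lit 0),
  Rule.mk (nat_lit 8) (nat_lit 59) (Steps.fwd (nat_lit 114688) (Steps.fwd (nat_lit 65536) (Steps.bwd (nat_lit 14) Steps.nil))) (nat_lit 134) (nat_lit 0),
  Rule.mk (nat_lit 3) (nat_lit 104) (Steps.bwd (nat_lit 5) (Steps.fwd (nat_lit 57344) (Steps.bwd (nat_lit 13) (Steps.fwd (nat_lit 114688) (Steps.bwd (nat_lit 2) (Steps.fwd (nat_lit 57344) Steps.nil)))))) (nat_lit 174) (nat_lit 3),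
  Rule.mk (nat_lit 6) (nat_lit 59) (Steps.fwd (nat_lit 98304) (Steps.bwd (nat_lit 6) (Steps.bwd (nat_lit 12) Steps.nil))) (nat_lit 96) (nat_lit 0),
  Rule.mk (nat_lit 4) (nat_lit 59) (Steps.fwd (nat_lit 49152) (Steps.bwd (nat_lit 4) (Steps.bwd (nat_lit 6) Steps.nil))) (nat_lit 38) (nat_lit 0),
  Rule.mk (nat_lit 2) (nat_lit 149) (Steps.bwd (nat_lit 5) (Steps.fwd (nat_lit 16384) (Steps.fwd (nat_lit 32768) (Steps.bwd (nat_lit 5) (Steps.fwd (nat_lit 65536) (Steps.bwd (nat_lit 9) (Steps.bwd (nat_lit 12) (Steps.fwd (nat_lit 106496) (Steps.bwd (nat_lit 14) Steps.nil))))))))) (nat_lit 170) (nat_lit 1),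
  Rule.mk (nat_lit 5) (nat_lit 149) (Steps.bwd (nat_lit 3) (Steps.fwd (nat_lit 32768) (Steps.bwd (nat_lit 5) (Steps.fwd (nat_lit 65536) (Steps.fwd (nat_lit 73728) (Steps.fwd (nat_lit 98304) (Steps.fwd (nat_lit 106496) (Steps.bwd (nat_lit 14) (Steps.fwd (nat_lit 24576) Steps.nil))))))))) (nat_lit 170) (nat_lit 2),
  Rule.mk (nat_lit 6) (nat_lit 104) (Steps.bwd (nat_lit 11) (Steps.fwd (nat_lit 98304) (Steps.bwd (nat_lit 14) (Steps.bwd (nat_lit 2) (Steps.fwd (nat_lit 81920) (Steps.bwd (nat_lit 3) Steps.nil)))))) (nat_lit 180) (nat_lit 4),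
  Rule.mk (nat_lit 7) (nat_lit 59) (Steps.bwd (nat_lit 11) (Steps.fwd (nat_lit 57344) (Steps.bwd (nat_lit 11) Steps.nil))) (nat_lit 84) (nat_lit 0),
  Rule.mk (nat_lit 1) (nat_lit 104) (Steps.bwd (nat_lit 11) (Steps.fwd (nat_lit 8192) (Steps.fwd (nat_lit 114688) (Steps.bwd (nat_lit 12) (Steps.fwd (nat_lit 90112) (Steps.fwd (nat_lit 49152) Steps.nil)))))) (nat_lit 161) (nat_lit 5),
  Rule.mk (nat_lit 11) (nat_lit 59) (Steps.bwd (nat_lit 14) (Steps.bwd (nat_lit 11) (Steps.bwd (nat_lit 14) Steps.nil))) (nat_lit 140) (nat_lit 0),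
  Rule.mk (nat_lit 11) (nat_lit 59) (Steps.bwd (nat_lit 4) (Steps.fwd (nat_lit 90112) (Steps.bwd (nat_lit 4) Steps.nil))) (nat_lit 78) (nat_lit 1),
  Rule.mk (nat_lit 9) (nat_lit 89) (Steps.bwd (nat_lit 1) (Steps.fwd (nat_lit 32768) (Steps.fwd (nat_lit 57344) (Steps.fwd (nat_lit 114688) (Steps.fwd (nat_lit 8192) Steps.nil))))) (nat_lit 156) (nat_lit 2),
  Rule.mk (nat_lit 10) (nat_lit 134) (Steps.bwd (nat_lit 1) (Steps.bwd (nat_lit 14) (Steps.bwd (nat_lit 11) (Steps.fwd (nat_lit 73728) (Steps.bwd (nat_lit 8) (Steps.bwd (nat_lit 5) (Steps.fwd (nat_lit 32768) (Steps.fwd (nat_lit 8192) Steps.nil)))))))) (nat_lit 159) (nat_lit 8),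
  Rule.mk (nat_lit 10) (nat_lit 59) (Steps.bwd (nat_lit 7) (Steps.fwd (nat_lit 81920) (Steps.bwd (nat_lit 7) Steps.nil))) (nat_lit 72) (nat_lit 1),
  Rule.mk (nat_lit 5) (nat_lit 59) (Steps.fwd (nat_lit 81920) (Steps.bwd (nat_lit 5) (Steps.bwd (nat_lit 10) Steps.nil))) (nat_lit 68) (nat_lit 0),
  Rule.mk (nat_lit 3) (nat_lit 104) (Steps.bwd (nat_lit 4) (Steps.bwd (nat_lit 5) (Steps.fwd (nat_lit 65536) (Steps.bwd (nat_lit 9) (Steps.bwd (nat_lit 2) (Steps.bwd (nat_lit 12) Steps.nil)))))) (nat_lit 184) (nat_lit 3),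
  Rule.mk (nat_lit 2) (nat_lit 119) (Steps.bwd (nat_lit 14) (Steps.bwd (nat_lit 3) (Steps.fwd (nat_lit 40960) (Steps.bwd (nat_lit 6) (Steps.bwd (nat_lit 7) (Steps.bwd (nat_lit 12) (Steps.bwd (nat_lit 14) Steps.nil))))))) (nat_lit 188) (nat_lit 1),
  Rule.mk (nat_lit 14) (nat_lit 59) (Steps.bwd (nat_lit 4) (Steps.fwd (nat_lit 114688) (Steps.fwd (nat_lit 32768) Steps.nil))) (nat_lit 126) (nat_lit 1),
  Rule.mk (nat_lit 4) (nat_lit 59) (Steps.bwd (nat_lit 9) (Steps.bwd (nat_lit 4) (Steps.bwd (nat_lit 9) Steps.nil))) (nat_lit 56) (nat_lit 0),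
  Rule.mk (nat_lit 3) (nat_lit 104) (Steps.bwd (nat_lit 9) (Steps.bwd (nat_lit 8) (Steps.fwd (nat_lit 40960) (Steps.bwd (nat_lit 4) (Steps.bwd (nat_lit 2) (Steps.bwd (nat_lit 12) Steps.nil)))))) (nat_lit 185) (nat_lit 0),
  Rule.mk (nat_lit 12) (nat_lit 149) (Steps.bwd (nat_lit 9) (Steps.bwd (nat_lit 8) (Steps.fwd (nat_lit 40960) (Steps.bwd (nat_lit 4) (Steps.bwd (nat_lit 2) (Steps.fwd (nat_lit 40960) (Steps.bwd (nat_lit 3) (Steps.fwd (nat_lit 114688) (Steps.fwd (nat_lit 106496) Steps.nil))))))))) (nat_lit 171) (nat_lit 3),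
  Rule.mk (nat_lit 3) (nat_lit 104) (Steps.bwd (nat_lit 9) (Steps.fwd (nat_lit 65536) (Steps.bwd (nat_lit 5) (Steps.fwd (nat_lit 32768) (Steps.fwd (nat_lit 24576) (Steps.fwd (nat_lit 98304) Steps.nil)))))) (nat_lit 185) (nat_lit 0),
  Rule.mk (nat_lit 3) (nat_lit 119) (Steps.bwd (nat_lit 5) (Steps.fwd (nat_lit 49152) (Steps.fwd (nat_lit 57344) (Steps.bwd (nat_lit 12) (Steps.fwd (nat_lit 114688) (Steps.fwd (nat_lit 24576) (Steps.bwd (nat_lit 14) Steps.nil))))))) (nat_lit 188) (nat_lit 3),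
  Rule.mk (nat_lit 2) (nat_lit 89) (Steps.fwd (nat_lit 65536) (Steps.bwd (nat_lit 3) (Steps.fwd (nat_lit 114688) (Steps.bwd (nat_lit 7) (Steps.fwd (nat_lit 32768) Steps.nil))))) (nat_lit 177) (nat_lit 4),
  Rule.mk (nat_lit 3) (nat_lit 59) (Steps.fwd (nat_lit 32768) (Steps.bwd (nat_lit 2) (Steps.fwd (nat_lit 32768) Steps.nil))) (nat_lit 168) (nat_lit 3),
  Rule.mk (nat_lit 2) (nat_lit 89) (Steps.bwd (nat_lit 8) (Steps.bwd (nat_lit 3) (Steps.bwd (nat_lit 4) (Steps.bwd (nat_lit 7) (Steps.bwd (nat_lit 14) Steps.nil))))) (nat_lit 176) (nat_lit 1),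
  Rule.mk (nat_lit 9) (nat_lit 104) (Steps.bwd (nat_lit 2) (Steps.bwd (nat_lit 12) (Steps.fwd (nat_lit 16384) (Steps.fwd (nat_lit 32768) (Steps.bwd (nat_lit 5) (Steps.fwd (nat_lit 65536) Steps.nil)))))) (nat_lit 184) (nat_lit 0),
  Rule.mk (nat_lit 3) (nat_lit 104) (Steps.bwd (nat_lit 14) (Steps.fwd (nat_lit 98304) (Steps.bwd (nat_lit 11) (Steps.bwd (nat_lit 6) (Steps.bwd (nat_lit 2) (Steps.fwd (nat_lit 81920) Steps.nil)))))) (nat_lit 181) (nat_lit 0),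
  Rule.mk (nat_lit 5) (nat_lit 149) (Steps.fwd (nat_lit 16384) (Steps.fwd (nat_lit 32768) (Steps.fwd (nat_lit 40960) (Steps.fwd (nat_lit 65536) (Steps.bwd (nat_lit 9) (Steps.fwd (nat_lit 98304) (Steps.fwd (nat_lit 106496) (Steps.fwd (nat_lit 114688) (Steps.bwd (nat_lit 2) Steps.nil))))))))) (nat_lit 170) (nat_lit 2),
  Rule.mk (nat_lit 10) (nat_lit 134) (Steps.bwd (nat_lit 1) (Steps.fwd (nat_lit 114688) (Steps.fwd (nat_lit 90112) (Steps.bwd (nat_lit 9) (Steps.fwd (nat_lit 65536) (Steps.bwd (nat_lit 5) (Steps.fwd (nat_lit 32768) (Steps.bwd (nat_lit 1) Steps.nil)))))))) (nat_lit 159) (nat_lit 8),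
  Rule.mk (nat_lit 5) (nat_lit 59) (Steps.fwd (nat_lit 81920) (Steps.fwd (nat_lit 40960) (Steps.bwd (nat_lit 10) Steps.nil))) (nat_lit 68) (nat_lit 0),
  Rule.mk (nat_lit 14) (nat_lit 59) (Steps.fwd (nat_lit 81920) (Steps.bwd (nat_lit 14) (Steps.bwd (nat_lit 10) Steps.nil))) (nat_lit 138) (nat_lit 1),
  Rule.mk (nat_lit 6) (nat_lit 104) (Steps.bwd (nat_lit 2) (Steps.fwd (nat_lit 81920) (Steps.fwd (nat_lit 16384) (Steps.fwd (nat_lit 114688) (Steps.bwd (nat_lit 12) (Steps.fwd (nat_lit 90112) Steps.nil)))))) (nat_lit 181) (nat_lit 4),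
  Rule.mk (nat_lit 11) (nat_lit 104) (Steps.bwd (nat_lit 1) (Steps.fwd (nat_lit 114688) (Steps.fwd (nat_lit 98304) (Steps.fwd (nat_lit 90112) (Steps.fwd (nat_lit 49152) (Steps.bwd (nat_lit 1) Steps.nil)))))) (nat_lit 161) (nat_lit 6),
  Rule.mk (nat_lit 1) (nat_lit 104) (Steps.bwd (nat_lit 6) (Steps.fwd (nat_lit 90112) (Steps.fwd (nat_lit 98304) (Steps.fwd (nat_lit 114688) (Steps.fwd (nat_lit 8192) (Steps.bwd (nat_lit 11) Steps.nil)))))) (nat_lit 160) (nat_lit 3),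
  Rule.mk (nat_lit 1) (nat_lit 149) (Steps.bwd (nat_lit 4) (Steps.fwd (nat_lit 40960) (Steps.fwd (nat_lit 65536) (Steps.bwd (nat_lit 9) (Steps.bwd (nat_lit 12) (Steps.bwd (nat_lit 13) (Steps.bwd (nat_lit 14) (Steps.bwd (nat_lit 1) (Steps.bwd (nat_lit 6) Steps.nil))))))))) (nat_lit 150) (nat_lit 3),
  Rule.mk (nat_lit 2) (nat_lit 104) (Steps.fwd (nat_lit 57344) (Steps.bwd (nat_lit 3) (Steps.bwd (nat_lit 5) (Steps.bwd (nat_lit 7) (Steps.bwd (nat_lit 13) (Steps.bwd (nat_lit 14) Steps.nil)))))) (nat_lit 174) (nat_lit 1),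
  Rule.mk (nat_lit 8) (nat_lit 59) (Steps.bwd (nat_lit 12) (Steps.bwd (nat_lit 8) (Steps.fwd (nat_lit 98304) Steps.nil))) (nat_lit 100) (nat_lit 0),
  Rule.mk (nat_lit 2) (nat_lit 104) (Steps.bwd (nat_lit 12) (Steps.fwd (nat_lit 16384) (Steps.bwd (nat_lit 9) (Steps.bwd (nat_lit 8) (Steps.fwd (nat_lit 40960) (Steps.bwd (nat_lit 4) Steps.nil)))))) (nat_lit 185) (nat_lit 5)]
noncomputable def R_13 : List (Rule) := [Rule.mk (nat_lit 1) (nat_lit 89) (Steps.bwd (nat_lit 9) (Steps.fwd (nat_lit 8192) (Steps.fwd (nat_lit 32768) (Steps.bwd (nat_lit 7) (Steps.bwd (nat_lit 14) Steps.nil))))) (nat_lit 156) (nat_lit 1),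
  Rule.mk (nat_lit 2) (nat_lit 59) (Steps.bwd (nat_lit 4) (Steps.fwd (nat_lit 16384) (Steps.fwd (nat_lit 32768) Steps.nil))) (nat_lit 168) (nat_lit 1),
  Rule.mk (nat_lit 5) (nat_lit 59) (Steps.bwd (nat_lit 4) (Steps.bwd (nat_lit 5) (Steps.fwd (nat_lit 32768) Steps.nil))) (nat_lit 36) (nat_lit 1),
  Rule.mk (nat_lit 9) (nat_lit 59) (Steps.bwd (nat_lit 4) (Steps.bwd (nat_lit 9) (Steps.fwd (nat_lit 32768) Steps.nil))) (nat_lit 56) (nat_lit 1),
  Rule.mk (nat_lit 4) (nat_lit 59) (Steps.bwd (nat_lit 13) (Steps.bwd (nat_lit 4) (Steps.fwd (nat_lit 106496) Steps.nil))) (nat_lit 108) (nat_lit 0),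
  Rule.mk (nat_lit 2) (nat_lit 119) (Steps.fwd (nat_lit 114688) (Steps.bwd (nat_lit 3) (Steps.fwd (nat_lit 114688) (Steps.fwd (nat_lit 98304) (Steps.bwd (nat_lit 7) (Steps.fwd (nat_lit 49152) (Steps.bwd (nat_lit 5) Steps.nil))))))) (nat_lit 189) (nat_lit 6),
  Rule.mk (nat_lit 3) (nat_lit 149) (Steps.bwd (nat_lit 14) (Steps.bwd (nat_lit 13) (Steps.fwd (nat_lit 98304) (Steps.bwd (nat_lit 9) (Steps.bwd (nat_lit 8) (Steps.bwd (nat_lit 5) (Steps.fwd (nat_lit 32768) (Steps.fwd (nat_lit 24576) (Steps.fwd (nat_lit 40960) Steps.nil))))))))) (nat_lit 171) (nat_lit 0),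
  Rule.mk (nat_lit 12) (nat_lit 149) (Steps.bwd (nat_lit 13) (Steps.bwd (nat_lit 14) (Steps.fwd (nat_lit 8192) (Steps.fwd (nat_lit 49152) (Steps.bwd (nat_lit 1) (Steps.bwd (nat_lit 4) (Steps.fwd (nat_lit 40960) (Steps.bwd (nat_lit 8) (Steps.bwd (nat_lit 9) Steps.nil))))))))) (nat_lit 150) (nat_lit 8),
  Rule.mk (nat_lit 4) (nat_lit 59) (Steps.fwd (nat_lit 98304) (Steps.bwd (nat_lit 4) (Steps.bwd (nat_lit 12) Steps.nil))) (nat_lit 92) (nat_lit 0),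
  Rule.mk (nat_lit 5) (nat_lit 59) (Steps.fwd (nat_lit 98304) (Steps.fwd (nat_lit 40960) (Steps.bwd (nat_lit 12) Steps.nil))) (nat_lit 94) (nat_lit 0),
  Rule.mk (nat_lit 3) (nat_lit 104) (Steps.bwd (nat_lit 4) (Steps.bwd (nat_lit 5) (Steps.bwd (nat_lit 8) (Steps.fwd (nat_lit 73728) (Steps.fwd (nat_lit 24576) (Steps.bwd (nat_lit 12) Steps.nil)))))) (nat_lit 184) (nat_lit 3),
  Rule.mk (nat_lit 1) (nat_lit 149) (Steps.bwd (nat_lit 6) (Steps.fwd (nat_lit 8192) (Steps.bwd (nat_lit 4) (Steps.bwd (nat_lit 5) (Steps.fwd (nat_lit 65536) (Steps.bwd (nat_lit 9) (Steps.bwd (nat_lit 12) (Steps.fwd (nat_lit 106496) (Steps.fwd (nat_lit 114688) Steps.nil))))))))) (nat_lit 150) (nat_lit 1),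
  Rule.mk (nat_lit 1) (nat_lit 89) (Steps.bwd (nat_lit 9) (Steps.fwd (nat_lit 8192) (Steps.bwd (nat_lit 4) (Steps.bwd (nat_lit 7) (Steps.fwd (nat_lit 114688) Steps.nil))))) (nat_lit 156) (nat_lit 1),
  Rule.mk (nat_lit 1) (nat_lit 149) (Steps.bwd (nat_lit 6) (Steps.fwd (nat_lit 8192) (Steps.fwd (nat_lit 32768) (Steps.bwd (nat_lit 5) (Steps.fwd (nat_lit 65536) (Steps.fwd (nat_lit 73728) (Steps.bwd (nat_lit 12) (Steps.fwd (nat_lit 106496) (Steps.bwd (nat_lit 14) Steps.nil))))))))) (nat_lit 150) (nat_lit 1),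
  Rule.mk (nat_lit 9) (nat_lit 89) (Steps.bwd (nat_lit 1) (Steps.fwd (nat_lit 32768) (Steps.bwd (nat_lit 7) (Steps.bwd (nat_lit 14) (Steps.fwd (nat_lit 8192) Steps.nil))))) (nat_lit 156) (nat_lit 2),
  Rule.mk (nat_lit 14) (nat_lit 89) (Steps.bwd (nat_lit 1) (Steps.fwd (nat_lit 73728) (Steps.fwd (nat_lit 8192) (Steps.fwd (nat_lit 32768) (Steps.fwd (nat_lit 57344) Steps.nil))))) (nat_lit 156) (nat_lit 0),
  Rule.mk (nat_lit 8) (nat_lit 104) (Steps.bwd (nat_lit 1) (Steps.bwd (nat_lit 14) (Steps.bwd (nat_lit 13) (Steps.fwd (nat_lit 57344) (Steps.fwd (nat_lit 40960) (Steps.fwd (nat_lit 8192) Steps.nil)))))) (nat_lit 155) (nat_lit 6),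
  Rule.mk (nat_lit 6) (nat_lit 149) (Steps.bwd (nat_lit 1) (Steps.fwd (nat_lit 32768) (Steps.bwd (nat_lit 5) (Steps.bwd (nat_lit 8) (Steps.fwd (nat_lit 73728) (Steps.fwd (nat_lit 98304) (Steps.bwd (nat_lit 13) (Steps.fwd (nat_lit 114688) (Steps.bwd (nat_lit 1) Steps.nil))))))))) (nat_lit 150) (nat_lit 2),
  Rule.mk (nat_lit 2) (nat_lit 104) (Steps.bwd (nat_lit 12) (Steps.bwd (nat_lit 3) (Steps.fwd (nat_lit 32768) (Steps.fwd (nat_lit 40960) (Steps.bwd (nat_lit 8) (Steps.fwd (nat_lit 73728) Steps.nil)))))) (nat_lit 184) (nat_lit 1),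
  Rule.mk (nat_lit 10) (nat_lit 59) (Steps.bwd (nat_lit 4) (Steps.fwd (nat_lit 81920) (Steps.fwd (nat_lit 32768) Steps.nil))) (nat_lit 66) (nat_lit 1),
  Rule.mk (nat_lit 1) (nat_lit 149) (Steps.bwd (nat_lit 6) (Steps.bwd (nat_lit 1) (Steps.fwd (nat_lit 32768) (Steps.fwd (nat_lit 40960) (Steps.fwd (nat_lit 65536) (Steps.bwd (nat_lit 9) (Steps.fwd (nat_lit 98304) (Steps.bwd (nat_lit 13) (Steps.bwd (nat_lit 14) Steps.nil))))))))) (nat_lit 150) (nat_lit 1),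
  Rule.mk (nat_lit 5) (nat_lit 104) (Steps.bwd (nat_lit 4) (Steps.fwd (nat_lit 8192) (Steps.fwd (nat_lit 106496) (Steps.bwd (nat_lit 1) (Steps.fwd (nat_lit 73728) (Steps.bwd (nat_lit 8) Steps.nil)))))) (nat_lit 165) (nat_lit 3),
  Rule.mk (nat_lit 8) (nat_lit 104) (Steps.fwd (nat_lit 8192) (Steps.fwd (nat_lit 40960) (Steps.bwd (nat_lit 7) (Steps.bwd (nat_lit 13) (Steps.bwd (nat_lit 14) (Steps.fwd (nat_lit 8192) Steps.nil)))))) (nat_lit 154) (nat_lit 2),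
  Rule.mk (nat_lit 6) (nat_lit 59) (Steps.bwd (nat_lit 10) (Steps.bwd (nat_lit 6) (Steps.bwd (nat_lit 10) Steps.nil))) (nat_lit 70) (nat_lit 0),
  Rule.mk (nat_lit 12) (nat_lit 59) (Steps.bwd (nat_lit 10) (Steps.bwd (nat_lit 12) (Steps.fwd (nat_lit 81920) Steps.nil))) (nat_lit 104) (nat_lit 1),
  Rule.mk (nat_lit 7) (nat_lit 59) (Steps.fwd (nat_lit 81920) (Steps.bwd (nat_lit 7) (Steps.bwd (nat_lit 10) Steps.nil))) (nat_lit 72) (nat_lit 0),
  Rule.mk (nat_lit 8) (nat_lit 59) (Steps.bwd (nat_lit 10) (Steps.bwd (nat_lit 8) (Steps.bwd (nat_lit 10) Steps.nil))) (nat_lit 74) (nat_lit 0),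
  Rule.mk (nat_lit 2) (nat_lit 104) (Steps.fwd (nat_lit 57344) (Steps.fwd (nat_lit 16384) (Steps.bwd (nat_lit 14) (Steps.bwd (nat_lit 13) (Steps.bwd (nat_lit 7) (Steps.fwd (nat_lit 40960) Steps.nil)))))) (nat_lit 175) (nat_lit 5),
  Rule.mk (nat_lit 14) (nat_lit 119) (Steps.bwd (nat_lit 3) (Steps.bwd (nat_lit 14) (Steps.bwd (nat_lit 12) (Steps.fwd (nat_lit 57344) (Steps.bwd (nat_lit 6) (Steps.fwd (nat_lit 40960) (Steps.bwd (nat_lit 2) Steps.nil))))))) (nat_lit 189) (nat_lit 7),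
  Rule.mk (nat_lit 3) (nat_lit 104) (Steps.bwd (nat_lit 5) (Steps.fwd (nat_lit 57344) (Steps.fwd (nat_lit 106496) (Steps.fwd (nat_lit 114688) (Steps.fwd (nat_lit 24576) (Steps.fwd (nat_lit 57344) Steps.nil)))))) (nat_lit 174) (nat_lit 3),
  Rule.mk (nat_lit 2) (nat_lit 104) (Steps.bwd (nat_lit 7) (Steps.bwd (nat_lit 3) (Steps.bwd (nat_lit 14) (Steps.fwd (nat_lit 106496) (Steps.bwd (nat_lit 7) (Steps.bwd (nat_lit 5) Steps.nil)))))) (nat_lit 175) (nat_lit 5),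
  Rule.mk (nat_lit 9) (nat_lit 59) (Steps.bwd (nat_lit 10) (Steps.fwd (nat_lit 73728) (Steps.bwd (nat_lit 10) Steps.nil))) (nat_lit 76) (nat_lit 0),
  Rule.mk (nat_lit 9) (nat_lit 59) (Steps.fwd (nat_lit 49152) (Steps.bwd (nat_lit 9) (Steps.bwd (nat_lit 6) Steps.nil))) (nat_lit 60) (nat_lit 1),
  Rule.mk (nat_lit 8) (nat_lit 104) (Steps.bwd (nat_lit 5) (Steps.bwd (nat_lit 4) (Steps.bwd (nat_lit 2) (Steps.bwd (nat_lit 12) (Steps.bwd (nat_lit 3) (Steps.fwd (nat_lit 73728) Steps.nil)))))) (nat_lit 185) (nat_lit 2),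
  Rule.mk (nat_lit 10) (nat_lit 59) (Steps.bwd (nat_lit 5) (Steps.fwd (nat_lit 81920) (Steps.bwd (nat_lit 5) Steps.nil))) (nat_lit 68) (nat_lit 1),
  Rule.mk (nat_lit 9) (nat_lit 59) (Steps.bwd (nat_lit 10) (Steps.fwd (nat_lit 73728) (Steps.fwd (nat_lit 81920) Steps.nil))) (nat_lit 76) (nat_lit 0),
  Rule.mk (nat_lit 3) (nat_lit 104) (Steps.bwd (nat_lit 9) (Steps.fwd (nat_lit 65536) (Steps.bwd (nat_lit 5) (Steps.fwd (nat_lit 32768) (Steps.fwd (nat_lit 24576) (Steps.bwd (nat_lit 12) Steps.nil)))))) (nat_lit 185) (nat_lit 0),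
  Rule.mk (nat_lit 9) (nat_lit 59) (Steps.bwd (nat_lit 7) (Steps.fwd (nat_lit 73728) (Steps.fwd (nat_lit 57344) Steps.nil))) (nat_lit 62) (nat_lit 1),
  Rule.mk (nat_lit 10) (nat_lit 59) (Steps.bwd (nat_lit 5) (Steps.fwd (nat_lit 81920) (Steps.fwd (nat_lit 40960) Steps.nil))) (nat_lit 68) (nat_lit 1),
  Rule.mk (nat_lit 3) (nat_lit 119) (Steps.bwd (nat_lit 5) (Steps.fwd (nat_lit 49152) (Steps.fwd (nat_lit 57344) (Steps.bwd (nat_lit 12) (Steps.bwd (nat_lit 14) (Steps.fwd (nat_lit 24576) (Steps.bwd (nat_lit 14) Steps.nil))))))) (nat_lit 188) (nat_lit 3),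
  Rule.mk (nat_lit 7) (nat_lit 89) (Steps.bwd (nat_lit 14) (Steps.fwd (nat_lit 24576) (Steps.bwd (nat_lit 8) (Steps.bwd (nat_lit 3) (Steps.bwd (nat_lit 4) Steps.nil))))) (nat_lit 176) (nat_lit 5),
  Rule.mk (nat_lit 10) (nat_lit 59) (Steps.bwd (nat_lit 13) (Steps.fwd (nat_lit 81920) (Steps.fwd (nat_lit 106496) Steps.nil))) (nat_lit 120) (nat_lit 0),
  Rule.mk (nat_lit 12) (nat_lit 149) (Steps.bwd (nat_lit 13) (Steps.bwd (nat_lit 14) (Steps.fwd (nat_lit 24576) (Steps.bwd (nat_lit 5) (Steps.bwd (nat_lit 3) (Steps.bwd (nat_lit 4) (Steps.bwd (nat_lit 5) (Steps.bwd (nat_lit 8) (Steps.fwd (nat_lit 73728) Steps.nil))))))))) (nat_lit 170) (nat_lit 8),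
  Rule.mk (nat_lit 9) (nat_lit 59) (Steps.fwd (nat_lit 98304) (Steps.fwd (nat_lit 73728) (Steps.bwd (nat_lit 12) Steps.nil))) (nat_lit 102) (nat_lit 0),
  Rule.mk (nat_lit 14) (nat_lit 134) (Steps.bwd (nat_lit 1) (Steps.fwd (nat_lit 81920) (Steps.fwd (nat_lit 8192) (Steps.fwd (nat_lit 32768) (Steps.bwd (nat_lit 5) (Steps.fwd (nat_lit 65536) (Steps.bwd (nat_lit 9) (Steps.fwd (nat_lit 90112) Steps.nil)))))))) (nat_lit 158) (nat_lit 0),
  Rule.mk (nat_lit 3) (nat_lit 119) (Steps.bwd (nat_lit 5) (Steps.fwd (nat_lit 49152) (Steps.bwd (nat_lit 7) (Steps.fwd (nat_lit 98304) (Steps.fwd (nat_lit 114688) (Steps.bwd (nat_lit 2) (Steps.bwd (nat_lit 14) Steps.nil))))))) (nat_lit 188) (nat_lit 3),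
  Rule.mk (nat_lit 7) (nat_lit 104) (Steps.bwd (nat_lit 3) (Steps.bwd (nat_lit 5) (Steps.bwd (nat_lit 7) (Steps.fwd (nat_lit 106496) (Steps.fwd (nat_lit 114688) (Steps.fwd (nat_lit 24576) Steps.nil)))))) (nat_lit 174) (nat_lit 2),
  Rule.mk (nat_lit 2) (nat_lit 89) (Steps.bwd (nat_lit 8) (Steps.bwd (nat_lit 3) (Steps.fwd (nat_lit 114688) (Steps.fwd (nat_lit 57344) (Steps.bwd (nat_lit 4) Steps.nil))))) (nat_lit 177) (nat_lit 4),
  Rule.mk (nat_lit 1) (nat_lit 104) (Steps.bwd (nat_lit 8) (Steps.fwd (nat_lit 8192) (Steps.bwd (nat_lit 5) (Steps.fwd (nat_lit 57344) (Steps.fwd (nat_lit 106496) (Steps.bwd (nat_lit 14) Steps.nil)))))) (nat_lit 154) (nat_lit 1),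
  Rule.mk (nat_lit 5) (nat_lit 119) (Steps.bwd (nat_lit 6) (Steps.fwd (nat_lit 57344) (Steps.fwd (nat_lit 98304) (Steps.bwd (nat_lit 14) (Steps.bwd (nat_lit 2) (Steps.fwd (nat_lit 114688) (Steps.bwd (nat_lit 3) Steps.nil))))))) (nat_lit 188) (nat_lit 4),
  Rule.mk (nat_lit 2) (nat_lit 104) (Steps.fwd (nat_lit 57344) (Steps.fwd (nat_lit 16384) (Steps.fwd (nat_lit 114688) (Steps.fwd (nat_lit 106496) (Steps.bwd (nat_lit 7) (Steps.bwd (nat_lit 5) Steps.nil)))))) (nat_lit 175) (nat_lit 5),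
  Rule.mk (nat_lit 9) (nat_lit 89) (Steps.bwd (nat_lit 1) (Steps.bwd (nat_lit 4) (Steps.fwd (nat_lit 57344) (Steps.fwd (nat_lit 114688) (Steps.fwd (nat_lit 8192) Steps.nil))))) (nat_lit 156) (nat_lit 2),
  Rule.mk (nat_lit 8) (nat_lit 104) (Steps.bwd (nat_lit 1) (Steps.bwd (nat_lit 5) (Steps.fwd (nat_lit 57344) (Steps.fwd (nat_lit 106496) (Steps.bwd (nat_lit 14) (Steps.bwd (nat_lit 1) Steps.nil)))))) (nat_lit 154) (nat_lit 2),
  Rule.mk (nat_lit 13) (nat_lit 104) (Steps.bwd (nat_lit 1) (Steps.bwd (nat_lit 4) (Steps.fwd (nat_lit 40960) (Steps.bwd (nat_lit 8) (Steps.fwd (nat_lit 73728) (Steps.fwd (nat_lit 8192) Steps.nil)))))) (nat_lit 164) (nat_lit 2),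
  Rule.mk (nat_lit 6) (nat_lit 149) (Steps.bwd (nat_lit 1) (Steps.bwd (nat_lit 4) (Steps.fwd (nat_lit 40960) (Steps.bwd (nat_lit 8) (Steps.fwd (nat_lit 73728) (Steps.fwd (nat_lit 98304) (Steps.bwd (nat_lit 13) (Steps.fwd (nat_lit 114688) (Steps.fwd (nat_lit 8192) Steps.nil))))))))) (nat_lit 150) (nat_lit 2),
  Rule.mk (nat_lit 12) (nat_lit 59) (Steps.fwd (nat_lit 49152) (Steps.fwd (nat_lit 98304) (Steps.bwd (nat_lit 6) Steps.nil))) (nat_lit 96) (nat_lit 1),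
  Rule.mk (nat_lit 3) (nat_lit 119) (Steps.fwd (nat_lit 114688) (Steps.fwd (nat_lit 98304) (Steps.bwd (nat_lit 7) (Steps.fwd (nat_lit 49152) (Steps.bwd (nat_lit 5) (Steps.fwd (nat_lit 24576) (Steps.bwd (nat_lit 14) Steps.nil))))))) (nat_lit 189) (nat_lit 0),
  Rule.mk (nat_lit 11) (nat_lit 59) (Steps.bwd (nat_lit 5) (Steps.bwd (nat_lit 11) (Steps.fwd (nat_lit 40960) Steps.nil))) (nat_lit 80) (nat_lit 1),
  Rule.mk (nat_lit 2) (nat_lit 149) (Steps.bwd (nat_lit 5) (Steps.bwd (nat_lit 3) (Steps.bwd (nat_lit 4) (Steps.fwd (nat_lit 40960) (Steps.fwd (nat_lit 65536) (Steps.bwd (nat_lit 9) (Steps.fwd (nat_lit 98304) (Steps.bwd (nat_lit 13) (Steps.bwd (nat_lit 14) Steps.nil))))))))) (nat_lit 170) (nat_lit 1),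
  Rule.mk (nat_lit 8) (nat_lit 89) (Steps.fwd (nat_lit 16384) (Steps.bwd (nat_lit 4) (Steps.fwd (nat_lit 57344) (Steps.bwd (nat_lit 14) (Steps.bwd (nat_lit 2) Steps.nil))))) (nat_lit 176) (nat_lit 2),
  Rule.mk (nat_lit 12) (nat_lit 104) (Steps.bwd (nat_lit 3) (Steps.bwd (nat_lit 4) (Steps.bwd (nat_lit 5) (Steps.fwd (nat_lit 65536) (Steps.bwd (nat_lit 9) (Steps.bwd (nat_lit 2) Steps.nil)))))) (nat_lit 184) (nat_lit 2),
  Rule.mk (nat_lit 1) (nat_lit 134) (Steps.bwd (nat_lit 14) (Steps.fwd (nat_lit 90112) (Steps.bwd (nat_lit 9) (Steps.fwd (nat_lit 65536) (Steps.bwd (nat_lit 5) (Steps.bwd (nat_lit 4) (Steps.fwd (nat_lit 8192) (Steps.bwd (nat_lit 10) Steps.nil)))))))) (nat_lit 159) (nat_lit 0),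
  Rule.mk (nat_lit 14) (nat_lit 149) (Steps.bwd (nat_lit 2) (Steps.fwd (nat_lit 40960) (Steps.fwd (nat_lit 16384) (Steps.fwd (nat_lit 32768) (Steps.bwd (nat_lit 5) (Steps.fwd (nat_lit 65536) (Steps.fwd (nat_lit 73728) (Steps.fwd (nat_lit 98304) (Steps.fwd (nat_lit 106496) Steps.nil))))))))) (nat_lit 170) (nat_lit 0),
  Rule.mk (nat_lit 7) (nat_lit 89) (Steps.fwd (nat_lit 32768) (Steps.fwd (nat_lit 8192) (Steps.fwd (nat_lit 73728) (Steps.fwd (nat_lit 8192) (Steps.bwd (nat_lit 14) Steps.nil))))) (nat_lit 157) (nat_lit 2)]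
noncomputable def R_14 : List (Rule) := [Rule.mk (nat_lit 11) (nat_lit 59) (Steps.bwd (nat_lit 7) (Steps.fwd (nat_lit 90112) (Steps.bwd (nat_lit 7) Steps.nil))) (nat_lit 84) (nat_lit 1),
  Rule.mk (nat_lit 2) (nat_lit 104) (Steps.bwd (nat_lit 7) (Steps.fwd (nat_lit 16384) (Steps.fwd (nat_lit 40960) (Steps.fwd (nat_lit 57344) (Steps.bwd (nat_lit 13) (Steps.bwd (nat_lit 14) Steps.nil)))))) (nat_lit 174) (nat_lit 1),
  Rule.mk (nat_lit 2) (nat_lit 119) (Steps.bwd (nat_lit 14) (Steps.fwd (nat_lit 16384) (Steps.bwd (nat_lit 5) (Steps.bwd (nat_lit 6) (Steps.bwd (nat_lit 7) (Steps.fwd (nat_lit 98304) (Steps.bwd (nat_lit 14) Steps.nil))))))) (nat_lit 188) (nat_lit 1),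
  Rule.mk (nat_lit 9) (nat_lit 59) (Steps.bwd (nat_lit 7) (Steps.bwd (nat_lit 9) (Steps.fwd (nat_lit 57344) Steps.nil))) (nat_lit 62) (nat_lit 1),
  Rule.mk (nat_lit 14) (nat_lit 89) (Steps.bwd (nat_lit 7) (Steps.fwd (nat_lit 32768) (Steps.bwd (nat_lit 2) (Steps.bwd (nat_lit 8) (Steps.bwd (nat_lit 3) Steps.nil))))) (nat_lit 177) (nat_lit 1),
  Rule.mk (nat_lit 3) (nat_lit 89) (Steps.bwd (nat_lit 4) (Steps.fwd (nat_lit 57344) (Steps.bwd (nat_lit 14) (Steps.bwd (nat_lit 2) (Steps.bwd (nat_lit 8) Steps.nil))))) (nat_lit 176) (nat_lit 3),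
  Rule.mk (nat_lit 13) (nat_lit 104) (Steps.bwd (nat_lit 1) (Steps.fwd (nat_lit 32768) (Steps.fwd (nat_lit 40960) (Steps.fwd (nat_lit 65536) (Steps.bwd (nat_lit 9) (Steps.bwd (nat_lit 1) Steps.nil)))))) (nat_lit 164) (nat_lit 2),
  Rule.mk (nat_lit 6) (nat_lit 149) (Steps.bwd (nat_lit 1) (Steps.bwd (nat_lit 14) (Steps.bwd (nat_lit 13) (Steps.fwd (nat_lit 98304) (Steps.fwd (nat_lit 73728) (Steps.fwd (nat_lit 65536) (Steps.bwd (nat_lit 5) (Steps.fwd (nat_lit 32768) (Steps.bwd (nat_lit 1) Steps.nil))))))))) (nat_lit 151) (nat_lit 9),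
  Rule.mk (nat_lit 12) (nat_lit 59) (Steps.fwd (nat_lit 49152) (Steps.bwd (nat_lit 12) (Steps.bwd (nat_lit 6) Steps.nil))) (nat_lit 96) (nat_lit 1),
  Rule.mk (nat_lit 8) (nat_lit 104) (Steps.bwd (nat_lit 1) (Steps.fwd (nat_lit 114688) (Steps.bwd (nat_lit 13) (Steps.bwd (nat_lit 7) (Steps.bwd (nat_lit 5) (Steps.fwd (nat_lit 8192) Steps.nil)))))) (nat_lit 155) (nat_lit 6),
  Rule.mk (nat_lit 13) (nat_lit 104) (Steps.bwd (nat_lit 1) (Steps.bwd (nat_lit 4) (Steps.fwd (nat_lit 40960) (Steps.fwd (nat_lit 65536) (Steps.bwd (nat_lit 9) (Steps.fwd (nat_lit 8192) Steps.nil)))))) (nat_lit 164) (nat_lit 2),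
  Rule.mk (nat_lit 6) (nat_lit 149) (Steps.bwd (nat_lit 1) (Steps.bwd (nat_lit 4) (Steps.fwd (nat_lit 40960) (Steps.fwd (nat_lit 65536) (Steps.bwd (nat_lit 9) (Steps.fwd (nat_lit 98304) (Steps.bwd (nat_lit 13) (Steps.bwd (nat_lit 14) (Steps.bwd (nat_lit 1) Steps.nil))))))))) (nat_lit 150) (nat_lit 2),
  Rule.mk (nat_lit 11) (nat_lit 59) (Steps.bwd (nat_lit 6) (Steps.bwd (nat_lit 11) (Steps.bwd (nat_lit 6) Steps.nil))) (nat_lit 82) (nat_lit 1),
  Rule.mk (nat_lit 3) (nat_lit 89) (Steps.bwd (nat_lit 14) (Steps.bwd (nat_lit 7) (Steps.fwd (nat_lit 32768) (Steps.bwd (nat_lit 2) (Steps.fwd (nat_lit 65536) Steps.nil))))) (nat_lit 177) (nat_lit 0),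
  Rule.mk (nat_lit 1) (nat_lit 89) (Steps.bwd (nat_lit 9) (Steps.fwd (nat_lit 8192) (Steps.fwd (nat_lit 32768) (Steps.fwd (nat_lit 57344) (Steps.bwd (nat_lit 14) Steps.nil))))) (nat_lit 156) (nat_lit 1),
  Rule.mk (nat_lit 3) (nat_lit 89) (Steps.fwd (nat_lit 32768) (Steps.bwd (nat_lit 7) (Steps.fwd (nat_lit 114688) (Steps.fwd (nat_lit 24576) (Steps.bwd (nat_lit 8) Steps.nil))))) (nat_lit 176) (nat_lit 3),
  Rule.mk (nat_lit 5) (nat_lit 59) (Steps.bwd (nat_lit 9) (Steps.bwd (nat_lit 5) (Steps.fwd (nat_lit 73728) Steps.nil))) (nat_lit 58) (nat_lit 0),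
  Rule.mk (nat_lit 3) (nat_lit 104) (Steps.bwd (nat_lit 9) (Steps.bwd (nat_lit 8) (Steps.fwd (nat_lit 40960) (Steps.fwd (nat_lit 32768) (Steps.fwd (nat_lit 24576) (Steps.fwd (nat_lit 98304) Steps.nil)))))) (nat_lit 185) (nat_lit 0),
  Rule.mk (nat_lit 1) (nat_lit 104) (Steps.bwd (nat_lit 13) (Steps.fwd (nat_lit 8192) (Steps.fwd (nat_lit 32768) (Steps.fwd (nat_lit 40960) (Steps.fwd (nat_lit 65536) (Steps.fwd (nat_lit 73728) Steps.nil)))))) (nat_lit 164) (nat_lit 1),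
  Rule.mk (nat_lit 1) (nat_lit 89) (Steps.bwd (nat_lit 14) (Steps.fwd (nat_lit 57344) (Steps.fwd (nat_lit 32768) (Steps.bwd (nat_lit 1) (Steps.fwd (nat_lit 73728) Steps.nil))))) (nat_lit 157) (nat_lit 0),
  Rule.mk (nat_lit 8) (nat_lit 104) (Steps.fwd (nat_lit 8192) (Steps.fwd (nat_lit 40960) (Steps.fwd (nat_lit 57344) (Steps.bwd (nat_lit 13) (Steps.bwd (nat_lit 14) (Steps.bwd (nat_lit 1) Steps.nil)))))) (nat_lit 154) (nat_lit 2),
  Rule.mk (nat_lit 11) (nat_lit 59) (Steps.fwd (nat_lit 57344) (Steps.bwd (nat_lit 11) (Steps.bwd (nat_lit 7) Steps.nil))) (nat_lit 84) (nat_lit 1),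
  Rule.mk (nat_lit 1) (nat_lit 89) (Steps.bwd (nat_lit 9) (Steps.bwd (nat_lit 1) (Steps.fwd (nat_lit 32768) (Steps.fwd (nat_lit 57344) (Steps.bwd (nat_lit 14) Steps.nil))))) (nat_lit 156) (nat_lit 1),
  Rule.mk (nat_lit 8) (nat_lit 104) (Steps.bwd (nat_lit 5) (Steps.fwd (nat_lit 32768) (Steps.fwd (nat_lit 8192) (Steps.bwd (nat_lit 13) (Steps.bwd (nat_lit 1) (Steps.fwd (nat_lit 73728) Steps.nil)))))) (nat_lit 165) (nat_lit 2),
  Rule.mk (nat_lit 1) (nat_lit 104) (Steps.bwd (nat_lit 8) (Steps.fwd (nat_lit 8192) (Steps.bwd (nat_lit 5) (Steps.bwd (nat_lit 7) (Steps.fwd (nat_lit 106496) (Steps.bwd (nat_lit 14) Steps.nil)))))) (nat_lit 154) (nat_lit 1),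
  Rule.mk (nat_lit 13) (nat_lit 104) (Steps.fwd (nat_lit 8192) (Steps.fwd (nat_lit 32768) (Steps.bwd (nat_lit 5) (Steps.fwd (nat_lit 65536) (Steps.fwd (nat_lit 73728) (Steps.fwd (nat_lit 8192) Steps.nil)))))) (nat_lit 164) (nat_lit 2),
  Rule.mk (nat_lit 2) (nat_lit 149) (Steps.bwd (nat_lit 5) (Steps.bwd (nat_lit 3) (Steps.fwd (nat_lit 32768) (Steps.fwd (nat_lit 40960) (Steps.fwd (nat_lit 65536) (Steps.bwd (nat_lit 9) (Steps.fwd (nat_lit 98304) (Steps.bwd (nat_lit 13) (Steps.bwd (nat_lit 14) Steps.nil))))))))) (nat_lit 170) (nat_lit 1),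
  Rule.mk (nat_lit 3) (nat_lit 104) (Steps.bwd (nat_lit 9) (Steps.fwd (nat_lit 65536) (Steps.bwd (nat_lit 5) (Steps.bwd (nat_lit 4) (Steps.bwd (nat_lit 2) (Steps.bwd (nat_lit 12) Steps.nil)))))) (nat_lit 185) (nat_lit 0),
  Rule.mk (nat_lit 11) (nat_lit 134) (Steps.bwd (nat_lit 9) (Steps.fwd (nat_lit 65536) (Steps.bwd (nat_lit 5) (Steps.bwd (nat_lit 4) (Steps.bwd (nat_lit 2) (Steps.fwd (nat_lit 73728) (Steps.bwd (nat_lit 3) (Steps.bwd (nat_lit 14) Steps.nil)))))))) (nat_lit 179) (nat_lit 2),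
  Rule.mk (nat_lit 7) (nat_lit 59) (Steps.fwd (nat_lit 90112) (Steps.bwd (nat_lit 7) (Steps.bwd (nat_lit 11) Steps.nil))) (nat_lit 84) (nat_lit 0),
  Rule.mk (nat_lit 6) (nat_lit 59) (Steps.bwd (nat_lit 11) (Steps.bwd (nat_lit 6) (Steps.bwd (nat_lit 11) Steps.nil))) (nat_lit 82) (nat_lit 0),
  Rule.mk (nat_lit 9) (nat_lit 59) (Steps.bwd (nat_lit 11) (Steps.bwd (nat_lit 9) (Steps.fwd (nat_lit 90112) Steps.nil))) (nat_lit 88) (nat_lit 0),
  Rule.mk (nat_lit 1) (nat_lit 104) (Steps.bwd (nat_lit 11) (Steps.fwd (nat_lit 8192) (Steps.bwd (nat_lit 14) (Steps.fwd (nat_lit 98304) (Steps.fwd (nat_lit 90112) (Steps.fwd (nat_lit 49152) Steps.nil)))))) (nat_lit 161) (nat_lit 5),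
  Rule.mk (nat_lit 2) (nat_lit 104) (Steps.fwd (nat_lit 98304) (Steps.bwd (nat_lit 3) (Steps.bwd (nat_lit 4) (Steps.fwd (nat_lit 40960) (Steps.bwd (nat_lit 8) (Steps.bwd (nat_lit 9) Steps.nil)))))) (nat_lit 184) (nat_lit 1),
  Rule.mk (nat_lit 13) (nat_lit 104) (Steps.bwd (nat_lit 1) (Steps.fwd (nat_lit 73728) (Steps.bwd (nat_lit 8) (Steps.fwd (nat_lit 40960) (Steps.bwd (nat_lit 4) (Steps.bwd (nat_lit 1) Steps.nil)))))) (nat_lit 165) (nat_lit 6),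
  Rule.mk (nat_lit 10) (nat_lit 134) (Steps.bwd (nat_lit 1) (Steps.bwd (nat_lit 14) (Steps.bwd (nat_lit 11) (Steps.bwd (nat_lit 9) (Steps.fwd (nat_lit 65536) (Steps.bwd (nat_lit 5) (Steps.fwd (nat_lit 32768) (Steps.fwd (nat_lit 8192) Steps.nil)))))))) (nat_lit 159) (nat_lit 8),
  Rule.mk (nat_lit 6) (nat_lit 59) (Steps.fwd (nat_lit 81920) (Steps.fwd (nat_lit 49152) (Steps.bwd (nat_lit 10) Steps.nil))) (nat_lit 70) (nat_lit 0),
  Rule.mk (nat_lit 2) (nat_lit 104) (Steps.fwd (nat_lit 57344) (Steps.fwd (nat_lit 16384) (Steps.fwd (nat_lit 40960) (Steps.fwd (nat_lit 57344) (Steps.bwd (nat_lit 13) (Steps.bwd (nat_lit 14) Steps.nil)))))) (nat_lit 174) (nat_lit 1),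
  Rule.mk (nat_lit 2) (nat_lit 89) (Steps.fwd (nat_lit 65536) (Steps.bwd (nat_lit 3) (Steps.fwd (nat_lit 114688) (Steps.fwd (nat_lit 57344) (Steps.bwd (nat_lit 4) Steps.nil))))) (nat_lit 177) (nat_lit 4),
  Rule.mk (nat_lit 2) (nat_lit 59) (Steps.fwd (nat_lit 32768) (Steps.fwd (nat_lit 16384) (Steps.fwd (nat_lit 32768) Steps.nil))) (nat_lit 168) (nat_lit 1),
  Rule.mk (nat_lit 3) (nat_lit 104) (Steps.bwd (nat_lit 14) (Steps.fwd (nat_lit 106496) (Steps.fwd (nat_lit 57344) (Steps.bwd (nat_lit 5) (Steps.bwd (nat_lit 2) (Steps.bwd (nat_lit 7) Steps.nil)))))) (nat_lit 175) (nat_lit 0),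
  Rule.mk (nat_lit 4) (nat_lit 59) (Steps.bwd (nat_lit 11) (Steps.bwd (nat_lit 4) (Steps.bwd (nat_lit 11) Steps.nil))) (nat_lit 78) (nat_lit 0),
  Rule.mk (nat_lit 1) (nat_lit 89) (Steps.bwd (nat_lit 14) (Steps.fwd (nat_lit 57344) (Steps.fwd (nat_lit 32768) (Steps.bwd (nat_lit 1) (Steps.bwd (nat_lit 9) Steps.nil))))) (nat_lit 157) (nat_lit 0),
  Rule.mk (nat_lit 3) (nat_lit 89) (Steps.bwd (nat_lit 14) (Steps.fwd (nat_lit 57344) (Steps.fwd (nat_lit 32768) (Steps.bwd (nat_lit 2) (Steps.fwd (nat_lit 65536) Steps.nil))))) (nat_lit 177) (nat_lit 0),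
  Rule.mk (nat_lit 11) (nat_lit 59) (Steps.bwd (nat_lit 6) (Steps.fwd (nat_lit 90112) (Steps.fwd (nat_lit 49152) Steps.nil))) (nat_lit 82) (nat_lit 1),
  Rule.mk (nat_lit 1) (nat_lit 104) (Steps.bwd (nat_lit 6) (Steps.fwd (nat_lit 90112) (Steps.fwd (nat_lit 98304) (Steps.fwd (nat_lit 114688) (Steps.fwd (nat_lit 8192) (Steps.fwd (nat_lit 90112) Steps.nil)))))) (nat_lit 160) (nat_lit 3),
  Rule.mk (nat_lit 3) (nat_lit 104) (Steps.bwd (nat_lit 6) (Steps.fwd (nat_lit 90112) (Steps.fwd (nat_lit 98304) (Steps.fwd (nat_lit 114688) (Steps.fwd (nat_lit 24576) (Steps.fwd (nat_lit 81920) Steps.nil)))))) (nat_lit 180) (nat_lit 3),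
  Rule.mk (nat_lit 6) (nat_lit 59) (Steps.fwd (nat_lit 90112) (Steps.fwd (nat_lit 49152) (Steps.bwd (nat_lit 11) Steps.nil))) (nat_lit 82) (nat_lit 0),
  Rule.mk (nat_lit 9) (nat_lit 59) (Steps.bwd (nat_lit 11) (Steps.fwd (nat_lit 73728) (Steps.bwd (nat_lit 11) Steps.nil))) (nat_lit 88) (nat_lit 0),
  Rule.mk (nat_lit 1) (nat_lit 89) (Steps.bwd (nat_lit 9) (Steps.bwd (nat_lit 1) (Steps.fwd (nat_lit 32768) (Steps.bwd (nat_lit 7) (Steps.bwd (nat_lit 14) Steps.nil))))) (nat_lit 156) (nat_lit 1),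
  Rule.mk (nat_lit 2) (nat_lit 104) (Steps.fwd (nat_lit 98304) (Steps.bwd (nat_lit 3) (Steps.bwd (nat_lit 4) (Steps.fwd (nat_lit 40960) (Steps.fwd (nat_lit 65536) (Steps.bwd (nat_lit 9) Steps.nil)))))) (nat_lit 184) (nat_lit 1),
  Rule.mk (nat_lit 6) (nat_lit 59) (Steps.bwd (nat_lit 11) (Steps.fwd (nat_lit 49152) (Steps.bwd (nat_lit 11) Steps.nil))) (nat_lit 82) (nat_lit 0),
  Rule.mk (nat_lit 11) (nat_lit 59) (Steps.bwd (nat_lit 5) (Steps.bwd (nat_lit 11) (Steps.bwd (nat_lit 5) Steps.nil))) (nat_lit 80) (nat_lit 1),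
  Rule.mk (nat_lit 2) (nat_lit 149) (Steps.bwd (nat_lit 5) (Steps.fwd (nat_lit 16384) (Steps.fwd (nat_lit 114688) (Steps.fwd (nat_lit 106496) (Steps.fwd (nat_lit 98304) (Steps.bwd (nat_lit 9) (Steps.bwd (nat_lit 8) (Steps.fwd (nat_lit 40960) (Steps.bwd (nat_lit 4) Steps.nil))))))))) (nat_lit 171) (nat_lit 8),
  Rule.mk (nat_lit 11) (nat_lit 59) (Steps.bwd (nat_lit 5) (Steps.fwd (nat_lit 90112) (Steps.fwd (nat_lit 40960) Steps.nil))) (nat_lit 80) (nat_lit 1),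
  Rule.mk (nat_lit 11) (nat_lit 104) (Steps.bwd (nat_lit 6) (Steps.bwd (nat_lit 1) (Steps.fwd (nat_lit 90112) (Steps.bwd (nat_lit 1) (Steps.fwd (nat_lit 114688) (Steps.fwd (nat_lit 98304) Steps.nil)))))) (nat_lit 161) (nat_lit 3),
  Rule.mk (nat_lit 10) (nat_lit 59) (Steps.bwd (nat_lit 11) (Steps.fwd (nat_lit 81920) (Steps.fwd (nat_lit 90112) Steps.nil))) (nat_lit 90) (nat_lit 0),
  Rule.mk (nat_lit 11) (nat_lit 59) (Steps.bwd (nat_lit 7) (Steps.fwd (nat_lit 90112) (Steps.fwd (nat_lit 57344) Steps.nil))) (nat_lit 84) (nat_lit 1),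
  Rule.mk (nat_lit 4) (nat_lit 89) (Steps.bwd (nat_lit 7) (Steps.bwd (nat_lit 14) (Steps.fwd (nat_lit 8192) (Steps.bwd (nat_lit 9) (Steps.bwd (nat_lit 1) Steps.nil))))) (nat_lit 156) (nat_lit 4),
  Rule.mk (nat_lit 3) (nat_lit 89) (Steps.bwd (nat_lit 4) (Steps.bwd (nat_lit 7) (Steps.bwd (nat_lit 14) (Steps.bwd (nat_lit 2) (Steps.bwd (nat_lit 8) Steps.nil))))) (nat_lit 176) (nat_lit 3),
  Rule.mk (nat_lit 1) (nat_lit 164) (Steps.bwd (nat_lit 7) (Steps.fwd (nat_lit 8192) (Steps.fwd (nat_lit 114688) (Steps.fwd (nat_lit 106496) (Steps.fwd (nat_lit 98304) (Steps.fwd (nat_lit 90112) (Steps.fwd (nat_lit 81920) (Steps.bwd (nat_lit 9) (Steps.bwd (nat_lit 6) (Steps.bwd (nat_lit 5) Steps.nil)))))))))) (nat_lit 153) (nat_lit 9),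
  Rule.mk (nat_lit 11) (nat_lit 59) (Steps.bwd (nat_lit 9) (Steps.fwd (nat_lit 90112) (Steps.fwd (nat_lit 73728) Steps.nil))) (nat_lit 88) (nat_lit 1),
  Rule.mk (nat_lit 11) (nat_lit 59) (Steps.bwd (nat_lit 10) (Steps.fwd (nat_lit 90112) (Steps.fwd (nat_lit 81920) Steps.nil))) (nat_lit 90) (nat_lit 1),
  Rule.mk (nat_lit 1) (nat_lit 104) (Steps.bwd (nat_lit 6) (Steps.fwd (nat_lit 90112) (Steps.bwd (nat_lit 12) (Steps.fwd (nat_lit 114688) (Steps.fwd (nat_lit 8192) (Steps.bwd (nat_lit 11) Steps.nil)))))) (nat_lit 160) (nat_lit 3)]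
noncomputable def R_15 : List (Rule) := [Rule.mk (nat_lit 3) (nat_lit 104) (Steps.bwd (nat_lit 6) (Steps.fwd (nat_lit 90112) (Steps.bwd (nat_lit 12) (Steps.fwd (nat_lit 114688) (Steps.fwd (nat_lit 24576) (Steps.bwd (nat_lit 10) Steps.nil)))))) (nat_lit 180) (nat_lit 3),
  Rule.mk (nat_lit 1) (nat_lit 149) (Steps.fwd (nat_lit 32768) (Steps.fwd (nat_lit 40960) (Steps.bwd (nat_lit 8) (Steps.fwd (nat_lit 73728) (Steps.fwd (nat_lit 98304) (Steps.fwd (nat_lit 106496) (Steps.bwd (nat_lit 14) (Steps.bwd (nat_lit 1) (Steps.bwd (nat_lit 6) Steps.nil))))))))) (nat_lit 150) (nat_lit 3),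
  Rule.mk (nat_lit 13) (nat_lit 59) (Steps.bwd (nat_lit 6) (Steps.bwd (nat_lit 13) (Steps.bwd (nat_lit 6) Steps.nil))) (nat_lit 112) (nat_lit 1),
  Rule.mk (nat_lit 1) (nat_lit 149) (Steps.bwd (nat_lit 6) (Steps.fwd (nat_lit 8192) (Steps.bwd (nat_lit 4) (Steps.fwd (nat_lit 40960) (Steps.bwd (nat_lit 8) (Steps.bwd (nat_lit 9) (Steps.fwd (nat_lit 98304) (Steps.bwd (nat_lit 13) (Steps.fwd (nat_lit 114688) Steps.nil))))))))) (nat_lit 150) (nat_lit 1),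
  Rule.mk (nat_lit 13) (nat_lit 59) (Steps.bwd (nat_lit 11) (Steps.fwd (nat_lit 106496) (Steps.fwd (nat_lit 90112) Steps.nil))) (nat_lit 122) (nat_lit 1),
  Rule.mk (nat_lit 10) (nat_lit 59) (Steps.fwd (nat_lit 106496) (Steps.fwd (nat_lit 81920) (Steps.bwd (nat_lit 13) Steps.nil))) (nat_lit 120) (nat_lit 0),
  Rule.mk (nat_lit 14) (nat_lit 59) (Steps.bwd (nat_lit 5) (Steps.bwd (nat_lit 14) (Steps.fwd (nat_lit 40960) Steps.nil))) (nat_lit 128) (nat_lit 1),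
  Rule.mk (nat_lit 3) (nat_lit 104) (Steps.bwd (nat_lit 14) (Steps.fwd (nat_lit 106496) (Steps.bwd (nat_lit 7) (Steps.bwd (nat_lit 5) (Steps.fwd (nat_lit 24576) (Steps.fwd (nat_lit 57344) Steps.nil)))))) (nat_lit 175) (nat_lit 0),
  Rule.mk (nat_lit 3) (nat_lit 104) (Steps.bwd (nat_lit 14) (Steps.fwd (nat_lit 106496) (Steps.bwd (nat_lit 7) (Steps.fwd (nat_lit 40960) (Steps.fwd (nat_lit 24576) (Steps.bwd (nat_lit 7) Steps.nil)))))) (nat_lit 175) (nat_lit 0),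
  Rule.mk (nat_lit 10) (nat_lit 59) (Steps.bwd (nat_lit 4) (Steps.fwd (nat_lit 81920) (Steps.bwd (nat_lit 4) Steps.nil))) (nat_lit 66) (nat_lit 1),
  Rule.mk (nat_lit 5) (nat_lit 104) (Steps.bwd (nat_lit 7) (Steps.bwd (nat_lit 13) (Steps.bwd (nat_lit 14) (Steps.bwd (nat_lit 2) (Steps.bwd (nat_lit 7) (Steps.bwd (nat_lit 3) Steps.nil)))))) (nat_lit 174) (nat_lit 4),
  Rule.mk (nat_lit 3) (nat_lit 104) (Steps.bwd (nat_lit 14) (Steps.fwd (nat_lit 106496) (Steps.fwd (nat_lit 57344) (Steps.bwd (nat_lit 5) (Steps.fwd (nat_lit 24576) (Steps.bwd (nat_lit 7) Steps.nil)))))) (nat_lit 175) (nat_lit 0),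
  Rule.mk (nat_lit 11) (nat_lit 59) (Steps.fwd (nat_lit 40960) (Steps.bwd (nat_lit 11) (Steps.bwd (nat_lit 5) Steps.nil))) (nat_lit 80) (nat_lit 1),
  Rule.mk (nat_lit 5) (nat_lit 59) (Steps.bwd (nat_lit 11) (Steps.fwd (nat_lit 40960) (Steps.bwd (nat_lit 11) Steps.nil))) (nat_lit 80) (nat_lit 0),
  Rule.mk (nat_lit 6) (nat_lit 59) (Steps.fwd (nat_lit 90112) (Steps.bwd (nat_lit 6) (Steps.bwd (nat_lit 11) Steps.nil))) (nat_lit 82) (nat_lit 0),
  Rule.mk (nat_lit 1) (nat_lit 134) (Steps.bwd (nat_lit 14) (Steps.fwd (nat_lit 90112) (Steps.fwd (nat_lit 73728) (Steps.fwd (nat_lit 65536) (Steps.fwd (nat_lit 40960) (Steps.fwd (nat_lit 32768) (Steps.bwd (nat_lit 1) (Steps.bwd (nat_lit 10) Steps.nil)))))))) (nat_lit 159) (nat_lit 0),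
  Rule.mk (nat_lit 11) (nat_lit 59) (Steps.bwd (nat_lit 9) (Steps.bwd (nat_lit 11) (Steps.fwd (nat_lit 73728) Steps.nil))) (nat_lit 88) (nat_lit 1),
  Rule.mk (nat_lit 3) (nat_lit 104) (Steps.bwd (nat_lit 9) (Steps.bwd (nat_lit 8) (Steps.fwd (nat_lit 40960) (Steps.fwd (nat_lit 32768) (Steps.bwd (nat_lit 2) (Steps.bwd (nat_lit 12) Steps.nil)))))) (nat_lit 185) (nat_lit 0),
  Rule.mk (nat_lit 6) (nat_lit 104) (Steps.fwd (nat_lit 90112) (Steps.fwd (nat_lit 98304) (Steps.fwd (nat_lit 114688) (Steps.bwd (nat_lit 2) (Steps.fwd (nat_lit 81920) (Steps.bwd (nat_lit 3) Steps.nil)))))) (nat_lit 180) (nat_lit 4),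
  Rule.mk (nat_lit 9) (nat_lit 89) (Steps.bwd (nat_lit 1) (Steps.bwd (nat_lit 14) (Steps.bwd (nat_lit 7) (Steps.fwd (nat_lit 32768) (Steps.fwd (nat_lit 8192) Steps.nil))))) (nat_lit 157) (nat_lit 5),
  Rule.mk (nat_lit 11) (nat_lit 104) (Steps.bwd (nat_lit 1) (Steps.fwd (nat_lit 49152) (Steps.fwd (nat_lit 90112) (Steps.bwd (nat_lit 12) (Steps.fwd (nat_lit 114688) (Steps.bwd (nat_lit 1) Steps.nil)))))) (nat_lit 160) (nat_lit 2),
  Rule.mk (nat_lit 10) (nat_lit 134) (Steps.bwd (nat_lit 1) (Steps.bwd (nat_lit 14) (Steps.fwd (nat_lit 90112) (Steps.fwd (nat_lit 73728) (Steps.fwd (nat_lit 65536) (Steps.bwd (nat_lit 5) (Steps.bwd (nat_lit 4) (Steps.fwd (nat_lit 8192) Steps.nil)))))))) (nat_lit 159) (nat_lit 8),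
  Rule.mk (nat_lit 8) (nat_lit 59) (Steps.bwd (nat_lit 10) (Steps.fwd (nat_lit 65536) (Steps.bwd (nat_lit 10) Steps.nil))) (nat_lit 74) (nat_lit 0),
  Rule.mk (nat_lit 2) (nat_lit 104) (Steps.bwd (nat_lit 12) (Steps.bwd (nat_lit 3) (Steps.bwd (nat_lit 4) (Steps.bwd (nat_lit 5) (Steps.fwd (nat_lit 65536) (Steps.bwd (nat_lit 9) Steps.nil)))))) (nat_lit 184) (nat_lit 1),
  Rule.mk (nat_lit 1) (nat_lit 89) (Steps.bwd (nat_lit 9) (Steps.fwd (nat_lit 8192) (Steps.fwd (nat_lit 32768) (Steps.fwd (nat_lit 57344) (Steps.fwd (nat_lit 114688) Steps.nil))))) (nat_lit 156) (nat_lit 1),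
  Rule.mk (nat_lit 2) (nat_lit 104) (Steps.fwd (nat_lit 81920) (Steps.bwd (nat_lit 3) (Steps.fwd (nat_lit 114688) (Steps.fwd (nat_lit 98304) (Steps.bwd (nat_lit 11) (Steps.fwd (nat_lit 49152) Steps.nil)))))) (nat_lit 181) (nat_lit 5),
  Rule.mk (nat_lit 11) (nat_lit 104) (Steps.bwd (nat_lit 1) (Steps.fwd (nat_lit 114688) (Steps.fwd (nat_lit 98304) (Steps.bwd (nat_lit 11) (Steps.fwd (nat_lit 49152) (Steps.bwd (nat_lit 1) Steps.nil)))))) (nat_lit 161) (nat_lit 6),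
  Rule.mk (nat_lit 11) (nat_lit 59) (Steps.bwd (nat_lit 13) (Steps.fwd (nat_lit 90112) (Steps.fwd (nat_lit 106496) Steps.nil))) (nat_lit 122) (nat_lit 0),
  Rule.mk (nat_lit 10) (nat_lit 59) (Steps.bwd (nat_lit 11) (Steps.bwd (nat_lit 10) (Steps.bwd (nat_lit 11) Steps.nil))) (nat_lit 90) (nat_lit 0),
  Rule.mk (nat_lit 11) (nat_lit 59) (Steps.bwd (nat_lit 10) (Steps.bwd (nat_lit 11) (Steps.fwd (nat_lit 81920) Steps.nil))) (nat_lit 90) (nat_lit 1),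
  Rule.mk (nat_lit 1) (nat_lit 104) (Steps.bwd (nat_lit 13) (Steps.bwd (nat_lit 1) (Steps.fwd (nat_lit 32768) (Steps.bwd (nat_lit 5) (Steps.bwd (nat_lit 8) (Steps.bwd (nat_lit 9) Steps.nil)))))) (nat_lit 164) (nat_lit 1),
  Rule.mk (nat_lit 3) (nat_lit 104) (Steps.bwd (nat_lit 6) (Steps.fwd (nat_lit 90112) (Steps.fwd (nat_lit 98304) (Steps.bwd (nat_lit 14) (Steps.fwd (nat_lit 24576) (Steps.bwd (nat_lit 10) Steps.nil)))))) (nat_lit 180) (nat_lit 3),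
  Rule.mk (nat_lit 1) (nat_lit 149) (Steps.bwd (nat_lit 6) (Steps.fwd (nat_lit 8192) (Steps.bwd (nat_lit 4) (Steps.bwd (nat_lit 5) (Steps.fwd (nat_lit 65536) (Steps.fwd (nat_lit 73728) (Steps.bwd (nat_lit 12) (Steps.fwd (nat_lit 106496) (Steps.fwd (nat_lit 114688) Steps.nil))))))))) (nat_lit 150) (nat_lit 1),
  Rule.mk (nat_lit 1) (nat_lit 104) (Steps.bwd (nat_lit 11) (Steps.bwd (nat_lit 1) (Steps.fwd (nat_lit 49152) (Steps.fwd (nat_lit 90112) (Steps.bwd (nat_lit 12) (Steps.bwd (nat_lit 14) Steps.nil)))))) (nat_lit 160) (nat_lit 1),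
  Rule.mk (nat_lit 11) (nat_lit 59) (Steps.bwd (nat_lit 14) (Steps.bwd (nat_lit 11) (Steps.fwd (nat_lit 114688) Steps.nil))) (nat_lit 140) (nat_lit 0),
  Rule.mk (nat_lit 3) (nat_lit 134) (Steps.bwd (nat_lit 14) (Steps.bwd (nat_lit 11) (Steps.fwd (nat_lit 73728) (Steps.fwd (nat_lit 65536) (Steps.fwd (nat_lit 40960) (Steps.bwd (nat_lit 4) (Steps.fwd (nat_lit 24576) (Steps.fwd (nat_lit 73728) Steps.nil)))))))) (nat_lit 179) (nat_lit 0),
  Rule.mk (nat_lit 8) (nat_lit 89) (Steps.bwd (nat_lit 3) (Steps.bwd (nat_lit 4) (Steps.bwd (nat_lit 7) (Steps.fwd (nat_lit 114688) (Steps.fwd (nat_lit 24576) Steps.nil))))) (nat_lit 176) (nat_lit 2),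
  Rule.mk (nat_lit 3) (nat_lit 104) (Steps.bwd (nat_lit 14) (Steps.bwd (nat_lit 12) (Steps.fwd (nat_lit 90112) (Steps.fwd (nat_lit 49152) (Steps.bwd (nat_lit 2) (Steps.fwd (nat_lit 81920) Steps.nil)))))) (nat_lit 181) (nat_lit 0),
  Rule.mk (nat_lit 2) (nat_lit 104) (Steps.bwd (nat_lit 7) (Steps.fwd (nat_lit 16384) (Steps.bwd (nat_lit 5) (Steps.fwd (nat_lit 57344) (Steps.bwd (nat_lit 13) (Steps.fwd (nat_lit 114688) Steps.nil)))))) (nat_lit 174) (nat_lit 1),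
  Rule.mk (nat_lit 13) (nat_lit 104) (Steps.bwd (nat_lit 7) (Steps.bwd (nat_lit 5) (Steps.bwd (nat_lit 2) (Steps.fwd (nat_lit 57344) (Steps.bwd (nat_lit 3) (Steps.bwd (nat_lit 14) Steps.nil)))))) (nat_lit 175) (nat_lit 2),
  Rule.mk (nat_lit 11) (nat_lit 59) (Steps.bwd (nat_lit 13) (Steps.bwd (nat_lit 11) (Steps.bwd (nat_lit 13) Steps.nil))) (nat_lit 122) (nat_lit 0),
  Rule.mk (nat_lit 5) (nat_lit 134) (Steps.bwd (nat_lit 4) (Steps.fwd (nat_lit 8192) (Steps.fwd (nat_lit 81920) (Steps.bwd (nat_lit 1) (Steps.fwd (nat_lit 114688) (Steps.fwd (nat_lit 90112) (Steps.fwd (nat_lit 73728) (Steps.fwd (nat_lit 65536) Steps.nil)))))))) (nat_lit 159) (nat_lit 5),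
  Rule.mk (nat_lit 2) (nat_lit 134) (Steps.bwd (nat_lit 9) (Steps.fwd (nat_lit 16384) (Steps.fwd (nat_lit 114688) (Steps.fwd (nat_lit 90112) (Steps.fwd (nat_lit 73728) (Steps.fwd (nat_lit 65536) (Steps.bwd (nat_lit 5) (Steps.bwd (nat_lit 4) Steps.nil)))))))) (nat_lit 179) (nat_lit 7),
  Rule.mk (nat_lit 8) (nat_lit 59) (Steps.fwd (nat_lit 90112) (Steps.bwd (nat_lit 8) (Steps.bwd (nat_lit 11) Steps.nil))) (nat_lit 86) (nat_lit 0),
  Rule.mk (nat_lit 9) (nat_lit 59) (Steps.bwd (nat_lit 11) (Steps.bwd (nat_lit 9) (Steps.bwd (nat_lit 11) Steps.nil))) (nat_lit 88) (nat_lit 0),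
  Rule.mk (nat_lit 1) (nat_lit 89) (Steps.bwd (nat_lit 9) (Steps.fwd (nat_lit 8192) (Steps.bwd (nat_lit 4) (Steps.bwd (nat_lit 7) (Steps.bwd (nat_lit 14) Steps.nil))))) (nat_lit 156) (nat_lit 1),
  Rule.mk (nat_lit 11) (nat_lit 59) (Steps.bwd (nat_lit 8) (Steps.fwd (nat_lit 90112) (Steps.bwd (nat_lit 8) Steps.nil))) (nat_lit 86) (nat_lit 1),
  Rule.mk (nat_lit 1) (nat_lit 104) (Steps.bwd (nat_lit 6) (Steps.fwd (nat_lit 90112) (Steps.bwd (nat_lit 12) (Steps.bwd (nat_lit 14) (Steps.fwd (nat_lit 8192) (Steps.bwd (nat_lit 11) Steps.nil)))))) (nat_lit 160) (nat_lit 3),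
  Rule.mk (nat_lit 10) (nat_lit 134) (Steps.bwd (nat_lit 6) (Steps.bwd (nat_lit 1) (Steps.bwd (nat_lit 14) (Steps.fwd (nat_lit 8192) (Steps.fwd (nat_lit 114688) (Steps.fwd (nat_lit 106496) (Steps.fwd (nat_lit 98304) (Steps.bwd (nat_lit 11) Steps.nil)))))))) (nat_lit 167) (nat_lit 5),
  Rule.mk (nat_lit 3) (nat_lit 104) (Steps.bwd (nat_lit 6) (Steps.fwd (nat_lit 90112) (Steps.bwd (nat_lit 12) (Steps.bwd (nat_lit 14) (Steps.fwd (nat_lit 24576) (Steps.bwd (nat_lit 10) Steps.nil)))))) (nat_lit 180) (nat_lit 3),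
  Rule.mk (nat_lit 6) (nat_lit 104) (Steps.bwd (nat_lit 2) (Steps.bwd (nat_lit 10) (Steps.bwd (nat_lit 3) (Steps.bwd (nat_lit 14) (Steps.fwd (nat_lit 98304) (Steps.bwd (nat_lit 11) Steps.nil)))))) (nat_lit 181) (nat_lit 4),
  Rule.mk (nat_lit 9) (nat_lit 104) (Steps.bwd (nat_lit 2) (Steps.fwd (nat_lit 98304) (Steps.bwd (nat_lit 3) (Steps.bwd (nat_lit 4) (Steps.bwd (nat_lit 5) (Steps.bwd (nat_lit 8) Steps.nil)))))) (nat_lit 184) (nat_lit 0),
  Rule.mk (nat_lit 5) (nat_lit 59) (Steps.fwd (nat_lit 73728) (Steps.fwd (nat_lit 40960) (Steps.bwd (nat_lit 9) Steps.nil))) (nat_lit 58) (nat_lit 0),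
  Rule.mk (nat_lit 11) (nat_lit 59) (Steps.bwd (nat_lit 9) (Steps.bwd (nat_lit 11) (Steps.bwd (nat_lit 9) Steps.nil))) (nat_lit 88) (nat_lit 1),
  Rule.mk (nat_lit 7) (nat_lit 59) (Steps.fwd (nat_lit 90112) (Steps.fwd (nat_lit 57344) (Steps.bwd (nat_lit 11) Steps.nil))) (nat_lit 84) (nat_lit 0),
  Rule.mk (nat_lit 1) (nat_lit 104) (Steps.bwd (nat_lit 13) (Steps.bwd (nat_lit 1) (Steps.fwd (nat_lit 32768) (Steps.bwd (nat_lit 5) (Steps.fwd (nat_lit 65536) (Steps.bwd (nat_lit 9) Steps.nil)))))) (nat_lit 164) (nat_lit 1),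
  Rule.mk (nat_lit 11) (nat_lit 59) (Steps.bwd (nat_lit 10) (Steps.fwd (nat_lit 90112) (Steps.bwd (nat_lit 10) Steps.nil))) (nat_lit 90) (nat_lit 1),
  Rule.mk (nat_lit 1) (nat_lit 104) (Steps.bwd (nat_lit 14) (Steps.fwd (nat_lit 98304) (Steps.bwd (nat_lit 11) (Steps.fwd (nat_lit 49152) (Steps.bwd (nat_lit 1) (Steps.bwd (nat_lit 11) Steps.nil)))))) (nat_lit 161) (nat_lit 0),
  Rule.mk (nat_lit 9) (nat_lit 59) (Steps.bwd (nat_lit 13) (Steps.bwd (nat_lit 9) (Steps.fwd (nat_lit 106496) Steps.nil))) (nat_lit 118) (nat_lit 0),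
  Rule.mk (nat_lit 7) (nat_lit 104) (Steps.bwd (nat_lit 3) (Steps.fwd (nat_lit 40960) (Steps.fwd (nat_lit 57344) (Steps.fwd (nat_lit 106496) (Steps.fwd (nat_lit 114688) (Steps.fwd (nat_lit 24576) Steps.nil)))))) (nat_lit 174) (nat_lit 2),
  Rule.mk (nat_lit 14) (nat_lit 119) (Steps.bwd (nat_lit 3) (Steps.fwd (nat_lit 40960) (Steps.fwd (nat_lit 49152) (Steps.fwd (nat_lit 57344) (Steps.fwd (nat_lit 98304) (Steps.fwd (nat_lit 114688) (Steps.fwd (nat_lit 24576) Steps.nil))))))) (nat_lit 188) (nat_lit 2),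
  Rule.mk (nat_lit 5) (nat_lit 149) (Steps.bwd (nat_lit 3) (Steps.bwd (nat_lit 14) (Steps.bwd (nat_lit 13) (Steps.fwd (nat_lit 98304) (Steps.bwd (nat_lit 9) (Steps.bwd (nat_lit 8) (Steps.fwd (nat_lit 40960) (Steps.bwd (nat_lit 4) (Steps.fwd (nat_lit 24576) Steps.nil))))))))) (nat_lit 171) (nat_lit 9),
  Rule.mk (nat_lit 2) (nat_lit 89) (Steps.bwd (nat_lit 8) (Steps.fwd (nat_lit 16384) (Steps.bwd (nat_lit 4) (Steps.bwd (nat_lit 7) (Steps.fwd (nat_lit 114688) Steps.nil))))) (nat_lit 176) (nat_lit 1),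
  Rule.mk (nat_lit 9) (nat_lit 59) (Steps.fwd (nat_lit 90112) (Steps.bwd (nat_lit 9) (Steps.bwd (nat_lit 11) Steps.nil))) (nat_lit 88) (nat_lit 0)]
noncomputable def R_16 : List (Rule) := [Rule.mk (nat_lit 11) (nat_lit 59) (Steps.bwd (nat_lit 4) (Steps.fwd (nat_lit 90112) (Steps.fwd (nat_lit 32768) Steps.nil))) (nat_lit 78) (nat_lit 1),
  Rule.mk (nat_lit 1) (nat_lit 89) (Steps.bwd (nat_lit 9) (Steps.fwd (nat_lit 8192) (Steps.bwd (nat_lit 14) (Steps.bwd (nat_lit 7) (Steps.bwd (nat_lit 4) Steps.nil))))) (nat_lit 157) (nat_lit 4),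
  Rule.mk (nat_lit 3) (nat_lit 89) (Steps.bwd (nat_lit 14) (Steps.fwd (nat_lit 57344) (Steps.fwd (nat_lit 32768) (Steps.fwd (nat_lit 24576) (Steps.bwd (nat_lit 8) Steps.nil))))) (nat_lit 177) (nat_lit 0),
  Rule.mk (nat_lit 2) (nat_lit 149) (Steps.bwd (nat_lit 5) (Steps.bwd (nat_lit 3) (Steps.fwd (nat_lit 32768) (Steps.bwd (nat_lit 5) (Steps.fwd (nat_lit 65536) (Steps.bwd (nat_lit 9) (Steps.fwd (nat_lit 98304) (Steps.fwd (nat_lit 106496) (Steps.bwd (nat_lit 14) Steps.nil))))))))) (nat_lit 170) (nat_lit 1),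
  Rule.mk (nat_lit 4) (nat_lit 89) (Steps.bwd (nat_lit 1) (Steps.fwd (nat_lit 73728) (Steps.fwd (nat_lit 8192) (Steps.bwd (nat_lit 14) (Steps.bwd (nat_lit 7) Steps.nil))))) (nat_lit 157) (nat_lit 3),
  Rule.mk (nat_lit 13) (nat_lit 104) (Steps.bwd (nat_lit 1) (Steps.fwd (nat_lit 73728) (Steps.fwd (nat_lit 65536) (Steps.fwd (nat_lit 40960) (Steps.bwd (nat_lit 4) (Steps.fwd (nat_lit 8192) Steps.nil)))))) (nat_lit 165) (nat_lit 6),
  Rule.mk (nat_lit 10) (nat_lit 59) (Steps.fwd (nat_lit 106496) (Steps.bwd (nat_lit 10) (Steps.bwd (nat_lit 13) Steps.nil))) (nat_lit 120) (nat_lit 0),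
  Rule.mk (nat_lit 11) (nat_lit 59) (Steps.bwd (nat_lit 5) (Steps.fwd (nat_lit 90112) (Steps.bwd (nat_lit 5) Steps.nil))) (nat_lit 80) (nat_lit 1),
  Rule.mk (nat_lit 4) (nat_lit 104) (Steps.bwd (nat_lit 5) (Steps.fwd (nat_lit 65536) (Steps.bwd (nat_lit 9) (Steps.bwd (nat_lit 1) (Steps.bwd (nat_lit 13) (Steps.bwd (nat_lit 1) Steps.nil)))))) (nat_lit 164) (nat_lit 4),
  Rule.mk (nat_lit 3) (nat_lit 104) (Steps.bwd (nat_lit 5) (Steps.bwd (nat_lit 7) (Steps.fwd (nat_lit 106496) (Steps.fwd (nat_lit 114688) (Steps.fwd (nat_lit 24576) (Steps.bwd (nat_lit 7) Steps.nil)))))) (nat_lit 174) (nat_lit 3),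
  Rule.mk (nat_lit 8) (nat_lit 104) (Steps.bwd (nat_lit 1) (Steps.bwd (nat_lit 5) (Steps.bwd (nat_lit 7) (Steps.fwd (nat_lit 106496) (Steps.fwd (nat_lit 114688) (Steps.fwd (nat_lit 8192) Steps.nil)))))) (nat_lit 154) (nat_lit 2),
  Rule.mk (nat_lit 14) (nat_lit 134) (Steps.bwd (nat_lit 1) (Steps.fwd (nat_lit 81920) (Steps.fwd (nat_lit 8192) (Steps.bwd (nat_lit 4) (Steps.bwd (nat_lit 5) (Steps.fwd (nat_lit 65536) (Steps.bwd (nat_lit 9) (Steps.bwd (nat_lit 11) Steps.nil)))))))) (nat_lit 158) (nat_lit 0),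
  Rule.mk (nat_lit 3) (nat_lit 119) (Steps.bwd (nat_lit 5) (Steps.fwd (nat_lit 49152) (Steps.bwd (nat_lit 7) (Steps.bwd (nat_lit 12) (Steps.bwd (nat_lit 14) (Steps.bwd (nat_lit 2) (Steps.bwd (nat_lit 14) Steps.nil))))))) (nat_lit 188) (nat_lit 3),
  Rule.mk (nat_lit 5) (nat_lit 59) (Steps.fwd (nat_lit 65536) (Steps.bwd (nat_lit 5) (Steps.bwd (nat_lit 8) Steps.nil))) (nat_lit 50) (nat_lit 0),
  Rule.mk (nat_lit 14) (nat_lit 59) (Steps.fwd (nat_lit 65536) (Steps.bwd (nat_lit 14) (Steps.bwd (nat_lit 8) Steps.nil))) (nat_lit 134) (nat_lit 1),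
  Rule.mk (nat_lit 14) (nat_lit 59) (Steps.fwd (nat_lit 90112) (Steps.bwd (nat_lit 14) (Steps.bwd (nat_lit 11) Steps.nil))) (nat_lit 140) (nat_lit 1),
  Rule.mk (nat_lit 5) (nat_lit 104) (Steps.bwd (nat_lit 2) (Steps.fwd (nat_lit 57344) (Steps.bwd (nat_lit 3) (Steps.bwd (nat_lit 14) (Steps.fwd (nat_lit 106496) (Steps.fwd (nat_lit 57344) Steps.nil)))))) (nat_lit 175) (nat_lit 4),
  Rule.mk (nat_lit 4) (nat_lit 134) (Steps.bwd (nat_lit 2) (Steps.fwd (nat_lit 73728) (Steps.bwd (nat_lit 3) (Steps.fwd (nat_lit 114688) (Steps.fwd (nat_lit 90112) (Steps.fwd (nat_lit 73728) (Steps.bwd (nat_lit 8) (Steps.bwd (nat_lit 5) Steps.nil)))))))) (nat_lit 179) (nat_lit 6),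
  Rule.mk (nat_lit 7) (nat_lit 59) (Steps.fwd (nat_lit 32768) (Steps.bwd (nat_lit 7) (Steps.bwd (nat_lit 4) Steps.nil))) (nat_lit 42) (nat_lit 1),
  Rule.mk (nat_lit 13) (nat_lit 59) (Steps.fwd (nat_lit 32768) (Steps.fwd (nat_lit 106496) (Steps.bwd (nat_lit 4) Steps.nil))) (nat_lit 108) (nat_lit 1),
  Rule.mk (nat_lit 2) (nat_lit 119) (Steps.bwd (nat_lit 14) (Steps.bwd (nat_lit 3) (Steps.fwd (nat_lit 114688) (Steps.fwd (nat_lit 98304) (Steps.fwd (nat_lit 57344) (Steps.bwd (nat_lit 6) (Steps.fwd (nat_lit 40960) Steps.nil))))))) (nat_lit 189) (nat_lit 6),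
  Rule.mk (nat_lit 2) (nat_lit 104) (Steps.bwd (nat_lit 12) (Steps.bwd (nat_lit 3) (Steps.fwd (nat_lit 73728) (Steps.fwd (nat_lit 65536) (Steps.bwd (nat_lit 5) (Steps.fwd (nat_lit 32768) Steps.nil)))))) (nat_lit 185) (nat_lit 5),
  Rule.mk (nat_lit 2) (nat_lit 119) (Steps.bwd (nat_lit 14) (Steps.fwd (nat_lit 16384) (Steps.bwd (nat_lit 14) (Steps.fwd (nat_lit 98304) (Steps.fwd (nat_lit 57344) (Steps.bwd (nat_lit 6) (Steps.bwd (nat_lit 5) Steps.nil))))))) (nat_lit 189) (nat_lit 6),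
  Rule.mk (nat_lit 4) (nat_lit 59) (Steps.fwd (nat_lit 81920) (Steps.fwd (nat_lit 32768) (Steps.bwd (nat_lit 10) Steps.nil))) (nat_lit 66) (nat_lit 0),
  Rule.mk (nat_lit 3) (nat_lit 89) (Steps.fwd (nat_lit 114688) (Steps.fwd (nat_lit 57344) (Steps.bwd (nat_lit 4) (Steps.bwd (nat_lit 2) (Steps.bwd (nat_lit 8) Steps.nil))))) (nat_lit 177) (nat_lit 0),
  Rule.mk (nat_lit 9) (nat_lit 59) (Steps.fwd (nat_lit 81920) (Steps.bwd (nat_lit 9) (Steps.bwd (nat_lit 10) Steps.nil))) (nat_lit 76) (nat_lit 0),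
  Rule.mk (nat_lit 7) (nat_lit 59) (Steps.bwd (nat_lit 10) (Steps.fwd (nat_lit 57344) (Steps.bwd (nat_lit 10) Steps.nil))) (nat_lit 72) (nat_lit 0),
  Rule.mk (nat_lit 2) (nat_lit 89) (Steps.bwd (nat_lit 8) (Steps.bwd (nat_lit 3) (Steps.bwd (nat_lit 4) (Steps.bwd (nat_lit 7) (Steps.fwd (nat_lit 114688) Steps.nil))))) (nat_lit 176) (nat_lit 1),
  Rule.mk (nat_lit 2) (nat_lit 119) (Steps.bwd (nat_lit 14) (Steps.fwd (nat_lit 16384) (Steps.bwd (nat_lit 5) (Steps.fwd (nat_lit 49152) (Steps.bwd (nat_lit 7) (Steps.fwd (nat_lit 98304) (Steps.bwd (nat_lit 14) Steps.nil))))))) (nat_lit 188) (nat_lit 1),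
  Rule.mk (nat_lit 4) (nat_lit 59) (Steps.fwd (nat_lit 16384) (Steps.fwd (nat_lit 32768) (Steps.bwd (nat_lit 2) Steps.nil))) (nat_lit 168) (nat_lit 2),
  Rule.mk (nat_lit 3) (nat_lit 149) (Steps.fwd (nat_lit 114688) (Steps.bwd (nat_lit 13) (Steps.fwd (nat_lit 98304) (Steps.fwd (nat_lit 73728) (Steps.bwd (nat_lit 8) (Steps.bwd (nat_lit 5) (Steps.fwd (nat_lit 32768) (Steps.fwd (nat_lit 24576) (Steps.bwd (nat_lit 5) Steps.nil))))))))) (nat_lit 171) (nat_lit 0),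
  Rule.mk (nat_lit 3) (nat_lit 119) (Steps.bwd (nat_lit 14) (Steps.bwd (nat_lit 12) (Steps.fwd (nat_lit 57344) (Steps.fwd (nat_lit 49152) (Steps.bwd (nat_lit 5) (Steps.fwd (nat_lit 24576) (Steps.bwd (nat_lit 14) Steps.nil))))))) (nat_lit 189) (nat_lit 0),
  Rule.mk (nat_lit 3) (nat_lit 89) (Steps.bwd (nat_lit 14) (Steps.fwd (nat_lit 57344) (Steps.fwd (nat_lit 32768) (Steps.fwd (nat_lit 24576) (Steps.fwd (nat_lit 65536) Steps.nil))))) (nat_lit 177) (nat_lit 0),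
  Rule.mk (nat_lit 2) (nat_lit 44) (Steps.bwd (nat_lit 2) (Steps.fwd (nat_lit 24576) Steps.nil)) (nat_lit 2) (nat_lit 0),
  Rule.mk (nat_lit 1) (nat_lit 59) (Steps.fwd (nat_lit 40960) (Steps.bwd (nat_lit 1) (Steps.bwd (nat_lit 4) Steps.nil))) (nat_lit 146) (nat_lit 3),
  Rule.mk (nat_lit 10) (nat_lit 59) (Steps.bwd (nat_lit 11) (Steps.fwd (nat_lit 81920) (Steps.bwd (nat_lit 11) Steps.nil))) (nat_lit 90) (nat_lit 0),
  Rule.mk (nat_lit 5) (nat_lit 149) (Steps.bwd (nat_lit 3) (Steps.bwd (nat_lit 4) (Steps.bwd (nat_lit 5) (Steps.bwd (nat_lit 8) (Steps.fwd (nat_lit 73728) (Steps.bwd (nat_lit 12) (Steps.fwd (nat_lit 106496) (Steps.bwd (nat_lit 14) (Steps.bwd (nat_lit 2) Steps.nil))))))))) (nat_lit 170) (nat_lit 2),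
  Rule.mk (nat_lit 1) (nat_lit 59) (Steps.bwd (nat_lit 4) (Steps.fwd (nat_lit 8192) (Steps.bwd (nat_lit 5) Steps.nil))) (nat_lit 146) (nat_lit 1),
  Rule.mk (nat_lit 12) (nat_lit 104) (Steps.bwd (nat_lit 3) (Steps.bwd (nat_lit 4) (Steps.fwd (nat_lit 40960) (Steps.fwd (nat_lit 65536) (Steps.bwd (nat_lit 9) (Steps.bwd (nat_lit 2) Steps.nil)))))) (nat_lit 184) (nat_lit 2),
  Rule.mk (nat_lit 6) (nat_lit 104) (Steps.bwd (nat_lit 2) (Steps.fwd (nat_lit 81920) (Steps.bwd (nat_lit 3) (Steps.fwd (nat_lit 114688) (Steps.fwd (nat_lit 98304) (Steps.fwd (nat_lit 90112) Steps.nil)))))) (nat_lit 181) (nat_lit 4),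
  Rule.mk (nat_lit 10) (nat_lit 104) (Steps.bwd (nat_lit 3) (Steps.fwd (nat_lit 114688) (Steps.fwd (nat_lit 98304) (Steps.fwd (nat_lit 90112) (Steps.fwd (nat_lit 49152) (Steps.fwd (nat_lit 24576) Steps.nil)))))) (nat_lit 181) (nat_lit 6),
  Rule.mk (nat_lit 7) (nat_lit 104) (Steps.bwd (nat_lit 3) (Steps.fwd (nat_lit 114688) (Steps.bwd (nat_lit 13) (Steps.fwd (nat_lit 57344) (Steps.bwd (nat_lit 5) (Steps.bwd (nat_lit 2) Steps.nil)))))) (nat_lit 175) (nat_lit 6),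
  Rule.mk (nat_lit 14) (nat_lit 89) (Steps.bwd (nat_lit 7) (Steps.bwd (nat_lit 4) (Steps.bwd (nat_lit 2) (Steps.bwd (nat_lit 8) (Steps.bwd (nat_lit 3) Steps.nil))))) (nat_lit 177) (nat_lit 1),
  Rule.mk (nat_lit 2) (nat_lit 104) (Steps.bwd (nat_lit 7) (Steps.bwd (nat_lit 3) (Steps.bwd (nat_lit 5) (Steps.bwd (nat_lit 7) (Steps.bwd (nat_lit 13) (Steps.bwd (nat_lit 14) Steps.nil)))))) (nat_lit 174) (nat_lit 1),
  Rule.mk (nat_lit 12) (nat_lit 104) (Steps.bwd (nat_lit 3) (Steps.fwd (nat_lit 73728) (Steps.bwd (nat_lit 8) (Steps.bwd (nat_lit 5) (Steps.fwd (nat_lit 32768) (Steps.fwd (nat_lit 24576) Steps.nil)))))) (nat_lit 185) (nat_lit 6),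
  Rule.mk (nat_lit 2) (nat_lit 134) (Steps.bwd (nat_lit 13) (Steps.bwd (nat_lit 3) (Steps.bwd (nat_lit 6) (Steps.fwd (nat_lit 81920) (Steps.fwd (nat_lit 90112) (Steps.bwd (nat_lit 12) (Steps.bwd (nat_lit 13) (Steps.bwd (nat_lit 14) Steps.nil)))))))) (nat_lit 186) (nat_lit 1),
  Rule.mk (nat_lit 3) (nat_lit 149) (Steps.bwd (nat_lit 14) (Steps.fwd (nat_lit 106496) (Steps.fwd (nat_lit 98304) (Steps.bwd (nat_lit 9) (Steps.bwd (nat_lit 8) (Steps.fwd (nat_lit 40960) (Steps.fwd (nat_lit 32768) (Steps.bwd (nat_lit 2) (Steps.bwd (nat_lit 5) Steps.nil))))))))) (nat_lit 171) (nat_lit 0),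
  Rule.mk (nat_lit 2) (nat_lit 104) (Steps.bwd (nat_lit 7) (Steps.fwd (nat_lit 16384) (Steps.fwd (nat_lit 40960) (Steps.bwd (nat_lit 7) (Steps.fwd (nat_lit 106496) (Steps.bwd (nat_lit 14) Steps.nil)))))) (nat_lit 174) (nat_lit 1),
  Rule.mk (nat_lit 8) (nat_lit 89) (Steps.bwd (nat_lit 3) (Steps.fwd (nat_lit 32768) (Steps.bwd (nat_lit 7) (Steps.bwd (nat_lit 14) (Steps.fwd (nat_lit 24576) Steps.nil))))) (nat_lit 176) (nat_lit 2),
  Rule.mk (nat_lit 13) (nat_lit 59) (Steps.fwd (nat_lit 65536) (Steps.fwd (nat_lit 106496) (Steps.bwd (nat_lit 8) Steps.nil))) (nat_lit 116) (nat_lit 1),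
  Rule.mk (nat_lit 3) (nat_lit 104) (Steps.bwd (nat_lit 14) (Steps.fwd (nat_lit 106496) (Steps.fwd (nat_lit 57344) (Steps.fwd (nat_lit 40960) (Steps.bwd (nat_lit 2) (Steps.bwd (nat_lit 7) Steps.nil)))))) (nat_lit 175) (nat_lit 0),
  Rule.mk (nat_lit 1) (nat_lit 104) (Steps.fwd (nat_lit 90112) (Steps.fwd (nat_lit 8192) (Steps.fwd (nat_lit 114688) (Steps.fwd (nat_lit 98304) (Steps.bwd (nat_lit 11) (Steps.bwd (nat_lit 6) Steps.nil)))))) (nat_lit 161) (nat_lit 5),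
  Rule.mk (nat_lit 10) (nat_lit 134) (Steps.bwd (nat_lit 1) (Steps.bwd (nat_lit 4) (Steps.bwd (nat_lit 5) (Steps.bwd (nat_lit 8) (Steps.bwd (nat_lit 9) (Steps.bwd (nat_lit 11) (Steps.bwd (nat_lit 14) (Steps.fwd (nat_lit 8192) Steps.nil)))))))) (nat_lit 158) (nat_lit 2),
  Rule.mk (nat_lit 1) (nat_lit 134) (Steps.bwd (nat_lit 6) (Steps.fwd (nat_lit 81920) (Steps.fwd (nat_lit 90112) (Steps.bwd (nat_lit 12) (Steps.fwd (nat_lit 106496) (Steps.fwd (nat_lit 114688) (Steps.fwd (nat_lit 8192) (Steps.fwd (nat_lit 114688) Steps.nil)))))))) (nat_lit 166) (nat_lit 3),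
  Rule.mk (nat_lit 2) (nat_lit 134) (Steps.fwd (nat_lit 106496) (Steps.fwd (nat_lit 16384) (Steps.fwd (nat_lit 114688) (Steps.fwd (nat_lit 106496) (Steps.bwd (nat_lit 12) (Steps.fwd (nat_lit 90112) (Steps.bwd (nat_lit 10) (Steps.bwd (nat_lit 6) Steps.nil)))))))) (nat_lit 187) (nat_lit 7),
  Rule.mk (nat_lit 11) (nat_lit 59) (Steps.fwd (nat_lit 81920) (Steps.fwd (nat_lit 90112) (Steps.bwd (nat_lit 10) Steps.nil))) (nat_lit 90) (nat_lit 1),
  Rule.mk (nat_lit 1) (nat_lit 134) (Steps.bwd (nat_lit 10) (Steps.fwd (nat_lit 8192) (Steps.bwd (nat_lit 14) (Steps.bwd (nat_lit 11) (Steps.fwd (nat_lit 73728) (Steps.fwd (nat_lit 65536) (Steps.fwd (nat_lit 40960) (Steps.fwd (nat_lit 32768) Steps.nil)))))))) (nat_lit 159) (nat_lit 7),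
  Rule.mk (nat_lit 1) (nat_lit 89) (Steps.bwd (nat_lit 14) (Steps.bwd (nat_lit 7) (Steps.fwd (nat_lit 32768) (Steps.bwd (nat_lit 1) (Steps.fwd (nat_lit 73728) Steps.nil))))) (nat_lit 157) (nat_lit 0),
  Rule.mk (nat_lit 1) (nat_lit 104) (Steps.fwd (nat_lit 73728) (Steps.fwd (nat_lit 65536) (Steps.fwd (nat_lit 40960) (Steps.fwd (nat_lit 32768) (Steps.bwd (nat_lit 1) (Steps.fwd (nat_lit 106496) Steps.nil)))))) (nat_lit 165) (nat_lit 0),
  Rule.mk (nat_lit 1) (nat_lit 104) (Steps.bwd (nat_lit 8) (Steps.bwd (nat_lit 1) (Steps.bwd (nat_lit 14) (Steps.bwd (nat_lit 13) (Steps.bwd (nat_lit 7) (Steps.fwd (nat_lit 40960) Steps.nil)))))) (nat_lit 155) (nat_lit 5),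
  Rule.mk (nat_lit 1) (nat_lit 149) (Steps.bwd (nat_lit 6) (Steps.bwd (nat_lit 1) (Steps.bwd (nat_lit 14) (Steps.bwd (nat_lit 13) (Steps.fwd (nat_lit 98304) (Steps.fwd (nat_lit 73728) (Steps.bwd (nat_lit 8) (Steps.fwd (nat_lit 40960) (Steps.bwd (nat_lit 4) Steps.nil))))))))) (nat_lit 151) (nat_lit 8),
  Rule.mk (nat_lit 18) (nat_lit 179) (Steps.bwd (nat_lit 1) (Steps.bwd (nat_lit 3) (Steps.fwd (nat_lit 32768) (Steps.bwd (nat_lit 1) (Steps.bwd (nat_lit 2) (Steps.fwd (nat_lit 8192) (Steps.bwd (nat_lit 2) (Steps.fwd (nat_lit 8192) (Steps.fwd (nat_lit 16384) (Steps.bwd (nat_lit 1) (Steps.fwd (nat_lit 16384) Steps.nil))))))))))) (nat_lit 192) (nat_lit 1),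
  Rule.mk (nat_lit 20) (nat_lit 179) (Steps.bwd (nat_lit 1) (Steps.bwd (nat_lit 2) (Steps.fwd (nat_lit 8192) (Steps.bwd (nat_lit 2) (Steps.fwd (nat_lit 8192) (Steps.fwd (nat_lit 16384) (Steps.bwd (nat_lit 1) (Steps.fwd (nat_lit 16384) (Steps.fwd (nat_lit 8192) (Steps.bwd (nat_lit 4) (Steps.fwd (nat_lit 24576) Steps.nil))))))))))) (nat_lit 194) (nat_lit 1),
  Rule.mk (nat_lit 1) (nat_lit 89) (Steps.fwd (nat_lit 73728) (Steps.bwd (nat_lit 1) (Steps.bwd (nat_lit 4) (Steps.bwd (nat_lit 7) (Steps.bwd (nat_lit 14) Steps.nil))))) (nat_lit 156) (nat_lit 1)]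
noncomputable def R_17 : List (Rule) := [Rule.mk (nat_lit 11) (nat_lit 59) (Steps.bwd (nat_lit 12) (Steps.bwd (nat_lit 11) (Steps.fwd (nat_lit 98304) Steps.nil))) (nat_lit 106) (nat_lit 0),
  Rule.mk (nat_lit 1) (nat_lit 104) (Steps.bwd (nat_lit 5) (Steps.bwd (nat_lit 7) (Steps.fwd (nat_lit 106496) (Steps.fwd (nat_lit 114688) (Steps.fwd (nat_lit 8192) (Steps.bwd (nat_lit 8) Steps.nil)))))) (nat_lit 154) (nat_lit 3),
  Rule.mk (nat_lit 11) (nat_lit 59) (Steps.bwd (nat_lit 12) (Steps.bwd (nat_lit 11) (Steps.bwd (nat_lit 12) Steps.nil))) (nat_lit 106) (nat_lit 0),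
  Rule.mk (nat_lit 3) (nat_lit 164) (Steps.bwd (nat_lit 14) (Steps.bwd (nat_lit 12) (Steps.bwd (nat_lit 11) (Steps.fwd (nat_lit 81920) (Steps.fwd (nat_lit 73728) (Steps.bwd (nat_lit 8) (Steps.fwd (nat_lit 40960) (Steps.fwd (nat_lit 32768) (Steps.bwd (nat_lit 2) (Steps.bwd (nat_lit 11) Steps.nil)))))))))) (nat_lit 183) (nat_lit 0),
  Rule.mk (nat_lit 7) (nat_lit 89) (Steps.bwd (nat_lit 4) (Steps.bwd (nat_lit 2) (Steps.fwd (nat_lit 65536) (Steps.bwd (nat_lit 3) (Steps.bwd (nat_lit 14) Steps.nil))))) (nat_lit 177) (nat_lit 2),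
  Rule.mk (nat_lit 1) (nat_lit 104) (Steps.fwd (nat_lit 65536) (Steps.bwd (nat_lit 1) (Steps.bwd (nat_lit 5) (Steps.fwd (nat_lit 57344) (Steps.bwd (nat_lit 13) (Steps.fwd (nat_lit 114688) Steps.nil)))))) (nat_lit 154) (nat_lit 1),
  Rule.mk (nat_lit 0) (nat_lit 104) (Steps.bwd (nat_lit 14) (Steps.fwd (nat_lit 57344) (Steps.fwd (nat_lit 32768) (Steps.fwd (nat_lit 8192) (Steps.fwd (nat_lit 73728) (Steps.fwd (nat_lit 8192) Steps.nil)))))) (nat_lit 157) (nat_lit 0),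
  Rule.mk (nat_lit 2) (nat_lit 44) (Steps.bwd (nat_lit 0) (Steps.bwd (nat_lit 3) Steps.nil)) (nat_lit 196) (nat_lit 0),
  Rule.mk (nat_lit 3) (nat_lit 44) (Steps.bwd (nat_lit 0) (Steps.fwd (nat_lit 24576) Steps.nil)) (nat_lit 196) (nat_lit 0),
  Rule.mk (nat_lit 4) (nat_lit 44) (Steps.bwd (nat_lit 0) (Steps.fwd (nat_lit 32768) Steps.nil)) (nat_lit 196) (nat_lit 0),
  Rule.mk (nat_lit 0) (nat_lit 59) (Steps.fwd (nat_lit 98304) (Steps.fwd (nat_lit 0) (Steps.bwd (nat_lit 12) Steps.nil))) (nat_lit 196) (nat_lit 0),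
  Rule.mk (nat_lit 14) (nat_lit 44) (Steps.bwd (nat_lit 0) (Steps.bwd (nat_lit 14) Steps.nil)) (nat_lit 196) (nat_lit 0),
  Rule.mk (nat_lit 0) (nat_lit 59) (Steps.fwd (nat_lit 114688) (Steps.fwd (nat_lit 0) (Steps.bwd (nat_lit 14) Steps.nil))) (nat_lit 196) (nat_lit 0),
  Rule.mk (nat_lit 4) (nat_lit 44) (Steps.bwd (nat_lit 0) (Steps.bwd (nat_lit 4) Steps.nil)) (nat_lit 196) (nat_lit 0),
  Rule.mk (nat_lit 12) (nat_lit 44) (Steps.bwd (nat_lit 0) (Steps.fwd (nat_lit 98304) Steps.nil)) (nat_lit 196) (nat_lit 0),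
  Rule.mk (nat_lit 11) (nat_lit 59) (Steps.bwd (nat_lit 12) (Steps.fwd (nat_lit 90112) (Steps.fwd (nat_lit 98304) Steps.nil))) (nat_lit 106) (nat_lit 0),
  Rule.mk (nat_lit 11) (nat_lit 59) (Steps.fwd (nat_lit 57344) (Steps.bwd (nat_lit 11) (Steps.fwd (nat_lit 57344) Steps.nil))) (nat_lit 84) (nat_lit 1),
  Rule.mk (nat_lit 11) (nat_lit 164) (Steps.bwd (nat_lit 3) (Steps.fwd (nat_lit 114688) (Steps.fwd (nat_lit 98304) (Steps.fwd (nat_lit 90112) (Steps.bwd (nat_lit 10) (Steps.fwd (nat_lit 73728) (Steps.bwd (nat_lit 8) (Steps.fwd (nat_lit 40960) (Steps.fwd (nat_lit 32768) (Steps.bwd (nat_lit 2) Steps.nil)))))))))) (nat_lit 183) (nat_lit 10),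
  Rule.mk (nat_lit 1) (nat_lit 89) (Steps.fwd (nat_lit 73728) (Steps.fwd (nat_lit 8192) (Steps.bwd (nat_lit 4) (Steps.bwd (nat_lit 7) (Steps.bwd (nat_lit 14) Steps.nil))))) (nat_lit 156) (nat_lit 1),
  Rule.mk (nat_lit 2) (nat_lit 104) (Steps.bwd (nat_lit 10) (Steps.bwd (nat_lit 3) (Steps.fwd (nat_lit 49152) (Steps.bwd (nat_lit 11) (Steps.bwd (nat_lit 12) (Steps.fwd (nat_lit 114688) Steps.nil)))))) (nat_lit 180) (nat_lit 1),
  Rule.mk (nat_lit 11) (nat_lit 59) (Steps.bwd (nat_lit 13) (Steps.bwd (nat_lit 11) (Steps.fwd (nat_lit 106496) Steps.nil))) (nat_lit 122) (nat_lit 0),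
  Rule.mk (nat_lit 14) (nat_lit 149) (Steps.bwd (nat_lit 2) (Steps.fwd (nat_lit 40960) (Steps.fwd (nat_lit 16384) (Steps.fwd (nat_lit 32768) (Steps.fwd (nat_lit 40960) (Steps.fwd (nat_lit 65536) (Steps.bwd (nat_lit 9) (Steps.fwd (nat_lit 98304) (Steps.bwd (nat_lit 13) Steps.nil))))))))) (nat_lit 170) (nat_lit 0),
  Rule.mk (nat_lit 4) (nat_lit 149) (Steps.bwd (nat_lit 2) (Steps.fwd (nat_lit 40960) (Steps.fwd (nat_lit 16384) (Steps.fwd (nat_lit 114688) (Steps.fwd (nat_lit 106496) (Steps.bwd (nat_lit 12) (Steps.bwd (nat_lit 9) (Steps.fwd (nat_lit 65536) (Steps.bwd (nat_lit 5) Steps.nil))))))))) (nat_lit 171) (nat_lit 7),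
  Rule.mk (nat_lit 8) (nat_lit 59) (Steps.fwd (nat_lit 32768) (Steps.bwd (nat_lit 8) (Steps.bwd (nat_lit 4) Steps.nil))) (nat_lit 48) (nat_lit 1),
  Rule.mk (nat_lit 8) (nat_lit 59) (Steps.bwd (nat_lit 13) (Steps.bwd (nat_lit 8) (Steps.fwd (nat_lit 106496) Steps.nil))) (nat_lit 116) (nat_lit 0),
  Rule.mk (nat_lit 2) (nat_lit 89) (Steps.fwd (nat_lit 65536) (Steps.fwd (nat_lit 16384) (Steps.bwd (nat_lit 4) (Steps.fwd (nat_lit 57344) (Steps.bwd (nat_lit 14) Steps.nil))))) (nat_lit 176) (nat_lit 1),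
  Rule.mk (nat_lit 2) (nat_lit 149) (Steps.bwd (nat_lit 5) (Steps.fwd (nat_lit 16384) (Steps.fwd (nat_lit 32768) (Steps.fwd (nat_lit 40960) (Steps.fwd (nat_lit 65536) (Steps.bwd (nat_lit 9) (Steps.bwd (nat_lit 12) (Steps.fwd (nat_lit 106496) (Steps.fwd (nat_lit 114688) Steps.nil))))))))) (nat_lit 170) (nat_lit 1),
  Rule.mk (nat_lit 8) (nat_lit 89) (Steps.bwd (nat_lit 3) (Steps.fwd (nat_lit 32768) (Steps.fwd (nat_lit 57344) (Steps.bwd (nat_lit 14) (Steps.bwd (nat_lit 2) Steps.nil))))) (nat_lit 176) (nat_lit 2),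
  Rule.mk (nat_lit 7) (nat_lit 104) (Steps.bwd (nat_lit 3) (Steps.bwd (nat_lit 5) (Steps.bwd (nat_lit 7) (Steps.fwd (nat_lit 106496) (Steps.fwd (nat_lit 114688) (Steps.bwd (nat_lit 2) Steps.nil)))))) (nat_lit 174) (nat_lit 2),
  Rule.mk (nat_lit 14) (nat_lit 119) (Steps.bwd (nat_lit 3) (Steps.bwd (nat_lit 14) (Steps.bwd (nat_lit 12) (Steps.fwd (nat_lit 57344) (Steps.fwd (nat_lit 49152) (Steps.fwd (nat_lit 40960) (Steps.bwd (nat_lit 2) Steps.nil))))))) (nat_lit 189) (nat_lit 7),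
  Rule.mk (nat_lit 5) (nat_lit 149) (Steps.bwd (nat_lit 3) (Steps.fwd (nat_lit 32768) (Steps.bwd (nat_lit 5) (Steps.fwd (nat_lit 65536) (Steps.bwd (nat_lit 9) (Steps.bwd (nat_lit 12) (Steps.fwd (nat_lit 106496) (Steps.bwd (nat_lit 14) (Steps.fwd (nat_lit 24576) Steps.nil))))))))) (nat_lit 170) (nat_lit 2),
  Rule.mk (nat_lit 10) (nat_lit 59) (Steps.bwd (nat_lit 6) (Steps.bwd (nat_lit 10) (Steps.fwd (nat_lit 49152) Steps.nil))) (nat_lit 70) (nat_lit 1),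
  Rule.mk (nat_lit 1) (nat_lit 104) (Steps.fwd (nat_lit 32768) (Steps.bwd (nat_lit 5) (Steps.bwd (nat_lit 8) (Steps.bwd (nat_lit 9) (Steps.bwd (nat_lit 1) (Steps.fwd (nat_lit 106496) Steps.nil)))))) (nat_lit 164) (nat_lit 3),
  Rule.mk (nat_lit 1) (nat_lit 104) (Steps.fwd (nat_lit 65536) (Steps.bwd (nat_lit 1) (Steps.fwd (nat_lit 40960) (Steps.bwd (nat_lit 7) (Steps.fwd (nat_lit 106496) (Steps.fwd (nat_lit 114688) Steps.nil)))))) (nat_lit 154) (nat_lit 1),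
  Rule.mk (nat_lit 10) (nat_lit 59) (Steps.bwd (nat_lit 9) (Steps.fwd (nat_lit 81920) (Steps.fwd (nat_lit 73728) Steps.nil))) (nat_lit 76) (nat_lit 1),
  Rule.mk (nat_lit 1) (nat_lit 104) (Steps.bwd (nat_lit 9) (Steps.bwd (nat_lit 8) (Steps.bwd (nat_lit 5) (Steps.fwd (nat_lit 32768) (Steps.bwd (nat_lit 1) (Steps.fwd (nat_lit 106496) Steps.nil)))))) (nat_lit 165) (nat_lit 0),
  Rule.mk (nat_lit 3) (nat_lit 104) (Steps.fwd (nat_lit 114688) (Steps.fwd (nat_lit 98304) (Steps.fwd (nat_lit 90112) (Steps.bwd (nat_lit 6) (Steps.bwd (nat_lit 2) (Steps.bwd (nat_lit 10) Steps.nil)))))) (nat_lit 181) (nat_lit 0),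
  Rule.mk (nat_lit 2) (nat_lit 89) (Steps.fwd (nat_lit 65536) (Steps.bwd (nat_lit 3) (Steps.fwd (nat_lit 32768) (Steps.bwd (nat_lit 7) (Steps.bwd (nat_lit 14) Steps.nil))))) (nat_lit 176) (nat_lit 1),
  Rule.mk (nat_lit 1) (nat_lit 104) (Steps.bwd (nat_lit 13) (Steps.fwd (nat_lit 8192) (Steps.fwd (nat_lit 73728) (Steps.fwd (nat_lit 65536) (Steps.bwd (nat_lit 5) (Steps.fwd (nat_lit 32768) Steps.nil)))))) (nat_lit 165) (nat_lit 5),
  Rule.mk (nat_lit 6) (nat_lit 59) (Steps.bwd (nat_lit 12) (Steps.bwd (nat_lit 6) (Steps.bwd (nat_lit 12) Steps.nil))) (nat_lit 96) (nat_lit 0),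
  Rule.mk (nat_lit 2) (nat_lit 119) (Steps.bwd (nat_lit 14) (Steps.bwd (nat_lit 3) (Steps.fwd (nat_lit 114688) (Steps.bwd (nat_lit 12) (Steps.bwd (nat_lit 7) (Steps.bwd (nat_lit 6) (Steps.fwd (nat_lit 40960) Steps.nil))))))) (nat_lit 189) (nat_lit 6),
  Rule.mk (nat_lit 1) (nat_lit 89) (Steps.bwd (nat_lit 4) (Steps.fwd (nat_lit 57344) (Steps.fwd (nat_lit 114688) (Steps.fwd (nat_lit 8192) (Steps.bwd (nat_lit 9) Steps.nil))))) (nat_lit 156) (nat_lit 3),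
  Rule.mk (nat_lit 1) (nat_lit 89) (Steps.bwd (nat_lit 9) (Steps.fwd (nat_lit 8192) (Steps.fwd (nat_lit 114688) (Steps.bwd (nat_lit 7) (Steps.bwd (nat_lit 4) Steps.nil))))) (nat_lit 157) (nat_lit 4),
  Rule.mk (nat_lit 13) (nat_lit 104) (Steps.bwd (nat_lit 1) (Steps.bwd (nat_lit 4) (Steps.bwd (nat_lit 5) (Steps.bwd (nat_lit 8) (Steps.bwd (nat_lit 9) (Steps.bwd (nat_lit 1) Steps.nil)))))) (nat_lit 164) (nat_lit 2),
  Rule.mk (nat_lit 10) (nat_lit 59) (Steps.fwd (nat_lit 65536) (Steps.fwd (nat_lit 81920) (Steps.bwd (nat_lit 8) Steps.nil))) (nat_lit 74) (nat_lit 1),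
  Rule.mk (nat_lit 1) (nat_lit 104) (Steps.bwd (nat_lit 8) (Steps.fwd (nat_lit 8192) (Steps.fwd (nat_lit 40960) (Steps.bwd (nat_lit 7) (Steps.fwd (nat_lit 106496) (Steps.bwd (nat_lit 14) Steps.nil)))))) (nat_lit 154) (nat_lit 1),
  Rule.mk (nat_lit 10) (nat_lit 59) (Steps.bwd (nat_lit 7) (Steps.bwd (nat_lit 10) (Steps.bwd (nat_lit 7) Steps.nil))) (nat_lit 72) (nat_lit 1),
  Rule.mk (nat_lit 12) (nat_lit 119) (Steps.bwd (nat_lit 7) (Steps.fwd (nat_lit 49152) (Steps.fwd (nat_lit 40960) (Steps.bwd (nat_lit 2) (Steps.bwd (nat_lit 14) (Steps.bwd (nat_lit 3) (Steps.bwd (nat_lit 14) Steps.nil))))))) (nat_lit 189) (nat_lit 2),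
  Rule.mk (nat_lit 1) (nat_lit 134) (Steps.fwd (nat_lit 114688) (Steps.bwd (nat_lit 11) (Steps.fwd (nat_lit 73728) (Steps.fwd (nat_lit 65536) (Steps.bwd (nat_lit 5) (Steps.bwd (nat_lit 4) (Steps.bwd (nat_lit 1) (Steps.bwd (nat_lit 10) Steps.nil)))))))) (nat_lit 159) (nat_lit 0),
  Rule.mk (nat_lit 7) (nat_lit 104) (Steps.bwd (nat_lit 13) (Steps.bwd (nat_lit 14) (Steps.fwd (nat_lit 8192) (Steps.bwd (nat_lit 8) (Steps.bwd (nat_lit 1) (Steps.fwd (nat_lit 40960) Steps.nil)))))) (nat_lit 154) (nat_lit 5),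
  Rule.mk (nat_lit 5) (nat_lit 59) (Steps.fwd (nat_lit 57344) (Steps.fwd (nat_lit 40960) (Steps.bwd (nat_lit 7) Steps.nil))) (nat_lit 44) (nat_lit 0),
  Rule.mk (nat_lit 1) (nat_lit 89) (Steps.fwd (nat_lit 73728) (Steps.bwd (nat_lit 1) (Steps.fwd (nat_lit 32768) (Steps.fwd (nat_lit 57344) (Steps.bwd (nat_lit 14) Steps.nil))))) (nat_lit 156) (nat_lit 1),
  Rule.mk (nat_lit 14) (nat_lit 89) (Steps.bwd (nat_lit 1) (Steps.fwd (nat_lit 73728) (Steps.fwd (nat_lit 8192) (Steps.bwd (nat_lit 4) (Steps.bwd (nat_lit 7) Steps.nil))))) (nat_lit 156) (nat_lit 0),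
  Rule.mk (nat_lit 8) (nat_lit 104) (Steps.bwd (nat_lit 1) (Steps.bwd (nat_lit 14) (Steps.bwd (nat_lit 13) (Steps.bwd (nat_lit 7) (Steps.bwd (nat_lit 5) (Steps.bwd (nat_lit 1) Steps.nil)))))) (nat_lit 155) (nat_lit 6),
  Rule.mk (nat_lit 11) (nat_lit 104) (Steps.bwd (nat_lit 1) (Steps.bwd (nat_lit 14) (Steps.bwd (nat_lit 12) (Steps.fwd (nat_lit 90112) (Steps.fwd (nat_lit 49152) (Steps.bwd (nat_lit 1) Steps.nil)))))) (nat_lit 161) (nat_lit 6),
  Rule.mk (nat_lit 10) (nat_lit 134) (Steps.bwd (nat_lit 1) (Steps.bwd (nat_lit 14) (Steps.fwd (nat_lit 90112) (Steps.bwd (nat_lit 9) (Steps.bwd (nat_lit 8) (Steps.fwd (nat_lit 40960) (Steps.bwd (nat_lit 4) (Steps.bwd (nat_lit 1) Steps.nil)))))))) (nat_lit 159) (nat_lit 8),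
  Rule.mk (nat_lit 9) (nat_lit 59) (Steps.fwd (nat_lit 90112) (Steps.fwd (nat_lit 73728) (Steps.bwd (nat_lit 11) Steps.nil))) (nat_lit 88) (nat_lit 0),
  Rule.mk (nat_lit 4) (nat_lit 59) (Steps.bwd (nat_lit 10) (Steps.bwd (nat_lit 4) (Steps.bwd (nat_lit 10) Steps.nil))) (nat_lit 66) (nat_lit 0),
  Rule.mk (nat_lit 5) (nat_lit 59) (Steps.bwd (nat_lit 10) (Steps.bwd (nat_lit 5) (Steps.bwd (nat_lit 10) Steps.nil))) (nat_lit 68) (nat_lit 0),
  Rule.mk (nat_lit 1) (nat_lit 164) (Steps.fwd (nat_lit 98304) (Steps.bwd (nat_lit 1) (Steps.fwd (nat_lit 114688) (Steps.bwd (nat_lit 12) (Steps.bwd (nat_lit 11) (Steps.bwd (nat_lit 10) (Steps.fwd (nat_lit 73728) (Steps.bwd (nat_lit 8) (Steps.fwd (nat_lit 40960) (Steps.fwd (nat_lit 32768) Steps.nil)))))))))) (nat_lit 163) (nat_lit 9),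
  Rule.mk (nat_lit 1) (nat_lit 104) (Steps.fwd (nat_lit 106496) (Steps.fwd (nat_lit 8192) (Steps.bwd (nat_lit 4) (Steps.bwd (nat_lit 5) (Steps.fwd (nat_lit 65536) (Steps.bwd (nat_lit 9) Steps.nil)))))) (nat_lit 164) (nat_lit 1),
  Rule.mk (nat_lit 1) (nat_lit 104) (Steps.bwd (nat_lit 14) (Steps.fwd (nat_lit 106496) (Steps.bwd (nat_lit 7) (Steps.fwd (nat_lit 40960) (Steps.bwd (nat_lit 1) (Steps.bwd (nat_lit 8) Steps.nil)))))) (nat_lit 155) (nat_lit 0),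
  Rule.mk (nat_lit 1) (nat_lit 104) (Steps.bwd (nat_lit 13) (Steps.bwd (nat_lit 1) (Steps.fwd (nat_lit 32768) (Steps.fwd (nat_lit 40960) (Steps.fwd (nat_lit 65536) (Steps.bwd (nat_lit 9) Steps.nil)))))) (nat_lit 164) (nat_lit 1),
  Rule.mk (nat_lit 1) (nat_lit 104) (Steps.fwd (nat_lit 65536) (Steps.bwd (nat_lit 1) (Steps.bwd (nat_lit 5) (Steps.bwd (nat_lit 7) (Steps.fwd (nat_lit 106496) (Steps.fwd (nat_lit 114688) Steps.nil)))))) (nat_lit 154) (nat_lit 1)]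
noncomputable def R_18 : List (Rule) := [Rule.mk (nat_lit 18) (nat_lit 179) (Steps.bwd (nat_lit 1) (Steps.bwd (nat_lit 3) (Steps.bwd (nat_lit 4) (Steps.fwd (nat_lit 8192) (Steps.bwd (nat_lit 2) (Steps.bwd (nat_lit 1) (Steps.fwd (nat_lit 24576) (Steps.fwd (nat_lit 8192) (Steps.bwd (nat_lit 3) (Steps.fwd (nat_lit 8192) (Steps.fwd (nat_lit 16384) Steps.nil))))))))))) (nat_lit 192) (nat_lit 1),
  Rule.mk (nat_lit 20) (nat_lit 179) (Steps.fwd (nat_lit 8192) (Steps.bwd (nat_lit 2) (Steps.bwd (nat_lit 1) (Steps.fwd (nat_lit 24576) (Steps.fwd (nat_lit 8192) (Steps.bwd (nat_lit 3) (Steps.fwd (nat_lit 8192) (Steps.fwd (nat_lit 16384) (Steps.fwd (nat_lit 8192) (Steps.fwd (nat_lit 32768) (Steps.fwd (nat_lit 24576) Steps.nil))))))))))) (nat_lit 194) (nat_lit 1),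
  Rule.mk (nat_lit 15) (nat_lit 179) (Steps.fwd (nat_lit 16384) (Steps.bwd (nat_lit 1) (Steps.bwd (nat_lit 4) (Steps.bwd (nat_lit 3) (Steps.bwd (nat_lit 1) (Steps.fwd (nat_lit 24576) (Steps.bwd (nat_lit 1) (Steps.fwd (nat_lit 24576) (Steps.fwd (nat_lit 8192) (Steps.fwd (nat_lit 24576) (Steps.fwd (nat_lit 8192) Steps.nil))))))))))) (nat_lit 191) (nat_lit 0),
  Rule.mk (nat_lit 20) (nat_lit 179) (Steps.fwd (nat_lit 8192) (Steps.bwd (nat_lit 2) (Steps.fwd (nat_lit 8192) (Steps.fwd (nat_lit 24576) (Steps.fwd (nat_lit 8192) (Steps.bwd (nat_lit 3) (Steps.bwd (nat_lit 1) (Steps.fwd (nat_lit 16384) (Steps.bwd (nat_lit 1) (Steps.fwd (nat_lit 32768) (Steps.fwd (nat_lit 24576) Steps.nil))))))))))) (nat_lit 194) (nat_lit 1),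
  Rule.mk (nat_lit 3) (nat_lit 104) (Steps.bwd (nat_lit 14) (Steps.bwd (nat_lit 13) (Steps.fwd (nat_lit 57344) (Steps.fwd (nat_lit 40960) (Steps.bwd (nat_lit 2) (Steps.bwd (nat_lit 7) Steps.nil)))))) (nat_lit 175) (nat_lit 0),
  Rule.mk (nat_lit 9) (nat_lit 134) (Steps.bwd (nat_lit 11) (Steps.bwd (nat_lit 14) (Steps.fwd (nat_lit 8192) (Steps.fwd (nat_lit 81920) (Steps.bwd (nat_lit 1) (Steps.fwd (nat_lit 32768) (Steps.fwd (nat_lit 40960) (Steps.fwd (nat_lit 65536) Steps.nil)))))))) (nat_lit 158) (nat_lit 7),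
  Rule.mk (nat_lit 3) (nat_lit 134) (Steps.fwd (nat_lit 114688) (Steps.bwd (nat_lit 11) (Steps.fwd (nat_lit 73728) (Steps.fwd (nat_lit 65536) (Steps.fwd (nat_lit 40960) (Steps.fwd (nat_lit 32768) (Steps.bwd (nat_lit 2) (Steps.bwd (nat_lit 9) Steps.nil)))))))) (nat_lit 179) (nat_lit 0),
  Rule.mk (nat_lit 10) (nat_lit 59) (Steps.bwd (nat_lit 13) (Steps.bwd (nat_lit 10) (Steps.bwd (nat_lit 13) Steps.nil))) (nat_lit 120) (nat_lit 0),
  Rule.mk (nat_lit 1) (nat_lit 104) (Steps.bwd (nat_lit 8) (Steps.bwd (nat_lit 1) (Steps.fwd (nat_lit 40960) (Steps.fwd (nat_lit 57344) (Steps.bwd (nat_lit 13) (Steps.bwd (nat_lit 14) Steps.nil)))))) (nat_lit 154) (nat_lit 1),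
  Rule.mk (nat_lit 9) (nat_lit 89) (Steps.bwd (nat_lit 1) (Steps.bwd (nat_lit 4) (Steps.fwd (nat_lit 57344) (Steps.bwd (nat_lit 14) (Steps.fwd (nat_lit 8192) Steps.nil))))) (nat_lit 156) (nat_lit 2),
  Rule.mk (nat_lit 8) (nat_lit 104) (Steps.bwd (nat_lit 1) (Steps.bwd (nat_lit 14) (Steps.bwd (nat_lit 13) (Steps.fwd (nat_lit 57344) (Steps.bwd (nat_lit 5) (Steps.fwd (nat_lit 8192) Steps.nil)))))) (nat_lit 155) (nat_lit 6),
  Rule.mk (nat_lit 1) (nat_lit 104) (Steps.fwd (nat_lit 114688) (Steps.bwd (nat_lit 13) (Steps.fwd (nat_lit 57344) (Steps.bwd (nat_lit 5) (Steps.bwd (nat_lit 1) (Steps.bwd (nat_lit 8) Steps.nil)))))) (nat_lit 155) (nat_lit 0),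
  Rule.mk (nat_lit 4) (nat_lit 104) (Steps.bwd (nat_lit 1) (Steps.fwd (nat_lit 106496) (Steps.bwd (nat_lit 1) (Steps.fwd (nat_lit 73728) (Steps.fwd (nat_lit 65536) (Steps.fwd (nat_lit 40960) Steps.nil)))))) (nat_lit 165) (nat_lit 4),
  Rule.mk (nat_lit 7) (nat_lit 104) (Steps.bwd (nat_lit 3) (Steps.fwd (nat_lit 40960) (Steps.bwd (nat_lit 7) (Steps.fwd (nat_lit 106496) (Steps.bwd (nat_lit 14) (Steps.fwd (nat_lit 24576) Steps.nil)))))) (nat_lit 174) (nat_lit 2),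
  Rule.mk (nat_lit 1) (nat_lit 149) (Steps.bwd (nat_lit 6) (Steps.fwd (nat_lit 8192) (Steps.fwd (nat_lit 114688) (Steps.fwd (nat_lit 106496) (Steps.fwd (nat_lit 98304) (Steps.bwd (nat_lit 9) (Steps.fwd (nat_lit 65536) (Steps.bwd (nat_lit 5) (Steps.fwd (nat_lit 32768) Steps.nil))))))))) (nat_lit 151) (nat_lit 8),
  Rule.mk (nat_lit 2) (nat_lit 119) (Steps.bwd (nat_lit 14) (Steps.bwd (nat_lit 3) (Steps.fwd (nat_lit 40960) (Steps.fwd (nat_lit 49152) (Steps.bwd (nat_lit 7) (Steps.fwd (nat_lit 98304) (Steps.bwd (nat_lit 14) Steps.nil))))))) (nat_lit 188) (nat_lit 1),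
  Rule.mk (nat_lit 1) (nat_lit 104) (Steps.bwd (nat_lit 6) (Steps.fwd (nat_lit 90112) (Steps.bwd (nat_lit 12) (Steps.bwd (nat_lit 14) (Steps.bwd (nat_lit 1) (Steps.fwd (nat_lit 90112) Steps.nil)))))) (nat_lit 160) (nat_lit 3),
  Rule.mk (nat_lit 3) (nat_lit 104) (Steps.bwd (nat_lit 6) (Steps.fwd (nat_lit 90112) (Steps.bwd (nat_lit 12) (Steps.bwd (nat_lit 14) (Steps.fwd (nat_lit 24576) (Steps.fwd (nat_lit 81920) Steps.nil)))))) (nat_lit 180) (nat_lit 3),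
  Rule.mk (nat_lit 13) (nat_lit 59) (Steps.bwd (nat_lit 11) (Steps.fwd (nat_lit 106496) (Steps.bwd (nat_lit 11) Steps.nil))) (nat_lit 122) (nat_lit 1),
  Rule.mk (nat_lit 1) (nat_lit 104) (Steps.bwd (nat_lit 11) (Steps.bwd (nat_lit 1) (Steps.fwd (nat_lit 114688) (Steps.fwd (nat_lit 98304) (Steps.bwd (nat_lit 11) (Steps.fwd (nat_lit 49152) Steps.nil)))))) (nat_lit 161) (nat_lit 5),
  Rule.mk (nat_lit 9) (nat_lit 104) (Steps.bwd (nat_lit 1) (Steps.fwd (nat_lit 106496) (Steps.bwd (nat_lit 1) (Steps.fwd (nat_lit 32768) (Steps.bwd (nat_lit 5) (Steps.fwd (nat_lit 65536) Steps.nil)))))) (nat_lit 164) (nat_lit 0),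
  Rule.mk (nat_lit 10) (nat_lit 134) (Steps.bwd (nat_lit 1) (Steps.bwd (nat_lit 14) (Steps.bwd (nat_lit 11) (Steps.fwd (nat_lit 73728) (Steps.bwd (nat_lit 8) (Steps.bwd (nat_lit 5) (Steps.bwd (nat_lit 4) (Steps.bwd (nat_lit 1) Steps.nil)))))))) (nat_lit 159) (nat_lit 8),
  Rule.mk (nat_lit 2) (nat_lit 104) (Steps.fwd (nat_lit 98304) (Steps.bwd (nat_lit 3) (Steps.fwd (nat_lit 32768) (Steps.bwd (nat_lit 5) (Steps.fwd (nat_lit 65536) (Steps.bwd (nat_lit 9) Steps.nil)))))) (nat_lit 184) (nat_lit 1),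
  Rule.mk (nat_lit 12) (nat_lit 104) (Steps.bwd (nat_lit 3) (Steps.fwd (nat_lit 73728) (Steps.bwd (nat_lit 8) (Steps.fwd (nat_lit 40960) (Steps.bwd (nat_lit 4) (Steps.bwd (nat_lit 2) Steps.nil)))))) (nat_lit 185) (nat_lit 6),
  Rule.mk (nat_lit 5) (nat_lit 59) (Steps.bwd (nat_lit 10) (Steps.bwd (nat_lit 5) (Steps.fwd (nat_lit 81920) Steps.nil))) (nat_lit 68) (nat_lit 0),
  Rule.mk (nat_lit 6) (nat_lit 149) (Steps.bwd (nat_lit 1) (Steps.bwd (nat_lit 14) (Steps.bwd (nat_lit 13) (Steps.bwd (nat_lit 12) (Steps.bwd (nat_lit 9) (Steps.fwd (nat_lit 65536) (Steps.bwd (nat_lit 5) (Steps.fwd (nat_lit 32768) (Steps.bwd (nat_lit 1) Steps.nil))))))))) (nat_lit 151) (nat_lit 9),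
  Rule.mk (nat_lit 10) (nat_lit 59) (Steps.fwd (nat_lit 49152) (Steps.bwd (nat_lit 10) (Steps.bwd (nat_lit 6) Steps.nil))) (nat_lit 70) (nat_lit 1),
  Rule.mk (nat_lit 13) (nat_lit 59) (Steps.fwd (nat_lit 49152) (Steps.bwd (nat_lit 13) (Steps.bwd (nat_lit 6) Steps.nil))) (nat_lit 112) (nat_lit 1),
  Rule.mk (nat_lit 8) (nat_lit 104) (Steps.bwd (nat_lit 1) (Steps.bwd (nat_lit 5) (Steps.fwd (nat_lit 57344) (Steps.fwd (nat_lit 106496) (Steps.fwd (nat_lit 114688) (Steps.fwd (nat_lit 8192) Steps.nil)))))) (nat_lit 154) (nat_lit 2),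
  Rule.mk (nat_lit 14) (nat_lit 104) (Steps.bwd (nat_lit 1) (Steps.fwd (nat_lit 65536) (Steps.bwd (nat_lit 1) (Steps.fwd (nat_lit 40960) (Steps.fwd (nat_lit 57344) (Steps.bwd (nat_lit 13) Steps.nil)))))) (nat_lit 154) (nat_lit 0),
  Rule.mk (nat_lit 5) (nat_lit 104) (Steps.bwd (nat_lit 1) (Steps.fwd (nat_lit 65536) (Steps.bwd (nat_lit 1) (Steps.bwd (nat_lit 14) (Steps.bwd (nat_lit 13) (Steps.bwd (nat_lit 7) Steps.nil)))))) (nat_lit 155) (nat_lit 4),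
  Rule.mk (nat_lit 1) (nat_lit 59) (Steps.fwd (nat_lit 32768) (Steps.fwd (nat_lit 8192) (Steps.fwd (nat_lit 40960) Steps.nil))) (nat_lit 146) (nat_lit 1),
  Rule.mk (nat_lit 4) (nat_lit 59) (Steps.fwd (nat_lit 40960) (Steps.bwd (nat_lit 4) (Steps.bwd (nat_lit 5) Steps.nil))) (nat_lit 36) (nat_lit 0),
  Rule.mk (nat_lit 7) (nat_lit 59) (Steps.fwd (nat_lit 73728) (Steps.bwd (nat_lit 7) (Steps.bwd (nat_lit 9) Steps.nil))) (nat_lit 62) (nat_lit 0),
  Rule.mk (nat_lit 10) (nat_lit 59) (Steps.bwd (nat_lit 9) (Steps.fwd (nat_lit 81920) (Steps.bwd (nat_lit 9) Steps.nil))) (nat_lit 76) (nat_lit 1),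
  Rule.mk (nat_lit 2) (nat_lit 104) (Steps.bwd (nat_lit 7) (Steps.fwd (nat_lit 16384) (Steps.bwd (nat_lit 5) (Steps.fwd (nat_lit 57344) (Steps.bwd (nat_lit 13) (Steps.bwd (nat_lit 14) Steps.nil)))))) (nat_lit 174) (nat_lit 1),
  Rule.mk (nat_lit 11) (nat_lit 59) (Steps.bwd (nat_lit 4) (Steps.bwd (nat_lit 11) (Steps.bwd (nat_lit 4) Steps.nil))) (nat_lit 78) (nat_lit 1),
  Rule.mk (nat_lit 3) (nat_lit 59) (Steps.fwd (nat_lit 32768) (Steps.bwd (nat_lit 2) (Steps.bwd (nat_lit 4) Steps.nil))) (nat_lit 168) (nat_lit 3),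
  Rule.mk (nat_lit 8) (nat_lit 89) (Steps.bwd (nat_lit 3) (Steps.bwd (nat_lit 14) (Steps.bwd (nat_lit 7) (Steps.bwd (nat_lit 4) (Steps.bwd (nat_lit 2) Steps.nil))))) (nat_lit 177) (nat_lit 5),
  Rule.mk (nat_lit 12) (nat_lit 104) (Steps.bwd (nat_lit 3) (Steps.fwd (nat_lit 32768) (Steps.bwd (nat_lit 5) (Steps.fwd (nat_lit 65536) (Steps.fwd (nat_lit 73728) (Steps.fwd (nat_lit 24576) Steps.nil)))))) (nat_lit 184) (nat_lit 2),
  Rule.mk (nat_lit 14) (nat_lit 89) (Steps.bwd (nat_lit 2) (Steps.fwd (nat_lit 65536) (Steps.fwd (nat_lit 16384) (Steps.fwd (nat_lit 32768) (Steps.fwd (nat_lit 57344) Steps.nil))))) (nat_lit 176) (nat_lit 0),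
  Rule.mk (nat_lit 9) (nat_lit 104) (Steps.bwd (nat_lit 2) (Steps.fwd (nat_lit 98304) (Steps.bwd (nat_lit 3) (Steps.fwd (nat_lit 32768) (Steps.fwd (nat_lit 40960) (Steps.fwd (nat_lit 65536) Steps.nil)))))) (nat_lit 184) (nat_lit 0),
  Rule.mk (nat_lit 8) (nat_lit 59) (Steps.fwd (nat_lit 73728) (Steps.fwd (nat_lit 65536) (Steps.bwd (nat_lit 9) Steps.nil))) (nat_lit 64) (nat_lit 0),
  Rule.mk (nat_lit 11) (nat_lit 59) (Steps.fwd (nat_lit 73728) (Steps.bwd (nat_lit 11) (Steps.bwd (nat_lit 9) Steps.nil))) (nat_lit 88) (nat_lit 1),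
  Rule.mk (nat_lit 7) (nat_lit 104) (Steps.bwd (nat_lit 3) (Steps.bwd (nat_lit 5) (Steps.fwd (nat_lit 57344) (Steps.fwd (nat_lit 106496) (Steps.fwd (nat_lit 114688) (Steps.fwd (nat_lit 24576) Steps.nil)))))) (nat_lit 174) (nat_lit 2),
  Rule.mk (nat_lit 5) (nat_lit 149) (Steps.bwd (nat_lit 3) (Steps.fwd (nat_lit 32768) (Steps.bwd (nat_lit 5) (Steps.fwd (nat_lit 65536) (Steps.bwd (nat_lit 9) (Steps.fwd (nat_lit 98304) (Steps.fwd (nat_lit 106496) (Steps.fwd (nat_lit 114688) (Steps.bwd (nat_lit 2) Steps.nil))))))))) (nat_lit 170) (nat_lit 2),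
  Rule.mk (nat_lit 5) (nat_lit 59) (Steps.bwd (nat_lit 11) (Steps.fwd (nat_lit 40960) (Steps.fwd (nat_lit 90112) Steps.nil))) (nat_lit 80) (nat_lit 0),
  Rule.mk (nat_lit 7) (nat_lit 59) (Steps.bwd (nat_lit 11) (Steps.bwd (nat_lit 7) (Steps.fwd (nat_lit 90112) Steps.nil))) (nat_lit 84) (nat_lit 0),
  Rule.mk (nat_lit 8) (nat_lit 59) (Steps.bwd (nat_lit 11) (Steps.fwd (nat_lit 65536) (Steps.fwd (nat_lit 90112) Steps.nil))) (nat_lit 86) (nat_lit 0),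
  Rule.mk (nat_lit 12) (nat_lit 59) (Steps.bwd (nat_lit 11) (Steps.fwd (nat_lit 98304) (Steps.bwd (nat_lit 11) Steps.nil))) (nat_lit 106) (nat_lit 1),
  Rule.mk (nat_lit 3) (nat_lit 119) (Steps.fwd (nat_lit 40960) (Steps.fwd (nat_lit 49152) (Steps.fwd (nat_lit 57344) (Steps.fwd (nat_lit 98304) (Steps.bwd (nat_lit 14) (Steps.fwd (nat_lit 24576) (Steps.bwd (nat_lit 14) Steps.nil))))))) (nat_lit 188) (nat_lit 3),
  Rule.mk (nat_lit 1) (nat_lit 89) (Steps.bwd (nat_lit 4) (Steps.fwd (nat_lit 57344) (Steps.bwd (nat_lit 14) (Steps.bwd (nat_lit 1) (Steps.bwd (nat_lit 9) Steps.nil))))) (nat_lit 156) (nat_lit 3),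
  Rule.mk (nat_lit 13) (nat_lit 104) (Steps.bwd (nat_lit 1) (Steps.fwd (nat_lit 73728) (Steps.bwd (nat_lit 8) (Steps.fwd (nat_lit 40960) (Steps.bwd (nat_lit 4) (Steps.fwd (nat_lit 8192) Steps.nil)))))) (nat_lit 165) (nat_lit 6),
  Rule.mk (nat_lit 12) (nat_lit 59) (Steps.fwd (nat_lit 106496) (Steps.fwd (nat_lit 98304) (Steps.bwd (nat_lit 13) Steps.nil))) (nat_lit 124) (nat_lit 0),
  Rule.mk (nat_lit 13) (nat_lit 134) (Steps.bwd (nat_lit 3) (Steps.fwd (nat_lit 114688) (Steps.fwd (nat_lit 106496) (Steps.bwd (nat_lit 12) (Steps.bwd (nat_lit 11) (Steps.bwd (nat_lit 10) (Steps.bwd (nat_lit 6) (Steps.bwd (nat_lit 2) Steps.nil)))))))) (nat_lit 187) (nat_lit 8),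
  Rule.mk (nat_lit 11) (nat_lit 59) (Steps.fwd (nat_lit 106496) (Steps.bwd (nat_lit 11) (Steps.bwd (nat_lit 13) Steps.nil))) (nat_lit 122) (nat_lit 0),
  Rule.mk (nat_lit 1) (nat_lit 104) (Steps.bwd (nat_lit 4) (Steps.bwd (nat_lit 5) (Steps.fwd (nat_lit 65536) (Steps.bwd (nat_lit 9) (Steps.bwd (nat_lit 1) (Steps.bwd (nat_lit 13) Steps.nil)))))) (nat_lit 164) (nat_lit 3),
  Rule.mk (nat_lit 14) (nat_lit 104) (Steps.bwd (nat_lit 2) (Steps.bwd (nat_lit 7) (Steps.bwd (nat_lit 3) (Steps.bwd (nat_lit 5) (Steps.bwd (nat_lit 7) (Steps.bwd (nat_lit 13) Steps.nil)))))) (nat_lit 174) (nat_lit 0),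
  Rule.mk (nat_lit 3) (nat_lit 104) (Steps.bwd (nat_lit 5) (Steps.fwd (nat_lit 57344) (Steps.fwd (nat_lit 106496) (Steps.fwd (nat_lit 114688) (Steps.fwd (nat_lit 24576) (Steps.bwd (nat_lit 7) Steps.nil)))))) (nat_lit 174) (nat_lit 3),
  Rule.mk (nat_lit 2) (nat_lit 104) (Steps.bwd (nat_lit 7) (Steps.bwd (nat_lit 3) (Steps.bwd (nat_lit 14) (Steps.bwd (nat_lit 13) (Steps.bwd (nat_lit 7) (Steps.bwd (nat_lit 5) Steps.nil)))))) (nat_lit 175) (nat_lit 5),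
  Rule.mk (nat_lit 3) (nat_lit 104) (Steps.bwd (nat_lit 5) (Steps.fwd (nat_lit 57344) (Steps.fwd (nat_lit 106496) (Steps.bwd (nat_lit 14) (Steps.fwd (nat_lit 24576) (Steps.bwd (nat_lit 7) Steps.nil)))))) (nat_lit 174) (nat_lit 3),
  Rule.mk (nat_lit 1) (nat_lit 104) (Steps.bwd (nat_lit 14) (Steps.fwd (nat_lit 106496) (Steps.fwd (nat_lit 57344) (Steps.fwd (nat_lit 40960) (Steps.fwd (nat_lit 8192) (Steps.fwd (nat_lit 65536) Steps.nil)))))) (nat_lit 155) (nat_lit 0),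
  Rule.mk (nat_lit 8) (nat_lit 104) (Steps.fwd (nat_lit 8192) (Steps.bwd (nat_lit 5) (Steps.bwd (nat_lit 7) (Steps.bwd (nat_lit 13) (Steps.fwd (nat_lit 114688) (Steps.bwd (nat_lit 1) Steps.nil)))))) (nat_lit 154) (nat_lit 2),
  Rule.mk (nat_lit 2) (nat_lit 104) (Steps.fwd (nat_lit 57344) (Steps.bwd (nat_lit 3) (Steps.bwd (nat_lit 14) (Steps.bwd (nat_lit 13) (Steps.fwd (nat_lit 57344) (Steps.bwd (nat_lit 5) Steps.nil)))))) (nat_lit 175) (nat_lit 5)]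
noncomputable def R_19 : List (Rule) := [Rule.mk (nat_lit 1) (nat_lit 89) (Steps.bwd (nat_lit 14) (Steps.bwd (nat_lit 7) (Steps.bwd (nat_lit 4) (Steps.bwd (nat_lit 1) (Steps.fwd (nat_lit 73728) Steps.nil))))) (nat_lit 157) (nat_lit 0),
  Rule.mk (nat_lit 12) (nat_lit 59) (Steps.bwd (nat_lit 6) (Steps.fwd (nat_lit 98304) (Steps.fwd (nat_lit 49152) Steps.nil))) (nat_lit 96) (nat_lit 1),
  Rule.mk (nat_lit 1) (nat_lit 104) (Steps.bwd (nat_lit 4) (Steps.fwd (nat_lit 40960) (Steps.fwd (nat_lit 65536) (Steps.bwd (nat_lit 9) (Steps.bwd (nat_lit 1) (Steps.bwd (nat_lit 13) Steps.nil)))))) (nat_lit 164) (nat_lit 3),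
  Rule.mk (nat_lit 3) (nat_lit 104) (Steps.bwd (nat_lit 4) (Steps.bwd (nat_lit 5) (Steps.bwd (nat_lit 8) (Steps.fwd (nat_lit 73728) (Steps.bwd (nat_lit 2) (Steps.bwd (nat_lit 12) Steps.nil)))))) (nat_lit 184) (nat_lit 3),
  Rule.mk (nat_lit 13) (nat_lit 104) (Steps.bwd (nat_lit 1) (Steps.fwd (nat_lit 32768) (Steps.fwd (nat_lit 40960) (Steps.bwd (nat_lit 8) (Steps.fwd (nat_lit 73728) (Steps.bwd (nat_lit 1) Steps.nil)))))) (nat_lit 164) (nat_lit 2),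
  Rule.mk (nat_lit 6) (nat_lit 149) (Steps.bwd (nat_lit 1) (Steps.fwd (nat_lit 32768) (Steps.fwd (nat_lit 40960) (Steps.bwd (nat_lit 8) (Steps.fwd (nat_lit 73728) (Steps.fwd (nat_lit 98304) (Steps.fwd (nat_lit 106496) (Steps.bwd (nat_lit 14) (Steps.bwd (nat_lit 1) Steps.nil))))))))) (nat_lit 150) (nat_lit 2),
  Rule.mk (nat_lit 12) (nat_lit 104) (Steps.bwd (nat_lit 11) (Steps.fwd (nat_lit 49152) (Steps.fwd (nat_lit 8192) (Steps.bwd (nat_lit 11) (Steps.fwd (nat_lit 8192) (Steps.bwd (nat_lit 14) Steps.nil)))))) (nat_lit 161) (nat_lit 2),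
  Rule.mk (nat_lit 3) (nat_lit 149) (Steps.bwd (nat_lit 14) (Steps.fwd (nat_lit 106496) (Steps.bwd (nat_lit 12) (Steps.fwd (nat_lit 73728) (Steps.bwd (nat_lit 8) (Steps.fwd (nat_lit 40960) (Steps.fwd (nat_lit 32768) (Steps.fwd (nat_lit 24576) (Steps.fwd (nat_lit 40960) Steps.nil))))))))) (nat_lit 171) (nat_lit 0),
  Rule.mk (nat_lit 1) (nat_lit 104) (Steps.fwd (nat_lit 73728) (Steps.fwd (nat_lit 65536) (Steps.bwd (nat_lit 5) (Steps.bwd (nat_lit 4) (Steps.fwd (nat_lit 8192) (Steps.bwd (nat_lit 13) Steps.nil)))))) (nat_lit 165) (nat_lit 0),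
  Rule.mk (nat_lit 2) (nat_lit 89) (Steps.bwd (nat_lit 8) (Steps.bwd (nat_lit 3) (Steps.bwd (nat_lit 4) (Steps.fwd (nat_lit 57344) (Steps.bwd (nat_lit 14) Steps.nil))))) (nat_lit 176) (nat_lit 1),
  Rule.mk (nat_lit 2) (nat_lit 149) (Steps.bwd (nat_lit 5) (Steps.fwd (nat_lit 16384) (Steps.bwd (nat_lit 4) (Steps.bwd (nat_lit 5) (Steps.bwd (nat_lit 8) (Steps.bwd (nat_lit 9) (Steps.bwd (nat_lit 12) (Steps.bwd (nat_lit 13) (Steps.bwd (nat_lit 14) Steps.nil))))))))) (nat_lit 170) (nat_lit 1),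
  Rule.mk (nat_lit 2) (nat_lit 119) (Steps.bwd (nat_lit 14) (Steps.fwd (nat_lit 16384) (Steps.bwd (nat_lit 5) (Steps.bwd (nat_lit 6) (Steps.fwd (nat_lit 57344) (Steps.bwd (nat_lit 12) (Steps.bwd (nat_lit 14) Steps.nil))))))) (nat_lit 188) (nat_lit 1),
  Rule.mk (nat_lit 9) (nat_lit 59) (Steps.bwd (nat_lit 10) (Steps.bwd (nat_lit 9) (Steps.bwd (nat_lit 10) Steps.nil))) (nat_lit 76) (nat_lit 0),
  Rule.mk (nat_lit 3) (nat_lit 149) (Steps.bwd (nat_lit 4) (Steps.fwd (nat_lit 40960) (Steps.bwd (nat_lit 8) (Steps.fwd (nat_lit 73728) (Steps.fwd (nat_lit 98304) (Steps.bwd (nat_lit 13) (Steps.fwd (nat_lit 114688) (Steps.fwd (nat_lit 24576) (Steps.bwd (nat_lit 5) Steps.nil))))))))) (nat_lit 170) (nat_lit 3),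
  Rule.mk (nat_lit 5) (nat_lit 59) (Steps.bwd (nat_lit 11) (Steps.bwd (nat_lit 5) (Steps.bwd (nat_lit 11) Steps.nil))) (nat_lit 80) (nat_lit 0),
  Rule.mk (nat_lit 6) (nat_lit 59) (Steps.bwd (nat_lit 11) (Steps.fwd (nat_lit 49152) (Steps.fwd (nat_lit 90112) Steps.nil))) (nat_lit 82) (nat_lit 0),
  Rule.mk (nat_lit 7) (nat_lit 59) (Steps.bwd (nat_lit 11) (Steps.bwd (nat_lit 7) (Steps.bwd (nat_lit 11) Steps.nil))) (nat_lit 84) (nat_lit 0),
  Rule.mk (nat_lit 2) (nat_lit 164) (Steps.bwd (nat_lit 11) (Steps.fwd (nat_lit 16384) (Steps.bwd (nat_lit 14) (Steps.fwd (nat_lit 98304) (Steps.fwd (nat_lit 90112) (Steps.bwd (nat_lit 10) (Steps.fwd (nat_lit 73728) (Steps.bwd (nat_lit 8) (Steps.bwd (nat_lit 5) (Steps.bwd (nat_lit 4) Steps.nil)))))))))) (nat_lit 183) (nat_lit 9),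
  Rule.mk (nat_lit 4) (nat_lit 59) (Steps.bwd (nat_lit 10) (Steps.fwd (nat_lit 32768) (Steps.fwd (nat_lit 81920) Steps.nil))) (nat_lit 66) (nat_lit 0),
  Rule.mk (nat_lit 11) (nat_lit 59) (Steps.bwd (nat_lit 10) (Steps.bwd (nat_lit 11) (Steps.bwd (nat_lit 10) Steps.nil))) (nat_lit 90) (nat_lit 1),
  Rule.mk (nat_lit 6) (nat_lit 104) (Steps.bwd (nat_lit 1) (Steps.bwd (nat_lit 11) (Steps.fwd (nat_lit 8192) (Steps.bwd (nat_lit 14) (Steps.bwd (nat_lit 12) (Steps.bwd (nat_lit 11) Steps.nil)))))) (nat_lit 161) (nat_lit 4),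
  Rule.mk (nat_lit 10) (nat_lit 134) (Steps.bwd (nat_lit 1) (Steps.fwd (nat_lit 114688) (Steps.bwd (nat_lit 11) (Steps.bwd (nat_lit 9) (Steps.bwd (nat_lit 8) (Steps.fwd (nat_lit 40960) (Steps.fwd (nat_lit 32768) (Steps.bwd (nat_lit 1) Steps.nil)))))))) (nat_lit 159) (nat_lit 8),
  Rule.mk (nat_lit 12) (nat_lit 59) (Steps.fwd (nat_lit 32768) (Steps.fwd (nat_lit 98304) (Steps.bwd (nat_lit 4) Steps.nil))) (nat_lit 92) (nat_lit 1),
  Rule.mk (nat_lit 13) (nat_lit 104) (Steps.bwd (nat_lit 1) (Steps.bwd (nat_lit 9) (Steps.fwd (nat_lit 65536) (Steps.bwd (nat_lit 5) (Steps.fwd (nat_lit 32768) (Steps.bwd (nat_lit 1) Steps.nil)))))) (nat_lit 165) (nat_lit 6),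
  Rule.mk (nat_lit 14) (nat_lit 104) (Steps.bwd (nat_lit 2) (Steps.bwd (nat_lit 7) (Steps.bwd (nat_lit 3) (Steps.fwd (nat_lit 40960) (Steps.bwd (nat_lit 7) (Steps.bwd (nat_lit 13) Steps.nil)))))) (nat_lit 174) (nat_lit 0),
  Rule.mk (nat_lit 1) (nat_lit 104) (Steps.bwd (nat_lit 8) (Steps.bwd (nat_lit 1) (Steps.fwd (nat_lit 40960) (Steps.bwd (nat_lit 7) (Steps.bwd (nat_lit 13) (Steps.bwd (nat_lit 14) Steps.nil)))))) (nat_lit 154) (nat_lit 1),
  Rule.mk (nat_lit 15) (nat_lit 179) (Steps.bwd (nat_lit 3) (Steps.bwd (nat_lit 1) (Steps.fwd (nat_lit 32768) (Steps.fwd (nat_lit 16384) (Steps.fwd (nat_lit 8192) (Steps.bwd (nat_lit 2) (Steps.bwd (nat_lit 1) (Steps.fwd (nat_lit 24576) (Steps.fwd (nat_lit 8192) (Steps.bwd (nat_lit 2) (Steps.bwd (nat_lit 1) Steps.nil))))))))))) (nat_lit 191) (nat_lit 0),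
  Rule.mk (nat_lit 20) (nat_lit 179) (Steps.bwd (nat_lit 1) (Steps.fwd (nat_lit 24576) (Steps.fwd (nat_lit 8192) (Steps.bwd (nat_lit 2) (Steps.bwd (nat_lit 1) (Steps.fwd (nat_lit 16384) (Steps.bwd (nat_lit 1) (Steps.fwd (nat_lit 16384) (Steps.fwd (nat_lit 8192) (Steps.bwd (nat_lit 4) (Steps.fwd (nat_lit 24576) Steps.nil))))))))))) (nat_lit 194) (nat_lit 1),
  Rule.mk (nat_lit 19) (nat_lit 179) (Steps.bwd (nat_lit 3) (Steps.fwd (nat_lit 32768) (Steps.bwd (nat_lit 1) (Steps.fwd (nat_lit 24576) (Steps.fwd (nat_lit 8192) (Steps.bwd (nat_lit 2) (Steps.bwd (nat_lit 1) (Steps.fwd (nat_lit 16384) (Steps.bwd (nat_lit 1) (Steps.fwd (nat_lit 16384) (Steps.fwd (nat_lit 8192) Steps.nil))))))))))) (nat_lit 195) (nat_lit 0),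
  Rule.mk (nat_lit 14) (nat_lit 104) (Steps.bwd (nat_lit 12) (Steps.fwd (nat_lit 90112) (Steps.bwd (nat_lit 6) (Steps.bwd (nat_lit 2) (Steps.bwd (nat_lit 10) (Steps.bwd (nat_lit 3) Steps.nil)))))) (nat_lit 181) (nat_lit 1),
  Rule.mk (nat_lit 12) (nat_lit 59) (Steps.fwd (nat_lit 114688) (Steps.fwd (nat_lit 98304) (Steps.fwd (nat_lit 114688) Steps.nil))) (nat_lit 142) (nat_lit 0),
  Rule.mk (nat_lit 3) (nat_lit 104) (Steps.fwd (nat_lit 32768) (Steps.bwd (nat_lit 5) (Steps.fwd (nat_lit 65536) (Steps.bwd (nat_lit 9) (Steps.fwd (nat_lit 24576) (Steps.bwd (nat_lit 12) Steps.nil)))))) (nat_lit 184) (nat_lit 3),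
  Rule.mk (nat_lit 2) (nat_lit 119) (Steps.bwd (nat_lit 14) (Steps.bwd (nat_lit 3) (Steps.bwd (nat_lit 5) (Steps.bwd (nat_lit 6) (Steps.bwd (nat_lit 7) (Steps.bwd (nat_lit 12) (Steps.fwd (nat_lit 114688) Steps.nil))))))) (nat_lit 188) (nat_lit 1),
  Rule.mk (nat_lit 3) (nat_lit 104) (Steps.bwd (nat_lit 4) (Steps.fwd (nat_lit 40960) (Steps.bwd (nat_lit 8) (Steps.bwd (nat_lit 9) (Steps.bwd (nat_lit 2) (Steps.fwd (nat_lit 98304) Steps.nil)))))) (nat_lit 184) (nat_lit 3),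
  Rule.mk (nat_lit 11) (nat_lit 164) (Steps.bwd (nat_lit 3) (Steps.fwd (nat_lit 114688) (Steps.fwd (nat_lit 98304) (Steps.fwd (nat_lit 90112) (Steps.fwd (nat_lit 81920) (Steps.fwd (nat_lit 73728) (Steps.bwd (nat_lit 8) (Steps.bwd (nat_lit 5) (Steps.bwd (nat_lit 4) (Steps.bwd (nat_lit 2) Steps.nil)))))))))) (nat_lit 183) (nat_lit 10),
  Rule.mk (nat_lit 1) (nat_lit 134) (Steps.bwd (nat_lit 14) (Steps.bwd (nat_lit 1) (Steps.bwd (nat_lit 14) (Steps.bwd (nat_lit 13) (Steps.bwd (nat_lit 12) (Steps.bwd (nat_lit 11) (Steps.bwd (nat_lit 10) (Steps.fwd (nat_lit 49152) Steps.nil)))))))) (nat_lit 167) (nat_lit 7),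
  Rule.mk (nat_lit 9) (nat_lit 89) (Steps.bwd (nat_lit 1) (Steps.fwd (nat_lit 32768) (Steps.fwd (nat_lit 57344) (Steps.bwd (nat_lit 14) (Steps.bwd (nat_lit 1) Steps.nil))))) (nat_lit 156) (nat_lit 2),
  Rule.mk (nat_lit 3) (nat_lit 134) (Steps.bwd (nat_lit 14) (Steps.fwd (nat_lit 90112) (Steps.bwd (nat_lit 9) (Steps.fwd (nat_lit 65536) (Steps.fwd (nat_lit 40960) (Steps.bwd (nat_lit 4) (Steps.bwd (nat_lit 2) (Steps.bwd (nat_lit 9) Steps.nil)))))))) (nat_lit 179) (nat_lit 0),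
  Rule.mk (nat_lit 13) (nat_lit 134) (Steps.bwd (nat_lit 12) (Steps.fwd (nat_lit 90112) (Steps.bwd (nat_lit 10) (Steps.fwd (nat_lit 49152) (Steps.fwd (nat_lit 8192) (Steps.fwd (nat_lit 114688) (Steps.bwd (nat_lit 1) (Steps.bwd (nat_lit 14) Steps.nil)))))))) (nat_lit 167) (nat_lit 2),
  Rule.mk (nat_lit 1) (nat_lit 104) (Steps.bwd (nat_lit 14) (Steps.fwd (nat_lit 106496) (Steps.fwd (nat_lit 57344) (Steps.bwd (nat_lit 5) (Steps.bwd (nat_lit 1) (Steps.fwd (nat_lit 65536) Steps.nil)))))) (nat_lit 155) (nat_lit 0),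
  Rule.mk (nat_lit 1) (nat_lit 104) (Steps.bwd (nat_lit 6) (Steps.fwd (nat_lit 90112) (Steps.bwd (nat_lit 12) (Steps.fwd (nat_lit 114688) (Steps.bwd (nat_lit 1) (Steps.bwd (nat_lit 11) Steps.nil)))))) (nat_lit 160) (nat_lit 3),
  Rule.mk (nat_lit 10) (nat_lit 104) (Steps.bwd (nat_lit 3) (Steps.fwd (nat_lit 49152) (Steps.fwd (nat_lit 90112) (Steps.bwd (nat_lit 12) (Steps.fwd (nat_lit 114688) (Steps.fwd (nat_lit 24576) Steps.nil)))))) (nat_lit 180) (nat_lit 2),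
  Rule.mk (nat_lit 9) (nat_lit 134) (Steps.bwd (nat_lit 3) (Steps.bwd (nat_lit 14) (Steps.fwd (nat_lit 90112) (Steps.fwd (nat_lit 73728) (Steps.fwd (nat_lit 65536) (Steps.bwd (nat_lit 5) (Steps.bwd (nat_lit 4) (Steps.bwd (nat_lit 2) Steps.nil)))))))) (nat_lit 179) (nat_lit 8),
  Rule.mk (nat_lit 14) (nat_lit 59) (Steps.bwd (nat_lit 10) (Steps.bwd (nat_lit 14) (Steps.bwd (nat_lit 10) Steps.nil))) (nat_lit 138) (nat_lit 1),
  Rule.mk (nat_lit 10) (nat_lit 134) (Steps.bwd (nat_lit 6) (Steps.bwd (nat_lit 1) (Steps.fwd (nat_lit 114688) (Steps.fwd (nat_lit 8192) (Steps.bwd (nat_lit 14) (Steps.bwd (nat_lit 13) (Steps.fwd (nat_lit 98304) (Steps.bwd (nat_lit 11) Steps.nil)))))))) (nat_lit 167) (nat_lit 5),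
  Rule.mk (nat_lit 1) (nat_lit 149) (Steps.bwd (nat_lit 6) (Steps.bwd (nat_lit 1) (Steps.bwd (nat_lit 4) (Steps.bwd (nat_lit 5) (Steps.fwd (nat_lit 65536) (Steps.bwd (nat_lit 9) (Steps.fwd (nat_lit 98304) (Steps.fwd (nat_lit 106496) (Steps.bwd (nat_lit 14) Steps.nil))))))))) (nat_lit 150) (nat_lit 1),
  Rule.mk (nat_lit 2) (nat_lit 164) (Steps.bwd (nat_lit 6) (Steps.bwd (nat_lit 3) (Steps.fwd (nat_lit 114688) (Steps.fwd (nat_lit 106496) (Steps.bwd (nat_lit 12) (Steps.bwd (nat_lit 11) (Steps.bwd (nat_lit 10) (Steps.fwd (nat_lit 73728) (Steps.bwd (nat_lit 6) (Steps.bwd (nat_lit 5) Steps.nil)))))))))) (nat_lit 173) (nat_lit 9),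
  Rule.mk (nat_lit 1) (nat_lit 134) (Steps.bwd (nat_lit 14) (Steps.fwd (nat_lit 90112) (Steps.bwd (nat_lit 9) (Steps.fwd (nat_lit 65536) (Steps.fwd (nat_lit 40960) (Steps.bwd (nat_lit 4) (Steps.bwd (nat_lit 1) (Steps.fwd (nat_lit 81920) Steps.nil)))))))) (nat_lit 159) (nat_lit 0),
  Rule.mk (nat_lit 1) (nat_lit 104) (Steps.bwd (nat_lit 14) (Steps.fwd (nat_lit 98304) (Steps.fwd (nat_lit 90112) (Steps.fwd (nat_lit 49152) (Steps.bwd (nat_lit 1) (Steps.bwd (nat_lit 11) Steps.nil)))))) (nat_lit 161) (nat_lit 0),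
  Rule.mk (nat_lit 1) (nat_lit 134) (Steps.fwd (nat_lit 114688) (Steps.bwd (nat_lit 1) (Steps.fwd (nat_lit 114688) (Steps.bwd (nat_lit 13) (Steps.bwd (nat_lit 12) (Steps.bwd (nat_lit 11) (Steps.bwd (nat_lit 10) (Steps.fwd (nat_lit 49152) Steps.nil)))))))) (nat_lit 167) (nat_lit 7),
  Rule.mk (nat_lit 3) (nat_lit 164) (Steps.bwd (nat_lit 14) (Steps.bwd (nat_lit 13) (Steps.fwd (nat_lit 98304) (Steps.fwd (nat_lit 90112) (Steps.bwd (nat_lit 10) (Steps.fwd (nat_lit 73728) (Steps.bwd (nat_lit 6) (Steps.fwd (nat_lit 40960) (Steps.fwd (nat_lit 24576) (Steps.bwd (nat_lit 6) Steps.nil)))))))))) (nat_lit 173) (nat_lit 0),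
  Rule.mk (nat_lit 9) (nat_lit 104) (Steps.bwd (nat_lit 1) (Steps.fwd (nat_lit 106496) (Steps.fwd (nat_lit 8192) (Steps.bwd (nat_lit 4) (Steps.fwd (nat_lit 40960) (Steps.bwd (nat_lit 8) Steps.nil)))))) (nat_lit 164) (nat_lit 0),
  Rule.mk (nat_lit 13) (nat_lit 104) (Steps.bwd (nat_lit 1) (Steps.fwd (nat_lit 73728) (Steps.fwd (nat_lit 65536) (Steps.fwd (nat_lit 40960) (Steps.bwd (nat_lit 4) (Steps.bwd (nat_lit 1) Steps.nil)))))) (nat_lit 165) (nat_lit 6),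
  Rule.mk (nat_lit 2) (nat_lit 89) (Steps.fwd (nat_lit 65536) (Steps.bwd (nat_lit 3) (Steps.bwd (nat_lit 4) (Steps.bwd (nat_lit 7) (Steps.bwd (nat_lit 14) Steps.nil))))) (nat_lit 176) (nat_lit 1),
  Rule.mk (nat_lit 7) (nat_lit 104) (Steps.bwd (nat_lit 3) (Steps.bwd (nat_lit 5) (Steps.fwd (nat_lit 57344) (Steps.bwd (nat_lit 13) (Steps.bwd (nat_lit 14) (Steps.fwd (nat_lit 24576) Steps.nil)))))) (nat_lit 174) (nat_lit 2),
  Rule.mk (nat_lit 14) (nat_lit 119) (Steps.bwd (nat_lit 3) (Steps.bwd (nat_lit 5) (Steps.bwd (nat_lit 6) (Steps.fwd (nat_lit 57344) (Steps.fwd (nat_lit 98304) (Steps.bwd (nat_lit 14) (Steps.bwd (nat_lit 2) Steps.nil))))))) (nat_lit 188) (nat_lit 2),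
  Rule.mk (nat_lit 5) (nat_lit 149) (Steps.bwd (nat_lit 3) (Steps.bwd (nat_lit 4) (Steps.bwd (nat_lit 5) (Steps.bwd (nat_lit 8) (Steps.bwd (nat_lit 9) (Steps.bwd (nat_lit 12) (Steps.bwd (nat_lit 13) (Steps.bwd (nat_lit 14) (Steps.bwd (nat_lit 2) Steps.nil))))))))) (nat_lit 170) (nat_lit 2),
  Rule.mk (nat_lit 14) (nat_lit 59) (Steps.bwd (nat_lit 4) (Steps.bwd (nat_lit 14) (Steps.bwd (nat_lit 4) Steps.nil))) (nat_lit 126) (nat_lit 1),
  Rule.mk (nat_lit 3) (nat_lit 119) (Steps.fwd (nat_lit 40960) (Steps.bwd (nat_lit 6) (Steps.fwd (nat_lit 57344) (Steps.bwd (nat_lit 12) (Steps.fwd (nat_lit 114688) (Steps.bwd (nat_lit 2) (Steps.bwd (nat_lit 14) Steps.nil))))))) (nat_lit 188) (nat_lit 3),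
  Rule.mk (nat_lit 1) (nat_lit 104) (Steps.bwd (nat_lit 4) (Steps.fwd (nat_lit 40960) (Steps.fwd (nat_lit 65536) (Steps.fwd (nat_lit 73728) (Steps.fwd (nat_lit 8192) (Steps.fwd (nat_lit 106496) Steps.nil)))))) (nat_lit 164) (nat_lit 3),
  Rule.mk (nat_lit 7) (nat_lit 104) (Steps.bwd (nat_lit 13) (Steps.fwd (nat_lit 114688) (Steps.fwd (nat_lit 8192) (Steps.fwd (nat_lit 65536) (Steps.bwd (nat_lit 1) (Steps.fwd (nat_lit 40960) Steps.nil)))))) (nat_lit 154) (nat_lit 5),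
  Rule.mk (nat_lit 1) (nat_lit 104) (Steps.bwd (nat_lit 4) (Steps.fwd (nat_lit 40960) (Steps.bwd (nat_lit 8) (Steps.bwd (nat_lit 9) (Steps.bwd (nat_lit 1) (Steps.bwd (nat_lit 13) Steps.nil)))))) (nat_lit 164) (nat_lit 3),
  Rule.mk (nat_lit 1) (nat_lit 134) (Steps.bwd (nat_lit 14) (Steps.fwd (nat_lit 90112) (Steps.bwd (nat_lit 9) (Steps.fwd (nat_lit 65536) (Steps.bwd (nat_lit 5) (Steps.bwd (nat_lit 4) (Steps.fwd (nat_lit 8192) (Steps.fwd (nat_lit 81920) Steps.nil)))))))) (nat_lit 159) (nat_lit 0),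
  Rule.mk (nat_lit 1) (nat_lit 104) (Steps.fwd (nat_lit 90112) (Steps.bwd (nat_lit 1) (Steps.fwd (nat_lit 114688) (Steps.bwd (nat_lit 12) (Steps.fwd (nat_lit 90112) (Steps.fwd (nat_lit 49152) Steps.nil)))))) (nat_lit 161) (nat_lit 5)]
noncomputable def R_20 : List (Rule) := [Rule.mk (nat_lit 18) (nat_lit 179) (Steps.bwd (nat_lit 1) (Steps.bwd (nat_lit 3) (Steps.bwd (nat_lit 4) (Steps.bwd (nat_lit 1) (Steps.fwd (nat_lit 24576) (Steps.fwd (nat_lit 8192) (Steps.bwd (nat_lit 2) (Steps.bwd (nat_lit 1) (Steps.fwd (nat_lit 16384) (Steps.bwd (nat_lit 1) (Steps.bwd (nat_lit 3) Steps.nil))))))))))) (nat_lit 192) (nat_lit 1),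
  Rule.mk (nat_lit 1) (nat_lit 104) (Steps.bwd (nat_lit 6) (Steps.fwd (nat_lit 90112) (Steps.fwd (nat_lit 98304) (Steps.bwd (nat_lit 14) (Steps.bwd (nat_lit 1) (Steps.fwd (nat_lit 90112) Steps.nil)))))) (nat_lit 160) (nat_lit 3),
  Rule.mk (nat_lit 1) (nat_lit 134) (Steps.bwd (nat_lit 14) (Steps.fwd (nat_lit 90112) (Steps.bwd (nat_lit 9) (Steps.fwd (nat_lit 65536) (Steps.bwd (nat_lit 5) (Steps.fwd (nat_lit 32768) (Steps.bwd (nat_lit 1) (Steps.bwd (nat_lit 10) Steps.nil)))))))) (nat_lit 159) (nat_lit 0),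
  Rule.mk (nat_lit 3) (nat_lit 134) (Steps.bwd (nat_lit 14) (Steps.fwd (nat_lit 90112) (Steps.bwd (nat_lit 9) (Steps.fwd (nat_lit 65536) (Steps.bwd (nat_lit 5) (Steps.fwd (nat_lit 32768) (Steps.fwd (nat_lit 24576) (Steps.bwd (nat_lit 9) Steps.nil)))))))) (nat_lit 179) (nat_lit 0),
  Rule.mk (nat_lit 2) (nat_lit 119) (Steps.fwd (nat_lit 114688) (Steps.bwd (nat_lit 3) (Steps.bwd (nat_lit 5) (Steps.bwd (nat_lit 6) (Steps.fwd (nat_lit 57344) (Steps.fwd (nat_lit 98304) (Steps.fwd (nat_lit 114688) Steps.nil))))))) (nat_lit 188) (nat_lit 1),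
  Rule.mk (nat_lit 11) (nat_lit 104) (Steps.bwd (nat_lit 12) (Steps.fwd (nat_lit 114688) (Steps.bwd (nat_lit 1) (Steps.fwd (nat_lit 90112) (Steps.fwd (nat_lit 8192) (Steps.fwd (nat_lit 49152) Steps.nil)))))) (nat_lit 160) (nat_lit 5),
  Rule.mk (nat_lit 14) (nat_lit 104) (Steps.bwd (nat_lit 12) (Steps.bwd (nat_lit 11) (Steps.fwd (nat_lit 49152) (Steps.bwd (nat_lit 2) (Steps.bwd (nat_lit 10) (Steps.fwd (nat_lit 16384) Steps.nil)))))) (nat_lit 181) (nat_lit 1),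
  Rule.mk (nat_lit 11) (nat_lit 164) (Steps.bwd (nat_lit 3) (Steps.bwd (nat_lit 14) (Steps.bwd (nat_lit 12) (Steps.fwd (nat_lit 90112) (Steps.fwd (nat_lit 81920) (Steps.fwd (nat_lit 73728) (Steps.fwd (nat_lit 65536) (Steps.fwd (nat_lit 40960) (Steps.fwd (nat_lit 32768) (Steps.bwd (nat_lit 2) Steps.nil)))))))))) (nat_lit 183) (nat_lit 10),
  Rule.mk (nat_lit 10) (nat_lit 59) (Steps.fwd (nat_lit 90112) (Steps.fwd (nat_lit 81920) (Steps.bwd (nat_lit 11) Steps.nil))) (nat_lit 90) (nat_lit 0),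
  Rule.mk (nat_lit 4) (nat_lit 59) (Steps.bwd (nat_lit 11) (Steps.bwd (nat_lit 4) (Steps.fwd (nat_lit 90112) Steps.nil))) (nat_lit 78) (nat_lit 0),
  Rule.mk (nat_lit 10) (nat_lit 164) (Steps.bwd (nat_lit 11) (Steps.fwd (nat_lit 98304) (Steps.bwd (nat_lit 14) (Steps.bwd (nat_lit 2) (Steps.bwd (nat_lit 11) (Steps.bwd (nat_lit 3) (Steps.fwd (nat_lit 32768) (Steps.fwd (nat_lit 40960) (Steps.bwd (nat_lit 8) (Steps.fwd (nat_lit 73728) Steps.nil)))))))))) (nat_lit 182) (nat_lit 8),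
  Rule.mk (nat_lit 12) (nat_lit 59) (Steps.fwd (nat_lit 40960) (Steps.bwd (nat_lit 12) (Steps.bwd (nat_lit 5) Steps.nil))) (nat_lit 94) (nat_lit 1),
  Rule.mk (nat_lit 3) (nat_lit 149) (Steps.fwd (nat_lit 32768) (Steps.bwd (nat_lit 5) (Steps.bwd (nat_lit 8) (Steps.fwd (nat_lit 73728) (Steps.fwd (nat_lit 98304) (Steps.bwd (nat_lit 13) (Steps.fwd (nat_lit 114688) (Steps.fwd (nat_lit 24576) (Steps.bwd (nat_lit 5) Steps.nil))))))))) (nat_lit 170) (nat_lit 3),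
  Rule.mk (nat_lit 13) (nat_lit 104) (Steps.bwd (nat_lit 1) (Steps.fwd (nat_lit 73728) (Steps.fwd (nat_lit 65536) (Steps.bwd (nat_lit 5) (Steps.bwd (nat_lit 4) (Steps.bwd (nat_lit 1) Steps.nil)))))) (nat_lit 165) (nat_lit 6),
  Rule.mk (nat_lit 7) (nat_lit 59) (Steps.bwd (nat_lit 10) (Steps.bwd (nat_lit 7) (Steps.fwd (nat_lit 81920) Steps.nil))) (nat_lit 72) (nat_lit 0),
  Rule.mk (nat_lit 6) (nat_lit 59) (Steps.bwd (nat_lit 8) (Steps.bwd (nat_lit 6) (Steps.bwd (nat_lit 8) Steps.nil))) (nat_lit 52) (nat_lit 0),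
  Rule.mk (nat_lit 11) (nat_lit 134) (Steps.bwd (nat_lit 12) (Steps.bwd (nat_lit 13) (Steps.fwd (nat_lit 114688) (Steps.bwd (nat_lit 1) (Steps.bwd (nat_lit 14) (Steps.fwd (nat_lit 8192) (Steps.fwd (nat_lit 49152) (Steps.bwd (nat_lit 10) Steps.nil)))))))) (nat_lit 166) (nat_lit 6),
  Rule.mk (nat_lit 3) (nat_lit 104) (Steps.bwd (nat_lit 5) (Steps.bwd (nat_lit 7) (Steps.fwd (nat_lit 106496) (Steps.fwd (nat_lit 114688) (Steps.bwd (nat_lit 2) (Steps.fwd (nat_lit 57344) Steps.nil)))))) (nat_lit 174) (nat_lit 3),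
  Rule.mk (nat_lit 3) (nat_lit 119) (Steps.fwd (nat_lit 40960) (Steps.fwd (nat_lit 49152) (Steps.bwd (nat_lit 7) (Steps.bwd (nat_lit 12) (Steps.fwd (nat_lit 114688) (Steps.bwd (nat_lit 2) (Steps.fwd (nat_lit 114688) Steps.nil))))))) (nat_lit 188) (nat_lit 3),
  Rule.mk (nat_lit 3) (nat_lit 119) (Steps.fwd (nat_lit 40960) (Steps.fwd (nat_lit 49152) (Steps.bwd (nat_lit 7) (Steps.fwd (nat_lit 98304) (Steps.bwd (nat_lit 14) (Steps.bwd (nat_lit 2) (Steps.bwd (nat_lit 14) Steps.nil))))))) (nat_lit 188) (nat_lit 3),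
  Rule.mk (nat_lit 3) (nat_lit 149) (Steps.bwd (nat_lit 4) (Steps.fwd (nat_lit 40960) (Steps.fwd (nat_lit 65536) (Steps.fwd (nat_lit 73728) (Steps.bwd (nat_lit 12) (Steps.bwd (nat_lit 13) (Steps.bwd (nat_lit 14) (Steps.bwd (nat_lit 2) (Steps.bwd (nat_lit 5) Steps.nil))))))))) (nat_lit 170) (nat_lit 3),
  Rule.mk (nat_lit 9) (nat_lit 104) (Steps.fwd (nat_lit 65536) (Steps.bwd (nat_lit 5) (Steps.bwd (nat_lit 4) (Steps.bwd (nat_lit 2) (Steps.bwd (nat_lit 12) (Steps.bwd (nat_lit 3) Steps.nil)))))) (nat_lit 185) (nat_lit 1),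
  Rule.mk (nat_lit 2) (nat_lit 104) (Steps.fwd (nat_lit 57344) (Steps.bwd (nat_lit 3) (Steps.fwd (nat_lit 40960) (Steps.bwd (nat_lit 7) (Steps.fwd (nat_lit 106496) (Steps.fwd (nat_lit 114688) Steps.nil)))))) (nat_lit 174) (nat_lit 1),
  Rule.mk (nat_lit 3) (nat_lit 104) (Steps.fwd (nat_lit 40960) (Steps.fwd (nat_lit 57344) (Steps.bwd (nat_lit 13) (Steps.bwd (nat_lit 14) (Steps.fwd (nat_lit 24576) (Steps.bwd (nat_lit 7) Steps.nil)))))) (nat_lit 174) (nat_lit 3),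
  Rule.mk (nat_lit 1) (nat_lit 104) (Steps.bwd (nat_lit 14) (Steps.fwd (nat_lit 98304) (Steps.bwd (nat_lit 11) (Steps.bwd (nat_lit 6) (Steps.fwd (nat_lit 8192) (Steps.bwd (nat_lit 11) Steps.nil)))))) (nat_lit 161) (nat_lit 0),
  Rule.mk (nat_lit 1) (nat_lit 104) (Steps.bwd (nat_lit 11) (Steps.bwd (nat_lit 1) (Steps.bwd (nat_lit 6) (Steps.bwd (nat_lit 11) (Steps.fwd (nat_lit 98304) (Steps.fwd (nat_lit 114688) Steps.nil)))))) (nat_lit 160) (nat_lit 1),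
  Rule.mk (nat_lit 17) (nat_lit 179) (Steps.fwd (nat_lit 24576) (Steps.fwd (nat_lit 8192) (Steps.bwd (nat_lit 2) (Steps.bwd (nat_lit 1) (Steps.fwd (nat_lit 16384) (Steps.bwd (nat_lit 1) (Steps.fwd (nat_lit 16384) (Steps.fwd (nat_lit 8192) (Steps.bwd (nat_lit 4) (Steps.fwd (nat_lit 24576) (Steps.bwd (nat_lit 1) Steps.nil))))))))))) (nat_lit 193) (nat_lit 0),
  Rule.mk (nat_lit 8) (nat_lit 59) (Steps.fwd (nat_lit 90112) (Steps.fwd (nat_lit 65536) (Steps.bwd (nat_lit 11) Steps.nil))) (nat_lit 86) (nat_lit 0),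
  Rule.mk (nat_lit 10) (nat_lit 134) (Steps.bwd (nat_lit 1) (Steps.bwd (nat_lit 14) (Steps.bwd (nat_lit 11) (Steps.bwd (nat_lit 9) (Steps.fwd (nat_lit 65536) (Steps.fwd (nat_lit 40960) (Steps.bwd (nat_lit 4) (Steps.bwd (nat_lit 1) Steps.nil)))))))) (nat_lit 159) (nat_lit 8),
  Rule.mk (nat_lit 6) (nat_lit 59) (Steps.fwd (nat_lit 81920) (Steps.bwd (nat_lit 6) (Steps.bwd (nat_lit 10) Steps.nil))) (nat_lit 70) (nat_lit 0),
  Rule.mk (nat_lit 8) (nat_lit 104) (Steps.bwd (nat_lit 9) (Steps.bwd (nat_lit 2) (Steps.fwd (nat_lit 98304) (Steps.bwd (nat_lit 3) (Steps.fwd (nat_lit 32768) (Steps.bwd (nat_lit 5) Steps.nil)))))) (nat_lit 184) (nat_lit 6),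
  Rule.mk (nat_lit 3) (nat_lit 89) (Steps.bwd (nat_lit 4) (Steps.fwd (nat_lit 57344) (Steps.fwd (nat_lit 114688) (Steps.bwd (nat_lit 2) (Steps.bwd (nat_lit 8) Steps.nil))))) (nat_lit 176) (nat_lit 3),
  Rule.mk (nat_lit 9) (nat_lit 104) (Steps.bwd (nat_lit 2) (Steps.fwd (nat_lit 98304) (Steps.bwd (nat_lit 3) (Steps.fwd (nat_lit 32768) (Steps.fwd (nat_lit 40960) (Steps.bwd (nat_lit 8) Steps.nil)))))) (nat_lit 184) (nat_lit 0),
  Rule.mk (nat_lit 13) (nat_lit 59) (Steps.fwd (nat_lit 73728) (Steps.bwd (nat_lit 13) (Steps.bwd (nat_lit 9) Steps.nil))) (nat_lit 118) (nat_lit 1),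
  Rule.mk (nat_lit 1) (nat_lit 104) (Steps.bwd (nat_lit 13) (Steps.bwd (nat_lit 1) (Steps.bwd (nat_lit 4) (Steps.bwd (nat_lit 5) (Steps.fwd (nat_lit 65536) (Steps.fwd (nat_lit 73728) Steps.nil)))))) (nat_lit 164) (nat_lit 1),
  Rule.mk (nat_lit 8) (nat_lit 104) (Steps.bwd (nat_lit 1) (Steps.fwd (nat_lit 40960) (Steps.bwd (nat_lit 7) (Steps.bwd (nat_lit 13) (Steps.bwd (nat_lit 14) (Steps.bwd (nat_lit 1) Steps.nil)))))) (nat_lit 154) (nat_lit 2),
  Rule.mk (nat_lit 12) (nat_lit 59) (Steps.bwd (nat_lit 10) (Steps.fwd (nat_lit 98304) (Steps.bwd (nat_lit 10) Steps.nil))) (nat_lit 104) (nat_lit 1),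
  Rule.mk (nat_lit 2) (nat_lit 149) (Steps.fwd (nat_lit 40960) (Steps.fwd (nat_lit 16384) (Steps.bwd (nat_lit 14) (Steps.fwd (nat_lit 106496) (Steps.bwd (nat_lit 12) (Steps.fwd (nat_lit 73728) (Steps.fwd (nat_lit 65536) (Steps.bwd (nat_lit 5) (Steps.fwd (nat_lit 32768) Steps.nil))))))))) (nat_lit 171) (nat_lit 8),
  Rule.mk (nat_lit 12) (nat_lit 104) (Steps.bwd (nat_lit 3) (Steps.fwd (nat_lit 73728) (Steps.fwd (nat_lit 65536) (Steps.bwd (nat_lit 5) (Steps.fwd (nat_lit 32768) (Steps.bwd (nat_lit 2) Steps.nil)))))) (nat_lit 185) (nat_lit 6),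
  Rule.mk (nat_lit 3) (nat_lit 119) (Steps.fwd (nat_lit 114688) (Steps.fwd (nat_lit 98304) (Steps.bwd (nat_lit 7) (Steps.bwd (nat_lit 6) (Steps.fwd (nat_lit 40960) (Steps.fwd (nat_lit 24576) (Steps.bwd (nat_lit 14) Steps.nil))))))) (nat_lit 189) (nat_lit 0),
  Rule.mk (nat_lit 10) (nat_lit 104) (Steps.bwd (nat_lit 3) (Steps.fwd (nat_lit 49152) (Steps.bwd (nat_lit 11) (Steps.bwd (nat_lit 12) (Steps.fwd (nat_lit 114688) (Steps.bwd (nat_lit 2) Steps.nil)))))) (nat_lit 180) (nat_lit 2),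
  Rule.mk (nat_lit 13) (nat_lit 134) (Steps.bwd (nat_lit 3) (Steps.bwd (nat_lit 14) (Steps.fwd (nat_lit 106496) (Steps.fwd (nat_lit 98304) (Steps.fwd (nat_lit 90112) (Steps.fwd (nat_lit 81920) (Steps.bwd (nat_lit 6) (Steps.bwd (nat_lit 2) Steps.nil)))))))) (nat_lit 187) (nat_lit 8),
  Rule.mk (nat_lit 11) (nat_lit 59) (Steps.bwd (nat_lit 6) (Steps.bwd (nat_lit 11) (Steps.fwd (nat_lit 49152) Steps.nil))) (nat_lit 82) (nat_lit 1),
  Rule.mk (nat_lit 3) (nat_lit 104) (Steps.bwd (nat_lit 6) (Steps.bwd (nat_lit 11) (Steps.bwd (nat_lit 12) (Steps.bwd (nat_lit 14) (Steps.bwd (nat_lit 2) (Steps.bwd (nat_lit 10) Steps.nil)))))) (nat_lit 180) (nat_lit 3),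
  Rule.mk (nat_lit 1) (nat_lit 134) (Steps.bwd (nat_lit 14) (Steps.fwd (nat_lit 90112) (Steps.fwd (nat_lit 73728) (Steps.fwd (nat_lit 65536) (Steps.bwd (nat_lit 5) (Steps.fwd (nat_lit 32768) (Steps.fwd (nat_lit 8192) (Steps.fwd (nat_lit 81920) Steps.nil)))))))) (nat_lit 159) (nat_lit 0),
  Rule.mk (nat_lit 14) (nat_lit 59) (Steps.bwd (nat_lit 6) (Steps.bwd (nat_lit 14) (Steps.bwd (nat_lit 6) Steps.nil))) (nat_lit 130) (nat_lit 1),
  Rule.mk (nat_lit 1) (nat_lit 149) (Steps.bwd (nat_lit 6) (Steps.fwd (nat_lit 8192) (Steps.bwd (nat_lit 4) (Steps.fwd (nat_lit 40960) (Steps.fwd (nat_lit 65536) (Steps.bwd (nat_lit 9) (Steps.fwd (nat_lit 98304) (Steps.bwd (nat_lit 13) (Steps.bwd (nat_lit 14) Steps.nil))))))))) (nat_lit 150) (nat_lit 1),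
  Rule.mk (nat_lit 13) (nat_lit 104) (Steps.fwd (nat_lit 8192) (Steps.fwd (nat_lit 73728) (Steps.bwd (nat_lit 8) (Steps.fwd (nat_lit 40960) (Steps.fwd (nat_lit 32768) (Steps.bwd (nat_lit 1) Steps.nil)))))) (nat_lit 165) (nat_lit 6),
  Rule.mk (nat_lit 10) (nat_lit 104) (Steps.bwd (nat_lit 3) (Steps.fwd (nat_lit 49152) (Steps.fwd (nat_lit 90112) (Steps.fwd (nat_lit 98304) (Steps.fwd (nat_lit 114688) (Steps.fwd (nat_lit 24576) Steps.nil)))))) (nat_lit 180) (nat_lit 2),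
  Rule.mk (nat_lit 9) (nat_lit 134) (Steps.bwd (nat_lit 3) (Steps.bwd (nat_lit 14) (Steps.fwd (nat_lit 90112) (Steps.fwd (nat_lit 73728) (Steps.fwd (nat_lit 65536) (Steps.bwd (nat_lit 5) (Steps.fwd (nat_lit 32768) (Steps.bwd (nat_lit 2) Steps.nil)))))))) (nat_lit 179) (nat_lit 8),
  Rule.mk (nat_lit 3) (nat_lit 134) (Steps.bwd (nat_lit 4) (Steps.fwd (nat_lit 40960) (Steps.fwd (nat_lit 65536) (Steps.bwd (nat_lit 9) (Steps.bwd (nat_lit 11) (Steps.bwd (nat_lit 14) (Steps.bwd (nat_lit 2) (Steps.bwd (nat_lit 9) Steps.nil)))))))) (nat_lit 178) (nat_lit 3),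
  Rule.mk (nat_lit 6) (nat_lit 104) (Steps.bwd (nat_lit 11) (Steps.bwd (nat_lit 12) (Steps.fwd (nat_lit 114688) (Steps.fwd (nat_lit 24576) (Steps.bwd (nat_lit 10) (Steps.bwd (nat_lit 3) Steps.nil)))))) (nat_lit 180) (nat_lit 4),
  Rule.mk (nat_lit 18) (nat_lit 179) (Steps.bwd (nat_lit 1) (Steps.fwd (nat_lit 16384) (Steps.fwd (nat_lit 32768) (Steps.bwd (nat_lit 1) (Steps.fwd (nat_lit 24576) (Steps.bwd (nat_lit 1) (Steps.bwd (nat_lit 2) (Steps.fwd (nat_lit 8192) (Steps.fwd (nat_lit 16384) (Steps.bwd (nat_lit 1) (Steps.bwd (nat_lit 3) Steps.nil))))))))))) (nat_lit 192) (nat_lit 1),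
  Rule.mk (nat_lit 20) (nat_lit 179) (Steps.bwd (nat_lit 1) (Steps.fwd (nat_lit 24576) (Steps.bwd (nat_lit 1) (Steps.bwd (nat_lit 2) (Steps.fwd (nat_lit 8192) (Steps.fwd (nat_lit 16384) (Steps.bwd (nat_lit 1) (Steps.bwd (nat_lit 3) (Steps.bwd (nat_lit 1) (Steps.fwd (nat_lit 32768) (Steps.fwd (nat_lit 24576) Steps.nil))))))))))) (nat_lit 194) (nat_lit 1),
  Rule.mk (nat_lit 19) (nat_lit 179) (Steps.fwd (nat_lit 16384) (Steps.fwd (nat_lit 32768) (Steps.bwd (nat_lit 1) (Steps.fwd (nat_lit 24576) (Steps.bwd (nat_lit 1) (Steps.bwd (nat_lit 2) (Steps.fwd (nat_lit 8192) (Steps.fwd (nat_lit 16384) (Steps.bwd (nat_lit 1) (Steps.bwd (nat_lit 3) (Steps.bwd (nat_lit 1) Steps.nil))))))))))) (nat_lit 195) (nat_lit 0),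
  Rule.mk (nat_lit 3) (nat_lit 104) (Steps.fwd (nat_lit 49152) (Steps.bwd (nat_lit 11) (Steps.fwd (nat_lit 98304) (Steps.bwd (nat_lit 14) (Steps.bwd (nat_lit 2) (Steps.bwd (nat_lit 10) Steps.nil)))))) (nat_lit 180) (nat_lit 3),
  Rule.mk (nat_lit 13) (nat_lit 104) (Steps.bwd (nat_lit 14) (Steps.bwd (nat_lit 1) (Steps.fwd (nat_lit 65536) (Steps.bwd (nat_lit 1) (Steps.fwd (nat_lit 40960) (Steps.bwd (nat_lit 7) Steps.nil)))))) (nat_lit 154) (nat_lit 6),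
  Rule.mk (nat_lit 2) (nat_lit 119) (Steps.bwd (nat_lit 14) (Steps.bwd (nat_lit 3) (Steps.bwd (nat_lit 5) (Steps.bwd (nat_lit 6) (Steps.fwd (nat_lit 57344) (Steps.bwd (nat_lit 12) (Steps.fwd (nat_lit 114688) Steps.nil))))))) (nat_lit 188) (nat_lit 1),
  Rule.mk (nat_lit 13) (nat_lit 104) (Steps.bwd (nat_lit 1) (Steps.fwd (nat_lit 32768) (Steps.bwd (nat_lit 5) (Steps.fwd (nat_lit 65536) (Steps.bwd (nat_lit 9) (Steps.bwd (nat_lit 1) Steps.nil)))))) (nat_lit 164) (nat_lit 2),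
  Rule.mk (nat_lit 6) (nat_lit 149) (Steps.bwd (nat_lit 1) (Steps.fwd (nat_lit 114688) (Steps.fwd (nat_lit 106496) (Steps.bwd (nat_lit 12) (Steps.bwd (nat_lit 9) (Steps.bwd (nat_lit 8) (Steps.fwd (nat_lit 40960) (Steps.bwd (nat_lit 4) (Steps.bwd (nat_lit 1) Steps.nil))))))))) (nat_lit 151) (nat_lit 9),
  Rule.mk (nat_lit 2) (nat_lit 104) (Steps.fwd (nat_lit 81920) (Steps.bwd (nat_lit 3) (Steps.fwd (nat_lit 114688) (Steps.bwd (nat_lit 12) (Steps.bwd (nat_lit 11) (Steps.bwd (nat_lit 6) Steps.nil)))))) (nat_lit 181) (nat_lit 5),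
  Rule.mk (nat_lit 9) (nat_lit 164) (Steps.bwd (nat_lit 10) (Steps.fwd (nat_lit 90112) (Steps.bwd (nat_lit 12) (Steps.bwd (nat_lit 14) (Steps.fwd (nat_lit 24576) (Steps.bwd (nat_lit 11) (Steps.bwd (nat_lit 3) (Steps.fwd (nat_lit 32768) (Steps.fwd (nat_lit 40960) (Steps.fwd (nat_lit 65536) Steps.nil)))))))))) (nat_lit 182) (nat_lit 7),
  Rule.mk (nat_lit 12) (nat_lit 59) (Steps.bwd (nat_lit 11) (Steps.bwd (nat_lit 12) (Steps.bwd (nat_lit 11) Steps.nil))) (nat_lit 106) (nat_lit 1),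
  Rule.mk (nat_lit 14) (nat_lit 59) (Steps.bwd (nat_lit 11) (Steps.fwd (nat_lit 114688) (Steps.bwd (nat_lit 11) Steps.nil))) (nat_lit 140) (nat_lit 1)]
noncomputable def R_21 : List (Rule) := [Rule.mk (nat_lit 2) (nat_lit 104) (Steps.fwd (nat_lit 81920) (Steps.fwd (nat_lit 16384) (Steps.bwd (nat_lit 6) (Steps.bwd (nat_lit 11) (Steps.bwd (nat_lit 12) (Steps.bwd (nat_lit 14) Steps.nil)))))) (nat_lit 180) (nat_lit 1),
  Rule.mk (nat_lit 11) (nat_lit 104) (Steps.bwd (nat_lit 1) (Steps.fwd (nat_lit 49152) (Steps.fwd (nat_lit 90112) (Steps.fwd (nat_lit 98304) (Steps.bwd (nat_lit 14) (Steps.fwd (nat_lit 8192) Steps.nil)))))) (nat_lit 160) (nat_lit 2),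
  Rule.mk (nat_lit 10) (nat_lit 134) (Steps.bwd (nat_lit 1) (Steps.fwd (nat_lit 32768) (Steps.fwd (nat_lit 40960) (Steps.bwd (nat_lit 8) (Steps.fwd (nat_lit 73728) (Steps.fwd (nat_lit 90112) (Steps.fwd (nat_lit 114688) (Steps.fwd (nat_lit 8192) Steps.nil)))))))) (nat_lit 158) (nat_lit 2),
  Rule.mk (nat_lit 7) (nat_lit 164) (Steps.bwd (nat_lit 1) (Steps.fwd (nat_lit 40960) (Steps.bwd (nat_lit 6) (Steps.bwd (nat_lit 9) (Steps.fwd (nat_lit 81920) (Steps.fwd (nat_lit 90112) (Steps.fwd (nat_lit 98304) (Steps.bwd (nat_lit 13) (Steps.fwd (nat_lit 114688) (Steps.bwd (nat_lit 1) Steps.nil)))))))))) (nat_lit 152) (nat_lit 2),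
  Rule.mk (nat_lit 2) (nat_lit 89) (Steps.fwd (nat_lit 65536) (Steps.bwd (nat_lit 3) (Steps.bwd (nat_lit 14) (Steps.bwd (nat_lit 7) (Steps.fwd (nat_lit 32768) Steps.nil))))) (nat_lit 177) (nat_lit 4),
  Rule.mk (nat_lit 12) (nat_lit 104) (Steps.bwd (nat_lit 14) (Steps.bwd (nat_lit 1) (Steps.bwd (nat_lit 11) (Steps.bwd (nat_lit 1) (Steps.bwd (nat_lit 6) (Steps.bwd (nat_lit 11) Steps.nil)))))) (nat_lit 160) (nat_lit 6),
  Rule.mk (nat_lit 19) (nat_lit 179) (Steps.bwd (nat_lit 3) (Steps.fwd (nat_lit 32768) (Steps.fwd (nat_lit 8192) (Steps.bwd (nat_lit 2) (Steps.fwd (nat_lit 8192) (Steps.fwd (nat_lit 24576) (Steps.fwd (nat_lit 8192) (Steps.bwd (nat_lit 3) (Steps.bwd (nat_lit 1) (Steps.fwd (nat_lit 16384) (Steps.bwd (nat_lit 1) Steps.nil))))))))))) (nat_lit 195) (nat_lit 0),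
  Rule.mk (nat_lit 18) (nat_lit 179) (Steps.bwd (nat_lit 1) (Steps.bwd (nat_lit 3) (Steps.fwd (nat_lit 32768) (Steps.fwd (nat_lit 8192) (Steps.bwd (nat_lit 2) (Steps.fwd (nat_lit 8192) (Steps.fwd (nat_lit 24576) (Steps.fwd (nat_lit 8192) (Steps.bwd (nat_lit 3) (Steps.bwd (nat_lit 1) (Steps.fwd (nat_lit 16384) Steps.nil))))))))))) (nat_lit 192) (nat_lit 1),
  Rule.mk (nat_lit 2) (nat_lit 164) (Steps.bwd (nat_lit 6) (Steps.bwd (nat_lit 3) (Steps.bwd (nat_lit 14) (Steps.fwd (nat_lit 106496) (Steps.fwd (nat_lit 98304) (Steps.fwd (nat_lit 90112) (Steps.bwd (nat_lit 10) (Steps.fwd (nat_lit 73728) (Steps.bwd (nat_lit 6) (Steps.bwd (nat_lit 5) Steps.nil)))))))))) (nat_lit 173) (nat_lit 9),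
  Rule.mk (nat_lit 10) (nat_lit 134) (Steps.fwd (nat_lit 49152) (Steps.bwd (nat_lit 2) (Steps.fwd (nat_lit 106496) (Steps.fwd (nat_lit 16384) (Steps.fwd (nat_lit 114688) (Steps.bwd (nat_lit 13) (Steps.fwd (nat_lit 98304) (Steps.fwd (nat_lit 90112) Steps.nil)))))))) (nat_lit 187) (nat_lit 5),
  Rule.mk (nat_lit 9) (nat_lit 59) (Steps.fwd (nat_lit 81920) (Steps.fwd (nat_lit 73728) (Steps.bwd (nat_lit 10) Steps.nil))) (nat_lit 76) (nat_lit 0),
  Rule.mk (nat_lit 1) (nat_lit 134) (Steps.bwd (nat_lit 14) (Steps.fwd (nat_lit 90112) (Steps.bwd (nat_lit 9) (Steps.fwd (nat_lit 65536) (Steps.fwd (nat_lit 40960) (Steps.bwd (nat_lit 4) (Steps.fwd (nat_lit 8192) (Steps.bwd (nat_lit 10) Steps.nil)))))))) (nat_lit 159) (nat_lit 0),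
  Rule.mk (nat_lit 2) (nat_lit 164) (Steps.fwd (nat_lit 49152) (Steps.fwd (nat_lit 16384) (Steps.bwd (nat_lit 14) (Steps.fwd (nat_lit 106496) (Steps.fwd (nat_lit 98304) (Steps.bwd (nat_lit 11) (Steps.bwd (nat_lit 10) (Steps.bwd (nat_lit 9) (Steps.bwd (nat_lit 6) (Steps.fwd (nat_lit 40960) Steps.nil)))))))))) (nat_lit 173) (nat_lit 9),
  Rule.mk (nat_lit 18) (nat_lit 179) (Steps.bwd (nat_lit 1) (Steps.bwd (nat_lit 3) (Steps.fwd (nat_lit 32768) (Steps.bwd (nat_lit 1) (Steps.bwd (nat_lit 2) (Steps.fwd (nat_lit 8192) (Steps.fwd (nat_lit 24576) (Steps.fwd (nat_lit 8192) (Steps.fwd (nat_lit 16384) (Steps.bwd (nat_lit 1) (Steps.fwd (nat_lit 16384) Steps.nil))))))))))) (nat_lit 192) (nat_lit 1),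
  Rule.mk (nat_lit 20) (nat_lit 179) (Steps.bwd (nat_lit 1) (Steps.bwd (nat_lit 2) (Steps.fwd (nat_lit 8192) (Steps.fwd (nat_lit 24576) (Steps.fwd (nat_lit 8192) (Steps.fwd (nat_lit 16384) (Steps.bwd (nat_lit 1) (Steps.fwd (nat_lit 16384) (Steps.fwd (nat_lit 8192) (Steps.bwd (nat_lit 4) (Steps.fwd (nat_lit 24576) Steps.nil))))))))))) (nat_lit 194) (nat_lit 1),
  Rule.mk (nat_lit 19) (nat_lit 179) (Steps.bwd (nat_lit 3) (Steps.fwd (nat_lit 32768) (Steps.bwd (nat_lit 1) (Steps.bwd (nat_lit 2) (Steps.fwd (nat_lit 8192) (Steps.fwd (nat_lit 24576) (Steps.fwd (nat_lit 8192) (Steps.fwd (nat_lit 16384) (Steps.bwd (nat_lit 1) (Steps.fwd (nat_lit 16384) (Steps.fwd (nat_lit 8192) Steps.nil))))))))))) (nat_lit 195) (nat_lit 0),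
  Rule.mk (nat_lit 2) (nat_lit 119) (Steps.bwd (nat_lit 14) (Steps.bwd (nat_lit 3) (Steps.bwd (nat_lit 5) (Steps.fwd (nat_lit 49152) (Steps.fwd (nat_lit 57344) (Steps.fwd (nat_lit 98304) (Steps.fwd (nat_lit 114688) Steps.nil))))))) (nat_lit 188) (nat_lit 1),
  Rule.mk (nat_lit 5) (nat_lit 164) (Steps.bwd (nat_lit 2) (Steps.fwd (nat_lit 49152) (Steps.bwd (nat_lit 3) (Steps.bwd (nat_lit 14) (Steps.fwd (nat_lit 106496) (Steps.fwd (nat_lit 98304) (Steps.bwd (nat_lit 11) (Steps.bwd (nat_lit 10) (Steps.fwd (nat_lit 73728) (Steps.fwd (nat_lit 49152) Steps.nil)))))))))) (nat_lit 173) (nat_lit 8),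
  Rule.mk (nat_lit 1) (nat_lit 164) (Steps.bwd (nat_lit 7) (Steps.bwd (nat_lit 1) (Steps.bwd (nat_lit 14) (Steps.fwd (nat_lit 106496) (Steps.fwd (nat_lit 98304) (Steps.bwd (nat_lit 11) (Steps.bwd (nat_lit 10) (Steps.fwd (nat_lit 73728) (Steps.fwd (nat_lit 49152) (Steps.bwd (nat_lit 5) Steps.nil)))))))))) (nat_lit 153) (nat_lit 9),
  Rule.mk (nat_lit 16) (nat_lit 179) (Steps.bwd (nat_lit 1) (Steps.bwd (nat_lit 3) (Steps.bwd (nat_lit 1) (Steps.bwd (nat_lit 3) (Steps.fwd (nat_lit 8192) (Steps.fwd (nat_lit 16384) (Steps.fwd (nat_lit 8192) (Steps.fwd (nat_lit 24576) (Steps.bwd (nat_lit 4) (Steps.fwd (nat_lit 8192) (Steps.fwd (nat_lit 24576) Steps.nil))))))))))) (nat_lit 190) (nat_lit 1),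
  Rule.mk (nat_lit 4) (nat_lit 59) (Steps.bwd (nat_lit 10) (Steps.bwd (nat_lit 4) (Steps.fwd (nat_lit 81920) Steps.nil))) (nat_lit 66) (nat_lit 0),
  Rule.mk (nat_lit 9) (nat_lit 59) (Steps.bwd (nat_lit 10) (Steps.bwd (nat_lit 9) (Steps.fwd (nat_lit 81920) Steps.nil))) (nat_lit 76) (nat_lit 0),
  Rule.mk (nat_lit 2) (nat_lit 104) (Steps.bwd (nat_lit 12) (Steps.bwd (nat_lit 3) (Steps.bwd (nat_lit 4) (Steps.fwd (nat_lit 40960) (Steps.fwd (nat_lit 65536) (Steps.bwd (nat_lit 9) Steps.nil)))))) (nat_lit 184) (nat_lit 1),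
  Rule.mk (nat_lit 14) (nat_lit 59) (Steps.bwd (nat_lit 11) (Steps.bwd (nat_lit 14) (Steps.bwd (nat_lit 11) Steps.nil))) (nat_lit 140) (nat_lit 1),
  Rule.mk (nat_lit 1) (nat_lit 104) (Steps.bwd (nat_lit 11) (Steps.fwd (nat_lit 8192) (Steps.fwd (nat_lit 49152) (Steps.fwd (nat_lit 90112) (Steps.fwd (nat_lit 98304) (Steps.fwd (nat_lit 114688) Steps.nil)))))) (nat_lit 160) (nat_lit 1),
  Rule.mk (nat_lit 5) (nat_lit 59) (Steps.bwd (nat_lit 10) (Steps.fwd (nat_lit 40960) (Steps.fwd (nat_lit 81920) Steps.nil))) (nat_lit 68) (nat_lit 0),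
  Rule.mk (nat_lit 7) (nat_lit 59) (Steps.bwd (nat_lit 10) (Steps.bwd (nat_lit 7) (Steps.bwd (nat_lit 10) Steps.nil))) (nat_lit 72) (nat_lit 0),
  Rule.mk (nat_lit 1) (nat_lit 104) (Steps.bwd (nat_lit 11) (Steps.bwd (nat_lit 1) (Steps.fwd (nat_lit 49152) (Steps.fwd (nat_lit 90112) (Steps.bwd (nat_lit 12) (Steps.fwd (nat_lit 114688) Steps.nil)))))) (nat_lit 160) (nat_lit 1),
  Rule.mk (nat_lit 4) (nat_lit 59) (Steps.bwd (nat_lit 11) (Steps.fwd (nat_lit 32768) (Steps.fwd (nat_lit 90112) Steps.nil))) (nat_lit 78) (nat_lit 0),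
  Rule.mk (nat_lit 1) (nat_lit 104) (Steps.bwd (nat_lit 11) (Steps.fwd (nat_lit 8192) (Steps.fwd (nat_lit 114688) (Steps.fwd (nat_lit 98304) (Steps.bwd (nat_lit 11) (Steps.fwd (nat_lit 49152) Steps.nil)))))) (nat_lit 161) (nat_lit 5),
  Rule.mk (nat_lit 1) (nat_lit 179) (Steps.bwd (nat_lit 19) (Steps.bwd (nat_lit 3) (Steps.bwd (nat_lit 4) (Steps.bwd (nat_lit 1) (Steps.fwd (nat_lit 24576) (Steps.fwd (nat_lit 8192) (Steps.bwd (nat_lit 2) (Steps.bwd (nat_lit 1) (Steps.fwd (nat_lit 16384) (Steps.bwd (nat_lit 1) (Steps.bwd (nat_lit 3) Steps.nil))))))))))) (nat_lit 195) (nat_lit 11),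
  Rule.mk (nat_lit 6) (nat_lit 149) (Steps.bwd (nat_lit 1) (Steps.bwd (nat_lit 4) (Steps.fwd (nat_lit 40960) (Steps.bwd (nat_lit 8) (Steps.bwd (nat_lit 9) (Steps.fwd (nat_lit 98304) (Steps.bwd (nat_lit 13) (Steps.bwd (nat_lit 14) (Steps.bwd (nat_lit 1) Steps.nil))))))))) (nat_lit 150) (nat_lit 2),
  Rule.mk (nat_lit 2) (nat_lit 164) (Steps.bwd (nat_lit 11) (Steps.bwd (nat_lit 3) (Steps.bwd (nat_lit 14) (Steps.fwd (nat_lit 98304) (Steps.bwd (nat_lit 11) (Steps.bwd (nat_lit 10) (Steps.bwd (nat_lit 9) (Steps.fwd (nat_lit 65536) (Steps.bwd (nat_lit 5) (Steps.bwd (nat_lit 4) Steps.nil)))))))))) (nat_lit 183) (nat_lit 9),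
  Rule.mk (nat_lit 12) (nat_lit 59) (Steps.bwd (nat_lit 11) (Steps.bwd (nat_lit 12) (Steps.fwd (nat_lit 90112) Steps.nil))) (nat_lit 106) (nat_lit 1),
  Rule.mk (nat_lit 3) (nat_lit 104) (Steps.fwd (nat_lit 73728) (Steps.bwd (nat_lit 8) (Steps.bwd (nat_lit 5) (Steps.bwd (nat_lit 4) (Steps.bwd (nat_lit 2) (Steps.bwd (nat_lit 12) Steps.nil)))))) (nat_lit 185) (nat_lit 0),
  Rule.mk (nat_lit 17) (nat_lit 179) (Steps.bwd (nat_lit 2) (Steps.bwd (nat_lit 1) (Steps.bwd (nat_lit 2) (Steps.bwd (nat_lit 1) (Steps.bwd (nat_lit 3) (Steps.fwd (nat_lit 8192) (Steps.fwd (nat_lit 16384) (Steps.fwd (nat_lit 8192) (Steps.bwd (nat_lit 4) (Steps.fwd (nat_lit 24576) (Steps.bwd (nat_lit 1) Steps.nil))))))))))) (nat_lit 193) (nat_lit 0),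
  Rule.mk (nat_lit 20) (nat_lit 179) (Steps.fwd (nat_lit 8192) (Steps.bwd (nat_lit 2) (Steps.fwd (nat_lit 8192) (Steps.bwd (nat_lit 2) (Steps.fwd (nat_lit 8192) (Steps.fwd (nat_lit 16384) (Steps.bwd (nat_lit 1) (Steps.fwd (nat_lit 16384) (Steps.bwd (nat_lit 1) (Steps.bwd (nat_lit 4) (Steps.fwd (nat_lit 24576) Steps.nil))))))))))) (nat_lit 194) (nat_lit 1),
  Rule.mk (nat_lit 19) (nat_lit 179) (Steps.bwd (nat_lit 3) (Steps.fwd (nat_lit 32768) (Steps.bwd (nat_lit 1) (Steps.bwd (nat_lit 2) (Steps.bwd (nat_lit 1) (Steps.fwd (nat_lit 24576) (Steps.fwd (nat_lit 8192) (Steps.fwd (nat_lit 16384) (Steps.fwd (nat_lit 8192) (Steps.fwd (nat_lit 16384) (Steps.bwd (nat_lit 1) Steps.nil))))))))))) (nat_lit 195) (nat_lit 0),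
  Rule.mk (nat_lit 15) (nat_lit 179) (Steps.bwd (nat_lit 3) (Steps.fwd (nat_lit 8192) (Steps.bwd (nat_lit 4) (Steps.bwd (nat_lit 3) (Steps.bwd (nat_lit 1) (Steps.bwd (nat_lit 2) (Steps.bwd (nat_lit 1) (Steps.fwd (nat_lit 24576) (Steps.fwd (nat_lit 8192) (Steps.bwd (nat_lit 2) (Steps.bwd (nat_lit 1) Steps.nil))))))))))) (nat_lit 191) (nat_lit 0),
  Rule.mk (nat_lit 2) (nat_lit 179) (Steps.bwd (nat_lit 20) (Steps.bwd (nat_lit 1) (Steps.bwd (nat_lit 2) (Steps.bwd (nat_lit 1) (Steps.fwd (nat_lit 24576) (Steps.fwd (nat_lit 8192) (Steps.fwd (nat_lit 16384) (Steps.fwd (nat_lit 8192) (Steps.fwd (nat_lit 16384) (Steps.bwd (nat_lit 1) (Steps.bwd (nat_lit 4) Steps.nil))))))))))) (nat_lit 194) (nat_lit 0),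
  Rule.mk (nat_lit 1) (nat_lit 179) (Steps.bwd (nat_lit 17) (Steps.bwd (nat_lit 2) (Steps.bwd (nat_lit 1) (Steps.fwd (nat_lit 24576) (Steps.fwd (nat_lit 8192) (Steps.fwd (nat_lit 16384) (Steps.fwd (nat_lit 8192) (Steps.fwd (nat_lit 16384) (Steps.bwd (nat_lit 1) (Steps.bwd (nat_lit 4) (Steps.bwd (nat_lit 2) Steps.nil))))))))))) (nat_lit 193) (nat_lit 11),
  Rule.mk (nat_lit 7) (nat_lit 104) (Steps.bwd (nat_lit 3) (Steps.fwd (nat_lit 40960) (Steps.bwd (nat_lit 7) (Steps.bwd (nat_lit 13) (Steps.fwd (nat_lit 114688) (Steps.fwd (nat_lit 24576) Steps.nil)))))) (nat_lit 174) (nat_lit 2),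
  Rule.mk (nat_lit 11) (nat_lit 59) (Steps.bwd (nat_lit 7) (Steps.bwd (nat_lit 11) (Steps.bwd (nat_lit 7) Steps.nil))) (nat_lit 84) (nat_lit 1),
  Rule.mk (nat_lit 3) (nat_lit 119) (Steps.fwd (nat_lit 40960) (Steps.fwd (nat_lit 49152) (Steps.fwd (nat_lit 57344) (Steps.fwd (nat_lit 98304) (Steps.fwd (nat_lit 114688) (Steps.bwd (nat_lit 2) (Steps.bwd (nat_lit 14) Steps.nil))))))) (nat_lit 188) (nat_lit 3),
  Rule.mk (nat_lit 3) (nat_lit 179) (Steps.fwd (nat_lit 8192) (Steps.bwd (nat_lit 4) (Steps.bwd (nat_lit 3) (Steps.fwd (nat_lit 8192) (Steps.bwd (nat_lit 2) (Steps.bwd (nat_lit 1) (Steps.bwd (nat_lit 2) (Steps.bwd (nat_lit 1) (Steps.fwd (nat_lit 24576) (Steps.fwd (nat_lit 8192) (Steps.fwd (nat_lit 131072) Steps.nil))))))))))) (nat_lit 191) (nat_lit 1),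
  Rule.mk (nat_lit 6) (nat_lit 59) (Steps.bwd (nat_lit 11) (Steps.bwd (nat_lit 6) (Steps.fwd (nat_lit 90112) Steps.nil))) (nat_lit 82) (nat_lit 0),
  Rule.mk (nat_lit 2) (nat_lit 104) (Steps.fwd (nat_lit 81920) (Steps.bwd (nat_lit 3) (Steps.fwd (nat_lit 114688) (Steps.fwd (nat_lit 98304) (Steps.fwd (nat_lit 90112) (Steps.bwd (nat_lit 6) Steps.nil)))))) (nat_lit 181) (nat_lit 5),
  Rule.mk (nat_lit 4) (nat_lit 59) (Steps.bwd (nat_lit 1) (Steps.bwd (nat_lit 5) (Steps.fwd (nat_lit 8192) Steps.nil))) (nat_lit 146) (nat_lit 2),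
  Rule.mk (nat_lit 10) (nat_lit 134) (Steps.bwd (nat_lit 1) (Steps.bwd (nat_lit 14) (Steps.fwd (nat_lit 90112) (Steps.fwd (nat_lit 73728) (Steps.bwd (nat_lit 8) (Steps.bwd (nat_lit 5) (Steps.bwd (nat_lit 4) (Steps.fwd (nat_lit 8192) Steps.nil)))))))) (nat_lit 159) (nat_lit 8),
  Rule.mk (nat_lit 7) (nat_lit 59) (Steps.bwd (nat_lit 11) (Steps.fwd (nat_lit 57344) (Steps.fwd (nat_lit 90112) Steps.nil))) (nat_lit 84) (nat_lit 0),
  Rule.mk (nat_lit 1) (nat_lit 104) (Steps.bwd (nat_lit 11) (Steps.fwd (nat_lit 8192) (Steps.bwd (nat_lit 6) (Steps.bwd (nat_lit 11) (Steps.bwd (nat_lit 12) (Steps.bwd (nat_lit 14) Steps.nil)))))) (nat_lit 160) (nat_lit 1),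
  Rule.mk (nat_lit 9) (nat_lit 134) (Steps.bwd (nat_lit 3) (Steps.bwd (nat_lit 4) (Steps.fwd (nat_lit 40960) (Steps.bwd (nat_lit 8) (Steps.fwd (nat_lit 73728) (Steps.bwd (nat_lit 11) (Steps.fwd (nat_lit 114688) (Steps.fwd (nat_lit 24576) Steps.nil)))))))) (nat_lit 178) (nat_lit 2),
  Rule.mk (nat_lit 13) (nat_lit 104) (Steps.bwd (nat_lit 1) (Steps.fwd (nat_lit 32768) (Steps.fwd (nat_lit 40960) (Steps.bwd (nat_lit 8) (Steps.bwd (nat_lit 9) (Steps.fwd (nat_lit 8192) Steps.nil)))))) (nat_lit 164) (nat_lit 2),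
  Rule.mk (nat_lit 10) (nat_lit 134) (Steps.bwd (nat_lit 1) (Steps.fwd (nat_lit 32768) (Steps.fwd (nat_lit 40960) (Steps.bwd (nat_lit 8) (Steps.bwd (nat_lit 9) (Steps.fwd (nat_lit 90112) (Steps.bwd (nat_lit 14) (Steps.fwd (nat_lit 8192) Steps.nil)))))))) (nat_lit 158) (nat_lit 2),
  Rule.mk (nat_lit 2) (nat_lit 89) (Steps.fwd (nat_lit 65536) (Steps.fwd (nat_lit 16384) (Steps.fwd (nat_lit 32768) (Steps.fwd (nat_lit 57344) (Steps.bwd (nat_lit 14) Steps.nil))))) (nat_lit 176) (nat_lit 1),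
  Rule.mk (nat_lit 10) (nat_lit 134) (Steps.bwd (nat_lit 1) (Steps.fwd (nat_lit 32768) (Steps.bwd (nat_lit 5) (Steps.fwd (nat_lit 65536) (Steps.fwd (nat_lit 73728) (Steps.bwd (nat_lit 11) (Steps.bwd (nat_lit 14) (Steps.bwd (nat_lit 1) Steps.nil)))))))) (nat_lit 158) (nat_lit 2),
  Rule.mk (nat_lit 3) (nat_lit 104) (Steps.bwd (nat_lit 6) (Steps.fwd (nat_lit 90112) (Steps.bwd (nat_lit 12) (Steps.bwd (nat_lit 14) (Steps.bwd (nat_lit 2) (Steps.bwd (nat_lit 10) Steps.nil)))))) (nat_lit 180) (nat_lit 3),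
  Rule.mk (nat_lit 7) (nat_lit 59) (Steps.bwd (nat_lit 10) (Steps.fwd (nat_lit 57344) (Steps.fwd (nat_lit 81920) Steps.nil))) (nat_lit 72) (nat_lit 0),
  Rule.mk (nat_lit 13) (nat_lit 59) (Steps.bwd (nat_lit 10) (Steps.bwd (nat_lit 13) (Steps.fwd (nat_lit 81920) Steps.nil))) (nat_lit 120) (nat_lit 1),
  Rule.mk (nat_lit 3) (nat_lit 104) (Steps.bwd (nat_lit 14) (Steps.bwd (nat_lit 13) (Steps.fwd (nat_lit 57344) (Steps.fwd (nat_lit 40960) (Steps.bwd (nat_lit 2) (Steps.fwd (nat_lit 57344) Steps.nil)))))) (nat_lit 175) (nat_lit 0),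
  Rule.mk (nat_lit 2) (nat_lit 119) (Steps.fwd (nat_lit 114688) (Steps.bwd (nat_lit 3) (Steps.bwd (nat_lit 14) (Steps.fwd (nat_lit 98304) (Steps.fwd (nat_lit 57344) (Steps.bwd (nat_lit 6) (Steps.fwd (nat_lit 40960) Steps.nil))))))) (nat_lit 189) (nat_lit 6),
  Rule.mk (nat_lit 8) (nat_lit 59) (Steps.bwd (nat_lit 10) (Steps.bwd (nat_lit 8) (Steps.fwd (nat_lit 81920) Steps.nil))) (nat_lit 74) (nat_lit 0),
  Rule.mk (nat_lit 2) (nat_lit 104) (Steps.fwd (nat_lit 98304) (Steps.bwd (nat_lit 3) (Steps.fwd (nat_lit 32768) (Steps.fwd (nat_lit 40960) (Steps.bwd (nat_lit 8) (Steps.bwd (nat_lit 9) Steps.nil)))))) (nat_lit 184) (nat_lit 1),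
  Rule.mk (nat_lit 13) (nat_lit 104) (Steps.bwd (nat_lit 1) (Steps.bwd (nat_lit 9) (Steps.bwd (nat_lit 8) (Steps.fwd (nat_lit 40960) (Steps.bwd (nat_lit 4) (Steps.fwd (nat_lit 8192) Steps.nil)))))) (nat_lit 165) (nat_lit 6)]
noncomputable def R_22 : List (Rule) := [Rule.mk (nat_lit 14) (nat_lit 119) (Steps.bwd (nat_lit 3) (Steps.bwd (nat_lit 5) (Steps.fwd (nat_lit 49152) (Steps.fwd (nat_lit 57344) (Steps.bwd (nat_lit 12) (Steps.fwd (nat_lit 114688) (Steps.bwd (nat_lit 2) Steps.nil))))))) (nat_lit 188) (nat_lit 2),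
  Rule.mk (nat_lit 5) (nat_lit 149) (Steps.bwd (nat_lit 3) (Steps.bwd (nat_lit 4) (Steps.bwd (nat_lit 5) (Steps.fwd (nat_lit 65536) (Steps.fwd (nat_lit 73728) (Steps.bwd (nat_lit 12) (Steps.bwd (nat_lit 13) (Steps.fwd (nat_lit 114688) (Steps.fwd (nat_lit 24576) Steps.nil))))))))) (nat_lit 170) (nat_lit 2),
  Rule.mk (nat_lit 6) (nat_lit 149) (Steps.bwd (nat_lit 1) (Steps.bwd (nat_lit 4) (Steps.bwd (nat_lit 5) (Steps.fwd (nat_lit 65536) (Steps.bwd (nat_lit 9) (Steps.fwd (nat_lit 98304) (Steps.bwd (nat_lit 13) (Steps.bwd (nat_lit 14) (Steps.bwd (nat_lit 1) Steps.nil))))))))) (nat_lit 150) (nat_lit 2),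
  Rule.mk (nat_lit 14) (nat_lit 164) (Steps.bwd (nat_lit 1) (Steps.bwd (nat_lit 12) (Steps.fwd (nat_lit 8192) (Steps.bwd (nat_lit 4) (Steps.fwd (nat_lit 40960) (Steps.bwd (nat_lit 8) (Steps.bwd (nat_lit 9) (Steps.bwd (nat_lit 10) (Steps.fwd (nat_lit 90112) (Steps.bwd (nat_lit 12) Steps.nil)))))))))) (nat_lit 162) (nat_lit 0),
  Rule.mk (nat_lit 2) (nat_lit 119) (Steps.bwd (nat_lit 14) (Steps.bwd (nat_lit 3) (Steps.fwd (nat_lit 40960) (Steps.bwd (nat_lit 6) (Steps.fwd (nat_lit 57344) (Steps.bwd (nat_lit 12) (Steps.bwd (nat_lit 14) Steps.nil))))))) (nat_lit 188) (nat_lit 1),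
  Rule.mk (nat_lit 1) (nat_lit 104) (Steps.bwd (nat_lit 11) (Steps.fwd (nat_lit 8192) (Steps.fwd (nat_lit 114688) (Steps.fwd (nat_lit 98304) (Steps.bwd (nat_lit 11) (Steps.bwd (nat_lit 6) Steps.nil)))))) (nat_lit 161) (nat_lit 5),
  Rule.mk (nat_lit 9) (nat_lit 89) (Steps.bwd (nat_lit 1) (Steps.bwd (nat_lit 4) (Steps.bwd (nat_lit 7) (Steps.bwd (nat_lit 14) (Steps.fwd (nat_lit 8192) Steps.nil))))) (nat_lit 156) (nat_lit 2),
  Rule.mk (nat_lit 11) (nat_lit 59) (Steps.bwd (nat_lit 9) (Steps.fwd (nat_lit 90112) (Steps.bwd (nat_lit 9) Steps.nil))) (nat_lit 88) (nat_lit 1),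
  Rule.mk (nat_lit 1) (nat_lit 89) (Steps.bwd (nat_lit 9) (Steps.bwd (nat_lit 1) (Steps.bwd (nat_lit 4) (Steps.bwd (nat_lit 7) (Steps.fwd (nat_lit 114688) Steps.nil))))) (nat_lit 156) (nat_lit 1),
  Rule.mk (nat_lit 18) (nat_lit 179) (Steps.bwd (nat_lit 1) (Steps.bwd (nat_lit 3) (Steps.fwd (nat_lit 32768) (Steps.bwd (nat_lit 1) (Steps.bwd (nat_lit 2) (Steps.bwd (nat_lit 1) (Steps.bwd (nat_lit 2) (Steps.fwd (nat_lit 8192) (Steps.bwd (nat_lit 3) (Steps.bwd (nat_lit 1) (Steps.fwd (nat_lit 16384) Steps.nil))))))))))) (nat_lit 192) (nat_lit 1),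
  Rule.mk (nat_lit 19) (nat_lit 179) (Steps.bwd (nat_lit 3) (Steps.fwd (nat_lit 32768) (Steps.bwd (nat_lit 1) (Steps.bwd (nat_lit 2) (Steps.bwd (nat_lit 1) (Steps.bwd (nat_lit 2) (Steps.fwd (nat_lit 8192) (Steps.bwd (nat_lit 3) (Steps.bwd (nat_lit 1) (Steps.fwd (nat_lit 16384) (Steps.fwd (nat_lit 8192) Steps.nil))))))))))) (nat_lit 195) (nat_lit 0),
  Rule.mk (nat_lit 2) (nat_lit 104) (Steps.bwd (nat_lit 12) (Steps.fwd (nat_lit 16384) (Steps.bwd (nat_lit 4) (Steps.bwd (nat_lit 5) (Steps.fwd (nat_lit 65536) (Steps.bwd (nat_lit 9) Steps.nil)))))) (nat_lit 184) (nat_lit 1),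
  Rule.mk (nat_lit 11) (nat_lit 59) (Steps.bwd (nat_lit 13) (Steps.fwd (nat_lit 90112) (Steps.bwd (nat_lit 13) Steps.nil))) (nat_lit 122) (nat_lit 0),
  Rule.mk (nat_lit 2) (nat_lit 89) (Steps.fwd (nat_lit 65536) (Steps.fwd (nat_lit 16384) (Steps.fwd (nat_lit 32768) (Steps.bwd (nat_lit 7) (Steps.bwd (nat_lit 14) Steps.nil))))) (nat_lit 176) (nat_lit 1),
  Rule.mk (nat_lit 1) (nat_lit 89) (Steps.bwd (nat_lit 9) (Steps.fwd (nat_lit 8192) (Steps.bwd (nat_lit 4) (Steps.fwd (nat_lit 57344) (Steps.fwd (nat_lit 114688) Steps.nil))))) (nat_lit 156) (nat_lit 1),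
  Rule.mk (nat_lit 3) (nat_lit 104) (Steps.bwd (nat_lit 14) (Steps.bwd (nat_lit 12) (Steps.bwd (nat_lit 11) (Steps.bwd (nat_lit 6) (Steps.fwd (nat_lit 24576) (Steps.bwd (nat_lit 10) Steps.nil)))))) (nat_lit 181) (nat_lit 0),
  Rule.mk (nat_lit 1) (nat_lit 104) (Steps.bwd (nat_lit 13) (Steps.fwd (nat_lit 8192) (Steps.bwd (nat_lit 4) (Steps.fwd (nat_lit 40960) (Steps.bwd (nat_lit 8) (Steps.bwd (nat_lit 9) Steps.nil)))))) (nat_lit 164) (nat_lit 1),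
  Rule.mk (nat_lit 2) (nat_lit 104) (Steps.bwd (nat_lit 12) (Steps.bwd (nat_lit 3) (Steps.bwd (nat_lit 4) (Steps.fwd (nat_lit 40960) (Steps.bwd (nat_lit 8) (Steps.bwd (nat_lit 9) Steps.nil)))))) (nat_lit 184) (nat_lit 1),
  Rule.mk (nat_lit 14) (nat_lit 59) (Steps.bwd (nat_lit 11) (Steps.fwd (nat_lit 114688) (Steps.fwd (nat_lit 90112) Steps.nil))) (nat_lit 140) (nat_lit 1),
  Rule.mk (nat_lit 11) (nat_lit 104) (Steps.bwd (nat_lit 1) (Steps.bwd (nat_lit 6) (Steps.fwd (nat_lit 90112) (Steps.bwd (nat_lit 12) (Steps.bwd (nat_lit 14) (Steps.fwd (nat_lit 8192) Steps.nil)))))) (nat_lit 160) (nat_lit 2),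
  Rule.mk (nat_lit 3) (nat_lit 149) (Steps.bwd (nat_lit 4) (Steps.bwd (nat_lit 5) (Steps.bwd (nat_lit 8) (Steps.fwd (nat_lit 73728) (Steps.bwd (nat_lit 12) (Steps.bwd (nat_lit 13) (Steps.fwd (nat_lit 114688) (Steps.bwd (nat_lit 2) (Steps.bwd (nat_lit 5) Steps.nil))))))))) (nat_lit 170) (nat_lit 3),
  Rule.mk (nat_lit 8) (nat_lit 89) (Steps.bwd (nat_lit 3) (Steps.bwd (nat_lit 4) (Steps.bwd (nat_lit 7) (Steps.bwd (nat_lit 14) (Steps.bwd (nat_lit 2) Steps.nil))))) (nat_lit 176) (nat_lit 2),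
  Rule.mk (nat_lit 2) (nat_lit 104) (Steps.bwd (nat_lit 10) (Steps.bwd (nat_lit 3) (Steps.bwd (nat_lit 14) (Steps.bwd (nat_lit 12) (Steps.fwd (nat_lit 90112) (Steps.bwd (nat_lit 6) Steps.nil)))))) (nat_lit 181) (nat_lit 5),
  Rule.mk (nat_lit 1) (nat_lit 104) (Steps.bwd (nat_lit 8) (Steps.fwd (nat_lit 8192) (Steps.bwd (nat_lit 5) (Steps.bwd (nat_lit 7) (Steps.bwd (nat_lit 13) (Steps.bwd (nat_lit 14) Steps.nil)))))) (nat_lit 154) (nat_lit 1),
  Rule.mk (nat_lit 1) (nat_lit 134) (Steps.fwd (nat_lit 81920) (Steps.bwd (nat_lit 1) (Steps.fwd (nat_lit 32768) (Steps.fwd (nat_lit 40960) (Steps.bwd (nat_lit 8) (Steps.fwd (nat_lit 73728) (Steps.bwd (nat_lit 11) (Steps.bwd (nat_lit 14) Steps.nil)))))))) (nat_lit 158) (nat_lit 1),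
  Rule.mk (nat_lit 13) (nat_lit 104) (Steps.bwd (nat_lit 1) (Steps.bwd (nat_lit 4) (Steps.bwd (nat_lit 5) (Steps.bwd (nat_lit 8) (Steps.fwd (nat_lit 73728) (Steps.bwd (nat_lit 1) Steps.nil)))))) (nat_lit 164) (nat_lit 2),
  Rule.mk (nat_lit 11) (nat_lit 59) (Steps.fwd (nat_lit 106496) (Steps.fwd (nat_lit 90112) (Steps.bwd (nat_lit 13) Steps.nil))) (nat_lit 122) (nat_lit 0),
  Rule.mk (nat_lit 2) (nat_lit 164) (Steps.bwd (nat_lit 11) (Steps.bwd (nat_lit 3) (Steps.bwd (nat_lit 4) (Steps.bwd (nat_lit 5) (Steps.fwd (nat_lit 65536) (Steps.bwd (nat_lit 9) (Steps.fwd (nat_lit 81920) (Steps.fwd (nat_lit 90112) (Steps.fwd (nat_lit 98304) (Steps.bwd (nat_lit 14) Steps.nil)))))))))) (nat_lit 182) (nat_lit 1),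
  Rule.mk (nat_lit 14) (nat_lit 104) (Steps.bwd (nat_lit 2) (Steps.bwd (nat_lit 10) (Steps.fwd (nat_lit 16384) (Steps.bwd (nat_lit 6) (Steps.bwd (nat_lit 11) (Steps.bwd (nat_lit 12) Steps.nil)))))) (nat_lit 180) (nat_lit 0),
  Rule.mk (nat_lit 9) (nat_lit 134) (Steps.bwd (nat_lit 3) (Steps.fwd (nat_lit 114688) (Steps.bwd (nat_lit 11) (Steps.bwd (nat_lit 9) (Steps.fwd (nat_lit 65536) (Steps.bwd (nat_lit 5) (Steps.bwd (nat_lit 4) (Steps.bwd (nat_lit 2) Steps.nil)))))))) (nat_lit 179) (nat_lit 8),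
  Rule.mk (nat_lit 5) (nat_lit 149) (Steps.bwd (nat_lit 3) (Steps.bwd (nat_lit 4) (Steps.bwd (nat_lit 5) (Steps.bwd (nat_lit 8) (Steps.fwd (nat_lit 73728) (Steps.fwd (nat_lit 98304) (Steps.bwd (nat_lit 13) (Steps.fwd (nat_lit 114688) (Steps.bwd (nat_lit 2) Steps.nil))))))))) (nat_lit 170) (nat_lit 2),
  Rule.mk (nat_lit 2) (nat_lit 104) (Steps.bwd (nat_lit 10) (Steps.bwd (nat_lit 3) (Steps.bwd (nat_lit 6) (Steps.bwd (nat_lit 11) (Steps.fwd (nat_lit 98304) (Steps.fwd (nat_lit 114688) Steps.nil)))))) (nat_lit 180) (nat_lit 1),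
  Rule.mk (nat_lit 8) (nat_lit 59) (Steps.bwd (nat_lit 11) (Steps.bwd (nat_lit 8) (Steps.fwd (nat_lit 90112) Steps.nil))) (nat_lit 86) (nat_lit 0),
  Rule.mk (nat_lit 10) (nat_lit 59) (Steps.bwd (nat_lit 11) (Steps.bwd (nat_lit 10) (Steps.fwd (nat_lit 90112) Steps.nil))) (nat_lit 90) (nat_lit 0),
  Rule.mk (nat_lit 3) (nat_lit 119) (Steps.fwd (nat_lit 114688) (Steps.bwd (nat_lit 12) (Steps.fwd (nat_lit 57344) (Steps.fwd (nat_lit 49152) (Steps.bwd (nat_lit 5) (Steps.fwd (nat_lit 24576) (Steps.bwd (nat_lit 14) Steps.nil))))))) (nat_lit 189) (nat_lit 0),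
  Rule.mk (nat_lit 2) (nat_lit 134) (Steps.bwd (nat_lit 9) (Steps.bwd (nat_lit 3) (Steps.bwd (nat_lit 4) (Steps.fwd (nat_lit 40960) (Steps.fwd (nat_lit 65536) (Steps.fwd (nat_lit 73728) (Steps.bwd (nat_lit 11) (Steps.bwd (nat_lit 14) Steps.nil)))))))) (nat_lit 178) (nat_lit 1),
  Rule.mk (nat_lit 11) (nat_lit 104) (Steps.bwd (nat_lit 1) (Steps.bwd (nat_lit 14) (Steps.fwd (nat_lit 98304) (Steps.bwd (nat_lit 11) (Steps.bwd (nat_lit 6) (Steps.bwd (nat_lit 1) Steps.nil)))))) (nat_lit 161) (nat_lit 6),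
  Rule.mk (nat_lit 1) (nat_lit 104) (Steps.bwd (nat_lit 11) (Steps.fwd (nat_lit 8192) (Steps.fwd (nat_lit 49152) (Steps.bwd (nat_lit 11) (Steps.bwd (nat_lit 12) (Steps.bwd (nat_lit 14) Steps.nil)))))) (nat_lit 160) (nat_lit 1),
  Rule.mk (nat_lit 14) (nat_lit 134) (Steps.bwd (nat_lit 1) (Steps.fwd (nat_lit 49152) (Steps.bwd (nat_lit 10) (Steps.bwd (nat_lit 11) (Steps.bwd (nat_lit 12) (Steps.fwd (nat_lit 106496) (Steps.bwd (nat_lit 14) (Steps.fwd (nat_lit 8192) Steps.nil)))))))) (nat_lit 166) (nat_lit 2),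
  Rule.mk (nat_lit 2) (nat_lit 134) (Steps.fwd (nat_lit 73728) (Steps.bwd (nat_lit 3) (Steps.bwd (nat_lit 4) (Steps.fwd (nat_lit 40960) (Steps.bwd (nat_lit 8) (Steps.bwd (nat_lit 9) (Steps.bwd (nat_lit 11) (Steps.bwd (nat_lit 14) Steps.nil)))))))) (nat_lit 178) (nat_lit 1),
  Rule.mk (nat_lit 9) (nat_lit 134) (Steps.bwd (nat_lit 3) (Steps.bwd (nat_lit 4) (Steps.fwd (nat_lit 40960) (Steps.bwd (nat_lit 8) (Steps.bwd (nat_lit 9) (Steps.bwd (nat_lit 11) (Steps.fwd (nat_lit 114688) (Steps.bwd (nat_lit 2) Steps.nil)))))))) (nat_lit 178) (nat_lit 2),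
  Rule.mk (nat_lit 5) (nat_lit 149) (Steps.bwd (nat_lit 3) (Steps.bwd (nat_lit 4) (Steps.fwd (nat_lit 40960) (Steps.bwd (nat_lit 8) (Steps.bwd (nat_lit 9) (Steps.fwd (nat_lit 98304) (Steps.fwd (nat_lit 106496) (Steps.fwd (nat_lit 114688) (Steps.fwd (nat_lit 24576) Steps.nil))))))))) (nat_lit 170) (nat_lit 2),
  Rule.mk (nat_lit 1) (nat_lit 89) (Steps.bwd (nat_lit 4) (Steps.bwd (nat_lit 7) (Steps.fwd (nat_lit 114688) (Steps.bwd (nat_lit 1) (Steps.bwd (nat_lit 9) Steps.nil))))) (nat_lit 156) (nat_lit 3),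
  Rule.mk (nat_lit 1) (nat_lit 134) (Steps.fwd (nat_lit 81920) (Steps.fwd (nat_lit 8192) (Steps.bwd (nat_lit 4) (Steps.bwd (nat_lit 5) (Steps.bwd (nat_lit 8) (Steps.fwd (nat_lit 73728) (Steps.fwd (nat_lit 90112) (Steps.bwd (nat_lit 14) Steps.nil)))))))) (nat_lit 158) (nat_lit 1),
  Rule.mk (nat_lit 2) (nat_lit 134) (Steps.bwd (nat_lit 9) (Steps.bwd (nat_lit 3) (Steps.bwd (nat_lit 4) (Steps.bwd (nat_lit 5) (Steps.bwd (nat_lit 8) (Steps.fwd (nat_lit 73728) (Steps.fwd (nat_lit 90112) (Steps.bwd (nat_lit 14) Steps.nil)))))))) (nat_lit 178) (nat_lit 1),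
  Rule.mk (nat_lit 16) (nat_lit 179) (Steps.bwd (nat_lit 1) (Steps.bwd (nat_lit 3) (Steps.fwd (nat_lit 8192) (Steps.bwd (nat_lit 3) (Steps.fwd (nat_lit 8192) (Steps.bwd (nat_lit 3) (Steps.fwd (nat_lit 8192) (Steps.bwd (nat_lit 2) (Steps.fwd (nat_lit 32768) (Steps.fwd (nat_lit 8192) (Steps.bwd (nat_lit 2) Steps.nil))))))))))) (nat_lit 190) (nat_lit 1),
  Rule.mk (nat_lit 15) (nat_lit 179) (Steps.fwd (nat_lit 16384) (Steps.fwd (nat_lit 8192) (Steps.fwd (nat_lit 32768) (Steps.bwd (nat_lit 3) (Steps.fwd (nat_lit 8192) (Steps.fwd (nat_lit 24576) (Steps.fwd (nat_lit 8192) (Steps.fwd (nat_lit 24576) (Steps.fwd (nat_lit 8192) (Steps.bwd (nat_lit 2) (Steps.fwd (nat_lit 8192) Steps.nil))))))))))) (nat_lit 191) (nat_lit 0),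
  Rule.mk (nat_lit 15) (nat_lit 179) (Steps.fwd (nat_lit 16384) (Steps.fwd (nat_lit 8192) (Steps.bwd (nat_lit 4) (Steps.bwd (nat_lit 3) (Steps.fwd (nat_lit 8192) (Steps.fwd (nat_lit 24576) (Steps.fwd (nat_lit 8192) (Steps.bwd (nat_lit 2) (Steps.fwd (nat_lit 8192) (Steps.fwd (nat_lit 24576) (Steps.bwd (nat_lit 1) Steps.nil))))))))))) (nat_lit 191) (nat_lit 0),
  Rule.mk (nat_lit 13) (nat_lit 104) (Steps.bwd (nat_lit 1) (Steps.bwd (nat_lit 4) (Steps.bwd (nat_lit 5) (Steps.bwd (nat_lit 8) (Steps.fwd (nat_lit 73728) (Steps.fwd (nat_lit 8192) Steps.nil)))))) (nat_lit 164) (nat_lit 2),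
  Rule.mk (nat_lit 12) (nat_lit 104) (Steps.bwd (nat_lit 3) (Steps.bwd (nat_lit 4) (Steps.bwd (nat_lit 5) (Steps.bwd (nat_lit 8) (Steps.fwd (nat_lit 73728) (Steps.fwd (nat_lit 24576) Steps.nil)))))) (nat_lit 184) (nat_lit 2),
  Rule.mk (nat_lit 9) (nat_lit 134) (Steps.bwd (nat_lit 3) (Steps.bwd (nat_lit 4) (Steps.bwd (nat_lit 5) (Steps.bwd (nat_lit 8) (Steps.fwd (nat_lit 73728) (Steps.fwd (nat_lit 90112) (Steps.bwd (nat_lit 14) (Steps.bwd (nat_lit 2) Steps.nil)))))))) (nat_lit 178) (nat_lit 2),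
  Rule.mk (nat_lit 6) (nat_lit 104) (Steps.bwd (nat_lit 2) (Steps.bwd (nat_lit 10) (Steps.bwd (nat_lit 3) (Steps.bwd (nat_lit 14) (Steps.fwd (nat_lit 98304) (Steps.fwd (nat_lit 90112) Steps.nil)))))) (nat_lit 181) (nat_lit 4),
  Rule.mk (nat_lit 11) (nat_lit 59) (Steps.fwd (nat_lit 49152) (Steps.fwd (nat_lit 90112) (Steps.bwd (nat_lit 6) Steps.nil))) (nat_lit 82) (nat_lit 1),
  Rule.mk (nat_lit 2) (nat_lit 104) (Steps.bwd (nat_lit 10) (Steps.fwd (nat_lit 16384) (Steps.bwd (nat_lit 6) (Steps.fwd (nat_lit 90112) (Steps.bwd (nat_lit 12) (Steps.bwd (nat_lit 14) Steps.nil)))))) (nat_lit 180) (nat_lit 1),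
  Rule.mk (nat_lit 16) (nat_lit 179) (Steps.bwd (nat_lit 1) (Steps.fwd (nat_lit 16384) (Steps.bwd (nat_lit 1) (Steps.fwd (nat_lit 16384) (Steps.bwd (nat_lit 1) (Steps.fwd (nat_lit 16384) (Steps.fwd (nat_lit 8192) (Steps.bwd (nat_lit 2) (Steps.fwd (nat_lit 32768) (Steps.bwd (nat_lit 1) (Steps.bwd (nat_lit 2) Steps.nil))))))))))) (nat_lit 190) (nat_lit 1),
  Rule.mk (nat_lit 7) (nat_lit 104) (Steps.bwd (nat_lit 3) (Steps.fwd (nat_lit 40960) (Steps.fwd (nat_lit 57344) (Steps.bwd (nat_lit 13) (Steps.fwd (nat_lit 114688) (Steps.bwd (nat_lit 2) Steps.nil)))))) (nat_lit 174) (nat_lit 2),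
  Rule.mk (nat_lit 14) (nat_lit 119) (Steps.bwd (nat_lit 3) (Steps.fwd (nat_lit 40960) (Steps.bwd (nat_lit 6) (Steps.fwd (nat_lit 57344) (Steps.fwd (nat_lit 98304) (Steps.fwd (nat_lit 114688) (Steps.fwd (nat_lit 24576) Steps.nil))))))) (nat_lit 188) (nat_lit 2),
  Rule.mk (nat_lit 5) (nat_lit 149) (Steps.bwd (nat_lit 3) (Steps.bwd (nat_lit 4) (Steps.fwd (nat_lit 40960) (Steps.bwd (nat_lit 8) (Steps.bwd (nat_lit 9) (Steps.bwd (nat_lit 12) (Steps.bwd (nat_lit 13) (Steps.bwd (nat_lit 14) (Steps.fwd (nat_lit 24576) Steps.nil))))))))) (nat_lit 170) (nat_lit 2),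
  Rule.mk (nat_lit 8) (nat_lit 59) (Steps.bwd (nat_lit 11) (Steps.bwd (nat_lit 8) (Steps.bwd (nat_lit 11) Steps.nil))) (nat_lit 86) (nat_lit 0),
  Rule.mk (nat_lit 9) (nat_lit 59) (Steps.bwd (nat_lit 11) (Steps.fwd (nat_lit 73728) (Steps.fwd (nat_lit 90112) Steps.nil))) (nat_lit 88) (nat_lit 0),
  Rule.mk (nat_lit 1) (nat_lit 104) (Steps.fwd (nat_lit 73728) (Steps.fwd (nat_lit 65536) (Steps.bwd (nat_lit 5) (Steps.bwd (nat_lit 4) (Steps.bwd (nat_lit 1) (Steps.bwd (nat_lit 13) Steps.nil)))))) (nat_lit 165) (nat_lit 0),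
  Rule.mk (nat_lit 5) (nat_lit 59) (Steps.bwd (nat_lit 11) (Steps.bwd (nat_lit 5) (Steps.fwd (nat_lit 90112) Steps.nil))) (nat_lit 80) (nat_lit 0),
  Rule.mk (nat_lit 3) (nat_lit 119) (Steps.bwd (nat_lit 14) (Steps.fwd (nat_lit 98304) (Steps.bwd (nat_lit 7) (Steps.fwd (nat_lit 49152) (Steps.bwd (nat_lit 5) (Steps.fwd (nat_lit 24576) (Steps.bwd (nat_lit 14) Steps.nil))))))) (nat_lit 189) (nat_lit 0),
  Rule.mk (nat_lit 1) (nat_lit 134) (Steps.fwd (nat_lit 81920) (Steps.bwd (nat_lit 1) (Steps.fwd (nat_lit 32768) (Steps.fwd (nat_lit 40960) (Steps.fwd (nat_lit 65536) (Steps.bwd (nat_lit 9) (Steps.fwd (nat_lit 90112) (Steps.bwd (nat_lit 14) Steps.nil)))))))) (nat_lit 158) (nat_lit 1)]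
noncomputable def R_23 : List (Rule) := [Rule.mk (nat_lit 9) (nat_lit 104) (Steps.bwd (nat_lit 2) (Steps.bwd (nat_lit 12) (Steps.bwd (nat_lit 3) (Steps.fwd (nat_lit 32768) (Steps.bwd (nat_lit 5) (Steps.fwd (nat_lit 65536) Steps.nil)))))) (nat_lit 184) (nat_lit 0),
  Rule.mk (nat_lit 10) (nat_lit 59) (Steps.fwd (nat_lit 73728) (Steps.fwd (nat_lit 81920) (Steps.bwd (nat_lit 9) Steps.nil))) (nat_lit 76) (nat_lit 1),
  Rule.mk (nat_lit 1) (nat_lit 104) (Steps.fwd (nat_lit 106496) (Steps.bwd (nat_lit 1) (Steps.fwd (nat_lit 32768) (Steps.bwd (nat_lit 5) (Steps.fwd (nat_lit 65536) (Steps.bwd (nat_lit 9) Steps.nil)))))) (nat_lit 164) (nat_lit 1),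
  Rule.mk (nat_lit 9) (nat_lit 134) (Steps.bwd (nat_lit 3) (Steps.bwd (nat_lit 4) (Steps.bwd (nat_lit 5) (Steps.fwd (nat_lit 65536) (Steps.bwd (nat_lit 9) (Steps.bwd (nat_lit 11) (Steps.bwd (nat_lit 14) (Steps.bwd (nat_lit 2) Steps.nil)))))))) (nat_lit 178) (nat_lit 2),
  Rule.mk (nat_lit 2) (nat_lit 119) (Steps.bwd (nat_lit 14) (Steps.fwd (nat_lit 16384) (Steps.fwd (nat_lit 114688) (Steps.fwd (nat_lit 98304) (Steps.bwd (nat_lit 7) (Steps.bwd (nat_lit 6) (Steps.bwd (nat_lit 5) Steps.nil))))))) (nat_lit 189) (nat_lit 6),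
  Rule.mk (nat_lit 8) (nat_lit 104) (Steps.bwd (nat_lit 1) (Steps.bwd (nat_lit 5) (Steps.bwd (nat_lit 7) (Steps.bwd (nat_lit 13) (Steps.bwd (nat_lit 14) (Steps.fwd (nat_lit 8192) Steps.nil)))))) (nat_lit 154) (nat_lit 2),
  Rule.mk (nat_lit 10) (nat_lit 134) (Steps.bwd (nat_lit 1) (Steps.bwd (nat_lit 4) (Steps.fwd (nat_lit 40960) (Steps.fwd (nat_lit 65536) (Steps.bwd (nat_lit 9) (Steps.fwd (nat_lit 90112) (Steps.fwd (nat_lit 114688) (Steps.fwd (nat_lit 8192) Steps.nil)))))))) (nat_lit 158) (nat_lit 2),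
  Rule.mk (nat_lit 11) (nat_lit 59) (Steps.fwd (nat_lit 81920) (Steps.bwd (nat_lit 11) (Steps.bwd (nat_lit 10) Steps.nil))) (nat_lit 90) (nat_lit 1),
  Rule.mk (nat_lit 3) (nat_lit 89) (Steps.fwd (nat_lit 32768) (Steps.fwd (nat_lit 57344) (Steps.bwd (nat_lit 14) (Steps.fwd (nat_lit 24576) (Steps.bwd (nat_lit 8) Steps.nil))))) (nat_lit 176) (nat_lit 3),
  Rule.mk (nat_lit 10) (nat_lit 134) (Steps.bwd (nat_lit 1) (Steps.fwd (nat_lit 114688) (Steps.fwd (nat_lit 90112) (Steps.bwd (nat_lit 9) (Steps.fwd (nat_lit 65536) (Steps.fwd (nat_lit 40960) (Steps.bwd (nat_lit 4) (Steps.fwd (nat_lit 8192) Steps.nil)))))))) (nat_lit 159) (nat_lit 8),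
  Rule.mk (nat_lit 3) (nat_lit 134) (Steps.fwd (nat_lit 32768) (Steps.bwd (nat_lit 5) (Steps.bwd (nat_lit 8) (Steps.bwd (nat_lit 9) (Steps.fwd (nat_lit 90112) (Steps.bwd (nat_lit 14) (Steps.fwd (nat_lit 24576) (Steps.bwd (nat_lit 9) Steps.nil)))))))) (nat_lit 178) (nat_lit 3),
  Rule.mk (nat_lit 1) (nat_lit 104) (Steps.bwd (nat_lit 8) (Steps.bwd (nat_lit 1) (Steps.fwd (nat_lit 40960) (Steps.bwd (nat_lit 7) (Steps.fwd (nat_lit 106496) (Steps.bwd (nat_lit 14) Steps.nil)))))) (nat_lit 154) (nat_lit 1),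
  Rule.mk (nat_lit 17) (nat_lit 179) (Steps.bwd (nat_lit 2) (Steps.fwd (nat_lit 8192) (Steps.fwd (nat_lit 24576) (Steps.fwd (nat_lit 8192) (Steps.fwd (nat_lit 16384) (Steps.bwd (nat_lit 1) (Steps.fwd (nat_lit 16384) (Steps.fwd (nat_lit 8192) (Steps.bwd (nat_lit 4) (Steps.fwd (nat_lit 24576) (Steps.bwd (nat_lit 1) Steps.nil))))))))))) (nat_lit 193) (nat_lit 0),
  Rule.mk (nat_lit 1) (nat_lit 89) (Steps.fwd (nat_lit 73728) (Steps.bwd (nat_lit 1) (Steps.fwd (nat_lit 32768) (Steps.bwd (nat_lit 7) (Steps.bwd (nat_lit 14) Steps.nil))))) (nat_lit 156) (nat_lit 1),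
  Rule.mk (nat_lit 0) (nat_lit 149) (Steps.bwd (nat_lit 2) (Steps.bwd (nat_lit 9) (Steps.bwd (nat_lit 3) (Steps.bwd (nat_lit 4) (Steps.bwd (nat_lit 5) (Steps.fwd (nat_lit 65536) (Steps.bwd (nat_lit 9) (Steps.fwd (nat_lit 90112) (Steps.fwd (nat_lit 114688) Steps.nil))))))))) (nat_lit 178) (nat_lit 0),
  Rule.mk (nat_lit 3) (nat_lit 44) (Steps.bwd (nat_lit 0) (Steps.bwd (nat_lit 2) Steps.nil)) (nat_lit 196) (nat_lit 0),
  Rule.mk (nat_lit 0) (nat_lit 59) (Steps.fwd (nat_lit 32768) (Steps.bwd (nat_lit 0) (Steps.fwd (nat_lit 32768) Steps.nil))) (nat_lit 196) (nat_lit 0),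
  Rule.mk (nat_lit 1) (nat_lit 44) (Steps.bwd (nat_lit 0) (Steps.bwd (nat_lit 1) Steps.nil)) (nat_lit 196) (nat_lit 0),
  Rule.mk (nat_lit 5) (nat_lit 44) (Steps.bwd (nat_lit 0) (Steps.bwd (nat_lit 5) Steps.nil)) (nat_lit 196) (nat_lit 0),
  Rule.mk (nat_lit 9) (nat_lit 44) (Steps.bwd (nat_lit 0) (Steps.fwd (nat_lit 73728) Steps.nil)) (nat_lit 196) (nat_lit 0),
  Rule.mk (nat_lit 0) (nat_lit 194) (Steps.bwd (nat_lit 20) (Steps.bwd (nat_lit 1) (Steps.bwd (nat_lit 2) (Steps.fwd (nat_lit 8192) (Steps.fwd (nat_lit 24576) (Steps.fwd (nat_lit 8192) (Steps.bwd (nat_lit 3) (Steps.bwd (nat_lit 1) (Steps.fwd (nat_lit 16384) (Steps.fwd (nat_lit 8192) (Steps.bwd (nat_lit 4) (Steps.fwd (nat_lit 24576) Steps.nil)))))))))))) (nat_lit 194) (nat_lit 0),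
  Rule.mk (nat_lit 19) (nat_lit 44) (Steps.bwd (nat_lit 0) (Steps.bwd (nat_lit 20) Steps.nil)) (nat_lit 196) (nat_lit 0),
  Rule.mk (nat_lit 16) (nat_lit 179) (Steps.bwd (nat_lit 1) (Steps.fwd (nat_lit 16384) (Steps.fwd (nat_lit 8192) (Steps.bwd (nat_lit 3) (Steps.bwd (nat_lit 1) (Steps.fwd (nat_lit 16384) (Steps.bwd (nat_lit 1) (Steps.bwd (nat_lit 2) (Steps.fwd (nat_lit 32768) (Steps.bwd (nat_lit 1) (Steps.fwd (nat_lit 24576) Steps.nil))))))))))) (nat_lit 190) (nat_lit 1),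
  Rule.mk (nat_lit 2) (nat_lit 104) (Steps.fwd (nat_lit 98304) (Steps.bwd (nat_lit 3) (Steps.bwd (nat_lit 4) (Steps.bwd (nat_lit 5) (Steps.fwd (nat_lit 65536) (Steps.bwd (nat_lit 9) Steps.nil)))))) (nat_lit 184) (nat_lit 1),
  Rule.mk (nat_lit 3) (nat_lit 134) (Steps.bwd (nat_lit 4) (Steps.bwd (nat_lit 5) (Steps.bwd (nat_lit 8) (Steps.bwd (nat_lit 9) (Steps.fwd (nat_lit 90112) (Steps.fwd (nat_lit 114688) (Steps.bwd (nat_lit 2) (Steps.bwd (nat_lit 9) Steps.nil)))))))) (nat_lit 178) (nat_lit 3),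
  Rule.mk (nat_lit 12) (nat_lit 104) (Steps.bwd (nat_lit 3) (Steps.bwd (nat_lit 4) (Steps.bwd (nat_lit 5) (Steps.bwd (nat_lit 8) (Steps.bwd (nat_lit 9) (Steps.fwd (nat_lit 24576) Steps.nil)))))) (nat_lit 184) (nat_lit 2),
  Rule.mk (nat_lit 5) (nat_lit 149) (Steps.bwd (nat_lit 3) (Steps.bwd (nat_lit 4) (Steps.bwd (nat_lit 5) (Steps.bwd (nat_lit 8) (Steps.bwd (nat_lit 9) (Steps.bwd (nat_lit 12) (Steps.bwd (nat_lit 13) (Steps.bwd (nat_lit 14) (Steps.fwd (nat_lit 24576) Steps.nil))))))))) (nat_lit 170) (nat_lit 2),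
  Rule.mk (nat_lit 1) (nat_lit 104) (Steps.bwd (nat_lit 6) (Steps.fwd (nat_lit 90112) (Steps.fwd (nat_lit 98304) (Steps.bwd (nat_lit 14) (Steps.fwd (nat_lit 8192) (Steps.bwd (nat_lit 11) Steps.nil)))))) (nat_lit 160) (nat_lit 3),
  Rule.mk (nat_lit 0) (nat_lit 74) (Steps.bwd (nat_lit 1) (Steps.bwd (nat_lit 5) (Steps.fwd (nat_lit 8192) (Steps.fwd (nat_lit 32768) Steps.nil)))) (nat_lit 146) (nat_lit 2),
  Rule.mk (nat_lit 15) (nat_lit 179) (Steps.bwd (nat_lit 3) (Steps.bwd (nat_lit 1) (Steps.fwd (nat_lit 32768) (Steps.fwd (nat_lit 16384) (Steps.fwd (nat_lit 8192) (Steps.bwd (nat_lit 2) (Steps.bwd (nat_lit 1) (Steps.bwd (nat_lit 2) (Steps.bwd (nat_lit 1) (Steps.bwd (nat_lit 2) (Steps.bwd (nat_lit 1) Steps.nil))))))))))) (nat_lit 191) (nat_lit 0),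
  Rule.mk (nat_lit 3) (nat_lit 179) (Steps.bwd (nat_lit 1) (Steps.fwd (nat_lit 32768) (Steps.fwd (nat_lit 16384) (Steps.bwd (nat_lit 1) (Steps.bwd (nat_lit 2) (Steps.bwd (nat_lit 1) (Steps.bwd (nat_lit 2) (Steps.bwd (nat_lit 1) (Steps.bwd (nat_lit 2) (Steps.fwd (nat_lit 8192) (Steps.fwd (nat_lit 131072) Steps.nil))))))))))) (nat_lit 191) (nat_lit 1),
  Rule.mk (nat_lit 0) (nat_lit 194) (Steps.bwd (nat_lit 16) (Steps.fwd (nat_lit 8192) (Steps.bwd (nat_lit 3) (Steps.bwd (nat_lit 1) (Steps.fwd (nat_lit 16384) (Steps.fwd (nat_lit 8192) (Steps.fwd (nat_lit 16384) (Steps.fwd (nat_lit 8192) (Steps.fwd (nat_lit 24576) (Steps.bwd (nat_lit 4) (Steps.bwd (nat_lit 1) (Steps.bwd (nat_lit 2) Steps.nil)))))))))))) (nat_lit 190) (nat_lit 0),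
  Rule.mk (nat_lit 15) (nat_lit 44) (Steps.bwd (nat_lit 0) (Steps.bwd (nat_lit 16) Steps.nil)) (nat_lit 196) (nat_lit 0),
  Rule.mk (nat_lit 0) (nat_lit 194) (Steps.bwd (nat_lit 18) (Steps.fwd (nat_lit 8192) (Steps.bwd (nat_lit 3) (Steps.fwd (nat_lit 32768) (Steps.bwd (nat_lit 1) (Steps.bwd (nat_lit 2) (Steps.bwd (nat_lit 1) (Steps.bwd (nat_lit 2) (Steps.fwd (nat_lit 8192) (Steps.bwd (nat_lit 3) (Steps.fwd (nat_lit 8192) (Steps.fwd (nat_lit 16384) Steps.nil)))))))))))) (nat_lit 192) (nat_lit 0),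
  Rule.mk (nat_lit 17) (nat_lit 44) (Steps.bwd (nat_lit 0) (Steps.bwd (nat_lit 18) Steps.nil)) (nat_lit 196) (nat_lit 0),
  Rule.mk (nat_lit 14) (nat_lit 119) (Steps.bwd (nat_lit 3) (Steps.bwd (nat_lit 5) (Steps.fwd (nat_lit 49152) (Steps.bwd (nat_lit 7) (Steps.fwd (nat_lit 98304) (Steps.bwd (nat_lit 14) (Steps.bwd (nat_lit 2) Steps.nil))))))) (nat_lit 188) (nat_lit 2),
  Rule.mk (nat_lit 13) (nat_lit 104) (Steps.bwd (nat_lit 7) (Steps.bwd (nat_lit 5) (Steps.bwd (nat_lit 2) (Steps.bwd (nat_lit 7) (Steps.fwd (nat_lit 16384) (Steps.bwd (nat_lit 14) Steps.nil)))))) (nat_lit 175) (nat_lit 2),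
  Rule.mk (nat_lit 3) (nat_lit 119) (Steps.bwd (nat_lit 14) (Steps.bwd (nat_lit 12) (Steps.bwd (nat_lit 7) (Steps.fwd (nat_lit 49152) (Steps.bwd (nat_lit 5) (Steps.fwd (nat_lit 24576) (Steps.bwd (nat_lit 14) Steps.nil))))))) (nat_lit 189) (nat_lit 0),
  Rule.mk (nat_lit 11) (nat_lit 59) (Steps.fwd (nat_lit 98304) (Steps.fwd (nat_lit 90112) (Steps.bwd (nat_lit 12) Steps.nil))) (nat_lit 106) (nat_lit 0),
  Rule.mk (nat_lit 1) (nat_lit 104) (Steps.bwd (nat_lit 4) (Steps.bwd (nat_lit 5) (Steps.fwd (nat_lit 65536) (Steps.fwd (nat_lit 73728) (Steps.fwd (nat_lit 8192) (Steps.bwd (nat_lit 13) Steps.nil)))))) (nat_lit 164) (nat_lit 3),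
  Rule.mk (nat_lit 9) (nat_lit 134) (Steps.bwd (nat_lit 3) (Steps.bwd (nat_lit 4) (Steps.bwd (nat_lit 5) (Steps.bwd (nat_lit 8) (Steps.fwd (nat_lit 73728) (Steps.fwd (nat_lit 90112) (Steps.fwd (nat_lit 114688) (Steps.bwd (nat_lit 2) Steps.nil)))))))) (nat_lit 178) (nat_lit 2),
  Rule.mk (nat_lit 7) (nat_lit 104) (Steps.bwd (nat_lit 3) (Steps.bwd (nat_lit 5) (Steps.bwd (nat_lit 7) (Steps.bwd (nat_lit 13) (Steps.fwd (nat_lit 114688) (Steps.bwd (nat_lit 2) Steps.nil)))))) (nat_lit 174) (nat_lit 2),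
  Rule.mk (nat_lit 14) (nat_lit 164) (Steps.bwd (nat_lit 2) (Steps.bwd (nat_lit 11) (Steps.fwd (nat_lit 16384) (Steps.fwd (nat_lit 32768) (Steps.fwd (nat_lit 40960) (Steps.fwd (nat_lit 65536) (Steps.fwd (nat_lit 73728) (Steps.fwd (nat_lit 81920) (Steps.fwd (nat_lit 90112) (Steps.fwd (nat_lit 98304) Steps.nil)))))))))) (nat_lit 182) (nat_lit 0),
  Rule.mk (nat_lit 2) (nat_lit 104) (Steps.bwd (nat_lit 10) (Steps.fwd (nat_lit 16384) (Steps.fwd (nat_lit 114688) (Steps.bwd (nat_lit 12) (Steps.bwd (nat_lit 11) (Steps.bwd (nat_lit 6) Steps.nil)))))) (nat_lit 181) (nat_lit 5),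
  Rule.mk (nat_lit 8) (nat_lit 89) (Steps.bwd (nat_lit 3) (Steps.fwd (nat_lit 32768) (Steps.fwd (nat_lit 57344) (Steps.fwd (nat_lit 114688) (Steps.fwd (nat_lit 24576) Steps.nil))))) (nat_lit 176) (nat_lit 2),
  Rule.mk (nat_lit 1) (nat_lit 104) (Steps.bwd (nat_lit 5) (Steps.bwd (nat_lit 7) (Steps.bwd (nat_lit 13) (Steps.bwd (nat_lit 14) (Steps.fwd (nat_lit 8192) (Steps.bwd (nat_lit 8) Steps.nil)))))) (nat_lit 154) (nat_lit 3),
  Rule.mk (nat_lit 6) (nat_lit 149) (Steps.bwd (nat_lit 1) (Steps.bwd (nat_lit 4) (Steps.fwd (nat_lit 40960) (Steps.fwd (nat_lit 65536) (Steps.fwd (nat_lit 73728) (Steps.bwd (nat_lit 12) (Steps.bwd (nat_lit 13) (Steps.bwd (nat_lit 14) (Steps.fwd (nat_lit 8192) Steps.nil))))))))) (nat_lit 150) (nat_lit 2),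
  Rule.mk (nat_lit 15) (nat_lit 179) (Steps.bwd (nat_lit 3) (Steps.bwd (nat_lit 1) (Steps.bwd (nat_lit 4) (Steps.fwd (nat_lit 16384) (Steps.fwd (nat_lit 8192) (Steps.fwd (nat_lit 24576) (Steps.bwd (nat_lit 1) (Steps.fwd (nat_lit 24576) (Steps.fwd (nat_lit 8192) (Steps.fwd (nat_lit 24576) (Steps.fwd (nat_lit 8192) Steps.nil))))))))))) (nat_lit 191) (nat_lit 0),
  Rule.mk (nat_lit 14) (nat_lit 59) (Steps.bwd (nat_lit 10) (Steps.fwd (nat_lit 114688) (Steps.bwd (nat_lit 10) Steps.nil))) (nat_lit 138) (nat_lit 1),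
  Rule.mk (nat_lit 2) (nat_lit 179) (Steps.bwd (nat_lit 20) (Steps.bwd (nat_lit 1) (Steps.fwd (nat_lit 24576) (Steps.bwd (nat_lit 1) (Steps.bwd (nat_lit 2) (Steps.fwd (nat_lit 8192) (Steps.bwd (nat_lit 3) (Steps.fwd (nat_lit 8192) (Steps.fwd (nat_lit 16384) (Steps.bwd (nat_lit 1) (Steps.fwd (nat_lit 32768) Steps.nil))))))))))) (nat_lit 194) (nat_lit 0),
  Rule.mk (nat_lit 9) (nat_lit 134) (Steps.bwd (nat_lit 3) (Steps.fwd (nat_lit 114688) (Steps.fwd (nat_lit 90112) (Steps.fwd (nat_lit 73728) (Steps.fwd (nat_lit 65536) (Steps.bwd (nat_lit 5) (Steps.fwd (nat_lit 32768) (Steps.bwd (nat_lit 2) Steps.nil)))))))) (nat_lit 179) (nat_lit 8),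
  Rule.mk (nat_lit 7) (nat_lit 89) (Steps.bwd (nat_lit 14) (Steps.bwd (nat_lit 2) (Steps.fwd (nat_lit 65536) (Steps.fwd (nat_lit 16384) (Steps.bwd (nat_lit 4) Steps.nil))))) (nat_lit 176) (nat_lit 5),
  Rule.mk (nat_lit 8) (nat_lit 89) (Steps.bwd (nat_lit 3) (Steps.bwd (nat_lit 4) (Steps.fwd (nat_lit 57344) (Steps.fwd (nat_lit 114688) (Steps.fwd (nat_lit 24576) Steps.nil))))) (nat_lit 176) (nat_lit 2),
  Rule.mk (nat_lit 11) (nat_lit 59) (Steps.fwd (nat_lit 65536) (Steps.fwd (nat_lit 90112) (Steps.bwd (nat_lit 8) Steps.nil))) (nat_lit 86) (nat_lit 1),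
  Rule.mk (nat_lit 1) (nat_lit 104) (Steps.fwd (nat_lit 40960) (Steps.bwd (nat_lit 7) (Steps.bwd (nat_lit 13) (Steps.fwd (nat_lit 114688) (Steps.fwd (nat_lit 8192) (Steps.bwd (nat_lit 8) Steps.nil)))))) (nat_lit 154) (nat_lit 3),
  Rule.mk (nat_lit 20) (nat_lit 179) (Steps.bwd (nat_lit 1) (Steps.fwd (nat_lit 24576) (Steps.fwd (nat_lit 8192) (Steps.fwd (nat_lit 24576) (Steps.fwd (nat_lit 8192) (Steps.bwd (nat_lit 3) (Steps.bwd (nat_lit 1) (Steps.bwd (nat_lit 3) (Steps.fwd (nat_lit 8192) (Steps.bwd (nat_lit 4) (Steps.fwd (nat_lit 24576) Steps.nil))))))))))) (nat_lit 194) (nat_lit 1),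
  Rule.mk (nat_lit 3) (nat_lit 119) (Steps.fwd (nat_lit 114688) (Steps.fwd (nat_lit 98304) (Steps.bwd (nat_lit 7) (Steps.fwd (nat_lit 49152) (Steps.fwd (nat_lit 40960) (Steps.fwd (nat_lit 24576) (Steps.bwd (nat_lit 14) Steps.nil))))))) (nat_lit 189) (nat_lit 0),
  Rule.mk (nat_lit 8) (nat_lit 104) (Steps.bwd (nat_lit 1) (Steps.fwd (nat_lit 40960) (Steps.bwd (nat_lit 7) (Steps.bwd (nat_lit 13) (Steps.bwd (nat_lit 14) (Steps.fwd (nat_lit 8192) Steps.nil)))))) (nat_lit 154) (nat_lit 2),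
  Rule.mk (nat_lit 10) (nat_lit 134) (Steps.bwd (nat_lit 1) (Steps.fwd (nat_lit 32768) (Steps.bwd (nat_lit 5) (Steps.bwd (nat_lit 8) (Steps.bwd (nat_lit 9) (Steps.fwd (nat_lit 90112) (Steps.fwd (nat_lit 114688) (Steps.bwd (nat_lit 1) Steps.nil)))))))) (nat_lit 158) (nat_lit 2),
  Rule.mk (nat_lit 2) (nat_lit 104) (Steps.bwd (nat_lit 7) (Steps.bwd (nat_lit 3) (Steps.bwd (nat_lit 14) (Steps.fwd (nat_lit 106496) (Steps.fwd (nat_lit 57344) (Steps.fwd (nat_lit 40960) Steps.nil)))))) (nat_lit 175) (nat_lit 5),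
  Rule.mk (nat_lit 3) (nat_lit 134) (Steps.bwd (nat_lit 4) (Steps.bwd (nat_lit 5) (Steps.fwd (nat_lit 65536) (Steps.bwd (nat_lit 9) (Steps.bwd (nat_lit 11) (Steps.fwd (nat_lit 114688) (Steps.bwd (nat_lit 2) (Steps.bwd (nat_lit 9) Steps.nil)))))))) (nat_lit 178) (nat_lit 3),
  Rule.mk (nat_lit 12) (nat_lit 104) (Steps.bwd (nat_lit 3) (Steps.bwd (nat_lit 4) (Steps.bwd (nat_lit 5) (Steps.fwd (nat_lit 65536) (Steps.bwd (nat_lit 9) (Steps.fwd (nat_lit 24576) Steps.nil)))))) (nat_lit 184) (nat_lit 2),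
  Rule.mk (nat_lit 18) (nat_lit 179) (Steps.fwd (nat_lit 8192) (Steps.fwd (nat_lit 16384) (Steps.fwd (nat_lit 32768) (Steps.bwd (nat_lit 1) (Steps.bwd (nat_lit 2) (Steps.fwd (nat_lit 8192) (Steps.fwd (nat_lit 24576) (Steps.fwd (nat_lit 8192) (Steps.bwd (nat_lit 3) (Steps.bwd (nat_lit 1) (Steps.bwd (nat_lit 3) Steps.nil))))))))))) (nat_lit 192) (nat_lit 1),
  Rule.mk (nat_lit 17) (nat_lit 179) (Steps.bwd (nat_lit 2) (Steps.fwd (nat_lit 8192) (Steps.fwd (nat_lit 24576) (Steps.fwd (nat_lit 8192) (Steps.bwd (nat_lit 3) (Steps.bwd (nat_lit 1) (Steps.bwd (nat_lit 3) (Steps.bwd (nat_lit 1) (Steps.bwd (nat_lit 4) (Steps.fwd (nat_lit 24576) (Steps.bwd (nat_lit 1) Steps.nil))))))))))) (nat_lit 193) (nat_lit 0)]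
noncomputable def R_24 : List (Rule) := [Rule.mk (nat_lit 20) (nat_lit 179) (Steps.bwd (nat_lit 1) (Steps.bwd (nat_lit 2) (Steps.fwd (nat_lit 8192) (Steps.fwd (nat_lit 24576) (Steps.fwd (nat_lit 8192) (Steps.bwd (nat_lit 3) (Steps.bwd (nat_lit 1) (Steps.bwd (nat_lit 3) (Steps.bwd (nat_lit 1) (Steps.bwd (nat_lit 4) (Steps.fwd (nat_lit 24576) Steps.nil))))))))))) (nat_lit 194) (nat_lit 1),
  Rule.mk (nat_lit 19) (nat_lit 179) (Steps.fwd (nat_lit 16384) (Steps.fwd (nat_lit 32768) (Steps.bwd (nat_lit 1) (Steps.bwd (nat_lit 2) (Steps.fwd (nat_lit 8192) (Steps.fwd (nat_lit 24576) (Steps.fwd (nat_lit 8192) (Steps.bwd (nat_lit 3) (Steps.bwd (nat_lit 1) (Steps.bwd (nat_lit 3) (Steps.bwd (nat_lit 1) Steps.nil))))))))))) (nat_lit 195) (nat_lit 0),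
  Rule.mk (nat_lit 2) (nat_lit 104) (Steps.fwd (nat_lit 57344) (Steps.fwd (nat_lit 16384) (Steps.fwd (nat_lit 114688) (Steps.fwd (nat_lit 106496) (Steps.fwd (nat_lit 57344) (Steps.bwd (nat_lit 5) Steps.nil)))))) (nat_lit 175) (nat_lit 5),
  Rule.mk (nat_lit 1) (nat_lit 104) (Steps.bwd (nat_lit 8) (Steps.bwd (nat_lit 1) (Steps.bwd (nat_lit 5) (Steps.bwd (nat_lit 7) (Steps.fwd (nat_lit 106496) (Steps.fwd (nat_lit 114688) Steps.nil)))))) (nat_lit 154) (nat_lit 1),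
  Rule.mk (nat_lit 10) (nat_lit 59) (Steps.fwd (nat_lit 32768) (Steps.fwd (nat_lit 81920) (Steps.bwd (nat_lit 4) Steps.nil))) (nat_lit 66) (nat_lit 1),
  Rule.mk (nat_lit 5) (nat_lit 104) (Steps.fwd (nat_lit 65536) (Steps.fwd (nat_lit 73728) (Steps.fwd (nat_lit 8192) (Steps.bwd (nat_lit 13) (Steps.fwd (nat_lit 8192) (Steps.bwd (nat_lit 4) Steps.nil)))))) (nat_lit 164) (nat_lit 5),
  Rule.mk (nat_lit 5) (nat_lit 149) (Steps.bwd (nat_lit 3) (Steps.bwd (nat_lit 14) (Steps.fwd (nat_lit 106496) (Steps.bwd (nat_lit 12) (Steps.fwd (nat_lit 73728) (Steps.bwd (nat_lit 8) (Steps.bwd (nat_lit 5) (Steps.fwd (nat_lit 32768) (Steps.fwd (nat_lit 24576) Steps.nil))))))))) (nat_lit 171) (nat_lit 9),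
  Rule.mk (nat_lit 11) (nat_lit 59) (Steps.fwd (nat_lit 73728) (Steps.bwd (nat_lit 11) (Steps.fwd (nat_lit 73728) Steps.nil))) (nat_lit 88) (nat_lit 1),
  Rule.mk (nat_lit 1) (nat_lit 104) (Steps.bwd (nat_lit 11) (Steps.bwd (nat_lit 1) (Steps.fwd (nat_lit 49152) (Steps.bwd (nat_lit 11) (Steps.bwd (nat_lit 12) (Steps.bwd (nat_lit 14) Steps.nil)))))) (nat_lit 160) (nat_lit 1),
  Rule.mk (nat_lit 12) (nat_lit 104) (Steps.bwd (nat_lit 3) (Steps.fwd (nat_lit 32768) (Steps.fwd (nat_lit 40960) (Steps.fwd (nat_lit 65536) (Steps.fwd (nat_lit 73728) (Steps.fwd (nat_lit 24576) Steps.nil)))))) (nat_lit 184) (nat_lit 2),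
  Rule.mk (nat_lit 9) (nat_lit 134) (Steps.bwd (nat_lit 3) (Steps.fwd (nat_lit 32768) (Steps.fwd (nat_lit 40960) (Steps.fwd (nat_lit 65536) (Steps.fwd (nat_lit 73728) (Steps.fwd (nat_lit 90112) (Steps.bwd (nat_lit 14) (Steps.bwd (nat_lit 2) Steps.nil)))))))) (nat_lit 178) (nat_lit 2),
  Rule.mk (nat_lit 4) (nat_lit 59) (Steps.bwd (nat_lit 10) (Steps.fwd (nat_lit 32768) (Steps.bwd (nat_lit 10) Steps.nil))) (nat_lit 66) (nat_lit 0),
  Rule.mk (nat_lit 1) (nat_lit 104) (Steps.fwd (nat_lit 49152) (Steps.bwd (nat_lit 11) (Steps.fwd (nat_lit 98304) (Steps.bwd (nat_lit 14) (Steps.fwd (nat_lit 8192) (Steps.bwd (nat_lit 11) Steps.nil)))))) (nat_lit 160) (nat_lit 3),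
  Rule.mk (nat_lit 12) (nat_lit 104) (Steps.bwd (nat_lit 3) (Steps.fwd (nat_lit 32768) (Steps.bwd (nat_lit 5) (Steps.bwd (nat_lit 8) (Steps.bwd (nat_lit 9) (Steps.bwd (nat_lit 2) Steps.nil)))))) (nat_lit 184) (nat_lit 2),
  Rule.mk (nat_lit 14) (nat_lit 119) (Steps.bwd (nat_lit 3) (Steps.bwd (nat_lit 5) (Steps.fwd (nat_lit 49152) (Steps.fwd (nat_lit 57344) (Steps.bwd (nat_lit 12) (Steps.bwd (nat_lit 14) (Steps.bwd (nat_lit 2) Steps.nil))))))) (nat_lit 188) (nat_lit 2),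
  Rule.mk (nat_lit 3) (nat_lit 89) (Steps.fwd (nat_lit 32768) (Steps.bwd (nat_lit 7) (Steps.bwd (nat_lit 14) (Steps.fwd (nat_lit 24576) (Steps.bwd (nat_lit 8) Steps.nil))))) (nat_lit 176) (nat_lit 3),
  Rule.mk (nat_lit 15) (nat_lit 179) (Steps.bwd (nat_lit 3) (Steps.bwd (nat_lit 1) (Steps.fwd (nat_lit 32768) (Steps.fwd (nat_lit 16384) (Steps.fwd (nat_lit 8192) (Steps.bwd (nat_lit 2) (Steps.fwd (nat_lit 8192) (Steps.fwd (nat_lit 24576) (Steps.bwd (nat_lit 1) (Steps.fwd (nat_lit 24576) (Steps.fwd (nat_lit 8192) Steps.nil))))))))))) (nat_lit 191) (nat_lit 0),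
  Rule.mk (nat_lit 1) (nat_lit 89) (Steps.fwd (nat_lit 73728) (Steps.fwd (nat_lit 8192) (Steps.fwd (nat_lit 114688) (Steps.bwd (nat_lit 7) (Steps.bwd (nat_lit 4) Steps.nil))))) (nat_lit 157) (nat_lit 4),
  Rule.mk (nat_lit 9) (nat_lit 104) (Steps.bwd (nat_lit 2) (Steps.bwd (nat_lit 12) (Steps.bwd (nat_lit 3) (Steps.bwd (nat_lit 4) (Steps.fwd (nat_lit 40960) (Steps.fwd (nat_lit 65536) Steps.nil)))))) (nat_lit 184) (nat_lit 0),
  Rule.mk (nat_lit 15) (nat_lit 179) (Steps.fwd (nat_lit 16384) (Steps.fwd (nat_lit 8192) (Steps.fwd (nat_lit 32768) (Steps.fwd (nat_lit 16384) (Steps.bwd (nat_lit 1) (Steps.fwd (nat_lit 24576) (Steps.bwd (nat_lit 1) (Steps.bwd (nat_lit 2) (Steps.fwd (nat_lit 8192) (Steps.fwd (nat_lit 24576) (Steps.bwd (nat_lit 1) Steps.nil))))))))))) (nat_lit 191) (nat_lit 0),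
  Rule.mk (nat_lit 19) (nat_lit 179) (Steps.bwd (nat_lit 3) (Steps.bwd (nat_lit 4) (Steps.bwd (nat_lit 1) (Steps.bwd (nat_lit 2) (Steps.fwd (nat_lit 8192) (Steps.fwd (nat_lit 24576) (Steps.bwd (nat_lit 1) (Steps.bwd (nat_lit 3) (Steps.fwd (nat_lit 8192) (Steps.fwd (nat_lit 16384) (Steps.fwd (nat_lit 8192) Steps.nil))))))))))) (nat_lit 195) (nat_lit 0),
  Rule.mk (nat_lit 1) (nat_lit 179) (Steps.bwd (nat_lit 15) (Steps.fwd (nat_lit 16384) (Steps.fwd (nat_lit 8192) (Steps.fwd (nat_lit 32768) (Steps.bwd (nat_lit 3) (Steps.bwd (nat_lit 1) (Steps.fwd (nat_lit 24576) (Steps.fwd (nat_lit 8192) (Steps.bwd (nat_lit 2) (Steps.fwd (nat_lit 8192) (Steps.fwd (nat_lit 24576) Steps.nil))))))))))) (nat_lit 191) (nat_lit 11),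
  Rule.mk (nat_lit 14) (nat_lit 134) (Steps.bwd (nat_lit 11) (Steps.fwd (nat_lit 73728) (Steps.fwd (nat_lit 65536) (Steps.fwd (nat_lit 40960) (Steps.bwd (nat_lit 4) (Steps.fwd (nat_lit 8192) (Steps.bwd (nat_lit 10) (Steps.bwd (nat_lit 1) Steps.nil)))))))) (nat_lit 159) (nat_lit 1),
  Rule.mk (nat_lit 12) (nat_lit 164) (Steps.fwd (nat_lit 8192) (Steps.bwd (nat_lit 4) (Steps.bwd (nat_lit 5) (Steps.bwd (nat_lit 8) (Steps.bwd (nat_lit 9) (Steps.bwd (nat_lit 10) (Steps.bwd (nat_lit 11) (Steps.fwd (nat_lit 98304) (Steps.fwd (nat_lit 114688) (Steps.bwd (nat_lit 1) Steps.nil)))))))))) (nat_lit 162) (nat_lit 2),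
  Rule.mk (nat_lit 9) (nat_lit 89) (Steps.bwd (nat_lit 1) (Steps.fwd (nat_lit 32768) (Steps.fwd (nat_lit 57344) (Steps.fwd (nat_lit 114688) (Steps.bwd (nat_lit 1) Steps.nil))))) (nat_lit 156) (nat_lit 2),
  Rule.mk (nat_lit 13) (nat_lit 104) (Steps.bwd (nat_lit 1) (Steps.fwd (nat_lit 32768) (Steps.bwd (nat_lit 5) (Steps.fwd (nat_lit 65536) (Steps.bwd (nat_lit 9) (Steps.fwd (nat_lit 8192) Steps.nil)))))) (nat_lit 164) (nat_lit 2),
  Rule.mk (nat_lit 8) (nat_lit 104) (Steps.bwd (nat_lit 1) (Steps.bwd (nat_lit 5) (Steps.bwd (nat_lit 7) (Steps.bwd (nat_lit 13) (Steps.bwd (nat_lit 14) (Steps.bwd (nat_lit 1) Steps.nil)))))) (nat_lit 154) (nat_lit 2),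
  Rule.mk (nat_lit 1) (nat_lit 179) (Steps.bwd (nat_lit 15) (Steps.fwd (nat_lit 16384) (Steps.bwd (nat_lit 1) (Steps.fwd (nat_lit 32768) (Steps.fwd (nat_lit 16384) (Steps.fwd (nat_lit 8192) (Steps.fwd (nat_lit 24576) (Steps.fwd (nat_lit 8192) (Steps.bwd (nat_lit 2) (Steps.fwd (nat_lit 8192) (Steps.bwd (nat_lit 2) Steps.nil))))))))))) (nat_lit 191) (nat_lit 11),
  Rule.mk (nat_lit 16) (nat_lit 179) (Steps.fwd (nat_lit 8192) (Steps.bwd (nat_lit 3) (Steps.bwd (nat_lit 1) (Steps.bwd (nat_lit 3) (Steps.fwd (nat_lit 8192) (Steps.fwd (nat_lit 16384) (Steps.bwd (nat_lit 1) (Steps.bwd (nat_lit 2) (Steps.bwd (nat_lit 4) (Steps.fwd (nat_lit 8192) (Steps.fwd (nat_lit 24576) Steps.nil))))))))))) (nat_lit 190) (nat_lit 1),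
  Rule.mk (nat_lit 19) (nat_lit 179) (Steps.bwd (nat_lit 3) (Steps.fwd (nat_lit 32768) (Steps.fwd (nat_lit 8192) (Steps.bwd (nat_lit 2) (Steps.fwd (nat_lit 8192) (Steps.bwd (nat_lit 2) (Steps.bwd (nat_lit 1) (Steps.bwd (nat_lit 3) (Steps.fwd (nat_lit 8192) (Steps.bwd (nat_lit 3) (Steps.bwd (nat_lit 1) Steps.nil))))))))))) (nat_lit 195) (nat_lit 0),
  Rule.mk (nat_lit 0) (nat_lit 104) (Steps.bwd (nat_lit 4) (Steps.bwd (nat_lit 7) (Steps.fwd (nat_lit 114688) (Steps.fwd (nat_lit 8192) (Steps.fwd (nat_lit 73728) (Steps.fwd (nat_lit 8192) Steps.nil)))))) (nat_lit 156) (nat_lit 3),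
  Rule.mk (nat_lit 2) (nat_lit 44) (Steps.bwd (nat_lit 0) (Steps.fwd (nat_lit 16384) Steps.nil)) (nat_lit 196) (nat_lit 0),
  Rule.mk (nat_lit 7) (nat_lit 44) (Steps.bwd (nat_lit 0) (Steps.bwd (nat_lit 7) Steps.nil)) (nat_lit 196) (nat_lit 0),
  Rule.mk (nat_lit 1) (nat_lit 89) (Steps.fwd (nat_lit 73728) (Steps.fwd (nat_lit 8192) (Steps.bwd (nat_lit 14) (Steps.bwd (nat_lit 7) (Steps.fwd (nat_lit 32768) Steps.nil))))) (nat_lit 157) (nat_lit 4),
  Rule.mk (nat_lit 3) (nat_lit 119) (Steps.fwd (nat_lit 40960) (Steps.bwd (nat_lit 6) (Steps.bwd (nat_lit 7) (Steps.bwd (nat_lit 12) (Steps.fwd (nat_lit 114688) (Steps.bwd (nat_lit 2) (Steps.bwd (nat_lit 14) Steps.nil))))))) (nat_lit 188) (nat_lit 3),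
  Rule.mk (nat_lit 1) (nat_lit 104) (Steps.bwd (nat_lit 13) (Steps.bwd (nat_lit 1) (Steps.fwd (nat_lit 32768) (Steps.fwd (nat_lit 40960) (Steps.bwd (nat_lit 8) (Steps.bwd (nat_lit 9) Steps.nil)))))) (nat_lit 164) (nat_lit 1),
  Rule.mk (nat_lit 20) (nat_lit 179) (Steps.bwd (nat_lit 1) (Steps.bwd (nat_lit 2) (Steps.bwd (nat_lit 1) (Steps.bwd (nat_lit 2) (Steps.fwd (nat_lit 8192) (Steps.bwd (nat_lit 3) (Steps.bwd (nat_lit 1) (Steps.fwd (nat_lit 16384) (Steps.fwd (nat_lit 8192) (Steps.bwd (nat_lit 4) (Steps.bwd (nat_lit 2) Steps.nil))))))))))) (nat_lit 194) (nat_lit 1),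
  Rule.mk (nat_lit 8) (nat_lit 104) (Steps.bwd (nat_lit 1) (Steps.bwd (nat_lit 5) (Steps.fwd (nat_lit 57344) (Steps.bwd (nat_lit 13) (Steps.fwd (nat_lit 114688) (Steps.bwd (nat_lit 1) Steps.nil)))))) (nat_lit 154) (nat_lit 2),
  Rule.mk (nat_lit 14) (nat_lit 134) (Steps.bwd (nat_lit 1) (Steps.fwd (nat_lit 81920) (Steps.bwd (nat_lit 1) (Steps.bwd (nat_lit 4) (Steps.fwd (nat_lit 40960) (Steps.fwd (nat_lit 65536) (Steps.fwd (nat_lit 73728) (Steps.bwd (nat_lit 11) Steps.nil)))))))) (nat_lit 158) (nat_lit 0),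
  Rule.mk (nat_lit 18) (nat_lit 179) (Steps.bwd (nat_lit 1) (Steps.bwd (nat_lit 3) (Steps.fwd (nat_lit 32768) (Steps.fwd (nat_lit 8192) (Steps.bwd (nat_lit 2) (Steps.fwd (nat_lit 8192) (Steps.bwd (nat_lit 2) (Steps.bwd (nat_lit 1) (Steps.bwd (nat_lit 3) (Steps.fwd (nat_lit 8192) (Steps.bwd (nat_lit 3) Steps.nil))))))))))) (nat_lit 192) (nat_lit 1),
  Rule.mk (nat_lit 3) (nat_lit 149) (Steps.fwd (nat_lit 114688) (Steps.fwd (nat_lit 106496) (Steps.bwd (nat_lit 12) (Steps.bwd (nat_lit 9) (Steps.bwd (nat_lit 8) (Steps.fwd (nat_lit 40960) (Steps.fwd (nat_lit 32768) (Steps.bwd (nat_lit 2) (Steps.bwd (nat_lit 5) Steps.nil))))))))) (nat_lit 171) (nat_lit 0),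
  Rule.mk (nat_lit 1) (nat_lit 149) (Steps.fwd (nat_lit 32768) (Steps.fwd (nat_lit 40960) (Steps.bwd (nat_lit 8) (Steps.fwd (nat_lit 73728) (Steps.fwd (nat_lit 98304) (Steps.bwd (nat_lit 13) (Steps.bwd (nat_lit 14) (Steps.fwd (nat_lit 8192) (Steps.bwd (nat_lit 6) Steps.nil))))))))) (nat_lit 150) (nat_lit 3),
  Rule.mk (nat_lit 1) (nat_lit 134) (Steps.bwd (nat_lit 10) (Steps.fwd (nat_lit 8192) (Steps.fwd (nat_lit 32768) (Steps.bwd (nat_lit 5) (Steps.bwd (nat_lit 8) (Steps.fwd (nat_lit 73728) (Steps.fwd (nat_lit 90112) (Steps.bwd (nat_lit 14) Steps.nil)))))))) (nat_lit 158) (nat_lit 1),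
  Rule.mk (nat_lit 2) (nat_lit 134) (Steps.fwd (nat_lit 73728) (Steps.bwd (nat_lit 3) (Steps.fwd (nat_lit 32768) (Steps.bwd (nat_lit 5) (Steps.bwd (nat_lit 8) (Steps.fwd (nat_lit 73728) (Steps.fwd (nat_lit 90112) (Steps.bwd (nat_lit 14) Steps.nil)))))))) (nat_lit 178) (nat_lit 1),
  Rule.mk (nat_lit 13) (nat_lit 104) (Steps.bwd (nat_lit 1) (Steps.fwd (nat_lit 32768) (Steps.bwd (nat_lit 5) (Steps.bwd (nat_lit 8) (Steps.fwd (nat_lit 73728) (Steps.fwd (nat_lit 8192) Steps.nil)))))) (nat_lit 164) (nat_lit 2),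
  Rule.mk (nat_lit 3) (nat_lit 104) (Steps.fwd (nat_lit 40960) (Steps.bwd (nat_lit 7) (Steps.bwd (nat_lit 13) (Steps.bwd (nat_lit 14) (Steps.fwd (nat_lit 24576) (Steps.bwd (nat_lit 7) Steps.nil)))))) (nat_lit 174) (nat_lit 3),
  Rule.mk (nat_lit 6) (nat_lit 104) (Steps.bwd (nat_lit 2) (Steps.fwd (nat_lit 81920) (Steps.fwd (nat_lit 16384) (Steps.bwd (nat_lit 14) (Steps.bwd (nat_lit 12) (Steps.fwd (nat_lit 90112) Steps.nil)))))) (nat_lit 181) (nat_lit 4),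
  Rule.mk (nat_lit 5) (nat_lit 59) (Steps.fwd (nat_lit 49152) (Steps.fwd (nat_lit 40960) (Steps.bwd (nat_lit 6) Steps.nil))) (nat_lit 40) (nat_lit 0),
  Rule.mk (nat_lit 1) (nat_lit 104) (Steps.fwd (nat_lit 90112) (Steps.fwd (nat_lit 8192) (Steps.bwd (nat_lit 14) (Steps.bwd (nat_lit 12) (Steps.fwd (nat_lit 90112) (Steps.bwd (nat_lit 6) Steps.nil)))))) (nat_lit 161) (nat_lit 5),
  Rule.mk (nat_lit 16) (nat_lit 179) (Steps.bwd (nat_lit 1) (Steps.fwd (nat_lit 16384) (Steps.fwd (nat_lit 8192) (Steps.bwd (nat_lit 3) (Steps.bwd (nat_lit 1) (Steps.fwd (nat_lit 16384) (Steps.bwd (nat_lit 1) (Steps.fwd (nat_lit 24576) (Steps.bwd (nat_lit 4) (Steps.bwd (nat_lit 1) (Steps.bwd (nat_lit 2) Steps.nil))))))))))) (nat_lit 190) (nat_lit 1),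
  Rule.mk (nat_lit 18) (nat_lit 179) (Steps.fwd (nat_lit 8192) (Steps.fwd (nat_lit 16384) (Steps.bwd (nat_lit 4) (Steps.fwd (nat_lit 8192) (Steps.bwd (nat_lit 2) (Steps.fwd (nat_lit 8192) (Steps.fwd (nat_lit 24576) (Steps.bwd (nat_lit 1) (Steps.fwd (nat_lit 16384) (Steps.bwd (nat_lit 1) (Steps.bwd (nat_lit 3) Steps.nil))))))))))) (nat_lit 192) (nat_lit 1),
  Rule.mk (nat_lit 2) (nat_lit 179) (Steps.fwd (nat_lit 8192) (Steps.bwd (nat_lit 2) (Steps.fwd (nat_lit 8192) (Steps.bwd (nat_lit 3) (Steps.bwd (nat_lit 1) (Steps.fwd (nat_lit 16384) (Steps.bwd (nat_lit 1) (Steps.bwd (nat_lit 4) (Steps.bwd (nat_lit 2) (Steps.bwd (nat_lit 1) (Steps.fwd (nat_lit 147456) Steps.nil))))))))))) (nat_lit 193) (nat_lit 1),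
  Rule.mk (nat_lit 13) (nat_lit 104) (Steps.bwd (nat_lit 1) (Steps.bwd (nat_lit 4) (Steps.fwd (nat_lit 40960) (Steps.bwd (nat_lit 8) (Steps.fwd (nat_lit 73728) (Steps.bwd (nat_lit 1) Steps.nil)))))) (nat_lit 164) (nat_lit 2),
  Rule.mk (nat_lit 12) (nat_lit 104) (Steps.bwd (nat_lit 3) (Steps.fwd (nat_lit 32768) (Steps.bwd (nat_lit 5) (Steps.bwd (nat_lit 8) (Steps.fwd (nat_lit 73728) (Steps.fwd (nat_lit 24576) Steps.nil)))))) (nat_lit 184) (nat_lit 2),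
  Rule.mk (nat_lit 11) (nat_lit 59) (Steps.fwd (nat_lit 98304) (Steps.bwd (nat_lit 11) (Steps.bwd (nat_lit 12) Steps.nil))) (nat_lit 106) (nat_lit 0),
  Rule.mk (nat_lit 7) (nat_lit 89) (Steps.bwd (nat_lit 14) (Steps.bwd (nat_lit 2) (Steps.bwd (nat_lit 8) (Steps.fwd (nat_lit 16384) (Steps.bwd (nat_lit 4) Steps.nil))))) (nat_lit 176) (nat_lit 5),
  Rule.mk (nat_lit 3) (nat_lit 104) (Steps.fwd (nat_lit 114688) (Steps.bwd (nat_lit 13) (Steps.bwd (nat_lit 7) (Steps.fwd (nat_lit 40960) (Steps.bwd (nat_lit 2) (Steps.bwd (nat_lit 7) Steps.nil)))))) (nat_lit 175) (nat_lit 0),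
  Rule.mk (nat_lit 3) (nat_lit 134) (Steps.bwd (nat_lit 6) (Steps.fwd (nat_lit 81920) (Steps.fwd (nat_lit 90112) (Steps.bwd (nat_lit 12) (Steps.fwd (nat_lit 106496) (Steps.fwd (nat_lit 114688) (Steps.bwd (nat_lit 2) (Steps.bwd (nat_lit 13) Steps.nil)))))))) (nat_lit 186) (nat_lit 3),
  Rule.mk (nat_lit 13) (nat_lit 104) (Steps.bwd (nat_lit 1) (Steps.bwd (nat_lit 4) (Steps.bwd (nat_lit 5) (Steps.fwd (nat_lit 65536) (Steps.bwd (nat_lit 9) (Steps.bwd (nat_lit 1) Steps.nil)))))) (nat_lit 164) (nat_lit 2),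
  Rule.mk (nat_lit 2) (nat_lit 134) (Steps.bwd (nat_lit 9) (Steps.fwd (nat_lit 16384) (Steps.bwd (nat_lit 4) (Steps.bwd (nat_lit 5) (Steps.bwd (nat_lit 8) (Steps.bwd (nat_lit 9) (Steps.bwd (nat_lit 11) (Steps.fwd (nat_lit 114688) Steps.nil)))))))) (nat_lit 178) (nat_lit 1),
  Rule.mk (nat_lit 1) (nat_lit 104) (Steps.bwd (nat_lit 11) (Steps.fwd (nat_lit 8192) (Steps.bwd (nat_lit 6) (Steps.bwd (nat_lit 11) (Steps.fwd (nat_lit 98304) (Steps.bwd (nat_lit 14) Steps.nil)))))) (nat_lit 160) (nat_lit 1),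
  Rule.mk (nat_lit 5) (nat_lit 59) (Steps.fwd (nat_lit 49152) (Steps.bwd (nat_lit 5) (Steps.bwd (nat_lit 6) Steps.nil))) (nat_lit 40) (nat_lit 0),
  Rule.mk (nat_lit 1) (nat_lit 104) (Steps.bwd (nat_lit 11) (Steps.fwd (nat_lit 8192) (Steps.fwd (nat_lit 114688) (Steps.bwd (nat_lit 12) (Steps.fwd (nat_lit 90112) (Steps.bwd (nat_lit 6) Steps.nil)))))) (nat_lit 161) (nat_lit 5),
  Rule.mk (nat_lit 12) (nat_lit 104) (Steps.bwd (nat_lit 3) (Steps.bwd (nat_lit 4) (Steps.fwd (nat_lit 40960) (Steps.bwd (nat_lit 8) (Steps.fwd (nat_lit 73728) (Steps.bwd (nat_lit 2) Steps.nil)))))) (nat_lit 184) (nat_lit 2)]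
noncomputable def R_25 : List (Rule) := [Rule.mk (nat_lit 10) (nat_lit 104) (Steps.bwd (nat_lit 3) (Steps.bwd (nat_lit 6) (Steps.fwd (nat_lit 90112) (Steps.fwd (nat_lit 98304) (Steps.bwd (nat_lit 14) (Steps.bwd (nat_lit 2) Steps.nil)))))) (nat_lit 180) (nat_lit 2),
  Rule.mk (nat_lit 14) (nat_lit 119) (Steps.bwd (nat_lit 3) (Steps.fwd (nat_lit 40960) (Steps.bwd (nat_lit 6) (Steps.fwd (nat_lit 57344) (Steps.bwd (nat_lit 12) (Steps.fwd (nat_lit 114688) (Steps.fwd (nat_lit 24576) Steps.nil))))))) (nat_lit 188) (nat_lit 2),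
  Rule.mk (nat_lit 1) (nat_lit 104) (Steps.bwd (nat_lit 11) (Steps.fwd (nat_lit 8192) (Steps.fwd (nat_lit 49152) (Steps.fwd (nat_lit 90112) (Steps.fwd (nat_lit 98304) (Steps.bwd (nat_lit 14) Steps.nil)))))) (nat_lit 160) (nat_lit 1),
  Rule.mk (nat_lit 10) (nat_lit 59) (Steps.bwd (nat_lit 13) (Steps.bwd (nat_lit 10) (Steps.fwd (nat_lit 106496) Steps.nil))) (nat_lit 120) (nat_lit 0),
  Rule.mk (nat_lit 3) (nat_lit 104) (Steps.fwd (nat_lit 49152) (Steps.fwd (nat_lit 90112) (Steps.bwd (nat_lit 12) (Steps.bwd (nat_lit 14) (Steps.bwd (nat_lit 2) (Steps.bwd (nat_lit 10) Steps.nil)))))) (nat_lit 180) (nat_lit 3),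
  Rule.mk (nat_lit 7) (nat_lit 104) (Steps.bwd (nat_lit 3) (Steps.fwd (nat_lit 40960) (Steps.bwd (nat_lit 7) (Steps.bwd (nat_lit 13) (Steps.bwd (nat_lit 14) (Steps.bwd (nat_lit 2) Steps.nil)))))) (nat_lit 174) (nat_lit 2),
  Rule.mk (nat_lit 10) (nat_lit 104) (Steps.bwd (nat_lit 3) (Steps.bwd (nat_lit 6) (Steps.bwd (nat_lit 11) (Steps.bwd (nat_lit 12) (Steps.fwd (nat_lit 114688) (Steps.fwd (nat_lit 24576) Steps.nil)))))) (nat_lit 180) (nat_lit 2),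
  Rule.mk (nat_lit 14) (nat_lit 119) (Steps.bwd (nat_lit 3) (Steps.fwd (nat_lit 40960) (Steps.bwd (nat_lit 6) (Steps.fwd (nat_lit 57344) (Steps.bwd (nat_lit 12) (Steps.bwd (nat_lit 14) (Steps.fwd (nat_lit 24576) Steps.nil))))))) (nat_lit 188) (nat_lit 2),
  Rule.mk (nat_lit 9) (nat_lit 134) (Steps.bwd (nat_lit 3) (Steps.bwd (nat_lit 4) (Steps.bwd (nat_lit 5) (Steps.fwd (nat_lit 65536) (Steps.bwd (nat_lit 9) (Steps.fwd (nat_lit 90112) (Steps.fwd (nat_lit 114688) (Steps.bwd (nat_lit 2) Steps.nil)))))))) (nat_lit 178) (nat_lit 2),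
  Rule.mk (nat_lit 5) (nat_lit 149) (Steps.bwd (nat_lit 3) (Steps.fwd (nat_lit 114688) (Steps.fwd (nat_lit 106496) (Steps.fwd (nat_lit 98304) (Steps.bwd (nat_lit 9) (Steps.bwd (nat_lit 8) (Steps.bwd (nat_lit 5) (Steps.bwd (nat_lit 4) (Steps.bwd (nat_lit 2) Steps.nil))))))))) (nat_lit 171) (nat_lit 9),
  Rule.mk (nat_lit 18) (nat_lit 179) (Steps.bwd (nat_lit 1) (Steps.fwd (nat_lit 16384) (Steps.bwd (nat_lit 4) (Steps.bwd (nat_lit 1) (Steps.fwd (nat_lit 24576) (Steps.fwd (nat_lit 8192) (Steps.fwd (nat_lit 24576) (Steps.bwd (nat_lit 1) (Steps.fwd (nat_lit 16384) (Steps.bwd (nat_lit 1) (Steps.fwd (nat_lit 16384) Steps.nil))))))))))) (nat_lit 192) (nat_lit 1),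
  Rule.mk (nat_lit 1) (nat_lit 179) (Steps.bwd (nat_lit 19) (Steps.fwd (nat_lit 16384) (Steps.bwd (nat_lit 4) (Steps.bwd (nat_lit 1) (Steps.fwd (nat_lit 24576) (Steps.fwd (nat_lit 8192) (Steps.fwd (nat_lit 24576) (Steps.bwd (nat_lit 1) (Steps.fwd (nat_lit 16384) (Steps.bwd (nat_lit 1) (Steps.fwd (nat_lit 16384) Steps.nil))))))))))) (nat_lit 195) (nat_lit 11),
  Rule.mk (nat_lit 11) (nat_lit 104) (Steps.fwd (nat_lit 8192) (Steps.fwd (nat_lit 49152) (Steps.bwd (nat_lit 11) (Steps.fwd (nat_lit 98304) (Steps.bwd (nat_lit 14) (Steps.bwd (nat_lit 1) Steps.nil)))))) (nat_lit 160) (nat_lit 2),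
  Rule.mk (nat_lit 12) (nat_lit 164) (Steps.bwd (nat_lit 1) (Steps.fwd (nat_lit 32768) (Steps.fwd (nat_lit 40960) (Steps.bwd (nat_lit 8) (Steps.fwd (nat_lit 73728) (Steps.bwd (nat_lit 10) (Steps.bwd (nat_lit 11) (Steps.fwd (nat_lit 98304) (Steps.bwd (nat_lit 14) (Steps.bwd (nat_lit 1) Steps.nil)))))))))) (nat_lit 162) (nat_lit 2),
  Rule.mk (nat_lit 14) (nat_lit 164) (Steps.bwd (nat_lit 12) (Steps.bwd (nat_lit 11) (Steps.fwd (nat_lit 81920) (Steps.fwd (nat_lit 73728) (Steps.fwd (nat_lit 65536) (Steps.bwd (nat_lit 5) (Steps.bwd (nat_lit 4) (Steps.bwd (nat_lit 1) (Steps.fwd (nat_lit 98304) (Steps.bwd (nat_lit 1) Steps.nil)))))))))) (nat_lit 163) (nat_lit 1),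
  Rule.mk (nat_lit 2) (nat_lit 164) (Steps.bwd (nat_lit 11) (Steps.bwd (nat_lit 3) (Steps.bwd (nat_lit 4) (Steps.fwd (nat_lit 40960) (Steps.fwd (nat_lit 65536) (Steps.fwd (nat_lit 73728) (Steps.fwd (nat_lit 81920) (Steps.bwd (nat_lit 11) (Steps.fwd (nat_lit 98304) (Steps.bwd (nat_lit 14) Steps.nil)))))))))) (nat_lit 182) (nat_lit 1),
  Rule.mk (nat_lit 17) (nat_lit 179) (Steps.bwd (nat_lit 2) (Steps.bwd (nat_lit 1) (Steps.bwd (nat_lit 2) (Steps.fwd (nat_lit 8192) (Steps.fwd (nat_lit 16384) (Steps.fwd (nat_lit 8192) (Steps.fwd (nat_lit 16384) (Steps.fwd (nat_lit 8192) (Steps.fwd (nat_lit 32768) (Steps.fwd (nat_lit 24576) (Steps.bwd (nat_lit 1) Steps.nil))))))))))) (nat_lit 193) (nat_lit 0),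
  Rule.mk (nat_lit 20) (nat_lit 179) (Steps.bwd (nat_lit 1) (Steps.bwd (nat_lit 2) (Steps.bwd (nat_lit 1) (Steps.bwd (nat_lit 2) (Steps.fwd (nat_lit 8192) (Steps.fwd (nat_lit 16384) (Steps.fwd (nat_lit 8192) (Steps.fwd (nat_lit 16384) (Steps.fwd (nat_lit 8192) (Steps.fwd (nat_lit 32768) (Steps.fwd (nat_lit 24576) Steps.nil))))))))))) (nat_lit 194) (nat_lit 1),
  Rule.mk (nat_lit 3) (nat_lit 179) (Steps.bwd (nat_lit 4) (Steps.bwd (nat_lit 1) (Steps.bwd (nat_lit 2) (Steps.bwd (nat_lit 1) (Steps.bwd (nat_lit 2) (Steps.fwd (nat_lit 8192) (Steps.fwd (nat_lit 16384) (Steps.fwd (nat_lit 8192) (Steps.fwd (nat_lit 16384) (Steps.fwd (nat_lit 8192) (Steps.fwd (nat_lit 163840) Steps.nil))))))))))) (nat_lit 195) (nat_lit 1),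
  Rule.mk (nat_lit 14) (nat_lit 89) (Steps.fwd (nat_lit 8192) (Steps.bwd (nat_lit 9) (Steps.fwd (nat_lit 8192) (Steps.bwd (nat_lit 4) (Steps.bwd (nat_lit 7) Steps.nil))))) (nat_lit 156) (nat_lit 0),
  Rule.mk (nat_lit 2) (nat_lit 104) (Steps.fwd (nat_lit 57344) (Steps.bwd (nat_lit 3) (Steps.bwd (nat_lit 14) (Steps.fwd (nat_lit 106496) (Steps.fwd (nat_lit 57344) (Steps.bwd (nat_lit 5) Steps.nil)))))) (nat_lit 175) (nat_lit 5),
  Rule.mk (nat_lit 3) (nat_lit 119) (Steps.fwd (nat_lit 40960) (Steps.bwd (nat_lit 6) (Steps.fwd (nat_lit 57344) (Steps.bwd (nat_lit 12) (Steps.bwd (nat_lit 14) (Steps.fwd (nat_lit 24576) (Steps.bwd (nat_lit 14) Steps.nil))))))) (nat_lit 188) (nat_lit 3),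
  Rule.mk (nat_lit 5) (nat_lit 149) (Steps.bwd (nat_lit 3) (Steps.bwd (nat_lit 4) (Steps.fwd (nat_lit 40960) (Steps.fwd (nat_lit 65536) (Steps.bwd (nat_lit 9) (Steps.bwd (nat_lit 12) (Steps.fwd (nat_lit 106496) (Steps.fwd (nat_lit 114688) (Steps.fwd (nat_lit 24576) Steps.nil))))))))) (nat_lit 170) (nat_lit 2),
  Rule.mk (nat_lit 2) (nat_lit 104) (Steps.fwd (nat_lit 81920) (Steps.fwd (nat_lit 16384) (Steps.fwd (nat_lit 114688) (Steps.bwd (nat_lit 12) (Steps.bwd (nat_lit 11) (Steps.fwd (nat_lit 49152) Steps.nil)))))) (nat_lit 181) (nat_lit 5),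
  Rule.mk (nat_lit 11) (nat_lit 59) (Steps.fwd (nat_lit 65536) (Steps.bwd (nat_lit 11) (Steps.fwd (nat_lit 65536) Steps.nil))) (nat_lit 86) (nat_lit 1),
  Rule.mk (nat_lit 17) (nat_lit 179) (Steps.fwd (nat_lit 24576) (Steps.fwd (nat_lit 8192) (Steps.bwd (nat_lit 2) (Steps.bwd (nat_lit 1) (Steps.bwd (nat_lit 3) (Steps.fwd (nat_lit 8192) (Steps.fwd (nat_lit 16384) (Steps.bwd (nat_lit 1) (Steps.fwd (nat_lit 32768) (Steps.bwd (nat_lit 2) (Steps.bwd (nat_lit 1) Steps.nil))))))))))) (nat_lit 193) (nat_lit 0),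
  Rule.mk (nat_lit 0) (nat_lit 194) (Steps.bwd (nat_lit 20) (Steps.fwd (nat_lit 8192) (Steps.fwd (nat_lit 24576) (Steps.fwd (nat_lit 8192) (Steps.bwd (nat_lit 2) (Steps.bwd (nat_lit 1) (Steps.bwd (nat_lit 3) (Steps.fwd (nat_lit 8192) (Steps.fwd (nat_lit 16384) (Steps.bwd (nat_lit 1) (Steps.fwd (nat_lit 32768) (Steps.bwd (nat_lit 2) Steps.nil)))))))))))) (nat_lit 194) (nat_lit 0),
  Rule.mk (nat_lit 0) (nat_lit 59) (Steps.bwd (nat_lit 19) (Steps.bwd (nat_lit 0) (Steps.bwd (nat_lit 20) Steps.nil))) (nat_lit 196) (nat_lit 0),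
  Rule.mk (nat_lit 20) (nat_lit 44) (Steps.bwd (nat_lit 0) (Steps.bwd (nat_lit 19) Steps.nil)) (nat_lit 196) (nat_lit 0),
  Rule.mk (nat_lit 19) (nat_lit 179) (Steps.fwd (nat_lit 16384) (Steps.fwd (nat_lit 32768) (Steps.fwd (nat_lit 8192) (Steps.fwd (nat_lit 24576) (Steps.fwd (nat_lit 8192) (Steps.bwd (nat_lit 2) (Steps.bwd (nat_lit 1) (Steps.bwd (nat_lit 3) (Steps.fwd (nat_lit 8192) (Steps.fwd (nat_lit 16384) (Steps.bwd (nat_lit 1) Steps.nil))))))))))) (nat_lit 195) (nat_lit 0),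
  Rule.mk (nat_lit 1) (nat_lit 104) (Steps.bwd (nat_lit 13) (Steps.bwd (nat_lit 1) (Steps.bwd (nat_lit 4) (Steps.bwd (nat_lit 5) (Steps.bwd (nat_lit 8) (Steps.bwd (nat_lit 9) Steps.nil)))))) (nat_lit 164) (nat_lit 1),
  Rule.mk (nat_lit 1) (nat_lit 134) (Steps.bwd (nat_lit 10) (Steps.fwd (nat_lit 8192) (Steps.fwd (nat_lit 32768) (Steps.bwd (nat_lit 5) (Steps.fwd (nat_lit 65536) (Steps.fwd (nat_lit 73728) (Steps.bwd (nat_lit 11) (Steps.fwd (nat_lit 114688) Steps.nil)))))))) (nat_lit 158) (nat_lit 1),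
  Rule.mk (nat_lit 6) (nat_lit 104) (Steps.bwd (nat_lit 11) (Steps.bwd (nat_lit 12) (Steps.bwd (nat_lit 14) (Steps.fwd (nat_lit 24576) (Steps.fwd (nat_lit 81920) (Steps.bwd (nat_lit 3) Steps.nil)))))) (nat_lit 180) (nat_lit 4),
  Rule.mk (nat_lit 1) (nat_lit 104) (Steps.bwd (nat_lit 4) (Steps.fwd (nat_lit 40960) (Steps.bwd (nat_lit 8) (Steps.fwd (nat_lit 73728) (Steps.bwd (nat_lit 1) (Steps.bwd (nat_lit 13) Steps.nil)))))) (nat_lit 164) (nat_lit 3),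
  Rule.mk (nat_lit 16) (nat_lit 179) (Steps.bwd (nat_lit 1) (Steps.fwd (nat_lit 16384) (Steps.fwd (nat_lit 8192) (Steps.bwd (nat_lit 3) (Steps.bwd (nat_lit 1) (Steps.bwd (nat_lit 3) (Steps.fwd (nat_lit 8192) (Steps.fwd (nat_lit 24576) (Steps.fwd (nat_lit 32768) (Steps.fwd (nat_lit 8192) (Steps.fwd (nat_lit 24576) Steps.nil))))))))))) (nat_lit 190) (nat_lit 1),
  Rule.mk (nat_lit 13) (nat_lit 59) (Steps.bwd (nat_lit 11) (Steps.bwd (nat_lit 13) (Steps.bwd (nat_lit 11) Steps.nil))) (nat_lit 122) (nat_lit 1),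
  Rule.mk (nat_lit 1) (nat_lit 104) (Steps.bwd (nat_lit 5) (Steps.fwd (nat_lit 57344) (Steps.bwd (nat_lit 13) (Steps.fwd (nat_lit 114688) (Steps.fwd (nat_lit 8192) (Steps.bwd (nat_lit 8) Steps.nil)))))) (nat_lit 154) (nat_lit 3),
  Rule.mk (nat_lit 7) (nat_lit 104) (Steps.bwd (nat_lit 3) (Steps.fwd (nat_lit 40960) (Steps.fwd (nat_lit 57344) (Steps.bwd (nat_lit 13) (Steps.fwd (nat_lit 114688) (Steps.fwd (nat_lit 24576) Steps.nil)))))) (nat_lit 174) (nat_lit 2),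
  Rule.mk (nat_lit 14) (nat_lit 119) (Steps.bwd (nat_lit 3) (Steps.fwd (nat_lit 40960) (Steps.bwd (nat_lit 6) (Steps.bwd (nat_lit 7) (Steps.fwd (nat_lit 98304) (Steps.fwd (nat_lit 114688) (Steps.bwd (nat_lit 2) Steps.nil))))))) (nat_lit 188) (nat_lit 2),
  Rule.mk (nat_lit 10) (nat_lit 104) (Steps.bwd (nat_lit 3) (Steps.bwd (nat_lit 14) (Steps.fwd (nat_lit 98304) (Steps.bwd (nat_lit 11) (Steps.fwd (nat_lit 49152) (Steps.fwd (nat_lit 24576) Steps.nil)))))) (nat_lit 181) (nat_lit 6),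
  Rule.mk (nat_lit 13) (nat_lit 134) (Steps.bwd (nat_lit 12) (Steps.fwd (nat_lit 90112) (Steps.fwd (nat_lit 81920) (Steps.bwd (nat_lit 6) (Steps.bwd (nat_lit 1) (Steps.fwd (nat_lit 114688) (Steps.bwd (nat_lit 1) (Steps.bwd (nat_lit 14) Steps.nil)))))))) (nat_lit 167) (nat_lit 2),
  Rule.mk (nat_lit 18) (nat_lit 179) (Steps.fwd (nat_lit 8192) (Steps.fwd (nat_lit 16384) (Steps.bwd (nat_lit 4) (Steps.fwd (nat_lit 8192) (Steps.bwd (nat_lit 2) (Steps.bwd (nat_lit 1) (Steps.bwd (nat_lit 2) (Steps.fwd (nat_lit 8192) (Steps.bwd (nat_lit 3) (Steps.fwd (nat_lit 8192) (Steps.bwd (nat_lit 3) Steps.nil))))))))))) (nat_lit 192) (nat_lit 1),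
  Rule.mk (nat_lit 13) (nat_lit 149) (Steps.fwd (nat_lit 114688) (Steps.fwd (nat_lit 24576) (Steps.fwd (nat_lit 40960) (Steps.bwd (nat_lit 3) (Steps.fwd (nat_lit 32768) (Steps.bwd (nat_lit 5) (Steps.bwd (nat_lit 8) (Steps.bwd (nat_lit 9) (Steps.bwd (nat_lit 12) Steps.nil))))))))) (nat_lit 170) (nat_lit 9),
  Rule.mk (nat_lit 3) (nat_lit 134) (Steps.bwd (nat_lit 14) (Steps.bwd (nat_lit 11) (Steps.fwd (nat_lit 73728) (Steps.bwd (nat_lit 8) (Steps.fwd (nat_lit 40960) (Steps.bwd (nat_lit 4) (Steps.bwd (nat_lit 2) (Steps.bwd (nat_lit 9) Steps.nil)))))))) (nat_lit 179) (nat_lit 0),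
  Rule.mk (nat_lit 3) (nat_lit 104) (Steps.bwd (nat_lit 14) (Steps.bwd (nat_lit 12) (Steps.bwd (nat_lit 11) (Steps.bwd (nat_lit 6) (Steps.bwd (nat_lit 2) (Steps.bwd (nat_lit 10) Steps.nil)))))) (nat_lit 181) (nat_lit 0),
  Rule.mk (nat_lit 10) (nat_lit 104) (Steps.bwd (nat_lit 3) (Steps.fwd (nat_lit 49152) (Steps.bwd (nat_lit 11) (Steps.fwd (nat_lit 98304) (Steps.bwd (nat_lit 14) (Steps.fwd (nat_lit 24576) Steps.nil)))))) (nat_lit 180) (nat_lit 2),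
  Rule.mk (nat_lit 14) (nat_lit 119) (Steps.bwd (nat_lit 3) (Steps.fwd (nat_lit 40960) (Steps.bwd (nat_lit 6) (Steps.bwd (nat_lit 7) (Steps.bwd (nat_lit 12) (Steps.bwd (nat_lit 14) (Steps.bwd (nat_lit 2) Steps.nil))))))) (nat_lit 188) (nat_lit 2),
  Rule.mk (nat_lit 5) (nat_lit 149) (Steps.bwd (nat_lit 3) (Steps.bwd (nat_lit 4) (Steps.bwd (nat_lit 5) (Steps.fwd (nat_lit 65536) (Steps.bwd (nat_lit 9) (Steps.bwd (nat_lit 12) (Steps.bwd (nat_lit 13) (Steps.bwd (nat_lit 14) (Steps.fwd (nat_lit 24576) Steps.nil))))))))) (nat_lit 170) (nat_lit 2),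
  Rule.mk (nat_lit 1) (nat_lit 179) (Steps.bwd (nat_lit 15) (Steps.fwd (nat_lit 16384) (Steps.fwd (nat_lit 8192) (Steps.bwd (nat_lit 4) (Steps.bwd (nat_lit 3) (Steps.fwd (nat_lit 8192) (Steps.bwd (nat_lit 2) (Steps.bwd (nat_lit 1) (Steps.fwd (nat_lit 24576) (Steps.fwd (nat_lit 8192) (Steps.bwd (nat_lit 2) Steps.nil))))))))))) (nat_lit 191) (nat_lit 11),
  Rule.mk (nat_lit 1) (nat_lit 179) (Steps.bwd (nat_lit 17) (Steps.bwd (nat_lit 2) (Steps.bwd (nat_lit 1) (Steps.fwd (nat_lit 24576) (Steps.fwd (nat_lit 8192) (Steps.fwd (nat_lit 16384) (Steps.bwd (nat_lit 1) (Steps.bwd (nat_lit 3) (Steps.bwd (nat_lit 1) (Steps.bwd (nat_lit 4) (Steps.bwd (nat_lit 2) Steps.nil))))))))))) (nat_lit 193) (nat_lit 11),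
  Rule.mk (nat_lit 4) (nat_lit 59) (Steps.fwd (nat_lit 8192) (Steps.fwd (nat_lit 40960) (Steps.bwd (nat_lit 1) Steps.nil))) (nat_lit 146) (nat_lit 2),
  Rule.mk (nat_lit 11) (nat_lit 104) (Steps.bwd (nat_lit 1) (Steps.bwd (nat_lit 6) (Steps.bwd (nat_lit 11) (Steps.bwd (nat_lit 12) (Steps.fwd (nat_lit 114688) (Steps.bwd (nat_lit 1) Steps.nil)))))) (nat_lit 160) (nat_lit 2),
  Rule.mk (nat_lit 13) (nat_lit 104) (Steps.fwd (nat_lit 8192) (Steps.bwd (nat_lit 4) (Steps.fwd (nat_lit 40960) (Steps.bwd (nat_lit 8) (Steps.bwd (nat_lit 9) (Steps.bwd (nat_lit 1) Steps.nil)))))) (nat_lit 164) (nat_lit 2),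
  Rule.mk (nat_lit 6) (nat_lit 134) (Steps.fwd (nat_lit 81920) (Steps.bwd (nat_lit 11) (Steps.bwd (nat_lit 12) (Steps.fwd (nat_lit 106496) (Steps.bwd (nat_lit 14) (Steps.bwd (nat_lit 1) (Steps.fwd (nat_lit 114688) (Steps.bwd (nat_lit 1) Steps.nil)))))))) (nat_lit 166) (nat_lit 4),
  Rule.mk (nat_lit 12) (nat_lit 164) (Steps.bwd (nat_lit 1) (Steps.fwd (nat_lit 32768) (Steps.bwd (nat_lit 5) (Steps.bwd (nat_lit 8) (Steps.bwd (nat_lit 9) (Steps.bwd (nat_lit 10) (Steps.bwd (nat_lit 11) (Steps.bwd (nat_lit 12) (Steps.fwd (nat_lit 114688) (Steps.bwd (nat_lit 1) Steps.nil)))))))))) (nat_lit 162) (nat_lit 2),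
  Rule.mk (nat_lit 2) (nat_lit 164) (Steps.bwd (nat_lit 6) (Steps.bwd (nat_lit 3) (Steps.bwd (nat_lit 14) (Steps.bwd (nat_lit 13) (Steps.bwd (nat_lit 12) (Steps.fwd (nat_lit 90112) (Steps.fwd (nat_lit 81920) (Steps.fwd (nat_lit 73728) (Steps.bwd (nat_lit 6) (Steps.fwd (nat_lit 40960) Steps.nil)))))))))) (nat_lit 173) (nat_lit 9),
  Rule.mk (nat_lit 15) (nat_lit 179) (Steps.bwd (nat_lit 3) (Steps.bwd (nat_lit 1) (Steps.fwd (nat_lit 32768) (Steps.fwd (nat_lit 16384) (Steps.fwd (nat_lit 8192) (Steps.bwd (nat_lit 2) (Steps.fwd (nat_lit 8192) (Steps.bwd (nat_lit 2) (Steps.fwd (nat_lit 8192) (Steps.bwd (nat_lit 2) (Steps.fwd (nat_lit 8192) Steps.nil))))))))))) (nat_lit 191) (nat_lit 0),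
  Rule.mk (nat_lit 1) (nat_lit 179) (Steps.bwd (nat_lit 15) (Steps.fwd (nat_lit 16384) (Steps.bwd (nat_lit 1) (Steps.fwd (nat_lit 32768) (Steps.bwd (nat_lit 3) (Steps.bwd (nat_lit 1) (Steps.bwd (nat_lit 2) (Steps.bwd (nat_lit 1) (Steps.bwd (nat_lit 2) (Steps.bwd (nat_lit 1) (Steps.fwd (nat_lit 24576) Steps.nil))))))))))) (nat_lit 191) (nat_lit 11),
  Rule.mk (nat_lit 11) (nat_lit 104) (Steps.bwd (nat_lit 1) (Steps.bwd (nat_lit 6) (Steps.bwd (nat_lit 11) (Steps.bwd (nat_lit 12) (Steps.bwd (nat_lit 14) (Steps.bwd (nat_lit 1) Steps.nil)))))) (nat_lit 160) (nat_lit 2),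
  Rule.mk (nat_lit 7) (nat_lit 104) (Steps.bwd (nat_lit 3) (Steps.bwd (nat_lit 5) (Steps.bwd (nat_lit 7) (Steps.fwd (nat_lit 106496) (Steps.bwd (nat_lit 14) (Steps.bwd (nat_lit 2) Steps.nil)))))) (nat_lit 174) (nat_lit 2),
  Rule.mk (nat_lit 12) (nat_lit 104) (Steps.bwd (nat_lit 3) (Steps.fwd (nat_lit 32768) (Steps.fwd (nat_lit 40960) (Steps.bwd (nat_lit 8) (Steps.fwd (nat_lit 73728) (Steps.fwd (nat_lit 24576) Steps.nil)))))) (nat_lit 184) (nat_lit 2),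
  Rule.mk (nat_lit 5) (nat_lit 149) (Steps.bwd (nat_lit 3) (Steps.fwd (nat_lit 32768) (Steps.fwd (nat_lit 40960) (Steps.bwd (nat_lit 8) (Steps.fwd (nat_lit 73728) (Steps.bwd (nat_lit 12) (Steps.bwd (nat_lit 13) (Steps.fwd (nat_lit 114688) (Steps.fwd (nat_lit 24576) Steps.nil))))))))) (nat_lit 170) (nat_lit 2),
  Rule.mk (nat_lit 18) (nat_lit 179) (Steps.bwd (nat_lit 1) (Steps.fwd (nat_lit 16384) (Steps.fwd (nat_lit 32768) (Steps.bwd (nat_lit 1) (Steps.fwd (nat_lit 24576) (Steps.bwd (nat_lit 1) (Steps.fwd (nat_lit 24576) (Steps.bwd (nat_lit 1) (Steps.bwd (nat_lit 3) (Steps.bwd (nat_lit 1) (Steps.bwd (nat_lit 3) Steps.nil))))))))))) (nat_lit 192) (nat_lit 1),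
  Rule.mk (nat_lit 20) (nat_lit 179) (Steps.bwd (nat_lit 1) (Steps.fwd (nat_lit 24576) (Steps.bwd (nat_lit 1) (Steps.fwd (nat_lit 24576) (Steps.bwd (nat_lit 1) (Steps.bwd (nat_lit 3) (Steps.bwd (nat_lit 1) (Steps.bwd (nat_lit 3) (Steps.fwd (nat_lit 8192) (Steps.fwd (nat_lit 32768) (Steps.bwd (nat_lit 2) Steps.nil))))))))))) (nat_lit 194) (nat_lit 1)]
noncomputable def R_26 : List (Rule) := [Rule.mk (nat_lit 19) (nat_lit 179) (Steps.fwd (nat_lit 16384) (Steps.fwd (nat_lit 32768) (Steps.bwd (nat_lit 1) (Steps.fwd (nat_lit 24576) (Steps.bwd (nat_lit 1) (Steps.fwd (nat_lit 24576) (Steps.bwd (nat_lit 1) (Steps.bwd (nat_lit 3) (Steps.bwd (nat_lit 1) (Steps.bwd (nat_lit 3) (Steps.fwd (nat_lit 8192) Steps.nil))))))))))) (nat_lit 195) (nat_lit 0),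
  Rule.mk (nat_lit 1) (nat_lit 179) (Steps.bwd (nat_lit 3) (Steps.bwd (nat_lit 1) (Steps.bwd (nat_lit 3) (Steps.fwd (nat_lit 8192) (Steps.bwd (nat_lit 3) (Steps.bwd (nat_lit 1) (Steps.bwd (nat_lit 2) (Steps.fwd (nat_lit 32768) (Steps.fwd (nat_lit 8192) (Steps.bwd (nat_lit 2) (Steps.fwd (nat_lit 122880) Steps.nil))))))))))) (nat_lit 190) (nat_lit 2),
  Rule.mk (nat_lit 1) (nat_lit 134) (Steps.bwd (nat_lit 10) (Steps.fwd (nat_lit 8192) (Steps.fwd (nat_lit 114688) (Steps.fwd (nat_lit 90112) (Steps.fwd (nat_lit 73728) (Steps.fwd (nat_lit 65536) (Steps.bwd (nat_lit 5) (Steps.fwd (nat_lit 32768) Steps.nil)))))))) (nat_lit 159) (nat_lit 7),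
  Rule.mk (nat_lit 3) (nat_lit 119) (Steps.fwd (nat_lit 40960) (Steps.bwd (nat_lit 6) (Steps.bwd (nat_lit 7) (Steps.fwd (nat_lit 98304) (Steps.bwd (nat_lit 14) (Steps.fwd (nat_lit 24576) (Steps.bwd (nat_lit 14) Steps.nil))))))) (nat_lit 188) (nat_lit 3),
  Rule.mk (nat_lit 12) (nat_lit 104) (Steps.bwd (nat_lit 3) (Steps.fwd (nat_lit 32768) (Steps.fwd (nat_lit 40960) (Steps.bwd (nat_lit 8) (Steps.fwd (nat_lit 73728) (Steps.bwd (nat_lit 2) Steps.nil)))))) (nat_lit 184) (nat_lit 2),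
  Rule.mk (nat_lit 0) (nat_lit 119) (Steps.bwd (nat_lit 14) (Steps.bwd (nat_lit 12) (Steps.bwd (nat_lit 11) (Steps.bwd (nat_lit 6) (Steps.fwd (nat_lit 8192) (Steps.bwd (nat_lit 11) (Steps.bwd (nat_lit 1) Steps.nil))))))) (nat_lit 161) (nat_lit 0),
  Rule.mk (nat_lit 5) (nat_lit 44) (Steps.bwd (nat_lit 0) (Steps.fwd (nat_lit 40960) Steps.nil)) (nat_lit 196) (nat_lit 0),
  Rule.mk (nat_lit 7) (nat_lit 44) (Steps.bwd (nat_lit 0) (Steps.fwd (nat_lit 57344) Steps.nil)) (nat_lit 196) (nat_lit 0),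
  Rule.mk (nat_lit 8) (nat_lit 44) (Steps.bwd (nat_lit 0) (Steps.fwd (nat_lit 65536) Steps.nil)) (nat_lit 196) (nat_lit 0),
  Rule.mk (nat_lit 10) (nat_lit 44) (Steps.bwd (nat_lit 0) (Steps.bwd (nat_lit 10) Steps.nil)) (nat_lit 196) (nat_lit 0),
  Rule.mk (nat_lit 15) (nat_lit 179) (Steps.bwd (nat_lit 3) (Steps.bwd (nat_lit 1) (Steps.bwd (nat_lit 4) (Steps.bwd (nat_lit 3) (Steps.fwd (nat_lit 8192) (Steps.fwd (nat_lit 24576) (Steps.fwd (nat_lit 8192) (Steps.bwd (nat_lit 2) (Steps.fwd (nat_lit 8192) (Steps.bwd (nat_lit 2) (Steps.fwd (nat_lit 8192) Steps.nil))))))))))) (nat_lit 191) (nat_lit 0),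
  Rule.mk (nat_lit 6) (nat_lit 134) (Steps.bwd (nat_lit 1) (Steps.fwd (nat_lit 114688) (Steps.fwd (nat_lit 8192) (Steps.bwd (nat_lit 14) (Steps.bwd (nat_lit 13) (Steps.bwd (nat_lit 12) (Steps.bwd (nat_lit 11) (Steps.bwd (nat_lit 10) Steps.nil)))))))) (nat_lit 167) (nat_lit 6),
  Rule.mk (nat_lit 11) (nat_lit 59) (Steps.fwd (nat_lit 49152) (Steps.bwd (nat_lit 11) (Steps.bwd (nat_lit 6) Steps.nil))) (nat_lit 82) (nat_lit 1),
  Rule.mk (nat_lit 2) (nat_lit 134) (Steps.fwd (nat_lit 106496) (Steps.fwd (nat_lit 16384) (Steps.bwd (nat_lit 14) (Steps.bwd (nat_lit 13) (Steps.bwd (nat_lit 12) (Steps.bwd (nat_lit 11) (Steps.bwd (nat_lit 10) (Steps.bwd (nat_lit 6) Steps.nil)))))))) (nat_lit 187) (nat_lit 7),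
  Rule.mk (nat_lit 7) (nat_lit 104) (Steps.bwd (nat_lit 3) (Steps.bwd (nat_lit 5) (Steps.fwd (nat_lit 57344) (Steps.fwd (nat_lit 106496) (Steps.bwd (nat_lit 14) (Steps.bwd (nat_lit 2) Steps.nil)))))) (nat_lit 174) (nat_lit 2),
  Rule.mk (nat_lit 15) (nat_lit 179) (Steps.fwd (nat_lit 16384) (Steps.bwd (nat_lit 1) (Steps.fwd (nat_lit 32768) (Steps.fwd (nat_lit 16384) (Steps.bwd (nat_lit 1) (Steps.bwd (nat_lit 2) (Steps.fwd (nat_lit 8192) (Steps.bwd (nat_lit 2) (Steps.bwd (nat_lit 1) (Steps.bwd (nat_lit 2) (Steps.bwd (nat_lit 1) Steps.nil))))))))))) (nat_lit 191) (nat_lit 0),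
  Rule.mk (nat_lit 1) (nat_lit 164) (Steps.fwd (nat_lit 114688) (Steps.fwd (nat_lit 106496) (Steps.fwd (nat_lit 98304) (Steps.fwd (nat_lit 90112) (Steps.bwd (nat_lit 10) (Steps.fwd (nat_lit 73728) (Steps.fwd (nat_lit 49152) (Steps.fwd (nat_lit 40960) (Steps.fwd (nat_lit 8192) (Steps.bwd (nat_lit 7) Steps.nil)))))))))) (nat_lit 153) (nat_lit 0),
  Rule.mk (nat_lit 13) (nat_lit 59) (Steps.bwd (nat_lit 11) (Steps.bwd (nat_lit 13) (Steps.fwd (nat_lit 90112) Steps.nil))) (nat_lit 122) (nat_lit 1),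
  Rule.mk (nat_lit 2) (nat_lit 104) (Steps.bwd (nat_lit 10) (Steps.fwd (nat_lit 16384) (Steps.bwd (nat_lit 14) (Steps.fwd (nat_lit 98304) (Steps.bwd (nat_lit 11) (Steps.fwd (nat_lit 49152) Steps.nil)))))) (nat_lit 181) (nat_lit 5),
  Rule.mk (nat_lit 1) (nat_lit 104) (Steps.bwd (nat_lit 11) (Steps.fwd (nat_lit 8192) (Steps.fwd (nat_lit 49152) (Steps.fwd (nat_lit 90112) (Steps.bwd (nat_lit 12) (Steps.bwd (nat_lit 14) Steps.nil)))))) (nat_lit 160) (nat_lit 1),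
  Rule.mk (nat_lit 1) (nat_lit 179) (Steps.bwd (nat_lit 17) (Steps.fwd (nat_lit 24576) (Steps.bwd (nat_lit 1) (Steps.fwd (nat_lit 24576) (Steps.bwd (nat_lit 1) (Steps.bwd (nat_lit 3) (Steps.bwd (nat_lit 1) (Steps.bwd (nat_lit 3) (Steps.fwd (nat_lit 8192) (Steps.fwd (nat_lit 32768) (Steps.bwd (nat_lit 2) Steps.nil))))))))))) (nat_lit 193) (nat_lit 11),
  Rule.mk (nat_lit 9) (nat_lit 89) (Steps.fwd (nat_lit 8192) (Steps.bwd (nat_lit 14) (Steps.fwd (nat_lit 57344) (Steps.bwd (nat_lit 4) (Steps.bwd (nat_lit 1) Steps.nil))))) (nat_lit 157) (nat_lit 5),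
  Rule.mk (nat_lit 1) (nat_lit 104) (Steps.bwd (nat_lit 13) (Steps.fwd (nat_lit 8192) (Steps.bwd (nat_lit 4) (Steps.fwd (nat_lit 40960) (Steps.fwd (nat_lit 65536) (Steps.fwd (nat_lit 73728) Steps.nil)))))) (nat_lit 164) (nat_lit 1),
  Rule.mk (nat_lit 17) (nat_lit 179) (Steps.fwd (nat_lit 24576) (Steps.bwd (nat_lit 1) (Steps.bwd (nat_lit 2) (Steps.fwd (nat_lit 8192) (Steps.bwd (nat_lit 3) (Steps.fwd (nat_lit 8192) (Steps.fwd (nat_lit 16384) (Steps.bwd (nat_lit 1) (Steps.fwd (nat_lit 32768) (Steps.bwd (nat_lit 2) (Steps.bwd (nat_lit 1) Steps.nil))))))))))) (nat_lit 193) (nat_lit 0),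
  Rule.mk (nat_lit 9) (nat_lit 89) (Steps.bwd (nat_lit 1) (Steps.bwd (nat_lit 4) (Steps.fwd (nat_lit 57344) (Steps.bwd (nat_lit 14) (Steps.bwd (nat_lit 1) Steps.nil))))) (nat_lit 156) (nat_lit 2),
  Rule.mk (nat_lit 3) (nat_lit 134) (Steps.fwd (nat_lit 114688) (Steps.fwd (nat_lit 106496) (Steps.fwd (nat_lit 98304) (Steps.fwd (nat_lit 90112) (Steps.fwd (nat_lit 81920) (Steps.fwd (nat_lit 49152) (Steps.bwd (nat_lit 2) (Steps.bwd (nat_lit 13) Steps.nil)))))))) (nat_lit 187) (nat_lit 0),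
  Rule.mk (nat_lit 12) (nat_lit 104) (Steps.bwd (nat_lit 3) (Steps.fwd (nat_lit 32768) (Steps.fwd (nat_lit 40960) (Steps.bwd (nat_lit 8) (Steps.bwd (nat_lit 9) (Steps.bwd (nat_lit 2) Steps.nil)))))) (nat_lit 184) (nat_lit 2),
  Rule.mk (nat_lit 1) (nat_lit 89) (Steps.bwd (nat_lit 9) (Steps.fwd (nat_lit 8192) (Steps.bwd (nat_lit 4) (Steps.fwd (nat_lit 57344) (Steps.bwd (nat_lit 14) Steps.nil))))) (nat_lit 156) (nat_lit 1),
  Rule.mk (nat_lit 11) (nat_lit 164) (Steps.bwd (nat_lit 3) (Steps.bwd (nat_lit 14) (Steps.bwd (nat_lit 12) (Steps.bwd (nat_lit 11) (Steps.bwd (nat_lit 10) (Steps.bwd (nat_lit 9) (Steps.fwd (nat_lit 65536) (Steps.fwd (nat_lit 40960) (Steps.bwd (nat_lit 4) (Steps.bwd (nat_lit 2) Steps.nil)))))))))) (nat_lit 183) (nat_lit 10),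
  Rule.mk (nat_lit 16) (nat_lit 179) (Steps.bwd (nat_lit 1) (Steps.bwd (nat_lit 3) (Steps.fwd (nat_lit 8192) (Steps.fwd (nat_lit 16384) (Steps.bwd (nat_lit 1) (Steps.fwd (nat_lit 16384) (Steps.bwd (nat_lit 1) (Steps.bwd (nat_lit 2) (Steps.bwd (nat_lit 4) (Steps.fwd (nat_lit 8192) (Steps.bwd (nat_lit 2) Steps.nil))))))))))) (nat_lit 190) (nat_lit 1),
  Rule.mk (nat_lit 2) (nat_lit 104) (Steps.fwd (nat_lit 81920) (Steps.bwd (nat_lit 3) (Steps.bwd (nat_lit 14) (Steps.bwd (nat_lit 12) (Steps.bwd (nat_lit 11) (Steps.bwd (nat_lit 6) Steps.nil)))))) (nat_lit 181) (nat_lit 5),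
  Rule.mk (nat_lit 2) (nat_lit 104) (Steps.bwd (nat_lit 10) (Steps.bwd (nat_lit 3) (Steps.bwd (nat_lit 14) (Steps.fwd (nat_lit 98304) (Steps.fwd (nat_lit 90112) (Steps.fwd (nat_lit 49152) Steps.nil)))))) (nat_lit 181) (nat_lit 5),
  Rule.mk (nat_lit 16) (nat_lit 179) (Steps.bwd (nat_lit 1) (Steps.bwd (nat_lit 3) (Steps.bwd (nat_lit 1) (Steps.bwd (nat_lit 3) (Steps.fwd (nat_lit 8192) (Steps.bwd (nat_lit 3) (Steps.fwd (nat_lit 8192) (Steps.bwd (nat_lit 2) (Steps.fwd (nat_lit 32768) (Steps.fwd (nat_lit 8192) (Steps.bwd (nat_lit 2) Steps.nil))))))))))) (nat_lit 190) (nat_lit 1),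
  Rule.mk (nat_lit 1) (nat_lit 134) (Steps.bwd (nat_lit 10) (Steps.bwd (nat_lit 1) (Steps.fwd (nat_lit 32768) (Steps.bwd (nat_lit 5) (Steps.bwd (nat_lit 8) (Steps.bwd (nat_lit 9) (Steps.bwd (nat_lit 11) (Steps.bwd (nat_lit 14) Steps.nil)))))))) (nat_lit 158) (nat_lit 1),
  Rule.mk (nat_lit 14) (nat_lit 89) (Steps.bwd (nat_lit 2) (Steps.fwd (nat_lit 65536) (Steps.fwd (nat_lit 16384) (Steps.fwd (nat_lit 32768) (Steps.bwd (nat_lit 7) Steps.nil))))) (nat_lit 176) (nat_lit 0),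
  Rule.mk (nat_lit 6) (nat_lit 104) (Steps.bwd (nat_lit 2) (Steps.fwd (nat_lit 81920) (Steps.fwd (nat_lit 16384) (Steps.fwd (nat_lit 114688) (Steps.fwd (nat_lit 98304) (Steps.bwd (nat_lit 11) Steps.nil)))))) (nat_lit 181) (nat_lit 4),
  Rule.mk (nat_lit 8) (nat_lit 59) (Steps.fwd (nat_lit 49152) (Steps.bwd (nat_lit 8) (Steps.bwd (nat_lit 6) Steps.nil))) (nat_lit 52) (nat_lit 1),
  Rule.mk (nat_lit 1) (nat_lit 149) (Steps.fwd (nat_lit 32768) (Steps.bwd (nat_lit 5) (Steps.bwd (nat_lit 8) (Steps.fwd (nat_lit 73728) (Steps.fwd (nat_lit 98304) (Steps.fwd (nat_lit 106496) (Steps.fwd (nat_lit 114688) (Steps.bwd (nat_lit 1) (Steps.bwd (nat_lit 6) Steps.nil))))))))) (nat_lit 150) (nat_lit 3),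
  Rule.mk (nat_lit 12) (nat_lit 104) (Steps.bwd (nat_lit 3) (Steps.fwd (nat_lit 32768) (Steps.bwd (nat_lit 5) (Steps.bwd (nat_lit 8) (Steps.bwd (nat_lit 9) (Steps.fwd (nat_lit 24576) Steps.nil)))))) (nat_lit 184) (nat_lit 2),
  Rule.mk (nat_lit 5) (nat_lit 149) (Steps.bwd (nat_lit 3) (Steps.fwd (nat_lit 32768) (Steps.bwd (nat_lit 5) (Steps.bwd (nat_lit 8) (Steps.bwd (nat_lit 9) (Steps.bwd (nat_lit 12) (Steps.bwd (nat_lit 13) (Steps.bwd (nat_lit 14) (Steps.bwd (nat_lit 2) Steps.nil))))))))) (nat_lit 170) (nat_lit 2),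
  Rule.mk (nat_lit 1) (nat_lit 104) (Steps.fwd (nat_lit 106496) (Steps.bwd (nat_lit 1) (Steps.fwd (nat_lit 73728) (Steps.fwd (nat_lit 65536) (Steps.bwd (nat_lit 5) (Steps.fwd (nat_lit 32768) Steps.nil)))))) (nat_lit 165) (nat_lit 5),
  Rule.mk (nat_lit 3) (nat_lit 134) (Steps.fwd (nat_lit 114688) (Steps.bwd (nat_lit 11) (Steps.fwd (nat_lit 73728) (Steps.bwd (nat_lit 8) (Steps.bwd (nat_lit 5) (Steps.bwd (nat_lit 4) (Steps.fwd (nat_lit 24576) (Steps.bwd (nat_lit 9) Steps.nil)))))))) (nat_lit 179) (nat_lit 0),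
  Rule.mk (nat_lit 2) (nat_lit 179) (Steps.bwd (nat_lit 16) (Steps.bwd (nat_lit 1) (Steps.bwd (nat_lit 3) (Steps.fwd (nat_lit 8192) (Steps.fwd (nat_lit 16384) (Steps.bwd (nat_lit 1) (Steps.bwd (nat_lit 3) (Steps.bwd (nat_lit 1) (Steps.bwd (nat_lit 2) (Steps.bwd (nat_lit 4) (Steps.bwd (nat_lit 1) Steps.nil))))))))))) (nat_lit 190) (nat_lit 0),
  Rule.mk (nat_lit 1) (nat_lit 104) (Steps.fwd (nat_lit 32768) (Steps.bwd (nat_lit 5) (Steps.bwd (nat_lit 8) (Steps.fwd (nat_lit 73728) (Steps.fwd (nat_lit 8192) (Steps.bwd (nat_lit 13) Steps.nil)))))) (nat_lit 164) (nat_lit 3),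
  Rule.mk (nat_lit 2) (nat_lit 104) (Steps.fwd (nat_lit 81920) (Steps.fwd (nat_lit 16384) (Steps.fwd (nat_lit 114688) (Steps.bwd (nat_lit 12) (Steps.fwd (nat_lit 90112) (Steps.bwd (nat_lit 6) Steps.nil)))))) (nat_lit 181) (nat_lit 5),
  Rule.mk (nat_lit 3) (nat_lit 164) (Steps.bwd (nat_lit 14) (Steps.bwd (nat_lit 12) (Steps.bwd (nat_lit 11) (Steps.bwd (nat_lit 10) (Steps.bwd (nat_lit 9) (Steps.fwd (nat_lit 65536) (Steps.fwd (nat_lit 40960) (Steps.fwd (nat_lit 32768) (Steps.bwd (nat_lit 2) (Steps.bwd (nat_lit 11) Steps.nil)))))))))) (nat_lit 183) (nat_lit 0),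
  Rule.mk (nat_lit 11) (nat_lit 104) (Steps.bwd (nat_lit 1) (Steps.bwd (nat_lit 14) (Steps.fwd (nat_lit 98304) (Steps.fwd (nat_lit 90112) (Steps.fwd (nat_lit 49152) (Steps.fwd (nat_lit 8192) Steps.nil)))))) (nat_lit 161) (nat_lit 6),
  Rule.mk (nat_lit 10) (nat_lit 59) (Steps.fwd (nat_lit 90112) (Steps.bwd (nat_lit 10) (Steps.bwd (nat_lit 11) Steps.nil))) (nat_lit 90) (nat_lit 0),
  Rule.mk (nat_lit 12) (nat_lit 59) (Steps.fwd (nat_lit 90112) (Steps.fwd (nat_lit 98304) (Steps.bwd (nat_lit 11) Steps.nil))) (nat_lit 106) (nat_lit 1),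
  Rule.mk (nat_lit 7) (nat_lit 104) (Steps.bwd (nat_lit 3) (Steps.bwd (nat_lit 5) (Steps.fwd (nat_lit 57344) (Steps.fwd (nat_lit 106496) (Steps.fwd (nat_lit 114688) (Steps.bwd (nat_lit 2) Steps.nil)))))) (nat_lit 174) (nat_lit 2),
  Rule.mk (nat_lit 10) (nat_lit 104) (Steps.bwd (nat_lit 3) (Steps.bwd (nat_lit 14) (Steps.fwd (nat_lit 98304) (Steps.fwd (nat_lit 90112) (Steps.fwd (nat_lit 49152) (Steps.fwd (nat_lit 24576) Steps.nil)))))) (nat_lit 181) (nat_lit 6),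
  Rule.mk (nat_lit 2) (nat_lit 164) (Steps.bwd (nat_lit 11) (Steps.fwd (nat_lit 16384) (Steps.fwd (nat_lit 114688) (Steps.bwd (nat_lit 12) (Steps.bwd (nat_lit 11) (Steps.fwd (nat_lit 81920) (Steps.fwd (nat_lit 73728) (Steps.bwd (nat_lit 8) (Steps.fwd (nat_lit 40960) (Steps.bwd (nat_lit 4) Steps.nil)))))))))) (nat_lit 183) (nat_lit 9),
  Rule.mk (nat_lit 3) (nat_lit 119) (Steps.fwd (nat_lit 40960) (Steps.fwd (nat_lit 49152) (Steps.bwd (nat_lit 7) (Steps.fwd (nat_lit 98304) (Steps.fwd (nat_lit 114688) (Steps.bwd (nat_lit 2) (Steps.fwd (nat_lit 114688) Steps.nil))))))) (nat_lit 188) (nat_lit 3),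
  Rule.mk (nat_lit 1) (nat_lit 104) (Steps.fwd (nat_lit 90112) (Steps.bwd (nat_lit 1) (Steps.fwd (nat_lit 49152) (Steps.fwd (nat_lit 90112) (Steps.bwd (nat_lit 12) (Steps.bwd (nat_lit 14) Steps.nil)))))) (nat_lit 160) (nat_lit 1),
  Rule.mk (nat_lit 14) (nat_lit 119) (Steps.bwd (nat_lit 3) (Steps.bwd (nat_lit 5) (Steps.bwd (nat_lit 6) (Steps.fwd (nat_lit 57344) (Steps.fwd (nat_lit 98304) (Steps.bwd (nat_lit 14) (Steps.fwd (nat_lit 24576) Steps.nil))))))) (nat_lit 188) (nat_lit 2),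
  Rule.mk (nat_lit 1) (nat_lit 104) (Steps.bwd (nat_lit 11) (Steps.fwd (nat_lit 8192) (Steps.fwd (nat_lit 114688) (Steps.bwd (nat_lit 12) (Steps.bwd (nat_lit 11) (Steps.bwd (nat_lit 6) Steps.nil)))))) (nat_lit 161) (nat_lit 5),
  Rule.mk (nat_lit 2) (nat_lit 164) (Steps.bwd (nat_lit 11) (Steps.bwd (nat_lit 3) (Steps.bwd (nat_lit 14) (Steps.fwd (nat_lit 98304) (Steps.bwd (nat_lit 11) (Steps.fwd (nat_lit 81920) (Steps.fwd (nat_lit 73728) (Steps.bwd (nat_lit 8) (Steps.bwd (nat_lit 5) (Steps.fwd (nat_lit 32768) Steps.nil)))))))))) (nat_lit 183) (nat_lit 9),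
  Rule.mk (nat_lit 9) (nat_lit 89) (Steps.bwd (nat_lit 1) (Steps.fwd (nat_lit 32768) (Steps.bwd (nat_lit 7) (Steps.bwd (nat_lit 14) (Steps.bwd (nat_lit 1) Steps.nil))))) (nat_lit 156) (nat_lit 2),
  Rule.mk (nat_lit 14) (nat_lit 164) (Steps.bwd (nat_lit 1) (Steps.fwd (nat_lit 98304) (Steps.fwd (nat_lit 8192) (Steps.fwd (nat_lit 32768) (Steps.fwd (nat_lit 40960) (Steps.fwd (nat_lit 65536) (Steps.bwd (nat_lit 9) (Steps.bwd (nat_lit 10) (Steps.bwd (nat_lit 11) (Steps.fwd (nat_lit 98304) Steps.nil)))))))))) (nat_lit 162) (nat_lit 0),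
  Rule.mk (nat_lit 10) (nat_lit 104) (Steps.bwd (nat_lit 3) (Steps.bwd (nat_lit 14) (Steps.fwd (nat_lit 98304) (Steps.fwd (nat_lit 90112) (Steps.bwd (nat_lit 6) (Steps.bwd (nat_lit 2) Steps.nil)))))) (nat_lit 181) (nat_lit 6),
  Rule.mk (nat_lit 2) (nat_lit 164) (Steps.bwd (nat_lit 11) (Steps.fwd (nat_lit 16384) (Steps.fwd (nat_lit 32768) (Steps.fwd (nat_lit 40960) (Steps.bwd (nat_lit 8) (Steps.bwd (nat_lit 9) (Steps.fwd (nat_lit 81920) (Steps.fwd (nat_lit 90112) (Steps.fwd (nat_lit 98304) (Steps.fwd (nat_lit 114688) Steps.nil)))))))))) (nat_lit 182) (nat_lit 1),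
  Rule.mk (nat_lit 0) (nat_lit 194) (Steps.bwd (nat_lit 15) (Steps.fwd (nat_lit 16384) (Steps.fwd (nat_lit 8192) (Steps.bwd (nat_lit 4) (Steps.bwd (nat_lit 3) (Steps.fwd (nat_lit 8192) (Steps.bwd (nat_lit 2) (Steps.bwd (nat_lit 1) (Steps.bwd (nat_lit 2) (Steps.bwd (nat_lit 1) (Steps.bwd (nat_lit 2) (Steps.fwd (nat_lit 8192) Steps.nil)))))))))))) (nat_lit 191) (nat_lit 11),
  Rule.mk (nat_lit 0) (nat_lit 59) (Steps.bwd (nat_lit 16) (Steps.bwd (nat_lit 0) (Steps.bwd (nat_lit 15) Steps.nil))) (nat_lit 196) (nat_lit 0),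
  Rule.mk (nat_lit 15) (nat_lit 179) (Steps.bwd (nat_lit 3) (Steps.fwd (nat_lit 8192) (Steps.fwd (nat_lit 32768) (Steps.bwd (nat_lit 3) (Steps.fwd (nat_lit 8192) (Steps.fwd (nat_lit 24576) (Steps.fwd (nat_lit 8192) (Steps.bwd (nat_lit 2) (Steps.bwd (nat_lit 1) (Steps.bwd (nat_lit 2) (Steps.bwd (nat_lit 1) Steps.nil))))))))))) (nat_lit 191) (nat_lit 0)]
noncomputable def R_27 : List (Rule) := [Rule.mk (nat_lit 3) (nat_lit 149) (Steps.fwd (nat_lit 32768) (Steps.bwd (nat_lit 5) (Steps.bwd (nat_lit 8) (Steps.fwd (nat_lit 73728) (Steps.fwd (nat_lit 98304) (Steps.fwd (nat_lit 106496) (Steps.bwd (nat_lit 14) (Steps.bwd (nat_lit 2) (Steps.bwd (nat_lit 5) Steps.nil))))))))) (nat_lit 170) (nat_lit 3),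
  Rule.mk (nat_lit 1) (nat_lit 179) (Steps.bwd (nat_lit 3) (Steps.bwd (nat_lit 1) (Steps.bwd (nat_lit 3) (Steps.fwd (nat_lit 8192) (Steps.fwd (nat_lit 16384) (Steps.fwd (nat_lit 8192) (Steps.bwd (nat_lit 2) (Steps.fwd (nat_lit 32768) (Steps.bwd (nat_lit 1) (Steps.fwd (nat_lit 24576) (Steps.fwd (nat_lit 122880) Steps.nil))))))))))) (nat_lit 190) (nat_lit 2),
  Rule.mk (nat_lit 11) (nat_lit 104) (Steps.bwd (nat_lit 1) (Steps.fwd (nat_lit 49152) (Steps.fwd (nat_lit 90112) (Steps.fwd (nat_lit 98304) (Steps.fwd (nat_lit 114688) (Steps.bwd (nat_lit 1) Steps.nil)))))) (nat_lit 160) (nat_lit 2),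
  Rule.mk (nat_lit 12) (nat_lit 59) (Steps.fwd (nat_lit 90112) (Steps.bwd (nat_lit 12) (Steps.bwd (nat_lit 11) Steps.nil))) (nat_lit 106) (nat_lit 1),
  Rule.mk (nat_lit 18) (nat_lit 179) (Steps.bwd (nat_lit 1) (Steps.fwd (nat_lit 16384) (Steps.fwd (nat_lit 32768) (Steps.fwd (nat_lit 8192) (Steps.bwd (nat_lit 2) (Steps.bwd (nat_lit 1) (Steps.fwd (nat_lit 24576) (Steps.fwd (nat_lit 8192) (Steps.bwd (nat_lit 3) (Steps.bwd (nat_lit 1) (Steps.fwd (nat_lit 16384) Steps.nil))))))))))) (nat_lit 192) (nat_lit 1),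
  Rule.mk (nat_lit 1) (nat_lit 104) (Steps.fwd (nat_lit 90112) (Steps.bwd (nat_lit 1) (Steps.fwd (nat_lit 49152) (Steps.bwd (nat_lit 11) (Steps.fwd (nat_lit 98304) (Steps.bwd (nat_lit 14) Steps.nil)))))) (nat_lit 160) (nat_lit 1),
  Rule.mk (nat_lit 1) (nat_lit 104) (Steps.fwd (nat_lit 32768) (Steps.bwd (nat_lit 5) (Steps.fwd (nat_lit 65536) (Steps.bwd (nat_lit 9) (Steps.bwd (nat_lit 1) (Steps.bwd (nat_lit 13) Steps.nil)))))) (nat_lit 164) (nat_lit 3),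
  Rule.mk (nat_lit 18) (nat_lit 179) (Steps.bwd (nat_lit 1) (Steps.fwd (nat_lit 16384) (Steps.fwd (nat_lit 32768) (Steps.bwd (nat_lit 1) (Steps.bwd (nat_lit 2) (Steps.fwd (nat_lit 8192) (Steps.fwd (nat_lit 24576) (Steps.bwd (nat_lit 1) (Steps.fwd (nat_lit 16384) (Steps.fwd (nat_lit 8192) (Steps.fwd (nat_lit 16384) Steps.nil))))))))))) (nat_lit 192) (nat_lit 1),
  Rule.mk (nat_lit 16) (nat_lit 179) (Steps.bwd (nat_lit 1) (Steps.bwd (nat_lit 3) (Steps.fwd (nat_lit 8192) (Steps.bwd (nat_lit 3) (Steps.bwd (nat_lit 1) (Steps.fwd (nat_lit 16384) (Steps.fwd (nat_lit 8192) (Steps.bwd (nat_lit 2) (Steps.bwd (nat_lit 4) (Steps.bwd (nat_lit 1) (Steps.bwd (nat_lit 2) Steps.nil))))))))))) (nat_lit 190) (nat_lit 1),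
  Rule.mk (nat_lit 17) (nat_lit 179) (Steps.bwd (nat_lit 2) (Steps.bwd (nat_lit 1) (Steps.fwd (nat_lit 24576) (Steps.fwd (nat_lit 8192) (Steps.bwd (nat_lit 3) (Steps.bwd (nat_lit 1) (Steps.fwd (nat_lit 16384) (Steps.fwd (nat_lit 8192) (Steps.bwd (nat_lit 4) (Steps.fwd (nat_lit 24576) (Steps.bwd (nat_lit 1) Steps.nil))))))))))) (nat_lit 193) (nat_lit 0),
  Rule.mk (nat_lit 20) (nat_lit 179) (Steps.fwd (nat_lit 8192) (Steps.bwd (nat_lit 2) (Steps.bwd (nat_lit 1) (Steps.fwd (nat_lit 24576) (Steps.fwd (nat_lit 8192) (Steps.bwd (nat_lit 3) (Steps.bwd (nat_lit 1) (Steps.fwd (nat_lit 16384) (Steps.fwd (nat_lit 8192) (Steps.bwd (nat_lit 4) (Steps.fwd (nat_lit 24576) Steps.nil))))))))))) (nat_lit 194) (nat_lit 1),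
  Rule.mk (nat_lit 19) (nat_lit 179) (Steps.bwd (nat_lit 3) (Steps.bwd (nat_lit 4) (Steps.fwd (nat_lit 8192) (Steps.bwd (nat_lit 2) (Steps.bwd (nat_lit 1) (Steps.fwd (nat_lit 24576) (Steps.fwd (nat_lit 8192) (Steps.bwd (nat_lit 3) (Steps.bwd (nat_lit 1) (Steps.fwd (nat_lit 16384) (Steps.fwd (nat_lit 8192) Steps.nil))))))))))) (nat_lit 195) (nat_lit 0),
  Rule.mk (nat_lit 2) (nat_lit 164) (Steps.bwd (nat_lit 11) (Steps.bwd (nat_lit 3) (Steps.fwd (nat_lit 114688) (Steps.bwd (nat_lit 12) (Steps.bwd (nat_lit 11) (Steps.fwd (nat_lit 81920) (Steps.fwd (nat_lit 73728) (Steps.bwd (nat_lit 8) (Steps.bwd (nat_lit 5) (Steps.fwd (nat_lit 32768) Steps.nil)))))))))) (nat_lit 183) (nat_lit 9),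
  Rule.mk (nat_lit 18) (nat_lit 179) (Steps.fwd (nat_lit 8192) (Steps.bwd (nat_lit 3) (Steps.bwd (nat_lit 4) (Steps.bwd (nat_lit 1) (Steps.fwd (nat_lit 24576) (Steps.bwd (nat_lit 1) (Steps.bwd (nat_lit 2) (Steps.fwd (nat_lit 8192) (Steps.fwd (nat_lit 16384) (Steps.fwd (nat_lit 8192) (Steps.bwd (nat_lit 3) Steps.nil))))))))))) (nat_lit 192) (nat_lit 1),
  Rule.mk (nat_lit 20) (nat_lit 179) (Steps.bwd (nat_lit 1) (Steps.fwd (nat_lit 24576) (Steps.bwd (nat_lit 1) (Steps.bwd (nat_lit 2) (Steps.fwd (nat_lit 8192) (Steps.fwd (nat_lit 16384) (Steps.fwd (nat_lit 8192) (Steps.bwd (nat_lit 3) (Steps.fwd (nat_lit 8192) (Steps.fwd (nat_lit 32768) (Steps.fwd (nat_lit 24576) Steps.nil))))))))))) (nat_lit 194) (nat_lit 1),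
  Rule.mk (nat_lit 11) (nat_lit 104) (Steps.bwd (nat_lit 1) (Steps.bwd (nat_lit 6) (Steps.fwd (nat_lit 90112) (Steps.fwd (nat_lit 98304) (Steps.bwd (nat_lit 14) (Steps.fwd (nat_lit 8192) Steps.nil)))))) (nat_lit 160) (nat_lit 2),
  Rule.mk (nat_lit 0) (nat_lit 194) (Steps.bwd (nat_lit 18) (Steps.bwd (nat_lit 1) (Steps.fwd (nat_lit 16384) (Steps.fwd (nat_lit 32768) (Steps.fwd (nat_lit 8192) (Steps.bwd (nat_lit 2) (Steps.bwd (nat_lit 1) (Steps.fwd (nat_lit 24576) (Steps.bwd (nat_lit 1) (Steps.fwd (nat_lit 16384) (Steps.bwd (nat_lit 1) (Steps.bwd (nat_lit 3) Steps.nil)))))))))))) (nat_lit 192) (nat_lit 0),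
  Rule.mk (nat_lit 17) (nat_lit 179) (Steps.fwd (nat_lit 24576) (Steps.fwd (nat_lit 8192) (Steps.bwd (nat_lit 2) (Steps.bwd (nat_lit 1) (Steps.bwd (nat_lit 3) (Steps.fwd (nat_lit 8192) (Steps.bwd (nat_lit 3) (Steps.bwd (nat_lit 1) (Steps.fwd (nat_lit 32768) (Steps.fwd (nat_lit 24576) (Steps.bwd (nat_lit 1) Steps.nil))))))))))) (nat_lit 193) (nat_lit 0),
  Rule.mk (nat_lit 19) (nat_lit 179) (Steps.fwd (nat_lit 16384) (Steps.fwd (nat_lit 32768) (Steps.fwd (nat_lit 8192) (Steps.bwd (nat_lit 2) (Steps.bwd (nat_lit 1) (Steps.fwd (nat_lit 24576) (Steps.bwd (nat_lit 1) (Steps.fwd (nat_lit 16384) (Steps.bwd (nat_lit 1) (Steps.bwd (nat_lit 3) (Steps.fwd (nat_lit 8192) Steps.nil))))))))))) (nat_lit 195) (nat_lit 0),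
  Rule.mk (nat_lit 6) (nat_lit 104) (Steps.bwd (nat_lit 2) (Steps.fwd (nat_lit 81920) (Steps.bwd (nat_lit 3) (Steps.bwd (nat_lit 14) (Steps.fwd (nat_lit 98304) (Steps.bwd (nat_lit 11) Steps.nil)))))) (nat_lit 181) (nat_lit 4),
  Rule.mk (nat_lit 11) (nat_lit 59) (Steps.fwd (nat_lit 49152) (Steps.fwd (nat_lit 90112) (Steps.fwd (nat_lit 49152) Steps.nil))) (nat_lit 82) (nat_lit 1),
  Rule.mk (nat_lit 1) (nat_lit 104) (Steps.fwd (nat_lit 49152) (Steps.fwd (nat_lit 90112) (Steps.bwd (nat_lit 12) (Steps.fwd (nat_lit 114688) (Steps.fwd (nat_lit 8192) (Steps.bwd (nat_lit 11) Steps.nil)))))) (nat_lit 160) (nat_lit 3),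
  Rule.mk (nat_lit 0) (nat_lit 194) (Steps.bwd (nat_lit 18) (Steps.fwd (nat_lit 8192) (Steps.bwd (nat_lit 3) (Steps.fwd (nat_lit 32768) (Steps.bwd (nat_lit 1) (Steps.bwd (nat_lit 2) (Steps.bwd (nat_lit 1) (Steps.bwd (nat_lit 2) (Steps.fwd (nat_lit 8192) (Steps.fwd (nat_lit 16384) (Steps.bwd (nat_lit 1) (Steps.fwd (nat_lit 16384) Steps.nil)))))))))))) (nat_lit 192) (nat_lit 0),
  Rule.mk (nat_lit 20) (nat_lit 179) (Steps.bwd (nat_lit 1) (Steps.bwd (nat_lit 2) (Steps.bwd (nat_lit 1) (Steps.bwd (nat_lit 2) (Steps.fwd (nat_lit 8192) (Steps.fwd (nat_lit 16384) (Steps.bwd (nat_lit 1) (Steps.fwd (nat_lit 16384) (Steps.fwd (nat_lit 8192) (Steps.fwd (nat_lit 32768) (Steps.fwd (nat_lit 24576) Steps.nil))))))))))) (nat_lit 194) (nat_lit 1),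
  Rule.mk (nat_lit 19) (nat_lit 179) (Steps.bwd (nat_lit 3) (Steps.fwd (nat_lit 32768) (Steps.bwd (nat_lit 1) (Steps.bwd (nat_lit 2) (Steps.bwd (nat_lit 1) (Steps.bwd (nat_lit 2) (Steps.fwd (nat_lit 8192) (Steps.fwd (nat_lit 16384) (Steps.bwd (nat_lit 1) (Steps.fwd (nat_lit 16384) (Steps.fwd (nat_lit 8192) Steps.nil))))))))))) (nat_lit 195) (nat_lit 0),
  Rule.mk (nat_lit 15) (nat_lit 179) (Steps.fwd (nat_lit 16384) (Steps.bwd (nat_lit 1) (Steps.bwd (nat_lit 4) (Steps.bwd (nat_lit 3) (Steps.fwd (nat_lit 8192) (Steps.bwd (nat_lit 2) (Steps.bwd (nat_lit 1) (Steps.fwd (nat_lit 24576) (Steps.bwd (nat_lit 1) (Steps.fwd (nat_lit 24576) (Steps.bwd (nat_lit 1) Steps.nil))))))))))) (nat_lit 191) (nat_lit 0),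
  Rule.mk (nat_lit 1) (nat_lit 179) (Steps.bwd (nat_lit 17) (Steps.bwd (nat_lit 2) (Steps.bwd (nat_lit 1) (Steps.bwd (nat_lit 2) (Steps.fwd (nat_lit 8192) (Steps.fwd (nat_lit 16384) (Steps.fwd (nat_lit 8192) (Steps.fwd (nat_lit 16384) (Steps.bwd (nat_lit 1) (Steps.bwd (nat_lit 4) (Steps.fwd (nat_lit 24576) Steps.nil))))))))))) (nat_lit 193) (nat_lit 11),
  Rule.mk (nat_lit 20) (nat_lit 179) (Steps.fwd (nat_lit 8192) (Steps.bwd (nat_lit 2) (Steps.bwd (nat_lit 1) (Steps.bwd (nat_lit 2) (Steps.fwd (nat_lit 8192) (Steps.fwd (nat_lit 16384) (Steps.fwd (nat_lit 8192) (Steps.fwd (nat_lit 16384) (Steps.bwd (nat_lit 1) (Steps.bwd (nat_lit 4) (Steps.fwd (nat_lit 24576) Steps.nil))))))))))) (nat_lit 194) (nat_lit 1),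
  Rule.mk (nat_lit 14) (nat_lit 89) (Steps.fwd (nat_lit 57344) (Steps.bwd (nat_lit 4) (Steps.fwd (nat_lit 8192) (Steps.fwd (nat_lit 73728) (Steps.bwd (nat_lit 1) Steps.nil))))) (nat_lit 157) (nat_lit 1),
  Rule.mk (nat_lit 13) (nat_lit 104) (Steps.fwd (nat_lit 8192) (Steps.bwd (nat_lit 4) (Steps.bwd (nat_lit 5) (Steps.fwd (nat_lit 65536) (Steps.fwd (nat_lit 73728) (Steps.bwd (nat_lit 1) Steps.nil)))))) (nat_lit 164) (nat_lit 2),
  Rule.mk (nat_lit 10) (nat_lit 134) (Steps.bwd (nat_lit 1) (Steps.bwd (nat_lit 4) (Steps.fwd (nat_lit 40960) (Steps.fwd (nat_lit 65536) (Steps.fwd (nat_lit 73728) (Steps.bwd (nat_lit 11) (Steps.fwd (nat_lit 114688) (Steps.bwd (nat_lit 1) Steps.nil)))))))) (nat_lit 158) (nat_lit 2),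
  Rule.mk (nat_lit 17) (nat_lit 179) (Steps.fwd (nat_lit 24576) (Steps.fwd (nat_lit 8192) (Steps.fwd (nat_lit 24576) (Steps.fwd (nat_lit 8192) (Steps.fwd (nat_lit 16384) (Steps.bwd (nat_lit 1) (Steps.bwd (nat_lit 3) (Steps.bwd (nat_lit 1) (Steps.bwd (nat_lit 4) (Steps.bwd (nat_lit 2) (Steps.fwd (nat_lit 8192) Steps.nil))))))))))) (nat_lit 193) (nat_lit 0),
  Rule.mk (nat_lit 20) (nat_lit 179) (Steps.fwd (nat_lit 8192) (Steps.fwd (nat_lit 24576) (Steps.fwd (nat_lit 8192) (Steps.fwd (nat_lit 24576) (Steps.fwd (nat_lit 8192) (Steps.fwd (nat_lit 16384) (Steps.bwd (nat_lit 1) (Steps.bwd (nat_lit 3) (Steps.bwd (nat_lit 1) (Steps.bwd (nat_lit 4) (Steps.bwd (nat_lit 2) Steps.nil))))))))))) (nat_lit 194) (nat_lit 1),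
  Rule.mk (nat_lit 19) (nat_lit 179) (Steps.bwd (nat_lit 3) (Steps.bwd (nat_lit 4) (Steps.fwd (nat_lit 8192) (Steps.fwd (nat_lit 24576) (Steps.fwd (nat_lit 8192) (Steps.fwd (nat_lit 24576) (Steps.fwd (nat_lit 8192) (Steps.fwd (nat_lit 16384) (Steps.bwd (nat_lit 1) (Steps.bwd (nat_lit 3) (Steps.bwd (nat_lit 1) Steps.nil))))))))))) (nat_lit 195) (nat_lit 0),
  Rule.mk (nat_lit 3) (nat_lit 179) (Steps.bwd (nat_lit 18) (Steps.bwd (nat_lit 1) (Steps.fwd (nat_lit 16384) (Steps.bwd (nat_lit 4) (Steps.bwd (nat_lit 1) (Steps.bwd (nat_lit 2) (Steps.bwd (nat_lit 1) (Steps.fwd (nat_lit 24576) (Steps.bwd (nat_lit 1) (Steps.bwd (nat_lit 3) (Steps.fwd (nat_lit 8192) Steps.nil))))))))))) (nat_lit 192) (nat_lit 0),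
  Rule.mk (nat_lit 20) (nat_lit 179) (Steps.bwd (nat_lit 1) (Steps.fwd (nat_lit 24576) (Steps.bwd (nat_lit 1) (Steps.fwd (nat_lit 24576) (Steps.fwd (nat_lit 8192) (Steps.bwd (nat_lit 3) (Steps.fwd (nat_lit 8192) (Steps.fwd (nat_lit 16384) (Steps.fwd (nat_lit 8192) (Steps.fwd (nat_lit 32768) (Steps.bwd (nat_lit 2) Steps.nil))))))))))) (nat_lit 194) (nat_lit 1),
  Rule.mk (nat_lit 19) (nat_lit 179) (Steps.fwd (nat_lit 16384) (Steps.bwd (nat_lit 4) (Steps.bwd (nat_lit 1) (Steps.fwd (nat_lit 24576) (Steps.bwd (nat_lit 1) (Steps.fwd (nat_lit 24576) (Steps.fwd (nat_lit 8192) (Steps.bwd (nat_lit 3) (Steps.fwd (nat_lit 8192) (Steps.fwd (nat_lit 16384) (Steps.fwd (nat_lit 8192) Steps.nil))))))))))) (nat_lit 195) (nat_lit 0),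
  Rule.mk (nat_lit 1) (nat_lit 104) (Steps.bwd (nat_lit 11) (Steps.fwd (nat_lit 8192) (Steps.bwd (nat_lit 6) (Steps.fwd (nat_lit 90112) (Steps.fwd (nat_lit 98304) (Steps.fwd (nat_lit 114688) Steps.nil)))))) (nat_lit 160) (nat_lit 1),
  Rule.mk (nat_lit 2) (nat_lit 164) (Steps.bwd (nat_lit 11) (Steps.bwd (nat_lit 3) (Steps.bwd (nat_lit 4) (Steps.bwd (nat_lit 5) (Steps.bwd (nat_lit 8) (Steps.bwd (nat_lit 9) (Steps.fwd (nat_lit 81920) (Steps.fwd (nat_lit 90112) (Steps.fwd (nat_lit 98304) (Steps.fwd (nat_lit 114688) Steps.nil)))))))))) (nat_lit 182) (nat_lit 1),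
  Rule.mk (nat_lit 3) (nat_lit 179) (Steps.bwd (nat_lit 18) (Steps.fwd (nat_lit 8192) (Steps.fwd (nat_lit 16384) (Steps.fwd (nat_lit 32768) (Steps.fwd (nat_lit 8192) (Steps.bwd (nat_lit 2) (Steps.bwd (nat_lit 1) (Steps.bwd (nat_lit 2) (Steps.bwd (nat_lit 1) (Steps.fwd (nat_lit 16384) (Steps.bwd (nat_lit 1) Steps.nil))))))))))) (nat_lit 192) (nat_lit 0),
  Rule.mk (nat_lit 8) (nat_lit 89) (Steps.bwd (nat_lit 3) (Steps.bwd (nat_lit 4) (Steps.fwd (nat_lit 57344) (Steps.bwd (nat_lit 14) (Steps.bwd (nat_lit 2) Steps.nil))))) (nat_lit 176) (nat_lit 2),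
  Rule.mk (nat_lit 1) (nat_lit 134) (Steps.bwd (nat_lit 10) (Steps.fwd (nat_lit 8192) (Steps.fwd (nat_lit 114688) (Steps.fwd (nat_lit 90112) (Steps.bwd (nat_lit 9) (Steps.bwd (nat_lit 8) (Steps.bwd (nat_lit 5) (Steps.bwd (nat_lit 4) Steps.nil)))))))) (nat_lit 159) (nat_lit 7),
  Rule.mk (nat_lit 20) (nat_lit 179) (Steps.bwd (nat_lit 1) (Steps.fwd (nat_lit 24576) (Steps.fwd (nat_lit 8192) (Steps.bwd (nat_lit 2) (Steps.fwd (nat_lit 8192) (Steps.fwd (nat_lit 16384) (Steps.fwd (nat_lit 8192) (Steps.fwd (nat_lit 16384) (Steps.bwd (nat_lit 1) (Steps.bwd (nat_lit 4) (Steps.bwd (nat_lit 2) Steps.nil))))))))))) (nat_lit 194) (nat_lit 1),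
  Rule.mk (nat_lit 2) (nat_lit 179) (Steps.bwd (nat_lit 20) (Steps.fwd (nat_lit 8192) (Steps.bwd (nat_lit 2) (Steps.bwd (nat_lit 1) (Steps.fwd (nat_lit 24576) (Steps.bwd (nat_lit 1) (Steps.fwd (nat_lit 16384) (Steps.bwd (nat_lit 1) (Steps.bwd (nat_lit 3) (Steps.fwd (nat_lit 8192) (Steps.fwd (nat_lit 32768) Steps.nil))))))))))) (nat_lit 194) (nat_lit 0),
  Rule.mk (nat_lit 2) (nat_lit 164) (Steps.bwd (nat_lit 11) (Steps.bwd (nat_lit 3) (Steps.bwd (nat_lit 14) (Steps.bwd (nat_lit 12) (Steps.bwd (nat_lit 11) (Steps.fwd (nat_lit 81920) (Steps.fwd (nat_lit 73728) (Steps.fwd (nat_lit 65536) (Steps.bwd (nat_lit 5) (Steps.bwd (nat_lit 4) Steps.nil)))))))))) (nat_lit 183) (nat_lit 9),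
  Rule.mk (nat_lit 3) (nat_lit 134) (Steps.bwd (nat_lit 14) (Steps.bwd (nat_lit 11) (Steps.bwd (nat_lit 9) (Steps.bwd (nat_lit 8) (Steps.fwd (nat_lit 40960) (Steps.bwd (nat_lit 4) (Steps.bwd (nat_lit 2) (Steps.bwd (nat_lit 9) Steps.nil)))))))) (nat_lit 179) (nat_lit 0),
  Rule.mk (nat_lit 9) (nat_lit 134) (Steps.bwd (nat_lit 3) (Steps.fwd (nat_lit 114688) (Steps.fwd (nat_lit 90112) (Steps.bwd (nat_lit 9) (Steps.fwd (nat_lit 65536) (Steps.bwd (nat_lit 5) (Steps.fwd (nat_lit 32768) (Steps.fwd (nat_lit 24576) Steps.nil)))))))) (nat_lit 179) (nat_lit 8),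
  Rule.mk (nat_lit 11) (nat_lit 59) (Steps.fwd (nat_lit 73728) (Steps.fwd (nat_lit 90112) (Steps.bwd (nat_lit 9) Steps.nil))) (nat_lit 88) (nat_lit 1),
  Rule.mk (nat_lit 2) (nat_lit 179) (Steps.fwd (nat_lit 8192) (Steps.bwd (nat_lit 2) (Steps.fwd (nat_lit 8192) (Steps.bwd (nat_lit 3) (Steps.bwd (nat_lit 1) (Steps.bwd (nat_lit 3) (Steps.fwd (nat_lit 8192) (Steps.fwd (nat_lit 32768) (Steps.bwd (nat_lit 2) (Steps.fwd (nat_lit 8192) (Steps.fwd (nat_lit 147456) Steps.nil))))))))))) (nat_lit 193) (nat_lit 1),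
  Rule.mk (nat_lit 14) (nat_lit 104) (Steps.bwd (nat_lit 2) (Steps.bwd (nat_lit 10) (Steps.bwd (nat_lit 3) (Steps.bwd (nat_lit 6) (Steps.bwd (nat_lit 11) (Steps.bwd (nat_lit 12) Steps.nil)))))) (nat_lit 180) (nat_lit 0),
  Rule.mk (nat_lit 1) (nat_lit 104) (Steps.bwd (nat_lit 11) (Steps.bwd (nat_lit 1) (Steps.bwd (nat_lit 6) (Steps.bwd (nat_lit 11) (Steps.bwd (nat_lit 12) (Steps.bwd (nat_lit 14) Steps.nil)))))) (nat_lit 160) (nat_lit 1),
  Rule.mk (nat_lit 10) (nat_lit 134) (Steps.bwd (nat_lit 1) (Steps.bwd (nat_lit 4) (Steps.fwd (nat_lit 40960) (Steps.bwd (nat_lit 8) (Steps.fwd (nat_lit 73728) (Steps.bwd (nat_lit 11) (Steps.bwd (nat_lit 14) (Steps.fwd (nat_lit 8192) Steps.nil)))))))) (nat_lit 158) (nat_lit 2),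
  Rule.mk (nat_lit 20) (nat_lit 179) (Steps.fwd (nat_lit 8192) (Steps.fwd (nat_lit 24576) (Steps.fwd (nat_lit 8192) (Steps.fwd (nat_lit 24576) (Steps.bwd (nat_lit 1) (Steps.fwd (nat_lit 16384) (Steps.bwd (nat_lit 1) (Steps.fwd (nat_lit 16384) (Steps.bwd (nat_lit 1) (Steps.bwd (nat_lit 4) (Steps.bwd (nat_lit 2) Steps.nil))))))))))) (nat_lit 194) (nat_lit 1),
  Rule.mk (nat_lit 19) (nat_lit 179) (Steps.fwd (nat_lit 16384) (Steps.bwd (nat_lit 4) (Steps.fwd (nat_lit 8192) (Steps.fwd (nat_lit 24576) (Steps.fwd (nat_lit 8192) (Steps.fwd (nat_lit 24576) (Steps.bwd (nat_lit 1) (Steps.fwd (nat_lit 16384) (Steps.bwd (nat_lit 1) (Steps.fwd (nat_lit 16384) (Steps.bwd (nat_lit 1) Steps.nil))))))))))) (nat_lit 195) (nat_lit 0),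
  Rule.mk (nat_lit 10) (nat_lit 134) (Steps.bwd (nat_lit 1) (Steps.fwd (nat_lit 32768) (Steps.bwd (nat_lit 5) (Steps.bwd (nat_lit 8) (Steps.bwd (nat_lit 9) (Steps.bwd (nat_lit 11) (Steps.fwd (nat_lit 114688) (Steps.bwd (nat_lit 1) Steps.nil)))))))) (nat_lit 158) (nat_lit 2),
  Rule.mk (nat_lit 1) (nat_lit 104) (Steps.fwd (nat_lit 40960) (Steps.fwd (nat_lit 57344) (Steps.fwd (nat_lit 106496) (Steps.bwd (nat_lit 14) (Steps.fwd (nat_lit 8192) (Steps.bwd (nat_lit 8) Steps.nil)))))) (nat_lit 154) (nat_lit 3),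
  Rule.mk (nat_lit 7) (nat_lit 104) (Steps.bwd (nat_lit 3) (Steps.bwd (nat_lit 5) (Steps.bwd (nat_lit 7) (Steps.bwd (nat_lit 13) (Steps.bwd (nat_lit 14) (Steps.fwd (nat_lit 24576) Steps.nil)))))) (nat_lit 174) (nat_lit 2),
  Rule.mk (nat_lit 12) (nat_lit 104) (Steps.bwd (nat_lit 3) (Steps.fwd (nat_lit 32768) (Steps.bwd (nat_lit 5) (Steps.fwd (nat_lit 65536) (Steps.bwd (nat_lit 9) (Steps.bwd (nat_lit 2) Steps.nil)))))) (nat_lit 184) (nat_lit 2),
  Rule.mk (nat_lit 5) (nat_lit 149) (Steps.bwd (nat_lit 3) (Steps.fwd (nat_lit 32768) (Steps.bwd (nat_lit 5) (Steps.fwd (nat_lit 65536) (Steps.bwd (nat_lit 9) (Steps.fwd (nat_lit 98304) (Steps.bwd (nat_lit 13) (Steps.fwd (nat_lit 114688) (Steps.bwd (nat_lit 2) Steps.nil))))))))) (nat_lit 170) (nat_lit 2),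
  Rule.mk (nat_lit 17) (nat_lit 179) (Steps.fwd (nat_lit 24576) (Steps.bwd (nat_lit 1) (Steps.fwd (nat_lit 24576) (Steps.fwd (nat_lit 8192) (Steps.bwd (nat_lit 3) (Steps.bwd (nat_lit 1) (Steps.fwd (nat_lit 16384) (Steps.bwd (nat_lit 1) (Steps.bwd (nat_lit 4) (Steps.bwd (nat_lit 2) (Steps.bwd (nat_lit 1) Steps.nil))))))))))) (nat_lit 193) (nat_lit 0),
  Rule.mk (nat_lit 20) (nat_lit 179) (Steps.fwd (nat_lit 8192) (Steps.fwd (nat_lit 24576) (Steps.bwd (nat_lit 1) (Steps.fwd (nat_lit 24576) (Steps.fwd (nat_lit 8192) (Steps.bwd (nat_lit 3) (Steps.bwd (nat_lit 1) (Steps.fwd (nat_lit 16384) (Steps.bwd (nat_lit 1) (Steps.bwd (nat_lit 4) (Steps.bwd (nat_lit 2) Steps.nil))))))))))) (nat_lit 194) (nat_lit 1),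
  Rule.mk (nat_lit 3) (nat_lit 179) (Steps.fwd (nat_lit 32768) (Steps.fwd (nat_lit 8192) (Steps.fwd (nat_lit 24576) (Steps.bwd (nat_lit 1) (Steps.fwd (nat_lit 24576) (Steps.fwd (nat_lit 8192) (Steps.bwd (nat_lit 3) (Steps.bwd (nat_lit 1) (Steps.fwd (nat_lit 16384) (Steps.bwd (nat_lit 1) (Steps.fwd (nat_lit 163840) Steps.nil))))))))))) (nat_lit 195) (nat_lit 1),
  Rule.mk (nat_lit 12) (nat_lit 104) (Steps.bwd (nat_lit 3) (Steps.fwd (nat_lit 32768) (Steps.fwd (nat_lit 40960) (Steps.bwd (nat_lit 8) (Steps.bwd (nat_lit 9) (Steps.fwd (nat_lit 24576) Steps.nil)))))) (nat_lit 184) (nat_lit 2),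
  Rule.mk (nat_lit 14) (nat_lit 119) (Steps.bwd (nat_lit 3) (Steps.fwd (nat_lit 40960) (Steps.fwd (nat_lit 49152) (Steps.fwd (nat_lit 57344) (Steps.bwd (nat_lit 12) (Steps.fwd (nat_lit 114688) (Steps.fwd (nat_lit 24576) Steps.nil))))))) (nat_lit 188) (nat_lit 2)]
noncomputable def R_28 : List (Rule) := [Rule.mk (nat_lit 1) (nat_lit 134) (Steps.fwd (nat_lit 114688) (Steps.bwd (nat_lit 1) (Steps.fwd (nat_lit 49152) (Steps.bwd (nat_lit 10) (Steps.fwd (nat_lit 90112) (Steps.fwd (nat_lit 98304) (Steps.bwd (nat_lit 13) (Steps.bwd (nat_lit 14) Steps.nil)))))))) (nat_lit 166) (nat_lit 1),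
  Rule.mk (nat_lit 17) (nat_lit 179) (Steps.bwd (nat_lit 2) (Steps.fwd (nat_lit 8192) (Steps.fwd (nat_lit 24576) (Steps.bwd (nat_lit 1) (Steps.bwd (nat_lit 3) (Steps.fwd (nat_lit 8192) (Steps.bwd (nat_lit 3) (Steps.bwd (nat_lit 1) (Steps.bwd (nat_lit 4) (Steps.fwd (nat_lit 24576) (Steps.bwd (nat_lit 1) Steps.nil))))))))))) (nat_lit 193) (nat_lit 0),
  Rule.mk (nat_lit 0) (nat_lit 194) (Steps.bwd (nat_lit 17) (Steps.fwd (nat_lit 24576) (Steps.fwd (nat_lit 8192) (Steps.bwd (nat_lit 2) (Steps.fwd (nat_lit 8192) (Steps.fwd (nat_lit 16384) (Steps.bwd (nat_lit 1) (Steps.bwd (nat_lit 3) (Steps.fwd (nat_lit 8192) (Steps.bwd (nat_lit 4) (Steps.bwd (nat_lit 2) (Steps.fwd (nat_lit 8192) Steps.nil)))))))))))) (nat_lit 193) (nat_lit 11),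
  Rule.mk (nat_lit 18) (nat_lit 44) (Steps.bwd (nat_lit 0) (Steps.bwd (nat_lit 17) Steps.nil)) (nat_lit 196) (nat_lit 0),
  Rule.mk (nat_lit 20) (nat_lit 179) (Steps.bwd (nat_lit 1) (Steps.fwd (nat_lit 24576) (Steps.fwd (nat_lit 8192) (Steps.bwd (nat_lit 2) (Steps.fwd (nat_lit 8192) (Steps.fwd (nat_lit 16384) (Steps.bwd (nat_lit 1) (Steps.bwd (nat_lit 3) (Steps.fwd (nat_lit 8192) (Steps.bwd (nat_lit 4) (Steps.bwd (nat_lit 2) Steps.nil))))))))))) (nat_lit 194) (nat_lit 1),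
  Rule.mk (nat_lit 1) (nat_lit 104) (Steps.bwd (nat_lit 11) (Steps.bwd (nat_lit 1) (Steps.bwd (nat_lit 6) (Steps.bwd (nat_lit 11) (Steps.fwd (nat_lit 98304) (Steps.bwd (nat_lit 14) Steps.nil)))))) (nat_lit 160) (nat_lit 1),
  Rule.mk (nat_lit 2) (nat_lit 104) (Steps.fwd (nat_lit 81920) (Steps.bwd (nat_lit 3) (Steps.fwd (nat_lit 49152) (Steps.fwd (nat_lit 90112) (Steps.fwd (nat_lit 98304) (Steps.bwd (nat_lit 14) Steps.nil)))))) (nat_lit 180) (nat_lit 1),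
  Rule.mk (nat_lit 10) (nat_lit 104) (Steps.bwd (nat_lit 3) (Steps.bwd (nat_lit 6) (Steps.bwd (nat_lit 11) (Steps.fwd (nat_lit 98304) (Steps.fwd (nat_lit 114688) (Steps.fwd (nat_lit 24576) Steps.nil)))))) (nat_lit 180) (nat_lit 2),
  Rule.mk (nat_lit 1) (nat_lit 104) (Steps.bwd (nat_lit 11) (Steps.fwd (nat_lit 8192) (Steps.bwd (nat_lit 14) (Steps.bwd (nat_lit 12) (Steps.bwd (nat_lit 11) (Steps.fwd (nat_lit 49152) Steps.nil)))))) (nat_lit 161) (nat_lit 5),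
  Rule.mk (nat_lit 17) (nat_lit 179) (Steps.fwd (nat_lit 24576) (Steps.fwd (nat_lit 8192) (Steps.fwd (nat_lit 24576) (Steps.bwd (nat_lit 1) (Steps.bwd (nat_lit 3) (Steps.bwd (nat_lit 1) (Steps.bwd (nat_lit 3) (Steps.fwd (nat_lit 8192) (Steps.fwd (nat_lit 32768) (Steps.bwd (nat_lit 2) (Steps.bwd (nat_lit 1) Steps.nil))))))))))) (nat_lit 193) (nat_lit 0),
  Rule.mk (nat_lit 20) (nat_lit 179) (Steps.bwd (nat_lit 1) (Steps.fwd (nat_lit 24576) (Steps.fwd (nat_lit 8192) (Steps.fwd (nat_lit 24576) (Steps.fwd (nat_lit 8192) (Steps.bwd (nat_lit 3) (Steps.bwd (nat_lit 1) (Steps.bwd (nat_lit 3) (Steps.bwd (nat_lit 1) (Steps.fwd (nat_lit 32768) (Steps.fwd (nat_lit 24576) Steps.nil))))))))))) (nat_lit 194) (nat_lit 1),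
  Rule.mk (nat_lit 20) (nat_lit 179) (Steps.fwd (nat_lit 8192) (Steps.fwd (nat_lit 24576) (Steps.fwd (nat_lit 8192) (Steps.fwd (nat_lit 24576) (Steps.bwd (nat_lit 1) (Steps.bwd (nat_lit 3) (Steps.bwd (nat_lit 1) (Steps.bwd (nat_lit 3) (Steps.fwd (nat_lit 8192) (Steps.fwd (nat_lit 32768) (Steps.bwd (nat_lit 2) Steps.nil))))))))))) (nat_lit 194) (nat_lit 1),
  Rule.mk (nat_lit 2) (nat_lit 104) (Steps.bwd (nat_lit 10) (Steps.bwd (nat_lit 3) (Steps.bwd (nat_lit 14) (Steps.fwd (nat_lit 98304) (Steps.bwd (nat_lit 11) (Steps.bwd (nat_lit 6) Steps.nil)))))) (nat_lit 181) (nat_lit 5),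
  Rule.mk (nat_lit 17) (nat_lit 179) (Steps.fwd (nat_lit 24576) (Steps.bwd (nat_lit 1) (Steps.bwd (nat_lit 2) (Steps.fwd (nat_lit 8192) (Steps.bwd (nat_lit 3) (Steps.fwd (nat_lit 8192) (Steps.fwd (nat_lit 16384) (Steps.fwd (nat_lit 8192) (Steps.bwd (nat_lit 4) (Steps.bwd (nat_lit 2) (Steps.fwd (nat_lit 8192) Steps.nil))))))))))) (nat_lit 193) (nat_lit 0),
  Rule.mk (nat_lit 20) (nat_lit 179) (Steps.fwd (nat_lit 8192) (Steps.fwd (nat_lit 24576) (Steps.bwd (nat_lit 1) (Steps.bwd (nat_lit 2) (Steps.fwd (nat_lit 8192) (Steps.bwd (nat_lit 3) (Steps.fwd (nat_lit 8192) (Steps.fwd (nat_lit 16384) (Steps.fwd (nat_lit 8192) (Steps.bwd (nat_lit 4) (Steps.bwd (nat_lit 2) Steps.nil))))))))))) (nat_lit 194) (nat_lit 1),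
  Rule.mk (nat_lit 1) (nat_lit 89) (Steps.bwd (nat_lit 9) (Steps.bwd (nat_lit 1) (Steps.bwd (nat_lit 4) (Steps.fwd (nat_lit 57344) (Steps.bwd (nat_lit 14) Steps.nil))))) (nat_lit 156) (nat_lit 1),
  Rule.mk (nat_lit 1) (nat_lit 179) (Steps.bwd (nat_lit 17) (Steps.fwd (nat_lit 24576) (Steps.fwd (nat_lit 8192) (Steps.fwd (nat_lit 24576) (Steps.fwd (nat_lit 8192) (Steps.bwd (nat_lit 3) (Steps.bwd (nat_lit 1) (Steps.bwd (nat_lit 3) (Steps.bwd (nat_lit 1) (Steps.fwd (nat_lit 32768) (Steps.fwd (nat_lit 24576) Steps.nil))))))))))) (nat_lit 193) (nat_lit 11),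
  Rule.mk (nat_lit 11) (nat_lit 104) (Steps.bwd (nat_lit 1) (Steps.fwd (nat_lit 49152) (Steps.bwd (nat_lit 11) (Steps.fwd (nat_lit 98304) (Steps.fwd (nat_lit 114688) (Steps.bwd (nat_lit 1) Steps.nil)))))) (nat_lit 160) (nat_lit 2),
  Rule.mk (nat_lit 3) (nat_lit 104) (Steps.fwd (nat_lit 32768) (Steps.fwd (nat_lit 40960) (Steps.bwd (nat_lit 8) (Steps.bwd (nat_lit 9) (Steps.fwd (nat_lit 24576) (Steps.bwd (nat_lit 12) Steps.nil)))))) (nat_lit 184) (nat_lit 3),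
  Rule.mk (nat_lit 18) (nat_lit 179) (Steps.fwd (nat_lit 8192) (Steps.bwd (nat_lit 3) (Steps.bwd (nat_lit 4) (Steps.fwd (nat_lit 8192) (Steps.bwd (nat_lit 2) (Steps.bwd (nat_lit 1) (Steps.fwd (nat_lit 24576) (Steps.bwd (nat_lit 1) (Steps.bwd (nat_lit 3) (Steps.bwd (nat_lit 1) (Steps.bwd (nat_lit 3) Steps.nil))))))))))) (nat_lit 192) (nat_lit 1),
  Rule.mk (nat_lit 1) (nat_lit 89) (Steps.fwd (nat_lit 73728) (Steps.fwd (nat_lit 8192) (Steps.fwd (nat_lit 32768) (Steps.bwd (nat_lit 7) (Steps.bwd (nat_lit 14) Steps.nil))))) (nat_lit 156) (nat_lit 1),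
  Rule.mk (nat_lit 3) (nat_lit 119) (Steps.bwd (nat_lit 5) (Steps.fwd (nat_lit 49152) (Steps.bwd (nat_lit 7) (Steps.fwd (nat_lit 98304) (Steps.bwd (nat_lit 14) (Steps.bwd (nat_lit 2) (Steps.bwd (nat_lit 14) Steps.nil))))))) (nat_lit 188) (nat_lit 3),
  Rule.mk (nat_lit 10) (nat_lit 59) (Steps.bwd (nat_lit 7) (Steps.fwd (nat_lit 81920) (Steps.fwd (nat_lit 57344) Steps.nil))) (nat_lit 72) (nat_lit 1),
  Rule.mk (nat_lit 3) (nat_lit 119) (Steps.bwd (nat_lit 5) (Steps.fwd (nat_lit 49152) (Steps.fwd (nat_lit 57344) (Steps.fwd (nat_lit 98304) (Steps.bwd (nat_lit 14) (Steps.bwd (nat_lit 2) (Steps.bwd (nat_lit 14) Steps.nil))))))) (nat_lit 188) (nat_lit 3),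
  Rule.mk (nat_lit 9) (nat_lit 134) (Steps.bwd (nat_lit 3) (Steps.bwd (nat_lit 4) (Steps.bwd (nat_lit 5) (Steps.bwd (nat_lit 8) (Steps.bwd (nat_lit 9) (Steps.fwd (nat_lit 90112) (Steps.fwd (nat_lit 114688) (Steps.fwd (nat_lit 24576) Steps.nil)))))))) (nat_lit 178) (nat_lit 2),
  Rule.mk (nat_lit 2) (nat_lit 179) (Steps.bwd (nat_lit 20) (Steps.fwd (nat_lit 8192) (Steps.bwd (nat_lit 2) (Steps.fwd (nat_lit 8192) (Steps.bwd (nat_lit 2) (Steps.fwd (nat_lit 8192) (Steps.fwd (nat_lit 16384) (Steps.bwd (nat_lit 1) (Steps.bwd (nat_lit 3) (Steps.bwd (nat_lit 1) (Steps.bwd (nat_lit 4) Steps.nil))))))))))) (nat_lit 194) (nat_lit 0),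
  Rule.mk (nat_lit 7) (nat_lit 104) (Steps.bwd (nat_lit 3) (Steps.fwd (nat_lit 40960) (Steps.fwd (nat_lit 57344) (Steps.bwd (nat_lit 13) (Steps.bwd (nat_lit 14) (Steps.bwd (nat_lit 2) Steps.nil)))))) (nat_lit 174) (nat_lit 2),
  Rule.mk (nat_lit 1) (nat_lit 134) (Steps.bwd (nat_lit 10) (Steps.bwd (nat_lit 1) (Steps.fwd (nat_lit 32768) (Steps.fwd (nat_lit 40960) (Steps.fwd (nat_lit 65536) (Steps.fwd (nat_lit 73728) (Steps.bwd (nat_lit 11) (Steps.bwd (nat_lit 14) Steps.nil)))))))) (nat_lit 158) (nat_lit 1),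
  Rule.mk (nat_lit 15) (nat_lit 179) (Steps.bwd (nat_lit 3) (Steps.fwd (nat_lit 8192) (Steps.fwd (nat_lit 32768) (Steps.fwd (nat_lit 16384) (Steps.fwd (nat_lit 8192) (Steps.bwd (nat_lit 2) (Steps.bwd (nat_lit 1) (Steps.fwd (nat_lit 24576) (Steps.bwd (nat_lit 1) (Steps.bwd (nat_lit 2) (Steps.fwd (nat_lit 8192) Steps.nil))))))))))) (nat_lit 191) (nat_lit 0),
  Rule.mk (nat_lit 18) (nat_lit 179) (Steps.bwd (nat_lit 1) (Steps.fwd (nat_lit 16384) (Steps.fwd (nat_lit 32768) (Steps.fwd (nat_lit 8192) (Steps.fwd (nat_lit 24576) (Steps.fwd (nat_lit 8192) (Steps.bwd (nat_lit 2) (Steps.bwd (nat_lit 1) (Steps.fwd (nat_lit 16384) (Steps.bwd (nat_lit 1) (Steps.fwd (nat_lit 16384) Steps.nil))))))))))) (nat_lit 192) (nat_lit 1),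
  Rule.mk (nat_lit 1) (nat_lit 104) (Steps.bwd (nat_lit 11) (Steps.bwd (nat_lit 1) (Steps.fwd (nat_lit 114688) (Steps.fwd (nat_lit 98304) (Steps.fwd (nat_lit 90112) (Steps.fwd (nat_lit 49152) Steps.nil)))))) (nat_lit 161) (nat_lit 5),
  Rule.mk (nat_lit 2) (nat_lit 104) (Steps.fwd (nat_lit 81920) (Steps.bwd (nat_lit 3) (Steps.bwd (nat_lit 14) (Steps.fwd (nat_lit 98304) (Steps.fwd (nat_lit 90112) (Steps.bwd (nat_lit 6) Steps.nil)))))) (nat_lit 181) (nat_lit 5),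
  Rule.mk (nat_lit 11) (nat_lit 104) (Steps.bwd (nat_lit 1) (Steps.fwd (nat_lit 49152) (Steps.fwd (nat_lit 90112) (Steps.fwd (nat_lit 98304) (Steps.bwd (nat_lit 14) (Steps.bwd (nat_lit 1) Steps.nil)))))) (nat_lit 160) (nat_lit 2),
  Rule.mk (nat_lit 13) (nat_lit 104) (Steps.bwd (nat_lit 1) (Steps.bwd (nat_lit 4) (Steps.bwd (nat_lit 5) (Steps.fwd (nat_lit 65536) (Steps.fwd (nat_lit 73728) (Steps.bwd (nat_lit 1) Steps.nil)))))) (nat_lit 164) (nat_lit 2),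
  Rule.mk (nat_lit 6) (nat_lit 149) (Steps.bwd (nat_lit 1) (Steps.bwd (nat_lit 4) (Steps.bwd (nat_lit 5) (Steps.fwd (nat_lit 65536) (Steps.fwd (nat_lit 73728) (Steps.fwd (nat_lit 98304) (Steps.bwd (nat_lit 13) (Steps.fwd (nat_lit 114688) (Steps.bwd (nat_lit 1) Steps.nil))))))))) (nat_lit 150) (nat_lit 2),
  Rule.mk (nat_lit 5) (nat_lit 164) (Steps.bwd (nat_lit 2) (Steps.fwd (nat_lit 49152) (Steps.fwd (nat_lit 16384) (Steps.bwd (nat_lit 14) (Steps.bwd (nat_lit 13) (Steps.fwd (nat_lit 98304) (Steps.fwd (nat_lit 90112) (Steps.bwd (nat_lit 10) (Steps.fwd (nat_lit 73728) (Steps.bwd (nat_lit 6) Steps.nil)))))))))) (nat_lit 173) (nat_lit 8),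
  Rule.mk (nat_lit 18) (nat_lit 179) (Steps.fwd (nat_lit 8192) (Steps.fwd (nat_lit 16384) (Steps.bwd (nat_lit 4) (Steps.bwd (nat_lit 1) (Steps.bwd (nat_lit 2) (Steps.fwd (nat_lit 8192) (Steps.bwd (nat_lit 2) (Steps.bwd (nat_lit 1) (Steps.fwd (nat_lit 16384) (Steps.bwd (nat_lit 1) (Steps.fwd (nat_lit 16384) Steps.nil))))))))))) (nat_lit 192) (nat_lit 1),
  Rule.mk (nat_lit 17) (nat_lit 179) (Steps.bwd (nat_lit 2) (Steps.fwd (nat_lit 8192) (Steps.fwd (nat_lit 24576) (Steps.fwd (nat_lit 8192) (Steps.fwd (nat_lit 16384) (Steps.bwd (nat_lit 1) (Steps.fwd (nat_lit 16384) (Steps.bwd (nat_lit 1) (Steps.bwd (nat_lit 4) (Steps.fwd (nat_lit 24576) (Steps.fwd (nat_lit 8192) Steps.nil))))))))))) (nat_lit 193) (nat_lit 0),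
  Rule.mk (nat_lit 1) (nat_lit 89) (Steps.fwd (nat_lit 32768) (Steps.bwd (nat_lit 7) (Steps.bwd (nat_lit 14) (Steps.fwd (nat_lit 8192) (Steps.bwd (nat_lit 9) Steps.nil))))) (nat_lit 156) (nat_lit 3),
  Rule.mk (nat_lit 3) (nat_lit 149) (Steps.bwd (nat_lit 14) (Steps.bwd (nat_lit 13) (Steps.fwd (nat_lit 98304) (Steps.bwd (nat_lit 9) (Steps.bwd (nat_lit 8) (Steps.bwd (nat_lit 5) (Steps.fwd (nat_lit 32768) (Steps.bwd (nat_lit 2) (Steps.bwd (nat_lit 5) Steps.nil))))))))) (nat_lit 171) (nat_lit 0),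
  Rule.mk (nat_lit 14) (nat_lit 119) (Steps.bwd (nat_lit 3) (Steps.bwd (nat_lit 5) (Steps.fwd (nat_lit 49152) (Steps.bwd (nat_lit 7) (Steps.bwd (nat_lit 12) (Steps.fwd (nat_lit 114688) (Steps.fwd (nat_lit 24576) Steps.nil))))))) (nat_lit 188) (nat_lit 2),
  Rule.mk (nat_lit 13) (nat_lit 104) (Steps.fwd (nat_lit 57344) (Steps.bwd (nat_lit 5) (Steps.bwd (nat_lit 1) (Steps.fwd (nat_lit 65536) (Steps.fwd (nat_lit 8192) (Steps.bwd (nat_lit 14) Steps.nil)))))) (nat_lit 155) (nat_lit 2),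
  Rule.mk (nat_lit 9) (nat_lit 134) (Steps.fwd (nat_lit 16384) (Steps.fwd (nat_lit 32768) (Steps.bwd (nat_lit 5) (Steps.fwd (nat_lit 65536) (Steps.bwd (nat_lit 9) (Steps.fwd (nat_lit 90112) (Steps.bwd (nat_lit 14) (Steps.fwd (nat_lit 24576) Steps.nil)))))))) (nat_lit 178) (nat_lit 2),
  Rule.mk (nat_lit 11) (nat_lit 164) (Steps.fwd (nat_lit 16384) (Steps.bwd (nat_lit 4) (Steps.bwd (nat_lit 5) (Steps.fwd (nat_lit 65536) (Steps.bwd (nat_lit 9) (Steps.fwd (nat_lit 81920) (Steps.fwd (nat_lit 90112) (Steps.fwd (nat_lit 98304) (Steps.bwd (nat_lit 14) (Steps.fwd (nat_lit 24576) Steps.nil)))))))))) (nat_lit 182) (nat_lit 2),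
  Rule.mk (nat_lit 0) (nat_lit 194) (Steps.bwd (nat_lit 18) (Steps.fwd (nat_lit 8192) (Steps.bwd (nat_lit 3) (Steps.fwd (nat_lit 32768) (Steps.fwd (nat_lit 8192) (Steps.fwd (nat_lit 24576) (Steps.bwd (nat_lit 1) (Steps.bwd (nat_lit 2) (Steps.fwd (nat_lit 8192) (Steps.fwd (nat_lit 16384) (Steps.fwd (nat_lit 8192) (Steps.bwd (nat_lit 3) Steps.nil)))))))))))) (nat_lit 192) (nat_lit 0),
  Rule.mk (nat_lit 3) (nat_lit 104) (Steps.bwd (nat_lit 4) (Steps.fwd (nat_lit 40960) (Steps.fwd (nat_lit 65536) (Steps.bwd (nat_lit 9) (Steps.fwd (nat_lit 24576) (Steps.bwd (nat_lit 12) Steps.nil)))))) (nat_lit 184) (nat_lit 3),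
  Rule.mk (nat_lit 1) (nat_lit 104) (Steps.fwd (nat_lit 114688) (Steps.bwd (nat_lit 13) (Steps.fwd (nat_lit 57344) (Steps.bwd (nat_lit 5) (Steps.fwd (nat_lit 8192) (Steps.bwd (nat_lit 8) Steps.nil)))))) (nat_lit 155) (nat_lit 0),
  Rule.mk (nat_lit 11) (nat_lit 104) (Steps.bwd (nat_lit 1) (Steps.fwd (nat_lit 49152) (Steps.fwd (nat_lit 90112) (Steps.fwd (nat_lit 98304) (Steps.fwd (nat_lit 114688) (Steps.fwd (nat_lit 8192) Steps.nil)))))) (nat_lit 160) (nat_lit 2),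
  Rule.mk (nat_lit 7) (nat_lit 104) (Steps.bwd (nat_lit 3) (Steps.bwd (nat_lit 5) (Steps.bwd (nat_lit 7) (Steps.fwd (nat_lit 106496) (Steps.bwd (nat_lit 14) (Steps.fwd (nat_lit 24576) Steps.nil)))))) (nat_lit 174) (nat_lit 2),
  Rule.mk (nat_lit 12) (nat_lit 104) (Steps.bwd (nat_lit 3) (Steps.bwd (nat_lit 4) (Steps.bwd (nat_lit 5) (Steps.fwd (nat_lit 65536) (Steps.fwd (nat_lit 73728) (Steps.fwd (nat_lit 24576) Steps.nil)))))) (nat_lit 184) (nat_lit 2),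
  Rule.mk (nat_lit 5) (nat_lit 149) (Steps.bwd (nat_lit 3) (Steps.bwd (nat_lit 4) (Steps.bwd (nat_lit 5) (Steps.fwd (nat_lit 65536) (Steps.fwd (nat_lit 73728) (Steps.fwd (nat_lit 98304) (Steps.fwd (nat_lit 106496) (Steps.fwd (nat_lit 114688) (Steps.bwd (nat_lit 2) Steps.nil))))))))) (nat_lit 170) (nat_lit 2),
  Rule.mk (nat_lit 3) (nat_lit 104) (Steps.fwd (nat_lit 73728) (Steps.bwd (nat_lit 8) (Steps.bwd (nat_lit 5) (Steps.bwd (nat_lit 4) (Steps.fwd (nat_lit 24576) (Steps.bwd (nat_lit 12) Steps.nil)))))) (nat_lit 185) (nat_lit 0),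
  Rule.mk (nat_lit 2) (nat_lit 104) (Steps.fwd (nat_lit 81920) (Steps.bwd (nat_lit 3) (Steps.fwd (nat_lit 49152) (Steps.bwd (nat_lit 11) (Steps.bwd (nat_lit 12) (Steps.bwd (nat_lit 14) Steps.nil)))))) (nat_lit 180) (nat_lit 1),
  Rule.mk (nat_lit 3) (nat_lit 119) (Steps.bwd (nat_lit 5) (Steps.fwd (nat_lit 49152) (Steps.bwd (nat_lit 7) (Steps.fwd (nat_lit 98304) (Steps.bwd (nat_lit 14) (Steps.fwd (nat_lit 24576) (Steps.bwd (nat_lit 14) Steps.nil))))))) (nat_lit 188) (nat_lit 3),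
  Rule.mk (nat_lit 10) (nat_lit 134) (Steps.bwd (nat_lit 1) (Steps.bwd (nat_lit 4) (Steps.fwd (nat_lit 40960) (Steps.bwd (nat_lit 8) (Steps.bwd (nat_lit 9) (Steps.fwd (nat_lit 90112) (Steps.fwd (nat_lit 114688) (Steps.bwd (nat_lit 1) Steps.nil)))))))) (nat_lit 158) (nat_lit 2),
  Rule.mk (nat_lit 2) (nat_lit 119) (Steps.bwd (nat_lit 14) (Steps.fwd (nat_lit 16384) (Steps.bwd (nat_lit 14) (Steps.fwd (nat_lit 98304) (Steps.bwd (nat_lit 7) (Steps.bwd (nat_lit 6) (Steps.fwd (nat_lit 40960) Steps.nil))))))) (nat_lit 189) (nat_lit 6),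
  Rule.mk (nat_lit 3) (nat_lit 149) (Steps.bwd (nat_lit 4) (Steps.bwd (nat_lit 5) (Steps.fwd (nat_lit 65536) (Steps.fwd (nat_lit 73728) (Steps.bwd (nat_lit 12) (Steps.bwd (nat_lit 13) (Steps.fwd (nat_lit 114688) (Steps.bwd (nat_lit 2) (Steps.fwd (nat_lit 40960) Steps.nil))))))))) (nat_lit 170) (nat_lit 3),
  Rule.mk (nat_lit 16) (nat_lit 179) (Steps.fwd (nat_lit 8192) (Steps.bwd (nat_lit 3) (Steps.fwd (nat_lit 8192) (Steps.bwd (nat_lit 3) (Steps.bwd (nat_lit 1) (Steps.fwd (nat_lit 16384) (Steps.fwd (nat_lit 8192) (Steps.bwd (nat_lit 2) (Steps.bwd (nat_lit 4) (Steps.fwd (nat_lit 8192) (Steps.bwd (nat_lit 2) Steps.nil))))))))))) (nat_lit 190) (nat_lit 1),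
  Rule.mk (nat_lit 18) (nat_lit 179) (Steps.fwd (nat_lit 8192) (Steps.bwd (nat_lit 3) (Steps.bwd (nat_lit 4) (Steps.bwd (nat_lit 1) (Steps.fwd (nat_lit 24576) (Steps.bwd (nat_lit 1) (Steps.bwd (nat_lit 2) (Steps.fwd (nat_lit 8192) (Steps.bwd (nat_lit 3) (Steps.fwd (nat_lit 8192) (Steps.bwd (nat_lit 3) Steps.nil))))))))))) (nat_lit 192) (nat_lit 1),
  Rule.mk (nat_lit 19) (nat_lit 179) (Steps.bwd (nat_lit 3) (Steps.bwd (nat_lit 4) (Steps.bwd (nat_lit 1) (Steps.fwd (nat_lit 24576) (Steps.bwd (nat_lit 1) (Steps.bwd (nat_lit 2) (Steps.fwd (nat_lit 8192) (Steps.bwd (nat_lit 3) (Steps.fwd (nat_lit 8192) (Steps.bwd (nat_lit 3) (Steps.fwd (nat_lit 8192) Steps.nil))))))))))) (nat_lit 195) (nat_lit 0),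
  Rule.mk (nat_lit 16) (nat_lit 179) (Steps.bwd (nat_lit 1) (Steps.bwd (nat_lit 3) (Steps.bwd (nat_lit 1) (Steps.bwd (nat_lit 3) (Steps.bwd (nat_lit 1) (Steps.bwd (nat_lit 3) (Steps.bwd (nat_lit 1) (Steps.fwd (nat_lit 24576) (Steps.bwd (nat_lit 4) (Steps.bwd (nat_lit 1) (Steps.fwd (nat_lit 24576) Steps.nil))))))))))) (nat_lit 190) (nat_lit 1),
  Rule.mk (nat_lit 1) (nat_lit 134) (Steps.bwd (nat_lit 10) (Steps.fwd (nat_lit 8192) (Steps.bwd (nat_lit 14) (Steps.bwd (nat_lit 11) (Steps.fwd (nat_lit 73728) (Steps.fwd (nat_lit 65536) (Steps.bwd (nat_lit 5) (Steps.bwd (nat_lit 4) Steps.nil)))))))) (nat_lit 159) (nat_lit 7),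
  Rule.mk (nat_lit 1) (nat_lit 104) (Steps.fwd (nat_lit 90112) (Steps.bwd (nat_lit 1) (Steps.bwd (nat_lit 6) (Steps.bwd (nat_lit 11) (Steps.bwd (nat_lit 12) (Steps.bwd (nat_lit 14) Steps.nil)))))) (nat_lit 160) (nat_lit 1),
  Rule.mk (nat_lit 10) (nat_lit 104) (Steps.bwd (nat_lit 3) (Steps.fwd (nat_lit 49152) (Steps.fwd (nat_lit 90112) (Steps.bwd (nat_lit 12) (Steps.fwd (nat_lit 114688) (Steps.bwd (nat_lit 2) Steps.nil)))))) (nat_lit 180) (nat_lit 2)]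
noncomputable def R_29 : List (Rule) := [Rule.mk (nat_lit 9) (nat_lit 134) (Steps.bwd (nat_lit 3) (Steps.fwd (nat_lit 32768) (Steps.bwd (nat_lit 5) (Steps.fwd (nat_lit 65536) (Steps.bwd (nat_lit 9) (Steps.fwd (nat_lit 90112) (Steps.bwd (nat_lit 14) (Steps.bwd (nat_lit 2) Steps.nil)))))))) (nat_lit 178) (nat_lit 2),
  Rule.mk (nat_lit 5) (nat_lit 149) (Steps.bwd (nat_lit 3) (Steps.bwd (nat_lit 4) (Steps.bwd (nat_lit 5) (Steps.bwd (nat_lit 8) (Steps.bwd (nat_lit 9) (Steps.bwd (nat_lit 12) (Steps.fwd (nat_lit 106496) (Steps.bwd (nat_lit 14) (Steps.fwd (nat_lit 24576) Steps.nil))))))))) (nat_lit 170) (nat_lit 2),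
  Rule.mk (nat_lit 15) (nat_lit 179) (Steps.bwd (nat_lit 3) (Steps.fwd (nat_lit 8192) (Steps.fwd (nat_lit 32768) (Steps.bwd (nat_lit 3) (Steps.fwd (nat_lit 8192) (Steps.bwd (nat_lit 2) (Steps.bwd (nat_lit 1) (Steps.fwd (nat_lit 24576) (Steps.bwd (nat_lit 1) (Steps.bwd (nat_lit 2) (Steps.fwd (nat_lit 8192) Steps.nil))))))))))) (nat_lit 191) (nat_lit 0),
  Rule.mk (nat_lit 11) (nat_lit 59) (Steps.fwd (nat_lit 40960) (Steps.fwd (nat_lit 90112) (Steps.bwd (nat_lit 5) Steps.nil))) (nat_lit 80) (nat_lit 1),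
  Rule.mk (nat_lit 11) (nat_lit 104) (Steps.fwd (nat_lit 8192) (Steps.bwd (nat_lit 14) (Steps.bwd (nat_lit 12) (Steps.bwd (nat_lit 11) (Steps.fwd (nat_lit 49152) (Steps.fwd (nat_lit 8192) Steps.nil)))))) (nat_lit 161) (nat_lit 6),
  Rule.mk (nat_lit 2) (nat_lit 104) (Steps.bwd (nat_lit 10) (Steps.bwd (nat_lit 3) (Steps.fwd (nat_lit 114688) (Steps.bwd (nat_lit 12) (Steps.bwd (nat_lit 11) (Steps.bwd (nat_lit 6) Steps.nil)))))) (nat_lit 181) (nat_lit 5),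
  Rule.mk (nat_lit 0) (nat_lit 194) (Steps.fwd (nat_lit 8192) (Steps.bwd (nat_lit 3) (Steps.bwd (nat_lit 1) (Steps.fwd (nat_lit 16384) (Steps.bwd (nat_lit 1) (Steps.fwd (nat_lit 16384) (Steps.fwd (nat_lit 8192) (Steps.fwd (nat_lit 24576) (Steps.bwd (nat_lit 4) (Steps.bwd (nat_lit 1) (Steps.fwd (nat_lit 24576) (Steps.fwd (nat_lit 122880) Steps.nil)))))))))))) (nat_lit 190) (nat_lit 1),
  Rule.mk (nat_lit 1) (nat_lit 59) (Steps.bwd (nat_lit 0) (Steps.fwd (nat_lit 8192) (Steps.fwd (nat_lit 0) Steps.nil))) (nat_lit 196) (nat_lit 0),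
  Rule.mk (nat_lit 6) (nat_lit 44) (Steps.bwd (nat_lit 0) (Steps.bwd (nat_lit 6) Steps.nil)) (nat_lit 196) (nat_lit 0),
  Rule.mk (nat_lit 14) (nat_lit 44) (Steps.bwd (nat_lit 0) (Steps.fwd (nat_lit 114688) Steps.nil)) (nat_lit 196) (nat_lit 0),
  Rule.mk (nat_lit 0) (nat_lit 194) (Steps.bwd (nat_lit 2) (Steps.bwd (nat_lit 1) (Steps.fwd (nat_lit 24576) (Steps.bwd (nat_lit 1) (Steps.fwd (nat_lit 16384) (Steps.bwd (nat_lit 1) (Steps.fwd (nat_lit 16384) (Steps.fwd (nat_lit 8192) (Steps.bwd (nat_lit 4) (Steps.bwd (nat_lit 2) (Steps.bwd (nat_lit 1) (Steps.fwd (nat_lit 147456) Steps.nil)))))))))))) (nat_lit 193) (nat_lit 0),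
  Rule.mk (nat_lit 8) (nat_lit 44) (Steps.bwd (nat_lit 0) (Steps.bwd (nat_lit 8) Steps.nil)) (nat_lit 196) (nat_lit 0),
  Rule.mk (nat_lit 19) (nat_lit 179) (Steps.fwd (nat_lit 16384) (Steps.fwd (nat_lit 32768) (Steps.bwd (nat_lit 1) (Steps.bwd (nat_lit 2) (Steps.fwd (nat_lit 8192) (Steps.bwd (nat_lit 2) (Steps.fwd (nat_lit 8192) (Steps.bwd (nat_lit 3) (Steps.fwd (nat_lit 8192) (Steps.bwd (nat_lit 3) (Steps.fwd (nat_lit 8192) Steps.nil))))))))))) (nat_lit 195) (nat_lit 0),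
  Rule.mk (nat_lit 4) (nat_lit 89) (Steps.bwd (nat_lit 2) (Steps.fwd (nat_lit 65536) (Steps.fwd (nat_lit 16384) (Steps.fwd (nat_lit 114688) (Steps.fwd (nat_lit 57344) Steps.nil))))) (nat_lit 177) (nat_lit 3),
  Rule.mk (nat_lit 0) (nat_lit 194) (Steps.bwd (nat_lit 3) (Steps.fwd (nat_lit 8192) (Steps.bwd (nat_lit 4) (Steps.bwd (nat_lit 3) (Steps.fwd (nat_lit 8192) (Steps.bwd (nat_lit 2) (Steps.fwd (nat_lit 8192) (Steps.bwd (nat_lit 2) (Steps.fwd (nat_lit 8192) (Steps.fwd (nat_lit 24576) (Steps.fwd (nat_lit 8192) (Steps.fwd (nat_lit 131072) Steps.nil)))))))))))) (nat_lit 191) (nat_lit 0),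
  Rule.mk (nat_lit 11) (nat_lit 44) (Steps.bwd (nat_lit 0) (Steps.bwd (nat_lit 11) Steps.nil)) (nat_lit 196) (nat_lit 0),
  Rule.mk (nat_lit 6) (nat_lit 134) (Steps.bwd (nat_lit 1) (Steps.bwd (nat_lit 14) (Steps.fwd (nat_lit 8192) (Steps.bwd (nat_lit 14) (Steps.bwd (nat_lit 13) (Steps.bwd (nat_lit 12) (Steps.fwd (nat_lit 90112) (Steps.fwd (nat_lit 81920) Steps.nil)))))))) (nat_lit 167) (nat_lit 6),
  Rule.mk (nat_lit 2) (nat_lit 164) (Steps.bwd (nat_lit 11) (Steps.fwd (nat_lit 16384) (Steps.fwd (nat_lit 32768) (Steps.fwd (nat_lit 40960) (Steps.fwd (nat_lit 65536) (Steps.bwd (nat_lit 9) (Steps.bwd (nat_lit 10) (Steps.fwd (nat_lit 90112) (Steps.bwd (nat_lit 12) (Steps.bwd (nat_lit 14) Steps.nil)))))))))) (nat_lit 182) (nat_lit 1),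
  Rule.mk (nat_lit 1) (nat_lit 104) (Steps.fwd (nat_lit 32768) (Steps.fwd (nat_lit 40960) (Steps.bwd (nat_lit 8) (Steps.bwd (nat_lit 9) (Steps.fwd (nat_lit 8192) (Steps.bwd (nat_lit 13) Steps.nil)))))) (nat_lit 164) (nat_lit 3),
  Rule.mk (nat_lit 6) (nat_lit 134) (Steps.bwd (nat_lit 2) (Steps.fwd (nat_lit 106496) (Steps.bwd (nat_lit 3) (Steps.bwd (nat_lit 14) (Steps.fwd (nat_lit 106496) (Steps.bwd (nat_lit 12) (Steps.bwd (nat_lit 11) (Steps.fwd (nat_lit 81920) Steps.nil)))))))) (nat_lit 187) (nat_lit 6),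
  Rule.mk (nat_lit 1) (nat_lit 104) (Steps.fwd (nat_lit 90112) (Steps.bwd (nat_lit 1) (Steps.bwd (nat_lit 14) (Steps.bwd (nat_lit 12) (Steps.bwd (nat_lit 11) (Steps.bwd (nat_lit 6) Steps.nil)))))) (nat_lit 161) (nat_lit 5),
  Rule.mk (nat_lit 16) (nat_lit 179) (Steps.bwd (nat_lit 1) (Steps.fwd (nat_lit 16384) (Steps.bwd (nat_lit 1) (Steps.bwd (nat_lit 3) (Steps.bwd (nat_lit 1) (Steps.fwd (nat_lit 16384) (Steps.fwd (nat_lit 8192) (Steps.fwd (nat_lit 24576) (Steps.fwd (nat_lit 32768) (Steps.fwd (nat_lit 8192) (Steps.fwd (nat_lit 24576) Steps.nil))))))))))) (nat_lit 190) (nat_lit 1),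
  Rule.mk (nat_lit 0) (nat_lit 194) (Steps.bwd (nat_lit 17) (Steps.fwd (nat_lit 24576) (Steps.bwd (nat_lit 1) (Steps.bwd (nat_lit 2) (Steps.fwd (nat_lit 8192) (Steps.bwd (nat_lit 3) (Steps.fwd (nat_lit 8192) (Steps.bwd (nat_lit 3) (Steps.fwd (nat_lit 8192) (Steps.bwd (nat_lit 4) (Steps.bwd (nat_lit 2) (Steps.bwd (nat_lit 1) Steps.nil)))))))))))) (nat_lit 193) (nat_lit 11),
  Rule.mk (nat_lit 20) (nat_lit 179) (Steps.bwd (nat_lit 1) (Steps.fwd (nat_lit 24576) (Steps.bwd (nat_lit 1) (Steps.bwd (nat_lit 2) (Steps.fwd (nat_lit 8192) (Steps.bwd (nat_lit 3) (Steps.fwd (nat_lit 8192) (Steps.bwd (nat_lit 3) (Steps.fwd (nat_lit 8192) (Steps.bwd (nat_lit 4) (Steps.bwd (nat_lit 2) Steps.nil))))))))))) (nat_lit 194) (nat_lit 1),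
  Rule.mk (nat_lit 2) (nat_lit 104) (Steps.bwd (nat_lit 10) (Steps.fwd (nat_lit 16384) (Steps.fwd (nat_lit 49152) (Steps.fwd (nat_lit 90112) (Steps.fwd (nat_lit 98304) (Steps.fwd (nat_lit 114688) Steps.nil)))))) (nat_lit 180) (nat_lit 1),
  Rule.mk (nat_lit 3) (nat_lit 119) (Steps.fwd (nat_lit 40960) (Steps.bwd (nat_lit 6) (Steps.bwd (nat_lit 7) (Steps.fwd (nat_lit 98304) (Steps.fwd (nat_lit 114688) (Steps.bwd (nat_lit 2) (Steps.bwd (nat_lit 14) Steps.nil))))))) (nat_lit 188) (nat_lit 3),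
  Rule.mk (nat_lit 1) (nat_lit 104) (Steps.bwd (nat_lit 11) (Steps.bwd (nat_lit 1) (Steps.fwd (nat_lit 49152) (Steps.fwd (nat_lit 90112) (Steps.fwd (nat_lit 98304) (Steps.bwd (nat_lit 14) Steps.nil)))))) (nat_lit 160) (nat_lit 1),
  Rule.mk (nat_lit 0) (nat_lit 194) (Steps.bwd (nat_lit 16) (Steps.fwd (nat_lit 8192) (Steps.fwd (nat_lit 16384) (Steps.fwd (nat_lit 8192) (Steps.bwd (nat_lit 3) (Steps.fwd (nat_lit 8192) (Steps.bwd (nat_lit 3) (Steps.bwd (nat_lit 1) (Steps.bwd (nat_lit 2) (Steps.bwd (nat_lit 4) (Steps.fwd (nat_lit 8192) (Steps.fwd (nat_lit 24576) Steps.nil)))))))))))) (nat_lit 190) (nat_lit 0),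
  Rule.mk (nat_lit 0) (nat_lit 194) (Steps.bwd (nat_lit 17) (Steps.fwd (nat_lit 24576) (Steps.bwd (nat_lit 1) (Steps.bwd (nat_lit 2) (Steps.fwd (nat_lit 8192) (Steps.fwd (nat_lit 16384) (Steps.fwd (nat_lit 8192) (Steps.bwd (nat_lit 3) (Steps.fwd (nat_lit 8192) (Steps.bwd (nat_lit 4) (Steps.bwd (nat_lit 2) (Steps.fwd (nat_lit 8192) Steps.nil)))))))))))) (nat_lit 193) (nat_lit 11),
  Rule.mk (nat_lit 20) (nat_lit 179) (Steps.bwd (nat_lit 1) (Steps.fwd (nat_lit 24576) (Steps.bwd (nat_lit 1) (Steps.bwd (nat_lit 2) (Steps.bwd (nat_lit 1) (Steps.fwd (nat_lit 16384) (Steps.fwd (nat_lit 8192) (Steps.bwd (nat_lit 3) (Steps.bwd (nat_lit 1) (Steps.bwd (nat_lit 4) (Steps.fwd (nat_lit 24576) Steps.nil))))))))))) (nat_lit 194) (nat_lit 1),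
  Rule.mk (nat_lit 19) (nat_lit 179) (Steps.fwd (nat_lit 16384) (Steps.fwd (nat_lit 32768) (Steps.bwd (nat_lit 1) (Steps.fwd (nat_lit 24576) (Steps.bwd (nat_lit 1) (Steps.bwd (nat_lit 2) (Steps.bwd (nat_lit 1) (Steps.fwd (nat_lit 16384) (Steps.fwd (nat_lit 8192) (Steps.bwd (nat_lit 3) (Steps.bwd (nat_lit 1) Steps.nil))))))))))) (nat_lit 195) (nat_lit 0),
  Rule.mk (nat_lit 13) (nat_lit 104) (Steps.bwd (nat_lit 7) (Steps.fwd (nat_lit 40960) (Steps.bwd (nat_lit 2) (Steps.bwd (nat_lit 7) (Steps.bwd (nat_lit 3) (Steps.bwd (nat_lit 14) Steps.nil)))))) (nat_lit 175) (nat_lit 2),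
  Rule.mk (nat_lit 16) (nat_lit 179) (Steps.fwd (nat_lit 8192) (Steps.fwd (nat_lit 16384) (Steps.bwd (nat_lit 1) (Steps.fwd (nat_lit 16384) (Steps.fwd (nat_lit 8192) (Steps.fwd (nat_lit 16384) (Steps.fwd (nat_lit 8192) (Steps.bwd (nat_lit 2) (Steps.fwd (nat_lit 32768) (Steps.fwd (nat_lit 8192) (Steps.bwd (nat_lit 2) Steps.nil))))))))))) (nat_lit 190) (nat_lit 1),
  Rule.mk (nat_lit 2) (nat_lit 119) (Steps.fwd (nat_lit 114688) (Steps.bwd (nat_lit 3) (Steps.bwd (nat_lit 5) (Steps.bwd (nat_lit 6) (Steps.fwd (nat_lit 57344) (Steps.bwd (nat_lit 12) (Steps.bwd (nat_lit 14) Steps.nil))))))) (nat_lit 188) (nat_lit 1),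
  Rule.mk (nat_lit 1) (nat_lit 104) (Steps.bwd (nat_lit 5) (Steps.fwd (nat_lit 57344) (Steps.fwd (nat_lit 106496) (Steps.bwd (nat_lit 14) (Steps.fwd (nat_lit 8192) (Steps.bwd (nat_lit 8) Steps.nil)))))) (nat_lit 154) (nat_lit 3),
  Rule.mk (nat_lit 14) (nat_lit 59) (Steps.fwd (nat_lit 90112) (Steps.fwd (nat_lit 114688) (Steps.bwd (nat_lit 11) Steps.nil))) (nat_lit 140) (nat_lit 1),
  Rule.mk (nat_lit 3) (nat_lit 134) (Steps.bwd (nat_lit 14) (Steps.fwd (nat_lit 90112) (Steps.bwd (nat_lit 9) (Steps.bwd (nat_lit 8) (Steps.fwd (nat_lit 40960) (Steps.bwd (nat_lit 4) (Steps.fwd (nat_lit 24576) (Steps.bwd (nat_lit 9) Steps.nil)))))))) (nat_lit 179) (nat_lit 0),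
  Rule.mk (nat_lit 18) (nat_lit 179) (Steps.fwd (nat_lit 8192) (Steps.bwd (nat_lit 3) (Steps.bwd (nat_lit 4) (Steps.fwd (nat_lit 8192) (Steps.fwd (nat_lit 24576) (Steps.bwd (nat_lit 1) (Steps.fwd (nat_lit 24576) (Steps.fwd (nat_lit 8192) (Steps.bwd (nat_lit 3) (Steps.fwd (nat_lit 8192) (Steps.bwd (nat_lit 3) Steps.nil))))))))))) (nat_lit 192) (nat_lit 1),
  Rule.mk (nat_lit 20) (nat_lit 179) (Steps.fwd (nat_lit 8192) (Steps.fwd (nat_lit 24576) (Steps.bwd (nat_lit 1) (Steps.fwd (nat_lit 24576) (Steps.fwd (nat_lit 8192) (Steps.bwd (nat_lit 3) (Steps.fwd (nat_lit 8192) (Steps.bwd (nat_lit 3) (Steps.bwd (nat_lit 1) (Steps.fwd (nat_lit 32768) (Steps.fwd (nat_lit 24576) Steps.nil))))))))))) (nat_lit 194) (nat_lit 1),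
  Rule.mk (nat_lit 0) (nat_lit 194) (Steps.bwd (nat_lit 20) (Steps.fwd (nat_lit 8192) (Steps.fwd (nat_lit 24576) (Steps.bwd (nat_lit 1) (Steps.fwd (nat_lit 24576) (Steps.bwd (nat_lit 1) (Steps.bwd (nat_lit 3) (Steps.fwd (nat_lit 8192) (Steps.bwd (nat_lit 3) (Steps.bwd (nat_lit 1) (Steps.fwd (nat_lit 32768) (Steps.fwd (nat_lit 24576) Steps.nil)))))))))))) (nat_lit 194) (nat_lit 0),
  Rule.mk (nat_lit 1) (nat_lit 134) (Steps.bwd (nat_lit 10) (Steps.fwd (nat_lit 8192) (Steps.bwd (nat_lit 14) (Steps.fwd (nat_lit 90112) (Steps.bwd (nat_lit 9) (Steps.bwd (nat_lit 8) (Steps.fwd (nat_lit 40960) (Steps.bwd (nat_lit 4) Steps.nil)))))))) (nat_lit 159) (nat_lit 7),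
  Rule.mk (nat_lit 6) (nat_lit 104) (Steps.bwd (nat_lit 1) (Steps.fwd (nat_lit 90112) (Steps.bwd (nat_lit 1) (Steps.fwd (nat_lit 114688) (Steps.fwd (nat_lit 98304) (Steps.bwd (nat_lit 11) Steps.nil)))))) (nat_lit 161) (nat_lit 4),
  Rule.mk (nat_lit 2) (nat_lit 104) (Steps.fwd (nat_lit 81920) (Steps.bwd (nat_lit 3) (Steps.bwd (nat_lit 6) (Steps.bwd (nat_lit 11) (Steps.bwd (nat_lit 12) (Steps.bwd (nat_lit 14) Steps.nil)))))) (nat_lit 180) (nat_lit 1),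
  Rule.mk (nat_lit 2) (nat_lit 104) (Steps.bwd (nat_lit 10) (Steps.bwd (nat_lit 3) (Steps.fwd (nat_lit 49152) (Steps.fwd (nat_lit 90112) (Steps.fwd (nat_lit 98304) (Steps.bwd (nat_lit 14) Steps.nil)))))) (nat_lit 180) (nat_lit 1),
  Rule.mk (nat_lit 1) (nat_lit 104) (Steps.fwd (nat_lit 65536) (Steps.bwd (nat_lit 1) (Steps.bwd (nat_lit 5) (Steps.bwd (nat_lit 7) (Steps.bwd (nat_lit 13) (Steps.bwd (nat_lit 14) Steps.nil)))))) (nat_lit 154) (nat_lit 1),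
  Rule.mk (nat_lit 18) (nat_lit 179) (Steps.bwd (nat_lit 1) (Steps.fwd (nat_lit 16384) (Steps.bwd (nat_lit 4) (Steps.fwd (nat_lit 8192) (Steps.fwd (nat_lit 24576) (Steps.fwd (nat_lit 8192) (Steps.bwd (nat_lit 2) (Steps.bwd (nat_lit 1) (Steps.bwd (nat_lit 3) (Steps.fwd (nat_lit 8192) (Steps.bwd (nat_lit 3) Steps.nil))))))))))) (nat_lit 192) (nat_lit 1),
  Rule.mk (nat_lit 17) (nat_lit 179) (Steps.fwd (nat_lit 24576) (Steps.fwd (nat_lit 8192) (Steps.bwd (nat_lit 2) (Steps.bwd (nat_lit 1) (Steps.bwd (nat_lit 3) (Steps.fwd (nat_lit 8192) (Steps.bwd (nat_lit 3) (Steps.bwd (nat_lit 1) (Steps.fwd (nat_lit 32768) (Steps.bwd (nat_lit 2) (Steps.bwd (nat_lit 1) Steps.nil))))))))))) (nat_lit 193) (nat_lit 0),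
  Rule.mk (nat_lit 20) (nat_lit 179) (Steps.fwd (nat_lit 8192) (Steps.fwd (nat_lit 24576) (Steps.fwd (nat_lit 8192) (Steps.bwd (nat_lit 2) (Steps.bwd (nat_lit 1) (Steps.bwd (nat_lit 3) (Steps.fwd (nat_lit 8192) (Steps.bwd (nat_lit 3) (Steps.bwd (nat_lit 1) (Steps.fwd (nat_lit 32768) (Steps.bwd (nat_lit 2) Steps.nil))))))))))) (nat_lit 194) (nat_lit 1),
  Rule.mk (nat_lit 19) (nat_lit 179) (Steps.fwd (nat_lit 16384) (Steps.bwd (nat_lit 4) (Steps.fwd (nat_lit 8192) (Steps.fwd (nat_lit 24576) (Steps.fwd (nat_lit 8192) (Steps.bwd (nat_lit 2) (Steps.bwd (nat_lit 1) (Steps.bwd (nat_lit 3) (Steps.fwd (nat_lit 8192) (Steps.bwd (nat_lit 3) (Steps.bwd (nat_lit 1) Steps.nil))))))))))) (nat_lit 195) (nat_lit 0),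
  Rule.mk (nat_lit 3) (nat_lit 134) (Steps.bwd (nat_lit 14) (Steps.bwd (nat_lit 11) (Steps.fwd (nat_lit 73728) (Steps.fwd (nat_lit 65536) (Steps.bwd (nat_lit 5) (Steps.bwd (nat_lit 4) (Steps.bwd (nat_lit 2) (Steps.bwd (nat_lit 9) Steps.nil)))))))) (nat_lit 179) (nat_lit 0),
  Rule.mk (nat_lit 1) (nat_lit 134) (Steps.fwd (nat_lit 81920) (Steps.fwd (nat_lit 8192) (Steps.fwd (nat_lit 32768) (Steps.bwd (nat_lit 5) (Steps.fwd (nat_lit 65536) (Steps.fwd (nat_lit 73728) (Steps.fwd (nat_lit 90112) (Steps.bwd (nat_lit 14) Steps.nil)))))))) (nat_lit 158) (nat_lit 1),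
  Rule.mk (nat_lit 2) (nat_lit 134) (Steps.fwd (nat_lit 73728) (Steps.fwd (nat_lit 16384) (Steps.fwd (nat_lit 32768) (Steps.bwd (nat_lit 5) (Steps.fwd (nat_lit 65536) (Steps.fwd (nat_lit 73728) (Steps.fwd (nat_lit 90112) (Steps.bwd (nat_lit 14) Steps.nil)))))))) (nat_lit 178) (nat_lit 1),
  Rule.mk (nat_lit 7) (nat_lit 89) (Steps.fwd (nat_lit 32768) (Steps.bwd (nat_lit 2) (Steps.fwd (nat_lit 65536) (Steps.bwd (nat_lit 3) (Steps.bwd (nat_lit 14) Steps.nil))))) (nat_lit 177) (nat_lit 2),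
  Rule.mk (nat_lit 1) (nat_lit 89) (Steps.bwd (nat_lit 4) (Steps.fwd (nat_lit 57344) (Steps.fwd (nat_lit 114688) (Steps.fwd (nat_lit 8192) (Steps.fwd (nat_lit 73728) Steps.nil))))) (nat_lit 156) (nat_lit 3),
  Rule.mk (nat_lit 18) (nat_lit 179) (Steps.bwd (nat_lit 1) (Steps.bwd (nat_lit 3) (Steps.bwd (nat_lit 4) (Steps.bwd (nat_lit 1) (Steps.bwd (nat_lit 2) (Steps.fwd (nat_lit 8192) (Steps.fwd (nat_lit 24576) (Steps.bwd (nat_lit 1) (Steps.bwd (nat_lit 3) (Steps.fwd (nat_lit 8192) (Steps.fwd (nat_lit 16384) Steps.nil))))))))))) (nat_lit 192) (nat_lit 1),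
  Rule.mk (nat_lit 2) (nat_lit 179) (Steps.bwd (nat_lit 16) (Steps.fwd (nat_lit 8192) (Steps.bwd (nat_lit 3) (Steps.fwd (nat_lit 8192) (Steps.fwd (nat_lit 16384) (Steps.bwd (nat_lit 1) (Steps.fwd (nat_lit 16384) (Steps.bwd (nat_lit 1) (Steps.bwd (nat_lit 2) (Steps.fwd (nat_lit 32768) (Steps.fwd (nat_lit 8192) Steps.nil))))))))))) (nat_lit 190) (nat_lit 0),
  Rule.mk (nat_lit 0) (nat_lit 194) (Steps.bwd (nat_lit 16) (Steps.fwd (nat_lit 8192) (Steps.fwd (nat_lit 16384) (Steps.bwd (nat_lit 1) (Steps.fwd (nat_lit 16384) (Steps.bwd (nat_lit 1) (Steps.fwd (nat_lit 16384) (Steps.fwd (nat_lit 8192) (Steps.fwd (nat_lit 24576) (Steps.fwd (nat_lit 32768) (Steps.fwd (nat_lit 8192) (Steps.fwd (nat_lit 24576) Steps.nil)))))))))))) (nat_lit 190) (nat_lit 0),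
  Rule.mk (nat_lit 0) (nat_lit 59) (Steps.bwd (nat_lit 15) (Steps.bwd (nat_lit 0) (Steps.bwd (nat_lit 16) Steps.nil))) (nat_lit 196) (nat_lit 0),
  Rule.mk (nat_lit 16) (nat_lit 44) (Steps.bwd (nat_lit 0) (Steps.bwd (nat_lit 15) Steps.nil)) (nat_lit 196) (nat_lit 0),
  Rule.mk (nat_lit 15) (nat_lit 179) (Steps.bwd (nat_lit 3) (Steps.fwd (nat_lit 8192) (Steps.bwd (nat_lit 4) (Steps.fwd (nat_lit 16384) (Steps.fwd (nat_lit 8192) (Steps.fwd (nat_lit 24576) (Steps.bwd (nat_lit 1) (Steps.bwd (nat_lit 2) (Steps.bwd (nat_lit 1) (Steps.bwd (nat_lit 2) (Steps.fwd (nat_lit 8192) Steps.nil))))))))))) (nat_lit 191) (nat_lit 0),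
  Rule.mk (nat_lit 0) (nat_lit 194) (Steps.bwd (nat_lit 15) (Steps.bwd (nat_lit 3) (Steps.fwd (nat_lit 8192) (Steps.bwd (nat_lit 4) (Steps.fwd (nat_lit 16384) (Steps.bwd (nat_lit 1) (Steps.bwd (nat_lit 2) (Steps.bwd (nat_lit 1) (Steps.bwd (nat_lit 2) (Steps.fwd (nat_lit 8192) (Steps.fwd (nat_lit 24576) (Steps.fwd (nat_lit 8192) Steps.nil)))))))))))) (nat_lit 191) (nat_lit 11),
  Rule.mk (nat_lit 18) (nat_lit 179) (Steps.fwd (nat_lit 8192) (Steps.fwd (nat_lit 16384) (Steps.bwd (nat_lit 4) (Steps.fwd (nat_lit 8192) (Steps.fwd (nat_lit 24576) (Steps.bwd (nat_lit 1) (Steps.bwd (nat_lit 2) (Steps.bwd (nat_lit 1) (Steps.bwd (nat_lit 3) (Steps.bwd (nat_lit 1) (Steps.fwd (nat_lit 16384) Steps.nil))))))))))) (nat_lit 192) (nat_lit 1),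
  Rule.mk (nat_lit 20) (nat_lit 179) (Steps.fwd (nat_lit 8192) (Steps.bwd (nat_lit 2) (Steps.fwd (nat_lit 8192) (Steps.fwd (nat_lit 24576) (Steps.fwd (nat_lit 8192) (Steps.fwd (nat_lit 16384) (Steps.bwd (nat_lit 1) (Steps.fwd (nat_lit 16384) (Steps.bwd (nat_lit 1) (Steps.bwd (nat_lit 4) (Steps.fwd (nat_lit 24576) Steps.nil))))))))))) (nat_lit 194) (nat_lit 1),
  Rule.mk (nat_lit 0) (nat_lit 194) (Steps.bwd (nat_lit 19) (Steps.fwd (nat_lit 16384) (Steps.bwd (nat_lit 4) (Steps.fwd (nat_lit 8192) (Steps.fwd (nat_lit 24576) (Steps.bwd (nat_lit 1) (Steps.bwd (nat_lit 2) (Steps.bwd (nat_lit 1) (Steps.bwd (nat_lit 3) (Steps.bwd (nat_lit 1) (Steps.fwd (nat_lit 16384) (Steps.fwd (nat_lit 8192) Steps.nil)))))))))))) (nat_lit 195) (nat_lit 11)]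
noncomputable def R_30 : List (Rule) := [Rule.mk (nat_lit 7) (nat_lit 104) (Steps.fwd (nat_lit 16384) (Steps.fwd (nat_lit 40960) (Steps.bwd (nat_lit 7) (Steps.fwd (nat_lit 106496) (Steps.fwd (nat_lit 114688) (Steps.bwd (nat_lit 2) Steps.nil)))))) (nat_lit 174) (nat_lit 2),
  Rule.mk (nat_lit 12) (nat_lit 104) (Steps.fwd (nat_lit 16384) (Steps.bwd (nat_lit 4) (Steps.bwd (nat_lit 5) (Steps.bwd (nat_lit 8) (Steps.bwd (nat_lit 9) (Steps.bwd (nat_lit 2) Steps.nil)))))) (nat_lit 184) (nat_lit 2),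
  Rule.mk (nat_lit 14) (nat_lit 119) (Steps.bwd (nat_lit 3) (Steps.bwd (nat_lit 5) (Steps.bwd (nat_lit 6) (Steps.bwd (nat_lit 7) (Steps.fwd (nat_lit 98304) (Steps.fwd (nat_lit 114688) (Steps.bwd (nat_lit 2) Steps.nil))))))) (nat_lit 188) (nat_lit 2),
  Rule.mk (nat_lit 6) (nat_lit 164) (Steps.bwd (nat_lit 3) (Steps.fwd (nat_lit 114688) (Steps.fwd (nat_lit 106496) (Steps.bwd (nat_lit 12) (Steps.bwd (nat_lit 11) (Steps.fwd (nat_lit 81920) (Steps.bwd (nat_lit 9) (Steps.bwd (nat_lit 6) (Steps.bwd (nat_lit 5) (Steps.bwd (nat_lit 2) Steps.nil)))))))))) (nat_lit 173) (nat_lit 10),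
  Rule.mk (nat_lit 2) (nat_lit 149) (Steps.fwd (nat_lit 40960) (Steps.fwd (nat_lit 16384) (Steps.bwd (nat_lit 14) (Steps.fwd (nat_lit 106496) (Steps.bwd (nat_lit 12) (Steps.bwd (nat_lit 9) (Steps.bwd (nat_lit 8) (Steps.bwd (nat_lit 5) (Steps.bwd (nat_lit 4) Steps.nil))))))))) (nat_lit 171) (nat_lit 8),
  Rule.mk (nat_lit 7) (nat_lit 104) (Steps.bwd (nat_lit 3) (Steps.bwd (nat_lit 5) (Steps.bwd (nat_lit 7) (Steps.bwd (nat_lit 13) (Steps.bwd (nat_lit 14) (Steps.bwd (nat_lit 2) Steps.nil)))))) (nat_lit 174) (nat_lit 2),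
  Rule.mk (nat_lit 5) (nat_lit 149) (Steps.bwd (nat_lit 3) (Steps.bwd (nat_lit 4) (Steps.bwd (nat_lit 5) (Steps.fwd (nat_lit 65536) (Steps.fwd (nat_lit 73728) (Steps.bwd (nat_lit 12) (Steps.fwd (nat_lit 106496) (Steps.bwd (nat_lit 14) (Steps.fwd (nat_lit 24576) Steps.nil))))))))) (nat_lit 170) (nat_lit 2),
  Rule.mk (nat_lit 1) (nat_lit 104) (Steps.bwd (nat_lit 11) (Steps.fwd (nat_lit 8192) (Steps.fwd (nat_lit 49152) (Steps.fwd (nat_lit 90112) (Steps.bwd (nat_lit 12) (Steps.fwd (nat_lit 114688) Steps.nil)))))) (nat_lit 160) (nat_lit 1),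
  Rule.mk (nat_lit 2) (nat_lit 104) (Steps.fwd (nat_lit 81920) (Steps.fwd (nat_lit 16384) (Steps.fwd (nat_lit 49152) (Steps.fwd (nat_lit 90112) (Steps.fwd (nat_lit 98304) (Steps.bwd (nat_lit 14) Steps.nil)))))) (nat_lit 180) (nat_lit 1),
  Rule.mk (nat_lit 3) (nat_lit 134) (Steps.bwd (nat_lit 14) (Steps.fwd (nat_lit 106496) (Steps.bwd (nat_lit 12) (Steps.fwd (nat_lit 90112) (Steps.bwd (nat_lit 10) (Steps.bwd (nat_lit 6) (Steps.bwd (nat_lit 2) (Steps.bwd (nat_lit 13) Steps.nil)))))))) (nat_lit 187) (nat_lit 0),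
  Rule.mk (nat_lit 0) (nat_lit 194) (Steps.bwd (nat_lit 15) (Steps.fwd (nat_lit 16384) (Steps.bwd (nat_lit 1) (Steps.fwd (nat_lit 32768) (Steps.bwd (nat_lit 3) (Steps.bwd (nat_lit 1) (Steps.fwd (nat_lit 24576) (Steps.bwd (nat_lit 1) (Steps.fwd (nat_lit 24576) (Steps.bwd (nat_lit 1) (Steps.bwd (nat_lit 2) (Steps.fwd (nat_lit 8192) Steps.nil)))))))))))) (nat_lit 191) (nat_lit 11),
  Rule.mk (nat_lit 0) (nat_lit 194) (Steps.bwd (nat_lit 18) (Steps.bwd (nat_lit 1) (Steps.fwd (nat_lit 16384) (Steps.fwd (nat_lit 32768) (Steps.bwd (nat_lit 1) (Steps.fwd (nat_lit 24576) (Steps.bwd (nat_lit 1) (Steps.fwd (nat_lit 24576) (Steps.bwd (nat_lit 1) (Steps.fwd (nat_lit 16384) (Steps.fwd (nat_lit 8192) (Steps.bwd (nat_lit 3) Steps.nil)))))))))))) (nat_lit 192) (nat_lit 0),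
  Rule.mk (nat_lit 0) (nat_lit 194) (Steps.bwd (nat_lit 19) (Steps.fwd (nat_lit 16384) (Steps.fwd (nat_lit 32768) (Steps.bwd (nat_lit 1) (Steps.fwd (nat_lit 24576) (Steps.bwd (nat_lit 1) (Steps.fwd (nat_lit 24576) (Steps.bwd (nat_lit 1) (Steps.fwd (nat_lit 16384) (Steps.fwd (nat_lit 8192) (Steps.bwd (nat_lit 3) (Steps.bwd (nat_lit 1) Steps.nil)))))))))))) (nat_lit 195) (nat_lit 11),
  Rule.mk (nat_lit 3) (nat_lit 179) (Steps.fwd (nat_lit 32768) (Steps.fwd (nat_lit 8192) (Steps.fwd (nat_lit 24576) (Steps.bwd (nat_lit 1) (Steps.bwd (nat_lit 2) (Steps.fwd (nat_lit 8192) (Steps.bwd (nat_lit 3) (Steps.fwd (nat_lit 8192) (Steps.bwd (nat_lit 3) (Steps.fwd (nat_lit 8192) (Steps.fwd (nat_lit 163840) Steps.nil))))))))))) (nat_lit 195) (nat_lit 1),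
  Rule.mk (nat_lit 10) (nat_lit 104) (Steps.bwd (nat_lit 3) (Steps.bwd (nat_lit 6) (Steps.fwd (nat_lit 90112) (Steps.fwd (nat_lit 98304) (Steps.fwd (nat_lit 114688) (Steps.bwd (nat_lit 2) Steps.nil)))))) (nat_lit 180) (nat_lit 2),
  Rule.mk (nat_lit 6) (nat_lit 164) (Steps.bwd (nat_lit 3) (Steps.fwd (nat_lit 114688) (Steps.bwd (nat_lit 13) (Steps.fwd (nat_lit 98304) (Steps.bwd (nat_lit 11) (Steps.bwd (nat_lit 10) (Steps.fwd (nat_lit 73728) (Steps.fwd (nat_lit 49152) (Steps.fwd (nat_lit 40960) (Steps.bwd (nat_lit 2) Steps.nil)))))))))) (nat_lit 173) (nat_lit 10),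
  Rule.mk (nat_lit 11) (nat_lit 164) (Steps.bwd (nat_lit 3) (Steps.fwd (nat_lit 114688) (Steps.bwd (nat_lit 12) (Steps.bwd (nat_lit 11) (Steps.fwd (nat_lit 81920) (Steps.bwd (nat_lit 9) (Steps.fwd (nat_lit 65536) (Steps.fwd (nat_lit 40960) (Steps.bwd (nat_lit 4) (Steps.fwd (nat_lit 24576) Steps.nil)))))))))) (nat_lit 183) (nat_lit 10),
  Rule.mk (nat_lit 1) (nat_lit 179) (Steps.bwd (nat_lit 3) (Steps.fwd (nat_lit 32768) (Steps.fwd (nat_lit 8192) (Steps.fwd (nat_lit 24576) (Steps.bwd (nat_lit 1) (Steps.bwd (nat_lit 2) (Steps.fwd (nat_lit 8192) (Steps.bwd (nat_lit 3) (Steps.fwd (nat_lit 8192) (Steps.bwd (nat_lit 3) (Steps.fwd (nat_lit 139264) Steps.nil))))))))))) (nat_lit 192) (nat_lit 2),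
  Rule.mk (nat_lit 0) (nat_lit 104) (Steps.bwd (nat_lit 1) (Steps.fwd (nat_lit 73728) (Steps.bwd (nat_lit 1) (Steps.fwd (nat_lit 32768) (Steps.fwd (nat_lit 57344) (Steps.fwd (nat_lit 114688) Steps.nil)))))) (nat_lit 156) (nat_lit 0),
  Rule.mk (nat_lit 8) (nat_lit 104) (Steps.bwd (nat_lit 1) (Steps.bwd (nat_lit 5) (Steps.fwd (nat_lit 57344) (Steps.bwd (nat_lit 13) (Steps.fwd (nat_lit 114688) (Steps.fwd (nat_lit 8192) Steps.nil)))))) (nat_lit 154) (nat_lit 2),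
  Rule.mk (nat_lit 3) (nat_lit 134) (Steps.fwd (nat_lit 49152) (Steps.fwd (nat_lit 81920) (Steps.bwd (nat_lit 11) (Steps.bwd (nat_lit 12) (Steps.bwd (nat_lit 13) (Steps.bwd (nat_lit 14) (Steps.bwd (nat_lit 2) (Steps.bwd (nat_lit 13) Steps.nil)))))))) (nat_lit 186) (nat_lit 3),
  Rule.mk (nat_lit 10) (nat_lit 104) (Steps.bwd (nat_lit 3) (Steps.fwd (nat_lit 49152) (Steps.fwd (nat_lit 90112) (Steps.bwd (nat_lit 12) (Steps.bwd (nat_lit 14) (Steps.fwd (nat_lit 24576) Steps.nil)))))) (nat_lit 180) (nat_lit 2),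
  Rule.mk (nat_lit 1) (nat_lit 179) (Steps.fwd (nat_lit 16384) (Steps.fwd (nat_lit 8192) (Steps.bwd (nat_lit 3) (Steps.fwd (nat_lit 8192) (Steps.bwd (nat_lit 3) (Steps.bwd (nat_lit 1) (Steps.bwd (nat_lit 2) (Steps.fwd (nat_lit 32768) (Steps.fwd (nat_lit 8192) (Steps.bwd (nat_lit 2) (Steps.fwd (nat_lit 122880) Steps.nil))))))))))) (nat_lit 190) (nat_lit 2),
  Rule.mk (nat_lit 16) (nat_lit 179) (Steps.fwd (nat_lit 8192) (Steps.bwd (nat_lit 3) (Steps.fwd (nat_lit 8192) (Steps.bwd (nat_lit 3) (Steps.bwd (nat_lit 1) (Steps.bwd (nat_lit 3) (Steps.bwd (nat_lit 1) (Steps.fwd (nat_lit 24576) (Steps.fwd (nat_lit 32768) (Steps.bwd (nat_lit 1) (Steps.fwd (nat_lit 24576) Steps.nil))))))))))) (nat_lit 190) (nat_lit 1),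
  Rule.mk (nat_lit 0) (nat_lit 194) (Steps.bwd (nat_lit 17) (Steps.fwd (nat_lit 24576) (Steps.fwd (nat_lit 8192) (Steps.fwd (nat_lit 24576) (Steps.bwd (nat_lit 1) (Steps.bwd (nat_lit 3) (Steps.fwd (nat_lit 8192) (Steps.bwd (nat_lit 3) (Steps.fwd (nat_lit 8192) (Steps.bwd (nat_lit 4) (Steps.bwd (nat_lit 2) (Steps.fwd (nat_lit 8192) Steps.nil)))))))))))) (nat_lit 193) (nat_lit 11),
  Rule.mk (nat_lit 0) (nat_lit 194) (Steps.bwd (nat_lit 17) (Steps.fwd (nat_lit 24576) (Steps.bwd (nat_lit 1) (Steps.fwd (nat_lit 24576) (Steps.fwd (nat_lit 8192) (Steps.bwd (nat_lit 3) (Steps.bwd (nat_lit 1) (Steps.bwd (nat_lit 3) (Steps.bwd (nat_lit 1) (Steps.bwd (nat_lit 4) (Steps.bwd (nat_lit 2) (Steps.bwd (nat_lit 1) Steps.nil)))))))))))) (nat_lit 193) (nat_lit 11),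
  Rule.mk (nat_lit 20) (nat_lit 179) (Steps.bwd (nat_lit 1) (Steps.fwd (nat_lit 24576) (Steps.bwd (nat_lit 1) (Steps.fwd (nat_lit 24576) (Steps.fwd (nat_lit 8192) (Steps.bwd (nat_lit 3) (Steps.bwd (nat_lit 1) (Steps.bwd (nat_lit 3) (Steps.bwd (nat_lit 1) (Steps.bwd (nat_lit 4) (Steps.bwd (nat_lit 2) Steps.nil))))))))))) (nat_lit 194) (nat_lit 1),
  Rule.mk (nat_lit 19) (nat_lit 179) (Steps.fwd (nat_lit 16384) (Steps.fwd (nat_lit 32768) (Steps.bwd (nat_lit 1) (Steps.fwd (nat_lit 24576) (Steps.bwd (nat_lit 1) (Steps.fwd (nat_lit 24576) (Steps.fwd (nat_lit 8192) (Steps.bwd (nat_lit 3) (Steps.bwd (nat_lit 1) (Steps.bwd (nat_lit 3) (Steps.bwd (nat_lit 1) Steps.nil))))))))))) (nat_lit 195) (nat_lit 0),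
  Rule.mk (nat_lit 14) (nat_lit 104) (Steps.bwd (nat_lit 1) (Steps.fwd (nat_lit 65536) (Steps.fwd (nat_lit 8192) (Steps.fwd (nat_lit 40960) (Steps.bwd (nat_lit 7) (Steps.fwd (nat_lit 106496) Steps.nil)))))) (nat_lit 154) (nat_lit 0),
  Rule.mk (nat_lit 1) (nat_lit 134) (Steps.bwd (nat_lit 14) (Steps.bwd (nat_lit 1) (Steps.bwd (nat_lit 6) (Steps.bwd (nat_lit 10) (Steps.bwd (nat_lit 11) (Steps.fwd (nat_lit 98304) (Steps.bwd (nat_lit 13) (Steps.fwd (nat_lit 114688) Steps.nil)))))))) (nat_lit 166) (nat_lit 1),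
  Rule.mk (nat_lit 1) (nat_lit 179) (Steps.bwd (nat_lit 3) (Steps.bwd (nat_lit 1) (Steps.fwd (nat_lit 16384) (Steps.bwd (nat_lit 1) (Steps.bwd (nat_lit 3) (Steps.bwd (nat_lit 1) (Steps.fwd (nat_lit 24576) (Steps.fwd (nat_lit 32768) (Steps.bwd (nat_lit 1) (Steps.bwd (nat_lit 2) (Steps.fwd (nat_lit 122880) Steps.nil))))))))))) (nat_lit 190) (nat_lit 2),
  Rule.mk (nat_lit 16) (nat_lit 179) (Steps.bwd (nat_lit 1) (Steps.fwd (nat_lit 16384) (Steps.bwd (nat_lit 1) (Steps.bwd (nat_lit 3) (Steps.bwd (nat_lit 1) (Steps.bwd (nat_lit 3) (Steps.fwd (nat_lit 8192) (Steps.fwd (nat_lit 24576) (Steps.bwd (nat_lit 4) (Steps.bwd (nat_lit 1) (Steps.fwd (nat_lit 24576) Steps.nil))))))))))) (nat_lit 190) (nat_lit 1),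
  Rule.mk (nat_lit 16) (nat_lit 179) (Steps.bwd (nat_lit 1) (Steps.bwd (nat_lit 3) (Steps.bwd (nat_lit 1) (Steps.bwd (nat_lit 3) (Steps.fwd (nat_lit 8192) (Steps.bwd (nat_lit 3) (Steps.fwd (nat_lit 8192) (Steps.fwd (nat_lit 24576) (Steps.bwd (nat_lit 4) (Steps.fwd (nat_lit 8192) (Steps.bwd (nat_lit 2) Steps.nil))))))))))) (nat_lit 190) (nat_lit 1),
  Rule.mk (nat_lit 14) (nat_lit 104) (Steps.bwd (nat_lit 1) (Steps.fwd (nat_lit 65536) (Steps.fwd (nat_lit 8192) (Steps.fwd (nat_lit 40960) (Steps.bwd (nat_lit 7) (Steps.bwd (nat_lit 13) Steps.nil)))))) (nat_lit 154) (nat_lit 0),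
  Rule.mk (nat_lit 18) (nat_lit 179) (Steps.bwd (nat_lit 1) (Steps.bwd (nat_lit 3) (Steps.bwd (nat_lit 4) (Steps.fwd (nat_lit 8192) (Steps.bwd (nat_lit 2) (Steps.bwd (nat_lit 1) (Steps.fwd (nat_lit 24576) (Steps.fwd (nat_lit 8192) (Steps.bwd (nat_lit 3) (Steps.bwd (nat_lit 1) (Steps.fwd (nat_lit 16384) Steps.nil))))))))))) (nat_lit 192) (nat_lit 1),
  Rule.mk (nat_lit 1) (nat_lit 89) (Steps.bwd (nat_lit 9) (Steps.bwd (nat_lit 1) (Steps.bwd (nat_lit 14) (Steps.bwd (nat_lit 7) (Steps.fwd (nat_lit 32768) Steps.nil))))) (nat_lit 157) (nat_lit 4),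
  Rule.mk (nat_lit 3) (nat_lit 119) (Steps.fwd (nat_lit 40960) (Steps.bwd (nat_lit 6) (Steps.bwd (nat_lit 7) (Steps.bwd (nat_lit 12) (Steps.bwd (nat_lit 14) (Steps.bwd (nat_lit 2) (Steps.bwd (nat_lit 14) Steps.nil))))))) (nat_lit 188) (nat_lit 3),
  Rule.mk (nat_lit 18) (nat_lit 179) (Steps.bwd (nat_lit 1) (Steps.bwd (nat_lit 3) (Steps.fwd (nat_lit 32768) (Steps.fwd (nat_lit 8192) (Steps.bwd (nat_lit 2) (Steps.fwd (nat_lit 8192) (Steps.fwd (nat_lit 24576) (Steps.fwd (nat_lit 8192) (Steps.bwd (nat_lit 3) (Steps.fwd (nat_lit 8192) (Steps.bwd (nat_lit 3) Steps.nil))))))))))) (nat_lit 192) (nat_lit 1),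
  Rule.mk (nat_lit 0) (nat_lit 194) (Steps.bwd (nat_lit 16) (Steps.fwd (nat_lit 8192) (Steps.fwd (nat_lit 16384) (Steps.bwd (nat_lit 1) (Steps.bwd (nat_lit 3) (Steps.bwd (nat_lit 1) (Steps.bwd (nat_lit 3) (Steps.bwd (nat_lit 1) (Steps.fwd (nat_lit 24576) (Steps.fwd (nat_lit 32768) (Steps.bwd (nat_lit 1) (Steps.fwd (nat_lit 24576) Steps.nil)))))))))))) (nat_lit 190) (nat_lit 0),
  Rule.mk (nat_lit 1) (nat_lit 179) (Steps.fwd (nat_lit 16384) (Steps.bwd (nat_lit 4) (Steps.bwd (nat_lit 1) (Steps.fwd (nat_lit 24576) (Steps.fwd (nat_lit 8192) (Steps.fwd (nat_lit 24576) (Steps.bwd (nat_lit 1) (Steps.bwd (nat_lit 3) (Steps.bwd (nat_lit 1) (Steps.bwd (nat_lit 3) (Steps.fwd (nat_lit 139264) Steps.nil))))))))))) (nat_lit 192) (nat_lit 2),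
  Rule.mk (nat_lit 0) (nat_lit 194) (Steps.bwd (nat_lit 18) (Steps.fwd (nat_lit 8192) (Steps.fwd (nat_lit 16384) (Steps.bwd (nat_lit 4) (Steps.fwd (nat_lit 8192) (Steps.fwd (nat_lit 24576) (Steps.fwd (nat_lit 8192) (Steps.fwd (nat_lit 24576) (Steps.fwd (nat_lit 8192) (Steps.fwd (nat_lit 16384) (Steps.fwd (nat_lit 8192) (Steps.fwd (nat_lit 16384) Steps.nil)))))))))))) (nat_lit 192) (nat_lit 0),
  Rule.mk (nat_lit 1) (nat_lit 179) (Steps.bwd (nat_lit 2) (Steps.bwd (nat_lit 1) (Steps.bwd (nat_lit 2) (Steps.bwd (nat_lit 1) (Steps.bwd (nat_lit 3) (Steps.bwd (nat_lit 1) (Steps.bwd (nat_lit 3) (Steps.bwd (nat_lit 1) (Steps.fwd (nat_lit 32768) (Steps.bwd (nat_lit 2) (Steps.fwd (nat_lit 155648) Steps.nil))))))))))) (nat_lit 194) (nat_lit 2),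
  Rule.mk (nat_lit 2) (nat_lit 179) (Steps.bwd (nat_lit 20) (Steps.fwd (nat_lit 8192) (Steps.fwd (nat_lit 24576) (Steps.bwd (nat_lit 1) (Steps.fwd (nat_lit 24576) (Steps.bwd (nat_lit 1) (Steps.fwd (nat_lit 16384) (Steps.fwd (nat_lit 8192) (Steps.fwd (nat_lit 16384) (Steps.bwd (nat_lit 1) (Steps.fwd (nat_lit 32768) Steps.nil))))))))))) (nat_lit 194) (nat_lit 0),
  Rule.mk (nat_lit 19) (nat_lit 179) (Steps.fwd (nat_lit 16384) (Steps.bwd (nat_lit 4) (Steps.bwd (nat_lit 1) (Steps.fwd (nat_lit 24576) (Steps.fwd (nat_lit 8192) (Steps.fwd (nat_lit 24576) (Steps.bwd (nat_lit 1) (Steps.bwd (nat_lit 3) (Steps.bwd (nat_lit 1) (Steps.bwd (nat_lit 3) (Steps.bwd (nat_lit 1) Steps.nil))))))))))) (nat_lit 195) (nat_lit 0),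
  Rule.mk (nat_lit 1) (nat_lit 179) (Steps.fwd (nat_lit 16384) (Steps.bwd (nat_lit 4) (Steps.fwd (nat_lit 8192) (Steps.bwd (nat_lit 2) (Steps.bwd (nat_lit 1) (Steps.bwd (nat_lit 2) (Steps.fwd (nat_lit 8192) (Steps.bwd (nat_lit 3) (Steps.fwd (nat_lit 8192) (Steps.bwd (nat_lit 3) (Steps.fwd (nat_lit 139264) Steps.nil))))))))))) (nat_lit 192) (nat_lit 2),
  Rule.mk (nat_lit 12) (nat_lit 104) (Steps.fwd (nat_lit 16384) (Steps.bwd (nat_lit 4) (Steps.bwd (nat_lit 5) (Steps.fwd (nat_lit 65536) (Steps.fwd (nat_lit 73728) (Steps.bwd (nat_lit 2) Steps.nil)))))) (nat_lit 184) (nat_lit 2),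
  Rule.mk (nat_lit 14) (nat_lit 134) (Steps.fwd (nat_lit 90112) (Steps.fwd (nat_lit 73728) (Steps.fwd (nat_lit 65536) (Steps.bwd (nat_lit 5) (Steps.bwd (nat_lit 4) (Steps.bwd (nat_lit 1) (Steps.bwd (nat_lit 10) (Steps.fwd (nat_lit 8192) Steps.nil)))))))) (nat_lit 159) (nat_lit 1),
  Rule.mk (nat_lit 3) (nat_lit 104) (Steps.fwd (nat_lit 40960) (Steps.bwd (nat_lit 7) (Steps.bwd (nat_lit 13) (Steps.bwd (nat_lit 14) (Steps.fwd (nat_lit 24576) (Steps.fwd (nat_lit 57344) Steps.nil)))))) (nat_lit 174) (nat_lit 3),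
  Rule.mk (nat_lit 3) (nat_lit 134) (Steps.bwd (nat_lit 14) (Steps.fwd (nat_lit 90112) (Steps.fwd (nat_lit 73728) (Steps.fwd (nat_lit 65536) (Steps.bwd (nat_lit 5) (Steps.bwd (nat_lit 4) (Steps.bwd (nat_lit 2) (Steps.bwd (nat_lit 9) Steps.nil)))))))) (nat_lit 179) (nat_lit 0),
  Rule.mk (nat_lit 3) (nat_lit 89) (Steps.bwd (nat_lit 4) (Steps.bwd (nat_lit 7) (Steps.fwd (nat_lit 114688) (Steps.bwd (nat_lit 2) (Steps.bwd (nat_lit 8) Steps.nil))))) (nat_lit 176) (nat_lit 3),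
  Rule.mk (nat_lit 2) (nat_lit 104) (Steps.fwd (nat_lit 81920) (Steps.bwd (nat_lit 3) (Steps.bwd (nat_lit 14) (Steps.fwd (nat_lit 98304) (Steps.bwd (nat_lit 11) (Steps.fwd (nat_lit 49152) Steps.nil)))))) (nat_lit 181) (nat_lit 5),
  Rule.mk (nat_lit 18) (nat_lit 179) (Steps.fwd (nat_lit 8192) (Steps.fwd (nat_lit 16384) (Steps.bwd (nat_lit 4) (Steps.fwd (nat_lit 8192) (Steps.fwd (nat_lit 24576) (Steps.fwd (nat_lit 8192) (Steps.bwd (nat_lit 2) (Steps.fwd (nat_lit 8192) (Steps.fwd (nat_lit 16384) (Steps.fwd (nat_lit 8192) (Steps.bwd (nat_lit 3) Steps.nil))))))))))) (nat_lit 192) (nat_lit 1),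
  Rule.mk (nat_lit 19) (nat_lit 179) (Steps.fwd (nat_lit 16384) (Steps.bwd (nat_lit 4) (Steps.fwd (nat_lit 8192) (Steps.fwd (nat_lit 24576) (Steps.fwd (nat_lit 8192) (Steps.bwd (nat_lit 2) (Steps.fwd (nat_lit 8192) (Steps.fwd (nat_lit 16384) (Steps.fwd (nat_lit 8192) (Steps.bwd (nat_lit 3) (Steps.bwd (nat_lit 1) Steps.nil))))))))))) (nat_lit 195) (nat_lit 0),
  Rule.mk (nat_lit 9) (nat_lit 89) (Steps.bwd (nat_lit 1) (Steps.bwd (nat_lit 14) (Steps.bwd (nat_lit 7) (Steps.fwd (nat_lit 32768) (Steps.bwd (nat_lit 1) Steps.nil))))) (nat_lit 157) (nat_lit 5),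
  Rule.mk (nat_lit 11) (nat_lit 104) (Steps.bwd (nat_lit 1) (Steps.bwd (nat_lit 6) (Steps.bwd (nat_lit 11) (Steps.bwd (nat_lit 12) (Steps.bwd (nat_lit 14) (Steps.fwd (nat_lit 8192) Steps.nil)))))) (nat_lit 160) (nat_lit 2),
  Rule.mk (nat_lit 16) (nat_lit 179) (Steps.bwd (nat_lit 1) (Steps.fwd (nat_lit 16384) (Steps.fwd (nat_lit 8192) (Steps.bwd (nat_lit 3) (Steps.fwd (nat_lit 8192) (Steps.bwd (nat_lit 3) (Steps.bwd (nat_lit 1) (Steps.fwd (nat_lit 24576) (Steps.fwd (nat_lit 32768) (Steps.fwd (nat_lit 8192) (Steps.fwd (nat_lit 24576) Steps.nil))))))))))) (nat_lit 190) (nat_lit 1),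
  Rule.mk (nat_lit 3) (nat_lit 164) (Steps.fwd (nat_lit 32768) (Steps.bwd (nat_lit 5) (Steps.bwd (nat_lit 8) (Steps.fwd (nat_lit 73728) (Steps.bwd (nat_lit 10) (Steps.fwd (nat_lit 90112) (Steps.bwd (nat_lit 12) (Steps.fwd (nat_lit 114688) (Steps.fwd (nat_lit 24576) (Steps.bwd (nat_lit 11) Steps.nil)))))))))) (nat_lit 182) (nat_lit 3),
  Rule.mk (nat_lit 15) (nat_lit 179) (Steps.bwd (nat_lit 3) (Steps.fwd (nat_lit 8192) (Steps.bwd (nat_lit 4) (Steps.bwd (nat_lit 3) (Steps.bwd (nat_lit 1) (Steps.bwd (nat_lit 2) (Steps.fwd (nat_lit 8192) (Steps.fwd (nat_lit 24576) (Steps.bwd (nat_lit 1) (Steps.fwd (nat_lit 24576) (Steps.fwd (nat_lit 8192) Steps.nil))))))))))) (nat_lit 191) (nat_lit 0),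
  Rule.mk (nat_lit 2) (nat_lit 104) (Steps.bwd (nat_lit 10) (Steps.fwd (nat_lit 16384) (Steps.fwd (nat_lit 49152) (Steps.fwd (nat_lit 90112) (Steps.fwd (nat_lit 98304) (Steps.bwd (nat_lit 14) Steps.nil)))))) (nat_lit 180) (nat_lit 1),
  Rule.mk (nat_lit 1) (nat_lit 134) (Steps.bwd (nat_lit 10) (Steps.fwd (nat_lit 8192) (Steps.bwd (nat_lit 14) (Steps.fwd (nat_lit 90112) (Steps.fwd (nat_lit 73728) (Steps.fwd (nat_lit 65536) (Steps.fwd (nat_lit 40960) (Steps.fwd (nat_lit 32768) Steps.nil)))))))) (nat_lit 159) (nat_lit 7),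
  Rule.mk (nat_lit 16) (nat_lit 179) (Steps.fwd (nat_lit 8192) (Steps.bwd (nat_lit 3) (Steps.bwd (nat_lit 1) (Steps.fwd (nat_lit 16384) (Steps.bwd (nat_lit 1) (Steps.bwd (nat_lit 3) (Steps.fwd (nat_lit 8192) (Steps.fwd (nat_lit 24576) (Steps.bwd (nat_lit 4) (Steps.fwd (nat_lit 8192) (Steps.fwd (nat_lit 24576) Steps.nil))))))))))) (nat_lit 190) (nat_lit 1),
  Rule.mk (nat_lit 2) (nat_lit 164) (Steps.bwd (nat_lit 11) (Steps.fwd (nat_lit 16384) (Steps.bwd (nat_lit 4) (Steps.fwd (nat_lit 40960) (Steps.fwd (nat_lit 65536) (Steps.fwd (nat_lit 73728) (Steps.fwd (nat_lit 81920) (Steps.bwd (nat_lit 11) (Steps.bwd (nat_lit 12) (Steps.bwd (nat_lit 14) Steps.nil)))))))))) (nat_lit 182) (nat_lit 1),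
  Rule.mk (nat_lit 7) (nat_lit 104) (Steps.bwd (nat_lit 3) (Steps.fwd (nat_lit 40960) (Steps.bwd (nat_lit 7) (Steps.fwd (nat_lit 106496) (Steps.bwd (nat_lit 14) (Steps.bwd (nat_lit 2) Steps.nil)))))) (nat_lit 174) (nat_lit 2),
  Rule.mk (nat_lit 0) (nat_lit 74) (Steps.fwd (nat_lit 57344) (Steps.fwd (nat_lit 73728) (Steps.bwd (nat_lit 7) (Steps.bwd (nat_lit 9) Steps.nil)))) (nat_lit 62) (nat_lit 1)]
noncomputable def R_31 : List (Rule) := [Rule.mk (nat_lit 0) (nat_lit 194) (Steps.bwd (nat_lit 15) (Steps.bwd (nat_lit 3) (Steps.fwd (nat_lit 8192) (Steps.bwd (nat_lit 4) (Steps.bwd (nat_lit 3) (Steps.fwd (nat_lit 8192) (Steps.fwd (nat_lit 24576) (Steps.bwd (nat_lit 1) (Steps.bwd (nat_lit 2) (Steps.fwd (nat_lit 8192) (Steps.fwd (nat_lit 24576) (Steps.fwd (nat_lit 8192) Steps.nil)))))))))))) (nat_lit 191) (nat_lit 11),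
  Rule.mk (nat_lit 0) (nat_lit 194) (Steps.bwd (nat_lit 18) (Steps.fwd (nat_lit 8192) (Steps.fwd (nat_lit 16384) (Steps.fwd (nat_lit 32768) (Steps.fwd (nat_lit 8192) (Steps.fwd (nat_lit 24576) (Steps.bwd (nat_lit 1) (Steps.bwd (nat_lit 2) (Steps.fwd (nat_lit 8192) (Steps.bwd (nat_lit 3) (Steps.bwd (nat_lit 1) (Steps.bwd (nat_lit 3) Steps.nil)))))))))))) (nat_lit 192) (nat_lit 0),
  Rule.mk (nat_lit 20) (nat_lit 179) (Steps.fwd (nat_lit 8192) (Steps.fwd (nat_lit 24576) (Steps.fwd (nat_lit 8192) (Steps.fwd (nat_lit 24576) (Steps.bwd (nat_lit 1) (Steps.fwd (nat_lit 16384) (Steps.fwd (nat_lit 8192) (Steps.bwd (nat_lit 3) (Steps.bwd (nat_lit 1) (Steps.bwd (nat_lit 4) (Steps.bwd (nat_lit 2) Steps.nil))))))))))) (nat_lit 194) (nat_lit 1),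
  Rule.mk (nat_lit 0) (nat_lit 194) (Steps.bwd (nat_lit 20) (Steps.fwd (nat_lit 8192) (Steps.fwd (nat_lit 24576) (Steps.bwd (nat_lit 1) (Steps.bwd (nat_lit 2) (Steps.fwd (nat_lit 8192) (Steps.bwd (nat_lit 3) (Steps.bwd (nat_lit 1) (Steps.bwd (nat_lit 3) (Steps.bwd (nat_lit 1) (Steps.fwd (nat_lit 32768) (Steps.fwd (nat_lit 24576) Steps.nil)))))))))))) (nat_lit 194) (nat_lit 0),
  Rule.mk (nat_lit 14) (nat_lit 59) (Steps.bwd (nat_lit 7) (Steps.bwd (nat_lit 14) (Steps.bwd (nat_lit 7) Steps.nil))) (nat_lit 132) (nat_lit 1),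
  Rule.mk (nat_lit 2) (nat_lit 104) (Steps.bwd (nat_lit 7) (Steps.bwd (nat_lit 3) (Steps.fwd (nat_lit 40960) (Steps.fwd (nat_lit 57344) (Steps.bwd (nat_lit 13) (Steps.bwd (nat_lit 14) Steps.nil)))))) (nat_lit 174) (nat_lit 1),
  Rule.mk (nat_lit 1) (nat_lit 104) (Steps.bwd (nat_lit 11) (Steps.bwd (nat_lit 1) (Steps.bwd (nat_lit 6) (Steps.bwd (nat_lit 11) (Steps.bwd (nat_lit 12) (Steps.fwd (nat_lit 114688) Steps.nil)))))) (nat_lit 160) (nat_lit 1),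
  Rule.mk (nat_lit 3) (nat_lit 104) (Steps.bwd (nat_lit 5) (Steps.fwd (nat_lit 57344) (Steps.bwd (nat_lit 13) (Steps.bwd (nat_lit 14) (Steps.bwd (nat_lit 2) (Steps.bwd (nat_lit 7) Steps.nil)))))) (nat_lit 174) (nat_lit 3),
  Rule.mk (nat_lit 2) (nat_lit 149) (Steps.bwd (nat_lit 5) (Steps.fwd (nat_lit 16384) (Steps.bwd (nat_lit 4) (Steps.fwd (nat_lit 40960) (Steps.bwd (nat_lit 8) (Steps.bwd (nat_lit 9) (Steps.bwd (nat_lit 12) (Steps.bwd (nat_lit 13) (Steps.bwd (nat_lit 14) Steps.nil))))))))) (nat_lit 170) (nat_lit 1),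
  Rule.mk (nat_lit 1) (nat_lit 179) (Steps.bwd (nat_lit 15) (Steps.bwd (nat_lit 3) (Steps.bwd (nat_lit 1) (Steps.bwd (nat_lit 4) (Steps.bwd (nat_lit 3) (Steps.bwd (nat_lit 1) (Steps.bwd (nat_lit 2) (Steps.bwd (nat_lit 1) (Steps.fwd (nat_lit 24576) (Steps.bwd (nat_lit 1) (Steps.bwd (nat_lit 2) Steps.nil))))))))))) (nat_lit 191) (nat_lit 11),
  Rule.mk (nat_lit 9) (nat_lit 89) (Steps.bwd (nat_lit 1) (Steps.fwd (nat_lit 32768) (Steps.bwd (nat_lit 7) (Steps.fwd (nat_lit 114688) (Steps.bwd (nat_lit 1) Steps.nil))))) (nat_lit 156) (nat_lit 2),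
  Rule.mk (nat_lit 8) (nat_lit 104) (Steps.bwd (nat_lit 1) (Steps.bwd (nat_lit 14) (Steps.bwd (nat_lit 13) (Steps.bwd (nat_lit 7) (Steps.fwd (nat_lit 40960) (Steps.bwd (nat_lit 1) Steps.nil)))))) (nat_lit 155) (nat_lit 6),
  Rule.mk (nat_lit 10) (nat_lit 134) (Steps.bwd (nat_lit 1) (Steps.fwd (nat_lit 32768) (Steps.fwd (nat_lit 40960) (Steps.fwd (nat_lit 65536) (Steps.fwd (nat_lit 73728) (Steps.fwd (nat_lit 90112) (Steps.fwd (nat_lit 114688) (Steps.bwd (nat_lit 1) Steps.nil)))))))) (nat_lit 158) (nat_lit 2),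
  Rule.mk (nat_lit 7) (nat_lit 164) (Steps.fwd (nat_lit 8192) (Steps.fwd (nat_lit 40960) (Steps.bwd (nat_lit 6) (Steps.fwd (nat_lit 73728) (Steps.fwd (nat_lit 81920) (Steps.fwd (nat_lit 90112) (Steps.bwd (nat_lit 12) (Steps.fwd (nat_lit 106496) (Steps.fwd (nat_lit 114688) (Steps.bwd (nat_lit 1) Steps.nil)))))))))) (nat_lit 152) (nat_lit 2),
  Rule.mk (nat_lit 12) (nat_lit 164) (Steps.bwd (nat_lit 1) (Steps.bwd (nat_lit 14) (Steps.bwd (nat_lit 12) (Steps.bwd (nat_lit 11) (Steps.bwd (nat_lit 10) (Steps.fwd (nat_lit 73728) (Steps.fwd (nat_lit 65536) (Steps.bwd (nat_lit 5) (Steps.bwd (nat_lit 4) (Steps.bwd (nat_lit 1) Steps.nil)))))))))) (nat_lit 163) (nat_lit 10),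
  Rule.mk (nat_lit 0) (nat_lit 194) (Steps.bwd (nat_lit 16) (Steps.bwd (nat_lit 1) (Steps.fwd (nat_lit 16384) (Steps.fwd (nat_lit 8192) (Steps.fwd (nat_lit 16384) (Steps.bwd (nat_lit 1) (Steps.bwd (nat_lit 3) (Steps.fwd (nat_lit 8192) (Steps.bwd (nat_lit 2) (Steps.fwd (nat_lit 32768) (Steps.fwd (nat_lit 8192) (Steps.bwd (nat_lit 2) Steps.nil)))))))))))) (nat_lit 190) (nat_lit 0),
  Rule.mk (nat_lit 0) (nat_lit 194) (Steps.bwd (nat_lit 16) (Steps.fwd (nat_lit 8192) (Steps.fwd (nat_lit 16384) (Steps.bwd (nat_lit 1) (Steps.bwd (nat_lit 3) (Steps.fwd (nat_lit 8192) (Steps.fwd (nat_lit 16384) (Steps.fwd (nat_lit 8192) (Steps.bwd (nat_lit 2) (Steps.bwd (nat_lit 4) (Steps.bwd (nat_lit 1) (Steps.fwd (nat_lit 24576) Steps.nil)))))))))))) (nat_lit 190) (nat_lit 0),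
  Rule.mk (nat_lit 19) (nat_lit 179) (Steps.bwd (nat_lit 3) (Steps.fwd (nat_lit 32768) (Steps.fwd (nat_lit 8192) (Steps.fwd (nat_lit 24576) (Steps.bwd (nat_lit 1) (Steps.fwd (nat_lit 24576) (Steps.bwd (nat_lit 1) (Steps.fwd (nat_lit 16384) (Steps.fwd (nat_lit 8192) (Steps.fwd (nat_lit 16384) (Steps.bwd (nat_lit 1) Steps.nil))))))))))) (nat_lit 195) (nat_lit 0),
  Rule.mk (nat_lit 1) (nat_lit 104) (Steps.bwd (nat_lit 11) (Steps.fwd (nat_lit 8192) (Steps.fwd (nat_lit 114688) (Steps.fwd (nat_lit 98304) (Steps.fwd (nat_lit 90112) (Steps.fwd (nat_lit 49152) Steps.nil)))))) (nat_lit 161) (nat_lit 5),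
  Rule.mk (nat_lit 3) (nat_lit 179) (Steps.bwd (nat_lit 1) (Steps.fwd (nat_lit 32768) (Steps.bwd (nat_lit 3) (Steps.fwd (nat_lit 8192) (Steps.bwd (nat_lit 2) (Steps.fwd (nat_lit 8192) (Steps.bwd (nat_lit 2) (Steps.bwd (nat_lit 1) (Steps.bwd (nat_lit 2) (Steps.bwd (nat_lit 1) (Steps.fwd (nat_lit 131072) Steps.nil))))))))))) (nat_lit 191) (nat_lit 1),
  Rule.mk (nat_lit 18) (nat_lit 179) (Steps.bwd (nat_lit 1) (Steps.bwd (nat_lit 3) (Steps.fwd (nat_lit 32768) (Steps.fwd (nat_lit 8192) (Steps.bwd (nat_lit 2) (Steps.fwd (nat_lit 8192) (Steps.bwd (nat_lit 2) (Steps.bwd (nat_lit 1) (Steps.fwd (nat_lit 16384) (Steps.bwd (nat_lit 1) (Steps.fwd (nat_lit 16384) Steps.nil))))))))))) (nat_lit 192) (nat_lit 1),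
  Rule.mk (nat_lit 17) (nat_lit 179) (Steps.bwd (nat_lit 2) (Steps.bwd (nat_lit 1) (Steps.fwd (nat_lit 24576) (Steps.fwd (nat_lit 8192) (Steps.fwd (nat_lit 16384) (Steps.bwd (nat_lit 1) (Steps.bwd (nat_lit 3) (Steps.fwd (nat_lit 8192) (Steps.fwd (nat_lit 32768) (Steps.fwd (nat_lit 24576) (Steps.fwd (nat_lit 8192) Steps.nil))))))))))) (nat_lit 193) (nat_lit 0),
  Rule.mk (nat_lit 1) (nat_lit 179) (Steps.bwd (nat_lit 2) (Steps.bwd (nat_lit 1) (Steps.fwd (nat_lit 24576) (Steps.fwd (nat_lit 8192) (Steps.fwd (nat_lit 16384) (Steps.bwd (nat_lit 1) (Steps.bwd (nat_lit 3) (Steps.fwd (nat_lit 8192) (Steps.fwd (nat_lit 32768) (Steps.fwd (nat_lit 24576) (Steps.fwd (nat_lit 155648) Steps.nil))))))))))) (nat_lit 194) (nat_lit 2),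
  Rule.mk (nat_lit 8) (nat_lit 104) (Steps.bwd (nat_lit 1) (Steps.fwd (nat_lit 40960) (Steps.fwd (nat_lit 57344) (Steps.bwd (nat_lit 13) (Steps.fwd (nat_lit 114688) (Steps.fwd (nat_lit 8192) Steps.nil)))))) (nat_lit 154) (nat_lit 2),
  Rule.mk (nat_lit 18) (nat_lit 179) (Steps.fwd (nat_lit 8192) (Steps.bwd (nat_lit 3) (Steps.bwd (nat_lit 4) (Steps.bwd (nat_lit 1) (Steps.bwd (nat_lit 2) (Steps.bwd (nat_lit 1) (Steps.fwd (nat_lit 24576) (Steps.fwd (nat_lit 8192) (Steps.fwd (nat_lit 16384) (Steps.bwd (nat_lit 1) (Steps.bwd (nat_lit 3) Steps.nil))))))))))) (nat_lit 192) (nat_lit 1),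
  Rule.mk (nat_lit 19) (nat_lit 179) (Steps.bwd (nat_lit 3) (Steps.bwd (nat_lit 4) (Steps.bwd (nat_lit 1) (Steps.bwd (nat_lit 2) (Steps.bwd (nat_lit 1) (Steps.fwd (nat_lit 24576) (Steps.fwd (nat_lit 8192) (Steps.fwd (nat_lit 16384) (Steps.bwd (nat_lit 1) (Steps.bwd (nat_lit 3) (Steps.fwd (nat_lit 8192) Steps.nil))))))))))) (nat_lit 195) (nat_lit 0),
  Rule.mk (nat_lit 0) (nat_lit 194) (Steps.bwd (nat_lit 16) (Steps.bwd (nat_lit 1) (Steps.bwd (nat_lit 3) (Steps.fwd (nat_lit 8192) (Steps.fwd (nat_lit 16384) (Steps.fwd (nat_lit 8192) (Steps.bwd (nat_lit 3) (Steps.fwd (nat_lit 8192) (Steps.bwd (nat_lit 2) (Steps.bwd (nat_lit 4) (Steps.fwd (nat_lit 8192) (Steps.fwd (nat_lit 24576) Steps.nil)))))))))))) (nat_lit 190) (nat_lit 0),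
  Rule.mk (nat_lit 18) (nat_lit 179) (Steps.bwd (nat_lit 1) (Steps.bwd (nat_lit 3) (Steps.fwd (nat_lit 32768) (Steps.bwd (nat_lit 1) (Steps.fwd (nat_lit 24576) (Steps.bwd (nat_lit 1) (Steps.fwd (nat_lit 24576) (Steps.fwd (nat_lit 8192) (Steps.fwd (nat_lit 16384) (Steps.fwd (nat_lit 8192) (Steps.bwd (nat_lit 3) Steps.nil))))))))))) (nat_lit 192) (nat_lit 1),
  Rule.mk (nat_lit 17) (nat_lit 179) (Steps.fwd (nat_lit 24576) (Steps.bwd (nat_lit 1) (Steps.fwd (nat_lit 24576) (Steps.fwd (nat_lit 8192) (Steps.fwd (nat_lit 16384) (Steps.fwd (nat_lit 8192) (Steps.bwd (nat_lit 3) (Steps.fwd (nat_lit 8192) (Steps.bwd (nat_lit 4) (Steps.bwd (nat_lit 2) (Steps.fwd (nat_lit 8192) Steps.nil))))))))))) (nat_lit 193) (nat_lit 0),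
  Rule.mk (nat_lit 20) (nat_lit 179) (Steps.bwd (nat_lit 1) (Steps.fwd (nat_lit 24576) (Steps.bwd (nat_lit 1) (Steps.fwd (nat_lit 24576) (Steps.fwd (nat_lit 8192) (Steps.fwd (nat_lit 16384) (Steps.fwd (nat_lit 8192) (Steps.bwd (nat_lit 3) (Steps.fwd (nat_lit 8192) (Steps.bwd (nat_lit 4) (Steps.bwd (nat_lit 2) Steps.nil))))))))))) (nat_lit 194) (nat_lit 1),
  Rule.mk (nat_lit 19) (nat_lit 179) (Steps.bwd (nat_lit 3) (Steps.fwd (nat_lit 32768) (Steps.bwd (nat_lit 1) (Steps.fwd (nat_lit 24576) (Steps.bwd (nat_lit 1) (Steps.fwd (nat_lit 24576) (Steps.fwd (nat_lit 8192) (Steps.fwd (nat_lit 16384) (Steps.fwd (nat_lit 8192) (Steps.bwd (nat_lit 3) (Steps.fwd (nat_lit 8192) Steps.nil))))))))))) (nat_lit 195) (nat_lit 0),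
  Rule.mk (nat_lit 15) (nat_lit 179) (Steps.fwd (nat_lit 16384) (Steps.fwd (nat_lit 8192) (Steps.fwd (nat_lit 32768) (Steps.bwd (nat_lit 3) (Steps.bwd (nat_lit 1) (Steps.bwd (nat_lit 2) (Steps.bwd (nat_lit 1) (Steps.fwd (nat_lit 24576) (Steps.fwd (nat_lit 8192) (Steps.bwd (nat_lit 2) (Steps.bwd (nat_lit 1) Steps.nil))))))))))) (nat_lit 191) (nat_lit 0),
  Rule.mk (nat_lit 7) (nat_lit 164) (Steps.bwd (nat_lit 1) (Steps.bwd (nat_lit 5) (Steps.fwd (nat_lit 49152) (Steps.bwd (nat_lit 9) (Steps.bwd (nat_lit 10) (Steps.bwd (nat_lit 11) (Steps.bwd (nat_lit 12) (Steps.fwd (nat_lit 106496) (Steps.bwd (nat_lit 14) (Steps.fwd (nat_lit 8192) Steps.nil)))))))))) (nat_lit 152) (nat_lit 2),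
  Rule.mk (nat_lit 15) (nat_lit 179) (Steps.fwd (nat_lit 16384) (Steps.bwd (nat_lit 1) (Steps.fwd (nat_lit 32768) (Steps.bwd (nat_lit 3) (Steps.bwd (nat_lit 1) (Steps.fwd (nat_lit 24576) (Steps.bwd (nat_lit 1) (Steps.fwd (nat_lit 24576) (Steps.fwd (nat_lit 8192) (Steps.fwd (nat_lit 24576) (Steps.bwd (nat_lit 1) Steps.nil))))))))))) (nat_lit 191) (nat_lit 0),
  Rule.mk (nat_lit 3) (nat_lit 179) (Steps.bwd (nat_lit 1) (Steps.bwd (nat_lit 4) (Steps.fwd (nat_lit 16384) (Steps.bwd (nat_lit 1) (Steps.fwd (nat_lit 24576) (Steps.fwd (nat_lit 8192) (Steps.fwd (nat_lit 24576) (Steps.bwd (nat_lit 1) (Steps.bwd (nat_lit 2) (Steps.bwd (nat_lit 1) (Steps.fwd (nat_lit 131072) Steps.nil))))))))))) (nat_lit 191) (nat_lit 1),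
  Rule.mk (nat_lit 15) (nat_lit 179) (Steps.bwd (nat_lit 3) (Steps.fwd (nat_lit 8192) (Steps.bwd (nat_lit 4) (Steps.bwd (nat_lit 3) (Steps.fwd (nat_lit 8192) (Steps.fwd (nat_lit 24576) (Steps.bwd (nat_lit 1) (Steps.bwd (nat_lit 2) (Steps.bwd (nat_lit 1) (Steps.bwd (nat_lit 2) (Steps.bwd (nat_lit 1) Steps.nil))))))))))) (nat_lit 191) (nat_lit 0),
  Rule.mk (nat_lit 3) (nat_lit 179) (Steps.bwd (nat_lit 18) (Steps.fwd (nat_lit 8192) (Steps.bwd (nat_lit 3) (Steps.bwd (nat_lit 4) (Steps.fwd (nat_lit 8192) (Steps.fwd (nat_lit 24576) (Steps.bwd (nat_lit 1) (Steps.bwd (nat_lit 2) (Steps.bwd (nat_lit 1) (Steps.bwd (nat_lit 3) (Steps.bwd (nat_lit 1) Steps.nil))))))))))) (nat_lit 192) (nat_lit 0),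
  Rule.mk (nat_lit 1) (nat_lit 179) (Steps.bwd (nat_lit 19) (Steps.bwd (nat_lit 3) (Steps.bwd (nat_lit 4) (Steps.fwd (nat_lit 8192) (Steps.fwd (nat_lit 24576) (Steps.bwd (nat_lit 1) (Steps.bwd (nat_lit 2) (Steps.bwd (nat_lit 1) (Steps.bwd (nat_lit 3) (Steps.bwd (nat_lit 1) (Steps.bwd (nat_lit 3) Steps.nil))))))))))) (nat_lit 195) (nat_lit 11),
  Rule.mk (nat_lit 9) (nat_lit 134) (Steps.bwd (nat_lit 3) (Steps.bwd (nat_lit 14) (Steps.bwd (nat_lit 11) (Steps.fwd (nat_lit 73728) (Steps.fwd (nat_lit 65536) (Steps.fwd (nat_lit 40960) (Steps.bwd (nat_lit 4) (Steps.fwd (nat_lit 24576) Steps.nil)))))))) (nat_lit 179) (nat_lit 8),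
  Rule.mk (nat_lit 1) (nat_lit 134) (Steps.bwd (nat_lit 10) (Steps.fwd (nat_lit 8192) (Steps.bwd (nat_lit 4) (Steps.fwd (nat_lit 40960) (Steps.bwd (nat_lit 8) (Steps.bwd (nat_lit 9) (Steps.fwd (nat_lit 90112) (Steps.bwd (nat_lit 14) Steps.nil)))))))) (nat_lit 158) (nat_lit 1),
  Rule.mk (nat_lit 1) (nat_lit 104) (Steps.fwd (nat_lit 65536) (Steps.bwd (nat_lit 1) (Steps.bwd (nat_lit 5) (Steps.bwd (nat_lit 7) (Steps.fwd (nat_lit 106496) (Steps.bwd (nat_lit 14) Steps.nil)))))) (nat_lit 154) (nat_lit 1),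
  Rule.mk (nat_lit 15) (nat_lit 179) (Steps.fwd (nat_lit 16384) (Steps.bwd (nat_lit 1) (Steps.bwd (nat_lit 4) (Steps.bwd (nat_lit 3) (Steps.bwd (nat_lit 1) (Steps.bwd (nat_lit 2) (Steps.bwd (nat_lit 1) (Steps.bwd (nat_lit 2) (Steps.bwd (nat_lit 1) (Steps.fwd (nat_lit 24576) (Steps.bwd (nat_lit 1) Steps.nil))))))))))) (nat_lit 191) (nat_lit 0),
  Rule.mk (nat_lit 13) (nat_lit 104) (Steps.bwd (nat_lit 1) (Steps.bwd (nat_lit 4) (Steps.fwd (nat_lit 40960) (Steps.fwd (nat_lit 65536) (Steps.bwd (nat_lit 9) (Steps.bwd (nat_lit 1) Steps.nil)))))) (nat_lit 164) (nat_lit 2),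
  Rule.mk (nat_lit 14) (nat_lit 119) (Steps.bwd (nat_lit 3) (Steps.bwd (nat_lit 5) (Steps.fwd (nat_lit 49152) (Steps.fwd (nat_lit 57344) (Steps.bwd (nat_lit 12) (Steps.bwd (nat_lit 14) (Steps.fwd (nat_lit 24576) Steps.nil))))))) (nat_lit 188) (nat_lit 2),
  Rule.mk (nat_lit 5) (nat_lit 149) (Steps.bwd (nat_lit 3) (Steps.bwd (nat_lit 4) (Steps.fwd (nat_lit 40960) (Steps.fwd (nat_lit 65536) (Steps.bwd (nat_lit 9) (Steps.bwd (nat_lit 12) (Steps.bwd (nat_lit 13) (Steps.fwd (nat_lit 114688) (Steps.fwd (nat_lit 24576) Steps.nil))))))))) (nat_lit 170) (nat_lit 2),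
  Rule.mk (nat_lit 2) (nat_lit 104) (Steps.bwd (nat_lit 10) (Steps.bwd (nat_lit 3) (Steps.bwd (nat_lit 6) (Steps.bwd (nat_lit 11) (Steps.bwd (nat_lit 12) (Steps.fwd (nat_lit 114688) Steps.nil)))))) (nat_lit 180) (nat_lit 1),
  Rule.mk (nat_lit 1) (nat_lit 179) (Steps.fwd (nat_lit 16384) (Steps.bwd (nat_lit 1) (Steps.fwd (nat_lit 16384) (Steps.fwd (nat_lit 8192) (Steps.fwd (nat_lit 16384) (Steps.bwd (nat_lit 1) (Steps.bwd (nat_lit 2) (Steps.fwd (nat_lit 32768) (Steps.bwd (nat_lit 1) (Steps.fwd (nat_lit 24576) (Steps.fwd (nat_lit 122880) Steps.nil))))))))))) (nat_lit 190) (nat_lit 2),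
  Rule.mk (nat_lit 14) (nat_lit 89) (Steps.bwd (nat_lit 1) (Steps.bwd (nat_lit 9) (Steps.fwd (nat_lit 8192) (Steps.fwd (nat_lit 32768) (Steps.fwd (nat_lit 57344) Steps.nil))))) (nat_lit 156) (nat_lit 0),
  Rule.mk (nat_lit 8) (nat_lit 104) (Steps.bwd (nat_lit 1) (Steps.fwd (nat_lit 114688) (Steps.fwd (nat_lit 106496) (Steps.bwd (nat_lit 7) (Steps.fwd (nat_lit 40960) (Steps.bwd (nat_lit 1) Steps.nil)))))) (nat_lit 155) (nat_lit 6),
  Rule.mk (nat_lit 7) (nat_lit 164) (Steps.bwd (nat_lit 1) (Steps.fwd (nat_lit 114688) (Steps.fwd (nat_lit 106496) (Steps.bwd (nat_lit 12) (Steps.bwd (nat_lit 11) (Steps.fwd (nat_lit 81920) (Steps.fwd (nat_lit 73728) (Steps.bwd (nat_lit 6) (Steps.fwd (nat_lit 40960) (Steps.fwd (nat_lit 8192) Steps.nil)))))))))) (nat_lit 153) (nat_lit 10),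
  Rule.mk (nat_lit 12) (nat_lit 164) (Steps.bwd (nat_lit 1) (Steps.fwd (nat_lit 32768) (Steps.bwd (nat_lit 5) (Steps.bwd (nat_lit 8) (Steps.bwd (nat_lit 9) (Steps.bwd (nat_lit 10) (Steps.bwd (nat_lit 11) (Steps.bwd (nat_lit 12) (Steps.bwd (nat_lit 14) (Steps.fwd (nat_lit 8192) Steps.nil)))))))))) (nat_lit 162) (nat_lit 2),
  Rule.mk (nat_lit 3) (nat_lit 104) (Steps.bwd (nat_lit 4) (Steps.bwd (nat_lit 5) (Steps.fwd (nat_lit 65536) (Steps.fwd (nat_lit 73728) (Steps.fwd (nat_lit 24576) (Steps.bwd (nat_lit 12) Steps.nil)))))) (nat_lit 184) (nat_lit 3),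
  Rule.mk (nat_lit 0) (nat_lit 194) (Steps.bwd (nat_lit 17) (Steps.bwd (nat_lit 2) (Steps.bwd (nat_lit 1) (Steps.bwd (nat_lit 2) (Steps.bwd (nat_lit 1) (Steps.fwd (nat_lit 16384) (Steps.bwd (nat_lit 1) (Steps.bwd (nat_lit 3) (Steps.fwd (nat_lit 8192) (Steps.fwd (nat_lit 32768) (Steps.fwd (nat_lit 24576) (Steps.bwd (nat_lit 1) Steps.nil)))))))))))) (nat_lit 193) (nat_lit 11),
  Rule.mk (nat_lit 19) (nat_lit 179) (Steps.bwd (nat_lit 3) (Steps.bwd (nat_lit 4) (Steps.bwd (nat_lit 1) (Steps.fwd (nat_lit 24576) (Steps.fwd (nat_lit 8192) (Steps.bwd (nat_lit 2) (Steps.fwd (nat_lit 8192) (Steps.fwd (nat_lit 16384) (Steps.fwd (nat_lit 8192) (Steps.fwd (nat_lit 16384) (Steps.bwd (nat_lit 1) Steps.nil))))))))))) (nat_lit 195) (nat_lit 0),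
  Rule.mk (nat_lit 17) (nat_lit 179) (Steps.bwd (nat_lit 2) (Steps.bwd (nat_lit 1) (Steps.fwd (nat_lit 24576) (Steps.fwd (nat_lit 8192) (Steps.fwd (nat_lit 16384) (Steps.bwd (nat_lit 1) (Steps.fwd (nat_lit 16384) (Steps.fwd (nat_lit 8192) (Steps.fwd (nat_lit 32768) (Steps.fwd (nat_lit 24576) (Steps.fwd (nat_lit 8192) Steps.nil))))))))))) (nat_lit 193) (nat_lit 0),
  Rule.mk (nat_lit 13) (nat_lit 104) (Steps.bwd (nat_lit 1) (Steps.fwd (nat_lit 32768) (Steps.bwd (nat_lit 5) (Steps.bwd (nat_lit 8) (Steps.bwd (nat_lit 9) (Steps.fwd (nat_lit 8192) Steps.nil)))))) (nat_lit 164) (nat_lit 2),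
  Rule.mk (nat_lit 20) (nat_lit 179) (Steps.bwd (nat_lit 1) (Steps.bwd (nat_lit 2) (Steps.fwd (nat_lit 8192) (Steps.bwd (nat_lit 2) (Steps.bwd (nat_lit 1) (Steps.bwd (nat_lit 3) (Steps.fwd (nat_lit 8192) (Steps.fwd (nat_lit 16384) (Steps.bwd (nat_lit 1) (Steps.fwd (nat_lit 32768) (Steps.bwd (nat_lit 2) Steps.nil))))))))))) (nat_lit 194) (nat_lit 1),
  Rule.mk (nat_lit 19) (nat_lit 179) (Steps.bwd (nat_lit 3) (Steps.bwd (nat_lit 4) (Steps.bwd (nat_lit 1) (Steps.bwd (nat_lit 2) (Steps.fwd (nat_lit 8192) (Steps.bwd (nat_lit 2) (Steps.bwd (nat_lit 1) (Steps.bwd (nat_lit 3) (Steps.fwd (nat_lit 8192) (Steps.fwd (nat_lit 16384) (Steps.bwd (nat_lit 1) Steps.nil))))))))))) (nat_lit 195) (nat_lit 0),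
  Rule.mk (nat_lit 2) (nat_lit 164) (Steps.bwd (nat_lit 11) (Steps.fwd (nat_lit 16384) (Steps.fwd (nat_lit 32768) (Steps.bwd (nat_lit 5) (Steps.fwd (nat_lit 65536) (Steps.bwd (nat_lit 9) (Steps.fwd (nat_lit 81920) (Steps.bwd (nat_lit 11) (Steps.bwd (nat_lit 12) (Steps.fwd (nat_lit 114688) Steps.nil)))))))))) (nat_lit 182) (nat_lit 1),
  Rule.mk (nat_lit 1) (nat_lit 104) (Steps.bwd (nat_lit 11) (Steps.fwd (nat_lit 8192) (Steps.bwd (nat_lit 14) (Steps.fwd (nat_lit 98304) (Steps.fwd (nat_lit 90112) (Steps.bwd (nat_lit 6) Steps.nil)))))) (nat_lit 161) (nat_lit 5),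
  Rule.mk (nat_lit 17) (nat_lit 179) (Steps.bwd (nat_lit 2) (Steps.bwd (nat_lit 1) (Steps.bwd (nat_lit 2) (Steps.bwd (nat_lit 1) (Steps.bwd (nat_lit 3) (Steps.bwd (nat_lit 1) (Steps.bwd (nat_lit 3) (Steps.bwd (nat_lit 1) (Steps.bwd (nat_lit 4) (Steps.bwd (nat_lit 2) (Steps.bwd (nat_lit 1) Steps.nil))))))))))) (nat_lit 193) (nat_lit 0),
  Rule.mk (nat_lit 0) (nat_lit 194) (Steps.bwd (nat_lit 16) (Steps.bwd (nat_lit 1) (Steps.bwd (nat_lit 3) (Steps.bwd (nat_lit 1) (Steps.fwd (nat_lit 16384) (Steps.fwd (nat_lit 8192) (Steps.bwd (nat_lit 3) (Steps.bwd (nat_lit 1) (Steps.bwd (nat_lit 2) (Steps.bwd (nat_lit 4) (Steps.bwd (nat_lit 1) (Steps.bwd (nat_lit 2) Steps.nil)))))))))))) (nat_lit 190) (nat_lit 0),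
  Rule.mk (nat_lit 18) (nat_lit 179) (Steps.fwd (nat_lit 8192) (Steps.fwd (nat_lit 16384) (Steps.bwd (nat_lit 4) (Steps.bwd (nat_lit 1) (Steps.bwd (nat_lit 2) (Steps.bwd (nat_lit 1) (Steps.bwd (nat_lit 2) (Steps.fwd (nat_lit 8192) (Steps.bwd (nat_lit 3) (Steps.bwd (nat_lit 1) (Steps.bwd (nat_lit 3) Steps.nil))))))))))) (nat_lit 192) (nat_lit 1),
  Rule.mk (nat_lit 16) (nat_lit 179) (Steps.bwd (nat_lit 1) (Steps.fwd (nat_lit 16384) (Steps.fwd (nat_lit 8192) (Steps.fwd (nat_lit 16384) (Steps.fwd (nat_lit 8192) (Steps.fwd (nat_lit 16384) (Steps.bwd (nat_lit 1) (Steps.bwd (nat_lit 2) (Steps.fwd (nat_lit 32768) (Steps.fwd (nat_lit 8192) (Steps.fwd (nat_lit 24576) Steps.nil))))))))))) (nat_lit 190) (nat_lit 1)]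
noncomputable def R_32 : List (Rule) := [Rule.mk (nat_lit 15) (nat_lit 179) (Steps.fwd (nat_lit 16384) (Steps.bwd (nat_lit 1) (Steps.bwd (nat_lit 4) (Steps.bwd (nat_lit 3) (Steps.bwd (nat_lit 1) (Steps.bwd (nat_lit 2) (Steps.fwd (nat_lit 8192) (Steps.fwd (nat_lit 24576) (Steps.bwd (nat_lit 1) (Steps.bwd (nat_lit 2) (Steps.bwd (nat_lit 1) Steps.nil))))))))))) (nat_lit 191) (nat_lit 0),
  Rule.mk (nat_lit 17) (nat_lit 179) (Steps.fwd (nat_lit 24576) (Steps.fwd (nat_lit 8192) (Steps.fwd (nat_lit 24576) (Steps.fwd (nat_lit 8192) (Steps.fwd (nat_lit 16384) (Steps.fwd (nat_lit 8192) (Steps.fwd (nat_lit 16384) (Steps.bwd (nat_lit 1) (Steps.bwd (nat_lit 4) (Steps.fwd (nat_lit 24576) (Steps.fwd (nat_lit 8192) Steps.nil))))))))))) (nat_lit 193) (nat_lit 0),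
  Rule.mk (nat_lit 17) (nat_lit 179) (Steps.bwd (nat_lit 2) (Steps.bwd (nat_lit 1) (Steps.bwd (nat_lit 2) (Steps.bwd (nat_lit 1) (Steps.fwd (nat_lit 16384) (Steps.fwd (nat_lit 8192) (Steps.bwd (nat_lit 3) (Steps.fwd (nat_lit 8192) (Steps.bwd (nat_lit 4) (Steps.fwd (nat_lit 24576) (Steps.bwd (nat_lit 1) Steps.nil))))))))))) (nat_lit 193) (nat_lit 0),
  Rule.mk (nat_lit 20) (nat_lit 179) (Steps.fwd (nat_lit 8192) (Steps.fwd (nat_lit 24576) (Steps.fwd (nat_lit 8192) (Steps.fwd (nat_lit 24576) (Steps.fwd (nat_lit 8192) (Steps.fwd (nat_lit 16384) (Steps.fwd (nat_lit 8192) (Steps.fwd (nat_lit 16384) (Steps.bwd (nat_lit 1) (Steps.bwd (nat_lit 4) (Steps.fwd (nat_lit 24576) Steps.nil))))))))))) (nat_lit 194) (nat_lit 1),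
  Rule.mk (nat_lit 0) (nat_lit 194) (Steps.bwd (nat_lit 3) (Steps.fwd (nat_lit 32768) (Steps.bwd (nat_lit 1) (Steps.fwd (nat_lit 24576) (Steps.bwd (nat_lit 1) (Steps.bwd (nat_lit 2) (Steps.fwd (nat_lit 8192) (Steps.fwd (nat_lit 16384) (Steps.fwd (nat_lit 8192) (Steps.fwd (nat_lit 16384) (Steps.fwd (nat_lit 8192) (Steps.fwd (nat_lit 163840) Steps.nil)))))))))))) (nat_lit 195) (nat_lit 0),
  Rule.mk (nat_lit 9) (nat_lit 44) (Steps.bwd (nat_lit 0) (Steps.bwd (nat_lit 9) Steps.nil)) (nat_lit 196) (nat_lit 0),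
  Rule.mk (nat_lit 19) (nat_lit 179) (Steps.fwd (nat_lit 16384) (Steps.fwd (nat_lit 32768) (Steps.fwd (nat_lit 8192) (Steps.fwd (nat_lit 24576) (Steps.fwd (nat_lit 8192) (Steps.fwd (nat_lit 24576) (Steps.fwd (nat_lit 8192) (Steps.fwd (nat_lit 16384) (Steps.fwd (nat_lit 8192) (Steps.fwd (nat_lit 16384) (Steps.bwd (nat_lit 1) Steps.nil))))))))))) (nat_lit 195) (nat_lit 0),
  Rule.mk (nat_lit 19) (nat_lit 179) (Steps.bwd (nat_lit 3) (Steps.bwd (nat_lit 4) (Steps.bwd (nat_lit 1) (Steps.bwd (nat_lit 2) (Steps.bwd (nat_lit 1) (Steps.bwd (nat_lit 2) (Steps.bwd (nat_lit 1) (Steps.fwd (nat_lit 16384) (Steps.fwd (nat_lit 8192) (Steps.bwd (nat_lit 3) (Steps.fwd (nat_lit 8192) Steps.nil))))))))))) (nat_lit 195) (nat_lit 0),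
  Rule.mk (nat_lit 9) (nat_lit 134) (Steps.bwd (nat_lit 3) (Steps.bwd (nat_lit 4) (Steps.fwd (nat_lit 40960) (Steps.fwd (nat_lit 65536) (Steps.bwd (nat_lit 9) (Steps.bwd (nat_lit 11) (Steps.bwd (nat_lit 14) (Steps.fwd (nat_lit 24576) Steps.nil)))))))) (nat_lit 178) (nat_lit 2),
  Rule.mk (nat_lit 1) (nat_lit 89) (Steps.bwd (nat_lit 4) (Steps.bwd (nat_lit 7) (Steps.bwd (nat_lit 14) (Steps.bwd (nat_lit 1) (Steps.bwd (nat_lit 9) Steps.nil))))) (nat_lit 156) (nat_lit 3),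
  Rule.mk (nat_lit 15) (nat_lit 179) (Steps.fwd (nat_lit 16384) (Steps.fwd (nat_lit 8192) (Steps.bwd (nat_lit 4) (Steps.bwd (nat_lit 3) (Steps.bwd (nat_lit 1) (Steps.fwd (nat_lit 24576) (Steps.bwd (nat_lit 1) (Steps.bwd (nat_lit 2) (Steps.bwd (nat_lit 1) (Steps.bwd (nat_lit 2) (Steps.bwd (nat_lit 1) Steps.nil))))))))))) (nat_lit 191) (nat_lit 0),
  Rule.mk (nat_lit 15) (nat_lit 179) (Steps.bwd (nat_lit 3) (Steps.bwd (nat_lit 1) (Steps.bwd (nat_lit 4) (Steps.bwd (nat_lit 3) (Steps.bwd (nat_lit 1) (Steps.bwd (nat_lit 2) (Steps.bwd (nat_lit 1) (Steps.bwd (nat_lit 2) (Steps.bwd (nat_lit 1) (Steps.bwd (nat_lit 2) (Steps.bwd (nat_lit 1) Steps.nil))))))))))) (nat_lit 191) (nat_lit 0),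
  Rule.mk (nat_lit 3) (nat_lit 164) (Steps.fwd (nat_lit 114688) (Steps.bwd (nat_lit 13) (Steps.fwd (nat_lit 98304) (Steps.bwd (nat_lit 11) (Steps.fwd (nat_lit 81920) (Steps.bwd (nat_lit 9) (Steps.bwd (nat_lit 6) (Steps.bwd (nat_lit 5) (Steps.bwd (nat_lit 2) (Steps.fwd (nat_lit 49152) Steps.nil)))))))))) (nat_lit 173) (nat_lit 0),
  Rule.mk (nat_lit 2) (nat_lit 179) (Steps.bwd (nat_lit 20) (Steps.fwd (nat_lit 8192) (Steps.fwd (nat_lit 24576) (Steps.fwd (nat_lit 8192) (Steps.bwd (nat_lit 2) (Steps.bwd (nat_lit 1) (Steps.fwd (nat_lit 16384) (Steps.bwd (nat_lit 1) (Steps.fwd (nat_lit 16384) (Steps.bwd (nat_lit 1) (Steps.bwd (nat_lit 4) Steps.nil))))))))))) (nat_lit 194) (nat_lit 0),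
  Rule.mk (nat_lit 12) (nat_lit 104) (Steps.bwd (nat_lit 3) (Steps.bwd (nat_lit 4) (Steps.bwd (nat_lit 5) (Steps.fwd (nat_lit 65536) (Steps.fwd (nat_lit 73728) (Steps.bwd (nat_lit 2) Steps.nil)))))) (nat_lit 184) (nat_lit 2),
  Rule.mk (nat_lit 5) (nat_lit 149) (Steps.bwd (nat_lit 3) (Steps.bwd (nat_lit 4) (Steps.fwd (nat_lit 40960) (Steps.fwd (nat_lit 65536) (Steps.bwd (nat_lit 9) (Steps.fwd (nat_lit 98304) (Steps.fwd (nat_lit 106496) (Steps.bwd (nat_lit 14) (Steps.bwd (nat_lit 2) Steps.nil))))))))) (nat_lit 170) (nat_lit 2),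
  Rule.mk (nat_lit 10) (nat_lit 134) (Steps.fwd (nat_lit 8192) (Steps.fwd (nat_lit 32768) (Steps.fwd (nat_lit 40960) (Steps.bwd (nat_lit 8) (Steps.fwd (nat_lit 73728) (Steps.fwd (nat_lit 90112) (Steps.bwd (nat_lit 14) (Steps.bwd (nat_lit 1) Steps.nil)))))))) (nat_lit 158) (nat_lit 2),
  Rule.mk (nat_lit 18) (nat_lit 179) (Steps.bwd (nat_lit 1) (Steps.fwd (nat_lit 16384) (Steps.fwd (nat_lit 32768) (Steps.fwd (nat_lit 8192) (Steps.bwd (nat_lit 2) (Steps.fwd (nat_lit 8192) (Steps.bwd (nat_lit 2) (Steps.fwd (nat_lit 8192) (Steps.fwd (nat_lit 16384) (Steps.bwd (nat_lit 1) (Steps.bwd (nat_lit 3) Steps.nil))))))))))) (nat_lit 192) (nat_lit 1),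
  Rule.mk (nat_lit 1) (nat_lit 134) (Steps.bwd (nat_lit 14) (Steps.fwd (nat_lit 8192) (Steps.bwd (nat_lit 6) (Steps.bwd (nat_lit 10) (Steps.fwd (nat_lit 90112) (Steps.bwd (nat_lit 12) (Steps.fwd (nat_lit 106496) (Steps.bwd (nat_lit 14) Steps.nil)))))))) (nat_lit 166) (nat_lit 1),
  Rule.mk (nat_lit 6) (nat_lit 134) (Steps.bwd (nat_lit 2) (Steps.fwd (nat_lit 106496) (Steps.fwd (nat_lit 16384) (Steps.bwd (nat_lit 14) (Steps.bwd (nat_lit 13) (Steps.fwd (nat_lit 98304) (Steps.bwd (nat_lit 11) (Steps.bwd (nat_lit 10) Steps.nil)))))))) (nat_lit 187) (nat_lit 6),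
  Rule.mk (nat_lit 16) (nat_lit 179) (Steps.bwd (nat_lit 1) (Steps.fwd (nat_lit 16384) (Steps.bwd (nat_lit 1) (Steps.bwd (nat_lit 3) (Steps.fwd (nat_lit 8192) (Steps.bwd (nat_lit 3) (Steps.bwd (nat_lit 1) (Steps.bwd (nat_lit 2) (Steps.fwd (nat_lit 32768) (Steps.fwd (nat_lit 8192) (Steps.bwd (nat_lit 2) Steps.nil))))))))))) (nat_lit 190) (nat_lit 1),
  Rule.mk (nat_lit 1) (nat_lit 134) (Steps.fwd (nat_lit 81920) (Steps.fwd (nat_lit 8192) (Steps.fwd (nat_lit 32768) (Steps.fwd (nat_lit 40960) (Steps.bwd (nat_lit 8) (Steps.fwd (nat_lit 73728) (Steps.fwd (nat_lit 90112) (Steps.bwd (nat_lit 14) Steps.nil)))))))) (nat_lit 158) (nat_lit 1),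
  Rule.mk (nat_lit 3) (nat_lit 134) (Steps.bwd (nat_lit 14) (Steps.fwd (nat_lit 106496) (Steps.fwd (nat_lit 98304) (Steps.bwd (nat_lit 11) (Steps.bwd (nat_lit 10) (Steps.bwd (nat_lit 6) (Steps.bwd (nat_lit 2) (Steps.bwd (nat_lit 13) Steps.nil)))))))) (nat_lit 187) (nat_lit 0),
  Rule.mk (nat_lit 11) (nat_lit 104) (Steps.bwd (nat_lit 1) (Steps.bwd (nat_lit 6) (Steps.bwd (nat_lit 11) (Steps.bwd (nat_lit 12) (Steps.fwd (nat_lit 114688) (Steps.fwd (nat_lit 8192) Steps.nil)))))) (nat_lit 160) (nat_lit 2),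
  Rule.mk (nat_lit 6) (nat_lit 134) (Steps.bwd (nat_lit 1) (Steps.bwd (nat_lit 14) (Steps.fwd (nat_lit 8192) (Steps.bwd (nat_lit 14) (Steps.fwd (nat_lit 106496) (Steps.fwd (nat_lit 98304) (Steps.fwd (nat_lit 90112) (Steps.fwd (nat_lit 81920) Steps.nil)))))))) (nat_lit 167) (nat_lit 6),
  Rule.mk (nat_lit 2) (nat_lit 104) (Steps.fwd (nat_lit 81920) (Steps.bwd (nat_lit 3) (Steps.bwd (nat_lit 14) (Steps.fwd (nat_lit 98304) (Steps.bwd (nat_lit 11) (Steps.bwd (nat_lit 6) Steps.nil)))))) (nat_lit 181) (nat_lit 5),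
  Rule.mk (nat_lit 15) (nat_lit 179) (Steps.fwd (nat_lit 16384) (Steps.bwd (nat_lit 1) (Steps.bwd (nat_lit 4) (Steps.bwd (nat_lit 3) (Steps.bwd (nat_lit 1) (Steps.fwd (nat_lit 24576) (Steps.fwd (nat_lit 8192) (Steps.bwd (nat_lit 2) (Steps.fwd (nat_lit 8192) (Steps.bwd (nat_lit 2) (Steps.bwd (nat_lit 1) Steps.nil))))))))))) (nat_lit 191) (nat_lit 0),
  Rule.mk (nat_lit 16) (nat_lit 179) (Steps.fwd (nat_lit 8192) (Steps.bwd (nat_lit 3) (Steps.bwd (nat_lit 1) (Steps.bwd (nat_lit 3) (Steps.bwd (nat_lit 1) (Steps.bwd (nat_lit 3) (Steps.bwd (nat_lit 1) (Steps.fwd (nat_lit 24576) (Steps.fwd (nat_lit 32768) (Steps.bwd (nat_lit 1) (Steps.bwd (nat_lit 2) Steps.nil))))))))))) (nat_lit 190) (nat_lit 1),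
  Rule.mk (nat_lit 18) (nat_lit 179) (Steps.bwd (nat_lit 1) (Steps.bwd (nat_lit 3) (Steps.bwd (nat_lit 4) (Steps.fwd (nat_lit 8192) (Steps.fwd (nat_lit 24576) (Steps.bwd (nat_lit 1) (Steps.fwd (nat_lit 24576) (Steps.bwd (nat_lit 1) (Steps.bwd (nat_lit 3) (Steps.bwd (nat_lit 1) (Steps.bwd (nat_lit 3) Steps.nil))))))))))) (nat_lit 192) (nat_lit 1),
  Rule.mk (nat_lit 0) (nat_lit 194) (Steps.fwd (nat_lit 24576) (Steps.bwd (nat_lit 1) (Steps.fwd (nat_lit 24576) (Steps.bwd (nat_lit 1) (Steps.bwd (nat_lit 3) (Steps.bwd (nat_lit 1) (Steps.bwd (nat_lit 3) (Steps.bwd (nat_lit 1) (Steps.bwd (nat_lit 4) (Steps.fwd (nat_lit 24576) (Steps.bwd (nat_lit 1) (Steps.fwd (nat_lit 147456) Steps.nil)))))))))))) (nat_lit 193) (nat_lit 0),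
  Rule.mk (nat_lit 20) (nat_lit 179) (Steps.bwd (nat_lit 1) (Steps.fwd (nat_lit 24576) (Steps.bwd (nat_lit 1) (Steps.fwd (nat_lit 24576) (Steps.bwd (nat_lit 1) (Steps.bwd (nat_lit 3) (Steps.bwd (nat_lit 1) (Steps.bwd (nat_lit 3) (Steps.bwd (nat_lit 1) (Steps.bwd (nat_lit 4) (Steps.fwd (nat_lit 24576) Steps.nil))))))))))) (nat_lit 194) (nat_lit 1),
  Rule.mk (nat_lit 0) (nat_lit 194) (Steps.bwd (nat_lit 20) (Steps.fwd (nat_lit 8192) (Steps.fwd (nat_lit 24576) (Steps.fwd (nat_lit 8192) (Steps.fwd (nat_lit 24576) (Steps.fwd (nat_lit 8192) (Steps.bwd (nat_lit 3) (Steps.fwd (nat_lit 8192) (Steps.bwd (nat_lit 3) (Steps.fwd (nat_lit 8192) (Steps.fwd (nat_lit 32768) (Steps.fwd (nat_lit 24576) Steps.nil)))))))))))) (nat_lit 194) (nat_lit 0),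
  Rule.mk (nat_lit 5) (nat_lit 149) (Steps.bwd (nat_lit 3) (Steps.bwd (nat_lit 4) (Steps.fwd (nat_lit 40960) (Steps.bwd (nat_lit 8) (Steps.fwd (nat_lit 73728) (Steps.fwd (nat_lit 98304) (Steps.fwd (nat_lit 106496) (Steps.bwd (nat_lit 14) (Steps.fwd (nat_lit 24576) Steps.nil))))))))) (nat_lit 170) (nat_lit 2),
  Rule.mk (nat_lit 2) (nat_lit 104) (Steps.fwd (nat_lit 81920) (Steps.bwd (nat_lit 3) (Steps.fwd (nat_lit 49152) (Steps.fwd (nat_lit 90112) (Steps.bwd (nat_lit 12) (Steps.bwd (nat_lit 14) Steps.nil)))))) (nat_lit 180) (nat_lit 1),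
  Rule.mk (nat_lit 8) (nat_lit 104) (Steps.bwd (nat_lit 1) (Steps.fwd (nat_lit 40960) (Steps.bwd (nat_lit 7) (Steps.fwd (nat_lit 106496) (Steps.bwd (nat_lit 14) (Steps.bwd (nat_lit 1) Steps.nil)))))) (nat_lit 154) (nat_lit 2),
  Rule.mk (nat_lit 13) (nat_lit 104) (Steps.bwd (nat_lit 1) (Steps.bwd (nat_lit 4) (Steps.fwd (nat_lit 40960) (Steps.fwd (nat_lit 65536) (Steps.fwd (nat_lit 73728) (Steps.fwd (nat_lit 8192) Steps.nil)))))) (nat_lit 164) (nat_lit 2),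
  Rule.mk (nat_lit 10) (nat_lit 134) (Steps.bwd (nat_lit 1) (Steps.bwd (nat_lit 4) (Steps.fwd (nat_lit 40960) (Steps.fwd (nat_lit 65536) (Steps.fwd (nat_lit 73728) (Steps.fwd (nat_lit 90112) (Steps.bwd (nat_lit 14) (Steps.fwd (nat_lit 8192) Steps.nil)))))))) (nat_lit 158) (nat_lit 2),
  Rule.mk (nat_lit 14) (nat_lit 134) (Steps.bwd (nat_lit 1) (Steps.bwd (nat_lit 10) (Steps.fwd (nat_lit 8192) (Steps.fwd (nat_lit 32768) (Steps.bwd (nat_lit 5) (Steps.fwd (nat_lit 65536) (Steps.fwd (nat_lit 73728) (Steps.bwd (nat_lit 11) Steps.nil)))))))) (nat_lit 158) (nat_lit 0),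
  Rule.mk (nat_lit 16) (nat_lit 179) (Steps.fwd (nat_lit 8192) (Steps.fwd (nat_lit 16384) (Steps.bwd (nat_lit 1) (Steps.fwd (nat_lit 16384) (Steps.fwd (nat_lit 8192) (Steps.bwd (nat_lit 3) (Steps.fwd (nat_lit 8192) (Steps.fwd (nat_lit 24576) (Steps.bwd (nat_lit 4) (Steps.bwd (nat_lit 1) (Steps.fwd (nat_lit 24576) Steps.nil))))))))))) (nat_lit 190) (nat_lit 1),
  Rule.mk (nat_lit 3) (nat_lit 119) (Steps.fwd (nat_lit 40960) (Steps.fwd (nat_lit 49152) (Steps.bwd (nat_lit 7) (Steps.fwd (nat_lit 98304) (Steps.fwd (nat_lit 114688) (Steps.fwd (nat_lit 24576) (Steps.bwd (nat_lit 14) Steps.nil))))))) (nat_lit 188) (nat_lit 3),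
  Rule.mk (nat_lit 2) (nat_lit 164) (Steps.bwd (nat_lit 11) (Steps.bwd (nat_lit 3) (Steps.bwd (nat_lit 4) (Steps.fwd (nat_lit 40960) (Steps.fwd (nat_lit 65536) (Steps.fwd (nat_lit 73728) (Steps.bwd (nat_lit 10) (Steps.bwd (nat_lit 11) (Steps.bwd (nat_lit 12) (Steps.bwd (nat_lit 14) Steps.nil)))))))))) (nat_lit 182) (nat_lit 1),
  Rule.mk (nat_lit 18) (nat_lit 179) (Steps.fwd (nat_lit 8192) (Steps.bwd (nat_lit 3) (Steps.bwd (nat_lit 4) (Steps.fwd (nat_lit 8192) (Steps.fwd (nat_lit 24576) (Steps.bwd (nat_lit 1) (Steps.bwd (nat_lit 2) (Steps.fwd (nat_lit 8192) (Steps.bwd (nat_lit 3) (Steps.fwd (nat_lit 8192) (Steps.fwd (nat_lit 16384) Steps.nil))))))))))) (nat_lit 192) (nat_lit 1),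
  Rule.mk (nat_lit 19) (nat_lit 179) (Steps.bwd (nat_lit 3) (Steps.bwd (nat_lit 4) (Steps.fwd (nat_lit 8192) (Steps.fwd (nat_lit 24576) (Steps.bwd (nat_lit 1) (Steps.bwd (nat_lit 2) (Steps.fwd (nat_lit 8192) (Steps.bwd (nat_lit 3) (Steps.fwd (nat_lit 8192) (Steps.fwd (nat_lit 16384) (Steps.fwd (nat_lit 8192) Steps.nil))))))))))) (nat_lit 195) (nat_lit 0),
  Rule.mk (nat_lit 13) (nat_lit 104) (Steps.bwd (nat_lit 7) (Steps.bwd (nat_lit 5) (Steps.fwd (nat_lit 8192) (Steps.fwd (nat_lit 65536) (Steps.fwd (nat_lit 8192) (Steps.fwd (nat_lit 114688) Steps.nil)))))) (nat_lit 155) (nat_lit 2),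
  Rule.mk (nat_lit 1) (nat_lit 104) (Steps.bwd (nat_lit 9) (Steps.bwd (nat_lit 8) (Steps.bwd (nat_lit 5) (Steps.fwd (nat_lit 32768) (Steps.fwd (nat_lit 8192) (Steps.bwd (nat_lit 13) Steps.nil)))))) (nat_lit 165) (nat_lit 0),
  Rule.mk (nat_lit 1) (nat_lit 104) (Steps.bwd (nat_lit 11) (Steps.fwd (nat_lit 8192) (Steps.fwd (nat_lit 114688) (Steps.fwd (nat_lit 98304) (Steps.fwd (nat_lit 90112) (Steps.bwd (nat_lit 6) Steps.nil)))))) (nat_lit 161) (nat_lit 5),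
  Rule.mk (nat_lit 17) (nat_lit 179) (Steps.bwd (nat_lit 2) (Steps.fwd (nat_lit 8192) (Steps.fwd (nat_lit 24576) (Steps.fwd (nat_lit 8192) (Steps.bwd (nat_lit 3) (Steps.bwd (nat_lit 1) (Steps.fwd (nat_lit 16384) (Steps.bwd (nat_lit 1) (Steps.fwd (nat_lit 32768) (Steps.fwd (nat_lit 24576) (Steps.bwd (nat_lit 1) Steps.nil))))))))))) (nat_lit 193) (nat_lit 0),
  Rule.mk (nat_lit 3) (nat_lit 149) (Steps.bwd (nat_lit 14) (Steps.bwd (nat_lit 13) (Steps.fwd (nat_lit 98304) (Steps.bwd (nat_lit 9) (Steps.fwd (nat_lit 65536) (Steps.fwd (nat_lit 40960) (Steps.fwd (nat_lit 32768) (Steps.fwd (nat_lit 24576) (Steps.bwd (nat_lit 5) Steps.nil))))))))) (nat_lit 171) (nat_lit 0),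
  Rule.mk (nat_lit 16) (nat_lit 179) (Steps.bwd (nat_lit 1) (Steps.bwd (nat_lit 3) (Steps.bwd (nat_lit 1) (Steps.fwd (nat_lit 16384) (Steps.bwd (nat_lit 1) (Steps.fwd (nat_lit 16384) (Steps.bwd (nat_lit 1) (Steps.fwd (nat_lit 24576) (Steps.bwd (nat_lit 4) (Steps.bwd (nat_lit 1) (Steps.bwd (nat_lit 2) Steps.nil))))))))))) (nat_lit 190) (nat_lit 1),
  Rule.mk (nat_lit 18) (nat_lit 179) (Steps.fwd (nat_lit 8192) (Steps.bwd (nat_lit 3) (Steps.bwd (nat_lit 4) (Steps.bwd (nat_lit 1) (Steps.fwd (nat_lit 24576) (Steps.bwd (nat_lit 1) (Steps.bwd (nat_lit 2) (Steps.bwd (nat_lit 1) (Steps.fwd (nat_lit 16384) (Steps.bwd (nat_lit 1) (Steps.bwd (nat_lit 3) Steps.nil))))))))))) (nat_lit 192) (nat_lit 1),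
  Rule.mk (nat_lit 0) (nat_lit 194) (Steps.bwd (nat_lit 17) (Steps.fwd (nat_lit 24576) (Steps.bwd (nat_lit 1) (Steps.bwd (nat_lit 2) (Steps.bwd (nat_lit 1) (Steps.fwd (nat_lit 16384) (Steps.bwd (nat_lit 1) (Steps.bwd (nat_lit 3) (Steps.bwd (nat_lit 1) (Steps.fwd (nat_lit 32768) (Steps.fwd (nat_lit 24576) (Steps.bwd (nat_lit 1) Steps.nil)))))))))))) (nat_lit 193) (nat_lit 11),
  Rule.mk (nat_lit 20) (nat_lit 179) (Steps.bwd (nat_lit 1) (Steps.fwd (nat_lit 24576) (Steps.bwd (nat_lit 1) (Steps.bwd (nat_lit 2) (Steps.bwd (nat_lit 1) (Steps.fwd (nat_lit 16384) (Steps.bwd (nat_lit 1) (Steps.bwd (nat_lit 3) (Steps.bwd (nat_lit 1) (Steps.fwd (nat_lit 32768) (Steps.fwd (nat_lit 24576) Steps.nil))))))))))) (nat_lit 194) (nat_lit 1),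
  Rule.mk (nat_lit 0) (nat_lit 194) (Steps.bwd (nat_lit 20) (Steps.fwd (nat_lit 8192) (Steps.fwd (nat_lit 24576) (Steps.fwd (nat_lit 8192) (Steps.bwd (nat_lit 2) (Steps.fwd (nat_lit 8192) (Steps.fwd (nat_lit 16384) (Steps.fwd (nat_lit 8192) (Steps.bwd (nat_lit 3) (Steps.fwd (nat_lit 8192) (Steps.fwd (nat_lit 32768) (Steps.fwd (nat_lit 24576) Steps.nil)))))))))))) (nat_lit 194) (nat_lit 0),
  Rule.mk (nat_lit 0) (nat_lit 194) (Steps.bwd (nat_lit 17) (Steps.fwd (nat_lit 24576) (Steps.fwd (nat_lit 8192) (Steps.fwd (nat_lit 24576) (Steps.fwd (nat_lit 8192) (Steps.bwd (nat_lit 3) (Steps.fwd (nat_lit 8192) (Steps.bwd (nat_lit 3) (Steps.fwd (nat_lit 8192) (Steps.bwd (nat_lit 4) (Steps.fwd (nat_lit 24576) (Steps.bwd (nat_lit 1) Steps.nil)))))))))))) (nat_lit 193) (nat_lit 11),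
  Rule.mk (nat_lit 19) (nat_lit 179) (Steps.bwd (nat_lit 3) (Steps.fwd (nat_lit 32768) (Steps.bwd (nat_lit 1) (Steps.fwd (nat_lit 24576) (Steps.bwd (nat_lit 1) (Steps.fwd (nat_lit 24576) (Steps.bwd (nat_lit 1) (Steps.bwd (nat_lit 3) (Steps.bwd (nat_lit 1) (Steps.bwd (nat_lit 3) (Steps.fwd (nat_lit 8192) Steps.nil))))))))))) (nat_lit 195) (nat_lit 0),
  Rule.mk (nat_lit 16) (nat_lit 179) (Steps.bwd (nat_lit 1) (Steps.fwd (nat_lit 16384) (Steps.fwd (nat_lit 8192) (Steps.bwd (nat_lit 3) (Steps.fwd (nat_lit 8192) (Steps.bwd (nat_lit 3) (Steps.fwd (nat_lit 8192) (Steps.fwd (nat_lit 24576) (Steps.fwd (nat_lit 32768) (Steps.bwd (nat_lit 1) (Steps.fwd (nat_lit 24576) Steps.nil))))))))))) (nat_lit 190) (nat_lit 1),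
  Rule.mk (nat_lit 15) (nat_lit 179) (Steps.bwd (nat_lit 3) (Steps.fwd (nat_lit 8192) (Steps.bwd (nat_lit 4) (Steps.fwd (nat_lit 16384) (Steps.fwd (nat_lit 8192) (Steps.bwd (nat_lit 2) (Steps.fwd (nat_lit 8192) (Steps.fwd (nat_lit 24576) (Steps.fwd (nat_lit 8192) (Steps.fwd (nat_lit 24576) (Steps.fwd (nat_lit 8192) Steps.nil))))))))))) (nat_lit 191) (nat_lit 0),
  Rule.mk (nat_lit 18) (nat_lit 179) (Steps.bwd (nat_lit 1) (Steps.fwd (nat_lit 16384) (Steps.fwd (nat_lit 32768) (Steps.fwd (nat_lit 8192) (Steps.fwd (nat_lit 24576) (Steps.bwd (nat_lit 1) (Steps.fwd (nat_lit 24576) (Steps.bwd (nat_lit 1) (Steps.fwd (nat_lit 16384) (Steps.fwd (nat_lit 8192) (Steps.bwd (nat_lit 3) Steps.nil))))))))))) (nat_lit 192) (nat_lit 1),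
  Rule.mk (nat_lit 17) (nat_lit 179) (Steps.fwd (nat_lit 24576) (Steps.bwd (nat_lit 1) (Steps.fwd (nat_lit 24576) (Steps.bwd (nat_lit 1) (Steps.fwd (nat_lit 16384) (Steps.fwd (nat_lit 8192) (Steps.bwd (nat_lit 3) (Steps.fwd (nat_lit 8192) (Steps.bwd (nat_lit 4) (Steps.fwd (nat_lit 24576) (Steps.fwd (nat_lit 8192) Steps.nil))))))))))) (nat_lit 193) (nat_lit 0),
  Rule.mk (nat_lit 17) (nat_lit 179) (Steps.fwd (nat_lit 24576) (Steps.bwd (nat_lit 1) (Steps.bwd (nat_lit 2) (Steps.fwd (nat_lit 8192) (Steps.bwd (nat_lit 3) (Steps.fwd (nat_lit 8192) (Steps.bwd (nat_lit 3) (Steps.fwd (nat_lit 8192) (Steps.bwd (nat_lit 4) (Steps.bwd (nat_lit 2) (Steps.bwd (nat_lit 1) Steps.nil))))))))))) (nat_lit 193) (nat_lit 0),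
  Rule.mk (nat_lit 20) (nat_lit 179) (Steps.fwd (nat_lit 8192) (Steps.fwd (nat_lit 24576) (Steps.bwd (nat_lit 1) (Steps.fwd (nat_lit 24576) (Steps.bwd (nat_lit 1) (Steps.fwd (nat_lit 16384) (Steps.fwd (nat_lit 8192) (Steps.bwd (nat_lit 3) (Steps.fwd (nat_lit 8192) (Steps.bwd (nat_lit 4) (Steps.fwd (nat_lit 24576) Steps.nil))))))))))) (nat_lit 194) (nat_lit 1),
  Rule.mk (nat_lit 19) (nat_lit 179) (Steps.fwd (nat_lit 16384) (Steps.fwd (nat_lit 32768) (Steps.fwd (nat_lit 8192) (Steps.fwd (nat_lit 24576) (Steps.bwd (nat_lit 1) (Steps.fwd (nat_lit 24576) (Steps.bwd (nat_lit 1) (Steps.fwd (nat_lit 16384) (Steps.fwd (nat_lit 8192) (Steps.bwd (nat_lit 3) (Steps.fwd (nat_lit 8192) Steps.nil))))))))))) (nat_lit 195) (nat_lit 0),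
  Rule.mk (nat_lit 3) (nat_lit 119) (Steps.fwd (nat_lit 40960) (Steps.fwd (nat_lit 49152) (Steps.bwd (nat_lit 7) (Steps.bwd (nat_lit 12) (Steps.fwd (nat_lit 114688) (Steps.fwd (nat_lit 24576) (Steps.bwd (nat_lit 14) Steps.nil))))))) (nat_lit 188) (nat_lit 3),
  Rule.mk (nat_lit 2) (nat_lit 104) (Steps.bwd (nat_lit 10) (Steps.bwd (nat_lit 3) (Steps.bwd (nat_lit 14) (Steps.bwd (nat_lit 12) (Steps.bwd (nat_lit 11) (Steps.fwd (nat_lit 49152) Steps.nil)))))) (nat_lit 181) (nat_lit 5)]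
noncomputable def R_33 : List (Rule) := [Rule.mk (nat_lit 16) (nat_lit 179) (Steps.fwd (nat_lit 8192) (Steps.bwd (nat_lit 3) (Steps.fwd (nat_lit 8192) (Steps.bwd (nat_lit 3) (Steps.bwd (nat_lit 1) (Steps.fwd (nat_lit 16384) (Steps.bwd (nat_lit 1) (Steps.bwd (nat_lit 2) (Steps.bwd (nat_lit 4) (Steps.fwd (nat_lit 8192) (Steps.fwd (nat_lit 24576) Steps.nil))))))))))) (nat_lit 190) (nat_lit 1),
  Rule.mk (nat_lit 20) (nat_lit 179) (Steps.fwd (nat_lit 8192) (Steps.fwd (nat_lit 24576) (Steps.bwd (nat_lit 1) (Steps.fwd (nat_lit 24576) (Steps.fwd (nat_lit 8192) (Steps.bwd (nat_lit 3) (Steps.fwd (nat_lit 8192) (Steps.bwd (nat_lit 3) (Steps.bwd (nat_lit 1) (Steps.bwd (nat_lit 4) (Steps.fwd (nat_lit 24576) Steps.nil))))))))))) (nat_lit 194) (nat_lit 1),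
  Rule.mk (nat_lit 0) (nat_lit 194) (Steps.bwd (nat_lit 16) (Steps.fwd (nat_lit 8192) (Steps.fwd (nat_lit 16384) (Steps.fwd (nat_lit 8192) (Steps.fwd (nat_lit 16384) (Steps.bwd (nat_lit 1) (Steps.fwd (nat_lit 16384) (Steps.bwd (nat_lit 1) (Steps.fwd (nat_lit 24576) (Steps.fwd (nat_lit 32768) (Steps.fwd (nat_lit 8192) (Steps.fwd (nat_lit 24576) Steps.nil)))))))))))) (nat_lit 190) (nat_lit 0),
  Rule.mk (nat_lit 17) (nat_lit 179) (Steps.bwd (nat_lit 2) (Steps.bwd (nat_lit 1) (Steps.bwd (nat_lit 2) (Steps.bwd (nat_lit 1) (Steps.bwd (nat_lit 3) (Steps.fwd (nat_lit 8192) (Steps.bwd (nat_lit 3) (Steps.bwd (nat_lit 1) (Steps.bwd (nat_lit 4) (Steps.fwd (nat_lit 24576) (Steps.fwd (nat_lit 8192) Steps.nil))))))))))) (nat_lit 193) (nat_lit 0),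
  Rule.mk (nat_lit 20) (nat_lit 179) (Steps.fwd (nat_lit 8192) (Steps.bwd (nat_lit 2) (Steps.bwd (nat_lit 1) (Steps.bwd (nat_lit 2) (Steps.bwd (nat_lit 1) (Steps.bwd (nat_lit 3) (Steps.fwd (nat_lit 8192) (Steps.bwd (nat_lit 3) (Steps.bwd (nat_lit 1) (Steps.bwd (nat_lit 4) (Steps.fwd (nat_lit 24576) Steps.nil))))))))))) (nat_lit 194) (nat_lit 1),
  Rule.mk (nat_lit 3) (nat_lit 179) (Steps.bwd (nat_lit 4) (Steps.fwd (nat_lit 8192) (Steps.bwd (nat_lit 2) (Steps.bwd (nat_lit 1) (Steps.bwd (nat_lit 2) (Steps.bwd (nat_lit 1) (Steps.bwd (nat_lit 3) (Steps.fwd (nat_lit 8192) (Steps.bwd (nat_lit 3) (Steps.bwd (nat_lit 1) (Steps.fwd (nat_lit 163840) Steps.nil))))))))))) (nat_lit 195) (nat_lit 1),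
  Rule.mk (nat_lit 7) (nat_lit 104) (Steps.bwd (nat_lit 3) (Steps.fwd (nat_lit 40960) (Steps.fwd (nat_lit 57344) (Steps.fwd (nat_lit 106496) (Steps.bwd (nat_lit 14) (Steps.fwd (nat_lit 24576) Steps.nil)))))) (nat_lit 174) (nat_lit 2),
  Rule.mk (nat_lit 14) (nat_lit 119) (Steps.bwd (nat_lit 3) (Steps.fwd (nat_lit 40960) (Steps.fwd (nat_lit 49152) (Steps.fwd (nat_lit 57344) (Steps.fwd (nat_lit 98304) (Steps.bwd (nat_lit 14) (Steps.fwd (nat_lit 24576) Steps.nil))))))) (nat_lit 188) (nat_lit 2),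
  Rule.mk (nat_lit 5) (nat_lit 149) (Steps.bwd (nat_lit 3) (Steps.bwd (nat_lit 4) (Steps.fwd (nat_lit 40960) (Steps.bwd (nat_lit 8) (Steps.bwd (nat_lit 9) (Steps.fwd (nat_lit 98304) (Steps.bwd (nat_lit 13) (Steps.bwd (nat_lit 14) (Steps.fwd (nat_lit 24576) Steps.nil))))))))) (nat_lit 170) (nat_lit 2),
  Rule.mk (nat_lit 6) (nat_lit 149) (Steps.bwd (nat_lit 1) (Steps.bwd (nat_lit 4) (Steps.fwd (nat_lit 40960) (Steps.fwd (nat_lit 65536) (Steps.fwd (nat_lit 73728) (Steps.bwd (nat_lit 12) (Steps.fwd (nat_lit 106496) (Steps.fwd (nat_lit 114688) (Steps.fwd (nat_lit 8192) Steps.nil))))))))) (nat_lit 150) (nat_lit 2),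
  Rule.mk (nat_lit 15) (nat_lit 179) (Steps.fwd (nat_lit 16384) (Steps.fwd (nat_lit 8192) (Steps.bwd (nat_lit 4) (Steps.fwd (nat_lit 16384) (Steps.fwd (nat_lit 8192) (Steps.bwd (nat_lit 2) (Steps.bwd (nat_lit 1) (Steps.fwd (nat_lit 24576) (Steps.bwd (nat_lit 1) (Steps.fwd (nat_lit 24576) (Steps.fwd (nat_lit 8192) Steps.nil))))))))))) (nat_lit 191) (nat_lit 0),
  Rule.mk (nat_lit 18) (nat_lit 179) (Steps.bwd (nat_lit 1) (Steps.fwd (nat_lit 16384) (Steps.fwd (nat_lit 32768) (Steps.bwd (nat_lit 1) (Steps.fwd (nat_lit 24576) (Steps.bwd (nat_lit 1) (Steps.fwd (nat_lit 24576) (Steps.fwd (nat_lit 8192) (Steps.bwd (nat_lit 3) (Steps.bwd (nat_lit 1) (Steps.bwd (nat_lit 3) Steps.nil))))))))))) (nat_lit 192) (nat_lit 1),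
  Rule.mk (nat_lit 17) (nat_lit 179) (Steps.fwd (nat_lit 24576) (Steps.bwd (nat_lit 1) (Steps.fwd (nat_lit 24576) (Steps.fwd (nat_lit 8192) (Steps.fwd (nat_lit 16384) (Steps.fwd (nat_lit 8192) (Steps.fwd (nat_lit 16384) (Steps.bwd (nat_lit 1) (Steps.fwd (nat_lit 32768) (Steps.fwd (nat_lit 24576) (Steps.bwd (nat_lit 1) Steps.nil))))))))))) (nat_lit 193) (nat_lit 0),
  Rule.mk (nat_lit 17) (nat_lit 179) (Steps.fwd (nat_lit 24576) (Steps.bwd (nat_lit 1) (Steps.fwd (nat_lit 24576) (Steps.fwd (nat_lit 8192) (Steps.bwd (nat_lit 3) (Steps.bwd (nat_lit 1) (Steps.bwd (nat_lit 3) (Steps.bwd (nat_lit 1) (Steps.fwd (nat_lit 32768) (Steps.fwd (nat_lit 24576) (Steps.bwd (nat_lit 1) Steps.nil))))))))))) (nat_lit 193) (nat_lit 0),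
  Rule.mk (nat_lit 20) (nat_lit 179) (Steps.bwd (nat_lit 1) (Steps.fwd (nat_lit 24576) (Steps.bwd (nat_lit 1) (Steps.fwd (nat_lit 24576) (Steps.fwd (nat_lit 8192) (Steps.bwd (nat_lit 3) (Steps.bwd (nat_lit 1) (Steps.bwd (nat_lit 3) (Steps.bwd (nat_lit 1) (Steps.fwd (nat_lit 32768) (Steps.fwd (nat_lit 24576) Steps.nil))))))))))) (nat_lit 194) (nat_lit 1),
  Rule.mk (nat_lit 0) (nat_lit 194) (Steps.fwd (nat_lit 16384) (Steps.fwd (nat_lit 32768) (Steps.bwd (nat_lit 1) (Steps.fwd (nat_lit 24576) (Steps.bwd (nat_lit 1) (Steps.fwd (nat_lit 24576) (Steps.fwd (nat_lit 8192) (Steps.bwd (nat_lit 3) (Steps.bwd (nat_lit 1) (Steps.bwd (nat_lit 3) (Steps.bwd (nat_lit 1) (Steps.fwd (nat_lit 163840) Steps.nil)))))))))))) (nat_lit 195) (nat_lit 0),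
  Rule.mk (nat_lit 15) (nat_lit 179) (Steps.bwd (nat_lit 3) (Steps.bwd (nat_lit 1) (Steps.fwd (nat_lit 32768) (Steps.bwd (nat_lit 3) (Steps.fwd (nat_lit 8192) (Steps.fwd (nat_lit 24576) (Steps.bwd (nat_lit 1) (Steps.fwd (nat_lit 24576) (Steps.fwd (nat_lit 8192) (Steps.bwd (nat_lit 2) (Steps.bwd (nat_lit 1) Steps.nil))))))))))) (nat_lit 191) (nat_lit 0),
  Rule.mk (nat_lit 0) (nat_lit 194) (Steps.bwd (nat_lit 16) (Steps.bwd (nat_lit 1) (Steps.bwd (nat_lit 3) (Steps.fwd (nat_lit 8192) (Steps.bwd (nat_lit 3) (Steps.fwd (nat_lit 8192) (Steps.fwd (nat_lit 16384) (Steps.bwd (nat_lit 1) (Steps.bwd (nat_lit 2) (Steps.fwd (nat_lit 32768) (Steps.bwd (nat_lit 1) (Steps.fwd (nat_lit 24576) Steps.nil)))))))))))) (nat_lit 190) (nat_lit 0),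
  Rule.mk (nat_lit 13) (nat_lit 104) (Steps.bwd (nat_lit 1) (Steps.bwd (nat_lit 4) (Steps.bwd (nat_lit 5) (Steps.bwd (nat_lit 8) (Steps.bwd (nat_lit 9) (Steps.fwd (nat_lit 8192) Steps.nil)))))) (nat_lit 164) (nat_lit 2),
  Rule.mk (nat_lit 10) (nat_lit 134) (Steps.bwd (nat_lit 1) (Steps.bwd (nat_lit 4) (Steps.bwd (nat_lit 5) (Steps.bwd (nat_lit 8) (Steps.bwd (nat_lit 9) (Steps.fwd (nat_lit 90112) (Steps.fwd (nat_lit 114688) (Steps.bwd (nat_lit 1) Steps.nil)))))))) (nat_lit 158) (nat_lit 2),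
  Rule.mk (nat_lit 6) (nat_lit 104) (Steps.bwd (nat_lit 2) (Steps.bwd (nat_lit 10) (Steps.fwd (nat_lit 16384) (Steps.bwd (nat_lit 14) (Steps.fwd (nat_lit 98304) (Steps.fwd (nat_lit 90112) Steps.nil)))))) (nat_lit 181) (nat_lit 4),
  Rule.mk (nat_lit 8) (nat_lit 104) (Steps.bwd (nat_lit 1) (Steps.bwd (nat_lit 14) (Steps.fwd (nat_lit 106496) (Steps.fwd (nat_lit 57344) (Steps.bwd (nat_lit 5) (Steps.fwd (nat_lit 8192) Steps.nil)))))) (nat_lit 155) (nat_lit 6),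
  Rule.mk (nat_lit 15) (nat_lit 179) (Steps.bwd (nat_lit 3) (Steps.bwd (nat_lit 1) (Steps.fwd (nat_lit 32768) (Steps.fwd (nat_lit 16384) (Steps.bwd (nat_lit 1) (Steps.fwd (nat_lit 24576) (Steps.fwd (nat_lit 8192) (Steps.fwd (nat_lit 24576) (Steps.fwd (nat_lit 8192) (Steps.fwd (nat_lit 24576) (Steps.fwd (nat_lit 8192) Steps.nil))))))))))) (nat_lit 191) (nat_lit 0),
  Rule.mk (nat_lit 0) (nat_lit 194) (Steps.bwd (nat_lit 17) (Steps.fwd (nat_lit 24576) (Steps.fwd (nat_lit 8192) (Steps.bwd (nat_lit 2) (Steps.bwd (nat_lit 1) (Steps.bwd (nat_lit 3) (Steps.fwd (nat_lit 8192) (Steps.bwd (nat_lit 3) (Steps.fwd (nat_lit 8192) (Steps.fwd (nat_lit 32768) (Steps.fwd (nat_lit 24576) (Steps.bwd (nat_lit 1) Steps.nil)))))))))))) (nat_lit 193) (nat_lit 11),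
  Rule.mk (nat_lit 0) (nat_lit 194) (Steps.bwd (nat_lit 18) (Steps.fwd (nat_lit 8192) (Steps.fwd (nat_lit 16384) (Steps.fwd (nat_lit 32768) (Steps.bwd (nat_lit 1) (Steps.fwd (nat_lit 24576) (Steps.fwd (nat_lit 8192) (Steps.bwd (nat_lit 2) (Steps.bwd (nat_lit 1) (Steps.bwd (nat_lit 3) (Steps.fwd (nat_lit 8192) (Steps.bwd (nat_lit 3) Steps.nil)))))))))))) (nat_lit 192) (nat_lit 0),
  Rule.mk (nat_lit 0) (nat_lit 194) (Steps.bwd (nat_lit 1) (Steps.fwd (nat_lit 24576) (Steps.bwd (nat_lit 1) (Steps.fwd (nat_lit 24576) (Steps.fwd (nat_lit 8192) (Steps.fwd (nat_lit 16384) (Steps.bwd (nat_lit 1) (Steps.bwd (nat_lit 3) (Steps.fwd (nat_lit 8192) (Steps.bwd (nat_lit 4) (Steps.bwd (nat_lit 2) (Steps.fwd (nat_lit 155648) Steps.nil)))))))))))) (nat_lit 194) (nat_lit 1),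
  Rule.mk (nat_lit 19) (nat_lit 179) (Steps.bwd (nat_lit 3) (Steps.bwd (nat_lit 4) (Steps.fwd (nat_lit 8192) (Steps.fwd (nat_lit 24576) (Steps.bwd (nat_lit 1) (Steps.fwd (nat_lit 24576) (Steps.fwd (nat_lit 8192) (Steps.fwd (nat_lit 16384) (Steps.bwd (nat_lit 1) (Steps.bwd (nat_lit 3) (Steps.fwd (nat_lit 8192) Steps.nil))))))))))) (nat_lit 195) (nat_lit 0),
  Rule.mk (nat_lit 5) (nat_lit 149) (Steps.bwd (nat_lit 3) (Steps.fwd (nat_lit 32768) (Steps.bwd (nat_lit 5) (Steps.bwd (nat_lit 8) (Steps.bwd (nat_lit 9) (Steps.fwd (nat_lit 98304) (Steps.bwd (nat_lit 13) (Steps.bwd (nat_lit 14) (Steps.bwd (nat_lit 2) Steps.nil))))))))) (nat_lit 170) (nat_lit 2),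
  Rule.mk (nat_lit 0) (nat_lit 149) (Steps.fwd (nat_lit 8192) (Steps.bwd (nat_lit 10) (Steps.bwd (nat_lit 1) (Steps.fwd (nat_lit 32768) (Steps.bwd (nat_lit 5) (Steps.fwd (nat_lit 65536) (Steps.bwd (nat_lit 9) (Steps.fwd (nat_lit 90112) (Steps.bwd (nat_lit 14) Steps.nil))))))))) (nat_lit 158) (nat_lit 0),
  Rule.mk (nat_lit 0) (nat_lit 59) (Steps.bwd (nat_lit 1) (Steps.fwd (nat_lit 0) (Steps.fwd (nat_lit 8192) Steps.nil))) (nat_lit 196) (nat_lit 0),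
  Rule.mk (nat_lit 8) (nat_lit 104) (Steps.bwd (nat_lit 1) (Steps.bwd (nat_lit 5) (Steps.bwd (nat_lit 7) (Steps.fwd (nat_lit 106496) (Steps.bwd (nat_lit 14) (Steps.fwd (nat_lit 8192) Steps.nil)))))) (nat_lit 154) (nat_lit 2),
  Rule.mk (nat_lit 6) (nat_lit 134) (Steps.bwd (nat_lit 1) (Steps.bwd (nat_lit 14) (Steps.fwd (nat_lit 8192) (Steps.fwd (nat_lit 114688) (Steps.fwd (nat_lit 106496) (Steps.bwd (nat_lit 12) (Steps.fwd (nat_lit 90112) (Steps.fwd (nat_lit 81920) Steps.nil)))))))) (nat_lit 167) (nat_lit 6),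
  Rule.mk (nat_lit 2) (nat_lit 134) (Steps.fwd (nat_lit 106496) (Steps.fwd (nat_lit 16384) (Steps.fwd (nat_lit 114688) (Steps.fwd (nat_lit 106496) (Steps.bwd (nat_lit 12) (Steps.fwd (nat_lit 90112) (Steps.fwd (nat_lit 81920) (Steps.bwd (nat_lit 6) Steps.nil)))))))) (nat_lit 187) (nat_lit 7),
  Rule.mk (nat_lit 3) (nat_lit 164) (Steps.bwd (nat_lit 14) (Steps.fwd (nat_lit 106496) (Steps.bwd (nat_lit 12) (Steps.bwd (nat_lit 11) (Steps.bwd (nat_lit 10) (Steps.fwd (nat_lit 73728) (Steps.fwd (nat_lit 49152) (Steps.bwd (nat_lit 5) (Steps.fwd (nat_lit 24576) (Steps.bwd (nat_lit 6) Steps.nil)))))))))) (nat_lit 173) (nat_lit 0),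
  Rule.mk (nat_lit 5) (nat_lit 149) (Steps.bwd (nat_lit 3) (Steps.bwd (nat_lit 4) (Steps.fwd (nat_lit 40960) (Steps.bwd (nat_lit 8) (Steps.bwd (nat_lit 9) (Steps.fwd (nat_lit 98304) (Steps.fwd (nat_lit 106496) (Steps.fwd (nat_lit 114688) (Steps.bwd (nat_lit 2) Steps.nil))))))))) (nat_lit 170) (nat_lit 2),
  Rule.mk (nat_lit 15) (nat_lit 179) (Steps.fwd (nat_lit 16384) (Steps.fwd (nat_lit 8192) (Steps.bwd (nat_lit 4) (Steps.fwd (nat_lit 16384) (Steps.bwd (nat_lit 1) (Steps.bwd (nat_lit 2) (Steps.fwd (nat_lit 8192) (Steps.fwd (nat_lit 24576) (Steps.bwd (nat_lit 1) (Steps.fwd (nat_lit 24576) (Steps.bwd (nat_lit 1) Steps.nil))))))))))) (nat_lit 191) (nat_lit 0),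
  Rule.mk (nat_lit 1) (nat_lit 104) (Steps.bwd (nat_lit 11) (Steps.fwd (nat_lit 8192) (Steps.fwd (nat_lit 49152) (Steps.bwd (nat_lit 11) (Steps.fwd (nat_lit 98304) (Steps.bwd (nat_lit 14) Steps.nil)))))) (nat_lit 160) (nat_lit 1),
  Rule.mk (nat_lit 2) (nat_lit 164) (Steps.bwd (nat_lit 11) (Steps.fwd (nat_lit 16384) (Steps.fwd (nat_lit 32768) (Steps.bwd (nat_lit 5) (Steps.fwd (nat_lit 65536) (Steps.bwd (nat_lit 9) (Steps.bwd (nat_lit 10) (Steps.fwd (nat_lit 90112) (Steps.fwd (nat_lit 98304) (Steps.fwd (nat_lit 114688) Steps.nil)))))))))) (nat_lit 182) (nat_lit 1),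
  Rule.mk (nat_lit 17) (nat_lit 179) (Steps.fwd (nat_lit 24576) (Steps.bwd (nat_lit 1) (Steps.bwd (nat_lit 2) (Steps.fwd (nat_lit 8192) (Steps.fwd (nat_lit 16384) (Steps.fwd (nat_lit 8192) (Steps.bwd (nat_lit 3) (Steps.bwd (nat_lit 1) (Steps.bwd (nat_lit 4) (Steps.bwd (nat_lit 2) (Steps.bwd (nat_lit 1) Steps.nil))))))))))) (nat_lit 193) (nat_lit 0),
  Rule.mk (nat_lit 2) (nat_lit 179) (Steps.bwd (nat_lit 20) (Steps.fwd (nat_lit 8192) (Steps.fwd (nat_lit 24576) (Steps.bwd (nat_lit 1) (Steps.bwd (nat_lit 2) (Steps.fwd (nat_lit 8192) (Steps.bwd (nat_lit 3) (Steps.bwd (nat_lit 1) (Steps.fwd (nat_lit 16384) (Steps.bwd (nat_lit 1) (Steps.bwd (nat_lit 4) Steps.nil))))))))))) (nat_lit 194) (nat_lit 0),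
  Rule.mk (nat_lit 1) (nat_lit 179) (Steps.fwd (nat_lit 16384) (Steps.fwd (nat_lit 32768) (Steps.fwd (nat_lit 8192) (Steps.bwd (nat_lit 2) (Steps.fwd (nat_lit 8192) (Steps.fwd (nat_lit 24576) (Steps.bwd (nat_lit 1) (Steps.fwd (nat_lit 16384) (Steps.fwd (nat_lit 8192) (Steps.bwd (nat_lit 3) (Steps.fwd (nat_lit 139264) Steps.nil))))))))))) (nat_lit 192) (nat_lit 2),
  Rule.mk (nat_lit 4) (nat_lit 89) (Steps.bwd (nat_lit 7) (Steps.bwd (nat_lit 14) (Steps.bwd (nat_lit 1) (Steps.bwd (nat_lit 9) (Steps.fwd (nat_lit 8192) Steps.nil))))) (nat_lit 156) (nat_lit 4),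
  Rule.mk (nat_lit 5) (nat_lit 104) (Steps.bwd (nat_lit 7) (Steps.fwd (nat_lit 106496) (Steps.bwd (nat_lit 14) (Steps.fwd (nat_lit 8192) (Steps.bwd (nat_lit 8) (Steps.fwd (nat_lit 8192) Steps.nil)))))) (nat_lit 154) (nat_lit 4),
  Rule.mk (nat_lit 4) (nat_lit 59) (Steps.fwd (nat_lit 8192) (Steps.bwd (nat_lit 5) (Steps.fwd (nat_lit 8192) Steps.nil))) (nat_lit 146) (nat_lit 2),
  Rule.mk (nat_lit 0) (nat_lit 194) (Steps.bwd (nat_lit 16) (Steps.bwd (nat_lit 1) (Steps.fwd (nat_lit 16384) (Steps.fwd (nat_lit 8192) (Steps.bwd (nat_lit 3) (Steps.bwd (nat_lit 1) (Steps.fwd (nat_lit 16384) (Steps.bwd (nat_lit 1) (Steps.bwd (nat_lit 2) (Steps.bwd (nat_lit 4) (Steps.fwd (nat_lit 8192) (Steps.fwd (nat_lit 24576) Steps.nil)))))))))))) (nat_lit 190) (nat_lit 0),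
  Rule.mk (nat_lit 17) (nat_lit 179) (Steps.fwd (nat_lit 24576) (Steps.bwd (nat_lit 1) (Steps.bwd (nat_lit 2) (Steps.bwd (nat_lit 1) (Steps.bwd (nat_lit 3) (Steps.bwd (nat_lit 1) (Steps.bwd (nat_lit 3) (Steps.fwd (nat_lit 8192) (Steps.fwd (nat_lit 32768) (Steps.fwd (nat_lit 24576) (Steps.fwd (nat_lit 8192) Steps.nil))))))))))) (nat_lit 193) (nat_lit 0),
  Rule.mk (nat_lit 8) (nat_lit 104) (Steps.bwd (nat_lit 1) (Steps.bwd (nat_lit 5) (Steps.bwd (nat_lit 7) (Steps.bwd (nat_lit 13) (Steps.fwd (nat_lit 114688) (Steps.bwd (nat_lit 1) Steps.nil)))))) (nat_lit 154) (nat_lit 2),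
  Rule.mk (nat_lit 10) (nat_lit 134) (Steps.bwd (nat_lit 1) (Steps.fwd (nat_lit 32768) (Steps.fwd (nat_lit 40960) (Steps.bwd (nat_lit 8) (Steps.bwd (nat_lit 9) (Steps.bwd (nat_lit 11) (Steps.bwd (nat_lit 14) (Steps.fwd (nat_lit 8192) Steps.nil)))))))) (nat_lit 158) (nat_lit 2),
  Rule.mk (nat_lit 20) (nat_lit 179) (Steps.bwd (nat_lit 1) (Steps.fwd (nat_lit 24576) (Steps.fwd (nat_lit 8192) (Steps.fwd (nat_lit 24576) (Steps.fwd (nat_lit 8192) (Steps.bwd (nat_lit 3) (Steps.fwd (nat_lit 8192) (Steps.fwd (nat_lit 16384) (Steps.bwd (nat_lit 1) (Steps.fwd (nat_lit 32768) (Steps.fwd (nat_lit 24576) Steps.nil))))))))))) (nat_lit 194) (nat_lit 1),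
  Rule.mk (nat_lit 0) (nat_lit 194) (Steps.bwd (nat_lit 20) (Steps.fwd (nat_lit 8192) (Steps.bwd (nat_lit 2) (Steps.bwd (nat_lit 1) (Steps.fwd (nat_lit 24576) (Steps.bwd (nat_lit 1) (Steps.bwd (nat_lit 3) (Steps.bwd (nat_lit 1) (Steps.bwd (nat_lit 3) (Steps.fwd (nat_lit 8192) (Steps.fwd (nat_lit 32768) (Steps.bwd (nat_lit 2) Steps.nil)))))))))))) (nat_lit 194) (nat_lit 0),
  Rule.mk (nat_lit 12) (nat_lit 59) (Steps.fwd (nat_lit 81920) (Steps.bwd (nat_lit 12) (Steps.bwd (nat_lit 10) Steps.nil))) (nat_lit 104) (nat_lit 1),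
  Rule.mk (nat_lit 5) (nat_lit 104) (Steps.bwd (nat_lit 2) (Steps.bwd (nat_lit 7) (Steps.fwd (nat_lit 16384) (Steps.fwd (nat_lit 114688) (Steps.bwd (nat_lit 13) (Steps.bwd (nat_lit 7) Steps.nil)))))) (nat_lit 175) (nat_lit 4),
  Rule.mk (nat_lit 16) (nat_lit 179) (Steps.bwd (nat_lit 1) (Steps.fwd (nat_lit 16384) (Steps.fwd (nat_lit 8192) (Steps.bwd (nat_lit 3) (Steps.bwd (nat_lit 1) (Steps.bwd (nat_lit 3) (Steps.bwd (nat_lit 1) (Steps.fwd (nat_lit 24576) (Steps.bwd (nat_lit 4) (Steps.bwd (nat_lit 1) (Steps.bwd (nat_lit 2) Steps.nil))))))))))) (nat_lit 190) (nat_lit 1),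
  Rule.mk (nat_lit 9) (nat_lit 104) (Steps.bwd (nat_lit 2) (Steps.bwd (nat_lit 12) (Steps.fwd (nat_lit 16384) (Steps.fwd (nat_lit 32768) (Steps.fwd (nat_lit 40960) (Steps.bwd (nat_lit 8) Steps.nil)))))) (nat_lit 184) (nat_lit 0),
  Rule.mk (nat_lit 1) (nat_lit 89) (Steps.fwd (nat_lit 32768) (Steps.bwd (nat_lit 7) (Steps.fwd (nat_lit 114688) (Steps.bwd (nat_lit 1) (Steps.bwd (nat_lit 9) Steps.nil))))) (nat_lit 156) (nat_lit 3),
  Rule.mk (nat_lit 15) (nat_lit 179) (Steps.bwd (nat_lit 3) (Steps.fwd (nat_lit 8192) (Steps.bwd (nat_lit 4) (Steps.bwd (nat_lit 3) (Steps.fwd (nat_lit 8192) (Steps.fwd (nat_lit 24576) (Steps.fwd (nat_lit 8192) (Steps.bwd (nat_lit 2) (Steps.bwd (nat_lit 1) (Steps.bwd (nat_lit 2) (Steps.bwd (nat_lit 1) Steps.nil))))))))))) (nat_lit 191) (nat_lit 0),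
  Rule.mk (nat_lit 0) (nat_lit 194) (Steps.bwd (nat_lit 18) (Steps.bwd (nat_lit 1) (Steps.fwd (nat_lit 16384) (Steps.fwd (nat_lit 32768) (Steps.bwd (nat_lit 1) (Steps.bwd (nat_lit 2) (Steps.fwd (nat_lit 8192) (Steps.bwd (nat_lit 2) (Steps.fwd (nat_lit 8192) (Steps.fwd (nat_lit 16384) (Steps.bwd (nat_lit 1) (Steps.bwd (nat_lit 3) Steps.nil)))))))))))) (nat_lit 192) (nat_lit 0),
  Rule.mk (nat_lit 18) (nat_lit 179) (Steps.bwd (nat_lit 1) (Steps.fwd (nat_lit 16384) (Steps.bwd (nat_lit 4) (Steps.bwd (nat_lit 1) (Steps.bwd (nat_lit 2) (Steps.bwd (nat_lit 1) (Steps.bwd (nat_lit 2) (Steps.fwd (nat_lit 8192) (Steps.fwd (nat_lit 16384) (Steps.fwd (nat_lit 8192) (Steps.fwd (nat_lit 16384) Steps.nil))))))))))) (nat_lit 192) (nat_lit 1),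
  Rule.mk (nat_lit 0) (nat_lit 194) (Steps.bwd (nat_lit 1) (Steps.fwd (nat_lit 16384) (Steps.bwd (nat_lit 4) (Steps.bwd (nat_lit 1) (Steps.fwd (nat_lit 24576) (Steps.fwd (nat_lit 8192) (Steps.bwd (nat_lit 2) (Steps.bwd (nat_lit 1) (Steps.fwd (nat_lit 16384) (Steps.bwd (nat_lit 1) (Steps.fwd (nat_lit 16384) (Steps.fwd (nat_lit 139264) Steps.nil)))))))))))) (nat_lit 192) (nat_lit 1),
  Rule.mk (nat_lit 20) (nat_lit 179) (Steps.bwd (nat_lit 1) (Steps.bwd (nat_lit 2) (Steps.fwd (nat_lit 8192) (Steps.bwd (nat_lit 2) (Steps.fwd (nat_lit 8192) (Steps.fwd (nat_lit 16384) (Steps.bwd (nat_lit 1) (Steps.bwd (nat_lit 3) (Steps.fwd (nat_lit 8192) (Steps.fwd (nat_lit 32768) (Steps.bwd (nat_lit 2) Steps.nil))))))))))) (nat_lit 194) (nat_lit 1),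
  Rule.mk (nat_lit 0) (nat_lit 194) (Steps.bwd (nat_lit 20) (Steps.fwd (nat_lit 8192) (Steps.bwd (nat_lit 2) (Steps.bwd (nat_lit 1) (Steps.bwd (nat_lit 2) (Steps.bwd (nat_lit 1) (Steps.fwd (nat_lit 16384) (Steps.fwd (nat_lit 8192) (Steps.fwd (nat_lit 16384) (Steps.fwd (nat_lit 8192) (Steps.fwd (nat_lit 32768) (Steps.bwd (nat_lit 2) Steps.nil)))))))))))) (nat_lit 194) (nat_lit 0),
  Rule.mk (nat_lit 0) (nat_lit 194) (Steps.bwd (nat_lit 19) (Steps.fwd (nat_lit 16384) (Steps.fwd (nat_lit 32768) (Steps.bwd (nat_lit 1) (Steps.bwd (nat_lit 2) (Steps.fwd (nat_lit 8192) (Steps.bwd (nat_lit 2) (Steps.fwd (nat_lit 8192) (Steps.fwd (nat_lit 16384) (Steps.bwd (nat_lit 1) (Steps.bwd (nat_lit 3) (Steps.fwd (nat_lit 8192) Steps.nil)))))))))))) (nat_lit 195) (nat_lit 11),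
  Rule.mk (nat_lit 11) (nat_lit 59) (Steps.fwd (nat_lit 57344) (Steps.fwd (nat_lit 90112) (Steps.bwd (nat_lit 7) Steps.nil))) (nat_lit 84) (nat_lit 1),
  Rule.mk (nat_lit 1) (nat_lit 104) (Steps.bwd (nat_lit 11) (Steps.bwd (nat_lit 1) (Steps.bwd (nat_lit 6) (Steps.fwd (nat_lit 90112) (Steps.bwd (nat_lit 12) (Steps.bwd (nat_lit 14) Steps.nil)))))) (nat_lit 160) (nat_lit 1)]
noncomputable def R_34 : List (Rule) := [Rule.mk (nat_lit 16) (nat_lit 179) (Steps.bwd (nat_lit 1) (Steps.bwd (nat_lit 3) (Steps.fwd (nat_lit 8192) (Steps.bwd (nat_lit 3) (Steps.fwd (nat_lit 8192) (Steps.fwd (nat_lit 16384) (Steps.bwd (nat_lit 1) (Steps.fwd (nat_lit 24576) (Steps.fwd (nat_lit 32768) (Steps.bwd (nat_lit 1) (Steps.fwd (nat_lit 24576) Steps.nil))))))))))) (nat_lit 190) (nat_lit 1),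
  Rule.mk (nat_lit 1) (nat_lit 179) (Steps.bwd (nat_lit 15) (Steps.fwd (nat_lit 16384) (Steps.bwd (nat_lit 1) (Steps.fwd (nat_lit 32768) (Steps.bwd (nat_lit 3) (Steps.bwd (nat_lit 1) (Steps.bwd (nat_lit 2) (Steps.bwd (nat_lit 1) (Steps.bwd (nat_lit 2) (Steps.bwd (nat_lit 1) (Steps.bwd (nat_lit 2) Steps.nil))))))))))) (nat_lit 191) (nat_lit 11),
  Rule.mk (nat_lit 6) (nat_lit 149) (Steps.bwd (nat_lit 1) (Steps.fwd (nat_lit 32768) (Steps.fwd (nat_lit 40960) (Steps.bwd (nat_lit 8) (Steps.fwd (nat_lit 73728) (Steps.bwd (nat_lit 12) (Steps.bwd (nat_lit 13) (Steps.bwd (nat_lit 14) (Steps.bwd (nat_lit 1) Steps.nil))))))))) (nat_lit 150) (nat_lit 2),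
  Rule.mk (nat_lit 1) (nat_lit 179) (Steps.bwd (nat_lit 17) (Steps.bwd (nat_lit 2) (Steps.bwd (nat_lit 1) (Steps.fwd (nat_lit 24576) (Steps.bwd (nat_lit 1) (Steps.bwd (nat_lit 3) (Steps.bwd (nat_lit 1) (Steps.bwd (nat_lit 3) (Steps.fwd (nat_lit 8192) (Steps.fwd (nat_lit 32768) (Steps.bwd (nat_lit 2) Steps.nil))))))))))) (nat_lit 193) (nat_lit 11),
  Rule.mk (nat_lit 2) (nat_lit 179) (Steps.bwd (nat_lit 16) (Steps.fwd (nat_lit 8192) (Steps.bwd (nat_lit 3) (Steps.bwd (nat_lit 1) (Steps.bwd (nat_lit 3) (Steps.bwd (nat_lit 1) (Steps.bwd (nat_lit 3) (Steps.fwd (nat_lit 8192) (Steps.bwd (nat_lit 2) (Steps.bwd (nat_lit 4) (Steps.bwd (nat_lit 1) Steps.nil))))))))))) (nat_lit 190) (nat_lit 0),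
  Rule.mk (nat_lit 15) (nat_lit 179) (Steps.fwd (nat_lit 16384) (Steps.fwd (nat_lit 8192) (Steps.bwd (nat_lit 4) (Steps.bwd (nat_lit 3) (Steps.fwd (nat_lit 8192) (Steps.fwd (nat_lit 24576) (Steps.bwd (nat_lit 1) (Steps.bwd (nat_lit 2) (Steps.fwd (nat_lit 8192) (Steps.bwd (nat_lit 2) (Steps.bwd (nat_lit 1) Steps.nil))))))))))) (nat_lit 191) (nat_lit 0),
  Rule.mk (nat_lit 1) (nat_lit 179) (Steps.bwd (nat_lit 15) (Steps.fwd (nat_lit 16384) (Steps.bwd (nat_lit 1) (Steps.fwd (nat_lit 32768) (Steps.bwd (nat_lit 3) (Steps.bwd (nat_lit 1) (Steps.bwd (nat_lit 2) (Steps.fwd (nat_lit 8192) (Steps.bwd (nat_lit 2) (Steps.bwd (nat_lit 1) (Steps.bwd (nat_lit 2) Steps.nil))))))))))) (nat_lit 191) (nat_lit 11),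
  Rule.mk (nat_lit 3) (nat_lit 104) (Steps.fwd (nat_lit 49152) (Steps.bwd (nat_lit 11) (Steps.bwd (nat_lit 12) (Steps.fwd (nat_lit 114688) (Steps.bwd (nat_lit 2) (Steps.bwd (nat_lit 10) Steps.nil)))))) (nat_lit 180) (nat_lit 3),
  Rule.mk (nat_lit 0) (nat_lit 59) (Steps.fwd (nat_lit 16384) (Steps.bwd (nat_lit 3) (Steps.fwd (nat_lit 16384) Steps.nil))) (nat_lit 3) (nat_lit 0),
  Rule.mk (nat_lit 0) (nat_lit 59) (Steps.fwd (nat_lit 8192) (Steps.fwd (nat_lit 0) (Steps.fwd (nat_lit 8192) Steps.nil))) (nat_lit 196) (nat_lit 0),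
  Rule.mk (nat_lit 15) (nat_lit 179) (Steps.bwd (nat_lit 3) (Steps.bwd (nat_lit 1) (Steps.bwd (nat_lit 4) (Steps.fwd (nat_lit 16384) (Steps.fwd (nat_lit 8192) (Steps.bwd (nat_lit 2) (Steps.fwd (nat_lit 8192) (Steps.fwd (nat_lit 24576) (Steps.fwd (nat_lit 8192) (Steps.fwd (nat_lit 24576) (Steps.bwd (nat_lit 1) Steps.nil))))))))))) (nat_lit 191) (nat_lit 0),
  Rule.mk (nat_lit 18) (nat_lit 179) (Steps.bwd (nat_lit 1) (Steps.fwd (nat_lit 16384) (Steps.fwd (nat_lit 32768) (Steps.fwd (nat_lit 8192) (Steps.fwd (nat_lit 24576) (Steps.bwd (nat_lit 1) (Steps.fwd (nat_lit 24576) (Steps.bwd (nat_lit 1) (Steps.bwd (nat_lit 3) (Steps.bwd (nat_lit 1) (Steps.bwd (nat_lit 3) Steps.nil))))))))))) (nat_lit 192) (nat_lit 1),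
  Rule.mk (nat_lit 18) (nat_lit 179) (Steps.bwd (nat_lit 1) (Steps.bwd (nat_lit 3) (Steps.fwd (nat_lit 32768) (Steps.bwd (nat_lit 1) (Steps.bwd (nat_lit 2) (Steps.fwd (nat_lit 8192) (Steps.bwd (nat_lit 2) (Steps.bwd (nat_lit 1) (Steps.bwd (nat_lit 3) (Steps.bwd (nat_lit 1) (Steps.fwd (nat_lit 16384) Steps.nil))))))))))) (nat_lit 192) (nat_lit 1),
  Rule.mk (nat_lit 0) (nat_lit 194) (Steps.bwd (nat_lit 18) (Steps.bwd (nat_lit 1) (Steps.fwd (nat_lit 16384) (Steps.fwd (nat_lit 32768) (Steps.fwd (nat_lit 8192) (Steps.fwd (nat_lit 24576) (Steps.fwd (nat_lit 8192) (Steps.fwd (nat_lit 24576) (Steps.fwd (nat_lit 8192) (Steps.bwd (nat_lit 3) (Steps.fwd (nat_lit 8192) (Steps.bwd (nat_lit 3) Steps.nil)))))))))))) (nat_lit 192) (nat_lit 0),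
  Rule.mk (nat_lit 0) (nat_lit 194) (Steps.bwd (nat_lit 19) (Steps.fwd (nat_lit 16384) (Steps.fwd (nat_lit 32768) (Steps.fwd (nat_lit 8192) (Steps.fwd (nat_lit 24576) (Steps.fwd (nat_lit 8192) (Steps.fwd (nat_lit 24576) (Steps.fwd (nat_lit 8192) (Steps.bwd (nat_lit 3) (Steps.fwd (nat_lit 8192) (Steps.bwd (nat_lit 3) (Steps.bwd (nat_lit 1) Steps.nil)))))))))))) (nat_lit 195) (nat_lit 11),
  Rule.mk (nat_lit 0) (nat_lit 194) (Steps.bwd (nat_lit 19) (Steps.fwd (nat_lit 16384) (Steps.fwd (nat_lit 32768) (Steps.fwd (nat_lit 8192) (Steps.fwd (nat_lit 24576) (Steps.bwd (nat_lit 1) (Steps.fwd (nat_lit 24576) (Steps.bwd (nat_lit 1) (Steps.bwd (nat_lit 3) (Steps.bwd (nat_lit 1) (Steps.bwd (nat_lit 3) (Steps.bwd (nat_lit 1) Steps.nil)))))))))))) (nat_lit 195) (nat_lit 11),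
  Rule.mk (nat_lit 13) (nat_lit 134) (Steps.bwd (nat_lit 3) (Steps.fwd (nat_lit 114688) (Steps.fwd (nat_lit 106496) (Steps.bwd (nat_lit 12) (Steps.fwd (nat_lit 90112) (Steps.fwd (nat_lit 81920) (Steps.fwd (nat_lit 49152) (Steps.fwd (nat_lit 24576) Steps.nil)))))))) (nat_lit 187) (nat_lit 8),
  Rule.mk (nat_lit 5) (nat_lit 149) (Steps.bwd (nat_lit 3) (Steps.bwd (nat_lit 4) (Steps.bwd (nat_lit 5) (Steps.fwd (nat_lit 65536) (Steps.bwd (nat_lit 9) (Steps.bwd (nat_lit 12) (Steps.fwd (nat_lit 106496) (Steps.fwd (nat_lit 114688) (Steps.fwd (nat_lit 24576) Steps.nil))))))))) (nat_lit 170) (nat_lit 2),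
  Rule.mk (nat_lit 11) (nat_lit 164) (Steps.bwd (nat_lit 3) (Steps.bwd (nat_lit 4) (Steps.bwd (nat_lit 5) (Steps.fwd (nat_lit 65536) (Steps.bwd (nat_lit 9) (Steps.bwd (nat_lit 10) (Steps.bwd (nat_lit 11) (Steps.bwd (nat_lit 12) (Steps.bwd (nat_lit 14) (Steps.fwd (nat_lit 24576) Steps.nil)))))))))) (nat_lit 182) (nat_lit 2),
  Rule.mk (nat_lit 1) (nat_lit 104) (Steps.fwd (nat_lit 114688) (Steps.bwd (nat_lit 12) (Steps.bwd (nat_lit 11) (Steps.fwd (nat_lit 49152) (Steps.fwd (nat_lit 8192) (Steps.bwd (nat_lit 11) Steps.nil)))))) (nat_lit 161) (nat_lit 0),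
  Rule.mk (nat_lit 0) (nat_lit 194) (Steps.bwd (nat_lit 16) (Steps.fwd (nat_lit 8192) (Steps.fwd (nat_lit 16384) (Steps.bwd (nat_lit 1) (Steps.fwd (nat_lit 16384) (Steps.fwd (nat_lit 8192) (Steps.bwd (nat_lit 3) (Steps.bwd (nat_lit 1) (Steps.bwd (nat_lit 2) (Steps.bwd (nat_lit 4) (Steps.bwd (nat_lit 1) (Steps.fwd (nat_lit 24576) Steps.nil)))))))))))) (nat_lit 190) (nat_lit 0),
  Rule.mk (nat_lit 2) (nat_lit 104) (Steps.bwd (nat_lit 10) (Steps.fwd (nat_lit 16384) (Steps.fwd (nat_lit 49152) (Steps.bwd (nat_lit 11) (Steps.fwd (nat_lit 98304) (Steps.fwd (nat_lit 114688) Steps.nil)))))) (nat_lit 180) (nat_lit 1),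
  Rule.mk (nat_lit 1) (nat_lit 179) (Steps.bwd (nat_lit 15) (Steps.fwd (nat_lit 16384) (Steps.bwd (nat_lit 1) (Steps.bwd (nat_lit 4) (Steps.fwd (nat_lit 16384) (Steps.bwd (nat_lit 1) (Steps.fwd (nat_lit 24576) (Steps.bwd (nat_lit 1) (Steps.fwd (nat_lit 24576) (Steps.bwd (nat_lit 1) (Steps.bwd (nat_lit 2) Steps.nil))))))))))) (nat_lit 191) (nat_lit 11),
  Rule.mk (nat_lit 5) (nat_lit 59) (Steps.fwd (nat_lit 8192) (Steps.fwd (nat_lit 32768) (Steps.bwd (nat_lit 1) Steps.nil))) (nat_lit 146) (nat_lit 0),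
  Rule.mk (nat_lit 11) (nat_lit 104) (Steps.fwd (nat_lit 8192) (Steps.fwd (nat_lit 114688) (Steps.fwd (nat_lit 98304) (Steps.bwd (nat_lit 11) (Steps.bwd (nat_lit 6) (Steps.bwd (nat_lit 1) Steps.nil)))))) (nat_lit 161) (nat_lit 6),
  Rule.mk (nat_lit 10) (nat_lit 134) (Steps.fwd (nat_lit 8192) (Steps.bwd (nat_lit 4) (Steps.fwd (nat_lit 40960) (Steps.fwd (nat_lit 65536) (Steps.fwd (nat_lit 73728) (Steps.bwd (nat_lit 11) (Steps.fwd (nat_lit 114688) (Steps.bwd (nat_lit 1) Steps.nil)))))))) (nat_lit 158) (nat_lit 2),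
  Rule.mk (nat_lit 3) (nat_lit 104) (Steps.bwd (nat_lit 5) (Steps.bwd (nat_lit 7) (Steps.bwd (nat_lit 13) (Steps.bwd (nat_lit 14) (Steps.fwd (nat_lit 24576) (Steps.fwd (nat_lit 57344) Steps.nil)))))) (nat_lit 174) (nat_lit 3),
  Rule.mk (nat_lit 2) (nat_lit 149) (Steps.bwd (nat_lit 5) (Steps.fwd (nat_lit 16384) (Steps.fwd (nat_lit 32768) (Steps.bwd (nat_lit 5) (Steps.bwd (nat_lit 8) (Steps.bwd (nat_lit 9) (Steps.fwd (nat_lit 98304) (Steps.fwd (nat_lit 106496) (Steps.bwd (nat_lit 14) Steps.nil))))))))) (nat_lit 170) (nat_lit 1),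
  Rule.mk (nat_lit 1) (nat_lit 179) (Steps.fwd (nat_lit 16384) (Steps.fwd (nat_lit 8192) (Steps.fwd (nat_lit 16384) (Steps.bwd (nat_lit 1) (Steps.bwd (nat_lit 3) (Steps.fwd (nat_lit 8192) (Steps.bwd (nat_lit 2) (Steps.fwd (nat_lit 32768) (Steps.fwd (nat_lit 8192) (Steps.bwd (nat_lit 2) (Steps.fwd (nat_lit 122880) Steps.nil))))))))))) (nat_lit 190) (nat_lit 2),
  Rule.mk (nat_lit 16) (nat_lit 179) (Steps.bwd (nat_lit 1) (Steps.bwd (nat_lit 3) (Steps.fwd (nat_lit 8192) (Steps.fwd (nat_lit 16384) (Steps.fwd (nat_lit 8192) (Steps.bwd (nat_lit 3) (Steps.fwd (nat_lit 8192) (Steps.fwd (nat_lit 24576) (Steps.fwd (nat_lit 32768) (Steps.bwd (nat_lit 1) (Steps.fwd (nat_lit 24576) Steps.nil))))))))))) (nat_lit 190) (nat_lit 1),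
  Rule.mk (nat_lit 6) (nat_lit 134) (Steps.bwd (nat_lit 1) (Steps.fwd (nat_lit 114688) (Steps.bwd (nat_lit 1) (Steps.bwd (nat_lit 14) (Steps.bwd (nat_lit 13) (Steps.bwd (nat_lit 12) (Steps.bwd (nat_lit 11) (Steps.bwd (nat_lit 10) Steps.nil)))))))) (nat_lit 167) (nat_lit 6),
  Rule.mk (nat_lit 5) (nat_lit 149) (Steps.bwd (nat_lit 3) (Steps.bwd (nat_lit 4) (Steps.bwd (nat_lit 5) (Steps.bwd (nat_lit 8) (Steps.bwd (nat_lit 9) (Steps.bwd (nat_lit 12) (Steps.fwd (nat_lit 106496) (Steps.fwd (nat_lit 114688) (Steps.fwd (nat_lit 24576) Steps.nil))))))))) (nat_lit 170) (nat_lit 2),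
  Rule.mk (nat_lit 11) (nat_lit 164) (Steps.bwd (nat_lit 3) (Steps.bwd (nat_lit 4) (Steps.bwd (nat_lit 5) (Steps.bwd (nat_lit 8) (Steps.bwd (nat_lit 9) (Steps.bwd (nat_lit 10) (Steps.bwd (nat_lit 11) (Steps.fwd (nat_lit 98304) (Steps.bwd (nat_lit 14) (Steps.fwd (nat_lit 24576) Steps.nil)))))))))) (nat_lit 182) (nat_lit 2),
  Rule.mk (nat_lit 1) (nat_lit 104) (Steps.bwd (nat_lit 11) (Steps.bwd (nat_lit 1) (Steps.fwd (nat_lit 49152) (Steps.bwd (nat_lit 11) (Steps.fwd (nat_lit 98304) (Steps.fwd (nat_lit 114688) Steps.nil)))))) (nat_lit 160) (nat_lit 1),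
  Rule.mk (nat_lit 2) (nat_lit 104) (Steps.bwd (nat_lit 10) (Steps.bwd (nat_lit 3) (Steps.bwd (nat_lit 6) (Steps.fwd (nat_lit 90112) (Steps.bwd (nat_lit 12) (Steps.bwd (nat_lit 14) Steps.nil)))))) (nat_lit 180) (nat_lit 1),
  Rule.mk (nat_lit 0) (nat_lit 194) (Steps.bwd (nat_lit 15) (Steps.fwd (nat_lit 16384) (Steps.bwd (nat_lit 1) (Steps.bwd (nat_lit 4) (Steps.fwd (nat_lit 16384) (Steps.fwd (nat_lit 8192) (Steps.bwd (nat_lit 2) (Steps.bwd (nat_lit 1) (Steps.bwd (nat_lit 2) (Steps.fwd (nat_lit 8192) (Steps.bwd (nat_lit 2) (Steps.bwd (nat_lit 1) Steps.nil)))))))))))) (nat_lit 191) (nat_lit 11),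
  Rule.mk (nat_lit 18) (nat_lit 179) (Steps.bwd (nat_lit 1) (Steps.fwd (nat_lit 16384) (Steps.bwd (nat_lit 4) (Steps.fwd (nat_lit 8192) (Steps.bwd (nat_lit 2) (Steps.bwd (nat_lit 1) (Steps.bwd (nat_lit 2) (Steps.fwd (nat_lit 8192) (Steps.fwd (nat_lit 16384) (Steps.fwd (nat_lit 8192) (Steps.fwd (nat_lit 16384) Steps.nil))))))))))) (nat_lit 192) (nat_lit 1),
  Rule.mk (nat_lit 17) (nat_lit 179) (Steps.bwd (nat_lit 2) (Steps.bwd (nat_lit 1) (Steps.bwd (nat_lit 2) (Steps.fwd (nat_lit 8192) (Steps.fwd (nat_lit 16384) (Steps.fwd (nat_lit 8192) (Steps.fwd (nat_lit 16384) (Steps.fwd (nat_lit 8192) (Steps.fwd (nat_lit 32768) (Steps.fwd (nat_lit 24576) (Steps.fwd (nat_lit 8192) Steps.nil))))))))))) (nat_lit 193) (nat_lit 0),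
  Rule.mk (nat_lit 0) (nat_lit 194) (Steps.bwd (nat_lit 20) (Steps.fwd (nat_lit 8192) (Steps.bwd (nat_lit 2) (Steps.bwd (nat_lit 1) (Steps.bwd (nat_lit 2) (Steps.fwd (nat_lit 8192) (Steps.fwd (nat_lit 16384) (Steps.fwd (nat_lit 8192) (Steps.fwd (nat_lit 16384) (Steps.fwd (nat_lit 8192) (Steps.fwd (nat_lit 32768) (Steps.fwd (nat_lit 24576) Steps.nil)))))))))))) (nat_lit 194) (nat_lit 0),
  Rule.mk (nat_lit 19) (nat_lit 179) (Steps.fwd (nat_lit 16384) (Steps.bwd (nat_lit 4) (Steps.fwd (nat_lit 8192) (Steps.bwd (nat_lit 2) (Steps.bwd (nat_lit 1) (Steps.bwd (nat_lit 2) (Steps.fwd (nat_lit 8192) (Steps.fwd (nat_lit 16384) (Steps.fwd (nat_lit 8192) (Steps.fwd (nat_lit 16384) (Steps.fwd (nat_lit 8192) Steps.nil))))))))))) (nat_lit 195) (nat_lit 0),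
  Rule.mk (nat_lit 6) (nat_lit 104) (Steps.bwd (nat_lit 1) (Steps.bwd (nat_lit 11) (Steps.fwd (nat_lit 8192) (Steps.bwd (nat_lit 14) (Steps.bwd (nat_lit 12) (Steps.fwd (nat_lit 90112) Steps.nil)))))) (nat_lit 161) (nat_lit 4),
  Rule.mk (nat_lit 10) (nat_lit 134) (Steps.bwd (nat_lit 1) (Steps.bwd (nat_lit 4) (Steps.fwd (nat_lit 40960) (Steps.bwd (nat_lit 8) (Steps.fwd (nat_lit 73728) (Steps.fwd (nat_lit 90112) (Steps.fwd (nat_lit 114688) (Steps.fwd (nat_lit 8192) Steps.nil)))))))) (nat_lit 158) (nat_lit 2),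
  Rule.mk (nat_lit 14) (nat_lit 104) (Steps.bwd (nat_lit 2) (Steps.bwd (nat_lit 10) (Steps.fwd (nat_lit 16384) (Steps.bwd (nat_lit 6) (Steps.fwd (nat_lit 90112) (Steps.fwd (nat_lit 98304) Steps.nil)))))) (nat_lit 180) (nat_lit 0),
  Rule.mk (nat_lit 1) (nat_lit 134) (Steps.bwd (nat_lit 10) (Steps.fwd (nat_lit 8192) (Steps.fwd (nat_lit 32768) (Steps.bwd (nat_lit 5) (Steps.bwd (nat_lit 8) (Steps.bwd (nat_lit 9) (Steps.bwd (nat_lit 11) (Steps.bwd (nat_lit 14) Steps.nil)))))))) (nat_lit 158) (nat_lit 1),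
  Rule.mk (nat_lit 8) (nat_lit 104) (Steps.bwd (nat_lit 1) (Steps.bwd (nat_lit 14) (Steps.bwd (nat_lit 13) (Steps.bwd (nat_lit 7) (Steps.bwd (nat_lit 5) (Steps.fwd (nat_lit 8192) Steps.nil)))))) (nat_lit 155) (nat_lit 6),
  Rule.mk (nat_lit 8) (nat_lit 89) (Steps.bwd (nat_lit 3) (Steps.bwd (nat_lit 4) (Steps.bwd (nat_lit 7) (Steps.bwd (nat_lit 14) (Steps.fwd (nat_lit 24576) Steps.nil))))) (nat_lit 176) (nat_lit 2),
  Rule.mk (nat_lit 10) (nat_lit 104) (Steps.bwd (nat_lit 3) (Steps.fwd (nat_lit 49152) (Steps.fwd (nat_lit 90112) (Steps.fwd (nat_lit 98304) (Steps.bwd (nat_lit 14) (Steps.bwd (nat_lit 2) Steps.nil)))))) (nat_lit 180) (nat_lit 2),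
  Rule.mk (nat_lit 12) (nat_lit 104) (Steps.bwd (nat_lit 3) (Steps.bwd (nat_lit 4) (Steps.fwd (nat_lit 40960) (Steps.bwd (nat_lit 8) (Steps.bwd (nat_lit 9) (Steps.fwd (nat_lit 24576) Steps.nil)))))) (nat_lit 184) (nat_lit 2),
  Rule.mk (nat_lit 5) (nat_lit 149) (Steps.bwd (nat_lit 3) (Steps.bwd (nat_lit 4) (Steps.fwd (nat_lit 40960) (Steps.bwd (nat_lit 8) (Steps.bwd (nat_lit 9) (Steps.bwd (nat_lit 12) (Steps.bwd (nat_lit 13) (Steps.fwd (nat_lit 114688) (Steps.fwd (nat_lit 24576) Steps.nil))))))))) (nat_lit 170) (nat_lit 2),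
  Rule.mk (nat_lit 1) (nat_lit 179) (Steps.bwd (nat_lit 3) (Steps.fwd (nat_lit 8192) (Steps.fwd (nat_lit 16384) (Steps.fwd (nat_lit 8192) (Steps.fwd (nat_lit 16384) (Steps.bwd (nat_lit 1) (Steps.bwd (nat_lit 2) (Steps.fwd (nat_lit 32768) (Steps.bwd (nat_lit 1) (Steps.fwd (nat_lit 24576) (Steps.fwd (nat_lit 122880) Steps.nil))))))))))) (nat_lit 190) (nat_lit 2),
  Rule.mk (nat_lit 0) (nat_lit 74) (Steps.bwd (nat_lit 1) (Steps.fwd (nat_lit 40960) (Steps.bwd (nat_lit 1) (Steps.fwd (nat_lit 32768) Steps.nil)))) (nat_lit 146) (nat_lit 2),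
  Rule.mk (nat_lit 11) (nat_lit 104) (Steps.bwd (nat_lit 1) (Steps.bwd (nat_lit 6) (Steps.fwd (nat_lit 90112) (Steps.bwd (nat_lit 12) (Steps.fwd (nat_lit 114688) (Steps.fwd (nat_lit 8192) Steps.nil)))))) (nat_lit 160) (nat_lit 2),
  Rule.mk (nat_lit 16) (nat_lit 179) (Steps.fwd (nat_lit 8192) (Steps.bwd (nat_lit 3) (Steps.bwd (nat_lit 1) (Steps.fwd (nat_lit 16384) (Steps.bwd (nat_lit 1) (Steps.fwd (nat_lit 16384) (Steps.fwd (nat_lit 8192) (Steps.fwd (nat_lit 24576) (Steps.bwd (nat_lit 4) (Steps.bwd (nat_lit 1) (Steps.bwd (nat_lit 2) Steps.nil))))))))))) (nat_lit 190) (nat_lit 1),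
  Rule.mk (nat_lit 16) (nat_lit 179) (Steps.bwd (nat_lit 1) (Steps.fwd (nat_lit 16384) (Steps.fwd (nat_lit 8192) (Steps.bwd (nat_lit 3) (Steps.fwd (nat_lit 8192) (Steps.fwd (nat_lit 16384) (Steps.fwd (nat_lit 8192) (Steps.bwd (nat_lit 2) (Steps.bwd (nat_lit 4) (Steps.fwd (nat_lit 8192) (Steps.bwd (nat_lit 2) Steps.nil))))))))))) (nat_lit 190) (nat_lit 1),
  Rule.mk (nat_lit 20) (nat_lit 179) (Steps.fwd (nat_lit 8192) (Steps.fwd (nat_lit 24576) (Steps.fwd (nat_lit 8192) (Steps.bwd (nat_lit 2) (Steps.fwd (nat_lit 8192) (Steps.fwd (nat_lit 16384) (Steps.fwd (nat_lit 8192) (Steps.fwd (nat_lit 16384) (Steps.fwd (nat_lit 8192) (Steps.fwd (nat_lit 32768) (Steps.fwd (nat_lit 24576) Steps.nil))))))))))) (nat_lit 194) (nat_lit 1),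
  Rule.mk (nat_lit 18) (nat_lit 179) (Steps.bwd (nat_lit 1) (Steps.bwd (nat_lit 3) (Steps.bwd (nat_lit 4) (Steps.bwd (nat_lit 1) (Steps.bwd (nat_lit 2) (Steps.bwd (nat_lit 1) (Steps.bwd (nat_lit 2) (Steps.bwd (nat_lit 1) (Steps.fwd (nat_lit 16384) (Steps.bwd (nat_lit 1) (Steps.bwd (nat_lit 3) Steps.nil))))))))))) (nat_lit 192) (nat_lit 1),
  Rule.mk (nat_lit 12) (nat_lit 104) (Steps.bwd (nat_lit 3) (Steps.bwd (nat_lit 4) (Steps.fwd (nat_lit 40960) (Steps.bwd (nat_lit 8) (Steps.fwd (nat_lit 73728) (Steps.fwd (nat_lit 24576) Steps.nil)))))) (nat_lit 184) (nat_lit 2),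
  Rule.mk (nat_lit 14) (nat_lit 119) (Steps.bwd (nat_lit 3) (Steps.fwd (nat_lit 40960) (Steps.fwd (nat_lit 49152) (Steps.bwd (nat_lit 7) (Steps.fwd (nat_lit 98304) (Steps.bwd (nat_lit 14) (Steps.fwd (nat_lit 24576) Steps.nil))))))) (nat_lit 188) (nat_lit 2),
  Rule.mk (nat_lit 5) (nat_lit 149) (Steps.bwd (nat_lit 3) (Steps.bwd (nat_lit 4) (Steps.fwd (nat_lit 40960) (Steps.bwd (nat_lit 8) (Steps.fwd (nat_lit 73728) (Steps.fwd (nat_lit 98304) (Steps.fwd (nat_lit 106496) (Steps.bwd (nat_lit 14) (Steps.bwd (nat_lit 2) Steps.nil))))))))) (nat_lit 170) (nat_lit 2),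
  Rule.mk (nat_lit 1) (nat_lit 179) (Steps.bwd (nat_lit 3) (Steps.bwd (nat_lit 1) (Steps.bwd (nat_lit 3) (Steps.bwd (nat_lit 1) (Steps.fwd (nat_lit 16384) (Steps.fwd (nat_lit 8192) (Steps.bwd (nat_lit 2) (Steps.fwd (nat_lit 32768) (Steps.fwd (nat_lit 8192) (Steps.bwd (nat_lit 2) (Steps.fwd (nat_lit 122880) Steps.nil))))))))))) (nat_lit 190) (nat_lit 2),
  Rule.mk (nat_lit 13) (nat_lit 104) (Steps.bwd (nat_lit 1) (Steps.bwd (nat_lit 4) (Steps.bwd (nat_lit 5) (Steps.fwd (nat_lit 65536) (Steps.fwd (nat_lit 73728) (Steps.fwd (nat_lit 8192) Steps.nil)))))) (nat_lit 164) (nat_lit 2),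
  Rule.mk (nat_lit 18) (nat_lit 179) (Steps.fwd (nat_lit 8192) (Steps.fwd (nat_lit 16384) (Steps.bwd (nat_lit 4) (Steps.fwd (nat_lit 8192) (Steps.fwd (nat_lit 24576) (Steps.fwd (nat_lit 8192) (Steps.fwd (nat_lit 24576) (Steps.bwd (nat_lit 1) (Steps.fwd (nat_lit 16384) (Steps.fwd (nat_lit 8192) (Steps.bwd (nat_lit 3) Steps.nil))))))))))) (nat_lit 192) (nat_lit 1),
  Rule.mk (nat_lit 17) (nat_lit 179) (Steps.fwd (nat_lit 24576) (Steps.fwd (nat_lit 8192) (Steps.fwd (nat_lit 24576) (Steps.bwd (nat_lit 1) (Steps.fwd (nat_lit 16384) (Steps.fwd (nat_lit 8192) (Steps.bwd (nat_lit 3) (Steps.bwd (nat_lit 1) (Steps.fwd (nat_lit 32768) (Steps.fwd (nat_lit 24576) (Steps.bwd (nat_lit 1) Steps.nil))))))))))) (nat_lit 193) (nat_lit 0),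
  Rule.mk (nat_lit 20) (nat_lit 179) (Steps.fwd (nat_lit 8192) (Steps.fwd (nat_lit 24576) (Steps.fwd (nat_lit 8192) (Steps.fwd (nat_lit 24576) (Steps.bwd (nat_lit 1) (Steps.fwd (nat_lit 16384) (Steps.fwd (nat_lit 8192) (Steps.bwd (nat_lit 3) (Steps.bwd (nat_lit 1) (Steps.fwd (nat_lit 32768) (Steps.fwd (nat_lit 24576) Steps.nil))))))))))) (nat_lit 194) (nat_lit 1)]
noncomputable def R_35 : List (Rule) := [Rule.mk (nat_lit 19) (nat_lit 179) (Steps.bwd (nat_lit 3) (Steps.bwd (nat_lit 4) (Steps.fwd (nat_lit 8192) (Steps.bwd (nat_lit 2) (Steps.fwd (nat_lit 8192) (Steps.fwd (nat_lit 24576) (Steps.fwd (nat_lit 8192) (Steps.bwd (nat_lit 3) (Steps.bwd (nat_lit 1) (Steps.bwd (nat_lit 3) (Steps.bwd (nat_lit 1) Steps.nil))))))))))) (nat_lit 195) (nat_lit 0),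
  Rule.mk (nat_lit 19) (nat_lit 179) (Steps.fwd (nat_lit 16384) (Steps.bwd (nat_lit 4) (Steps.fwd (nat_lit 8192) (Steps.fwd (nat_lit 24576) (Steps.fwd (nat_lit 8192) (Steps.fwd (nat_lit 24576) (Steps.bwd (nat_lit 1) (Steps.fwd (nat_lit 16384) (Steps.fwd (nat_lit 8192) (Steps.bwd (nat_lit 3) (Steps.bwd (nat_lit 1) Steps.nil))))))))))) (nat_lit 195) (nat_lit 0),
  Rule.mk (nat_lit 2) (nat_lit 164) (Steps.bwd (nat_lit 11) (Steps.fwd (nat_lit 16384) (Steps.fwd (nat_lit 32768) (Steps.bwd (nat_lit 5) (Steps.bwd (nat_lit 8) (Steps.bwd (nat_lit 9) (Steps.fwd (nat_lit 81920) (Steps.fwd (nat_lit 90112) (Steps.fwd (nat_lit 98304) (Steps.fwd (nat_lit 114688) Steps.nil)))))))))) (nat_lit 182) (nat_lit 1),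
  Rule.mk (nat_lit 10) (nat_lit 134) (Steps.bwd (nat_lit 1) (Steps.bwd (nat_lit 4) (Steps.bwd (nat_lit 5) (Steps.bwd (nat_lit 8) (Steps.bwd (nat_lit 9) (Steps.fwd (nat_lit 90112) (Steps.fwd (nat_lit 114688) (Steps.fwd (nat_lit 8192) Steps.nil)))))))) (nat_lit 158) (nat_lit 2),
  Rule.mk (nat_lit 14) (nat_lit 134) (Steps.bwd (nat_lit 1) (Steps.bwd (nat_lit 10) (Steps.fwd (nat_lit 8192) (Steps.bwd (nat_lit 4) (Steps.fwd (nat_lit 40960) (Steps.bwd (nat_lit 8) (Steps.bwd (nat_lit 9) (Steps.bwd (nat_lit 11) Steps.nil)))))))) (nat_lit 158) (nat_lit 0),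
  Rule.mk (nat_lit 6) (nat_lit 134) (Steps.bwd (nat_lit 1) (Steps.bwd (nat_lit 14) (Steps.bwd (nat_lit 1) (Steps.fwd (nat_lit 114688) (Steps.bwd (nat_lit 13) (Steps.fwd (nat_lit 98304) (Steps.fwd (nat_lit 90112) (Steps.fwd (nat_lit 81920) Steps.nil)))))))) (nat_lit 167) (nat_lit 6),
  Rule.mk (nat_lit 3) (nat_lit 134) (Steps.bwd (nat_lit 6) (Steps.fwd (nat_lit 81920) (Steps.fwd (nat_lit 90112) (Steps.bwd (nat_lit 12) (Steps.bwd (nat_lit 13) (Steps.bwd (nat_lit 14) (Steps.bwd (nat_lit 2) (Steps.bwd (nat_lit 13) Steps.nil)))))))) (nat_lit 186) (nat_lit 3),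
  Rule.mk (nat_lit 3) (nat_lit 119) (Steps.bwd (nat_lit 5) (Steps.fwd (nat_lit 49152) (Steps.bwd (nat_lit 7) (Steps.fwd (nat_lit 98304) (Steps.fwd (nat_lit 114688) (Steps.fwd (nat_lit 24576) (Steps.bwd (nat_lit 14) Steps.nil))))))) (nat_lit 188) (nat_lit 3),
  Rule.mk (nat_lit 0) (nat_lit 194) (Steps.bwd (nat_lit 16) (Steps.fwd (nat_lit 8192) (Steps.fwd (nat_lit 16384) (Steps.bwd (nat_lit 1) (Steps.fwd (nat_lit 16384) (Steps.fwd (nat_lit 8192) (Steps.bwd (nat_lit 3) (Steps.fwd (nat_lit 8192) (Steps.bwd (nat_lit 2) (Steps.fwd (nat_lit 32768) (Steps.fwd (nat_lit 8192) (Steps.bwd (nat_lit 2) Steps.nil)))))))))))) (nat_lit 190) (nat_lit 0),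
  Rule.mk (nat_lit 18) (nat_lit 179) (Steps.fwd (nat_lit 8192) (Steps.bwd (nat_lit 3) (Steps.fwd (nat_lit 32768) (Steps.fwd (nat_lit 8192) (Steps.bwd (nat_lit 2) (Steps.fwd (nat_lit 8192) (Steps.fwd (nat_lit 24576) (Steps.bwd (nat_lit 1) (Steps.fwd (nat_lit 16384) (Steps.fwd (nat_lit 8192) (Steps.bwd (nat_lit 3) Steps.nil))))))))))) (nat_lit 192) (nat_lit 1),
  Rule.mk (nat_lit 11) (nat_lit 164) (Steps.bwd (nat_lit 3) (Steps.bwd (nat_lit 14) (Steps.fwd (nat_lit 98304) (Steps.fwd (nat_lit 90112) (Steps.fwd (nat_lit 81920) (Steps.bwd (nat_lit 9) (Steps.bwd (nat_lit 8) (Steps.bwd (nat_lit 5) (Steps.bwd (nat_lit 4) (Steps.fwd (nat_lit 24576) Steps.nil)))))))))) (nat_lit 183) (nat_lit 10),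
  Rule.mk (nat_lit 15) (nat_lit 179) (Steps.bwd (nat_lit 3) (Steps.bwd (nat_lit 1) (Steps.bwd (nat_lit 4) (Steps.fwd (nat_lit 16384) (Steps.bwd (nat_lit 1) (Steps.bwd (nat_lit 2) (Steps.bwd (nat_lit 1) (Steps.bwd (nat_lit 2) (Steps.fwd (nat_lit 8192) (Steps.bwd (nat_lit 2) (Steps.fwd (nat_lit 8192) Steps.nil))))))))))) (nat_lit 191) (nat_lit 0),
  Rule.mk (nat_lit 18) (nat_lit 179) (Steps.bwd (nat_lit 1) (Steps.fwd (nat_lit 16384) (Steps.bwd (nat_lit 4) (Steps.fwd (nat_lit 8192) (Steps.bwd (nat_lit 2) (Steps.fwd (nat_lit 8192) (Steps.bwd (nat_lit 2) (Steps.fwd (nat_lit 8192) (Steps.fwd (nat_lit 16384) (Steps.fwd (nat_lit 8192) (Steps.bwd (nat_lit 3) Steps.nil))))))))))) (nat_lit 192) (nat_lit 1),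
  Rule.mk (nat_lit 7) (nat_lit 104) (Steps.bwd (nat_lit 3) (Steps.fwd (nat_lit 40960) (Steps.bwd (nat_lit 7) (Steps.bwd (nat_lit 13) (Steps.bwd (nat_lit 14) (Steps.fwd (nat_lit 24576) Steps.nil)))))) (nat_lit 174) (nat_lit 2),
  Rule.mk (nat_lit 10) (nat_lit 104) (Steps.bwd (nat_lit 3) (Steps.bwd (nat_lit 6) (Steps.fwd (nat_lit 90112) (Steps.bwd (nat_lit 12) (Steps.fwd (nat_lit 114688) (Steps.fwd (nat_lit 24576) Steps.nil)))))) (nat_lit 180) (nat_lit 2),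
  Rule.mk (nat_lit 13) (nat_lit 134) (Steps.bwd (nat_lit 3) (Steps.bwd (nat_lit 14) (Steps.bwd (nat_lit 13) (Steps.fwd (nat_lit 98304) (Steps.fwd (nat_lit 90112) (Steps.fwd (nat_lit 81920) (Steps.fwd (nat_lit 49152) (Steps.bwd (nat_lit 2) Steps.nil)))))))) (nat_lit 187) (nat_lit 8),
  Rule.mk (nat_lit 5) (nat_lit 149) (Steps.bwd (nat_lit 3) (Steps.fwd (nat_lit 32768) (Steps.fwd (nat_lit 40960) (Steps.bwd (nat_lit 8) (Steps.fwd (nat_lit 73728) (Steps.bwd (nat_lit 12) (Steps.bwd (nat_lit 13) (Steps.bwd (nat_lit 14) (Steps.fwd (nat_lit 24576) Steps.nil))))))))) (nat_lit 170) (nat_lit 2),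
  Rule.mk (nat_lit 1) (nat_lit 104) (Steps.bwd (nat_lit 11) (Steps.bwd (nat_lit 1) (Steps.bwd (nat_lit 6) (Steps.fwd (nat_lit 90112) (Steps.bwd (nat_lit 12) (Steps.fwd (nat_lit 114688) Steps.nil)))))) (nat_lit 160) (nat_lit 1),
  Rule.mk (nat_lit 18) (nat_lit 179) (Steps.fwd (nat_lit 8192) (Steps.fwd (nat_lit 16384) (Steps.fwd (nat_lit 32768) (Steps.fwd (nat_lit 8192) (Steps.fwd (nat_lit 24576) (Steps.fwd (nat_lit 8192) (Steps.bwd (nat_lit 2) (Steps.fwd (nat_lit 8192) (Steps.fwd (nat_lit 16384) (Steps.bwd (nat_lit 1) (Steps.bwd (nat_lit 3) Steps.nil))))))))))) (nat_lit 192) (nat_lit 1),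
  Rule.mk (nat_lit 0) (nat_lit 194) (Steps.bwd (nat_lit 20) (Steps.fwd (nat_lit 8192) (Steps.fwd (nat_lit 24576) (Steps.fwd (nat_lit 8192) (Steps.bwd (nat_lit 2) (Steps.fwd (nat_lit 8192) (Steps.fwd (nat_lit 16384) (Steps.bwd (nat_lit 1) (Steps.bwd (nat_lit 3) (Steps.bwd (nat_lit 1) (Steps.bwd (nat_lit 4) (Steps.bwd (nat_lit 2) Steps.nil)))))))))))) (nat_lit 194) (nat_lit 0),
  Rule.mk (nat_lit 10) (nat_lit 104) (Steps.bwd (nat_lit 3) (Steps.bwd (nat_lit 6) (Steps.fwd (nat_lit 90112) (Steps.bwd (nat_lit 12) (Steps.bwd (nat_lit 14) (Steps.fwd (nat_lit 24576) Steps.nil)))))) (nat_lit 180) (nat_lit 2),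
  Rule.mk (nat_lit 6) (nat_lit 134) (Steps.bwd (nat_lit 1) (Steps.fwd (nat_lit 114688) (Steps.bwd (nat_lit 1) (Steps.fwd (nat_lit 114688) (Steps.bwd (nat_lit 13) (Steps.fwd (nat_lit 98304) (Steps.bwd (nat_lit 11) (Steps.bwd (nat_lit 10) Steps.nil)))))))) (nat_lit 167) (nat_lit 6),
  Rule.mk (nat_lit 14) (nat_lit 164) (Steps.bwd (nat_lit 1) (Steps.bwd (nat_lit 12) (Steps.fwd (nat_lit 8192) (Steps.fwd (nat_lit 32768) (Steps.bwd (nat_lit 5) (Steps.fwd (nat_lit 65536) (Steps.fwd (nat_lit 73728) (Steps.bwd (nat_lit 10) (Steps.bwd (nat_lit 11) (Steps.fwd (nat_lit 98304) Steps.nil)))))))))) (nat_lit 162) (nat_lit 0),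
  Rule.mk (nat_lit 2) (nat_lit 104) (Steps.fwd (nat_lit 81920) (Steps.bwd (nat_lit 3) (Steps.fwd (nat_lit 49152) (Steps.bwd (nat_lit 11) (Steps.fwd (nat_lit 98304) (Steps.bwd (nat_lit 14) Steps.nil)))))) (nat_lit 180) (nat_lit 1),
  Rule.mk (nat_lit 14) (nat_lit 104) (Steps.bwd (nat_lit 2) (Steps.fwd (nat_lit 57344) (Steps.fwd (nat_lit 16384) (Steps.fwd (nat_lit 40960) (Steps.bwd (nat_lit 7) (Steps.bwd (nat_lit 13) Steps.nil)))))) (nat_lit 174) (nat_lit 0),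
  Rule.mk (nat_lit 6) (nat_lit 104) (Steps.bwd (nat_lit 2) (Steps.bwd (nat_lit 10) (Steps.bwd (nat_lit 3) (Steps.fwd (nat_lit 114688) (Steps.bwd (nat_lit 12) (Steps.bwd (nat_lit 11) Steps.nil)))))) (nat_lit 181) (nat_lit 4),
  Rule.mk (nat_lit 5) (nat_lit 164) (Steps.bwd (nat_lit 2) (Steps.bwd (nat_lit 6) (Steps.fwd (nat_lit 16384) (Steps.fwd (nat_lit 114688) (Steps.fwd (nat_lit 106496) (Steps.bwd (nat_lit 12) (Steps.bwd (nat_lit 11) (Steps.bwd (nat_lit 10) (Steps.bwd (nat_lit 9) (Steps.fwd (nat_lit 49152) Steps.nil)))))))))) (nat_lit 173) (nat_lit 8),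
  Rule.mk (nat_lit 8) (nat_lit 104) (Steps.fwd (nat_lit 73728) (Steps.fwd (nat_lit 8192) (Steps.fwd (nat_lit 106496) (Steps.fwd (nat_lit 8192) (Steps.bwd (nat_lit 4) (Steps.bwd (nat_lit 5) Steps.nil)))))) (nat_lit 164) (nat_lit 6),
  Rule.mk (nat_lit 0) (nat_lit 194) (Steps.bwd (nat_lit 16) (Steps.fwd (nat_lit 8192) (Steps.bwd (nat_lit 3) (Steps.fwd (nat_lit 8192) (Steps.fwd (nat_lit 16384) (Steps.fwd (nat_lit 8192) (Steps.bwd (nat_lit 3) (Steps.fwd (nat_lit 8192) (Steps.bwd (nat_lit 2) (Steps.bwd (nat_lit 4) (Steps.fwd (nat_lit 8192) (Steps.bwd (nat_lit 2) Steps.nil)))))))))))) (nat_lit 190) (nat_lit 0),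
  Rule.mk (nat_lit 15) (nat_lit 179) (Steps.bwd (nat_lit 3) (Steps.fwd (nat_lit 8192) (Steps.bwd (nat_lit 4) (Steps.bwd (nat_lit 3) (Steps.bwd (nat_lit 1) (Steps.bwd (nat_lit 2) (Steps.fwd (nat_lit 8192) (Steps.fwd (nat_lit 24576) (Steps.fwd (nat_lit 8192) (Steps.fwd (nat_lit 24576) (Steps.bwd (nat_lit 1) Steps.nil))))))))))) (nat_lit 191) (nat_lit 0),
  Rule.mk (nat_lit 15) (nat_lit 179) (Steps.fwd (nat_lit 16384) (Steps.bwd (nat_lit 1) (Steps.bwd (nat_lit 4) (Steps.fwd (nat_lit 16384) (Steps.bwd (nat_lit 1) (Steps.fwd (nat_lit 24576) (Steps.fwd (nat_lit 8192) (Steps.fwd (nat_lit 24576) (Steps.fwd (nat_lit 8192) (Steps.fwd (nat_lit 24576) (Steps.bwd (nat_lit 1) Steps.nil))))))))))) (nat_lit 191) (nat_lit 0),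
  Rule.mk (nat_lit 15) (nat_lit 179) (Steps.bwd (nat_lit 3) (Steps.fwd (nat_lit 8192) (Steps.fwd (nat_lit 32768) (Steps.bwd (nat_lit 3) (Steps.fwd (nat_lit 8192) (Steps.fwd (nat_lit 24576) (Steps.fwd (nat_lit 8192) (Steps.fwd (nat_lit 24576) (Steps.bwd (nat_lit 1) (Steps.fwd (nat_lit 24576) (Steps.bwd (nat_lit 1) Steps.nil))))))))))) (nat_lit 191) (nat_lit 0),
  Rule.mk (nat_lit 18) (nat_lit 179) (Steps.fwd (nat_lit 8192) (Steps.fwd (nat_lit 16384) (Steps.bwd (nat_lit 4) (Steps.fwd (nat_lit 8192) (Steps.fwd (nat_lit 24576) (Steps.fwd (nat_lit 8192) (Steps.fwd (nat_lit 24576) (Steps.bwd (nat_lit 1) (Steps.bwd (nat_lit 3) (Steps.bwd (nat_lit 1) (Steps.fwd (nat_lit 16384) Steps.nil))))))))))) (nat_lit 192) (nat_lit 1),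
  Rule.mk (nat_lit 6) (nat_lit 104) (Steps.bwd (nat_lit 2) (Steps.bwd (nat_lit 10) (Steps.fwd (nat_lit 16384) (Steps.fwd (nat_lit 114688) (Steps.fwd (nat_lit 98304) (Steps.bwd (nat_lit 11) Steps.nil)))))) (nat_lit 181) (nat_lit 4),
  Rule.mk (nat_lit 7) (nat_lit 119) (Steps.bwd (nat_lit 12) (Steps.bwd (nat_lit 14) (Steps.bwd (nat_lit 2) (Steps.bwd (nat_lit 14) (Steps.bwd (nat_lit 3) (Steps.fwd (nat_lit 40960) (Steps.bwd (nat_lit 6) Steps.nil))))))) (nat_lit 188) (nat_lit 6),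
  Rule.mk (nat_lit 7) (nat_lit 104) (Steps.bwd (nat_lit 3) (Steps.bwd (nat_lit 5) (Steps.bwd (nat_lit 7) (Steps.bwd (nat_lit 13) (Steps.fwd (nat_lit 114688) (Steps.fwd (nat_lit 24576) Steps.nil)))))) (nat_lit 174) (nat_lit 2),
  Rule.mk (nat_lit 14) (nat_lit 119) (Steps.bwd (nat_lit 3) (Steps.bwd (nat_lit 5) (Steps.bwd (nat_lit 6) (Steps.fwd (nat_lit 57344) (Steps.fwd (nat_lit 98304) (Steps.fwd (nat_lit 114688) (Steps.fwd (nat_lit 24576) Steps.nil))))))) (nat_lit 188) (nat_lit 2),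
  Rule.mk (nat_lit 13) (nat_lit 134) (Steps.bwd (nat_lit 3) (Steps.bwd (nat_lit 14) (Steps.bwd (nat_lit 13) (Steps.bwd (nat_lit 12) (Steps.fwd (nat_lit 90112) (Steps.fwd (nat_lit 81920) (Steps.bwd (nat_lit 6) (Steps.bwd (nat_lit 2) Steps.nil)))))))) (nat_lit 187) (nat_lit 8),
  Rule.mk (nat_lit 1) (nat_lit 104) (Steps.bwd (nat_lit 4) (Steps.bwd (nat_lit 5) (Steps.fwd (nat_lit 65536) (Steps.fwd (nat_lit 73728) (Steps.bwd (nat_lit 1) (Steps.bwd (nat_lit 13) Steps.nil)))))) (nat_lit 164) (nat_lit 3),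
  Rule.mk (nat_lit 15) (nat_lit 179) (Steps.bwd (nat_lit 3) (Steps.bwd (nat_lit 1) (Steps.bwd (nat_lit 4) (Steps.fwd (nat_lit 16384) (Steps.bwd (nat_lit 1) (Steps.fwd (nat_lit 24576) (Steps.bwd (nat_lit 1) (Steps.bwd (nat_lit 2) (Steps.fwd (nat_lit 8192) (Steps.bwd (nat_lit 2) (Steps.fwd (nat_lit 8192) Steps.nil))))))))))) (nat_lit 191) (nat_lit 0),
  Rule.mk (nat_lit 18) (nat_lit 179) (Steps.bwd (nat_lit 1) (Steps.bwd (nat_lit 3) (Steps.fwd (nat_lit 32768) (Steps.bwd (nat_lit 1) (Steps.fwd (nat_lit 24576) (Steps.bwd (nat_lit 1) (Steps.bwd (nat_lit 2) (Steps.fwd (nat_lit 8192) (Steps.fwd (nat_lit 16384) (Steps.fwd (nat_lit 8192) (Steps.bwd (nat_lit 3) Steps.nil))))))))))) (nat_lit 192) (nat_lit 1),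
  Rule.mk (nat_lit 1) (nat_lit 104) (Steps.bwd (nat_lit 11) (Steps.bwd (nat_lit 1) (Steps.fwd (nat_lit 114688) (Steps.bwd (nat_lit 12) (Steps.fwd (nat_lit 90112) (Steps.fwd (nat_lit 49152) Steps.nil)))))) (nat_lit 161) (nat_lit 5),
  Rule.mk (nat_lit 16) (nat_lit 179) (Steps.bwd (nat_lit 1) (Steps.bwd (nat_lit 3) (Steps.fwd (nat_lit 8192) (Steps.fwd (nat_lit 16384) (Steps.bwd (nat_lit 1) (Steps.bwd (nat_lit 3) (Steps.bwd (nat_lit 1) (Steps.bwd (nat_lit 2) (Steps.fwd (nat_lit 32768) (Steps.fwd (nat_lit 8192) (Steps.fwd (nat_lit 24576) Steps.nil))))))))))) (nat_lit 190) (nat_lit 1),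
  Rule.mk (nat_lit 6) (nat_lit 104) (Steps.bwd (nat_lit 2) (Steps.bwd (nat_lit 10) (Steps.fwd (nat_lit 16384) (Steps.fwd (nat_lit 114688) (Steps.fwd (nat_lit 98304) (Steps.fwd (nat_lit 90112) Steps.nil)))))) (nat_lit 181) (nat_lit 4),
  Rule.mk (nat_lit 8) (nat_lit 89) (Steps.bwd (nat_lit 3) (Steps.bwd (nat_lit 4) (Steps.fwd (nat_lit 57344) (Steps.bwd (nat_lit 14) (Steps.fwd (nat_lit 24576) Steps.nil))))) (nat_lit 176) (nat_lit 2),
  Rule.mk (nat_lit 7) (nat_lit 104) (Steps.bwd (nat_lit 3) (Steps.bwd (nat_lit 5) (Steps.fwd (nat_lit 57344) (Steps.fwd (nat_lit 106496) (Steps.bwd (nat_lit 14) (Steps.fwd (nat_lit 24576) Steps.nil)))))) (nat_lit 174) (nat_lit 2),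
  Rule.mk (nat_lit 12) (nat_lit 104) (Steps.bwd (nat_lit 3) (Steps.bwd (nat_lit 4) (Steps.bwd (nat_lit 5) (Steps.bwd (nat_lit 8) (Steps.fwd (nat_lit 73728) (Steps.bwd (nat_lit 2) Steps.nil)))))) (nat_lit 184) (nat_lit 2),
  Rule.mk (nat_lit 5) (nat_lit 149) (Steps.bwd (nat_lit 3) (Steps.bwd (nat_lit 4) (Steps.bwd (nat_lit 5) (Steps.bwd (nat_lit 8) (Steps.fwd (nat_lit 73728) (Steps.bwd (nat_lit 12) (Steps.bwd (nat_lit 13) (Steps.bwd (nat_lit 14) (Steps.bwd (nat_lit 2) Steps.nil))))))))) (nat_lit 170) (nat_lit 2),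
  Rule.mk (nat_lit 15) (nat_lit 179) (Steps.bwd (nat_lit 3) (Steps.bwd (nat_lit 1) (Steps.bwd (nat_lit 4) (Steps.fwd (nat_lit 16384) (Steps.bwd (nat_lit 1) (Steps.fwd (nat_lit 24576) (Steps.bwd (nat_lit 1) (Steps.fwd (nat_lit 24576) (Steps.bwd (nat_lit 1) (Steps.fwd (nat_lit 24576) (Steps.bwd (nat_lit 1) Steps.nil))))))))))) (nat_lit 191) (nat_lit 0),
  Rule.mk (nat_lit 18) (nat_lit 179) (Steps.bwd (nat_lit 1) (Steps.fwd (nat_lit 16384) (Steps.bwd (nat_lit 4) (Steps.bwd (nat_lit 1) (Steps.fwd (nat_lit 24576) (Steps.bwd (nat_lit 1) (Steps.fwd (nat_lit 24576) (Steps.bwd (nat_lit 1) (Steps.fwd (nat_lit 16384) (Steps.fwd (nat_lit 8192) (Steps.fwd (nat_lit 16384) Steps.nil))))))))))) (nat_lit 192) (nat_lit 1),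
  Rule.mk (nat_lit 2) (nat_lit 89) (Steps.fwd (nat_lit 65536) (Steps.fwd (nat_lit 16384) (Steps.bwd (nat_lit 4) (Steps.bwd (nat_lit 7) (Steps.bwd (nat_lit 14) Steps.nil))))) (nat_lit 176) (nat_lit 1),
  Rule.mk (nat_lit 3) (nat_lit 119) (Steps.bwd (nat_lit 14) (Steps.fwd (nat_lit 98304) (Steps.bwd (nat_lit 7) (Steps.bwd (nat_lit 6) (Steps.fwd (nat_lit 40960) (Steps.fwd (nat_lit 24576) (Steps.bwd (nat_lit 14) Steps.nil))))))) (nat_lit 189) (nat_lit 0),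
  Rule.mk (nat_lit 2) (nat_lit 164) (Steps.bwd (nat_lit 6) (Steps.fwd (nat_lit 16384) (Steps.fwd (nat_lit 114688) (Steps.fwd (nat_lit 106496) (Steps.bwd (nat_lit 12) (Steps.fwd (nat_lit 90112) (Steps.bwd (nat_lit 10) (Steps.bwd (nat_lit 9) (Steps.fwd (nat_lit 49152) (Steps.bwd (nat_lit 5) Steps.nil)))))))))) (nat_lit 173) (nat_lit 9),
  Rule.mk (nat_lit 14) (nat_lit 104) (Steps.bwd (nat_lit 2) (Steps.fwd (nat_lit 81920) (Steps.bwd (nat_lit 3) (Steps.fwd (nat_lit 49152) (Steps.fwd (nat_lit 90112) (Steps.fwd (nat_lit 98304) Steps.nil)))))) (nat_lit 180) (nat_lit 0),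
  Rule.mk (nat_lit 16) (nat_lit 179) (Steps.bwd (nat_lit 1) (Steps.fwd (nat_lit 16384) (Steps.bwd (nat_lit 1) (Steps.fwd (nat_lit 16384) (Steps.bwd (nat_lit 1) (Steps.bwd (nat_lit 3) (Steps.fwd (nat_lit 8192) (Steps.bwd (nat_lit 2) (Steps.fwd (nat_lit 32768) (Steps.fwd (nat_lit 8192) (Steps.fwd (nat_lit 24576) Steps.nil))))))))))) (nat_lit 190) (nat_lit 1),
  Rule.mk (nat_lit 0) (nat_lit 194) (Steps.bwd (nat_lit 17) (Steps.bwd (nat_lit 2) (Steps.bwd (nat_lit 1) (Steps.fwd (nat_lit 24576) (Steps.bwd (nat_lit 1) (Steps.fwd (nat_lit 16384) (Steps.bwd (nat_lit 1) (Steps.bwd (nat_lit 3) (Steps.fwd (nat_lit 8192) (Steps.fwd (nat_lit 32768) (Steps.bwd (nat_lit 2) (Steps.fwd (nat_lit 8192) Steps.nil)))))))))))) (nat_lit 193) (nat_lit 11),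
  Rule.mk (nat_lit 0) (nat_lit 194) (Steps.bwd (nat_lit 19) (Steps.fwd (nat_lit 16384) (Steps.bwd (nat_lit 4) (Steps.bwd (nat_lit 1) (Steps.fwd (nat_lit 24576) (Steps.fwd (nat_lit 8192) (Steps.bwd (nat_lit 2) (Steps.fwd (nat_lit 8192) (Steps.bwd (nat_lit 3) (Steps.fwd (nat_lit 8192) (Steps.fwd (nat_lit 16384) (Steps.fwd (nat_lit 8192) Steps.nil)))))))))))) (nat_lit 195) (nat_lit 11),
  Rule.mk (nat_lit 19) (nat_lit 179) (Steps.bwd (nat_lit 3) (Steps.bwd (nat_lit 4) (Steps.bwd (nat_lit 1) (Steps.bwd (nat_lit 2) (Steps.bwd (nat_lit 1) (Steps.fwd (nat_lit 24576) (Steps.bwd (nat_lit 1) (Steps.fwd (nat_lit 16384) (Steps.bwd (nat_lit 1) (Steps.bwd (nat_lit 3) (Steps.fwd (nat_lit 8192) Steps.nil))))))))))) (nat_lit 195) (nat_lit 0),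
  Rule.mk (nat_lit 1) (nat_lit 839) (Steps.bwd (nat_lit 3) (Steps.fwd (nat_lit 8192) (Steps.fwd (nat_lit 24576) (Steps.bwd (nat_lit 1) (Steps.fwd (nat_lit 16384) (Steps.fwd (nat_lit 8192) (Steps.bwd (nat_lit 2) (Steps.fwd (nat_lit 8192) (Steps.fwd (nat_lit 16384) (Steps.fwd (nat_lit 8192) (Steps.bwd (nat_lit 2) (Steps.bwd (nat_lit 1) (Steps.fwd (nat_lit 16384) (Steps.bwd (nat_lit 1) (Steps.fwd (nat_lit 16384) (Steps.fwd (nat_lit 8192) (Steps.bwd (nat_lit 2) (Steps.fwd (nat_lit 8192) (Steps.fwd (nat_lit 16384) (Steps.fwd (nat_lit 8192) (Steps.bwd (nat_lit 2) (Steps.bwd (nat_lit 1) (Steps.fwd (nat_lit 16384) (Steps.bwd (nat_lit 1) (Steps.bwd (nat_lit 2) (Steps.fwd (nat_lit 8192) (Steps.bwd (nat_lit 3) (Steps.bwd (nat_lit 1) (Steps.fwd (nat_lit 16384) (Steps.bwd (nat_lit 1) (Steps.bwd (nat_lit 2) (Steps.bwd (nat_lit 1) (Steps.bwd (nat_lit 3) (Steps.bwd (nat_lit 1) (Steps.fwd (nat_lit 24576)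 (Steps.bwd (nat_lit 1) (Steps.fwd (nat_lit 16384) (Steps.bwd (nat_lit 1) (Steps.fwd (nat_lit 24576) (Steps.bwd (nat_lit 1) (Steps.fwd (nat_lit 16384) (Steps.bwd (nat_lit 1) (Steps.bwd (nat_lit 3) (Steps.fwd (nat_lit 8192) (Steps.bwd (nat_lit 2) (Steps.fwd (nat_lit 8192) (Steps.fwd (nat_lit 16384) (Steps.fwd (nat_lit 8192) (Steps.bwd (nat_lit 2) (Steps.bwd (nat_lit 1) (Steps.fwd (nat_lit 16384) (Steps.bwd (nat_lit 1) (Steps.fwd (nat_lit 24576) (Steps.fwd (nat_lit 8192) (Steps.bwd (nat_lit 3) Steps.nil))))))))))))))))))))))))))))))))))))))))))))))))))))))) (nat_lit 11) (nat_lit 12),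
  Rule.mk (nat_lit 16) (nat_lit 179) (Steps.fwd (nat_lit 8192) (Steps.bwd (nat_lit 3) (Steps.bwd (nat_lit 1) (Steps.bwd (nat_lit 3) (Steps.fwd (nat_lit 8192) (Steps.fwd (nat_lit 16384) (Steps.fwd (nat_lit 8192) (Steps.bwd (nat_lit 2) (Steps.bwd (nat_lit 4) (Steps.bwd (nat_lit 1) (Steps.fwd (nat_lit 24576) Steps.nil))))))))))) (nat_lit 190) (nat_lit 1),
  Rule.mk (nat_lit 16) (nat_lit 179) (Steps.bwd (nat_lit 1) (Steps.bwd (nat_lit 3) (Steps.fwd (nat_lit 8192) (Steps.fwd (nat_lit 16384) (Steps.fwd (nat_lit 8192) (Steps.fwd (nat_lit 16384) (Steps.fwd (nat_lit 8192) (Steps.bwd (nat_lit 2) (Steps.bwd (nat_lit 4) (Steps.bwd (nat_lit 1) (Steps.bwd (nat_lit 2) Steps.nil))))))))))) (nat_lit 190) (nat_lit 1),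
  Rule.mk (nat_lit 0) (nat_lit 194) (Steps.fwd (nat_lit 8192) (Steps.bwd (nat_lit 3) (Steps.fwd (nat_lit 8192) (Steps.bwd (nat_lit 3) (Steps.fwd (nat_lit 8192) (Steps.bwd (nat_lit 3) (Steps.fwd (nat_lit 8192) (Steps.bwd (nat_lit 2) (Steps.bwd (nat_lit 4) (Steps.bwd (nat_lit 1) (Steps.fwd (nat_lit 24576) (Steps.fwd (nat_lit 122880) Steps.nil)))))))))))) (nat_lit 190) (nat_lit 1),
  Rule.mk (nat_lit 15) (nat_lit 179) (Steps.bwd (nat_lit 3) (Steps.bwd (nat_lit 1) (Steps.bwd (nat_lit 4) (Steps.bwd (nat_lit 3) (Steps.bwd (nat_lit 1) (Steps.fwd (nat_lit 24576) (Steps.bwd (nat_lit 1) (Steps.fwd (nat_lit 24576) (Steps.bwd (nat_lit 1) (Steps.bwd (nat_lit 2) (Steps.fwd (nat_lit 8192) Steps.nil))))))))))) (nat_lit 191) (nat_lit 0),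
  Rule.mk (nat_lit 0) (nat_lit 194) (Steps.bwd (nat_lit 18) (Steps.fwd (nat_lit 8192) (Steps.bwd (nat_lit 3) (Steps.fwd (nat_lit 32768) (Steps.bwd (nat_lit 1) (Steps.fwd (nat_lit 24576) (Steps.bwd (nat_lit 1) (Steps.fwd (nat_lit 24576) (Steps.bwd (nat_lit 1) (Steps.bwd (nat_lit 3) (Steps.fwd (nat_lit 8192) (Steps.fwd (nat_lit 16384) Steps.nil)))))))))))) (nat_lit 192) (nat_lit 0)]
noncomputable def R_36 : List (Rule) := [Rule.mk (nat_lit 0) (nat_lit 194) (Steps.bwd (nat_lit 17) (Steps.bwd (nat_lit 2) (Steps.bwd (nat_lit 1) (Steps.fwd (nat_lit 24576) (Steps.fwd (nat_lit 8192) (Steps.bwd (nat_lit 3) (Steps.bwd (nat_lit 1) (Steps.bwd (nat_lit 3) (Steps.fwd (nat_lit 8192) (Steps.bwd (nat_lit 4) (Steps.fwd (nat_lit 24576) (Steps.fwd (nat_lit 8192) Steps.nil)))))))))))) (nat_lit 193) (nat_lit 11),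
  Rule.mk (nat_lit 0) (nat_lit 194) (Steps.bwd (nat_lit 18) (Steps.fwd (nat_lit 8192) (Steps.fwd (nat_lit 16384) (Steps.fwd (nat_lit 32768) (Steps.bwd (nat_lit 1) (Steps.bwd (nat_lit 2) (Steps.bwd (nat_lit 1) (Steps.fwd (nat_lit 24576) (Steps.fwd (nat_lit 8192) (Steps.bwd (nat_lit 3) (Steps.fwd (nat_lit 8192) (Steps.bwd (nat_lit 3) Steps.nil)))))))))))) (nat_lit 192) (nat_lit 0),
  Rule.mk (nat_lit 0) (nat_lit 194) (Steps.bwd (nat_lit 1) (Steps.bwd (nat_lit 2) (Steps.bwd (nat_lit 1) (Steps.fwd (nat_lit 24576) (Steps.fwd (nat_lit 8192) (Steps.bwd (nat_lit 3) (Steps.bwd (nat_lit 1) (Steps.bwd (nat_lit 3) (Steps.fwd (nat_lit 8192) (Steps.bwd (nat_lit 4) (Steps.fwd (nat_lit 24576) (Steps.fwd (nat_lit 155648) Steps.nil)))))))))))) (nat_lit 194) (nat_lit 1),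
  Rule.mk (nat_lit 19) (nat_lit 44) (Steps.bwd (nat_lit 0) (Steps.fwd (nat_lit 155648) Steps.nil)) (nat_lit 196) (nat_lit 0),
  Rule.mk (nat_lit 0) (nat_lit 194) (Steps.bwd (nat_lit 19) (Steps.fwd (nat_lit 16384) (Steps.fwd (nat_lit 32768) (Steps.bwd (nat_lit 1) (Steps.bwd (nat_lit 2) (Steps.bwd (nat_lit 1) (Steps.fwd (nat_lit 24576) (Steps.fwd (nat_lit 8192) (Steps.bwd (nat_lit 3) (Steps.fwd (nat_lit 8192) (Steps.bwd (nat_lit 3) (Steps.fwd (nat_lit 8192) Steps.nil)))))))))))) (nat_lit 195) (nat_lit 11),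
  Rule.mk (nat_lit 20) (nat_lit 179) (Steps.bwd (nat_lit 1) (Steps.fwd (nat_lit 24576) (Steps.bwd (nat_lit 1) (Steps.fwd (nat_lit 24576) (Steps.bwd (nat_lit 1) (Steps.bwd (nat_lit 3) (Steps.bwd (nat_lit 1) (Steps.bwd (nat_lit 3) (Steps.fwd (nat_lit 8192) (Steps.fwd (nat_lit 32768) (Steps.fwd (nat_lit 24576) Steps.nil))))))))))) (nat_lit 194) (nat_lit 1),
  Rule.mk (nat_lit 19) (nat_lit 179) (Steps.bwd (nat_lit 3) (Steps.fwd (nat_lit 32768) (Steps.bwd (nat_lit 1) (Steps.fwd (nat_lit 24576) (Steps.bwd (nat_lit 1) (Steps.fwd (nat_lit 24576) (Steps.bwd (nat_lit 1) (Steps.bwd (nat_lit 3) (Steps.fwd (nat_lit 8192) (Steps.fwd (nat_lit 16384) (Steps.fwd (nat_lit 8192) Steps.nil))))))))))) (nat_lit 195) (nat_lit 0),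
  Rule.mk (nat_lit 11) (nat_lit 164) (Steps.bwd (nat_lit 3) (Steps.fwd (nat_lit 32768) (Steps.bwd (nat_lit 5) (Steps.bwd (nat_lit 8) (Steps.bwd (nat_lit 9) (Steps.bwd (nat_lit 10) (Steps.fwd (nat_lit 90112) (Steps.bwd (nat_lit 12) (Steps.bwd (nat_lit 14) (Steps.bwd (nat_lit 2) Steps.nil)))))))))) (nat_lit 182) (nat_lit 2),
  Rule.mk (nat_lit 15) (nat_lit 179) (Steps.bwd (nat_lit 3) (Steps.bwd (nat_lit 1) (Steps.fwd (nat_lit 32768) (Steps.bwd (nat_lit 3) (Steps.fwd (nat_lit 8192) (Steps.bwd (nat_lit 2) (Steps.bwd (nat_lit 1) (Steps.fwd (nat_lit 24576) (Steps.bwd (nat_lit 1) (Steps.bwd (nat_lit 2) (Steps.bwd (nat_lit 1) Steps.nil))))))))))) (nat_lit 191) (nat_lit 0),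
  Rule.mk (nat_lit 2) (nat_lit 104) (Steps.bwd (nat_lit 10) (Steps.fwd (nat_lit 16384) (Steps.bwd (nat_lit 6) (Steps.fwd (nat_lit 90112) (Steps.bwd (nat_lit 12) (Steps.fwd (nat_lit 114688) Steps.nil)))))) (nat_lit 180) (nat_lit 1),
  Rule.mk (nat_lit 16) (nat_lit 179) (Steps.bwd (nat_lit 1) (Steps.bwd (nat_lit 3) (Steps.fwd (nat_lit 8192) (Steps.bwd (nat_lit 3) (Steps.bwd (nat_lit 1) (Steps.bwd (nat_lit 3) (Steps.bwd (nat_lit 1) (Steps.bwd (nat_lit 2) (Steps.fwd (nat_lit 32768) (Steps.bwd (nat_lit 1) (Steps.bwd (nat_lit 2) Steps.nil))))))))))) (nat_lit 190) (nat_lit 1),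
  Rule.mk (nat_lit 18) (nat_lit 179) (Steps.bwd (nat_lit 1) (Steps.fwd (nat_lit 16384) (Steps.bwd (nat_lit 4) (Steps.fwd (nat_lit 8192) (Steps.fwd (nat_lit 24576) (Steps.bwd (nat_lit 1) (Steps.bwd (nat_lit 2) (Steps.fwd (nat_lit 8192) (Steps.fwd (nat_lit 16384) (Steps.fwd (nat_lit 8192) (Steps.bwd (nat_lit 3) Steps.nil))))))))))) (nat_lit 192) (nat_lit 1),
  Rule.mk (nat_lit 20) (nat_lit 179) (Steps.fwd (nat_lit 8192) (Steps.fwd (nat_lit 24576) (Steps.bwd (nat_lit 1) (Steps.bwd (nat_lit 2) (Steps.fwd (nat_lit 8192) (Steps.fwd (nat_lit 16384) (Steps.fwd (nat_lit 8192) (Steps.bwd (nat_lit 3) (Steps.bwd (nat_lit 1) (Steps.fwd (nat_lit 32768) (Steps.bwd (nat_lit 2) Steps.nil))))))))))) (nat_lit 194) (nat_lit 1),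
  Rule.mk (nat_lit 2) (nat_lit 179) (Steps.bwd (nat_lit 16) (Steps.bwd (nat_lit 1) (Steps.fwd (nat_lit 16384) (Steps.fwd (nat_lit 8192) (Steps.fwd (nat_lit 16384) (Steps.fwd (nat_lit 8192) (Steps.fwd (nat_lit 16384) (Steps.fwd (nat_lit 8192) (Steps.fwd (nat_lit 24576) (Steps.bwd (nat_lit 4) (Steps.bwd (nat_lit 1) Steps.nil))))))))))) (nat_lit 190) (nat_lit 0),
  Rule.mk (nat_lit 17) (nat_lit 179) (Steps.bwd (nat_lit 2) (Steps.fwd (nat_lit 8192) (Steps.bwd (nat_lit 2) (Steps.bwd (nat_lit 1) (Steps.bwd (nat_lit 3) (Steps.fwd (nat_lit 8192) (Steps.bwd (nat_lit 3) (Steps.bwd (nat_lit 1) (Steps.bwd (nat_lit 4) (Steps.bwd (nat_lit 2) (Steps.fwd (nat_lit 8192) Steps.nil))))))))))) (nat_lit 193) (nat_lit 0),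
  Rule.mk (nat_lit 2) (nat_lit 104) (Steps.bwd (nat_lit 12) (Steps.fwd (nat_lit 16384) (Steps.fwd (nat_lit 32768) (Steps.bwd (nat_lit 5) (Steps.fwd (nat_lit 65536) (Steps.bwd (nat_lit 9) Steps.nil)))))) (nat_lit 184) (nat_lit 1),
  Rule.mk (nat_lit 1) (nat_lit 179) (Steps.bwd (nat_lit 17) (Steps.fwd (nat_lit 24576) (Steps.fwd (nat_lit 8192) (Steps.fwd (nat_lit 24576) (Steps.bwd (nat_lit 1) (Steps.bwd (nat_lit 3) (Steps.fwd (nat_lit 8192) (Steps.fwd (nat_lit 16384) (Steps.bwd (nat_lit 1) (Steps.bwd (nat_lit 4) (Steps.bwd (nat_lit 2) Steps.nil))))))))))) (nat_lit 193) (nat_lit 11),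
  Rule.mk (nat_lit 0) (nat_lit 194) (Steps.bwd (nat_lit 20) (Steps.bwd (nat_lit 1) (Steps.fwd (nat_lit 24576) (Steps.fwd (nat_lit 8192) (Steps.fwd (nat_lit 24576) (Steps.bwd (nat_lit 1) (Steps.bwd (nat_lit 3) (Steps.fwd (nat_lit 8192) (Steps.fwd (nat_lit 16384) (Steps.bwd (nat_lit 1) (Steps.bwd (nat_lit 4) (Steps.bwd (nat_lit 2) Steps.nil)))))))))))) (nat_lit 194) (nat_lit 0),
  Rule.mk (nat_lit 14) (nat_lit 134) (Steps.bwd (nat_lit 1) (Steps.bwd (nat_lit 6) (Steps.bwd (nat_lit 10) (Steps.bwd (nat_lit 11) (Steps.fwd (nat_lit 98304) (Steps.fwd (nat_lit 106496) (Steps.fwd (nat_lit 114688) (Steps.bwd (nat_lit 1) Steps.nil)))))))) (nat_lit 166) (nat_lit 2),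
  Rule.mk (nat_lit 12) (nat_lit 164) (Steps.bwd (nat_lit 1) (Steps.bwd (nat_lit 4) (Steps.fwd (nat_lit 40960) (Steps.bwd (nat_lit 8) (Steps.fwd (nat_lit 73728) (Steps.bwd (nat_lit 10) (Steps.fwd (nat_lit 90112) (Steps.fwd (nat_lit 98304) (Steps.fwd (nat_lit 114688) (Steps.bwd (nat_lit 1) Steps.nil)))))))))) (nat_lit 162) (nat_lit 2),
  Rule.mk (nat_lit 1) (nat_lit 134) (Steps.bwd (nat_lit 10) (Steps.fwd (nat_lit 8192) (Steps.bwd (nat_lit 4) (Steps.bwd (nat_lit 5) (Steps.fwd (nat_lit 65536) (Steps.bwd (nat_lit 9) (Steps.bwd (nat_lit 11) (Steps.bwd (nat_lit 14) Steps.nil)))))))) (nat_lit 158) (nat_lit 1),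
  Rule.mk (nat_lit 2) (nat_lit 134) (Steps.bwd (nat_lit 9) (Steps.fwd (nat_lit 16384) (Steps.bwd (nat_lit 4) (Steps.bwd (nat_lit 5) (Steps.fwd (nat_lit 65536) (Steps.bwd (nat_lit 9) (Steps.bwd (nat_lit 11) (Steps.bwd (nat_lit 14) Steps.nil)))))))) (nat_lit 178) (nat_lit 1),
  Rule.mk (nat_lit 15) (nat_lit 179) (Steps.bwd (nat_lit 3) (Steps.fwd (nat_lit 8192) (Steps.fwd (nat_lit 32768) (Steps.fwd (nat_lit 16384) (Steps.bwd (nat_lit 1) (Steps.fwd (nat_lit 24576) (Steps.fwd (nat_lit 8192) (Steps.bwd (nat_lit 2) (Steps.bwd (nat_lit 1) (Steps.fwd (nat_lit 24576) (Steps.bwd (nat_lit 1) Steps.nil))))))))))) (nat_lit 191) (nat_lit 0),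
  Rule.mk (nat_lit 2) (nat_lit 179) (Steps.bwd (nat_lit 16) (Steps.fwd (nat_lit 8192) (Steps.fwd (nat_lit 16384) (Steps.bwd (nat_lit 1) (Steps.fwd (nat_lit 16384) (Steps.fwd (nat_lit 8192) (Steps.fwd (nat_lit 16384) (Steps.fwd (nat_lit 8192) (Steps.fwd (nat_lit 24576) (Steps.fwd (nat_lit 32768) (Steps.bwd (nat_lit 1) Steps.nil))))))))))) (nat_lit 190) (nat_lit 0),
  Rule.mk (nat_lit 10) (nat_lit 104) (Steps.fwd (nat_lit 16384) (Steps.bwd (nat_lit 6) (Steps.fwd (nat_lit 90112) (Steps.fwd (nat_lit 98304) (Steps.fwd (nat_lit 114688) (Steps.bwd (nat_lit 2) Steps.nil)))))) (nat_lit 180) (nat_lit 2),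
  Rule.mk (nat_lit 12) (nat_lit 104) (Steps.fwd (nat_lit 16384) (Steps.fwd (nat_lit 32768) (Steps.bwd (nat_lit 5) (Steps.fwd (nat_lit 65536) (Steps.bwd (nat_lit 9) (Steps.bwd (nat_lit 2) Steps.nil)))))) (nat_lit 184) (nat_lit 2),
  Rule.mk (nat_lit 9) (nat_lit 134) (Steps.bwd (nat_lit 3) (Steps.bwd (nat_lit 4) (Steps.fwd (nat_lit 40960) (Steps.bwd (nat_lit 8) (Steps.fwd (nat_lit 73728) (Steps.fwd (nat_lit 90112) (Steps.fwd (nat_lit 114688) (Steps.bwd (nat_lit 2) Steps.nil)))))))) (nat_lit 178) (nat_lit 2),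
  Rule.mk (nat_lit 20) (nat_lit 179) (Steps.fwd (nat_lit 8192) (Steps.bwd (nat_lit 2) (Steps.fwd (nat_lit 8192) (Steps.bwd (nat_lit 2) (Steps.fwd (nat_lit 8192) (Steps.fwd (nat_lit 16384) (Steps.bwd (nat_lit 1) (Steps.fwd (nat_lit 16384) (Steps.bwd (nat_lit 1) (Steps.fwd (nat_lit 32768) (Steps.bwd (nat_lit 2) Steps.nil))))))))))) (nat_lit 194) (nat_lit 1),
  Rule.mk (nat_lit 17) (nat_lit 179) (Steps.bwd (nat_lit 2) (Steps.fwd (nat_lit 8192) (Steps.bwd (nat_lit 2) (Steps.fwd (nat_lit 8192) (Steps.fwd (nat_lit 16384) (Steps.bwd (nat_lit 1) (Steps.fwd (nat_lit 16384) (Steps.bwd (nat_lit 1) (Steps.fwd (nat_lit 32768) (Steps.bwd (nat_lit 2) (Steps.bwd (nat_lit 1) Steps.nil))))))))))) (nat_lit 193) (nat_lit 0),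
  Rule.mk (nat_lit 10) (nat_lit 134) (Steps.bwd (nat_lit 1) (Steps.fwd (nat_lit 32768) (Steps.fwd (nat_lit 40960) (Steps.bwd (nat_lit 8) (Steps.fwd (nat_lit 73728) (Steps.fwd (nat_lit 90112) (Steps.bwd (nat_lit 14) (Steps.fwd (nat_lit 8192) Steps.nil)))))))) (nat_lit 158) (nat_lit 2),
  Rule.mk (nat_lit 2) (nat_lit 179) (Steps.bwd (nat_lit 1) (Steps.bwd (nat_lit 2) (Steps.fwd (nat_lit 8192) (Steps.fwd (nat_lit 16384) (Steps.bwd (nat_lit 1) (Steps.bwd (nat_lit 3) (Steps.fwd (nat_lit 8192) (Steps.bwd (nat_lit 4) (Steps.bwd (nat_lit 2) (Steps.bwd (nat_lit 1) (Steps.fwd (nat_lit 147456) Steps.nil))))))))))) (nat_lit 193) (nat_lit 1),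
  Rule.mk (nat_lit 0) (nat_lit 74) (Steps.bwd (nat_lit 2) (Steps.fwd (nat_lit 32768) (Steps.fwd (nat_lit 16384) (Steps.fwd (nat_lit 32768) Steps.nil)))) (nat_lit 168) (nat_lit 0),
  Rule.mk (nat_lit 7) (nat_lit 104) (Steps.fwd (nat_lit 16384) (Steps.bwd (nat_lit 5) (Steps.fwd (nat_lit 57344) (Steps.bwd (nat_lit 13) (Steps.fwd (nat_lit 114688) (Steps.fwd (nat_lit 24576) Steps.nil)))))) (nat_lit 174) (nat_lit 2),
  Rule.mk (nat_lit 20) (nat_lit 179) (Steps.bwd (nat_lit 1) (Steps.fwd (nat_lit 24576) (Steps.bwd (nat_lit 1) (Steps.bwd (nat_lit 2) (Steps.fwd (nat_lit 8192) (Steps.fwd (nat_lit 16384) (Steps.bwd (nat_lit 1) (Steps.bwd (nat_lit 3) (Steps.fwd (nat_lit 8192) (Steps.bwd (nat_lit 4) (Steps.bwd (nat_lit 2) Steps.nil))))))))))) (nat_lit 194) (nat_lit 1),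
  Rule.mk (nat_lit 11) (nat_lit 59) (Steps.bwd (nat_lit 7) (Steps.bwd (nat_lit 11) (Steps.fwd (nat_lit 57344) Steps.nil))) (nat_lit 84) (nat_lit 1),
  Rule.mk (nat_lit 2) (nat_lit 104) (Steps.fwd (nat_lit 81920) (Steps.fwd (nat_lit 16384) (Steps.bwd (nat_lit 6) (Steps.fwd (nat_lit 90112) (Steps.fwd (nat_lit 98304) (Steps.bwd (nat_lit 14) Steps.nil)))))) (nat_lit 180) (nat_lit 1),
  Rule.mk (nat_lit 3) (nat_lit 119) (Steps.bwd (nat_lit 5) (Steps.bwd (nat_lit 6) (Steps.fwd (nat_lit 57344) (Steps.fwd (nat_lit 98304) (Steps.bwd (nat_lit 14) (Steps.bwd (nat_lit 2) (Steps.bwd (nat_lit 14) Steps.nil))))))) (nat_lit 188) (nat_lit 3),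
  Rule.mk (nat_lit 17) (nat_lit 179) (Steps.fwd (nat_lit 24576) (Steps.fwd (nat_lit 8192) (Steps.bwd (nat_lit 2) (Steps.bwd (nat_lit 1) (Steps.fwd (nat_lit 16384) (Steps.bwd (nat_lit 1) (Steps.bwd (nat_lit 3) (Steps.bwd (nat_lit 1) (Steps.bwd (nat_lit 4) (Steps.bwd (nat_lit 2) (Steps.fwd (nat_lit 8192) Steps.nil))))))))))) (nat_lit 193) (nat_lit 0),
  Rule.mk (nat_lit 1) (nat_lit 179) (Steps.bwd (nat_lit 19) (Steps.fwd (nat_lit 16384) (Steps.fwd (nat_lit 32768) (Steps.bwd (nat_lit 1) (Steps.fwd (nat_lit 24576) (Steps.bwd (nat_lit 1) (Steps.fwd (nat_lit 24576) (Steps.bwd (nat_lit 1) (Steps.fwd (nat_lit 16384) (Steps.fwd (nat_lit 8192) (Steps.bwd (nat_lit 3) Steps.nil))))))))))) (nat_lit 195) (nat_lit 11),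
  Rule.mk (nat_lit 6) (nat_lit 104) (Steps.bwd (nat_lit 11) (Steps.fwd (nat_lit 98304) (Steps.bwd (nat_lit 14) (Steps.fwd (nat_lit 8192) (Steps.fwd (nat_lit 90112) (Steps.bwd (nat_lit 1) Steps.nil)))))) (nat_lit 160) (nat_lit 4),
  Rule.mk (nat_lit 11) (nat_lit 104) (Steps.fwd (nat_lit 8192) (Steps.fwd (nat_lit 49152) (Steps.fwd (nat_lit 90112) (Steps.fwd (nat_lit 98304) (Steps.fwd (nat_lit 114688) (Steps.bwd (nat_lit 1) Steps.nil)))))) (nat_lit 160) (nat_lit 2),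
  Rule.mk (nat_lit 10) (nat_lit 134) (Steps.bwd (nat_lit 1) (Steps.fwd (nat_lit 32768) (Steps.bwd (nat_lit 5) (Steps.fwd (nat_lit 65536) (Steps.fwd (nat_lit 73728) (Steps.bwd (nat_lit 11) (Steps.fwd (nat_lit 114688) (Steps.bwd (nat_lit 1) Steps.nil)))))))) (nat_lit 158) (nat_lit 2),
  Rule.mk (nat_lit 3) (nat_lit 104) (Steps.bwd (nat_lit 6) (Steps.bwd (nat_lit 11) (Steps.fwd (nat_lit 98304) (Steps.bwd (nat_lit 14) (Steps.fwd (nat_lit 24576) (Steps.fwd (nat_lit 81920) Steps.nil)))))) (nat_lit 180) (nat_lit 3),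
  Rule.mk (nat_lit 16) (nat_lit 179) (Steps.bwd (nat_lit 1) (Steps.fwd (nat_lit 16384) (Steps.fwd (nat_lit 8192) (Steps.bwd (nat_lit 3) (Steps.fwd (nat_lit 8192) (Steps.bwd (nat_lit 3) (Steps.bwd (nat_lit 1) (Steps.bwd (nat_lit 2) (Steps.bwd (nat_lit 4) (Steps.fwd (nat_lit 8192) (Steps.bwd (nat_lit 2) Steps.nil))))))))))) (nat_lit 190) (nat_lit 1),
  Rule.mk (nat_lit 0) (nat_lit 194) (Steps.bwd (nat_lit 15) (Steps.bwd (nat_lit 3) (Steps.fwd (nat_lit 8192) (Steps.bwd (nat_lit 4) (Steps.bwd (nat_lit 3) (Steps.fwd (nat_lit 8192) (Steps.fwd (nat_lit 24576) (Steps.bwd (nat_lit 1) (Steps.bwd (nat_lit 2) (Steps.fwd (nat_lit 8192) (Steps.fwd (nat_lit 24576) (Steps.bwd (nat_lit 1) Steps.nil)))))))))))) (nat_lit 191) (nat_lit 11),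
  Rule.mk (nat_lit 18) (nat_lit 179) (Steps.bwd (nat_lit 1) (Steps.fwd (nat_lit 16384) (Steps.bwd (nat_lit 4) (Steps.fwd (nat_lit 8192) (Steps.fwd (nat_lit 24576) (Steps.bwd (nat_lit 1) (Steps.fwd (nat_lit 24576) (Steps.bwd (nat_lit 1) (Steps.fwd (nat_lit 16384) (Steps.fwd (nat_lit 8192) (Steps.bwd (nat_lit 3) Steps.nil))))))))))) (nat_lit 192) (nat_lit 1),
  Rule.mk (nat_lit 20) (nat_lit 179) (Steps.bwd (nat_lit 1) (Steps.fwd (nat_lit 24576) (Steps.bwd (nat_lit 1) (Steps.bwd (nat_lit 2) (Steps.fwd (nat_lit 8192) (Steps.bwd (nat_lit 3) (Steps.fwd (nat_lit 8192) (Steps.bwd (nat_lit 3) (Steps.bwd (nat_lit 1) (Steps.fwd (nat_lit 32768) (Steps.bwd (nat_lit 2) Steps.nil))))))))))) (nat_lit 194) (nat_lit 1),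
  Rule.mk (nat_lit 1) (nat_lit 134) (Steps.bwd (nat_lit 10) (Steps.fwd (nat_lit 8192) (Steps.fwd (nat_lit 32768) (Steps.bwd (nat_lit 5) (Steps.fwd (nat_lit 65536) (Steps.fwd (nat_lit 73728) (Steps.bwd (nat_lit 11) (Steps.bwd (nat_lit 14) Steps.nil)))))))) (nat_lit 158) (nat_lit 1),
  Rule.mk (nat_lit 1) (nat_lit 134) (Steps.bwd (nat_lit 10) (Steps.fwd (nat_lit 8192) (Steps.fwd (nat_lit 32768) (Steps.fwd (nat_lit 40960) (Steps.bwd (nat_lit 8) (Steps.fwd (nat_lit 73728) (Steps.bwd (nat_lit 11) (Steps.bwd (nat_lit 14) Steps.nil)))))))) (nat_lit 158) (nat_lit 1),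
  Rule.mk (nat_lit 1) (nat_lit 104) (Steps.bwd (nat_lit 11) (Steps.fwd (nat_lit 8192) (Steps.bwd (nat_lit 14) (Steps.fwd (nat_lit 98304) (Steps.bwd (nat_lit 11) (Steps.bwd (nat_lit 6) Steps.nil)))))) (nat_lit 161) (nat_lit 5),
  Rule.mk (nat_lit 6) (nat_lit 134) (Steps.bwd (nat_lit 10) (Steps.fwd (nat_lit 90112) (Steps.bwd (nat_lit 12) (Steps.bwd (nat_lit 13) (Steps.bwd (nat_lit 14) (Steps.fwd (nat_lit 24576) (Steps.bwd (nat_lit 13) (Steps.fwd (nat_lit 16384) Steps.nil)))))))) (nat_lit 186) (nat_lit 4),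
  Rule.mk (nat_lit 10) (nat_lit 59) (Steps.fwd (nat_lit 49152) (Steps.fwd (nat_lit 81920) (Steps.fwd (nat_lit 49152) Steps.nil))) (nat_lit 70) (nat_lit 1),
  Rule.mk (nat_lit 1) (nat_lit 134) (Steps.bwd (nat_lit 14) (Steps.fwd (nat_lit 8192) (Steps.fwd (nat_lit 114688) (Steps.fwd (nat_lit 106496) (Steps.fwd (nat_lit 98304) (Steps.bwd (nat_lit 11) (Steps.fwd (nat_lit 81920) (Steps.fwd (nat_lit 49152) Steps.nil)))))))) (nat_lit 167) (nat_lit 7),
  Rule.mk (nat_lit 8) (nat_lit 104) (Steps.bwd (nat_lit 1) (Steps.fwd (nat_lit 40960) (Steps.bwd (nat_lit 7) (Steps.fwd (nat_lit 106496) (Steps.bwd (nat_lit 14) (Steps.fwd (nat_lit 8192) Steps.nil)))))) (nat_lit 154) (nat_lit 2),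
  Rule.mk (nat_lit 2) (nat_lit 89) (Steps.bwd (nat_lit 8) (Steps.bwd (nat_lit 3) (Steps.fwd (nat_lit 32768) (Steps.fwd (nat_lit 57344) (Steps.bwd (nat_lit 14) Steps.nil))))) (nat_lit 176) (nat_lit 1),
  Rule.mk (nat_lit 1) (nat_lit 179) (Steps.bwd (nat_lit 3) (Steps.bwd (nat_lit 1) (Steps.bwd (nat_lit 3) (Steps.fwd (nat_lit 8192) (Steps.bwd (nat_lit 3) (Steps.fwd (nat_lit 8192) (Steps.bwd (nat_lit 2) (Steps.fwd (nat_lit 32768) (Steps.bwd (nat_lit 1) (Steps.bwd (nat_lit 2) (Steps.fwd (nat_lit 122880) Steps.nil))))))))))) (nat_lit 190) (nat_lit 2),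
  Rule.mk (nat_lit 15) (nat_lit 179) (Steps.fwd (nat_lit 16384) (Steps.bwd (nat_lit 1) (Steps.bwd (nat_lit 4) (Steps.bwd (nat_lit 3) (Steps.fwd (nat_lit 8192) (Steps.bwd (nat_lit 2) (Steps.fwd (nat_lit 8192) (Steps.bwd (nat_lit 2) (Steps.bwd (nat_lit 1) (Steps.fwd (nat_lit 24576) (Steps.bwd (nat_lit 1) Steps.nil))))))))))) (nat_lit 191) (nat_lit 0),
  Rule.mk (nat_lit 0) (nat_lit 194) (Steps.bwd (nat_lit 17) (Steps.fwd (nat_lit 24576) (Steps.fwd (nat_lit 8192) (Steps.fwd (nat_lit 24576) (Steps.fwd (nat_lit 8192) (Steps.fwd (nat_lit 16384) (Steps.bwd (nat_lit 1) (Steps.fwd (nat_lit 16384) (Steps.bwd (nat_lit 1) (Steps.bwd (nat_lit 4) (Steps.bwd (nat_lit 2) (Steps.fwd (nat_lit 8192) Steps.nil)))))))))))) (nat_lit 193) (nat_lit 11),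
  Rule.mk (nat_lit 17) (nat_lit 179) (Steps.bwd (nat_lit 2) (Steps.fwd (nat_lit 8192) (Steps.bwd (nat_lit 2) (Steps.fwd (nat_lit 8192) (Steps.fwd (nat_lit 16384) (Steps.fwd (nat_lit 8192) (Steps.bwd (nat_lit 3) (Steps.fwd (nat_lit 8192) (Steps.bwd (nat_lit 4) (Steps.bwd (nat_lit 2) (Steps.fwd (nat_lit 8192) Steps.nil))))))))))) (nat_lit 193) (nat_lit 0),
  Rule.mk (nat_lit 20) (nat_lit 179) (Steps.bwd (nat_lit 1) (Steps.bwd (nat_lit 2) (Steps.fwd (nat_lit 8192) (Steps.bwd (nat_lit 2) (Steps.fwd (nat_lit 8192) (Steps.fwd (nat_lit 16384) (Steps.fwd (nat_lit 8192) (Steps.bwd (nat_lit 3) (Steps.fwd (nat_lit 8192) (Steps.bwd (nat_lit 4) (Steps.bwd (nat_lit 2) Steps.nil))))))))))) (nat_lit 194) (nat_lit 1),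
  Rule.mk (nat_lit 19) (nat_lit 179) (Steps.fwd (nat_lit 16384) (Steps.fwd (nat_lit 32768) (Steps.fwd (nat_lit 8192) (Steps.bwd (nat_lit 2) (Steps.fwd (nat_lit 8192) (Steps.bwd (nat_lit 2) (Steps.bwd (nat_lit 1) (Steps.bwd (nat_lit 3) (Steps.fwd (nat_lit 8192) (Steps.bwd (nat_lit 3) (Steps.bwd (nat_lit 1) Steps.nil))))))))))) (nat_lit 195) (nat_lit 0),
  Rule.mk (nat_lit 11) (nat_lit 104) (Steps.bwd (nat_lit 1) (Steps.fwd (nat_lit 49152) (Steps.fwd (nat_lit 90112) (Steps.bwd (nat_lit 12) (Steps.bwd (nat_lit 14) (Steps.fwd (nat_lit 8192) Steps.nil)))))) (nat_lit 160) (nat_lit 2),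
  Rule.mk (nat_lit 14) (nat_lit 104) (Steps.bwd (nat_lit 1) (Steps.bwd (nat_lit 11) (Steps.fwd (nat_lit 8192) (Steps.bwd (nat_lit 6) (Steps.bwd (nat_lit 11) (Steps.bwd (nat_lit 12) Steps.nil)))))) (nat_lit 160) (nat_lit 0),
  Rule.mk (nat_lit 3) (nat_lit 119) (Steps.bwd (nat_lit 5) (Steps.bwd (nat_lit 6) (Steps.fwd (nat_lit 57344) (Steps.fwd (nat_lit 98304) (Steps.fwd (nat_lit 114688) (Steps.fwd (nat_lit 24576) (Steps.bwd (nat_lit 14) Steps.nil))))))) (nat_lit 188) (nat_lit 3)]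
noncomputable def R_37 : List (Rule) := [Rule.mk (nat_lit 3) (nat_lit 134) (Steps.bwd (nat_lit 14) (Steps.bwd (nat_lit 11) (Steps.fwd (nat_lit 73728) (Steps.bwd (nat_lit 8) (Steps.bwd (nat_lit 5) (Steps.bwd (nat_lit 4) (Steps.bwd (nat_lit 2) (Steps.bwd (nat_lit 9) Steps.nil)))))))) (nat_lit 179) (nat_lit 0),
  Rule.mk (nat_lit 6) (nat_lit 134) (Steps.bwd (nat_lit 1) (Steps.fwd (nat_lit 114688) (Steps.fwd (nat_lit 8192) (Steps.bwd (nat_lit 14) (Steps.bwd (nat_lit 13) (Steps.bwd (nat_lit 12) (Steps.bwd (nat_lit 11) (Steps.fwd (nat_lit 81920) Steps.nil)))))))) (nat_lit 167) (nat_lit 6),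
  Rule.mk (nat_lit 1) (nat_lit 89) (Steps.fwd (nat_lit 73728) (Steps.fwd (nat_lit 8192) (Steps.fwd (nat_lit 32768) (Steps.fwd (nat_lit 57344) (Steps.bwd (nat_lit 14) Steps.nil))))) (nat_lit 156) (nat_lit 1),
  Rule.mk (nat_lit 13) (nat_lit 134) (Steps.bwd (nat_lit 3) (Steps.fwd (nat_lit 49152) (Steps.bwd (nat_lit 10) (Steps.fwd (nat_lit 90112) (Steps.bwd (nat_lit 12) (Steps.fwd (nat_lit 106496) (Steps.bwd (nat_lit 14) (Steps.fwd (nat_lit 24576) Steps.nil)))))))) (nat_lit 186) (nat_lit 2),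
  Rule.mk (nat_lit 11) (nat_lit 164) (Steps.fwd (nat_lit 16384) (Steps.bwd (nat_lit 4) (Steps.fwd (nat_lit 40960) (Steps.bwd (nat_lit 8) (Steps.bwd (nat_lit 9) (Steps.bwd (nat_lit 10) (Steps.fwd (nat_lit 90112) (Steps.bwd (nat_lit 12) (Steps.bwd (nat_lit 14) (Steps.fwd (nat_lit 24576) Steps.nil)))))))))) (nat_lit 182) (nat_lit 2),
  Rule.mk (nat_lit 18) (nat_lit 179) (Steps.bwd (nat_lit 1) (Steps.bwd (nat_lit 3) (Steps.fwd (nat_lit 32768) (Steps.fwd (nat_lit 8192) (Steps.bwd (nat_lit 2) (Steps.fwd (nat_lit 8192) (Steps.bwd (nat_lit 2) (Steps.fwd (nat_lit 8192) (Steps.fwd (nat_lit 16384) (Steps.bwd (nat_lit 1) (Steps.fwd (nat_lit 16384) Steps.nil))))))))))) (nat_lit 192) (nat_lit 1),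
  Rule.mk (nat_lit 6) (nat_lit 149) (Steps.bwd (nat_lit 1) (Steps.bwd (nat_lit 4) (Steps.fwd (nat_lit 40960) (Steps.fwd (nat_lit 65536) (Steps.bwd (nat_lit 9) (Steps.bwd (nat_lit 12) (Steps.fwd (nat_lit 106496) (Steps.bwd (nat_lit 14) (Steps.fwd (nat_lit 8192) Steps.nil))))))))) (nat_lit 150) (nat_lit 2),
  Rule.mk (nat_lit 0) (nat_lit 194) (Steps.bwd (nat_lit 3) (Steps.fwd (nat_lit 32768) (Steps.fwd (nat_lit 8192) (Steps.bwd (nat_lit 2) (Steps.fwd (nat_lit 8192) (Steps.bwd (nat_lit 2) (Steps.fwd (nat_lit 8192) (Steps.fwd (nat_lit 16384) (Steps.bwd (nat_lit 1) (Steps.fwd (nat_lit 16384) (Steps.bwd (nat_lit 1) (Steps.fwd (nat_lit 163840) Steps.nil)))))))))))) (nat_lit 195) (nat_lit 0),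
  Rule.mk (nat_lit 3) (nat_lit 89) (Steps.bwd (nat_lit 4) (Steps.fwd (nat_lit 57344) (Steps.fwd (nat_lit 114688) (Steps.fwd (nat_lit 24576) (Steps.bwd (nat_lit 8) Steps.nil))))) (nat_lit 176) (nat_lit 3),
  Rule.mk (nat_lit 2) (nat_lit 179) (Steps.bwd (nat_lit 16) (Steps.fwd (nat_lit 8192) (Steps.fwd (nat_lit 16384) (Steps.fwd (nat_lit 8192) (Steps.fwd (nat_lit 16384) (Steps.fwd (nat_lit 8192) (Steps.fwd (nat_lit 16384) (Steps.fwd (nat_lit 8192) (Steps.fwd (nat_lit 24576) (Steps.fwd (nat_lit 32768) (Steps.bwd (nat_lit 1) Steps.nil))))))))))) (nat_lit 190) (nat_lit 0),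
  Rule.mk (nat_lit 7) (nat_lit 104) (Steps.bwd (nat_lit 3) (Steps.bwd (nat_lit 14) (Steps.bwd (nat_lit 13) (Steps.fwd (nat_lit 57344) (Steps.bwd (nat_lit 5) (Steps.bwd (nat_lit 2) Steps.nil)))))) (nat_lit 175) (nat_lit 6),
  Rule.mk (nat_lit 10) (nat_lit 104) (Steps.bwd (nat_lit 3) (Steps.bwd (nat_lit 6) (Steps.bwd (nat_lit 11) (Steps.bwd (nat_lit 12) (Steps.bwd (nat_lit 14) (Steps.bwd (nat_lit 2) Steps.nil)))))) (nat_lit 180) (nat_lit 2),
  Rule.mk (nat_lit 9) (nat_lit 134) (Steps.fwd (nat_lit 16384) (Steps.bwd (nat_lit 4) (Steps.bwd (nat_lit 5) (Steps.bwd (nat_lit 8) (Steps.fwd (nat_lit 73728) (Steps.fwd (nat_lit 90112) (Steps.bwd (nat_lit 14) (Steps.bwd (nat_lit 2) Steps.nil)))))))) (nat_lit 178) (nat_lit 2),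
  Rule.mk (nat_lit 11) (nat_lit 164) (Steps.bwd (nat_lit 3) (Steps.fwd (nat_lit 32768) (Steps.bwd (nat_lit 5) (Steps.fwd (nat_lit 65536) (Steps.fwd (nat_lit 73728) (Steps.fwd (nat_lit 81920) (Steps.bwd (nat_lit 11) (Steps.bwd (nat_lit 12) (Steps.bwd (nat_lit 14) (Steps.bwd (nat_lit 2) Steps.nil)))))))))) (nat_lit 182) (nat_lit 2),
  Rule.mk (nat_lit 3) (nat_lit 104) (Steps.bwd (nat_lit 9) (Steps.bwd (nat_lit 8) (Steps.fwd (nat_lit 40960) (Steps.bwd (nat_lit 4) (Steps.fwd (nat_lit 24576) (Steps.fwd (nat_lit 98304) Steps.nil)))))) (nat_lit 185) (nat_lit 0),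
  Rule.mk (nat_lit 16) (nat_lit 179) (Steps.fwd (nat_lit 8192) (Steps.fwd (nat_lit 16384) (Steps.bwd (nat_lit 1) (Steps.bwd (nat_lit 3) (Steps.bwd (nat_lit 1) (Steps.bwd (nat_lit 3) (Steps.fwd (nat_lit 8192) (Steps.bwd (nat_lit 2) (Steps.bwd (nat_lit 4) (Steps.bwd (nat_lit 1) (Steps.bwd (nat_lit 2) Steps.nil))))))))))) (nat_lit 190) (nat_lit 1),
  Rule.mk (nat_lit 18) (nat_lit 179) (Steps.fwd (nat_lit 8192) (Steps.bwd (nat_lit 3) (Steps.fwd (nat_lit 32768) (Steps.bwd (nat_lit 1) (Steps.bwd (nat_lit 2) (Steps.bwd (nat_lit 1) (Steps.bwd (nat_lit 2) (Steps.fwd (nat_lit 8192) (Steps.fwd (nat_lit 16384) (Steps.fwd (nat_lit 8192) (Steps.fwd (nat_lit 16384) Steps.nil))))))))))) (nat_lit 192) (nat_lit 1),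
  Rule.mk (nat_lit 20) (nat_lit 179) (Steps.bwd (nat_lit 1) (Steps.bwd (nat_lit 2) (Steps.bwd (nat_lit 1) (Steps.bwd (nat_lit 2) (Steps.fwd (nat_lit 8192) (Steps.fwd (nat_lit 16384) (Steps.fwd (nat_lit 8192) (Steps.fwd (nat_lit 16384) (Steps.fwd (nat_lit 8192) (Steps.bwd (nat_lit 4) (Steps.fwd (nat_lit 24576) Steps.nil))))))))))) (nat_lit 194) (nat_lit 1),
  Rule.mk (nat_lit 2) (nat_lit 164) (Steps.bwd (nat_lit 11) (Steps.fwd (nat_lit 16384) (Steps.bwd (nat_lit 4) (Steps.bwd (nat_lit 5) (Steps.fwd (nat_lit 65536) (Steps.bwd (nat_lit 9) (Steps.bwd (nat_lit 10) (Steps.fwd (nat_lit 90112) (Steps.bwd (nat_lit 12) (Steps.fwd (nat_lit 114688) Steps.nil)))))))))) (nat_lit 182) (nat_lit 1),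
  Rule.mk (nat_lit 1) (nat_lit 89) (Steps.fwd (nat_lit 32768) (Steps.fwd (nat_lit 57344) (Steps.bwd (nat_lit 14) (Steps.fwd (nat_lit 8192) (Steps.bwd (nat_lit 9) Steps.nil))))) (nat_lit 156) (nat_lit 3),
  Rule.mk (nat_lit 16) (nat_lit 179) (Steps.bwd (nat_lit 1) (Steps.bwd (nat_lit 3) (Steps.fwd (nat_lit 8192) (Steps.fwd (nat_lit 16384) (Steps.bwd (nat_lit 1) (Steps.fwd (nat_lit 16384) (Steps.fwd (nat_lit 8192) (Steps.fwd (nat_lit 24576) (Steps.fwd (nat_lit 32768) (Steps.bwd (nat_lit 1) (Steps.fwd (nat_lit 24576) Steps.nil))))))))))) (nat_lit 190) (nat_lit 1),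
  Rule.mk (nat_lit 18) (nat_lit 179) (Steps.bwd (nat_lit 1) (Steps.bwd (nat_lit 3) (Steps.fwd (nat_lit 32768) (Steps.fwd (nat_lit 8192) (Steps.fwd (nat_lit 24576) (Steps.bwd (nat_lit 1) (Steps.fwd (nat_lit 24576) (Steps.bwd (nat_lit 1) (Steps.fwd (nat_lit 16384) (Steps.fwd (nat_lit 8192) (Steps.fwd (nat_lit 16384) Steps.nil))))))))))) (nat_lit 192) (nat_lit 1),
  Rule.mk (nat_lit 20) (nat_lit 179) (Steps.fwd (nat_lit 8192) (Steps.bwd (nat_lit 2) (Steps.bwd (nat_lit 1) (Steps.fwd (nat_lit 24576) (Steps.bwd (nat_lit 1) (Steps.fwd (nat_lit 16384) (Steps.fwd (nat_lit 8192) (Steps.bwd (nat_lit 3) (Steps.fwd (nat_lit 8192) (Steps.fwd (nat_lit 32768) (Steps.fwd (nat_lit 24576) Steps.nil))))))))))) (nat_lit 194) (nat_lit 1),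
  Rule.mk (nat_lit 2) (nat_lit 104) (Steps.bwd (nat_lit 7) (Steps.bwd (nat_lit 3) (Steps.bwd (nat_lit 5) (Steps.bwd (nat_lit 7) (Steps.fwd (nat_lit 106496) (Steps.bwd (nat_lit 14) Steps.nil)))))) (nat_lit 174) (nat_lit 1),
  Rule.mk (nat_lit 1) (nat_lit 104) (Steps.bwd (nat_lit 13) (Steps.bwd (nat_lit 1) (Steps.bwd (nat_lit 4) (Steps.fwd (nat_lit 40960) (Steps.bwd (nat_lit 8) (Steps.fwd (nat_lit 73728) Steps.nil)))))) (nat_lit 164) (nat_lit 1),
  Rule.mk (nat_lit 2) (nat_lit 89) (Steps.fwd (nat_lit 65536) (Steps.bwd (nat_lit 3) (Steps.bwd (nat_lit 4) (Steps.fwd (nat_lit 57344) (Steps.bwd (nat_lit 14) Steps.nil))))) (nat_lit 176) (nat_lit 1),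
  Rule.mk (nat_lit 19) (nat_lit 179) (Steps.fwd (nat_lit 16384) (Steps.fwd (nat_lit 32768) (Steps.bwd (nat_lit 1) (Steps.bwd (nat_lit 2) (Steps.bwd (nat_lit 1) (Steps.bwd (nat_lit 2) (Steps.fwd (nat_lit 8192) (Steps.bwd (nat_lit 3) (Steps.bwd (nat_lit 1) (Steps.bwd (nat_lit 3) (Steps.bwd (nat_lit 1) Steps.nil))))))))))) (nat_lit 195) (nat_lit 0),
  Rule.mk (nat_lit 10) (nat_lit 134) (Steps.bwd (nat_lit 1) (Steps.bwd (nat_lit 4) (Steps.fwd (nat_lit 40960) (Steps.fwd (nat_lit 65536) (Steps.bwd (nat_lit 9) (Steps.fwd (nat_lit 90112) (Steps.bwd (nat_lit 14) (Steps.fwd (nat_lit 8192) Steps.nil)))))))) (nat_lit 158) (nat_lit 2),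
  Rule.mk (nat_lit 6) (nat_lit 134) (Steps.bwd (nat_lit 1) (Steps.fwd (nat_lit 114688) (Steps.fwd (nat_lit 8192) (Steps.bwd (nat_lit 14) (Steps.bwd (nat_lit 13) (Steps.fwd (nat_lit 98304) (Steps.fwd (nat_lit 90112) (Steps.bwd (nat_lit 10) Steps.nil)))))))) (nat_lit 167) (nat_lit 6),
  Rule.mk (nat_lit 0) (nat_lit 194) (Steps.bwd (nat_lit 15) (Steps.fwd (nat_lit 16384) (Steps.fwd (nat_lit 8192) (Steps.fwd (nat_lit 32768) (Steps.bwd (nat_lit 3) (Steps.bwd (nat_lit 1) (Steps.fwd (nat_lit 24576) (Steps.bwd (nat_lit 1) (Steps.fwd (nat_lit 24576) (Steps.fwd (nat_lit 8192) (Steps.fwd (nat_lit 24576) (Steps.fwd (nat_lit 8192) Steps.nil)))))))))))) (nat_lit 191) (nat_lit 11),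
  Rule.mk (nat_lit 16) (nat_lit 179) (Steps.bwd (nat_lit 1) (Steps.bwd (nat_lit 3) (Steps.fwd (nat_lit 8192) (Steps.bwd (nat_lit 3) (Steps.fwd (nat_lit 8192) (Steps.fwd (nat_lit 16384) (Steps.bwd (nat_lit 1) (Steps.bwd (nat_lit 2) (Steps.fwd (nat_lit 32768) (Steps.bwd (nat_lit 1) (Steps.fwd (nat_lit 24576) Steps.nil))))))))))) (nat_lit 190) (nat_lit 1),
  Rule.mk (nat_lit 0) (nat_lit 194) (Steps.bwd (nat_lit 2) (Steps.fwd (nat_lit 8192) (Steps.bwd (nat_lit 2) (Steps.bwd (nat_lit 1) (Steps.fwd (nat_lit 16384) (Steps.bwd (nat_lit 1) (Steps.fwd (nat_lit 16384) (Steps.fwd (nat_lit 8192) (Steps.fwd (nat_lit 32768) (Steps.bwd (nat_lit 2) (Steps.bwd (nat_lit 1) (Steps.fwd (nat_lit 147456) Steps.nil)))))))))))) (nat_lit 193) (nat_lit 0),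
  Rule.mk (nat_lit 19) (nat_lit 179) (Steps.fwd (nat_lit 16384) (Steps.bwd (nat_lit 4) (Steps.bwd (nat_lit 1) (Steps.bwd (nat_lit 2) (Steps.fwd (nat_lit 8192) (Steps.bwd (nat_lit 2) (Steps.fwd (nat_lit 8192) (Steps.fwd (nat_lit 16384) (Steps.bwd (nat_lit 1) (Steps.bwd (nat_lit 3) (Steps.fwd (nat_lit 8192) Steps.nil))))))))))) (nat_lit 195) (nat_lit 0),
  Rule.mk (nat_lit 11) (nat_lit 104) (Steps.fwd (nat_lit 98304) (Steps.fwd (nat_lit 114688) (Steps.bwd (nat_lit 2) (Steps.fwd (nat_lit 81920) (Steps.bwd (nat_lit 3) (Steps.bwd (nat_lit 6) Steps.nil)))))) (nat_lit 180) (nat_lit 5),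
  Rule.mk (nat_lit 3) (nat_lit 164) (Steps.bwd (nat_lit 5) (Steps.fwd (nat_lit 49152) (Steps.bwd (nat_lit 9) (Steps.bwd (nat_lit 10) (Steps.fwd (nat_lit 90112) (Steps.fwd (nat_lit 98304) (Steps.bwd (nat_lit 13) (Steps.bwd (nat_lit 14) (Steps.bwd (nat_lit 2) (Steps.bwd (nat_lit 6) Steps.nil)))))))))) (nat_lit 172) (nat_lit 3),
  Rule.mk (nat_lit 16) (nat_lit 179) (Steps.bwd (nat_lit 1) (Steps.fwd (nat_lit 16384) (Steps.bwd (nat_lit 1) (Steps.fwd (nat_lit 16384) (Steps.fwd (nat_lit 8192) (Steps.bwd (nat_lit 3) (Steps.fwd (nat_lit 8192) (Steps.fwd (nat_lit 24576) (Steps.fwd (nat_lit 32768) (Steps.fwd (nat_lit 8192) (Steps.fwd (nat_lit 24576) Steps.nil))))))))))) (nat_lit 190) (nat_lit 1),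
  Rule.mk (nat_lit 15) (nat_lit 179) (Steps.bwd (nat_lit 3) (Steps.fwd (nat_lit 8192) (Steps.bwd (nat_lit 4) (Steps.bwd (nat_lit 3) (Steps.fwd (nat_lit 8192) (Steps.bwd (nat_lit 2) (Steps.fwd (nat_lit 8192) (Steps.fwd (nat_lit 24576) (Steps.bwd (nat_lit 1) (Steps.bwd (nat_lit 2) (Steps.bwd (nat_lit 1) Steps.nil))))))))))) (nat_lit 191) (nat_lit 0),
  Rule.mk (nat_lit 18) (nat_lit 179) (Steps.fwd (nat_lit 8192) (Steps.bwd (nat_lit 3) (Steps.fwd (nat_lit 32768) (Steps.bwd (nat_lit 1) (Steps.fwd (nat_lit 24576) (Steps.bwd (nat_lit 1) (Steps.fwd (nat_lit 24576) (Steps.fwd (nat_lit 8192) (Steps.bwd (nat_lit 3) (Steps.fwd (nat_lit 8192) (Steps.fwd (nat_lit 16384) Steps.nil))))))))))) (nat_lit 192) (nat_lit 1),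
  Rule.mk (nat_lit 2) (nat_lit 164) (Steps.fwd (nat_lit 49152) (Steps.bwd (nat_lit 3) (Steps.bwd (nat_lit 14) (Steps.fwd (nat_lit 106496) (Steps.fwd (nat_lit 98304) (Steps.fwd (nat_lit 90112) (Steps.bwd (nat_lit 10) (Steps.fwd (nat_lit 73728) (Steps.bwd (nat_lit 6) (Steps.bwd (nat_lit 5) Steps.nil)))))))))) (nat_lit 173) (nat_lit 9),
  Rule.mk (nat_lit 16) (nat_lit 179) (Steps.fwd (nat_lit 8192) (Steps.bwd (nat_lit 3) (Steps.fwd (nat_lit 8192) (Steps.fwd (nat_lit 16384) (Steps.bwd (nat_lit 1) (Steps.bwd (nat_lit 3) (Steps.fwd (nat_lit 8192) (Steps.bwd (nat_lit 2) (Steps.bwd (nat_lit 4) (Steps.fwd (nat_lit 8192) (Steps.bwd (nat_lit 2) Steps.nil))))))))))) (nat_lit 190) (nat_lit 1),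
  Rule.mk (nat_lit 15) (nat_lit 179) (Steps.bwd (nat_lit 3) (Steps.fwd (nat_lit 8192) (Steps.fwd (nat_lit 32768) (Steps.bwd (nat_lit 3) (Steps.bwd (nat_lit 1) (Steps.fwd (nat_lit 24576) (Steps.fwd (nat_lit 8192) (Steps.bwd (nat_lit 2) (Steps.fwd (nat_lit 8192) (Steps.bwd (nat_lit 2) (Steps.bwd (nat_lit 1) Steps.nil))))))))))) (nat_lit 191) (nat_lit 0),
  Rule.mk (nat_lit 15) (nat_lit 179) (Steps.fwd (nat_lit 16384) (Steps.bwd (nat_lit 1) (Steps.bwd (nat_lit 4) (Steps.fwd (nat_lit 16384) (Steps.fwd (nat_lit 8192) (Steps.bwd (nat_lit 2) (Steps.fwd (nat_lit 8192) (Steps.bwd (nat_lit 2) (Steps.bwd (nat_lit 1) (Steps.bwd (nat_lit 2) (Steps.fwd (nat_lit 8192) Steps.nil))))))))))) (nat_lit 191) (nat_lit 0),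
  Rule.mk (nat_lit 18) (nat_lit 179) (Steps.bwd (nat_lit 1) (Steps.fwd (nat_lit 16384) (Steps.bwd (nat_lit 4) (Steps.fwd (nat_lit 8192) (Steps.bwd (nat_lit 2) (Steps.fwd (nat_lit 8192) (Steps.bwd (nat_lit 2) (Steps.bwd (nat_lit 1) (Steps.fwd (nat_lit 16384) (Steps.fwd (nat_lit 8192) (Steps.bwd (nat_lit 3) Steps.nil))))))))))) (nat_lit 192) (nat_lit 1),
  Rule.mk (nat_lit 6) (nat_lit 104) (Steps.bwd (nat_lit 2) (Steps.fwd (nat_lit 81920) (Steps.bwd (nat_lit 3) (Steps.fwd (nat_lit 114688) (Steps.bwd (nat_lit 12) (Steps.fwd (nat_lit 90112) Steps.nil)))))) (nat_lit 181) (nat_lit 4),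
  Rule.mk (nat_lit 2) (nat_lit 104) (Steps.bwd (nat_lit 10) (Steps.fwd (nat_lit 16384) (Steps.fwd (nat_lit 49152) (Steps.bwd (nat_lit 11) (Steps.fwd (nat_lit 98304) (Steps.bwd (nat_lit 14) Steps.nil)))))) (nat_lit 180) (nat_lit 1),
  Rule.mk (nat_lit 3) (nat_lit 179) (Steps.bwd (nat_lit 18) (Steps.fwd (nat_lit 8192) (Steps.fwd (nat_lit 16384) (Steps.bwd (nat_lit 4) (Steps.fwd (nat_lit 8192) (Steps.bwd (nat_lit 2) (Steps.bwd (nat_lit 1) (Steps.fwd (nat_lit 24576) (Steps.bwd (nat_lit 1) (Steps.bwd (nat_lit 3) (Steps.fwd (nat_lit 8192) Steps.nil))))))))))) (nat_lit 192) (nat_lit 0),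
  Rule.mk (nat_lit 4) (nat_lit 59) (Steps.fwd (nat_lit 24576) (Steps.fwd (nat_lit 32768) (Steps.bwd (nat_lit 3) Steps.nil))) (nat_lit 168) (nat_lit 0),
  Rule.mk (nat_lit 1) (nat_lit 179) (Steps.bwd (nat_lit 19) (Steps.fwd (nat_lit 16384) (Steps.bwd (nat_lit 4) (Steps.fwd (nat_lit 8192) (Steps.bwd (nat_lit 2) (Steps.bwd (nat_lit 1) (Steps.fwd (nat_lit 24576) (Steps.bwd (nat_lit 1) (Steps.bwd (nat_lit 3) (Steps.fwd (nat_lit 8192) (Steps.bwd (nat_lit 3) Steps.nil))))))))))) (nat_lit 195) (nat_lit 11),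
  Rule.mk (nat_lit 0) (nat_lit 74) (Steps.fwd (nat_lit 40960) (Steps.fwd (nat_lit 8192) (Steps.fwd (nat_lit 32768) (Steps.bwd (nat_lit 1) Steps.nil)))) (nat_lit 146) (nat_lit 3),
  Rule.mk (nat_lit 15) (nat_lit 44) (Steps.bwd (nat_lit 0) (Steps.fwd (nat_lit 122880) Steps.nil)) (nat_lit 196) (nat_lit 0),
  Rule.mk (nat_lit 11) (nat_lit 104) (Steps.bwd (nat_lit 1) (Steps.fwd (nat_lit 49152) (Steps.bwd (nat_lit 11) (Steps.bwd (nat_lit 12) (Steps.bwd (nat_lit 14) (Steps.bwd (nat_lit 1) Steps.nil)))))) (nat_lit 160) (nat_lit 2),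
  Rule.mk (nat_lit 16) (nat_lit 179) (Steps.fwd (nat_lit 8192) (Steps.bwd (nat_lit 3) (Steps.bwd (nat_lit 1) (Steps.bwd (nat_lit 3) (Steps.fwd (nat_lit 8192) (Steps.bwd (nat_lit 3) (Steps.bwd (nat_lit 1) (Steps.fwd (nat_lit 24576) (Steps.bwd (nat_lit 4) (Steps.bwd (nat_lit 1) (Steps.bwd (nat_lit 2) Steps.nil))))))))))) (nat_lit 190) (nat_lit 1),
  Rule.mk (nat_lit 0) (nat_lit 194) (Steps.bwd (nat_lit 16) (Steps.bwd (nat_lit 1) (Steps.bwd (nat_lit 3) (Steps.fwd (nat_lit 8192) (Steps.bwd (nat_lit 3) (Steps.fwd (nat_lit 8192) (Steps.fwd (nat_lit 16384) (Steps.bwd (nat_lit 1) (Steps.fwd (nat_lit 24576) (Steps.bwd (nat_lit 4) (Steps.bwd (nat_lit 1) (Steps.bwd (nat_lit 2) Steps.nil)))))))))))) (nat_lit 190) (nat_lit 0),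
  Rule.mk (nat_lit 15) (nat_lit 179) (Steps.fwd (nat_lit 16384) (Steps.fwd (nat_lit 8192) (Steps.bwd (nat_lit 4) (Steps.fwd (nat_lit 16384) (Steps.bwd (nat_lit 1) (Steps.fwd (nat_lit 24576) (Steps.bwd (nat_lit 1) (Steps.fwd (nat_lit 24576) (Steps.fwd (nat_lit 8192) (Steps.bwd (nat_lit 2) (Steps.fwd (nat_lit 8192) Steps.nil))))))))))) (nat_lit 191) (nat_lit 0),
  Rule.mk (nat_lit 0) (nat_lit 194) (Steps.bwd (nat_lit 2) (Steps.fwd (nat_lit 8192) (Steps.fwd (nat_lit 24576) (Steps.bwd (nat_lit 1) (Steps.fwd (nat_lit 16384) (Steps.fwd (nat_lit 8192) (Steps.bwd (nat_lit 3) (Steps.fwd (nat_lit 8192) (Steps.bwd (nat_lit 4) (Steps.fwd (nat_lit 24576) (Steps.fwd (nat_lit 8192) (Steps.fwd (nat_lit 147456) Steps.nil)))))))))))) (nat_lit 193) (nat_lit 0),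
  Rule.mk (nat_lit 18) (nat_lit 44) (Steps.bwd (nat_lit 0) (Steps.fwd (nat_lit 147456) Steps.nil)) (nat_lit 196) (nat_lit 0),
  Rule.mk (nat_lit 18) (nat_lit 179) (Steps.fwd (nat_lit 8192) (Steps.fwd (nat_lit 16384) (Steps.fwd (nat_lit 32768) (Steps.fwd (nat_lit 8192) (Steps.bwd (nat_lit 2) (Steps.bwd (nat_lit 1) (Steps.fwd (nat_lit 24576) (Steps.bwd (nat_lit 1) (Steps.bwd (nat_lit 3) (Steps.fwd (nat_lit 8192) (Steps.fwd (nat_lit 16384) Steps.nil))))))))))) (nat_lit 192) (nat_lit 1),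
  Rule.mk (nat_lit 18) (nat_lit 179) (Steps.fwd (nat_lit 8192) (Steps.fwd (nat_lit 16384) (Steps.bwd (nat_lit 4) (Steps.bwd (nat_lit 1) (Steps.fwd (nat_lit 24576) (Steps.bwd (nat_lit 1) (Steps.fwd (nat_lit 24576) (Steps.fwd (nat_lit 8192) (Steps.fwd (nat_lit 16384) (Steps.bwd (nat_lit 1) (Steps.fwd (nat_lit 16384) Steps.nil))))))))))) (nat_lit 192) (nat_lit 1),
  Rule.mk (nat_lit 0) (nat_lit 194) (Steps.fwd (nat_lit 24576) (Steps.fwd (nat_lit 8192) (Steps.bwd (nat_lit 2) (Steps.fwd (nat_lit 8192) (Steps.fwd (nat_lit 16384) (Steps.bwd (nat_lit 1) (Steps.bwd (nat_lit 3) (Steps.fwd (nat_lit 8192) (Steps.bwd (nat_lit 4) (Steps.fwd (nat_lit 24576) (Steps.bwd (nat_lit 1) (Steps.fwd (nat_lit 147456) Steps.nil)))))))))))) (nat_lit 193) (nat_lit 0),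
  Rule.mk (nat_lit 11) (nat_lit 44) (Steps.bwd (nat_lit 0) (Steps.fwd (nat_lit 90112) Steps.nil)) (nat_lit 196) (nat_lit 0),
  Rule.mk (nat_lit 0) (nat_lit 194) (Steps.bwd (nat_lit 18) (Steps.fwd (nat_lit 8192) (Steps.fwd (nat_lit 16384) (Steps.bwd (nat_lit 4) (Steps.fwd (nat_lit 8192) (Steps.fwd (nat_lit 24576) (Steps.bwd (nat_lit 1) (Steps.fwd (nat_lit 24576) (Steps.fwd (nat_lit 8192) (Steps.bwd (nat_lit 3) (Steps.fwd (nat_lit 8192) (Steps.fwd (nat_lit 16384) Steps.nil)))))))))))) (nat_lit 192) (nat_lit 0),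
  Rule.mk (nat_lit 0) (nat_lit 194) (Steps.bwd (nat_lit 19) (Steps.fwd (nat_lit 16384) (Steps.bwd (nat_lit 4) (Steps.fwd (nat_lit 8192) (Steps.fwd (nat_lit 24576) (Steps.bwd (nat_lit 1) (Steps.fwd (nat_lit 24576) (Steps.fwd (nat_lit 8192) (Steps.bwd (nat_lit 3) (Steps.fwd (nat_lit 8192) (Steps.fwd (nat_lit 16384) (Steps.bwd (nat_lit 1) Steps.nil)))))))))))) (nat_lit 195) (nat_lit 11),
  Rule.mk (nat_lit 20) (nat_lit 179) (Steps.bwd (nat_lit 1) (Steps.fwd (nat_lit 24576) (Steps.fwd (nat_lit 8192) (Steps.bwd (nat_lit 2) (Steps.fwd (nat_lit 8192) (Steps.fwd (nat_lit 16384) (Steps.bwd (nat_lit 1) (Steps.bwd (nat_lit 3) (Steps.fwd (nat_lit 8192) (Steps.bwd (nat_lit 4) (Steps.fwd (nat_lit 24576) Steps.nil))))))))))) (nat_lit 194) (nat_lit 1),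
  Rule.mk (nat_lit 1) (nat_lit 179) (Steps.bwd (nat_lit 2) (Steps.fwd (nat_lit 8192) (Steps.bwd (nat_lit 2) (Steps.bwd (nat_lit 1) (Steps.bwd (nat_lit 3) (Steps.fwd (nat_lit 8192) (Steps.bwd (nat_lit 3) (Steps.fwd (nat_lit 8192) (Steps.fwd (nat_lit 32768) (Steps.bwd (nat_lit 2) (Steps.fwd (nat_lit 155648) Steps.nil))))))))))) (nat_lit 194) (nat_lit 2)]
noncomputable def R_38 : List (Rule) := [Rule.mk (nat_lit 14) (nat_lit 89) (Steps.bwd (nat_lit 1) (Steps.fwd (nat_lit 73728) (Steps.bwd (nat_lit 1) (Steps.bwd (nat_lit 4) (Steps.fwd (nat_lit 57344) Steps.nil))))) (nat_lit 156) (nat_lit 0),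
  Rule.mk (nat_lit 9) (nat_lit 89) (Steps.bwd (nat_lit 1) (Steps.fwd (nat_lit 114688) (Steps.fwd (nat_lit 57344) (Steps.bwd (nat_lit 4) (Steps.fwd (nat_lit 8192) Steps.nil))))) (nat_lit 157) (nat_lit 5),
  Rule.mk (nat_lit 12) (nat_lit 164) (Steps.bwd (nat_lit 1) (Steps.fwd (nat_lit 114688) (Steps.bwd (nat_lit 12) (Steps.fwd (nat_lit 90112) (Steps.fwd (nat_lit 81920) (Steps.bwd (nat_lit 9) (Steps.fwd (nat_lit 65536) (Steps.fwd (nat_lit 40960) (Steps.bwd (nat_lit 4) (Steps.fwd (nat_lit 8192) Steps.nil)))))))))) (nat_lit 163) (nat_lit 10),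
  Rule.mk (nat_lit 10) (nat_lit 59) (Steps.fwd (nat_lit 98304) (Steps.fwd (nat_lit 81920) (Steps.bwd (nat_lit 12) Steps.nil))) (nat_lit 104) (nat_lit 0),
  Rule.mk (nat_lit 3) (nat_lit 104) (Steps.fwd (nat_lit 32768) (Steps.bwd (nat_lit 5) (Steps.bwd (nat_lit 8) (Steps.bwd (nat_lit 9) (Steps.bwd (nat_lit 2) (Steps.bwd (nat_lit 12) Steps.nil)))))) (nat_lit 184) (nat_lit 3),
  Rule.mk (nat_lit 2) (nat_lit 179) (Steps.bwd (nat_lit 16) (Steps.fwd (nat_lit 8192) (Steps.fwd (nat_lit 16384) (Steps.bwd (nat_lit 1) (Steps.fwd (nat_lit 16384) (Steps.fwd (nat_lit 8192) (Steps.bwd (nat_lit 3) (Steps.fwd (nat_lit 8192) (Steps.fwd (nat_lit 24576) (Steps.fwd (nat_lit 32768) (Steps.fwd (nat_lit 8192) Steps.nil))))))))))) (nat_lit 190) (nat_lit 0),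
  Rule.mk (nat_lit 18) (nat_lit 179) (Steps.fwd (nat_lit 8192) (Steps.bwd (nat_lit 3) (Steps.fwd (nat_lit 32768) (Steps.fwd (nat_lit 8192) (Steps.bwd (nat_lit 2) (Steps.fwd (nat_lit 8192) (Steps.bwd (nat_lit 2) (Steps.bwd (nat_lit 1) (Steps.fwd (nat_lit 16384) (Steps.fwd (nat_lit 8192) (Steps.bwd (nat_lit 3) Steps.nil))))))))))) (nat_lit 192) (nat_lit 1),
  Rule.mk (nat_lit 0) (nat_lit 194) (Steps.fwd (nat_lit 8192) (Steps.fwd (nat_lit 16384) (Steps.bwd (nat_lit 4) (Steps.fwd (nat_lit 8192) (Steps.fwd (nat_lit 24576) (Steps.bwd (nat_lit 1) (Steps.bwd (nat_lit 2) (Steps.fwd (nat_lit 8192) (Steps.fwd (nat_lit 16384) (Steps.fwd (nat_lit 8192) (Steps.fwd (nat_lit 16384) (Steps.fwd (nat_lit 139264) Steps.nil)))))))))))) (nat_lit 192) (nat_lit 1),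
  Rule.mk (nat_lit 0) (nat_lit 194) (Steps.bwd (nat_lit 20) (Steps.fwd (nat_lit 8192) (Steps.bwd (nat_lit 2) (Steps.fwd (nat_lit 8192) (Steps.bwd (nat_lit 2) (Steps.bwd (nat_lit 1) (Steps.fwd (nat_lit 16384) (Steps.fwd (nat_lit 8192) (Steps.bwd (nat_lit 3) (Steps.fwd (nat_lit 8192) (Steps.fwd (nat_lit 32768) (Steps.bwd (nat_lit 2) Steps.nil)))))))))))) (nat_lit 194) (nat_lit 0),
  Rule.mk (nat_lit 19) (nat_lit 179) (Steps.bwd (nat_lit 3) (Steps.fwd (nat_lit 32768) (Steps.fwd (nat_lit 8192) (Steps.bwd (nat_lit 2) (Steps.fwd (nat_lit 8192) (Steps.bwd (nat_lit 2) (Steps.bwd (nat_lit 1) (Steps.fwd (nat_lit 16384) (Steps.fwd (nat_lit 8192) (Steps.bwd (nat_lit 3) (Steps.fwd (nat_lit 8192) Steps.nil))))))))))) (nat_lit 195) (nat_lit 0),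
  Rule.mk (nat_lit 12) (nat_lit 104) (Steps.fwd (nat_lit 16384) (Steps.bwd (nat_lit 4) (Steps.bwd (nat_lit 5) (Steps.fwd (nat_lit 65536) (Steps.bwd (nat_lit 9) (Steps.fwd (nat_lit 24576) Steps.nil)))))) (nat_lit 184) (nat_lit 2),
  Rule.mk (nat_lit 1) (nat_lit 164) (Steps.bwd (nat_lit 12) (Steps.bwd (nat_lit 1) (Steps.bwd (nat_lit 14) (Steps.bwd (nat_lit 12) (Steps.bwd (nat_lit 11) (Steps.bwd (nat_lit 10) (Steps.bwd (nat_lit 9) (Steps.fwd (nat_lit 65536) (Steps.fwd (nat_lit 40960) (Steps.fwd (nat_lit 32768) Steps.nil)))))))))) (nat_lit 163) (nat_lit 9),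
  Rule.mk (nat_lit 16) (nat_lit 179) (Steps.bwd (nat_lit 1) (Steps.bwd (nat_lit 3) (Steps.fwd (nat_lit 8192) (Steps.fwd (nat_lit 16384) (Steps.fwd (nat_lit 8192) (Steps.bwd (nat_lit 3) (Steps.bwd (nat_lit 1) (Steps.fwd (nat_lit 24576) (Steps.fwd (nat_lit 32768) (Steps.fwd (nat_lit 8192) (Steps.fwd (nat_lit 24576) Steps.nil))))))))))) (nat_lit 190) (nat_lit 1),
  Rule.mk (nat_lit 18) (nat_lit 179) (Steps.bwd (nat_lit 1) (Steps.bwd (nat_lit 3) (Steps.fwd (nat_lit 32768) (Steps.bwd (nat_lit 1) (Steps.bwd (nat_lit 2) (Steps.fwd (nat_lit 8192) (Steps.bwd (nat_lit 2) (Steps.bwd (nat_lit 1) (Steps.bwd (nat_lit 3) (Steps.fwd (nat_lit 8192) (Steps.bwd (nat_lit 3) Steps.nil))))))))))) (nat_lit 192) (nat_lit 1),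
  Rule.mk (nat_lit 0) (nat_lit 194) (Steps.bwd (nat_lit 1) (Steps.fwd (nat_lit 16384) (Steps.fwd (nat_lit 32768) (Steps.bwd (nat_lit 1) (Steps.bwd (nat_lit 2) (Steps.fwd (nat_lit 8192) (Steps.fwd (nat_lit 24576) (Steps.fwd (nat_lit 8192) (Steps.fwd (nat_lit 16384) (Steps.fwd (nat_lit 8192) (Steps.bwd (nat_lit 3) (Steps.fwd (nat_lit 139264) Steps.nil)))))))))))) (nat_lit 192) (nat_lit 1),
  Rule.mk (nat_lit 20) (nat_lit 44) (Steps.bwd (nat_lit 0) (Steps.fwd (nat_lit 163840) Steps.nil)) (nat_lit 196) (nat_lit 0),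
  Rule.mk (nat_lit 0) (nat_lit 194) (Steps.bwd (nat_lit 19) (Steps.fwd (nat_lit 16384) (Steps.fwd (nat_lit 32768) (Steps.bwd (nat_lit 1) (Steps.bwd (nat_lit 2) (Steps.fwd (nat_lit 8192) (Steps.fwd (nat_lit 24576) (Steps.fwd (nat_lit 8192) (Steps.fwd (nat_lit 16384) (Steps.fwd (nat_lit 8192) (Steps.bwd (nat_lit 3) (Steps.fwd (nat_lit 8192) Steps.nil)))))))))))) (nat_lit 195) (nat_lit 11),
  Rule.mk (nat_lit 20) (nat_lit 179) (Steps.bwd (nat_lit 1) (Steps.fwd (nat_lit 24576) (Steps.bwd (nat_lit 1) (Steps.fwd (nat_lit 24576) (Steps.fwd (nat_lit 8192) (Steps.fwd (nat_lit 16384) (Steps.bwd (nat_lit 1) (Steps.fwd (nat_lit 16384) (Steps.fwd (nat_lit 8192) (Steps.bwd (nat_lit 4) (Steps.fwd (nat_lit 24576) Steps.nil))))))))))) (nat_lit 194) (nat_lit 1),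
  Rule.mk (nat_lit 0) (nat_lit 194) (Steps.bwd (nat_lit 15) (Steps.fwd (nat_lit 16384) (Steps.fwd (nat_lit 8192) (Steps.bwd (nat_lit 4) (Steps.fwd (nat_lit 16384) (Steps.bwd (nat_lit 1) (Steps.fwd (nat_lit 24576) (Steps.fwd (nat_lit 8192) (Steps.bwd (nat_lit 2) (Steps.bwd (nat_lit 1) (Steps.fwd (nat_lit 24576) (Steps.fwd (nat_lit 8192) Steps.nil)))))))))))) (nat_lit 191) (nat_lit 11),
  Rule.mk (nat_lit 0) (nat_lit 194) (Steps.bwd (nat_lit 15) (Steps.fwd (nat_lit 16384) (Steps.bwd (nat_lit 1) (Steps.bwd (nat_lit 4) (Steps.bwd (nat_lit 3) (Steps.bwd (nat_lit 1) (Steps.bwd (nat_lit 2) (Steps.bwd (nat_lit 1) (Steps.fwd (nat_lit 24576) (Steps.fwd (nat_lit 8192) (Steps.bwd (nat_lit 2) (Steps.bwd (nat_lit 1) Steps.nil)))))))))))) (nat_lit 191) (nat_lit 11),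
  Rule.mk (nat_lit 2) (nat_lit 179) (Steps.fwd (nat_lit 8192) (Steps.fwd (nat_lit 24576) (Steps.bwd (nat_lit 1) (Steps.bwd (nat_lit 3) (Steps.fwd (nat_lit 8192) (Steps.fwd (nat_lit 16384) (Steps.fwd (nat_lit 8192) (Steps.fwd (nat_lit 32768) (Steps.fwd (nat_lit 24576) (Steps.fwd (nat_lit 8192) (Steps.fwd (nat_lit 147456) Steps.nil))))))))))) (nat_lit 193) (nat_lit 1),
  Rule.mk (nat_lit 1) (nat_lit 179) (Steps.bwd (nat_lit 2) (Steps.fwd (nat_lit 8192) (Steps.fwd (nat_lit 24576) (Steps.bwd (nat_lit 1) (Steps.bwd (nat_lit 3) (Steps.fwd (nat_lit 8192) (Steps.fwd (nat_lit 16384) (Steps.fwd (nat_lit 8192) (Steps.fwd (nat_lit 32768) (Steps.fwd (nat_lit 24576) (Steps.fwd (nat_lit 155648) Steps.nil))))))))))) (nat_lit 194) (nat_lit 2),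
  Rule.mk (nat_lit 0) (nat_lit 194) (Steps.bwd (nat_lit 1) (Steps.fwd (nat_lit 16384) (Steps.fwd (nat_lit 32768) (Steps.bwd (nat_lit 1) (Steps.fwd (nat_lit 24576) (Steps.fwd (nat_lit 8192) (Steps.fwd (nat_lit 24576) (Steps.fwd (nat_lit 8192) (Steps.bwd (nat_lit 3) (Steps.fwd (nat_lit 8192) (Steps.bwd (nat_lit 3) (Steps.fwd (nat_lit 139264) Steps.nil)))))))))))) (nat_lit 192) (nat_lit 1),
  Rule.mk (nat_lit 20) (nat_lit 179) (Steps.fwd (nat_lit 8192) (Steps.fwd (nat_lit 24576) (Steps.bwd (nat_lit 1) (Steps.fwd (nat_lit 24576) (Steps.bwd (nat_lit 1) (Steps.bwd (nat_lit 3) (Steps.bwd (nat_lit 1) (Steps.bwd (nat_lit 3) (Steps.fwd (nat_lit 8192) (Steps.bwd (nat_lit 4) (Steps.bwd (nat_lit 2) Steps.nil))))))))))) (nat_lit 194) (nat_lit 1),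
  Rule.mk (nat_lit 0) (nat_lit 74) (Steps.bwd (nat_lit 1) (Steps.fwd (nat_lit 32768) (Steps.bwd (nat_lit 1) (Steps.bwd (nat_lit 5) Steps.nil)))) (nat_lit 146) (nat_lit 0),
  Rule.mk (nat_lit 16) (nat_lit 179) (Steps.fwd (nat_lit 8192) (Steps.fwd (nat_lit 16384) (Steps.fwd (nat_lit 8192) (Steps.bwd (nat_lit 3) (Steps.fwd (nat_lit 8192) (Steps.fwd (nat_lit 16384) (Steps.bwd (nat_lit 1) (Steps.fwd (nat_lit 24576) (Steps.fwd (nat_lit 32768) (Steps.fwd (nat_lit 8192) (Steps.bwd (nat_lit 2) Steps.nil))))))))))) (nat_lit 190) (nat_lit 1),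
  Rule.mk (nat_lit 0) (nat_lit 194) (Steps.fwd (nat_lit 8192) (Steps.fwd (nat_lit 16384) (Steps.fwd (nat_lit 8192) (Steps.fwd (nat_lit 16384) (Steps.bwd (nat_lit 1) (Steps.bwd (nat_lit 3) (Steps.fwd (nat_lit 8192) (Steps.fwd (nat_lit 24576) (Steps.fwd (nat_lit 32768) (Steps.bwd (nat_lit 1) (Steps.bwd (nat_lit 2) (Steps.fwd (nat_lit 122880) Steps.nil)))))))))))) (nat_lit 190) (nat_lit 1),
  Rule.mk (nat_lit 0) (nat_lit 194) (Steps.bwd (nat_lit 1) (Steps.fwd (nat_lit 16384) (Steps.bwd (nat_lit 4) (Steps.fwd (nat_lit 8192) (Steps.bwd (nat_lit 2) (Steps.bwd (nat_lit 1) (Steps.fwd (nat_lit 24576) (Steps.bwd (nat_lit 1) (Steps.bwd (nat_lit 3) (Steps.fwd (nat_lit 8192) (Steps.fwd (nat_lit 16384) (Steps.fwd (nat_lit 139264) Steps.nil)))))))))))) (nat_lit 192) (nat_lit 1),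
  Rule.mk (nat_lit 19) (nat_lit 179) (Steps.fwd (nat_lit 16384) (Steps.bwd (nat_lit 4) (Steps.fwd (nat_lit 8192) (Steps.bwd (nat_lit 2) (Steps.bwd (nat_lit 1) (Steps.fwd (nat_lit 24576) (Steps.bwd (nat_lit 1) (Steps.bwd (nat_lit 3) (Steps.fwd (nat_lit 8192) (Steps.fwd (nat_lit 16384) (Steps.fwd (nat_lit 8192) Steps.nil))))))))))) (nat_lit 195) (nat_lit 0),
  Rule.mk (nat_lit 0) (nat_lit 194) (Steps.bwd (nat_lit 19) (Steps.bwd (nat_lit 3) (Steps.fwd (nat_lit 32768) (Steps.bwd (nat_lit 1) (Steps.fwd (nat_lit 24576) (Steps.bwd (nat_lit 1) (Steps.bwd (nat_lit 2) (Steps.fwd (nat_lit 8192) (Steps.bwd (nat_lit 3) (Steps.bwd (nat_lit 1) (Steps.fwd (nat_lit 16384) (Steps.fwd (nat_lit 8192) Steps.nil)))))))))))) (nat_lit 195) (nat_lit 11),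
  Rule.mk (nat_lit 2) (nat_lit 164) (Steps.bwd (nat_lit 11) (Steps.bwd (nat_lit 3) (Steps.fwd (nat_lit 32768) (Steps.bwd (nat_lit 5) (Steps.fwd (nat_lit 65536) (Steps.bwd (nat_lit 9) (Steps.fwd (nat_lit 81920) (Steps.fwd (nat_lit 90112) (Steps.fwd (nat_lit 98304) (Steps.bwd (nat_lit 14) Steps.nil)))))))))) (nat_lit 182) (nat_lit 1),
  Rule.mk (nat_lit 15) (nat_lit 179) (Steps.bwd (nat_lit 3) (Steps.bwd (nat_lit 1) (Steps.bwd (nat_lit 4) (Steps.bwd (nat_lit 3) (Steps.fwd (nat_lit 8192) (Steps.fwd (nat_lit 24576) (Steps.bwd (nat_lit 1) (Steps.fwd (nat_lit 24576) (Steps.bwd (nat_lit 1) (Steps.bwd (nat_lit 2) (Steps.fwd (nat_lit 8192) Steps.nil))))))))))) (nat_lit 191) (nat_lit 0),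
  Rule.mk (nat_lit 15) (nat_lit 179) (Steps.bwd (nat_lit 3) (Steps.bwd (nat_lit 1) (Steps.bwd (nat_lit 4) (Steps.fwd (nat_lit 16384) (Steps.bwd (nat_lit 1) (Steps.fwd (nat_lit 24576) (Steps.bwd (nat_lit 1) (Steps.bwd (nat_lit 2) (Steps.fwd (nat_lit 8192) (Steps.bwd (nat_lit 2) (Steps.bwd (nat_lit 1) Steps.nil))))))))))) (nat_lit 191) (nat_lit 0),
  Rule.mk (nat_lit 18) (nat_lit 179) (Steps.bwd (nat_lit 1) (Steps.bwd (nat_lit 3) (Steps.bwd (nat_lit 4) (Steps.bwd (nat_lit 1) (Steps.bwd (nat_lit 2) (Steps.fwd (nat_lit 8192) (Steps.bwd (nat_lit 2) (Steps.bwd (nat_lit 1) (Steps.fwd (nat_lit 16384) (Steps.bwd (nat_lit 1) (Steps.fwd (nat_lit 16384) Steps.nil))))))))))) (nat_lit 192) (nat_lit 1),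
  Rule.mk (nat_lit 17) (nat_lit 179) (Steps.bwd (nat_lit 2) (Steps.fwd (nat_lit 8192) (Steps.fwd (nat_lit 24576) (Steps.bwd (nat_lit 1) (Steps.bwd (nat_lit 3) (Steps.fwd (nat_lit 8192) (Steps.fwd (nat_lit 16384) (Steps.bwd (nat_lit 1) (Steps.fwd (nat_lit 32768) (Steps.bwd (nat_lit 2) (Steps.fwd (nat_lit 8192) Steps.nil))))))))))) (nat_lit 193) (nat_lit 0),
  Rule.mk (nat_lit 19) (nat_lit 179) (Steps.bwd (nat_lit 3) (Steps.bwd (nat_lit 4) (Steps.bwd (nat_lit 1) (Steps.bwd (nat_lit 2) (Steps.fwd (nat_lit 8192) (Steps.bwd (nat_lit 2) (Steps.bwd (nat_lit 1) (Steps.fwd (nat_lit 16384) (Steps.bwd (nat_lit 1) (Steps.fwd (nat_lit 16384) (Steps.bwd (nat_lit 1) Steps.nil))))))))))) (nat_lit 195) (nat_lit 0),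
  Rule.mk (nat_lit 15) (nat_lit 179) (Steps.fwd (nat_lit 16384) (Steps.bwd (nat_lit 1) (Steps.fwd (nat_lit 32768) (Steps.bwd (nat_lit 3) (Steps.fwd (nat_lit 8192) (Steps.bwd (nat_lit 2) (Steps.bwd (nat_lit 1) (Steps.fwd (nat_lit 24576) (Steps.fwd (nat_lit 8192) (Steps.bwd (nat_lit 2) (Steps.fwd (nat_lit 8192) Steps.nil))))))))))) (nat_lit 191) (nat_lit 0),
  Rule.mk (nat_lit 2) (nat_lit 104) (Steps.fwd (nat_lit 57344) (Steps.bwd (nat_lit 3) (Steps.bwd (nat_lit 14) (Steps.bwd (nat_lit 13) (Steps.fwd (nat_lit 57344) (Steps.fwd (nat_lit 40960) Steps.nil)))))) (nat_lit 175) (nat_lit 5),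
  Rule.mk (nat_lit 5) (nat_lit 149) (Steps.bwd (nat_lit 3) (Steps.fwd (nat_lit 32768) (Steps.bwd (nat_lit 5) (Steps.fwd (nat_lit 65536) (Steps.bwd (nat_lit 9) (Steps.bwd (nat_lit 12) (Steps.bwd (nat_lit 13) (Steps.fwd (nat_lit 114688) (Steps.fwd (nat_lit 24576) Steps.nil))))))))) (nat_lit 170) (nat_lit 2),
  Rule.mk (nat_lit 11) (nat_lit 164) (Steps.bwd (nat_lit 3) (Steps.fwd (nat_lit 32768) (Steps.bwd (nat_lit 5) (Steps.fwd (nat_lit 65536) (Steps.bwd (nat_lit 9) (Steps.bwd (nat_lit 10) (Steps.fwd (nat_lit 90112) (Steps.fwd (nat_lit 98304) (Steps.fwd (nat_lit 114688) (Steps.fwd (nat_lit 24576) Steps.nil)))))))))) (nat_lit 182) (nat_lit 2),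
  Rule.mk (nat_lit 1) (nat_lit 104) (Steps.fwd (nat_lit 114688) (Steps.fwd (nat_lit 98304) (Steps.bwd (nat_lit 11) (Steps.bwd (nat_lit 6) (Steps.fwd (nat_lit 8192) (Steps.bwd (nat_lit 11) Steps.nil)))))) (nat_lit 161) (nat_lit 0),
  Rule.mk (nat_lit 3) (nat_lit 119) (Steps.fwd (nat_lit 40960) (Steps.bwd (nat_lit 6) (Steps.bwd (nat_lit 7) (Steps.bwd (nat_lit 12) (Steps.fwd (nat_lit 114688) (Steps.fwd (nat_lit 24576) (Steps.bwd (nat_lit 14) Steps.nil))))))) (nat_lit 188) (nat_lit 3),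
  Rule.mk (nat_lit 1) (nat_lit 134) (Steps.fwd (nat_lit 81920) (Steps.bwd (nat_lit 1) (Steps.bwd (nat_lit 4) (Steps.bwd (nat_lit 5) (Steps.fwd (nat_lit 65536) (Steps.fwd (nat_lit 73728) (Steps.fwd (nat_lit 90112) (Steps.bwd (nat_lit 14) Steps.nil)))))))) (nat_lit 158) (nat_lit 1),
  Rule.mk (nat_lit 0) (nat_lit 194) (Steps.bwd (nat_lit 15) (Steps.bwd (nat_lit 3) (Steps.fwd (nat_lit 8192) (Steps.bwd (nat_lit 4) (Steps.fwd (nat_lit 16384) (Steps.fwd (nat_lit 8192) (Steps.fwd (nat_lit 24576) (Steps.bwd (nat_lit 1) (Steps.fwd (nat_lit 24576) (Steps.bwd (nat_lit 1) (Steps.bwd (nat_lit 2) (Steps.fwd (nat_lit 8192) Steps.nil)))))))))))) (nat_lit 191) (nat_lit 11),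
  Rule.mk (nat_lit 15) (nat_lit 179) (Steps.bwd (nat_lit 3) (Steps.fwd (nat_lit 8192) (Steps.bwd (nat_lit 4) (Steps.bwd (nat_lit 3) (Steps.bwd (nat_lit 1) (Steps.fwd (nat_lit 24576) (Steps.bwd (nat_lit 1) (Steps.bwd (nat_lit 2) (Steps.fwd (nat_lit 8192) (Steps.bwd (nat_lit 2) (Steps.bwd (nat_lit 1) Steps.nil))))))))))) (nat_lit 191) (nat_lit 0),
  Rule.mk (nat_lit 17) (nat_lit 179) (Steps.bwd (nat_lit 2) (Steps.bwd (nat_lit 1) (Steps.bwd (nat_lit 2) (Steps.bwd (nat_lit 1) (Steps.fwd (nat_lit 16384) (Steps.bwd (nat_lit 1) (Steps.bwd (nat_lit 3) (Steps.bwd (nat_lit 1) (Steps.bwd (nat_lit 4) (Steps.fwd (nat_lit 24576) (Steps.bwd (nat_lit 1) Steps.nil))))))))))) (nat_lit 193) (nat_lit 0),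
  Rule.mk (nat_lit 19) (nat_lit 179) (Steps.bwd (nat_lit 3) (Steps.fwd (nat_lit 32768) (Steps.fwd (nat_lit 8192) (Steps.fwd (nat_lit 24576) (Steps.fwd (nat_lit 8192) (Steps.bwd (nat_lit 2) (Steps.fwd (nat_lit 8192) (Steps.fwd (nat_lit 16384) (Steps.fwd (nat_lit 8192) (Steps.fwd (nat_lit 16384) (Steps.fwd (nat_lit 8192) Steps.nil))))))))))) (nat_lit 195) (nat_lit 0),
  Rule.mk (nat_lit 17) (nat_lit 179) (Steps.fwd (nat_lit 24576) (Steps.fwd (nat_lit 8192) (Steps.bwd (nat_lit 2) (Steps.fwd (nat_lit 8192) (Steps.bwd (nat_lit 3) (Steps.fwd (nat_lit 8192) (Steps.fwd (nat_lit 16384) (Steps.fwd (nat_lit 8192) (Steps.fwd (nat_lit 32768) (Steps.fwd (nat_lit 24576) (Steps.bwd (nat_lit 1) Steps.nil))))))))))) (nat_lit 193) (nat_lit 0),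
  Rule.mk (nat_lit 2) (nat_lit 104) (Steps.fwd (nat_lit 81920) (Steps.fwd (nat_lit 16384) (Steps.fwd (nat_lit 49152) (Steps.fwd (nat_lit 90112) (Steps.bwd (nat_lit 12) (Steps.bwd (nat_lit 14) Steps.nil)))))) (nat_lit 180) (nat_lit 1),
  Rule.mk (nat_lit 16) (nat_lit 179) (Steps.fwd (nat_lit 8192) (Steps.bwd (nat_lit 3) (Steps.fwd (nat_lit 8192) (Steps.bwd (nat_lit 3) (Steps.fwd (nat_lit 8192) (Steps.fwd (nat_lit 16384) (Steps.fwd (nat_lit 8192) (Steps.bwd (nat_lit 2) (Steps.bwd (nat_lit 4) (Steps.bwd (nat_lit 1) (Steps.bwd (nat_lit 2) Steps.nil))))))))))) (nat_lit 190) (nat_lit 1),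
  Rule.mk (nat_lit 15) (nat_lit 179) (Steps.fwd (nat_lit 16384) (Steps.fwd (nat_lit 8192) (Steps.bwd (nat_lit 4) (Steps.fwd (nat_lit 16384) (Steps.fwd (nat_lit 8192) (Steps.bwd (nat_lit 2) (Steps.bwd (nat_lit 1) (Steps.fwd (nat_lit 24576) (Steps.fwd (nat_lit 8192) (Steps.bwd (nat_lit 2) (Steps.fwd (nat_lit 8192) Steps.nil))))))))))) (nat_lit 191) (nat_lit 0),
  Rule.mk (nat_lit 18) (nat_lit 179) (Steps.bwd (nat_lit 1) (Steps.bwd (nat_lit 3) (Steps.fwd (nat_lit 32768) (Steps.bwd (nat_lit 1) (Steps.fwd (nat_lit 24576) (Steps.fwd (nat_lit 8192) (Steps.bwd (nat_lit 2) (Steps.fwd (nat_lit 8192) (Steps.bwd (nat_lit 3) (Steps.bwd (nat_lit 1) (Steps.bwd (nat_lit 3) Steps.nil))))))))))) (nat_lit 192) (nat_lit 1),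
  Rule.mk (nat_lit 0) (nat_lit 194) (Steps.bwd (nat_lit 20) (Steps.bwd (nat_lit 1) (Steps.fwd (nat_lit 24576) (Steps.fwd (nat_lit 8192) (Steps.bwd (nat_lit 2) (Steps.fwd (nat_lit 8192) (Steps.bwd (nat_lit 3) (Steps.bwd (nat_lit 1) (Steps.bwd (nat_lit 3) (Steps.fwd (nat_lit 8192) (Steps.fwd (nat_lit 32768) (Steps.fwd (nat_lit 24576) Steps.nil)))))))))))) (nat_lit 194) (nat_lit 0),
  Rule.mk (nat_lit 19) (nat_lit 179) (Steps.bwd (nat_lit 3) (Steps.fwd (nat_lit 32768) (Steps.bwd (nat_lit 1) (Steps.fwd (nat_lit 24576) (Steps.fwd (nat_lit 8192) (Steps.bwd (nat_lit 2) (Steps.fwd (nat_lit 8192) (Steps.bwd (nat_lit 3) (Steps.bwd (nat_lit 1) (Steps.bwd (nat_lit 3) (Steps.fwd (nat_lit 8192) Steps.nil))))))))))) (nat_lit 195) (nat_lit 0),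
  Rule.mk (nat_lit 14) (nat_lit 134) (Steps.bwd (nat_lit 1) (Steps.bwd (nat_lit 10) (Steps.fwd (nat_lit 8192) (Steps.fwd (nat_lit 32768) (Steps.fwd (nat_lit 40960) (Steps.fwd (nat_lit 65536) (Steps.bwd (nat_lit 9) (Steps.bwd (nat_lit 11) Steps.nil)))))))) (nat_lit 158) (nat_lit 0),
  Rule.mk (nat_lit 6) (nat_lit 149) (Steps.bwd (nat_lit 1) (Steps.fwd (nat_lit 32768) (Steps.fwd (nat_lit 40960) (Steps.bwd (nat_lit 8) (Steps.bwd (nat_lit 9) (Steps.fwd (nat_lit 98304) (Steps.fwd (nat_lit 106496) (Steps.bwd (nat_lit 14) (Steps.bwd (nat_lit 1) Steps.nil))))))))) (nat_lit 150) (nat_lit 2),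
  Rule.mk (nat_lit 10) (nat_lit 134) (Steps.bwd (nat_lit 11) (Steps.bwd (nat_lit 12) (Steps.fwd (nat_lit 106496) (Steps.fwd (nat_lit 114688) (Steps.fwd (nat_lit 8192) (Steps.bwd (nat_lit 14) (Steps.bwd (nat_lit 1) (Steps.bwd (nat_lit 6) Steps.nil)))))))) (nat_lit 166) (nat_lit 5),
  Rule.mk (nat_lit 2) (nat_lit 164) (Steps.bwd (nat_lit 11) (Steps.bwd (nat_lit 3) (Steps.fwd (nat_lit 32768) (Steps.bwd (nat_lit 5) (Steps.fwd (nat_lit 65536) (Steps.fwd (nat_lit 73728) (Steps.fwd (nat_lit 81920) (Steps.fwd (nat_lit 90112) (Steps.bwd (nat_lit 12) (Steps.bwd (nat_lit 14) Steps.nil)))))))))) (nat_lit 182) (nat_lit 1),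
  Rule.mk (nat_lit 6) (nat_lit 134) (Steps.bwd (nat_lit 2) (Steps.fwd (nat_lit 106496) (Steps.bwd (nat_lit 3) (Steps.bwd (nat_lit 14) (Steps.bwd (nat_lit 13) (Steps.fwd (nat_lit 98304) (Steps.fwd (nat_lit 90112) (Steps.fwd (nat_lit 81920) Steps.nil)))))))) (nat_lit 187) (nat_lit 6),
  Rule.mk (nat_lit 7) (nat_lit 59) (Steps.fwd (nat_lit 49152) (Steps.fwd (nat_lit 57344) (Steps.bwd (nat_lit 6) Steps.nil))) (nat_lit 46) (nat_lit 1),
  Rule.mk (nat_lit 1) (nat_lit 134) (Steps.fwd (nat_lit 114688) (Steps.fwd (nat_lit 8192) (Steps.bwd (nat_lit 14) (Steps.bwd (nat_lit 13) (Steps.fwd (nat_lit 98304) (Steps.fwd (nat_lit 90112) (Steps.fwd (nat_lit 81920) (Steps.bwd (nat_lit 6) Steps.nil)))))))) (nat_lit 167) (nat_lit 7),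
  Rule.mk (nat_lit 8) (nat_lit 104) (Steps.bwd (nat_lit 1) (Steps.fwd (nat_lit 114688) (Steps.bwd (nat_lit 13) (Steps.bwd (nat_lit 7) (Steps.fwd (nat_lit 40960) (Steps.fwd (nat_lit 8192) Steps.nil)))))) (nat_lit 155) (nat_lit 6),
  Rule.mk (nat_lit 1) (nat_lit 104) (Steps.bwd (nat_lit 11) (Steps.fwd (nat_lit 8192) (Steps.bwd (nat_lit 6) (Steps.fwd (nat_lit 90112) (Steps.fwd (nat_lit 98304) (Steps.bwd (nat_lit 14) Steps.nil)))))) (nat_lit 160) (nat_lit 1),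
  Rule.mk (nat_lit 0) (nat_lit 194) (Steps.bwd (nat_lit 16) (Steps.fwd (nat_lit 8192) (Steps.fwd (nat_lit 16384) (Steps.bwd (nat_lit 1) (Steps.fwd (nat_lit 16384) (Steps.fwd (nat_lit 8192) (Steps.bwd (nat_lit 3) (Steps.bwd (nat_lit 1) (Steps.fwd (nat_lit 24576) (Steps.fwd (nat_lit 32768) (Steps.fwd (nat_lit 8192) (Steps.fwd (nat_lit 24576) Steps.nil)))))))))))) (nat_lit 190) (nat_lit 0)]
noncomputable def R_39 : List (Rule) := [Rule.mk (nat_lit 16) (nat_lit 179) (Steps.bwd (nat_lit 1) (Steps.bwd (nat_lit 3) (Steps.fwd (nat_lit 8192) (Steps.bwd (nat_lit 3) (Steps.fwd (nat_lit 8192) (Steps.fwd (nat_lit 16384) (Steps.fwd (nat_lit 8192) (Steps.fwd (nat_lit 24576) (Steps.bwd (nat_lit 4) (Steps.bwd (nat_lit 1) (Steps.fwd (nat_lit 24576) Steps.nil))))))))))) (nat_lit 190) (nat_lit 1),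
  Rule.mk (nat_lit 0) (nat_lit 194) (Steps.bwd (nat_lit 18) (Steps.fwd (nat_lit 8192) (Steps.fwd (nat_lit 16384) (Steps.fwd (nat_lit 32768) (Steps.bwd (nat_lit 1) (Steps.bwd (nat_lit 2) (Steps.bwd (nat_lit 1) (Steps.fwd (nat_lit 24576) (Steps.fwd (nat_lit 8192) (Steps.bwd (nat_lit 3) (Steps.fwd (nat_lit 8192) (Steps.fwd (nat_lit 16384) Steps.nil)))))))))))) (nat_lit 192) (nat_lit 0),
  Rule.mk (nat_lit 20) (nat_lit 179) (Steps.bwd (nat_lit 1) (Steps.bwd (nat_lit 2) (Steps.bwd (nat_lit 1) (Steps.fwd (nat_lit 24576) (Steps.fwd (nat_lit 8192) (Steps.bwd (nat_lit 3) (Steps.fwd (nat_lit 8192) (Steps.fwd (nat_lit 16384) (Steps.fwd (nat_lit 8192) (Steps.bwd (nat_lit 4) (Steps.bwd (nat_lit 2) Steps.nil))))))))))) (nat_lit 194) (nat_lit 1),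
  Rule.mk (nat_lit 2) (nat_lit 134) (Steps.fwd (nat_lit 73728) (Steps.fwd (nat_lit 16384) (Steps.bwd (nat_lit 4) (Steps.bwd (nat_lit 5) (Steps.bwd (nat_lit 8) (Steps.fwd (nat_lit 73728) (Steps.fwd (nat_lit 90112) (Steps.bwd (nat_lit 14) Steps.nil)))))))) (nat_lit 178) (nat_lit 1),
  Rule.mk (nat_lit 2) (nat_lit 164) (Steps.fwd (nat_lit 49152) (Steps.fwd (nat_lit 16384) (Steps.fwd (nat_lit 114688) (Steps.bwd (nat_lit 13) (Steps.fwd (nat_lit 98304) (Steps.fwd (nat_lit 90112) (Steps.bwd (nat_lit 10) (Steps.bwd (nat_lit 9) (Steps.bwd (nat_lit 6) (Steps.fwd (nat_lit 40960) Steps.nil)))))))))) (nat_lit 173) (nat_lit 9),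
  Rule.mk (nat_lit 8) (nat_lit 104) (Steps.bwd (nat_lit 1) (Steps.fwd (nat_lit 40960) (Steps.bwd (nat_lit 7) (Steps.fwd (nat_lit 106496) (Steps.fwd (nat_lit 114688) (Steps.fwd (nat_lit 8192) Steps.nil)))))) (nat_lit 154) (nat_lit 2),
  Rule.mk (nat_lit 6) (nat_lit 104) (Steps.bwd (nat_lit 1) (Steps.bwd (nat_lit 11) (Steps.fwd (nat_lit 8192) (Steps.fwd (nat_lit 114688) (Steps.bwd (nat_lit 12) (Steps.fwd (nat_lit 90112) Steps.nil)))))) (nat_lit 161) (nat_lit 4),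
  Rule.mk (nat_lit 10) (nat_lit 134) (Steps.bwd (nat_lit 1) (Steps.fwd (nat_lit 32768) (Steps.bwd (nat_lit 5) (Steps.fwd (nat_lit 65536) (Steps.bwd (nat_lit 9) (Steps.fwd (nat_lit 90112) (Steps.bwd (nat_lit 14) (Steps.bwd (nat_lit 1) Steps.nil)))))))) (nat_lit 158) (nat_lit 2),
  Rule.mk (nat_lit 12) (nat_lit 59) (Steps.fwd (nat_lit 81920) (Steps.fwd (nat_lit 98304) (Steps.bwd (nat_lit 10) Steps.nil))) (nat_lit 104) (nat_lit 1),
  Rule.mk (nat_lit 3) (nat_lit 104) (Steps.fwd (nat_lit 114688) (Steps.fwd (nat_lit 98304) (Steps.bwd (nat_lit 11) (Steps.fwd (nat_lit 49152) (Steps.fwd (nat_lit 24576) (Steps.bwd (nat_lit 10) Steps.nil)))))) (nat_lit 181) (nat_lit 0),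
  Rule.mk (nat_lit 16) (nat_lit 179) (Steps.bwd (nat_lit 1) (Steps.fwd (nat_lit 16384) (Steps.fwd (nat_lit 8192) (Steps.bwd (nat_lit 3) (Steps.bwd (nat_lit 1) (Steps.fwd (nat_lit 16384) (Steps.fwd (nat_lit 8192) (Steps.fwd (nat_lit 24576) (Steps.fwd (nat_lit 32768) (Steps.bwd (nat_lit 1) (Steps.fwd (nat_lit 24576) Steps.nil))))))))))) (nat_lit 190) (nat_lit 1),
  Rule.mk (nat_lit 0) (nat_lit 194) (Steps.bwd (nat_lit 18) (Steps.bwd (nat_lit 1) (Steps.fwd (nat_lit 16384) (Steps.fwd (nat_lit 32768) (Steps.fwd (nat_lit 8192) (Steps.fwd (nat_lit 24576) (Steps.bwd (nat_lit 1) (Steps.bwd (nat_lit 2) (Steps.fwd (nat_lit 8192) (Steps.bwd (nat_lit 3) (Steps.fwd (nat_lit 8192) (Steps.fwd (nat_lit 16384) Steps.nil)))))))))))) (nat_lit 192) (nat_lit 0),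
  Rule.mk (nat_lit 0) (nat_lit 194) (Steps.bwd (nat_lit 17) (Steps.fwd (nat_lit 24576) (Steps.bwd (nat_lit 1) (Steps.fwd (nat_lit 24576) (Steps.fwd (nat_lit 8192) (Steps.bwd (nat_lit 3) (Steps.bwd (nat_lit 1) (Steps.fwd (nat_lit 16384) (Steps.fwd (nat_lit 8192) (Steps.fwd (nat_lit 32768) (Steps.fwd (nat_lit 24576) (Steps.bwd (nat_lit 1) Steps.nil)))))))))))) (nat_lit 193) (nat_lit 11),
  Rule.mk (nat_lit 0) (nat_lit 59) (Steps.bwd (nat_lit 18) (Steps.bwd (nat_lit 0) (Steps.bwd (nat_lit 17) Steps.nil))) (nat_lit 196) (nat_lit 0),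
  Rule.mk (nat_lit 20) (nat_lit 179) (Steps.fwd (nat_lit 8192) (Steps.bwd (nat_lit 2) (Steps.bwd (nat_lit 1) (Steps.fwd (nat_lit 24576) (Steps.bwd (nat_lit 1) (Steps.fwd (nat_lit 16384) (Steps.fwd (nat_lit 8192) (Steps.bwd (nat_lit 3) (Steps.bwd (nat_lit 1) (Steps.bwd (nat_lit 4) (Steps.bwd (nat_lit 2) Steps.nil))))))))))) (nat_lit 194) (nat_lit 1),
  Rule.mk (nat_lit 20) (nat_lit 179) (Steps.bwd (nat_lit 1) (Steps.fwd (nat_lit 24576) (Steps.bwd (nat_lit 1) (Steps.fwd (nat_lit 24576) (Steps.fwd (nat_lit 8192) (Steps.bwd (nat_lit 3) (Steps.bwd (nat_lit 1) (Steps.fwd (nat_lit 16384) (Steps.fwd (nat_lit 8192) (Steps.fwd (nat_lit 32768) (Steps.fwd (nat_lit 24576) Steps.nil))))))))))) (nat_lit 194) (nat_lit 1),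
  Rule.mk (nat_lit 19) (nat_lit 179) (Steps.fwd (nat_lit 16384) (Steps.fwd (nat_lit 32768) (Steps.bwd (nat_lit 1) (Steps.fwd (nat_lit 24576) (Steps.bwd (nat_lit 1) (Steps.fwd (nat_lit 24576) (Steps.fwd (nat_lit 8192) (Steps.bwd (nat_lit 3) (Steps.bwd (nat_lit 1) (Steps.fwd (nat_lit 16384) (Steps.fwd (nat_lit 8192) Steps.nil))))))))))) (nat_lit 195) (nat_lit 0),
  Rule.mk (nat_lit 0) (nat_lit 194) (Steps.bwd (nat_lit 16) (Steps.fwd (nat_lit 8192) (Steps.bwd (nat_lit 3) (Steps.bwd (nat_lit 1) (Steps.bwd (nat_lit 3) (Steps.bwd (nat_lit 1) (Steps.bwd (nat_lit 3) (Steps.bwd (nat_lit 1) (Steps.bwd (nat_lit 2) (Steps.bwd (nat_lit 4) (Steps.bwd (nat_lit 1) (Steps.bwd (nat_lit 2) Steps.nil)))))))))))) (nat_lit 190) (nat_lit 0),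
  Rule.mk (nat_lit 16) (nat_lit 179) (Steps.bwd (nat_lit 1) (Steps.bwd (nat_lit 3) (Steps.bwd (nat_lit 1) (Steps.bwd (nat_lit 3) (Steps.bwd (nat_lit 1) (Steps.bwd (nat_lit 3) (Steps.fwd (nat_lit 8192) (Steps.fwd (nat_lit 24576) (Steps.fwd (nat_lit 32768) (Steps.fwd (nat_lit 8192) (Steps.fwd (nat_lit 24576) Steps.nil))))))))))) (nat_lit 190) (nat_lit 1),
  Rule.mk (nat_lit 3) (nat_lit 179) (Steps.bwd (nat_lit 18) (Steps.bwd (nat_lit 1) (Steps.bwd (nat_lit 3) (Steps.fwd (nat_lit 32768) (Steps.bwd (nat_lit 1) (Steps.fwd (nat_lit 24576) (Steps.bwd (nat_lit 1) (Steps.bwd (nat_lit 2) (Steps.fwd (nat_lit 8192) (Steps.fwd (nat_lit 16384) (Steps.fwd (nat_lit 8192) Steps.nil))))))))))) (nat_lit 192) (nat_lit 0),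
  Rule.mk (nat_lit 0) (nat_lit 194) (Steps.bwd (nat_lit 2) (Steps.fwd (nat_lit 8192) (Steps.bwd (nat_lit 2) (Steps.bwd (nat_lit 1) (Steps.bwd (nat_lit 3) (Steps.bwd (nat_lit 1) (Steps.bwd (nat_lit 3) (Steps.fwd (nat_lit 8192) (Steps.fwd (nat_lit 32768) (Steps.fwd (nat_lit 24576) (Steps.fwd (nat_lit 8192) (Steps.fwd (nat_lit 147456) Steps.nil)))))))))))) (nat_lit 193) (nat_lit 0),
  Rule.mk (nat_lit 0) (nat_lit 194) (Steps.bwd (nat_lit 19) (Steps.bwd (nat_lit 3) (Steps.bwd (nat_lit 4) (Steps.bwd (nat_lit 1) (Steps.fwd (nat_lit 24576) (Steps.fwd (nat_lit 8192) (Steps.fwd (nat_lit 24576) (Steps.fwd (nat_lit 8192) (Steps.fwd (nat_lit 16384) (Steps.bwd (nat_lit 1) (Steps.bwd (nat_lit 3) (Steps.fwd (nat_lit 8192) Steps.nil)))))))))))) (nat_lit 195) (nat_lit 11),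
  Rule.mk (nat_lit 19) (nat_lit 179) (Steps.bwd (nat_lit 3) (Steps.bwd (nat_lit 4) (Steps.bwd (nat_lit 1) (Steps.fwd (nat_lit 24576) (Steps.fwd (nat_lit 8192) (Steps.bwd (nat_lit 2) (Steps.bwd (nat_lit 1) (Steps.bwd (nat_lit 3) (Steps.bwd (nat_lit 1) (Steps.bwd (nat_lit 3) (Steps.fwd (nat_lit 8192) Steps.nil))))))))))) (nat_lit 195) (nat_lit 0),
  Rule.mk (nat_lit 8) (nat_lit 89) (Steps.bwd (nat_lit 3) (Steps.fwd (nat_lit 114688) (Steps.fwd (nat_lit 57344) (Steps.fwd (nat_lit 32768) (Steps.bwd (nat_lit 2) Steps.nil))))) (nat_lit 177) (nat_lit 5),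
  Rule.mk (nat_lit 5) (nat_lit 149) (Steps.bwd (nat_lit 3) (Steps.fwd (nat_lit 114688) (Steps.fwd (nat_lit 106496) (Steps.fwd (nat_lit 98304) (Steps.bwd (nat_lit 9) (Steps.fwd (nat_lit 65536) (Steps.bwd (nat_lit 5) (Steps.fwd (nat_lit 32768) (Steps.bwd (nat_lit 2) Steps.nil))))))))) (nat_lit 171) (nat_lit 9),
  Rule.mk (nat_lit 0) (nat_lit 194) (Steps.bwd (nat_lit 17) (Steps.fwd (nat_lit 24576) (Steps.bwd (nat_lit 1) (Steps.bwd (nat_lit 2) (Steps.fwd (nat_lit 8192) (Steps.fwd (nat_lit 16384) (Steps.fwd (nat_lit 8192) (Steps.bwd (nat_lit 3) (Steps.bwd (nat_lit 1) (Steps.bwd (nat_lit 4) (Steps.fwd (nat_lit 24576) (Steps.bwd (nat_lit 1) Steps.nil)))))))))))) (nat_lit 193) (nat_lit 11),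
  Rule.mk (nat_lit 20) (nat_lit 179) (Steps.bwd (nat_lit 1) (Steps.fwd (nat_lit 24576) (Steps.bwd (nat_lit 1) (Steps.bwd (nat_lit 2) (Steps.fwd (nat_lit 8192) (Steps.fwd (nat_lit 16384) (Steps.fwd (nat_lit 8192) (Steps.bwd (nat_lit 3) (Steps.bwd (nat_lit 1) (Steps.bwd (nat_lit 4) (Steps.fwd (nat_lit 24576) Steps.nil))))))))))) (nat_lit 194) (nat_lit 1),
  Rule.mk (nat_lit 19) (nat_lit 179) (Steps.bwd (nat_lit 3) (Steps.fwd (nat_lit 32768) (Steps.bwd (nat_lit 1) (Steps.fwd (nat_lit 24576) (Steps.bwd (nat_lit 1) (Steps.bwd (nat_lit 2) (Steps.fwd (nat_lit 8192) (Steps.fwd (nat_lit 16384) (Steps.fwd (nat_lit 8192) (Steps.bwd (nat_lit 3) (Steps.bwd (nat_lit 1) Steps.nil))))))))))) (nat_lit 195) (nat_lit 0),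
  Rule.mk (nat_lit 7) (nat_lit 59) (Steps.fwd (nat_lit 65536) (Steps.bwd (nat_lit 7) (Steps.bwd (nat_lit 8) Steps.nil))) (nat_lit 54) (nat_lit 0),
  Rule.mk (nat_lit 3) (nat_lit 104) (Steps.bwd (nat_lit 6) (Steps.bwd (nat_lit 11) (Steps.fwd (nat_lit 98304) (Steps.bwd (nat_lit 14) (Steps.fwd (nat_lit 24576) (Steps.bwd (nat_lit 10) Steps.nil)))))) (nat_lit 180) (nat_lit 3),
  Rule.mk (nat_lit 16) (nat_lit 179) (Steps.bwd (nat_lit 1) (Steps.fwd (nat_lit 16384) (Steps.bwd (nat_lit 1) (Steps.bwd (nat_lit 3) (Steps.bwd (nat_lit 1) (Steps.fwd (nat_lit 16384) (Steps.bwd (nat_lit 1) (Steps.fwd (nat_lit 24576) (Steps.bwd (nat_lit 4) (Steps.bwd (nat_lit 1) (Steps.bwd (nat_lit 2) Steps.nil))))))))))) (nat_lit 190) (nat_lit 1),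
  Rule.mk (nat_lit 16) (nat_lit 179) (Steps.bwd (nat_lit 1) (Steps.bwd (nat_lit 3) (Steps.bwd (nat_lit 1) (Steps.fwd (nat_lit 16384) (Steps.bwd (nat_lit 1) (Steps.bwd (nat_lit 3) (Steps.bwd (nat_lit 1) (Steps.bwd (nat_lit 2) (Steps.fwd (nat_lit 32768) (Steps.bwd (nat_lit 1) (Steps.bwd (nat_lit 2) Steps.nil))))))))))) (nat_lit 190) (nat_lit 1),
  Rule.mk (nat_lit 20) (nat_lit 179) (Steps.fwd (nat_lit 8192) (Steps.bwd (nat_lit 2) (Steps.fwd (nat_lit 8192) (Steps.bwd (nat_lit 2) (Steps.bwd (nat_lit 1) (Steps.fwd (nat_lit 16384) (Steps.bwd (nat_lit 1) (Steps.bwd (nat_lit 3) (Steps.bwd (nat_lit 1) (Steps.bwd (nat_lit 4) (Steps.fwd (nat_lit 24576) Steps.nil))))))))))) (nat_lit 194) (nat_lit 1),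
  Rule.mk (nat_lit 3) (nat_lit 179) (Steps.bwd (nat_lit 4) (Steps.fwd (nat_lit 8192) (Steps.bwd (nat_lit 2) (Steps.fwd (nat_lit 8192) (Steps.bwd (nat_lit 2) (Steps.bwd (nat_lit 1) (Steps.fwd (nat_lit 16384) (Steps.bwd (nat_lit 1) (Steps.bwd (nat_lit 3) (Steps.bwd (nat_lit 1) (Steps.fwd (nat_lit 163840) Steps.nil))))))))))) (nat_lit 195) (nat_lit 1),
  Rule.mk (nat_lit 10) (nat_lit 104) (Steps.bwd (nat_lit 3) (Steps.fwd (nat_lit 49152) (Steps.bwd (nat_lit 11) (Steps.bwd (nat_lit 12) (Steps.bwd (nat_lit 14) (Steps.fwd (nat_lit 24576) Steps.nil)))))) (nat_lit 180) (nat_lit 2),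
  Rule.mk (nat_lit 9) (nat_lit 134) (Steps.bwd (nat_lit 3) (Steps.fwd (nat_lit 114688) (Steps.bwd (nat_lit 11) (Steps.bwd (nat_lit 9) (Steps.fwd (nat_lit 65536) (Steps.fwd (nat_lit 40960) (Steps.bwd (nat_lit 4) (Steps.bwd (nat_lit 2) Steps.nil)))))))) (nat_lit 179) (nat_lit 8),
  Rule.mk (nat_lit 5) (nat_lit 59) (Steps.fwd (nat_lit 73728) (Steps.bwd (nat_lit 5) (Steps.bwd (nat_lit 9) Steps.nil))) (nat_lit 58) (nat_lit 0),
  Rule.mk (nat_lit 1) (nat_lit 89) (Steps.fwd (nat_lit 32768) (Steps.fwd (nat_lit 57344) (Steps.fwd (nat_lit 114688) (Steps.bwd (nat_lit 1) (Steps.bwd (nat_lit 9) Steps.nil))))) (nat_lit 156) (nat_lit 3),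
  Rule.mk (nat_lit 17) (nat_lit 179) (Steps.fwd (nat_lit 24576) (Steps.fwd (nat_lit 8192) (Steps.bwd (nat_lit 2) (Steps.fwd (nat_lit 8192) (Steps.fwd (nat_lit 16384) (Steps.bwd (nat_lit 1) (Steps.fwd (nat_lit 16384) (Steps.bwd (nat_lit 1) (Steps.fwd (nat_lit 32768) (Steps.fwd (nat_lit 24576) (Steps.bwd (nat_lit 1) Steps.nil))))))))))) (nat_lit 193) (nat_lit 0),
  Rule.mk (nat_lit 1) (nat_lit 179) (Steps.bwd (nat_lit 17) (Steps.fwd (nat_lit 24576) (Steps.fwd (nat_lit 8192) (Steps.fwd (nat_lit 24576) (Steps.bwd (nat_lit 1) (Steps.fwd (nat_lit 16384) (Steps.bwd (nat_lit 1) (Steps.fwd (nat_lit 16384) (Steps.bwd (nat_lit 1) (Steps.bwd (nat_lit 4) (Steps.bwd (nat_lit 2) Steps.nil))))))))))) (nat_lit 193) (nat_lit 11),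
  Rule.mk (nat_lit 6) (nat_lit 104) (Steps.bwd (nat_lit 11) (Steps.fwd (nat_lit 98304) (Steps.fwd (nat_lit 114688) (Steps.fwd (nat_lit 8192) (Steps.fwd (nat_lit 90112) (Steps.bwd (nat_lit 1) Steps.nil)))))) (nat_lit 160) (nat_lit 4),
  Rule.mk (nat_lit 14) (nat_lit 104) (Steps.bwd (nat_lit 12) (Steps.bwd (nat_lit 11) (Steps.fwd (nat_lit 49152) (Steps.fwd (nat_lit 8192) (Steps.fwd (nat_lit 90112) (Steps.bwd (nat_lit 1) Steps.nil)))))) (nat_lit 161) (nat_lit 1),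
  Rule.mk (nat_lit 3) (nat_lit 104) (Steps.bwd (nat_lit 14) (Steps.bwd (nat_lit 12) (Steps.bwd (nat_lit 11) (Steps.fwd (nat_lit 49152) (Steps.fwd (nat_lit 24576) (Steps.fwd (nat_lit 81920) Steps.nil)))))) (nat_lit 181) (nat_lit 0),
  Rule.mk (nat_lit 16) (nat_lit 179) (Steps.fwd (nat_lit 8192) (Steps.fwd (nat_lit 16384) (Steps.fwd (nat_lit 8192) (Steps.bwd (nat_lit 3) (Steps.fwd (nat_lit 8192) (Steps.fwd (nat_lit 16384) (Steps.fwd (nat_lit 8192) (Steps.fwd (nat_lit 24576) (Steps.bwd (nat_lit 4) (Steps.bwd (nat_lit 1) (Steps.fwd (nat_lit 24576) Steps.nil))))))))))) (nat_lit 190) (nat_lit 1),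
  Rule.mk (nat_lit 0) (nat_lit 194) (Steps.bwd (nat_lit 16) (Steps.fwd (nat_lit 8192) (Steps.bwd (nat_lit 3) (Steps.fwd (nat_lit 8192) (Steps.fwd (nat_lit 16384) (Steps.fwd (nat_lit 8192) (Steps.bwd (nat_lit 3) (Steps.fwd (nat_lit 8192) (Steps.bwd (nat_lit 2) (Steps.fwd (nat_lit 32768) (Steps.bwd (nat_lit 1) (Steps.bwd (nat_lit 2) Steps.nil)))))))))))) (nat_lit 190) (nat_lit 0),
  Rule.mk (nat_lit 0) (nat_lit 194) (Steps.fwd (nat_lit 24576) (Steps.bwd (nat_lit 1) (Steps.bwd (nat_lit 2) (Steps.fwd (nat_lit 8192) (Steps.fwd (nat_lit 16384) (Steps.fwd (nat_lit 8192) (Steps.bwd (nat_lit 3) (Steps.fwd (nat_lit 8192) (Steps.bwd (nat_lit 4) (Steps.fwd (nat_lit 24576) (Steps.bwd (nat_lit 1) (Steps.fwd (nat_lit 147456) Steps.nil)))))))))))) (nat_lit 193) (nat_lit 0),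
  Rule.mk (nat_lit 20) (nat_lit 179) (Steps.bwd (nat_lit 1) (Steps.fwd (nat_lit 24576) (Steps.bwd (nat_lit 1) (Steps.bwd (nat_lit 2) (Steps.fwd (nat_lit 8192) (Steps.fwd (nat_lit 16384) (Steps.fwd (nat_lit 8192) (Steps.bwd (nat_lit 3) (Steps.fwd (nat_lit 8192) (Steps.bwd (nat_lit 4) (Steps.fwd (nat_lit 24576) Steps.nil))))))))))) (nat_lit 194) (nat_lit 1),
  Rule.mk (nat_lit 1) (nat_lit 179) (Steps.bwd (nat_lit 19) (Steps.fwd (nat_lit 16384) (Steps.bwd (nat_lit 4) (Steps.bwd (nat_lit 1) (Steps.bwd (nat_lit 2) (Steps.bwd (nat_lit 1) (Steps.bwd (nat_lit 2) (Steps.fwd (nat_lit 8192) (Steps.bwd (nat_lit 3) (Steps.bwd (nat_lit 1) (Steps.bwd (nat_lit 3) Steps.nil))))))))))) (nat_lit 195) (nat_lit 11),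
  Rule.mk (nat_lit 9) (nat_lit 89) (Steps.bwd (nat_lit 1) (Steps.bwd (nat_lit 4) (Steps.bwd (nat_lit 7) (Steps.fwd (nat_lit 114688) (Steps.bwd (nat_lit 1) Steps.nil))))) (nat_lit 156) (nat_lit 2),
  Rule.mk (nat_lit 8) (nat_lit 104) (Steps.bwd (nat_lit 1) (Steps.fwd (nat_lit 40960) (Steps.bwd (nat_lit 7) (Steps.bwd (nat_lit 13) (Steps.fwd (nat_lit 114688) (Steps.bwd (nat_lit 1) Steps.nil)))))) (nat_lit 154) (nat_lit 2),
  Rule.mk (nat_lit 6) (nat_lit 149) (Steps.bwd (nat_lit 1) (Steps.fwd (nat_lit 32768) (Steps.bwd (nat_lit 5) (Steps.fwd (nat_lit 65536) (Steps.bwd (nat_lit 9) (Steps.bwd (nat_lit 12) (Steps.bwd (nat_lit 13) (Steps.fwd (nat_lit 114688) (Steps.bwd (nat_lit 1) Steps.nil))))))))) (nat_lit 150) (nat_lit 2),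
  Rule.mk (nat_lit 10) (nat_lit 134) (Steps.bwd (nat_lit 1) (Steps.bwd (nat_lit 4) (Steps.bwd (nat_lit 5) (Steps.bwd (nat_lit 8) (Steps.fwd (nat_lit 73728) (Steps.fwd (nat_lit 90112) (Steps.bwd (nat_lit 14) (Steps.fwd (nat_lit 8192) Steps.nil)))))))) (nat_lit 158) (nat_lit 2),
  Rule.mk (nat_lit 2) (nat_lit 104) (Steps.bwd (nat_lit 10) (Steps.bwd (nat_lit 3) (Steps.fwd (nat_lit 114688) (Steps.bwd (nat_lit 12) (Steps.fwd (nat_lit 90112) (Steps.bwd (nat_lit 6) Steps.nil)))))) (nat_lit 181) (nat_lit 5),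
  Rule.mk (nat_lit 16) (nat_lit 179) (Steps.fwd (nat_lit 8192) (Steps.fwd (nat_lit 16384) (Steps.bwd (nat_lit 1) (Steps.fwd (nat_lit 16384) (Steps.fwd (nat_lit 8192) (Steps.bwd (nat_lit 3) (Steps.fwd (nat_lit 8192) (Steps.fwd (nat_lit 24576) (Steps.fwd (nat_lit 32768) (Steps.fwd (nat_lit 8192) (Steps.bwd (nat_lit 2) Steps.nil))))))))))) (nat_lit 190) (nat_lit 1),
  Rule.mk (nat_lit 0) (nat_lit 194) (Steps.bwd (nat_lit 17) (Steps.bwd (nat_lit 2) (Steps.fwd (nat_lit 8192) (Steps.bwd (nat_lit 2) (Steps.bwd (nat_lit 1) (Steps.fwd (nat_lit 16384) (Steps.fwd (nat_lit 8192) (Steps.fwd (nat_lit 16384) (Steps.fwd (nat_lit 8192) (Steps.bwd (nat_lit 4) (Steps.bwd (nat_lit 2) (Steps.bwd (nat_lit 1) Steps.nil)))))))))))) (nat_lit 193) (nat_lit 11),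
  Rule.mk (nat_lit 19) (nat_lit 179) (Steps.fwd (nat_lit 16384) (Steps.fwd (nat_lit 32768) (Steps.bwd (nat_lit 1) (Steps.bwd (nat_lit 2) (Steps.bwd (nat_lit 1) (Steps.bwd (nat_lit 2) (Steps.fwd (nat_lit 8192) (Steps.fwd (nat_lit 16384) (Steps.bwd (nat_lit 1) (Steps.fwd (nat_lit 16384) (Steps.fwd (nat_lit 8192) Steps.nil))))))))))) (nat_lit 195) (nat_lit 0),
  Rule.mk (nat_lit 9) (nat_lit 104) (Steps.bwd (nat_lit 2) (Steps.fwd (nat_lit 98304) (Steps.bwd (nat_lit 3) (Steps.bwd (nat_lit 4) (Steps.fwd (nat_lit 40960) (Steps.bwd (nat_lit 8) Steps.nil)))))) (nat_lit 184) (nat_lit 0),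
  Rule.mk (nat_lit 16) (nat_lit 179) (Steps.bwd (nat_lit 1) (Steps.fwd (nat_lit 16384) (Steps.fwd (nat_lit 8192) (Steps.fwd (nat_lit 16384) (Steps.bwd (nat_lit 1) (Steps.fwd (nat_lit 16384) (Steps.bwd (nat_lit 1) (Steps.bwd (nat_lit 2) (Steps.fwd (nat_lit 32768) (Steps.fwd (nat_lit 8192) (Steps.fwd (nat_lit 24576) Steps.nil))))))))))) (nat_lit 190) (nat_lit 1),
  Rule.mk (nat_lit 0) (nat_lit 194) (Steps.bwd (nat_lit 2) (Steps.fwd (nat_lit 8192) (Steps.bwd (nat_lit 2) (Steps.fwd (nat_lit 8192) (Steps.fwd (nat_lit 16384) (Steps.bwd (nat_lit 1) (Steps.fwd (nat_lit 16384) (Steps.bwd (nat_lit 1) (Steps.fwd (nat_lit 32768) (Steps.bwd (nat_lit 2) (Steps.fwd (nat_lit 8192) (Steps.fwd (nat_lit 147456) Steps.nil)))))))))))) (nat_lit 193) (nat_lit 0),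
  Rule.mk (nat_lit 20) (nat_lit 179) (Steps.bwd (nat_lit 1) (Steps.fwd (nat_lit 24576) (Steps.fwd (nat_lit 8192) (Steps.bwd (nat_lit 2) (Steps.fwd (nat_lit 8192) (Steps.fwd (nat_lit 16384) (Steps.bwd (nat_lit 1) (Steps.bwd (nat_lit 3) (Steps.fwd (nat_lit 8192) (Steps.fwd (nat_lit 32768) (Steps.bwd (nat_lit 2) Steps.nil))))))))))) (nat_lit 194) (nat_lit 1),
  Rule.mk (nat_lit 1) (nat_lit 134) (Steps.fwd (nat_lit 49152) (Steps.bwd (nat_lit 10) (Steps.bwd (nat_lit 11) (Steps.fwd (nat_lit 98304) (Steps.fwd (nat_lit 106496) (Steps.bwd (nat_lit 14) (Steps.bwd (nat_lit 1) (Steps.bwd (nat_lit 14) Steps.nil)))))))) (nat_lit 166) (nat_lit 3),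
  Rule.mk (nat_lit 2) (nat_lit 164) (Steps.bwd (nat_lit 11) (Steps.bwd (nat_lit 3) (Steps.fwd (nat_lit 32768) (Steps.bwd (nat_lit 5) (Steps.fwd (nat_lit 65536) (Steps.bwd (nat_lit 9) (Steps.bwd (nat_lit 10) (Steps.fwd (nat_lit 90112) (Steps.fwd (nat_lit 98304) (Steps.fwd (nat_lit 114688) Steps.nil)))))))))) (nat_lit 182) (nat_lit 1),
  Rule.mk (nat_lit 18) (nat_lit 179) (Steps.bwd (nat_lit 1) (Steps.bwd (nat_lit 3) (Steps.bwd (nat_lit 4) (Steps.bwd (nat_lit 1) (Steps.fwd (nat_lit 24576) (Steps.fwd (nat_lit 8192) (Steps.bwd (nat_lit 2) (Steps.fwd (nat_lit 8192) (Steps.bwd (nat_lit 3) (Steps.fwd (nat_lit 8192) (Steps.bwd (nat_lit 3) Steps.nil))))))))))) (nat_lit 192) (nat_lit 1),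
  Rule.mk (nat_lit 20) (nat_lit 179) (Steps.bwd (nat_lit 1) (Steps.fwd (nat_lit 24576) (Steps.fwd (nat_lit 8192) (Steps.bwd (nat_lit 2) (Steps.fwd (nat_lit 8192) (Steps.bwd (nat_lit 3) (Steps.fwd (nat_lit 8192) (Steps.bwd (nat_lit 3) (Steps.bwd (nat_lit 1) (Steps.fwd (nat_lit 32768) (Steps.fwd (nat_lit 24576) Steps.nil))))))))))) (nat_lit 194) (nat_lit 1)]
noncomputable def R_40 : List (Rule) := [Rule.mk (nat_lit 0) (nat_lit 194) (Steps.bwd (nat_lit 19) (Steps.bwd (nat_lit 3) (Steps.bwd (nat_lit 4) (Steps.bwd (nat_lit 1) (Steps.fwd (nat_lit 24576) (Steps.fwd (nat_lit 8192) (Steps.bwd (nat_lit 2) (Steps.fwd (nat_lit 8192) (Steps.bwd (nat_lit 3) (Steps.fwd (nat_lit 8192) (Steps.bwd (nat_lit 3) (Steps.bwd (nat_lit 1) Steps.nil)))))))))))) (nat_lit 195) (nat_lit 11),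
  Rule.mk (nat_lit 15) (nat_lit 179) (Steps.fwd (nat_lit 16384) (Steps.fwd (nat_lit 8192) (Steps.fwd (nat_lit 32768) (Steps.bwd (nat_lit 3) (Steps.bwd (nat_lit 1) (Steps.bwd (nat_lit 2) (Steps.bwd (nat_lit 1) (Steps.bwd (nat_lit 2) (Steps.fwd (nat_lit 8192) (Steps.fwd (nat_lit 24576) (Steps.fwd (nat_lit 8192) Steps.nil))))))))))) (nat_lit 191) (nat_lit 0),
  Rule.mk (nat_lit 18) (nat_lit 179) (Steps.bwd (nat_lit 1) (Steps.fwd (nat_lit 16384) (Steps.bwd (nat_lit 4) (Steps.bwd (nat_lit 1) (Steps.fwd (nat_lit 24576) (Steps.bwd (nat_lit 1) (Steps.bwd (nat_lit 2) (Steps.bwd (nat_lit 1) (Steps.fwd (nat_lit 16384) (Steps.fwd (nat_lit 8192) (Steps.fwd (nat_lit 16384) Steps.nil))))))))))) (nat_lit 192) (nat_lit 1),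
  Rule.mk (nat_lit 20) (nat_lit 179) (Steps.bwd (nat_lit 1) (Steps.fwd (nat_lit 24576) (Steps.bwd (nat_lit 1) (Steps.bwd (nat_lit 2) (Steps.bwd (nat_lit 1) (Steps.fwd (nat_lit 16384) (Steps.fwd (nat_lit 8192) (Steps.fwd (nat_lit 16384) (Steps.bwd (nat_lit 1) (Steps.fwd (nat_lit 32768) (Steps.bwd (nat_lit 2) Steps.nil))))))))))) (nat_lit 194) (nat_lit 1),
  Rule.mk (nat_lit 0) (nat_lit 194) (Steps.bwd (nat_lit 20) (Steps.fwd (nat_lit 8192) (Steps.bwd (nat_lit 2) (Steps.bwd (nat_lit 1) (Steps.bwd (nat_lit 2) (Steps.fwd (nat_lit 8192) (Steps.fwd (nat_lit 16384) (Steps.fwd (nat_lit 8192) (Steps.bwd (nat_lit 3) (Steps.fwd (nat_lit 8192) (Steps.fwd (nat_lit 32768) (Steps.bwd (nat_lit 2) Steps.nil)))))))))))) (nat_lit 194) (nat_lit 0),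
  Rule.mk (nat_lit 17) (nat_lit 179) (Steps.bwd (nat_lit 2) (Steps.fwd (nat_lit 8192) (Steps.fwd (nat_lit 24576) (Steps.bwd (nat_lit 1) (Steps.fwd (nat_lit 16384) (Steps.fwd (nat_lit 8192) (Steps.bwd (nat_lit 3) (Steps.bwd (nat_lit 1) (Steps.fwd (nat_lit 32768) (Steps.fwd (nat_lit 24576) (Steps.bwd (nat_lit 1) Steps.nil))))))))))) (nat_lit 193) (nat_lit 0),
  Rule.mk (nat_lit 20) (nat_lit 179) (Steps.fwd (nat_lit 8192) (Steps.bwd (nat_lit 2) (Steps.fwd (nat_lit 8192) (Steps.fwd (nat_lit 24576) (Steps.bwd (nat_lit 1) (Steps.fwd (nat_lit 16384) (Steps.fwd (nat_lit 8192) (Steps.bwd (nat_lit 3) (Steps.bwd (nat_lit 1) (Steps.fwd (nat_lit 32768) (Steps.fwd (nat_lit 24576) Steps.nil))))))))))) (nat_lit 194) (nat_lit 1),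
  Rule.mk (nat_lit 19) (nat_lit 179) (Steps.bwd (nat_lit 3) (Steps.fwd (nat_lit 32768) (Steps.fwd (nat_lit 8192) (Steps.bwd (nat_lit 2) (Steps.fwd (nat_lit 8192) (Steps.fwd (nat_lit 24576) (Steps.bwd (nat_lit 1) (Steps.fwd (nat_lit 16384) (Steps.fwd (nat_lit 8192) (Steps.bwd (nat_lit 3) (Steps.bwd (nat_lit 1) Steps.nil))))))))))) (nat_lit 195) (nat_lit 0),
  Rule.mk (nat_lit 1) (nat_lit 104) (Steps.bwd (nat_lit 11) (Steps.bwd (nat_lit 1) (Steps.fwd (nat_lit 114688) (Steps.bwd (nat_lit 12) (Steps.bwd (nat_lit 11) (Steps.bwd (nat_lit 6) Steps.nil)))))) (nat_lit 161) (nat_lit 5),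
  Rule.mk (nat_lit 2) (nat_lit 164) (Steps.bwd (nat_lit 11) (Steps.bwd (nat_lit 3) (Steps.fwd (nat_lit 32768) (Steps.fwd (nat_lit 40960) (Steps.bwd (nat_lit 8) (Steps.fwd (nat_lit 73728) (Steps.fwd (nat_lit 81920) (Steps.fwd (nat_lit 90112) (Steps.bwd (nat_lit 12) (Steps.fwd (nat_lit 114688) Steps.nil)))))))))) (nat_lit 182) (nat_lit 1),
  Rule.mk (nat_lit 15) (nat_lit 179) (Steps.fwd (nat_lit 16384) (Steps.fwd (nat_lit 8192) (Steps.fwd (nat_lit 32768) (Steps.bwd (nat_lit 3) (Steps.fwd (nat_lit 8192) (Steps.fwd (nat_lit 24576) (Steps.bwd (nat_lit 1) (Steps.bwd (nat_lit 2) (Steps.fwd (nat_lit 8192) (Steps.bwd (nat_lit 2) (Steps.fwd (nat_lit 8192) Steps.nil))))))))))) (nat_lit 191) (nat_lit 0),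
  Rule.mk (nat_lit 18) (nat_lit 179) (Steps.fwd (nat_lit 8192) (Steps.bwd (nat_lit 3) (Steps.fwd (nat_lit 32768) (Steps.bwd (nat_lit 1) (Steps.bwd (nat_lit 2) (Steps.fwd (nat_lit 8192) (Steps.bwd (nat_lit 2) (Steps.fwd (nat_lit 8192) (Steps.fwd (nat_lit 16384) (Steps.bwd (nat_lit 1) (Steps.fwd (nat_lit 16384) Steps.nil))))))))))) (nat_lit 192) (nat_lit 1),
  Rule.mk (nat_lit 0) (nat_lit 194) (Steps.bwd (nat_lit 19) (Steps.bwd (nat_lit 3) (Steps.fwd (nat_lit 32768) (Steps.bwd (nat_lit 1) (Steps.bwd (nat_lit 2) (Steps.fwd (nat_lit 8192) (Steps.bwd (nat_lit 2) (Steps.fwd (nat_lit 8192) (Steps.fwd (nat_lit 16384) (Steps.bwd (nat_lit 1) (Steps.fwd (nat_lit 16384) (Steps.fwd (nat_lit 8192) Steps.nil)))))))))))) (nat_lit 195) (nat_lit 11),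
  Rule.mk (nat_lit 8) (nat_lit 104) (Steps.bwd (nat_lit 1) (Steps.bwd (nat_lit 5) (Steps.fwd (nat_lit 57344) (Steps.bwd (nat_lit 13) (Steps.bwd (nat_lit 14) (Steps.fwd (nat_lit 8192) Steps.nil)))))) (nat_lit 154) (nat_lit 2),
  Rule.mk (nat_lit 11) (nat_lit 104) (Steps.bwd (nat_lit 1) (Steps.fwd (nat_lit 49152) (Steps.bwd (nat_lit 11) (Steps.bwd (nat_lit 12) (Steps.fwd (nat_lit 114688) (Steps.fwd (nat_lit 8192) Steps.nil)))))) (nat_lit 160) (nat_lit 2),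
  Rule.mk (nat_lit 10) (nat_lit 134) (Steps.bwd (nat_lit 1) (Steps.bwd (nat_lit 4) (Steps.bwd (nat_lit 5) (Steps.fwd (nat_lit 65536) (Steps.fwd (nat_lit 73728) (Steps.fwd (nat_lit 90112) (Steps.fwd (nat_lit 114688) (Steps.bwd (nat_lit 1) Steps.nil)))))))) (nat_lit 158) (nat_lit 2),
  Rule.mk (nat_lit 6) (nat_lit 134) (Steps.bwd (nat_lit 1) (Steps.fwd (nat_lit 114688) (Steps.bwd (nat_lit 1) (Steps.bwd (nat_lit 14) (Steps.bwd (nat_lit 13) (Steps.fwd (nat_lit 98304) (Steps.bwd (nat_lit 11) (Steps.fwd (nat_lit 81920) Steps.nil)))))))) (nat_lit 167) (nat_lit 6),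
  Rule.mk (nat_lit 2) (nat_lit 164) (Steps.bwd (nat_lit 11) (Steps.bwd (nat_lit 3) (Steps.fwd (nat_lit 114688) (Steps.fwd (nat_lit 98304) (Steps.bwd (nat_lit 11) (Steps.bwd (nat_lit 10) (Steps.fwd (nat_lit 73728) (Steps.bwd (nat_lit 8) (Steps.fwd (nat_lit 40960) (Steps.bwd (nat_lit 4) Steps.nil)))))))))) (nat_lit 183) (nat_lit 9),
  Rule.mk (nat_lit 6) (nat_lit 104) (Steps.bwd (nat_lit 1) (Steps.bwd (nat_lit 11) (Steps.fwd (nat_lit 8192) (Steps.fwd (nat_lit 114688) (Steps.fwd (nat_lit 98304) (Steps.bwd (nat_lit 11) Steps.nil)))))) (nat_lit 161) (nat_lit 4),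
  Rule.mk (nat_lit 10) (nat_lit 134) (Steps.bwd (nat_lit 1) (Steps.fwd (nat_lit 32768) (Steps.fwd (nat_lit 40960) (Steps.bwd (nat_lit 8) (Steps.bwd (nat_lit 9) (Steps.fwd (nat_lit 90112) (Steps.fwd (nat_lit 114688) (Steps.fwd (nat_lit 8192) Steps.nil)))))))) (nat_lit 158) (nat_lit 2),
  Rule.mk (nat_lit 2) (nat_lit 104) (Steps.bwd (nat_lit 10) (Steps.fwd (nat_lit 16384) (Steps.fwd (nat_lit 114688) (Steps.fwd (nat_lit 98304) (Steps.bwd (nat_lit 11) (Steps.bwd (nat_lit 6) Steps.nil)))))) (nat_lit 181) (nat_lit 5),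
  Rule.mk (nat_lit 3) (nat_lit 164) (Steps.bwd (nat_lit 14) (Steps.bwd (nat_lit 13) (Steps.bwd (nat_lit 12) (Steps.fwd (nat_lit 90112) (Steps.fwd (nat_lit 81920) (Steps.bwd (nat_lit 9) (Steps.fwd (nat_lit 49152) (Steps.fwd (nat_lit 40960) (Steps.fwd (nat_lit 24576) (Steps.bwd (nat_lit 6) Steps.nil)))))))))) (nat_lit 173) (nat_lit 0),
  Rule.mk (nat_lit 18) (nat_lit 179) (Steps.bwd (nat_lit 1) (Steps.bwd (nat_lit 3) (Steps.bwd (nat_lit 4) (Steps.bwd (nat_lit 1) (Steps.bwd (nat_lit 2) (Steps.fwd (nat_lit 8192) (Steps.bwd (nat_lit 2) (Steps.fwd (nat_lit 8192) (Steps.bwd (nat_lit 3) (Steps.fwd (nat_lit 8192) (Steps.bwd (nat_lit 3) Steps.nil))))))))))) (nat_lit 192) (nat_lit 1),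
  Rule.mk (nat_lit 1) (nat_lit 179) (Steps.bwd (nat_lit 19) (Steps.bwd (nat_lit 3) (Steps.bwd (nat_lit 4) (Steps.bwd (nat_lit 1) (Steps.bwd (nat_lit 2) (Steps.fwd (nat_lit 8192) (Steps.bwd (nat_lit 2) (Steps.fwd (nat_lit 8192) (Steps.bwd (nat_lit 3) (Steps.fwd (nat_lit 8192) (Steps.bwd (nat_lit 3) Steps.nil))))))))))) (nat_lit 195) (nat_lit 11),
  Rule.mk (nat_lit 7) (nat_lit 164) (Steps.fwd (nat_lit 8192) (Steps.bwd (nat_lit 5) (Steps.bwd (nat_lit 6) (Steps.fwd (nat_lit 73728) (Steps.bwd (nat_lit 10) (Steps.bwd (nat_lit 11) (Steps.fwd (nat_lit 98304) (Steps.fwd (nat_lit 106496) (Steps.fwd (nat_lit 114688) (Steps.bwd (nat_lit 1) Steps.nil)))))))))) (nat_lit 152) (nat_lit 2),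
  Rule.mk (nat_lit 9) (nat_lit 104) (Steps.bwd (nat_lit 2) (Steps.fwd (nat_lit 98304) (Steps.fwd (nat_lit 16384) (Steps.bwd (nat_lit 4) (Steps.bwd (nat_lit 5) (Steps.fwd (nat_lit 65536) Steps.nil)))))) (nat_lit 184) (nat_lit 0),
  Rule.mk (nat_lit 14) (nat_lit 119) (Steps.bwd (nat_lit 3) (Steps.fwd (nat_lit 40960) (Steps.bwd (nat_lit 6) (Steps.bwd (nat_lit 7) (Steps.fwd (nat_lit 98304) (Steps.fwd (nat_lit 114688) (Steps.fwd (nat_lit 24576) Steps.nil))))))) (nat_lit 188) (nat_lit 2),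
  Rule.mk (nat_lit 5) (nat_lit 149) (Steps.bwd (nat_lit 3) (Steps.bwd (nat_lit 4) (Steps.fwd (nat_lit 40960) (Steps.fwd (nat_lit 65536) (Steps.bwd (nat_lit 9) (Steps.bwd (nat_lit 12) (Steps.bwd (nat_lit 13) (Steps.fwd (nat_lit 114688) (Steps.bwd (nat_lit 2) Steps.nil))))))))) (nat_lit 170) (nat_lit 2),
  Rule.mk (nat_lit 1) (nat_lit 179) (Steps.bwd (nat_lit 3) (Steps.bwd (nat_lit 1) (Steps.fwd (nat_lit 16384) (Steps.fwd (nat_lit 8192) (Steps.fwd (nat_lit 16384) (Steps.fwd (nat_lit 8192) (Steps.fwd (nat_lit 24576) (Steps.fwd (nat_lit 32768) (Steps.fwd (nat_lit 8192) (Steps.bwd (nat_lit 2) (Steps.fwd (nat_lit 122880) Steps.nil))))))))))) (nat_lit 190) (nat_lit 2),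
  Rule.mk (nat_lit 0) (nat_lit 194) (Steps.bwd (nat_lit 16) (Steps.bwd (nat_lit 1) (Steps.fwd (nat_lit 16384) (Steps.fwd (nat_lit 8192) (Steps.bwd (nat_lit 3) (Steps.fwd (nat_lit 8192) (Steps.fwd (nat_lit 16384) (Steps.fwd (nat_lit 8192) (Steps.fwd (nat_lit 24576) (Steps.fwd (nat_lit 32768) (Steps.fwd (nat_lit 8192) (Steps.fwd (nat_lit 24576) Steps.nil)))))))))))) (nat_lit 190) (nat_lit 0),
  Rule.mk (nat_lit 0) (nat_lit 194) (Steps.bwd (nat_lit 17) (Steps.bwd (nat_lit 2) (Steps.bwd (nat_lit 1) (Steps.bwd (nat_lit 2) (Steps.fwd (nat_lit 8192) (Steps.bwd (nat_lit 3) (Steps.fwd (nat_lit 8192) (Steps.fwd (nat_lit 16384) (Steps.fwd (nat_lit 8192) (Steps.bwd (nat_lit 4) (Steps.bwd (nat_lit 2) (Steps.fwd (nat_lit 8192) Steps.nil)))))))))))) (nat_lit 193) (nat_lit 11),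
  Rule.mk (nat_lit 17) (nat_lit 179) (Steps.bwd (nat_lit 2) (Steps.bwd (nat_lit 1) (Steps.fwd (nat_lit 24576) (Steps.bwd (nat_lit 1) (Steps.fwd (nat_lit 16384) (Steps.fwd (nat_lit 8192) (Steps.fwd (nat_lit 16384) (Steps.fwd (nat_lit 8192) (Steps.fwd (nat_lit 32768) (Steps.bwd (nat_lit 2) (Steps.fwd (nat_lit 8192) Steps.nil))))))))))) (nat_lit 193) (nat_lit 0),
  Rule.mk (nat_lit 20) (nat_lit 179) (Steps.bwd (nat_lit 1) (Steps.bwd (nat_lit 2) (Steps.bwd (nat_lit 1) (Steps.fwd (nat_lit 24576) (Steps.bwd (nat_lit 1) (Steps.fwd (nat_lit 16384) (Steps.fwd (nat_lit 8192) (Steps.fwd (nat_lit 16384) (Steps.fwd (nat_lit 8192) (Steps.fwd (nat_lit 32768) (Steps.bwd (nat_lit 2) Steps.nil))))))))))) (nat_lit 194) (nat_lit 1),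
  Rule.mk (nat_lit 19) (nat_lit 179) (Steps.fwd (nat_lit 16384) (Steps.fwd (nat_lit 32768) (Steps.bwd (nat_lit 1) (Steps.bwd (nat_lit 2) (Steps.bwd (nat_lit 1) (Steps.fwd (nat_lit 24576) (Steps.bwd (nat_lit 1) (Steps.fwd (nat_lit 16384) (Steps.fwd (nat_lit 8192) (Steps.fwd (nat_lit 16384) (Steps.fwd (nat_lit 8192) Steps.nil))))))))))) (nat_lit 195) (nat_lit 0),
  Rule.mk (nat_lit 11) (nat_lit 104) (Steps.bwd (nat_lit 1) (Steps.fwd (nat_lit 49152) (Steps.bwd (nat_lit 11) (Steps.bwd (nat_lit 12) (Steps.bwd (nat_lit 14) (Steps.fwd (nat_lit 8192) Steps.nil)))))) (nat_lit 160) (nat_lit 2),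
  Rule.mk (nat_lit 6) (nat_lit 104) (Steps.bwd (nat_lit 1) (Steps.fwd (nat_lit 90112) (Steps.bwd (nat_lit 1) (Steps.bwd (nat_lit 14) (Steps.fwd (nat_lit 98304) (Steps.bwd (nat_lit 11) Steps.nil)))))) (nat_lit 161) (nat_lit 4),
  Rule.mk (nat_lit 13) (nat_lit 104) (Steps.bwd (nat_lit 1) (Steps.fwd (nat_lit 73728) (Steps.fwd (nat_lit 65536) (Steps.bwd (nat_lit 5) (Steps.bwd (nat_lit 4) (Steps.fwd (nat_lit 8192) Steps.nil)))))) (nat_lit 165) (nat_lit 6),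
  Rule.mk (nat_lit 10) (nat_lit 134) (Steps.bwd (nat_lit 1) (Steps.bwd (nat_lit 14) (Steps.fwd (nat_lit 90112) (Steps.bwd (nat_lit 9) (Steps.fwd (nat_lit 65536) (Steps.fwd (nat_lit 40960) (Steps.bwd (nat_lit 4) (Steps.fwd (nat_lit 8192) Steps.nil)))))))) (nat_lit 159) (nat_lit 8),
  Rule.mk (nat_lit 7) (nat_lit 164) (Steps.bwd (nat_lit 1) (Steps.bwd (nat_lit 5) (Steps.bwd (nat_lit 6) (Steps.fwd (nat_lit 73728) (Steps.fwd (nat_lit 81920) (Steps.fwd (nat_lit 90112) (Steps.fwd (nat_lit 98304) (Steps.bwd (nat_lit 13) (Steps.bwd (nat_lit 14) (Steps.fwd (nat_lit 8192) Steps.nil)))))))))) (nat_lit 152) (nat_lit 2),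
  Rule.mk (nat_lit 3) (nat_lit 134) (Steps.fwd (nat_lit 49152) (Steps.bwd (nat_lit 10) (Steps.fwd (nat_lit 90112) (Steps.fwd (nat_lit 98304) (Steps.fwd (nat_lit 106496) (Steps.bwd (nat_lit 14) (Steps.bwd (nat_lit 2) (Steps.bwd (nat_lit 13) Steps.nil)))))))) (nat_lit 186) (nat_lit 3),
  Rule.mk (nat_lit 18) (nat_lit 179) (Steps.fwd (nat_lit 8192) (Steps.fwd (nat_lit 16384) (Steps.fwd (nat_lit 32768) (Steps.fwd (nat_lit 8192) (Steps.bwd (nat_lit 2) (Steps.fwd (nat_lit 8192) (Steps.fwd (nat_lit 24576) (Steps.bwd (nat_lit 1) (Steps.fwd (nat_lit 16384) (Steps.bwd (nat_lit 1) (Steps.bwd (nat_lit 3) Steps.nil))))))))))) (nat_lit 192) (nat_lit 1),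
  Rule.mk (nat_lit 18) (nat_lit 179) (Steps.fwd (nat_lit 8192) (Steps.bwd (nat_lit 3) (Steps.fwd (nat_lit 32768) (Steps.fwd (nat_lit 8192) (Steps.bwd (nat_lit 2) (Steps.bwd (nat_lit 1) (Steps.fwd (nat_lit 24576) (Steps.fwd (nat_lit 8192) (Steps.fwd (nat_lit 16384) (Steps.bwd (nat_lit 1) (Steps.bwd (nat_lit 3) Steps.nil))))))))))) (nat_lit 192) (nat_lit 1),
  Rule.mk (nat_lit 18) (nat_lit 179) (Steps.bwd (nat_lit 1) (Steps.bwd (nat_lit 3) (Steps.fwd (nat_lit 32768) (Steps.fwd (nat_lit 8192) (Steps.fwd (nat_lit 24576) (Steps.bwd (nat_lit 1) (Steps.bwd (nat_lit 2) (Steps.bwd (nat_lit 1) (Steps.bwd (nat_lit 3) (Steps.fwd (nat_lit 8192) (Steps.fwd (nat_lit 16384) Steps.nil))))))))))) (nat_lit 192) (nat_lit 1),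
  Rule.mk (nat_lit 20) (nat_lit 179) (Steps.fwd (nat_lit 8192) (Steps.bwd (nat_lit 2) (Steps.bwd (nat_lit 1) (Steps.fwd (nat_lit 24576) (Steps.fwd (nat_lit 8192) (Steps.fwd (nat_lit 16384) (Steps.bwd (nat_lit 1) (Steps.bwd (nat_lit 3) (Steps.fwd (nat_lit 8192) (Steps.fwd (nat_lit 32768) (Steps.fwd (nat_lit 24576) Steps.nil))))))))))) (nat_lit 194) (nat_lit 1),
  Rule.mk (nat_lit 19) (nat_lit 179) (Steps.bwd (nat_lit 3) (Steps.fwd (nat_lit 32768) (Steps.fwd (nat_lit 8192) (Steps.bwd (nat_lit 2) (Steps.bwd (nat_lit 1) (Steps.fwd (nat_lit 24576) (Steps.fwd (nat_lit 8192) (Steps.fwd (nat_lit 16384) (Steps.bwd (nat_lit 1) (Steps.bwd (nat_lit 3) (Steps.fwd (nat_lit 8192) Steps.nil))))))))))) (nat_lit 195) (nat_lit 0),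
  Rule.mk (nat_lit 2) (nat_lit 164) (Steps.bwd (nat_lit 6) (Steps.bwd (nat_lit 3) (Steps.bwd (nat_lit 14) (Steps.fwd (nat_lit 106496) (Steps.bwd (nat_lit 12) (Steps.bwd (nat_lit 11) (Steps.fwd (nat_lit 81920) (Steps.bwd (nat_lit 9) (Steps.fwd (nat_lit 49152) (Steps.bwd (nat_lit 5) Steps.nil)))))))))) (nat_lit 173) (nat_lit 9),
  Rule.mk (nat_lit 14) (nat_lit 119) (Steps.bwd (nat_lit 3) (Steps.fwd (nat_lit 40960) (Steps.bwd (nat_lit 6) (Steps.fwd (nat_lit 57344) (Steps.bwd (nat_lit 12) (Steps.bwd (nat_lit 14) (Steps.bwd (nat_lit 2) Steps.nil))))))) (nat_lit 188) (nat_lit 2),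
  Rule.mk (nat_lit 1) (nat_lit 179) (Steps.bwd (nat_lit 3) (Steps.fwd (nat_lit 8192) (Steps.fwd (nat_lit 16384) (Steps.fwd (nat_lit 8192) (Steps.fwd (nat_lit 16384) (Steps.fwd (nat_lit 8192) (Steps.bwd (nat_lit 2) (Steps.fwd (nat_lit 32768) (Steps.fwd (nat_lit 8192) (Steps.bwd (nat_lit 2) (Steps.fwd (nat_lit 122880) Steps.nil))))))))))) (nat_lit 190) (nat_lit 2),
  Rule.mk (nat_lit 14) (nat_lit 134) (Steps.bwd (nat_lit 1) (Steps.fwd (nat_lit 114688) (Steps.fwd (nat_lit 106496) (Steps.bwd (nat_lit 12) (Steps.fwd (nat_lit 90112) (Steps.bwd (nat_lit 10) (Steps.fwd (nat_lit 49152) (Steps.fwd (nat_lit 8192) Steps.nil)))))))) (nat_lit 167) (nat_lit 8),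
  Rule.mk (nat_lit 12) (nat_lit 164) (Steps.bwd (nat_lit 11) (Steps.bwd (nat_lit 10) (Steps.fwd (nat_lit 73728) (Steps.bwd (nat_lit 8) (Steps.bwd (nat_lit 5) (Steps.fwd (nat_lit 32768) (Steps.fwd (nat_lit 8192) (Steps.fwd (nat_lit 98304) (Steps.fwd (nat_lit 8192) (Steps.bwd (nat_lit 14) Steps.nil)))))))))) (nat_lit 163) (nat_lit 2),
  Rule.mk (nat_lit 8) (nat_lit 104) (Steps.bwd (nat_lit 1) (Steps.fwd (nat_lit 40960) (Steps.fwd (nat_lit 57344) (Steps.fwd (nat_lit 106496) (Steps.fwd (nat_lit 114688) (Steps.bwd (nat_lit 1) Steps.nil)))))) (nat_lit 154) (nat_lit 2),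
  Rule.mk (nat_lit 10) (nat_lit 134) (Steps.bwd (nat_lit 1) (Steps.fwd (nat_lit 32768) (Steps.fwd (nat_lit 40960) (Steps.bwd (nat_lit 8) (Steps.fwd (nat_lit 73728) (Steps.fwd (nat_lit 90112) (Steps.bwd (nat_lit 14) (Steps.bwd (nat_lit 1) Steps.nil)))))))) (nat_lit 158) (nat_lit 2),
  Rule.mk (nat_lit 3) (nat_lit 134) (Steps.fwd (nat_lit 49152) (Steps.bwd (nat_lit 10) (Steps.fwd (nat_lit 90112) (Steps.bwd (nat_lit 12) (Steps.bwd (nat_lit 13) (Steps.fwd (nat_lit 114688) (Steps.fwd (nat_lit 24576) (Steps.bwd (nat_lit 13) Steps.nil)))))))) (nat_lit 186) (nat_lit 3),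
  Rule.mk (nat_lit 18) (nat_lit 179) (Steps.bwd (nat_lit 1) (Steps.fwd (nat_lit 16384) (Steps.fwd (nat_lit 32768) (Steps.bwd (nat_lit 1) (Steps.fwd (nat_lit 24576) (Steps.bwd (nat_lit 1) (Steps.bwd (nat_lit 2) (Steps.bwd (nat_lit 1) (Steps.bwd (nat_lit 3) (Steps.fwd (nat_lit 8192) (Steps.bwd (nat_lit 3) Steps.nil))))))))))) (nat_lit 192) (nat_lit 1),
  Rule.mk (nat_lit 1) (nat_lit 179) (Steps.bwd (nat_lit 19) (Steps.fwd (nat_lit 16384) (Steps.fwd (nat_lit 32768) (Steps.bwd (nat_lit 1) (Steps.fwd (nat_lit 24576) (Steps.bwd (nat_lit 1) (Steps.bwd (nat_lit 2) (Steps.bwd (nat_lit 1) (Steps.bwd (nat_lit 3) (Steps.fwd (nat_lit 8192) (Steps.bwd (nat_lit 3) Steps.nil))))))))))) (nat_lit 195) (nat_lit 11),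
  Rule.mk (nat_lit 13) (nat_lit 104) (Steps.fwd (nat_lit 8192) (Steps.fwd (nat_lit 32768) (Steps.fwd (nat_lit 40960) (Steps.bwd (nat_lit 8) (Steps.fwd (nat_lit 73728) (Steps.bwd (nat_lit 1) Steps.nil)))))) (nat_lit 164) (nat_lit 2),
  Rule.mk (nat_lit 2) (nat_lit 134) (Steps.bwd (nat_lit 13) (Steps.bwd (nat_lit 3) (Steps.bwd (nat_lit 6) (Steps.bwd (nat_lit 10) (Steps.fwd (nat_lit 90112) (Steps.bwd (nat_lit 12) (Steps.bwd (nat_lit 13) (Steps.fwd (nat_lit 114688) Steps.nil)))))))) (nat_lit 186) (nat_lit 1),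
  Rule.mk (nat_lit 7) (nat_lit 59) (Steps.fwd (nat_lit 98304) (Steps.fwd (nat_lit 57344) (Steps.bwd (nat_lit 12) Steps.nil))) (nat_lit 98) (nat_lit 0),
  Rule.mk (nat_lit 5) (nat_lit 104) (Steps.bwd (nat_lit 2) (Steps.fwd (nat_lit 57344) (Steps.fwd (nat_lit 16384) (Steps.bwd (nat_lit 14) (Steps.bwd (nat_lit 13) (Steps.bwd (nat_lit 7) Steps.nil)))))) (nat_lit 175) (nat_lit 4),
  Rule.mk (nat_lit 6) (nat_lit 104) (Steps.bwd (nat_lit 2) (Steps.fwd (nat_lit 81920) (Steps.bwd (nat_lit 3) (Steps.bwd (nat_lit 14) (Steps.fwd (nat_lit 98304) (Steps.fwd (nat_lit 90112) Steps.nil)))))) (nat_lit 181) (nat_lit 4),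
  Rule.mk (nat_lit 13) (nat_lit 59) (Steps.fwd (nat_lit 49152) (Steps.fwd (nat_lit 106496) (Steps.bwd (nat_lit 6) Steps.nil))) (nat_lit 112) (nat_lit 1),
  Rule.mk (nat_lit 1) (nat_lit 104) (Steps.bwd (nat_lit 13) (Steps.bwd (nat_lit 1) (Steps.fwd (nat_lit 32768) (Steps.fwd (nat_lit 40960) (Steps.bwd (nat_lit 8) (Steps.fwd (nat_lit 73728) Steps.nil)))))) (nat_lit 164) (nat_lit 1),
  Rule.mk (nat_lit 0) (nat_lit 194) (Steps.bwd (nat_lit 15) (Steps.bwd (nat_lit 3) (Steps.bwd (nat_lit 1) (Steps.fwd (nat_lit 32768) (Steps.fwd (nat_lit 16384) (Steps.bwd (nat_lit 1) (Steps.fwd (nat_lit 24576) (Steps.bwd (nat_lit 1) (Steps.bwd (nat_lit 2) (Steps.bwd (nat_lit 1) (Steps.bwd (nat_lit 2) (Steps.fwd (nat_lit 8192) Steps.nil)))))))))))) (nat_lit 191) (nat_lit 11),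
  Rule.mk (nat_lit 6) (nat_lit 149) (Steps.bwd (nat_lit 1) (Steps.fwd (nat_lit 32768) (Steps.fwd (nat_lit 40960) (Steps.bwd (nat_lit 8) (Steps.bwd (nat_lit 9) (Steps.bwd (nat_lit 12) (Steps.bwd (nat_lit 13) (Steps.bwd (nat_lit 14) (Steps.bwd (nat_lit 1) Steps.nil))))))))) (nat_lit 150) (nat_lit 2)]
noncomputable def R_41 : List (Rule) := [Rule.mk (nat_lit 2) (nat_lit 104) (Steps.fwd (nat_lit 57344) (Steps.fwd (nat_lit 16384) (Steps.bwd (nat_lit 5) (Steps.fwd (nat_lit 57344) (Steps.bwd (nat_lit 13) (Steps.bwd (nat_lit 14) Steps.nil)))))) (nat_lit 174) (nat_lit 1),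
  Rule.mk (nat_lit 11) (nat_lit 104) (Steps.bwd (nat_lit 1) (Steps.fwd (nat_lit 49152) (Steps.fwd (nat_lit 90112) (Steps.bwd (nat_lit 12) (Steps.bwd (nat_lit 14) (Steps.bwd (nat_lit 1) Steps.nil)))))) (nat_lit 160) (nat_lit 2),
  Rule.mk (nat_lit 10) (nat_lit 134) (Steps.bwd (nat_lit 1) (Steps.bwd (nat_lit 4) (Steps.fwd (nat_lit 40960) (Steps.fwd (nat_lit 65536) (Steps.bwd (nat_lit 9) (Steps.fwd (nat_lit 90112) (Steps.fwd (nat_lit 114688) (Steps.bwd (nat_lit 1) Steps.nil)))))))) (nat_lit 158) (nat_lit 2),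
  Rule.mk (nat_lit 6) (nat_lit 149) (Steps.bwd (nat_lit 1) (Steps.bwd (nat_lit 4) (Steps.fwd (nat_lit 40960) (Steps.fwd (nat_lit 65536) (Steps.bwd (nat_lit 9) (Steps.bwd (nat_lit 12) (Steps.bwd (nat_lit 13) (Steps.fwd (nat_lit 114688) (Steps.fwd (nat_lit 8192) Steps.nil))))))))) (nat_lit 150) (nat_lit 2),
  Rule.mk (nat_lit 16) (nat_lit 179) (Steps.bwd (nat_lit 1) (Steps.fwd (nat_lit 16384) (Steps.fwd (nat_lit 8192) (Steps.fwd (nat_lit 16384) (Steps.fwd (nat_lit 8192) (Steps.fwd (nat_lit 16384) (Steps.bwd (nat_lit 1) (Steps.fwd (nat_lit 24576) (Steps.bwd (nat_lit 4) (Steps.bwd (nat_lit 1) (Steps.bwd (nat_lit 2) Steps.nil))))))))))) (nat_lit 190) (nat_lit 1),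
  Rule.mk (nat_lit 0) (nat_lit 194) (Steps.bwd (nat_lit 18) (Steps.fwd (nat_lit 8192) (Steps.bwd (nat_lit 3) (Steps.bwd (nat_lit 4) (Steps.bwd (nat_lit 1) (Steps.bwd (nat_lit 2) (Steps.bwd (nat_lit 1) (Steps.fwd (nat_lit 24576) (Steps.fwd (nat_lit 8192) (Steps.bwd (nat_lit 3) (Steps.bwd (nat_lit 1) (Steps.bwd (nat_lit 3) Steps.nil)))))))))))) (nat_lit 192) (nat_lit 0),
  Rule.mk (nat_lit 18) (nat_lit 179) (Steps.bwd (nat_lit 1) (Steps.fwd (nat_lit 16384) (Steps.bwd (nat_lit 4) (Steps.fwd (nat_lit 8192) (Steps.bwd (nat_lit 2) (Steps.bwd (nat_lit 1) (Steps.bwd (nat_lit 2) (Steps.fwd (nat_lit 8192) (Steps.fwd (nat_lit 16384) (Steps.fwd (nat_lit 8192) (Steps.bwd (nat_lit 3) Steps.nil))))))))))) (nat_lit 192) (nat_lit 1),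
  Rule.mk (nat_lit 2) (nat_lit 179) (Steps.bwd (nat_lit 1) (Steps.bwd (nat_lit 2) (Steps.bwd (nat_lit 1) (Steps.bwd (nat_lit 3) (Steps.fwd (nat_lit 8192) (Steps.fwd (nat_lit 16384) (Steps.fwd (nat_lit 8192) (Steps.fwd (nat_lit 32768) (Steps.fwd (nat_lit 24576) (Steps.bwd (nat_lit 1) (Steps.fwd (nat_lit 147456) Steps.nil))))))))))) (nat_lit 193) (nat_lit 1),
  Rule.mk (nat_lit 0) (nat_lit 74) (Steps.bwd (nat_lit 2) (Steps.fwd (nat_lit 32768) (Steps.bwd (nat_lit 3) (Steps.bwd (nat_lit 4) Steps.nil)))) (nat_lit 168) (nat_lit 0),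
  Rule.mk (nat_lit 16) (nat_lit 179) (Steps.fwd (nat_lit 8192) (Steps.bwd (nat_lit 3) (Steps.fwd (nat_lit 8192) (Steps.fwd (nat_lit 16384) (Steps.bwd (nat_lit 1) (Steps.bwd (nat_lit 3) (Steps.fwd (nat_lit 8192) (Steps.fwd (nat_lit 24576) (Steps.bwd (nat_lit 4) (Steps.fwd (nat_lit 8192) (Steps.fwd (nat_lit 24576) Steps.nil))))))))))) (nat_lit 190) (nat_lit 1),
  Rule.mk (nat_lit 15) (nat_lit 179) (Steps.bwd (nat_lit 3) (Steps.bwd (nat_lit 1) (Steps.fwd (nat_lit 32768) (Steps.bwd (nat_lit 3) (Steps.bwd (nat_lit 1) (Steps.bwd (nat_lit 2) (Steps.fwd (nat_lit 8192) (Steps.bwd (nat_lit 2) (Steps.fwd (nat_lit 8192) (Steps.fwd (nat_lit 24576) (Steps.bwd (nat_lit 1) Steps.nil))))))))))) (nat_lit 191) (nat_lit 0),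
  Rule.mk (nat_lit 15) (nat_lit 179) (Steps.fwd (nat_lit 16384) (Steps.bwd (nat_lit 1) (Steps.bwd (nat_lit 4) (Steps.fwd (nat_lit 16384) (Steps.fwd (nat_lit 8192) (Steps.bwd (nat_lit 2) (Steps.fwd (nat_lit 8192) (Steps.fwd (nat_lit 24576) (Steps.bwd (nat_lit 1) (Steps.bwd (nat_lit 2) (Steps.bwd (nat_lit 1) Steps.nil))))))))))) (nat_lit 191) (nat_lit 0),
  Rule.mk (nat_lit 0) (nat_lit 194) (Steps.bwd (nat_lit 18) (Steps.fwd (nat_lit 8192) (Steps.bwd (nat_lit 3) (Steps.bwd (nat_lit 4) (Steps.fwd (nat_lit 8192) (Steps.fwd (nat_lit 24576) (Steps.bwd (nat_lit 1) (Steps.bwd (nat_lit 2) (Steps.bwd (nat_lit 1) (Steps.bwd (nat_lit 3) (Steps.fwd (nat_lit 8192) (Steps.fwd (nat_lit 16384) Steps.nil)))))))))))) (nat_lit 192) (nat_lit 0),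
  Rule.mk (nat_lit 17) (nat_lit 179) (Steps.bwd (nat_lit 2) (Steps.bwd (nat_lit 1) (Steps.bwd (nat_lit 2) (Steps.fwd (nat_lit 8192) (Steps.fwd (nat_lit 16384) (Steps.fwd (nat_lit 8192) (Steps.fwd (nat_lit 16384) (Steps.bwd (nat_lit 1) (Steps.bwd (nat_lit 4) (Steps.fwd (nat_lit 24576) (Steps.bwd (nat_lit 1) Steps.nil))))))))))) (nat_lit 193) (nat_lit 0),
  Rule.mk (nat_lit 20) (nat_lit 179) (Steps.bwd (nat_lit 1) (Steps.bwd (nat_lit 2) (Steps.bwd (nat_lit 1) (Steps.bwd (nat_lit 2) (Steps.fwd (nat_lit 8192) (Steps.fwd (nat_lit 16384) (Steps.fwd (nat_lit 8192) (Steps.fwd (nat_lit 16384) (Steps.bwd (nat_lit 1) (Steps.bwd (nat_lit 4) (Steps.fwd (nat_lit 24576) Steps.nil))))))))))) (nat_lit 194) (nat_lit 1),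
  Rule.mk (nat_lit 20) (nat_lit 179) (Steps.fwd (nat_lit 8192) (Steps.fwd (nat_lit 24576) (Steps.bwd (nat_lit 1) (Steps.bwd (nat_lit 2) (Steps.bwd (nat_lit 1) (Steps.bwd (nat_lit 3) (Steps.fwd (nat_lit 8192) (Steps.fwd (nat_lit 16384) (Steps.fwd (nat_lit 8192) (Steps.fwd (nat_lit 32768) (Steps.fwd (nat_lit 24576) Steps.nil))))))))))) (nat_lit 194) (nat_lit 1),
  Rule.mk (nat_lit 19) (nat_lit 179) (Steps.bwd (nat_lit 3) (Steps.bwd (nat_lit 4) (Steps.fwd (nat_lit 8192) (Steps.fwd (nat_lit 24576) (Steps.bwd (nat_lit 1) (Steps.bwd (nat_lit 2) (Steps.bwd (nat_lit 1) (Steps.bwd (nat_lit 3) (Steps.fwd (nat_lit 8192) (Steps.fwd (nat_lit 16384) (Steps.fwd (nat_lit 8192) Steps.nil))))))))))) (nat_lit 195) (nat_lit 0),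
  Rule.mk (nat_lit 16) (nat_lit 179) (Steps.bwd (nat_lit 1) (Steps.bwd (nat_lit 3) (Steps.bwd (nat_lit 1) (Steps.fwd (nat_lit 16384) (Steps.fwd (nat_lit 8192) (Steps.bwd (nat_lit 3) (Steps.bwd (nat_lit 1) (Steps.bwd (nat_lit 2) (Steps.fwd (nat_lit 32768) (Steps.bwd (nat_lit 1) (Steps.bwd (nat_lit 2) Steps.nil))))))))))) (nat_lit 190) (nat_lit 1),
  Rule.mk (nat_lit 0) (nat_lit 194) (Steps.bwd (nat_lit 15) (Steps.fwd (nat_lit 16384) (Steps.fwd (nat_lit 8192) (Steps.fwd (nat_lit 32768) (Steps.fwd (nat_lit 16384) (Steps.bwd (nat_lit 1) (Steps.bwd (nat_lit 2) (Steps.fwd (nat_lit 8192) (Steps.fwd (nat_lit 24576) (Steps.bwd (nat_lit 1) (Steps.bwd (nat_lit 2) (Steps.fwd (nat_lit 8192) Steps.nil)))))))))))) (nat_lit 191) (nat_lit 11),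
  Rule.mk (nat_lit 0) (nat_lit 194) (Steps.bwd (nat_lit 15) (Steps.bwd (nat_lit 3) (Steps.fwd (nat_lit 8192) (Steps.bwd (nat_lit 4) (Steps.bwd (nat_lit 3) (Steps.bwd (nat_lit 1) (Steps.bwd (nat_lit 2) (Steps.bwd (nat_lit 1) (Steps.fwd (nat_lit 24576) (Steps.fwd (nat_lit 8192) (Steps.bwd (nat_lit 2) (Steps.bwd (nat_lit 1) Steps.nil)))))))))))) (nat_lit 191) (nat_lit 11),
  Rule.mk (nat_lit 15) (nat_lit 179) (Steps.bwd (nat_lit 3) (Steps.bwd (nat_lit 1) (Steps.bwd (nat_lit 4) (Steps.bwd (nat_lit 3) (Steps.fwd (nat_lit 8192) (Steps.bwd (nat_lit 2) (Steps.bwd (nat_lit 1) (Steps.bwd (nat_lit 2) (Steps.fwd (nat_lit 8192) (Steps.fwd (nat_lit 24576) (Steps.bwd (nat_lit 1) Steps.nil))))))))))) (nat_lit 191) (nat_lit 0),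
  Rule.mk (nat_lit 0) (nat_lit 194) (Steps.bwd (nat_lit 1) (Steps.bwd (nat_lit 3) (Steps.fwd (nat_lit 32768) (Steps.bwd (nat_lit 1) (Steps.fwd (nat_lit 24576) (Steps.bwd (nat_lit 1) (Steps.bwd (nat_lit 2) (Steps.fwd (nat_lit 8192) (Steps.bwd (nat_lit 3) (Steps.bwd (nat_lit 1) (Steps.fwd (nat_lit 16384) (Steps.fwd (nat_lit 139264) Steps.nil)))))))))))) (nat_lit 192) (nat_lit 1),
  Rule.mk (nat_lit 0) (nat_lit 194) (Steps.fwd (nat_lit 8192) (Steps.fwd (nat_lit 16384) (Steps.fwd (nat_lit 32768) (Steps.bwd (nat_lit 1) (Steps.bwd (nat_lit 2) (Steps.fwd (nat_lit 8192) (Steps.fwd (nat_lit 24576) (Steps.bwd (nat_lit 1) (Steps.fwd (nat_lit 16384) (Steps.fwd (nat_lit 8192) (Steps.bwd (nat_lit 3) (Steps.fwd (nat_lit 139264) Steps.nil)))))))))))) (nat_lit 192) (nat_lit 1),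
  Rule.mk (nat_lit 20) (nat_lit 179) (Steps.bwd (nat_lit 1) (Steps.fwd (nat_lit 24576) (Steps.bwd (nat_lit 1) (Steps.bwd (nat_lit 2) (Steps.fwd (nat_lit 8192) (Steps.bwd (nat_lit 3) (Steps.bwd (nat_lit 1) (Steps.fwd (nat_lit 16384) (Steps.fwd (nat_lit 8192) (Steps.bwd (nat_lit 4) (Steps.bwd (nat_lit 2) Steps.nil))))))))))) (nat_lit 194) (nat_lit 1),
  Rule.mk (nat_lit 2) (nat_lit 104) (Steps.bwd (nat_lit 7) (Steps.bwd (nat_lit 3) (Steps.fwd (nat_lit 40960) (Steps.bwd (nat_lit 7) (Steps.bwd (nat_lit 13) (Steps.bwd (nat_lit 14) Steps.nil)))))) (nat_lit 174) (nat_lit 1),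
  Rule.mk (nat_lit 17) (nat_lit 179) (Steps.bwd (nat_lit 2) (Steps.fwd (nat_lit 8192) (Steps.bwd (nat_lit 2) (Steps.bwd (nat_lit 1) (Steps.bwd (nat_lit 3) (Steps.bwd (nat_lit 1) (Steps.fwd (nat_lit 16384) (Steps.fwd (nat_lit 8192) (Steps.bwd (nat_lit 4) (Steps.bwd (nat_lit 2) (Steps.bwd (nat_lit 1) Steps.nil))))))))))) (nat_lit 193) (nat_lit 0),
  Rule.mk (nat_lit 20) (nat_lit 179) (Steps.fwd (nat_lit 8192) (Steps.bwd (nat_lit 2) (Steps.fwd (nat_lit 8192) (Steps.bwd (nat_lit 2) (Steps.bwd (nat_lit 1) (Steps.bwd (nat_lit 3) (Steps.bwd (nat_lit 1) (Steps.fwd (nat_lit 16384) (Steps.fwd (nat_lit 8192) (Steps.bwd (nat_lit 4) (Steps.bwd (nat_lit 2) Steps.nil))))))))))) (nat_lit 194) (nat_lit 1),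
  Rule.mk (nat_lit 1) (nat_lit 104) (Steps.bwd (nat_lit 11) (Steps.fwd (nat_lit 8192) (Steps.bwd (nat_lit 14) (Steps.bwd (nat_lit 12) (Steps.fwd (nat_lit 90112) (Steps.bwd (nat_lit 6) Steps.nil)))))) (nat_lit 161) (nat_lit 5),
  Rule.mk (nat_lit 2) (nat_lit 164) (Steps.bwd (nat_lit 11) (Steps.fwd (nat_lit 16384) (Steps.bwd (nat_lit 4) (Steps.fwd (nat_lit 40960) (Steps.bwd (nat_lit 8) (Steps.fwd (nat_lit 73728) (Steps.bwd (nat_lit 10) (Steps.fwd (nat_lit 90112) (Steps.bwd (nat_lit 12) (Steps.fwd (nat_lit 114688) Steps.nil)))))))))) (nat_lit 182) (nat_lit 1),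
  Rule.mk (nat_lit 16) (nat_lit 179) (Steps.fwd (nat_lit 8192) (Steps.fwd (nat_lit 16384) (Steps.bwd (nat_lit 1) (Steps.bwd (nat_lit 3) (Steps.bwd (nat_lit 1) (Steps.fwd (nat_lit 16384) (Steps.fwd (nat_lit 8192) (Steps.bwd (nat_lit 2) (Steps.bwd (nat_lit 4) (Steps.fwd (nat_lit 8192) (Steps.bwd (nat_lit 2) Steps.nil))))))))))) (nat_lit 190) (nat_lit 1),
  Rule.mk (nat_lit 9) (nat_lit 104) (Steps.bwd (nat_lit 2) (Steps.bwd (nat_lit 12) (Steps.bwd (nat_lit 3) (Steps.bwd (nat_lit 4) (Steps.bwd (nat_lit 5) (Steps.fwd (nat_lit 65536) Steps.nil)))))) (nat_lit 184) (nat_lit 0),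
  Rule.mk (nat_lit 16) (nat_lit 179) (Steps.bwd (nat_lit 1) (Steps.bwd (nat_lit 3) (Steps.bwd (nat_lit 1) (Steps.fwd (nat_lit 16384) (Steps.fwd (nat_lit 8192) (Steps.bwd (nat_lit 3) (Steps.bwd (nat_lit 1) (Steps.bwd (nat_lit 2) (Steps.bwd (nat_lit 4) (Steps.bwd (nat_lit 1) (Steps.bwd (nat_lit 2) Steps.nil))))))))))) (nat_lit 190) (nat_lit 1),
  Rule.mk (nat_lit 13) (nat_lit 104) (Steps.bwd (nat_lit 1) (Steps.bwd (nat_lit 4) (Steps.fwd (nat_lit 40960) (Steps.bwd (nat_lit 8) (Steps.bwd (nat_lit 9) (Steps.fwd (nat_lit 8192) Steps.nil)))))) (nat_lit 164) (nat_lit 2),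
  Rule.mk (nat_lit 10) (nat_lit 134) (Steps.bwd (nat_lit 1) (Steps.bwd (nat_lit 4) (Steps.fwd (nat_lit 40960) (Steps.bwd (nat_lit 8) (Steps.bwd (nat_lit 9) (Steps.bwd (nat_lit 11) (Steps.bwd (nat_lit 14) (Steps.bwd (nat_lit 1) Steps.nil)))))))) (nat_lit 158) (nat_lit 2),
  Rule.mk (nat_lit 3) (nat_lit 134) (Steps.fwd (nat_lit 114688) (Steps.bwd (nat_lit 13) (Steps.fwd (nat_lit 98304) (Steps.fwd (nat_lit 90112) (Steps.bwd (nat_lit 10) (Steps.fwd (nat_lit 49152) (Steps.fwd (nat_lit 24576) (Steps.bwd (nat_lit 13) Steps.nil)))))))) (nat_lit 187) (nat_lit 0),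
  Rule.mk (nat_lit 1) (nat_lit 179) (Steps.bwd (nat_lit 3) (Steps.bwd (nat_lit 1) (Steps.bwd (nat_lit 3) (Steps.bwd (nat_lit 1) (Steps.fwd (nat_lit 16384) (Steps.bwd (nat_lit 1) (Steps.bwd (nat_lit 2) (Steps.fwd (nat_lit 32768) (Steps.fwd (nat_lit 8192) (Steps.fwd (nat_lit 24576) (Steps.fwd (nat_lit 122880) Steps.nil))))))))))) (nat_lit 190) (nat_lit 2),
  Rule.mk (nat_lit 7) (nat_lit 164) (Steps.bwd (nat_lit 1) (Steps.fwd (nat_lit 40960) (Steps.bwd (nat_lit 6) (Steps.fwd (nat_lit 73728) (Steps.fwd (nat_lit 81920) (Steps.bwd (nat_lit 11) (Steps.fwd (nat_lit 98304) (Steps.bwd (nat_lit 13) (Steps.bwd (nat_lit 14) (Steps.fwd (nat_lit 8192) Steps.nil)))))))))) (nat_lit 152) (nat_lit 2),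
  Rule.mk (nat_lit 3) (nat_lit 104) (Steps.bwd (nat_lit 9) (Steps.bwd (nat_lit 8) (Steps.fwd (nat_lit 40960) (Steps.bwd (nat_lit 4) (Steps.bwd (nat_lit 2) (Steps.fwd (nat_lit 98304) Steps.nil)))))) (nat_lit 185) (nat_lit 0),
  Rule.mk (nat_lit 0) (nat_lit 194) (Steps.bwd (nat_lit 3) (Steps.bwd (nat_lit 1) (Steps.fwd (nat_lit 32768) (Steps.fwd (nat_lit 16384) (Steps.bwd (nat_lit 1) (Steps.fwd (nat_lit 24576) (Steps.bwd (nat_lit 1) (Steps.fwd (nat_lit 24576) (Steps.fwd (nat_lit 8192) (Steps.bwd (nat_lit 2) (Steps.bwd (nat_lit 1) (Steps.fwd (nat_lit 131072) Steps.nil)))))))))))) (nat_lit 191) (nat_lit 0),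
  Rule.mk (nat_lit 0) (nat_lit 194) (Steps.bwd (nat_lit 15) (Steps.fwd (nat_lit 16384) (Steps.bwd (nat_lit 1) (Steps.bwd (nat_lit 4) (Steps.fwd (nat_lit 16384) (Steps.bwd (nat_lit 1) (Steps.bwd (nat_lit 2) (Steps.bwd (nat_lit 1) (Steps.fwd (nat_lit 24576) (Steps.bwd (nat_lit 1) (Steps.fwd (nat_lit 24576) (Steps.fwd (nat_lit 8192) Steps.nil)))))))))))) (nat_lit 191) (nat_lit 11),
  Rule.mk (nat_lit 15) (nat_lit 179) (Steps.bwd (nat_lit 3) (Steps.fwd (nat_lit 8192) (Steps.fwd (nat_lit 32768) (Steps.bwd (nat_lit 3) (Steps.bwd (nat_lit 1) (Steps.fwd (nat_lit 24576) (Steps.bwd (nat_lit 1) (Steps.bwd (nat_lit 2) (Steps.bwd (nat_lit 1) (Steps.fwd (nat_lit 24576) (Steps.fwd (nat_lit 8192) Steps.nil))))))))))) (nat_lit 191) (nat_lit 0),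
  Rule.mk (nat_lit 18) (nat_lit 179) (Steps.fwd (nat_lit 8192) (Steps.fwd (nat_lit 16384) (Steps.bwd (nat_lit 4) (Steps.fwd (nat_lit 8192) (Steps.fwd (nat_lit 24576) (Steps.fwd (nat_lit 8192) (Steps.bwd (nat_lit 2) (Steps.bwd (nat_lit 1) (Steps.bwd (nat_lit 3) (Steps.fwd (nat_lit 8192) (Steps.bwd (nat_lit 3) Steps.nil))))))))))) (nat_lit 192) (nat_lit 1),
  Rule.mk (nat_lit 18) (nat_lit 179) (Steps.fwd (nat_lit 8192) (Steps.bwd (nat_lit 3) (Steps.bwd (nat_lit 4) (Steps.bwd (nat_lit 1) (Steps.bwd (nat_lit 2) (Steps.fwd (nat_lit 8192) (Steps.bwd (nat_lit 2) (Steps.fwd (nat_lit 8192) (Steps.bwd (nat_lit 3) (Steps.fwd (nat_lit 8192) (Steps.fwd (nat_lit 16384) Steps.nil))))))))))) (nat_lit 192) (nat_lit 1),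
  Rule.mk (nat_lit 17) (nat_lit 179) (Steps.fwd (nat_lit 24576) (Steps.fwd (nat_lit 8192) (Steps.bwd (nat_lit 2) (Steps.bwd (nat_lit 1) (Steps.bwd (nat_lit 3) (Steps.fwd (nat_lit 8192) (Steps.bwd (nat_lit 3) (Steps.fwd (nat_lit 8192) (Steps.fwd (nat_lit 32768) (Steps.bwd (nat_lit 2) (Steps.fwd (nat_lit 8192) Steps.nil))))))))))) (nat_lit 193) (nat_lit 0),
  Rule.mk (nat_lit 17) (nat_lit 179) (Steps.bwd (nat_lit 2) (Steps.fwd (nat_lit 8192) (Steps.bwd (nat_lit 2) (Steps.fwd (nat_lit 8192) (Steps.bwd (nat_lit 3) (Steps.fwd (nat_lit 8192) (Steps.fwd (nat_lit 16384) (Steps.fwd (nat_lit 8192) (Steps.bwd (nat_lit 4) (Steps.fwd (nat_lit 24576) (Steps.fwd (nat_lit 8192) Steps.nil))))))))))) (nat_lit 193) (nat_lit 0),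
  Rule.mk (nat_lit 0) (nat_lit 194) (Steps.bwd (nat_lit 20) (Steps.fwd (nat_lit 8192) (Steps.fwd (nat_lit 24576) (Steps.fwd (nat_lit 8192) (Steps.bwd (nat_lit 2) (Steps.bwd (nat_lit 1) (Steps.bwd (nat_lit 3) (Steps.fwd (nat_lit 8192) (Steps.bwd (nat_lit 3) (Steps.fwd (nat_lit 8192) (Steps.fwd (nat_lit 32768) (Steps.bwd (nat_lit 2) Steps.nil)))))))))))) (nat_lit 194) (nat_lit 0),
  Rule.mk (nat_lit 0) (nat_lit 194) (Steps.bwd (nat_lit 19) (Steps.bwd (nat_lit 3) (Steps.fwd (nat_lit 32768) (Steps.bwd (nat_lit 1) (Steps.bwd (nat_lit 2) (Steps.bwd (nat_lit 1) (Steps.fwd (nat_lit 24576) (Steps.bwd (nat_lit 1) (Steps.fwd (nat_lit 16384) (Steps.bwd (nat_lit 1) (Steps.fwd (nat_lit 16384) (Steps.fwd (nat_lit 8192) Steps.nil)))))))))))) (nat_lit 195) (nat_lit 11),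
  Rule.mk (nat_lit 0) (nat_lit 194) (Steps.bwd (nat_lit 19) (Steps.fwd (nat_lit 16384) (Steps.bwd (nat_lit 4) (Steps.fwd (nat_lit 8192) (Steps.fwd (nat_lit 24576) (Steps.fwd (nat_lit 8192) (Steps.bwd (nat_lit 2) (Steps.bwd (nat_lit 1) (Steps.bwd (nat_lit 3) (Steps.fwd (nat_lit 8192) (Steps.bwd (nat_lit 3) (Steps.fwd (nat_lit 8192) Steps.nil)))))))))))) (nat_lit 195) (nat_lit 11),
  Rule.mk (nat_lit 0) (nat_lit 194) (Steps.bwd (nat_lit 20) (Steps.bwd (nat_lit 1) (Steps.bwd (nat_lit 2) (Steps.bwd (nat_lit 1) (Steps.fwd (nat_lit 24576) (Steps.bwd (nat_lit 1) (Steps.fwd (nat_lit 16384) (Steps.bwd (nat_lit 1) (Steps.fwd (nat_lit 16384) (Steps.fwd (nat_lit 8192) (Steps.fwd (nat_lit 32768) (Steps.fwd (nat_lit 24576) Steps.nil)))))))))))) (nat_lit 194) (nat_lit 0),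
  Rule.mk (nat_lit 2) (nat_lit 164) (Steps.bwd (nat_lit 11) (Steps.fwd (nat_lit 16384) (Steps.fwd (nat_lit 32768) (Steps.bwd (nat_lit 5) (Steps.fwd (nat_lit 65536) (Steps.bwd (nat_lit 9) (Steps.bwd (nat_lit 10) (Steps.bwd (nat_lit 11) (Steps.bwd (nat_lit 12) (Steps.bwd (nat_lit 14) Steps.nil)))))))))) (nat_lit 182) (nat_lit 1),
  Rule.mk (nat_lit 0) (nat_lit 194) (Steps.bwd (nat_lit 15) (Steps.bwd (nat_lit 3) (Steps.fwd (nat_lit 8192) (Steps.bwd (nat_lit 4) (Steps.fwd (nat_lit 16384) (Steps.bwd (nat_lit 1) (Steps.fwd (nat_lit 24576) (Steps.bwd (nat_lit 1) (Steps.bwd (nat_lit 2) (Steps.fwd (nat_lit 8192) (Steps.fwd (nat_lit 24576) (Steps.bwd (nat_lit 1) Steps.nil)))))))))))) (nat_lit 191) (nat_lit 11),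
  Rule.mk (nat_lit 18) (nat_lit 179) (Steps.fwd (nat_lit 8192) (Steps.bwd (nat_lit 3) (Steps.bwd (nat_lit 4) (Steps.bwd (nat_lit 1) (Steps.fwd (nat_lit 24576) (Steps.bwd (nat_lit 1) (Steps.bwd (nat_lit 2) (Steps.fwd (nat_lit 8192) (Steps.bwd (nat_lit 3) (Steps.bwd (nat_lit 1) (Steps.fwd (nat_lit 16384) Steps.nil))))))))))) (nat_lit 192) (nat_lit 1),
  Rule.mk (nat_lit 17) (nat_lit 179) (Steps.fwd (nat_lit 24576) (Steps.bwd (nat_lit 1) (Steps.bwd (nat_lit 2) (Steps.fwd (nat_lit 8192) (Steps.bwd (nat_lit 3) (Steps.bwd (nat_lit 1) (Steps.fwd (nat_lit 16384) (Steps.fwd (nat_lit 8192) (Steps.bwd (nat_lit 4) (Steps.fwd (nat_lit 24576) (Steps.fwd (nat_lit 8192) Steps.nil))))))))))) (nat_lit 193) (nat_lit 0),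
  Rule.mk (nat_lit 17) (nat_lit 179) (Steps.bwd (nat_lit 2) (Steps.fwd (nat_lit 8192) (Steps.fwd (nat_lit 24576) (Steps.bwd (nat_lit 1) (Steps.fwd (nat_lit 16384) (Steps.fwd (nat_lit 8192) (Steps.bwd (nat_lit 3) (Steps.fwd (nat_lit 8192) (Steps.fwd (nat_lit 32768) (Steps.fwd (nat_lit 24576) (Steps.fwd (nat_lit 8192) Steps.nil))))))))))) (nat_lit 193) (nat_lit 0),
  Rule.mk (nat_lit 20) (nat_lit 179) (Steps.bwd (nat_lit 1) (Steps.fwd (nat_lit 24576) (Steps.bwd (nat_lit 1) (Steps.bwd (nat_lit 2) (Steps.fwd (nat_lit 8192) (Steps.bwd (nat_lit 3) (Steps.bwd (nat_lit 1) (Steps.fwd (nat_lit 16384) (Steps.fwd (nat_lit 8192) (Steps.bwd (nat_lit 4) (Steps.fwd (nat_lit 24576) Steps.nil))))))))))) (nat_lit 194) (nat_lit 1),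
  Rule.mk (nat_lit 20) (nat_lit 179) (Steps.bwd (nat_lit 1) (Steps.bwd (nat_lit 2) (Steps.fwd (nat_lit 8192) (Steps.fwd (nat_lit 24576) (Steps.bwd (nat_lit 1) (Steps.fwd (nat_lit 16384) (Steps.fwd (nat_lit 8192) (Steps.bwd (nat_lit 3) (Steps.fwd (nat_lit 8192) (Steps.fwd (nat_lit 32768) (Steps.fwd (nat_lit 24576) Steps.nil))))))))))) (nat_lit 194) (nat_lit 1),
  Rule.mk (nat_lit 19) (nat_lit 179) (Steps.bwd (nat_lit 3) (Steps.bwd (nat_lit 4) (Steps.bwd (nat_lit 1) (Steps.fwd (nat_lit 24576) (Steps.bwd (nat_lit 1) (Steps.bwd (nat_lit 2) (Steps.fwd (nat_lit 8192) (Steps.bwd (nat_lit 3) (Steps.bwd (nat_lit 1) (Steps.fwd (nat_lit 16384) (Steps.fwd (nat_lit 8192) Steps.nil))))))))))) (nat_lit 195) (nat_lit 0),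
  Rule.mk (nat_lit 15) (nat_lit 179) (Steps.fwd (nat_lit 16384) (Steps.bwd (nat_lit 1) (Steps.bwd (nat_lit 4) (Steps.fwd (nat_lit 16384) (Steps.bwd (nat_lit 1) (Steps.bwd (nat_lit 2) (Steps.bwd (nat_lit 1) (Steps.bwd (nat_lit 2) (Steps.fwd (nat_lit 8192) (Steps.fwd (nat_lit 24576) (Steps.bwd (nat_lit 1) Steps.nil))))))))))) (nat_lit 191) (nat_lit 0),
  Rule.mk (nat_lit 15) (nat_lit 179) (Steps.bwd (nat_lit 3) (Steps.bwd (nat_lit 1) (Steps.fwd (nat_lit 32768) (Steps.fwd (nat_lit 16384) (Steps.bwd (nat_lit 1) (Steps.fwd (nat_lit 24576) (Steps.fwd (nat_lit 8192) (Steps.bwd (nat_lit 2) (Steps.bwd (nat_lit 1) (Steps.fwd (nat_lit 24576) (Steps.bwd (nat_lit 1) Steps.nil))))))))))) (nat_lit 191) (nat_lit 0),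
  Rule.mk (nat_lit 1) (nat_lit 179) (Steps.bwd (nat_lit 19) (Steps.fwd (nat_lit 16384) (Steps.fwd (nat_lit 32768) (Steps.fwd (nat_lit 8192) (Steps.bwd (nat_lit 2) (Steps.fwd (nat_lit 8192) (Steps.fwd (nat_lit 24576) (Steps.bwd (nat_lit 1) (Steps.fwd (nat_lit 16384) (Steps.bwd (nat_lit 1) (Steps.fwd (nat_lit 16384) Steps.nil))))))))))) (nat_lit 195) (nat_lit 11),
  Rule.mk (nat_lit 3) (nat_lit 134) (Steps.fwd (nat_lit 114688) (Steps.fwd (nat_lit 90112) (Steps.fwd (nat_lit 73728) (Steps.bwd (nat_lit 8) (Steps.fwd (nat_lit 40960) (Steps.bwd (nat_lit 4) (Steps.bwd (nat_lit 2) (Steps.bwd (nat_lit 9) Steps.nil)))))))) (nat_lit 179) (nat_lit 0),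
  Rule.mk (nat_lit 18) (nat_lit 179) (Steps.bwd (nat_lit 1) (Steps.bwd (nat_lit 3) (Steps.bwd (nat_lit 4) (Steps.bwd (nat_lit 1) (Steps.fwd (nat_lit 24576) (Steps.bwd (nat_lit 1) (Steps.fwd (nat_lit 24576) (Steps.bwd (nat_lit 1) (Steps.fwd (nat_lit 16384) (Steps.fwd (nat_lit 8192) (Steps.bwd (nat_lit 3) Steps.nil))))))))))) (nat_lit 192) (nat_lit 1),
  Rule.mk (nat_lit 0) (nat_lit 194) (Steps.bwd (nat_lit 17) (Steps.fwd (nat_lit 24576) (Steps.bwd (nat_lit 1) (Steps.fwd (nat_lit 24576) (Steps.bwd (nat_lit 1) (Steps.fwd (nat_lit 16384) (Steps.fwd (nat_lit 8192) (Steps.bwd (nat_lit 3) (Steps.fwd (nat_lit 8192) (Steps.fwd (nat_lit 32768) (Steps.fwd (nat_lit 24576) (Steps.fwd (nat_lit 8192) Steps.nil)))))))))))) (nat_lit 193) (nat_lit 11),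
  Rule.mk (nat_lit 0) (nat_lit 194) (Steps.bwd (nat_lit 3) (Steps.bwd (nat_lit 4) (Steps.bwd (nat_lit 1) (Steps.fwd (nat_lit 24576) (Steps.bwd (nat_lit 1) (Steps.bwd (nat_lit 2) (Steps.fwd (nat_lit 8192) (Steps.bwd (nat_lit 3) (Steps.fwd (nat_lit 8192) (Steps.bwd (nat_lit 3) (Steps.fwd (nat_lit 8192) (Steps.fwd (nat_lit 163840) Steps.nil)))))))))))) (nat_lit 195) (nat_lit 0)]
noncomputable def R_42 : List (Rule) := [Rule.mk (nat_lit 19) (nat_lit 179) (Steps.bwd (nat_lit 3) (Steps.bwd (nat_lit 4) (Steps.bwd (nat_lit 1) (Steps.fwd (nat_lit 24576) (Steps.bwd (nat_lit 1) (Steps.fwd (nat_lit 24576) (Steps.bwd (nat_lit 1) (Steps.fwd (nat_lit 16384) (Steps.fwd (nat_lit 8192) (Steps.bwd (nat_lit 3) (Steps.fwd (nat_lit 8192) Steps.nil))))))))))) (nat_lit 195) (nat_lit 0),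
  Rule.mk (nat_lit 2) (nat_lit 104) (Steps.bwd (nat_lit 10) (Steps.fwd (nat_lit 16384) (Steps.fwd (nat_lit 49152) (Steps.fwd (nat_lit 90112) (Steps.bwd (nat_lit 12) (Steps.bwd (nat_lit 14) Steps.nil)))))) (nat_lit 180) (nat_lit 1),
  Rule.mk (nat_lit 20) (nat_lit 179) (Steps.fwd (nat_lit 8192) (Steps.bwd (nat_lit 2) (Steps.fwd (nat_lit 8192) (Steps.fwd (nat_lit 24576) (Steps.fwd (nat_lit 8192) (Steps.bwd (nat_lit 3) (Steps.bwd (nat_lit 1) (Steps.fwd (nat_lit 16384) (Steps.bwd (nat_lit 1) (Steps.bwd (nat_lit 4) (Steps.bwd (nat_lit 2) Steps.nil))))))))))) (nat_lit 194) (nat_lit 1),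
  Rule.mk (nat_lit 2) (nat_lit 164) (Steps.bwd (nat_lit 11) (Steps.fwd (nat_lit 16384) (Steps.bwd (nat_lit 4) (Steps.bwd (nat_lit 5) (Steps.bwd (nat_lit 8) (Steps.bwd (nat_lit 9) (Steps.bwd (nat_lit 10) (Steps.bwd (nat_lit 11) (Steps.bwd (nat_lit 12) (Steps.fwd (nat_lit 114688) Steps.nil)))))))))) (nat_lit 182) (nat_lit 1),
  Rule.mk (nat_lit 1) (nat_lit 179) (Steps.fwd (nat_lit 16384) (Steps.bwd (nat_lit 4) (Steps.bwd (nat_lit 1) (Steps.bwd (nat_lit 2) (Steps.bwd (nat_lit 1) (Steps.bwd (nat_lit 2) (Steps.fwd (nat_lit 8192) (Steps.bwd (nat_lit 3) (Steps.fwd (nat_lit 8192) (Steps.fwd (nat_lit 16384) (Steps.fwd (nat_lit 139264) Steps.nil))))))))))) (nat_lit 192) (nat_lit 2),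
  Rule.mk (nat_lit 17) (nat_lit 179) (Steps.bwd (nat_lit 2) (Steps.bwd (nat_lit 1) (Steps.bwd (nat_lit 2) (Steps.bwd (nat_lit 1) (Steps.fwd (nat_lit 16384) (Steps.fwd (nat_lit 8192) (Steps.fwd (nat_lit 16384) (Steps.bwd (nat_lit 1) (Steps.fwd (nat_lit 32768) (Steps.bwd (nat_lit 2) (Steps.bwd (nat_lit 1) Steps.nil))))))))))) (nat_lit 193) (nat_lit 0),
  Rule.mk (nat_lit 20) (nat_lit 179) (Steps.bwd (nat_lit 1) (Steps.bwd (nat_lit 2) (Steps.bwd (nat_lit 1) (Steps.bwd (nat_lit 2) (Steps.fwd (nat_lit 8192) (Steps.bwd (nat_lit 3) (Steps.fwd (nat_lit 8192) (Steps.fwd (nat_lit 16384) (Steps.bwd (nat_lit 1) (Steps.bwd (nat_lit 4) (Steps.bwd (nat_lit 2) Steps.nil))))))))))) (nat_lit 194) (nat_lit 1),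
  Rule.mk (nat_lit 19) (nat_lit 179) (Steps.fwd (nat_lit 16384) (Steps.bwd (nat_lit 4) (Steps.bwd (nat_lit 1) (Steps.bwd (nat_lit 2) (Steps.bwd (nat_lit 1) (Steps.bwd (nat_lit 2) (Steps.fwd (nat_lit 8192) (Steps.bwd (nat_lit 3) (Steps.fwd (nat_lit 8192) (Steps.fwd (nat_lit 16384) (Steps.bwd (nat_lit 1) Steps.nil))))))))))) (nat_lit 195) (nat_lit 0),
  Rule.mk (nat_lit 2) (nat_lit 179) (Steps.bwd (nat_lit 16) (Steps.fwd (nat_lit 8192) (Steps.bwd (nat_lit 3) (Steps.bwd (nat_lit 1) (Steps.fwd (nat_lit 16384) (Steps.fwd (nat_lit 8192) (Steps.fwd (nat_lit 16384) (Steps.fwd (nat_lit 8192) (Steps.bwd (nat_lit 2) (Steps.bwd (nat_lit 4) (Steps.fwd (nat_lit 8192) Steps.nil))))))))))) (nat_lit 190) (nat_lit 0),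
  Rule.mk (nat_lit 6) (nat_lit 104) (Steps.bwd (nat_lit 1) (Steps.fwd (nat_lit 90112) (Steps.bwd (nat_lit 1) (Steps.bwd (nat_lit 14) (Steps.bwd (nat_lit 12) (Steps.fwd (nat_lit 90112) Steps.nil)))))) (nat_lit 161) (nat_lit 4),
  Rule.mk (nat_lit 7) (nat_lit 164) (Steps.bwd (nat_lit 1) (Steps.fwd (nat_lit 114688) (Steps.bwd (nat_lit 13) (Steps.fwd (nat_lit 98304) (Steps.fwd (nat_lit 90112) (Steps.fwd (nat_lit 81920) (Steps.bwd (nat_lit 9) (Steps.bwd (nat_lit 6) (Steps.fwd (nat_lit 40960) (Steps.bwd (nat_lit 1) Steps.nil)))))))))) (nat_lit 153) (nat_lit 10),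
  Rule.mk (nat_lit 1) (nat_lit 89) (Steps.fwd (nat_lit 73728) (Steps.fwd (nat_lit 8192) (Steps.bwd (nat_lit 4) (Steps.fwd (nat_lit 57344) (Steps.bwd (nat_lit 14) Steps.nil))))) (nat_lit 156) (nat_lit 1),
  Rule.mk (nat_lit 16) (nat_lit 179) (Steps.bwd (nat_lit 1) (Steps.bwd (nat_lit 3) (Steps.bwd (nat_lit 1) (Steps.bwd (nat_lit 3) (Steps.fwd (nat_lit 8192) (Steps.fwd (nat_lit 16384) (Steps.fwd (nat_lit 8192) (Steps.fwd (nat_lit 24576) (Steps.bwd (nat_lit 4) (Steps.fwd (nat_lit 8192) (Steps.bwd (nat_lit 2) Steps.nil))))))))))) (nat_lit 190) (nat_lit 1),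
  Rule.mk (nat_lit 15) (nat_lit 179) (Steps.bwd (nat_lit 3) (Steps.bwd (nat_lit 1) (Steps.fwd (nat_lit 32768) (Steps.bwd (nat_lit 3) (Steps.bwd (nat_lit 1) (Steps.bwd (nat_lit 2) (Steps.bwd (nat_lit 1) (Steps.bwd (nat_lit 2) (Steps.fwd (nat_lit 8192) (Steps.fwd (nat_lit 24576) (Steps.bwd (nat_lit 1) Steps.nil))))))))))) (nat_lit 191) (nat_lit 0),
  Rule.mk (nat_lit 18) (nat_lit 179) (Steps.fwd (nat_lit 8192) (Steps.bwd (nat_lit 3) (Steps.fwd (nat_lit 32768) (Steps.bwd (nat_lit 1) (Steps.bwd (nat_lit 2) (Steps.fwd (nat_lit 8192) (Steps.fwd (nat_lit 24576) (Steps.bwd (nat_lit 1) (Steps.bwd (nat_lit 3) (Steps.fwd (nat_lit 8192) (Steps.fwd (nat_lit 16384) Steps.nil))))))))))) (nat_lit 192) (nat_lit 1),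
  Rule.mk (nat_lit 0) (nat_lit 194) (Steps.bwd (nat_lit 17) (Steps.bwd (nat_lit 2) (Steps.fwd (nat_lit 8192) (Steps.fwd (nat_lit 24576) (Steps.bwd (nat_lit 1) (Steps.bwd (nat_lit 3) (Steps.fwd (nat_lit 8192) (Steps.fwd (nat_lit 16384) (Steps.fwd (nat_lit 8192) (Steps.fwd (nat_lit 32768) (Steps.bwd (nat_lit 2) (Steps.fwd (nat_lit 8192) Steps.nil)))))))))))) (nat_lit 193) (nat_lit 11),
  Rule.mk (nat_lit 20) (nat_lit 179) (Steps.bwd (nat_lit 1) (Steps.bwd (nat_lit 2) (Steps.fwd (nat_lit 8192) (Steps.fwd (nat_lit 24576) (Steps.bwd (nat_lit 1) (Steps.bwd (nat_lit 3) (Steps.fwd (nat_lit 8192) (Steps.fwd (nat_lit 16384) (Steps.fwd (nat_lit 8192) (Steps.fwd (nat_lit 32768) (Steps.bwd (nat_lit 2) Steps.nil))))))))))) (nat_lit 194) (nat_lit 1),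
  Rule.mk (nat_lit 19) (nat_lit 179) (Steps.bwd (nat_lit 3) (Steps.fwd (nat_lit 32768) (Steps.bwd (nat_lit 1) (Steps.bwd (nat_lit 2) (Steps.fwd (nat_lit 8192) (Steps.fwd (nat_lit 24576) (Steps.bwd (nat_lit 1) (Steps.bwd (nat_lit 3) (Steps.fwd (nat_lit 8192) (Steps.fwd (nat_lit 16384) (Steps.fwd (nat_lit 8192) Steps.nil))))))))))) (nat_lit 195) (nat_lit 0),
  Rule.mk (nat_lit 2) (nat_lit 119) (Steps.fwd (nat_lit 114688) (Steps.fwd (nat_lit 16384) (Steps.fwd (nat_lit 40960) (Steps.fwd (nat_lit 49152) (Steps.bwd (nat_lit 7) (Steps.fwd (nat_lit 98304) (Steps.bwd (nat_lit 14) Steps.nil))))))) (nat_lit 188) (nat_lit 1),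
  Rule.mk (nat_lit 1) (nat_lit 104) (Steps.fwd (nat_lit 114688) (Steps.fwd (nat_lit 106496) (Steps.bwd (nat_lit 7) (Steps.fwd (nat_lit 40960) (Steps.bwd (nat_lit 1) (Steps.fwd (nat_lit 65536) Steps.nil)))))) (nat_lit 155) (nat_lit 0),
  Rule.mk (nat_lit 1) (nat_lit 104) (Steps.bwd (nat_lit 11) (Steps.bwd (nat_lit 1) (Steps.fwd (nat_lit 114688) (Steps.fwd (nat_lit 98304) (Steps.bwd (nat_lit 11) (Steps.bwd (nat_lit 6) Steps.nil)))))) (nat_lit 161) (nat_lit 5),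
  Rule.mk (nat_lit 2) (nat_lit 164) (Steps.bwd (nat_lit 11) (Steps.bwd (nat_lit 3) (Steps.bwd (nat_lit 4) (Steps.fwd (nat_lit 40960) (Steps.bwd (nat_lit 8) (Steps.bwd (nat_lit 9) (Steps.bwd (nat_lit 10) (Steps.fwd (nat_lit 90112) (Steps.bwd (nat_lit 12) (Steps.bwd (nat_lit 14) Steps.nil)))))))))) (nat_lit 182) (nat_lit 1),
  Rule.mk (nat_lit 0) (nat_lit 194) (Steps.bwd (nat_lit 15) (Steps.bwd (nat_lit 3) (Steps.bwd (nat_lit 1) (Steps.bwd (nat_lit 4) (Steps.fwd (nat_lit 16384) (Steps.fwd (nat_lit 8192) (Steps.bwd (nat_lit 2) (Steps.fwd (nat_lit 8192) (Steps.fwd (nat_lit 24576) (Steps.fwd (nat_lit 8192) (Steps.bwd (nat_lit 2) (Steps.fwd (nat_lit 8192) Steps.nil)))))))))))) (nat_lit 191) (nat_lit 11),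
  Rule.mk (nat_lit 1) (nat_lit 179) (Steps.bwd (nat_lit 15) (Steps.bwd (nat_lit 3) (Steps.fwd (nat_lit 8192) (Steps.fwd (nat_lit 32768) (Steps.fwd (nat_lit 16384) (Steps.fwd (nat_lit 8192) (Steps.fwd (nat_lit 24576) (Steps.bwd (nat_lit 1) (Steps.fwd (nat_lit 24576) (Steps.fwd (nat_lit 8192) (Steps.fwd (nat_lit 24576) Steps.nil))))))))))) (nat_lit 191) (nat_lit 11),
  Rule.mk (nat_lit 13) (nat_lit 104) (Steps.bwd (nat_lit 1) (Steps.fwd (nat_lit 32768) (Steps.bwd (nat_lit 5) (Steps.bwd (nat_lit 8) (Steps.bwd (nat_lit 9) (Steps.bwd (nat_lit 1) Steps.nil)))))) (nat_lit 164) (nat_lit 2),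
  Rule.mk (nat_lit 10) (nat_lit 134) (Steps.bwd (nat_lit 1) (Steps.fwd (nat_lit 32768) (Steps.bwd (nat_lit 5) (Steps.fwd (nat_lit 65536) (Steps.bwd (nat_lit 9) (Steps.fwd (nat_lit 90112) (Steps.fwd (nat_lit 114688) (Steps.bwd (nat_lit 1) Steps.nil)))))))) (nat_lit 158) (nat_lit 2),
  Rule.mk (nat_lit 0) (nat_lit 194) (Steps.bwd (nat_lit 1) (Steps.fwd (nat_lit 16384) (Steps.bwd (nat_lit 1) (Steps.bwd (nat_lit 3) (Steps.fwd (nat_lit 8192) (Steps.fwd (nat_lit 16384) (Steps.fwd (nat_lit 8192) (Steps.bwd (nat_lit 2) (Steps.bwd (nat_lit 4) (Steps.bwd (nat_lit 1) (Steps.bwd (nat_lit 2) (Steps.fwd (nat_lit 122880) Steps.nil)))))))))))) (nat_lit 190) (nat_lit 1),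
  Rule.mk (nat_lit 15) (nat_lit 179) (Steps.fwd (nat_lit 16384) (Steps.bwd (nat_lit 1) (Steps.fwd (nat_lit 32768) (Steps.bwd (nat_lit 3) (Steps.bwd (nat_lit 1) (Steps.fwd (nat_lit 24576) (Steps.fwd (nat_lit 8192) (Steps.fwd (nat_lit 24576) (Steps.fwd (nat_lit 8192) (Steps.fwd (nat_lit 24576) (Steps.bwd (nat_lit 1) Steps.nil))))))))))) (nat_lit 191) (nat_lit 0),
  Rule.mk (nat_lit 18) (nat_lit 179) (Steps.fwd (nat_lit 8192) (Steps.bwd (nat_lit 3) (Steps.fwd (nat_lit 32768) (Steps.fwd (nat_lit 8192) (Steps.bwd (nat_lit 2) (Steps.bwd (nat_lit 1) (Steps.fwd (nat_lit 24576) (Steps.bwd (nat_lit 1) (Steps.bwd (nat_lit 3) (Steps.fwd (nat_lit 8192) (Steps.bwd (nat_lit 3) Steps.nil))))))))))) (nat_lit 192) (nat_lit 1),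
  Rule.mk (nat_lit 18) (nat_lit 179) (Steps.bwd (nat_lit 1) (Steps.bwd (nat_lit 3) (Steps.bwd (nat_lit 4) (Steps.bwd (nat_lit 1) (Steps.fwd (nat_lit 24576) (Steps.fwd (nat_lit 8192) (Steps.fwd (nat_lit 24576) (Steps.fwd (nat_lit 8192) (Steps.bwd (nat_lit 3) (Steps.bwd (nat_lit 1) (Steps.bwd (nat_lit 3) Steps.nil))))))))))) (nat_lit 192) (nat_lit 1),
  Rule.mk (nat_lit 17) (nat_lit 179) (Steps.fwd (nat_lit 24576) (Steps.bwd (nat_lit 1) (Steps.fwd (nat_lit 24576) (Steps.fwd (nat_lit 8192) (Steps.bwd (nat_lit 3) (Steps.fwd (nat_lit 8192) (Steps.fwd (nat_lit 16384) (Steps.bwd (nat_lit 1) (Steps.fwd (nat_lit 32768) (Steps.bwd (nat_lit 2) (Steps.fwd (nat_lit 8192) Steps.nil))))))))))) (nat_lit 193) (nat_lit 0),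
  Rule.mk (nat_lit 0) (nat_lit 194) (Steps.bwd (nat_lit 17) (Steps.bwd (nat_lit 2) (Steps.fwd (nat_lit 8192) (Steps.bwd (nat_lit 2) (Steps.bwd (nat_lit 1) (Steps.bwd (nat_lit 3) (Steps.fwd (nat_lit 8192) (Steps.fwd (nat_lit 16384) (Steps.fwd (nat_lit 8192) (Steps.fwd (nat_lit 32768) (Steps.fwd (nat_lit 24576) (Steps.bwd (nat_lit 1) Steps.nil)))))))))))) (nat_lit 193) (nat_lit 11),
  Rule.mk (nat_lit 20) (nat_lit 179) (Steps.bwd (nat_lit 1) (Steps.fwd (nat_lit 24576) (Steps.bwd (nat_lit 1) (Steps.fwd (nat_lit 24576) (Steps.fwd (nat_lit 8192) (Steps.bwd (nat_lit 3) (Steps.fwd (nat_lit 8192) (Steps.fwd (nat_lit 16384) (Steps.bwd (nat_lit 1) (Steps.fwd (nat_lit 32768) (Steps.bwd (nat_lit 2) Steps.nil))))))))))) (nat_lit 194) (nat_lit 1),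
  Rule.mk (nat_lit 20) (nat_lit 179) (Steps.bwd (nat_lit 1) (Steps.bwd (nat_lit 2) (Steps.fwd (nat_lit 8192) (Steps.bwd (nat_lit 2) (Steps.bwd (nat_lit 1) (Steps.bwd (nat_lit 3) (Steps.fwd (nat_lit 8192) (Steps.fwd (nat_lit 16384) (Steps.fwd (nat_lit 8192) (Steps.fwd (nat_lit 32768) (Steps.fwd (nat_lit 24576) Steps.nil))))))))))) (nat_lit 194) (nat_lit 1),
  Rule.mk (nat_lit 19) (nat_lit 179) (Steps.fwd (nat_lit 16384) (Steps.bwd (nat_lit 4) (Steps.bwd (nat_lit 1) (Steps.bwd (nat_lit 2) (Steps.fwd (nat_lit 8192) (Steps.bwd (nat_lit 2) (Steps.bwd (nat_lit 1) (Steps.bwd (nat_lit 3) (Steps.fwd (nat_lit 8192) (Steps.fwd (nat_lit 16384) (Steps.fwd (nat_lit 8192) Steps.nil))))))))))) (nat_lit 195) (nat_lit 0),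
  Rule.mk (nat_lit 0) (nat_lit 194) (Steps.bwd (nat_lit 19) (Steps.bwd (nat_lit 3) (Steps.fwd (nat_lit 32768) (Steps.fwd (nat_lit 8192) (Steps.bwd (nat_lit 2) (Steps.bwd (nat_lit 1) (Steps.fwd (nat_lit 24576) (Steps.bwd (nat_lit 1) (Steps.bwd (nat_lit 3) (Steps.fwd (nat_lit 8192) (Steps.bwd (nat_lit 3) (Steps.bwd (nat_lit 1) Steps.nil)))))))))))) (nat_lit 195) (nat_lit 11),
  Rule.mk (nat_lit 2) (nat_lit 104) (Steps.bwd (nat_lit 10) (Steps.bwd (nat_lit 3) (Steps.bwd (nat_lit 6) (Steps.bwd (nat_lit 11) (Steps.bwd (nat_lit 12) (Steps.bwd (nat_lit 14) Steps.nil)))))) (nat_lit 180) (nat_lit 1),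
  Rule.mk (nat_lit 3) (nat_lit 119) (Steps.fwd (nat_lit 114688) (Steps.fwd (nat_lit 98304) (Steps.bwd (nat_lit 7) (Steps.bwd (nat_lit 6) (Steps.bwd (nat_lit 5) (Steps.fwd (nat_lit 24576) (Steps.bwd (nat_lit 14) Steps.nil))))))) (nat_lit 189) (nat_lit 0),
  Rule.mk (nat_lit 6) (nat_lit 104) (Steps.bwd (nat_lit 1) (Steps.fwd (nat_lit 90112) (Steps.bwd (nat_lit 1) (Steps.bwd (nat_lit 14) (Steps.bwd (nat_lit 12) (Steps.bwd (nat_lit 11) Steps.nil)))))) (nat_lit 161) (nat_lit 4),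
  Rule.mk (nat_lit 2) (nat_lit 134) (Steps.fwd (nat_lit 106496) (Steps.bwd (nat_lit 3) (Steps.bwd (nat_lit 14) (Steps.bwd (nat_lit 13) (Steps.fwd (nat_lit 98304) (Steps.fwd (nat_lit 90112) (Steps.bwd (nat_lit 10) (Steps.bwd (nat_lit 6) Steps.nil)))))))) (nat_lit 187) (nat_lit 7),
  Rule.mk (nat_lit 18) (nat_lit 179) (Steps.bwd (nat_lit 1) (Steps.bwd (nat_lit 3) (Steps.bwd (nat_lit 4) (Steps.fwd (nat_lit 8192) (Steps.bwd (nat_lit 2) (Steps.fwd (nat_lit 8192) (Steps.bwd (nat_lit 2) (Steps.fwd (nat_lit 8192) (Steps.fwd (nat_lit 16384) (Steps.bwd (nat_lit 1) (Steps.fwd (nat_lit 16384) Steps.nil))))))))))) (nat_lit 192) (nat_lit 1),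
  Rule.mk (nat_lit 0) (nat_lit 194) (Steps.bwd (nat_lit 19) (Steps.bwd (nat_lit 3) (Steps.bwd (nat_lit 4) (Steps.fwd (nat_lit 8192) (Steps.bwd (nat_lit 2) (Steps.fwd (nat_lit 8192) (Steps.bwd (nat_lit 2) (Steps.fwd (nat_lit 8192) (Steps.fwd (nat_lit 16384) (Steps.bwd (nat_lit 1) (Steps.fwd (nat_lit 16384) (Steps.bwd (nat_lit 1) Steps.nil)))))))))))) (nat_lit 195) (nat_lit 11),
  Rule.mk (nat_lit 7) (nat_lit 104) (Steps.bwd (nat_lit 3) (Steps.fwd (nat_lit 40960) (Steps.fwd (nat_lit 57344) (Steps.bwd (nat_lit 13) (Steps.bwd (nat_lit 14) (Steps.fwd (nat_lit 24576) Steps.nil)))))) (nat_lit 174) (nat_lit 2),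
  Rule.mk (nat_lit 5) (nat_lit 149) (Steps.bwd (nat_lit 3) (Steps.fwd (nat_lit 32768) (Steps.bwd (nat_lit 5) (Steps.bwd (nat_lit 8) (Steps.fwd (nat_lit 73728) (Steps.fwd (nat_lit 98304) (Steps.fwd (nat_lit 106496) (Steps.bwd (nat_lit 14) (Steps.fwd (nat_lit 24576) Steps.nil))))))))) (nat_lit 170) (nat_lit 2),
  Rule.mk (nat_lit 16) (nat_lit 179) (Steps.bwd (nat_lit 1) (Steps.fwd (nat_lit 16384) (Steps.fwd (nat_lit 8192) (Steps.fwd (nat_lit 16384) (Steps.bwd (nat_lit 1) (Steps.fwd (nat_lit 16384) (Steps.bwd (nat_lit 1) (Steps.fwd (nat_lit 24576) (Steps.bwd (nat_lit 4) (Steps.bwd (nat_lit 1) (Steps.fwd (nat_lit 24576) Steps.nil))))))))))) (nat_lit 190) (nat_lit 1),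
  Rule.mk (nat_lit 3) (nat_lit 179) (Steps.fwd (nat_lit 8192) (Steps.bwd (nat_lit 4) (Steps.fwd (nat_lit 16384) (Steps.bwd (nat_lit 1) (Steps.fwd (nat_lit 24576) (Steps.bwd (nat_lit 1) (Steps.fwd (nat_lit 24576) (Steps.fwd (nat_lit 8192) (Steps.fwd (nat_lit 24576) (Steps.bwd (nat_lit 1) (Steps.fwd (nat_lit 131072) Steps.nil))))))))))) (nat_lit 191) (nat_lit 1),
  Rule.mk (nat_lit 15) (nat_lit 179) (Steps.bwd (nat_lit 3) (Steps.bwd (nat_lit 1) (Steps.bwd (nat_lit 4) (Steps.bwd (nat_lit 3) (Steps.bwd (nat_lit 1) (Steps.fwd (nat_lit 24576) (Steps.fwd (nat_lit 8192) (Steps.fwd (nat_lit 24576) (Steps.bwd (nat_lit 1) (Steps.fwd (nat_lit 24576) (Steps.bwd (nat_lit 1) Steps.nil))))))))))) (nat_lit 191) (nat_lit 0),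
  Rule.mk (nat_lit 18) (nat_lit 179) (Steps.fwd (nat_lit 8192) (Steps.fwd (nat_lit 16384) (Steps.bwd (nat_lit 4) (Steps.bwd (nat_lit 1) (Steps.fwd (nat_lit 24576) (Steps.bwd (nat_lit 1) (Steps.fwd (nat_lit 24576) (Steps.fwd (nat_lit 8192) (Steps.fwd (nat_lit 16384) (Steps.bwd (nat_lit 1) (Steps.bwd (nat_lit 3) Steps.nil))))))))))) (nat_lit 192) (nat_lit 1),
  Rule.mk (nat_lit 0) (nat_lit 194) (Steps.bwd (nat_lit 17) (Steps.bwd (nat_lit 2) (Steps.fwd (nat_lit 8192) (Steps.fwd (nat_lit 24576) (Steps.fwd (nat_lit 8192) (Steps.bwd (nat_lit 3) (Steps.bwd (nat_lit 1) (Steps.bwd (nat_lit 3) (Steps.fwd (nat_lit 8192) (Steps.fwd (nat_lit 32768) (Steps.fwd (nat_lit 24576) (Steps.fwd (nat_lit 8192) Steps.nil)))))))))))) (nat_lit 193) (nat_lit 11),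
  Rule.mk (nat_lit 17) (nat_lit 179) (Steps.bwd (nat_lit 2) (Steps.fwd (nat_lit 8192) (Steps.fwd (nat_lit 24576) (Steps.bwd (nat_lit 1) (Steps.fwd (nat_lit 16384) (Steps.fwd (nat_lit 8192) (Steps.bwd (nat_lit 3) (Steps.bwd (nat_lit 1) (Steps.fwd (nat_lit 32768) (Steps.fwd (nat_lit 24576) (Steps.fwd (nat_lit 8192) Steps.nil))))))))))) (nat_lit 193) (nat_lit 0),
  Rule.mk (nat_lit 17) (nat_lit 179) (Steps.bwd (nat_lit 2) (Steps.bwd (nat_lit 1) (Steps.bwd (nat_lit 2) (Steps.fwd (nat_lit 8192) (Steps.bwd (nat_lit 3) (Steps.bwd (nat_lit 1) (Steps.fwd (nat_lit 16384) (Steps.fwd (nat_lit 8192) (Steps.bwd (nat_lit 4) (Steps.bwd (nat_lit 2) (Steps.fwd (nat_lit 8192) Steps.nil))))))))))) (nat_lit 193) (nat_lit 0),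
  Rule.mk (nat_lit 20) (nat_lit 179) (Steps.bwd (nat_lit 1) (Steps.fwd (nat_lit 24576) (Steps.fwd (nat_lit 8192) (Steps.fwd (nat_lit 24576) (Steps.bwd (nat_lit 1) (Steps.bwd (nat_lit 3) (Steps.bwd (nat_lit 1) (Steps.fwd (nat_lit 16384) (Steps.fwd (nat_lit 8192) (Steps.bwd (nat_lit 4) (Steps.fwd (nat_lit 24576) Steps.nil))))))))))) (nat_lit 194) (nat_lit 1),
  Rule.mk (nat_lit 19) (nat_lit 179) (Steps.fwd (nat_lit 16384) (Steps.bwd (nat_lit 4) (Steps.bwd (nat_lit 1) (Steps.fwd (nat_lit 24576) (Steps.bwd (nat_lit 1) (Steps.fwd (nat_lit 24576) (Steps.fwd (nat_lit 8192) (Steps.fwd (nat_lit 16384) (Steps.bwd (nat_lit 1) (Steps.bwd (nat_lit 3) (Steps.fwd (nat_lit 8192) Steps.nil))))))))))) (nat_lit 195) (nat_lit 0),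
  Rule.mk (nat_lit 0) (nat_lit 194) (Steps.bwd (nat_lit 20) (Steps.bwd (nat_lit 1) (Steps.bwd (nat_lit 2) (Steps.fwd (nat_lit 8192) (Steps.fwd (nat_lit 24576) (Steps.fwd (nat_lit 8192) (Steps.bwd (nat_lit 3) (Steps.bwd (nat_lit 1) (Steps.bwd (nat_lit 3) (Steps.fwd (nat_lit 8192) (Steps.fwd (nat_lit 32768) (Steps.fwd (nat_lit 24576) Steps.nil)))))))))))) (nat_lit 194) (nat_lit 0),
  Rule.mk (nat_lit 7) (nat_lit 89) (Steps.bwd (nat_lit 4) (Steps.fwd (nat_lit 8192) (Steps.fwd (nat_lit 73728) (Steps.fwd (nat_lit 8192) (Steps.bwd (nat_lit 14) Steps.nil))))) (nat_lit 157) (nat_lit 2),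
  Rule.mk (nat_lit 14) (nat_lit 104) (Steps.bwd (nat_lit 2) (Steps.bwd (nat_lit 7) (Steps.fwd (nat_lit 16384) (Steps.fwd (nat_lit 40960) (Steps.bwd (nat_lit 7) (Steps.fwd (nat_lit 106496) Steps.nil)))))) (nat_lit 174) (nat_lit 0),
  Rule.mk (nat_lit 17) (nat_lit 179) (Steps.bwd (nat_lit 2) (Steps.bwd (nat_lit 1) (Steps.fwd (nat_lit 24576) (Steps.bwd (nat_lit 1) (Steps.bwd (nat_lit 3) (Steps.bwd (nat_lit 1) (Steps.fwd (nat_lit 16384) (Steps.fwd (nat_lit 8192) (Steps.bwd (nat_lit 4) (Steps.bwd (nat_lit 2) (Steps.fwd (nat_lit 8192) Steps.nil))))))))))) (nat_lit 193) (nat_lit 0),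
  Rule.mk (nat_lit 0) (nat_lit 194) (Steps.bwd (nat_lit 1) (Steps.fwd (nat_lit 16384) (Steps.bwd (nat_lit 1) (Steps.fwd (nat_lit 16384) (Steps.bwd (nat_lit 1) (Steps.bwd (nat_lit 3) (Steps.bwd (nat_lit 1) (Steps.bwd (nat_lit 2) (Steps.bwd (nat_lit 4) (Steps.fwd (nat_lit 8192) (Steps.bwd (nat_lit 2) (Steps.fwd (nat_lit 122880) Steps.nil)))))))))))) (nat_lit 190) (nat_lit 1),
  Rule.mk (nat_lit 15) (nat_lit 179) (Steps.fwd (nat_lit 16384) (Steps.bwd (nat_lit 1) (Steps.fwd (nat_lit 32768) (Steps.fwd (nat_lit 16384) (Steps.fwd (nat_lit 8192) (Steps.bwd (nat_lit 2) (Steps.bwd (nat_lit 1) (Steps.fwd (nat_lit 24576) (Steps.bwd (nat_lit 1) (Steps.bwd (nat_lit 2) (Steps.bwd (nat_lit 1) Steps.nil))))))))))) (nat_lit 191) (nat_lit 0),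
  Rule.mk (nat_lit 18) (nat_lit 179) (Steps.bwd (nat_lit 1) (Steps.fwd (nat_lit 16384) (Steps.fwd (nat_lit 32768) (Steps.bwd (nat_lit 1) (Steps.fwd (nat_lit 24576) (Steps.fwd (nat_lit 8192) (Steps.bwd (nat_lit 2) (Steps.bwd (nat_lit 1) (Steps.bwd (nat_lit 3) (Steps.bwd (nat_lit 1) (Steps.bwd (nat_lit 3) Steps.nil))))))))))) (nat_lit 192) (nat_lit 1),
  Rule.mk (nat_lit 0) (nat_lit 194) (Steps.bwd (nat_lit 2) (Steps.fwd (nat_lit 8192) (Steps.bwd (nat_lit 2) (Steps.fwd (nat_lit 8192) (Steps.fwd (nat_lit 16384) (Steps.bwd (nat_lit 1) (Steps.fwd (nat_lit 16384) (Steps.bwd (nat_lit 1) (Steps.fwd (nat_lit 32768) (Steps.bwd (nat_lit 2) (Steps.bwd (nat_lit 1) (Steps.fwd (nat_lit 147456) Steps.nil)))))))))))) (nat_lit 193) (nat_lit 0),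
  Rule.mk (nat_lit 20) (nat_lit 179) (Steps.bwd (nat_lit 1) (Steps.fwd (nat_lit 24576) (Steps.fwd (nat_lit 8192) (Steps.bwd (nat_lit 2) (Steps.fwd (nat_lit 8192) (Steps.fwd (nat_lit 16384) (Steps.bwd (nat_lit 1) (Steps.fwd (nat_lit 16384) (Steps.bwd (nat_lit 1) (Steps.fwd (nat_lit 32768) (Steps.bwd (nat_lit 2) Steps.nil))))))))))) (nat_lit 194) (nat_lit 1),
  Rule.mk (nat_lit 20) (nat_lit 179) (Steps.bwd (nat_lit 1) (Steps.fwd (nat_lit 24576) (Steps.fwd (nat_lit 8192) (Steps.bwd (nat_lit 2) (Steps.bwd (nat_lit 1) (Steps.bwd (nat_lit 3) (Steps.bwd (nat_lit 1) (Steps.bwd (nat_lit 3) (Steps.fwd (nat_lit 8192) (Steps.bwd (nat_lit 4) (Steps.bwd (nat_lit 2) Steps.nil))))))))))) (nat_lit 194) (nat_lit 1),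
  Rule.mk (nat_lit 19) (nat_lit 179) (Steps.fwd (nat_lit 16384) (Steps.fwd (nat_lit 32768) (Steps.bwd (nat_lit 1) (Steps.fwd (nat_lit 24576) (Steps.fwd (nat_lit 8192) (Steps.bwd (nat_lit 2) (Steps.bwd (nat_lit 1) (Steps.bwd (nat_lit 3) (Steps.bwd (nat_lit 1) (Steps.bwd (nat_lit 3) (Steps.fwd (nat_lit 8192) Steps.nil))))))))))) (nat_lit 195) (nat_lit 0)]
noncomputable def R_43 : List (Rule) := [Rule.mk (nat_lit 10) (nat_lit 164) (Steps.bwd (nat_lit 11) (Steps.fwd (nat_lit 98304) (Steps.fwd (nat_lit 114688) (Steps.fwd (nat_lit 24576) (Steps.bwd (nat_lit 11) (Steps.bwd (nat_lit 3) (Steps.bwd (nat_lit 4) (Steps.bwd (nat_lit 5) (Steps.fwd (nat_lit 65536) (Steps.bwd (nat_lit 9) Steps.nil)))))))))) (nat_lit 182) (nat_lit 8),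
  Rule.mk (nat_lit 1) (nat_lit 104) (Steps.bwd (nat_lit 11) (Steps.fwd (nat_lit 8192) (Steps.bwd (nat_lit 6) (Steps.bwd (nat_lit 11) (Steps.bwd (nat_lit 12) (Steps.fwd (nat_lit 114688) Steps.nil)))))) (nat_lit 160) (nat_lit 1),
  Rule.mk (nat_lit 2) (nat_lit 164) (Steps.bwd (nat_lit 11) (Steps.fwd (nat_lit 16384) (Steps.fwd (nat_lit 114688) (Steps.bwd (nat_lit 12) (Steps.bwd (nat_lit 11) (Steps.bwd (nat_lit 10) (Steps.bwd (nat_lit 9) (Steps.bwd (nat_lit 8) (Steps.bwd (nat_lit 5) (Steps.fwd (nat_lit 32768) Steps.nil)))))))))) (nat_lit 183) (nat_lit 9),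
  Rule.mk (nat_lit 16) (nat_lit 179) (Steps.bwd (nat_lit 1) (Steps.bwd (nat_lit 3) (Steps.fwd (nat_lit 8192) (Steps.fwd (nat_lit 16384) (Steps.bwd (nat_lit 1) (Steps.bwd (nat_lit 3) (Steps.fwd (nat_lit 8192) (Steps.fwd (nat_lit 24576) (Steps.fwd (nat_lit 32768) (Steps.fwd (nat_lit 8192) (Steps.bwd (nat_lit 2) Steps.nil))))))))))) (nat_lit 190) (nat_lit 1),
  Rule.mk (nat_lit 16) (nat_lit 179) (Steps.fwd (nat_lit 8192) (Steps.bwd (nat_lit 3) (Steps.fwd (nat_lit 8192) (Steps.fwd (nat_lit 16384) (Steps.fwd (nat_lit 8192) (Steps.fwd (nat_lit 16384) (Steps.fwd (nat_lit 8192) (Steps.bwd (nat_lit 2) (Steps.fwd (nat_lit 32768) (Steps.fwd (nat_lit 8192) (Steps.fwd (nat_lit 24576) Steps.nil))))))))))) (nat_lit 190) (nat_lit 1),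
  Rule.mk (nat_lit 18) (nat_lit 179) (Steps.fwd (nat_lit 8192) (Steps.bwd (nat_lit 3) (Steps.bwd (nat_lit 4) (Steps.fwd (nat_lit 8192) (Steps.bwd (nat_lit 2) (Steps.fwd (nat_lit 8192) (Steps.bwd (nat_lit 2) (Steps.fwd (nat_lit 8192) (Steps.fwd (nat_lit 16384) (Steps.bwd (nat_lit 1) (Steps.fwd (nat_lit 16384) Steps.nil))))))))))) (nat_lit 192) (nat_lit 1),
  Rule.mk (nat_lit 17) (nat_lit 179) (Steps.bwd (nat_lit 2) (Steps.fwd (nat_lit 8192) (Steps.bwd (nat_lit 2) (Steps.fwd (nat_lit 8192) (Steps.fwd (nat_lit 16384) (Steps.bwd (nat_lit 1) (Steps.fwd (nat_lit 16384) (Steps.fwd (nat_lit 8192) (Steps.bwd (nat_lit 4) (Steps.fwd (nat_lit 24576) (Steps.bwd (nat_lit 1) Steps.nil))))))))))) (nat_lit 193) (nat_lit 0),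
  Rule.mk (nat_lit 20) (nat_lit 179) (Steps.fwd (nat_lit 8192) (Steps.bwd (nat_lit 2) (Steps.fwd (nat_lit 8192) (Steps.bwd (nat_lit 2) (Steps.fwd (nat_lit 8192) (Steps.fwd (nat_lit 16384) (Steps.bwd (nat_lit 1) (Steps.fwd (nat_lit 16384) (Steps.fwd (nat_lit 8192) (Steps.bwd (nat_lit 4) (Steps.fwd (nat_lit 24576) Steps.nil))))))))))) (nat_lit 194) (nat_lit 1),
  Rule.mk (nat_lit 0) (nat_lit 194) (Steps.bwd (nat_lit 19) (Steps.bwd (nat_lit 3) (Steps.bwd (nat_lit 4) (Steps.fwd (nat_lit 8192) (Steps.bwd (nat_lit 2) (Steps.fwd (nat_lit 8192) (Steps.bwd (nat_lit 2) (Steps.fwd (nat_lit 8192) (Steps.fwd (nat_lit 16384) (Steps.bwd (nat_lit 1) (Steps.fwd (nat_lit 16384) (Steps.fwd (nat_lit 8192) Steps.nil)))))))))))) (nat_lit 195) (nat_lit 11),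
  Rule.mk (nat_lit 0) (nat_lit 59) (Steps.bwd (nat_lit 20) (Steps.bwd (nat_lit 0) (Steps.bwd (nat_lit 19) Steps.nil))) (nat_lit 196) (nat_lit 0),
  Rule.mk (nat_lit 2) (nat_lit 179) (Steps.bwd (nat_lit 16) (Steps.bwd (nat_lit 1) (Steps.bwd (nat_lit 3) (Steps.bwd (nat_lit 1) (Steps.bwd (nat_lit 3) (Steps.fwd (nat_lit 8192) (Steps.bwd (nat_lit 3) (Steps.fwd (nat_lit 8192) (Steps.fwd (nat_lit 24576) (Steps.fwd (nat_lit 32768) (Steps.bwd (nat_lit 1) Steps.nil))))))))))) (nat_lit 190) (nat_lit 0),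
  Rule.mk (nat_lit 17) (nat_lit 179) (Steps.bwd (nat_lit 2) (Steps.fwd (nat_lit 8192) (Steps.fwd (nat_lit 24576) (Steps.bwd (nat_lit 1) (Steps.bwd (nat_lit 3) (Steps.fwd (nat_lit 8192) (Steps.bwd (nat_lit 3) (Steps.fwd (nat_lit 8192) (Steps.bwd (nat_lit 4) (Steps.bwd (nat_lit 2) (Steps.bwd (nat_lit 1) Steps.nil))))))))))) (nat_lit 193) (nat_lit 0),
  Rule.mk (nat_lit 4) (nat_lit 59) (Steps.fwd (nat_lit 16384) (Steps.bwd (nat_lit 4) (Steps.bwd (nat_lit 2) Steps.nil))) (nat_lit 168) (nat_lit 2),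
  Rule.mk (nat_lit 10) (nat_lit 104) (Steps.bwd (nat_lit 3) (Steps.bwd (nat_lit 14) (Steps.bwd (nat_lit 12) (Steps.fwd (nat_lit 90112) (Steps.bwd (nat_lit 6) (Steps.bwd (nat_lit 2) Steps.nil)))))) (nat_lit 181) (nat_lit 6),
  Rule.mk (nat_lit 14) (nat_lit 59) (Steps.fwd (nat_lit 57344) (Steps.bwd (nat_lit 14) (Steps.bwd (nat_lit 7) Steps.nil))) (nat_lit 132) (nat_lit 1),
  Rule.mk (nat_lit 12) (nat_lit 164) (Steps.bwd (nat_lit 14) (Steps.fwd (nat_lit 8192) (Steps.bwd (nat_lit 12) (Steps.bwd (nat_lit 1) (Steps.bwd (nat_lit 4) (Steps.fwd (nat_lit 40960) (Steps.fwd (nat_lit 65536) (Steps.fwd (nat_lit 73728) (Steps.fwd (nat_lit 81920) (Steps.bwd (nat_lit 11) Steps.nil)))))))))) (nat_lit 162) (nat_lit 10),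
  Rule.mk (nat_lit 1) (nat_lit 179) (Steps.bwd (nat_lit 19) (Steps.fwd (nat_lit 16384) (Steps.fwd (nat_lit 32768) (Steps.bwd (nat_lit 1) (Steps.bwd (nat_lit 2) (Steps.fwd (nat_lit 8192) (Steps.fwd (nat_lit 24576) (Steps.fwd (nat_lit 8192) (Steps.bwd (nat_lit 3) (Steps.fwd (nat_lit 8192) (Steps.fwd (nat_lit 16384) Steps.nil))))))))))) (nat_lit 195) (nat_lit 11),
  Rule.mk (nat_lit 14) (nat_lit 89) (Steps.fwd (nat_lit 57344) (Steps.bwd (nat_lit 4) (Steps.bwd (nat_lit 1) (Steps.fwd (nat_lit 73728) (Steps.bwd (nat_lit 1) Steps.nil))))) (nat_lit 157) (nat_lit 1),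
  Rule.mk (nat_lit 9) (nat_lit 104) (Steps.fwd (nat_lit 65536) (Steps.bwd (nat_lit 5) (Steps.fwd (nat_lit 32768) (Steps.bwd (nat_lit 1) (Steps.fwd (nat_lit 106496) (Steps.bwd (nat_lit 1) Steps.nil)))))) (nat_lit 165) (nat_lit 1),
  Rule.mk (nat_lit 12) (nat_lit 164) (Steps.bwd (nat_lit 1) (Steps.fwd (nat_lit 114688) (Steps.bwd (nat_lit 12) (Steps.bwd (nat_lit 11) (Steps.fwd (nat_lit 81920) (Steps.fwd (nat_lit 73728) (Steps.bwd (nat_lit 8) (Steps.fwd (nat_lit 40960) (Steps.bwd (nat_lit 4) (Steps.bwd (nat_lit 1) Steps.nil)))))))))) (nat_lit 163) (nat_lit 10),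
  Rule.mk (nat_lit 15) (nat_lit 179) (Steps.fwd (nat_lit 16384) (Steps.bwd (nat_lit 1) (Steps.bwd (nat_lit 4) (Steps.bwd (nat_lit 3) (Steps.bwd (nat_lit 1) (Steps.bwd (nat_lit 2) (Steps.fwd (nat_lit 8192) (Steps.bwd (nat_lit 2) (Steps.bwd (nat_lit 1) (Steps.fwd (nat_lit 24576) (Steps.bwd (nat_lit 1) Steps.nil))))))))))) (nat_lit 191) (nat_lit 0),
  Rule.mk (nat_lit 7) (nat_lit 119) (Steps.bwd (nat_lit 12) (Steps.bwd (nat_lit 14) (Steps.fwd (nat_lit 24576) (Steps.fwd (nat_lit 114688) (Steps.bwd (nat_lit 3) (Steps.bwd (nat_lit 5) (Steps.bwd (nat_lit 6) Steps.nil))))))) (nat_lit 188) (nat_lit 6),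
  Rule.mk (nat_lit 0) (nat_lit 194) (Steps.bwd (nat_lit 15) (Steps.bwd (nat_lit 3) (Steps.bwd (nat_lit 1) (Steps.bwd (nat_lit 4) (Steps.fwd (nat_lit 16384) (Steps.bwd (nat_lit 1) (Steps.fwd (nat_lit 24576) (Steps.fwd (nat_lit 8192) (Steps.fwd (nat_lit 24576) (Steps.bwd (nat_lit 1) (Steps.bwd (nat_lit 2) (Steps.fwd (nat_lit 8192) Steps.nil)))))))))))) (nat_lit 191) (nat_lit 11),
  Rule.mk (nat_lit 15) (nat_lit 179) (Steps.bwd (nat_lit 3) (Steps.bwd (nat_lit 1) (Steps.bwd (nat_lit 4) (Steps.bwd (nat_lit 3) (Steps.fwd (nat_lit 8192) (Steps.fwd (nat_lit 24576) (Steps.bwd (nat_lit 1) (Steps.bwd (nat_lit 2) (Steps.fwd (nat_lit 8192) (Steps.bwd (nat_lit 2) (Steps.bwd (nat_lit 1) Steps.nil))))))))))) (nat_lit 191) (nat_lit 0),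
  Rule.mk (nat_lit 15) (nat_lit 179) (Steps.bwd (nat_lit 3) (Steps.bwd (nat_lit 1) (Steps.fwd (nat_lit 32768) (Steps.bwd (nat_lit 3) (Steps.bwd (nat_lit 1) (Steps.bwd (nat_lit 2) (Steps.fwd (nat_lit 8192) (Steps.bwd (nat_lit 2) (Steps.bwd (nat_lit 1) (Steps.fwd (nat_lit 24576) (Steps.bwd (nat_lit 1) Steps.nil))))))))))) (nat_lit 191) (nat_lit 0),
  Rule.mk (nat_lit 18) (nat_lit 179) (Steps.bwd (nat_lit 1) (Steps.fwd (nat_lit 16384) (Steps.fwd (nat_lit 32768) (Steps.bwd (nat_lit 1) (Steps.bwd (nat_lit 2) (Steps.fwd (nat_lit 8192) (Steps.bwd (nat_lit 2) (Steps.bwd (nat_lit 1) (Steps.bwd (nat_lit 3) (Steps.bwd (nat_lit 1) (Steps.bwd (nat_lit 3) Steps.nil))))))))))) (nat_lit 192) (nat_lit 1),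
  Rule.mk (nat_lit 1) (nat_lit 179) (Steps.bwd (nat_lit 19) (Steps.fwd (nat_lit 16384) (Steps.fwd (nat_lit 32768) (Steps.bwd (nat_lit 1) (Steps.bwd (nat_lit 2) (Steps.fwd (nat_lit 8192) (Steps.bwd (nat_lit 2) (Steps.bwd (nat_lit 1) (Steps.bwd (nat_lit 3) (Steps.bwd (nat_lit 1) (Steps.bwd (nat_lit 3) Steps.nil))))))))))) (nat_lit 195) (nat_lit 11),
  Rule.mk (nat_lit 6) (nat_lit 104) (Steps.fwd (nat_lit 90112) (Steps.fwd (nat_lit 98304) (Steps.fwd (nat_lit 114688) (Steps.bwd (nat_lit 1) (Steps.fwd (nat_lit 90112) (Steps.bwd (nat_lit 1) Steps.nil)))))) (nat_lit 160) (nat_lit 4),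
  Rule.mk (nat_lit 11) (nat_lit 104) (Steps.bwd (nat_lit 1) (Steps.fwd (nat_lit 49152) (Steps.bwd (nat_lit 11) (Steps.bwd (nat_lit 12) (Steps.fwd (nat_lit 114688) (Steps.bwd (nat_lit 1) Steps.nil)))))) (nat_lit 160) (nat_lit 2),
  Rule.mk (nat_lit 14) (nat_lit 134) (Steps.bwd (nat_lit 1) (Steps.fwd (nat_lit 49152) (Steps.fwd (nat_lit 81920) (Steps.fwd (nat_lit 90112) (Steps.bwd (nat_lit 12) (Steps.bwd (nat_lit 13) (Steps.fwd (nat_lit 114688) (Steps.bwd (nat_lit 1) Steps.nil)))))))) (nat_lit 166) (nat_lit 2),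
  Rule.mk (nat_lit 7) (nat_lit 164) (Steps.bwd (nat_lit 1) (Steps.bwd (nat_lit 5) (Steps.fwd (nat_lit 49152) (Steps.fwd (nat_lit 73728) (Steps.fwd (nat_lit 81920) (Steps.fwd (nat_lit 90112) (Steps.bwd (nat_lit 12) (Steps.bwd (nat_lit 13) (Steps.fwd (nat_lit 114688) (Steps.bwd (nat_lit 1) Steps.nil)))))))))) (nat_lit 152) (nat_lit 2),
  Rule.mk (nat_lit 3) (nat_lit 179) (Steps.bwd (nat_lit 18) (Steps.bwd (nat_lit 1) (Steps.fwd (nat_lit 16384) (Steps.fwd (nat_lit 32768) (Steps.fwd (nat_lit 8192) (Steps.fwd (nat_lit 24576) (Steps.fwd (nat_lit 8192) (Steps.bwd (nat_lit 2) (Steps.bwd (nat_lit 1) (Steps.bwd (nat_lit 3) (Steps.bwd (nat_lit 1) Steps.nil))))))))))) (nat_lit 192) (nat_lit 0),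
  Rule.mk (nat_lit 1) (nat_lit 179) (Steps.bwd (nat_lit 19) (Steps.fwd (nat_lit 16384) (Steps.fwd (nat_lit 32768) (Steps.fwd (nat_lit 8192) (Steps.fwd (nat_lit 24576) (Steps.fwd (nat_lit 8192) (Steps.bwd (nat_lit 2) (Steps.bwd (nat_lit 1) (Steps.bwd (nat_lit 3) (Steps.bwd (nat_lit 1) (Steps.bwd (nat_lit 3) Steps.nil))))))))))) (nat_lit 195) (nat_lit 11),
  Rule.mk (nat_lit 2) (nat_lit 539) (Steps.fwd (nat_lit 8192) (Steps.bwd (nat_lit 2) (Steps.fwd (nat_lit 8192) (Steps.fwd (nat_lit 16384) (Steps.fwd (nat_lit 8192) (Steps.bwd (nat_lit 2) (Steps.bwd (nat_lit 1) (Steps.fwd (nat_lit 24576) (Steps.bwd (nat_lit 1) (Steps.bwd (nat_lit 3) (Steps.bwd (nat_lit 1) (Steps.bwd (nat_lit 2) (Steps.bwd (nat_lit 1) (Steps.fwd (nat_lit 24576) (Steps.bwd (nat_lit 1) (Steps.fwd (nat_lit 16384) (Steps.fwd (nat_lit 8192) (Steps.bwd (nat_lit 2) (Steps.fwd (nat_lit 8192) (Steps.fwd (nat_lit 16384) (Steps.bwd (nat_lit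 1) (Steps.bwd (nat_lit 3) (Steps.fwd (nat_lit 8192) (Steps.fwd (nat_lit 24576) (Steps.bwd (nat_lit 1) (Steps.fwd (nat_lit 16384) (Steps.fwd (nat_lit 8192) (Steps.fwd (nat_lit 16384) (Steps.fwd (nat_lit 8192) (Steps.bwd (nat_lit 2) (Steps.bwd (nat_lit 1) (Steps.bwd (nat_lit 3) (Steps.bwd (nat_lit 1) (Steps.bwd (nat_lit 3) (Steps.bwd (nat_lit 1) Steps.nil))))))))))))))))))))))))))))))))))) (nat_lit 12) (nat_lit 2),
  Rule.mk (nat_lit 0) (nat_lit 194) (Steps.bwd (nat_lit 15) (Steps.fwd (nat_lit 16384) (Steps.fwd (nat_lit 8192) (Steps.fwd (nat_lit 32768) (Steps.bwd (nat_lit 3) (Steps.bwd (nat_lit 1) (Steps.bwd (nat_lit 2) (Steps.fwd (nat_lit 8192) (Steps.bwd (nat_lit 2) (Steps.fwd (nat_lit 8192) (Steps.bwd (nat_lit 2) (Steps.fwd (nat_lit 8192) Steps.nil)))))))))))) (nat_lit 191) (nat_lit 11),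
  Rule.mk (nat_lit 0) (nat_lit 194) (Steps.bwd (nat_lit 15) (Steps.bwd (nat_lit 3) (Steps.bwd (nat_lit 1) (Steps.bwd (nat_lit 4) (Steps.fwd (nat_lit 16384) (Steps.bwd (nat_lit 1) (Steps.fwd (nat_lit 24576) (Steps.bwd (nat_lit 1) (Steps.bwd (nat_lit 2) (Steps.fwd (nat_lit 8192) (Steps.bwd (nat_lit 2) (Steps.fwd (nat_lit 8192) Steps.nil)))))))))))) (nat_lit 191) (nat_lit 11),
  Rule.mk (nat_lit 1) (nat_lit 179) (Steps.fwd (nat_lit 16384) (Steps.bwd (nat_lit 4) (Steps.fwd (nat_lit 8192) (Steps.fwd (nat_lit 24576) (Steps.bwd (nat_lit 1) (Steps.bwd (nat_lit 2) (Steps.bwd (nat_lit 1) (Steps.fwd (nat_lit 16384) (Steps.fwd (nat_lit 8192) (Steps.bwd (nat_lit 3) (Steps.fwd (nat_lit 139264) Steps.nil))))))))))) (nat_lit 192) (nat_lit 2),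
  Rule.mk (nat_lit 0) (nat_lit 194) (Steps.bwd (nat_lit 17) (Steps.fwd (nat_lit 24576) (Steps.bwd (nat_lit 1) (Steps.bwd (nat_lit 2) (Steps.bwd (nat_lit 1) (Steps.fwd (nat_lit 16384) (Steps.fwd (nat_lit 8192) (Steps.bwd (nat_lit 3) (Steps.fwd (nat_lit 8192) (Steps.fwd (nat_lit 32768) (Steps.fwd (nat_lit 24576) (Steps.fwd (nat_lit 8192) Steps.nil)))))))))))) (nat_lit 193) (nat_lit 11),
  Rule.mk (nat_lit 0) (nat_lit 194) (Steps.bwd (nat_lit 20) (Steps.fwd (nat_lit 8192) (Steps.fwd (nat_lit 24576) (Steps.bwd (nat_lit 1) (Steps.bwd (nat_lit 2) (Steps.bwd (nat_lit 1) (Steps.fwd (nat_lit 16384) (Steps.fwd (nat_lit 8192) (Steps.bwd (nat_lit 3) (Steps.fwd (nat_lit 8192) (Steps.fwd (nat_lit 32768) (Steps.fwd (nat_lit 24576) Steps.nil)))))))))))) (nat_lit 194) (nat_lit 0),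
  Rule.mk (nat_lit 19) (nat_lit 179) (Steps.fwd (nat_lit 16384) (Steps.bwd (nat_lit 4) (Steps.fwd (nat_lit 8192) (Steps.fwd (nat_lit 24576) (Steps.bwd (nat_lit 1) (Steps.bwd (nat_lit 2) (Steps.bwd (nat_lit 1) (Steps.fwd (nat_lit 16384) (Steps.fwd (nat_lit 8192) (Steps.bwd (nat_lit 3) (Steps.fwd (nat_lit 8192) Steps.nil))))))))))) (nat_lit 195) (nat_lit 0),
  Rule.mk (nat_lit 14) (nat_lit 89) (Steps.bwd (nat_lit 1) (Steps.bwd (nat_lit 9) (Steps.bwd (nat_lit 1) (Steps.bwd (nat_lit 4) (Steps.fwd (nat_lit 57344) Steps.nil))))) (nat_lit 156) (nat_lit 0),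
  Rule.mk (nat_lit 12) (nat_lit 164) (Steps.bwd (nat_lit 1) (Steps.fwd (nat_lit 32768) (Steps.bwd (nat_lit 5) (Steps.bwd (nat_lit 8) (Steps.bwd (nat_lit 9) (Steps.bwd (nat_lit 10) (Steps.fwd (nat_lit 90112) (Steps.bwd (nat_lit 12) (Steps.bwd (nat_lit 14) (Steps.fwd (nat_lit 8192) Steps.nil)))))))))) (nat_lit 162) (nat_lit 2),
  Rule.mk (nat_lit 3) (nat_lit 539) (Steps.bwd (nat_lit 1) (Steps.fwd (nat_lit 16384) (Steps.bwd (nat_lit 1) (Steps.bwd (nat_lit 2) (Steps.bwd (nat_lit 1) (Steps.fwd (nat_lit 24576) (Steps.bwd (nat_lit 1) (Steps.fwd (nat_lit 16384) (Steps.bwd (nat_lit 1) (Steps.bwd (nat_lit 2) (Steps.fwd (nat_lit 8192) (Steps.bwd (nat_lit 2) (Steps.fwd (nat_lit 8192) (Steps.bwd (nat_lit 3) (Steps.fwd (nat_lit 8192) (Steps.bwd (nat_lit 2) (Steps.fwd (nat_lit 8192) (Steps.bwd (nat_lit 2) (Steps.bwd (nat_lit 1) (Steps.bwd (nat_lit 3) (Steps.bwd (nat_lit 1) (Steps.bwd (nat_lit 2) (Steps.bwd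 (nat_lit 1) (Steps.bwd (nat_lit 3) (Steps.fwd (nat_lit 8192) (Steps.fwd (nat_lit 16384) (Steps.fwd (nat_lit 8192) (Steps.fwd (nat_lit 24576) (Steps.bwd (nat_lit 1) (Steps.bwd (nat_lit 3) (Steps.fwd (nat_lit 8192) (Steps.fwd (nat_lit 16384) (Steps.bwd (nat_lit 1) (Steps.fwd (nat_lit 24576) (Steps.bwd (nat_lit 1) Steps.nil))))))))))))))))))))))))))))))))))) (nat_lit 12) (nat_lit 34),
  Rule.mk (nat_lit 16) (nat_lit 179) (Steps.bwd (nat_lit 1) (Steps.bwd (nat_lit 3) (Steps.fwd (nat_lit 8192) (Steps.fwd (nat_lit 16384) (Steps.fwd (nat_lit 8192) (Steps.bwd (nat_lit 3) (Steps.bwd (nat_lit 1) (Steps.fwd (nat_lit 24576) (Steps.bwd (nat_lit 4) (Steps.fwd (nat_lit 8192) (Steps.fwd (nat_lit 24576) Steps.nil))))))))))) (nat_lit 190) (nat_lit 1),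
  Rule.mk (nat_lit 15) (nat_lit 179) (Steps.fwd (nat_lit 16384) (Steps.bwd (nat_lit 1) (Steps.bwd (nat_lit 4) (Steps.fwd (nat_lit 16384) (Steps.bwd (nat_lit 1) (Steps.fwd (nat_lit 24576) (Steps.fwd (nat_lit 8192) (Steps.bwd (nat_lit 2) (Steps.fwd (nat_lit 8192) (Steps.fwd (nat_lit 24576) (Steps.fwd (nat_lit 8192) Steps.nil))))))))))) (nat_lit 191) (nat_lit 0),
  Rule.mk (nat_lit 1) (nat_lit 179) (Steps.bwd (nat_lit 3) (Steps.bwd (nat_lit 4) (Steps.fwd (nat_lit 8192) (Steps.bwd (nat_lit 2) (Steps.fwd (nat_lit 8192) (Steps.fwd (nat_lit 24576) (Steps.fwd (nat_lit 8192) (Steps.bwd (nat_lit 3) (Steps.fwd (nat_lit 8192) (Steps.fwd (nat_lit 16384) (Steps.fwd (nat_lit 139264) Steps.nil))))))))))) (nat_lit 192) (nat_lit 2),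
  Rule.mk (nat_lit 0) (nat_lit 194) (Steps.bwd (nat_lit 17) (Steps.bwd (nat_lit 2) (Steps.fwd (nat_lit 8192) (Steps.fwd (nat_lit 24576) (Steps.fwd (nat_lit 8192) (Steps.bwd (nat_lit 3) (Steps.fwd (nat_lit 8192) (Steps.fwd (nat_lit 16384) (Steps.bwd (nat_lit 1) (Steps.bwd (nat_lit 4) (Steps.bwd (nat_lit 2) (Steps.fwd (nat_lit 8192) Steps.nil)))))))))))) (nat_lit 193) (nat_lit 11),
  Rule.mk (nat_lit 20) (nat_lit 179) (Steps.fwd (nat_lit 8192) (Steps.bwd (nat_lit 2) (Steps.fwd (nat_lit 8192) (Steps.fwd (nat_lit 24576) (Steps.fwd (nat_lit 8192) (Steps.bwd (nat_lit 3) (Steps.fwd (nat_lit 8192) (Steps.fwd (nat_lit 16384) (Steps.bwd (nat_lit 1) (Steps.bwd (nat_lit 4) (Steps.bwd (nat_lit 2) Steps.nil))))))))))) (nat_lit 194) (nat_lit 1),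
  Rule.mk (nat_lit 19) (nat_lit 179) (Steps.bwd (nat_lit 3) (Steps.bwd (nat_lit 4) (Steps.fwd (nat_lit 8192) (Steps.bwd (nat_lit 2) (Steps.fwd (nat_lit 8192) (Steps.fwd (nat_lit 24576) (Steps.fwd (nat_lit 8192) (Steps.bwd (nat_lit 3) (Steps.fwd (nat_lit 8192) (Steps.fwd (nat_lit 16384) (Steps.bwd (nat_lit 1) Steps.nil))))))))))) (nat_lit 195) (nat_lit 0),
  Rule.mk (nat_lit 11) (nat_lit 104) (Steps.bwd (nat_lit 1) (Steps.bwd (nat_lit 6) (Steps.fwd (nat_lit 90112) (Steps.fwd (nat_lit 98304) (Steps.bwd (nat_lit 14) (Steps.bwd (nat_lit 1) Steps.nil)))))) (nat_lit 160) (nat_lit 2),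
  Rule.mk (nat_lit 6) (nat_lit 134) (Steps.bwd (nat_lit 1) (Steps.bwd (nat_lit 14) (Steps.bwd (nat_lit 1) (Steps.fwd (nat_lit 114688) (Steps.fwd (nat_lit 106496) (Steps.bwd (nat_lit 12) (Steps.bwd (nat_lit 11) (Steps.bwd (nat_lit 10) Steps.nil)))))))) (nat_lit 167) (nat_lit 6),
  Rule.mk (nat_lit 16) (nat_lit 179) (Steps.bwd (nat_lit 1) (Steps.bwd (nat_lit 3) (Steps.bwd (nat_lit 1) (Steps.fwd (nat_lit 16384) (Steps.bwd (nat_lit 1) (Steps.bwd (nat_lit 3) (Steps.bwd (nat_lit 1) (Steps.bwd (nat_lit 2) (Steps.bwd (nat_lit 4) (Steps.bwd (nat_lit 1) (Steps.bwd (nat_lit 2) Steps.nil))))))))))) (nat_lit 190) (nat_lit 1),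
  Rule.mk (nat_lit 2) (nat_lit 134) (Steps.fwd (nat_lit 106496) (Steps.fwd (nat_lit 16384) (Steps.fwd (nat_lit 114688) (Steps.fwd (nat_lit 106496) (Steps.bwd (nat_lit 12) (Steps.bwd (nat_lit 11) (Steps.bwd (nat_lit 10) (Steps.bwd (nat_lit 6) Steps.nil)))))))) (nat_lit 187) (nat_lit 7),
  Rule.mk (nat_lit 1) (nat_lit 179) (Steps.bwd (nat_lit 3) (Steps.bwd (nat_lit 1) (Steps.fwd (nat_lit 16384) (Steps.bwd (nat_lit 1) (Steps.fwd (nat_lit 16384) (Steps.fwd (nat_lit 8192) (Steps.bwd (nat_lit 2) (Steps.bwd (nat_lit 4) (Steps.fwd (nat_lit 8192) (Steps.bwd (nat_lit 2) (Steps.fwd (nat_lit 122880) Steps.nil))))))))))) (nat_lit 190) (nat_lit 2),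
  Rule.mk (nat_lit 7) (nat_lit 164) (Steps.bwd (nat_lit 1) (Steps.fwd (nat_lit 40960) (Steps.bwd (nat_lit 6) (Steps.bwd (nat_lit 9) (Steps.bwd (nat_lit 10) (Steps.fwd (nat_lit 90112) (Steps.bwd (nat_lit 12) (Steps.fwd (nat_lit 106496) (Steps.bwd (nat_lit 14) (Steps.bwd (nat_lit 1) Steps.nil)))))))))) (nat_lit 152) (nat_lit 2),
  Rule.mk (nat_lit 20) (nat_lit 179) (Steps.bwd (nat_lit 1) (Steps.bwd (nat_lit 2) (Steps.fwd (nat_lit 8192) (Steps.fwd (nat_lit 24576) (Steps.bwd (nat_lit 1) (Steps.bwd (nat_lit 3) (Steps.fwd (nat_lit 8192) (Steps.fwd (nat_lit 16384) (Steps.bwd (nat_lit 1) (Steps.fwd (nat_lit 32768) (Steps.bwd (nat_lit 2) Steps.nil))))))))))) (nat_lit 194) (nat_lit 1),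
  Rule.mk (nat_lit 0) (nat_lit 194) (Steps.bwd (nat_lit 16) (Steps.fwd (nat_lit 8192) (Steps.bwd (nat_lit 3) (Steps.fwd (nat_lit 8192) (Steps.bwd (nat_lit 3) (Steps.bwd (nat_lit 1) (Steps.fwd (nat_lit 16384) (Steps.fwd (nat_lit 8192) (Steps.bwd (nat_lit 2) (Steps.bwd (nat_lit 4) (Steps.bwd (nat_lit 1) (Steps.fwd (nat_lit 24576) Steps.nil)))))))))))) (nat_lit 190) (nat_lit 0),
  Rule.mk (nat_lit 15) (nat_lit 179) (Steps.fwd (nat_lit 16384) (Steps.bwd (nat_lit 1) (Steps.fwd (nat_lit 32768) (Steps.fwd (nat_lit 16384) (Steps.fwd (nat_lit 8192) (Steps.bwd (nat_lit 2) (Steps.fwd (nat_lit 8192) (Steps.fwd (nat_lit 24576) (Steps.fwd (nat_lit 8192) (Steps.bwd (nat_lit 2) (Steps.fwd (nat_lit 8192) Steps.nil))))))))))) (nat_lit 191) (nat_lit 0),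
  Rule.mk (nat_lit 0) (nat_lit 194) (Steps.bwd (nat_lit 17) (Steps.fwd (nat_lit 24576) (Steps.bwd (nat_lit 1) (Steps.fwd (nat_lit 24576) (Steps.bwd (nat_lit 1) (Steps.fwd (nat_lit 16384) (Steps.bwd (nat_lit 1) (Steps.bwd (nat_lit 3) (Steps.bwd (nat_lit 1) (Steps.fwd (nat_lit 32768) (Steps.fwd (nat_lit 24576) (Steps.bwd (nat_lit 1) Steps.nil)))))))))))) (nat_lit 193) (nat_lit 11),
  Rule.mk (nat_lit 0) (nat_lit 194) (Steps.bwd (nat_lit 17) (Steps.fwd (nat_lit 24576) (Steps.fwd (nat_lit 8192) (Steps.bwd (nat_lit 2) (Steps.fwd (nat_lit 8192) (Steps.bwd (nat_lit 3) (Steps.fwd (nat_lit 8192) (Steps.bwd (nat_lit 3) (Steps.bwd (nat_lit 1) (Steps.fwd (nat_lit 32768) (Steps.fwd (nat_lit 24576) (Steps.fwd (nat_lit 8192) Steps.nil)))))))))))) (nat_lit 193) (nat_lit 11),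
  Rule.mk (nat_lit 0) (nat_lit 194) (Steps.fwd (nat_lit 8192) (Steps.fwd (nat_lit 24576) (Steps.fwd (nat_lit 8192) (Steps.bwd (nat_lit 2) (Steps.fwd (nat_lit 8192) (Steps.bwd (nat_lit 3) (Steps.fwd (nat_lit 8192) (Steps.bwd (nat_lit 3) (Steps.bwd (nat_lit 1) (Steps.fwd (nat_lit 32768) (Steps.fwd (nat_lit 24576) (Steps.fwd (nat_lit 155648) Steps.nil)))))))))))) (nat_lit 194) (nat_lit 1),
  Rule.mk (nat_lit 0) (nat_lit 194) (Steps.bwd (nat_lit 20) (Steps.fwd (nat_lit 8192) (Steps.fwd (nat_lit 24576) (Steps.bwd (nat_lit 1) (Steps.fwd (nat_lit 24576) (Steps.bwd (nat_lit 1) (Steps.fwd (nat_lit 16384) (Steps.bwd (nat_lit 1) (Steps.bwd (nat_lit 3) (Steps.bwd (nat_lit 1) (Steps.fwd (nat_lit 32768) (Steps.fwd (nat_lit 24576) Steps.nil)))))))))))) (nat_lit 194) (nat_lit 0),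
  Rule.mk (nat_lit 3) (nat_lit 179) (Steps.bwd (nat_lit 18) (Steps.bwd (nat_lit 1) (Steps.bwd (nat_lit 3) (Steps.bwd (nat_lit 4) (Steps.fwd (nat_lit 8192) (Steps.bwd (nat_lit 2) (Steps.fwd (nat_lit 8192) (Steps.fwd (nat_lit 24576) (Steps.fwd (nat_lit 8192) (Steps.fwd (nat_lit 16384) (Steps.fwd (nat_lit 8192) Steps.nil))))))))))) (nat_lit 192) (nat_lit 0),
  Rule.mk (nat_lit 15) (nat_lit 179) (Steps.bwd (nat_lit 3) (Steps.bwd (nat_lit 1) (Steps.fwd (nat_lit 32768) (Steps.bwd (nat_lit 3) (Steps.fwd (nat_lit 8192) (Steps.fwd (nat_lit 24576) (Steps.bwd (nat_lit 1) (Steps.fwd (nat_lit 24576) (Steps.bwd (nat_lit 1) (Steps.fwd (nat_lit 24576) (Steps.fwd (nat_lit 8192) Steps.nil))))))))))) (nat_lit 191) (nat_lit 0)]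
noncomputable def R_44 : List (Rule) := [Rule.mk (nat_lit 6) (nat_lit 104) (Steps.fwd (nat_lit 90112) (Steps.fwd (nat_lit 98304) (Steps.bwd (nat_lit 14) (Steps.fwd (nat_lit 24576) (Steps.bwd (nat_lit 10) (Steps.bwd (nat_lit 3) Steps.nil)))))) (nat_lit 180) (nat_lit 4),
  Rule.mk (nat_lit 16) (nat_lit 179) (Steps.bwd (nat_lit 1) (Steps.fwd (nat_lit 16384) (Steps.fwd (nat_lit 8192) (Steps.bwd (nat_lit 3) (Steps.bwd (nat_lit 1) (Steps.bwd (nat_lit 3) (Steps.fwd (nat_lit 8192) (Steps.fwd (nat_lit 24576) (Steps.fwd (nat_lit 32768) (Steps.fwd (nat_lit 8192) (Steps.bwd (nat_lit 2) Steps.nil))))))))))) (nat_lit 190) (nat_lit 1),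
  Rule.mk (nat_lit 0) (nat_lit 194) (Steps.bwd (nat_lit 17) (Steps.fwd (nat_lit 24576) (Steps.fwd (nat_lit 8192) (Steps.fwd (nat_lit 24576) (Steps.bwd (nat_lit 1) (Steps.fwd (nat_lit 16384) (Steps.bwd (nat_lit 1) (Steps.bwd (nat_lit 3) (Steps.fwd (nat_lit 8192) (Steps.fwd (nat_lit 32768) (Steps.bwd (nat_lit 2) (Steps.fwd (nat_lit 8192) Steps.nil)))))))))))) (nat_lit 193) (nat_lit 11),
  Rule.mk (nat_lit 18) (nat_lit 179) (Steps.fwd (nat_lit 8192) (Steps.bwd (nat_lit 3) (Steps.bwd (nat_lit 4) (Steps.fwd (nat_lit 8192) (Steps.fwd (nat_lit 24576) (Steps.fwd (nat_lit 8192) (Steps.fwd (nat_lit 24576) (Steps.bwd (nat_lit 1) (Steps.bwd (nat_lit 3) (Steps.bwd (nat_lit 1) (Steps.fwd (nat_lit 16384) Steps.nil))))))))))) (nat_lit 192) (nat_lit 1),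
  Rule.mk (nat_lit 17) (nat_lit 179) (Steps.fwd (nat_lit 24576) (Steps.bwd (nat_lit 1) (Steps.bwd (nat_lit 2) (Steps.bwd (nat_lit 1) (Steps.fwd (nat_lit 16384) (Steps.fwd (nat_lit 8192) (Steps.bwd (nat_lit 3) (Steps.bwd (nat_lit 1) (Steps.fwd (nat_lit 32768) (Steps.fwd (nat_lit 24576) (Steps.bwd (nat_lit 1) Steps.nil))))))))))) (nat_lit 193) (nat_lit 0),
  Rule.mk (nat_lit 17) (nat_lit 179) (Steps.fwd (nat_lit 24576) (Steps.fwd (nat_lit 8192) (Steps.bwd (nat_lit 2) (Steps.fwd (nat_lit 8192) (Steps.bwd (nat_lit 3) (Steps.bwd (nat_lit 1) (Steps.bwd (nat_lit 3) (Steps.fwd (nat_lit 8192) (Steps.fwd (nat_lit 32768) (Steps.bwd (nat_lit 2) (Steps.fwd (nat_lit 8192) Steps.nil))))))))))) (nat_lit 193) (nat_lit 0),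
  Rule.mk (nat_lit 20) (nat_lit 179) (Steps.bwd (nat_lit 1) (Steps.fwd (nat_lit 24576) (Steps.fwd (nat_lit 8192) (Steps.bwd (nat_lit 2) (Steps.fwd (nat_lit 8192) (Steps.bwd (nat_lit 3) (Steps.bwd (nat_lit 1) (Steps.bwd (nat_lit 3) (Steps.fwd (nat_lit 8192) (Steps.fwd (nat_lit 32768) (Steps.bwd (nat_lit 2) Steps.nil))))))))))) (nat_lit 194) (nat_lit 1),
  Rule.mk (nat_lit 19) (nat_lit 179) (Steps.fwd (nat_lit 16384) (Steps.bwd (nat_lit 4) (Steps.bwd (nat_lit 1) (Steps.fwd (nat_lit 24576) (Steps.fwd (nat_lit 8192) (Steps.bwd (nat_lit 2) (Steps.fwd (nat_lit 8192) (Steps.bwd (nat_lit 3) (Steps.bwd (nat_lit 1) (Steps.bwd (nat_lit 3) (Steps.fwd (nat_lit 8192) Steps.nil))))))))))) (nat_lit 195) (nat_lit 0),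
  Rule.mk (nat_lit 19) (nat_lit 179) (Steps.bwd (nat_lit 3) (Steps.bwd (nat_lit 4) (Steps.fwd (nat_lit 8192) (Steps.fwd (nat_lit 24576) (Steps.fwd (nat_lit 8192) (Steps.fwd (nat_lit 24576) (Steps.bwd (nat_lit 1) (Steps.bwd (nat_lit 3) (Steps.bwd (nat_lit 1) (Steps.fwd (nat_lit 16384) (Steps.bwd (nat_lit 1) Steps.nil))))))))))) (nat_lit 195) (nat_lit 0),
  Rule.mk (nat_lit 0) (nat_lit 59) (Steps.fwd (nat_lit 24576) (Steps.bwd (nat_lit 2) (Steps.fwd (nat_lit 24576) Steps.nil))) (nat_lit 2) (nat_lit 0),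
  Rule.mk (nat_lit 0) (nat_lit 59) (Steps.bwd (nat_lit 1) (Steps.bwd (nat_lit 0) (Steps.bwd (nat_lit 1) Steps.nil))) (nat_lit 196) (nat_lit 0),
  Rule.mk (nat_lit 16) (nat_lit 44) (Steps.bwd (nat_lit 0) (Steps.fwd (nat_lit 131072) Steps.nil)) (nat_lit 196) (nat_lit 0),
  Rule.mk (nat_lit 18) (nat_lit 179) (Steps.bwd (nat_lit 1) (Steps.bwd (nat_lit 3) (Steps.bwd (nat_lit 4) (Steps.fwd (nat_lit 8192) (Steps.fwd (nat_lit 24576) (Steps.fwd (nat_lit 8192) (Steps.fwd (nat_lit 24576) (Steps.fwd (nat_lit 8192) (Steps.fwd (nat_lit 16384) (Steps.bwd (nat_lit 1) (Steps.bwd (nat_lit 3) Steps.nil))))))))))) (nat_lit 192) (nat_lit 1),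
  Rule.mk (nat_lit 15) (nat_lit 179) (Steps.fwd (nat_lit 16384) (Steps.bwd (nat_lit 1) (Steps.fwd (nat_lit 32768) (Steps.bwd (nat_lit 3) (Steps.fwd (nat_lit 8192) (Steps.fwd (nat_lit 24576) (Steps.fwd (nat_lit 8192) (Steps.fwd (nat_lit 24576) (Steps.fwd (nat_lit 8192) (Steps.fwd (nat_lit 24576) (Steps.fwd (nat_lit 8192) Steps.nil))))))))))) (nat_lit 191) (nat_lit 0),
  Rule.mk (nat_lit 15) (nat_lit 179) (Steps.bwd (nat_lit 3) (Steps.fwd (nat_lit 8192) (Steps.fwd (nat_lit 32768) (Steps.fwd (nat_lit 16384) (Steps.bwd (nat_lit 1) (Steps.bwd (nat_lit 2) (Steps.fwd (nat_lit 8192) (Steps.bwd (nat_lit 2) (Steps.fwd (nat_lit 8192) (Steps.fwd (nat_lit 24576) (Steps.fwd (nat_lit 8192) Steps.nil))))))))))) (nat_lit 191) (nat_lit 0),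
  Rule.mk (nat_lit 15) (nat_lit 179) (Steps.bwd (nat_lit 3) (Steps.fwd (nat_lit 8192) (Steps.fwd (nat_lit 32768) (Steps.bwd (nat_lit 3) (Steps.fwd (nat_lit 8192) (Steps.bwd (nat_lit 2) (Steps.fwd (nat_lit 8192) (Steps.fwd (nat_lit 24576) (Steps.fwd (nat_lit 8192) (Steps.fwd (nat_lit 24576) (Steps.fwd (nat_lit 8192) Steps.nil))))))))))) (nat_lit 191) (nat_lit 0),
  Rule.mk (nat_lit 9) (nat_lit 134) (Steps.bwd (nat_lit 3) (Steps.fwd (nat_lit 32768) (Steps.fwd (nat_lit 40960) (Steps.bwd (nat_lit 8) (Steps.fwd (nat_lit 73728) (Steps.fwd (nat_lit 90112) (Steps.fwd (nat_lit 114688) (Steps.fwd (nat_lit 24576) Steps.nil)))))))) (nat_lit 178) (nat_lit 2),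
  Rule.mk (nat_lit 13) (nat_lit 134) (Steps.bwd (nat_lit 3) (Steps.bwd (nat_lit 14) (Steps.bwd (nat_lit 13) (Steps.bwd (nat_lit 12) (Steps.bwd (nat_lit 11) (Steps.fwd (nat_lit 81920) (Steps.bwd (nat_lit 6) (Steps.bwd (nat_lit 2) Steps.nil)))))))) (nat_lit 187) (nat_lit 8),
  Rule.mk (nat_lit 5) (nat_lit 149) (Steps.bwd (nat_lit 3) (Steps.fwd (nat_lit 32768) (Steps.fwd (nat_lit 40960) (Steps.bwd (nat_lit 8) (Steps.fwd (nat_lit 73728) (Steps.fwd (nat_lit 98304) (Steps.fwd (nat_lit 106496) (Steps.fwd (nat_lit 114688) (Steps.fwd (nat_lit 24576) Steps.nil))))))))) (nat_lit 170) (nat_lit 2),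
  Rule.mk (nat_lit 0) (nat_lit 194) (Steps.bwd (nat_lit 16) (Steps.bwd (nat_lit 1) (Steps.fwd (nat_lit 16384) (Steps.bwd (nat_lit 1) (Steps.fwd (nat_lit 16384) (Steps.fwd (nat_lit 8192) (Steps.bwd (nat_lit 3) (Steps.fwd (nat_lit 8192) (Steps.fwd (nat_lit 24576) (Steps.bwd (nat_lit 4) (Steps.bwd (nat_lit 1) (Steps.fwd (nat_lit 24576) Steps.nil)))))))))))) (nat_lit 190) (nat_lit 0),
  Rule.mk (nat_lit 1) (nat_lit 179) (Steps.fwd (nat_lit 16384) (Steps.fwd (nat_lit 8192) (Steps.bwd (nat_lit 3) (Steps.bwd (nat_lit 1) (Steps.bwd (nat_lit 3) (Steps.bwd (nat_lit 1) (Steps.bwd (nat_lit 2) (Steps.fwd (nat_lit 32768) (Steps.bwd (nat_lit 1) (Steps.bwd (nat_lit 2) (Steps.fwd (nat_lit 122880) Steps.nil))))))))))) (nat_lit 190) (nat_lit 2),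
  Rule.mk (nat_lit 17) (nat_lit 179) (Steps.fwd (nat_lit 24576) (Steps.fwd (nat_lit 8192) (Steps.bwd (nat_lit 2) (Steps.bwd (nat_lit 1) (Steps.fwd (nat_lit 16384) (Steps.fwd (nat_lit 8192) (Steps.bwd (nat_lit 3) (Steps.fwd (nat_lit 8192) (Steps.bwd (nat_lit 4) (Steps.fwd (nat_lit 24576) (Steps.bwd (nat_lit 1) Steps.nil))))))))))) (nat_lit 193) (nat_lit 0),
  Rule.mk (nat_lit 17) (nat_lit 179) (Steps.fwd (nat_lit 24576) (Steps.fwd (nat_lit 8192) (Steps.fwd (nat_lit 24576) (Steps.bwd (nat_lit 1) (Steps.bwd (nat_lit 3) (Steps.bwd (nat_lit 1) (Steps.fwd (nat_lit 16384) (Steps.fwd (nat_lit 8192) (Steps.fwd (nat_lit 32768) (Steps.bwd (nat_lit 2) (Steps.fwd (nat_lit 8192) Steps.nil))))))))))) (nat_lit 193) (nat_lit 0),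
  Rule.mk (nat_lit 20) (nat_lit 179) (Steps.bwd (nat_lit 1) (Steps.fwd (nat_lit 24576) (Steps.fwd (nat_lit 8192) (Steps.fwd (nat_lit 24576) (Steps.bwd (nat_lit 1) (Steps.bwd (nat_lit 3) (Steps.bwd (nat_lit 1) (Steps.fwd (nat_lit 16384) (Steps.fwd (nat_lit 8192) (Steps.fwd (nat_lit 32768) (Steps.bwd (nat_lit 2) Steps.nil))))))))))) (nat_lit 194) (nat_lit 1),
  Rule.mk (nat_lit 13) (nat_lit 104) (Steps.bwd (nat_lit 1) (Steps.bwd (nat_lit 9) (Steps.bwd (nat_lit 8) (Steps.fwd (nat_lit 40960) (Steps.fwd (nat_lit 32768) (Steps.bwd (nat_lit 1) Steps.nil)))))) (nat_lit 165) (nat_lit 6),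
  Rule.mk (nat_lit 2) (nat_lit 164) (Steps.bwd (nat_lit 11) (Steps.bwd (nat_lit 3) (Steps.bwd (nat_lit 4) (Steps.bwd (nat_lit 5) (Steps.bwd (nat_lit 8) (Steps.fwd (nat_lit 73728) (Steps.bwd (nat_lit 10) (Steps.fwd (nat_lit 90112) (Steps.fwd (nat_lit 98304) (Steps.fwd (nat_lit 114688) Steps.nil)))))))))) (nat_lit 182) (nat_lit 1),
  Rule.mk (nat_lit 3) (nat_lit 179) (Steps.fwd (nat_lit 8192) (Steps.bwd (nat_lit 4) (Steps.fwd (nat_lit 16384) (Steps.bwd (nat_lit 1) (Steps.bwd (nat_lit 2) (Steps.fwd (nat_lit 8192) (Steps.fwd (nat_lit 24576) (Steps.fwd (nat_lit 8192) (Steps.bwd (nat_lit 2) (Steps.bwd (nat_lit 1) (Steps.fwd (nat_lit 131072) Steps.nil))))))))))) (nat_lit 191) (nat_lit 1),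
  Rule.mk (nat_lit 18) (nat_lit 179) (Steps.fwd (nat_lit 8192) (Steps.bwd (nat_lit 3) (Steps.fwd (nat_lit 32768) (Steps.fwd (nat_lit 8192) (Steps.bwd (nat_lit 2) (Steps.bwd (nat_lit 1) (Steps.bwd (nat_lit 2) (Steps.fwd (nat_lit 8192) (Steps.bwd (nat_lit 3) (Steps.fwd (nat_lit 8192) (Steps.fwd (nat_lit 16384) Steps.nil))))))))))) (nat_lit 192) (nat_lit 1),
  Rule.mk (nat_lit 0) (nat_lit 194) (Steps.bwd (nat_lit 18) (Steps.fwd (nat_lit 8192) (Steps.fwd (nat_lit 16384) (Steps.fwd (nat_lit 32768) (Steps.bwd (nat_lit 1) (Steps.bwd (nat_lit 2) (Steps.fwd (nat_lit 8192) (Steps.fwd (nat_lit 24576) (Steps.bwd (nat_lit 1) (Steps.fwd (nat_lit 16384) (Steps.fwd (nat_lit 8192) (Steps.fwd (nat_lit 16384) Steps.nil)))))))))))) (nat_lit 192) (nat_lit 0),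
  Rule.mk (nat_lit 0) (nat_lit 194) (Steps.bwd (nat_lit 19) (Steps.fwd (nat_lit 16384) (Steps.fwd (nat_lit 32768) (Steps.bwd (nat_lit 1) (Steps.bwd (nat_lit 2) (Steps.fwd (nat_lit 8192) (Steps.fwd (nat_lit 24576) (Steps.bwd (nat_lit 1) (Steps.fwd (nat_lit 16384) (Steps.fwd (nat_lit 8192) (Steps.fwd (nat_lit 16384) (Steps.fwd (nat_lit 8192) Steps.nil)))))))))))) (nat_lit 195) (nat_lit 11),
  Rule.mk (nat_lit 19) (nat_lit 179) (Steps.bwd (nat_lit 3) (Steps.fwd (nat_lit 32768) (Steps.fwd (nat_lit 8192) (Steps.bwd (nat_lit 2) (Steps.bwd (nat_lit 1) (Steps.bwd (nat_lit 2) (Steps.fwd (nat_lit 8192) (Steps.bwd (nat_lit 3) (Steps.fwd (nat_lit 8192) (Steps.fwd (nat_lit 16384) (Steps.fwd (nat_lit 8192) Steps.nil))))))))))) (nat_lit 195) (nat_lit 0),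
  Rule.mk (nat_lit 0) (nat_lit 194) (Steps.bwd (nat_lit 1) (Steps.bwd (nat_lit 3) (Steps.fwd (nat_lit 8192) (Steps.bwd (nat_lit 3) (Steps.bwd (nat_lit 1) (Steps.fwd (nat_lit 16384) (Steps.bwd (nat_lit 1) (Steps.fwd (nat_lit 24576) (Steps.fwd (nat_lit 32768) (Steps.bwd (nat_lit 1) (Steps.bwd (nat_lit 2) (Steps.fwd (nat_lit 122880) Steps.nil)))))))))))) (nat_lit 190) (nat_lit 1),
  Rule.mk (nat_lit 16) (nat_lit 179) (Steps.fwd (nat_lit 8192) (Steps.bwd (nat_lit 3) (Steps.fwd (nat_lit 8192) (Steps.fwd (nat_lit 16384) (Steps.bwd (nat_lit 1) (Steps.bwd (nat_lit 3) (Steps.bwd (nat_lit 1) (Steps.bwd (nat_lit 2) (Steps.bwd (nat_lit 4) (Steps.fwd (nat_lit 8192) (Steps.bwd (nat_lit 2) Steps.nil))))))))))) (nat_lit 190) (nat_lit 1),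
  Rule.mk (nat_lit 15) (nat_lit 179) (Steps.fwd (nat_lit 16384) (Steps.fwd (nat_lit 8192) (Steps.fwd (nat_lit 32768) (Steps.fwd (nat_lit 16384) (Steps.bwd (nat_lit 1) (Steps.bwd (nat_lit 2) (Steps.fwd (nat_lit 8192) (Steps.fwd (nat_lit 24576) (Steps.bwd (nat_lit 1) (Steps.bwd (nat_lit 2) (Steps.fwd (nat_lit 8192) Steps.nil))))))))))) (nat_lit 191) (nat_lit 0),
  Rule.mk (nat_lit 14) (nat_lit 119) (Steps.bwd (nat_lit 3) (Steps.fwd (nat_lit 40960) (Steps.fwd (nat_lit 49152) (Steps.bwd (nat_lit 7) (Steps.fwd (nat_lit 98304) (Steps.fwd (nat_lit 114688) (Steps.fwd (nat_lit 24576) Steps.nil))))))) (nat_lit 188) (nat_lit 2),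
  Rule.mk (nat_lit 15) (nat_lit 179) (Steps.bwd (nat_lit 3) (Steps.bwd (nat_lit 1) (Steps.fwd (nat_lit 32768) (Steps.fwd (nat_lit 16384) (Steps.fwd (nat_lit 8192) (Steps.bwd (nat_lit 2) (Steps.bwd (nat_lit 1) (Steps.bwd (nat_lit 2) (Steps.fwd (nat_lit 8192) (Steps.bwd (nat_lit 2) (Steps.bwd (nat_lit 1) Steps.nil))))))))))) (nat_lit 191) (nat_lit 0),
  Rule.mk (nat_lit 16) (nat_lit 179) (Steps.bwd (nat_lit 1) (Steps.fwd (nat_lit 16384) (Steps.fwd (nat_lit 8192) (Steps.bwd (nat_lit 3) (Steps.bwd (nat_lit 1) (Steps.fwd (nat_lit 16384) (Steps.bwd (nat_lit 1) (Steps.fwd (nat_lit 24576) (Steps.bwd (nat_lit 4) (Steps.fwd (nat_lit 8192) (Steps.bwd (nat_lit 2) Steps.nil))))))))))) (nat_lit 190) (nat_lit 1),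
  Rule.mk (nat_lit 8) (nat_lit 104) (Steps.bwd (nat_lit 1) (Steps.fwd (nat_lit 40960) (Steps.bwd (nat_lit 7) (Steps.bwd (nat_lit 13) (Steps.fwd (nat_lit 114688) (Steps.fwd (nat_lit 8192) Steps.nil)))))) (nat_lit 154) (nat_lit 2),
  Rule.mk (nat_lit 10) (nat_lit 134) (Steps.bwd (nat_lit 1) (Steps.bwd (nat_lit 4) (Steps.bwd (nat_lit 5) (Steps.bwd (nat_lit 8) (Steps.bwd (nat_lit 9) (Steps.bwd (nat_lit 11) (Steps.fwd (nat_lit 114688) (Steps.bwd (nat_lit 1) Steps.nil)))))))) (nat_lit 158) (nat_lit 2),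
  Rule.mk (nat_lit 17) (nat_lit 179) (Steps.bwd (nat_lit 2) (Steps.fwd (nat_lit 8192) (Steps.fwd (nat_lit 24576) (Steps.fwd (nat_lit 8192) (Steps.bwd (nat_lit 3) (Steps.bwd (nat_lit 1) (Steps.bwd (nat_lit 3) (Steps.fwd (nat_lit 8192) (Steps.bwd (nat_lit 4) (Steps.bwd (nat_lit 2) (Steps.bwd (nat_lit 1) Steps.nil))))))))))) (nat_lit 193) (nat_lit 0),
  Rule.mk (nat_lit 0) (nat_lit 194) (Steps.bwd (nat_lit 20) (Steps.fwd (nat_lit 8192) (Steps.bwd (nat_lit 2) (Steps.fwd (nat_lit 8192) (Steps.fwd (nat_lit 24576) (Steps.fwd (nat_lit 8192) (Steps.bwd (nat_lit 3) (Steps.bwd (nat_lit 1) (Steps.bwd (nat_lit 3) (Steps.fwd (nat_lit 8192) (Steps.bwd (nat_lit 4) (Steps.bwd (nat_lit 2) Steps.nil)))))))))))) (nat_lit 194) (nat_lit 0),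
  Rule.mk (nat_lit 14) (nat_lit 134) (Steps.bwd (nat_lit 2) (Steps.fwd (nat_lit 73728) (Steps.bwd (nat_lit 3) (Steps.bwd (nat_lit 4) (Steps.bwd (nat_lit 5) (Steps.fwd (nat_lit 65536) (Steps.bwd (nat_lit 9) (Steps.fwd (nat_lit 90112) Steps.nil)))))))) (nat_lit 178) (nat_lit 0),
  Rule.mk (nat_lit 8) (nat_lit 89) (Steps.bwd (nat_lit 3) (Steps.bwd (nat_lit 4) (Steps.fwd (nat_lit 57344) (Steps.fwd (nat_lit 114688) (Steps.bwd (nat_lit 2) Steps.nil))))) (nat_lit 176) (nat_lit 2),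
  Rule.mk (nat_lit 7) (nat_lit 104) (Steps.bwd (nat_lit 3) (Steps.fwd (nat_lit 40960) (Steps.bwd (nat_lit 7) (Steps.bwd (nat_lit 13) (Steps.fwd (nat_lit 114688) (Steps.bwd (nat_lit 2) Steps.nil)))))) (nat_lit 174) (nat_lit 2),
  Rule.mk (nat_lit 3) (nat_lit 104) (Steps.fwd (nat_lit 73728) (Steps.fwd (nat_lit 65536) (Steps.bwd (nat_lit 5) (Steps.fwd (nat_lit 32768) (Steps.bwd (nat_lit 2) (Steps.bwd (nat_lit 12) Steps.nil)))))) (nat_lit 185) (nat_lit 0),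
  Rule.mk (nat_lit 14) (nat_lit 89) (Steps.bwd (nat_lit 2) (Steps.bwd (nat_lit 8) (Steps.bwd (nat_lit 3) (Steps.bwd (nat_lit 4) (Steps.bwd (nat_lit 7) Steps.nil))))) (nat_lit 176) (nat_lit 0),
  Rule.mk (nat_lit 16) (nat_lit 179) (Steps.bwd (nat_lit 1) (Steps.bwd (nat_lit 3) (Steps.bwd (nat_lit 1) (Steps.fwd (nat_lit 16384) (Steps.bwd (nat_lit 1) (Steps.bwd (nat_lit 3) (Steps.bwd (nat_lit 1) (Steps.bwd (nat_lit 2) (Steps.bwd (nat_lit 4) (Steps.bwd (nat_lit 1) (Steps.fwd (nat_lit 24576) Steps.nil))))))))))) (nat_lit 190) (nat_lit 1),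
  Rule.mk (nat_lit 17) (nat_lit 179) (Steps.bwd (nat_lit 2) (Steps.bwd (nat_lit 1) (Steps.bwd (nat_lit 2) (Steps.fwd (nat_lit 8192) (Steps.fwd (nat_lit 16384) (Steps.bwd (nat_lit 1) (Steps.bwd (nat_lit 3) (Steps.bwd (nat_lit 1) (Steps.fwd (nat_lit 32768) (Steps.bwd (nat_lit 2) (Steps.fwd (nat_lit 8192) Steps.nil))))))))))) (nat_lit 193) (nat_lit 0),
  Rule.mk (nat_lit 0) (nat_lit 194) (Steps.bwd (nat_lit 19) (Steps.fwd (nat_lit 16384) (Steps.bwd (nat_lit 4) (Steps.fwd (nat_lit 8192) (Steps.fwd (nat_lit 24576) (Steps.fwd (nat_lit 8192) (Steps.bwd (nat_lit 2) (Steps.bwd (nat_lit 1) (Steps.fwd (nat_lit 16384) (Steps.fwd (nat_lit 8192) (Steps.fwd (nat_lit 16384) (Steps.bwd (nat_lit 1) Steps.nil)))))))))))) (nat_lit 195) (nat_lit 11),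
  Rule.mk (nat_lit 2) (nat_lit 119) (Steps.bwd (nat_lit 14) (Steps.fwd (nat_lit 16384) (Steps.fwd (nat_lit 40960) (Steps.bwd (nat_lit 6) (Steps.bwd (nat_lit 7) (Steps.bwd (nat_lit 12) (Steps.bwd (nat_lit 14) Steps.nil))))))) (nat_lit 188) (nat_lit 1),
  Rule.mk (nat_lit 3) (nat_lit 119) (Steps.fwd (nat_lit 40960) (Steps.bwd (nat_lit 6) (Steps.fwd (nat_lit 57344) (Steps.bwd (nat_lit 12) (Steps.fwd (nat_lit 114688) (Steps.fwd (nat_lit 24576) (Steps.bwd (nat_lit 14) Steps.nil))))))) (nat_lit 188) (nat_lit 3),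
  Rule.mk (nat_lit 9) (nat_lit 104) (Steps.bwd (nat_lit 2) (Steps.bwd (nat_lit 12) (Steps.bwd (nat_lit 3) (Steps.fwd (nat_lit 32768) (Steps.fwd (nat_lit 40960) (Steps.bwd (nat_lit 8) Steps.nil)))))) (nat_lit 184) (nat_lit 0),
  Rule.mk (nat_lit 16) (nat_lit 179) (Steps.fwd (nat_lit 8192) (Steps.fwd (nat_lit 16384) (Steps.bwd (nat_lit 1) (Steps.bwd (nat_lit 3) (Steps.bwd (nat_lit 1) (Steps.fwd (nat_lit 16384) (Steps.fwd (nat_lit 8192) (Steps.bwd (nat_lit 2) (Steps.fwd (nat_lit 32768) (Steps.fwd (nat_lit 8192) (Steps.bwd (nat_lit 2) Steps.nil))))))))))) (nat_lit 190) (nat_lit 1),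
  Rule.mk (nat_lit 20) (nat_lit 179) (Steps.bwd (nat_lit 1) (Steps.bwd (nat_lit 2) (Steps.fwd (nat_lit 8192) (Steps.bwd (nat_lit 2) (Steps.bwd (nat_lit 1) (Steps.bwd (nat_lit 3) (Steps.fwd (nat_lit 8192) (Steps.fwd (nat_lit 16384) (Steps.bwd (nat_lit 1) (Steps.bwd (nat_lit 4) (Steps.bwd (nat_lit 2) Steps.nil))))))))))) (nat_lit 194) (nat_lit 1),
  Rule.mk (nat_lit 3) (nat_lit 119) (Steps.fwd (nat_lit 40960) (Steps.fwd (nat_lit 49152) (Steps.fwd (nat_lit 57344) (Steps.bwd (nat_lit 12) (Steps.bwd (nat_lit 14) (Steps.fwd (nat_lit 24576) (Steps.bwd (nat_lit 14) Steps.nil))))))) (nat_lit 188) (nat_lit 3),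
  Rule.mk (nat_lit 16) (nat_lit 179) (Steps.bwd (nat_lit 1) (Steps.bwd (nat_lit 3) (Steps.fwd (nat_lit 8192) (Steps.bwd (nat_lit 3) (Steps.fwd (nat_lit 8192) (Steps.fwd (nat_lit 16384) (Steps.bwd (nat_lit 1) (Steps.bwd (nat_lit 2) (Steps.bwd (nat_lit 4) (Steps.bwd (nat_lit 1) (Steps.fwd (nat_lit 24576) Steps.nil))))))))))) (nat_lit 190) (nat_lit 1),
  Rule.mk (nat_lit 0) (nat_lit 194) (Steps.bwd (nat_lit 18) (Steps.bwd (nat_lit 1) (Steps.fwd (nat_lit 16384) (Steps.bwd (nat_lit 4) (Steps.fwd (nat_lit 8192) (Steps.fwd (nat_lit 24576) (Steps.bwd (nat_lit 1) (Steps.bwd (nat_lit 2) (Steps.bwd (nat_lit 1) (Steps.bwd (nat_lit 3) (Steps.fwd (nat_lit 8192) (Steps.bwd (nat_lit 3) Steps.nil)))))))))))) (nat_lit 192) (nat_lit 0),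
  Rule.mk (nat_lit 17) (nat_lit 179) (Steps.fwd (nat_lit 24576) (Steps.bwd (nat_lit 1) (Steps.bwd (nat_lit 2) (Steps.bwd (nat_lit 1) (Steps.bwd (nat_lit 3) (Steps.fwd (nat_lit 8192) (Steps.bwd (nat_lit 3) (Steps.fwd (nat_lit 8192) (Steps.fwd (nat_lit 32768) (Steps.bwd (nat_lit 2) (Steps.fwd (nat_lit 8192) Steps.nil))))))))))) (nat_lit 193) (nat_lit 0),
  Rule.mk (nat_lit 0) (nat_lit 194) (Steps.fwd (nat_lit 8192) (Steps.fwd (nat_lit 24576) (Steps.bwd (nat_lit 1) (Steps.bwd (nat_lit 2) (Steps.bwd (nat_lit 1) (Steps.bwd (nat_lit 3) (Steps.fwd (nat_lit 8192) (Steps.bwd (nat_lit 3) (Steps.fwd (nat_lit 8192) (Steps.fwd (nat_lit 32768) (Steps.bwd (nat_lit 2) (Steps.fwd (nat_lit 155648) Steps.nil)))))))))))) (nat_lit 194) (nat_lit 1),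
  Rule.mk (nat_lit 0) (nat_lit 194) (Steps.bwd (nat_lit 1) (Steps.fwd (nat_lit 24576) (Steps.bwd (nat_lit 1) (Steps.fwd (nat_lit 24576) (Steps.fwd (nat_lit 8192) (Steps.fwd (nat_lit 16384) (Steps.fwd (nat_lit 8192) (Steps.bwd (nat_lit 3) (Steps.bwd (nat_lit 1) (Steps.fwd (nat_lit 32768) (Steps.bwd (nat_lit 2) (Steps.fwd (nat_lit 155648) Steps.nil)))))))))))) (nat_lit 194) (nat_lit 1),
  Rule.mk (nat_lit 0) (nat_lit 194) (Steps.bwd (nat_lit 15) (Steps.bwd (nat_lit 3) (Steps.bwd (nat_lit 1) (Steps.bwd (nat_lit 4) (Steps.bwd (nat_lit 3) (Steps.fwd (nat_lit 8192) (Steps.fwd (nat_lit 24576) (Steps.bwd (nat_lit 1) (Steps.bwd (nat_lit 2) (Steps.bwd (nat_lit 1) (Steps.bwd (nat_lit 2) (Steps.fwd (nat_lit 8192) Steps.nil)))))))))))) (nat_lit 191) (nat_lit 11),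
  Rule.mk (nat_lit 17) (nat_lit 179) (Steps.bwd (nat_lit 2) (Steps.bwd (nat_lit 1) (Steps.bwd (nat_lit 2) (Steps.fwd (nat_lit 8192) (Steps.bwd (nat_lit 3) (Steps.bwd (nat_lit 1) (Steps.fwd (nat_lit 16384) (Steps.bwd (nat_lit 1) (Steps.bwd (nat_lit 4) (Steps.bwd (nat_lit 2) (Steps.fwd (nat_lit 8192) Steps.nil))))))))))) (nat_lit 193) (nat_lit 0),
  Rule.mk (nat_lit 20) (nat_lit 179) (Steps.bwd (nat_lit 1) (Steps.bwd (nat_lit 2) (Steps.bwd (nat_lit 1) (Steps.bwd (nat_lit 2) (Steps.fwd (nat_lit 8192) (Steps.bwd (nat_lit 3) (Steps.bwd (nat_lit 1) (Steps.fwd (nat_lit 16384) (Steps.bwd (nat_lit 1) (Steps.bwd (nat_lit 4) (Steps.bwd (nat_lit 2) Steps.nil))))))))))) (nat_lit 194) (nat_lit 1),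
  Rule.mk (nat_lit 2) (nat_lit 104) (Steps.bwd (nat_lit 10) (Steps.bwd (nat_lit 3) (Steps.fwd (nat_lit 49152) (Steps.bwd (nat_lit 11) (Steps.fwd (nat_lit 98304) (Steps.bwd (nat_lit 14) Steps.nil)))))) (nat_lit 180) (nat_lit 1)]
noncomputable def R_45 : List (Rule) := [Rule.mk (nat_lit 1) (nat_lit 134) (Steps.bwd (nat_lit 10) (Steps.fwd (nat_lit 8192) (Steps.bwd (nat_lit 4) (Steps.fwd (nat_lit 40960) (Steps.fwd (nat_lit 65536) (Steps.bwd (nat_lit 9) (Steps.fwd (nat_lit 90112) (Steps.fwd (nat_lit 114688) Steps.nil)))))))) (nat_lit 158) (nat_lit 1),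
  Rule.mk (nat_lit 18) (nat_lit 179) (Steps.fwd (nat_lit 8192) (Steps.bwd (nat_lit 3) (Steps.bwd (nat_lit 4) (Steps.fwd (nat_lit 8192) (Steps.bwd (nat_lit 2) (Steps.fwd (nat_lit 8192) (Steps.fwd (nat_lit 24576) (Steps.bwd (nat_lit 1) (Steps.fwd (nat_lit 16384) (Steps.bwd (nat_lit 1) (Steps.bwd (nat_lit 3) Steps.nil))))))))))) (nat_lit 192) (nat_lit 1),
  Rule.mk (nat_lit 0) (nat_lit 194) (Steps.bwd (nat_lit 1) (Steps.fwd (nat_lit 16384) (Steps.fwd (nat_lit 32768) (Steps.bwd (nat_lit 1) (Steps.fwd (nat_lit 24576) (Steps.fwd (nat_lit 8192) (Steps.bwd (nat_lit 2) (Steps.bwd (nat_lit 1) (Steps.fwd (nat_lit 16384) (Steps.bwd (nat_lit 1) (Steps.fwd (nat_lit 16384) (Steps.fwd (nat_lit 139264) Steps.nil)))))))))))) (nat_lit 192) (nat_lit 1),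
  Rule.mk (nat_lit 17) (nat_lit 179) (Steps.bwd (nat_lit 2) (Steps.fwd (nat_lit 8192) (Steps.bwd (nat_lit 2) (Steps.fwd (nat_lit 8192) (Steps.fwd (nat_lit 16384) (Steps.bwd (nat_lit 1) (Steps.bwd (nat_lit 3) (Steps.fwd (nat_lit 8192) (Steps.bwd (nat_lit 4) (Steps.fwd (nat_lit 24576) (Steps.bwd (nat_lit 1) Steps.nil))))))))))) (nat_lit 193) (nat_lit 0),
  Rule.mk (nat_lit 20) (nat_lit 179) (Steps.fwd (nat_lit 8192) (Steps.bwd (nat_lit 2) (Steps.fwd (nat_lit 8192) (Steps.bwd (nat_lit 2) (Steps.fwd (nat_lit 8192) (Steps.fwd (nat_lit 16384) (Steps.bwd (nat_lit 1) (Steps.bwd (nat_lit 3) (Steps.fwd (nat_lit 8192) (Steps.bwd (nat_lit 4) (Steps.fwd (nat_lit 24576) Steps.nil))))))))))) (nat_lit 194) (nat_lit 1),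
  Rule.mk (nat_lit 19) (nat_lit 179) (Steps.bwd (nat_lit 3) (Steps.bwd (nat_lit 4) (Steps.fwd (nat_lit 8192) (Steps.bwd (nat_lit 2) (Steps.fwd (nat_lit 8192) (Steps.bwd (nat_lit 2) (Steps.fwd (nat_lit 8192) (Steps.fwd (nat_lit 16384) (Steps.bwd (nat_lit 1) (Steps.bwd (nat_lit 3) (Steps.fwd (nat_lit 8192) Steps.nil))))))))))) (nat_lit 195) (nat_lit 0),
  Rule.mk (nat_lit 20) (nat_lit 179) (Steps.bwd (nat_lit 1) (Steps.bwd (nat_lit 2) (Steps.fwd (nat_lit 8192) (Steps.bwd (nat_lit 2) (Steps.fwd (nat_lit 8192) (Steps.fwd (nat_lit 16384) (Steps.bwd (nat_lit 1) (Steps.bwd (nat_lit 3) (Steps.fwd (nat_lit 8192) (Steps.bwd (nat_lit 4) (Steps.bwd (nat_lit 2) Steps.nil))))))))))) (nat_lit 194) (nat_lit 1),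
  Rule.mk (nat_lit 15) (nat_lit 179) (Steps.bwd (nat_lit 3) (Steps.fwd (nat_lit 8192) (Steps.fwd (nat_lit 32768) (Steps.bwd (nat_lit 3) (Steps.fwd (nat_lit 8192) (Steps.bwd (nat_lit 2) (Steps.fwd (nat_lit 8192) (Steps.bwd (nat_lit 2) (Steps.fwd (nat_lit 8192) (Steps.bwd (nat_lit 2) (Steps.fwd (nat_lit 8192) Steps.nil))))))))))) (nat_lit 191) (nat_lit 0),
  Rule.mk (nat_lit 3) (nat_lit 179) (Steps.bwd (nat_lit 18) (Steps.fwd (nat_lit 8192) (Steps.fwd (nat_lit 16384) (Steps.fwd (nat_lit 32768) (Steps.fwd (nat_lit 8192) (Steps.bwd (nat_lit 2) (Steps.fwd (nat_lit 8192) (Steps.fwd (nat_lit 24576) (Steps.bwd (nat_lit 1) (Steps.bwd (nat_lit 3) (Steps.fwd (nat_lit 8192) Steps.nil))))))))))) (nat_lit 192) (nat_lit 0),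
  Rule.mk (nat_lit 1) (nat_lit 179) (Steps.bwd (nat_lit 19) (Steps.fwd (nat_lit 16384) (Steps.fwd (nat_lit 32768) (Steps.fwd (nat_lit 8192) (Steps.bwd (nat_lit 2) (Steps.fwd (nat_lit 8192) (Steps.fwd (nat_lit 24576) (Steps.bwd (nat_lit 1) (Steps.bwd (nat_lit 3) (Steps.fwd (nat_lit 8192) (Steps.bwd (nat_lit 3) Steps.nil))))))))))) (nat_lit 195) (nat_lit 11),
  Rule.mk (nat_lit 12) (nat_lit 104) (Steps.bwd (nat_lit 3) (Steps.fwd (nat_lit 73728) (Steps.bwd (nat_lit 8) (Steps.fwd (nat_lit 40960) (Steps.fwd (nat_lit 32768) (Steps.fwd (nat_lit 24576) Steps.nil)))))) (nat_lit 185) (nat_lit 6),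
  Rule.mk (nat_lit 9) (nat_lit 134) (Steps.bwd (nat_lit 3) (Steps.bwd (nat_lit 14) (Steps.bwd (nat_lit 11) (Steps.bwd (nat_lit 9) (Steps.bwd (nat_lit 8) (Steps.fwd (nat_lit 40960) (Steps.fwd (nat_lit 32768) (Steps.bwd (nat_lit 2) Steps.nil)))))))) (nat_lit 179) (nat_lit 8),
  Rule.mk (nat_lit 6) (nat_lit 104) (Steps.fwd (nat_lit 8192) (Steps.bwd (nat_lit 11) (Steps.fwd (nat_lit 8192) (Steps.bwd (nat_lit 14) (Steps.bwd (nat_lit 12) (Steps.fwd (nat_lit 90112) Steps.nil)))))) (nat_lit 161) (nat_lit 4),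
  Rule.mk (nat_lit 2) (nat_lit 104) (Steps.bwd (nat_lit 10) (Steps.fwd (nat_lit 16384) (Steps.bwd (nat_lit 14) (Steps.bwd (nat_lit 12) (Steps.fwd (nat_lit 90112) (Steps.bwd (nat_lit 6) Steps.nil)))))) (nat_lit 181) (nat_lit 5),
  Rule.mk (nat_lit 1) (nat_lit 179) (Steps.bwd (nat_lit 15) (Steps.fwd (nat_lit 16384) (Steps.fwd (nat_lit 8192) (Steps.fwd (nat_lit 32768) (Steps.bwd (nat_lit 3) (Steps.fwd (nat_lit 8192) (Steps.fwd (nat_lit 24576) (Steps.fwd (nat_lit 8192) (Steps.fwd (nat_lit 24576) (Steps.bwd (nat_lit 1) (Steps.bwd (nat_lit 2) Steps.nil))))))))))) (nat_lit 191) (nat_lit 11),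
  Rule.mk (nat_lit 3) (nat_lit 539) (Steps.fwd (nat_lit 8192) (Steps.fwd (nat_lit 16384) (Steps.fwd (nat_lit 8192) (Steps.fwd (nat_lit 24576) (Steps.bwd (nat_lit 1) (Steps.bwd (nat_lit 3) (Steps.fwd (nat_lit 8192) (Steps.bwd (nat_lit 3) (Steps.bwd (nat_lit 1) (Steps.fwd (nat_lit 24576) (Steps.fwd (nat_lit 8192) (Steps.bwd (nat_lit 3) (Steps.bwd (nat_lit 1) (Steps.bwd (nat_lit 3) (Steps.bwd (nat_lit 1) (Steps.fwd (nat_lit 24576) (Steps.bwd (nat_lit 1) (Steps.bwd (nat_lit 2) (Steps.fwd (nat_lit 8192) (Steps.bwd (nat_lit 3) (Steps.fwd (nat_lit 8192) (Steps.fwd (nat_lit 24576) (Steps.fwd (nat_lit 8192) (Steps.fwd (nat_lit 24576) (Steps.bwd (nat_lit 1) (Steps.bwd (nat_lit 3) (Steps.fwd (nat_lit 8192) (Steps.fwd (nat_lit 24576) (Steps.bwd (nat_lit 1) (Steps.fwd (nat_lit 24576) (Steps.fwd (nat_lit 8192) (Steps.bwd (nat_lit 3) (Steps.bwd (nat_lit 1) (Steps.bwd (nat_lit 2) (Steps.bwd (nat_lit 1)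 Steps.nil))))))))))))))))))))))))))))))))))) (nat_lit 12) (nat_lit 22),
  Rule.mk (nat_lit 16) (nat_lit 179) (Steps.bwd (nat_lit 1) (Steps.fwd (nat_lit 16384) (Steps.fwd (nat_lit 8192) (Steps.fwd (nat_lit 16384) (Steps.bwd (nat_lit 1) (Steps.bwd (nat_lit 3) (Steps.fwd (nat_lit 8192) (Steps.bwd (nat_lit 2) (Steps.bwd (nat_lit 4) (Steps.bwd (nat_lit 1) (Steps.bwd (nat_lit 2) Steps.nil))))))))))) (nat_lit 190) (nat_lit 1),
  Rule.mk (nat_lit 16) (nat_lit 179) (Steps.bwd (nat_lit 1) (Steps.bwd (nat_lit 3) (Steps.fwd (nat_lit 8192) (Steps.fwd (nat_lit 16384) (Steps.fwd (nat_lit 8192) (Steps.bwd (nat_lit 3) (Steps.bwd (nat_lit 1) (Steps.bwd (nat_lit 2) (Steps.fwd (nat_lit 32768) (Steps.bwd (nat_lit 1) (Steps.fwd (nat_lit 24576) Steps.nil))))))))))) (nat_lit 190) (nat_lit 1),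
  Rule.mk (nat_lit 18) (nat_lit 179) (Steps.fwd (nat_lit 8192) (Steps.fwd (nat_lit 16384) (Steps.bwd (nat_lit 4) (Steps.fwd (nat_lit 8192) (Steps.fwd (nat_lit 24576) (Steps.bwd (nat_lit 1) (Steps.bwd (nat_lit 2) (Steps.bwd (nat_lit 1) (Steps.bwd (nat_lit 3) (Steps.fwd (nat_lit 8192) (Steps.fwd (nat_lit 16384) Steps.nil))))))))))) (nat_lit 192) (nat_lit 1),
  Rule.mk (nat_lit 19) (nat_lit 179) (Steps.fwd (nat_lit 16384) (Steps.bwd (nat_lit 4) (Steps.fwd (nat_lit 8192) (Steps.fwd (nat_lit 24576) (Steps.bwd (nat_lit 1) (Steps.bwd (nat_lit 2) (Steps.bwd (nat_lit 1) (Steps.bwd (nat_lit 3) (Steps.fwd (nat_lit 8192) (Steps.fwd (nat_lit 16384) (Steps.fwd (nat_lit 8192) Steps.nil))))))))))) (nat_lit 195) (nat_lit 0),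
  Rule.mk (nat_lit 8) (nat_lit 104) (Steps.fwd (nat_lit 8192) (Steps.fwd (nat_lit 40960) (Steps.bwd (nat_lit 7) (Steps.fwd (nat_lit 106496) (Steps.bwd (nat_lit 14) (Steps.bwd (nat_lit 1) Steps.nil)))))) (nat_lit 154) (nat_lit 2),
  Rule.mk (nat_lit 6) (nat_lit 104) (Steps.bwd (nat_lit 11) (Steps.bwd (nat_lit 12) (Steps.bwd (nat_lit 14) (Steps.bwd (nat_lit 1) (Steps.fwd (nat_lit 90112) (Steps.bwd (nat_lit 1) Steps.nil)))))) (nat_lit 160) (nat_lit 4),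
  Rule.mk (nat_lit 11) (nat_lit 104) (Steps.fwd (nat_lit 8192) (Steps.fwd (nat_lit 49152) (Steps.fwd (nat_lit 90112) (Steps.fwd (nat_lit 98304) (Steps.bwd (nat_lit 14) (Steps.bwd (nat_lit 1) Steps.nil)))))) (nat_lit 160) (nat_lit 2),
  Rule.mk (nat_lit 12) (nat_lit 164) (Steps.bwd (nat_lit 1) (Steps.fwd (nat_lit 32768) (Steps.bwd (nat_lit 5) (Steps.bwd (nat_lit 8) (Steps.fwd (nat_lit 73728) (Steps.bwd (nat_lit 10) (Steps.fwd (nat_lit 90112) (Steps.fwd (nat_lit 98304) (Steps.bwd (nat_lit 14) (Steps.bwd (nat_lit 1) Steps.nil)))))))))) (nat_lit 162) (nat_lit 2),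
  Rule.mk (nat_lit 17) (nat_lit 179) (Steps.fwd (nat_lit 24576) (Steps.fwd (nat_lit 8192) (Steps.bwd (nat_lit 2) (Steps.fwd (nat_lit 8192) (Steps.bwd (nat_lit 3) (Steps.bwd (nat_lit 1) (Steps.bwd (nat_lit 3) (Steps.bwd (nat_lit 1) (Steps.fwd (nat_lit 32768) (Steps.bwd (nat_lit 2) (Steps.fwd (nat_lit 8192) Steps.nil))))))))))) (nat_lit 193) (nat_lit 0),
  Rule.mk (nat_lit 17) (nat_lit 179) (Steps.bwd (nat_lit 2) (Steps.fwd (nat_lit 8192) (Steps.fwd (nat_lit 24576) (Steps.bwd (nat_lit 1) (Steps.bwd (nat_lit 3) (Steps.fwd (nat_lit 8192) (Steps.bwd (nat_lit 3) (Steps.bwd (nat_lit 1) (Steps.fwd (nat_lit 32768) (Steps.fwd (nat_lit 24576) (Steps.fwd (nat_lit 8192) Steps.nil))))))))))) (nat_lit 193) (nat_lit 0),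
  Rule.mk (nat_lit 20) (nat_lit 179) (Steps.bwd (nat_lit 1) (Steps.fwd (nat_lit 24576) (Steps.fwd (nat_lit 8192) (Steps.bwd (nat_lit 2) (Steps.fwd (nat_lit 8192) (Steps.bwd (nat_lit 3) (Steps.bwd (nat_lit 1) (Steps.bwd (nat_lit 3) (Steps.bwd (nat_lit 1) (Steps.fwd (nat_lit 32768) (Steps.bwd (nat_lit 2) Steps.nil))))))))))) (nat_lit 194) (nat_lit 1),
  Rule.mk (nat_lit 0) (nat_lit 194) (Steps.bwd (nat_lit 19) (Steps.bwd (nat_lit 3) (Steps.bwd (nat_lit 4) (Steps.fwd (nat_lit 8192) (Steps.fwd (nat_lit 24576) (Steps.bwd (nat_lit 1) (Steps.fwd (nat_lit 24576) (Steps.fwd (nat_lit 8192) (Steps.bwd (nat_lit 3) (Steps.bwd (nat_lit 1) (Steps.fwd (nat_lit 16384) (Steps.bwd (nat_lit 1) Steps.nil)))))))))))) (nat_lit 195) (nat_lit 11),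
  Rule.mk (nat_lit 19) (nat_lit 179) (Steps.bwd (nat_lit 3) (Steps.fwd (nat_lit 32768) (Steps.fwd (nat_lit 8192) (Steps.bwd (nat_lit 2) (Steps.fwd (nat_lit 8192) (Steps.fwd (nat_lit 24576) (Steps.bwd (nat_lit 1) (Steps.bwd (nat_lit 3) (Steps.fwd (nat_lit 8192) (Steps.bwd (nat_lit 3) (Steps.bwd (nat_lit 1) Steps.nil))))))))))) (nat_lit 195) (nat_lit 0),
  Rule.mk (nat_lit 3) (nat_lit 104) (Steps.bwd (nat_lit 6) (Steps.bwd (nat_lit 11) (Steps.bwd (nat_lit 12) (Steps.fwd (nat_lit 114688) (Steps.bwd (nat_lit 2) (Steps.bwd (nat_lit 10) Steps.nil)))))) (nat_lit 180) (nat_lit 3),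
  Rule.mk (nat_lit 0) (nat_lit 194) (Steps.bwd (nat_lit 16) (Steps.fwd (nat_lit 8192) (Steps.bwd (nat_lit 3) (Steps.fwd (nat_lit 8192) (Steps.fwd (nat_lit 16384) (Steps.bwd (nat_lit 1) (Steps.fwd (nat_lit 16384) (Steps.bwd (nat_lit 1) (Steps.fwd (nat_lit 24576) (Steps.fwd (nat_lit 32768) (Steps.bwd (nat_lit 1) (Steps.bwd (nat_lit 2) Steps.nil)))))))))))) (nat_lit 190) (nat_lit 0),
  Rule.mk (nat_lit 15) (nat_lit 179) (Steps.bwd (nat_lit 3) (Steps.fwd (nat_lit 8192) (Steps.bwd (nat_lit 4) (Steps.bwd (nat_lit 3) (Steps.bwd (nat_lit 1) (Steps.fwd (nat_lit 24576) (Steps.fwd (nat_lit 8192) (Steps.fwd (nat_lit 24576) (Steps.fwd (nat_lit 8192) (Steps.fwd (nat_lit 24576) (Steps.bwd (nat_lit 1) Steps.nil))))))))))) (nat_lit 191) (nat_lit 0),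
  Rule.mk (nat_lit 17) (nat_lit 179) (Steps.bwd (nat_lit 2) (Steps.fwd (nat_lit 8192) (Steps.fwd (nat_lit 24576) (Steps.bwd (nat_lit 1) (Steps.bwd (nat_lit 3) (Steps.fwd (nat_lit 8192) (Steps.fwd (nat_lit 16384) (Steps.fwd (nat_lit 8192) (Steps.fwd (nat_lit 32768) (Steps.bwd (nat_lit 2) (Steps.bwd (nat_lit 1) Steps.nil))))))))))) (nat_lit 193) (nat_lit 0),
  Rule.mk (nat_lit 18) (nat_lit 179) (Steps.fwd (nat_lit 8192) (Steps.bwd (nat_lit 3) (Steps.fwd (nat_lit 32768) (Steps.bwd (nat_lit 1) (Steps.bwd (nat_lit 2) (Steps.bwd (nat_lit 1) (Steps.fwd (nat_lit 24576) (Steps.fwd (nat_lit 8192) (Steps.fwd (nat_lit 16384) (Steps.fwd (nat_lit 8192) (Steps.bwd (nat_lit 3) Steps.nil))))))))))) (nat_lit 192) (nat_lit 1),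
  Rule.mk (nat_lit 19) (nat_lit 179) (Steps.bwd (nat_lit 3) (Steps.fwd (nat_lit 32768) (Steps.bwd (nat_lit 1) (Steps.bwd (nat_lit 2) (Steps.bwd (nat_lit 1) (Steps.fwd (nat_lit 24576) (Steps.fwd (nat_lit 8192) (Steps.fwd (nat_lit 16384) (Steps.fwd (nat_lit 8192) (Steps.bwd (nat_lit 3) (Steps.bwd (nat_lit 1) Steps.nil))))))))))) (nat_lit 195) (nat_lit 0),
  Rule.mk (nat_lit 6) (nat_lit 104) (Steps.fwd (nat_lit 8192) (Steps.bwd (nat_lit 11) (Steps.fwd (nat_lit 8192) (Steps.bwd (nat_lit 14) (Steps.fwd (nat_lit 98304) (Steps.fwd (nat_lit 90112) Steps.nil)))))) (nat_lit 161) (nat_lit 4),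
  Rule.mk (nat_lit 3) (nat_lit 104) (Steps.bwd (nat_lit 6) (Steps.bwd (nat_lit 11) (Steps.bwd (nat_lit 12) (Steps.fwd (nat_lit 114688) (Steps.bwd (nat_lit 2) (Steps.fwd (nat_lit 81920) Steps.nil)))))) (nat_lit 180) (nat_lit 3),
  Rule.mk (nat_lit 1) (nat_lit 179) (Steps.bwd (nat_lit 15) (Steps.bwd (nat_lit 3) (Steps.fwd (nat_lit 8192) (Steps.bwd (nat_lit 4) (Steps.bwd (nat_lit 3) (Steps.fwd (nat_lit 8192) (Steps.fwd (nat_lit 24576) (Steps.fwd (nat_lit 8192) (Steps.fwd (nat_lit 24576) (Steps.bwd (nat_lit 1) (Steps.bwd (nat_lit 2) Steps.nil))))))))))) (nat_lit 191) (nat_lit 11),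
  Rule.mk (nat_lit 9) (nat_lit 89) (Steps.fwd (nat_lit 8192) (Steps.fwd (nat_lit 32768) (Steps.fwd (nat_lit 57344) (Steps.bwd (nat_lit 14) (Steps.bwd (nat_lit 1) Steps.nil))))) (nat_lit 156) (nat_lit 2),
  Rule.mk (nat_lit 3) (nat_lit 539) (Steps.bwd (nat_lit 1) (Steps.fwd (nat_lit 24576) (Steps.bwd (nat_lit 1) (Steps.fwd (nat_lit 16384) (Steps.fwd (nat_lit 8192) (Steps.bwd (nat_lit 3) (Steps.bwd (nat_lit 1) (Steps.fwd (nat_lit 24576) (Steps.bwd (nat_lit 1) (Steps.fwd (nat_lit 16384) (Steps.fwd (nat_lit 8192) (Steps.bwd (nat_lit 3) (Steps.fwd (nat_lit 8192) (Steps.fwd (nat_lit 24576) (Steps.bwd (nat_lit 1) (Steps.fwd (nat_lit 16384) (Steps.fwd (nat_lit 8192) (Steps.bwd (nat_lit 3) (Steps.fwd (nat_lit 8192) (Steps.fwd (nat_lit 24576) (Steps.bwd (nat_lit 1) (Steps.fwd (nat_lit 24576) (Steps.bwd (nat_lit 1) (Steps.fwd (nat_lit 16384) (Steps.fwd (nat_lit 8192) (Steps.fwd (nat_lit 24576) (Steps.bwd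 (nat_lit 1) (Steps.fwd (nat_lit 24576) (Steps.fwd (nat_lit 8192) (Steps.bwd (nat_lit 3) (Steps.fwd (nat_lit 8192) (Steps.fwd (nat_lit 24576) (Steps.bwd (nat_lit 1) (Steps.bwd (nat_lit 2) (Steps.bwd (nat_lit 1) Steps.nil))))))))))))))))))))))))))))))))))) (nat_lit 12) (nat_lit 18),
  Rule.mk (nat_lit 3) (nat_lit 179) (Steps.bwd (nat_lit 1) (Steps.bwd (nat_lit 4) (Steps.bwd (nat_lit 3) (Steps.fwd (nat_lit 8192) (Steps.fwd (nat_lit 24576) (Steps.fwd (nat_lit 8192) (Steps.fwd (nat_lit 24576) (Steps.fwd (nat_lit 8192) (Steps.bwd (nat_lit 2) (Steps.bwd (nat_lit 1) (Steps.fwd (nat_lit 131072) Steps.nil))))))))))) (nat_lit 191) (nat_lit 1),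
  Rule.mk (nat_lit 18) (nat_lit 179) (Steps.bwd (nat_lit 1) (Steps.fwd (nat_lit 16384) (Steps.bwd (nat_lit 4) (Steps.fwd (nat_lit 8192) (Steps.fwd (nat_lit 24576) (Steps.fwd (nat_lit 8192) (Steps.fwd (nat_lit 24576) (Steps.fwd (nat_lit 8192) (Steps.fwd (nat_lit 16384) (Steps.fwd (nat_lit 8192) (Steps.bwd (nat_lit 3) Steps.nil))))))))))) (nat_lit 192) (nat_lit 1),
  Rule.mk (nat_lit 17) (nat_lit 179) (Steps.fwd (nat_lit 24576) (Steps.fwd (nat_lit 8192) (Steps.bwd (nat_lit 2) (Steps.bwd (nat_lit 1) (Steps.fwd (nat_lit 16384) (Steps.bwd (nat_lit 1) (Steps.fwd (nat_lit 16384) (Steps.bwd (nat_lit 1) (Steps.bwd (nat_lit 4) (Steps.fwd (nat_lit 24576) (Steps.bwd (nat_lit 1) Steps.nil))))))))))) (nat_lit 193) (nat_lit 0),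
  Rule.mk (nat_lit 2) (nat_lit 179) (Steps.bwd (nat_lit 20) (Steps.fwd (nat_lit 8192) (Steps.fwd (nat_lit 24576) (Steps.fwd (nat_lit 8192) (Steps.fwd (nat_lit 24576) (Steps.fwd (nat_lit 8192) (Steps.fwd (nat_lit 16384) (Steps.fwd (nat_lit 8192) (Steps.bwd (nat_lit 3) (Steps.bwd (nat_lit 1) (Steps.bwd (nat_lit 4) Steps.nil))))))))))) (nat_lit 194) (nat_lit 0),
  Rule.mk (nat_lit 20) (nat_lit 179) (Steps.fwd (nat_lit 8192) (Steps.fwd (nat_lit 24576) (Steps.fwd (nat_lit 8192) (Steps.bwd (nat_lit 2) (Steps.bwd (nat_lit 1) (Steps.fwd (nat_lit 16384) (Steps.bwd (nat_lit 1) (Steps.fwd (nat_lit 16384) (Steps.bwd (nat_lit 1) (Steps.bwd (nat_lit 4) (Steps.fwd (nat_lit 24576) Steps.nil))))))))))) (nat_lit 194) (nat_lit 1),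
  Rule.mk (nat_lit 0) (nat_lit 194) (Steps.bwd (nat_lit 19) (Steps.fwd (nat_lit 16384) (Steps.bwd (nat_lit 4) (Steps.fwd (nat_lit 8192) (Steps.fwd (nat_lit 24576) (Steps.fwd (nat_lit 8192) (Steps.fwd (nat_lit 24576) (Steps.fwd (nat_lit 8192) (Steps.fwd (nat_lit 16384) (Steps.fwd (nat_lit 8192) (Steps.bwd (nat_lit 3) (Steps.bwd (nat_lit 1) Steps.nil)))))))))))) (nat_lit 195) (nat_lit 11),
  Rule.mk (nat_lit 19) (nat_lit 179) (Steps.fwd (nat_lit 16384) (Steps.fwd (nat_lit 32768) (Steps.fwd (nat_lit 8192) (Steps.fwd (nat_lit 24576) (Steps.fwd (nat_lit 8192) (Steps.bwd (nat_lit 2) (Steps.bwd (nat_lit 1) (Steps.fwd (nat_lit 16384) (Steps.bwd (nat_lit 1) (Steps.fwd (nat_lit 16384) (Steps.bwd (nat_lit 1) Steps.nil))))))))))) (nat_lit 195) (nat_lit 0),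
  Rule.mk (nat_lit 14) (nat_lit 119) (Steps.fwd (nat_lit 16384) (Steps.fwd (nat_lit 114688) (Steps.fwd (nat_lit 98304) (Steps.bwd (nat_lit 7) (Steps.fwd (nat_lit 49152) (Steps.bwd (nat_lit 5) (Steps.bwd (nat_lit 2) Steps.nil))))))) (nat_lit 189) (nat_lit 7),
  Rule.mk (nat_lit 9) (nat_lit 134) (Steps.bwd (nat_lit 3) (Steps.bwd (nat_lit 4) (Steps.bwd (nat_lit 5) (Steps.fwd (nat_lit 65536) (Steps.fwd (nat_lit 73728) (Steps.fwd (nat_lit 90112) (Steps.bwd (nat_lit 14) (Steps.bwd (nat_lit 2) Steps.nil)))))))) (nat_lit 178) (nat_lit 2),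
  Rule.mk (nat_lit 13) (nat_lit 134) (Steps.fwd (nat_lit 16384) (Steps.bwd (nat_lit 6) (Steps.fwd (nat_lit 81920) (Steps.bwd (nat_lit 11) (Steps.bwd (nat_lit 12) (Steps.fwd (nat_lit 106496) (Steps.bwd (nat_lit 14) (Steps.bwd (nat_lit 2) Steps.nil)))))))) (nat_lit 186) (nat_lit 2),
  Rule.mk (nat_lit 11) (nat_lit 164) (Steps.fwd (nat_lit 16384) (Steps.fwd (nat_lit 32768) (Steps.fwd (nat_lit 40960) (Steps.bwd (nat_lit 8) (Steps.bwd (nat_lit 9) (Steps.fwd (nat_lit 81920) (Steps.fwd (nat_lit 90112) (Steps.fwd (nat_lit 98304) (Steps.bwd (nat_lit 14) (Steps.bwd (nat_lit 2) Steps.nil)))))))))) (nat_lit 182) (nat_lit 2),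
  Rule.mk (nat_lit 16) (nat_lit 179) (Steps.bwd (nat_lit 1) (Steps.fwd (nat_lit 16384) (Steps.bwd (nat_lit 1) (Steps.fwd (nat_lit 16384) (Steps.bwd (nat_lit 1) (Steps.fwd (nat_lit 16384) (Steps.bwd (nat_lit 1) (Steps.fwd (nat_lit 24576) (Steps.bwd (nat_lit 4) (Steps.bwd (nat_lit 1) (Steps.bwd (nat_lit 2) Steps.nil))))))))))) (nat_lit 190) (nat_lit 1),
  Rule.mk (nat_lit 6) (nat_lit 104) (Steps.bwd (nat_lit 11) (Steps.fwd (nat_lit 98304) (Steps.bwd (nat_lit 14) (Steps.fwd (nat_lit 8192) (Steps.bwd (nat_lit 11) (Steps.fwd (nat_lit 8192) Steps.nil)))))) (nat_lit 160) (nat_lit 4),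
  Rule.mk (nat_lit 16) (nat_lit 179) (Steps.bwd (nat_lit 1) (Steps.bwd (nat_lit 3) (Steps.bwd (nat_lit 1) (Steps.fwd (nat_lit 16384) (Steps.fwd (nat_lit 8192) (Steps.bwd (nat_lit 3) (Steps.bwd (nat_lit 1) (Steps.bwd (nat_lit 2) (Steps.fwd (nat_lit 32768) (Steps.bwd (nat_lit 1) (Steps.fwd (nat_lit 24576) Steps.nil))))))))))) (nat_lit 190) (nat_lit 1),
  Rule.mk (nat_lit 16) (nat_lit 179) (Steps.bwd (nat_lit 1) (Steps.fwd (nat_lit 16384) (Steps.fwd (nat_lit 8192) (Steps.bwd (nat_lit 3) (Steps.bwd (nat_lit 1) (Steps.fwd (nat_lit 16384) (Steps.fwd (nat_lit 8192) (Steps.bwd (nat_lit 2) (Steps.fwd (nat_lit 32768) (Steps.fwd (nat_lit 8192) (Steps.fwd (nat_lit 24576) Steps.nil))))))))))) (nat_lit 190) (nat_lit 1),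
  Rule.mk (nat_lit 18) (nat_lit 179) (Steps.fwd (nat_lit 8192) (Steps.fwd (nat_lit 16384) (Steps.fwd (nat_lit 32768) (Steps.fwd (nat_lit 8192) (Steps.fwd (nat_lit 24576) (Steps.bwd (nat_lit 1) (Steps.fwd (nat_lit 24576) (Steps.bwd (nat_lit 1) (Steps.bwd (nat_lit 3) (Steps.bwd (nat_lit 1) (Steps.fwd (nat_lit 16384) Steps.nil))))))))))) (nat_lit 192) (nat_lit 1),
  Rule.mk (nat_lit 18) (nat_lit 179) (Steps.bwd (nat_lit 1) (Steps.fwd (nat_lit 16384) (Steps.fwd (nat_lit 32768) (Steps.fwd (nat_lit 8192) (Steps.fwd (nat_lit 24576) (Steps.bwd (nat_lit 1) (Steps.bwd (nat_lit 2) (Steps.bwd (nat_lit 1) (Steps.bwd (nat_lit 3) (Steps.bwd (nat_lit 1) (Steps.bwd (nat_lit 3) Steps.nil))))))))))) (nat_lit 192) (nat_lit 1),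
  Rule.mk (nat_lit 20) (nat_lit 179) (Steps.fwd (nat_lit 8192) (Steps.fwd (nat_lit 24576) (Steps.bwd (nat_lit 1) (Steps.fwd (nat_lit 24576) (Steps.bwd (nat_lit 1) (Steps.bwd (nat_lit 3) (Steps.bwd (nat_lit 1) (Steps.fwd (nat_lit 16384) (Steps.fwd (nat_lit 8192) (Steps.fwd (nat_lit 32768) (Steps.bwd (nat_lit 2) Steps.nil))))))))))) (nat_lit 194) (nat_lit 1),
  Rule.mk (nat_lit 19) (nat_lit 179) (Steps.fwd (nat_lit 16384) (Steps.fwd (nat_lit 32768) (Steps.fwd (nat_lit 8192) (Steps.fwd (nat_lit 24576) (Steps.bwd (nat_lit 1) (Steps.fwd (nat_lit 24576) (Steps.bwd (nat_lit 1) (Steps.bwd (nat_lit 3) (Steps.bwd (nat_lit 1) (Steps.fwd (nat_lit 16384) (Steps.fwd (nat_lit 8192) Steps.nil))))))))))) (nat_lit 195) (nat_lit 0),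
  Rule.mk (nat_lit 18) (nat_lit 179) (Steps.fwd (nat_lit 8192) (Steps.fwd (nat_lit 16384) (Steps.bwd (nat_lit 4) (Steps.fwd (nat_lit 8192) (Steps.bwd (nat_lit 2) (Steps.bwd (nat_lit 1) (Steps.fwd (nat_lit 24576) (Steps.bwd (nat_lit 1) (Steps.bwd (nat_lit 3) (Steps.bwd (nat_lit 1) (Steps.bwd (nat_lit 3) Steps.nil))))))))))) (nat_lit 192) (nat_lit 1),
  Rule.mk (nat_lit 10) (nat_lit 104) (Steps.bwd (nat_lit 3) (Steps.fwd (nat_lit 49152) (Steps.bwd (nat_lit 11) (Steps.bwd (nat_lit 12) (Steps.bwd (nat_lit 14) (Steps.bwd (nat_lit 2) Steps.nil)))))) (nat_lit 180) (nat_lit 2),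
  Rule.mk (nat_lit 11) (nat_lit 164) (Steps.bwd (nat_lit 3) (Steps.bwd (nat_lit 4) (Steps.bwd (nat_lit 5) (Steps.bwd (nat_lit 8) (Steps.bwd (nat_lit 9) (Steps.fwd (nat_lit 81920) (Steps.bwd (nat_lit 11) (Steps.bwd (nat_lit 12) (Steps.fwd (nat_lit 114688) (Steps.bwd (nat_lit 2) Steps.nil)))))))))) (nat_lit 182) (nat_lit 2),
  Rule.mk (nat_lit 16) (nat_lit 179) (Steps.bwd (nat_lit 1) (Steps.bwd (nat_lit 3) (Steps.bwd (nat_lit 1) (Steps.bwd (nat_lit 3) (Steps.fwd (nat_lit 8192) (Steps.fwd (nat_lit 16384) (Steps.fwd (nat_lit 8192) (Steps.bwd (nat_lit 2) (Steps.fwd (nat_lit 32768) (Steps.fwd (nat_lit 8192) (Steps.bwd (nat_lit 2) Steps.nil))))))))))) (nat_lit 190) (nat_lit 1),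
  Rule.mk (nat_lit 18) (nat_lit 179) (Steps.bwd (nat_lit 1) (Steps.bwd (nat_lit 3) (Steps.bwd (nat_lit 4) (Steps.fwd (nat_lit 8192) (Steps.bwd (nat_lit 2) (Steps.bwd (nat_lit 1) (Steps.fwd (nat_lit 24576) (Steps.bwd (nat_lit 1) (Steps.bwd (nat_lit 3) (Steps.fwd (nat_lit 8192) (Steps.fwd (nat_lit 16384) Steps.nil))))))))))) (nat_lit 192) (nat_lit 1)]
noncomputable def R_46 : List (Rule) := [Rule.mk (nat_lit 0) (nat_lit 194) (Steps.bwd (nat_lit 18) (Steps.fwd (nat_lit 8192) (Steps.bwd (nat_lit 3) (Steps.bwd (nat_lit 4) (Steps.bwd (nat_lit 1) (Steps.fwd (nat_lit 24576) (Steps.fwd (nat_lit 8192) (Steps.fwd (nat_lit 24576) (Steps.fwd (nat_lit 8192) (Steps.bwd (nat_lit 3) (Steps.fwd (nat_lit 8192) (Steps.bwd (nat_lit 3) Steps.nil)))))))))))) (nat_lit 192) (nat_lit 0),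
  Rule.mk (nat_lit 17) (nat_lit 179) (Steps.bwd (nat_lit 2) (Steps.bwd (nat_lit 1) (Steps.fwd (nat_lit 24576) (Steps.bwd (nat_lit 1) (Steps.bwd (nat_lit 3) (Steps.fwd (nat_lit 8192) (Steps.fwd (nat_lit 16384) (Steps.fwd (nat_lit 8192) (Steps.bwd (nat_lit 4) (Steps.bwd (nat_lit 2) (Steps.fwd (nat_lit 8192) Steps.nil))))))))))) (nat_lit 193) (nat_lit 0),
  Rule.mk (nat_lit 20) (nat_lit 179) (Steps.fwd (nat_lit 8192) (Steps.bwd (nat_lit 2) (Steps.bwd (nat_lit 1) (Steps.fwd (nat_lit 24576) (Steps.bwd (nat_lit 1) (Steps.bwd (nat_lit 3) (Steps.fwd (nat_lit 8192) (Steps.fwd (nat_lit 16384) (Steps.fwd (nat_lit 8192) (Steps.bwd (nat_lit 4) (Steps.bwd (nat_lit 2) Steps.nil))))))))))) (nat_lit 194) (nat_lit 1),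
  Rule.mk (nat_lit 19) (nat_lit 179) (Steps.bwd (nat_lit 3) (Steps.bwd (nat_lit 4) (Steps.fwd (nat_lit 8192) (Steps.bwd (nat_lit 2) (Steps.bwd (nat_lit 1) (Steps.fwd (nat_lit 24576) (Steps.bwd (nat_lit 1) (Steps.bwd (nat_lit 3) (Steps.fwd (nat_lit 8192) (Steps.fwd (nat_lit 16384) (Steps.fwd (nat_lit 8192) Steps.nil))))))))))) (nat_lit 195) (nat_lit 0),
  Rule.mk (nat_lit 3) (nat_lit 119) (Steps.bwd (nat_lit 5) (Steps.fwd (nat_lit 49152) (Steps.fwd (nat_lit 57344) (Steps.fwd (nat_lit 98304) (Steps.fwd (nat_lit 114688) (Steps.fwd (nat_lit 24576) (Steps.bwd (nat_lit 14) Steps.nil))))))) (nat_lit 188) (nat_lit 3),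
  Rule.mk (nat_lit 18) (nat_lit 179) (Steps.bwd (nat_lit 1) (Steps.fwd (nat_lit 16384) (Steps.bwd (nat_lit 4) (Steps.fwd (nat_lit 8192) (Steps.fwd (nat_lit 24576) (Steps.bwd (nat_lit 1) (Steps.fwd (nat_lit 24576) (Steps.bwd (nat_lit 1) (Steps.bwd (nat_lit 3) (Steps.fwd (nat_lit 8192) (Steps.fwd (nat_lit 16384) Steps.nil))))))))))) (nat_lit 192) (nat_lit 1),
  Rule.mk (nat_lit 18) (nat_lit 179) (Steps.bwd (nat_lit 1) (Steps.bwd (nat_lit 3) (Steps.fwd (nat_lit 32768) (Steps.fwd (nat_lit 8192) (Steps.bwd (nat_lit 2) (Steps.bwd (nat_lit 1) (Steps.fwd (nat_lit 24576) (Steps.fwd (nat_lit 8192) (Steps.bwd (nat_lit 3) (Steps.bwd (nat_lit 1) (Steps.fwd (nat_lit 16384) Steps.nil))))))))))) (nat_lit 192) (nat_lit 1),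
  Rule.mk (nat_lit 0) (nat_lit 194) (Steps.bwd (nat_lit 17) (Steps.fwd (nat_lit 24576) (Steps.bwd (nat_lit 1) (Steps.bwd (nat_lit 2) (Steps.bwd (nat_lit 1) (Steps.fwd (nat_lit 16384) (Steps.bwd (nat_lit 1) (Steps.bwd (nat_lit 3) (Steps.fwd (nat_lit 8192) (Steps.bwd (nat_lit 4) (Steps.bwd (nat_lit 2) (Steps.bwd (nat_lit 1) Steps.nil)))))))))))) (nat_lit 193) (nat_lit 11),
  Rule.mk (nat_lit 20) (nat_lit 179) (Steps.bwd (nat_lit 1) (Steps.fwd (nat_lit 24576) (Steps.bwd (nat_lit 1) (Steps.bwd (nat_lit 2) (Steps.bwd (nat_lit 1) (Steps.fwd (nat_lit 16384) (Steps.bwd (nat_lit 1) (Steps.bwd (nat_lit 3) (Steps.fwd (nat_lit 8192) (Steps.bwd (nat_lit 4) (Steps.bwd (nat_lit 2) Steps.nil))))))))))) (nat_lit 194) (nat_lit 1),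
  Rule.mk (nat_lit 0) (nat_lit 194) (Steps.bwd (nat_lit 19) (Steps.fwd (nat_lit 16384) (Steps.bwd (nat_lit 4) (Steps.fwd (nat_lit 8192) (Steps.fwd (nat_lit 24576) (Steps.bwd (nat_lit 1) (Steps.fwd (nat_lit 24576) (Steps.bwd (nat_lit 1) (Steps.bwd (nat_lit 3) (Steps.fwd (nat_lit 8192) (Steps.fwd (nat_lit 16384) (Steps.bwd (nat_lit 1) Steps.nil)))))))))))) (nat_lit 195) (nat_lit 11),
  Rule.mk (nat_lit 19) (nat_lit 179) (Steps.bwd (nat_lit 3) (Steps.fwd (nat_lit 32768) (Steps.fwd (nat_lit 8192) (Steps.bwd (nat_lit 2) (Steps.bwd (nat_lit 1) (Steps.fwd (nat_lit 24576) (Steps.fwd (nat_lit 8192) (Steps.bwd (nat_lit 3) (Steps.bwd (nat_lit 1) (Steps.fwd (nat_lit 16384) (Steps.fwd (nat_lit 8192) Steps.nil))))))))))) (nat_lit 195) (nat_lit 0),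
  Rule.mk (nat_lit 2) (nat_lit 179) (Steps.bwd (nat_lit 16) (Steps.fwd (nat_lit 8192) (Steps.fwd (nat_lit 16384) (Steps.bwd (nat_lit 1) (Steps.fwd (nat_lit 16384) (Steps.fwd (nat_lit 8192) (Steps.bwd (nat_lit 3) (Steps.fwd (nat_lit 8192) (Steps.bwd (nat_lit 2) (Steps.fwd (nat_lit 32768) (Steps.fwd (nat_lit 8192) Steps.nil))))))))))) (nat_lit 190) (nat_lit 0),
  Rule.mk (nat_lit 10) (nat_lit 104) (Steps.bwd (nat_lit 3) (Steps.bwd (nat_lit 6) (Steps.fwd (nat_lit 90112) (Steps.bwd (nat_lit 12) (Steps.bwd (nat_lit 14) (Steps.bwd (nat_lit 2) Steps.nil)))))) (nat_lit 180) (nat_lit 2),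
  Rule.mk (nat_lit 12) (nat_lit 104) (Steps.bwd (nat_lit 3) (Steps.bwd (nat_lit 4) (Steps.bwd (nat_lit 5) (Steps.bwd (nat_lit 8) (Steps.bwd (nat_lit 9) (Steps.bwd (nat_lit 2) Steps.nil)))))) (nat_lit 184) (nat_lit 2),
  Rule.mk (nat_lit 14) (nat_lit 119) (Steps.bwd (nat_lit 3) (Steps.bwd (nat_lit 5) (Steps.bwd (nat_lit 6) (Steps.fwd (nat_lit 57344) (Steps.bwd (nat_lit 12) (Steps.bwd (nat_lit 14) (Steps.bwd (nat_lit 2) Steps.nil))))))) (nat_lit 188) (nat_lit 2),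
  Rule.mk (nat_lit 5) (nat_lit 149) (Steps.fwd (nat_lit 16384) (Steps.bwd (nat_lit 4) (Steps.fwd (nat_lit 40960) (Steps.bwd (nat_lit 8) (Steps.bwd (nat_lit 9) (Steps.bwd (nat_lit 12) (Steps.fwd (nat_lit 106496) (Steps.bwd (nat_lit 14) (Steps.bwd (nat_lit 2) Steps.nil))))))))) (nat_lit 170) (nat_lit 2),
  Rule.mk (nat_lit 11) (nat_lit 164) (Steps.fwd (nat_lit 16384) (Steps.fwd (nat_lit 32768) (Steps.fwd (nat_lit 40960) (Steps.bwd (nat_lit 8) (Steps.fwd (nat_lit 73728) (Steps.bwd (nat_lit 10) (Steps.bwd (nat_lit 11) (Steps.bwd (nat_lit 12) (Steps.bwd (nat_lit 14) (Steps.fwd (nat_lit 24576) Steps.nil)))))))))) (nat_lit 182) (nat_lit 2),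
  Rule.mk (nat_lit 1) (nat_lit 104) (Steps.bwd (nat_lit 11) (Steps.fwd (nat_lit 8192) (Steps.fwd (nat_lit 49152) (Steps.bwd (nat_lit 11) (Steps.bwd (nat_lit 12) (Steps.fwd (nat_lit 114688) Steps.nil)))))) (nat_lit 160) (nat_lit 1),
  Rule.mk (nat_lit 8) (nat_lit 104) (Steps.bwd (nat_lit 1) (Steps.bwd (nat_lit 5) (Steps.fwd (nat_lit 57344) (Steps.fwd (nat_lit 106496) (Steps.bwd (nat_lit 14) (Steps.fwd (nat_lit 8192) Steps.nil)))))) (nat_lit 154) (nat_lit 2),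
  Rule.mk (nat_lit 14) (nat_lit 104) (Steps.bwd (nat_lit 1) (Steps.bwd (nat_lit 11) (Steps.bwd (nat_lit 1) (Steps.bwd (nat_lit 6) (Steps.bwd (nat_lit 11) (Steps.fwd (nat_lit 98304) Steps.nil)))))) (nat_lit 160) (nat_lit 0),
  Rule.mk (nat_lit 6) (nat_lit 104) (Steps.bwd (nat_lit 1) (Steps.bwd (nat_lit 11) (Steps.bwd (nat_lit 1) (Steps.fwd (nat_lit 114688) (Steps.fwd (nat_lit 98304) (Steps.fwd (nat_lit 90112) Steps.nil)))))) (nat_lit 161) (nat_lit 4),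
  Rule.mk (nat_lit 7) (nat_lit 89) (Steps.fwd (nat_lit 32768) (Steps.fwd (nat_lit 24576) (Steps.bwd (nat_lit 8) (Steps.bwd (nat_lit 3) (Steps.bwd (nat_lit 14) Steps.nil))))) (nat_lit 177) (nat_lit 2),
  Rule.mk (nat_lit 2) (nat_lit 164) (Steps.fwd (nat_lit 90112) (Steps.bwd (nat_lit 3) (Steps.bwd (nat_lit 4) (Steps.fwd (nat_lit 40960) (Steps.bwd (nat_lit 8) (Steps.bwd (nat_lit 9) (Steps.fwd (nat_lit 81920) (Steps.bwd (nat_lit 11) (Steps.fwd (nat_lit 98304) (Steps.bwd (nat_lit 14) Steps.nil)))))))))) (nat_lit 182) (nat_lit 1),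
  Rule.mk (nat_lit 16) (nat_lit 179) (Steps.fwd (nat_lit 8192) (Steps.bwd (nat_lit 3) (Steps.bwd (nat_lit 1) (Steps.fwd (nat_lit 16384) (Steps.bwd (nat_lit 1) (Steps.fwd (nat_lit 16384) (Steps.fwd (nat_lit 8192) (Steps.bwd (nat_lit 2) (Steps.bwd (nat_lit 4) (Steps.bwd (nat_lit 1) (Steps.bwd (nat_lit 2) Steps.nil))))))))))) (nat_lit 190) (nat_lit 1),
  Rule.mk (nat_lit 18) (nat_lit 179) (Steps.fwd (nat_lit 8192) (Steps.bwd (nat_lit 3) (Steps.fwd (nat_lit 32768) (Steps.fwd (nat_lit 8192) (Steps.fwd (nat_lit 24576) (Steps.bwd (nat_lit 1) (Steps.fwd (nat_lit 24576) (Steps.bwd (nat_lit 1) (Steps.bwd (nat_lit 3) (Steps.bwd (nat_lit 1) (Steps.bwd (nat_lit 3) Steps.nil))))))))))) (nat_lit 192) (nat_lit 1),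
  Rule.mk (nat_lit 17) (nat_lit 179) (Steps.fwd (nat_lit 24576) (Steps.fwd (nat_lit 8192) (Steps.bwd (nat_lit 2) (Steps.fwd (nat_lit 8192) (Steps.bwd (nat_lit 3) (Steps.bwd (nat_lit 1) (Steps.fwd (nat_lit 16384) (Steps.bwd (nat_lit 1) (Steps.fwd (nat_lit 32768) (Steps.bwd (nat_lit 2) (Steps.bwd (nat_lit 1) Steps.nil))))))))))) (nat_lit 193) (nat_lit 0),
  Rule.mk (nat_lit 19) (nat_lit 179) (Steps.bwd (nat_lit 3) (Steps.fwd (nat_lit 32768) (Steps.fwd (nat_lit 8192) (Steps.fwd (nat_lit 24576) (Steps.bwd (nat_lit 1) (Steps.fwd (nat_lit 24576) (Steps.bwd (nat_lit 1) (Steps.bwd (nat_lit 3) (Steps.bwd (nat_lit 1) (Steps.bwd (nat_lit 3) (Steps.fwd (nat_lit 8192) Steps.nil))))))))))) (nat_lit 195) (nat_lit 0),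
  Rule.mk (nat_lit 10) (nat_lit 104) (Steps.bwd (nat_lit 3) (Steps.bwd (nat_lit 14) (Steps.bwd (nat_lit 12) (Steps.bwd (nat_lit 11) (Steps.bwd (nat_lit 6) (Steps.bwd (nat_lit 2) Steps.nil)))))) (nat_lit 181) (nat_lit 6),
  Rule.mk (nat_lit 5) (nat_lit 149) (Steps.bwd (nat_lit 3) (Steps.fwd (nat_lit 32768) (Steps.bwd (nat_lit 5) (Steps.bwd (nat_lit 8) (Steps.bwd (nat_lit 9) (Steps.fwd (nat_lit 98304) (Steps.bwd (nat_lit 13) (Steps.fwd (nat_lit 114688) (Steps.fwd (nat_lit 24576) Steps.nil))))))))) (nat_lit 170) (nat_lit 2),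
  Rule.mk (nat_lit 15) (nat_lit 179) (Steps.bwd (nat_lit 3) (Steps.fwd (nat_lit 8192) (Steps.fwd (nat_lit 32768) (Steps.fwd (nat_lit 16384) (Steps.fwd (nat_lit 8192) (Steps.fwd (nat_lit 24576) (Steps.bwd (nat_lit 1) (Steps.fwd (nat_lit 24576) (Steps.bwd (nat_lit 1) (Steps.bwd (nat_lit 2) (Steps.bwd (nat_lit 1) Steps.nil))))))))))) (nat_lit 191) (nat_lit 0),
  Rule.mk (nat_lit 19) (nat_lit 179) (Steps.bwd (nat_lit 3) (Steps.fwd (nat_lit 32768) (Steps.fwd (nat_lit 8192) (Steps.fwd (nat_lit 24576) (Steps.fwd (nat_lit 8192) (Steps.bwd (nat_lit 2) (Steps.fwd (nat_lit 8192) (Steps.fwd (nat_lit 16384) (Steps.bwd (nat_lit 1) (Steps.bwd (nat_lit 3) (Steps.fwd (nat_lit 8192) Steps.nil))))))))))) (nat_lit 195) (nat_lit 0),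
  Rule.mk (nat_lit 6) (nat_lit 104) (Steps.bwd (nat_lit 11) (Steps.bwd (nat_lit 12) (Steps.fwd (nat_lit 114688) (Steps.fwd (nat_lit 24576) (Steps.fwd (nat_lit 81920) (Steps.bwd (nat_lit 3) Steps.nil)))))) (nat_lit 180) (nat_lit 4),
  Rule.mk (nat_lit 1) (nat_lit 104) (Steps.bwd (nat_lit 11) (Steps.bwd (nat_lit 1) (Steps.bwd (nat_lit 14) (Steps.fwd (nat_lit 98304) (Steps.fwd (nat_lit 90112) (Steps.bwd (nat_lit 6) Steps.nil)))))) (nat_lit 161) (nat_lit 5),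
  Rule.mk (nat_lit 3) (nat_lit 104) (Steps.fwd (nat_lit 32768) (Steps.fwd (nat_lit 40960) (Steps.bwd (nat_lit 8) (Steps.bwd (nat_lit 9) (Steps.bwd (nat_lit 2) (Steps.bwd (nat_lit 12) Steps.nil)))))) (nat_lit 184) (nat_lit 3),
  Rule.mk (nat_lit 10) (nat_lit 134) (Steps.bwd (nat_lit 1) (Steps.fwd (nat_lit 32768) (Steps.fwd (nat_lit 40960) (Steps.fwd (nat_lit 65536) (Steps.fwd (nat_lit 73728) (Steps.bwd (nat_lit 11) (Steps.bwd (nat_lit 14) (Steps.bwd (nat_lit 1) Steps.nil)))))))) (nat_lit 158) (nat_lit 2),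
  Rule.mk (nat_lit 18) (nat_lit 179) (Steps.fwd (nat_lit 8192) (Steps.bwd (nat_lit 3) (Steps.fwd (nat_lit 32768) (Steps.bwd (nat_lit 1) (Steps.fwd (nat_lit 24576) (Steps.bwd (nat_lit 1) (Steps.fwd (nat_lit 24576) (Steps.fwd (nat_lit 8192) (Steps.bwd (nat_lit 3) (Steps.bwd (nat_lit 1) (Steps.fwd (nat_lit 16384) Steps.nil))))))))))) (nat_lit 192) (nat_lit 1),
  Rule.mk (nat_lit 19) (nat_lit 179) (Steps.bwd (nat_lit 3) (Steps.fwd (nat_lit 32768) (Steps.bwd (nat_lit 1) (Steps.fwd (nat_lit 24576) (Steps.bwd (nat_lit 1) (Steps.fwd (nat_lit 24576) (Steps.fwd (nat_lit 8192) (Steps.bwd (nat_lit 3) (Steps.bwd (nat_lit 1) (Steps.fwd (nat_lit 16384) (Steps.fwd (nat_lit 8192) Steps.nil))))))))))) (nat_lit 195) (nat_lit 0),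
  Rule.mk (nat_lit 14) (nat_lit 119) (Steps.bwd (nat_lit 3) (Steps.fwd (nat_lit 40960) (Steps.bwd (nat_lit 6) (Steps.bwd (nat_lit 7) (Steps.bwd (nat_lit 12) (Steps.bwd (nat_lit 14) (Steps.fwd (nat_lit 24576) Steps.nil))))))) (nat_lit 188) (nat_lit 2),
  Rule.mk (nat_lit 12) (nat_lit 104) (Steps.bwd (nat_lit 3) (Steps.bwd (nat_lit 4) (Steps.fwd (nat_lit 40960) (Steps.fwd (nat_lit 65536) (Steps.fwd (nat_lit 73728) (Steps.fwd (nat_lit 24576) Steps.nil)))))) (nat_lit 184) (nat_lit 2),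
  Rule.mk (nat_lit 13) (nat_lit 134) (Steps.bwd (nat_lit 3) (Steps.fwd (nat_lit 114688) (Steps.bwd (nat_lit 13) (Steps.bwd (nat_lit 12) (Steps.bwd (nat_lit 11) (Steps.bwd (nat_lit 10) (Steps.bwd (nat_lit 6) (Steps.bwd (nat_lit 2) Steps.nil)))))))) (nat_lit 187) (nat_lit 8),
  Rule.mk (nat_lit 13) (nat_lit 134) (Steps.bwd (nat_lit 3) (Steps.bwd (nat_lit 6) (Steps.fwd (nat_lit 81920) (Steps.bwd (nat_lit 11) (Steps.bwd (nat_lit 12) (Steps.bwd (nat_lit 13) (Steps.bwd (nat_lit 14) (Steps.fwd (nat_lit 24576) Steps.nil)))))))) (nat_lit 186) (nat_lit 2),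
  Rule.mk (nat_lit 13) (nat_lit 134) (Steps.fwd (nat_lit 16384) (Steps.fwd (nat_lit 114688) (Steps.fwd (nat_lit 106496) (Steps.fwd (nat_lit 98304) (Steps.bwd (nat_lit 11) (Steps.fwd (nat_lit 81920) (Steps.bwd (nat_lit 6) (Steps.fwd (nat_lit 24576) Steps.nil)))))))) (nat_lit 187) (nat_lit 8),
  Rule.mk (nat_lit 12) (nat_lit 134) (Steps.bwd (nat_lit 13) (Steps.bwd (nat_lit 14) (Steps.fwd (nat_lit 24576) (Steps.fwd (nat_lit 106496) (Steps.fwd (nat_lit 16384) (Steps.bwd (nat_lit 6) (Steps.fwd (nat_lit 81920) (Steps.bwd (nat_lit 11) Steps.nil)))))))) (nat_lit 186) (nat_lit 7),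
  Rule.mk (nat_lit 20) (nat_lit 179) (Steps.bwd (nat_lit 1) (Steps.fwd (nat_lit 24576) (Steps.fwd (nat_lit 8192) (Steps.fwd (nat_lit 24576) (Steps.fwd (nat_lit 8192) (Steps.bwd (nat_lit 3) (Steps.fwd (nat_lit 8192) (Steps.fwd (nat_lit 16384) (Steps.bwd (nat_lit 1) (Steps.fwd (nat_lit 32768) (Steps.bwd (nat_lit 2) Steps.nil))))))))))) (nat_lit 194) (nat_lit 1),
  Rule.mk (nat_lit 3) (nat_lit 179) (Steps.bwd (nat_lit 4) (Steps.bwd (nat_lit 1) (Steps.fwd (nat_lit 24576) (Steps.fwd (nat_lit 8192) (Steps.fwd (nat_lit 24576) (Steps.fwd (nat_lit 8192) (Steps.bwd (nat_lit 3) (Steps.fwd (nat_lit 8192) (Steps.fwd (nat_lit 16384) (Steps.bwd (nat_lit 1) (Steps.fwd (nat_lit 163840) Steps.nil))))))))))) (nat_lit 195) (nat_lit 1),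
  Rule.mk (nat_lit 9) (nat_lit 134) (Steps.bwd (nat_lit 3) (Steps.bwd (nat_lit 4) (Steps.bwd (nat_lit 5) (Steps.bwd (nat_lit 8) (Steps.fwd (nat_lit 73728) (Steps.fwd (nat_lit 90112) (Steps.bwd (nat_lit 14) (Steps.fwd (nat_lit 24576) Steps.nil)))))))) (nat_lit 178) (nat_lit 2),
  Rule.mk (nat_lit 13) (nat_lit 134) (Steps.bwd (nat_lit 3) (Steps.fwd (nat_lit 114688) (Steps.bwd (nat_lit 13) (Steps.fwd (nat_lit 98304) (Steps.fwd (nat_lit 90112) (Steps.fwd (nat_lit 81920) (Steps.bwd (nat_lit 6) (Steps.bwd (nat_lit 2) Steps.nil)))))))) (nat_lit 187) (nat_lit 8),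
  Rule.mk (nat_lit 5) (nat_lit 149) (Steps.bwd (nat_lit 3) (Steps.bwd (nat_lit 4) (Steps.bwd (nat_lit 5) (Steps.bwd (nat_lit 8) (Steps.fwd (nat_lit 73728) (Steps.bwd (nat_lit 12) (Steps.fwd (nat_lit 106496) (Steps.bwd (nat_lit 14) (Steps.fwd (nat_lit 24576) Steps.nil))))))))) (nat_lit 170) (nat_lit 2),
  Rule.mk (nat_lit 11) (nat_lit 164) (Steps.bwd (nat_lit 3) (Steps.bwd (nat_lit 4) (Steps.bwd (nat_lit 5) (Steps.bwd (nat_lit 8) (Steps.fwd (nat_lit 73728) (Steps.bwd (nat_lit 10) (Steps.fwd (nat_lit 90112) (Steps.fwd (nat_lit 98304) (Steps.bwd (nat_lit 14) (Steps.fwd (nat_lit 24576) Steps.nil)))))))))) (nat_lit 182) (nat_lit 2),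
  Rule.mk (nat_lit 1) (nat_lit 104) (Steps.fwd (nat_lit 49152) (Steps.bwd (nat_lit 11) (Steps.bwd (nat_lit 12) (Steps.bwd (nat_lit 14) (Steps.bwd (nat_lit 1) (Steps.bwd (nat_lit 11) Steps.nil)))))) (nat_lit 160) (nat_lit 3),
  Rule.mk (nat_lit 3) (nat_lit 179) (Steps.bwd (nat_lit 1) (Steps.fwd (nat_lit 32768) (Steps.bwd (nat_lit 3) (Steps.fwd (nat_lit 8192) (Steps.fwd (nat_lit 24576) (Steps.fwd (nat_lit 8192) (Steps.bwd (nat_lit 2) (Steps.fwd (nat_lit 8192) (Steps.fwd (nat_lit 24576) (Steps.bwd (nat_lit 1) (Steps.fwd (nat_lit 131072) Steps.nil))))))))))) (nat_lit 191) (nat_lit 1),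
  Rule.mk (nat_lit 17) (nat_lit 179) (Steps.bwd (nat_lit 2) (Steps.bwd (nat_lit 1) (Steps.fwd (nat_lit 24576) (Steps.bwd (nat_lit 1) (Steps.bwd (nat_lit 3) (Steps.bwd (nat_lit 1) (Steps.bwd (nat_lit 3) (Steps.fwd (nat_lit 8192) (Steps.fwd (nat_lit 32768) (Steps.fwd (nat_lit 24576) (Steps.bwd (nat_lit 1) Steps.nil))))))))))) (nat_lit 193) (nat_lit 0),
  Rule.mk (nat_lit 9) (nat_lit 134) (Steps.bwd (nat_lit 3) (Steps.fwd (nat_lit 114688) (Steps.fwd (nat_lit 90112) (Steps.bwd (nat_lit 9) (Steps.fwd (nat_lit 65536) (Steps.fwd (nat_lit 40960) (Steps.bwd (nat_lit 4) (Steps.fwd (nat_lit 24576) Steps.nil)))))))) (nat_lit 179) (nat_lit 8),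
  Rule.mk (nat_lit 13) (nat_lit 134) (Steps.bwd (nat_lit 3) (Steps.bwd (nat_lit 6) (Steps.bwd (nat_lit 10) (Steps.fwd (nat_lit 90112) (Steps.bwd (nat_lit 12) (Steps.fwd (nat_lit 106496) (Steps.fwd (nat_lit 114688) (Steps.bwd (nat_lit 2) Steps.nil)))))))) (nat_lit 186) (nat_lit 2),
  Rule.mk (nat_lit 5) (nat_lit 149) (Steps.bwd (nat_lit 3) (Steps.fwd (nat_lit 114688) (Steps.fwd (nat_lit 106496) (Steps.bwd (nat_lit 12) (Steps.bwd (nat_lit 9) (Steps.fwd (nat_lit 65536) (Steps.fwd (nat_lit 40960) (Steps.bwd (nat_lit 4) (Steps.fwd (nat_lit 24576) Steps.nil))))))))) (nat_lit 171) (nat_lit 9),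
  Rule.mk (nat_lit 1) (nat_lit 104) (Steps.bwd (nat_lit 11) (Steps.bwd (nat_lit 1) (Steps.bwd (nat_lit 6) (Steps.fwd (nat_lit 90112) (Steps.fwd (nat_lit 98304) (Steps.bwd (nat_lit 14) Steps.nil)))))) (nat_lit 160) (nat_lit 1),
  Rule.mk (nat_lit 15) (nat_lit 179) (Steps.bwd (nat_lit 3) (Steps.fwd (nat_lit 8192) (Steps.fwd (nat_lit 32768) (Steps.bwd (nat_lit 3) (Steps.bwd (nat_lit 1) (Steps.fwd (nat_lit 24576) (Steps.bwd (nat_lit 1) (Steps.bwd (nat_lit 2) (Steps.bwd (nat_lit 1) (Steps.bwd (nat_lit 2) (Steps.bwd (nat_lit 1) Steps.nil))))))))))) (nat_lit 191) (nat_lit 0),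
  Rule.mk (nat_lit 15) (nat_lit 179) (Steps.bwd (nat_lit 3) (Steps.fwd (nat_lit 8192) (Steps.bwd (nat_lit 4) (Steps.fwd (nat_lit 16384) (Steps.bwd (nat_lit 1) (Steps.bwd (nat_lit 2) (Steps.bwd (nat_lit 1) (Steps.bwd (nat_lit 2) (Steps.bwd (nat_lit 1) (Steps.bwd (nat_lit 2) (Steps.bwd (nat_lit 1) Steps.nil))))))))))) (nat_lit 191) (nat_lit 0),
  Rule.mk (nat_lit 0) (nat_lit 194) (Steps.bwd (nat_lit 2) (Steps.bwd (nat_lit 1) (Steps.bwd (nat_lit 2) (Steps.fwd (nat_lit 8192) (Steps.fwd (nat_lit 16384) (Steps.fwd (nat_lit 8192) (Steps.fwd (nat_lit 16384) (Steps.fwd (nat_lit 8192) (Steps.fwd (nat_lit 32768) (Steps.fwd (nat_lit 24576) (Steps.bwd (nat_lit 1) (Steps.fwd (nat_lit 147456) Steps.nil)))))))))))) (nat_lit 193) (nat_lit 0),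
  Rule.mk (nat_lit 17) (nat_lit 179) (Steps.bwd (nat_lit 2) (Steps.bwd (nat_lit 1) (Steps.bwd (nat_lit 2) (Steps.bwd (nat_lit 1) (Steps.fwd (nat_lit 16384) (Steps.bwd (nat_lit 1) (Steps.bwd (nat_lit 3) (Steps.fwd (nat_lit 8192) (Steps.bwd (nat_lit 4) (Steps.fwd (nat_lit 24576) (Steps.fwd (nat_lit 8192) Steps.nil))))))))))) (nat_lit 193) (nat_lit 0),
  Rule.mk (nat_lit 0) (nat_lit 194) (Steps.bwd (nat_lit 19) (Steps.bwd (nat_lit 3) (Steps.fwd (nat_lit 32768) (Steps.bwd (nat_lit 1) (Steps.fwd (nat_lit 24576) (Steps.fwd (nat_lit 8192) (Steps.bwd (nat_lit 2) (Steps.fwd (nat_lit 8192) (Steps.fwd (nat_lit 16384) (Steps.fwd (nat_lit 8192) (Steps.fwd (nat_lit 16384) (Steps.fwd (nat_lit 8192) Steps.nil)))))))))))) (nat_lit 195) (nat_lit 11),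
  Rule.mk (nat_lit 3) (nat_lit 179) (Steps.bwd (nat_lit 4) (Steps.bwd (nat_lit 1) (Steps.bwd (nat_lit 2) (Steps.bwd (nat_lit 1) (Steps.bwd (nat_lit 2) (Steps.bwd (nat_lit 1) (Steps.fwd (nat_lit 16384) (Steps.bwd (nat_lit 1) (Steps.bwd (nat_lit 3) (Steps.fwd (nat_lit 8192) (Steps.fwd (nat_lit 163840) Steps.nil))))))))))) (nat_lit 195) (nat_lit 1),
  Rule.mk (nat_lit 0) (nat_lit 194) (Steps.bwd (nat_lit 19) (Steps.bwd (nat_lit 3) (Steps.bwd (nat_lit 4) (Steps.bwd (nat_lit 1) (Steps.bwd (nat_lit 2) (Steps.bwd (nat_lit 1) (Steps.bwd (nat_lit 2) (Steps.bwd (nat_lit 1) (Steps.fwd (nat_lit 16384) (Steps.fwd (nat_lit 8192) (Steps.bwd (nat_lit 3) (Steps.fwd (nat_lit 8192) Steps.nil)))))))))))) (nat_lit 195) (nat_lit 11),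
  Rule.mk (nat_lit 10) (nat_lit 104) (Steps.bwd (nat_lit 3) (Steps.bwd (nat_lit 6) (Steps.bwd (nat_lit 11) (Steps.fwd (nat_lit 98304) (Steps.bwd (nat_lit 14) (Steps.fwd (nat_lit 24576) Steps.nil)))))) (nat_lit 180) (nat_lit 2)]
noncomputable def R_47 : List (Rule) := [Rule.mk (nat_lit 9) (nat_lit 134) (Steps.bwd (nat_lit 3) (Steps.bwd (nat_lit 4) (Steps.fwd (nat_lit 40960) (Steps.bwd (nat_lit 8) (Steps.bwd (nat_lit 9) (Steps.fwd (nat_lit 90112) (Steps.bwd (nat_lit 14) (Steps.fwd (nat_lit 24576) Steps.nil)))))))) (nat_lit 178) (nat_lit 2),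
  Rule.mk (nat_lit 5) (nat_lit 149) (Steps.bwd (nat_lit 3) (Steps.bwd (nat_lit 4) (Steps.fwd (nat_lit 40960) (Steps.bwd (nat_lit 8) (Steps.bwd (nat_lit 9) (Steps.fwd (nat_lit 98304) (Steps.bwd (nat_lit 13) (Steps.bwd (nat_lit 14) (Steps.bwd (nat_lit 2) Steps.nil))))))))) (nat_lit 170) (nat_lit 2),
  Rule.mk (nat_lit 11) (nat_lit 164) (Steps.bwd (nat_lit 3) (Steps.bwd (nat_lit 4) (Steps.fwd (nat_lit 40960) (Steps.bwd (nat_lit 8) (Steps.bwd (nat_lit 9) (Steps.bwd (nat_lit 10) (Steps.fwd (nat_lit 90112) (Steps.bwd (nat_lit 12) (Steps.bwd (nat_lit 14) (Steps.bwd (nat_lit 2) Steps.nil)))))))))) (nat_lit 182) (nat_lit 2),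
  Rule.mk (nat_lit 13) (nat_lit 59) (Steps.fwd (nat_lit 90112) (Steps.bwd (nat_lit 13) (Steps.bwd (nat_lit 11) Steps.nil))) (nat_lit 122) (nat_lit 1),
  Rule.mk (nat_lit 1) (nat_lit 104) (Steps.fwd (nat_lit 114688) (Steps.fwd (nat_lit 98304) (Steps.fwd (nat_lit 90112) (Steps.bwd (nat_lit 6) (Steps.fwd (nat_lit 8192) (Steps.bwd (nat_lit 11) Steps.nil)))))) (nat_lit 161) (nat_lit 0),
  Rule.mk (nat_lit 17) (nat_lit 179) (Steps.fwd (nat_lit 24576) (Steps.fwd (nat_lit 8192) (Steps.bwd (nat_lit 2) (Steps.fwd (nat_lit 8192) (Steps.fwd (nat_lit 16384) (Steps.fwd (nat_lit 8192) (Steps.fwd (nat_lit 16384) (Steps.fwd (nat_lit 8192) (Steps.fwd (nat_lit 32768) (Steps.fwd (nat_lit 24576) (Steps.bwd (nat_lit 1) Steps.nil))))))))))) (nat_lit 193) (nat_lit 0),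
  Rule.mk (nat_lit 7) (nat_lit 104) (Steps.fwd (nat_lit 16384) (Steps.bwd (nat_lit 5) (Steps.fwd (nat_lit 57344) (Steps.fwd (nat_lit 106496) (Steps.bwd (nat_lit 14) (Steps.bwd (nat_lit 2) Steps.nil)))))) (nat_lit 174) (nat_lit 2),
  Rule.mk (nat_lit 0) (nat_lit 194) (Steps.bwd (nat_lit 16) (Steps.bwd (nat_lit 1) (Steps.bwd (nat_lit 3) (Steps.bwd (nat_lit 1) (Steps.fwd (nat_lit 16384) (Steps.fwd (nat_lit 8192) (Steps.bwd (nat_lit 3) (Steps.fwd (nat_lit 8192) (Steps.fwd (nat_lit 24576) (Steps.fwd (nat_lit 32768) (Steps.fwd (nat_lit 8192) (Steps.bwd (nat_lit 2) Steps.nil)))))))))))) (nat_lit 190) (nat_lit 0),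
  Rule.mk (nat_lit 15) (nat_lit 179) (Steps.bwd (nat_lit 3) (Steps.fwd (nat_lit 8192) (Steps.fwd (nat_lit 32768) (Steps.fwd (nat_lit 16384) (Steps.fwd (nat_lit 8192) (Steps.bwd (nat_lit 2) (Steps.fwd (nat_lit 8192) (Steps.bwd (nat_lit 2) (Steps.bwd (nat_lit 1) (Steps.fwd (nat_lit 24576) (Steps.fwd (nat_lit 8192) Steps.nil))))))))))) (nat_lit 191) (nat_lit 0),
  Rule.mk (nat_lit 0) (nat_lit 194) (Steps.bwd (nat_lit 18) (Steps.fwd (nat_lit 8192) (Steps.bwd (nat_lit 3) (Steps.fwd (nat_lit 32768) (Steps.fwd (nat_lit 8192) (Steps.bwd (nat_lit 2) (Steps.fwd (nat_lit 8192) (Steps.bwd (nat_lit 2) (Steps.bwd (nat_lit 1) (Steps.fwd (nat_lit 16384) (Steps.fwd (nat_lit 8192) (Steps.fwd (nat_lit 16384) Steps.nil)))))))))))) (nat_lit 192) (nat_lit 0),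
  Rule.mk (nat_lit 17) (nat_lit 179) (Steps.bwd (nat_lit 2) (Steps.fwd (nat_lit 8192) (Steps.bwd (nat_lit 2) (Steps.bwd (nat_lit 1) (Steps.fwd (nat_lit 16384) (Steps.fwd (nat_lit 8192) (Steps.fwd (nat_lit 16384) (Steps.fwd (nat_lit 8192) (Steps.fwd (nat_lit 32768) (Steps.fwd (nat_lit 24576) (Steps.bwd (nat_lit 1) Steps.nil))))))))))) (nat_lit 193) (nat_lit 0),
  Rule.mk (nat_lit 20) (nat_lit 179) (Steps.fwd (nat_lit 8192) (Steps.bwd (nat_lit 2) (Steps.fwd (nat_lit 8192) (Steps.bwd (nat_lit 2) (Steps.bwd (nat_lit 1) (Steps.fwd (nat_lit 16384) (Steps.fwd (nat_lit 8192) (Steps.fwd (nat_lit 16384) (Steps.fwd (nat_lit 8192) (Steps.fwd (nat_lit 32768) (Steps.fwd (nat_lit 24576) Steps.nil))))))))))) (nat_lit 194) (nat_lit 1),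
  Rule.mk (nat_lit 19) (nat_lit 179) (Steps.bwd (nat_lit 3) (Steps.fwd (nat_lit 32768) (Steps.fwd (nat_lit 8192) (Steps.bwd (nat_lit 2) (Steps.fwd (nat_lit 8192) (Steps.bwd (nat_lit 2) (Steps.bwd (nat_lit 1) (Steps.fwd (nat_lit 16384) (Steps.fwd (nat_lit 8192) (Steps.fwd (nat_lit 16384) (Steps.fwd (nat_lit 8192) Steps.nil))))))))))) (nat_lit 195) (nat_lit 0),
  Rule.mk (nat_lit 0) (nat_lit 194) (Steps.bwd (nat_lit 17) (Steps.fwd (nat_lit 24576) (Steps.bwd (nat_lit 1) (Steps.fwd (nat_lit 24576) (Steps.bwd (nat_lit 1) (Steps.fwd (nat_lit 16384) (Steps.bwd (nat_lit 1) (Steps.fwd (nat_lit 16384) (Steps.fwd (nat_lit 8192) (Steps.fwd (nat_lit 32768) (Steps.bwd (nat_lit 2) (Steps.fwd (nat_lit 8192) Steps.nil)))))))))))) (nat_lit 193) (nat_lit 11),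
  Rule.mk (nat_lit 18) (nat_lit 179) (Steps.bwd (nat_lit 1) (Steps.bwd (nat_lit 3) (Steps.bwd (nat_lit 4) (Steps.bwd (nat_lit 1) (Steps.fwd (nat_lit 24576) (Steps.bwd (nat_lit 1) (Steps.bwd (nat_lit 2) (Steps.fwd (nat_lit 8192) (Steps.bwd (nat_lit 3) (Steps.fwd (nat_lit 8192) (Steps.fwd (nat_lit 16384) Steps.nil))))))))))) (nat_lit 192) (nat_lit 1),
  Rule.mk (nat_lit 2) (nat_lit 179) (Steps.bwd (nat_lit 1) (Steps.bwd (nat_lit 2) (Steps.fwd (nat_lit 8192) (Steps.fwd (nat_lit 16384) (Steps.fwd (nat_lit 8192) (Steps.bwd (nat_lit 3) (Steps.bwd (nat_lit 1) (Steps.fwd (nat_lit 32768) (Steps.bwd (nat_lit 2) (Steps.bwd (nat_lit 1) (Steps.fwd (nat_lit 147456) Steps.nil))))))))))) (nat_lit 193) (nat_lit 1),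
  Rule.mk (nat_lit 20) (nat_lit 179) (Steps.bwd (nat_lit 1) (Steps.bwd (nat_lit 2) (Steps.fwd (nat_lit 8192) (Steps.bwd (nat_lit 2) (Steps.fwd (nat_lit 8192) (Steps.bwd (nat_lit 3) (Steps.fwd (nat_lit 8192) (Steps.bwd (nat_lit 3) (Steps.fwd (nat_lit 8192) (Steps.fwd (nat_lit 32768) (Steps.fwd (nat_lit 24576) Steps.nil))))))))))) (nat_lit 194) (nat_lit 1),
  Rule.mk (nat_lit 0) (nat_lit 194) (Steps.bwd (nat_lit 19) (Steps.fwd (nat_lit 16384) (Steps.bwd (nat_lit 4) (Steps.bwd (nat_lit 1) (Steps.bwd (nat_lit 2) (Steps.fwd (nat_lit 8192) (Steps.bwd (nat_lit 2) (Steps.fwd (nat_lit 8192) (Steps.bwd (nat_lit 3) (Steps.fwd (nat_lit 8192) (Steps.bwd (nat_lit 3) (Steps.fwd (nat_lit 8192) Steps.nil)))))))))))) (nat_lit 195) (nat_lit 11),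
  Rule.mk (nat_lit 14) (nat_lit 119) (Steps.bwd (nat_lit 2) (Steps.fwd (nat_lit 114688) (Steps.fwd (nat_lit 16384) (Steps.fwd (nat_lit 40960) (Steps.bwd (nat_lit 6) (Steps.bwd (nat_lit 7) (Steps.fwd (nat_lit 98304) Steps.nil))))))) (nat_lit 188) (nat_lit 0),
  Rule.mk (nat_lit 0) (nat_lit 194) (Steps.bwd (nat_lit 16) (Steps.bwd (nat_lit 1) (Steps.fwd (nat_lit 16384) (Steps.fwd (nat_lit 8192) (Steps.fwd (nat_lit 16384) (Steps.fwd (nat_lit 8192) (Steps.fwd (nat_lit 16384) (Steps.fwd (nat_lit 8192) (Steps.bwd (nat_lit 2) (Steps.fwd (nat_lit 32768) (Steps.bwd (nat_lit 1) (Steps.bwd (nat_lit 2) Steps.nil)))))))))))) (nat_lit 190) (nat_lit 0),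
  Rule.mk (nat_lit 0) (nat_lit 194) (Steps.bwd (nat_lit 18) (Steps.fwd (nat_lit 8192) (Steps.bwd (nat_lit 3) (Steps.fwd (nat_lit 32768) (Steps.bwd (nat_lit 1) (Steps.bwd (nat_lit 2) (Steps.fwd (nat_lit 8192) (Steps.bwd (nat_lit 2) (Steps.bwd (nat_lit 1) (Steps.bwd (nat_lit 3) (Steps.fwd (nat_lit 8192) (Steps.bwd (nat_lit 3) Steps.nil)))))))))))) (nat_lit 192) (nat_lit 0),
  Rule.mk (nat_lit 1) (nat_lit 179) (Steps.bwd (nat_lit 3) (Steps.bwd (nat_lit 4) (Steps.fwd (nat_lit 8192) (Steps.bwd (nat_lit 2) (Steps.bwd (nat_lit 1) (Steps.bwd (nat_lit 2) (Steps.fwd (nat_lit 8192) (Steps.fwd (nat_lit 16384) (Steps.fwd (nat_lit 8192) (Steps.bwd (nat_lit 3) (Steps.fwd (nat_lit 139264) Steps.nil))))))))))) (nat_lit 192) (nat_lit 2),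
  Rule.mk (nat_lit 20) (nat_lit 179) (Steps.fwd (nat_lit 8192) (Steps.fwd (nat_lit 24576) (Steps.bwd (nat_lit 1) (Steps.bwd (nat_lit 2) (Steps.bwd (nat_lit 1) (Steps.fwd (nat_lit 16384) (Steps.fwd (nat_lit 8192) (Steps.fwd (nat_lit 16384) (Steps.fwd (nat_lit 8192) (Steps.fwd (nat_lit 32768) (Steps.fwd (nat_lit 24576) Steps.nil))))))))))) (nat_lit 194) (nat_lit 1),
  Rule.mk (nat_lit 0) (nat_lit 194) (Steps.bwd (nat_lit 1) (Steps.fwd (nat_lit 24576) (Steps.bwd (nat_lit 1) (Steps.fwd (nat_lit 24576) (Steps.fwd (nat_lit 8192) (Steps.fwd (nat_lit 16384) (Steps.fwd (nat_lit 8192) (Steps.fwd (nat_lit 16384) (Steps.fwd (nat_lit 8192) (Steps.bwd (nat_lit 4) (Steps.fwd (nat_lit 24576) (Steps.fwd (nat_lit 155648) Steps.nil)))))))))))) (nat_lit 194) (nat_lit 1),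
  Rule.mk (nat_lit 20) (nat_lit 179) (Steps.fwd (nat_lit 8192) (Steps.bwd (nat_lit 2) (Steps.bwd (nat_lit 1) (Steps.bwd (nat_lit 2) (Steps.fwd (nat_lit 8192) (Steps.fwd (nat_lit 16384) (Steps.fwd (nat_lit 8192) (Steps.bwd (nat_lit 3) (Steps.bwd (nat_lit 1) (Steps.fwd (nat_lit 32768) (Steps.bwd (nat_lit 2) Steps.nil))))))))))) (nat_lit 194) (nat_lit 1),
  Rule.mk (nat_lit 4) (nat_lit 104) (Steps.bwd (nat_lit 1) (Steps.fwd (nat_lit 106496) (Steps.bwd (nat_lit 1) (Steps.fwd (nat_lit 73728) (Steps.bwd (nat_lit 8) (Steps.bwd (nat_lit 5) Steps.nil)))))) (nat_lit 165) (nat_lit 4),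
  Rule.mk (nat_lit 8) (nat_lit 89) (Steps.fwd (nat_lit 16384) (Steps.fwd (nat_lit 114688) (Steps.bwd (nat_lit 7) (Steps.bwd (nat_lit 4) (Steps.bwd (nat_lit 2) Steps.nil))))) (nat_lit 177) (nat_lit 5),
  Rule.mk (nat_lit 9) (nat_lit 59) (Steps.fwd (nat_lit 65536) (Steps.bwd (nat_lit 9) (Steps.bwd (nat_lit 8) Steps.nil))) (nat_lit 64) (nat_lit 1),
  Rule.mk (nat_lit 1) (nat_lit 104) (Steps.bwd (nat_lit 5) (Steps.bwd (nat_lit 7) (Steps.fwd (nat_lit 106496) (Steps.bwd (nat_lit 14) (Steps.fwd (nat_lit 8192) (Steps.bwd (nat_lit 8) Steps.nil)))))) (nat_lit 154) (nat_lit 3),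
  Rule.mk (nat_lit 17) (nat_lit 179) (Steps.bwd (nat_lit 2) (Steps.bwd (nat_lit 1) (Steps.fwd (nat_lit 24576) (Steps.bwd (nat_lit 1) (Steps.fwd (nat_lit 16384) (Steps.bwd (nat_lit 1) (Steps.bwd (nat_lit 3) (Steps.fwd (nat_lit 8192) (Steps.fwd (nat_lit 32768) (Steps.bwd (nat_lit 2) (Steps.bwd (nat_lit 1) Steps.nil))))))))))) (nat_lit 193) (nat_lit 0),
  Rule.mk (nat_lit 16) (nat_lit 179) (Steps.bwd (nat_lit 1) (Steps.fwd (nat_lit 16384) (Steps.bwd (nat_lit 1) (Steps.fwd (nat_lit 16384) (Steps.fwd (nat_lit 8192) (Steps.fwd (nat_lit 16384) (Steps.fwd (nat_lit 8192) (Steps.bwd (nat_lit 2) (Steps.fwd (nat_lit 32768) (Steps.fwd (nat_lit 8192) (Steps.bwd (nat_lit 2) Steps.nil))))))))))) (nat_lit 190) (nat_lit 1),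
  Rule.mk (nat_lit 17) (nat_lit 179) (Steps.fwd (nat_lit 24576) (Steps.fwd (nat_lit 8192) (Steps.bwd (nat_lit 2) (Steps.bwd (nat_lit 1) (Steps.bwd (nat_lit 3) (Steps.bwd (nat_lit 1) (Steps.fwd (nat_lit 16384) (Steps.bwd (nat_lit 1) (Steps.bwd (nat_lit 4) (Steps.bwd (nat_lit 2) (Steps.bwd (nat_lit 1) Steps.nil))))))))))) (nat_lit 193) (nat_lit 0),
  Rule.mk (nat_lit 1) (nat_lit 179) (Steps.fwd (nat_lit 24576) (Steps.fwd (nat_lit 8192) (Steps.bwd (nat_lit 2) (Steps.bwd (nat_lit 1) (Steps.bwd (nat_lit 3) (Steps.bwd (nat_lit 1) (Steps.fwd (nat_lit 16384) (Steps.bwd (nat_lit 1) (Steps.bwd (nat_lit 4) (Steps.bwd (nat_lit 2) (Steps.fwd (nat_lit 155648) Steps.nil))))))))))) (nat_lit 194) (nat_lit 2),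
  Rule.mk (nat_lit 10) (nat_lit 134) (Steps.bwd (nat_lit 1) (Steps.fwd (nat_lit 114688) (Steps.bwd (nat_lit 11) (Steps.bwd (nat_lit 9) (Steps.bwd (nat_lit 8) (Steps.fwd (nat_lit 40960) (Steps.fwd (nat_lit 32768) (Steps.fwd (nat_lit 8192) Steps.nil)))))))) (nat_lit 159) (nat_lit 8),
  Rule.mk (nat_lit 12) (nat_lit 164) (Steps.bwd (nat_lit 1) (Steps.fwd (nat_lit 114688) (Steps.fwd (nat_lit 98304) (Steps.fwd (nat_lit 90112) (Steps.fwd (nat_lit 81920) (Steps.bwd (nat_lit 9) (Steps.fwd (nat_lit 65536) (Steps.bwd (nat_lit 5) (Steps.bwd (nat_lit 4) (Steps.fwd (nat_lit 8192) Steps.nil)))))))))) (nat_lit 163) (nat_lit 10),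
  Rule.mk (nat_lit 14) (nat_lit 104) (Steps.bwd (nat_lit 1) (Steps.bwd (nat_lit 11) (Steps.fwd (nat_lit 8192) (Steps.bwd (nat_lit 6) (Steps.fwd (nat_lit 90112) (Steps.bwd (nat_lit 12) Steps.nil)))))) (nat_lit 160) (nat_lit 0),
  Rule.mk (nat_lit 3) (nat_lit 104) (Steps.fwd (nat_lit 32768) (Steps.bwd (nat_lit 5) (Steps.bwd (nat_lit 8) (Steps.fwd (nat_lit 73728) (Steps.bwd (nat_lit 2) (Steps.bwd (nat_lit 12) Steps.nil)))))) (nat_lit 184) (nat_lit 3),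
  Rule.mk (nat_lit 16) (nat_lit 179) (Steps.fwd (nat_lit 8192) (Steps.bwd (nat_lit 3) (Steps.fwd (nat_lit 8192) (Steps.fwd (nat_lit 16384) (Steps.bwd (nat_lit 1) (Steps.bwd (nat_lit 3) (Steps.bwd (nat_lit 1) (Steps.fwd (nat_lit 24576) (Steps.bwd (nat_lit 4) (Steps.bwd (nat_lit 1) (Steps.bwd (nat_lit 2) Steps.nil))))))))))) (nat_lit 190) (nat_lit 1),
  Rule.mk (nat_lit 0) (nat_lit 194) (Steps.bwd (nat_lit 17) (Steps.fwd (nat_lit 24576) (Steps.fwd (nat_lit 8192) (Steps.fwd (nat_lit 24576) (Steps.fwd (nat_lit 8192) (Steps.fwd (nat_lit 16384) (Steps.fwd (nat_lit 8192) (Steps.fwd (nat_lit 16384) (Steps.bwd (nat_lit 1) (Steps.bwd (nat_lit 4) (Steps.fwd (nat_lit 24576) (Steps.fwd (nat_lit 8192) Steps.nil)))))))))))) (nat_lit 193) (nat_lit 11),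
  Rule.mk (nat_lit 19) (nat_lit 179) (Steps.bwd (nat_lit 3) (Steps.fwd (nat_lit 32768) (Steps.fwd (nat_lit 8192) (Steps.bwd (nat_lit 2) (Steps.bwd (nat_lit 1) (Steps.bwd (nat_lit 2) (Steps.bwd (nat_lit 1) (Steps.bwd (nat_lit 3) (Steps.bwd (nat_lit 1) (Steps.bwd (nat_lit 3) (Steps.fwd (nat_lit 8192) Steps.nil))))))))))) (nat_lit 195) (nat_lit 0),
  Rule.mk (nat_lit 2) (nat_lit 104) (Steps.fwd (nat_lit 57344) (Steps.bwd (nat_lit 3) (Steps.fwd (nat_lit 114688) (Steps.bwd (nat_lit 13) (Steps.bwd (nat_lit 7) (Steps.fwd (nat_lit 40960) Steps.nil)))))) (nat_lit 175) (nat_lit 5),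
  Rule.mk (nat_lit 16) (nat_lit 179) (Steps.fwd (nat_lit 8192) (Steps.fwd (nat_lit 16384) (Steps.fwd (nat_lit 8192) (Steps.bwd (nat_lit 3) (Steps.fwd (nat_lit 8192) (Steps.bwd (nat_lit 3) (Steps.bwd (nat_lit 1) (Steps.bwd (nat_lit 2) (Steps.bwd (nat_lit 4) (Steps.fwd (nat_lit 8192) (Steps.fwd (nat_lit 24576) Steps.nil))))))))))) (nat_lit 190) (nat_lit 1),
  Rule.mk (nat_lit 18) (nat_lit 179) (Steps.bwd (nat_lit 1) (Steps.fwd (nat_lit 16384) (Steps.bwd (nat_lit 4) (Steps.fwd (nat_lit 8192) (Steps.fwd (nat_lit 24576) (Steps.bwd (nat_lit 1) (Steps.bwd (nat_lit 2) (Steps.bwd (nat_lit 1) (Steps.fwd (nat_lit 16384) (Steps.bwd (nat_lit 1) (Steps.fwd (nat_lit 16384) Steps.nil))))))))))) (nat_lit 192) (nat_lit 1),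
  Rule.mk (nat_lit 17) (nat_lit 179) (Steps.fwd (nat_lit 24576) (Steps.bwd (nat_lit 1) (Steps.bwd (nat_lit 2) (Steps.bwd (nat_lit 1) (Steps.fwd (nat_lit 16384) (Steps.bwd (nat_lit 1) (Steps.fwd (nat_lit 16384) (Steps.bwd (nat_lit 1) (Steps.bwd (nat_lit 4) (Steps.fwd (nat_lit 24576) (Steps.fwd (nat_lit 8192) Steps.nil))))))))))) (nat_lit 193) (nat_lit 0),
  Rule.mk (nat_lit 20) (nat_lit 179) (Steps.fwd (nat_lit 8192) (Steps.fwd (nat_lit 24576) (Steps.bwd (nat_lit 1) (Steps.bwd (nat_lit 2) (Steps.bwd (nat_lit 1) (Steps.fwd (nat_lit 16384) (Steps.bwd (nat_lit 1) (Steps.fwd (nat_lit 16384) (Steps.bwd (nat_lit 1) (Steps.bwd (nat_lit 4) (Steps.fwd (nat_lit 24576) Steps.nil))))))))))) (nat_lit 194) (nat_lit 1),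
  Rule.mk (nat_lit 0) (nat_lit 194) (Steps.bwd (nat_lit 19) (Steps.fwd (nat_lit 16384) (Steps.bwd (nat_lit 4) (Steps.fwd (nat_lit 8192) (Steps.fwd (nat_lit 24576) (Steps.bwd (nat_lit 1) (Steps.bwd (nat_lit 2) (Steps.bwd (nat_lit 1) (Steps.fwd (nat_lit 16384) (Steps.bwd (nat_lit 1) (Steps.fwd (nat_lit 16384) (Steps.bwd (nat_lit 1) Steps.nil)))))))))))) (nat_lit 195) (nat_lit 11),
  Rule.mk (nat_lit 11) (nat_lit 104) (Steps.bwd (nat_lit 1) (Steps.bwd (nat_lit 14) (Steps.bwd (nat_lit 12) (Steps.fwd (nat_lit 90112) (Steps.bwd (nat_lit 6) (Steps.bwd (nat_lit 1) Steps.nil)))))) (nat_lit 161) (nat_lit 6),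
  Rule.mk (nat_lit 13) (nat_lit 104) (Steps.bwd (nat_lit 1) (Steps.bwd (nat_lit 4) (Steps.bwd (nat_lit 5) (Steps.fwd (nat_lit 65536) (Steps.bwd (nat_lit 9) (Steps.fwd (nat_lit 8192) Steps.nil)))))) (nat_lit 164) (nat_lit 2),
  Rule.mk (nat_lit 10) (nat_lit 134) (Steps.bwd (nat_lit 1) (Steps.bwd (nat_lit 4) (Steps.bwd (nat_lit 5) (Steps.fwd (nat_lit 65536) (Steps.bwd (nat_lit 9) (Steps.fwd (nat_lit 90112) (Steps.fwd (nat_lit 114688) (Steps.fwd (nat_lit 8192) Steps.nil)))))))) (nat_lit 158) (nat_lit 2),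
  Rule.mk (nat_lit 16) (nat_lit 179) (Steps.fwd (nat_lit 8192) (Steps.bwd (nat_lit 3) (Steps.fwd (nat_lit 8192) (Steps.bwd (nat_lit 3) (Steps.bwd (nat_lit 1) (Steps.bwd (nat_lit 3) (Steps.fwd (nat_lit 8192) (Steps.fwd (nat_lit 24576) (Steps.bwd (nat_lit 4) (Steps.fwd (nat_lit 8192) (Steps.bwd (nat_lit 2) Steps.nil))))))))))) (nat_lit 190) (nat_lit 1),
  Rule.mk (nat_lit 18) (nat_lit 179) (Steps.bwd (nat_lit 1) (Steps.bwd (nat_lit 3) (Steps.fwd (nat_lit 32768) (Steps.bwd (nat_lit 1) (Steps.bwd (nat_lit 2) (Steps.fwd (nat_lit 8192) (Steps.bwd (nat_lit 2) (Steps.bwd (nat_lit 1) (Steps.fwd (nat_lit 16384) (Steps.bwd (nat_lit 1) (Steps.bwd (nat_lit 3) Steps.nil))))))))))) (nat_lit 192) (nat_lit 1),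
  Rule.mk (nat_lit 19) (nat_lit 179) (Steps.bwd (nat_lit 3) (Steps.fwd (nat_lit 32768) (Steps.bwd (nat_lit 1) (Steps.bwd (nat_lit 2) (Steps.fwd (nat_lit 8192) (Steps.bwd (nat_lit 2) (Steps.bwd (nat_lit 1) (Steps.fwd (nat_lit 16384) (Steps.bwd (nat_lit 1) (Steps.bwd (nat_lit 3) (Steps.bwd (nat_lit 1) Steps.nil))))))))))) (nat_lit 195) (nat_lit 0),
  Rule.mk (nat_lit 14) (nat_lit 119) (Steps.bwd (nat_lit 3) (Steps.fwd (nat_lit 40960) (Steps.bwd (nat_lit 6) (Steps.fwd (nat_lit 57344) (Steps.fwd (nat_lit 98304) (Steps.bwd (nat_lit 14) (Steps.fwd (nat_lit 24576) Steps.nil))))))) (nat_lit 188) (nat_lit 2),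
  Rule.mk (nat_lit 11) (nat_lit 104) (Steps.bwd (nat_lit 1) (Steps.fwd (nat_lit 114688) (Steps.fwd (nat_lit 98304) (Steps.bwd (nat_lit 11) (Steps.bwd (nat_lit 6) (Steps.bwd (nat_lit 1) Steps.nil)))))) (nat_lit 161) (nat_lit 6),
  Rule.mk (nat_lit 6) (nat_lit 149) (Steps.bwd (nat_lit 1) (Steps.bwd (nat_lit 4) (Steps.bwd (nat_lit 5) (Steps.bwd (nat_lit 8) (Steps.fwd (nat_lit 73728) (Steps.fwd (nat_lit 98304) (Steps.bwd (nat_lit 13) (Steps.fwd (nat_lit 114688) (Steps.fwd (nat_lit 8192) Steps.nil))))))))) (nat_lit 150) (nat_lit 2),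
  Rule.mk (nat_lit 10) (nat_lit 134) (Steps.bwd (nat_lit 11) (Steps.fwd (nat_lit 98304) (Steps.fwd (nat_lit 106496) (Steps.fwd (nat_lit 114688) (Steps.fwd (nat_lit 8192) (Steps.fwd (nat_lit 114688) (Steps.fwd (nat_lit 8192) (Steps.bwd (nat_lit 6) Steps.nil)))))))) (nat_lit 166) (nat_lit 5),
  Rule.mk (nat_lit 2) (nat_lit 179) (Steps.bwd (nat_lit 20) (Steps.bwd (nat_lit 1) (Steps.fwd (nat_lit 24576) (Steps.fwd (nat_lit 8192) (Steps.bwd (nat_lit 2) (Steps.bwd (nat_lit 1) (Steps.fwd (nat_lit 16384) (Steps.bwd (nat_lit 1) (Steps.bwd (nat_lit 3) (Steps.bwd (nat_lit 1) (Steps.bwd (nat_lit 4) Steps.nil))))))))))) (nat_lit 194) (nat_lit 0),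
  Rule.mk (nat_lit 12) (nat_lit 104) (Steps.fwd (nat_lit 16384) (Steps.fwd (nat_lit 32768) (Steps.bwd (nat_lit 5) (Steps.fwd (nat_lit 65536) (Steps.bwd (nat_lit 9) (Steps.fwd (nat_lit 24576) Steps.nil)))))) (nat_lit 184) (nat_lit 2),
  Rule.mk (nat_lit 9) (nat_lit 134) (Steps.fwd (nat_lit 16384) (Steps.fwd (nat_lit 32768) (Steps.bwd (nat_lit 5) (Steps.fwd (nat_lit 65536) (Steps.bwd (nat_lit 9) (Steps.bwd (nat_lit 11) (Steps.bwd (nat_lit 14) (Steps.bwd (nat_lit 2) Steps.nil)))))))) (nat_lit 178) (nat_lit 2),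
  Rule.mk (nat_lit 1) (nat_lit 179) (Steps.fwd (nat_lit 16384) (Steps.fwd (nat_lit 32768) (Steps.fwd (nat_lit 8192) (Steps.fwd (nat_lit 24576) (Steps.fwd (nat_lit 8192) (Steps.bwd (nat_lit 2) (Steps.fwd (nat_lit 8192) (Steps.fwd (nat_lit 16384) (Steps.bwd (nat_lit 1) (Steps.bwd (nat_lit 3) (Steps.fwd (nat_lit 139264) Steps.nil))))))))))) (nat_lit 192) (nat_lit 2),
  Rule.mk (nat_lit 0) (nat_lit 104) (Steps.fwd (nat_lit 32768) (Steps.bwd (nat_lit 7) (Steps.bwd (nat_lit 14) (Steps.bwd (nat_lit 1) (Steps.bwd (nat_lit 9) (Steps.fwd (nat_lit 8192) Steps.nil)))))) (nat_lit 156) (nat_lit 3),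
  Rule.mk (nat_lit 14) (nat_lit 104) (Steps.fwd (nat_lit 106496) (Steps.fwd (nat_lit 57344) (Steps.bwd (nat_lit 5) (Steps.bwd (nat_lit 1) (Steps.bwd (nat_lit 8) (Steps.bwd (nat_lit 1) Steps.nil)))))) (nat_lit 155) (nat_lit 1),
  Rule.mk (nat_lit 16) (nat_lit 179) (Steps.bwd (nat_lit 1) (Steps.fwd (nat_lit 16384) (Steps.bwd (nat_lit 1) (Steps.bwd (nat_lit 3) (Steps.bwd (nat_lit 1) (Steps.fwd (nat_lit 16384) (Steps.fwd (nat_lit 8192) (Steps.bwd (nat_lit 2) (Steps.fwd (nat_lit 32768) (Steps.bwd (nat_lit 1) (Steps.fwd (nat_lit 24576) Steps.nil))))))))))) (nat_lit 190) (nat_lit 1),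
  Rule.mk (nat_lit 18) (nat_lit 179) (Steps.bwd (nat_lit 1) (Steps.fwd (nat_lit 16384) (Steps.bwd (nat_lit 4) (Steps.bwd (nat_lit 1) (Steps.bwd (nat_lit 2) (Steps.bwd (nat_lit 1) (Steps.bwd (nat_lit 2) (Steps.bwd (nat_lit 1) (Steps.bwd (nat_lit 3) (Steps.bwd (nat_lit 1) (Steps.fwd (nat_lit 16384) Steps.nil))))))))))) (nat_lit 192) (nat_lit 1)]
noncomputable def R_48 : List (Rule) := [Rule.mk (nat_lit 17) (nat_lit 179) (Steps.bwd (nat_lit 2) (Steps.bwd (nat_lit 1) (Steps.bwd (nat_lit 2) (Steps.bwd (nat_lit 1) (Steps.bwd (nat_lit 3) (Steps.bwd (nat_lit 1) (Steps.fwd (nat_lit 16384) (Steps.bwd (nat_lit 1) (Steps.bwd (nat_lit 4) (Steps.fwd (nat_lit 24576) (Steps.bwd (nat_lit 1) Steps.nil))))))))))) (nat_lit 193) (nat_lit 0),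
  Rule.mk (nat_lit 20) (nat_lit 179) (Steps.bwd (nat_lit 1) (Steps.bwd (nat_lit 2) (Steps.bwd (nat_lit 1) (Steps.bwd (nat_lit 2) (Steps.bwd (nat_lit 1) (Steps.bwd (nat_lit 3) (Steps.bwd (nat_lit 1) (Steps.fwd (nat_lit 16384) (Steps.bwd (nat_lit 1) (Steps.bwd (nat_lit 4) (Steps.fwd (nat_lit 24576) Steps.nil))))))))))) (nat_lit 194) (nat_lit 1),
  Rule.mk (nat_lit 0) (nat_lit 194) (Steps.bwd (nat_lit 19) (Steps.fwd (nat_lit 16384) (Steps.bwd (nat_lit 4) (Steps.bwd (nat_lit 1) (Steps.bwd (nat_lit 2) (Steps.bwd (nat_lit 1) (Steps.bwd (nat_lit 2) (Steps.bwd (nat_lit 1) (Steps.bwd (nat_lit 3) (Steps.bwd (nat_lit 1) (Steps.fwd (nat_lit 16384) (Steps.bwd (nat_lit 1) Steps.nil)))))))))))) (nat_lit 195) (nat_lit 11),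
  Rule.mk (nat_lit 3) (nat_lit 89) (Steps.bwd (nat_lit 14) (Steps.fwd (nat_lit 57344) (Steps.bwd (nat_lit 4) (Steps.bwd (nat_lit 2) (Steps.bwd (nat_lit 8) Steps.nil))))) (nat_lit 177) (nat_lit 0),
  Rule.mk (nat_lit 5) (nat_lit 149) (Steps.bwd (nat_lit 3) (Steps.bwd (nat_lit 4) (Steps.bwd (nat_lit 5) (Steps.bwd (nat_lit 8) (Steps.fwd (nat_lit 73728) (Steps.fwd (nat_lit 98304) (Steps.bwd (nat_lit 13) (Steps.fwd (nat_lit 114688) (Steps.fwd (nat_lit 24576) Steps.nil))))))))) (nat_lit 170) (nat_lit 2),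
  Rule.mk (nat_lit 0) (nat_lit 194) (Steps.bwd (nat_lit 15) (Steps.fwd (nat_lit 16384) (Steps.fwd (nat_lit 8192) (Steps.bwd (nat_lit 4) (Steps.bwd (nat_lit 3) (Steps.fwd (nat_lit 8192) (Steps.bwd (nat_lit 2) (Steps.fwd (nat_lit 8192) (Steps.fwd (nat_lit 24576) (Steps.fwd (nat_lit 8192) (Steps.fwd (nat_lit 24576) (Steps.bwd (nat_lit 1) Steps.nil)))))))))))) (nat_lit 191) (nat_lit 11),
  Rule.mk (nat_lit 13) (nat_lit 134) (Steps.bwd (nat_lit 3) (Steps.fwd (nat_lit 114688) (Steps.bwd (nat_lit 13) (Steps.fwd (nat_lit 98304) (Steps.bwd (nat_lit 11) (Steps.fwd (nat_lit 81920) (Steps.fwd (nat_lit 49152) (Steps.bwd (nat_lit 2) Steps.nil)))))))) (nat_lit 187) (nat_lit 8),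
  Rule.mk (nat_lit 5) (nat_lit 149) (Steps.bwd (nat_lit 3) (Steps.bwd (nat_lit 4) (Steps.bwd (nat_lit 5) (Steps.fwd (nat_lit 65536) (Steps.fwd (nat_lit 73728) (Steps.bwd (nat_lit 12) (Steps.fwd (nat_lit 106496) (Steps.bwd (nat_lit 14) (Steps.bwd (nat_lit 2) Steps.nil))))))))) (nat_lit 170) (nat_lit 2),
  Rule.mk (nat_lit 15) (nat_lit 179) (Steps.bwd (nat_lit 3) (Steps.fwd (nat_lit 8192) (Steps.bwd (nat_lit 4) (Steps.fwd (nat_lit 16384) (Steps.fwd (nat_lit 8192) (Steps.bwd (nat_lit 2) (Steps.fwd (nat_lit 8192) (Steps.bwd (nat_lit 2) (Steps.bwd (nat_lit 1) (Steps.bwd (nat_lit 2) (Steps.fwd (nat_lit 8192) Steps.nil))))))))))) (nat_lit 191) (nat_lit 0),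
  Rule.mk (nat_lit 3) (nat_lit 104) (Steps.bwd (nat_lit 5) (Steps.bwd (nat_lit 7) (Steps.bwd (nat_lit 13) (Steps.fwd (nat_lit 114688) (Steps.bwd (nat_lit 2) (Steps.fwd (nat_lit 57344) Steps.nil)))))) (nat_lit 174) (nat_lit 3),
  Rule.mk (nat_lit 1) (nat_lit 179) (Steps.bwd (nat_lit 19) (Steps.bwd (nat_lit 3) (Steps.fwd (nat_lit 32768) (Steps.bwd (nat_lit 1) (Steps.fwd (nat_lit 24576) (Steps.bwd (nat_lit 1) (Steps.bwd (nat_lit 2) (Steps.fwd (nat_lit 8192) (Steps.fwd (nat_lit 16384) (Steps.fwd (nat_lit 8192) (Steps.bwd (nat_lit 3) Steps.nil))))))))))) (nat_lit 195) (nat_lit 11),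
  Rule.mk (nat_lit 8) (nat_lit 104) (Steps.bwd (nat_lit 1) (Steps.fwd (nat_lit 40960) (Steps.fwd (nat_lit 57344) (Steps.fwd (nat_lit 106496) (Steps.bwd (nat_lit 14) (Steps.bwd (nat_lit 1) Steps.nil)))))) (nat_lit 154) (nat_lit 2),
  Rule.mk (nat_lit 14) (nat_lit 134) (Steps.bwd (nat_lit 11) (Steps.fwd (nat_lit 73728) (Steps.fwd (nat_lit 65536) (Steps.bwd (nat_lit 5) (Steps.fwd (nat_lit 32768) (Steps.bwd (nat_lit 1) (Steps.fwd (nat_lit 81920) (Steps.bwd (nat_lit 1) Steps.nil)))))))) (nat_lit 159) (nat_lit 1),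
  Rule.mk (nat_lit 6) (nat_lit 149) (Steps.bwd (nat_lit 1) (Steps.fwd (nat_lit 32768) (Steps.fwd (nat_lit 40960) (Steps.fwd (nat_lit 65536) (Steps.fwd (nat_lit 73728) (Steps.bwd (nat_lit 12) (Steps.fwd (nat_lit 106496) (Steps.bwd (nat_lit 14) (Steps.bwd (nat_lit 1) Steps.nil))))))))) (nat_lit 150) (nat_lit 2),
  Rule.mk (nat_lit 7) (nat_lit 164) (Steps.fwd (nat_lit 8192) (Steps.bwd (nat_lit 14) (Steps.fwd (nat_lit 106496) (Steps.bwd (nat_lit 12) (Steps.fwd (nat_lit 90112) (Steps.fwd (nat_lit 81920) (Steps.fwd (nat_lit 73728) (Steps.bwd (nat_lit 6) (Steps.fwd (nat_lit 40960) (Steps.bwd (nat_lit 1) Steps.nil)))))))))) (nat_lit 153) (nat_lit 10),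
  Rule.mk (nat_lit 2) (nat_lit 104) (Steps.bwd (nat_lit 7) (Steps.fwd (nat_lit 16384) (Steps.bwd (nat_lit 5) (Steps.fwd (nat_lit 57344) (Steps.fwd (nat_lit 106496) (Steps.bwd (nat_lit 14) Steps.nil)))))) (nat_lit 174) (nat_lit 1),
  Rule.mk (nat_lit 0) (nat_lit 194) (Steps.bwd (nat_lit 17) (Steps.fwd (nat_lit 24576) (Steps.bwd (nat_lit 1) (Steps.fwd (nat_lit 24576) (Steps.bwd (nat_lit 1) (Steps.bwd (nat_lit 3) (Steps.bwd (nat_lit 1) (Steps.bwd (nat_lit 3) (Steps.fwd (nat_lit 8192) (Steps.bwd (nat_lit 4) (Steps.bwd (nat_lit 2) (Steps.fwd (nat_lit 8192) Steps.nil)))))))))))) (nat_lit 193) (nat_lit 11),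
  Rule.mk (nat_lit 17) (nat_lit 179) (Steps.bwd (nat_lit 2) (Steps.fwd (nat_lit 8192) (Steps.fwd (nat_lit 24576) (Steps.bwd (nat_lit 1) (Steps.bwd (nat_lit 3) (Steps.fwd (nat_lit 8192) (Steps.bwd (nat_lit 3) (Steps.fwd (nat_lit 8192) (Steps.bwd (nat_lit 4) (Steps.fwd (nat_lit 24576) (Steps.bwd (nat_lit 1) Steps.nil))))))))))) (nat_lit 193) (nat_lit 0),
  Rule.mk (nat_lit 16) (nat_lit 179) (Steps.fwd (nat_lit 8192) (Steps.bwd (nat_lit 3) (Steps.bwd (nat_lit 1) (Steps.bwd (nat_lit 3) (Steps.fwd (nat_lit 8192) (Steps.fwd (nat_lit 16384) (Steps.bwd (nat_lit 1) (Steps.fwd (nat_lit 24576) (Steps.bwd (nat_lit 4) (Steps.fwd (nat_lit 8192) (Steps.bwd (nat_lit 2) Steps.nil))))))))))) (nat_lit 190) (nat_lit 1),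
  Rule.mk (nat_lit 18) (nat_lit 179) (Steps.fwd (nat_lit 8192) (Steps.bwd (nat_lit 3) (Steps.fwd (nat_lit 32768) (Steps.fwd (nat_lit 8192) (Steps.bwd (nat_lit 2) (Steps.bwd (nat_lit 1) (Steps.bwd (nat_lit 2) (Steps.fwd (nat_lit 8192) (Steps.bwd (nat_lit 3) (Steps.bwd (nat_lit 1) (Steps.bwd (nat_lit 3) Steps.nil))))))))))) (nat_lit 192) (nat_lit 1),
  Rule.mk (nat_lit 17) (nat_lit 179) (Steps.bwd (nat_lit 2) (Steps.bwd (nat_lit 1) (Steps.bwd (nat_lit 2) (Steps.fwd (nat_lit 8192) (Steps.bwd (nat_lit 3) (Steps.bwd (nat_lit 1) (Steps.bwd (nat_lit 3) (Steps.fwd (nat_lit 8192) (Steps.fwd (nat_lit 32768) (Steps.fwd (nat_lit 24576) (Steps.fwd (nat_lit 8192) Steps.nil))))))))))) (nat_lit 193) (nat_lit 0),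
  Rule.mk (nat_lit 20) (nat_lit 179) (Steps.fwd (nat_lit 8192) (Steps.bwd (nat_lit 2) (Steps.bwd (nat_lit 1) (Steps.bwd (nat_lit 2) (Steps.fwd (nat_lit 8192) (Steps.bwd (nat_lit 3) (Steps.bwd (nat_lit 1) (Steps.bwd (nat_lit 3) (Steps.fwd (nat_lit 8192) (Steps.fwd (nat_lit 32768) (Steps.fwd (nat_lit 24576) Steps.nil))))))))))) (nat_lit 194) (nat_lit 1),
  Rule.mk (nat_lit 19) (nat_lit 179) (Steps.bwd (nat_lit 3) (Steps.fwd (nat_lit 32768) (Steps.fwd (nat_lit 8192) (Steps.bwd (nat_lit 2) (Steps.bwd (nat_lit 1) (Steps.bwd (nat_lit 2) (Steps.fwd (nat_lit 8192) (Steps.bwd (nat_lit 3) (Steps.bwd (nat_lit 1) (Steps.bwd (nat_lit 3) (Steps.fwd (nat_lit 8192) Steps.nil))))))))))) (nat_lit 195) (nat_lit 0),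
  Rule.mk (nat_lit 16) (nat_lit 179) (Steps.fwd (nat_lit 8192) (Steps.bwd (nat_lit 3) (Steps.bwd (nat_lit 1) (Steps.fwd (nat_lit 16384) (Steps.fwd (nat_lit 8192) (Steps.fwd (nat_lit 16384) (Steps.bwd (nat_lit 1) (Steps.fwd (nat_lit 24576) (Steps.bwd (nat_lit 4) (Steps.bwd (nat_lit 1) (Steps.bwd (nat_lit 2) Steps.nil))))))))))) (nat_lit 190) (nat_lit 1),
  Rule.mk (nat_lit 18) (nat_lit 179) (Steps.fwd (nat_lit 8192) (Steps.bwd (nat_lit 3) (Steps.fwd (nat_lit 32768) (Steps.fwd (nat_lit 8192) (Steps.fwd (nat_lit 24576) (Steps.bwd (nat_lit 1) (Steps.bwd (nat_lit 2) (Steps.bwd (nat_lit 1) (Steps.fwd (nat_lit 16384) (Steps.fwd (nat_lit 8192) (Steps.bwd (nat_lit 3) Steps.nil))))))))))) (nat_lit 192) (nat_lit 1),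
  Rule.mk (nat_lit 19) (nat_lit 179) (Steps.bwd (nat_lit 3) (Steps.fwd (nat_lit 32768) (Steps.fwd (nat_lit 8192) (Steps.fwd (nat_lit 24576) (Steps.bwd (nat_lit 1) (Steps.bwd (nat_lit 2) (Steps.bwd (nat_lit 1) (Steps.fwd (nat_lit 16384) (Steps.fwd (nat_lit 8192) (Steps.bwd (nat_lit 3) (Steps.fwd (nat_lit 8192) Steps.nil))))))))))) (nat_lit 195) (nat_lit 0),
  Rule.mk (nat_lit 2) (nat_lit 179) (Steps.bwd (nat_lit 20) (Steps.fwd (nat_lit 8192) (Steps.fwd (nat_lit 24576) (Steps.fwd (nat_lit 8192) (Steps.bwd (nat_lit 2) (Steps.fwd (nat_lit 8192) (Steps.fwd (nat_lit 16384) (Steps.bwd (nat_lit 1) (Steps.bwd (nat_lit 3) (Steps.fwd (nat_lit 8192) (Steps.fwd (nat_lit 32768) Steps.nil))))))))))) (nat_lit 194) (nat_lit 0),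
  Rule.mk (nat_lit 7) (nat_lit 104) (Steps.fwd (nat_lit 16384) (Steps.bwd (nat_lit 5) (Steps.bwd (nat_lit 7) (Steps.bwd (nat_lit 13) (Steps.fwd (nat_lit 114688) (Steps.bwd (nat_lit 2) Steps.nil)))))) (nat_lit 174) (nat_lit 2),
  Rule.mk (nat_lit 2) (nat_lit 179) (Steps.bwd (nat_lit 16) (Steps.fwd (nat_lit 8192) (Steps.fwd (nat_lit 16384) (Steps.bwd (nat_lit 1) (Steps.bwd (nat_lit 3) (Steps.bwd (nat_lit 1) (Steps.fwd (nat_lit 16384) (Steps.bwd (nat_lit 1) (Steps.fwd (nat_lit 24576) (Steps.bwd (nat_lit 4) (Steps.fwd (nat_lit 8192) Steps.nil))))))))))) (nat_lit 190) (nat_lit 0),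
  Rule.mk (nat_lit 9) (nat_lit 134) (Steps.bwd (nat_lit 3) (Steps.fwd (nat_lit 32768) (Steps.fwd (nat_lit 40960) (Steps.bwd (nat_lit 8) (Steps.fwd (nat_lit 73728) (Steps.bwd (nat_lit 11) (Steps.bwd (nat_lit 14) (Steps.bwd (nat_lit 2) Steps.nil)))))))) (nat_lit 178) (nat_lit 2),
  Rule.mk (nat_lit 13) (nat_lit 134) (Steps.fwd (nat_lit 16384) (Steps.bwd (nat_lit 6) (Steps.bwd (nat_lit 10) (Steps.fwd (nat_lit 90112) (Steps.fwd (nat_lit 98304) (Steps.fwd (nat_lit 106496) (Steps.bwd (nat_lit 14) (Steps.bwd (nat_lit 2) Steps.nil)))))))) (nat_lit 186) (nat_lit 2),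
  Rule.mk (nat_lit 6) (nat_lit 164) (Steps.fwd (nat_lit 16384) (Steps.fwd (nat_lit 40960) (Steps.bwd (nat_lit 6) (Steps.fwd (nat_lit 73728) (Steps.bwd (nat_lit 10) (Steps.fwd (nat_lit 90112) (Steps.fwd (nat_lit 98304) (Steps.fwd (nat_lit 106496) (Steps.bwd (nat_lit 14) (Steps.bwd (nat_lit 2) Steps.nil)))))))))) (nat_lit 172) (nat_lit 2),
  Rule.mk (nat_lit 11) (nat_lit 164) (Steps.fwd (nat_lit 16384) (Steps.fwd (nat_lit 32768) (Steps.bwd (nat_lit 5) (Steps.fwd (nat_lit 65536) (Steps.bwd (nat_lit 9) (Steps.fwd (nat_lit 81920) (Steps.fwd (nat_lit 90112) (Steps.fwd (nat_lit 98304) (Steps.bwd (nat_lit 14) (Steps.bwd (nat_lit 2) Steps.nil)))))))))) (nat_lit 182) (nat_lit 2),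
  Rule.mk (nat_lit 3) (nat_lit 179) (Steps.bwd (nat_lit 18) (Steps.fwd (nat_lit 8192) (Steps.fwd (nat_lit 16384) (Steps.fwd (nat_lit 32768) (Steps.bwd (nat_lit 1) (Steps.fwd (nat_lit 24576) (Steps.fwd (nat_lit 8192) (Steps.bwd (nat_lit 2) (Steps.fwd (nat_lit 8192) (Steps.bwd (nat_lit 3) (Steps.fwd (nat_lit 8192) Steps.nil))))))))))) (nat_lit 192) (nat_lit 0),
  Rule.mk (nat_lit 6) (nat_lit 134) (Steps.fwd (nat_lit 81920) (Steps.fwd (nat_lit 90112) (Steps.fwd (nat_lit 98304) (Steps.fwd (nat_lit 106496) (Steps.bwd (nat_lit 14) (Steps.bwd (nat_lit 2) (Steps.bwd (nat_lit 13) (Steps.bwd (nat_lit 3) Steps.nil)))))))) (nat_lit 186) (nat_lit 4),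
  Rule.mk (nat_lit 1) (nat_lit 179) (Steps.bwd (nat_lit 19) (Steps.fwd (nat_lit 16384) (Steps.fwd (nat_lit 32768) (Steps.bwd (nat_lit 1) (Steps.fwd (nat_lit 24576) (Steps.fwd (nat_lit 8192) (Steps.bwd (nat_lit 2) (Steps.fwd (nat_lit 8192) (Steps.bwd (nat_lit 3) (Steps.fwd (nat_lit 8192) (Steps.bwd (nat_lit 3) Steps.nil))))))))))) (nat_lit 195) (nat_lit 11),
  Rule.mk (nat_lit 0) (nat_lit 119) (Steps.fwd (nat_lit 8192) (Steps.bwd (nat_lit 6) (Steps.fwd (nat_lit 90112) (Steps.fwd (nat_lit 98304) (Steps.fwd (nat_lit 114688) (Steps.fwd (nat_lit 8192) (Steps.bwd (nat_lit 11) Steps.nil))))))) (nat_lit 160) (nat_lit 2),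
  Rule.mk (nat_lit 10) (nat_lit 134) (Steps.bwd (nat_lit 1) (Steps.bwd (nat_lit 4) (Steps.fwd (nat_lit 40960) (Steps.fwd (nat_lit 65536) (Steps.fwd (nat_lit 73728) (Steps.fwd (nat_lit 90112) (Steps.fwd (nat_lit 114688) (Steps.bwd (nat_lit 1) Steps.nil)))))))) (nat_lit 158) (nat_lit 2),
  Rule.mk (nat_lit 12) (nat_lit 164) (Steps.bwd (nat_lit 1) (Steps.bwd (nat_lit 4) (Steps.fwd (nat_lit 40960) (Steps.fwd (nat_lit 65536) (Steps.fwd (nat_lit 73728) (Steps.bwd (nat_lit 10) (Steps.bwd (nat_lit 11) (Steps.fwd (nat_lit 98304) (Steps.bwd (nat_lit 14) (Steps.bwd (nat_lit 1) Steps.nil)))))))))) (nat_lit 162) (nat_lit 2),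
  Rule.mk (nat_lit 15) (nat_lit 179) (Steps.bwd (nat_lit 3) (Steps.bwd (nat_lit 1) (Steps.bwd (nat_lit 4) (Steps.bwd (nat_lit 3) (Steps.fwd (nat_lit 8192) (Steps.bwd (nat_lit 2) (Steps.bwd (nat_lit 1) (Steps.fwd (nat_lit 24576) (Steps.bwd (nat_lit 1) (Steps.bwd (nat_lit 2) (Steps.fwd (nat_lit 8192) Steps.nil))))))))))) (nat_lit 191) (nat_lit 0),
  Rule.mk (nat_lit 13) (nat_lit 104) (Steps.bwd (nat_lit 1) (Steps.fwd (nat_lit 32768) (Steps.fwd (nat_lit 40960) (Steps.fwd (nat_lit 65536) (Steps.fwd (nat_lit 73728) (Steps.bwd (nat_lit 1) Steps.nil)))))) (nat_lit 164) (nat_lit 2),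
  Rule.mk (nat_lit 10) (nat_lit 134) (Steps.bwd (nat_lit 1) (Steps.fwd (nat_lit 32768) (Steps.fwd (nat_lit 40960) (Steps.fwd (nat_lit 65536) (Steps.fwd (nat_lit 73728) (Steps.fwd (nat_lit 90112) (Steps.bwd (nat_lit 14) (Steps.bwd (nat_lit 1) Steps.nil)))))))) (nat_lit 158) (nat_lit 2),
  Rule.mk (nat_lit 6) (nat_lit 134) (Steps.bwd (nat_lit 1) (Steps.fwd (nat_lit 114688) (Steps.bwd (nat_lit 1) (Steps.fwd (nat_lit 114688) (Steps.fwd (nat_lit 106496) (Steps.bwd (nat_lit 12) (Steps.fwd (nat_lit 90112) (Steps.bwd (nat_lit 10) Steps.nil)))))))) (nat_lit 167) (nat_lit 6),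
  Rule.mk (nat_lit 3) (nat_lit 164) (Steps.bwd (nat_lit 14) (Steps.bwd (nat_lit 13) (Steps.fwd (nat_lit 98304) (Steps.bwd (nat_lit 11) (Steps.bwd (nat_lit 10) (Steps.bwd (nat_lit 9) (Steps.fwd (nat_lit 49152) (Steps.bwd (nat_lit 5) (Steps.fwd (nat_lit 24576) (Steps.bwd (nat_lit 6) Steps.nil)))))))))) (nat_lit 173) (nat_lit 0),
  Rule.mk (nat_lit 16) (nat_lit 179) (Steps.fwd (nat_lit 8192) (Steps.fwd (nat_lit 16384) (Steps.fwd (nat_lit 8192) (Steps.bwd (nat_lit 3) (Steps.bwd (nat_lit 1) (Steps.fwd (nat_lit 16384) (Steps.bwd (nat_lit 1) (Steps.bwd (nat_lit 2) (Steps.bwd (nat_lit 4) (Steps.bwd (nat_lit 1) (Steps.fwd (nat_lit 24576) Steps.nil))))))))))) (nat_lit 190) (nat_lit 1),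
  Rule.mk (nat_lit 15) (nat_lit 179) (Steps.bwd (nat_lit 3) (Steps.bwd (nat_lit 1) (Steps.bwd (nat_lit 4) (Steps.bwd (nat_lit 3) (Steps.bwd (nat_lit 1) (Steps.fwd (nat_lit 24576) (Steps.fwd (nat_lit 8192) (Steps.bwd (nat_lit 2) (Steps.bwd (nat_lit 1) (Steps.bwd (nat_lit 2) (Steps.bwd (nat_lit 1) Steps.nil))))))))))) (nat_lit 191) (nat_lit 0),
  Rule.mk (nat_lit 17) (nat_lit 179) (Steps.fwd (nat_lit 24576) (Steps.bwd (nat_lit 1) (Steps.bwd (nat_lit 2) (Steps.fwd (nat_lit 8192) (Steps.bwd (nat_lit 3) (Steps.bwd (nat_lit 1) (Steps.fwd (nat_lit 16384) (Steps.bwd (nat_lit 1) (Steps.fwd (nat_lit 32768) (Steps.fwd (nat_lit 24576) (Steps.bwd (nat_lit 1) Steps.nil))))))))))) (nat_lit 193) (nat_lit 0),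
  Rule.mk (nat_lit 1) (nat_lit 179) (Steps.fwd (nat_lit 24576) (Steps.bwd (nat_lit 1) (Steps.bwd (nat_lit 2) (Steps.fwd (nat_lit 8192) (Steps.bwd (nat_lit 3) (Steps.bwd (nat_lit 1) (Steps.fwd (nat_lit 16384) (Steps.bwd (nat_lit 1) (Steps.fwd (nat_lit 32768) (Steps.fwd (nat_lit 24576) (Steps.fwd (nat_lit 155648) Steps.nil))))))))))) (nat_lit 194) (nat_lit 2),
  Rule.mk (nat_lit 7) (nat_lit 164) (Steps.bwd (nat_lit 1) (Steps.bwd (nat_lit 5) (Steps.bwd (nat_lit 6) (Steps.fwd (nat_lit 73728) (Steps.fwd (nat_lit 81920) (Steps.fwd (nat_lit 90112) (Steps.fwd (nat_lit 98304) (Steps.bwd (nat_lit 13) (Steps.fwd (nat_lit 114688) (Steps.fwd (nat_lit 8192) Steps.nil)))))))))) (nat_lit 152) (nat_lit 2),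
  Rule.mk (nat_lit 10) (nat_lit 59) (Steps.fwd (nat_lit 57344) (Steps.fwd (nat_lit 81920) (Steps.bwd (nat_lit 7) Steps.nil))) (nat_lit 72) (nat_lit 1),
  Rule.mk (nat_lit 3) (nat_lit 104) (Steps.bwd (nat_lit 5) (Steps.bwd (nat_lit 7) (Steps.fwd (nat_lit 106496) (Steps.bwd (nat_lit 14) (Steps.bwd (nat_lit 2) (Steps.bwd (nat_lit 7) Steps.nil)))))) (nat_lit 174) (nat_lit 3),
  Rule.mk (nat_lit 18) (nat_lit 179) (Steps.fwd (nat_lit 8192) (Steps.fwd (nat_lit 16384) (Steps.fwd (nat_lit 32768) (Steps.fwd (nat_lit 8192) (Steps.fwd (nat_lit 24576) (Steps.fwd (nat_lit 8192) (Steps.bwd (nat_lit 2) (Steps.fwd (nat_lit 8192) (Steps.bwd (nat_lit 3) (Steps.fwd (nat_lit 8192) (Steps.bwd (nat_lit 3) Steps.nil))))))))))) (nat_lit 192) (nat_lit 1),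
  Rule.mk (nat_lit 19) (nat_lit 179) (Steps.fwd (nat_lit 16384) (Steps.fwd (nat_lit 32768) (Steps.fwd (nat_lit 8192) (Steps.fwd (nat_lit 24576) (Steps.fwd (nat_lit 8192) (Steps.bwd (nat_lit 2) (Steps.fwd (nat_lit 8192) (Steps.bwd (nat_lit 3) (Steps.fwd (nat_lit 8192) (Steps.bwd (nat_lit 3) (Steps.bwd (nat_lit 1) Steps.nil))))))))))) (nat_lit 195) (nat_lit 0),
  Rule.mk (nat_lit 1) (nat_lit 179) (Steps.bwd (nat_lit 3) (Steps.fwd (nat_lit 8192) (Steps.bwd (nat_lit 3) (Steps.bwd (nat_lit 1) (Steps.fwd (nat_lit 16384) (Steps.fwd (nat_lit 8192) (Steps.bwd (nat_lit 2) (Steps.bwd (nat_lit 4) (Steps.bwd (nat_lit 1) (Steps.fwd (nat_lit 24576) (Steps.fwd (nat_lit 122880) Steps.nil))))))))))) (nat_lit 190) (nat_lit 2),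
  Rule.mk (nat_lit 15) (nat_lit 179) (Steps.bwd (nat_lit 3) (Steps.fwd (nat_lit 8192) (Steps.bwd (nat_lit 4) (Steps.bwd (nat_lit 3) (Steps.bwd (nat_lit 1) (Steps.fwd (nat_lit 24576) (Steps.bwd (nat_lit 1) (Steps.bwd (nat_lit 2) (Steps.fwd (nat_lit 8192) (Steps.fwd (nat_lit 24576) (Steps.fwd (nat_lit 8192) Steps.nil))))))))))) (nat_lit 191) (nat_lit 0),
  Rule.mk (nat_lit 19) (nat_lit 179) (Steps.bwd (nat_lit 3) (Steps.fwd (nat_lit 32768) (Steps.fwd (nat_lit 8192) (Steps.bwd (nat_lit 2) (Steps.fwd (nat_lit 8192) (Steps.bwd (nat_lit 2) (Steps.bwd (nat_lit 1) (Steps.bwd (nat_lit 3) (Steps.bwd (nat_lit 1) (Steps.fwd (nat_lit 16384) (Steps.fwd (nat_lit 8192) Steps.nil))))))))))) (nat_lit 195) (nat_lit 0),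
  Rule.mk (nat_lit 16) (nat_lit 179) (Steps.bwd (nat_lit 1) (Steps.bwd (nat_lit 3) (Steps.bwd (nat_lit 1) (Steps.fwd (nat_lit 16384) (Steps.fwd (nat_lit 8192) (Steps.bwd (nat_lit 3) (Steps.fwd (nat_lit 8192) (Steps.fwd (nat_lit 24576) (Steps.bwd (nat_lit 4) (Steps.fwd (nat_lit 8192) (Steps.bwd (nat_lit 2) Steps.nil))))))))))) (nat_lit 190) (nat_lit 1),
  Rule.mk (nat_lit 15) (nat_lit 179) (Steps.bwd (nat_lit 3) (Steps.fwd (nat_lit 8192) (Steps.bwd (nat_lit 4) (Steps.bwd (nat_lit 3) (Steps.bwd (nat_lit 1) (Steps.bwd (nat_lit 2) (Steps.fwd (nat_lit 8192) (Steps.bwd (nat_lit 2) (Steps.bwd (nat_lit 1) (Steps.bwd (nat_lit 2) (Steps.fwd (nat_lit 8192) Steps.nil))))))))))) (nat_lit 191) (nat_lit 0),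
  Rule.mk (nat_lit 0) (nat_lit 194) (Steps.fwd (nat_lit 24576) (Steps.fwd (nat_lit 8192) (Steps.bwd (nat_lit 2) (Steps.fwd (nat_lit 8192) (Steps.fwd (nat_lit 16384) (Steps.bwd (nat_lit 1) (Steps.fwd (nat_lit 16384) (Steps.fwd (nat_lit 8192) (Steps.bwd (nat_lit 4) (Steps.bwd (nat_lit 2) (Steps.bwd (nat_lit 1) (Steps.fwd (nat_lit 147456) Steps.nil)))))))))))) (nat_lit 193) (nat_lit 0),
  Rule.mk (nat_lit 17) (nat_lit 179) (Steps.fwd (nat_lit 24576) (Steps.bwd (nat_lit 1) (Steps.bwd (nat_lit 2) (Steps.fwd (nat_lit 8192) (Steps.bwd (nat_lit 3) (Steps.bwd (nat_lit 1) (Steps.fwd (nat_lit 16384) (Steps.bwd (nat_lit 1) (Steps.bwd (nat_lit 4) (Steps.bwd (nat_lit 2) (Steps.bwd (nat_lit 1) Steps.nil))))))))))) (nat_lit 193) (nat_lit 0),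
  Rule.mk (nat_lit 20) (nat_lit 179) (Steps.fwd (nat_lit 8192) (Steps.fwd (nat_lit 24576) (Steps.bwd (nat_lit 1) (Steps.bwd (nat_lit 2) (Steps.fwd (nat_lit 8192) (Steps.bwd (nat_lit 3) (Steps.bwd (nat_lit 1) (Steps.fwd (nat_lit 16384) (Steps.bwd (nat_lit 1) (Steps.bwd (nat_lit 4) (Steps.bwd (nat_lit 2) Steps.nil))))))))))) (nat_lit 194) (nat_lit 1),
  Rule.mk (nat_lit 1) (nat_lit 179) (Steps.bwd (nat_lit 19) (Steps.fwd (nat_lit 16384) (Steps.fwd (nat_lit 32768) (Steps.bwd (nat_lit 1) (Steps.bwd (nat_lit 2) (Steps.fwd (nat_lit 8192) (Steps.bwd (nat_lit 2) (Steps.bwd (nat_lit 1) (Steps.fwd (nat_lit 16384) (Steps.bwd (nat_lit 1) (Steps.bwd (nat_lit 3) Steps.nil))))))))))) (nat_lit 195) (nat_lit 11),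
  Rule.mk (nat_lit 14) (nat_lit 104) (Steps.bwd (nat_lit 13) (Steps.bwd (nat_lit 7) (Steps.fwd (nat_lit 40960) (Steps.fwd (nat_lit 8192) (Steps.bwd (nat_lit 8) (Steps.bwd (nat_lit 1) Steps.nil)))))) (nat_lit 155) (nat_lit 1),
  Rule.mk (nat_lit 6) (nat_lit 104) (Steps.bwd (nat_lit 11) (Steps.fwd (nat_lit 98304) (Steps.fwd (nat_lit 114688) (Steps.fwd (nat_lit 8192) (Steps.bwd (nat_lit 11) (Steps.bwd (nat_lit 1) Steps.nil)))))) (nat_lit 160) (nat_lit 4)]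
noncomputable def R_49 : List (Rule) := [Rule.mk (nat_lit 13) (nat_lit 104) (Steps.fwd (nat_lit 8192) (Steps.fwd (nat_lit 73728) (Steps.fwd (nat_lit 65536) (Steps.bwd (nat_lit 5) (Steps.bwd (nat_lit 4) (Steps.bwd (nat_lit 1) Steps.nil)))))) (nat_lit 165) (nat_lit 6),
  Rule.mk (nat_lit 10) (nat_lit 134) (Steps.fwd (nat_lit 8192) (Steps.bwd (nat_lit 14) (Steps.bwd (nat_lit 11) (Steps.fwd (nat_lit 73728) (Steps.fwd (nat_lit 65536) (Steps.bwd (nat_lit 5) (Steps.bwd (nat_lit 4) (Steps.bwd (nat_lit 1) Steps.nil)))))))) (nat_lit 159) (nat_lit 8),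
  Rule.mk (nat_lit 12) (nat_lit 164) (Steps.fwd (nat_lit 8192) (Steps.bwd (nat_lit 4) (Steps.fwd (nat_lit 40960) (Steps.bwd (nat_lit 8) (Steps.fwd (nat_lit 73728) (Steps.bwd (nat_lit 10) (Steps.fwd (nat_lit 90112) (Steps.fwd (nat_lit 98304) (Steps.bwd (nat_lit 14) (Steps.bwd (nat_lit 1) Steps.nil)))))))))) (nat_lit 162) (nat_lit 2),
  Rule.mk (nat_lit 0) (nat_lit 194) (Steps.bwd (nat_lit 18) (Steps.fwd (nat_lit 8192) (Steps.bwd (nat_lit 3) (Steps.fwd (nat_lit 32768) (Steps.fwd (nat_lit 8192) (Steps.fwd (nat_lit 24576) (Steps.fwd (nat_lit 8192) (Steps.bwd (nat_lit 2) (Steps.fwd (nat_lit 8192) (Steps.fwd (nat_lit 16384) (Steps.bwd (nat_lit 1) (Steps.fwd (nat_lit 16384) Steps.nil)))))))))))) (nat_lit 192) (nat_lit 0),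
  Rule.mk (nat_lit 20) (nat_lit 179) (Steps.bwd (nat_lit 1) (Steps.bwd (nat_lit 2) (Steps.fwd (nat_lit 8192) (Steps.bwd (nat_lit 2) (Steps.bwd (nat_lit 1) (Steps.fwd (nat_lit 16384) (Steps.bwd (nat_lit 1) (Steps.bwd (nat_lit 3) (Steps.bwd (nat_lit 1) (Steps.bwd (nat_lit 4) (Steps.fwd (nat_lit 24576) Steps.nil))))))))))) (nat_lit 194) (nat_lit 1),
  Rule.mk (nat_lit 3) (nat_lit 134) (Steps.bwd (nat_lit 6) (Steps.bwd (nat_lit 10) (Steps.fwd (nat_lit 90112) (Steps.bwd (nat_lit 12) (Steps.fwd (nat_lit 106496) (Steps.fwd (nat_lit 114688) (Steps.bwd (nat_lit 2) (Steps.fwd (nat_lit 106496) Steps.nil)))))))) (nat_lit 186) (nat_lit 3),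
  Rule.mk (nat_lit 16) (nat_lit 179) (Steps.fwd (nat_lit 8192) (Steps.bwd (nat_lit 3) (Steps.bwd (nat_lit 1) (Steps.fwd (nat_lit 16384) (Steps.fwd (nat_lit 8192) (Steps.bwd (nat_lit 3) (Steps.fwd (nat_lit 8192) (Steps.fwd (nat_lit 24576) (Steps.fwd (nat_lit 32768) (Steps.bwd (nat_lit 1) (Steps.fwd (nat_lit 24576) Steps.nil))))))))))) (nat_lit 190) (nat_lit 1),
  Rule.mk (nat_lit 16) (nat_lit 179) (Steps.bwd (nat_lit 1) (Steps.fwd (nat_lit 16384) (Steps.fwd (nat_lit 8192) (Steps.bwd (nat_lit 3) (Steps.fwd (nat_lit 8192) (Steps.fwd (nat_lit 16384) (Steps.fwd (nat_lit 8192) (Steps.fwd (nat_lit 24576) (Steps.bwd (nat_lit 4) (Steps.fwd (nat_lit 8192) (Steps.fwd (nat_lit 24576) Steps.nil))))))))))) (nat_lit 190) (nat_lit 1),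
  Rule.mk (nat_lit 0) (nat_lit 194) (Steps.bwd (nat_lit 16) (Steps.fwd (nat_lit 8192) (Steps.bwd (nat_lit 3) (Steps.fwd (nat_lit 8192) (Steps.fwd (nat_lit 16384) (Steps.fwd (nat_lit 8192) (Steps.bwd (nat_lit 3) (Steps.bwd (nat_lit 1) (Steps.bwd (nat_lit 2) (Steps.bwd (nat_lit 4) (Steps.fwd (nat_lit 8192) (Steps.bwd (nat_lit 2) Steps.nil)))))))))))) (nat_lit 190) (nat_lit 0),
  Rule.mk (nat_lit 15) (nat_lit 179) (Steps.bwd (nat_lit 3) (Steps.fwd (nat_lit 8192) (Steps.fwd (nat_lit 32768) (Steps.bwd (nat_lit 3) (Steps.fwd (nat_lit 8192) (Steps.bwd (nat_lit 2) (Steps.fwd (nat_lit 8192) (Steps.bwd (nat_lit 2) (Steps.fwd (nat_lit 8192) (Steps.bwd (nat_lit 2) (Steps.bwd (nat_lit 1) Steps.nil))))))))))) (nat_lit 191) (nat_lit 0),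
  Rule.mk (nat_lit 0) (nat_lit 194) (Steps.bwd (nat_lit 18) (Steps.fwd (nat_lit 8192) (Steps.bwd (nat_lit 3) (Steps.bwd (nat_lit 4) (Steps.fwd (nat_lit 8192) (Steps.bwd (nat_lit 2) (Steps.fwd (nat_lit 8192) (Steps.bwd (nat_lit 2) (Steps.fwd (nat_lit 8192) (Steps.fwd (nat_lit 16384) (Steps.bwd (nat_lit 1) (Steps.fwd (nat_lit 16384) Steps.nil)))))))))))) (nat_lit 192) (nat_lit 0),
  Rule.mk (nat_lit 17) (nat_lit 179) (Steps.bwd (nat_lit 2) (Steps.bwd (nat_lit 1) (Steps.fwd (nat_lit 24576) (Steps.fwd (nat_lit 8192) (Steps.bwd (nat_lit 3) (Steps.fwd (nat_lit 8192) (Steps.fwd (nat_lit 16384) (Steps.fwd (nat_lit 8192) (Steps.bwd (nat_lit 4) (Steps.bwd (nat_lit 2) (Steps.fwd (nat_lit 8192) Steps.nil))))))))))) (nat_lit 193) (nat_lit 0),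
  Rule.mk (nat_lit 20) (nat_lit 179) (Steps.fwd (nat_lit 8192) (Steps.bwd (nat_lit 2) (Steps.bwd (nat_lit 1) (Steps.fwd (nat_lit 24576) (Steps.fwd (nat_lit 8192) (Steps.bwd (nat_lit 3) (Steps.fwd (nat_lit 8192) (Steps.fwd (nat_lit 16384) (Steps.fwd (nat_lit 8192) (Steps.bwd (nat_lit 4) (Steps.bwd (nat_lit 2) Steps.nil))))))))))) (nat_lit 194) (nat_lit 1),
  Rule.mk (nat_lit 19) (nat_lit 179) (Steps.bwd (nat_lit 3) (Steps.bwd (nat_lit 4) (Steps.fwd (nat_lit 8192) (Steps.bwd (nat_lit 2) (Steps.fwd (nat_lit 8192) (Steps.bwd (nat_lit 2) (Steps.fwd (nat_lit 8192) (Steps.fwd (nat_lit 16384) (Steps.bwd (nat_lit 1) (Steps.fwd (nat_lit 16384) (Steps.bwd (nat_lit 1) Steps.nil))))))))))) (nat_lit 195) (nat_lit 0),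
  Rule.mk (nat_lit 1) (nat_lit 104) (Steps.bwd (nat_lit 11) (Steps.fwd (nat_lit 8192) (Steps.bwd (nat_lit 6) (Steps.fwd (nat_lit 90112) (Steps.bwd (nat_lit 12) (Steps.fwd (nat_lit 114688) Steps.nil)))))) (nat_lit 160) (nat_lit 1),
  Rule.mk (nat_lit 2) (nat_lit 164) (Steps.bwd (nat_lit 11) (Steps.fwd (nat_lit 16384) (Steps.fwd (nat_lit 32768) (Steps.bwd (nat_lit 5) (Steps.fwd (nat_lit 65536) (Steps.bwd (nat_lit 9) (Steps.bwd (nat_lit 10) (Steps.bwd (nat_lit 11) (Steps.bwd (nat_lit 12) (Steps.fwd (nat_lit 114688) Steps.nil)))))))))) (nat_lit 182) (nat_lit 1),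
  Rule.mk (nat_lit 17) (nat_lit 179) (Steps.bwd (nat_lit 2) (Steps.bwd (nat_lit 1) (Steps.bwd (nat_lit 2) (Steps.bwd (nat_lit 1) (Steps.fwd (nat_lit 16384) (Steps.fwd (nat_lit 8192) (Steps.bwd (nat_lit 3) (Steps.fwd (nat_lit 8192) (Steps.bwd (nat_lit 4) (Steps.bwd (nat_lit 2) (Steps.fwd (nat_lit 8192) Steps.nil))))))))))) (nat_lit 193) (nat_lit 0),
  Rule.mk (nat_lit 20) (nat_lit 179) (Steps.bwd (nat_lit 1) (Steps.bwd (nat_lit 2) (Steps.bwd (nat_lit 1) (Steps.bwd (nat_lit 2) (Steps.bwd (nat_lit 1) (Steps.fwd (nat_lit 16384) (Steps.fwd (nat_lit 8192) (Steps.bwd (nat_lit 3) (Steps.fwd (nat_lit 8192) (Steps.bwd (nat_lit 4) (Steps.bwd (nat_lit 2) Steps.nil))))))))))) (nat_lit 194) (nat_lit 1),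
  Rule.mk (nat_lit 15) (nat_lit 179) (Steps.bwd (nat_lit 3) (Steps.bwd (nat_lit 1) (Steps.bwd (nat_lit 4) (Steps.fwd (nat_lit 16384) (Steps.fwd (nat_lit 8192) (Steps.bwd (nat_lit 2) (Steps.fwd (nat_lit 8192) (Steps.bwd (nat_lit 2) (Steps.fwd (nat_lit 8192) (Steps.fwd (nat_lit 24576) (Steps.bwd (nat_lit 1) Steps.nil))))))))))) (nat_lit 191) (nat_lit 0),
  Rule.mk (nat_lit 0) (nat_lit 194) (Steps.bwd (nat_lit 16) (Steps.fwd (nat_lit 8192) (Steps.bwd (nat_lit 3) (Steps.bwd (nat_lit 1) (Steps.fwd (nat_lit 16384) (Steps.fwd (nat_lit 8192) (Steps.bwd (nat_lit 3) (Steps.fwd (nat_lit 8192) (Steps.bwd (nat_lit 2) (Steps.bwd (nat_lit 4) (Steps.fwd (nat_lit 8192) (Steps.fwd (nat_lit 24576) Steps.nil)))))))))))) (nat_lit 190) (nat_lit 0),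
  Rule.mk (nat_lit 1) (nat_lit 179) (Steps.bwd (nat_lit 17) (Steps.bwd (nat_lit 2) (Steps.fwd (nat_lit 8192) (Steps.bwd (nat_lit 2) (Steps.fwd (nat_lit 8192) (Steps.fwd (nat_lit 16384) (Steps.fwd (nat_lit 8192) (Steps.bwd (nat_lit 3) (Steps.bwd (nat_lit 1) (Steps.fwd (nat_lit 32768) (Steps.fwd (nat_lit 24576) Steps.nil))))))))))) (nat_lit 193) (nat_lit 11),
  Rule.mk (nat_lit 20) (nat_lit 179) (Steps.fwd (nat_lit 8192) (Steps.bwd (nat_lit 2) (Steps.fwd (nat_lit 8192) (Steps.bwd (nat_lit 2) (Steps.fwd (nat_lit 8192) (Steps.fwd (nat_lit 16384) (Steps.fwd (nat_lit 8192) (Steps.bwd (nat_lit 3) (Steps.bwd (nat_lit 1) (Steps.fwd (nat_lit 32768) (Steps.fwd (nat_lit 24576) Steps.nil))))))))))) (nat_lit 194) (nat_lit 1),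
  Rule.mk (nat_lit 19) (nat_lit 179) (Steps.fwd (nat_lit 16384) (Steps.bwd (nat_lit 4) (Steps.fwd (nat_lit 8192) (Steps.bwd (nat_lit 2) (Steps.fwd (nat_lit 8192) (Steps.bwd (nat_lit 2) (Steps.fwd (nat_lit 8192) (Steps.fwd (nat_lit 16384) (Steps.fwd (nat_lit 8192) (Steps.bwd (nat_lit 3) (Steps.bwd (nat_lit 1) Steps.nil))))))))))) (nat_lit 195) (nat_lit 0),
  Rule.mk (nat_lit 6) (nat_lit 104) (Steps.fwd (nat_lit 90112) (Steps.fwd (nat_lit 98304) (Steps.bwd (nat_lit 14) (Steps.bwd (nat_lit 1) (Steps.fwd (nat_lit 90112) (Steps.bwd (nat_lit 1) Steps.nil)))))) (nat_lit 160) (nat_lit 4),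
  Rule.mk (nat_lit 11) (nat_lit 104) (Steps.bwd (nat_lit 1) (Steps.bwd (nat_lit 14) (Steps.fwd (nat_lit 98304) (Steps.fwd (nat_lit 90112) (Steps.fwd (nat_lit 49152) (Steps.bwd (nat_lit 1) Steps.nil)))))) (nat_lit 161) (nat_lit 6),
  Rule.mk (nat_lit 14) (nat_lit 134) (Steps.bwd (nat_lit 11) (Steps.fwd (nat_lit 73728) (Steps.fwd (nat_lit 65536) (Steps.fwd (nat_lit 40960) (Steps.bwd (nat_lit 4) (Steps.bwd (nat_lit 1) (Steps.bwd (nat_lit 10) (Steps.bwd (nat_lit 1) Steps.nil)))))))) (nat_lit 159) (nat_lit 1),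
  Rule.mk (nat_lit 3) (nat_lit 179) (Steps.bwd (nat_lit 18) (Steps.fwd (nat_lit 8192) (Steps.bwd (nat_lit 3) (Steps.bwd (nat_lit 4) (Steps.bwd (nat_lit 1) (Steps.fwd (nat_lit 24576) (Steps.bwd (nat_lit 1) (Steps.bwd (nat_lit 2) (Steps.fwd (nat_lit 8192) (Steps.bwd (nat_lit 3) (Steps.bwd (nat_lit 1) Steps.nil))))))))))) (nat_lit 192) (nat_lit 0),
  Rule.mk (nat_lit 19) (nat_lit 179) (Steps.bwd (nat_lit 3) (Steps.bwd (nat_lit 4) (Steps.fwd (nat_lit 8192) (Steps.bwd (nat_lit 2) (Steps.fwd (nat_lit 8192) (Steps.fwd (nat_lit 24576) (Steps.fwd (nat_lit 8192) (Steps.bwd (nat_lit 3) (Steps.fwd (nat_lit 8192) (Steps.bwd (nat_lit 3) (Steps.bwd (nat_lit 1) Steps.nil))))))))))) (nat_lit 195) (nat_lit 0),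
  Rule.mk (nat_lit 0) (nat_lit 179) (Steps.fwd (nat_lit 24576) (Steps.bwd (nat_lit 6) (Steps.fwd (nat_lit 16384) (Steps.bwd (nat_lit 5) (Steps.fwd (nat_lit 49152) (Steps.fwd (nat_lit 73728) (Steps.fwd (nat_lit 81920) (Steps.fwd (nat_lit 90112) (Steps.bwd (nat_lit 12) (Steps.fwd (nat_lit 106496) (Steps.bwd (nat_lit 14) Steps.nil))))))))))) (nat_lit 172) (nat_lit 0),
  Rule.mk (nat_lit 10) (nat_lit 104) (Steps.bwd (nat_lit 3) (Steps.fwd (nat_lit 114688) (Steps.fwd (nat_lit 98304) (Steps.fwd (nat_lit 90112) (Steps.bwd (nat_lit 6) (Steps.fwd (nat_lit 24576) Steps.nil)))))) (nat_lit 181) (nat_lit 6),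
  Rule.mk (nat_lit 2) (nat_lit 179) (Steps.bwd (nat_lit 16) (Steps.fwd (nat_lit 8192) (Steps.fwd (nat_lit 16384) (Steps.fwd (nat_lit 8192) (Steps.bwd (nat_lit 3) (Steps.fwd (nat_lit 8192) (Steps.bwd (nat_lit 3) (Steps.bwd (nat_lit 1) (Steps.fwd (nat_lit 24576) (Steps.fwd (nat_lit 32768) (Steps.bwd (nat_lit 1) Steps.nil))))))))))) (nat_lit 190) (nat_lit 0),
  Rule.mk (nat_lit 16) (nat_lit 179) (Steps.fwd (nat_lit 8192) (Steps.bwd (nat_lit 3) (Steps.fwd (nat_lit 8192) (Steps.bwd (nat_lit 3) (Steps.bwd (nat_lit 1) (Steps.bwd (nat_lit 3) (Steps.fwd (nat_lit 8192) (Steps.fwd (nat_lit 24576) (Steps.bwd (nat_lit 4) (Steps.fwd (nat_lit 8192) (Steps.fwd (nat_lit 24576) Steps.nil))))))))))) (nat_lit 190) (nat_lit 1),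
  Rule.mk (nat_lit 17) (nat_lit 179) (Steps.fwd (nat_lit 24576) (Steps.fwd (nat_lit 8192) (Steps.fwd (nat_lit 24576) (Steps.fwd (nat_lit 8192) (Steps.bwd (nat_lit 3) (Steps.fwd (nat_lit 8192) (Steps.bwd (nat_lit 3) (Steps.bwd (nat_lit 1) (Steps.fwd (nat_lit 32768) (Steps.fwd (nat_lit 24576) (Steps.bwd (nat_lit 1) Steps.nil))))))))))) (nat_lit 193) (nat_lit 0),
  Rule.mk (nat_lit 10) (nat_lit 104) (Steps.fwd (nat_lit 16384) (Steps.fwd (nat_lit 114688) (Steps.fwd (nat_lit 98304) (Steps.bwd (nat_lit 11) (Steps.bwd (nat_lit 6) (Steps.bwd (nat_lit 2) Steps.nil)))))) (nat_lit 181) (nat_lit 6),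
  Rule.mk (nat_lit 13) (nat_lit 134) (Steps.fwd (nat_lit 16384) (Steps.fwd (nat_lit 49152) (Steps.bwd (nat_lit 10) (Steps.bwd (nat_lit 11) (Steps.bwd (nat_lit 12) (Steps.fwd (nat_lit 106496) (Steps.bwd (nat_lit 14) (Steps.bwd (nat_lit 2) Steps.nil)))))))) (nat_lit 186) (nat_lit 2),
  Rule.mk (nat_lit 20) (nat_lit 179) (Steps.fwd (nat_lit 8192) (Steps.fwd (nat_lit 24576) (Steps.fwd (nat_lit 8192) (Steps.bwd (nat_lit 2) (Steps.bwd (nat_lit 1) (Steps.fwd (nat_lit 16384) (Steps.fwd (nat_lit 8192) (Steps.fwd (nat_lit 16384) (Steps.bwd (nat_lit 1) (Steps.fwd (nat_lit 32768) (Steps.bwd (nat_lit 2) Steps.nil))))))))))) (nat_lit 194) (nat_lit 1),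
  Rule.mk (nat_lit 1) (nat_lit 104) (Steps.bwd (nat_lit 13) (Steps.fwd (nat_lit 8192) (Steps.bwd (nat_lit 4) (Steps.bwd (nat_lit 5) (Steps.bwd (nat_lit 8) (Steps.fwd (nat_lit 73728) Steps.nil)))))) (nat_lit 164) (nat_lit 1),
  Rule.mk (nat_lit 15) (nat_lit 179) (Steps.bwd (nat_lit 3) (Steps.fwd (nat_lit 8192) (Steps.bwd (nat_lit 4) (Steps.bwd (nat_lit 3) (Steps.bwd (nat_lit 1) (Steps.bwd (nat_lit 2) (Steps.bwd (nat_lit 1) (Steps.fwd (nat_lit 24576) (Steps.bwd (nat_lit 1) (Steps.bwd (nat_lit 2) (Steps.bwd (nat_lit 1) Steps.nil))))))))))) (nat_lit 191) (nat_lit 0),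
  Rule.mk (nat_lit 15) (nat_lit 179) (Steps.bwd (nat_lit 3) (Steps.fwd (nat_lit 8192) (Steps.bwd (nat_lit 4) (Steps.bwd (nat_lit 3) (Steps.bwd (nat_lit 1) (Steps.bwd (nat_lit 2) (Steps.bwd (nat_lit 1) (Steps.bwd (nat_lit 2) (Steps.bwd (nat_lit 1) (Steps.fwd (nat_lit 24576) (Steps.bwd (nat_lit 1) Steps.nil))))))))))) (nat_lit 191) (nat_lit 0),
  Rule.mk (nat_lit 18) (nat_lit 179) (Steps.bwd (nat_lit 1) (Steps.fwd (nat_lit 16384) (Steps.bwd (nat_lit 4) (Steps.bwd (nat_lit 1) (Steps.fwd (nat_lit 24576) (Steps.bwd (nat_lit 1) (Steps.bwd (nat_lit 2) (Steps.bwd (nat_lit 1) (Steps.fwd (nat_lit 16384) (Steps.fwd (nat_lit 8192) (Steps.bwd (nat_lit 3) Steps.nil))))))))))) (nat_lit 192) (nat_lit 1),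
  Rule.mk (nat_lit 0) (nat_lit 194) (Steps.bwd (nat_lit 1) (Steps.bwd (nat_lit 3) (Steps.bwd (nat_lit 4) (Steps.bwd (nat_lit 1) (Steps.bwd (nat_lit 2) (Steps.bwd (nat_lit 1) (Steps.fwd (nat_lit 24576) (Steps.bwd (nat_lit 1) (Steps.fwd (nat_lit 16384) (Steps.bwd (nat_lit 1) (Steps.bwd (nat_lit 3) (Steps.fwd (nat_lit 139264) Steps.nil)))))))))))) (nat_lit 192) (nat_lit 1),
  Rule.mk (nat_lit 18) (nat_lit 179) (Steps.bwd (nat_lit 1) (Steps.fwd (nat_lit 16384) (Steps.bwd (nat_lit 4) (Steps.fwd (nat_lit 8192) (Steps.bwd (nat_lit 2) (Steps.bwd (nat_lit 1) (Steps.bwd (nat_lit 2) (Steps.fwd (nat_lit 8192) (Steps.fwd (nat_lit 16384) (Steps.bwd (nat_lit 1) (Steps.bwd (nat_lit 3) Steps.nil))))))))))) (nat_lit 192) (nat_lit 1),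
  Rule.mk (nat_lit 0) (nat_lit 194) (Steps.bwd (nat_lit 19) (Steps.bwd (nat_lit 3) (Steps.bwd (nat_lit 4) (Steps.fwd (nat_lit 8192) (Steps.fwd (nat_lit 24576) (Steps.fwd (nat_lit 8192) (Steps.bwd (nat_lit 2) (Steps.fwd (nat_lit 8192) (Steps.bwd (nat_lit 3) (Steps.fwd (nat_lit 8192) (Steps.fwd (nat_lit 16384) (Steps.fwd (nat_lit 8192) Steps.nil)))))))))))) (nat_lit 195) (nat_lit 11),
  Rule.mk (nat_lit 0) (nat_lit 194) (Steps.bwd (nat_lit 19) (Steps.bwd (nat_lit 3) (Steps.bwd (nat_lit 4) (Steps.bwd (nat_lit 1) (Steps.bwd (nat_lit 2) (Steps.bwd (nat_lit 1) (Steps.fwd (nat_lit 24576) (Steps.bwd (nat_lit 1) (Steps.fwd (nat_lit 16384) (Steps.bwd (nat_lit 1) (Steps.bwd (nat_lit 3) (Steps.fwd (nat_lit 8192) Steps.nil)))))))))))) (nat_lit 195) (nat_lit 11),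
  Rule.mk (nat_lit 17) (nat_lit 179) (Steps.bwd (nat_lit 2) (Steps.bwd (nat_lit 1) (Steps.fwd (nat_lit 24576) (Steps.bwd (nat_lit 1) (Steps.fwd (nat_lit 16384) (Steps.bwd (nat_lit 1) (Steps.bwd (nat_lit 3) (Steps.fwd (nat_lit 8192) (Steps.fwd (nat_lit 32768) (Steps.fwd (nat_lit 24576) (Steps.bwd (nat_lit 1) Steps.nil))))))))))) (nat_lit 193) (nat_lit 0),
  Rule.mk (nat_lit 7) (nat_lit 89) (Steps.bwd (nat_lit 14) (Steps.bwd (nat_lit 1) (Steps.fwd (nat_lit 73728) (Steps.fwd (nat_lit 8192) (Steps.bwd (nat_lit 4) Steps.nil))))) (nat_lit 156) (nat_lit 5),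
  Rule.mk (nat_lit 16) (nat_lit 179) (Steps.fwd (nat_lit 8192) (Steps.fwd (nat_lit 16384) (Steps.fwd (nat_lit 8192) (Steps.fwd (nat_lit 16384) (Steps.fwd (nat_lit 8192) (Steps.fwd (nat_lit 16384) (Steps.fwd (nat_lit 8192) (Steps.bwd (nat_lit 2) (Steps.bwd (nat_lit 4) (Steps.bwd (nat_lit 1) (Steps.bwd (nat_lit 2) Steps.nil))))))))))) (nat_lit 190) (nat_lit 1),
  Rule.mk (nat_lit 2) (nat_lit 104) (Steps.bwd (nat_lit 12) (Steps.fwd (nat_lit 16384) (Steps.bwd (nat_lit 4) (Steps.fwd (nat_lit 40960) (Steps.bwd (nat_lit 8) (Steps.bwd (nat_lit 9) Steps.nil)))))) (nat_lit 184) (nat_lit 1),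
  Rule.mk (nat_lit 17) (nat_lit 179) (Steps.bwd (nat_lit 2) (Steps.bwd (nat_lit 1) (Steps.fwd (nat_lit 24576) (Steps.fwd (nat_lit 8192) (Steps.fwd (nat_lit 16384) (Steps.bwd (nat_lit 1) (Steps.bwd (nat_lit 3) (Steps.bwd (nat_lit 1) (Steps.bwd (nat_lit 4) (Steps.fwd (nat_lit 24576) (Steps.bwd (nat_lit 1) Steps.nil))))))))))) (nat_lit 193) (nat_lit 0),
  Rule.mk (nat_lit 1) (nat_lit 179) (Steps.bwd (nat_lit 17) (Steps.bwd (nat_lit 2) (Steps.fwd (nat_lit 8192) (Steps.fwd (nat_lit 24576) (Steps.fwd (nat_lit 8192) (Steps.fwd (nat_lit 16384) (Steps.bwd (nat_lit 1) (Steps.fwd (nat_lit 16384) (Steps.bwd (nat_lit 1) (Steps.bwd (nat_lit 4) (Steps.fwd (nat_lit 24576) Steps.nil))))))))))) (nat_lit 193) (nat_lit 11),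
  Rule.mk (nat_lit 8) (nat_lit 104) (Steps.bwd (nat_lit 1) (Steps.fwd (nat_lit 40960) (Steps.bwd (nat_lit 7) (Steps.fwd (nat_lit 106496) (Steps.fwd (nat_lit 114688) (Steps.bwd (nat_lit 1) Steps.nil)))))) (nat_lit 154) (nat_lit 2),
  Rule.mk (nat_lit 10) (nat_lit 134) (Steps.fwd (nat_lit 8192) (Steps.fwd (nat_lit 32768) (Steps.fwd (nat_lit 40960) (Steps.bwd (nat_lit 8) (Steps.fwd (nat_lit 73728) (Steps.bwd (nat_lit 11) (Steps.fwd (nat_lit 114688) (Steps.bwd (nat_lit 1) Steps.nil)))))))) (nat_lit 158) (nat_lit 2),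
  Rule.mk (nat_lit 6) (nat_lit 134) (Steps.bwd (nat_lit 10) (Steps.fwd (nat_lit 90112) (Steps.bwd (nat_lit 12) (Steps.bwd (nat_lit 13) (Steps.fwd (nat_lit 114688) (Steps.bwd (nat_lit 1) (Steps.fwd (nat_lit 114688) (Steps.bwd (nat_lit 1) Steps.nil)))))))) (nat_lit 166) (nat_lit 4),
  Rule.mk (nat_lit 3) (nat_lit 134) (Steps.bwd (nat_lit 6) (Steps.bwd (nat_lit 10) (Steps.fwd (nat_lit 90112) (Steps.bwd (nat_lit 12) (Steps.bwd (nat_lit 13) (Steps.fwd (nat_lit 114688) (Steps.bwd (nat_lit 2) (Steps.fwd (nat_lit 106496) Steps.nil)))))))) (nat_lit 186) (nat_lit 3),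
  Rule.mk (nat_lit 16) (nat_lit 179) (Steps.bwd (nat_lit 1) (Steps.bwd (nat_lit 3) (Steps.fwd (nat_lit 8192) (Steps.bwd (nat_lit 3) (Steps.bwd (nat_lit 1) (Steps.bwd (nat_lit 3) (Steps.fwd (nat_lit 8192) (Steps.fwd (nat_lit 24576) (Steps.fwd (nat_lit 32768) (Steps.fwd (nat_lit 8192) (Steps.fwd (nat_lit 24576) Steps.nil))))))))))) (nat_lit 190) (nat_lit 1),
  Rule.mk (nat_lit 16) (nat_lit 179) (Steps.fwd (nat_lit 8192) (Steps.bwd (nat_lit 3) (Steps.bwd (nat_lit 1) (Steps.bwd (nat_lit 3) (Steps.fwd (nat_lit 8192) (Steps.bwd (nat_lit 3) (Steps.bwd (nat_lit 1) (Steps.bwd (nat_lit 2) (Steps.fwd (nat_lit 32768) (Steps.fwd (nat_lit 8192) (Steps.bwd (nat_lit 2) Steps.nil))))))))))) (nat_lit 190) (nat_lit 1),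
  Rule.mk (nat_lit 0) (nat_lit 194) (Steps.bwd (nat_lit 15) (Steps.fwd (nat_lit 16384) (Steps.bwd (nat_lit 1) (Steps.bwd (nat_lit 4) (Steps.fwd (nat_lit 16384) (Steps.fwd (nat_lit 8192) (Steps.fwd (nat_lit 24576) (Steps.fwd (nat_lit 8192) (Steps.fwd (nat_lit 24576) (Steps.bwd (nat_lit 1) (Steps.fwd (nat_lit 24576) (Steps.fwd (nat_lit 8192) Steps.nil)))))))))))) (nat_lit 191) (nat_lit 11),
  Rule.mk (nat_lit 15) (nat_lit 179) (Steps.bwd (nat_lit 3) (Steps.fwd (nat_lit 8192) (Steps.fwd (nat_lit 32768) (Steps.bwd (nat_lit 3) (Steps.fwd (nat_lit 8192) (Steps.bwd (nat_lit 2) (Steps.fwd (nat_lit 8192) (Steps.bwd (nat_lit 2) (Steps.bwd (nat_lit 1) (Steps.bwd (nat_lit 2) (Steps.bwd (nat_lit 1) Steps.nil))))))))))) (nat_lit 191) (nat_lit 0),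
  Rule.mk (nat_lit 18) (nat_lit 179) (Steps.fwd (nat_lit 8192) (Steps.bwd (nat_lit 3) (Steps.bwd (nat_lit 4) (Steps.fwd (nat_lit 8192) (Steps.bwd (nat_lit 2) (Steps.bwd (nat_lit 1) (Steps.fwd (nat_lit 24576) (Steps.bwd (nat_lit 1) (Steps.bwd (nat_lit 3) (Steps.fwd (nat_lit 8192) (Steps.bwd (nat_lit 3) Steps.nil))))))))))) (nat_lit 192) (nat_lit 1),
  Rule.mk (nat_lit 2) (nat_lit 179) (Steps.bwd (nat_lit 1) (Steps.bwd (nat_lit 2) (Steps.fwd (nat_lit 8192) (Steps.bwd (nat_lit 3) (Steps.bwd (nat_lit 1) (Steps.bwd (nat_lit 3) (Steps.fwd (nat_lit 8192) (Steps.fwd (nat_lit 32768) (Steps.fwd (nat_lit 24576) (Steps.fwd (nat_lit 8192) (Steps.fwd (nat_lit 147456) Steps.nil))))))))))) (nat_lit 193) (nat_lit 1),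
  Rule.mk (nat_lit 17) (nat_lit 179) (Steps.bwd (nat_lit 2) (Steps.bwd (nat_lit 1) (Steps.fwd (nat_lit 24576) (Steps.bwd (nat_lit 1) (Steps.bwd (nat_lit 3) (Steps.fwd (nat_lit 8192) (Steps.bwd (nat_lit 3) (Steps.bwd (nat_lit 1) (Steps.fwd (nat_lit 32768) (Steps.bwd (nat_lit 2) (Steps.fwd (nat_lit 8192) Steps.nil))))))))))) (nat_lit 193) (nat_lit 0),
  Rule.mk (nat_lit 1) (nat_lit 179) (Steps.bwd (nat_lit 2) (Steps.bwd (nat_lit 1) (Steps.bwd (nat_lit 2) (Steps.fwd (nat_lit 8192) (Steps.bwd (nat_lit 3) (Steps.bwd (nat_lit 1) (Steps.bwd (nat_lit 3) (Steps.fwd (nat_lit 8192) (Steps.fwd (nat_lit 32768) (Steps.fwd (nat_lit 24576) (Steps.fwd (nat_lit 155648) Steps.nil))))))))))) (nat_lit 194) (nat_lit 2),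
  Rule.mk (nat_lit 20) (nat_lit 179) (Steps.fwd (nat_lit 8192) (Steps.bwd (nat_lit 2) (Steps.bwd (nat_lit 1) (Steps.fwd (nat_lit 24576) (Steps.bwd (nat_lit 1) (Steps.bwd (nat_lit 3) (Steps.fwd (nat_lit 8192) (Steps.bwd (nat_lit 3) (Steps.bwd (nat_lit 1) (Steps.fwd (nat_lit 32768) (Steps.bwd (nat_lit 2) Steps.nil))))))))))) (nat_lit 194) (nat_lit 1),
  Rule.mk (nat_lit 19) (nat_lit 179) (Steps.bwd (nat_lit 3) (Steps.bwd (nat_lit 4) (Steps.fwd (nat_lit 8192) (Steps.bwd (nat_lit 2) (Steps.bwd (nat_lit 1) (Steps.fwd (nat_lit 24576) (Steps.bwd (nat_lit 1) (Steps.bwd (nat_lit 3) (Steps.fwd (nat_lit 8192) (Steps.bwd (nat_lit 3) (Steps.bwd (nat_lit 1) Steps.nil))))))))))) (nat_lit 195) (nat_lit 0)]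
noncomputable def R_50 : List (Rule) := [Rule.mk (nat_lit 14) (nat_lit 104) (Steps.bwd (nat_lit 2) (Steps.fwd (nat_lit 57344) (Steps.bwd (nat_lit 3) (Steps.bwd (nat_lit 5) (Steps.bwd (nat_lit 7) (Steps.bwd (nat_lit 13) Steps.nil)))))) (nat_lit 174) (nat_lit 0),
  Rule.mk (nat_lit 0) (nat_lit 194) (Steps.bwd (nat_lit 17) (Steps.bwd (nat_lit 2) (Steps.bwd (nat_lit 1) (Steps.bwd (nat_lit 2) (Steps.fwd (nat_lit 8192) (Steps.bwd (nat_lit 3) (Steps.bwd (nat_lit 1) (Steps.bwd (nat_lit 3) (Steps.bwd (nat_lit 1) (Steps.bwd (nat_lit 4) (Steps.bwd (nat_lit 2) (Steps.bwd (nat_lit 1) Steps.nil)))))))))))) (nat_lit 193) (nat_lit 11),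
  Rule.mk (nat_lit 0) (nat_lit 194) (Steps.bwd (nat_lit 20) (Steps.bwd (nat_lit 1) (Steps.bwd (nat_lit 2) (Steps.bwd (nat_lit 1) (Steps.bwd (nat_lit 2) (Steps.fwd (nat_lit 8192) (Steps.bwd (nat_lit 3) (Steps.bwd (nat_lit 1) (Steps.bwd (nat_lit 3) (Steps.bwd (nat_lit 1) (Steps.bwd (nat_lit 4) (Steps.bwd (nat_lit 2) Steps.nil)))))))))))) (nat_lit 194) (nat_lit 0),
  Rule.mk (nat_lit 8) (nat_lit 104) (Steps.fwd (nat_lit 8192) (Steps.bwd (nat_lit 5) (Steps.bwd (nat_lit 7) (Steps.bwd (nat_lit 13) (Steps.bwd (nat_lit 14) (Steps.fwd (nat_lit 8192) Steps.nil)))))) (nat_lit 154) (nat_lit 2),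
  Rule.mk (nat_lit 10) (nat_lit 134) (Steps.bwd (nat_lit 1) (Steps.bwd (nat_lit 4) (Steps.fwd (nat_lit 40960) (Steps.bwd (nat_lit 8) (Steps.bwd (nat_lit 9) (Steps.fwd (nat_lit 90112) (Steps.bwd (nat_lit 14) (Steps.fwd (nat_lit 8192) Steps.nil)))))))) (nat_lit 158) (nat_lit 2),
  Rule.mk (nat_lit 14) (nat_lit 134) (Steps.fwd (nat_lit 8192) (Steps.bwd (nat_lit 6) (Steps.bwd (nat_lit 10) (Steps.bwd (nat_lit 11) (Steps.fwd (nat_lit 98304) (Steps.bwd (nat_lit 13) (Steps.bwd (nat_lit 14) (Steps.fwd (nat_lit 8192) Steps.nil)))))))) (nat_lit 166) (nat_lit 2),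
  Rule.mk (nat_lit 8) (nat_lit 104) (Steps.fwd (nat_lit 8192) (Steps.bwd (nat_lit 14) (Steps.bwd (nat_lit 13) (Steps.fwd (nat_lit 57344) (Steps.bwd (nat_lit 5) (Steps.fwd (nat_lit 8192) Steps.nil)))))) (nat_lit 155) (nat_lit 6),
  Rule.mk (nat_lit 3) (nat_lit 104) (Steps.bwd (nat_lit 14) (Steps.bwd (nat_lit 13) (Steps.fwd (nat_lit 57344) (Steps.bwd (nat_lit 5) (Steps.bwd (nat_lit 2) (Steps.fwd (nat_lit 57344) Steps.nil)))))) (nat_lit 175) (nat_lit 0),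
  Rule.mk (nat_lit 4) (nat_lit 59) (Steps.fwd (nat_lit 24576) (Steps.bwd (nat_lit 4) (Steps.bwd (nat_lit 3) Steps.nil))) (nat_lit 168) (nat_lit 0),
  Rule.mk (nat_lit 0) (nat_lit 194) (Steps.bwd (nat_lit 15) (Steps.bwd (nat_lit 3) (Steps.bwd (nat_lit 1) (Steps.bwd (nat_lit 4) (Steps.bwd (nat_lit 3) (Steps.fwd (nat_lit 8192) (Steps.bwd (nat_lit 2) (Steps.fwd (nat_lit 8192) (Steps.fwd (nat_lit 24576) (Steps.bwd (nat_lit 1) (Steps.fwd (nat_lit 24576) (Steps.fwd (nat_lit 8192) Steps.nil)))))))))))) (nat_lit 191) (nat_lit 11),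
  Rule.mk (nat_lit 17) (nat_lit 179) (Steps.bwd (nat_lit 2) (Steps.fwd (nat_lit 8192) (Steps.bwd (nat_lit 2) (Steps.bwd (nat_lit 1) (Steps.bwd (nat_lit 3) (Steps.fwd (nat_lit 8192) (Steps.bwd (nat_lit 3) (Steps.bwd (nat_lit 1) (Steps.fwd (nat_lit 32768) (Steps.bwd (nat_lit 2) (Steps.fwd (nat_lit 8192) Steps.nil))))))))))) (nat_lit 193) (nat_lit 0),
  Rule.mk (nat_lit 17) (nat_lit 179) (Steps.fwd (nat_lit 24576) (Steps.fwd (nat_lit 8192) (Steps.fwd (nat_lit 24576) (Steps.bwd (nat_lit 1) (Steps.fwd (nat_lit 16384) (Steps.fwd (nat_lit 8192) (Steps.fwd (nat_lit 16384) (Steps.fwd (nat_lit 8192) (Steps.bwd (nat_lit 4) (Steps.fwd (nat_lit 24576) (Steps.bwd (nat_lit 1) Steps.nil))))))))))) (nat_lit 193) (nat_lit 0),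
  Rule.mk (nat_lit 20) (nat_lit 179) (Steps.bwd (nat_lit 1) (Steps.fwd (nat_lit 24576) (Steps.fwd (nat_lit 8192) (Steps.fwd (nat_lit 24576) (Steps.bwd (nat_lit 1) (Steps.fwd (nat_lit 16384) (Steps.fwd (nat_lit 8192) (Steps.fwd (nat_lit 16384) (Steps.fwd (nat_lit 8192) (Steps.bwd (nat_lit 4) (Steps.fwd (nat_lit 24576) Steps.nil))))))))))) (nat_lit 194) (nat_lit 1),
  Rule.mk (nat_lit 7) (nat_lit 59) (Steps.fwd (nat_lit 65536) (Steps.fwd (nat_lit 57344) (Steps.bwd (nat_lit 8) Steps.nil))) (nat_lit 54) (nat_lit 0),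
  Rule.mk (nat_lit 0) (nat_lit 194) (Steps.bwd (nat_lit 15) (Steps.bwd (nat_lit 3) (Steps.bwd (nat_lit 1) (Steps.bwd (nat_lit 4) (Steps.fwd (nat_lit 16384) (Steps.bwd (nat_lit 1) (Steps.fwd (nat_lit 24576) (Steps.bwd (nat_lit 1) (Steps.bwd (nat_lit 2) (Steps.bwd (nat_lit 1) (Steps.bwd (nat_lit 2) (Steps.fwd (nat_lit 8192) Steps.nil)))))))))))) (nat_lit 191) (nat_lit 11),
  Rule.mk (nat_lit 1) (nat_lit 104) (Steps.bwd (nat_lit 11) (Steps.bwd (nat_lit 1) (Steps.bwd (nat_lit 14) (Steps.bwd (nat_lit 12) (Steps.bwd (nat_lit 11) (Steps.bwd (nat_lit 6) Steps.nil)))))) (nat_lit 161) (nat_lit 5),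
  Rule.mk (nat_lit 2) (nat_lit 164) (Steps.bwd (nat_lit 11) (Steps.bwd (nat_lit 3) (Steps.bwd (nat_lit 4) (Steps.bwd (nat_lit 5) (Steps.bwd (nat_lit 8) (Steps.bwd (nat_lit 9) (Steps.bwd (nat_lit 10) (Steps.fwd (nat_lit 90112) (Steps.fwd (nat_lit 98304) (Steps.fwd (nat_lit 114688) Steps.nil)))))))))) (nat_lit 182) (nat_lit 1),
  Rule.mk (nat_lit 17) (nat_lit 179) (Steps.bwd (nat_lit 2) (Steps.fwd (nat_lit 8192) (Steps.bwd (nat_lit 2) (Steps.bwd (nat_lit 1) (Steps.bwd (nat_lit 3) (Steps.fwd (nat_lit 8192) (Steps.fwd (nat_lit 16384) (Steps.bwd (nat_lit 1) (Steps.fwd (nat_lit 32768) (Steps.bwd (nat_lit 2) (Steps.bwd (nat_lit 1) Steps.nil))))))))))) (nat_lit 193) (nat_lit 0),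
  Rule.mk (nat_lit 1) (nat_lit 179) (Steps.bwd (nat_lit 2) (Steps.fwd (nat_lit 8192) (Steps.bwd (nat_lit 2) (Steps.bwd (nat_lit 1) (Steps.bwd (nat_lit 3) (Steps.fwd (nat_lit 8192) (Steps.fwd (nat_lit 16384) (Steps.bwd (nat_lit 1) (Steps.fwd (nat_lit 32768) (Steps.bwd (nat_lit 2) (Steps.fwd (nat_lit 155648) Steps.nil))))))))))) (nat_lit 194) (nat_lit 2),
  Rule.mk (nat_lit 10) (nat_lit 134) (Steps.bwd (nat_lit 1) (Steps.bwd (nat_lit 14) (Steps.bwd (nat_lit 11) (Steps.bwd (nat_lit 9) (Steps.bwd (nat_lit 8) (Steps.fwd (nat_lit 40960) (Steps.fwd (nat_lit 32768) (Steps.fwd (nat_lit 8192) Steps.nil)))))))) (nat_lit 159) (nat_lit 8),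
  Rule.mk (nat_lit 7) (nat_lit 164) (Steps.bwd (nat_lit 1) (Steps.bwd (nat_lit 5) (Steps.bwd (nat_lit 6) (Steps.bwd (nat_lit 9) (Steps.bwd (nat_lit 10) (Steps.bwd (nat_lit 11) (Steps.bwd (nat_lit 12) (Steps.fwd (nat_lit 106496) (Steps.bwd (nat_lit 14) (Steps.fwd (nat_lit 8192) Steps.nil)))))))))) (nat_lit 152) (nat_lit 2),
  Rule.mk (nat_lit 12) (nat_lit 164) (Steps.bwd (nat_lit 1) (Steps.bwd (nat_lit 14) (Steps.bwd (nat_lit 12) (Steps.bwd (nat_lit 11) (Steps.fwd (nat_lit 81920) (Steps.fwd (nat_lit 73728) (Steps.fwd (nat_lit 65536) (Steps.fwd (nat_lit 40960) (Steps.fwd (nat_lit 32768) (Steps.bwd (nat_lit 1) Steps.nil)))))))))) (nat_lit 163) (nat_lit 10),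
  Rule.mk (nat_lit 16) (nat_lit 179) (Steps.bwd (nat_lit 1) (Steps.fwd (nat_lit 16384) (Steps.bwd (nat_lit 1) (Steps.bwd (nat_lit 3) (Steps.bwd (nat_lit 1) (Steps.fwd (nat_lit 16384) (Steps.fwd (nat_lit 8192) (Steps.bwd (nat_lit 2) (Steps.bwd (nat_lit 4) (Steps.fwd (nat_lit 8192) (Steps.bwd (nat_lit 2) Steps.nil))))))))))) (nat_lit 190) (nat_lit 1),
  Rule.mk (nat_lit 18) (nat_lit 179) (Steps.fwd (nat_lit 8192) (Steps.bwd (nat_lit 3) (Steps.bwd (nat_lit 4) (Steps.bwd (nat_lit 1) (Steps.bwd (nat_lit 2) (Steps.fwd (nat_lit 8192) (Steps.bwd (nat_lit 2) (Steps.bwd (nat_lit 1) (Steps.bwd (nat_lit 3) (Steps.fwd (nat_lit 8192) (Steps.fwd (nat_lit 16384) Steps.nil))))))))))) (nat_lit 192) (nat_lit 1),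
  Rule.mk (nat_lit 14) (nat_lit 104) (Steps.bwd (nat_lit 1) (Steps.fwd (nat_lit 90112) (Steps.bwd (nat_lit 1) (Steps.bwd (nat_lit 6) (Steps.bwd (nat_lit 11) (Steps.bwd (nat_lit 12) Steps.nil)))))) (nat_lit 160) (nat_lit 0),
  Rule.mk (nat_lit 3) (nat_lit 179) (Steps.bwd (nat_lit 18) (Steps.fwd (nat_lit 8192) (Steps.fwd (nat_lit 16384) (Steps.bwd (nat_lit 4) (Steps.fwd (nat_lit 8192) (Steps.fwd (nat_lit 24576) (Steps.fwd (nat_lit 8192) (Steps.bwd (nat_lit 2) (Steps.fwd (nat_lit 8192) (Steps.bwd (nat_lit 3) (Steps.bwd (nat_lit 1) Steps.nil))))))))))) (nat_lit 192) (nat_lit 0),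
  Rule.mk (nat_lit 20) (nat_lit 179) (Steps.fwd (nat_lit 8192) (Steps.fwd (nat_lit 24576) (Steps.fwd (nat_lit 8192) (Steps.fwd (nat_lit 24576) (Steps.bwd (nat_lit 1) (Steps.fwd (nat_lit 16384) (Steps.fwd (nat_lit 8192) (Steps.bwd (nat_lit 3) (Steps.bwd (nat_lit 1) (Steps.fwd (nat_lit 32768) (Steps.bwd (nat_lit 2) Steps.nil))))))))))) (nat_lit 194) (nat_lit 1),
  Rule.mk (nat_lit 19) (nat_lit 179) (Steps.bwd (nat_lit 3) (Steps.bwd (nat_lit 4) (Steps.bwd (nat_lit 1) (Steps.fwd (nat_lit 24576) (Steps.bwd (nat_lit 1) (Steps.bwd (nat_lit 2) (Steps.fwd (nat_lit 8192) (Steps.bwd (nat_lit 3) (Steps.fwd (nat_lit 8192) (Steps.bwd (nat_lit 3) (Steps.bwd (nat_lit 1) Steps.nil))))))))))) (nat_lit 195) (nat_lit 0),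
  Rule.mk (nat_lit 14) (nat_lit 104) (Steps.bwd (nat_lit 12) (Steps.bwd (nat_lit 11) (Steps.bwd (nat_lit 6) (Steps.fwd (nat_lit 24576) (Steps.bwd (nat_lit 10) (Steps.bwd (nat_lit 3) Steps.nil)))))) (nat_lit 181) (nat_lit 1),
  Rule.mk (nat_lit 1) (nat_lit 104) (Steps.bwd (nat_lit 14) (Steps.bwd (nat_lit 12) (Steps.bwd (nat_lit 11) (Steps.bwd (nat_lit 6) (Steps.fwd (nat_lit 8192) (Steps.fwd (nat_lit 90112) Steps.nil)))))) (nat_lit 161) (nat_lit 0),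
  Rule.mk (nat_lit 16) (nat_lit 179) (Steps.fwd (nat_lit 8192) (Steps.bwd (nat_lit 3) (Steps.bwd (nat_lit 1) (Steps.fwd (nat_lit 16384) (Steps.bwd (nat_lit 1) (Steps.fwd (nat_lit 16384) (Steps.bwd (nat_lit 1) (Steps.fwd (nat_lit 24576) (Steps.fwd (nat_lit 32768) (Steps.fwd (nat_lit 8192) (Steps.bwd (nat_lit 2) Steps.nil))))))))))) (nat_lit 190) (nat_lit 1),
  Rule.mk (nat_lit 15) (nat_lit 179) (Steps.bwd (nat_lit 3) (Steps.fwd (nat_lit 8192) (Steps.bwd (nat_lit 4) (Steps.fwd (nat_lit 16384) (Steps.fwd (nat_lit 8192) (Steps.bwd (nat_lit 2) (Steps.bwd (nat_lit 1) (Steps.fwd (nat_lit 24576) (Steps.fwd (nat_lit 8192) (Steps.fwd (nat_lit 24576) (Steps.bwd (nat_lit 1) Steps.nil))))))))))) (nat_lit 191) (nat_lit 0),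
  Rule.mk (nat_lit 15) (nat_lit 179) (Steps.fwd (nat_lit 16384) (Steps.bwd (nat_lit 1) (Steps.fwd (nat_lit 32768) (Steps.fwd (nat_lit 16384) (Steps.bwd (nat_lit 1) (Steps.fwd (nat_lit 24576) (Steps.fwd (nat_lit 8192) (Steps.fwd (nat_lit 24576) (Steps.bwd (nat_lit 1) (Steps.bwd (nat_lit 2) (Steps.fwd (nat_lit 8192) Steps.nil))))))))))) (nat_lit 191) (nat_lit 0),
  Rule.mk (nat_lit 18) (nat_lit 179) (Steps.bwd (nat_lit 1) (Steps.bwd (nat_lit 3) (Steps.bwd (nat_lit 4) (Steps.bwd (nat_lit 1) (Steps.fwd (nat_lit 24576) (Steps.fwd (nat_lit 8192) (Steps.fwd (nat_lit 24576) (Steps.bwd (nat_lit 1) (Steps.fwd (nat_lit 16384) (Steps.bwd (nat_lit 1) (Steps.bwd (nat_lit 3) Steps.nil))))))))))) (nat_lit 192) (nat_lit 1),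
  Rule.mk (nat_lit 3) (nat_lit 179) (Steps.bwd (nat_lit 18) (Steps.fwd (nat_lit 8192) (Steps.bwd (nat_lit 3) (Steps.fwd (nat_lit 32768) (Steps.fwd (nat_lit 8192) (Steps.bwd (nat_lit 2) (Steps.bwd (nat_lit 1) (Steps.fwd (nat_lit 24576) (Steps.fwd (nat_lit 8192) (Steps.fwd (nat_lit 16384) (Steps.bwd (nat_lit 1) Steps.nil))))))))))) (nat_lit 192) (nat_lit 0),
  Rule.mk (nat_lit 20) (nat_lit 179) (Steps.bwd (nat_lit 1) (Steps.fwd (nat_lit 24576) (Steps.fwd (nat_lit 8192) (Steps.fwd (nat_lit 24576) (Steps.bwd (nat_lit 1) (Steps.fwd (nat_lit 16384) (Steps.bwd (nat_lit 1) (Steps.bwd (nat_lit 3) (Steps.bwd (nat_lit 1) (Steps.fwd (nat_lit 32768) (Steps.bwd (nat_lit 2) Steps.nil))))))))))) (nat_lit 194) (nat_lit 1),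
  Rule.mk (nat_lit 1) (nat_lit 179) (Steps.bwd (nat_lit 19) (Steps.bwd (nat_lit 3) (Steps.bwd (nat_lit 4) (Steps.bwd (nat_lit 1) (Steps.fwd (nat_lit 24576) (Steps.fwd (nat_lit 8192) (Steps.fwd (nat_lit 24576) (Steps.bwd (nat_lit 1) (Steps.fwd (nat_lit 16384) (Steps.bwd (nat_lit 1) (Steps.bwd (nat_lit 3) Steps.nil))))))))))) (nat_lit 195) (nat_lit 11),
  Rule.mk (nat_lit 1) (nat_lit 179) (Steps.bwd (nat_lit 19) (Steps.bwd (nat_lit 3) (Steps.fwd (nat_lit 32768) (Steps.fwd (nat_lit 8192) (Steps.bwd (nat_lit 2) (Steps.bwd (nat_lit 1) (Steps.fwd (nat_lit 24576) (Steps.fwd (nat_lit 8192) (Steps.fwd (nat_lit 16384) (Steps.bwd (nat_lit 1) (Steps.bwd (nat_lit 3) Steps.nil))))))))))) (nat_lit 195) (nat_lit 11),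
  Rule.mk (nat_lit 11) (nat_lit 104) (Steps.fwd (nat_lit 8192) (Steps.bwd (nat_lit 6) (Steps.bwd (nat_lit 11) (Steps.fwd (nat_lit 98304) (Steps.fwd (nat_lit 114688) (Steps.bwd (nat_lit 1) Steps.nil)))))) (nat_lit 160) (nat_lit 2),
  Rule.mk (nat_lit 15) (nat_lit 179) (Steps.bwd (nat_lit 3) (Steps.bwd (nat_lit 1) (Steps.bwd (nat_lit 4) (Steps.bwd (nat_lit 3) (Steps.fwd (nat_lit 8192) (Steps.bwd (nat_lit 2) (Steps.fwd (nat_lit 8192) (Steps.bwd (nat_lit 2) (Steps.fwd (nat_lit 8192) (Steps.fwd (nat_lit 24576) (Steps.fwd (nat_lit 8192) Steps.nil))))))))))) (nat_lit 191) (nat_lit 0),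
  Rule.mk (nat_lit 0) (nat_lit 194) (Steps.bwd (nat_lit 17) (Steps.fwd (nat_lit 24576) (Steps.fwd (nat_lit 8192) (Steps.fwd (nat_lit 24576) (Steps.bwd (nat_lit 1) (Steps.fwd (nat_lit 16384) (Steps.bwd (nat_lit 1) (Steps.bwd (nat_lit 3) (Steps.bwd (nat_lit 1) (Steps.bwd (nat_lit 4) (Steps.fwd (nat_lit 24576) (Steps.fwd (nat_lit 8192) Steps.nil)))))))))))) (nat_lit 193) (nat_lit 11),
  Rule.mk (nat_lit 0) (nat_lit 194) (Steps.bwd (nat_lit 20) (Steps.bwd (nat_lit 1) (Steps.fwd (nat_lit 24576) (Steps.fwd (nat_lit 8192) (Steps.fwd (nat_lit 24576) (Steps.bwd (nat_lit 1) (Steps.fwd (nat_lit 16384) (Steps.bwd (nat_lit 1) (Steps.bwd (nat_lit 3) (Steps.bwd (nat_lit 1) (Steps.bwd (nat_lit 4) (Steps.fwd (nat_lit 24576) Steps.nil)))))))))))) (nat_lit 194) (nat_lit 0),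
  Rule.mk (nat_lit 16) (nat_lit 179) (Steps.fwd (nat_lit 8192) (Steps.bwd (nat_lit 3) (Steps.bwd (nat_lit 1) (Steps.bwd (nat_lit 3) (Steps.fwd (nat_lit 8192) (Steps.fwd (nat_lit 16384) (Steps.fwd (nat_lit 8192) (Steps.fwd (nat_lit 24576) (Steps.fwd (nat_lit 32768) (Steps.bwd (nat_lit 1) (Steps.bwd (nat_lit 2) Steps.nil))))))))))) (nat_lit 190) (nat_lit 1),
  Rule.mk (nat_lit 15) (nat_lit 179) (Steps.fwd (nat_lit 16384) (Steps.bwd (nat_lit 1) (Steps.bwd (nat_lit 4) (Steps.bwd (nat_lit 3) (Steps.fwd (nat_lit 8192) (Steps.fwd (nat_lit 24576) (Steps.fwd (nat_lit 8192) (Steps.bwd (nat_lit 2) (Steps.fwd (nat_lit 8192) (Steps.bwd (nat_lit 2) (Steps.fwd (nat_lit 8192) Steps.nil))))))))))) (nat_lit 191) (nat_lit 0),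
  Rule.mk (nat_lit 15) (nat_lit 179) (Steps.bwd (nat_lit 3) (Steps.fwd (nat_lit 8192) (Steps.bwd (nat_lit 4) (Steps.fwd (nat_lit 16384) (Steps.fwd (nat_lit 8192) (Steps.bwd (nat_lit 2) (Steps.bwd (nat_lit 1) (Steps.bwd (nat_lit 2) (Steps.bwd (nat_lit 1) (Steps.bwd (nat_lit 2) (Steps.fwd (nat_lit 8192) Steps.nil))))))))))) (nat_lit 191) (nat_lit 0),
  Rule.mk (nat_lit 5) (nat_lit 104) (Steps.fwd (nat_lit 57344) (Steps.bwd (nat_lit 13) (Steps.fwd (nat_lit 114688) (Steps.bwd (nat_lit 1) (Steps.bwd (nat_lit 8) (Steps.bwd (nat_lit 1) Steps.nil)))))) (nat_lit 154) (nat_lit 4),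
  Rule.mk (nat_lit 6) (nat_lit 134) (Steps.bwd (nat_lit 10) (Steps.bwd (nat_lit 11) (Steps.fwd (nat_lit 98304) (Steps.fwd (nat_lit 106496) (Steps.fwd (nat_lit 114688) (Steps.bwd (nat_lit 2) (Steps.fwd (nat_lit 106496) (Steps.bwd (nat_lit 3) Steps.nil)))))))) (nat_lit 186) (nat_lit 4),
  Rule.mk (nat_lit 16) (nat_lit 179) (Steps.fwd (nat_lit 8192) (Steps.bwd (nat_lit 3) (Steps.bwd (nat_lit 1) (Steps.fwd (nat_lit 16384) (Steps.bwd (nat_lit 1) (Steps.bwd (nat_lit 3) (Steps.bwd (nat_lit 1) (Steps.bwd (nat_lit 2) (Steps.fwd (nat_lit 32768) (Steps.bwd (nat_lit 1) (Steps.fwd (nat_lit 24576) Steps.nil))))))))))) (nat_lit 190) (nat_lit 1),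
  Rule.mk (nat_lit 15) (nat_lit 179) (Steps.fwd (nat_lit 16384) (Steps.fwd (nat_lit 8192) (Steps.fwd (nat_lit 32768) (Steps.bwd (nat_lit 3) (Steps.bwd (nat_lit 1) (Steps.bwd (nat_lit 2) (Steps.fwd (nat_lit 8192) (Steps.bwd (nat_lit 2) (Steps.bwd (nat_lit 1) (Steps.fwd (nat_lit 24576) (Steps.fwd (nat_lit 8192) Steps.nil))))))))))) (nat_lit 191) (nat_lit 0),
  Rule.mk (nat_lit 1) (nat_lit 179) (Steps.bwd (nat_lit 3) (Steps.bwd (nat_lit 4) (Steps.fwd (nat_lit 8192) (Steps.fwd (nat_lit 24576) (Steps.bwd (nat_lit 1) (Steps.bwd (nat_lit 2) (Steps.bwd (nat_lit 1) (Steps.bwd (nat_lit 3) (Steps.bwd (nat_lit 1) (Steps.fwd (nat_lit 16384) (Steps.fwd (nat_lit 139264) Steps.nil))))))))))) (nat_lit 192) (nat_lit 2),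
  Rule.mk (nat_lit 17) (nat_lit 179) (Steps.fwd (nat_lit 24576) (Steps.bwd (nat_lit 1) (Steps.bwd (nat_lit 2) (Steps.bwd (nat_lit 1) (Steps.bwd (nat_lit 3) (Steps.bwd (nat_lit 1) (Steps.fwd (nat_lit 16384) (Steps.fwd (nat_lit 8192) (Steps.fwd (nat_lit 32768) (Steps.fwd (nat_lit 24576) (Steps.fwd (nat_lit 8192) Steps.nil))))))))))) (nat_lit 193) (nat_lit 0),
  Rule.mk (nat_lit 0) (nat_lit 194) (Steps.bwd (nat_lit 19) (Steps.bwd (nat_lit 3) (Steps.bwd (nat_lit 4) (Steps.bwd (nat_lit 1) (Steps.bwd (nat_lit 2) (Steps.fwd (nat_lit 8192) (Steps.fwd (nat_lit 24576) (Steps.fwd (nat_lit 8192) (Steps.fwd (nat_lit 16384) (Steps.fwd (nat_lit 8192) (Steps.bwd (nat_lit 3) (Steps.bwd (nat_lit 1) Steps.nil)))))))))))) (nat_lit 195) (nat_lit 11),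
  Rule.mk (nat_lit 19) (nat_lit 179) (Steps.bwd (nat_lit 3) (Steps.bwd (nat_lit 4) (Steps.fwd (nat_lit 8192) (Steps.fwd (nat_lit 24576) (Steps.bwd (nat_lit 1) (Steps.bwd (nat_lit 2) (Steps.bwd (nat_lit 1) (Steps.bwd (nat_lit 3) (Steps.bwd (nat_lit 1) (Steps.fwd (nat_lit 16384) (Steps.fwd (nat_lit 8192) Steps.nil))))))))))) (nat_lit 195) (nat_lit 0),
  Rule.mk (nat_lit 10) (nat_lit 134) (Steps.bwd (nat_lit 1) (Steps.fwd (nat_lit 32768) (Steps.bwd (nat_lit 5) (Steps.fwd (nat_lit 65536) (Steps.bwd (nat_lit 9) (Steps.bwd (nat_lit 11) (Steps.bwd (nat_lit 14) (Steps.fwd (nat_lit 8192) Steps.nil)))))))) (nat_lit 158) (nat_lit 2),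
  Rule.mk (nat_lit 6) (nat_lit 134) (Steps.bwd (nat_lit 1) (Steps.fwd (nat_lit 114688) (Steps.bwd (nat_lit 1) (Steps.bwd (nat_lit 14) (Steps.fwd (nat_lit 106496) (Steps.fwd (nat_lit 98304) (Steps.bwd (nat_lit 11) (Steps.bwd (nat_lit 10) Steps.nil)))))))) (nat_lit 167) (nat_lit 6),
  Rule.mk (nat_lit 16) (nat_lit 179) (Steps.bwd (nat_lit 1) (Steps.fwd (nat_lit 16384) (Steps.bwd (nat_lit 1) (Steps.fwd (nat_lit 16384) (Steps.bwd (nat_lit 1) (Steps.fwd (nat_lit 16384) (Steps.bwd (nat_lit 1) (Steps.fwd (nat_lit 24576) (Steps.bwd (nat_lit 4) (Steps.bwd (nat_lit 1) (Steps.fwd (nat_lit 24576) Steps.nil))))))))))) (nat_lit 190) (nat_lit 1),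
  Rule.mk (nat_lit 2) (nat_lit 179) (Steps.bwd (nat_lit 1) (Steps.fwd (nat_lit 24576) (Steps.bwd (nat_lit 1) (Steps.fwd (nat_lit 16384) (Steps.fwd (nat_lit 8192) (Steps.fwd (nat_lit 16384) (Steps.bwd (nat_lit 1) (Steps.bwd (nat_lit 4) (Steps.bwd (nat_lit 2) (Steps.fwd (nat_lit 8192) (Steps.fwd (nat_lit 147456) Steps.nil))))))))))) (nat_lit 193) (nat_lit 1),
  Rule.mk (nat_lit 20) (nat_lit 179) (Steps.bwd (nat_lit 1) (Steps.fwd (nat_lit 24576) (Steps.bwd (nat_lit 1) (Steps.fwd (nat_lit 24576) (Steps.bwd (nat_lit 1) (Steps.bwd (nat_lit 3) (Steps.bwd (nat_lit 1) (Steps.fwd (nat_lit 16384) (Steps.bwd (nat_lit 1) (Steps.bwd (nat_lit 4) (Steps.fwd (nat_lit 24576) Steps.nil))))))))))) (nat_lit 194) (nat_lit 1),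
  Rule.mk (nat_lit 19) (nat_lit 179) (Steps.bwd (nat_lit 3) (Steps.bwd (nat_lit 4) (Steps.bwd (nat_lit 1) (Steps.fwd (nat_lit 24576) (Steps.bwd (nat_lit 1) (Steps.fwd (nat_lit 24576) (Steps.bwd (nat_lit 1) (Steps.bwd (nat_lit 3) (Steps.bwd (nat_lit 1) (Steps.fwd (nat_lit 16384) (Steps.bwd (nat_lit 1) Steps.nil))))))))))) (nat_lit 195) (nat_lit 0),
  Rule.mk (nat_lit 0) (nat_lit 74) (Steps.bwd (nat_lit 2) (Steps.fwd (nat_lit 32768) (Steps.bwd (nat_lit 3) (Steps.fwd (nat_lit 32768) Steps.nil)))) (nat_lit 168) (nat_lit 0),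
  Rule.mk (nat_lit 16) (nat_lit 179) (Steps.bwd (nat_lit 1) (Steps.bwd (nat_lit 3) (Steps.bwd (nat_lit 1) (Steps.fwd (nat_lit 16384) (Steps.fwd (nat_lit 8192) (Steps.bwd (nat_lit 3) (Steps.bwd (nat_lit 1) (Steps.fwd (nat_lit 24576) (Steps.fwd (nat_lit 32768) (Steps.bwd (nat_lit 1) (Steps.bwd (nat_lit 2) Steps.nil))))))))))) (nat_lit 190) (nat_lit 1),
  Rule.mk (nat_lit 15) (nat_lit 179) (Steps.bwd (nat_lit 3) (Steps.bwd (nat_lit 1) (Steps.bwd (nat_lit 4) (Steps.bwd (nat_lit 3) (Steps.bwd (nat_lit 1) (Steps.fwd (nat_lit 24576) (Steps.bwd (nat_lit 1) (Steps.fwd (nat_lit 24576) (Steps.bwd (nat_lit 1) (Steps.fwd (nat_lit 24576) (Steps.bwd (nat_lit 1) Steps.nil))))))))))) (nat_lit 191) (nat_lit 0),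
  Rule.mk (nat_lit 17) (nat_lit 179) (Steps.bwd (nat_lit 2) (Steps.bwd (nat_lit 1) (Steps.bwd (nat_lit 2) (Steps.bwd (nat_lit 1) (Steps.fwd (nat_lit 16384) (Steps.bwd (nat_lit 1) (Steps.fwd (nat_lit 16384) (Steps.bwd (nat_lit 1) (Steps.fwd (nat_lit 32768) (Steps.fwd (nat_lit 24576) (Steps.bwd (nat_lit 1) Steps.nil))))))))))) (nat_lit 193) (nat_lit 0),
  Rule.mk (nat_lit 20) (nat_lit 179) (Steps.bwd (nat_lit 1) (Steps.bwd (nat_lit 2) (Steps.bwd (nat_lit 1) (Steps.bwd (nat_lit 2) (Steps.bwd (nat_lit 1) (Steps.fwd (nat_lit 16384) (Steps.bwd (nat_lit 1) (Steps.fwd (nat_lit 16384) (Steps.bwd (nat_lit 1) (Steps.fwd (nat_lit 32768) (Steps.fwd (nat_lit 24576) Steps.nil))))))))))) (nat_lit 194) (nat_lit 1)]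
noncomputable def R_51 : List (Rule) := [Rule.mk (nat_lit 20) (nat_lit 179) (Steps.bwd (nat_lit 1) (Steps.fwd (nat_lit 24576) (Steps.bwd (nat_lit 1) (Steps.fwd (nat_lit 24576) (Steps.bwd (nat_lit 1) (Steps.fwd (nat_lit 16384) (Steps.fwd (nat_lit 8192) (Steps.fwd (nat_lit 16384) (Steps.bwd (nat_lit 1) (Steps.bwd (nat_lit 4) (Steps.bwd (nat_lit 2) Steps.nil))))))))))) (nat_lit 194) (nat_lit 1),
  Rule.mk (nat_lit 19) (nat_lit 179) (Steps.fwd (nat_lit 16384) (Steps.bwd (nat_lit 4) (Steps.bwd (nat_lit 1) (Steps.fwd (nat_lit 24576) (Steps.bwd (nat_lit 1) (Steps.fwd (nat_lit 24576) (Steps.bwd (nat_lit 1) (Steps.fwd (nat_lit 16384) (Steps.fwd (nat_lit 8192) (Steps.fwd (nat_lit 16384) (Steps.bwd (nat_lit 1) Steps.nil))))))))))) (nat_lit 195) (nat_lit 0),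
  Rule.mk (nat_lit 16) (nat_lit 179) (Steps.fwd (nat_lit 8192) (Steps.bwd (nat_lit 3) (Steps.bwd (nat_lit 1) (Steps.bwd (nat_lit 3) (Steps.bwd (nat_lit 1) (Steps.fwd (nat_lit 16384) (Steps.bwd (nat_lit 1) (Steps.bwd (nat_lit 2) (Steps.fwd (nat_lit 32768) (Steps.fwd (nat_lit 8192) (Steps.bwd (nat_lit 2) Steps.nil))))))))))) (nat_lit 190) (nat_lit 1),
  Rule.mk (nat_lit 18) (nat_lit 179) (Steps.fwd (nat_lit 8192) (Steps.bwd (nat_lit 3) (Steps.fwd (nat_lit 32768) (Steps.bwd (nat_lit 1) (Steps.bwd (nat_lit 2) (Steps.fwd (nat_lit 8192) (Steps.bwd (nat_lit 2) (Steps.fwd (nat_lit 8192) (Steps.bwd (nat_lit 3) (Steps.fwd (nat_lit 8192) (Steps.fwd (nat_lit 16384) Steps.nil))))))))))) (nat_lit 192) (nat_lit 1),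
  Rule.mk (nat_lit 19) (nat_lit 179) (Steps.bwd (nat_lit 3) (Steps.fwd (nat_lit 32768) (Steps.bwd (nat_lit 1) (Steps.bwd (nat_lit 2) (Steps.fwd (nat_lit 8192) (Steps.bwd (nat_lit 2) (Steps.fwd (nat_lit 8192) (Steps.bwd (nat_lit 3) (Steps.fwd (nat_lit 8192) (Steps.fwd (nat_lit 16384) (Steps.bwd (nat_lit 1) Steps.nil))))))))))) (nat_lit 195) (nat_lit 0),
  Rule.mk (nat_lit 3) (nat_lit 179) (Steps.bwd (nat_lit 18) (Steps.bwd (nat_lit 1) (Steps.fwd (nat_lit 16384) (Steps.bwd (nat_lit 4) (Steps.bwd (nat_lit 1) (Steps.fwd (nat_lit 24576) (Steps.bwd (nat_lit 1) (Steps.bwd (nat_lit 2) (Steps.fwd (nat_lit 8192) (Steps.fwd (nat_lit 16384) (Steps.fwd (nat_lit 8192) Steps.nil))))))))))) (nat_lit 192) (nat_lit 0),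
  Rule.mk (nat_lit 14) (nat_lit 104) (Steps.fwd (nat_lit 98304) (Steps.bwd (nat_lit 11) (Steps.fwd (nat_lit 49152) (Steps.fwd (nat_lit 24576) (Steps.fwd (nat_lit 81920) (Steps.bwd (nat_lit 3) Steps.nil)))))) (nat_lit 181) (nat_lit 1),
  Rule.mk (nat_lit 7) (nat_lit 89) (Steps.bwd (nat_lit 14) (Steps.bwd (nat_lit 1) (Steps.fwd (nat_lit 73728) (Steps.bwd (nat_lit 1) (Steps.fwd (nat_lit 32768) Steps.nil))))) (nat_lit 156) (nat_lit 5),
  Rule.mk (nat_lit 1) (nat_lit 104) (Steps.bwd (nat_lit 14) (Steps.fwd (nat_lit 98304) (Steps.bwd (nat_lit 11) (Steps.fwd (nat_lit 49152) (Steps.bwd (nat_lit 1) (Steps.fwd (nat_lit 90112) Steps.nil)))))) (nat_lit 161) (nat_lit 0),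
  Rule.mk (nat_lit 8) (nat_lit 104) (Steps.bwd (nat_lit 1) (Steps.bwd (nat_lit 5) (Steps.bwd (nat_lit 7) (Steps.fwd (nat_lit 106496) (Steps.fwd (nat_lit 114688) (Steps.bwd (nat_lit 1) Steps.nil)))))) (nat_lit 154) (nat_lit 2),
  Rule.mk (nat_lit 16) (nat_lit 179) (Steps.bwd (nat_lit 1) (Steps.bwd (nat_lit 3) (Steps.fwd (nat_lit 8192) (Steps.fwd (nat_lit 16384) (Steps.bwd (nat_lit 1) (Steps.fwd (nat_lit 16384) (Steps.fwd (nat_lit 8192) (Steps.bwd (nat_lit 2) (Steps.bwd (nat_lit 4) (Steps.bwd (nat_lit 1) (Steps.fwd (nat_lit 24576) Steps.nil))))))))))) (nat_lit 190) (nat_lit 1),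
  Rule.mk (nat_lit 2) (nat_lit 179) (Steps.bwd (nat_lit 16) (Steps.bwd (nat_lit 1) (Steps.bwd (nat_lit 3) (Steps.bwd (nat_lit 1) (Steps.fwd (nat_lit 16384) (Steps.bwd (nat_lit 1) (Steps.bwd (nat_lit 3) (Steps.bwd (nat_lit 1) (Steps.fwd (nat_lit 24576) (Steps.fwd (nat_lit 32768) (Steps.fwd (nat_lit 8192) Steps.nil))))))))))) (nat_lit 190) (nat_lit 0),
  Rule.mk (nat_lit 15) (nat_lit 179) (Steps.bwd (nat_lit 3) (Steps.fwd (nat_lit 8192) (Steps.fwd (nat_lit 32768) (Steps.fwd (nat_lit 16384) (Steps.bwd (nat_lit 1) (Steps.bwd (nat_lit 2) (Steps.fwd (nat_lit 8192) (Steps.fwd (nat_lit 24576) (Steps.fwd (nat_lit 8192) (Steps.bwd (nat_lit 2) (Steps.bwd (nat_lit 1) Steps.nil))))))))))) (nat_lit 191) (nat_lit 0),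
  Rule.mk (nat_lit 0) (nat_lit 194) (Steps.bwd (nat_lit 16) (Steps.fwd (nat_lit 8192) (Steps.fwd (nat_lit 16384) (Steps.fwd (nat_lit 8192) (Steps.bwd (nat_lit 3) (Steps.fwd (nat_lit 8192) (Steps.fwd (nat_lit 16384) (Steps.bwd (nat_lit 1) (Steps.fwd (nat_lit 24576) (Steps.bwd (nat_lit 4) (Steps.fwd (nat_lit 8192) (Steps.fwd (nat_lit 24576) Steps.nil)))))))))))) (nat_lit 190) (nat_lit 0),
  Rule.mk (nat_lit 15) (nat_lit 179) (Steps.bwd (nat_lit 3) (Steps.bwd (nat_lit 1) (Steps.fwd (nat_lit 32768) (Steps.fwd (nat_lit 16384) (Steps.bwd (nat_lit 1) (Steps.fwd (nat_lit 24576) (Steps.bwd (nat_lit 1) (Steps.bwd (nat_lit 2) (Steps.bwd (nat_lit 1) (Steps.bwd (nat_lit 2) (Steps.bwd (nat_lit 1) Steps.nil))))))))))) (nat_lit 191) (nat_lit 0),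
  Rule.mk (nat_lit 18) (nat_lit 179) (Steps.bwd (nat_lit 1) (Steps.fwd (nat_lit 16384) (Steps.bwd (nat_lit 4) (Steps.fwd (nat_lit 8192) (Steps.fwd (nat_lit 24576) (Steps.bwd (nat_lit 1) (Steps.fwd (nat_lit 24576) (Steps.bwd (nat_lit 1) (Steps.fwd (nat_lit 16384) (Steps.bwd (nat_lit 1) (Steps.bwd (nat_lit 3) Steps.nil))))))))))) (nat_lit 192) (nat_lit 1),
  Rule.mk (nat_lit 17) (nat_lit 179) (Steps.fwd (nat_lit 24576) (Steps.bwd (nat_lit 1) (Steps.fwd (nat_lit 24576) (Steps.bwd (nat_lit 1) (Steps.fwd (nat_lit 16384) (Steps.bwd (nat_lit 1) (Steps.bwd (nat_lit 3) (Steps.bwd (nat_lit 1) (Steps.bwd (nat_lit 4) (Steps.fwd (nat_lit 24576) (Steps.fwd (nat_lit 8192) Steps.nil))))))))))) (nat_lit 193) (nat_lit 0),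
  Rule.mk (nat_lit 0) (nat_lit 194) (Steps.bwd (nat_lit 17) (Steps.bwd (nat_lit 2) (Steps.bwd (nat_lit 1) (Steps.fwd (nat_lit 24576) (Steps.bwd (nat_lit 1) (Steps.fwd (nat_lit 16384) (Steps.bwd (nat_lit 1) (Steps.bwd (nat_lit 3) (Steps.bwd (nat_lit 1) (Steps.fwd (nat_lit 32768) (Steps.bwd (nat_lit 2) (Steps.fwd (nat_lit 8192) Steps.nil)))))))))))) (nat_lit 193) (nat_lit 11),
  Rule.mk (nat_lit 20) (nat_lit 179) (Steps.fwd (nat_lit 8192) (Steps.fwd (nat_lit 24576) (Steps.bwd (nat_lit 1) (Steps.fwd (nat_lit 24576) (Steps.bwd (nat_lit 1) (Steps.fwd (nat_lit 16384) (Steps.bwd (nat_lit 1) (Steps.bwd (nat_lit 3) (Steps.bwd (nat_lit 1) (Steps.bwd (nat_lit 4) (Steps.fwd (nat_lit 24576) Steps.nil))))))))))) (nat_lit 194) (nat_lit 1),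
  Rule.mk (nat_lit 20) (nat_lit 179) (Steps.fwd (nat_lit 8192) (Steps.bwd (nat_lit 2) (Steps.bwd (nat_lit 1) (Steps.fwd (nat_lit 24576) (Steps.bwd (nat_lit 1) (Steps.fwd (nat_lit 16384) (Steps.bwd (nat_lit 1) (Steps.bwd (nat_lit 3) (Steps.bwd (nat_lit 1) (Steps.fwd (nat_lit 32768) (Steps.bwd (nat_lit 2) Steps.nil))))))))))) (nat_lit 194) (nat_lit 1),
  Rule.mk (nat_lit 20) (nat_lit 179) (Steps.bwd (nat_lit 1) (Steps.fwd (nat_lit 24576) (Steps.bwd (nat_lit 1) (Steps.bwd (nat_lit 2) (Steps.bwd (nat_lit 1) (Steps.fwd (nat_lit 16384) (Steps.fwd (nat_lit 8192) (Steps.bwd (nat_lit 3) (Steps.fwd (nat_lit 8192) (Steps.fwd (nat_lit 32768) (Steps.bwd (nat_lit 2) Steps.nil))))))))))) (nat_lit 194) (nat_lit 1),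
  Rule.mk (nat_lit 0) (nat_lit 194) (Steps.bwd (nat_lit 19) (Steps.fwd (nat_lit 16384) (Steps.bwd (nat_lit 4) (Steps.fwd (nat_lit 8192) (Steps.fwd (nat_lit 24576) (Steps.bwd (nat_lit 1) (Steps.fwd (nat_lit 24576) (Steps.bwd (nat_lit 1) (Steps.fwd (nat_lit 16384) (Steps.bwd (nat_lit 1) (Steps.bwd (nat_lit 3) (Steps.bwd (nat_lit 1) Steps.nil)))))))))))) (nat_lit 195) (nat_lit 11),
  Rule.mk (nat_lit 0) (nat_lit 194) (Steps.bwd (nat_lit 1) (Steps.fwd (nat_lit 24576) (Steps.bwd (nat_lit 1) (Steps.bwd (nat_lit 2) (Steps.fwd (nat_lit 8192) (Steps.fwd (nat_lit 16384) (Steps.fwd (nat_lit 8192) (Steps.bwd (nat_lit 3) (Steps.fwd (nat_lit 8192) (Steps.fwd (nat_lit 32768) (Steps.bwd (nat_lit 2) (Steps.fwd (nat_lit 155648) Steps.nil)))))))))))) (nat_lit 194) (nat_lit 1),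
  Rule.mk (nat_lit 12) (nat_lit 104) (Steps.fwd (nat_lit 16384) (Steps.bwd (nat_lit 4) (Steps.fwd (nat_lit 40960) (Steps.bwd (nat_lit 8) (Steps.fwd (nat_lit 73728) (Steps.bwd (nat_lit 2) Steps.nil)))))) (nat_lit 184) (nat_lit 2),
  Rule.mk (nat_lit 5) (nat_lit 149) (Steps.bwd (nat_lit 3) (Steps.fwd (nat_lit 32768) (Steps.fwd (nat_lit 40960) (Steps.bwd (nat_lit 8) (Steps.fwd (nat_lit 73728) (Steps.bwd (nat_lit 12) (Steps.bwd (nat_lit 13) (Steps.bwd (nat_lit 14) (Steps.bwd (nat_lit 2) Steps.nil))))))))) (nat_lit 170) (nat_lit 2),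
  Rule.mk (nat_lit 2) (nat_lit 164) (Steps.bwd (nat_lit 11) (Steps.fwd (nat_lit 16384) (Steps.fwd (nat_lit 32768) (Steps.bwd (nat_lit 5) (Steps.bwd (nat_lit 8) (Steps.bwd (nat_lit 9) (Steps.fwd (nat_lit 81920) (Steps.fwd (nat_lit 90112) (Steps.fwd (nat_lit 98304) (Steps.bwd (nat_lit 14) Steps.nil)))))))))) (nat_lit 182) (nat_lit 1),
  Rule.mk (nat_lit 16) (nat_lit 179) (Steps.fwd (nat_lit 8192) (Steps.bwd (nat_lit 3) (Steps.fwd (nat_lit 8192) (Steps.bwd (nat_lit 3) (Steps.fwd (nat_lit 8192) (Steps.bwd (nat_lit 3) (Steps.fwd (nat_lit 8192) (Steps.bwd (nat_lit 2) (Steps.bwd (nat_lit 4) (Steps.bwd (nat_lit 1) (Steps.fwd (nat_lit 24576) Steps.nil))))))))))) (nat_lit 190) (nat_lit 1),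
  Rule.mk (nat_lit 15) (nat_lit 179) (Steps.bwd (nat_lit 3) (Steps.bwd (nat_lit 1) (Steps.fwd (nat_lit 32768) (Steps.bwd (nat_lit 3) (Steps.bwd (nat_lit 1) (Steps.fwd (nat_lit 24576) (Steps.fwd (nat_lit 8192) (Steps.bwd (nat_lit 2) (Steps.bwd (nat_lit 1) (Steps.fwd (nat_lit 24576) (Steps.bwd (nat_lit 1) Steps.nil))))))))))) (nat_lit 191) (nat_lit 0),
  Rule.mk (nat_lit 15) (nat_lit 179) (Steps.bwd (nat_lit 3) (Steps.fwd (nat_lit 8192) (Steps.bwd (nat_lit 4) (Steps.fwd (nat_lit 16384) (Steps.fwd (nat_lit 8192) (Steps.bwd (nat_lit 2) (Steps.bwd (nat_lit 1) (Steps.fwd (nat_lit 24576) (Steps.bwd (nat_lit 1) (Steps.fwd (nat_lit 24576) (Steps.bwd (nat_lit 1) Steps.nil))))))))))) (nat_lit 191) (nat_lit 0),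
  Rule.mk (nat_lit 0) (nat_lit 194) (Steps.bwd (nat_lit 16) (Steps.bwd (nat_lit 1) (Steps.bwd (nat_lit 3) (Steps.fwd (nat_lit 8192) (Steps.bwd (nat_lit 3) (Steps.fwd (nat_lit 8192) (Steps.bwd (nat_lit 3) (Steps.fwd (nat_lit 8192) (Steps.bwd (nat_lit 2) (Steps.bwd (nat_lit 4) (Steps.fwd (nat_lit 8192) (Steps.bwd (nat_lit 2) Steps.nil)))))))))))) (nat_lit 190) (nat_lit 0),
  Rule.mk (nat_lit 18) (nat_lit 179) (Steps.bwd (nat_lit 1) (Steps.fwd (nat_lit 16384) (Steps.fwd (nat_lit 32768) (Steps.fwd (nat_lit 8192) (Steps.fwd (nat_lit 24576) (Steps.bwd (nat_lit 1) (Steps.bwd (nat_lit 2) (Steps.bwd (nat_lit 1) (Steps.fwd (nat_lit 16384) (Steps.bwd (nat_lit 1) (Steps.bwd (nat_lit 3) Steps.nil))))))))))) (nat_lit 192) (nat_lit 1),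
  Rule.mk (nat_lit 17) (nat_lit 179) (Steps.bwd (nat_lit 2) (Steps.bwd (nat_lit 1) (Steps.fwd (nat_lit 24576) (Steps.bwd (nat_lit 1) (Steps.bwd (nat_lit 3) (Steps.fwd (nat_lit 8192) (Steps.bwd (nat_lit 3) (Steps.fwd (nat_lit 8192) (Steps.bwd (nat_lit 4) (Steps.fwd (nat_lit 24576) (Steps.bwd (nat_lit 1) Steps.nil))))))))))) (nat_lit 193) (nat_lit 0),
  Rule.mk (nat_lit 0) (nat_lit 194) (Steps.bwd (nat_lit 3) (Steps.fwd (nat_lit 32768) (Steps.fwd (nat_lit 8192) (Steps.fwd (nat_lit 24576) (Steps.bwd (nat_lit 1) (Steps.fwd (nat_lit 24576) (Steps.fwd (nat_lit 8192) (Steps.bwd (nat_lit 3) (Steps.fwd (nat_lit 8192) (Steps.fwd (nat_lit 16384) (Steps.bwd (nat_lit 1) (Steps.fwd (nat_lit 163840) Steps.nil)))))))))))) (nat_lit 195) (nat_lit 0),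
  Rule.mk (nat_lit 19) (nat_lit 179) (Steps.bwd (nat_lit 3) (Steps.fwd (nat_lit 32768) (Steps.fwd (nat_lit 8192) (Steps.bwd (nat_lit 2) (Steps.bwd (nat_lit 1) (Steps.fwd (nat_lit 24576) (Steps.bwd (nat_lit 1) (Steps.bwd (nat_lit 3) (Steps.fwd (nat_lit 8192) (Steps.bwd (nat_lit 3) (Steps.fwd (nat_lit 8192) Steps.nil))))))))))) (nat_lit 195) (nat_lit 0),
  Rule.mk (nat_lit 18) (nat_lit 179) (Steps.bwd (nat_lit 1) (Steps.bwd (nat_lit 3) (Steps.fwd (nat_lit 32768) (Steps.fwd (nat_lit 8192) (Steps.fwd (nat_lit 24576) (Steps.fwd (nat_lit 8192) (Steps.bwd (nat_lit 2) (Steps.fwd (nat_lit 8192) (Steps.fwd (nat_lit 16384) (Steps.bwd (nat_lit 1) (Steps.fwd (nat_lit 16384) Steps.nil))))))))))) (nat_lit 192) (nat_lit 1),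
  Rule.mk (nat_lit 2) (nat_lit 179) (Steps.bwd (nat_lit 1) (Steps.fwd (nat_lit 24576) (Steps.fwd (nat_lit 8192) (Steps.bwd (nat_lit 3) (Steps.fwd (nat_lit 8192) (Steps.fwd (nat_lit 16384) (Steps.fwd (nat_lit 8192) (Steps.bwd (nat_lit 4) (Steps.bwd (nat_lit 2) (Steps.bwd (nat_lit 1) (Steps.fwd (nat_lit 147456) Steps.nil))))))))))) (nat_lit 193) (nat_lit 1),
  Rule.mk (nat_lit 1) (nat_lit 179) (Steps.bwd (nat_lit 2) (Steps.bwd (nat_lit 1) (Steps.fwd (nat_lit 24576) (Steps.fwd (nat_lit 8192) (Steps.bwd (nat_lit 3) (Steps.fwd (nat_lit 8192) (Steps.fwd (nat_lit 16384) (Steps.fwd (nat_lit 8192) (Steps.bwd (nat_lit 4) (Steps.bwd (nat_lit 2) (Steps.fwd (nat_lit 155648) Steps.nil))))))))))) (nat_lit 194) (nat_lit 2),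
  Rule.mk (nat_lit 3) (nat_lit 539) (Steps.bwd (nat_lit 1) (Steps.bwd (nat_lit 2) (Steps.bwd (nat_lit 1) (Steps.bwd (nat_lit 3) (Steps.bwd (nat_lit 1) (Steps.fwd (nat_lit 16384) (Steps.fwd (nat_lit 8192) (Steps.fwd (nat_lit 24576) (Steps.fwd (nat_lit 8192) (Steps.bwd (nat_lit 3) (Steps.fwd (nat_lit 8192) (Steps.bwd (nat_lit 3) (Steps.fwd (nat_lit 8192) (Steps.bwd (nat_lit 2) (Steps.fwd (nat_lit 8192) (Steps.fwd (nat_lit 24576) (Steps.fwd (nat_lit 8192) (Steps.bwd (nat_lit 3) (Steps.fwd (nat_lit 8192) (Steps.bwd (nat_lit 2) (Steps.fwd (nat_lit 8192) (Steps.bwd (nat_lit 2) (Steps.bwd (nat_lit 1) (Steps.fwd (nat_lit 16384) (Steps.bwd (nat_lit 1) (Steps.bwd (nat_lit 2) (Steps.fwd (nat_lit 8192) (Steps.fwd (nat_lit 24576) (Steps.bwd (nat_lit 1) (Steps.bwd (nat_lit 3) (Steps.bwd (nat_lit 1) (Steps.fwd (nat_lit 24576) (Steps.fwd (nat_lit 8192) (Steps.bwd (nat_lit 3) (Steps.fwd (nat_lit 8192) Steps.nil)))))))))))))))))))))))))))))))))))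 (nat_lit 12) (nat_lit 24),
  Rule.mk (nat_lit 3) (nat_lit 179) (Steps.bwd (nat_lit 18) (Steps.bwd (nat_lit 1) (Steps.bwd (nat_lit 3) (Steps.fwd (nat_lit 32768) (Steps.bwd (nat_lit 1) (Steps.bwd (nat_lit 2) (Steps.fwd (nat_lit 8192) (Steps.fwd (nat_lit 24576) (Steps.fwd (nat_lit 8192) (Steps.fwd (nat_lit 16384) (Steps.fwd (nat_lit 8192) Steps.nil))))))))))) (nat_lit 192) (nat_lit 0),
  Rule.mk (nat_lit 1) (nat_lit 179) (Steps.bwd (nat_lit 19) (Steps.bwd (nat_lit 3) (Steps.fwd (nat_lit 32768) (Steps.bwd (nat_lit 1) (Steps.bwd (nat_lit 2) (Steps.fwd (nat_lit 8192) (Steps.fwd (nat_lit 24576) (Steps.fwd (nat_lit 8192) (Steps.fwd (nat_lit 16384) (Steps.fwd (nat_lit 8192) (Steps.bwd (nat_lit 3) Steps.nil))))))))))) (nat_lit 195) (nat_lit 11),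
  Rule.mk (nat_lit 0) (nat_lit 59) (Steps.bwd (nat_lit 3) (Steps.bwd (nat_lit 3) (Steps.bwd (nat_lit 3) Steps.nil))) (nat_lit 3) (nat_lit 0),
  Rule.mk (nat_lit 0) (nat_lit 59) (Steps.fwd (nat_lit 8192) (Steps.bwd (nat_lit 0) (Steps.bwd (nat_lit 1) Steps.nil))) (nat_lit 196) (nat_lit 0),
  Rule.mk (nat_lit 13) (nat_lit 134) (Steps.bwd (nat_lit 3) (Steps.fwd (nat_lit 49152) (Steps.bwd (nat_lit 10) (Steps.bwd (nat_lit 11) (Steps.bwd (nat_lit 12) (Steps.fwd (nat_lit 106496) (Steps.bwd (nat_lit 14) (Steps.fwd (nat_lit 24576) Steps.nil)))))))) (nat_lit 186) (nat_lit 2),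
  Rule.mk (nat_lit 11) (nat_lit 164) (Steps.bwd (nat_lit 3) (Steps.fwd (nat_lit 114688) (Steps.bwd (nat_lit 12) (Steps.fwd (nat_lit 90112) (Steps.fwd (nat_lit 81920) (Steps.fwd (nat_lit 73728) (Steps.bwd (nat_lit 8) (Steps.bwd (nat_lit 5) (Steps.fwd (nat_lit 32768) (Steps.fwd (nat_lit 24576) Steps.nil)))))))))) (nat_lit 183) (nat_lit 10),
  Rule.mk (nat_lit 0) (nat_lit 194) (Steps.bwd (nat_lit 16) (Steps.bwd (nat_lit 1) (Steps.bwd (nat_lit 3) (Steps.fwd (nat_lit 8192) (Steps.fwd (nat_lit 16384) (Steps.fwd (nat_lit 8192) (Steps.bwd (nat_lit 3) (Steps.bwd (nat_lit 1) (Steps.bwd (nat_lit 2) (Steps.bwd (nat_lit 4) (Steps.bwd (nat_lit 1) (Steps.fwd (nat_lit 24576) Steps.nil)))))))))))) (nat_lit 190) (nat_lit 0),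
  Rule.mk (nat_lit 16) (nat_lit 179) (Steps.fwd (nat_lit 8192) (Steps.bwd (nat_lit 3) (Steps.bwd (nat_lit 1) (Steps.fwd (nat_lit 16384) (Steps.bwd (nat_lit 1) (Steps.bwd (nat_lit 3) (Steps.fwd (nat_lit 8192) (Steps.bwd (nat_lit 2) (Steps.fwd (nat_lit 32768) (Steps.bwd (nat_lit 1) (Steps.bwd (nat_lit 2) Steps.nil))))))))))) (nat_lit 190) (nat_lit 1),
  Rule.mk (nat_lit 15) (nat_lit 179) (Steps.bwd (nat_lit 3) (Steps.fwd (nat_lit 8192) (Steps.bwd (nat_lit 4) (Steps.bwd (nat_lit 3) (Steps.bwd (nat_lit 1) (Steps.bwd (nat_lit 2) (Steps.fwd (nat_lit 8192) (Steps.bwd (nat_lit 2) (Steps.bwd (nat_lit 1) (Steps.bwd (nat_lit 2) (Steps.bwd (nat_lit 1) Steps.nil))))))))))) (nat_lit 191) (nat_lit 0),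
  Rule.mk (nat_lit 15) (nat_lit 179) (Steps.bwd (nat_lit 3) (Steps.bwd (nat_lit 1) (Steps.bwd (nat_lit 4) (Steps.fwd (nat_lit 16384) (Steps.fwd (nat_lit 8192) (Steps.fwd (nat_lit 24576) (Steps.fwd (nat_lit 8192) (Steps.bwd (nat_lit 2) (Steps.bwd (nat_lit 1) (Steps.bwd (nat_lit 2) (Steps.bwd (nat_lit 1) Steps.nil))))))))))) (nat_lit 191) (nat_lit 0),
  Rule.mk (nat_lit 17) (nat_lit 179) (Steps.bwd (nat_lit 2) (Steps.fwd (nat_lit 8192) (Steps.fwd (nat_lit 24576) (Steps.fwd (nat_lit 8192) (Steps.fwd (nat_lit 16384) (Steps.fwd (nat_lit 8192) (Steps.bwd (nat_lit 3) (Steps.bwd (nat_lit 1) (Steps.bwd (nat_lit 4) (Steps.bwd (nat_lit 2) (Steps.bwd (nat_lit 1) Steps.nil))))))))))) (nat_lit 193) (nat_lit 0),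
  Rule.mk (nat_lit 0) (nat_lit 194) (Steps.bwd (nat_lit 19) (Steps.fwd (nat_lit 16384) (Steps.fwd (nat_lit 32768) (Steps.fwd (nat_lit 8192) (Steps.fwd (nat_lit 24576) (Steps.bwd (nat_lit 1) (Steps.bwd (nat_lit 2) (Steps.bwd (nat_lit 1) (Steps.bwd (nat_lit 3) (Steps.bwd (nat_lit 1) (Steps.fwd (nat_lit 16384) (Steps.fwd (nat_lit 8192) Steps.nil)))))))))))) (nat_lit 195) (nat_lit 11),
  Rule.mk (nat_lit 6) (nat_lit 104) (Steps.bwd (nat_lit 11) (Steps.bwd (nat_lit 12) (Steps.bwd (nat_lit 14) (Steps.fwd (nat_lit 8192) (Steps.bwd (nat_lit 11) (Steps.bwd (nat_lit 1) Steps.nil)))))) (nat_lit 160) (nat_lit 4),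
  Rule.mk (nat_lit 5) (nat_lit 59) (Steps.fwd (nat_lit 90112) (Steps.bwd (nat_lit 5) (Steps.bwd (nat_lit 11) Steps.nil))) (nat_lit 80) (nat_lit 0),
  Rule.mk (nat_lit 3) (nat_lit 164) (Steps.fwd (nat_lit 32768) (Steps.fwd (nat_lit 40960) (Steps.fwd (nat_lit 65536) (Steps.fwd (nat_lit 73728) (Steps.bwd (nat_lit 10) (Steps.fwd (nat_lit 90112) (Steps.bwd (nat_lit 12) (Steps.fwd (nat_lit 114688) (Steps.fwd (nat_lit 24576) (Steps.bwd (nat_lit 11) Steps.nil)))))))))) (nat_lit 182) (nat_lit 3),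
  Rule.mk (nat_lit 15) (nat_lit 179) (Steps.bwd (nat_lit 3) (Steps.bwd (nat_lit 1) (Steps.fwd (nat_lit 32768) (Steps.bwd (nat_lit 3) (Steps.fwd (nat_lit 8192) (Steps.fwd (nat_lit 24576) (Steps.fwd (nat_lit 8192) (Steps.bwd (nat_lit 2) (Steps.fwd (nat_lit 8192) (Steps.bwd (nat_lit 2) (Steps.bwd (nat_lit 1) Steps.nil))))))))))) (nat_lit 191) (nat_lit 0),
  Rule.mk (nat_lit 18) (nat_lit 179) (Steps.bwd (nat_lit 1) (Steps.fwd (nat_lit 16384) (Steps.bwd (nat_lit 4) (Steps.bwd (nat_lit 1) (Steps.bwd (nat_lit 2) (Steps.bwd (nat_lit 1) (Steps.fwd (nat_lit 24576) (Steps.fwd (nat_lit 8192) (Steps.bwd (nat_lit 3) (Steps.fwd (nat_lit 8192) (Steps.fwd (nat_lit 16384) Steps.nil))))))))))) (nat_lit 192) (nat_lit 1),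
  Rule.mk (nat_lit 17) (nat_lit 179) (Steps.fwd (nat_lit 24576) (Steps.fwd (nat_lit 8192) (Steps.bwd (nat_lit 2) (Steps.fwd (nat_lit 8192) (Steps.bwd (nat_lit 3) (Steps.bwd (nat_lit 1) (Steps.bwd (nat_lit 3) (Steps.fwd (nat_lit 8192) (Steps.bwd (nat_lit 4) (Steps.fwd (nat_lit 24576) (Steps.bwd (nat_lit 1) Steps.nil))))))))))) (nat_lit 193) (nat_lit 0),
  Rule.mk (nat_lit 20) (nat_lit 179) (Steps.fwd (nat_lit 8192) (Steps.fwd (nat_lit 24576) (Steps.fwd (nat_lit 8192) (Steps.bwd (nat_lit 2) (Steps.fwd (nat_lit 8192) (Steps.bwd (nat_lit 3) (Steps.bwd (nat_lit 1) (Steps.bwd (nat_lit 3) (Steps.fwd (nat_lit 8192) (Steps.bwd (nat_lit 4) (Steps.fwd (nat_lit 24576) Steps.nil))))))))))) (nat_lit 194) (nat_lit 1),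
  Rule.mk (nat_lit 0) (nat_lit 194) (Steps.bwd (nat_lit 20) (Steps.bwd (nat_lit 1) (Steps.bwd (nat_lit 2) (Steps.bwd (nat_lit 1) (Steps.fwd (nat_lit 24576) (Steps.bwd (nat_lit 1) (Steps.bwd (nat_lit 3) (Steps.fwd (nat_lit 8192) (Steps.fwd (nat_lit 16384) (Steps.fwd (nat_lit 8192) (Steps.fwd (nat_lit 32768) (Steps.bwd (nat_lit 2) Steps.nil)))))))))))) (nat_lit 194) (nat_lit 0),
  Rule.mk (nat_lit 2) (nat_lit 179) (Steps.bwd (nat_lit 16) (Steps.fwd (nat_lit 8192) (Steps.fwd (nat_lit 16384) (Steps.fwd (nat_lit 8192) (Steps.bwd (nat_lit 3) (Steps.bwd (nat_lit 1) (Steps.fwd (nat_lit 16384) (Steps.bwd (nat_lit 1) (Steps.fwd (nat_lit 24576) (Steps.bwd (nat_lit 4) (Steps.bwd (nat_lit 1) Steps.nil))))))))))) (nat_lit 190) (nat_lit 0),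
  Rule.mk (nat_lit 8) (nat_lit 89) (Steps.fwd (nat_lit 16384) (Steps.fwd (nat_lit 32768) (Steps.fwd (nat_lit 57344) (Steps.bwd (nat_lit 14) (Steps.bwd (nat_lit 2) Steps.nil))))) (nat_lit 176) (nat_lit 2),
  Rule.mk (nat_lit 9) (nat_lit 134) (Steps.fwd (nat_lit 16384) (Steps.fwd (nat_lit 114688) (Steps.fwd (nat_lit 90112) (Steps.bwd (nat_lit 9) (Steps.bwd (nat_lit 8) (Steps.fwd (nat_lit 40960) (Steps.bwd (nat_lit 4) (Steps.bwd (nat_lit 2) Steps.nil)))))))) (nat_lit 179) (nat_lit 8),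
  Rule.mk (nat_lit 5) (nat_lit 149) (Steps.bwd (nat_lit 3) (Steps.fwd (nat_lit 114688) (Steps.fwd (nat_lit 106496) (Steps.bwd (nat_lit 12) (Steps.bwd (nat_lit 9) (Steps.bwd (nat_lit 8) (Steps.fwd (nat_lit 40960) (Steps.bwd (nat_lit 4) (Steps.bwd (nat_lit 2) Steps.nil))))))))) (nat_lit 171) (nat_lit 9),
  Rule.mk (nat_lit 11) (nat_lit 164) (Steps.bwd (nat_lit 3) (Steps.bwd (nat_lit 14) (Steps.bwd (nat_lit 12) (Steps.bwd (nat_lit 11) (Steps.bwd (nat_lit 10) (Steps.bwd (nat_lit 9) (Steps.bwd (nat_lit 8) (Steps.fwd (nat_lit 40960) (Steps.bwd (nat_lit 4) (Steps.bwd (nat_lit 2) Steps.nil)))))))))) (nat_lit 183) (nat_lit 10),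
  Rule.mk (nat_lit 16) (nat_lit 179) (Steps.bwd (nat_lit 1) (Steps.bwd (nat_lit 3) (Steps.fwd (nat_lit 8192) (Steps.fwd (nat_lit 16384) (Steps.bwd (nat_lit 1) (Steps.fwd (nat_lit 16384) (Steps.bwd (nat_lit 1) (Steps.bwd (nat_lit 2) (Steps.bwd (nat_lit 4) (Steps.fwd (nat_lit 8192) (Steps.fwd (nat_lit 24576) Steps.nil))))))))))) (nat_lit 190) (nat_lit 1)]
noncomputable def R_52 : List (Rule) := [Rule.mk (nat_lit 16) (nat_lit 179) (Steps.fwd (nat_lit 8192) (Steps.fwd (nat_lit 16384) (Steps.bwd (nat_lit 1) (Steps.fwd (nat_lit 16384) (Steps.bwd (nat_lit 1) (Steps.fwd (nat_lit 16384) (Steps.fwd (nat_lit 8192) (Steps.bwd (nat_lit 2) (Steps.bwd (nat_lit 4) (Steps.fwd (nat_lit 8192) (Steps.bwd (nat_lit 2) Steps.nil))))))))))) (nat_lit 190) (nat_lit 1),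
  Rule.mk (nat_lit 18) (nat_lit 179) (Steps.bwd (nat_lit 1) (Steps.fwd (nat_lit 16384) (Steps.bwd (nat_lit 4) (Steps.fwd (nat_lit 8192) (Steps.fwd (nat_lit 24576) (Steps.fwd (nat_lit 8192) (Steps.bwd (nat_lit 2) (Steps.bwd (nat_lit 1) (Steps.fwd (nat_lit 16384) (Steps.bwd (nat_lit 1) (Steps.fwd (nat_lit 16384) Steps.nil))))))))))) (nat_lit 192) (nat_lit 1),
  Rule.mk (nat_lit 0) (nat_lit 194) (Steps.bwd (nat_lit 17) (Steps.fwd (nat_lit 24576) (Steps.fwd (nat_lit 8192) (Steps.bwd (nat_lit 2) (Steps.bwd (nat_lit 1) (Steps.fwd (nat_lit 16384) (Steps.bwd (nat_lit 1) (Steps.fwd (nat_lit 16384) (Steps.fwd (nat_lit 8192) (Steps.fwd (nat_lit 32768) (Steps.fwd (nat_lit 24576) (Steps.fwd (nat_lit 8192) Steps.nil)))))))))))) (nat_lit 193) (nat_lit 11),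
  Rule.mk (nat_lit 0) (nat_lit 194) (Steps.bwd (nat_lit 19) (Steps.bwd (nat_lit 3) (Steps.bwd (nat_lit 4) (Steps.bwd (nat_lit 1) (Steps.bwd (nat_lit 2) (Steps.fwd (nat_lit 8192) (Steps.bwd (nat_lit 2) (Steps.fwd (nat_lit 8192) (Steps.fwd (nat_lit 16384) (Steps.fwd (nat_lit 8192) (Steps.bwd (nat_lit 3) (Steps.bwd (nat_lit 1) Steps.nil)))))))))))) (nat_lit 195) (nat_lit 11),
  Rule.mk (nat_lit 0) (nat_lit 194) (Steps.bwd (nat_lit 19) (Steps.fwd (nat_lit 16384) (Steps.bwd (nat_lit 4) (Steps.fwd (nat_lit 8192) (Steps.fwd (nat_lit 24576) (Steps.fwd (nat_lit 8192) (Steps.bwd (nat_lit 2) (Steps.bwd (nat_lit 1) (Steps.fwd (nat_lit 16384) (Steps.bwd (nat_lit 1) (Steps.fwd (nat_lit 16384) (Steps.fwd (nat_lit 8192) Steps.nil)))))))))))) (nat_lit 195) (nat_lit 11),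
  Rule.mk (nat_lit 19) (nat_lit 179) (Steps.bwd (nat_lit 3) (Steps.bwd (nat_lit 4) (Steps.bwd (nat_lit 1) (Steps.bwd (nat_lit 2) (Steps.fwd (nat_lit 8192) (Steps.fwd (nat_lit 24576) (Steps.fwd (nat_lit 8192) (Steps.fwd (nat_lit 16384) (Steps.bwd (nat_lit 1) (Steps.fwd (nat_lit 16384) (Steps.fwd (nat_lit 8192) Steps.nil))))))))))) (nat_lit 195) (nat_lit 0),
  Rule.mk (nat_lit 6) (nat_lit 134) (Steps.bwd (nat_lit 1) (Steps.bwd (nat_lit 14) (Steps.fwd (nat_lit 8192) (Steps.fwd (nat_lit 114688) (Steps.bwd (nat_lit 13) (Steps.bwd (nat_lit 12) (Steps.bwd (nat_lit 11) (Steps.bwd (nat_lit 10) Steps.nil)))))))) (nat_lit 167) (nat_lit 6),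
  Rule.mk (nat_lit 18) (nat_lit 179) (Steps.bwd (nat_lit 1) (Steps.bwd (nat_lit 3) (Steps.bwd (nat_lit 4) (Steps.fwd (nat_lit 8192) (Steps.bwd (nat_lit 2) (Steps.fwd (nat_lit 8192) (Steps.fwd (nat_lit 24576) (Steps.fwd (nat_lit 8192) (Steps.fwd (nat_lit 16384) (Steps.bwd (nat_lit 1) (Steps.fwd (nat_lit 16384) Steps.nil))))))))))) (nat_lit 192) (nat_lit 1),
  Rule.mk (nat_lit 2) (nat_lit 104) (Steps.fwd (nat_lit 81920) (Steps.fwd (nat_lit 16384) (Steps.fwd (nat_lit 114688) (Steps.fwd (nat_lit 98304) (Steps.bwd (nat_lit 11) (Steps.bwd (nat_lit 6) Steps.nil)))))) (nat_lit 181) (nat_lit 5),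
  Rule.mk (nat_lit 3) (nat_lit 164) (Steps.fwd (nat_lit 40960) (Steps.fwd (nat_lit 49152) (Steps.bwd (nat_lit 9) (Steps.fwd (nat_lit 81920) (Steps.bwd (nat_lit 11) (Steps.bwd (nat_lit 12) (Steps.fwd (nat_lit 106496) (Steps.fwd (nat_lit 114688) (Steps.fwd (nat_lit 24576) (Steps.bwd (nat_lit 6) Steps.nil)))))))))) (nat_lit 172) (nat_lit 3),
  Rule.mk (nat_lit 16) (nat_lit 179) (Steps.fwd (nat_lit 8192) (Steps.bwd (nat_lit 3) (Steps.bwd (nat_lit 1) (Steps.fwd (nat_lit 16384) (Steps.bwd (nat_lit 1) (Steps.fwd (nat_lit 16384) (Steps.bwd (nat_lit 1) (Steps.fwd (nat_lit 24576) (Steps.fwd (nat_lit 32768) (Steps.bwd (nat_lit 1) (Steps.bwd (nat_lit 2) Steps.nil))))))))))) (nat_lit 190) (nat_lit 1),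
  Rule.mk (nat_lit 15) (nat_lit 179) (Steps.bwd (nat_lit 3) (Steps.bwd (nat_lit 1) (Steps.fwd (nat_lit 32768) (Steps.bwd (nat_lit 3) (Steps.fwd (nat_lit 8192) (Steps.fwd (nat_lit 24576) (Steps.fwd (nat_lit 8192) (Steps.bwd (nat_lit 2) (Steps.bwd (nat_lit 1) (Steps.fwd (nat_lit 24576) (Steps.fwd (nat_lit 8192) Steps.nil))))))))))) (nat_lit 191) (nat_lit 0),
  Rule.mk (nat_lit 15) (nat_lit 179) (Steps.fwd (nat_lit 16384) (Steps.bwd (nat_lit 1) (Steps.fwd (nat_lit 32768) (Steps.fwd (nat_lit 16384) (Steps.fwd (nat_lit 8192) (Steps.fwd (nat_lit 24576) (Steps.fwd (nat_lit 8192) (Steps.bwd (nat_lit 2) (Steps.bwd (nat_lit 1) (Steps.bwd (nat_lit 2) (Steps.bwd (nat_lit 1) Steps.nil))))))))))) (nat_lit 191) (nat_lit 0),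
  Rule.mk (nat_lit 0) (nat_lit 194) (Steps.bwd (nat_lit 17) (Steps.fwd (nat_lit 24576) (Steps.bwd (nat_lit 1) (Steps.bwd (nat_lit 2) (Steps.fwd (nat_lit 8192) (Steps.fwd (nat_lit 16384) (Steps.bwd (nat_lit 1) (Steps.bwd (nat_lit 3) (Steps.bwd (nat_lit 1) (Steps.fwd (nat_lit 32768) (Steps.fwd (nat_lit 24576) (Steps.fwd (nat_lit 8192) Steps.nil)))))))))))) (nat_lit 193) (nat_lit 11),
  Rule.mk (nat_lit 20) (nat_lit 179) (Steps.fwd (nat_lit 8192) (Steps.fwd (nat_lit 24576) (Steps.fwd (nat_lit 8192) (Steps.bwd (nat_lit 2) (Steps.bwd (nat_lit 1) (Steps.fwd (nat_lit 16384) (Steps.fwd (nat_lit 8192) (Steps.bwd (nat_lit 3) (Steps.fwd (nat_lit 8192) (Steps.bwd (nat_lit 4) (Steps.fwd (nat_lit 24576) Steps.nil))))))))))) (nat_lit 194) (nat_lit 1),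
  Rule.mk (nat_lit 0) (nat_lit 194) (Steps.bwd (nat_lit 20) (Steps.bwd (nat_lit 1) (Steps.fwd (nat_lit 24576) (Steps.bwd (nat_lit 1) (Steps.bwd (nat_lit 2) (Steps.fwd (nat_lit 8192) (Steps.fwd (nat_lit 16384) (Steps.bwd (nat_lit 1) (Steps.bwd (nat_lit 3) (Steps.bwd (nat_lit 1) (Steps.fwd (nat_lit 32768) (Steps.fwd (nat_lit 24576) Steps.nil)))))))))))) (nat_lit 194) (nat_lit 0),
  Rule.mk (nat_lit 12) (nat_lit 104) (Steps.bwd (nat_lit 3) (Steps.fwd (nat_lit 32768) (Steps.fwd (nat_lit 40960) (Steps.fwd (nat_lit 65536) (Steps.fwd (nat_lit 73728) (Steps.bwd (nat_lit 2) Steps.nil)))))) (nat_lit 184) (nat_lit 2),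
  Rule.mk (nat_lit 5) (nat_lit 149) (Steps.bwd (nat_lit 3) (Steps.fwd (nat_lit 32768) (Steps.fwd (nat_lit 40960) (Steps.fwd (nat_lit 65536) (Steps.fwd (nat_lit 73728) (Steps.bwd (nat_lit 12) (Steps.bwd (nat_lit 13) (Steps.fwd (nat_lit 114688) (Steps.fwd (nat_lit 24576) Steps.nil))))))))) (nat_lit 170) (nat_lit 2),
  Rule.mk (nat_lit 18) (nat_lit 179) (Steps.bwd (nat_lit 1) (Steps.fwd (nat_lit 16384) (Steps.fwd (nat_lit 32768) (Steps.bwd (nat_lit 1) (Steps.bwd (nat_lit 2) (Steps.bwd (nat_lit 1) (Steps.fwd (nat_lit 24576) (Steps.fwd (nat_lit 8192) (Steps.fwd (nat_lit 16384) (Steps.fwd (nat_lit 8192) (Steps.bwd (nat_lit 3) Steps.nil))))))))))) (nat_lit 192) (nat_lit 1),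
  Rule.mk (nat_lit 1) (nat_lit 179) (Steps.bwd (nat_lit 19) (Steps.fwd (nat_lit 16384) (Steps.fwd (nat_lit 32768) (Steps.bwd (nat_lit 1) (Steps.bwd (nat_lit 2) (Steps.bwd (nat_lit 1) (Steps.fwd (nat_lit 24576) (Steps.fwd (nat_lit 8192) (Steps.fwd (nat_lit 16384) (Steps.fwd (nat_lit 8192) (Steps.bwd (nat_lit 3) Steps.nil))))))))))) (nat_lit 195) (nat_lit 11),
  Rule.mk (nat_lit 11) (nat_lit 104) (Steps.fwd (nat_lit 8192) (Steps.bwd (nat_lit 6) (Steps.bwd (nat_lit 11) (Steps.bwd (nat_lit 12) (Steps.bwd (nat_lit 14) (Steps.bwd (nat_lit 1) Steps.nil)))))) (nat_lit 160) (nat_lit 2),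
  Rule.mk (nat_lit 14) (nat_lit 104) (Steps.fwd (nat_lit 98304) (Steps.fwd (nat_lit 90112) (Steps.bwd (nat_lit 6) (Steps.fwd (nat_lit 8192) (Steps.fwd (nat_lit 90112) (Steps.bwd (nat_lit 1) Steps.nil)))))) (nat_lit 161) (nat_lit 1),
  Rule.mk (nat_lit 10) (nat_lit 134) (Steps.fwd (nat_lit 8192) (Steps.bwd (nat_lit 4) (Steps.fwd (nat_lit 40960) (Steps.bwd (nat_lit 8) (Steps.fwd (nat_lit 73728) (Steps.fwd (nat_lit 90112) (Steps.bwd (nat_lit 14) (Steps.bwd (nat_lit 1) Steps.nil)))))))) (nat_lit 158) (nat_lit 2),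
  Rule.mk (nat_lit 12) (nat_lit 164) (Steps.fwd (nat_lit 8192) (Steps.bwd (nat_lit 4) (Steps.fwd (nat_lit 40960) (Steps.bwd (nat_lit 8) (Steps.fwd (nat_lit 73728) (Steps.bwd (nat_lit 10) (Steps.bwd (nat_lit 11) (Steps.bwd (nat_lit 12) (Steps.bwd (nat_lit 14) (Steps.bwd (nat_lit 1) Steps.nil)))))))))) (nat_lit 162) (nat_lit 2),
  Rule.mk (nat_lit 15) (nat_lit 179) (Steps.bwd (nat_lit 3) (Steps.bwd (nat_lit 1) (Steps.bwd (nat_lit 4) (Steps.bwd (nat_lit 3) (Steps.fwd (nat_lit 8192) (Steps.bwd (nat_lit 2) (Steps.bwd (nat_lit 1) (Steps.fwd (nat_lit 24576) (Steps.bwd (nat_lit 1) (Steps.fwd (nat_lit 24576) (Steps.fwd (nat_lit 8192) Steps.nil))))))))))) (nat_lit 191) (nat_lit 0),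
  Rule.mk (nat_lit 17) (nat_lit 179) (Steps.bwd (nat_lit 2) (Steps.fwd (nat_lit 8192) (Steps.bwd (nat_lit 2) (Steps.bwd (nat_lit 1) (Steps.fwd (nat_lit 16384) (Steps.bwd (nat_lit 1) (Steps.bwd (nat_lit 3) (Steps.bwd (nat_lit 1) (Steps.bwd (nat_lit 4) (Steps.fwd (nat_lit 24576) (Steps.bwd (nat_lit 1) Steps.nil))))))))))) (nat_lit 193) (nat_lit 0),
  Rule.mk (nat_lit 20) (nat_lit 179) (Steps.bwd (nat_lit 1) (Steps.bwd (nat_lit 2) (Steps.bwd (nat_lit 1) (Steps.fwd (nat_lit 24576) (Steps.fwd (nat_lit 8192) (Steps.fwd (nat_lit 16384) (Steps.fwd (nat_lit 8192) (Steps.bwd (nat_lit 3) (Steps.bwd (nat_lit 1) (Steps.bwd (nat_lit 4) (Steps.bwd (nat_lit 2) Steps.nil))))))))))) (nat_lit 194) (nat_lit 1),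
  Rule.mk (nat_lit 3) (nat_lit 104) (Steps.bwd (nat_lit 14) (Steps.bwd (nat_lit 13) (Steps.bwd (nat_lit 7) (Steps.fwd (nat_lit 40960) (Steps.bwd (nat_lit 2) (Steps.bwd (nat_lit 7) Steps.nil)))))) (nat_lit 175) (nat_lit 0),
  Rule.mk (nat_lit 15) (nat_lit 179) (Steps.bwd (nat_lit 3) (Steps.fwd (nat_lit 8192) (Steps.fwd (nat_lit 32768) (Steps.bwd (nat_lit 3) (Steps.fwd (nat_lit 8192) (Steps.fwd (nat_lit 24576) (Steps.fwd (nat_lit 8192) (Steps.bwd (nat_lit 2) (Steps.fwd (nat_lit 8192) (Steps.bwd (nat_lit 2) (Steps.fwd (nat_lit 8192) Steps.nil))))))))))) (nat_lit 191) (nat_lit 0),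
  Rule.mk (nat_lit 2) (nat_lit 164) (Steps.bwd (nat_lit 11) (Steps.bwd (nat_lit 3) (Steps.bwd (nat_lit 4) (Steps.bwd (nat_lit 5) (Steps.fwd (nat_lit 65536) (Steps.fwd (nat_lit 73728) (Steps.bwd (nat_lit 10) (Steps.fwd (nat_lit 90112) (Steps.bwd (nat_lit 12) (Steps.bwd (nat_lit 14) Steps.nil)))))))))) (nat_lit 182) (nat_lit 1),
  Rule.mk (nat_lit 15) (nat_lit 179) (Steps.fwd (nat_lit 16384) (Steps.bwd (nat_lit 1) (Steps.fwd (nat_lit 32768) (Steps.bwd (nat_lit 3) (Steps.bwd (nat_lit 1) (Steps.fwd (nat_lit 24576) (Steps.bwd (nat_lit 1) (Steps.bwd (nat_lit 2) (Steps.fwd (nat_lit 8192) (Steps.bwd (nat_lit 2) (Steps.bwd (nat_lit 1) Steps.nil))))))))))) (nat_lit 191) (nat_lit 0),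
  Rule.mk (nat_lit 0) (nat_lit 194) (Steps.bwd (nat_lit 18) (Steps.bwd (nat_lit 1) (Steps.fwd (nat_lit 16384) (Steps.bwd (nat_lit 4) (Steps.bwd (nat_lit 1) (Steps.fwd (nat_lit 24576) (Steps.bwd (nat_lit 1) (Steps.bwd (nat_lit 2) (Steps.fwd (nat_lit 8192) (Steps.fwd (nat_lit 16384) (Steps.fwd (nat_lit 8192) (Steps.fwd (nat_lit 16384) Steps.nil)))))))))))) (nat_lit 192) (nat_lit 0),
  Rule.mk (nat_lit 19) (nat_lit 179) (Steps.fwd (nat_lit 16384) (Steps.bwd (nat_lit 4) (Steps.bwd (nat_lit 1) (Steps.fwd (nat_lit 24576) (Steps.bwd (nat_lit 1) (Steps.bwd (nat_lit 2) (Steps.fwd (nat_lit 8192) (Steps.fwd (nat_lit 16384) (Steps.fwd (nat_lit 8192) (Steps.fwd (nat_lit 16384) (Steps.bwd (nat_lit 1) Steps.nil))))))))))) (nat_lit 195) (nat_lit 0),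
  Rule.mk (nat_lit 1) (nat_lit 179) (Steps.bwd (nat_lit 19) (Steps.bwd (nat_lit 3) (Steps.bwd (nat_lit 4) (Steps.fwd (nat_lit 8192) (Steps.bwd (nat_lit 2) (Steps.fwd (nat_lit 8192) (Steps.fwd (nat_lit 24576) (Steps.fwd (nat_lit 8192) (Steps.fwd (nat_lit 16384) (Steps.bwd (nat_lit 1) (Steps.fwd (nat_lit 16384) Steps.nil))))))))))) (nat_lit 195) (nat_lit 11),
  Rule.mk (nat_lit 10) (nat_lit 134) (Steps.fwd (nat_lit 8192) (Steps.fwd (nat_lit 114688) (Steps.bwd (nat_lit 11) (Steps.bwd (nat_lit 9) (Steps.fwd (nat_lit 65536) (Steps.fwd (nat_lit 40960) (Steps.bwd (nat_lit 4) (Steps.bwd (nat_lit 1) Steps.nil)))))))) (nat_lit 159) (nat_lit 8),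
  Rule.mk (nat_lit 3) (nat_lit 179) (Steps.bwd (nat_lit 18) (Steps.fwd (nat_lit 8192) (Steps.bwd (nat_lit 3) (Steps.bwd (nat_lit 4) (Steps.fwd (nat_lit 8192) (Steps.bwd (nat_lit 2) (Steps.bwd (nat_lit 1) (Steps.fwd (nat_lit 24576) (Steps.bwd (nat_lit 1) (Steps.fwd (nat_lit 16384) (Steps.bwd (nat_lit 1) Steps.nil))))))))))) (nat_lit 192) (nat_lit 0),
  Rule.mk (nat_lit 1) (nat_lit 179) (Steps.bwd (nat_lit 19) (Steps.bwd (nat_lit 3) (Steps.bwd (nat_lit 4) (Steps.fwd (nat_lit 8192) (Steps.bwd (nat_lit 2) (Steps.bwd (nat_lit 1) (Steps.fwd (nat_lit 24576) (Steps.bwd (nat_lit 1) (Steps.fwd (nat_lit 16384) (Steps.bwd (nat_lit 1) (Steps.bwd (nat_lit 3) Steps.nil))))))))))) (nat_lit 195) (nat_lit 11),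
  Rule.mk (nat_lit 14) (nat_lit 89) (Steps.bwd (nat_lit 7) (Steps.bwd (nat_lit 4) (Steps.fwd (nat_lit 24576) (Steps.fwd (nat_lit 65536) (Steps.bwd (nat_lit 3) Steps.nil))))) (nat_lit 177) (nat_lit 1),
  Rule.mk (nat_lit 5) (nat_lit 164) (Steps.bwd (nat_lit 6) (Steps.fwd (nat_lit 73728) (Steps.fwd (nat_lit 81920) (Steps.bwd (nat_lit 11) (Steps.bwd (nat_lit 12) (Steps.fwd (nat_lit 106496) (Steps.fwd (nat_lit 114688) (Steps.fwd (nat_lit 24576) (Steps.fwd (nat_lit 49152) (Steps.bwd (nat_lit 3) Steps.nil)))))))))) (nat_lit 172) (nat_lit 4),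
  Rule.mk (nat_lit 11) (nat_lit 164) (Steps.bwd (nat_lit 3) (Steps.bwd (nat_lit 14) (Steps.bwd (nat_lit 12) (Steps.fwd (nat_lit 90112) (Steps.bwd (nat_lit 10) (Steps.fwd (nat_lit 73728) (Steps.bwd (nat_lit 8) (Steps.bwd (nat_lit 5) (Steps.bwd (nat_lit 4) (Steps.bwd (nat_lit 2) Steps.nil)))))))))) (nat_lit 183) (nat_lit 10),
  Rule.mk (nat_lit 0) (nat_lit 74) (Steps.fwd (nat_lit 8192) (Steps.bwd (nat_lit 5) (Steps.fwd (nat_lit 8192) (Steps.fwd (nat_lit 32768) Steps.nil)))) (nat_lit 146) (nat_lit 2),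
  Rule.mk (nat_lit 2) (nat_lit 149) (Steps.bwd (nat_lit 5) (Steps.bwd (nat_lit 3) (Steps.fwd (nat_lit 32768) (Steps.fwd (nat_lit 40960) (Steps.bwd (nat_lit 8) (Steps.bwd (nat_lit 9) (Steps.bwd (nat_lit 12) (Steps.bwd (nat_lit 13) (Steps.fwd (nat_lit 114688) Steps.nil))))))))) (nat_lit 170) (nat_lit 1),
  Rule.mk (nat_lit 0) (nat_lit 194) (Steps.bwd (nat_lit 17) (Steps.fwd (nat_lit 24576) (Steps.fwd (nat_lit 8192) (Steps.bwd (nat_lit 2) (Steps.fwd (nat_lit 8192) (Steps.fwd (nat_lit 16384) (Steps.bwd (nat_lit 1) (Steps.fwd (nat_lit 16384) (Steps.bwd (nat_lit 1) (Steps.bwd (nat_lit 4) (Steps.bwd (nat_lit 2) (Steps.bwd (nat_lit 1) Steps.nil)))))))))))) (nat_lit 193) (nat_lit 11),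
  Rule.mk (nat_lit 20) (nat_lit 179) (Steps.bwd (nat_lit 1) (Steps.fwd (nat_lit 24576) (Steps.fwd (nat_lit 8192) (Steps.bwd (nat_lit 2) (Steps.fwd (nat_lit 8192) (Steps.fwd (nat_lit 16384) (Steps.bwd (nat_lit 1) (Steps.fwd (nat_lit 16384) (Steps.bwd (nat_lit 1) (Steps.bwd (nat_lit 4) (Steps.bwd (nat_lit 2) Steps.nil))))))))))) (nat_lit 194) (nat_lit 1),
  Rule.mk (nat_lit 16) (nat_lit 179) (Steps.bwd (nat_lit 1) (Steps.bwd (nat_lit 3) (Steps.fwd (nat_lit 8192) (Steps.fwd (nat_lit 16384) (Steps.bwd (nat_lit 1) (Steps.fwd (nat_lit 16384) (Steps.bwd (nat_lit 1) (Steps.bwd (nat_lit 2) (Steps.fwd (nat_lit 32768) (Steps.fwd (nat_lit 8192) (Steps.bwd (nat_lit 2) Steps.nil))))))))))) (nat_lit 190) (nat_lit 1),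
  Rule.mk (nat_lit 16) (nat_lit 179) (Steps.fwd (nat_lit 8192) (Steps.fwd (nat_lit 16384) (Steps.bwd (nat_lit 1) (Steps.fwd (nat_lit 16384) (Steps.bwd (nat_lit 1) (Steps.bwd (nat_lit 3) (Steps.bwd (nat_lit 1) (Steps.fwd (nat_lit 24576) (Steps.fwd (nat_lit 32768) (Steps.fwd (nat_lit 8192) (Steps.fwd (nat_lit 24576) Steps.nil))))))))))) (nat_lit 190) (nat_lit 1),
  Rule.mk (nat_lit 0) (nat_lit 194) (Steps.bwd (nat_lit 16) (Steps.bwd (nat_lit 1) (Steps.fwd (nat_lit 16384) (Steps.bwd (nat_lit 1) (Steps.bwd (nat_lit 3) (Steps.bwd (nat_lit 1) (Steps.bwd (nat_lit 3) (Steps.fwd (nat_lit 8192) (Steps.fwd (nat_lit 24576) (Steps.bwd (nat_lit 4) (Steps.fwd (nat_lit 8192) (Steps.fwd (nat_lit 24576) Steps.nil)))))))))))) (nat_lit 190) (nat_lit 0),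
  Rule.mk (nat_lit 0) (nat_lit 194) (Steps.bwd (nat_lit 15) (Steps.bwd (nat_lit 3) (Steps.fwd (nat_lit 8192) (Steps.fwd (nat_lit 32768) (Steps.bwd (nat_lit 3) (Steps.bwd (nat_lit 1) (Steps.fwd (nat_lit 24576) (Steps.bwd (nat_lit 1) (Steps.fwd (nat_lit 24576) (Steps.fwd (nat_lit 8192) (Steps.fwd (nat_lit 24576) (Steps.fwd (nat_lit 8192) Steps.nil)))))))))))) (nat_lit 191) (nat_lit 11),
  Rule.mk (nat_lit 17) (nat_lit 179) (Steps.bwd (nat_lit 2) (Steps.bwd (nat_lit 1) (Steps.fwd (nat_lit 24576) (Steps.bwd (nat_lit 1) (Steps.fwd (nat_lit 16384) (Steps.bwd (nat_lit 1) (Steps.bwd (nat_lit 3) (Steps.bwd (nat_lit 1) (Steps.bwd (nat_lit 4) (Steps.fwd (nat_lit 24576) (Steps.fwd (nat_lit 8192) Steps.nil))))))))))) (nat_lit 193) (nat_lit 0),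
  Rule.mk (nat_lit 0) (nat_lit 194) (Steps.fwd (nat_lit 8192) (Steps.bwd (nat_lit 2) (Steps.bwd (nat_lit 1) (Steps.fwd (nat_lit 24576) (Steps.bwd (nat_lit 1) (Steps.fwd (nat_lit 16384) (Steps.bwd (nat_lit 1) (Steps.bwd (nat_lit 3) (Steps.bwd (nat_lit 1) (Steps.bwd (nat_lit 4) (Steps.fwd (nat_lit 24576) (Steps.fwd (nat_lit 155648) Steps.nil)))))))))))) (nat_lit 194) (nat_lit 1),
  Rule.mk (nat_lit 17) (nat_lit 44) (Steps.bwd (nat_lit 0) (Steps.fwd (nat_lit 139264) Steps.nil)) (nat_lit 196) (nat_lit 0),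
  Rule.mk (nat_lit 6) (nat_lit 104) (Steps.bwd (nat_lit 1) (Steps.bwd (nat_lit 11) (Steps.bwd (nat_lit 1) (Steps.bwd (nat_lit 14) (Steps.fwd (nat_lit 98304) (Steps.fwd (nat_lit 90112) Steps.nil)))))) (nat_lit 161) (nat_lit 4),
  Rule.mk (nat_lit 20) (nat_lit 179) (Steps.bwd (nat_lit 1) (Steps.fwd (nat_lit 24576) (Steps.bwd (nat_lit 1) (Steps.bwd (nat_lit 2) (Steps.bwd (nat_lit 1) (Steps.fwd (nat_lit 16384) (Steps.fwd (nat_lit 8192) (Steps.fwd (nat_lit 16384) (Steps.fwd (nat_lit 8192) (Steps.fwd (nat_lit 32768) (Steps.fwd (nat_lit 24576) Steps.nil))))))))))) (nat_lit 194) (nat_lit 1),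
  Rule.mk (nat_lit 1) (nat_lit 179) (Steps.bwd (nat_lit 17) (Steps.fwd (nat_lit 24576) (Steps.bwd (nat_lit 1) (Steps.bwd (nat_lit 2) (Steps.bwd (nat_lit 1) (Steps.fwd (nat_lit 16384) (Steps.fwd (nat_lit 8192) (Steps.fwd (nat_lit 16384) (Steps.fwd (nat_lit 8192) (Steps.fwd (nat_lit 32768) (Steps.fwd (nat_lit 24576) Steps.nil))))))))))) (nat_lit 193) (nat_lit 11),
  Rule.mk (nat_lit 6) (nat_lit 104) (Steps.bwd (nat_lit 11) (Steps.fwd (nat_lit 98304) (Steps.bwd (nat_lit 14) (Steps.bwd (nat_lit 1) (Steps.fwd (nat_lit 90112) (Steps.bwd (nat_lit 1) Steps.nil)))))) (nat_lit 160) (nat_lit 4),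
  Rule.mk (nat_lit 13) (nat_lit 104) (Steps.fwd (nat_lit 8192) (Steps.fwd (nat_lit 32768) (Steps.fwd (nat_lit 40960) (Steps.fwd (nat_lit 65536) (Steps.fwd (nat_lit 73728) (Steps.bwd (nat_lit 1) Steps.nil)))))) (nat_lit 164) (nat_lit 2),
  Rule.mk (nat_lit 2) (nat_lit 179) (Steps.bwd (nat_lit 16) (Steps.fwd (nat_lit 8192) (Steps.bwd (nat_lit 3) (Steps.bwd (nat_lit 1) (Steps.fwd (nat_lit 16384) (Steps.fwd (nat_lit 8192) (Steps.fwd (nat_lit 16384) (Steps.fwd (nat_lit 8192) (Steps.bwd (nat_lit 2) (Steps.fwd (nat_lit 32768) (Steps.bwd (nat_lit 1) Steps.nil))))))))))) (nat_lit 190) (nat_lit 0),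
  Rule.mk (nat_lit 3) (nat_lit 179) (Steps.bwd (nat_lit 18) (Steps.fwd (nat_lit 8192) (Steps.fwd (nat_lit 16384) (Steps.bwd (nat_lit 4) (Steps.fwd (nat_lit 8192) (Steps.fwd (nat_lit 24576) (Steps.fwd (nat_lit 8192) (Steps.fwd (nat_lit 24576) (Steps.bwd (nat_lit 1) (Steps.bwd (nat_lit 3) (Steps.bwd (nat_lit 1) Steps.nil))))))))))) (nat_lit 192) (nat_lit 0),
  Rule.mk (nat_lit 1) (nat_lit 179) (Steps.bwd (nat_lit 19) (Steps.fwd (nat_lit 16384) (Steps.bwd (nat_lit 4) (Steps.fwd (nat_lit 8192) (Steps.fwd (nat_lit 24576) (Steps.fwd (nat_lit 8192) (Steps.fwd (nat_lit 24576) (Steps.bwd (nat_lit 1) (Steps.bwd (nat_lit 3) (Steps.bwd (nat_lit 1) (Steps.bwd (nat_lit 3) Steps.nil))))))))))) (nat_lit 195) (nat_lit 11),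
  Rule.mk (nat_lit 6) (nat_lit 134) (Steps.bwd (nat_lit 10) (Steps.bwd (nat_lit 11) (Steps.bwd (nat_lit 12) (Steps.fwd (nat_lit 106496) (Steps.bwd (nat_lit 14) (Steps.fwd (nat_lit 24576) (Steps.fwd (nat_lit 106496) (Steps.bwd (nat_lit 3) Steps.nil)))))))) (nat_lit 186) (nat_lit 4),
  Rule.mk (nat_lit 14) (nat_lit 134) (Steps.fwd (nat_lit 8192) (Steps.bwd (nat_lit 6) (Steps.bwd (nat_lit 10) (Steps.bwd (nat_lit 11) (Steps.bwd (nat_lit 12) (Steps.fwd (nat_lit 106496) (Steps.bwd (nat_lit 14) (Steps.fwd (nat_lit 8192) Steps.nil)))))))) (nat_lit 166) (nat_lit 2),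
  Rule.mk (nat_lit 0) (nat_lit 179) (Steps.fwd (nat_lit 24576) (Steps.bwd (nat_lit 6) (Steps.fwd (nat_lit 16384) (Steps.fwd (nat_lit 40960) (Steps.bwd (nat_lit 6) (Steps.fwd (nat_lit 73728) (Steps.bwd (nat_lit 10) (Steps.bwd (nat_lit 11) (Steps.fwd (nat_lit 98304) (Steps.fwd (nat_lit 106496) (Steps.bwd (nat_lit 14) Steps.nil))))))))))) (nat_lit 172) (nat_lit 0),
  Rule.mk (nat_lit 7) (nat_lit 104) (Steps.bwd (nat_lit 3) (Steps.fwd (nat_lit 114688) (Steps.bwd (nat_lit 13) (Steps.bwd (nat_lit 7) (Steps.fwd (nat_lit 40960) (Steps.bwd (nat_lit 2) Steps.nil)))))) (nat_lit 175) (nat_lit 6),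
  Rule.mk (nat_lit 14) (nat_lit 89) (Steps.bwd (nat_lit 1) (Steps.bwd (nat_lit 9) (Steps.bwd (nat_lit 1) (Steps.bwd (nat_lit 4) (Steps.bwd (nat_lit 7) Steps.nil))))) (nat_lit 156) (nat_lit 0)]
noncomputable def R_53 : List (Rule) := [Rule.mk (nat_lit 5) (nat_lit 104) (Steps.fwd (nat_lit 57344) (Steps.fwd (nat_lit 106496) (Steps.fwd (nat_lit 114688) (Steps.fwd (nat_lit 8192) (Steps.bwd (nat_lit 8) (Steps.bwd (nat_lit 1) Steps.nil)))))) (nat_lit 154) (nat_lit 4),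
  Rule.mk (nat_lit 2) (nat_lit 149) (Steps.bwd (nat_lit 5) (Steps.bwd (nat_lit 3) (Steps.fwd (nat_lit 32768) (Steps.fwd (nat_lit 40960) (Steps.bwd (nat_lit 8) (Steps.bwd (nat_lit 9) (Steps.bwd (nat_lit 12) (Steps.fwd (nat_lit 106496) (Steps.fwd (nat_lit 114688) Steps.nil))))))))) (nat_lit 170) (nat_lit 1),
  Rule.mk (nat_lit 16) (nat_lit 179) (Steps.fwd (nat_lit 8192) (Steps.fwd (nat_lit 16384) (Steps.bwd (nat_lit 1) (Steps.bwd (nat_lit 3) (Steps.fwd (nat_lit 8192) (Steps.fwd (nat_lit 16384) (Steps.bwd (nat_lit 1) (Steps.bwd (nat_lit 2) (Steps.fwd (nat_lit 32768) (Steps.bwd (nat_lit 1) (Steps.bwd (nat_lit 2) Steps.nil))))))))))) (nat_lit 190) (nat_lit 1),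
  Rule.mk (nat_lit 15) (nat_lit 179) (Steps.bwd (nat_lit 3) (Steps.bwd (nat_lit 1) (Steps.bwd (nat_lit 4) (Steps.bwd (nat_lit 3) (Steps.bwd (nat_lit 1) (Steps.bwd (nat_lit 2) (Steps.fwd (nat_lit 8192) (Steps.fwd (nat_lit 24576) (Steps.fwd (nat_lit 8192) (Steps.fwd (nat_lit 24576) (Steps.fwd (nat_lit 8192) Steps.nil))))))))))) (nat_lit 191) (nat_lit 0),
  Rule.mk (nat_lit 18) (nat_lit 179) (Steps.bwd (nat_lit 1) (Steps.fwd (nat_lit 16384) (Steps.fwd (nat_lit 32768) (Steps.bwd (nat_lit 1) (Steps.bwd (nat_lit 2) (Steps.fwd (nat_lit 8192) (Steps.fwd (nat_lit 24576) (Steps.fwd (nat_lit 8192) (Steps.bwd (nat_lit 3) (Steps.fwd (nat_lit 8192) (Steps.fwd (nat_lit 16384) Steps.nil))))))))))) (nat_lit 192) (nat_lit 1),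
  Rule.mk (nat_lit 17) (nat_lit 179) (Steps.fwd (nat_lit 24576) (Steps.fwd (nat_lit 8192) (Steps.fwd (nat_lit 24576) (Steps.fwd (nat_lit 8192) (Steps.bwd (nat_lit 3) (Steps.fwd (nat_lit 8192) (Steps.bwd (nat_lit 3) (Steps.bwd (nat_lit 1) (Steps.bwd (nat_lit 4) (Steps.bwd (nat_lit 2) (Steps.fwd (nat_lit 8192) Steps.nil))))))))))) (nat_lit 193) (nat_lit 0),
  Rule.mk (nat_lit 17) (nat_lit 179) (Steps.bwd (nat_lit 2) (Steps.bwd (nat_lit 1) (Steps.bwd (nat_lit 2) (Steps.fwd (nat_lit 8192) (Steps.bwd (nat_lit 3) (Steps.bwd (nat_lit 1) (Steps.fwd (nat_lit 16384) (Steps.bwd (nat_lit 1) (Steps.bwd (nat_lit 4) (Steps.bwd (nat_lit 2) (Steps.bwd (nat_lit 1) Steps.nil))))))))))) (nat_lit 193) (nat_lit 0),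
  Rule.mk (nat_lit 20) (nat_lit 179) (Steps.bwd (nat_lit 1) (Steps.fwd (nat_lit 24576) (Steps.fwd (nat_lit 8192) (Steps.fwd (nat_lit 24576) (Steps.fwd (nat_lit 8192) (Steps.bwd (nat_lit 3) (Steps.fwd (nat_lit 8192) (Steps.bwd (nat_lit 3) (Steps.bwd (nat_lit 1) (Steps.bwd (nat_lit 4) (Steps.bwd (nat_lit 2) Steps.nil))))))))))) (nat_lit 194) (nat_lit 1),
  Rule.mk (nat_lit 0) (nat_lit 194) (Steps.bwd (nat_lit 16) (Steps.bwd (nat_lit 1) (Steps.fwd (nat_lit 16384) (Steps.fwd (nat_lit 8192) (Steps.bwd (nat_lit 3) (Steps.fwd (nat_lit 8192) (Steps.bwd (nat_lit 3) (Steps.bwd (nat_lit 1) (Steps.fwd (nat_lit 24576) (Steps.fwd (nat_lit 32768) (Steps.fwd (nat_lit 8192) (Steps.fwd (nat_lit 24576) Steps.nil)))))))))))) (nat_lit 190) (nat_lit 0),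
  Rule.mk (nat_lit 0) (nat_lit 194) (Steps.bwd (nat_lit 16) (Steps.fwd (nat_lit 8192) (Steps.bwd (nat_lit 3) (Steps.bwd (nat_lit 1) (Steps.bwd (nat_lit 3) (Steps.bwd (nat_lit 1) (Steps.bwd (nat_lit 3) (Steps.bwd (nat_lit 1) (Steps.fwd (nat_lit 24576) (Steps.fwd (nat_lit 32768) (Steps.fwd (nat_lit 8192) (Steps.bwd (nat_lit 2) Steps.nil)))))))))))) (nat_lit 190) (nat_lit 0),
  Rule.mk (nat_lit 18) (nat_lit 179) (Steps.bwd (nat_lit 1) (Steps.fwd (nat_lit 16384) (Steps.bwd (nat_lit 4) (Steps.fwd (nat_lit 8192) (Steps.fwd (nat_lit 24576) (Steps.bwd (nat_lit 1) (Steps.fwd (nat_lit 24576) (Steps.fwd (nat_lit 8192) (Steps.bwd (nat_lit 3) (Steps.fwd (nat_lit 8192) (Steps.bwd (nat_lit 3) Steps.nil))))))))))) (nat_lit 192) (nat_lit 1),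
  Rule.mk (nat_lit 0) (nat_lit 194) (Steps.bwd (nat_lit 19) (Steps.fwd (nat_lit 16384) (Steps.bwd (nat_lit 4) (Steps.fwd (nat_lit 8192) (Steps.fwd (nat_lit 24576) (Steps.bwd (nat_lit 1) (Steps.fwd (nat_lit 24576) (Steps.fwd (nat_lit 8192) (Steps.bwd (nat_lit 3) (Steps.fwd (nat_lit 8192) (Steps.bwd (nat_lit 3) (Steps.bwd (nat_lit 1) Steps.nil)))))))))))) (nat_lit 195) (nat_lit 11),
  Rule.mk (nat_lit 20) (nat_lit 179) (Steps.bwd (nat_lit 1) (Steps.fwd (nat_lit 24576) (Steps.bwd (nat_lit 1) (Steps.bwd (nat_lit 2) (Steps.bwd (nat_lit 1) (Steps.fwd (nat_lit 16384) (Steps.bwd (nat_lit 1) (Steps.fwd (nat_lit 16384) (Steps.fwd (nat_lit 8192) (Steps.bwd (nat_lit 4) (Steps.bwd (nat_lit 2) Steps.nil))))))))))) (nat_lit 194) (nat_lit 1),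
  Rule.mk (nat_lit 2) (nat_lit 179) (Steps.bwd (nat_lit 16) (Steps.fwd (nat_lit 8192) (Steps.fwd (nat_lit 16384) (Steps.bwd (nat_lit 1) (Steps.fwd (nat_lit 16384) (Steps.bwd (nat_lit 1) (Steps.bwd (nat_lit 3) (Steps.fwd (nat_lit 8192) (Steps.bwd (nat_lit 2) (Steps.fwd (nat_lit 32768) (Steps.bwd (nat_lit 1) Steps.nil))))))))))) (nat_lit 190) (nat_lit 0),
  Rule.mk (nat_lit 8) (nat_lit 89) (Steps.fwd (nat_lit 16384) (Steps.bwd (nat_lit 4) (Steps.bwd (nat_lit 7) (Steps.bwd (nat_lit 14) (Steps.bwd (nat_lit 2) Steps.nil))))) (nat_lit 176) (nat_lit 2),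
  Rule.mk (nat_lit 14) (nat_lit 119) (Steps.fwd (nat_lit 16384) (Steps.fwd (nat_lit 114688) (Steps.bwd (nat_lit 12) (Steps.bwd (nat_lit 7) (Steps.bwd (nat_lit 6) (Steps.bwd (nat_lit 5) (Steps.bwd (nat_lit 2) Steps.nil))))))) (nat_lit 189) (nat_lit 7),
  Rule.mk (nat_lit 13) (nat_lit 134) (Steps.fwd (nat_lit 16384) (Steps.bwd (nat_lit 6) (Steps.bwd (nat_lit 10) (Steps.bwd (nat_lit 11) (Steps.bwd (nat_lit 12) (Steps.fwd (nat_lit 106496) (Steps.bwd (nat_lit 14) (Steps.bwd (nat_lit 2) Steps.nil)))))))) (nat_lit 186) (nat_lit 2),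
  Rule.mk (nat_lit 11) (nat_lit 164) (Steps.fwd (nat_lit 16384) (Steps.bwd (nat_lit 4) (Steps.fwd (nat_lit 40960) (Steps.bwd (nat_lit 8) (Steps.bwd (nat_lit 9) (Steps.bwd (nat_lit 10) (Steps.fwd (nat_lit 90112) (Steps.fwd (nat_lit 98304) (Steps.bwd (nat_lit 14) (Steps.bwd (nat_lit 2) Steps.nil)))))))))) (nat_lit 182) (nat_lit 2),
  Rule.mk (nat_lit 1) (nat_lit 179) (Steps.bwd (nat_lit 15) (Steps.fwd (nat_lit 16384) (Steps.bwd (nat_lit 1) (Steps.bwd (nat_lit 4) (Steps.bwd (nat_lit 3) (Steps.bwd (nat_lit 1) (Steps.bwd (nat_lit 2) (Steps.bwd (nat_lit 1) (Steps.fwd (nat_lit 24576) (Steps.fwd (nat_lit 8192) (Steps.fwd (nat_lit 24576) Steps.nil))))))))))) (nat_lit 191) (nat_lit 11),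
  Rule.mk (nat_lit 10) (nat_lit 134) (Steps.fwd (nat_lit 8192) (Steps.fwd (nat_lit 114688) (Steps.bwd (nat_lit 11) (Steps.fwd (nat_lit 73728) (Steps.bwd (nat_lit 8) (Steps.bwd (nat_lit 5) (Steps.bwd (nat_lit 4) (Steps.bwd (nat_lit 1) Steps.nil)))))))) (nat_lit 159) (nat_lit 8),
  Rule.mk (nat_lit 7) (nat_lit 164) (Steps.fwd (nat_lit 8192) (Steps.bwd (nat_lit 5) (Steps.bwd (nat_lit 6) (Steps.bwd (nat_lit 9) (Steps.bwd (nat_lit 10) (Steps.fwd (nat_lit 90112) (Steps.fwd (nat_lit 98304) (Steps.bwd (nat_lit 13) (Steps.fwd (nat_lit 114688) (Steps.bwd (nat_lit 1) Steps.nil)))))))))) (nat_lit 152) (nat_lit 2),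
  Rule.mk (nat_lit 12) (nat_lit 164) (Steps.fwd (nat_lit 8192) (Steps.fwd (nat_lit 32768) (Steps.fwd (nat_lit 40960) (Steps.bwd (nat_lit 8) (Steps.bwd (nat_lit 9) (Steps.bwd (nat_lit 10) (Steps.bwd (nat_lit 11) (Steps.bwd (nat_lit 12) (Steps.fwd (nat_lit 114688) (Steps.bwd (nat_lit 1) Steps.nil)))))))))) (nat_lit 162) (nat_lit 2),
  Rule.mk (nat_lit 2) (nat_lit 179) (Steps.bwd (nat_lit 16) (Steps.fwd (nat_lit 8192) (Steps.fwd (nat_lit 16384) (Steps.bwd (nat_lit 1) (Steps.fwd (nat_lit 16384) (Steps.bwd (nat_lit 1) (Steps.bwd (nat_lit 3) (Steps.bwd (nat_lit 1) (Steps.fwd (nat_lit 24576) (Steps.bwd (nat_lit 4) (Steps.bwd (nat_lit 1) Steps.nil))))))))))) (nat_lit 190) (nat_lit 0),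
  Rule.mk (nat_lit 0) (nat_lit 119) (Steps.fwd (nat_lit 81920) (Steps.fwd (nat_lit 16384) (Steps.fwd (nat_lit 114688) (Steps.bwd (nat_lit 12) (Steps.fwd (nat_lit 90112) (Steps.fwd (nat_lit 49152) (Steps.bwd (nat_lit 2) Steps.nil))))))) (nat_lit 181) (nat_lit 5),
  Rule.mk (nat_lit 12) (nat_lit 104) (Steps.bwd (nat_lit 3) (Steps.fwd (nat_lit 32768) (Steps.fwd (nat_lit 40960) (Steps.fwd (nat_lit 65536) (Steps.bwd (nat_lit 9) (Steps.fwd (nat_lit 24576) Steps.nil)))))) (nat_lit 184) (nat_lit 2),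
  Rule.mk (nat_lit 14) (nat_lit 119) (Steps.bwd (nat_lit 3) (Steps.fwd (nat_lit 40960) (Steps.bwd (nat_lit 6) (Steps.fwd (nat_lit 57344) (Steps.bwd (nat_lit 12) (Steps.fwd (nat_lit 114688) (Steps.bwd (nat_lit 2) Steps.nil))))))) (nat_lit 188) (nat_lit 2),
  Rule.mk (nat_lit 9) (nat_lit 134) (Steps.bwd (nat_lit 3) (Steps.fwd (nat_lit 32768) (Steps.fwd (nat_lit 40960) (Steps.fwd (nat_lit 65536) (Steps.bwd (nat_lit 9) (Steps.fwd (nat_lit 90112) (Steps.fwd (nat_lit 114688) (Steps.bwd (nat_lit 2) Steps.nil)))))))) (nat_lit 178) (nat_lit 2),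
  Rule.mk (nat_lit 5) (nat_lit 149) (Steps.bwd (nat_lit 3) (Steps.fwd (nat_lit 32768) (Steps.fwd (nat_lit 40960) (Steps.fwd (nat_lit 65536) (Steps.bwd (nat_lit 9) (Steps.bwd (nat_lit 12) (Steps.fwd (nat_lit 106496) (Steps.fwd (nat_lit 114688) (Steps.bwd (nat_lit 2) Steps.nil))))))))) (nat_lit 170) (nat_lit 2),
  Rule.mk (nat_lit 19) (nat_lit 179) (Steps.bwd (nat_lit 3) (Steps.fwd (nat_lit 32768) (Steps.fwd (nat_lit 8192) (Steps.fwd (nat_lit 24576) (Steps.bwd (nat_lit 1) (Steps.bwd (nat_lit 2) (Steps.fwd (nat_lit 8192) (Steps.bwd (nat_lit 3) (Steps.bwd (nat_lit 1) (Steps.fwd (nat_lit 16384) (Steps.bwd (nat_lit 1) Steps.nil))))))))))) (nat_lit 195) (nat_lit 0),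
  Rule.mk (nat_lit 17) (nat_lit 179) (Steps.fwd (nat_lit 24576) (Steps.fwd (nat_lit 8192) (Steps.bwd (nat_lit 2) (Steps.fwd (nat_lit 8192) (Steps.bwd (nat_lit 3) (Steps.fwd (nat_lit 8192) (Steps.bwd (nat_lit 3) (Steps.bwd (nat_lit 1) (Steps.bwd (nat_lit 4) (Steps.fwd (nat_lit 24576) (Steps.fwd (nat_lit 8192) Steps.nil))))))))))) (nat_lit 193) (nat_lit 0),
  Rule.mk (nat_lit 6) (nat_lit 149) (Steps.bwd (nat_lit 1) (Steps.bwd (nat_lit 4) (Steps.bwd (nat_lit 5) (Steps.fwd (nat_lit 65536) (Steps.bwd (nat_lit 9) (Steps.fwd (nat_lit 98304) (Steps.fwd (nat_lit 106496) (Steps.bwd (nat_lit 14) (Steps.fwd (nat_lit 8192) Steps.nil))))))))) (nat_lit 150) (nat_lit 2),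
  Rule.mk (nat_lit 18) (nat_lit 179) (Steps.bwd (nat_lit 1) (Steps.bwd (nat_lit 3) (Steps.bwd (nat_lit 4) (Steps.bwd (nat_lit 1) (Steps.fwd (nat_lit 24576) (Steps.bwd (nat_lit 1) (Steps.fwd (nat_lit 24576) (Steps.bwd (nat_lit 1) (Steps.bwd (nat_lit 3) (Steps.bwd (nat_lit 1) (Steps.fwd (nat_lit 16384) Steps.nil))))))))))) (nat_lit 192) (nat_lit 1),
  Rule.mk (nat_lit 20) (nat_lit 179) (Steps.bwd (nat_lit 1) (Steps.fwd (nat_lit 24576) (Steps.fwd (nat_lit 8192) (Steps.bwd (nat_lit 2) (Steps.fwd (nat_lit 8192) (Steps.bwd (nat_lit 3) (Steps.bwd (nat_lit 1) (Steps.fwd (nat_lit 16384) (Steps.bwd (nat_lit 1) (Steps.fwd (nat_lit 32768) (Steps.bwd (nat_lit 2) Steps.nil))))))))))) (nat_lit 194) (nat_lit 1),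
  Rule.mk (nat_lit 3) (nat_lit 539) (Steps.bwd (nat_lit 1) (Steps.fwd (nat_lit 24576) (Steps.fwd (nat_lit 8192) (Steps.bwd (nat_lit 2) (Steps.fwd (nat_lit 8192) (Steps.bwd (nat_lit 3) (Steps.bwd (nat_lit 1) (Steps.fwd (nat_lit 24576) (Steps.fwd (nat_lit 8192) (Steps.bwd (nat_lit 2) (Steps.bwd (nat_lit 1) (Steps.fwd (nat_lit 16384) (Steps.bwd (nat_lit 1) (Steps.bwd (nat_lit 2) (Steps.bwd (nat_lit 1) (Steps.bwd (nat_lit 3) (Steps.bwd (nat_lit 1) (Steps.fwd (nat_lit 16384) (Steps.fwd (nat_lit 8192) (Steps.bwd (nat_lit 2) (Steps.bwd (nat_lit 1) (Steps.fwd (nat_lit 16384) (Steps.bwd (nat_lit 1) (Steps.fwd (nat_lit 16384) (Steps.bwd (nat_lit 1) (Steps.fwd (nat_lit 24576) (Steps.fwd (nat_lit 8192) (Steps.fwd (nat_lit 16384) (Steps.bwd (nat_lit 1) (Steps.bwd (nat_lit 3) (Steps.fwd (nat_lit 8192) (Steps.bwd (nat_lit 2) (Steps.bwd (nat_lit 1) (Steps.bwd (nat_lit 2) (Steps.fwd (nat_lit 8192) Steps.nil)))))))))))))))))))))))))))))))))))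 (nat_lit 12) (nat_lit 6),
  Rule.mk (nat_lit 16) (nat_lit 179) (Steps.bwd (nat_lit 1) (Steps.fwd (nat_lit 16384) (Steps.bwd (nat_lit 1) (Steps.fwd (nat_lit 16384) (Steps.bwd (nat_lit 1) (Steps.bwd (nat_lit 3) (Steps.fwd (nat_lit 8192) (Steps.fwd (nat_lit 24576) (Steps.bwd (nat_lit 4) (Steps.bwd (nat_lit 1) (Steps.bwd (nat_lit 2) Steps.nil))))))))))) (nat_lit 190) (nat_lit 1),
  Rule.mk (nat_lit 15) (nat_lit 179) (Steps.bwd (nat_lit 3) (Steps.bwd (nat_lit 1) (Steps.bwd (nat_lit 4) (Steps.bwd (nat_lit 3) (Steps.fwd (nat_lit 8192) (Steps.fwd (nat_lit 24576) (Steps.bwd (nat_lit 1) (Steps.fwd (nat_lit 24576) (Steps.fwd (nat_lit 8192) (Steps.bwd (nat_lit 2) (Steps.fwd (nat_lit 8192) Steps.nil))))))))))) (nat_lit 191) (nat_lit 0),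
  Rule.mk (nat_lit 19) (nat_lit 179) (Steps.fwd (nat_lit 16384) (Steps.bwd (nat_lit 4) (Steps.fwd (nat_lit 8192) (Steps.fwd (nat_lit 24576) (Steps.fwd (nat_lit 8192) (Steps.fwd (nat_lit 24576) (Steps.bwd (nat_lit 1) (Steps.fwd (nat_lit 16384) (Steps.fwd (nat_lit 8192) (Steps.fwd (nat_lit 16384) (Steps.bwd (nat_lit 1) Steps.nil))))))))))) (nat_lit 195) (nat_lit 0),
  Rule.mk (nat_lit 12) (nat_lit 134) (Steps.fwd (nat_lit 90112) (Steps.bwd (nat_lit 10) (Steps.fwd (nat_lit 49152) (Steps.fwd (nat_lit 24576) (Steps.bwd (nat_lit 13) (Steps.bwd (nat_lit 3) (Steps.fwd (nat_lit 114688) (Steps.bwd (nat_lit 13) Steps.nil)))))))) (nat_lit 187) (nat_lit 3),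
  Rule.mk (nat_lit 1) (nat_lit 134) (Steps.fwd (nat_lit 81920) (Steps.fwd (nat_lit 8192) (Steps.fwd (nat_lit 32768) (Steps.fwd (nat_lit 40960) (Steps.bwd (nat_lit 8) (Steps.bwd (nat_lit 9) (Steps.fwd (nat_lit 90112) (Steps.bwd (nat_lit 14) Steps.nil)))))))) (nat_lit 158) (nat_lit 1),
  Rule.mk (nat_lit 17) (nat_lit 179) (Steps.bwd (nat_lit 2) (Steps.fwd (nat_lit 8192) (Steps.fwd (nat_lit 24576) (Steps.bwd (nat_lit 1) (Steps.bwd (nat_lit 3) (Steps.fwd (nat_lit 8192) (Steps.bwd (nat_lit 3) (Steps.fwd (nat_lit 8192) (Steps.fwd (nat_lit 32768) (Steps.fwd (nat_lit 24576) (Steps.fwd (nat_lit 8192) Steps.nil))))))))))) (nat_lit 193) (nat_lit 0),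
  Rule.mk (nat_lit 12) (nat_lit 104) (Steps.bwd (nat_lit 3) (Steps.fwd (nat_lit 73728) (Steps.bwd (nat_lit 8) (Steps.fwd (nat_lit 40960) (Steps.fwd (nat_lit 32768) (Steps.bwd (nat_lit 2) Steps.nil)))))) (nat_lit 185) (nat_lit 6),
  Rule.mk (nat_lit 13) (nat_lit 134) (Steps.bwd (nat_lit 3) (Steps.bwd (nat_lit 6) (Steps.bwd (nat_lit 10) (Steps.bwd (nat_lit 11) (Steps.fwd (nat_lit 98304) (Steps.bwd (nat_lit 13) (Steps.bwd (nat_lit 14) (Steps.bwd (nat_lit 2) Steps.nil)))))))) (nat_lit 186) (nat_lit 2),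
  Rule.mk (nat_lit 8) (nat_lit 104) (Steps.bwd (nat_lit 1) (Steps.bwd (nat_lit 5) (Steps.bwd (nat_lit 7) (Steps.bwd (nat_lit 13) (Steps.fwd (nat_lit 114688) (Steps.fwd (nat_lit 8192) Steps.nil)))))) (nat_lit 154) (nat_lit 2),
  Rule.mk (nat_lit 12) (nat_lit 164) (Steps.bwd (nat_lit 1) (Steps.bwd (nat_lit 4) (Steps.fwd (nat_lit 40960) (Steps.fwd (nat_lit 65536) (Steps.fwd (nat_lit 73728) (Steps.bwd (nat_lit 10) (Steps.bwd (nat_lit 11) (Steps.bwd (nat_lit 12) (Steps.fwd (nat_lit 114688) (Steps.bwd (nat_lit 1) Steps.nil)))))))))) (nat_lit 162) (nat_lit 2),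
  Rule.mk (nat_lit 6) (nat_lit 104) (Steps.bwd (nat_lit 2) (Steps.bwd (nat_lit 10) (Steps.fwd (nat_lit 16384) (Steps.fwd (nat_lit 114688) (Steps.bwd (nat_lit 12) (Steps.bwd (nat_lit 11) Steps.nil)))))) (nat_lit 181) (nat_lit 4),
  Rule.mk (nat_lit 17) (nat_lit 179) (Steps.fwd (nat_lit 24576) (Steps.fwd (nat_lit 8192) (Steps.fwd (nat_lit 24576) (Steps.bwd (nat_lit 1) (Steps.fwd (nat_lit 16384) (Steps.bwd (nat_lit 1) (Steps.fwd (nat_lit 16384) (Steps.bwd (nat_lit 1) (Steps.bwd (nat_lit 4) (Steps.bwd (nat_lit 2) (Steps.fwd (nat_lit 8192) Steps.nil))))))))))) (nat_lit 193) (nat_lit 0),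
  Rule.mk (nat_lit 20) (nat_lit 179) (Steps.bwd (nat_lit 1) (Steps.fwd (nat_lit 24576) (Steps.fwd (nat_lit 8192) (Steps.fwd (nat_lit 24576) (Steps.bwd (nat_lit 1) (Steps.fwd (nat_lit 16384) (Steps.bwd (nat_lit 1) (Steps.fwd (nat_lit 16384) (Steps.bwd (nat_lit 1) (Steps.bwd (nat_lit 4) (Steps.bwd (nat_lit 2) Steps.nil))))))))))) (nat_lit 194) (nat_lit 1),
  Rule.mk (nat_lit 9) (nat_lit 164) (Steps.bwd (nat_lit 10) (Steps.bwd (nat_lit 11) (Steps.fwd (nat_lit 98304) (Steps.bwd (nat_lit 13) (Steps.fwd (nat_lit 114688) (Steps.fwd (nat_lit 24576) (Steps.bwd (nat_lit 6) (Steps.fwd (nat_lit 16384) (Steps.bwd (nat_lit 5) (Steps.bwd (nat_lit 6) Steps.nil)))))))))) (nat_lit 172) (nat_lit 6),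
  Rule.mk (nat_lit 5) (nat_lit 149) (Steps.bwd (nat_lit 3) (Steps.bwd (nat_lit 4) (Steps.fwd (nat_lit 40960) (Steps.fwd (nat_lit 65536) (Steps.fwd (nat_lit 73728) (Steps.fwd (nat_lit 98304) (Steps.bwd (nat_lit 13) (Steps.fwd (nat_lit 114688) (Steps.fwd (nat_lit 24576) Steps.nil))))))))) (nat_lit 170) (nat_lit 2),
  Rule.mk (nat_lit 11) (nat_lit 164) (Steps.bwd (nat_lit 3) (Steps.bwd (nat_lit 4) (Steps.fwd (nat_lit 40960) (Steps.fwd (nat_lit 65536) (Steps.fwd (nat_lit 73728) (Steps.bwd (nat_lit 10) (Steps.bwd (nat_lit 11) (Steps.bwd (nat_lit 12) (Steps.fwd (nat_lit 114688) (Steps.fwd (nat_lit 24576) Steps.nil)))))))))) (nat_lit 182) (nat_lit 2),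
  Rule.mk (nat_lit 1) (nat_lit 104) (Steps.bwd (nat_lit 6) (Steps.bwd (nat_lit 11) (Steps.fwd (nat_lit 98304) (Steps.fwd (nat_lit 114688) (Steps.bwd (nat_lit 1) (Steps.bwd (nat_lit 11) Steps.nil)))))) (nat_lit 160) (nat_lit 3),
  Rule.mk (nat_lit 15) (nat_lit 179) (Steps.bwd (nat_lit 3) (Steps.fwd (nat_lit 8192) (Steps.bwd (nat_lit 4) (Steps.bwd (nat_lit 3) (Steps.bwd (nat_lit 1) (Steps.fwd (nat_lit 24576) (Steps.bwd (nat_lit 1) (Steps.fwd (nat_lit 24576) (Steps.bwd (nat_lit 1) (Steps.bwd (nat_lit 2) (Steps.fwd (nat_lit 8192) Steps.nil))))))))))) (nat_lit 191) (nat_lit 0),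
  Rule.mk (nat_lit 15) (nat_lit 179) (Steps.fwd (nat_lit 16384) (Steps.bwd (nat_lit 1) (Steps.bwd (nat_lit 4) (Steps.bwd (nat_lit 3) (Steps.bwd (nat_lit 1) (Steps.fwd (nat_lit 24576) (Steps.bwd (nat_lit 1) (Steps.bwd (nat_lit 2) (Steps.fwd (nat_lit 8192) (Steps.bwd (nat_lit 2) (Steps.bwd (nat_lit 1) Steps.nil))))))))))) (nat_lit 191) (nat_lit 0),
  Rule.mk (nat_lit 15) (nat_lit 179) (Steps.bwd (nat_lit 3) (Steps.bwd (nat_lit 1) (Steps.bwd (nat_lit 4) (Steps.bwd (nat_lit 3) (Steps.fwd (nat_lit 8192) (Steps.fwd (nat_lit 24576) (Steps.bwd (nat_lit 1) (Steps.fwd (nat_lit 24576) (Steps.bwd (nat_lit 1) (Steps.fwd (nat_lit 24576) (Steps.fwd (nat_lit 8192) Steps.nil))))))))))) (nat_lit 191) (nat_lit 0),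
  Rule.mk (nat_lit 18) (nat_lit 179) (Steps.bwd (nat_lit 1) (Steps.fwd (nat_lit 16384) (Steps.bwd (nat_lit 4) (Steps.bwd (nat_lit 1) (Steps.fwd (nat_lit 24576) (Steps.bwd (nat_lit 1) (Steps.bwd (nat_lit 2) (Steps.fwd (nat_lit 8192) (Steps.fwd (nat_lit 16384) (Steps.fwd (nat_lit 8192) (Steps.bwd (nat_lit 3) Steps.nil))))))))))) (nat_lit 192) (nat_lit 1),
  Rule.mk (nat_lit 18) (nat_lit 179) (Steps.bwd (nat_lit 1) (Steps.bwd (nat_lit 3) (Steps.bwd (nat_lit 4) (Steps.fwd (nat_lit 8192) (Steps.fwd (nat_lit 24576) (Steps.bwd (nat_lit 1) (Steps.fwd (nat_lit 24576) (Steps.bwd (nat_lit 1) (Steps.bwd (nat_lit 3) (Steps.fwd (nat_lit 8192) (Steps.bwd (nat_lit 3) Steps.nil))))))))))) (nat_lit 192) (nat_lit 1),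
  Rule.mk (nat_lit 17) (nat_lit 179) (Steps.fwd (nat_lit 24576) (Steps.bwd (nat_lit 1) (Steps.fwd (nat_lit 24576) (Steps.bwd (nat_lit 1) (Steps.bwd (nat_lit 3) (Steps.fwd (nat_lit 8192) (Steps.bwd (nat_lit 3) (Steps.fwd (nat_lit 8192) (Steps.bwd (nat_lit 4) (Steps.bwd (nat_lit 2) (Steps.bwd (nat_lit 1) Steps.nil))))))))))) (nat_lit 193) (nat_lit 0),
  Rule.mk (nat_lit 20) (nat_lit 179) (Steps.bwd (nat_lit 1) (Steps.fwd (nat_lit 24576) (Steps.bwd (nat_lit 1) (Steps.bwd (nat_lit 2) (Steps.fwd (nat_lit 8192) (Steps.fwd (nat_lit 16384) (Steps.fwd (nat_lit 8192) (Steps.bwd (nat_lit 3) (Steps.fwd (nat_lit 8192) (Steps.fwd (nat_lit 32768) (Steps.bwd (nat_lit 2) Steps.nil))))))))))) (nat_lit 194) (nat_lit 1),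
  Rule.mk (nat_lit 14) (nat_lit 134) (Steps.bwd (nat_lit 1) (Steps.bwd (nat_lit 10) (Steps.fwd (nat_lit 8192) (Steps.fwd (nat_lit 32768) (Steps.bwd (nat_lit 5) (Steps.fwd (nat_lit 65536) (Steps.fwd (nat_lit 73728) (Steps.fwd (nat_lit 90112) Steps.nil)))))))) (nat_lit 158) (nat_lit 0),
  Rule.mk (nat_lit 10) (nat_lit 134) (Steps.bwd (nat_lit 1) (Steps.fwd (nat_lit 114688) (Steps.bwd (nat_lit 11) (Steps.bwd (nat_lit 9) (Steps.bwd (nat_lit 8) (Steps.bwd (nat_lit 5) (Steps.fwd (nat_lit 32768) (Steps.fwd (nat_lit 8192) Steps.nil)))))))) (nat_lit 159) (nat_lit 8),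
  Rule.mk (nat_lit 12) (nat_lit 164) (Steps.bwd (nat_lit 1) (Steps.fwd (nat_lit 114688) (Steps.bwd (nat_lit 12) (Steps.bwd (nat_lit 11) (Steps.bwd (nat_lit 10) (Steps.fwd (nat_lit 73728) (Steps.bwd (nat_lit 8) (Steps.bwd (nat_lit 5) (Steps.fwd (nat_lit 32768) (Steps.fwd (nat_lit 8192) Steps.nil)))))))))) (nat_lit 163) (nat_lit 10),
  Rule.mk (nat_lit 18) (nat_lit 179) (Steps.bwd (nat_lit 1) (Steps.bwd (nat_lit 3) (Steps.fwd (nat_lit 32768) (Steps.fwd (nat_lit 8192) (Steps.fwd (nat_lit 24576) (Steps.fwd (nat_lit 8192) (Steps.fwd (nat_lit 24576) (Steps.fwd (nat_lit 8192) (Steps.fwd (nat_lit 16384) (Steps.bwd (nat_lit 1) (Steps.fwd (nat_lit 16384) Steps.nil))))))))))) (nat_lit 192) (nat_lit 1),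
  Rule.mk (nat_lit 3) (nat_lit 104) (Steps.fwd (nat_lit 32768) (Steps.bwd (nat_lit 5) (Steps.fwd (nat_lit 65536) (Steps.fwd (nat_lit 73728) (Steps.fwd (nat_lit 24576) (Steps.bwd (nat_lit 12) Steps.nil)))))) (nat_lit 184) (nat_lit 3),
  Rule.mk (nat_lit 15) (nat_lit 179) (Steps.bwd (nat_lit 3) (Steps.fwd (nat_lit 8192) (Steps.bwd (nat_lit 4) (Steps.bwd (nat_lit 3) (Steps.fwd (nat_lit 8192) (Steps.bwd (nat_lit 2) (Steps.fwd (nat_lit 8192) (Steps.fwd (nat_lit 24576) (Steps.fwd (nat_lit 8192) (Steps.fwd (nat_lit 24576) (Steps.bwd (nat_lit 1) Steps.nil))))))))))) (nat_lit 191) (nat_lit 0)]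
noncomputable def R_54 : List (Rule) := [Rule.mk (nat_lit 0) (nat_lit 194) (Steps.fwd (nat_lit 24576) (Steps.bwd (nat_lit 1) (Steps.fwd (nat_lit 24576) (Steps.bwd (nat_lit 1) (Steps.bwd (nat_lit 3) (Steps.bwd (nat_lit 1) (Steps.bwd (nat_lit 3) (Steps.fwd (nat_lit 8192) (Steps.bwd (nat_lit 4) (Steps.fwd (nat_lit 24576) (Steps.bwd (nat_lit 1) (Steps.fwd (nat_lit 147456) Steps.nil)))))))))))) (nat_lit 193) (nat_lit 0),
  Rule.mk (nat_lit 1) (nat_lit 179) (Steps.bwd (nat_lit 17) (Steps.fwd (nat_lit 24576) (Steps.fwd (nat_lit 8192) (Steps.fwd (nat_lit 24576) (Steps.fwd (nat_lit 8192) (Steps.bwd (nat_lit 3) (Steps.fwd (nat_lit 8192) (Steps.bwd (nat_lit 3) (Steps.fwd (nat_lit 8192) (Steps.fwd (nat_lit 32768) (Steps.fwd (nat_lit 24576) Steps.nil))))))))))) (nat_lit 193) (nat_lit 11),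
  Rule.mk (nat_lit 20) (nat_lit 179) (Steps.bwd (nat_lit 1) (Steps.fwd (nat_lit 24576) (Steps.fwd (nat_lit 8192) (Steps.fwd (nat_lit 24576) (Steps.fwd (nat_lit 8192) (Steps.bwd (nat_lit 3) (Steps.fwd (nat_lit 8192) (Steps.bwd (nat_lit 3) (Steps.fwd (nat_lit 8192) (Steps.fwd (nat_lit 32768) (Steps.fwd (nat_lit 24576) Steps.nil))))))))))) (nat_lit 194) (nat_lit 1),
  Rule.mk (nat_lit 0) (nat_lit 194) (Steps.bwd (nat_lit 20) (Steps.bwd (nat_lit 1) (Steps.fwd (nat_lit 24576) (Steps.bwd (nat_lit 1) (Steps.fwd (nat_lit 24576) (Steps.bwd (nat_lit 1) (Steps.bwd (nat_lit 3) (Steps.bwd (nat_lit 1) (Steps.bwd (nat_lit 3) (Steps.fwd (nat_lit 8192) (Steps.bwd (nat_lit 4) (Steps.fwd (nat_lit 24576) Steps.nil)))))))))))) (nat_lit 194) (nat_lit 0),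
  Rule.mk (nat_lit 14) (nat_lit 89) (Steps.fwd (nat_lit 57344) (Steps.bwd (nat_lit 4) (Steps.fwd (nat_lit 8192) (Steps.bwd (nat_lit 9) (Steps.bwd (nat_lit 1) Steps.nil))))) (nat_lit 157) (nat_lit 1),
  Rule.mk (nat_lit 11) (nat_lit 104) (Steps.fwd (nat_lit 8192) (Steps.fwd (nat_lit 114688) (Steps.fwd (nat_lit 98304) (Steps.bwd (nat_lit 11) (Steps.fwd (nat_lit 49152) (Steps.bwd (nat_lit 1) Steps.nil)))))) (nat_lit 161) (nat_lit 6),
  Rule.mk (nat_lit 7) (nat_lit 164) (Steps.bwd (nat_lit 1) (Steps.bwd (nat_lit 14) (Steps.bwd (nat_lit 13) (Steps.fwd (nat_lit 98304) (Steps.bwd (nat_lit 11) (Steps.bwd (nat_lit 10) (Steps.fwd (nat_lit 73728) (Steps.fwd (nat_lit 49152) (Steps.bwd (nat_lit 5) (Steps.bwd (nat_lit 1) Steps.nil)))))))))) (nat_lit 153) (nat_lit 10),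
  Rule.mk (nat_lit 15) (nat_lit 179) (Steps.bwd (nat_lit 3) (Steps.fwd (nat_lit 8192) (Steps.fwd (nat_lit 32768) (Steps.fwd (nat_lit 16384) (Steps.bwd (nat_lit 1) (Steps.fwd (nat_lit 24576) (Steps.bwd (nat_lit 1) (Steps.bwd (nat_lit 2) (Steps.bwd (nat_lit 1) (Steps.fwd (nat_lit 24576) (Steps.bwd (nat_lit 1) Steps.nil))))))))))) (nat_lit 191) (nat_lit 0),
  Rule.mk (nat_lit 3) (nat_lit 539) (Steps.bwd (nat_lit 1) (Steps.fwd (nat_lit 16384) (Steps.fwd (nat_lit 8192) (Steps.bwd (nat_lit 2) (Steps.fwd (nat_lit 8192) (Steps.bwd (nat_lit 3) (Steps.bwd (nat_lit 1) (Steps.bwd (nat_lit 3) (Steps.bwd (nat_lit 1) (Steps.fwd (nat_lit 24576) (Steps.bwd (nat_lit 1) (Steps.bwd (nat_lit 3) (Steps.fwd (nat_lit 8192) (Steps.fwd (nat_lit 16384) (Steps.fwd (nat_lit 8192) (Steps.fwd (nat_lit 24576) (Steps.fwd (nat_lit 8192) (Steps.bwd (nat_lit 2) (Steps.bwd (nat_lit 1) (Steps.bwd (nat_lit 3) (Steps.fwd (nat_lit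 8192) (Steps.bwd (nat_lit 2) (Steps.bwd (nat_lit 1) (Steps.fwd (nat_lit 24576) (Steps.bwd (nat_lit 1) (Steps.bwd (nat_lit 3) (Steps.bwd (nat_lit 1) (Steps.bwd (nat_lit 2) (Steps.fwd (nat_lit 8192) (Steps.fwd (nat_lit 24576) (Steps.fwd (nat_lit 8192) (Steps.fwd (nat_lit 16384) (Steps.bwd (nat_lit 1) (Steps.fwd (nat_lit 24576) (Steps.bwd (nat_lit 1) Steps.nil))))))))))))))))))))))))))))))))))) (nat_lit 12) (nat_lit 22),
  Rule.mk (nat_lit 15) (nat_lit 179) (Steps.fwd (nat_lit 16384) (Steps.fwd (nat_lit 8192) (Steps.bwd (nat_lit 4) (Steps.bwd (nat_lit 3) (Steps.fwd (nat_lit 8192) (Steps.fwd (nat_lit 24576) (Steps.fwd (nat_lit 8192) (Steps.fwd (nat_lit 24576) (Steps.fwd (nat_lit 8192) (Steps.fwd (nat_lit 24576) (Steps.bwd (nat_lit 1) Steps.nil))))))))))) (nat_lit 191) (nat_lit 0),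
  Rule.mk (nat_lit 18) (nat_lit 179) (Steps.fwd (nat_lit 8192) (Steps.bwd (nat_lit 3) (Steps.bwd (nat_lit 4) (Steps.fwd (nat_lit 8192) (Steps.fwd (nat_lit 24576) (Steps.fwd (nat_lit 8192) (Steps.fwd (nat_lit 24576) (Steps.fwd (nat_lit 8192) (Steps.bwd (nat_lit 3) (Steps.bwd (nat_lit 1) (Steps.fwd (nat_lit 16384) Steps.nil))))))))))) (nat_lit 192) (nat_lit 1),
  Rule.mk (nat_lit 20) (nat_lit 179) (Steps.bwd (nat_lit 1) (Steps.bwd (nat_lit 2) (Steps.fwd (nat_lit 8192) (Steps.fwd (nat_lit 24576) (Steps.fwd (nat_lit 8192) (Steps.bwd (nat_lit 3) (Steps.fwd (nat_lit 8192) (Steps.fwd (nat_lit 16384) (Steps.fwd (nat_lit 8192) (Steps.fwd (nat_lit 32768) (Steps.fwd (nat_lit 24576) Steps.nil))))))))))) (nat_lit 194) (nat_lit 1),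
  Rule.mk (nat_lit 13) (nat_lit 134) (Steps.bwd (nat_lit 3) (Steps.fwd (nat_lit 49152) (Steps.fwd (nat_lit 81920) (Steps.fwd (nat_lit 90112) (Steps.fwd (nat_lit 98304) (Steps.fwd (nat_lit 106496) (Steps.bwd (nat_lit 14) (Steps.fwd (nat_lit 24576) Steps.nil)))))))) (nat_lit 186) (nat_lit 2),
  Rule.mk (nat_lit 15) (nat_lit 179) (Steps.fwd (nat_lit 16384) (Steps.fwd (nat_lit 8192) (Steps.fwd (nat_lit 32768) (Steps.bwd (nat_lit 3) (Steps.bwd (nat_lit 1) (Steps.fwd (nat_lit 24576) (Steps.fwd (nat_lit 8192) (Steps.bwd (nat_lit 2) (Steps.fwd (nat_lit 8192) (Steps.bwd (nat_lit 2) (Steps.fwd (nat_lit 8192) Steps.nil))))))))))) (nat_lit 191) (nat_lit 0),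
  Rule.mk (nat_lit 20) (nat_lit 179) (Steps.bwd (nat_lit 1) (Steps.bwd (nat_lit 2) (Steps.fwd (nat_lit 8192) (Steps.bwd (nat_lit 2) (Steps.bwd (nat_lit 1) (Steps.bwd (nat_lit 3) (Steps.bwd (nat_lit 1) (Steps.bwd (nat_lit 3) (Steps.bwd (nat_lit 1) (Steps.bwd (nat_lit 4) (Steps.fwd (nat_lit 24576) Steps.nil))))))))))) (nat_lit 194) (nat_lit 1),
  Rule.mk (nat_lit 7) (nat_lit 104) (Steps.fwd (nat_lit 16384) (Steps.bwd (nat_lit 5) (Steps.fwd (nat_lit 57344) (Steps.fwd (nat_lit 106496) (Steps.fwd (nat_lit 114688) (Steps.bwd (nat_lit 2) Steps.nil)))))) (nat_lit 174) (nat_lit 2),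
  Rule.mk (nat_lit 10) (nat_lit 104) (Steps.bwd (nat_lit 3) (Steps.fwd (nat_lit 114688) (Steps.fwd (nat_lit 98304) (Steps.fwd (nat_lit 90112) (Steps.fwd (nat_lit 49152) (Steps.bwd (nat_lit 2) Steps.nil)))))) (nat_lit 181) (nat_lit 6),
  Rule.mk (nat_lit 12) (nat_lit 104) (Steps.fwd (nat_lit 16384) (Steps.fwd (nat_lit 32768) (Steps.bwd (nat_lit 5) (Steps.fwd (nat_lit 65536) (Steps.fwd (nat_lit 73728) (Steps.bwd (nat_lit 2) Steps.nil)))))) (nat_lit 184) (nat_lit 2),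
  Rule.mk (nat_lit 9) (nat_lit 134) (Steps.fwd (nat_lit 16384) (Steps.bwd (nat_lit 14) (Steps.bwd (nat_lit 11) (Steps.fwd (nat_lit 73728) (Steps.fwd (nat_lit 65536) (Steps.bwd (nat_lit 5) (Steps.bwd (nat_lit 4) (Steps.bwd (nat_lit 2) Steps.nil)))))))) (nat_lit 179) (nat_lit 8),
  Rule.mk (nat_lit 13) (nat_lit 134) (Steps.fwd (nat_lit 16384) (Steps.fwd (nat_lit 49152) (Steps.bwd (nat_lit 10) (Steps.bwd (nat_lit 11) (Steps.bwd (nat_lit 12) (Steps.fwd (nat_lit 106496) (Steps.fwd (nat_lit 114688) (Steps.bwd (nat_lit 2) Steps.nil)))))))) (nat_lit 186) (nat_lit 2),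
  Rule.mk (nat_lit 5) (nat_lit 149) (Steps.bwd (nat_lit 3) (Steps.bwd (nat_lit 14) (Steps.fwd (nat_lit 106496) (Steps.bwd (nat_lit 12) (Steps.fwd (nat_lit 73728) (Steps.fwd (nat_lit 65536) (Steps.bwd (nat_lit 5) (Steps.bwd (nat_lit 4) (Steps.bwd (nat_lit 2) Steps.nil))))))))) (nat_lit 171) (nat_lit 9),
  Rule.mk (nat_lit 11) (nat_lit 164) (Steps.fwd (nat_lit 16384) (Steps.bwd (nat_lit 14) (Steps.fwd (nat_lit 98304) (Steps.fwd (nat_lit 90112) (Steps.fwd (nat_lit 81920) (Steps.fwd (nat_lit 73728) (Steps.fwd (nat_lit 65536) (Steps.bwd (nat_lit 5) (Steps.bwd (nat_lit 4) (Steps.bwd (nat_lit 2) Steps.nil)))))))))) (nat_lit 183) (nat_lit 10),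
  Rule.mk (nat_lit 16) (nat_lit 179) (Steps.fwd (nat_lit 8192) (Steps.fwd (nat_lit 16384) (Steps.bwd (nat_lit 1) (Steps.bwd (nat_lit 3) (Steps.bwd (nat_lit 1) (Steps.fwd (nat_lit 16384) (Steps.bwd (nat_lit 1) (Steps.fwd (nat_lit 24576) (Steps.bwd (nat_lit 4) (Steps.fwd (nat_lit 8192) (Steps.bwd (nat_lit 2) Steps.nil))))))))))) (nat_lit 190) (nat_lit 1),
  Rule.mk (nat_lit 15) (nat_lit 179) (Steps.fwd (nat_lit 16384) (Steps.fwd (nat_lit 8192) (Steps.bwd (nat_lit 4) (Steps.bwd (nat_lit 3) (Steps.bwd (nat_lit 1) (Steps.fwd (nat_lit 24576) (Steps.fwd (nat_lit 8192) (Steps.bwd (nat_lit 2) (Steps.bwd (nat_lit 1) (Steps.bwd (nat_lit 2) (Steps.bwd (nat_lit 1) Steps.nil))))))))))) (nat_lit 191) (nat_lit 0),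
  Rule.mk (nat_lit 3) (nat_lit 134) (Steps.fwd (nat_lit 49152) (Steps.fwd (nat_lit 81920) (Steps.bwd (nat_lit 11) (Steps.bwd (nat_lit 12) (Steps.fwd (nat_lit 106496) (Steps.fwd (nat_lit 114688) (Steps.fwd (nat_lit 24576) (Steps.bwd (nat_lit 13) Steps.nil)))))))) (nat_lit 186) (nat_lit 3),
  Rule.mk (nat_lit 15) (nat_lit 179) (Steps.fwd (nat_lit 16384) (Steps.fwd (nat_lit 8192) (Steps.bwd (nat_lit 4) (Steps.bwd (nat_lit 3) (Steps.bwd (nat_lit 1) (Steps.bwd (nat_lit 2) (Steps.fwd (nat_lit 8192) (Steps.bwd (nat_lit 2) (Steps.fwd (nat_lit 8192) (Steps.bwd (nat_lit 2) (Steps.fwd (nat_lit 8192) Steps.nil))))))))))) (nat_lit 191) (nat_lit 0),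
  Rule.mk (nat_lit 18) (nat_lit 179) (Steps.bwd (nat_lit 1) (Steps.bwd (nat_lit 3) (Steps.bwd (nat_lit 4) (Steps.fwd (nat_lit 8192) (Steps.bwd (nat_lit 2) (Steps.bwd (nat_lit 1) (Steps.bwd (nat_lit 2) (Steps.bwd (nat_lit 1) (Steps.bwd (nat_lit 3) (Steps.bwd (nat_lit 1) (Steps.bwd (nat_lit 3) Steps.nil))))))))))) (nat_lit 192) (nat_lit 1),
  Rule.mk (nat_lit 0) (nat_lit 194) (Steps.bwd (nat_lit 17) (Steps.bwd (nat_lit 2) (Steps.bwd (nat_lit 1) (Steps.bwd (nat_lit 2) (Steps.bwd (nat_lit 1) (Steps.bwd (nat_lit 3) (Steps.bwd (nat_lit 1) (Steps.bwd (nat_lit 3) (Steps.fwd (nat_lit 8192) (Steps.bwd (nat_lit 4) (Steps.bwd (nat_lit 2) (Steps.bwd (nat_lit 1) Steps.nil)))))))))))) (nat_lit 193) (nat_lit 11),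
  Rule.mk (nat_lit 0) (nat_lit 194) (Steps.bwd (nat_lit 20) (Steps.fwd (nat_lit 8192) (Steps.bwd (nat_lit 2) (Steps.bwd (nat_lit 1) (Steps.bwd (nat_lit 2) (Steps.bwd (nat_lit 1) (Steps.bwd (nat_lit 3) (Steps.bwd (nat_lit 1) (Steps.bwd (nat_lit 3) (Steps.fwd (nat_lit 8192) (Steps.bwd (nat_lit 4) (Steps.bwd (nat_lit 2) Steps.nil)))))))))))) (nat_lit 194) (nat_lit 0),
  Rule.mk (nat_lit 0) (nat_lit 194) (Steps.bwd (nat_lit 19) (Steps.bwd (nat_lit 3) (Steps.bwd (nat_lit 4) (Steps.fwd (nat_lit 8192) (Steps.bwd (nat_lit 2) (Steps.bwd (nat_lit 1) (Steps.bwd (nat_lit 2) (Steps.bwd (nat_lit 1) (Steps.bwd (nat_lit 3) (Steps.bwd (nat_lit 1) (Steps.bwd (nat_lit 3) (Steps.fwd (nat_lit 8192) Steps.nil)))))))))))) (nat_lit 195) (nat_lit 11),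
  Rule.mk (nat_lit 16) (nat_lit 179) (Steps.fwd (nat_lit 8192) (Steps.bwd (nat_lit 3) (Steps.bwd (nat_lit 1) (Steps.bwd (nat_lit 3) (Steps.fwd (nat_lit 8192) (Steps.fwd (nat_lit 16384) (Steps.fwd (nat_lit 8192) (Steps.bwd (nat_lit 2) (Steps.fwd (nat_lit 32768) (Steps.bwd (nat_lit 1) (Steps.bwd (nat_lit 2) Steps.nil))))))))))) (nat_lit 190) (nat_lit 1),
  Rule.mk (nat_lit 0) (nat_lit 194) (Steps.bwd (nat_lit 15) (Steps.fwd (nat_lit 16384) (Steps.bwd (nat_lit 1) (Steps.bwd (nat_lit 4) (Steps.fwd (nat_lit 16384) (Steps.fwd (nat_lit 8192) (Steps.bwd (nat_lit 2) (Steps.bwd (nat_lit 1) (Steps.bwd (nat_lit 2) (Steps.bwd (nat_lit 1) (Steps.fwd (nat_lit 24576) (Steps.fwd (nat_lit 8192) Steps.nil)))))))))))) (nat_lit 191) (nat_lit 11),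
  Rule.mk (nat_lit 2) (nat_lit 164) (Steps.bwd (nat_lit 11) (Steps.bwd (nat_lit 3) (Steps.bwd (nat_lit 4) (Steps.fwd (nat_lit 40960) (Steps.fwd (nat_lit 65536) (Steps.bwd (nat_lit 9) (Steps.bwd (nat_lit 10) (Steps.bwd (nat_lit 11) (Steps.bwd (nat_lit 12) (Steps.bwd (nat_lit 14) Steps.nil)))))))))) (nat_lit 182) (nat_lit 1),
  Rule.mk (nat_lit 0) (nat_lit 194) (Steps.bwd (nat_lit 16) (Steps.bwd (nat_lit 1) (Steps.fwd (nat_lit 16384) (Steps.bwd (nat_lit 1) (Steps.fwd (nat_lit 16384) (Steps.fwd (nat_lit 8192) (Steps.fwd (nat_lit 16384) (Steps.fwd (nat_lit 8192) (Steps.bwd (nat_lit 2) (Steps.fwd (nat_lit 32768) (Steps.fwd (nat_lit 8192) (Steps.bwd (nat_lit 2) Steps.nil)))))))))))) (nat_lit 190) (nat_lit 0),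
  Rule.mk (nat_lit 20) (nat_lit 179) (Steps.bwd (nat_lit 1) (Steps.bwd (nat_lit 2) (Steps.bwd (nat_lit 1) (Steps.bwd (nat_lit 2) (Steps.fwd (nat_lit 8192) (Steps.fwd (nat_lit 16384) (Steps.fwd (nat_lit 8192) (Steps.fwd (nat_lit 16384) (Steps.bwd (nat_lit 1) (Steps.fwd (nat_lit 32768) (Steps.fwd (nat_lit 24576) Steps.nil))))))))))) (nat_lit 194) (nat_lit 1),
  Rule.mk (nat_lit 0) (nat_lit 194) (Steps.bwd (nat_lit 15) (Steps.fwd (nat_lit 16384) (Steps.bwd (nat_lit 1) (Steps.fwd (nat_lit 32768) (Steps.bwd (nat_lit 3) (Steps.fwd (nat_lit 8192) (Steps.bwd (nat_lit 2) (Steps.bwd (nat_lit 1) (Steps.fwd (nat_lit 24576) (Steps.fwd (nat_lit 8192) (Steps.bwd (nat_lit 2) (Steps.fwd (nat_lit 8192) Steps.nil)))))))))))) (nat_lit 191) (nat_lit 11),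
  Rule.mk (nat_lit 3) (nat_lit 179) (Steps.bwd (nat_lit 18) (Steps.fwd (nat_lit 8192) (Steps.fwd (nat_lit 16384) (Steps.bwd (nat_lit 4) (Steps.fwd (nat_lit 8192) (Steps.fwd (nat_lit 24576) (Steps.bwd (nat_lit 1) (Steps.bwd (nat_lit 2) (Steps.fwd (nat_lit 8192) (Steps.bwd (nat_lit 3) (Steps.fwd (nat_lit 8192) Steps.nil))))))))))) (nat_lit 192) (nat_lit 0),
  Rule.mk (nat_lit 14) (nat_lit 134) (Steps.bwd (nat_lit 11) (Steps.bwd (nat_lit 9) (Steps.fwd (nat_lit 65536) (Steps.bwd (nat_lit 5) (Steps.bwd (nat_lit 4) (Steps.fwd (nat_lit 24576) (Steps.fwd (nat_lit 73728) (Steps.bwd (nat_lit 3) Steps.nil)))))))) (nat_lit 179) (nat_lit 1),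
  Rule.mk (nat_lit 12) (nat_lit 164) (Steps.bwd (nat_lit 14) (Steps.fwd (nat_lit 8192) (Steps.fwd (nat_lit 98304) (Steps.bwd (nat_lit 1) (Steps.fwd (nat_lit 32768) (Steps.bwd (nat_lit 5) (Steps.bwd (nat_lit 8) (Steps.fwd (nat_lit 73728) (Steps.bwd (nat_lit 10) (Steps.bwd (nat_lit 11) Steps.nil)))))))))) (nat_lit 162) (nat_lit 10),
  Rule.mk (nat_lit 19) (nat_lit 179) (Steps.fwd (nat_lit 16384) (Steps.fwd (nat_lit 32768) (Steps.fwd (nat_lit 8192) (Steps.fwd (nat_lit 24576) (Steps.bwd (nat_lit 1) (Steps.bwd (nat_lit 2) (Steps.bwd (nat_lit 1) (Steps.bwd (nat_lit 3) (Steps.fwd (nat_lit 8192) (Steps.bwd (nat_lit 3) (Steps.bwd (nat_lit 1) Steps.nil))))))))))) (nat_lit 195) (nat_lit 0),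
  Rule.mk (nat_lit 3) (nat_lit 179) (Steps.bwd (nat_lit 18) (Steps.bwd (nat_lit 1) (Steps.fwd (nat_lit 16384) (Steps.fwd (nat_lit 32768) (Steps.fwd (nat_lit 8192) (Steps.bwd (nat_lit 2) (Steps.bwd (nat_lit 1) (Steps.fwd (nat_lit 24576) (Steps.fwd (nat_lit 8192) (Steps.fwd (nat_lit 16384) (Steps.fwd (nat_lit 8192) Steps.nil))))))))))) (nat_lit 192) (nat_lit 0),
  Rule.mk (nat_lit 5) (nat_lit 104) (Steps.bwd (nat_lit 7) (Steps.fwd (nat_lit 106496) (Steps.bwd (nat_lit 14) (Steps.bwd (nat_lit 2) (Steps.bwd (nat_lit 7) (Steps.bwd (nat_lit 3) Steps.nil)))))) (nat_lit 174) (nat_lit 4),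
  Rule.mk (nat_lit 1) (nat_lit 179) (Steps.bwd (nat_lit 19) (Steps.fwd (nat_lit 16384) (Steps.fwd (nat_lit 32768) (Steps.fwd (nat_lit 8192) (Steps.bwd (nat_lit 2) (Steps.bwd (nat_lit 1) (Steps.fwd (nat_lit 24576) (Steps.fwd (nat_lit 8192) (Steps.fwd (nat_lit 16384) (Steps.fwd (nat_lit 8192) (Steps.bwd (nat_lit 3) Steps.nil))))))))))) (nat_lit 195) (nat_lit 11),
  Rule.mk (nat_lit 0) (nat_lit 554) (Steps.bwd (nat_lit 2) (Steps.bwd (nat_lit 1) (Steps.fwd (nat_lit 16384) (Steps.bwd (nat_lit 1) (Steps.bwd (nat_lit 3) (Steps.bwd (nat_lit 1) (Steps.fwd (nat_lit 24576) (Steps.bwd (nat_lit 1) (Steps.fwd (nat_lit 16384) (Steps.fwd (nat_lit 8192) (Steps.fwd (nat_lit 16384) (Steps.bwd (nat_lit 1) (Steps.bwd (nat_lit 2) (Steps.bwd (nat_lit 1) (Steps.bwd (nat_lit 2) (Steps.bwd (nat_lit 1) (Steps.fwd (nat_lit 16384) (Steps.bwd (nat_lit 1) (Steps.fwd (nat_lit 24576) (Steps.bwd (nat_lit 1) (Steps.bwd (nat_lit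 2) (Steps.bwd (nat_lit 1) (Steps.bwd (nat_lit 3) (Steps.fwd (nat_lit 8192) (Steps.fwd (nat_lit 24576) (Steps.fwd (nat_lit 8192) (Steps.bwd (nat_lit 2) (Steps.bwd (nat_lit 1) (Steps.bwd (nat_lit 3) (Steps.bwd (nat_lit 1) (Steps.fwd (nat_lit 24576) (Steps.fwd (nat_lit 8192) (Steps.fwd (nat_lit 16384) (Steps.fwd (nat_lit 8192) (Steps.bwd (nat_lit 3) (Steps.bwd (nat_lit 1) Steps.nil)))))))))))))))))))))))))))))))))))) (nat_lit 12) (nat_lit 25),
  Rule.mk (nat_lit 8) (nat_lit 104) (Steps.fwd (nat_lit 8192) (Steps.fwd (nat_lit 40960) (Steps.bwd (nat_lit 7) (Steps.fwd (nat_lit 106496) (Steps.bwd (nat_lit 14) (Steps.fwd (nat_lit 8192) Steps.nil)))))) (nat_lit 154) (nat_lit 2),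
  Rule.mk (nat_lit 6) (nat_lit 149) (Steps.fwd (nat_lit 8192) (Steps.bwd (nat_lit 4) (Steps.bwd (nat_lit 5) (Steps.bwd (nat_lit 8) (Steps.bwd (nat_lit 9) (Steps.fwd (nat_lit 98304) (Steps.fwd (nat_lit 106496) (Steps.bwd (nat_lit 14) (Steps.fwd (nat_lit 8192) Steps.nil))))))))) (nat_lit 150) (nat_lit 2),
  Rule.mk (nat_lit 7) (nat_lit 164) (Steps.fwd (nat_lit 8192) (Steps.bwd (nat_lit 5) (Steps.fwd (nat_lit 49152) (Steps.bwd (nat_lit 9) (Steps.fwd (nat_lit 81920) (Steps.bwd (nat_lit 11) (Steps.fwd (nat_lit 98304) (Steps.fwd (nat_lit 106496) (Steps.bwd (nat_lit 14) (Steps.fwd (nat_lit 8192) Steps.nil)))))))))) (nat_lit 152) (nat_lit 2),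
  Rule.mk (nat_lit 0) (nat_lit 194) (Steps.bwd (nat_lit 20) (Steps.fwd (nat_lit 8192) (Steps.bwd (nat_lit 2) (Steps.bwd (nat_lit 1) (Steps.fwd (nat_lit 24576) (Steps.fwd (nat_lit 8192) (Steps.fwd (nat_lit 16384) (Steps.fwd (nat_lit 8192) (Steps.bwd (nat_lit 3) (Steps.bwd (nat_lit 1) (Steps.fwd (nat_lit 32768) (Steps.bwd (nat_lit 2) Steps.nil)))))))))))) (nat_lit 194) (nat_lit 0),
  Rule.mk (nat_lit 0) (nat_lit 194) (Steps.bwd (nat_lit 15) (Steps.fwd (nat_lit 16384) (Steps.bwd (nat_lit 1) (Steps.bwd (nat_lit 4) (Steps.bwd (nat_lit 3) (Steps.fwd (nat_lit 8192) (Steps.fwd (nat_lit 24576) (Steps.bwd (nat_lit 1) (Steps.fwd (nat_lit 24576) (Steps.bwd (nat_lit 1) (Steps.fwd (nat_lit 24576) (Steps.bwd (nat_lit 1) Steps.nil)))))))))))) (nat_lit 191) (nat_lit 11),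
  Rule.mk (nat_lit 15) (nat_lit 179) (Steps.bwd (nat_lit 3) (Steps.fwd (nat_lit 8192) (Steps.bwd (nat_lit 4) (Steps.bwd (nat_lit 3) (Steps.fwd (nat_lit 8192) (Steps.fwd (nat_lit 24576) (Steps.bwd (nat_lit 1) (Steps.bwd (nat_lit 2) (Steps.bwd (nat_lit 1) (Steps.bwd (nat_lit 2) (Steps.fwd (nat_lit 8192) Steps.nil))))))))))) (nat_lit 191) (nat_lit 0),
  Rule.mk (nat_lit 18) (nat_lit 179) (Steps.bwd (nat_lit 1) (Steps.bwd (nat_lit 3) (Steps.fwd (nat_lit 32768) (Steps.fwd (nat_lit 8192) (Steps.fwd (nat_lit 24576) (Steps.fwd (nat_lit 8192) (Steps.bwd (nat_lit 2) (Steps.fwd (nat_lit 8192) (Steps.bwd (nat_lit 3) (Steps.fwd (nat_lit 8192) (Steps.bwd (nat_lit 3) Steps.nil))))))))))) (nat_lit 192) (nat_lit 1),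
  Rule.mk (nat_lit 0) (nat_lit 194) (Steps.bwd (nat_lit 17) (Steps.fwd (nat_lit 24576) (Steps.fwd (nat_lit 8192) (Steps.bwd (nat_lit 2) (Steps.fwd (nat_lit 8192) (Steps.bwd (nat_lit 3) (Steps.fwd (nat_lit 8192) (Steps.bwd (nat_lit 3) (Steps.bwd (nat_lit 1) (Steps.fwd (nat_lit 32768) (Steps.bwd (nat_lit 2) (Steps.fwd (nat_lit 8192) Steps.nil)))))))))))) (nat_lit 193) (nat_lit 11),
  Rule.mk (nat_lit 20) (nat_lit 179) (Steps.fwd (nat_lit 8192) (Steps.fwd (nat_lit 24576) (Steps.fwd (nat_lit 8192) (Steps.bwd (nat_lit 2) (Steps.fwd (nat_lit 8192) (Steps.bwd (nat_lit 3) (Steps.fwd (nat_lit 8192) (Steps.bwd (nat_lit 3) (Steps.bwd (nat_lit 1) (Steps.fwd (nat_lit 32768) (Steps.bwd (nat_lit 2) Steps.nil))))))))))) (nat_lit 194) (nat_lit 1),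
  Rule.mk (nat_lit 19) (nat_lit 179) (Steps.bwd (nat_lit 3) (Steps.fwd (nat_lit 32768) (Steps.fwd (nat_lit 8192) (Steps.fwd (nat_lit 24576) (Steps.fwd (nat_lit 8192) (Steps.bwd (nat_lit 2) (Steps.fwd (nat_lit 8192) (Steps.bwd (nat_lit 3) (Steps.fwd (nat_lit 8192) (Steps.bwd (nat_lit 3) (Steps.bwd (nat_lit 1) Steps.nil))))))))))) (nat_lit 195) (nat_lit 0),
  Rule.mk (nat_lit 0) (nat_lit 194) (Steps.bwd (nat_lit 17) (Steps.bwd (nat_lit 2) (Steps.fwd (nat_lit 8192) (Steps.fwd (nat_lit 24576) (Steps.bwd (nat_lit 1) (Steps.fwd (nat_lit 16384) (Steps.fwd (nat_lit 8192) (Steps.fwd (nat_lit 16384) (Steps.bwd (nat_lit 1) (Steps.fwd (nat_lit 32768) (Steps.bwd (nat_lit 2) (Steps.fwd (nat_lit 8192) Steps.nil)))))))))))) (nat_lit 193) (nat_lit 11),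
  Rule.mk (nat_lit 18) (nat_lit 179) (Steps.fwd (nat_lit 8192) (Steps.fwd (nat_lit 16384) (Steps.fwd (nat_lit 32768) (Steps.bwd (nat_lit 1) (Steps.bwd (nat_lit 2) (Steps.fwd (nat_lit 8192) (Steps.fwd (nat_lit 24576) (Steps.bwd (nat_lit 1) (Steps.fwd (nat_lit 16384) (Steps.bwd (nat_lit 1) (Steps.fwd (nat_lit 16384) Steps.nil))))))))))) (nat_lit 192) (nat_lit 1),
  Rule.mk (nat_lit 0) (nat_lit 194) (Steps.bwd (nat_lit 19) (Steps.fwd (nat_lit 16384) (Steps.bwd (nat_lit 4) (Steps.fwd (nat_lit 8192) (Steps.bwd (nat_lit 2) (Steps.bwd (nat_lit 1) (Steps.bwd (nat_lit 2) (Steps.fwd (nat_lit 8192) (Steps.bwd (nat_lit 3) (Steps.bwd (nat_lit 1) (Steps.fwd (nat_lit 16384) (Steps.bwd (nat_lit 1) Steps.nil)))))))))))) (nat_lit 195) (nat_lit 11),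
  Rule.mk (nat_lit 19) (nat_lit 179) (Steps.fwd (nat_lit 16384) (Steps.fwd (nat_lit 32768) (Steps.bwd (nat_lit 1) (Steps.bwd (nat_lit 2) (Steps.fwd (nat_lit 8192) (Steps.fwd (nat_lit 24576) (Steps.bwd (nat_lit 1) (Steps.fwd (nat_lit 16384) (Steps.bwd (nat_lit 1) (Steps.fwd (nat_lit 16384) (Steps.bwd (nat_lit 1) Steps.nil))))))))))) (nat_lit 195) (nat_lit 0),
  Rule.mk (nat_lit 2) (nat_lit 179) (Steps.bwd (nat_lit 20) (Steps.fwd (nat_lit 8192) (Steps.bwd (nat_lit 2) (Steps.fwd (nat_lit 8192) (Steps.bwd (nat_lit 2) (Steps.bwd (nat_lit 1) (Steps.bwd (nat_lit 3) (Steps.bwd (nat_lit 1) (Steps.fwd (nat_lit 16384) (Steps.bwd (nat_lit 1) (Steps.bwd (nat_lit 4) Steps.nil))))))))))) (nat_lit 194) (nat_lit 0),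
  Rule.mk (nat_lit 10) (nat_lit 104) (Steps.bwd (nat_lit 3) (Steps.fwd (nat_lit 49152) (Steps.bwd (nat_lit 11) (Steps.fwd (nat_lit 98304) (Steps.fwd (nat_lit 114688) (Steps.bwd (nat_lit 2) Steps.nil)))))) (nat_lit 180) (nat_lit 2),
  Rule.mk (nat_lit 14) (nat_lit 119) (Steps.bwd (nat_lit 3) (Steps.bwd (nat_lit 5) (Steps.bwd (nat_lit 6) (Steps.fwd (nat_lit 57344) (Steps.fwd (nat_lit 98304) (Steps.fwd (nat_lit 114688) (Steps.bwd (nat_lit 2) Steps.nil))))))) (nat_lit 188) (nat_lit 2),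
  Rule.mk (nat_lit 13) (nat_lit 134) (Steps.bwd (nat_lit 3) (Steps.fwd (nat_lit 114688) (Steps.bwd (nat_lit 13) (Steps.fwd (nat_lit 98304) (Steps.bwd (nat_lit 11) (Steps.bwd (nat_lit 10) (Steps.bwd (nat_lit 6) (Steps.bwd (nat_lit 2) Steps.nil)))))))) (nat_lit 187) (nat_lit 8),
  Rule.mk (nat_lit 5) (nat_lit 149) (Steps.fwd (nat_lit 16384) (Steps.fwd (nat_lit 114688) (Steps.bwd (nat_lit 13) (Steps.fwd (nat_lit 98304) (Steps.fwd (nat_lit 73728) (Steps.bwd (nat_lit 8) (Steps.fwd (nat_lit 40960) (Steps.bwd (nat_lit 4) (Steps.bwd (nat_lit 2) Steps.nil))))))))) (nat_lit 171) (nat_lit 9),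
  Rule.mk (nat_lit 6) (nat_lit 164) (Steps.bwd (nat_lit 3) (Steps.fwd (nat_lit 114688) (Steps.fwd (nat_lit 106496) (Steps.bwd (nat_lit 12) (Steps.bwd (nat_lit 11) (Steps.fwd (nat_lit 81920) (Steps.fwd (nat_lit 73728) (Steps.bwd (nat_lit 6) (Steps.fwd (nat_lit 40960) (Steps.bwd (nat_lit 2) Steps.nil)))))))))) (nat_lit 173) (nat_lit 10)]
noncomputable def R_55 : List (Rule) := [Rule.mk (nat_lit 11) (nat_lit 164) (Steps.fwd (nat_lit 16384) (Steps.fwd (nat_lit 114688) (Steps.bwd (nat_lit 12) (Steps.fwd (nat_lit 90112) (Steps.fwd (nat_lit 81920) (Steps.fwd (nat_lit 73728) (Steps.bwd (nat_lit 8) (Steps.fwd (nat_lit 40960) (Steps.bwd (nat_lit 4) (Steps.bwd (nat_lit 2) Steps.nil)))))))))) (nat_lit 183) (nat_lit 10),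
  Rule.mk (nat_lit 16) (nat_lit 179) (Steps.fwd (nat_lit 8192) (Steps.fwd (nat_lit 16384) (Steps.bwd (nat_lit 1) (Steps.fwd (nat_lit 16384) (Steps.fwd (nat_lit 8192) (Steps.bwd (nat_lit 3) (Steps.fwd (nat_lit 8192) (Steps.fwd (nat_lit 24576) (Steps.bwd (nat_lit 4) (Steps.fwd (nat_lit 8192) (Steps.bwd (nat_lit 2) Steps.nil))))))))))) (nat_lit 190) (nat_lit 1),
  Rule.mk (nat_lit 18) (nat_lit 179) (Steps.bwd (nat_lit 1) (Steps.fwd (nat_lit 16384) (Steps.fwd (nat_lit 32768) (Steps.fwd (nat_lit 8192) (Steps.bwd (nat_lit 2) (Steps.fwd (nat_lit 8192) (Steps.fwd (nat_lit 24576) (Steps.fwd (nat_lit 8192) (Steps.fwd (nat_lit 16384) (Steps.bwd (nat_lit 1) (Steps.fwd (nat_lit 16384) Steps.nil))))))))))) (nat_lit 192) (nat_lit 1),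
  Rule.mk (nat_lit 19) (nat_lit 179) (Steps.fwd (nat_lit 16384) (Steps.bwd (nat_lit 4) (Steps.fwd (nat_lit 8192) (Steps.bwd (nat_lit 2) (Steps.bwd (nat_lit 1) (Steps.bwd (nat_lit 2) (Steps.fwd (nat_lit 8192) (Steps.fwd (nat_lit 16384) (Steps.fwd (nat_lit 8192) (Steps.fwd (nat_lit 16384) (Steps.bwd (nat_lit 1) Steps.nil))))))))))) (nat_lit 195) (nat_lit 0),
  Rule.mk (nat_lit 1) (nat_lit 104) (Steps.bwd (nat_lit 11) (Steps.fwd (nat_lit 8192) (Steps.fwd (nat_lit 49152) (Steps.bwd (nat_lit 11) (Steps.fwd (nat_lit 98304) (Steps.fwd (nat_lit 114688) Steps.nil)))))) (nat_lit 160) (nat_lit 1),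
  Rule.mk (nat_lit 2) (nat_lit 164) (Steps.bwd (nat_lit 11) (Steps.bwd (nat_lit 3) (Steps.bwd (nat_lit 14) (Steps.fwd (nat_lit 98304) (Steps.bwd (nat_lit 11) (Steps.bwd (nat_lit 10) (Steps.fwd (nat_lit 73728) (Steps.fwd (nat_lit 65536) (Steps.fwd (nat_lit 40960) (Steps.bwd (nat_lit 4) Steps.nil)))))))))) (nat_lit 183) (nat_lit 9),
  Rule.mk (nat_lit 18) (nat_lit 179) (Steps.fwd (nat_lit 8192) (Steps.fwd (nat_lit 16384) (Steps.fwd (nat_lit 32768) (Steps.fwd (nat_lit 8192) (Steps.bwd (nat_lit 2) (Steps.fwd (nat_lit 8192) (Steps.bwd (nat_lit 2) (Steps.fwd (nat_lit 8192) (Steps.bwd (nat_lit 3) (Steps.bwd (nat_lit 1) (Steps.bwd (nat_lit 3) Steps.nil))))))))))) (nat_lit 192) (nat_lit 1),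
  Rule.mk (nat_lit 17) (nat_lit 179) (Steps.bwd (nat_lit 2) (Steps.fwd (nat_lit 8192) (Steps.bwd (nat_lit 2) (Steps.fwd (nat_lit 8192) (Steps.bwd (nat_lit 3) (Steps.bwd (nat_lit 1) (Steps.bwd (nat_lit 3) (Steps.bwd (nat_lit 1) (Steps.bwd (nat_lit 4) (Steps.fwd (nat_lit 24576) (Steps.bwd (nat_lit 1) Steps.nil))))))))))) (nat_lit 193) (nat_lit 0),
  Rule.mk (nat_lit 20) (nat_lit 179) (Steps.fwd (nat_lit 8192) (Steps.bwd (nat_lit 2) (Steps.bwd (nat_lit 1) (Steps.bwd (nat_lit 2) (Steps.fwd (nat_lit 8192) (Steps.bwd (nat_lit 3) (Steps.bwd (nat_lit 1) (Steps.fwd (nat_lit 16384) (Steps.bwd (nat_lit 1) (Steps.bwd (nat_lit 4) (Steps.bwd (nat_lit 2) Steps.nil))))))))))) (nat_lit 194) (nat_lit 1),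
  Rule.mk (nat_lit 0) (nat_lit 194) (Steps.bwd (nat_lit 20) (Steps.fwd (nat_lit 8192) (Steps.bwd (nat_lit 2) (Steps.fwd (nat_lit 8192) (Steps.bwd (nat_lit 2) (Steps.fwd (nat_lit 8192) (Steps.bwd (nat_lit 3) (Steps.bwd (nat_lit 1) (Steps.bwd (nat_lit 3) (Steps.bwd (nat_lit 1) (Steps.bwd (nat_lit 4) (Steps.fwd (nat_lit 24576) Steps.nil)))))))))))) (nat_lit 194) (nat_lit 0),
  Rule.mk (nat_lit 19) (nat_lit 179) (Steps.fwd (nat_lit 16384) (Steps.fwd (nat_lit 32768) (Steps.fwd (nat_lit 8192) (Steps.bwd (nat_lit 2) (Steps.fwd (nat_lit 8192) (Steps.bwd (nat_lit 2) (Steps.fwd (nat_lit 8192) (Steps.bwd (nat_lit 3) (Steps.bwd (nat_lit 1) (Steps.bwd (nat_lit 3) (Steps.bwd (nat_lit 1) Steps.nil))))))))))) (nat_lit 195) (nat_lit 0),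
  Rule.mk (nat_lit 0) (nat_lit 194) (Steps.fwd (nat_lit 16384) (Steps.bwd (nat_lit 1) (Steps.fwd (nat_lit 32768) (Steps.fwd (nat_lit 16384) (Steps.fwd (nat_lit 8192) (Steps.bwd (nat_lit 2) (Steps.fwd (nat_lit 8192) (Steps.fwd (nat_lit 24576) (Steps.bwd (nat_lit 1) (Steps.fwd (nat_lit 24576) (Steps.bwd (nat_lit 1) (Steps.fwd (nat_lit 131072) Steps.nil)))))))))))) (nat_lit 191) (nat_lit 0),
  Rule.mk (nat_lit 2) (nat_lit 179) (Steps.bwd (nat_lit 20) (Steps.bwd (nat_lit 1) (Steps.fwd (nat_lit 24576) (Steps.fwd (nat_lit 8192) (Steps.fwd (nat_lit 24576) (Steps.fwd (nat_lit 8192) (Steps.bwd (nat_lit 3) (Steps.bwd (nat_lit 1) (Steps.bwd (nat_lit 3) (Steps.bwd (nat_lit 1) (Steps.bwd (nat_lit 4) Steps.nil))))))))))) (nat_lit 194) (nat_lit 0),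
  Rule.mk (nat_lit 13) (nat_lit 134) (Steps.fwd (nat_lit 16384) (Steps.fwd (nat_lit 114688) (Steps.fwd (nat_lit 106496) (Steps.fwd (nat_lit 98304) (Steps.bwd (nat_lit 11) (Steps.fwd (nat_lit 81920) (Steps.bwd (nat_lit 6) (Steps.bwd (nat_lit 2) Steps.nil)))))))) (nat_lit 187) (nat_lit 8),
  Rule.mk (nat_lit 1) (nat_lit 134) (Steps.fwd (nat_lit 32768) (Steps.bwd (nat_lit 5) (Steps.fwd (nat_lit 65536) (Steps.fwd (nat_lit 73728) (Steps.bwd (nat_lit 11) (Steps.bwd (nat_lit 14) (Steps.fwd (nat_lit 8192) (Steps.bwd (nat_lit 10) Steps.nil)))))))) (nat_lit 158) (nat_lit 3),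
  Rule.mk (nat_lit 2) (nat_lit 104) (Steps.bwd (nat_lit 10) (Steps.bwd (nat_lit 3) (Steps.bwd (nat_lit 6) (Steps.fwd (nat_lit 90112) (Steps.fwd (nat_lit 98304) (Steps.bwd (nat_lit 14) Steps.nil)))))) (nat_lit 180) (nat_lit 1),
  Rule.mk (nat_lit 17) (nat_lit 179) (Steps.bwd (nat_lit 2) (Steps.fwd (nat_lit 8192) (Steps.bwd (nat_lit 2) (Steps.fwd (nat_lit 8192) (Steps.bwd (nat_lit 3) (Steps.fwd (nat_lit 8192) (Steps.fwd (nat_lit 16384) (Steps.bwd (nat_lit 1) (Steps.bwd (nat_lit 4) (Steps.bwd (nat_lit 2) (Steps.fwd (nat_lit 8192) Steps.nil))))))))))) (nat_lit 193) (nat_lit 0),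
  Rule.mk (nat_lit 20) (nat_lit 179) (Steps.bwd (nat_lit 1) (Steps.bwd (nat_lit 2) (Steps.fwd (nat_lit 8192) (Steps.bwd (nat_lit 2) (Steps.fwd (nat_lit 8192) (Steps.bwd (nat_lit 3) (Steps.fwd (nat_lit 8192) (Steps.fwd (nat_lit 16384) (Steps.bwd (nat_lit 1) (Steps.bwd (nat_lit 4) (Steps.bwd (nat_lit 2) Steps.nil))))))))))) (nat_lit 194) (nat_lit 1),
  Rule.mk (nat_lit 1) (nat_lit 164) (Steps.bwd (nat_lit 12) (Steps.bwd (nat_lit 1) (Steps.fwd (nat_lit 32768) (Steps.bwd (nat_lit 5) (Steps.bwd (nat_lit 8) (Steps.fwd (nat_lit 73728) (Steps.bwd (nat_lit 10) (Steps.bwd (nat_lit 11) (Steps.bwd (nat_lit 12) (Steps.bwd (nat_lit 14) Steps.nil)))))))))) (nat_lit 162) (nat_lit 1),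
  Rule.mk (nat_lit 16) (nat_lit 179) (Steps.bwd (nat_lit 1) (Steps.bwd (nat_lit 3) (Steps.fwd (nat_lit 8192) (Steps.fwd (nat_lit 16384) (Steps.bwd (nat_lit 1) (Steps.fwd (nat_lit 16384) (Steps.fwd (nat_lit 8192) (Steps.fwd (nat_lit 24576) (Steps.bwd (nat_lit 4) (Steps.bwd (nat_lit 1) (Steps.bwd (nat_lit 2) Steps.nil))))))))))) (nat_lit 190) (nat_lit 1),
  Rule.mk (nat_lit 16) (nat_lit 179) (Steps.bwd (nat_lit 1) (Steps.fwd (nat_lit 16384) (Steps.fwd (nat_lit 8192) (Steps.bwd (nat_lit 3) (Steps.bwd (nat_lit 1) (Steps.bwd (nat_lit 3) (Steps.bwd (nat_lit 1) (Steps.bwd (nat_lit 2) (Steps.bwd (nat_lit 4) (Steps.bwd (nat_lit 1) (Steps.bwd (nat_lit 2) Steps.nil))))))))))) (nat_lit 190) (nat_lit 1),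
  Rule.mk (nat_lit 15) (nat_lit 179) (Steps.bwd (nat_lit 3) (Steps.fwd (nat_lit 8192) (Steps.fwd (nat_lit 32768) (Steps.bwd (nat_lit 3) (Steps.fwd (nat_lit 8192) (Steps.bwd (nat_lit 2) (Steps.fwd (nat_lit 8192) (Steps.fwd (nat_lit 24576) (Steps.bwd (nat_lit 1) (Steps.fwd (nat_lit 24576) (Steps.bwd (nat_lit 1) Steps.nil))))))))))) (nat_lit 191) (nat_lit 0),
  Rule.mk (nat_lit 20) (nat_lit 179) (Steps.fwd (nat_lit 8192) (Steps.fwd (nat_lit 24576) (Steps.bwd (nat_lit 1) (Steps.fwd (nat_lit 24576) (Steps.bwd (nat_lit 1) (Steps.fwd (nat_lit 16384) (Steps.fwd (nat_lit 8192) (Steps.bwd (nat_lit 3) (Steps.bwd (nat_lit 1) (Steps.bwd (nat_lit 4) (Steps.fwd (nat_lit 24576) Steps.nil))))))))))) (nat_lit 194) (nat_lit 1),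
  Rule.mk (nat_lit 19) (nat_lit 179) (Steps.bwd (nat_lit 3) (Steps.fwd (nat_lit 32768) (Steps.fwd (nat_lit 8192) (Steps.fwd (nat_lit 24576) (Steps.bwd (nat_lit 1) (Steps.bwd (nat_lit 2) (Steps.bwd (nat_lit 1) (Steps.bwd (nat_lit 3) (Steps.fwd (nat_lit 8192) (Steps.fwd (nat_lit 16384) (Steps.bwd (nat_lit 1) Steps.nil))))))))))) (nat_lit 195) (nat_lit 0),
  Rule.mk (nat_lit 3) (nat_lit 179) (Steps.fwd (nat_lit 32768) (Steps.fwd (nat_lit 8192) (Steps.fwd (nat_lit 24576) (Steps.bwd (nat_lit 1) (Steps.fwd (nat_lit 24576) (Steps.bwd (nat_lit 1) (Steps.fwd (nat_lit 16384) (Steps.fwd (nat_lit 8192) (Steps.bwd (nat_lit 3) (Steps.bwd (nat_lit 1) (Steps.fwd (nat_lit 163840) Steps.nil))))))))))) (nat_lit 195) (nat_lit 1),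
  Rule.mk (nat_lit 1) (nat_lit 179) (Steps.bwd (nat_lit 17) (Steps.fwd (nat_lit 24576) (Steps.bwd (nat_lit 1) (Steps.bwd (nat_lit 2) (Steps.fwd (nat_lit 8192) (Steps.bwd (nat_lit 3) (Steps.fwd (nat_lit 8192) (Steps.bwd (nat_lit 3) (Steps.bwd (nat_lit 1) (Steps.bwd (nat_lit 4) (Steps.fwd (nat_lit 24576) Steps.nil))))))))))) (nat_lit 193) (nat_lit 11),
  Rule.mk (nat_lit 15) (nat_lit 179) (Steps.fwd (nat_lit 16384) (Steps.fwd (nat_lit 8192) (Steps.fwd (nat_lit 32768) (Steps.bwd (nat_lit 3) (Steps.fwd (nat_lit 8192) (Steps.fwd (nat_lit 24576) (Steps.bwd (nat_lit 1) (Steps.fwd (nat_lit 24576) (Steps.bwd (nat_lit 1) (Steps.fwd (nat_lit 24576) (Steps.bwd (nat_lit 1) Steps.nil))))))))))) (nat_lit 191) (nat_lit 0),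
  Rule.mk (nat_lit 8) (nat_lit 89) (Steps.bwd (nat_lit 3) (Steps.fwd (nat_lit 114688) (Steps.bwd (nat_lit 7) (Steps.bwd (nat_lit 4) (Steps.bwd (nat_lit 2) Steps.nil))))) (nat_lit 177) (nat_lit 5),
  Rule.mk (nat_lit 5) (nat_lit 149) (Steps.bwd (nat_lit 3) (Steps.fwd (nat_lit 32768) (Steps.fwd (nat_lit 40960) (Steps.fwd (nat_lit 65536) (Steps.fwd (nat_lit 73728) (Steps.fwd (nat_lit 98304) (Steps.bwd (nat_lit 13) (Steps.fwd (nat_lit 114688) (Steps.fwd (nat_lit 24576) Steps.nil))))))))) (nat_lit 170) (nat_lit 2),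
  Rule.mk (nat_lit 0) (nat_lit 119) (Steps.fwd (nat_lit 8192) (Steps.fwd (nat_lit 40960) (Steps.bwd (nat_lit 7) (Steps.fwd (nat_lit 106496) (Steps.fwd (nat_lit 114688) (Steps.bwd (nat_lit 1) (Steps.fwd (nat_lit 65536) Steps.nil))))))) (nat_lit 154) (nat_lit 2),
  Rule.mk (nat_lit 0) (nat_lit 194) (Steps.bwd (nat_lit 15) (Steps.bwd (nat_lit 3) (Steps.fwd (nat_lit 8192) (Steps.bwd (nat_lit 4) (Steps.bwd (nat_lit 3) (Steps.bwd (nat_lit 1) (Steps.fwd (nat_lit 24576) (Steps.bwd (nat_lit 1) (Steps.fwd (nat_lit 24576) (Steps.bwd (nat_lit 1) (Steps.fwd (nat_lit 24576) (Steps.bwd (nat_lit 1) Steps.nil)))))))))))) (nat_lit 191) (nat_lit 11),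
  Rule.mk (nat_lit 15) (nat_lit 179) (Steps.fwd (nat_lit 16384) (Steps.fwd (nat_lit 8192) (Steps.fwd (nat_lit 32768) (Steps.bwd (nat_lit 3) (Steps.bwd (nat_lit 1) (Steps.fwd (nat_lit 24576) (Steps.bwd (nat_lit 1) (Steps.fwd (nat_lit 24576) (Steps.bwd (nat_lit 1) (Steps.fwd (nat_lit 24576) (Steps.fwd (nat_lit 8192) Steps.nil))))))))))) (nat_lit 191) (nat_lit 0),
  Rule.mk (nat_lit 0) (nat_lit 194) (Steps.bwd (nat_lit 16) (Steps.fwd (nat_lit 8192) (Steps.fwd (nat_lit 16384) (Steps.bwd (nat_lit 1) (Steps.bwd (nat_lit 3) (Steps.fwd (nat_lit 8192) (Steps.bwd (nat_lit 3) (Steps.fwd (nat_lit 8192) (Steps.fwd (nat_lit 24576) (Steps.bwd (nat_lit 4) (Steps.bwd (nat_lit 1) (Steps.fwd (nat_lit 24576) Steps.nil)))))))))))) (nat_lit 190) (nat_lit 0),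
  Rule.mk (nat_lit 0) (nat_lit 194) (Steps.bwd (nat_lit 17) (Steps.bwd (nat_lit 2) (Steps.fwd (nat_lit 8192) (Steps.bwd (nat_lit 2) (Steps.fwd (nat_lit 8192) (Steps.bwd (nat_lit 3) (Steps.fwd (nat_lit 8192) (Steps.bwd (nat_lit 3) (Steps.fwd (nat_lit 8192) (Steps.bwd (nat_lit 4) (Steps.fwd (nat_lit 24576) (Steps.bwd (nat_lit 1) Steps.nil)))))))))))) (nat_lit 193) (nat_lit 11),
  Rule.mk (nat_lit 18) (nat_lit 179) (Steps.fwd (nat_lit 8192) (Steps.bwd (nat_lit 3) (Steps.bwd (nat_lit 4) (Steps.bwd (nat_lit 1) (Steps.fwd (nat_lit 24576) (Steps.bwd (nat_lit 1) (Steps.fwd (nat_lit 24576) (Steps.fwd (nat_lit 8192) (Steps.fwd (nat_lit 16384) (Steps.fwd (nat_lit 8192) (Steps.fwd (nat_lit 16384) Steps.nil))))))))))) (nat_lit 192) (nat_lit 1),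
  Rule.mk (nat_lit 18) (nat_lit 179) (Steps.bwd (nat_lit 1) (Steps.bwd (nat_lit 3) (Steps.fwd (nat_lit 32768) (Steps.fwd (nat_lit 8192) (Steps.fwd (nat_lit 24576) (Steps.bwd (nat_lit 1) (Steps.bwd (nat_lit 2) (Steps.bwd (nat_lit 1) (Steps.bwd (nat_lit 3) (Steps.bwd (nat_lit 1) (Steps.fwd (nat_lit 16384) Steps.nil))))))))))) (nat_lit 192) (nat_lit 1),
  Rule.mk (nat_lit 19) (nat_lit 179) (Steps.bwd (nat_lit 3) (Steps.fwd (nat_lit 32768) (Steps.bwd (nat_lit 1) (Steps.fwd (nat_lit 24576) (Steps.bwd (nat_lit 1) (Steps.fwd (nat_lit 24576) (Steps.bwd (nat_lit 1) (Steps.fwd (nat_lit 16384) (Steps.bwd (nat_lit 1) (Steps.fwd (nat_lit 16384) (Steps.fwd (nat_lit 8192) Steps.nil))))))))))) (nat_lit 195) (nat_lit 0),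
  Rule.mk (nat_lit 16) (nat_lit 179) (Steps.bwd (nat_lit 1) (Steps.bwd (nat_lit 3) (Steps.fwd (nat_lit 8192) (Steps.bwd (nat_lit 3) (Steps.fwd (nat_lit 8192) (Steps.fwd (nat_lit 16384) (Steps.bwd (nat_lit 1) (Steps.fwd (nat_lit 24576) (Steps.fwd (nat_lit 32768) (Steps.bwd (nat_lit 1) (Steps.bwd (nat_lit 2) Steps.nil))))))))))) (nat_lit 190) (nat_lit 1),
  Rule.mk (nat_lit 16) (nat_lit 179) (Steps.bwd (nat_lit 1) (Steps.fwd (nat_lit 16384) (Steps.bwd (nat_lit 1) (Steps.bwd (nat_lit 3) (Steps.fwd (nat_lit 8192) (Steps.fwd (nat_lit 16384) (Steps.bwd (nat_lit 1) (Steps.bwd (nat_lit 2) (Steps.bwd (nat_lit 4) (Steps.bwd (nat_lit 1) (Steps.bwd (nat_lit 2) Steps.nil))))))))))) (nat_lit 190) (nat_lit 1),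
  Rule.mk (nat_lit 1) (nat_lit 104) (Steps.bwd (nat_lit 13) (Steps.bwd (nat_lit 1) (Steps.fwd (nat_lit 32768) (Steps.bwd (nat_lit 5) (Steps.bwd (nat_lit 8) (Steps.fwd (nat_lit 73728) Steps.nil)))))) (nat_lit 164) (nat_lit 1),
  Rule.mk (nat_lit 15) (nat_lit 179) (Steps.fwd (nat_lit 16384) (Steps.fwd (nat_lit 8192) (Steps.fwd (nat_lit 32768) (Steps.bwd (nat_lit 3) (Steps.fwd (nat_lit 8192) (Steps.fwd (nat_lit 24576) (Steps.bwd (nat_lit 1) (Steps.fwd (nat_lit 24576) (Steps.bwd (nat_lit 1) (Steps.bwd (nat_lit 2) (Steps.bwd (nat_lit 1) Steps.nil))))))))))) (nat_lit 191) (nat_lit 0),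
  Rule.mk (nat_lit 12) (nat_lit 164) (Steps.bwd (nat_lit 1) (Steps.fwd (nat_lit 32768) (Steps.fwd (nat_lit 40960) (Steps.fwd (nat_lit 65536) (Steps.fwd (nat_lit 73728) (Steps.fwd (nat_lit 81920) (Steps.fwd (nat_lit 90112) (Steps.bwd (nat_lit 12) (Steps.bwd (nat_lit 14) (Steps.bwd (nat_lit 1) Steps.nil)))))))))) (nat_lit 162) (nat_lit 2),
  Rule.mk (nat_lit 0) (nat_lit 194) (Steps.bwd (nat_lit 18) (Steps.fwd (nat_lit 8192) (Steps.bwd (nat_lit 3) (Steps.bwd (nat_lit 4) (Steps.fwd (nat_lit 8192) (Steps.bwd (nat_lit 2) (Steps.bwd (nat_lit 1) (Steps.bwd (nat_lit 2) (Steps.fwd (nat_lit 8192) (Steps.bwd (nat_lit 3) (Steps.bwd (nat_lit 1) (Steps.fwd (nat_lit 16384) Steps.nil)))))))))))) (nat_lit 192) (nat_lit 0),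
  Rule.mk (nat_lit 0) (nat_lit 194) (Steps.bwd (nat_lit 20) (Steps.fwd (nat_lit 8192) (Steps.bwd (nat_lit 2) (Steps.fwd (nat_lit 8192) (Steps.fwd (nat_lit 24576) (Steps.bwd (nat_lit 1) (Steps.fwd (nat_lit 16384) (Steps.fwd (nat_lit 8192) (Steps.fwd (nat_lit 16384) (Steps.bwd (nat_lit 1) (Steps.fwd (nat_lit 32768) (Steps.fwd (nat_lit 24576) Steps.nil)))))))))))) (nat_lit 194) (nat_lit 0),
  Rule.mk (nat_lit 19) (nat_lit 179) (Steps.fwd (nat_lit 16384) (Steps.fwd (nat_lit 32768) (Steps.fwd (nat_lit 8192) (Steps.bwd (nat_lit 2) (Steps.fwd (nat_lit 8192) (Steps.fwd (nat_lit 24576) (Steps.bwd (nat_lit 1) (Steps.fwd (nat_lit 16384) (Steps.fwd (nat_lit 8192) (Steps.fwd (nat_lit 16384) (Steps.bwd (nat_lit 1) Steps.nil))))))))))) (nat_lit 195) (nat_lit 0),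
  Rule.mk (nat_lit 16) (nat_lit 179) (Steps.fwd (nat_lit 8192) (Steps.fwd (nat_lit 16384) (Steps.bwd (nat_lit 1) (Steps.bwd (nat_lit 3) (Steps.fwd (nat_lit 8192) (Steps.fwd (nat_lit 16384) (Steps.bwd (nat_lit 1) (Steps.fwd (nat_lit 24576) (Steps.bwd (nat_lit 4) (Steps.fwd (nat_lit 8192) (Steps.fwd (nat_lit 24576) Steps.nil))))))))))) (nat_lit 190) (nat_lit 1),
  Rule.mk (nat_lit 16) (nat_lit 179) (Steps.bwd (nat_lit 1) (Steps.bwd (nat_lit 3) (Steps.fwd (nat_lit 8192) (Steps.fwd (nat_lit 16384) (Steps.bwd (nat_lit 1) (Steps.fwd (nat_lit 16384) (Steps.fwd (nat_lit 8192) (Steps.bwd (nat_lit 2) (Steps.fwd (nat_lit 32768) (Steps.bwd (nat_lit 1) (Steps.bwd (nat_lit 2) Steps.nil))))))))))) (nat_lit 190) (nat_lit 1),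
  Rule.mk (nat_lit 0) (nat_lit 194) (Steps.bwd (nat_lit 16) (Steps.bwd (nat_lit 1) (Steps.bwd (nat_lit 3) (Steps.bwd (nat_lit 1) (Steps.fwd (nat_lit 16384) (Steps.fwd (nat_lit 8192) (Steps.fwd (nat_lit 16384) (Steps.bwd (nat_lit 1) (Steps.fwd (nat_lit 24576) (Steps.bwd (nat_lit 4) (Steps.bwd (nat_lit 1) (Steps.bwd (nat_lit 2) Steps.nil)))))))))))) (nat_lit 190) (nat_lit 0),
  Rule.mk (nat_lit 18) (nat_lit 179) (Steps.fwd (nat_lit 8192) (Steps.bwd (nat_lit 3) (Steps.bwd (nat_lit 4) (Steps.fwd (nat_lit 8192) (Steps.fwd (nat_lit 24576) (Steps.bwd (nat_lit 1) (Steps.bwd (nat_lit 2) (Steps.fwd (nat_lit 8192) (Steps.bwd (nat_lit 3) (Steps.fwd (nat_lit 8192) (Steps.bwd (nat_lit 3) Steps.nil))))))))))) (nat_lit 192) (nat_lit 1),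
  Rule.mk (nat_lit 1) (nat_lit 164) (Steps.bwd (nat_lit 12) (Steps.fwd (nat_lit 8192) (Steps.bwd (nat_lit 4) (Steps.fwd (nat_lit 40960) (Steps.bwd (nat_lit 8) (Steps.bwd (nat_lit 9) (Steps.bwd (nat_lit 10) (Steps.fwd (nat_lit 90112) (Steps.fwd (nat_lit 98304) (Steps.bwd (nat_lit 14) Steps.nil)))))))))) (nat_lit 162) (nat_lit 1),
  Rule.mk (nat_lit 17) (nat_lit 179) (Steps.fwd (nat_lit 24576) (Steps.fwd (nat_lit 8192) (Steps.bwd (nat_lit 2) (Steps.fwd (nat_lit 8192) (Steps.bwd (nat_lit 3) (Steps.fwd (nat_lit 8192) (Steps.bwd (nat_lit 3) (Steps.bwd (nat_lit 1) (Steps.fwd (nat_lit 32768) (Steps.fwd (nat_lit 24576) (Steps.bwd (nat_lit 1) Steps.nil))))))))))) (nat_lit 193) (nat_lit 0),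
  Rule.mk (nat_lit 16) (nat_lit 179) (Steps.fwd (nat_lit 8192) (Steps.fwd (nat_lit 16384) (Steps.fwd (nat_lit 8192) (Steps.bwd (nat_lit 3) (Steps.fwd (nat_lit 8192) (Steps.bwd (nat_lit 3) (Steps.bwd (nat_lit 1) (Steps.bwd (nat_lit 2) (Steps.bwd (nat_lit 4) (Steps.bwd (nat_lit 1) (Steps.bwd (nat_lit 2) Steps.nil))))))))))) (nat_lit 190) (nat_lit 1),
  Rule.mk (nat_lit 0) (nat_lit 194) (Steps.fwd (nat_lit 16384) (Steps.fwd (nat_lit 32768) (Steps.fwd (nat_lit 8192) (Steps.bwd (nat_lit 2) (Steps.bwd (nat_lit 1) (Steps.fwd (nat_lit 24576) (Steps.fwd (nat_lit 8192) (Steps.fwd (nat_lit 16384) (Steps.fwd (nat_lit 8192) (Steps.bwd (nat_lit 3) (Steps.bwd (nat_lit 1) (Steps.fwd (nat_lit 163840) Steps.nil)))))))))))) (nat_lit 195) (nat_lit 0),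
  Rule.mk (nat_lit 11) (nat_lit 134) (Steps.bwd (nat_lit 9) (Steps.bwd (nat_lit 8) (Steps.bwd (nat_lit 5) (Steps.bwd (nat_lit 4) (Steps.bwd (nat_lit 1) (Steps.fwd (nat_lit 81920) (Steps.fwd (nat_lit 8192) (Steps.fwd (nat_lit 114688) Steps.nil)))))))) (nat_lit 159) (nat_lit 2),
  Rule.mk (nat_lit 15) (nat_lit 179) (Steps.fwd (nat_lit 16384) (Steps.fwd (nat_lit 8192) (Steps.fwd (nat_lit 32768) (Steps.fwd (nat_lit 16384) (Steps.bwd (nat_lit 1) (Steps.fwd (nat_lit 24576) (Steps.bwd (nat_lit 1) (Steps.bwd (nat_lit 2) (Steps.bwd (nat_lit 1) (Steps.bwd (nat_lit 2) (Steps.bwd (nat_lit 1) Steps.nil))))))))))) (nat_lit 191) (nat_lit 0),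
  Rule.mk (nat_lit 16) (nat_lit 179) (Steps.bwd (nat_lit 1) (Steps.fwd (nat_lit 16384) (Steps.bwd (nat_lit 1) (Steps.bwd (nat_lit 3) (Steps.bwd (nat_lit 1) (Steps.bwd (nat_lit 3) (Steps.fwd (nat_lit 8192) (Steps.bwd (nat_lit 2) (Steps.bwd (nat_lit 4) (Steps.bwd (nat_lit 1) (Steps.bwd (nat_lit 2) Steps.nil))))))))))) (nat_lit 190) (nat_lit 1),
  Rule.mk (nat_lit 0) (nat_lit 194) (Steps.bwd (nat_lit 1) (Steps.fwd (nat_lit 16384) (Steps.fwd (nat_lit 8192) (Steps.fwd (nat_lit 16384) (Steps.fwd (nat_lit 8192) (Steps.fwd (nat_lit 16384) (Steps.fwd (nat_lit 8192) (Steps.fwd (nat_lit 24576) (Steps.bwd (nat_lit 4) (Steps.bwd (nat_lit 1) (Steps.bwd (nat_lit 2) (Steps.fwd (nat_lit 122880) Steps.nil)))))))))))) (nat_lit 190) (nat_lit 1),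
  Rule.mk (nat_lit 15) (nat_lit 179) (Steps.fwd (nat_lit 16384) (Steps.bwd (nat_lit 1) (Steps.fwd (nat_lit 32768) (Steps.fwd (nat_lit 16384) (Steps.bwd (nat_lit 1) (Steps.bwd (nat_lit 2) (Steps.bwd (nat_lit 1) (Steps.bwd (nat_lit 2) (Steps.bwd (nat_lit 1) (Steps.fwd (nat_lit 24576) (Steps.bwd (nat_lit 1) Steps.nil))))))))))) (nat_lit 191) (nat_lit 0),
  Rule.mk (nat_lit 15) (nat_lit 179) (Steps.bwd (nat_lit 3) (Steps.bwd (nat_lit 1) (Steps.bwd (nat_lit 4) (Steps.fwd (nat_lit 16384) (Steps.bwd (nat_lit 1) (Steps.bwd (nat_lit 2) (Steps.bwd (nat_lit 1) (Steps.fwd (nat_lit 24576) (Steps.bwd (nat_lit 1) (Steps.bwd (nat_lit 2) (Steps.bwd (nat_lit 1) Steps.nil))))))))))) (nat_lit 191) (nat_lit 0),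
  Rule.mk (nat_lit 18) (nat_lit 179) (Steps.bwd (nat_lit 1) (Steps.fwd (nat_lit 16384) (Steps.bwd (nat_lit 4) (Steps.bwd (nat_lit 1) (Steps.bwd (nat_lit 2) (Steps.bwd (nat_lit 1) (Steps.bwd (nat_lit 2) (Steps.bwd (nat_lit 1) (Steps.fwd (nat_lit 16384) (Steps.bwd (nat_lit 1) (Steps.fwd (nat_lit 16384) Steps.nil))))))))))) (nat_lit 192) (nat_lit 1),
  Rule.mk (nat_lit 0) (nat_lit 194) (Steps.bwd (nat_lit 17) (Steps.bwd (nat_lit 2) (Steps.bwd (nat_lit 1) (Steps.bwd (nat_lit 2) (Steps.fwd (nat_lit 8192) (Steps.bwd (nat_lit 3) (Steps.fwd (nat_lit 8192) (Steps.fwd (nat_lit 16384) (Steps.fwd (nat_lit 8192) (Steps.fwd (nat_lit 32768) (Steps.bwd (nat_lit 2) (Steps.fwd (nat_lit 8192) Steps.nil)))))))))))) (nat_lit 193) (nat_lit 11),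
  Rule.mk (nat_lit 17) (nat_lit 179) (Steps.bwd (nat_lit 2) (Steps.bwd (nat_lit 1) (Steps.bwd (nat_lit 2) (Steps.bwd (nat_lit 1) (Steps.fwd (nat_lit 16384) (Steps.bwd (nat_lit 1) (Steps.fwd (nat_lit 16384) (Steps.fwd (nat_lit 8192) (Steps.fwd (nat_lit 32768) (Steps.fwd (nat_lit 24576) (Steps.bwd (nat_lit 1) Steps.nil))))))))))) (nat_lit 193) (nat_lit 0),
  Rule.mk (nat_lit 17) (nat_lit 179) (Steps.bwd (nat_lit 2) (Steps.bwd (nat_lit 1) (Steps.fwd (nat_lit 24576) (Steps.bwd (nat_lit 1) (Steps.fwd (nat_lit 16384) (Steps.fwd (nat_lit 8192) (Steps.fwd (nat_lit 16384) (Steps.fwd (nat_lit 8192) (Steps.fwd (nat_lit 32768) (Steps.fwd (nat_lit 24576) (Steps.bwd (nat_lit 1) Steps.nil))))))))))) (nat_lit 193) (nat_lit 0),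
  Rule.mk (nat_lit 20) (nat_lit 179) (Steps.bwd (nat_lit 1) (Steps.bwd (nat_lit 2) (Steps.bwd (nat_lit 1) (Steps.bwd (nat_lit 2) (Steps.bwd (nat_lit 1) (Steps.fwd (nat_lit 16384) (Steps.bwd (nat_lit 1) (Steps.fwd (nat_lit 16384) (Steps.fwd (nat_lit 8192) (Steps.fwd (nat_lit 32768) (Steps.fwd (nat_lit 24576) Steps.nil))))))))))) (nat_lit 194) (nat_lit 1)]
noncomputable def R_56 : List (Rule) := [Rule.mk (nat_lit 20) (nat_lit 179) (Steps.bwd (nat_lit 1) (Steps.bwd (nat_lit 2) (Steps.bwd (nat_lit 1) (Steps.fwd (nat_lit 24576) (Steps.bwd (nat_lit 1) (Steps.fwd (nat_lit 16384) (Steps.fwd (nat_lit 8192) (Steps.fwd (nat_lit 16384) (Steps.fwd (nat_lit 8192) (Steps.fwd (nat_lit 32768) (Steps.fwd (nat_lit 24576) Steps.nil))))))))))) (nat_lit 194) (nat_lit 1),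
  Rule.mk (nat_lit 19) (nat_lit 179) (Steps.fwd (nat_lit 16384) (Steps.bwd (nat_lit 4) (Steps.bwd (nat_lit 1) (Steps.bwd (nat_lit 2) (Steps.bwd (nat_lit 1) (Steps.bwd (nat_lit 2) (Steps.bwd (nat_lit 1) (Steps.fwd (nat_lit 16384) (Steps.bwd (nat_lit 1) (Steps.fwd (nat_lit 16384) (Steps.fwd (nat_lit 8192) Steps.nil))))))))))) (nat_lit 195) (nat_lit 0),
  Rule.mk (nat_lit 19) (nat_lit 179) (Steps.fwd (nat_lit 16384) (Steps.bwd (nat_lit 4) (Steps.bwd (nat_lit 1) (Steps.bwd (nat_lit 2) (Steps.bwd (nat_lit 1) (Steps.fwd (nat_lit 24576) (Steps.bwd (nat_lit 1) (Steps.fwd (nat_lit 16384) (Steps.fwd (nat_lit 8192) (Steps.fwd (nat_lit 16384) (Steps.fwd (nat_lit 8192) Steps.nil))))))))))) (nat_lit 195) (nat_lit 0),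
  Rule.mk (nat_lit 10) (nat_lit 134) (Steps.bwd (nat_lit 1) (Steps.bwd (nat_lit 4) (Steps.fwd (nat_lit 40960) (Steps.bwd (nat_lit 8) (Steps.fwd (nat_lit 73728) (Steps.fwd (nat_lit 90112) (Steps.fwd (nat_lit 114688) (Steps.bwd (nat_lit 1) Steps.nil)))))))) (nat_lit 158) (nat_lit 2),
  Rule.mk (nat_lit 18) (nat_lit 179) (Steps.bwd (nat_lit 1) (Steps.bwd (nat_lit 3) (Steps.bwd (nat_lit 4) (Steps.bwd (nat_lit 1) (Steps.bwd (nat_lit 2) (Steps.fwd (nat_lit 8192) (Steps.fwd (nat_lit 24576) (Steps.fwd (nat_lit 8192) (Steps.fwd (nat_lit 16384) (Steps.bwd (nat_lit 1) (Steps.fwd (nat_lit 16384) Steps.nil))))))))))) (nat_lit 192) (nat_lit 1),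
  Rule.mk (nat_lit 16) (nat_lit 179) (Steps.bwd (nat_lit 1) (Steps.fwd (nat_lit 16384) (Steps.bwd (nat_lit 1) (Steps.bwd (nat_lit 3) (Steps.fwd (nat_lit 8192) (Steps.fwd (nat_lit 16384) (Steps.fwd (nat_lit 8192) (Steps.bwd (nat_lit 2) (Steps.fwd (nat_lit 32768) (Steps.bwd (nat_lit 1) (Steps.bwd (nat_lit 2) Steps.nil))))))))))) (nat_lit 190) (nat_lit 1),
  Rule.mk (nat_lit 18) (nat_lit 179) (Steps.fwd (nat_lit 8192) (Steps.bwd (nat_lit 3) (Steps.fwd (nat_lit 32768) (Steps.fwd (nat_lit 8192) (Steps.bwd (nat_lit 2) (Steps.fwd (nat_lit 8192) (Steps.bwd (nat_lit 2) (Steps.bwd (nat_lit 1) (Steps.bwd (nat_lit 3) (Steps.fwd (nat_lit 8192) (Steps.bwd (nat_lit 3) Steps.nil))))))))))) (nat_lit 192) (nat_lit 1),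
  Rule.mk (nat_lit 2) (nat_lit 179) (Steps.bwd (nat_lit 20) (Steps.fwd (nat_lit 8192) (Steps.bwd (nat_lit 2) (Steps.fwd (nat_lit 8192) (Steps.bwd (nat_lit 2) (Steps.bwd (nat_lit 1) (Steps.bwd (nat_lit 3) (Steps.fwd (nat_lit 8192) (Steps.bwd (nat_lit 3) (Steps.bwd (nat_lit 1) (Steps.fwd (nat_lit 32768) Steps.nil))))))))))) (nat_lit 194) (nat_lit 0),
  Rule.mk (nat_lit 14) (nat_lit 119) (Steps.bwd (nat_lit 3) (Steps.bwd (nat_lit 5) (Steps.fwd (nat_lit 49152) (Steps.fwd (nat_lit 57344) (Steps.fwd (nat_lit 98304) (Steps.bwd (nat_lit 14) (Steps.bwd (nat_lit 2) Steps.nil))))))) (nat_lit 188) (nat_lit 2),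
  Rule.mk (nat_lit 5) (nat_lit 149) (Steps.bwd (nat_lit 3) (Steps.fwd (nat_lit 114688) (Steps.bwd (nat_lit 13) (Steps.fwd (nat_lit 98304) (Steps.fwd (nat_lit 73728) (Steps.bwd (nat_lit 8) (Steps.fwd (nat_lit 40960) (Steps.fwd (nat_lit 32768) (Steps.bwd (nat_lit 2) Steps.nil))))))))) (nat_lit 171) (nat_lit 9),
  Rule.mk (nat_lit 11) (nat_lit 164) (Steps.fwd (nat_lit 16384) (Steps.fwd (nat_lit 114688) (Steps.bwd (nat_lit 12) (Steps.fwd (nat_lit 90112) (Steps.fwd (nat_lit 81920) (Steps.fwd (nat_lit 73728) (Steps.bwd (nat_lit 8) (Steps.fwd (nat_lit 40960) (Steps.fwd (nat_lit 32768) (Steps.bwd (nat_lit 2) Steps.nil)))))))))) (nat_lit 183) (nat_lit 10),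
  Rule.mk (nat_lit 15) (nat_lit 179) (Steps.bwd (nat_lit 3) (Steps.bwd (nat_lit 1) (Steps.bwd (nat_lit 4) (Steps.bwd (nat_lit 3) (Steps.fwd (nat_lit 8192) (Steps.bwd (nat_lit 2) (Steps.bwd (nat_lit 1) (Steps.fwd (nat_lit 24576) (Steps.fwd (nat_lit 8192) (Steps.fwd (nat_lit 24576) (Steps.bwd (nat_lit 1) Steps.nil))))))))))) (nat_lit 191) (nat_lit 0),
  Rule.mk (nat_lit 3) (nat_lit 104) (Steps.bwd (nat_lit 9) (Steps.fwd (nat_lit 65536) (Steps.fwd (nat_lit 40960) (Steps.fwd (nat_lit 32768) (Steps.bwd (nat_lit 2) (Steps.fwd (nat_lit 98304) Steps.nil)))))) (nat_lit 185) (nat_lit 0),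
  Rule.mk (nat_lit 11) (nat_lit 104) (Steps.fwd (nat_lit 49152) (Steps.bwd (nat_lit 1) (Steps.bwd (nat_lit 11) (Steps.fwd (nat_lit 8192) (Steps.fwd (nat_lit 114688) (Steps.bwd (nat_lit 12) Steps.nil)))))) (nat_lit 161) (nat_lit 3),
  Rule.mk (nat_lit 18) (nat_lit 179) (Steps.bwd (nat_lit 1) (Steps.fwd (nat_lit 16384) (Steps.bwd (nat_lit 4) (Steps.bwd (nat_lit 1) (Steps.bwd (nat_lit 2) (Steps.fwd (nat_lit 8192) (Steps.fwd (nat_lit 24576) (Steps.fwd (nat_lit 8192) (Steps.bwd (nat_lit 3) (Steps.fwd (nat_lit 8192) (Steps.bwd (nat_lit 3) Steps.nil))))))))))) (nat_lit 192) (nat_lit 1),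
  Rule.mk (nat_lit 2) (nat_lit 179) (Steps.bwd (nat_lit 20) (Steps.bwd (nat_lit 1) (Steps.bwd (nat_lit 2) (Steps.fwd (nat_lit 8192) (Steps.fwd (nat_lit 24576) (Steps.fwd (nat_lit 8192) (Steps.fwd (nat_lit 16384) (Steps.bwd (nat_lit 1) (Steps.fwd (nat_lit 16384) (Steps.fwd (nat_lit 8192) (Steps.bwd (nat_lit 4) Steps.nil))))))))))) (nat_lit 194) (nat_lit 0),
  Rule.mk (nat_lit 12) (nat_lit 104) (Steps.fwd (nat_lit 16384) (Steps.fwd (nat_lit 32768) (Steps.bwd (nat_lit 5) (Steps.bwd (nat_lit 8) (Steps.fwd (nat_lit 73728) (Steps.bwd (nat_lit 2) Steps.nil)))))) (nat_lit 184) (nat_lit 2),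
  Rule.mk (nat_lit 9) (nat_lit 134) (Steps.bwd (nat_lit 3) (Steps.fwd (nat_lit 32768) (Steps.bwd (nat_lit 5) (Steps.bwd (nat_lit 8) (Steps.fwd (nat_lit 73728) (Steps.bwd (nat_lit 11) (Steps.bwd (nat_lit 14) (Steps.bwd (nat_lit 2) Steps.nil)))))))) (nat_lit 178) (nat_lit 2),
  Rule.mk (nat_lit 18) (nat_lit 179) (Steps.bwd (nat_lit 1) (Steps.fwd (nat_lit 16384) (Steps.fwd (nat_lit 32768) (Steps.bwd (nat_lit 1) (Steps.bwd (nat_lit 2) (Steps.fwd (nat_lit 8192) (Steps.bwd (nat_lit 2) (Steps.bwd (nat_lit 1) (Steps.bwd (nat_lit 3) (Steps.fwd (nat_lit 8192) (Steps.fwd (nat_lit 16384) Steps.nil))))))))))) (nat_lit 192) (nat_lit 1),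
  Rule.mk (nat_lit 17) (nat_lit 179) (Steps.bwd (nat_lit 2) (Steps.bwd (nat_lit 1) (Steps.bwd (nat_lit 2) (Steps.fwd (nat_lit 8192) (Steps.fwd (nat_lit 16384) (Steps.bwd (nat_lit 1) (Steps.fwd (nat_lit 16384) (Steps.fwd (nat_lit 8192) (Steps.fwd (nat_lit 32768) (Steps.fwd (nat_lit 24576) (Steps.bwd (nat_lit 1) Steps.nil))))))))))) (nat_lit 193) (nat_lit 0),
  Rule.mk (nat_lit 6) (nat_lit 149) (Steps.bwd (nat_lit 1) (Steps.bwd (nat_lit 4) (Steps.fwd (nat_lit 40960) (Steps.fwd (nat_lit 65536) (Steps.bwd (nat_lit 9) (Steps.bwd (nat_lit 12) (Steps.bwd (nat_lit 13) (Steps.bwd (nat_lit 14) (Steps.fwd (nat_lit 8192) Steps.nil))))))))) (nat_lit 150) (nat_lit 2),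
  Rule.mk (nat_lit 18) (nat_lit 179) (Steps.fwd (nat_lit 8192) (Steps.bwd (nat_lit 3) (Steps.fwd (nat_lit 32768) (Steps.fwd (nat_lit 8192) (Steps.bwd (nat_lit 2) (Steps.fwd (nat_lit 8192) (Steps.bwd (nat_lit 2) (Steps.bwd (nat_lit 1) (Steps.bwd (nat_lit 3) (Steps.bwd (nat_lit 1) (Steps.fwd (nat_lit 16384) Steps.nil))))))))))) (nat_lit 192) (nat_lit 1),
  Rule.mk (nat_lit 17) (nat_lit 179) (Steps.bwd (nat_lit 2) (Steps.fwd (nat_lit 8192) (Steps.bwd (nat_lit 2) (Steps.bwd (nat_lit 1) (Steps.bwd (nat_lit 3) (Steps.bwd (nat_lit 1) (Steps.fwd (nat_lit 16384) (Steps.fwd (nat_lit 8192) (Steps.fwd (nat_lit 32768) (Steps.bwd (nat_lit 2) (Steps.bwd (nat_lit 1) Steps.nil))))))))))) (nat_lit 193) (nat_lit 0),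
  Rule.mk (nat_lit 20) (nat_lit 179) (Steps.fwd (nat_lit 8192) (Steps.bwd (nat_lit 2) (Steps.fwd (nat_lit 8192) (Steps.bwd (nat_lit 2) (Steps.bwd (nat_lit 1) (Steps.bwd (nat_lit 3) (Steps.bwd (nat_lit 1) (Steps.fwd (nat_lit 16384) (Steps.fwd (nat_lit 8192) (Steps.fwd (nat_lit 32768) (Steps.bwd (nat_lit 2) Steps.nil))))))))))) (nat_lit 194) (nat_lit 1),
  Rule.mk (nat_lit 17) (nat_lit 179) (Steps.fwd (nat_lit 24576) (Steps.bwd (nat_lit 1) (Steps.bwd (nat_lit 2) (Steps.bwd (nat_lit 1) (Steps.bwd (nat_lit 3) (Steps.fwd (nat_lit 8192) (Steps.bwd (nat_lit 3) (Steps.bwd (nat_lit 1) (Steps.bwd (nat_lit 4) (Steps.bwd (nat_lit 2) (Steps.bwd (nat_lit 1) Steps.nil))))))))))) (nat_lit 193) (nat_lit 0),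
  Rule.mk (nat_lit 20) (nat_lit 179) (Steps.bwd (nat_lit 1) (Steps.fwd (nat_lit 24576) (Steps.bwd (nat_lit 1) (Steps.bwd (nat_lit 2) (Steps.bwd (nat_lit 1) (Steps.bwd (nat_lit 3) (Steps.fwd (nat_lit 8192) (Steps.bwd (nat_lit 3) (Steps.bwd (nat_lit 1) (Steps.bwd (nat_lit 4) (Steps.bwd (nat_lit 2) Steps.nil))))))))))) (nat_lit 194) (nat_lit 1),
  Rule.mk (nat_lit 1) (nat_lit 164) (Steps.fwd (nat_lit 32768) (Steps.fwd (nat_lit 40960) (Steps.fwd (nat_lit 65536) (Steps.bwd (nat_lit 9) (Steps.bwd (nat_lit 10) (Steps.bwd (nat_lit 11) (Steps.fwd (nat_lit 98304) (Steps.bwd (nat_lit 14) (Steps.bwd (nat_lit 1) (Steps.bwd (nat_lit 12) Steps.nil)))))))))) (nat_lit 162) (nat_lit 3),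
  Rule.mk (nat_lit 16) (nat_lit 179) (Steps.bwd (nat_lit 1) (Steps.fwd (nat_lit 16384) (Steps.bwd (nat_lit 1) (Steps.bwd (nat_lit 3) (Steps.fwd (nat_lit 8192) (Steps.fwd (nat_lit 16384) (Steps.fwd (nat_lit 8192) (Steps.fwd (nat_lit 24576) (Steps.bwd (nat_lit 4) (Steps.bwd (nat_lit 1) (Steps.bwd (nat_lit 2) Steps.nil))))))))))) (nat_lit 190) (nat_lit 1),
  Rule.mk (nat_lit 15) (nat_lit 179) (Steps.bwd (nat_lit 3) (Steps.fwd (nat_lit 8192) (Steps.fwd (nat_lit 32768) (Steps.fwd (nat_lit 16384) (Steps.fwd (nat_lit 8192) (Steps.bwd (nat_lit 2) (Steps.bwd (nat_lit 1) (Steps.bwd (nat_lit 2) (Steps.bwd (nat_lit 1) (Steps.fwd (nat_lit 24576) (Steps.bwd (nat_lit 1) Steps.nil))))))))))) (nat_lit 191) (nat_lit 0),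
  Rule.mk (nat_lit 0) (nat_lit 194) (Steps.bwd (nat_lit 16) (Steps.fwd (nat_lit 8192) (Steps.fwd (nat_lit 16384) (Steps.fwd (nat_lit 8192) (Steps.fwd (nat_lit 16384) (Steps.fwd (nat_lit 8192) (Steps.bwd (nat_lit 3) (Steps.bwd (nat_lit 1) (Steps.fwd (nat_lit 24576) (Steps.bwd (nat_lit 4) (Steps.fwd (nat_lit 8192) (Steps.fwd (nat_lit 24576) Steps.nil)))))))))))) (nat_lit 190) (nat_lit 0),
  Rule.mk (nat_lit 17) (nat_lit 179) (Steps.bwd (nat_lit 2) (Steps.fwd (nat_lit 8192) (Steps.bwd (nat_lit 2) (Steps.bwd (nat_lit 1) (Steps.fwd (nat_lit 16384) (Steps.bwd (nat_lit 1) (Steps.bwd (nat_lit 3) (Steps.fwd (nat_lit 8192) (Steps.bwd (nat_lit 4) (Steps.bwd (nat_lit 2) (Steps.fwd (nat_lit 8192) Steps.nil))))))))))) (nat_lit 193) (nat_lit 0),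
  Rule.mk (nat_lit 20) (nat_lit 179) (Steps.fwd (nat_lit 8192) (Steps.bwd (nat_lit 2) (Steps.fwd (nat_lit 8192) (Steps.bwd (nat_lit 2) (Steps.bwd (nat_lit 1) (Steps.fwd (nat_lit 16384) (Steps.bwd (nat_lit 1) (Steps.bwd (nat_lit 3) (Steps.fwd (nat_lit 8192) (Steps.bwd (nat_lit 4) (Steps.bwd (nat_lit 2) Steps.nil))))))))))) (nat_lit 194) (nat_lit 1),
  Rule.mk (nat_lit 7) (nat_lit 164) (Steps.bwd (nat_lit 1) (Steps.bwd (nat_lit 5) (Steps.bwd (nat_lit 6) (Steps.fwd (nat_lit 73728) (Steps.fwd (nat_lit 81920) (Steps.bwd (nat_lit 11) (Steps.fwd (nat_lit 98304) (Steps.bwd (nat_lit 13) (Steps.fwd (nat_lit 114688) (Steps.fwd (nat_lit 8192) Steps.nil)))))))))) (nat_lit 152) (nat_lit 2),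
  Rule.mk (nat_lit 12) (nat_lit 164) (Steps.bwd (nat_lit 1) (Steps.fwd (nat_lit 32768) (Steps.fwd (nat_lit 40960) (Steps.fwd (nat_lit 65536) (Steps.fwd (nat_lit 73728) (Steps.fwd (nat_lit 81920) (Steps.fwd (nat_lit 90112) (Steps.bwd (nat_lit 12) (Steps.fwd (nat_lit 114688) (Steps.bwd (nat_lit 1) Steps.nil)))))))))) (nat_lit 162) (nat_lit 2),
  Rule.mk (nat_lit 16) (nat_lit 179) (Steps.fwd (nat_lit 8192) (Steps.fwd (nat_lit 16384) (Steps.bwd (nat_lit 1) (Steps.fwd (nat_lit 16384) (Steps.bwd (nat_lit 1) (Steps.fwd (nat_lit 16384) (Steps.fwd (nat_lit 8192) (Steps.fwd (nat_lit 24576) (Steps.bwd (nat_lit 4) (Steps.bwd (nat_lit 1) (Steps.fwd (nat_lit 24576) Steps.nil))))))))))) (nat_lit 190) (nat_lit 1),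
  Rule.mk (nat_lit 18) (nat_lit 179) (Steps.bwd (nat_lit 1) (Steps.bwd (nat_lit 3) (Steps.fwd (nat_lit 32768) (Steps.fwd (nat_lit 8192) (Steps.fwd (nat_lit 24576) (Steps.bwd (nat_lit 1) (Steps.fwd (nat_lit 24576) (Steps.fwd (nat_lit 8192) (Steps.bwd (nat_lit 3) (Steps.fwd (nat_lit 8192) (Steps.bwd (nat_lit 3) Steps.nil))))))))))) (nat_lit 192) (nat_lit 1),
  Rule.mk (nat_lit 16) (nat_lit 179) (Steps.fwd (nat_lit 8192) (Steps.bwd (nat_lit 3) (Steps.bwd (nat_lit 1) (Steps.bwd (nat_lit 3) (Steps.fwd (nat_lit 8192) (Steps.bwd (nat_lit 3) (Steps.fwd (nat_lit 8192) (Steps.fwd (nat_lit 24576) (Steps.bwd (nat_lit 4) (Steps.fwd (nat_lit 8192) (Steps.bwd (nat_lit 2) Steps.nil))))))))))) (nat_lit 190) (nat_lit 1),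
  Rule.mk (nat_lit 18) (nat_lit 179) (Steps.bwd (nat_lit 1) (Steps.bwd (nat_lit 3) (Steps.bwd (nat_lit 4) (Steps.bwd (nat_lit 1) (Steps.fwd (nat_lit 24576) (Steps.fwd (nat_lit 8192) (Steps.fwd (nat_lit 24576) (Steps.bwd (nat_lit 1) (Steps.bwd (nat_lit 3) (Steps.fwd (nat_lit 8192) (Steps.bwd (nat_lit 3) Steps.nil))))))))))) (nat_lit 192) (nat_lit 1),
  Rule.mk (nat_lit 18) (nat_lit 179) (Steps.fwd (nat_lit 8192) (Steps.bwd (nat_lit 3) (Steps.bwd (nat_lit 4) (Steps.bwd (nat_lit 1) (Steps.bwd (nat_lit 2) (Steps.fwd (nat_lit 8192) (Steps.fwd (nat_lit 24576) (Steps.fwd (nat_lit 8192) (Steps.bwd (nat_lit 3) (Steps.fwd (nat_lit 8192) (Steps.bwd (nat_lit 3) Steps.nil))))))))))) (nat_lit 192) (nat_lit 1),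
  Rule.mk (nat_lit 17) (nat_lit 179) (Steps.fwd (nat_lit 24576) (Steps.fwd (nat_lit 8192) (Steps.fwd (nat_lit 24576) (Steps.bwd (nat_lit 1) (Steps.bwd (nat_lit 3) (Steps.fwd (nat_lit 8192) (Steps.bwd (nat_lit 3) (Steps.fwd (nat_lit 8192) (Steps.fwd (nat_lit 32768) (Steps.bwd (nat_lit 2) (Steps.fwd (nat_lit 8192) Steps.nil))))))))))) (nat_lit 193) (nat_lit 0),
  Rule.mk (nat_lit 0) (nat_lit 194) (Steps.bwd (nat_lit 1) (Steps.fwd (nat_lit 24576) (Steps.fwd (nat_lit 8192) (Steps.fwd (nat_lit 24576) (Steps.bwd (nat_lit 1) (Steps.bwd (nat_lit 3) (Steps.fwd (nat_lit 8192) (Steps.bwd (nat_lit 3) (Steps.fwd (nat_lit 8192) (Steps.fwd (nat_lit 32768) (Steps.bwd (nat_lit 2) (Steps.fwd (nat_lit 155648) Steps.nil)))))))))))) (nat_lit 194) (nat_lit 1),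
  Rule.mk (nat_lit 0) (nat_lit 194) (Steps.bwd (nat_lit 20) (Steps.bwd (nat_lit 1) (Steps.bwd (nat_lit 2) (Steps.fwd (nat_lit 8192) (Steps.fwd (nat_lit 24576) (Steps.fwd (nat_lit 8192) (Steps.bwd (nat_lit 3) (Steps.bwd (nat_lit 1) (Steps.bwd (nat_lit 3) (Steps.bwd (nat_lit 1) (Steps.fwd (nat_lit 32768) (Steps.fwd (nat_lit 24576) Steps.nil)))))))))))) (nat_lit 194) (nat_lit 0),
  Rule.mk (nat_lit 17) (nat_lit 179) (Steps.bwd (nat_lit 2) (Steps.fwd (nat_lit 8192) (Steps.bwd (nat_lit 2) (Steps.bwd (nat_lit 1) (Steps.bwd (nat_lit 3) (Steps.bwd (nat_lit 1) (Steps.fwd (nat_lit 16384) (Steps.fwd (nat_lit 8192) (Steps.bwd (nat_lit 4) (Steps.fwd (nat_lit 24576) (Steps.bwd (nat_lit 1) Steps.nil))))))))))) (nat_lit 193) (nat_lit 0),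
  Rule.mk (nat_lit 20) (nat_lit 179) (Steps.bwd (nat_lit 1) (Steps.bwd (nat_lit 2) (Steps.fwd (nat_lit 8192) (Steps.bwd (nat_lit 2) (Steps.bwd (nat_lit 1) (Steps.bwd (nat_lit 3) (Steps.bwd (nat_lit 1) (Steps.fwd (nat_lit 16384) (Steps.fwd (nat_lit 8192) (Steps.bwd (nat_lit 4) (Steps.fwd (nat_lit 24576) Steps.nil))))))))))) (nat_lit 194) (nat_lit 1),
  Rule.mk (nat_lit 16) (nat_lit 179) (Steps.fwd (nat_lit 8192) (Steps.bwd (nat_lit 3) (Steps.fwd (nat_lit 8192) (Steps.bwd (nat_lit 3) (Steps.bwd (nat_lit 1) (Steps.fwd (nat_lit 16384) (Steps.fwd (nat_lit 8192) (Steps.fwd (nat_lit 24576) (Steps.bwd (nat_lit 4) (Steps.bwd (nat_lit 1) (Steps.bwd (nat_lit 2) Steps.nil))))))))))) (nat_lit 190) (nat_lit 1),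
  Rule.mk (nat_lit 15) (nat_lit 179) (Steps.bwd (nat_lit 3) (Steps.bwd (nat_lit 1) (Steps.fwd (nat_lit 32768) (Steps.bwd (nat_lit 3) (Steps.bwd (nat_lit 1) (Steps.fwd (nat_lit 24576) (Steps.bwd (nat_lit 1) (Steps.fwd (nat_lit 24576) (Steps.bwd (nat_lit 1) (Steps.fwd (nat_lit 24576) (Steps.bwd (nat_lit 1) Steps.nil))))))))))) (nat_lit 191) (nat_lit 0),
  Rule.mk (nat_lit 18) (nat_lit 179) (Steps.bwd (nat_lit 1) (Steps.fwd (nat_lit 16384) (Steps.fwd (nat_lit 32768) (Steps.fwd (nat_lit 8192) (Steps.fwd (nat_lit 24576) (Steps.bwd (nat_lit 1) (Steps.bwd (nat_lit 2) (Steps.fwd (nat_lit 8192) (Steps.bwd (nat_lit 3) (Steps.fwd (nat_lit 8192) (Steps.fwd (nat_lit 16384) Steps.nil))))))))))) (nat_lit 192) (nat_lit 1),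
  Rule.mk (nat_lit 2) (nat_lit 104) (Steps.bwd (nat_lit 12) (Steps.fwd (nat_lit 16384) (Steps.bwd (nat_lit 4) (Steps.fwd (nat_lit 40960) (Steps.fwd (nat_lit 65536) (Steps.bwd (nat_lit 9) Steps.nil)))))) (nat_lit 184) (nat_lit 1),
  Rule.mk (nat_lit 3) (nat_lit 134) (Steps.bwd (nat_lit 4) (Steps.fwd (nat_lit 40960) (Steps.bwd (nat_lit 8) (Steps.fwd (nat_lit 73728) (Steps.bwd (nat_lit 11) (Steps.bwd (nat_lit 14) (Steps.bwd (nat_lit 2) (Steps.bwd (nat_lit 9) Steps.nil)))))))) (nat_lit 178) (nat_lit 3),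
  Rule.mk (nat_lit 0) (nat_lit 194) (Steps.bwd (nat_lit 16) (Steps.fwd (nat_lit 8192) (Steps.bwd (nat_lit 3) (Steps.bwd (nat_lit 1) (Steps.bwd (nat_lit 3) (Steps.fwd (nat_lit 8192) (Steps.bwd (nat_lit 3) (Steps.bwd (nat_lit 1) (Steps.fwd (nat_lit 24576) (Steps.fwd (nat_lit 32768) (Steps.bwd (nat_lit 1) (Steps.fwd (nat_lit 24576) Steps.nil)))))))))))) (nat_lit 190) (nat_lit 0),
  Rule.mk (nat_lit 15) (nat_lit 179) (Steps.bwd (nat_lit 3) (Steps.fwd (nat_lit 8192) (Steps.bwd (nat_lit 4) (Steps.fwd (nat_lit 16384) (Steps.fwd (nat_lit 8192) (Steps.bwd (nat_lit 2) (Steps.bwd (nat_lit 1) (Steps.fwd (nat_lit 24576) (Steps.fwd (nat_lit 8192) (Steps.fwd (nat_lit 24576) (Steps.fwd (nat_lit 8192) Steps.nil))))))))))) (nat_lit 191) (nat_lit 0),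
  Rule.mk (nat_lit 18) (nat_lit 179) (Steps.bwd (nat_lit 1) (Steps.bwd (nat_lit 3) (Steps.fwd (nat_lit 32768) (Steps.fwd (nat_lit 8192) (Steps.bwd (nat_lit 2) (Steps.fwd (nat_lit 8192) (Steps.fwd (nat_lit 24576) (Steps.bwd (nat_lit 1) (Steps.bwd (nat_lit 3) (Steps.fwd (nat_lit 8192) (Steps.bwd (nat_lit 3) Steps.nil))))))))))) (nat_lit 192) (nat_lit 1),
  Rule.mk (nat_lit 0) (nat_lit 194) (Steps.bwd (nat_lit 18) (Steps.fwd (nat_lit 8192) (Steps.fwd (nat_lit 16384) (Steps.fwd (nat_lit 32768) (Steps.bwd (nat_lit 1) (Steps.fwd (nat_lit 24576) (Steps.bwd (nat_lit 1) (Steps.fwd (nat_lit 24576) (Steps.fwd (nat_lit 8192) (Steps.bwd (nat_lit 3) (Steps.bwd (nat_lit 1) (Steps.fwd (nat_lit 16384) Steps.nil)))))))))))) (nat_lit 192) (nat_lit 0),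
  Rule.mk (nat_lit 20) (nat_lit 179) (Steps.fwd (nat_lit 8192) (Steps.bwd (nat_lit 2) (Steps.fwd (nat_lit 8192) (Steps.fwd (nat_lit 24576) (Steps.bwd (nat_lit 1) (Steps.bwd (nat_lit 3) (Steps.fwd (nat_lit 8192) (Steps.bwd (nat_lit 3) (Steps.fwd (nat_lit 8192) (Steps.bwd (nat_lit 4) (Steps.bwd (nat_lit 2) Steps.nil))))))))))) (nat_lit 194) (nat_lit 1),
  Rule.mk (nat_lit 19) (nat_lit 179) (Steps.bwd (nat_lit 3) (Steps.fwd (nat_lit 32768) (Steps.fwd (nat_lit 8192) (Steps.bwd (nat_lit 2) (Steps.fwd (nat_lit 8192) (Steps.fwd (nat_lit 24576) (Steps.bwd (nat_lit 1) (Steps.bwd (nat_lit 3) (Steps.fwd (nat_lit 8192) (Steps.bwd (nat_lit 3) (Steps.fwd (nat_lit 8192) Steps.nil))))))))))) (nat_lit 195) (nat_lit 0),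
  Rule.mk (nat_lit 16) (nat_lit 179) (Steps.fwd (nat_lit 8192) (Steps.fwd (nat_lit 16384) (Steps.bwd (nat_lit 1) (Steps.fwd (nat_lit 16384) (Steps.fwd (nat_lit 8192) (Steps.bwd (nat_lit 3) (Steps.bwd (nat_lit 1) (Steps.bwd (nat_lit 2) (Steps.bwd (nat_lit 4) (Steps.fwd (nat_lit 8192) (Steps.bwd (nat_lit 2) Steps.nil))))))))))) (nat_lit 190) (nat_lit 1),
  Rule.mk (nat_lit 1) (nat_lit 179) (Steps.bwd (nat_lit 19) (Steps.fwd (nat_lit 16384) (Steps.fwd (nat_lit 32768) (Steps.fwd (nat_lit 8192) (Steps.fwd (nat_lit 24576) (Steps.bwd (nat_lit 1) (Steps.bwd (nat_lit 2) (Steps.fwd (nat_lit 8192) (Steps.bwd (nat_lit 3) (Steps.fwd (nat_lit 8192) (Steps.fwd (nat_lit 16384) Steps.nil))))))))))) (nat_lit 195) (nat_lit 11),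
  Rule.mk (nat_lit 10) (nat_lit 134) (Steps.fwd (nat_lit 8192) (Steps.fwd (nat_lit 32768) (Steps.bwd (nat_lit 5) (Steps.bwd (nat_lit 8) (Steps.fwd (nat_lit 73728) (Steps.bwd (nat_lit 11) (Steps.bwd (nat_lit 14) (Steps.bwd (nat_lit 1) Steps.nil)))))))) (nat_lit 158) (nat_lit 2),
  Rule.mk (nat_lit 14) (nat_lit 134) (Steps.bwd (nat_lit 1) (Steps.fwd (nat_lit 114688) (Steps.fwd (nat_lit 106496) (Steps.bwd (nat_lit 12) (Steps.bwd (nat_lit 11) (Steps.bwd (nat_lit 10) (Steps.fwd (nat_lit 49152) (Steps.bwd (nat_lit 1) Steps.nil)))))))) (nat_lit 167) (nat_lit 8),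
  Rule.mk (nat_lit 7) (nat_lit 164) (Steps.bwd (nat_lit 1) (Steps.fwd (nat_lit 114688) (Steps.fwd (nat_lit 106496) (Steps.fwd (nat_lit 98304) (Steps.fwd (nat_lit 90112) (Steps.fwd (nat_lit 81920) (Steps.bwd (nat_lit 9) (Steps.fwd (nat_lit 49152) (Steps.bwd (nat_lit 5) (Steps.bwd (nat_lit 1) Steps.nil)))))))))) (nat_lit 153) (nat_lit 10),
  Rule.mk (nat_lit 3) (nat_lit 539) (Steps.bwd (nat_lit 1) (Steps.fwd (nat_lit 24576) (Steps.fwd (nat_lit 8192) (Steps.bwd (nat_lit 2) (Steps.bwd (nat_lit 1) (Steps.bwd (nat_lit 3) (Steps.bwd (nat_lit 1) (Steps.fwd (nat_lit 24576) (Steps.fwd (nat_lit 8192) (Steps.bwd (nat_lit 3) (Steps.bwd (nat_lit 1) (Steps.fwd (nat_lit 16384) (Steps.fwd (nat_lit 8192) (Steps.fwd (nat_lit 24576) (Steps.bwd (nat_lit 1) (Steps.bwd (nat_lit 3) (Steps.fwd (nat_lit 8192) (Steps.bwd (nat_lit 3) (Steps.fwd (nat_lit 8192) (Steps.fwd (nat_lit 24576) (Steps.bwd (nat_lit 1) (Steps.fwd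 (nat_lit 16384) (Steps.bwd (nat_lit 1) (Steps.bwd (nat_lit 3) (Steps.fwd (nat_lit 8192) (Steps.bwd (nat_lit 2) (Steps.fwd (nat_lit 8192) (Steps.fwd (nat_lit 24576) (Steps.fwd (nat_lit 8192) (Steps.fwd (nat_lit 16384) (Steps.bwd (nat_lit 1) (Steps.fwd (nat_lit 24576) (Steps.fwd (nat_lit 8192) (Steps.fwd (nat_lit 24576) (Steps.bwd (nat_lit 1) Steps.nil))))))))))))))))))))))))))))))))))) (nat_lit 12) (nat_lit 12),
  Rule.mk (nat_lit 0) (nat_lit 194) (Steps.bwd (nat_lit 15) (Steps.fwd (nat_lit 16384) (Steps.bwd (nat_lit 1) (Steps.fwd (nat_lit 32768) (Steps.fwd (nat_lit 16384) (Steps.bwd (nat_lit 1) (Steps.bwd (nat_lit 2) (Steps.bwd (nat_lit 1) (Steps.fwd (nat_lit 24576) (Steps.fwd (nat_lit 8192) (Steps.fwd (nat_lit 24576) (Steps.fwd (nat_lit 8192) Steps.nil)))))))))))) (nat_lit 191) (nat_lit 11),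
  Rule.mk (nat_lit 0) (nat_lit 194) (Steps.bwd (nat_lit 16) (Steps.fwd (nat_lit 8192) (Steps.fwd (nat_lit 16384) (Steps.bwd (nat_lit 1) (Steps.bwd (nat_lit 3) (Steps.bwd (nat_lit 1) (Steps.bwd (nat_lit 3) (Steps.fwd (nat_lit 8192) (Steps.bwd (nat_lit 2) (Steps.bwd (nat_lit 4) (Steps.fwd (nat_lit 8192) (Steps.fwd (nat_lit 24576) Steps.nil)))))))))))) (nat_lit 190) (nat_lit 0),
  Rule.mk (nat_lit 18) (nat_lit 179) (Steps.bwd (nat_lit 1) (Steps.fwd (nat_lit 16384) (Steps.fwd (nat_lit 32768) (Steps.bwd (nat_lit 1) (Steps.fwd (nat_lit 24576) (Steps.fwd (nat_lit 8192) (Steps.fwd (nat_lit 24576) (Steps.fwd (nat_lit 8192) (Steps.bwd (nat_lit 3) (Steps.bwd (nat_lit 1) (Steps.bwd (nat_lit 3) Steps.nil))))))))))) (nat_lit 192) (nat_lit 1)]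
noncomputable def R_57 : List (Rule) := [Rule.mk (nat_lit 17) (nat_lit 179) (Steps.fwd (nat_lit 24576) (Steps.fwd (nat_lit 8192) (Steps.fwd (nat_lit 24576) (Steps.fwd (nat_lit 8192) (Steps.bwd (nat_lit 3) (Steps.bwd (nat_lit 1) (Steps.bwd (nat_lit 3) (Steps.fwd (nat_lit 8192) (Steps.fwd (nat_lit 32768) (Steps.fwd (nat_lit 24576) (Steps.bwd (nat_lit 1) Steps.nil))))))))))) (nat_lit 193) (nat_lit 0),
  Rule.mk (nat_lit 0) (nat_lit 194) (Steps.bwd (nat_lit 20) (Steps.bwd (nat_lit 1) (Steps.fwd (nat_lit 24576) (Steps.fwd (nat_lit 8192) (Steps.fwd (nat_lit 24576) (Steps.fwd (nat_lit 8192) (Steps.bwd (nat_lit 3) (Steps.bwd (nat_lit 1) (Steps.bwd (nat_lit 3) (Steps.fwd (nat_lit 8192) (Steps.fwd (nat_lit 32768) (Steps.fwd (nat_lit 24576) Steps.nil)))))))))))) (nat_lit 194) (nat_lit 0),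
  Rule.mk (nat_lit 0) (nat_lit 194) (Steps.bwd (nat_lit 19) (Steps.fwd (nat_lit 16384) (Steps.fwd (nat_lit 32768) (Steps.bwd (nat_lit 1) (Steps.fwd (nat_lit 24576) (Steps.fwd (nat_lit 8192) (Steps.fwd (nat_lit 24576) (Steps.fwd (nat_lit 8192) (Steps.bwd (nat_lit 3) (Steps.bwd (nat_lit 1) (Steps.bwd (nat_lit 3) (Steps.fwd (nat_lit 8192) Steps.nil)))))))))))) (nat_lit 195) (nat_lit 11),
  Rule.mk (nat_lit 11) (nat_lit 104) (Steps.bwd (nat_lit 1) (Steps.bwd (nat_lit 14) (Steps.bwd (nat_lit 12) (Steps.bwd (nat_lit 11) (Steps.fwd (nat_lit 49152) (Steps.bwd (nat_lit 1) Steps.nil)))))) (nat_lit 161) (nat_lit 6),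
  Rule.mk (nat_lit 6) (nat_lit 134) (Steps.bwd (nat_lit 1) (Steps.bwd (nat_lit 14) (Steps.bwd (nat_lit 1) (Steps.bwd (nat_lit 14) (Steps.fwd (nat_lit 106496) (Steps.fwd (nat_lit 98304) (Steps.fwd (nat_lit 90112) (Steps.fwd (nat_lit 81920) Steps.nil)))))))) (nat_lit 167) (nat_lit 6),
  Rule.mk (nat_lit 0) (nat_lit 194) (Steps.bwd (nat_lit 18) (Steps.bwd (nat_lit 1) (Steps.fwd (nat_lit 16384) (Steps.bwd (nat_lit 4) (Steps.bwd (nat_lit 1) (Steps.bwd (nat_lit 2) (Steps.bwd (nat_lit 1) (Steps.bwd (nat_lit 2) (Steps.fwd (nat_lit 8192) (Steps.bwd (nat_lit 3) (Steps.bwd (nat_lit 1) (Steps.bwd (nat_lit 3) Steps.nil)))))))))))) (nat_lit 192) (nat_lit 0),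
  Rule.mk (nat_lit 18) (nat_lit 179) (Steps.bwd (nat_lit 1) (Steps.fwd (nat_lit 16384) (Steps.bwd (nat_lit 4) (Steps.fwd (nat_lit 8192) (Steps.bwd (nat_lit 2) (Steps.fwd (nat_lit 8192) (Steps.bwd (nat_lit 2) (Steps.bwd (nat_lit 1) (Steps.bwd (nat_lit 3) (Steps.fwd (nat_lit 8192) (Steps.fwd (nat_lit 16384) Steps.nil))))))))))) (nat_lit 192) (nat_lit 1),
  Rule.mk (nat_lit 20) (nat_lit 179) (Steps.bwd (nat_lit 1) (Steps.bwd (nat_lit 2) (Steps.bwd (nat_lit 1) (Steps.bwd (nat_lit 2) (Steps.fwd (nat_lit 8192) (Steps.bwd (nat_lit 3) (Steps.bwd (nat_lit 1) (Steps.bwd (nat_lit 3) (Steps.fwd (nat_lit 8192) (Steps.fwd (nat_lit 32768) (Steps.bwd (nat_lit 2) Steps.nil))))))))))) (nat_lit 194) (nat_lit 1),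
  Rule.mk (nat_lit 19) (nat_lit 179) (Steps.fwd (nat_lit 16384) (Steps.bwd (nat_lit 4) (Steps.bwd (nat_lit 1) (Steps.bwd (nat_lit 2) (Steps.bwd (nat_lit 1) (Steps.bwd (nat_lit 2) (Steps.fwd (nat_lit 8192) (Steps.bwd (nat_lit 3) (Steps.bwd (nat_lit 1) (Steps.bwd (nat_lit 3) (Steps.fwd (nat_lit 8192) Steps.nil))))))))))) (nat_lit 195) (nat_lit 0),
  Rule.mk (nat_lit 3) (nat_lit 539) (Steps.bwd (nat_lit 1) (Steps.fwd (nat_lit 16384) (Steps.fwd (nat_lit 8192) (Steps.fwd (nat_lit 24576) (Steps.bwd (nat_lit 1) (Steps.bwd (nat_lit 3) (Steps.fwd (nat_lit 8192) (Steps.bwd (nat_lit 3) (Steps.fwd (nat_lit 8192) (Steps.fwd (nat_lit 24576) (Steps.bwd (nat_lit 1) (Steps.fwd (nat_lit 16384) (Steps.fwd (nat_lit 8192) (Steps.bwd (nat_lit 3) (Steps.bwd (nat_lit 1) (Steps.fwd (nat_lit 24576) (Steps.fwd (nat_lit 8192) (Steps.fwd (nat_lit 24576) (Steps.bwd (nat_lit 1) (Steps.bwd (nat_lit 3) (Steps.bwd (nat_lit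 1) (Steps.fwd (nat_lit 24576) (Steps.fwd (nat_lit 8192) (Steps.bwd (nat_lit 2) (Steps.bwd (nat_lit 1) (Steps.bwd (nat_lit 3) (Steps.bwd (nat_lit 1) (Steps.fwd (nat_lit 24576) (Steps.bwd (nat_lit 1) (Steps.bwd (nat_lit 2) (Steps.fwd (nat_lit 8192) (Steps.fwd (nat_lit 16384) (Steps.fwd (nat_lit 8192) (Steps.bwd (nat_lit 2) (Steps.bwd (nat_lit 1) Steps.nil))))))))))))))))))))))))))))))))))) (nat_lit 12) (nat_lit 22),
  Rule.mk (nat_lit 16) (nat_lit 179) (Steps.bwd (nat_lit 1) (Steps.bwd (nat_lit 3) (Steps.fwd (nat_lit 8192) (Steps.fwd (nat_lit 16384) (Steps.bwd (nat_lit 1) (Steps.fwd (nat_lit 16384) (Steps.bwd (nat_lit 1) (Steps.bwd (nat_lit 2) (Steps.fwd (nat_lit 32768) (Steps.fwd (nat_lit 8192) (Steps.fwd (nat_lit 24576) Steps.nil))))))))))) (nat_lit 190) (nat_lit 1),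
  Rule.mk (nat_lit 16) (nat_lit 179) (Steps.bwd (nat_lit 1) (Steps.fwd (nat_lit 16384) (Steps.bwd (nat_lit 1) (Steps.fwd (nat_lit 16384) (Steps.fwd (nat_lit 8192) (Steps.fwd (nat_lit 16384) (Steps.fwd (nat_lit 8192) (Steps.fwd (nat_lit 24576) (Steps.bwd (nat_lit 4) (Steps.fwd (nat_lit 8192) (Steps.fwd (nat_lit 24576) Steps.nil))))))))))) (nat_lit 190) (nat_lit 1),
  Rule.mk (nat_lit 15) (nat_lit 179) (Steps.fwd (nat_lit 16384) (Steps.fwd (nat_lit 8192) (Steps.fwd (nat_lit 32768) (Steps.fwd (nat_lit 16384) (Steps.fwd (nat_lit 8192) (Steps.fwd (nat_lit 24576) (Steps.fwd (nat_lit 8192) (Steps.bwd (nat_lit 2) (Steps.fwd (nat_lit 8192) (Steps.fwd (nat_lit 24576) (Steps.fwd (nat_lit 8192) Steps.nil))))))))))) (nat_lit 191) (nat_lit 0),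
  Rule.mk (nat_lit 18) (nat_lit 179) (Steps.bwd (nat_lit 1) (Steps.bwd (nat_lit 3) (Steps.fwd (nat_lit 32768) (Steps.bwd (nat_lit 1) (Steps.bwd (nat_lit 2) (Steps.fwd (nat_lit 8192) (Steps.fwd (nat_lit 24576) (Steps.fwd (nat_lit 8192) (Steps.fwd (nat_lit 16384) (Steps.bwd (nat_lit 1) (Steps.bwd (nat_lit 3) Steps.nil))))))))))) (nat_lit 192) (nat_lit 1),
  Rule.mk (nat_lit 0) (nat_lit 194) (Steps.bwd (nat_lit 17) (Steps.bwd (nat_lit 2) (Steps.fwd (nat_lit 8192) (Steps.fwd (nat_lit 24576) (Steps.fwd (nat_lit 8192) (Steps.fwd (nat_lit 16384) (Steps.bwd (nat_lit 1) (Steps.bwd (nat_lit 3) (Steps.fwd (nat_lit 8192) (Steps.bwd (nat_lit 4) (Steps.bwd (nat_lit 2) (Steps.fwd (nat_lit 8192) Steps.nil)))))))))))) (nat_lit 193) (nat_lit 11),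
  Rule.mk (nat_lit 20) (nat_lit 179) (Steps.bwd (nat_lit 1) (Steps.bwd (nat_lit 2) (Steps.fwd (nat_lit 8192) (Steps.fwd (nat_lit 24576) (Steps.fwd (nat_lit 8192) (Steps.fwd (nat_lit 16384) (Steps.bwd (nat_lit 1) (Steps.bwd (nat_lit 3) (Steps.fwd (nat_lit 8192) (Steps.bwd (nat_lit 4) (Steps.bwd (nat_lit 2) Steps.nil))))))))))) (nat_lit 194) (nat_lit 1),
  Rule.mk (nat_lit 20) (nat_lit 179) (Steps.fwd (nat_lit 8192) (Steps.fwd (nat_lit 24576) (Steps.fwd (nat_lit 8192) (Steps.bwd (nat_lit 2) (Steps.fwd (nat_lit 8192) (Steps.fwd (nat_lit 16384) (Steps.bwd (nat_lit 1) (Steps.bwd (nat_lit 3) (Steps.bwd (nat_lit 1) (Steps.bwd (nat_lit 4) (Steps.bwd (nat_lit 2) Steps.nil))))))))))) (nat_lit 194) (nat_lit 1),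
  Rule.mk (nat_lit 0) (nat_lit 194) (Steps.bwd (nat_lit 19) (Steps.bwd (nat_lit 3) (Steps.fwd (nat_lit 32768) (Steps.bwd (nat_lit 1) (Steps.bwd (nat_lit 2) (Steps.fwd (nat_lit 8192) (Steps.fwd (nat_lit 24576) (Steps.fwd (nat_lit 8192) (Steps.fwd (nat_lit 16384) (Steps.bwd (nat_lit 1) (Steps.bwd (nat_lit 3) (Steps.fwd (nat_lit 8192) Steps.nil)))))))))))) (nat_lit 195) (nat_lit 11),
  Rule.mk (nat_lit 19) (nat_lit 179) (Steps.fwd (nat_lit 16384) (Steps.fwd (nat_lit 32768) (Steps.fwd (nat_lit 8192) (Steps.fwd (nat_lit 24576) (Steps.fwd (nat_lit 8192) (Steps.bwd (nat_lit 2) (Steps.fwd (nat_lit 8192) (Steps.fwd (nat_lit 16384) (Steps.bwd (nat_lit 1) (Steps.bwd (nat_lit 3) (Steps.bwd (nat_lit 1) Steps.nil))))))))))) (nat_lit 195) (nat_lit 0),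
  Rule.mk (nat_lit 18) (nat_lit 179) (Steps.fwd (nat_lit 8192) (Steps.fwd (nat_lit 16384) (Steps.fwd (nat_lit 32768) (Steps.fwd (nat_lit 8192) (Steps.fwd (nat_lit 24576) (Steps.fwd (nat_lit 8192) (Steps.bwd (nat_lit 2) (Steps.bwd (nat_lit 1) (Steps.fwd (nat_lit 16384) (Steps.bwd (nat_lit 1) (Steps.bwd (nat_lit 3) Steps.nil))))))))))) (nat_lit 192) (nat_lit 1),
  Rule.mk (nat_lit 7) (nat_lit 104) (Steps.bwd (nat_lit 3) (Steps.bwd (nat_lit 14) (Steps.bwd (nat_lit 13) (Steps.bwd (nat_lit 7) (Steps.bwd (nat_lit 5) (Steps.bwd (nat_lit 2) Steps.nil)))))) (nat_lit 175) (nat_lit 6),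
  Rule.mk (nat_lit 16) (nat_lit 179) (Steps.bwd (nat_lit 1) (Steps.fwd (nat_lit 16384) (Steps.fwd (nat_lit 8192) (Steps.fwd (nat_lit 16384) (Steps.fwd (nat_lit 8192) (Steps.bwd (nat_lit 3) (Steps.fwd (nat_lit 8192) (Steps.bwd (nat_lit 2) (Steps.bwd (nat_lit 4) (Steps.fwd (nat_lit 8192) (Steps.bwd (nat_lit 2) Steps.nil))))))))))) (nat_lit 190) (nat_lit 1),
  Rule.mk (nat_lit 15) (nat_lit 179) (Steps.bwd (nat_lit 3) (Steps.fwd (nat_lit 8192) (Steps.bwd (nat_lit 4) (Steps.bwd (nat_lit 3) (Steps.fwd (nat_lit 8192) (Steps.bwd (nat_lit 2) (Steps.bwd (nat_lit 1) (Steps.fwd (nat_lit 24576) (Steps.bwd (nat_lit 1) (Steps.bwd (nat_lit 2) (Steps.fwd (nat_lit 8192) Steps.nil))))))))))) (nat_lit 191) (nat_lit 0),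
  Rule.mk (nat_lit 18) (nat_lit 179) (Steps.fwd (nat_lit 8192) (Steps.fwd (nat_lit 16384) (Steps.fwd (nat_lit 32768) (Steps.bwd (nat_lit 1) (Steps.fwd (nat_lit 24576) (Steps.bwd (nat_lit 1) (Steps.fwd (nat_lit 24576) (Steps.fwd (nat_lit 8192) (Steps.fwd (nat_lit 16384) (Steps.fwd (nat_lit 8192) (Steps.bwd (nat_lit 3) Steps.nil))))))))))) (nat_lit 192) (nat_lit 1),
  Rule.mk (nat_lit 19) (nat_lit 179) (Steps.fwd (nat_lit 16384) (Steps.fwd (nat_lit 32768) (Steps.bwd (nat_lit 1) (Steps.fwd (nat_lit 24576) (Steps.bwd (nat_lit 1) (Steps.fwd (nat_lit 24576) (Steps.fwd (nat_lit 8192) (Steps.fwd (nat_lit 16384) (Steps.fwd (nat_lit 8192) (Steps.bwd (nat_lit 3) (Steps.fwd (nat_lit 8192) Steps.nil))))))))))) (nat_lit 195) (nat_lit 0),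
  Rule.mk (nat_lit 3) (nat_lit 179) (Steps.bwd (nat_lit 18) (Steps.fwd (nat_lit 8192) (Steps.fwd (nat_lit 16384) (Steps.fwd (nat_lit 32768) (Steps.bwd (nat_lit 1) (Steps.fwd (nat_lit 24576) (Steps.fwd (nat_lit 8192) (Steps.bwd (nat_lit 2) (Steps.bwd (nat_lit 1) (Steps.fwd (nat_lit 16384) (Steps.bwd (nat_lit 1) Steps.nil))))))))))) (nat_lit 192) (nat_lit 0),
  Rule.mk (nat_lit 19) (nat_lit 179) (Steps.bwd (nat_lit 3) (Steps.fwd (nat_lit 32768) (Steps.fwd (nat_lit 8192) (Steps.bwd (nat_lit 2) (Steps.fwd (nat_lit 8192) (Steps.bwd (nat_lit 2) (Steps.bwd (nat_lit 1) (Steps.bwd (nat_lit 3) (Steps.bwd (nat_lit 1) (Steps.fwd (nat_lit 16384) (Steps.bwd (nat_lit 1) Steps.nil))))))))))) (nat_lit 195) (nat_lit 0),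
  Rule.mk (nat_lit 1) (nat_lit 179) (Steps.bwd (nat_lit 19) (Steps.fwd (nat_lit 16384) (Steps.fwd (nat_lit 32768) (Steps.bwd (nat_lit 1) (Steps.fwd (nat_lit 24576) (Steps.fwd (nat_lit 8192) (Steps.bwd (nat_lit 2) (Steps.bwd (nat_lit 1) (Steps.fwd (nat_lit 16384) (Steps.bwd (nat_lit 1) (Steps.bwd (nat_lit 3) Steps.nil))))))))))) (nat_lit 195) (nat_lit 11),
  Rule.mk (nat_lit 9) (nat_lit 104) (Steps.fwd (nat_lit 65536) (Steps.bwd (nat_lit 5) (Steps.fwd (nat_lit 32768) (Steps.fwd (nat_lit 24576) (Steps.bwd (nat_lit 12) (Steps.bwd (nat_lit 3) Steps.nil)))))) (nat_lit 185) (nat_lit 1),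
  Rule.mk (nat_lit 6) (nat_lit 134) (Steps.bwd (nat_lit 10) (Steps.bwd (nat_lit 11) (Steps.bwd (nat_lit 12) (Steps.bwd (nat_lit 13) (Steps.bwd (nat_lit 14) (Steps.fwd (nat_lit 24576) (Steps.bwd (nat_lit 13) (Steps.bwd (nat_lit 3) Steps.nil)))))))) (nat_lit 186) (nat_lit 4),
  Rule.mk (nat_lit 14) (nat_lit 134) (Steps.fwd (nat_lit 106496) (Steps.bwd (nat_lit 12) (Steps.fwd (nat_lit 90112) (Steps.bwd (nat_lit 10) (Steps.fwd (nat_lit 49152) (Steps.fwd (nat_lit 24576) (Steps.bwd (nat_lit 13) (Steps.bwd (nat_lit 3) Steps.nil)))))))) (nat_lit 187) (nat_lit 1),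
  Rule.mk (nat_lit 0) (nat_lit 119) (Steps.fwd (nat_lit 8192) (Steps.bwd (nat_lit 14) (Steps.fwd (nat_lit 106496) (Steps.fwd (nat_lit 57344) (Steps.fwd (nat_lit 40960) (Steps.fwd (nat_lit 8192) (Steps.bwd (nat_lit 8) Steps.nil))))))) (nat_lit 155) (nat_lit 6),
  Rule.mk (nat_lit 1) (nat_lit 179) (Steps.bwd (nat_lit 17) (Steps.bwd (nat_lit 2) (Steps.bwd (nat_lit 1) (Steps.bwd (nat_lit 2) (Steps.fwd (nat_lit 8192) (Steps.bwd (nat_lit 3) (Steps.bwd (nat_lit 1) (Steps.bwd (nat_lit 3) (Steps.fwd (nat_lit 8192) (Steps.fwd (nat_lit 32768) (Steps.bwd (nat_lit 2) Steps.nil))))))))))) (nat_lit 193) (nat_lit 11),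
  Rule.mk (nat_lit 5) (nat_lit 104) (Steps.bwd (nat_lit 7) (Steps.bwd (nat_lit 13) (Steps.fwd (nat_lit 114688) (Steps.bwd (nat_lit 1) (Steps.bwd (nat_lit 8) (Steps.bwd (nat_lit 1) Steps.nil)))))) (nat_lit 154) (nat_lit 4),
  Rule.mk (nat_lit 6) (nat_lit 104) (Steps.fwd (nat_lit 90112) (Steps.fwd (nat_lit 98304) (Steps.bwd (nat_lit 14) (Steps.fwd (nat_lit 8192) (Steps.fwd (nat_lit 90112) (Steps.bwd (nat_lit 1) Steps.nil)))))) (nat_lit 160) (nat_lit 4),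
  Rule.mk (nat_lit 11) (nat_lit 104) (Steps.fwd (nat_lit 8192) (Steps.fwd (nat_lit 114688) (Steps.fwd (nat_lit 98304) (Steps.fwd (nat_lit 90112) (Steps.fwd (nat_lit 49152) (Steps.bwd (nat_lit 1) Steps.nil)))))) (nat_lit 161) (nat_lit 6),
  Rule.mk (nat_lit 10) (nat_lit 134) (Steps.bwd (nat_lit 11) (Steps.fwd (nat_lit 98304) (Steps.bwd (nat_lit 13) (Steps.bwd (nat_lit 14) (Steps.fwd (nat_lit 8192) (Steps.fwd (nat_lit 114688) (Steps.fwd (nat_lit 8192) (Steps.bwd (nat_lit 6) Steps.nil)))))))) (nat_lit 166) (nat_lit 5),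
  Rule.mk (nat_lit 16) (nat_lit 179) (Steps.bwd (nat_lit 1) (Steps.bwd (nat_lit 3) (Steps.fwd (nat_lit 8192) (Steps.fwd (nat_lit 16384) (Steps.bwd (nat_lit 1) (Steps.fwd (nat_lit 16384) (Steps.fwd (nat_lit 8192) (Steps.fwd (nat_lit 24576) (Steps.fwd (nat_lit 32768) (Steps.fwd (nat_lit 8192) (Steps.fwd (nat_lit 24576) Steps.nil))))))))))) (nat_lit 190) (nat_lit 1),
  Rule.mk (nat_lit 18) (nat_lit 179) (Steps.fwd (nat_lit 8192) (Steps.fwd (nat_lit 16384) (Steps.fwd (nat_lit 32768) (Steps.bwd (nat_lit 1) (Steps.bwd (nat_lit 2) (Steps.bwd (nat_lit 1) (Steps.fwd (nat_lit 24576) (Steps.fwd (nat_lit 8192) (Steps.bwd (nat_lit 3) (Steps.bwd (nat_lit 1) (Steps.bwd (nat_lit 3) Steps.nil))))))))))) (nat_lit 192) (nat_lit 1),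
  Rule.mk (nat_lit 19) (nat_lit 179) (Steps.fwd (nat_lit 16384) (Steps.fwd (nat_lit 32768) (Steps.bwd (nat_lit 1) (Steps.bwd (nat_lit 2) (Steps.bwd (nat_lit 1) (Steps.fwd (nat_lit 24576) (Steps.fwd (nat_lit 8192) (Steps.bwd (nat_lit 3) (Steps.bwd (nat_lit 1) (Steps.bwd (nat_lit 3) (Steps.fwd (nat_lit 8192) Steps.nil))))))))))) (nat_lit 195) (nat_lit 0),
  Rule.mk (nat_lit 1) (nat_lit 179) (Steps.bwd (nat_lit 19) (Steps.fwd (nat_lit 16384) (Steps.bwd (nat_lit 4) (Steps.fwd (nat_lit 8192) (Steps.bwd (nat_lit 2) (Steps.fwd (nat_lit 8192) (Steps.bwd (nat_lit 2) (Steps.bwd (nat_lit 1) (Steps.bwd (nat_lit 3) (Steps.fwd (nat_lit 8192) (Steps.fwd (nat_lit 16384) Steps.nil))))))))))) (nat_lit 195) (nat_lit 11),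
  Rule.mk (nat_lit 8) (nat_lit 104) (Steps.fwd (nat_lit 8192) (Steps.bwd (nat_lit 5) (Steps.fwd (nat_lit 57344) (Steps.bwd (nat_lit 13) (Steps.fwd (nat_lit 114688) (Steps.bwd (nat_lit 1) Steps.nil)))))) (nat_lit 154) (nat_lit 2),
  Rule.mk (nat_lit 14) (nat_lit 104) (Steps.bwd (nat_lit 12) (Steps.fwd (nat_lit 90112) (Steps.bwd (nat_lit 6) (Steps.fwd (nat_lit 8192) (Steps.fwd (nat_lit 90112) (Steps.bwd (nat_lit 1) Steps.nil)))))) (nat_lit 161) (nat_lit 1),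
  Rule.mk (nat_lit 10) (nat_lit 134) (Steps.fwd (nat_lit 8192) (Steps.bwd (nat_lit 4) (Steps.bwd (nat_lit 5) (Steps.bwd (nat_lit 8) (Steps.bwd (nat_lit 9) (Steps.fwd (nat_lit 90112) (Steps.fwd (nat_lit 114688) (Steps.bwd (nat_lit 1) Steps.nil)))))))) (nat_lit 158) (nat_lit 2),
  Rule.mk (nat_lit 6) (nat_lit 134) (Steps.fwd (nat_lit 81920) (Steps.bwd (nat_lit 11) (Steps.fwd (nat_lit 98304) (Steps.bwd (nat_lit 13) (Steps.bwd (nat_lit 14) (Steps.bwd (nat_lit 1) (Steps.fwd (nat_lit 114688) (Steps.bwd (nat_lit 1) Steps.nil)))))))) (nat_lit 166) (nat_lit 4),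
  Rule.mk (nat_lit 15) (nat_lit 179) (Steps.fwd (nat_lit 16384) (Steps.bwd (nat_lit 1) (Steps.bwd (nat_lit 4) (Steps.fwd (nat_lit 16384) (Steps.fwd (nat_lit 8192) (Steps.bwd (nat_lit 2) (Steps.fwd (nat_lit 8192) (Steps.bwd (nat_lit 2) (Steps.fwd (nat_lit 8192) (Steps.fwd (nat_lit 24576) (Steps.fwd (nat_lit 8192) Steps.nil))))))))))) (nat_lit 191) (nat_lit 0),
  Rule.mk (nat_lit 17) (nat_lit 179) (Steps.bwd (nat_lit 2) (Steps.fwd (nat_lit 8192) (Steps.bwd (nat_lit 2) (Steps.bwd (nat_lit 1) (Steps.bwd (nat_lit 3) (Steps.fwd (nat_lit 8192) (Steps.fwd (nat_lit 16384) (Steps.bwd (nat_lit 1) (Steps.bwd (nat_lit 4) (Steps.fwd (nat_lit 24576) (Steps.fwd (nat_lit 8192) Steps.nil))))))))))) (nat_lit 193) (nat_lit 0),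
  Rule.mk (nat_lit 0) (nat_lit 194) (Steps.bwd (nat_lit 20) (Steps.fwd (nat_lit 8192) (Steps.bwd (nat_lit 2) (Steps.fwd (nat_lit 8192) (Steps.bwd (nat_lit 2) (Steps.bwd (nat_lit 1) (Steps.bwd (nat_lit 3) (Steps.fwd (nat_lit 8192) (Steps.fwd (nat_lit 16384) (Steps.bwd (nat_lit 1) (Steps.bwd (nat_lit 4) (Steps.fwd (nat_lit 24576) Steps.nil)))))))))))) (nat_lit 194) (nat_lit 0),
  Rule.mk (nat_lit 3) (nat_lit 104) (Steps.fwd (nat_lit 40960) (Steps.bwd (nat_lit 7) (Steps.fwd (nat_lit 106496) (Steps.fwd (nat_lit 114688) (Steps.fwd (nat_lit 24576) (Steps.bwd (nat_lit 7) Steps.nil)))))) (nat_lit 174) (nat_lit 3),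
  Rule.mk (nat_lit 1) (nat_lit 179) (Steps.bwd (nat_lit 17) (Steps.fwd (nat_lit 24576) (Steps.bwd (nat_lit 1) (Steps.fwd (nat_lit 24576) (Steps.fwd (nat_lit 8192) (Steps.fwd (nat_lit 16384) (Steps.bwd (nat_lit 1) (Steps.bwd (nat_lit 3) (Steps.fwd (nat_lit 8192) (Steps.bwd (nat_lit 4) (Steps.fwd (nat_lit 24576) Steps.nil))))))))))) (nat_lit 193) (nat_lit 11),
  Rule.mk (nat_lit 20) (nat_lit 179) (Steps.bwd (nat_lit 1) (Steps.fwd (nat_lit 24576) (Steps.bwd (nat_lit 1) (Steps.fwd (nat_lit 24576) (Steps.fwd (nat_lit 8192) (Steps.fwd (nat_lit 16384) (Steps.bwd (nat_lit 1) (Steps.bwd (nat_lit 3) (Steps.fwd (nat_lit 8192) (Steps.bwd (nat_lit 4) (Steps.fwd (nat_lit 24576) Steps.nil))))))))))) (nat_lit 194) (nat_lit 1),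
  Rule.mk (nat_lit 19) (nat_lit 179) (Steps.bwd (nat_lit 3) (Steps.fwd (nat_lit 32768) (Steps.fwd (nat_lit 8192) (Steps.bwd (nat_lit 2) (Steps.fwd (nat_lit 8192) (Steps.bwd (nat_lit 2) (Steps.fwd (nat_lit 8192) (Steps.fwd (nat_lit 16384) (Steps.bwd (nat_lit 1) (Steps.fwd (nat_lit 16384) (Steps.fwd (nat_lit 8192) Steps.nil))))))))))) (nat_lit 195) (nat_lit 0),
  Rule.mk (nat_lit 11) (nat_lit 104) (Steps.fwd (nat_lit 8192) (Steps.fwd (nat_lit 49152) (Steps.bwd (nat_lit 11) (Steps.bwd (nat_lit 12) (Steps.bwd (nat_lit 14) (Steps.bwd (nat_lit 1) Steps.nil)))))) (nat_lit 160) (nat_lit 2),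
  Rule.mk (nat_lit 6) (nat_lit 134) (Steps.bwd (nat_lit 10) (Steps.fwd (nat_lit 90112) (Steps.fwd (nat_lit 98304) (Steps.bwd (nat_lit 13) (Steps.bwd (nat_lit 14) (Steps.fwd (nat_lit 8192) (Steps.bwd (nat_lit 14) (Steps.fwd (nat_lit 8192) Steps.nil)))))))) (nat_lit 166) (nat_lit 4),
  Rule.mk (nat_lit 3) (nat_lit 134) (Steps.fwd (nat_lit 49152) (Steps.bwd (nat_lit 10) (Steps.bwd (nat_lit 11) (Steps.fwd (nat_lit 98304) (Steps.bwd (nat_lit 13) (Steps.fwd (nat_lit 114688) (Steps.fwd (nat_lit 24576) (Steps.fwd (nat_lit 106496) Steps.nil)))))))) (nat_lit 186) (nat_lit 3),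
  Rule.mk (nat_lit 16) (nat_lit 179) (Steps.bwd (nat_lit 1) (Steps.fwd (nat_lit 16384) (Steps.fwd (nat_lit 8192) (Steps.bwd (nat_lit 3) (Steps.fwd (nat_lit 8192) (Steps.bwd (nat_lit 3) (Steps.fwd (nat_lit 8192) (Steps.bwd (nat_lit 2) (Steps.bwd (nat_lit 4) (Steps.bwd (nat_lit 1) (Steps.fwd (nat_lit 24576) Steps.nil))))))))))) (nat_lit 190) (nat_lit 1),
  Rule.mk (nat_lit 16) (nat_lit 179) (Steps.fwd (nat_lit 8192) (Steps.bwd (nat_lit 3) (Steps.fwd (nat_lit 8192) (Steps.bwd (nat_lit 3) (Steps.fwd (nat_lit 8192) (Steps.bwd (nat_lit 3) (Steps.bwd (nat_lit 1) (Steps.bwd (nat_lit 2) (Steps.fwd (nat_lit 32768) (Steps.bwd (nat_lit 1) (Steps.fwd (nat_lit 24576) Steps.nil))))))))))) (nat_lit 190) (nat_lit 1),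
  Rule.mk (nat_lit 15) (nat_lit 179) (Steps.bwd (nat_lit 3) (Steps.fwd (nat_lit 8192) (Steps.bwd (nat_lit 4) (Steps.bwd (nat_lit 3) (Steps.bwd (nat_lit 1) (Steps.fwd (nat_lit 24576) (Steps.fwd (nat_lit 8192) (Steps.bwd (nat_lit 2) (Steps.bwd (nat_lit 1) (Steps.fwd (nat_lit 24576) (Steps.fwd (nat_lit 8192) Steps.nil))))))))))) (nat_lit 191) (nat_lit 0),
  Rule.mk (nat_lit 18) (nat_lit 179) (Steps.fwd (nat_lit 8192) (Steps.fwd (nat_lit 16384) (Steps.bwd (nat_lit 4) (Steps.bwd (nat_lit 1) (Steps.bwd (nat_lit 2) (Steps.fwd (nat_lit 8192) (Steps.bwd (nat_lit 2) (Steps.bwd (nat_lit 1) (Steps.fwd (nat_lit 16384) (Steps.fwd (nat_lit 8192) (Steps.bwd (nat_lit 3) Steps.nil))))))))))) (nat_lit 192) (nat_lit 1),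
  Rule.mk (nat_lit 2) (nat_lit 179) (Steps.bwd (nat_lit 20) (Steps.bwd (nat_lit 1) (Steps.bwd (nat_lit 2) (Steps.fwd (nat_lit 8192) (Steps.bwd (nat_lit 2) (Steps.bwd (nat_lit 1) (Steps.fwd (nat_lit 16384) (Steps.fwd (nat_lit 8192) (Steps.bwd (nat_lit 3) (Steps.fwd (nat_lit 8192) (Steps.bwd (nat_lit 4) Steps.nil))))))))))) (nat_lit 194) (nat_lit 0),
  Rule.mk (nat_lit 19) (nat_lit 179) (Steps.fwd (nat_lit 16384) (Steps.bwd (nat_lit 4) (Steps.bwd (nat_lit 1) (Steps.bwd (nat_lit 2) (Steps.fwd (nat_lit 8192) (Steps.bwd (nat_lit 2) (Steps.bwd (nat_lit 1) (Steps.fwd (nat_lit 16384) (Steps.fwd (nat_lit 8192) (Steps.bwd (nat_lit 3) (Steps.fwd (nat_lit 8192) Steps.nil))))))))))) (nat_lit 195) (nat_lit 0),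
  Rule.mk (nat_lit 10) (nat_lit 104) (Steps.fwd (nat_lit 16384) (Steps.bwd (nat_lit 6) (Steps.bwd (nat_lit 11) (Steps.bwd (nat_lit 12) (Steps.bwd (nat_lit 14) (Steps.bwd (nat_lit 2) Steps.nil)))))) (nat_lit 180) (nat_lit 2),
  Rule.mk (nat_lit 9) (nat_lit 134) (Steps.fwd (nat_lit 16384) (Steps.bwd (nat_lit 14) (Steps.bwd (nat_lit 11) (Steps.bwd (nat_lit 9) (Steps.bwd (nat_lit 8) (Steps.fwd (nat_lit 40960) (Steps.bwd (nat_lit 4) (Steps.bwd (nat_lit 2) Steps.nil)))))))) (nat_lit 179) (nat_lit 8),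
  Rule.mk (nat_lit 0) (nat_lit 194) (Steps.bwd (nat_lit 16) (Steps.fwd (nat_lit 8192) (Steps.bwd (nat_lit 3) (Steps.fwd (nat_lit 8192) (Steps.bwd (nat_lit 3) (Steps.fwd (nat_lit 8192) (Steps.fwd (nat_lit 16384) (Steps.fwd (nat_lit 8192) (Steps.bwd (nat_lit 2) (Steps.bwd (nat_lit 4) (Steps.bwd (nat_lit 1) (Steps.bwd (nat_lit 2) Steps.nil)))))))))))) (nat_lit 190) (nat_lit 0)]
noncomputable def R_58 : List (Rule) := [Rule.mk (nat_lit 15) (nat_lit 179) (Steps.bwd (nat_lit 3) (Steps.fwd (nat_lit 8192) (Steps.bwd (nat_lit 4) (Steps.fwd (nat_lit 16384) (Steps.bwd (nat_lit 1) (Steps.fwd (nat_lit 24576) (Steps.bwd (nat_lit 1) (Steps.fwd (nat_lit 24576) (Steps.bwd (nat_lit 1) (Steps.bwd (nat_lit 2) (Steps.bwd (nat_lit 1) Steps.nil))))))))))) (nat_lit 191) (nat_lit 0),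
  Rule.mk (nat_lit 0) (nat_lit 194) (Steps.bwd (nat_lit 15) (Steps.fwd (nat_lit 16384) (Steps.fwd (nat_lit 8192) (Steps.fwd (nat_lit 32768) (Steps.bwd (nat_lit 3) (Steps.bwd (nat_lit 1) (Steps.fwd (nat_lit 24576) (Steps.bwd (nat_lit 1) (Steps.bwd (nat_lit 2) (Steps.bwd (nat_lit 1) (Steps.fwd (nat_lit 24576) (Steps.fwd (nat_lit 8192) Steps.nil)))))))))))) (nat_lit 191) (nat_lit 11),
  Rule.mk (nat_lit 0) (nat_lit 194) (Steps.bwd (nat_lit 15) (Steps.fwd (nat_lit 16384) (Steps.bwd (nat_lit 1) (Steps.bwd (nat_lit 4) (Steps.fwd (nat_lit 16384) (Steps.bwd (nat_lit 1) (Steps.bwd (nat_lit 2) (Steps.bwd (nat_lit 1) (Steps.fwd (nat_lit 24576) (Steps.fwd (nat_lit 8192) (Steps.bwd (nat_lit 2) (Steps.bwd (nat_lit 1) Steps.nil)))))))))))) (nat_lit 191) (nat_lit 11),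
  Rule.mk (nat_lit 15) (nat_lit 179) (Steps.fwd (nat_lit 16384) (Steps.bwd (nat_lit 1) (Steps.bwd (nat_lit 4) (Steps.bwd (nat_lit 3) (Steps.bwd (nat_lit 1) (Steps.fwd (nat_lit 24576) (Steps.bwd (nat_lit 1) (Steps.bwd (nat_lit 2) (Steps.fwd (nat_lit 8192) (Steps.bwd (nat_lit 2) (Steps.fwd (nat_lit 8192) Steps.nil))))))))))) (nat_lit 191) (nat_lit 0),
  Rule.mk (nat_lit 18) (nat_lit 179) (Steps.fwd (nat_lit 8192) (Steps.bwd (nat_lit 3) (Steps.bwd (nat_lit 4) (Steps.bwd (nat_lit 1) (Steps.fwd (nat_lit 24576) (Steps.bwd (nat_lit 1) (Steps.bwd (nat_lit 2) (Steps.bwd (nat_lit 1) (Steps.fwd (nat_lit 16384) (Steps.bwd (nat_lit 1) (Steps.fwd (nat_lit 16384) Steps.nil))))))))))) (nat_lit 192) (nat_lit 1),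
  Rule.mk (nat_lit 18) (nat_lit 179) (Steps.bwd (nat_lit 1) (Steps.bwd (nat_lit 3) (Steps.bwd (nat_lit 4) (Steps.bwd (nat_lit 1) (Steps.bwd (nat_lit 2) (Steps.bwd (nat_lit 1) (Steps.fwd (nat_lit 24576) (Steps.fwd (nat_lit 8192) (Steps.fwd (nat_lit 16384) (Steps.fwd (nat_lit 8192) (Steps.fwd (nat_lit 16384) Steps.nil))))))))))) (nat_lit 192) (nat_lit 1),
  Rule.mk (nat_lit 18) (nat_lit 179) (Steps.bwd (nat_lit 1) (Steps.fwd (nat_lit 16384) (Steps.fwd (nat_lit 32768) (Steps.bwd (nat_lit 1) (Steps.fwd (nat_lit 24576) (Steps.bwd (nat_lit 1) (Steps.bwd (nat_lit 2) (Steps.fwd (nat_lit 8192) (Steps.fwd (nat_lit 16384) (Steps.bwd (nat_lit 1) (Steps.fwd (nat_lit 16384) Steps.nil))))))))))) (nat_lit 192) (nat_lit 1),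
  Rule.mk (nat_lit 17) (nat_lit 179) (Steps.bwd (nat_lit 2) (Steps.fwd (nat_lit 8192) (Steps.fwd (nat_lit 24576) (Steps.fwd (nat_lit 8192) (Steps.bwd (nat_lit 3) (Steps.fwd (nat_lit 8192) (Steps.fwd (nat_lit 16384) (Steps.fwd (nat_lit 8192) (Steps.fwd (nat_lit 32768) (Steps.fwd (nat_lit 24576) (Steps.bwd (nat_lit 1) Steps.nil))))))))))) (nat_lit 193) (nat_lit 0),
  Rule.mk (nat_lit 17) (nat_lit 179) (Steps.fwd (nat_lit 24576) (Steps.bwd (nat_lit 1) (Steps.bwd (nat_lit 2) (Steps.bwd (nat_lit 1) (Steps.fwd (nat_lit 16384) (Steps.bwd (nat_lit 1) (Steps.fwd (nat_lit 16384) (Steps.fwd (nat_lit 8192) (Steps.bwd (nat_lit 4) (Steps.fwd (nat_lit 24576) (Steps.bwd (nat_lit 1) Steps.nil))))))))))) (nat_lit 193) (nat_lit 0),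
  Rule.mk (nat_lit 20) (nat_lit 179) (Steps.bwd (nat_lit 1) (Steps.fwd (nat_lit 24576) (Steps.bwd (nat_lit 1) (Steps.bwd (nat_lit 2) (Steps.bwd (nat_lit 1) (Steps.fwd (nat_lit 16384) (Steps.bwd (nat_lit 1) (Steps.fwd (nat_lit 16384) (Steps.fwd (nat_lit 8192) (Steps.bwd (nat_lit 4) (Steps.fwd (nat_lit 24576) Steps.nil))))))))))) (nat_lit 194) (nat_lit 1),
  Rule.mk (nat_lit 19) (nat_lit 179) (Steps.bwd (nat_lit 3) (Steps.bwd (nat_lit 4) (Steps.bwd (nat_lit 1) (Steps.fwd (nat_lit 24576) (Steps.bwd (nat_lit 1) (Steps.bwd (nat_lit 2) (Steps.bwd (nat_lit 1) (Steps.fwd (nat_lit 16384) (Steps.bwd (nat_lit 1) (Steps.fwd (nat_lit 16384) (Steps.fwd (nat_lit 8192) Steps.nil))))))))))) (nat_lit 195) (nat_lit 0),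
  Rule.mk (nat_lit 19) (nat_lit 179) (Steps.bwd (nat_lit 3) (Steps.bwd (nat_lit 4) (Steps.bwd (nat_lit 1) (Steps.bwd (nat_lit 2) (Steps.bwd (nat_lit 1) (Steps.fwd (nat_lit 24576) (Steps.fwd (nat_lit 8192) (Steps.fwd (nat_lit 16384) (Steps.fwd (nat_lit 8192) (Steps.fwd (nat_lit 16384) (Steps.fwd (nat_lit 8192) Steps.nil))))))))))) (nat_lit 195) (nat_lit 0),
  Rule.mk (nat_lit 0) (nat_lit 194) (Steps.fwd (nat_lit 8192) (Steps.fwd (nat_lit 16384) (Steps.fwd (nat_lit 8192) (Steps.bwd (nat_lit 3) (Steps.bwd (nat_lit 1) (Steps.fwd (nat_lit 16384) (Steps.bwd (nat_lit 1) (Steps.fwd (nat_lit 24576) (Steps.bwd (nat_lit 4) (Steps.fwd (nat_lit 8192) (Steps.bwd (nat_lit 2) (Steps.fwd (nat_lit 122880) Steps.nil)))))))))))) (nat_lit 190) (nat_lit 1),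
  Rule.mk (nat_lit 18) (nat_lit 179) (Steps.bwd (nat_lit 1) (Steps.bwd (nat_lit 3) (Steps.fwd (nat_lit 32768) (Steps.fwd (nat_lit 8192) (Steps.fwd (nat_lit 24576) (Steps.bwd (nat_lit 1) (Steps.bwd (nat_lit 2) (Steps.bwd (nat_lit 1) (Steps.fwd (nat_lit 16384) (Steps.fwd (nat_lit 8192) (Steps.bwd (nat_lit 3) Steps.nil))))))))))) (nat_lit 192) (nat_lit 1),
  Rule.mk (nat_lit 17) (nat_lit 179) (Steps.fwd (nat_lit 24576) (Steps.bwd (nat_lit 1) (Steps.bwd (nat_lit 2) (Steps.bwd (nat_lit 1) (Steps.fwd (nat_lit 16384) (Steps.fwd (nat_lit 8192) (Steps.bwd (nat_lit 3) (Steps.bwd (nat_lit 1) (Steps.bwd (nat_lit 4) (Steps.fwd (nat_lit 24576) (Steps.fwd (nat_lit 8192) Steps.nil))))))))))) (nat_lit 193) (nat_lit 0),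
  Rule.mk (nat_lit 20) (nat_lit 179) (Steps.fwd (nat_lit 8192) (Steps.fwd (nat_lit 24576) (Steps.bwd (nat_lit 1) (Steps.bwd (nat_lit 2) (Steps.bwd (nat_lit 1) (Steps.fwd (nat_lit 16384) (Steps.fwd (nat_lit 8192) (Steps.bwd (nat_lit 3) (Steps.bwd (nat_lit 1) (Steps.bwd (nat_lit 4) (Steps.fwd (nat_lit 24576) Steps.nil))))))))))) (nat_lit 194) (nat_lit 1),
  Rule.mk (nat_lit 19) (nat_lit 179) (Steps.bwd (nat_lit 3) (Steps.fwd (nat_lit 32768) (Steps.fwd (nat_lit 8192) (Steps.fwd (nat_lit 24576) (Steps.bwd (nat_lit 1) (Steps.bwd (nat_lit 2) (Steps.bwd (nat_lit 1) (Steps.fwd (nat_lit 16384) (Steps.fwd (nat_lit 8192) (Steps.bwd (nat_lit 3) (Steps.bwd (nat_lit 1) Steps.nil))))))))))) (nat_lit 195) (nat_lit 0),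
  Rule.mk (nat_lit 15) (nat_lit 179) (Steps.fwd (nat_lit 16384) (Steps.fwd (nat_lit 8192) (Steps.bwd (nat_lit 4) (Steps.fwd (nat_lit 16384) (Steps.fwd (nat_lit 8192) (Steps.bwd (nat_lit 2) (Steps.bwd (nat_lit 1) (Steps.bwd (nat_lit 2) (Steps.bwd (nat_lit 1) (Steps.bwd (nat_lit 2) (Steps.fwd (nat_lit 8192) Steps.nil))))))))))) (nat_lit 191) (nat_lit 0),
  Rule.mk (nat_lit 1) (nat_lit 179) (Steps.bwd (nat_lit 15) (Steps.bwd (nat_lit 3) (Steps.fwd (nat_lit 8192) (Steps.bwd (nat_lit 4) (Steps.bwd (nat_lit 3) (Steps.bwd (nat_lit 1) (Steps.bwd (nat_lit 2) (Steps.fwd (nat_lit 8192) (Steps.fwd (nat_lit 24576) (Steps.bwd (nat_lit 1) (Steps.fwd (nat_lit 24576) Steps.nil))))))))))) (nat_lit 191) (nat_lit 11),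
  Rule.mk (nat_lit 18) (nat_lit 179) (Steps.fwd (nat_lit 8192) (Steps.bwd (nat_lit 3) (Steps.bwd (nat_lit 4) (Steps.bwd (nat_lit 1) (Steps.bwd (nat_lit 2) (Steps.bwd (nat_lit 1) (Steps.bwd (nat_lit 2) (Steps.fwd (nat_lit 8192) (Steps.bwd (nat_lit 3) (Steps.fwd (nat_lit 8192) (Steps.bwd (nat_lit 3) Steps.nil))))))))))) (nat_lit 192) (nat_lit 1),
  Rule.mk (nat_lit 17) (nat_lit 179) (Steps.bwd (nat_lit 2) (Steps.bwd (nat_lit 1) (Steps.bwd (nat_lit 2) (Steps.fwd (nat_lit 8192) (Steps.bwd (nat_lit 3) (Steps.fwd (nat_lit 8192) (Steps.bwd (nat_lit 3) (Steps.bwd (nat_lit 1) (Steps.bwd (nat_lit 4) (Steps.fwd (nat_lit 24576) (Steps.bwd (nat_lit 1) Steps.nil))))))))))) (nat_lit 193) (nat_lit 0),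
  Rule.mk (nat_lit 0) (nat_lit 194) (Steps.bwd (nat_lit 20) (Steps.bwd (nat_lit 1) (Steps.bwd (nat_lit 2) (Steps.bwd (nat_lit 1) (Steps.bwd (nat_lit 2) (Steps.fwd (nat_lit 8192) (Steps.bwd (nat_lit 3) (Steps.fwd (nat_lit 8192) (Steps.bwd (nat_lit 3) (Steps.bwd (nat_lit 1) (Steps.bwd (nat_lit 4) (Steps.fwd (nat_lit 24576) Steps.nil)))))))))))) (nat_lit 194) (nat_lit 0),
  Rule.mk (nat_lit 19) (nat_lit 179) (Steps.bwd (nat_lit 3) (Steps.bwd (nat_lit 4) (Steps.bwd (nat_lit 1) (Steps.bwd (nat_lit 2) (Steps.bwd (nat_lit 1) (Steps.bwd (nat_lit 2) (Steps.fwd (nat_lit 8192) (Steps.bwd (nat_lit 3) (Steps.fwd (nat_lit 8192) (Steps.bwd (nat_lit 3) (Steps.bwd (nat_lit 1) Steps.nil))))))))))) (nat_lit 195) (nat_lit 0),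
  Rule.mk (nat_lit 9) (nat_lit 89) (Steps.fwd (nat_lit 8192) (Steps.fwd (nat_lit 32768) (Steps.bwd (nat_lit 7) (Steps.bwd (nat_lit 14) (Steps.bwd (nat_lit 1) Steps.nil))))) (nat_lit 156) (nat_lit 2),
  Rule.mk (nat_lit 11) (nat_lit 104) (Steps.bwd (nat_lit 1) (Steps.bwd (nat_lit 6) (Steps.fwd (nat_lit 90112) (Steps.bwd (nat_lit 12) (Steps.bwd (nat_lit 14) (Steps.bwd (nat_lit 1) Steps.nil)))))) (nat_lit 160) (nat_lit 2),
  Rule.mk (nat_lit 10) (nat_lit 134) (Steps.bwd (nat_lit 1) (Steps.fwd (nat_lit 32768) (Steps.bwd (nat_lit 5) (Steps.fwd (nat_lit 65536) (Steps.fwd (nat_lit 73728) (Steps.fwd (nat_lit 90112) (Steps.bwd (nat_lit 14) (Steps.bwd (nat_lit 1) Steps.nil)))))))) (nat_lit 158) (nat_lit 2),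
  Rule.mk (nat_lit 12) (nat_lit 164) (Steps.bwd (nat_lit 1) (Steps.bwd (nat_lit 4) (Steps.fwd (nat_lit 40960) (Steps.fwd (nat_lit 65536) (Steps.bwd (nat_lit 9) (Steps.bwd (nat_lit 10) (Steps.fwd (nat_lit 90112) (Steps.bwd (nat_lit 12) (Steps.bwd (nat_lit 14) (Steps.bwd (nat_lit 1) Steps.nil)))))))))) (nat_lit 162) (nat_lit 2),
  Rule.mk (nat_lit 16) (nat_lit 179) (Steps.fwd (nat_lit 8192) (Steps.fwd (nat_lit 16384) (Steps.fwd (nat_lit 8192) (Steps.bwd (nat_lit 3) (Steps.fwd (nat_lit 8192) (Steps.fwd (nat_lit 16384) (Steps.fwd (nat_lit 8192) (Steps.bwd (nat_lit 2) (Steps.bwd (nat_lit 4) (Steps.bwd (nat_lit 1) (Steps.fwd (nat_lit 24576) Steps.nil))))))))))) (nat_lit 190) (nat_lit 1),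
  Rule.mk (nat_lit 15) (nat_lit 179) (Steps.fwd (nat_lit 16384) (Steps.fwd (nat_lit 8192) (Steps.bwd (nat_lit 4) (Steps.bwd (nat_lit 3) (Steps.fwd (nat_lit 8192) (Steps.bwd (nat_lit 2) (Steps.bwd (nat_lit 1) (Steps.fwd (nat_lit 24576) (Steps.fwd (nat_lit 8192) (Steps.fwd (nat_lit 24576) (Steps.bwd (nat_lit 1) Steps.nil))))))))))) (nat_lit 191) (nat_lit 0),
  Rule.mk (nat_lit 0) (nat_lit 194) (Steps.bwd (nat_lit 17) (Steps.fwd (nat_lit 24576) (Steps.bwd (nat_lit 1) (Steps.bwd (nat_lit 2) (Steps.fwd (nat_lit 8192) (Steps.bwd (nat_lit 3) (Steps.fwd (nat_lit 8192) (Steps.fwd (nat_lit 16384) (Steps.fwd (nat_lit 8192) (Steps.fwd (nat_lit 32768) (Steps.bwd (nat_lit 2) (Steps.bwd (nat_lit 1) Steps.nil)))))))))))) (nat_lit 193) (nat_lit 11),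
  Rule.mk (nat_lit 20) (nat_lit 179) (Steps.fwd (nat_lit 8192) (Steps.fwd (nat_lit 24576) (Steps.bwd (nat_lit 1) (Steps.bwd (nat_lit 2) (Steps.fwd (nat_lit 8192) (Steps.bwd (nat_lit 3) (Steps.fwd (nat_lit 8192) (Steps.fwd (nat_lit 16384) (Steps.fwd (nat_lit 8192) (Steps.fwd (nat_lit 32768) (Steps.bwd (nat_lit 2) Steps.nil))))))))))) (nat_lit 194) (nat_lit 1),
  Rule.mk (nat_lit 19) (nat_lit 179) (Steps.fwd (nat_lit 16384) (Steps.fwd (nat_lit 32768) (Steps.fwd (nat_lit 8192) (Steps.fwd (nat_lit 24576) (Steps.bwd (nat_lit 1) (Steps.bwd (nat_lit 2) (Steps.fwd (nat_lit 8192) (Steps.bwd (nat_lit 3) (Steps.fwd (nat_lit 8192) (Steps.fwd (nat_lit 16384) (Steps.fwd (nat_lit 8192) Steps.nil))))))))))) (nat_lit 195) (nat_lit 0),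
  Rule.mk (nat_lit 9) (nat_lit 134) (Steps.bwd (nat_lit 3) (Steps.bwd (nat_lit 4) (Steps.fwd (nat_lit 40960) (Steps.bwd (nat_lit 8) (Steps.bwd (nat_lit 9) (Steps.bwd (nat_lit 11) (Steps.bwd (nat_lit 14) (Steps.fwd (nat_lit 24576) Steps.nil)))))))) (nat_lit 178) (nat_lit 2),
  Rule.mk (nat_lit 11) (nat_lit 164) (Steps.bwd (nat_lit 3) (Steps.bwd (nat_lit 4) (Steps.fwd (nat_lit 40960) (Steps.bwd (nat_lit 8) (Steps.bwd (nat_lit 9) (Steps.fwd (nat_lit 81920) (Steps.fwd (nat_lit 90112) (Steps.fwd (nat_lit 98304) (Steps.bwd (nat_lit 14) (Steps.bwd (nat_lit 2) Steps.nil)))))))))) (nat_lit 182) (nat_lit 2),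
  Rule.mk (nat_lit 0) (nat_lit 194) (Steps.bwd (nat_lit 16) (Steps.fwd (nat_lit 8192) (Steps.bwd (nat_lit 3) (Steps.bwd (nat_lit 1) (Steps.bwd (nat_lit 3) (Steps.bwd (nat_lit 1) (Steps.bwd (nat_lit 3) (Steps.bwd (nat_lit 1) (Steps.bwd (nat_lit 2) (Steps.bwd (nat_lit 4) (Steps.fwd (nat_lit 8192) (Steps.fwd (nat_lit 24576) Steps.nil)))))))))))) (nat_lit 190) (nat_lit 0),
  Rule.mk (nat_lit 15) (nat_lit 179) (Steps.fwd (nat_lit 16384) (Steps.bwd (nat_lit 1) (Steps.bwd (nat_lit 4) (Steps.fwd (nat_lit 16384) (Steps.fwd (nat_lit 8192) (Steps.fwd (nat_lit 24576) (Steps.bwd (nat_lit 1) (Steps.fwd (nat_lit 24576) (Steps.bwd (nat_lit 1) (Steps.fwd (nat_lit 24576) (Steps.bwd (nat_lit 1) Steps.nil))))))))))) (nat_lit 191) (nat_lit 0),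
  Rule.mk (nat_lit 0) (nat_lit 194) (Steps.bwd (nat_lit 15) (Steps.fwd (nat_lit 16384) (Steps.fwd (nat_lit 8192) (Steps.bwd (nat_lit 4) (Steps.fwd (nat_lit 16384) (Steps.bwd (nat_lit 1) (Steps.fwd (nat_lit 24576) (Steps.bwd (nat_lit 1) (Steps.fwd (nat_lit 24576) (Steps.bwd (nat_lit 1) (Steps.bwd (nat_lit 2) (Steps.bwd (nat_lit 1) Steps.nil)))))))))))) (nat_lit 191) (nat_lit 11),
  Rule.mk (nat_lit 17) (nat_lit 179) (Steps.bwd (nat_lit 2) (Steps.fwd (nat_lit 8192) (Steps.fwd (nat_lit 24576) (Steps.bwd (nat_lit 1) (Steps.bwd (nat_lit 3) (Steps.bwd (nat_lit 1) (Steps.bwd (nat_lit 3) (Steps.bwd (nat_lit 1) (Steps.fwd (nat_lit 32768) (Steps.bwd (nat_lit 2) (Steps.fwd (nat_lit 8192) Steps.nil))))))))))) (nat_lit 193) (nat_lit 0),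
  Rule.mk (nat_lit 0) (nat_lit 194) (Steps.bwd (nat_lit 19) (Steps.fwd (nat_lit 16384) (Steps.bwd (nat_lit 4) (Steps.fwd (nat_lit 8192) (Steps.fwd (nat_lit 24576) (Steps.fwd (nat_lit 8192) (Steps.fwd (nat_lit 24576) (Steps.fwd (nat_lit 8192) (Steps.bwd (nat_lit 3) (Steps.bwd (nat_lit 1) (Steps.fwd (nat_lit 16384) (Steps.fwd (nat_lit 8192) Steps.nil)))))))))))) (nat_lit 195) (nat_lit 11),
  Rule.mk (nat_lit 19) (nat_lit 179) (Steps.fwd (nat_lit 16384) (Steps.fwd (nat_lit 32768) (Steps.bwd (nat_lit 1) (Steps.bwd (nat_lit 2) (Steps.fwd (nat_lit 8192) (Steps.fwd (nat_lit 24576) (Steps.bwd (nat_lit 1) (Steps.bwd (nat_lit 3) (Steps.bwd (nat_lit 1) (Steps.bwd (nat_lit 3) (Steps.bwd (nat_lit 1) Steps.nil))))))))))) (nat_lit 195) (nat_lit 0),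
  Rule.mk (nat_lit 18) (nat_lit 179) (Steps.bwd (nat_lit 1) (Steps.fwd (nat_lit 16384) (Steps.fwd (nat_lit 32768) (Steps.bwd (nat_lit 1) (Steps.bwd (nat_lit 2) (Steps.fwd (nat_lit 8192) (Steps.fwd (nat_lit 24576) (Steps.bwd (nat_lit 1) (Steps.bwd (nat_lit 3) (Steps.bwd (nat_lit 1) (Steps.bwd (nat_lit 3) Steps.nil))))))))))) (nat_lit 192) (nat_lit 1),
  Rule.mk (nat_lit 2) (nat_lit 164) (Steps.bwd (nat_lit 11) (Steps.bwd (nat_lit 3) (Steps.bwd (nat_lit 4) (Steps.fwd (nat_lit 40960) (Steps.fwd (nat_lit 65536) (Steps.bwd (nat_lit 9) (Steps.bwd (nat_lit 10) (Steps.bwd (nat_lit 11) (Steps.fwd (nat_lit 98304) (Steps.fwd (nat_lit 114688) Steps.nil)))))))))) (nat_lit 182) (nat_lit 1),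
  Rule.mk (nat_lit 14) (nat_lit 104) (Steps.bwd (nat_lit 1) (Steps.fwd (nat_lit 65536) (Steps.bwd (nat_lit 1) (Steps.bwd (nat_lit 5) (Steps.bwd (nat_lit 7) (Steps.bwd (nat_lit 13) Steps.nil)))))) (nat_lit 154) (nat_lit 0),
  Rule.mk (nat_lit 10) (nat_lit 134) (Steps.bwd (nat_lit 1) (Steps.bwd (nat_lit 4) (Steps.fwd (nat_lit 40960) (Steps.fwd (nat_lit 65536) (Steps.fwd (nat_lit 73728) (Steps.bwd (nat_lit 11) (Steps.fwd (nat_lit 114688) (Steps.fwd (nat_lit 8192) Steps.nil)))))))) (nat_lit 158) (nat_lit 2),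
  Rule.mk (nat_lit 7) (nat_lit 164) (Steps.bwd (nat_lit 1) (Steps.fwd (nat_lit 40960) (Steps.bwd (nat_lit 6) (Steps.bwd (nat_lit 9) (Steps.bwd (nat_lit 10) (Steps.fwd (nat_lit 90112) (Steps.bwd (nat_lit 12) (Steps.bwd (nat_lit 13) (Steps.fwd (nat_lit 114688) (Steps.fwd (nat_lit 8192) Steps.nil)))))))))) (nat_lit 152) (nat_lit 2),
  Rule.mk (nat_lit 0) (nat_lit 194) (Steps.bwd (nat_lit 16) (Steps.fwd (nat_lit 8192) (Steps.bwd (nat_lit 3) (Steps.fwd (nat_lit 8192) (Steps.bwd (nat_lit 3) (Steps.bwd (nat_lit 1) (Steps.bwd (nat_lit 3) (Steps.bwd (nat_lit 1) (Steps.bwd (nat_lit 2) (Steps.bwd (nat_lit 4) (Steps.bwd (nat_lit 1) (Steps.bwd (nat_lit 2) Steps.nil)))))))))))) (nat_lit 190) (nat_lit 0),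
  Rule.mk (nat_lit 0) (nat_lit 194) (Steps.bwd (nat_lit 18) (Steps.fwd (nat_lit 8192) (Steps.fwd (nat_lit 16384) (Steps.bwd (nat_lit 4) (Steps.bwd (nat_lit 1) (Steps.bwd (nat_lit 2) (Steps.fwd (nat_lit 8192) (Steps.bwd (nat_lit 2) (Steps.fwd (nat_lit 8192) (Steps.fwd (nat_lit 16384) (Steps.fwd (nat_lit 8192) (Steps.fwd (nat_lit 16384) Steps.nil)))))))))))) (nat_lit 192) (nat_lit 0),
  Rule.mk (nat_lit 18) (nat_lit 179) (Steps.bwd (nat_lit 1) (Steps.bwd (nat_lit 3) (Steps.bwd (nat_lit 4) (Steps.fwd (nat_lit 8192) (Steps.fwd (nat_lit 24576) (Steps.fwd (nat_lit 8192) (Steps.bwd (nat_lit 2) (Steps.bwd (nat_lit 1) (Steps.fwd (nat_lit 16384) (Steps.fwd (nat_lit 8192) (Steps.bwd (nat_lit 3) Steps.nil))))))))))) (nat_lit 192) (nat_lit 1),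
  Rule.mk (nat_lit 3) (nat_lit 104) (Steps.fwd (nat_lit 49152) (Steps.bwd (nat_lit 11) (Steps.bwd (nat_lit 12) (Steps.fwd (nat_lit 114688) (Steps.fwd (nat_lit 24576) (Steps.bwd (nat_lit 10) Steps.nil)))))) (nat_lit 180) (nat_lit 3),
  Rule.mk (nat_lit 0) (nat_lit 194) (Steps.bwd (nat_lit 16) (Steps.bwd (nat_lit 1) (Steps.fwd (nat_lit 16384) (Steps.bwd (nat_lit 1) (Steps.fwd (nat_lit 16384) (Steps.fwd (nat_lit 8192) (Steps.bwd (nat_lit 3) (Steps.fwd (nat_lit 8192) (Steps.bwd (nat_lit 2) (Steps.bwd (nat_lit 4) (Steps.fwd (nat_lit 8192) (Steps.bwd (nat_lit 2) Steps.nil)))))))))))) (nat_lit 190) (nat_lit 0),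
  Rule.mk (nat_lit 1) (nat_lit 179) (Steps.bwd (nat_lit 15) (Steps.bwd (nat_lit 3) (Steps.bwd (nat_lit 1) (Steps.bwd (nat_lit 4) (Steps.bwd (nat_lit 3) (Steps.fwd (nat_lit 8192) (Steps.bwd (nat_lit 2) (Steps.bwd (nat_lit 1) (Steps.bwd (nat_lit 2) (Steps.fwd (nat_lit 8192) (Steps.fwd (nat_lit 24576) Steps.nil))))))))))) (nat_lit 191) (nat_lit 11),
  Rule.mk (nat_lit 17) (nat_lit 179) (Steps.fwd (nat_lit 24576) (Steps.bwd (nat_lit 1) (Steps.bwd (nat_lit 2) (Steps.bwd (nat_lit 1) (Steps.fwd (nat_lit 16384) (Steps.fwd (nat_lit 8192) (Steps.bwd (nat_lit 3) (Steps.fwd (nat_lit 8192) (Steps.fwd (nat_lit 32768) (Steps.bwd (nat_lit 2) (Steps.fwd (nat_lit 8192) Steps.nil))))))))))) (nat_lit 193) (nat_lit 0),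
  Rule.mk (nat_lit 8) (nat_lit 104) (Steps.bwd (nat_lit 1) (Steps.bwd (nat_lit 5) (Steps.bwd (nat_lit 7) (Steps.fwd (nat_lit 106496) (Steps.bwd (nat_lit 14) (Steps.bwd (nat_lit 1) Steps.nil)))))) (nat_lit 154) (nat_lit 2),
  Rule.mk (nat_lit 13) (nat_lit 104) (Steps.fwd (nat_lit 8192) (Steps.bwd (nat_lit 9) (Steps.fwd (nat_lit 65536) (Steps.fwd (nat_lit 40960) (Steps.bwd (nat_lit 4) (Steps.bwd (nat_lit 1) Steps.nil)))))) (nat_lit 165) (nat_lit 6),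
  Rule.mk (nat_lit 10) (nat_lit 134) (Steps.fwd (nat_lit 8192) (Steps.fwd (nat_lit 32768) (Steps.bwd (nat_lit 5) (Steps.fwd (nat_lit 65536) (Steps.bwd (nat_lit 9) (Steps.bwd (nat_lit 11) (Steps.bwd (nat_lit 14) (Steps.bwd (nat_lit 1) Steps.nil)))))))) (nat_lit 158) (nat_lit 2),
  Rule.mk (nat_lit 15) (nat_lit 179) (Steps.fwd (nat_lit 16384) (Steps.bwd (nat_lit 1) (Steps.bwd (nat_lit 4) (Steps.fwd (nat_lit 16384) (Steps.bwd (nat_lit 1) (Steps.bwd (nat_lit 2) (Steps.fwd (nat_lit 8192) (Steps.fwd (nat_lit 24576) (Steps.fwd (nat_lit 8192) (Steps.bwd (nat_lit 2) (Steps.fwd (nat_lit 8192) Steps.nil))))))))))) (nat_lit 191) (nat_lit 0),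
  Rule.mk (nat_lit 17) (nat_lit 179) (Steps.fwd (nat_lit 24576) (Steps.fwd (nat_lit 8192) (Steps.bwd (nat_lit 2) (Steps.fwd (nat_lit 8192) (Steps.bwd (nat_lit 3) (Steps.bwd (nat_lit 1) (Steps.bwd (nat_lit 3) (Steps.fwd (nat_lit 8192) (Steps.fwd (nat_lit 32768) (Steps.fwd (nat_lit 24576) (Steps.bwd (nat_lit 1) Steps.nil))))))))))) (nat_lit 193) (nat_lit 0),
  Rule.mk (nat_lit 17) (nat_lit 179) (Steps.fwd (nat_lit 24576) (Steps.fwd (nat_lit 8192) (Steps.fwd (nat_lit 24576) (Steps.bwd (nat_lit 1) (Steps.fwd (nat_lit 16384) (Steps.fwd (nat_lit 8192) (Steps.fwd (nat_lit 16384) (Steps.bwd (nat_lit 1) (Steps.bwd (nat_lit 4) (Steps.bwd (nat_lit 2) (Steps.fwd (nat_lit 8192) Steps.nil))))))))))) (nat_lit 193) (nat_lit 0),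
  Rule.mk (nat_lit 3) (nat_lit 539) (Steps.bwd (nat_lit 1) (Steps.fwd (nat_lit 24576) (Steps.fwd (nat_lit 8192) (Steps.fwd (nat_lit 16384) (Steps.fwd (nat_lit 8192) (Steps.bwd (nat_lit 3) (Steps.bwd (nat_lit 1) (Steps.bwd (nat_lit 2) (Steps.fwd (nat_lit 8192) (Steps.bwd (nat_lit 3) (Steps.bwd (nat_lit 1) (Steps.fwd (nat_lit 16384) (Steps.fwd (nat_lit 8192) (Steps.bwd (nat_lit 2) (Steps.fwd (nat_lit 8192) (Steps.bwd (nat_lit 2) (Steps.fwd (nat_lit 8192) (Steps.fwd (nat_lit 16384) (Steps.bwd (nat_lit 1) (Steps.bwd (nat_lit 2) (Steps.fwd (nat_lit 8192) (Steps.bwd (nat_lit 2) (Steps.bwd (nat_lit 1) (Steps.fwd (nat_lit 16384) (Steps.fwd (nat_lit 8192) (Steps.bwd (nat_lit 2) (Steps.fwd (nat_lit 8192) (Steps.fwd (nat_lit 24576) (Steps.bwd (nat_lit 1) (Steps.fwd (nat_lit 16384) (Steps.fwd (nat_lit 8192) (Steps.fwd (nat_lit 24576) (Steps.fwd (nat_lit 8192) (Steps.fwd (nat_lit 16384) (Steps.bwd (nat_lit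 1) Steps.nil))))))))))))))))))))))))))))))))))) (nat_lit 12) (nat_lit 24),
  Rule.mk (nat_lit 15) (nat_lit 179) (Steps.fwd (nat_lit 16384) (Steps.bwd (nat_lit 1) (Steps.fwd (nat_lit 32768) (Steps.bwd (nat_lit 3) (Steps.fwd (nat_lit 8192) (Steps.fwd (nat_lit 24576) (Steps.fwd (nat_lit 8192) (Steps.bwd (nat_lit 2) (Steps.bwd (nat_lit 1) (Steps.bwd (nat_lit 2) (Steps.fwd (nat_lit 8192) Steps.nil))))))))))) (nat_lit 191) (nat_lit 0),
  Rule.mk (nat_lit 0) (nat_lit 194) (Steps.bwd (nat_lit 17) (Steps.bwd (nat_lit 2) (Steps.fwd (nat_lit 8192) (Steps.fwd (nat_lit 24576) (Steps.fwd (nat_lit 8192) (Steps.fwd (nat_lit 16384) (Steps.bwd (nat_lit 1) (Steps.bwd (nat_lit 3) (Steps.bwd (nat_lit 1) (Steps.fwd (nat_lit 32768) (Steps.bwd (nat_lit 2) (Steps.fwd (nat_lit 8192) Steps.nil)))))))))))) (nat_lit 193) (nat_lit 11),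
  Rule.mk (nat_lit 17) (nat_lit 179) (Steps.fwd (nat_lit 24576) (Steps.fwd (nat_lit 8192) (Steps.bwd (nat_lit 2) (Steps.bwd (nat_lit 1) (Steps.bwd (nat_lit 3) (Steps.bwd (nat_lit 1) (Steps.fwd (nat_lit 16384) (Steps.bwd (nat_lit 1) (Steps.bwd (nat_lit 4) (Steps.bwd (nat_lit 2) (Steps.fwd (nat_lit 8192) Steps.nil))))))))))) (nat_lit 193) (nat_lit 0),
  Rule.mk (nat_lit 20) (nat_lit 179) (Steps.fwd (nat_lit 8192) (Steps.fwd (nat_lit 24576) (Steps.fwd (nat_lit 8192) (Steps.bwd (nat_lit 2) (Steps.bwd (nat_lit 1) (Steps.bwd (nat_lit 3) (Steps.bwd (nat_lit 1) (Steps.fwd (nat_lit 16384) (Steps.bwd (nat_lit 1) (Steps.bwd (nat_lit 4) (Steps.bwd (nat_lit 2) Steps.nil))))))))))) (nat_lit 194) (nat_lit 1),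
  Rule.mk (nat_lit 19) (nat_lit 179) (Steps.fwd (nat_lit 16384) (Steps.bwd (nat_lit 4) (Steps.fwd (nat_lit 8192) (Steps.fwd (nat_lit 24576) (Steps.fwd (nat_lit 8192) (Steps.bwd (nat_lit 2) (Steps.bwd (nat_lit 1) (Steps.bwd (nat_lit 3) (Steps.bwd (nat_lit 1) (Steps.fwd (nat_lit 16384) (Steps.bwd (nat_lit 1) Steps.nil))))))))))) (nat_lit 195) (nat_lit 0)]
noncomputable def R_59 : List (Rule) := [Rule.mk (nat_lit 19) (nat_lit 179) (Steps.bwd (nat_lit 3) (Steps.bwd (nat_lit 4) (Steps.bwd (nat_lit 1) (Steps.bwd (nat_lit 2) (Steps.fwd (nat_lit 8192) (Steps.fwd (nat_lit 24576) (Steps.fwd (nat_lit 8192) (Steps.fwd (nat_lit 16384) (Steps.fwd (nat_lit 8192) (Steps.bwd (nat_lit 3) (Steps.bwd (nat_lit 1) Steps.nil))))))))))) (nat_lit 195) (nat_lit 0),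
  Rule.mk (nat_lit 3) (nat_lit 179) (Steps.bwd (nat_lit 1) (Steps.fwd (nat_lit 32768) (Steps.bwd (nat_lit 3) (Steps.fwd (nat_lit 8192) (Steps.bwd (nat_lit 2) (Steps.bwd (nat_lit 1) (Steps.bwd (nat_lit 2) (Steps.fwd (nat_lit 8192) (Steps.fwd (nat_lit 24576) (Steps.bwd (nat_lit 1) (Steps.fwd (nat_lit 131072) Steps.nil))))))))))) (nat_lit 191) (nat_lit 1),
  Rule.mk (nat_lit 15) (nat_lit 179) (Steps.bwd (nat_lit 3) (Steps.fwd (nat_lit 8192) (Steps.fwd (nat_lit 32768) (Steps.fwd (nat_lit 16384) (Steps.bwd (nat_lit 1) (Steps.fwd (nat_lit 24576) (Steps.fwd (nat_lit 8192) (Steps.fwd (nat_lit 24576) (Steps.bwd (nat_lit 1) (Steps.bwd (nat_lit 2) (Steps.bwd (nat_lit 1) Steps.nil))))))))))) (nat_lit 191) (nat_lit 0),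
  Rule.mk (nat_lit 7) (nat_lit 104) (Steps.bwd (nat_lit 3) (Steps.bwd (nat_lit 14) (Steps.fwd (nat_lit 106496) (Steps.bwd (nat_lit 7) (Steps.bwd (nat_lit 5) (Steps.fwd (nat_lit 24576) Steps.nil)))))) (nat_lit 175) (nat_lit 6),
  Rule.mk (nat_lit 9) (nat_lit 134) (Steps.bwd (nat_lit 3) (Steps.bwd (nat_lit 14) (Steps.bwd (nat_lit 11) (Steps.bwd (nat_lit 9) (Steps.fwd (nat_lit 65536) (Steps.bwd (nat_lit 5) (Steps.bwd (nat_lit 4) (Steps.bwd (nat_lit 2) Steps.nil)))))))) (nat_lit 179) (nat_lit 8),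
  Rule.mk (nat_lit 13) (nat_lit 134) (Steps.bwd (nat_lit 3) (Steps.bwd (nat_lit 14) (Steps.fwd (nat_lit 106496) (Steps.bwd (nat_lit 12) (Steps.bwd (nat_lit 11) (Steps.fwd (nat_lit 81920) (Steps.bwd (nat_lit 6) (Steps.bwd (nat_lit 2) Steps.nil)))))))) (nat_lit 187) (nat_lit 8),
  Rule.mk (nat_lit 5) (nat_lit 149) (Steps.bwd (nat_lit 3) (Steps.bwd (nat_lit 14) (Steps.fwd (nat_lit 106496) (Steps.bwd (nat_lit 12) (Steps.fwd (nat_lit 73728) (Steps.bwd (nat_lit 8) (Steps.fwd (nat_lit 40960) (Steps.bwd (nat_lit 4) (Steps.bwd (nat_lit 2) Steps.nil))))))))) (nat_lit 171) (nat_lit 9),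
  Rule.mk (nat_lit 11) (nat_lit 164) (Steps.bwd (nat_lit 3) (Steps.bwd (nat_lit 14) (Steps.bwd (nat_lit 12) (Steps.bwd (nat_lit 11) (Steps.fwd (nat_lit 81920) (Steps.bwd (nat_lit 9) (Steps.bwd (nat_lit 8) (Steps.bwd (nat_lit 5) (Steps.bwd (nat_lit 4) (Steps.bwd (nat_lit 2) Steps.nil)))))))))) (nat_lit 183) (nat_lit 10),
  Rule.mk (nat_lit 15) (nat_lit 179) (Steps.bwd (nat_lit 3) (Steps.bwd (nat_lit 1) (Steps.bwd (nat_lit 4) (Steps.bwd (nat_lit 3) (Steps.bwd (nat_lit 1) (Steps.fwd (nat_lit 24576) (Steps.bwd (nat_lit 1) (Steps.bwd (nat_lit 2) (Steps.fwd (nat_lit 8192) (Steps.fwd (nat_lit 24576) (Steps.fwd (nat_lit 8192) Steps.nil))))))))))) (nat_lit 191) (nat_lit 0),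
  Rule.mk (nat_lit 19) (nat_lit 179) (Steps.bwd (nat_lit 3) (Steps.fwd (nat_lit 32768) (Steps.fwd (nat_lit 8192) (Steps.fwd (nat_lit 24576) (Steps.bwd (nat_lit 1) (Steps.bwd (nat_lit 2) (Steps.fwd (nat_lit 8192) (Steps.bwd (nat_lit 3) (Steps.fwd (nat_lit 8192) (Steps.bwd (nat_lit 3) (Steps.fwd (nat_lit 8192) Steps.nil))))))))))) (nat_lit 195) (nat_lit 0),
  Rule.mk (nat_lit 0) (nat_lit 74) (Steps.bwd (nat_lit 1) (Steps.fwd (nat_lit 40960) (Steps.fwd (nat_lit 8192) (Steps.fwd (nat_lit 32768) Steps.nil)))) (nat_lit 146) (nat_lit 2),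
  Rule.mk (nat_lit 15) (nat_lit 179) (Steps.fwd (nat_lit 16384) (Steps.fwd (nat_lit 8192) (Steps.fwd (nat_lit 32768) (Steps.bwd (nat_lit 3) (Steps.fwd (nat_lit 8192) (Steps.fwd (nat_lit 24576) (Steps.bwd (nat_lit 1) (Steps.bwd (nat_lit 2) (Steps.fwd (nat_lit 8192) (Steps.fwd (nat_lit 24576) (Steps.bwd (nat_lit 1) Steps.nil))))))))))) (nat_lit 191) (nat_lit 0),
  Rule.mk (nat_lit 0) (nat_lit 194) (Steps.bwd (nat_lit 18) (Steps.fwd (nat_lit 8192) (Steps.bwd (nat_lit 3) (Steps.bwd (nat_lit 4) (Steps.bwd (nat_lit 1) (Steps.bwd (nat_lit 2) (Steps.fwd (nat_lit 8192) (Steps.bwd (nat_lit 2) (Steps.bwd (nat_lit 1) (Steps.fwd (nat_lit 16384) (Steps.fwd (nat_lit 8192) (Steps.bwd (nat_lit 3) Steps.nil)))))))))))) (nat_lit 192) (nat_lit 0),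
  Rule.mk (nat_lit 17) (nat_lit 179) (Steps.bwd (nat_lit 2) (Steps.fwd (nat_lit 8192) (Steps.bwd (nat_lit 2) (Steps.bwd (nat_lit 1) (Steps.fwd (nat_lit 16384) (Steps.fwd (nat_lit 8192) (Steps.bwd (nat_lit 3) (Steps.bwd (nat_lit 1) (Steps.fwd (nat_lit 32768) (Steps.fwd (nat_lit 24576) (Steps.bwd (nat_lit 1) Steps.nil))))))))))) (nat_lit 193) (nat_lit 0),
  Rule.mk (nat_lit 20) (nat_lit 179) (Steps.bwd (nat_lit 1) (Steps.bwd (nat_lit 2) (Steps.fwd (nat_lit 8192) (Steps.bwd (nat_lit 2) (Steps.bwd (nat_lit 1) (Steps.fwd (nat_lit 16384) (Steps.fwd (nat_lit 8192) (Steps.bwd (nat_lit 3) (Steps.bwd (nat_lit 1) (Steps.fwd (nat_lit 32768) (Steps.fwd (nat_lit 24576) Steps.nil))))))))))) (nat_lit 194) (nat_lit 1),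
  Rule.mk (nat_lit 19) (nat_lit 179) (Steps.bwd (nat_lit 3) (Steps.bwd (nat_lit 4) (Steps.bwd (nat_lit 1) (Steps.bwd (nat_lit 2) (Steps.fwd (nat_lit 8192) (Steps.bwd (nat_lit 2) (Steps.bwd (nat_lit 1) (Steps.fwd (nat_lit 16384) (Steps.fwd (nat_lit 8192) (Steps.bwd (nat_lit 3) (Steps.bwd (nat_lit 1) Steps.nil))))))))))) (nat_lit 195) (nat_lit 0),
  Rule.mk (nat_lit 2) (nat_lit 179) (Steps.bwd (nat_lit 20) (Steps.fwd (nat_lit 8192) (Steps.bwd (nat_lit 2) (Steps.fwd (nat_lit 8192) (Steps.bwd (nat_lit 2) (Steps.bwd (nat_lit 1) (Steps.bwd (nat_lit 3) (Steps.fwd (nat_lit 8192) (Steps.bwd (nat_lit 3) (Steps.bwd (nat_lit 1) (Steps.bwd (nat_lit 4) Steps.nil))))))))))) (nat_lit 194) (nat_lit 0),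
  Rule.mk (nat_lit 8) (nat_lit 89) (Steps.fwd (nat_lit 16384) (Steps.fwd (nat_lit 32768) (Steps.bwd (nat_lit 7) (Steps.fwd (nat_lit 114688) (Steps.fwd (nat_lit 24576) Steps.nil))))) (nat_lit 176) (nat_lit 2),
  Rule.mk (nat_lit 1) (nat_lit 179) (Steps.fwd (nat_lit 16384) (Steps.fwd (nat_lit 32768) (Steps.fwd (nat_lit 8192) (Steps.fwd (nat_lit 24576) (Steps.bwd (nat_lit 1) (Steps.fwd (nat_lit 24576) (Steps.fwd (nat_lit 8192) (Steps.fwd (nat_lit 16384) (Steps.bwd (nat_lit 1) (Steps.fwd (nat_lit 16384) (Steps.fwd (nat_lit 139264) Steps.nil))))))))))) (nat_lit 192) (nat_lit 2),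
  Rule.mk (nat_lit 5) (nat_lit 104) (Steps.bwd (nat_lit 1) (Steps.fwd (nat_lit 65536) (Steps.fwd (nat_lit 8192) (Steps.fwd (nat_lit 114688) (Steps.fwd (nat_lit 106496) (Steps.bwd (nat_lit 7) Steps.nil)))))) (nat_lit 155) (nat_lit 4),
  Rule.mk (nat_lit 10) (nat_lit 59) (Steps.fwd (nat_lit 40960) (Steps.fwd (nat_lit 81920) (Steps.bwd (nat_lit 5) Steps.nil))) (nat_lit 68) (nat_lit 1),
  Rule.mk (nat_lit 14) (nat_lit 59) (Steps.fwd (nat_lit 40960) (Steps.bwd (nat_lit 14) (Steps.bwd (nat_lit 5) Steps.nil))) (nat_lit 128) (nat_lit 1),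
  Rule.mk (nat_lit 2) (nat_lit 104) (Steps.bwd (nat_lit 7) (Steps.bwd (nat_lit 3) (Steps.fwd (nat_lit 114688) (Steps.fwd (nat_lit 106496) (Steps.bwd (nat_lit 7) (Steps.bwd (nat_lit 5) Steps.nil)))))) (nat_lit 175) (nat_lit 5),
  Rule.mk (nat_lit 3) (nat_lit 149) (Steps.fwd (nat_lit 32768) (Steps.bwd (nat_lit 5) (Steps.bwd (nat_lit 8) (Steps.fwd (nat_lit 73728) (Steps.fwd (nat_lit 98304) (Steps.bwd (nat_lit 13) (Steps.bwd (nat_lit 14) (Steps.bwd (nat_lit 2) (Steps.bwd (nat_lit 5) Steps.nil))))))))) (nat_lit 170) (nat_lit 3),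
  Rule.mk (nat_lit 9) (nat_lit 134) (Steps.bwd (nat_lit 3) (Steps.fwd (nat_lit 32768) (Steps.bwd (nat_lit 5) (Steps.bwd (nat_lit 8) (Steps.fwd (nat_lit 73728) (Steps.fwd (nat_lit 90112) (Steps.bwd (nat_lit 14) (Steps.fwd (nat_lit 24576) Steps.nil)))))))) (nat_lit 178) (nat_lit 2),
  Rule.mk (nat_lit 15) (nat_lit 179) (Steps.bwd (nat_lit 3) (Steps.bwd (nat_lit 1) (Steps.bwd (nat_lit 4) (Steps.bwd (nat_lit 3) (Steps.fwd (nat_lit 8192) (Steps.bwd (nat_lit 2) (Steps.bwd (nat_lit 1) (Steps.bwd (nat_lit 2) (Steps.fwd (nat_lit 8192) (Steps.bwd (nat_lit 2) (Steps.bwd (nat_lit 1) Steps.nil))))))))))) (nat_lit 191) (nat_lit 0),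
  Rule.mk (nat_lit 0) (nat_lit 194) (Steps.bwd (nat_lit 18) (Steps.bwd (nat_lit 1) (Steps.bwd (nat_lit 3) (Steps.fwd (nat_lit 32768) (Steps.fwd (nat_lit 8192) (Steps.fwd (nat_lit 24576) (Steps.fwd (nat_lit 8192) (Steps.bwd (nat_lit 2) (Steps.fwd (nat_lit 8192) (Steps.bwd (nat_lit 3) (Steps.fwd (nat_lit 8192) (Steps.fwd (nat_lit 16384) Steps.nil)))))))))))) (nat_lit 192) (nat_lit 0),
  Rule.mk (nat_lit 0) (nat_lit 59) (Steps.bwd (nat_lit 17) (Steps.bwd (nat_lit 0) (Steps.bwd (nat_lit 18) Steps.nil))) (nat_lit 196) (nat_lit 0),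
  Rule.mk (nat_lit 17) (nat_lit 179) (Steps.fwd (nat_lit 24576) (Steps.fwd (nat_lit 8192) (Steps.bwd (nat_lit 2) (Steps.fwd (nat_lit 8192) (Steps.bwd (nat_lit 3) (Steps.fwd (nat_lit 8192) (Steps.fwd (nat_lit 16384) (Steps.bwd (nat_lit 1) (Steps.bwd (nat_lit 4) (Steps.bwd (nat_lit 2) (Steps.bwd (nat_lit 1) Steps.nil))))))))))) (nat_lit 193) (nat_lit 0),
  Rule.mk (nat_lit 0) (nat_lit 194) (Steps.bwd (nat_lit 19) (Steps.fwd (nat_lit 16384) (Steps.fwd (nat_lit 32768) (Steps.fwd (nat_lit 8192) (Steps.bwd (nat_lit 2) (Steps.bwd (nat_lit 1) (Steps.fwd (nat_lit 24576) (Steps.bwd (nat_lit 1) (Steps.fwd (nat_lit 16384) (Steps.bwd (nat_lit 1) (Steps.bwd (nat_lit 3) (Steps.bwd (nat_lit 1) Steps.nil)))))))))))) (nat_lit 195) (nat_lit 11),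
  Rule.mk (nat_lit 19) (nat_lit 179) (Steps.bwd (nat_lit 3) (Steps.fwd (nat_lit 32768) (Steps.fwd (nat_lit 8192) (Steps.fwd (nat_lit 24576) (Steps.fwd (nat_lit 8192) (Steps.bwd (nat_lit 2) (Steps.fwd (nat_lit 8192) (Steps.bwd (nat_lit 3) (Steps.fwd (nat_lit 8192) (Steps.fwd (nat_lit 16384) (Steps.bwd (nat_lit 1) Steps.nil))))))))))) (nat_lit 195) (nat_lit 0),
  Rule.mk (nat_lit 12) (nat_lit 104) (Steps.bwd (nat_lit 14) (Steps.bwd (nat_lit 1) (Steps.fwd (nat_lit 90112) (Steps.bwd (nat_lit 1) (Steps.bwd (nat_lit 6) (Steps.bwd (nat_lit 11) Steps.nil)))))) (nat_lit 160) (nat_lit 6),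
  Rule.mk (nat_lit 16) (nat_lit 179) (Steps.bwd (nat_lit 1) (Steps.fwd (nat_lit 16384) (Steps.fwd (nat_lit 8192) (Steps.bwd (nat_lit 3) (Steps.fwd (nat_lit 8192) (Steps.bwd (nat_lit 3) (Steps.fwd (nat_lit 8192) (Steps.bwd (nat_lit 2) (Steps.bwd (nat_lit 4) (Steps.bwd (nat_lit 1) (Steps.bwd (nat_lit 2) Steps.nil))))))))))) (nat_lit 190) (nat_lit 1),
  Rule.mk (nat_lit 0) (nat_lit 194) (Steps.bwd (nat_lit 15) (Steps.fwd (nat_lit 16384) (Steps.bwd (nat_lit 1) (Steps.bwd (nat_lit 4) (Steps.fwd (nat_lit 16384) (Steps.bwd (nat_lit 1) (Steps.fwd (nat_lit 24576) (Steps.bwd (nat_lit 1) (Steps.fwd (nat_lit 24576) (Steps.bwd (nat_lit 1) (Steps.fwd (nat_lit 24576) (Steps.bwd (nat_lit 1) Steps.nil)))))))))))) (nat_lit 191) (nat_lit 11),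
  Rule.mk (nat_lit 16) (nat_lit 179) (Steps.fwd (nat_lit 8192) (Steps.bwd (nat_lit 3) (Steps.fwd (nat_lit 8192) (Steps.bwd (nat_lit 3) (Steps.fwd (nat_lit 8192) (Steps.fwd (nat_lit 16384) (Steps.bwd (nat_lit 1) (Steps.bwd (nat_lit 2) (Steps.bwd (nat_lit 4) (Steps.bwd (nat_lit 1) (Steps.bwd (nat_lit 2) Steps.nil))))))))))) (nat_lit 190) (nat_lit 1),
  Rule.mk (nat_lit 1) (nat_lit 179) (Steps.bwd (nat_lit 15) (Steps.bwd (nat_lit 3) (Steps.bwd (nat_lit 1) (Steps.bwd (nat_lit 4) (Steps.bwd (nat_lit 3) (Steps.fwd (nat_lit 8192) (Steps.bwd (nat_lit 2) (Steps.fwd (nat_lit 8192) (Steps.bwd (nat_lit 2) (Steps.fwd (nat_lit 8192) (Steps.bwd (nat_lit 2) Steps.nil))))))))))) (nat_lit 191) (nat_lit 11),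
  Rule.mk (nat_lit 18) (nat_lit 179) (Steps.bwd (nat_lit 1) (Steps.fwd (nat_lit 16384) (Steps.bwd (nat_lit 4) (Steps.bwd (nat_lit 1) (Steps.fwd (nat_lit 24576) (Steps.fwd (nat_lit 8192) (Steps.fwd (nat_lit 24576) (Steps.fwd (nat_lit 8192) (Steps.bwd (nat_lit 3) (Steps.fwd (nat_lit 8192) (Steps.bwd (nat_lit 3) Steps.nil))))))))))) (nat_lit 192) (nat_lit 1),
  Rule.mk (nat_lit 18) (nat_lit 179) (Steps.fwd (nat_lit 8192) (Steps.bwd (nat_lit 3) (Steps.bwd (nat_lit 4) (Steps.fwd (nat_lit 8192) (Steps.bwd (nat_lit 2) (Steps.fwd (nat_lit 8192) (Steps.bwd (nat_lit 2) (Steps.fwd (nat_lit 8192) (Steps.bwd (nat_lit 3) (Steps.fwd (nat_lit 8192) (Steps.bwd (nat_lit 3) Steps.nil))))))))))) (nat_lit 192) (nat_lit 1),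
  Rule.mk (nat_lit 0) (nat_lit 194) (Steps.bwd (nat_lit 17) (Steps.fwd (nat_lit 24576) (Steps.fwd (nat_lit 8192) (Steps.fwd (nat_lit 24576) (Steps.fwd (nat_lit 8192) (Steps.bwd (nat_lit 3) (Steps.fwd (nat_lit 8192) (Steps.bwd (nat_lit 3) (Steps.fwd (nat_lit 8192) (Steps.fwd (nat_lit 32768) (Steps.bwd (nat_lit 2) (Steps.bwd (nat_lit 1) Steps.nil)))))))))))) (nat_lit 193) (nat_lit 11),
  Rule.mk (nat_lit 0) (nat_lit 194) (Steps.bwd (nat_lit 18) (Steps.bwd (nat_lit 1) (Steps.bwd (nat_lit 3) (Steps.bwd (nat_lit 4) (Steps.bwd (nat_lit 1) (Steps.fwd (nat_lit 24576) (Steps.bwd (nat_lit 1) (Steps.fwd (nat_lit 24576) (Steps.bwd (nat_lit 1) (Steps.fwd (nat_lit 16384) (Steps.bwd (nat_lit 1) (Steps.fwd (nat_lit 16384) Steps.nil)))))))))))) (nat_lit 192) (nat_lit 0),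
  Rule.mk (nat_lit 20) (nat_lit 179) (Steps.bwd (nat_lit 1) (Steps.fwd (nat_lit 24576) (Steps.fwd (nat_lit 8192) (Steps.fwd (nat_lit 24576) (Steps.fwd (nat_lit 8192) (Steps.bwd (nat_lit 3) (Steps.fwd (nat_lit 8192) (Steps.bwd (nat_lit 3) (Steps.fwd (nat_lit 8192) (Steps.fwd (nat_lit 32768) (Steps.bwd (nat_lit 2) Steps.nil))))))))))) (nat_lit 194) (nat_lit 1),
  Rule.mk (nat_lit 0) (nat_lit 194) (Steps.bwd (nat_lit 19) (Steps.bwd (nat_lit 3) (Steps.bwd (nat_lit 4) (Steps.bwd (nat_lit 1) (Steps.fwd (nat_lit 24576) (Steps.bwd (nat_lit 1) (Steps.fwd (nat_lit 24576) (Steps.bwd (nat_lit 1) (Steps.fwd (nat_lit 16384) (Steps.bwd (nat_lit 1) (Steps.fwd (nat_lit 16384) (Steps.bwd (nat_lit 1) Steps.nil)))))))))))) (nat_lit 195) (nat_lit 11),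
  Rule.mk (nat_lit 0) (nat_lit 194) (Steps.bwd (nat_lit 19) (Steps.fwd (nat_lit 16384) (Steps.bwd (nat_lit 4) (Steps.bwd (nat_lit 1) (Steps.fwd (nat_lit 24576) (Steps.fwd (nat_lit 8192) (Steps.fwd (nat_lit 24576) (Steps.fwd (nat_lit 8192) (Steps.bwd (nat_lit 3) (Steps.fwd (nat_lit 8192) (Steps.bwd (nat_lit 3) (Steps.fwd (nat_lit 8192) Steps.nil)))))))))))) (nat_lit 195) (nat_lit 11),
  Rule.mk (nat_lit 19) (nat_lit 179) (Steps.bwd (nat_lit 3) (Steps.bwd (nat_lit 4) (Steps.fwd (nat_lit 8192) (Steps.bwd (nat_lit 2) (Steps.fwd (nat_lit 8192) (Steps.bwd (nat_lit 2) (Steps.fwd (nat_lit 8192) (Steps.bwd (nat_lit 3) (Steps.fwd (nat_lit 8192) (Steps.bwd (nat_lit 3) (Steps.fwd (nat_lit 8192) Steps.nil))))))))))) (nat_lit 195) (nat_lit 0),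
  Rule.mk (nat_lit 9) (nat_lit 89) (Steps.fwd (nat_lit 8192) (Steps.bwd (nat_lit 4) (Steps.bwd (nat_lit 7) (Steps.fwd (nat_lit 114688) (Steps.bwd (nat_lit 1) Steps.nil))))) (nat_lit 156) (nat_lit 2),
  Rule.mk (nat_lit 6) (nat_lit 104) (Steps.fwd (nat_lit 90112) (Steps.fwd (nat_lit 98304) (Steps.fwd (nat_lit 114688) (Steps.fwd (nat_lit 8192) (Steps.fwd (nat_lit 90112) (Steps.bwd (nat_lit 1) Steps.nil)))))) (nat_lit 160) (nat_lit 4),
  Rule.mk (nat_lit 11) (nat_lit 104) (Steps.fwd (nat_lit 8192) (Steps.fwd (nat_lit 49152) (Steps.bwd (nat_lit 11) (Steps.bwd (nat_lit 12) (Steps.fwd (nat_lit 114688) (Steps.bwd (nat_lit 1) Steps.nil)))))) (nat_lit 160) (nat_lit 2),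
  Rule.mk (nat_lit 10) (nat_lit 134) (Steps.fwd (nat_lit 8192) (Steps.fwd (nat_lit 32768) (Steps.bwd (nat_lit 5) (Steps.bwd (nat_lit 8) (Steps.bwd (nat_lit 9) (Steps.fwd (nat_lit 90112) (Steps.fwd (nat_lit 114688) (Steps.bwd (nat_lit 1) Steps.nil)))))))) (nat_lit 158) (nat_lit 2),
  Rule.mk (nat_lit 7) (nat_lit 164) (Steps.bwd (nat_lit 1) (Steps.fwd (nat_lit 40960) (Steps.bwd (nat_lit 6) (Steps.bwd (nat_lit 9) (Steps.bwd (nat_lit 10) (Steps.bwd (nat_lit 11) (Steps.fwd (nat_lit 98304) (Steps.bwd (nat_lit 13) (Steps.fwd (nat_lit 114688) (Steps.bwd (nat_lit 1) Steps.nil)))))))))) (nat_lit 152) (nat_lit 2),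
  Rule.mk (nat_lit 12) (nat_lit 164) (Steps.bwd (nat_lit 1) (Steps.bwd (nat_lit 4) (Steps.bwd (nat_lit 5) (Steps.fwd (nat_lit 65536) (Steps.bwd (nat_lit 9) (Steps.bwd (nat_lit 10) (Steps.bwd (nat_lit 11) (Steps.bwd (nat_lit 12) (Steps.fwd (nat_lit 114688) (Steps.bwd (nat_lit 1) Steps.nil)))))))))) (nat_lit 162) (nat_lit 2),
  Rule.mk (nat_lit 0) (nat_lit 194) (Steps.bwd (nat_lit 15) (Steps.fwd (nat_lit 16384) (Steps.bwd (nat_lit 1) (Steps.bwd (nat_lit 4) (Steps.bwd (nat_lit 3) (Steps.bwd (nat_lit 1) (Steps.fwd (nat_lit 24576) (Steps.fwd (nat_lit 8192) (Steps.fwd (nat_lit 24576) (Steps.bwd (nat_lit 1) (Steps.bwd (nat_lit 2) (Steps.bwd (nat_lit 1) Steps.nil)))))))))))) (nat_lit 191) (nat_lit 11),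
  Rule.mk (nat_lit 17) (nat_lit 179) (Steps.bwd (nat_lit 2) (Steps.fwd (nat_lit 8192) (Steps.bwd (nat_lit 2) (Steps.fwd (nat_lit 8192) (Steps.bwd (nat_lit 3) (Steps.fwd (nat_lit 8192) (Steps.fwd (nat_lit 16384) (Steps.bwd (nat_lit 1) (Steps.bwd (nat_lit 4) (Steps.fwd (nat_lit 24576) (Steps.fwd (nat_lit 8192) Steps.nil))))))))))) (nat_lit 193) (nat_lit 0),
  Rule.mk (nat_lit 20) (nat_lit 179) (Steps.fwd (nat_lit 8192) (Steps.bwd (nat_lit 2) (Steps.fwd (nat_lit 8192) (Steps.bwd (nat_lit 2) (Steps.fwd (nat_lit 8192) (Steps.bwd (nat_lit 3) (Steps.fwd (nat_lit 8192) (Steps.fwd (nat_lit 16384) (Steps.bwd (nat_lit 1) (Steps.bwd (nat_lit 4) (Steps.fwd (nat_lit 24576) Steps.nil))))))))))) (nat_lit 194) (nat_lit 1),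
  Rule.mk (nat_lit 0) (nat_lit 194) (Steps.bwd (nat_lit 3) (Steps.bwd (nat_lit 1) (Steps.fwd (nat_lit 32768) (Steps.fwd (nat_lit 16384) (Steps.fwd (nat_lit 8192) (Steps.bwd (nat_lit 2) (Steps.fwd (nat_lit 8192) (Steps.fwd (nat_lit 24576) (Steps.bwd (nat_lit 1) (Steps.bwd (nat_lit 2) (Steps.fwd (nat_lit 8192) (Steps.fwd (nat_lit 131072) Steps.nil)))))))))))) (nat_lit 191) (nat_lit 0),
  Rule.mk (nat_lit 15) (nat_lit 179) (Steps.bwd (nat_lit 3) (Steps.bwd (nat_lit 1) (Steps.bwd (nat_lit 4) (Steps.bwd (nat_lit 3) (Steps.fwd (nat_lit 8192) (Steps.bwd (nat_lit 2) (Steps.fwd (nat_lit 8192) (Steps.bwd (nat_lit 2) (Steps.bwd (nat_lit 1) (Steps.bwd (nat_lit 2) (Steps.fwd (nat_lit 8192) Steps.nil))))))))))) (nat_lit 191) (nat_lit 0),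
  Rule.mk (nat_lit 15) (nat_lit 179) (Steps.fwd (nat_lit 16384) (Steps.bwd (nat_lit 1) (Steps.fwd (nat_lit 32768) (Steps.fwd (nat_lit 16384) (Steps.fwd (nat_lit 8192) (Steps.bwd (nat_lit 2) (Steps.bwd (nat_lit 1) (Steps.bwd (nat_lit 2) (Steps.fwd (nat_lit 8192) (Steps.bwd (nat_lit 2) (Steps.bwd (nat_lit 1) Steps.nil))))))))))) (nat_lit 191) (nat_lit 0),
  Rule.mk (nat_lit 0) (nat_lit 194) (Steps.bwd (nat_lit 3) (Steps.bwd (nat_lit 1) (Steps.bwd (nat_lit 4) (Steps.fwd (nat_lit 16384) (Steps.bwd (nat_lit 1) (Steps.bwd (nat_lit 2) (Steps.fwd (nat_lit 8192) (Steps.bwd (nat_lit 2) (Steps.bwd (nat_lit 1) (Steps.bwd (nat_lit 2) (Steps.bwd (nat_lit 1) (Steps.fwd (nat_lit 131072) Steps.nil)))))))))))) (nat_lit 191) (nat_lit 0),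
  Rule.mk (nat_lit 0) (nat_lit 194) (Steps.bwd (nat_lit 18) (Steps.bwd (nat_lit 1) (Steps.fwd (nat_lit 16384) (Steps.bwd (nat_lit 4) (Steps.fwd (nat_lit 8192) (Steps.bwd (nat_lit 2) (Steps.bwd (nat_lit 1) (Steps.bwd (nat_lit 2) (Steps.fwd (nat_lit 8192) (Steps.fwd (nat_lit 16384) (Steps.fwd (nat_lit 8192) (Steps.bwd (nat_lit 3) Steps.nil)))))))))))) (nat_lit 192) (nat_lit 0),
  Rule.mk (nat_lit 0) (nat_lit 194) (Steps.bwd (nat_lit 18) (Steps.bwd (nat_lit 1) (Steps.fwd (nat_lit 16384) (Steps.bwd (nat_lit 4) (Steps.bwd (nat_lit 1) (Steps.bwd (nat_lit 2) (Steps.fwd (nat_lit 8192) (Steps.bwd (nat_lit 2) (Steps.bwd (nat_lit 1) (Steps.fwd (nat_lit 16384) (Steps.fwd (nat_lit 8192) (Steps.bwd (nat_lit 3) Steps.nil)))))))))))) (nat_lit 192) (nat_lit 0),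
  Rule.mk (nat_lit 17) (nat_lit 179) (Steps.bwd (nat_lit 2) (Steps.bwd (nat_lit 1) (Steps.bwd (nat_lit 2) (Steps.fwd (nat_lit 8192) (Steps.fwd (nat_lit 16384) (Steps.fwd (nat_lit 8192) (Steps.bwd (nat_lit 3) (Steps.fwd (nat_lit 8192) (Steps.fwd (nat_lit 32768) (Steps.fwd (nat_lit 24576) (Steps.fwd (nat_lit 8192) Steps.nil))))))))))) (nat_lit 193) (nat_lit 0),
  Rule.mk (nat_lit 0) (nat_lit 194) (Steps.bwd (nat_lit 20) (Steps.fwd (nat_lit 8192) (Steps.bwd (nat_lit 2) (Steps.bwd (nat_lit 1) (Steps.bwd (nat_lit 2) (Steps.fwd (nat_lit 8192) (Steps.fwd (nat_lit 16384) (Steps.fwd (nat_lit 8192) (Steps.bwd (nat_lit 3) (Steps.fwd (nat_lit 8192) (Steps.fwd (nat_lit 32768) (Steps.fwd (nat_lit 24576) Steps.nil)))))))))))) (nat_lit 194) (nat_lit 0),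
  Rule.mk (nat_lit 20) (nat_lit 179) (Steps.bwd (nat_lit 1) (Steps.bwd (nat_lit 2) (Steps.fwd (nat_lit 8192) (Steps.bwd (nat_lit 2) (Steps.bwd (nat_lit 1) (Steps.fwd (nat_lit 16384) (Steps.fwd (nat_lit 8192) (Steps.bwd (nat_lit 3) (Steps.fwd (nat_lit 8192) (Steps.bwd (nat_lit 4) (Steps.fwd (nat_lit 24576) Steps.nil))))))))))) (nat_lit 194) (nat_lit 1),
  Rule.mk (nat_lit 19) (nat_lit 179) (Steps.fwd (nat_lit 16384) (Steps.bwd (nat_lit 4) (Steps.fwd (nat_lit 8192) (Steps.bwd (nat_lit 2) (Steps.bwd (nat_lit 1) (Steps.bwd (nat_lit 2) (Steps.fwd (nat_lit 8192) (Steps.fwd (nat_lit 16384) (Steps.fwd (nat_lit 8192) (Steps.bwd (nat_lit 3) (Steps.fwd (nat_lit 8192) Steps.nil))))))))))) (nat_lit 195) (nat_lit 0),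
  Rule.mk (nat_lit 0) (nat_lit 194) (Steps.bwd (nat_lit 19) (Steps.fwd (nat_lit 16384) (Steps.bwd (nat_lit 4) (Steps.bwd (nat_lit 1) (Steps.bwd (nat_lit 2) (Steps.fwd (nat_lit 8192) (Steps.bwd (nat_lit 2) (Steps.bwd (nat_lit 1) (Steps.fwd (nat_lit 16384) (Steps.fwd (nat_lit 8192) (Steps.bwd (nat_lit 3) (Steps.fwd (nat_lit 8192) Steps.nil)))))))))))) (nat_lit 195) (nat_lit 11)]
noncomputable def R_60 : List (Rule) := [Rule.mk (nat_lit 15) (nat_lit 179) (Steps.bwd (nat_lit 3) (Steps.bwd (nat_lit 1) (Steps.bwd (nat_lit 4) (Steps.fwd (nat_lit 16384) (Steps.fwd (nat_lit 8192) (Steps.bwd (nat_lit 2) (Steps.fwd (nat_lit 8192) (Steps.bwd (nat_lit 2) (Steps.fwd (nat_lit 8192) (Steps.bwd (nat_lit 2) (Steps.fwd (nat_lit 8192) Steps.nil))))))))))) (nat_lit 191) (nat_lit 0),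
  Rule.mk (nat_lit 0) (nat_lit 194) (Steps.bwd (nat_lit 18) (Steps.bwd (nat_lit 1) (Steps.bwd (nat_lit 3) (Steps.fwd (nat_lit 32768) (Steps.fwd (nat_lit 8192) (Steps.bwd (nat_lit 2) (Steps.fwd (nat_lit 8192) (Steps.bwd (nat_lit 2) (Steps.fwd (nat_lit 8192) (Steps.fwd (nat_lit 16384) (Steps.fwd (nat_lit 8192) (Steps.bwd (nat_lit 3) Steps.nil)))))))))))) (nat_lit 192) (nat_lit 0),
  Rule.mk (nat_lit 17) (nat_lit 179) (Steps.bwd (nat_lit 2) (Steps.fwd (nat_lit 8192) (Steps.bwd (nat_lit 2) (Steps.fwd (nat_lit 8192) (Steps.fwd (nat_lit 16384) (Steps.fwd (nat_lit 8192) (Steps.bwd (nat_lit 3) (Steps.fwd (nat_lit 8192) (Steps.bwd (nat_lit 4) (Steps.bwd (nat_lit 2) (Steps.bwd (nat_lit 1) Steps.nil))))))))))) (nat_lit 193) (nat_lit 0),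
  Rule.mk (nat_lit 20) (nat_lit 179) (Steps.fwd (nat_lit 8192) (Steps.bwd (nat_lit 2) (Steps.fwd (nat_lit 8192) (Steps.bwd (nat_lit 2) (Steps.fwd (nat_lit 8192) (Steps.fwd (nat_lit 16384) (Steps.fwd (nat_lit 8192) (Steps.bwd (nat_lit 3) (Steps.fwd (nat_lit 8192) (Steps.bwd (nat_lit 4) (Steps.bwd (nat_lit 2) Steps.nil))))))))))) (nat_lit 194) (nat_lit 1),
  Rule.mk (nat_lit 0) (nat_lit 194) (Steps.bwd (nat_lit 19) (Steps.bwd (nat_lit 3) (Steps.fwd (nat_lit 32768) (Steps.fwd (nat_lit 8192) (Steps.bwd (nat_lit 2) (Steps.fwd (nat_lit 8192) (Steps.bwd (nat_lit 2) (Steps.fwd (nat_lit 8192) (Steps.fwd (nat_lit 16384) (Steps.fwd (nat_lit 8192) (Steps.bwd (nat_lit 3) (Steps.fwd (nat_lit 8192) Steps.nil)))))))))))) (nat_lit 195) (nat_lit 11),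
  Rule.mk (nat_lit 15) (nat_lit 179) (Steps.bwd (nat_lit 3) (Steps.fwd (nat_lit 8192) (Steps.bwd (nat_lit 4) (Steps.bwd (nat_lit 3) (Steps.bwd (nat_lit 1) (Steps.bwd (nat_lit 2) (Steps.fwd (nat_lit 8192) (Steps.bwd (nat_lit 2) (Steps.fwd (nat_lit 8192) (Steps.bwd (nat_lit 2) (Steps.fwd (nat_lit 8192) Steps.nil))))))))))) (nat_lit 191) (nat_lit 0),
  Rule.mk (nat_lit 18) (nat_lit 179) (Steps.fwd (nat_lit 8192) (Steps.fwd (nat_lit 16384) (Steps.bwd (nat_lit 4) (Steps.fwd (nat_lit 8192) (Steps.bwd (nat_lit 2) (Steps.fwd (nat_lit 8192) (Steps.fwd (nat_lit 24576) (Steps.fwd (nat_lit 8192) (Steps.bwd (nat_lit 3) (Steps.fwd (nat_lit 8192) (Steps.bwd (nat_lit 3) Steps.nil))))))))))) (nat_lit 192) (nat_lit 1),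
  Rule.mk (nat_lit 0) (nat_lit 194) (Steps.fwd (nat_lit 8192) (Steps.bwd (nat_lit 3) (Steps.bwd (nat_lit 4) (Steps.fwd (nat_lit 8192) (Steps.bwd (nat_lit 2) (Steps.bwd (nat_lit 1) (Steps.fwd (nat_lit 24576) (Steps.fwd (nat_lit 8192) (Steps.bwd (nat_lit 3) (Steps.bwd (nat_lit 1) (Steps.bwd (nat_lit 3) (Steps.fwd (nat_lit 139264) Steps.nil)))))))))))) (nat_lit 192) (nat_lit 1),
  Rule.mk (nat_lit 17) (nat_lit 179) (Steps.bwd (nat_lit 2) (Steps.bwd (nat_lit 1) (Steps.fwd (nat_lit 24576) (Steps.fwd (nat_lit 8192) (Steps.bwd (nat_lit 3) (Steps.bwd (nat_lit 1) (Steps.bwd (nat_lit 3) (Steps.fwd (nat_lit 8192) (Steps.fwd (nat_lit 32768) (Steps.fwd (nat_lit 24576) (Steps.fwd (nat_lit 8192) Steps.nil))))))))))) (nat_lit 193) (nat_lit 0),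
  Rule.mk (nat_lit 20) (nat_lit 179) (Steps.fwd (nat_lit 8192) (Steps.bwd (nat_lit 2) (Steps.bwd (nat_lit 1) (Steps.fwd (nat_lit 24576) (Steps.fwd (nat_lit 8192) (Steps.bwd (nat_lit 3) (Steps.bwd (nat_lit 1) (Steps.bwd (nat_lit 3) (Steps.fwd (nat_lit 8192) (Steps.fwd (nat_lit 32768) (Steps.fwd (nat_lit 24576) Steps.nil))))))))))) (nat_lit 194) (nat_lit 1),
  Rule.mk (nat_lit 19) (nat_lit 179) (Steps.fwd (nat_lit 16384) (Steps.bwd (nat_lit 4) (Steps.fwd (nat_lit 8192) (Steps.bwd (nat_lit 2) (Steps.fwd (nat_lit 8192) (Steps.fwd (nat_lit 24576) (Steps.fwd (nat_lit 8192) (Steps.bwd (nat_lit 3) (Steps.fwd (nat_lit 8192) (Steps.bwd (nat_lit 3) (Steps.bwd (nat_lit 1) Steps.nil))))))))))) (nat_lit 195) (nat_lit 0),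
  Rule.mk (nat_lit 0) (nat_lit 194) (Steps.bwd (nat_lit 3) (Steps.bwd (nat_lit 4) (Steps.fwd (nat_lit 8192) (Steps.bwd (nat_lit 2) (Steps.bwd (nat_lit 1) (Steps.fwd (nat_lit 24576) (Steps.fwd (nat_lit 8192) (Steps.bwd (nat_lit 3) (Steps.bwd (nat_lit 1) (Steps.bwd (nat_lit 3) (Steps.fwd (nat_lit 8192) (Steps.fwd (nat_lit 163840) Steps.nil)))))))))))) (nat_lit 195) (nat_lit 0),
  Rule.mk (nat_lit 3) (nat_lit 179) (Steps.bwd (nat_lit 18) (Steps.fwd (nat_lit 8192) (Steps.bwd (nat_lit 3) (Steps.fwd (nat_lit 32768) (Steps.fwd (nat_lit 8192) (Steps.fwd (nat_lit 24576) (Steps.fwd (nat_lit 8192) (Steps.fwd (nat_lit 24576) (Steps.bwd (nat_lit 1) (Steps.bwd (nat_lit 3) (Steps.bwd (nat_lit 1) Steps.nil))))))))))) (nat_lit 192) (nat_lit 0),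
  Rule.mk (nat_lit 5) (nat_lit 104) (Steps.fwd (nat_lit 57344) (Steps.bwd (nat_lit 13) (Steps.fwd (nat_lit 114688) (Steps.fwd (nat_lit 24576) (Steps.bwd (nat_lit 7) (Steps.bwd (nat_lit 3) Steps.nil)))))) (nat_lit 174) (nat_lit 4),
  Rule.mk (nat_lit 14) (nat_lit 104) (Steps.fwd (nat_lit 106496) (Steps.bwd (nat_lit 7) (Steps.bwd (nat_lit 5) (Steps.fwd (nat_lit 24576) (Steps.bwd (nat_lit 7) (Steps.bwd (nat_lit 3) Steps.nil)))))) (nat_lit 175) (nat_lit 1),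
  Rule.mk (nat_lit 6) (nat_lit 104) (Steps.bwd (nat_lit 11) (Steps.bwd (nat_lit 12) (Steps.bwd (nat_lit 14) (Steps.bwd (nat_lit 2) (Steps.bwd (nat_lit 10) (Steps.bwd (nat_lit 3) Steps.nil)))))) (nat_lit 180) (nat_lit 4),
  Rule.mk (nat_lit 1) (nat_lit 104) (Steps.bwd (nat_lit 6) (Steps.bwd (nat_lit 11) (Steps.bwd (nat_lit 12) (Steps.bwd (nat_lit 14) (Steps.bwd (nat_lit 1) (Steps.bwd (nat_lit 11) Steps.nil)))))) (nat_lit 160) (nat_lit 3),
  Rule.mk (nat_lit 15) (nat_lit 179) (Steps.bwd (nat_lit 3) (Steps.bwd (nat_lit 1) (Steps.bwd (nat_lit 4) (Steps.bwd (nat_lit 3) (Steps.bwd (nat_lit 1) (Steps.bwd (nat_lit 2) (Steps.fwd (nat_lit 8192) (Steps.fwd (nat_lit 24576) (Steps.bwd (nat_lit 1) (Steps.fwd (nat_lit 24576) (Steps.bwd (nat_lit 1) Steps.nil))))))))))) (nat_lit 191) (nat_lit 0),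
  Rule.mk (nat_lit 0) (nat_lit 194) (Steps.bwd (nat_lit 15) (Steps.fwd (nat_lit 16384) (Steps.bwd (nat_lit 1) (Steps.bwd (nat_lit 4) (Steps.bwd (nat_lit 3) (Steps.fwd (nat_lit 8192) (Steps.fwd (nat_lit 24576) (Steps.bwd (nat_lit 1) (Steps.fwd (nat_lit 24576) (Steps.bwd (nat_lit 1) (Steps.fwd (nat_lit 24576) (Steps.fwd (nat_lit 8192) Steps.nil)))))))))))) (nat_lit 191) (nat_lit 11),
  Rule.mk (nat_lit 15) (nat_lit 179) (Steps.fwd (nat_lit 16384) (Steps.bwd (nat_lit 1) (Steps.fwd (nat_lit 32768) (Steps.bwd (nat_lit 3) (Steps.bwd (nat_lit 1) (Steps.fwd (nat_lit 24576) (Steps.fwd (nat_lit 8192) (Steps.fwd (nat_lit 24576) (Steps.fwd (nat_lit 8192) (Steps.fwd (nat_lit 24576) (Steps.fwd (nat_lit 8192) Steps.nil))))))))))) (nat_lit 191) (nat_lit 0),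
  Rule.mk (nat_lit 0) (nat_lit 194) (Steps.bwd (nat_lit 1) (Steps.bwd (nat_lit 3) (Steps.fwd (nat_lit 32768) (Steps.bwd (nat_lit 1) (Steps.fwd (nat_lit 24576) (Steps.bwd (nat_lit 1) (Steps.fwd (nat_lit 24576) (Steps.fwd (nat_lit 8192) (Steps.fwd (nat_lit 16384) (Steps.bwd (nat_lit 1) (Steps.fwd (nat_lit 16384) (Steps.fwd (nat_lit 139264) Steps.nil)))))))))))) (nat_lit 192) (nat_lit 1),
  Rule.mk (nat_lit 17) (nat_lit 179) (Steps.fwd (nat_lit 24576) (Steps.bwd (nat_lit 1) (Steps.fwd (nat_lit 24576) (Steps.fwd (nat_lit 8192) (Steps.fwd (nat_lit 16384) (Steps.bwd (nat_lit 1) (Steps.fwd (nat_lit 16384) (Steps.fwd (nat_lit 8192) (Steps.fwd (nat_lit 32768) (Steps.fwd (nat_lit 24576) (Steps.fwd (nat_lit 8192) Steps.nil))))))))))) (nat_lit 193) (nat_lit 0),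
  Rule.mk (nat_lit 0) (nat_lit 194) (Steps.bwd (nat_lit 19) (Steps.bwd (nat_lit 3) (Steps.bwd (nat_lit 4) (Steps.bwd (nat_lit 1) (Steps.bwd (nat_lit 2) (Steps.fwd (nat_lit 8192) (Steps.bwd (nat_lit 2) (Steps.bwd (nat_lit 1) (Steps.bwd (nat_lit 3) (Steps.fwd (nat_lit 8192) (Steps.bwd (nat_lit 3) (Steps.fwd (nat_lit 8192) Steps.nil)))))))))))) (nat_lit 195) (nat_lit 11),
  Rule.mk (nat_lit 20) (nat_lit 179) (Steps.bwd (nat_lit 1) (Steps.fwd (nat_lit 24576) (Steps.fwd (nat_lit 8192) (Steps.fwd (nat_lit 24576) (Steps.fwd (nat_lit 8192) (Steps.bwd (nat_lit 3) (Steps.bwd (nat_lit 1) (Steps.bwd (nat_lit 3) (Steps.bwd (nat_lit 1) (Steps.bwd (nat_lit 4) (Steps.fwd (nat_lit 24576) Steps.nil))))))))))) (nat_lit 194) (nat_lit 1),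
  Rule.mk (nat_lit 0) (nat_lit 194) (Steps.bwd (nat_lit 19) (Steps.bwd (nat_lit 3) (Steps.fwd (nat_lit 32768) (Steps.bwd (nat_lit 1) (Steps.fwd (nat_lit 24576) (Steps.bwd (nat_lit 1) (Steps.fwd (nat_lit 24576) (Steps.fwd (nat_lit 8192) (Steps.fwd (nat_lit 16384) (Steps.bwd (nat_lit 1) (Steps.fwd (nat_lit 16384) (Steps.fwd (nat_lit 8192) Steps.nil)))))))))))) (nat_lit 195) (nat_lit 11),
  Rule.mk (nat_lit 19) (nat_lit 179) (Steps.fwd (nat_lit 16384) (Steps.fwd (nat_lit 32768) (Steps.bwd (nat_lit 1) (Steps.fwd (nat_lit 24576) (Steps.fwd (nat_lit 8192) (Steps.fwd (nat_lit 24576) (Steps.fwd (nat_lit 8192) (Steps.bwd (nat_lit 3) (Steps.bwd (nat_lit 1) (Steps.bwd (nat_lit 3) (Steps.bwd (nat_lit 1) Steps.nil))))))))))) (nat_lit 195) (nat_lit 0),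
  Rule.mk (nat_lit 1) (nat_lit 104) (Steps.bwd (nat_lit 11) (Steps.bwd (nat_lit 1) (Steps.fwd (nat_lit 114688) (Steps.fwd (nat_lit 98304) (Steps.fwd (nat_lit 90112) (Steps.bwd (nat_lit 6) Steps.nil)))))) (nat_lit 161) (nat_lit 5),
  Rule.mk (nat_lit 2) (nat_lit 164) (Steps.bwd (nat_lit 11) (Steps.fwd (nat_lit 16384) (Steps.bwd (nat_lit 14) (Steps.fwd (nat_lit 98304) (Steps.fwd (nat_lit 90112) (Steps.fwd (nat_lit 81920) (Steps.bwd (nat_lit 9) (Steps.fwd (nat_lit 65536) (Steps.bwd (nat_lit 5) (Steps.bwd (nat_lit 4) Steps.nil)))))))))) (nat_lit 183) (nat_lit 9),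
  Rule.mk (nat_lit 0) (nat_lit 194) (Steps.bwd (nat_lit 16) (Steps.fwd (nat_lit 8192) (Steps.bwd (nat_lit 3) (Steps.fwd (nat_lit 8192) (Steps.bwd (nat_lit 3) (Steps.fwd (nat_lit 8192) (Steps.bwd (nat_lit 3) (Steps.fwd (nat_lit 8192) (Steps.bwd (nat_lit 2) (Steps.fwd (nat_lit 32768) (Steps.fwd (nat_lit 8192) (Steps.bwd (nat_lit 2) Steps.nil)))))))))))) (nat_lit 190) (nat_lit 0),
  Rule.mk (nat_lit 0) (nat_lit 194) (Steps.bwd (nat_lit 17) (Steps.fwd (nat_lit 24576) (Steps.fwd (nat_lit 8192) (Steps.bwd (nat_lit 2) (Steps.fwd (nat_lit 8192) (Steps.fwd (nat_lit 16384) (Steps.bwd (nat_lit 1) (Steps.bwd (nat_lit 3) (Steps.fwd (nat_lit 8192) (Steps.fwd (nat_lit 32768) (Steps.bwd (nat_lit 2) (Steps.fwd (nat_lit 8192) Steps.nil)))))))))))) (nat_lit 193) (nat_lit 11),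
  Rule.mk (nat_lit 0) (nat_lit 194) (Steps.bwd (nat_lit 19) (Steps.fwd (nat_lit 16384) (Steps.bwd (nat_lit 4) (Steps.bwd (nat_lit 1) (Steps.fwd (nat_lit 24576) (Steps.fwd (nat_lit 8192) (Steps.bwd (nat_lit 2) (Steps.fwd (nat_lit 8192) (Steps.fwd (nat_lit 16384) (Steps.bwd (nat_lit 1) (Steps.bwd (nat_lit 3) (Steps.fwd (nat_lit 8192) Steps.nil)))))))))))) (nat_lit 195) (nat_lit 11),
  Rule.mk (nat_lit 11) (nat_lit 104) (Steps.bwd (nat_lit 6) (Steps.fwd (nat_lit 8192) (Steps.bwd (nat_lit 11) (Steps.fwd (nat_lit 8192) (Steps.fwd (nat_lit 114688) (Steps.fwd (nat_lit 98304) Steps.nil)))))) (nat_lit 161) (nat_lit 3),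
  Rule.mk (nat_lit 1) (nat_lit 134) (Steps.bwd (nat_lit 6) (Steps.fwd (nat_lit 81920) (Steps.bwd (nat_lit 11) (Steps.bwd (nat_lit 12) (Steps.bwd (nat_lit 13) (Steps.bwd (nat_lit 14) (Steps.fwd (nat_lit 8192) (Steps.fwd (nat_lit 114688) Steps.nil)))))))) (nat_lit 166) (nat_lit 3),
  Rule.mk (nat_lit 3) (nat_lit 134) (Steps.bwd (nat_lit 6) (Steps.bwd (nat_lit 10) (Steps.fwd (nat_lit 90112) (Steps.bwd (nat_lit 12) (Steps.bwd (nat_lit 13) (Steps.bwd (nat_lit 14) (Steps.bwd (nat_lit 2) (Steps.bwd (nat_lit 13) Steps.nil)))))))) (nat_lit 186) (nat_lit 3),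
  Rule.mk (nat_lit 15) (nat_lit 179) (Steps.bwd (nat_lit 3) (Steps.bwd (nat_lit 1) (Steps.fwd (nat_lit 32768) (Steps.bwd (nat_lit 3) (Steps.bwd (nat_lit 1) (Steps.fwd (nat_lit 24576) (Steps.fwd (nat_lit 8192) (Steps.fwd (nat_lit 24576) (Steps.fwd (nat_lit 8192) (Steps.bwd (nat_lit 2) (Steps.bwd (nat_lit 1) Steps.nil))))))))))) (nat_lit 191) (nat_lit 0),
  Rule.mk (nat_lit 15) (nat_lit 179) (Steps.bwd (nat_lit 3) (Steps.bwd (nat_lit 1) (Steps.bwd (nat_lit 4) (Steps.fwd (nat_lit 16384) (Steps.fwd (nat_lit 8192) (Steps.fwd (nat_lit 24576) (Steps.bwd (nat_lit 1) (Steps.fwd (nat_lit 24576) (Steps.bwd (nat_lit 1) (Steps.bwd (nat_lit 2) (Steps.bwd (nat_lit 1) Steps.nil))))))))))) (nat_lit 191) (nat_lit 0),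
  Rule.mk (nat_lit 18) (nat_lit 179) (Steps.fwd (nat_lit 8192) (Steps.fwd (nat_lit 16384) (Steps.fwd (nat_lit 32768) (Steps.bwd (nat_lit 1) (Steps.fwd (nat_lit 24576) (Steps.fwd (nat_lit 8192) (Steps.bwd (nat_lit 2) (Steps.fwd (nat_lit 8192) (Steps.fwd (nat_lit 16384) (Steps.fwd (nat_lit 8192) (Steps.bwd (nat_lit 3) Steps.nil))))))))))) (nat_lit 192) (nat_lit 1),
  Rule.mk (nat_lit 9) (nat_lit 59) (Steps.bwd (nat_lit 6) (Steps.bwd (nat_lit 9) (Steps.bwd (nat_lit 6) Steps.nil))) (nat_lit 60) (nat_lit 1),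
  Rule.mk (nat_lit 1) (nat_lit 149) (Steps.bwd (nat_lit 6) (Steps.bwd (nat_lit 1) (Steps.fwd (nat_lit 32768) (Steps.bwd (nat_lit 5) (Steps.bwd (nat_lit 8) (Steps.bwd (nat_lit 9) (Steps.bwd (nat_lit 12) (Steps.bwd (nat_lit 13) (Steps.bwd (nat_lit 14) Steps.nil))))))))) (nat_lit 150) (nat_lit 1),
  Rule.mk (nat_lit 0) (nat_lit 194) (Steps.fwd (nat_lit 16384) (Steps.bwd (nat_lit 1) (Steps.fwd (nat_lit 32768) (Steps.bwd (nat_lit 3) (Steps.bwd (nat_lit 1) (Steps.fwd (nat_lit 24576) (Steps.bwd (nat_lit 1) (Steps.fwd (nat_lit 24576) (Steps.fwd (nat_lit 8192) (Steps.bwd (nat_lit 2) (Steps.bwd (nat_lit 1) (Steps.fwd (nat_lit 131072) Steps.nil)))))))))))) (nat_lit 191) (nat_lit 0),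
  Rule.mk (nat_lit 16) (nat_lit 179) (Steps.bwd (nat_lit 1) (Steps.bwd (nat_lit 3) (Steps.bwd (nat_lit 1) (Steps.bwd (nat_lit 3) (Steps.bwd (nat_lit 1) (Steps.bwd (nat_lit 3) (Steps.bwd (nat_lit 1) (Steps.bwd (nat_lit 2) (Steps.bwd (nat_lit 4) (Steps.fwd (nat_lit 8192) (Steps.fwd (nat_lit 24576) Steps.nil))))))))))) (nat_lit 190) (nat_lit 1),
  Rule.mk (nat_lit 15) (nat_lit 179) (Steps.bwd (nat_lit 3) (Steps.bwd (nat_lit 1) (Steps.bwd (nat_lit 4) (Steps.bwd (nat_lit 3) (Steps.bwd (nat_lit 1) (Steps.bwd (nat_lit 2) (Steps.fwd (nat_lit 8192) (Steps.fwd (nat_lit 24576) (Steps.fwd (nat_lit 8192) (Steps.bwd (nat_lit 2) (Steps.fwd (nat_lit 8192) Steps.nil))))))))))) (nat_lit 191) (nat_lit 0),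
  Rule.mk (nat_lit 2) (nat_lit 179) (Steps.fwd (nat_lit 8192) (Steps.bwd (nat_lit 2) (Steps.bwd (nat_lit 1) (Steps.bwd (nat_lit 3) (Steps.bwd (nat_lit 1) (Steps.bwd (nat_lit 3) (Steps.bwd (nat_lit 1) (Steps.bwd (nat_lit 4) (Steps.fwd (nat_lit 24576) (Steps.fwd (nat_lit 8192) (Steps.fwd (nat_lit 147456) Steps.nil))))))))))) (nat_lit 193) (nat_lit 1),
  Rule.mk (nat_lit 1) (nat_lit 179) (Steps.bwd (nat_lit 2) (Steps.fwd (nat_lit 8192) (Steps.bwd (nat_lit 2) (Steps.bwd (nat_lit 1) (Steps.bwd (nat_lit 3) (Steps.bwd (nat_lit 1) (Steps.bwd (nat_lit 3) (Steps.bwd (nat_lit 1) (Steps.bwd (nat_lit 4) (Steps.fwd (nat_lit 24576) (Steps.fwd (nat_lit 155648) Steps.nil))))))))))) (nat_lit 194) (nat_lit 2),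
  Rule.mk (nat_lit 9) (nat_lit 104) (Steps.bwd (nat_lit 2) (Steps.fwd (nat_lit 98304) (Steps.fwd (nat_lit 16384) (Steps.fwd (nat_lit 32768) (Steps.fwd (nat_lit 40960) (Steps.bwd (nat_lit 8) Steps.nil)))))) (nat_lit 184) (nat_lit 0),
  Rule.mk (nat_lit 5) (nat_lit 119) (Steps.bwd (nat_lit 2) (Steps.fwd (nat_lit 114688) (Steps.fwd (nat_lit 16384) (Steps.bwd (nat_lit 14) (Steps.bwd (nat_lit 12) (Steps.bwd (nat_lit 7) (Steps.bwd (nat_lit 6) Steps.nil))))))) (nat_lit 189) (nat_lit 5),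
  Rule.mk (nat_lit 0) (nat_lit 74) (Steps.bwd (nat_lit 1) (Steps.fwd (nat_lit 40960) (Steps.fwd (nat_lit 8192) (Steps.bwd (nat_lit 4) Steps.nil)))) (nat_lit 146) (nat_lit 2),
  Rule.mk (nat_lit 15) (nat_lit 179) (Steps.fwd (nat_lit 16384) (Steps.bwd (nat_lit 1) (Steps.fwd (nat_lit 32768) (Steps.bwd (nat_lit 3) (Steps.fwd (nat_lit 8192) (Steps.fwd (nat_lit 24576) (Steps.bwd (nat_lit 1) (Steps.fwd (nat_lit 24576) (Steps.bwd (nat_lit 1) (Steps.bwd (nat_lit 2) (Steps.fwd (nat_lit 8192) Steps.nil))))))))))) (nat_lit 191) (nat_lit 0),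
  Rule.mk (nat_lit 0) (nat_lit 194) (Steps.bwd (nat_lit 20) (Steps.fwd (nat_lit 8192) (Steps.fwd (nat_lit 24576) (Steps.fwd (nat_lit 8192) (Steps.fwd (nat_lit 24576) (Steps.fwd (nat_lit 8192) (Steps.fwd (nat_lit 16384) (Steps.bwd (nat_lit 1) (Steps.fwd (nat_lit 16384) (Steps.bwd (nat_lit 1) (Steps.fwd (nat_lit 32768) (Steps.bwd (nat_lit 2) Steps.nil)))))))))))) (nat_lit 194) (nat_lit 0),
  Rule.mk (nat_lit 2) (nat_lit 104) (Steps.bwd (nat_lit 7) (Steps.bwd (nat_lit 3) (Steps.fwd (nat_lit 40960) (Steps.bwd (nat_lit 7) (Steps.fwd (nat_lit 106496) (Steps.bwd (nat_lit 14) Steps.nil)))))) (nat_lit 174) (nat_lit 1),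
  Rule.mk (nat_lit 16) (nat_lit 179) (Steps.fwd (nat_lit 8192) (Steps.bwd (nat_lit 3) (Steps.bwd (nat_lit 1) (Steps.fwd (nat_lit 16384) (Steps.bwd (nat_lit 1) (Steps.bwd (nat_lit 3) (Steps.fwd (nat_lit 8192) (Steps.bwd (nat_lit 2) (Steps.bwd (nat_lit 4) (Steps.fwd (nat_lit 8192) (Steps.bwd (nat_lit 2) Steps.nil))))))))))) (nat_lit 190) (nat_lit 1),
  Rule.mk (nat_lit 1) (nat_lit 179) (Steps.bwd (nat_lit 15) (Steps.bwd (nat_lit 3) (Steps.fwd (nat_lit 8192) (Steps.fwd (nat_lit 32768) (Steps.fwd (nat_lit 16384) (Steps.bwd (nat_lit 1) (Steps.fwd (nat_lit 24576) (Steps.fwd (nat_lit 8192) (Steps.fwd (nat_lit 24576) (Steps.fwd (nat_lit 8192) (Steps.bwd (nat_lit 2) Steps.nil))))))))))) (nat_lit 191) (nat_lit 11),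
  Rule.mk (nat_lit 20) (nat_lit 179) (Steps.fwd (nat_lit 8192) (Steps.fwd (nat_lit 24576) (Steps.bwd (nat_lit 1) (Steps.bwd (nat_lit 2) (Steps.fwd (nat_lit 8192) (Steps.bwd (nat_lit 3) (Steps.fwd (nat_lit 8192) (Steps.bwd (nat_lit 3) (Steps.fwd (nat_lit 8192) (Steps.bwd (nat_lit 4) (Steps.bwd (nat_lit 2) Steps.nil))))))))))) (nat_lit 194) (nat_lit 1),
  Rule.mk (nat_lit 9) (nat_lit 104) (Steps.bwd (nat_lit 8) (Steps.fwd (nat_lit 40960) (Steps.bwd (nat_lit 4) (Steps.bwd (nat_lit 1) (Steps.bwd (nat_lit 13) (Steps.bwd (nat_lit 1) Steps.nil)))))) (nat_lit 165) (nat_lit 1),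
  Rule.mk (nat_lit 13) (nat_lit 104) (Steps.fwd (nat_lit 8192) (Steps.fwd (nat_lit 73728) (Steps.bwd (nat_lit 8) (Steps.bwd (nat_lit 5) (Steps.bwd (nat_lit 4) (Steps.bwd (nat_lit 1) Steps.nil)))))) (nat_lit 165) (nat_lit 6),
  Rule.mk (nat_lit 7) (nat_lit 164) (Steps.fwd (nat_lit 8192) (Steps.bwd (nat_lit 5) (Steps.bwd (nat_lit 6) (Steps.fwd (nat_lit 73728) (Steps.bwd (nat_lit 10) (Steps.bwd (nat_lit 11) (Steps.fwd (nat_lit 98304) (Steps.fwd (nat_lit 106496) (Steps.bwd (nat_lit 14) (Steps.bwd (nat_lit 1) Steps.nil)))))))))) (nat_lit 152) (nat_lit 2),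
  Rule.mk (nat_lit 12) (nat_lit 164) (Steps.bwd (nat_lit 1) (Steps.fwd (nat_lit 32768) (Steps.bwd (nat_lit 5) (Steps.fwd (nat_lit 65536) (Steps.bwd (nat_lit 9) (Steps.fwd (nat_lit 81920) (Steps.bwd (nat_lit 11) (Steps.fwd (nat_lit 98304) (Steps.bwd (nat_lit 14) (Steps.bwd (nat_lit 1) Steps.nil)))))))))) (nat_lit 162) (nat_lit 2),
  Rule.mk (nat_lit 2) (nat_lit 179) (Steps.bwd (nat_lit 16) (Steps.fwd (nat_lit 8192) (Steps.bwd (nat_lit 3) (Steps.fwd (nat_lit 8192) (Steps.bwd (nat_lit 3) (Steps.fwd (nat_lit 8192) (Steps.bwd (nat_lit 3) (Steps.fwd (nat_lit 8192) (Steps.fwd (nat_lit 24576) (Steps.bwd (nat_lit 4) (Steps.bwd (nat_lit 1) Steps.nil))))))))))) (nat_lit 190) (nat_lit 0),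
  Rule.mk (nat_lit 1) (nat_lit 179) (Steps.bwd (nat_lit 15) (Steps.fwd (nat_lit 16384) (Steps.fwd (nat_lit 8192) (Steps.fwd (nat_lit 32768) (Steps.bwd (nat_lit 3) (Steps.fwd (nat_lit 8192) (Steps.fwd (nat_lit 24576) (Steps.fwd (nat_lit 8192) (Steps.bwd (nat_lit 2) (Steps.bwd (nat_lit 1) (Steps.bwd (nat_lit 2) Steps.nil))))))))))) (nat_lit 191) (nat_lit 11),
  Rule.mk (nat_lit 15) (nat_lit 179) (Steps.fwd (nat_lit 16384) (Steps.bwd (nat_lit 1) (Steps.bwd (nat_lit 4) (Steps.fwd (nat_lit 16384) (Steps.fwd (nat_lit 8192) (Steps.bwd (nat_lit 2) (Steps.bwd (nat_lit 1) (Steps.fwd (nat_lit 24576) (Steps.bwd (nat_lit 1) (Steps.bwd (nat_lit 2) (Steps.fwd (nat_lit 8192) Steps.nil))))))))))) (nat_lit 191) (nat_lit 0),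
  Rule.mk (nat_lit 17) (nat_lit 179) (Steps.fwd (nat_lit 24576) (Steps.bwd (nat_lit 1) (Steps.bwd (nat_lit 2) (Steps.fwd (nat_lit 8192) (Steps.fwd (nat_lit 16384) (Steps.fwd (nat_lit 8192) (Steps.bwd (nat_lit 3) (Steps.fwd (nat_lit 8192) (Steps.fwd (nat_lit 32768) (Steps.bwd (nat_lit 2) (Steps.bwd (nat_lit 1) Steps.nil))))))))))) (nat_lit 193) (nat_lit 0),
  Rule.mk (nat_lit 10) (nat_lit 104) (Steps.fwd (nat_lit 16384) (Steps.fwd (nat_lit 114688) (Steps.bwd (nat_lit 12) (Steps.bwd (nat_lit 11) (Steps.fwd (nat_lit 49152) (Steps.bwd (nat_lit 2) Steps.nil)))))) (nat_lit 181) (nat_lit 6),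
  Rule.mk (nat_lit 14) (nat_lit 119) (Steps.bwd (nat_lit 12) (Steps.fwd (nat_lit 57344) (Steps.bwd (nat_lit 6) (Steps.fwd (nat_lit 40960) (Steps.fwd (nat_lit 24576) (Steps.fwd (nat_lit 114688) (Steps.fwd (nat_lit 16384) Steps.nil))))))) (nat_lit 189) (nat_lit 1),
  Rule.mk (nat_lit 11) (nat_lit 164) (Steps.bwd (nat_lit 12) (Steps.bwd (nat_lit 13) (Steps.fwd (nat_lit 114688) (Steps.fwd (nat_lit 24576) (Steps.fwd (nat_lit 49152) (Steps.bwd (nat_lit 3) (Steps.fwd (nat_lit 40960) (Steps.fwd (nat_lit 49152) (Steps.fwd (nat_lit 73728) (Steps.bwd (nat_lit 10) Steps.nil)))))))))) (nat_lit 172) (nat_lit 8)]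
noncomputable def R_61 : List (Rule) := [Rule.mk (nat_lit 10) (nat_lit 134) (Steps.fwd (nat_lit 8192) (Steps.bwd (nat_lit 4) (Steps.fwd (nat_lit 40960) (Steps.bwd (nat_lit 8) (Steps.bwd (nat_lit 9) (Steps.bwd (nat_lit 11) (Steps.bwd (nat_lit 14) (Steps.bwd (nat_lit 1) Steps.nil)))))))) (nat_lit 158) (nat_lit 2),
  Rule.mk (nat_lit 14) (nat_lit 134) (Steps.bwd (nat_lit 1) (Steps.bwd (nat_lit 6) (Steps.bwd (nat_lit 10) (Steps.bwd (nat_lit 11) (Steps.fwd (nat_lit 98304) (Steps.fwd (nat_lit 106496) (Steps.bwd (nat_lit 14) (Steps.bwd (nat_lit 1) Steps.nil)))))))) (nat_lit 166) (nat_lit 2),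
  Rule.mk (nat_lit 15) (nat_lit 179) (Steps.fwd (nat_lit 16384) (Steps.fwd (nat_lit 8192) (Steps.fwd (nat_lit 32768) (Steps.bwd (nat_lit 3) (Steps.fwd (nat_lit 8192) (Steps.bwd (nat_lit 2) (Steps.bwd (nat_lit 1) (Steps.fwd (nat_lit 24576) (Steps.fwd (nat_lit 8192) (Steps.bwd (nat_lit 2) (Steps.fwd (nat_lit 8192) Steps.nil))))))))))) (nat_lit 191) (nat_lit 0),
  Rule.mk (nat_lit 16) (nat_lit 179) (Steps.fwd (nat_lit 8192) (Steps.bwd (nat_lit 3) (Steps.bwd (nat_lit 1) (Steps.bwd (nat_lit 3) (Steps.bwd (nat_lit 1) (Steps.fwd (nat_lit 16384) (Steps.fwd (nat_lit 8192) (Steps.fwd (nat_lit 24576) (Steps.fwd (nat_lit 32768) (Steps.fwd (nat_lit 8192) (Steps.bwd (nat_lit 2) Steps.nil))))))))))) (nat_lit 190) (nat_lit 1),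
  Rule.mk (nat_lit 0) (nat_lit 194) (Steps.bwd (nat_lit 15) (Steps.bwd (nat_lit 3) (Steps.fwd (nat_lit 8192) (Steps.fwd (nat_lit 32768) (Steps.fwd (nat_lit 16384) (Steps.bwd (nat_lit 1) (Steps.fwd (nat_lit 24576) (Steps.fwd (nat_lit 8192) (Steps.bwd (nat_lit 2) (Steps.fwd (nat_lit 8192) (Steps.bwd (nat_lit 2) (Steps.fwd (nat_lit 8192) Steps.nil)))))))))))) (nat_lit 191) (nat_lit 11),
  Rule.mk (nat_lit 0) (nat_lit 194) (Steps.bwd (nat_lit 15) (Steps.fwd (nat_lit 16384) (Steps.fwd (nat_lit 8192) (Steps.fwd (nat_lit 32768) (Steps.bwd (nat_lit 3) (Steps.fwd (nat_lit 8192) (Steps.bwd (nat_lit 2) (Steps.fwd (nat_lit 8192) (Steps.bwd (nat_lit 2) (Steps.fwd (nat_lit 8192) (Steps.fwd (nat_lit 24576) (Steps.fwd (nat_lit 8192) Steps.nil)))))))))))) (nat_lit 191) (nat_lit 11),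
  Rule.mk (nat_lit 18) (nat_lit 179) (Steps.bwd (nat_lit 1) (Steps.bwd (nat_lit 3) (Steps.fwd (nat_lit 32768) (Steps.fwd (nat_lit 8192) (Steps.bwd (nat_lit 2) (Steps.fwd (nat_lit 8192) (Steps.bwd (nat_lit 2) (Steps.fwd (nat_lit 8192) (Steps.fwd (nat_lit 16384) (Steps.bwd (nat_lit 1) (Steps.bwd (nat_lit 3) Steps.nil))))))))))) (nat_lit 192) (nat_lit 1),
  Rule.mk (nat_lit 17) (nat_lit 179) (Steps.bwd (nat_lit 2) (Steps.fwd (nat_lit 8192) (Steps.bwd (nat_lit 2) (Steps.fwd (nat_lit 8192) (Steps.fwd (nat_lit 16384) (Steps.bwd (nat_lit 1) (Steps.bwd (nat_lit 3) (Steps.bwd (nat_lit 1) (Steps.bwd (nat_lit 4) (Steps.bwd (nat_lit 2) (Steps.bwd (nat_lit 1) Steps.nil))))))))))) (nat_lit 193) (nat_lit 0),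
  Rule.mk (nat_lit 20) (nat_lit 179) (Steps.fwd (nat_lit 8192) (Steps.bwd (nat_lit 2) (Steps.fwd (nat_lit 8192) (Steps.bwd (nat_lit 2) (Steps.fwd (nat_lit 8192) (Steps.fwd (nat_lit 16384) (Steps.bwd (nat_lit 1) (Steps.bwd (nat_lit 3) (Steps.bwd (nat_lit 1) (Steps.bwd (nat_lit 4) (Steps.bwd (nat_lit 2) Steps.nil))))))))))) (nat_lit 194) (nat_lit 1),
  Rule.mk (nat_lit 19) (nat_lit 179) (Steps.bwd (nat_lit 3) (Steps.fwd (nat_lit 32768) (Steps.fwd (nat_lit 8192) (Steps.bwd (nat_lit 2) (Steps.fwd (nat_lit 8192) (Steps.bwd (nat_lit 2) (Steps.fwd (nat_lit 8192) (Steps.fwd (nat_lit 16384) (Steps.bwd (nat_lit 1) (Steps.bwd (nat_lit 3) (Steps.bwd (nat_lit 1) Steps.nil))))))))))) (nat_lit 195) (nat_lit 0),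
  Rule.mk (nat_lit 2) (nat_lit 164) (Steps.bwd (nat_lit 11) (Steps.bwd (nat_lit 3) (Steps.bwd (nat_lit 4) (Steps.fwd (nat_lit 40960) (Steps.bwd (nat_lit 8) (Steps.fwd (nat_lit 73728) (Steps.bwd (nat_lit 10) (Steps.bwd (nat_lit 11) (Steps.bwd (nat_lit 12) (Steps.bwd (nat_lit 14) Steps.nil)))))))))) (nat_lit 182) (nat_lit 1),
  Rule.mk (nat_lit 0) (nat_lit 194) (Steps.fwd (nat_lit 16384) (Steps.fwd (nat_lit 8192) (Steps.bwd (nat_lit 4) (Steps.fwd (nat_lit 16384) (Steps.fwd (nat_lit 8192) (Steps.bwd (nat_lit 2) (Steps.fwd (nat_lit 8192) (Steps.fwd (nat_lit 24576) (Steps.bwd (nat_lit 1) (Steps.fwd (nat_lit 24576) (Steps.fwd (nat_lit 8192) (Steps.fwd (nat_lit 131072) Steps.nil)))))))))))) (nat_lit 191) (nat_lit 0),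
  Rule.mk (nat_lit 2) (nat_lit 59) (Steps.bwd (nat_lit 0) (Steps.fwd (nat_lit 16384) (Steps.fwd (nat_lit 0) Steps.nil))) (nat_lit 196) (nat_lit 0),
  Rule.mk (nat_lit 15) (nat_lit 179) (Steps.bwd (nat_lit 3) (Steps.bwd (nat_lit 1) (Steps.bwd (nat_lit 4) (Steps.bwd (nat_lit 3) (Steps.fwd (nat_lit 8192) (Steps.bwd (nat_lit 2) (Steps.fwd (nat_lit 8192) (Steps.fwd (nat_lit 24576) (Steps.bwd (nat_lit 1) (Steps.bwd (nat_lit 2) (Steps.fwd (nat_lit 8192) Steps.nil))))))))))) (nat_lit 191) (nat_lit 0),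
  Rule.mk (nat_lit 18) (nat_lit 179) (Steps.bwd (nat_lit 1) (Steps.fwd (nat_lit 16384) (Steps.fwd (nat_lit 32768) (Steps.fwd (nat_lit 8192) (Steps.fwd (nat_lit 24576) (Steps.bwd (nat_lit 1) (Steps.bwd (nat_lit 2) (Steps.fwd (nat_lit 8192) (Steps.bwd (nat_lit 3) (Steps.bwd (nat_lit 1) (Steps.fwd (nat_lit 16384) Steps.nil))))))))))) (nat_lit 192) (nat_lit 1),
  Rule.mk (nat_lit 18) (nat_lit 179) (Steps.bwd (nat_lit 1) (Steps.bwd (nat_lit 3) (Steps.fwd (nat_lit 32768) (Steps.bwd (nat_lit 1) (Steps.bwd (nat_lit 2) (Steps.fwd (nat_lit 8192) (Steps.fwd (nat_lit 24576) (Steps.bwd (nat_lit 1) (Steps.fwd (nat_lit 16384) (Steps.bwd (nat_lit 1) (Steps.bwd (nat_lit 3) Steps.nil))))))))))) (nat_lit 192) (nat_lit 1),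
  Rule.mk (nat_lit 17) (nat_lit 179) (Steps.fwd (nat_lit 24576) (Steps.bwd (nat_lit 1) (Steps.bwd (nat_lit 2) (Steps.fwd (nat_lit 8192) (Steps.bwd (nat_lit 3) (Steps.bwd (nat_lit 1) (Steps.fwd (nat_lit 16384) (Steps.bwd (nat_lit 1) (Steps.fwd (nat_lit 32768) (Steps.bwd (nat_lit 2) (Steps.fwd (nat_lit 8192) Steps.nil))))))))))) (nat_lit 193) (nat_lit 0),
  Rule.mk (nat_lit 0) (nat_lit 194) (Steps.bwd (nat_lit 2) (Steps.fwd (nat_lit 8192) (Steps.fwd (nat_lit 24576) (Steps.bwd (nat_lit 1) (Steps.fwd (nat_lit 16384) (Steps.bwd (nat_lit 1) (Steps.bwd (nat_lit 3) (Steps.fwd (nat_lit 8192) (Steps.bwd (nat_lit 4) (Steps.fwd (nat_lit 24576) (Steps.fwd (nat_lit 8192) (Steps.fwd (nat_lit 147456) Steps.nil)))))))))))) (nat_lit 193) (nat_lit 0),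
  Rule.mk (nat_lit 20) (nat_lit 179) (Steps.fwd (nat_lit 8192) (Steps.fwd (nat_lit 24576) (Steps.bwd (nat_lit 1) (Steps.bwd (nat_lit 2) (Steps.fwd (nat_lit 8192) (Steps.bwd (nat_lit 3) (Steps.bwd (nat_lit 1) (Steps.fwd (nat_lit 16384) (Steps.bwd (nat_lit 1) (Steps.fwd (nat_lit 32768) (Steps.bwd (nat_lit 2) Steps.nil))))))))))) (nat_lit 194) (nat_lit 1),
  Rule.mk (nat_lit 0) (nat_lit 194) (Steps.bwd (nat_lit 19) (Steps.bwd (nat_lit 3) (Steps.fwd (nat_lit 32768) (Steps.bwd (nat_lit 1) (Steps.fwd (nat_lit 24576) (Steps.fwd (nat_lit 8192) (Steps.bwd (nat_lit 2) (Steps.fwd (nat_lit 8192) (Steps.bwd (nat_lit 3) (Steps.bwd (nat_lit 1) (Steps.fwd (nat_lit 16384) (Steps.fwd (nat_lit 8192) Steps.nil)))))))))))) (nat_lit 195) (nat_lit 11),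
  Rule.mk (nat_lit 19) (nat_lit 179) (Steps.fwd (nat_lit 16384) (Steps.fwd (nat_lit 32768) (Steps.fwd (nat_lit 8192) (Steps.fwd (nat_lit 24576) (Steps.bwd (nat_lit 1) (Steps.bwd (nat_lit 2) (Steps.fwd (nat_lit 8192) (Steps.bwd (nat_lit 3) (Steps.bwd (nat_lit 1) (Steps.fwd (nat_lit 16384) (Steps.bwd (nat_lit 1) Steps.nil))))))))))) (nat_lit 195) (nat_lit 0),
  Rule.mk (nat_lit 19) (nat_lit 179) (Steps.bwd (nat_lit 3) (Steps.fwd (nat_lit 32768) (Steps.bwd (nat_lit 1) (Steps.bwd (nat_lit 2) (Steps.fwd (nat_lit 8192) (Steps.fwd (nat_lit 24576) (Steps.bwd (nat_lit 1) (Steps.fwd (nat_lit 16384) (Steps.bwd (nat_lit 1) (Steps.bwd (nat_lit 3) (Steps.fwd (nat_lit 8192) Steps.nil))))))))))) (nat_lit 195) (nat_lit 0),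
  Rule.mk (nat_lit 17) (nat_lit 179) (Steps.fwd (nat_lit 24576) (Steps.bwd (nat_lit 1) (Steps.fwd (nat_lit 24576) (Steps.fwd (nat_lit 8192) (Steps.bwd (nat_lit 3) (Steps.bwd (nat_lit 1) (Steps.fwd (nat_lit 16384) (Steps.bwd (nat_lit 1) (Steps.bwd (nat_lit 4) (Steps.fwd (nat_lit 24576) (Steps.bwd (nat_lit 1) Steps.nil))))))))))) (nat_lit 193) (nat_lit 0),
  Rule.mk (nat_lit 3) (nat_lit 104) (Steps.bwd (nat_lit 6) (Steps.bwd (nat_lit 11) (Steps.bwd (nat_lit 12) (Steps.bwd (nat_lit 14) (Steps.bwd (nat_lit 2) (Steps.fwd (nat_lit 81920) Steps.nil)))))) (nat_lit 180) (nat_lit 3),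
  Rule.mk (nat_lit 7) (nat_lit 164) (Steps.bwd (nat_lit 1) (Steps.bwd (nat_lit 5) (Steps.bwd (nat_lit 6) (Steps.bwd (nat_lit 9) (Steps.bwd (nat_lit 10) (Steps.bwd (nat_lit 11) (Steps.bwd (nat_lit 12) (Steps.bwd (nat_lit 13) (Steps.fwd (nat_lit 114688) (Steps.fwd (nat_lit 8192) Steps.nil)))))))))) (nat_lit 152) (nat_lit 2),
  Rule.mk (nat_lit 12) (nat_lit 164) (Steps.bwd (nat_lit 1) (Steps.bwd (nat_lit 4) (Steps.fwd (nat_lit 40960) (Steps.fwd (nat_lit 65536) (Steps.bwd (nat_lit 9) (Steps.bwd (nat_lit 10) (Steps.fwd (nat_lit 90112) (Steps.bwd (nat_lit 12) (Steps.fwd (nat_lit 114688) (Steps.fwd (nat_lit 8192) Steps.nil)))))))))) (nat_lit 162) (nat_lit 2),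
  Rule.mk (nat_lit 0) (nat_lit 194) (Steps.bwd (nat_lit 18) (Steps.bwd (nat_lit 1) (Steps.bwd (nat_lit 3) (Steps.bwd (nat_lit 4) (Steps.bwd (nat_lit 1) (Steps.bwd (nat_lit 2) (Steps.fwd (nat_lit 8192) (Steps.fwd (nat_lit 24576) (Steps.bwd (nat_lit 1) (Steps.bwd (nat_lit 3) (Steps.fwd (nat_lit 8192) (Steps.fwd (nat_lit 16384) Steps.nil)))))))))))) (nat_lit 192) (nat_lit 0),
  Rule.mk (nat_lit 0) (nat_lit 194) (Steps.bwd (nat_lit 20) (Steps.bwd (nat_lit 1) (Steps.bwd (nat_lit 2) (Steps.bwd (nat_lit 1) (Steps.fwd (nat_lit 24576) (Steps.fwd (nat_lit 8192) (Steps.bwd (nat_lit 3) (Steps.bwd (nat_lit 1) (Steps.fwd (nat_lit 16384) (Steps.fwd (nat_lit 8192) (Steps.fwd (nat_lit 32768) (Steps.fwd (nat_lit 24576) Steps.nil)))))))))))) (nat_lit 194) (nat_lit 0),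
  Rule.mk (nat_lit 3) (nat_lit 104) (Steps.fwd (nat_lit 32768) (Steps.bwd (nat_lit 5) (Steps.fwd (nat_lit 65536) (Steps.fwd (nat_lit 73728) (Steps.bwd (nat_lit 2) (Steps.bwd (nat_lit 12) Steps.nil)))))) (nat_lit 184) (nat_lit 3),
  Rule.mk (nat_lit 2) (nat_lit 179) (Steps.bwd (nat_lit 16) (Steps.fwd (nat_lit 8192) (Steps.bwd (nat_lit 3) (Steps.bwd (nat_lit 1) (Steps.bwd (nat_lit 3) (Steps.bwd (nat_lit 1) (Steps.bwd (nat_lit 3) (Steps.bwd (nat_lit 1) (Steps.bwd (nat_lit 2) (Steps.fwd (nat_lit 32768) (Steps.bwd (nat_lit 1) Steps.nil))))))))))) (nat_lit 190) (nat_lit 0),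
  Rule.mk (nat_lit 0) (nat_lit 194) (Steps.bwd (nat_lit 15) (Steps.fwd (nat_lit 16384) (Steps.bwd (nat_lit 1) (Steps.bwd (nat_lit 4) (Steps.bwd (nat_lit 3) (Steps.bwd (nat_lit 1) (Steps.bwd (nat_lit 2) (Steps.fwd (nat_lit 8192) (Steps.fwd (nat_lit 24576) (Steps.bwd (nat_lit 1) (Steps.fwd (nat_lit 24576) (Steps.bwd (nat_lit 1) Steps.nil)))))))))))) (nat_lit 191) (nat_lit 11),
  Rule.mk (nat_lit 15) (nat_lit 179) (Steps.bwd (nat_lit 3) (Steps.bwd (nat_lit 1) (Steps.bwd (nat_lit 4) (Steps.fwd (nat_lit 16384) (Steps.fwd (nat_lit 8192) (Steps.bwd (nat_lit 2) (Steps.bwd (nat_lit 1) (Steps.fwd (nat_lit 24576) (Steps.bwd (nat_lit 1) (Steps.fwd (nat_lit 24576) (Steps.fwd (nat_lit 8192) Steps.nil))))))))))) (nat_lit 191) (nat_lit 0),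
  Rule.mk (nat_lit 18) (nat_lit 179) (Steps.bwd (nat_lit 1) (Steps.fwd (nat_lit 16384) (Steps.bwd (nat_lit 4) (Steps.fwd (nat_lit 8192) (Steps.fwd (nat_lit 24576) (Steps.bwd (nat_lit 1) (Steps.fwd (nat_lit 24576) (Steps.bwd (nat_lit 1) (Steps.bwd (nat_lit 3) (Steps.bwd (nat_lit 1) (Steps.bwd (nat_lit 3) Steps.nil))))))))))) (nat_lit 192) (nat_lit 1),
  Rule.mk (nat_lit 0) (nat_lit 194) (Steps.bwd (nat_lit 18) (Steps.bwd (nat_lit 1) (Steps.bwd (nat_lit 3) (Steps.fwd (nat_lit 32768) (Steps.bwd (nat_lit 1) (Steps.bwd (nat_lit 2) (Steps.bwd (nat_lit 1) (Steps.fwd (nat_lit 24576) (Steps.fwd (nat_lit 8192) (Steps.bwd (nat_lit 3) (Steps.bwd (nat_lit 1) (Steps.fwd (nat_lit 16384) Steps.nil)))))))))))) (nat_lit 192) (nat_lit 0),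
  Rule.mk (nat_lit 17) (nat_lit 179) (Steps.fwd (nat_lit 24576) (Steps.bwd (nat_lit 1) (Steps.fwd (nat_lit 24576) (Steps.bwd (nat_lit 1) (Steps.bwd (nat_lit 3) (Steps.bwd (nat_lit 1) (Steps.bwd (nat_lit 3) (Steps.bwd (nat_lit 1) (Steps.bwd (nat_lit 4) (Steps.bwd (nat_lit 2) (Steps.bwd (nat_lit 1) Steps.nil))))))))))) (nat_lit 193) (nat_lit 0),
  Rule.mk (nat_lit 20) (nat_lit 179) (Steps.fwd (nat_lit 8192) (Steps.fwd (nat_lit 24576) (Steps.bwd (nat_lit 1) (Steps.fwd (nat_lit 24576) (Steps.bwd (nat_lit 1) (Steps.bwd (nat_lit 3) (Steps.bwd (nat_lit 1) (Steps.bwd (nat_lit 3) (Steps.bwd (nat_lit 1) (Steps.bwd (nat_lit 4) (Steps.bwd (nat_lit 2) Steps.nil))))))))))) (nat_lit 194) (nat_lit 1),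
  Rule.mk (nat_lit 0) (nat_lit 194) (Steps.bwd (nat_lit 19) (Steps.fwd (nat_lit 16384) (Steps.bwd (nat_lit 4) (Steps.fwd (nat_lit 8192) (Steps.fwd (nat_lit 24576) (Steps.bwd (nat_lit 1) (Steps.fwd (nat_lit 24576) (Steps.bwd (nat_lit 1) (Steps.bwd (nat_lit 3) (Steps.bwd (nat_lit 1) (Steps.bwd (nat_lit 3) (Steps.bwd (nat_lit 1) Steps.nil)))))))))))) (nat_lit 195) (nat_lit 11),
  Rule.mk (nat_lit 19) (nat_lit 179) (Steps.bwd (nat_lit 3) (Steps.fwd (nat_lit 32768) (Steps.bwd (nat_lit 1) (Steps.bwd (nat_lit 2) (Steps.bwd (nat_lit 1) (Steps.fwd (nat_lit 24576) (Steps.fwd (nat_lit 8192) (Steps.bwd (nat_lit 3) (Steps.bwd (nat_lit 1) (Steps.fwd (nat_lit 16384) (Steps.fwd (nat_lit 8192) Steps.nil))))))))))) (nat_lit 195) (nat_lit 0),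
  Rule.mk (nat_lit 10) (nat_lit 104) (Steps.bwd (nat_lit 3) (Steps.bwd (nat_lit 6) (Steps.bwd (nat_lit 11) (Steps.fwd (nat_lit 98304) (Steps.bwd (nat_lit 14) (Steps.bwd (nat_lit 2) Steps.nil)))))) (nat_lit 180) (nat_lit 2),
  Rule.mk (nat_lit 14) (nat_lit 119) (Steps.fwd (nat_lit 16384) (Steps.fwd (nat_lit 40960) (Steps.fwd (nat_lit 49152) (Steps.bwd (nat_lit 7) (Steps.fwd (nat_lit 98304) (Steps.bwd (nat_lit 14) (Steps.bwd (nat_lit 2) Steps.nil))))))) (nat_lit 188) (nat_lit 2),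
  Rule.mk (nat_lit 9) (nat_lit 134) (Steps.bwd (nat_lit 3) (Steps.fwd (nat_lit 114688) (Steps.bwd (nat_lit 11) (Steps.fwd (nat_lit 73728) (Steps.bwd (nat_lit 8) (Steps.fwd (nat_lit 40960) (Steps.bwd (nat_lit 4) (Steps.bwd (nat_lit 2) Steps.nil)))))))) (nat_lit 179) (nat_lit 8),
  Rule.mk (nat_lit 17) (nat_lit 179) (Steps.bwd (nat_lit 2) (Steps.fwd (nat_lit 8192) (Steps.fwd (nat_lit 24576) (Steps.fwd (nat_lit 8192) (Steps.fwd (nat_lit 16384) (Steps.bwd (nat_lit 1) (Steps.fwd (nat_lit 16384) (Steps.fwd (nat_lit 8192) (Steps.fwd (nat_lit 32768) (Steps.fwd (nat_lit 24576) (Steps.bwd (nat_lit 1) Steps.nil))))))))))) (nat_lit 193) (nat_lit 0),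
  Rule.mk (nat_lit 20) (nat_lit 179) (Steps.fwd (nat_lit 8192) (Steps.fwd (nat_lit 24576) (Steps.fwd (nat_lit 8192) (Steps.fwd (nat_lit 24576) (Steps.fwd (nat_lit 8192) (Steps.bwd (nat_lit 3) (Steps.bwd (nat_lit 1) (Steps.fwd (nat_lit 16384) (Steps.fwd (nat_lit 8192) (Steps.bwd (nat_lit 4) (Steps.bwd (nat_lit 2) Steps.nil))))))))))) (nat_lit 194) (nat_lit 1),
  Rule.mk (nat_lit 1) (nat_lit 104) (Steps.bwd (nat_lit 6) (Steps.bwd (nat_lit 11) (Steps.bwd (nat_lit 12) (Steps.bwd (nat_lit 14) (Steps.fwd (nat_lit 8192) (Steps.fwd (nat_lit 90112) Steps.nil)))))) (nat_lit 160) (nat_lit 3),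
  Rule.mk (nat_lit 0) (nat_lit 194) (Steps.fwd (nat_lit 16384) (Steps.bwd (nat_lit 1) (Steps.bwd (nat_lit 4) (Steps.fwd (nat_lit 16384) (Steps.bwd (nat_lit 1) (Steps.fwd (nat_lit 24576) (Steps.bwd (nat_lit 1) (Steps.fwd (nat_lit 24576) (Steps.fwd (nat_lit 8192) (Steps.bwd (nat_lit 2) (Steps.bwd (nat_lit 1) (Steps.fwd (nat_lit 131072) Steps.nil)))))))))))) (nat_lit 191) (nat_lit 0),
  Rule.mk (nat_lit 1) (nat_lit 179) (Steps.bwd (nat_lit 3) (Steps.fwd (nat_lit 32768) (Steps.fwd (nat_lit 8192) (Steps.bwd (nat_lit 2) (Steps.fwd (nat_lit 8192) (Steps.bwd (nat_lit 2) (Steps.fwd (nat_lit 8192) (Steps.fwd (nat_lit 16384) (Steps.bwd (nat_lit 1) (Steps.bwd (nat_lit 3) (Steps.fwd (nat_lit 139264) Steps.nil))))))))))) (nat_lit 192) (nat_lit 2),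
  Rule.mk (nat_lit 17) (nat_lit 179) (Steps.fwd (nat_lit 24576) (Steps.fwd (nat_lit 8192) (Steps.fwd (nat_lit 24576) (Steps.fwd (nat_lit 8192) (Steps.bwd (nat_lit 3) (Steps.bwd (nat_lit 1) (Steps.bwd (nat_lit 3) (Steps.bwd (nat_lit 1) (Steps.bwd (nat_lit 4) (Steps.fwd (nat_lit 24576) (Steps.bwd (nat_lit 1) Steps.nil))))))))))) (nat_lit 193) (nat_lit 0),
  Rule.mk (nat_lit 0) (nat_lit 194) (Steps.bwd (nat_lit 17) (Steps.bwd (nat_lit 2) (Steps.fwd (nat_lit 8192) (Steps.bwd (nat_lit 2) (Steps.fwd (nat_lit 8192) (Steps.fwd (nat_lit 16384) (Steps.bwd (nat_lit 1) (Steps.bwd (nat_lit 3) (Steps.fwd (nat_lit 8192) (Steps.fwd (nat_lit 32768) (Steps.bwd (nat_lit 2) (Steps.fwd (nat_lit 8192) Steps.nil)))))))))))) (nat_lit 193) (nat_lit 11),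
  Rule.mk (nat_lit 0) (nat_lit 194) (Steps.bwd (nat_lit 20) (Steps.fwd (nat_lit 8192) (Steps.bwd (nat_lit 2) (Steps.fwd (nat_lit 8192) (Steps.bwd (nat_lit 2) (Steps.fwd (nat_lit 8192) (Steps.fwd (nat_lit 16384) (Steps.bwd (nat_lit 1) (Steps.bwd (nat_lit 3) (Steps.fwd (nat_lit 8192) (Steps.fwd (nat_lit 32768) (Steps.bwd (nat_lit 2) Steps.nil)))))))))))) (nat_lit 194) (nat_lit 0),
  Rule.mk (nat_lit 19) (nat_lit 179) (Steps.bwd (nat_lit 3) (Steps.fwd (nat_lit 32768) (Steps.fwd (nat_lit 8192) (Steps.bwd (nat_lit 2) (Steps.fwd (nat_lit 8192) (Steps.bwd (nat_lit 2) (Steps.fwd (nat_lit 8192) (Steps.fwd (nat_lit 16384) (Steps.bwd (nat_lit 1) (Steps.bwd (nat_lit 3) (Steps.fwd (nat_lit 8192) Steps.nil))))))))))) (nat_lit 195) (nat_lit 0),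
  Rule.mk (nat_lit 11) (nat_lit 104) (Steps.bwd (nat_lit 1) (Steps.bwd (nat_lit 6) (Steps.bwd (nat_lit 11) (Steps.fwd (nat_lit 98304) (Steps.fwd (nat_lit 114688) (Steps.bwd (nat_lit 1) Steps.nil)))))) (nat_lit 160) (nat_lit 2),
  Rule.mk (nat_lit 10) (nat_lit 134) (Steps.bwd (nat_lit 1) (Steps.fwd (nat_lit 32768) (Steps.fwd (nat_lit 40960) (Steps.bwd (nat_lit 8) (Steps.fwd (nat_lit 73728) (Steps.fwd (nat_lit 90112) (Steps.fwd (nat_lit 114688) (Steps.bwd (nat_lit 1) Steps.nil)))))))) (nat_lit 158) (nat_lit 2),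
  Rule.mk (nat_lit 7) (nat_lit 164) (Steps.bwd (nat_lit 1) (Steps.fwd (nat_lit 114688) (Steps.fwd (nat_lit 106496) (Steps.bwd (nat_lit 12) (Steps.bwd (nat_lit 11) (Steps.bwd (nat_lit 10) (Steps.bwd (nat_lit 9) (Steps.fwd (nat_lit 49152) (Steps.fwd (nat_lit 40960) (Steps.bwd (nat_lit 1) Steps.nil)))))))))) (nat_lit 153) (nat_lit 10),
  Rule.mk (nat_lit 12) (nat_lit 164) (Steps.bwd (nat_lit 1) (Steps.fwd (nat_lit 32768) (Steps.fwd (nat_lit 40960) (Steps.bwd (nat_lit 8) (Steps.fwd (nat_lit 73728) (Steps.bwd (nat_lit 10) (Steps.bwd (nat_lit 11) (Steps.bwd (nat_lit 12) (Steps.bwd (nat_lit 14) (Steps.bwd (nat_lit 1) Steps.nil)))))))))) (nat_lit 162) (nat_lit 2),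
  Rule.mk (nat_lit 3) (nat_lit 104) (Steps.fwd (nat_lit 73728) (Steps.fwd (nat_lit 65536) (Steps.fwd (nat_lit 40960) (Steps.bwd (nat_lit 4) (Steps.bwd (nat_lit 2) (Steps.bwd (nat_lit 12) Steps.nil)))))) (nat_lit 185) (nat_lit 0),
  Rule.mk (nat_lit 15) (nat_lit 179) (Steps.bwd (nat_lit 3) (Steps.fwd (nat_lit 8192) (Steps.bwd (nat_lit 4) (Steps.bwd (nat_lit 3) (Steps.bwd (nat_lit 1) (Steps.fwd (nat_lit 24576) (Steps.fwd (nat_lit 8192) (Steps.fwd (nat_lit 24576) (Steps.bwd (nat_lit 1) (Steps.bwd (nat_lit 2) (Steps.fwd (nat_lit 8192) Steps.nil))))))))))) (nat_lit 191) (nat_lit 0),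
  Rule.mk (nat_lit 0) (nat_lit 194) (Steps.bwd (nat_lit 2) (Steps.bwd (nat_lit 1) (Steps.fwd (nat_lit 24576) (Steps.bwd (nat_lit 1) (Steps.bwd (nat_lit 3) (Steps.fwd (nat_lit 8192) (Steps.bwd (nat_lit 3) (Steps.bwd (nat_lit 1) (Steps.bwd (nat_lit 4) (Steps.fwd (nat_lit 24576) (Steps.bwd (nat_lit 1) (Steps.fwd (nat_lit 147456) Steps.nil)))))))))))) (nat_lit 193) (nat_lit 0),
  Rule.mk (nat_lit 0) (nat_lit 194) (Steps.bwd (nat_lit 20) (Steps.bwd (nat_lit 1) (Steps.fwd (nat_lit 24576) (Steps.bwd (nat_lit 1) (Steps.fwd (nat_lit 24576) (Steps.bwd (nat_lit 1) (Steps.bwd (nat_lit 3) (Steps.fwd (nat_lit 8192) (Steps.bwd (nat_lit 3) (Steps.bwd (nat_lit 1) (Steps.bwd (nat_lit 4) (Steps.fwd (nat_lit 24576) Steps.nil)))))))))))) (nat_lit 194) (nat_lit 0),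
  Rule.mk (nat_lit 15) (nat_lit 179) (Steps.bwd (nat_lit 3) (Steps.bwd (nat_lit 1) (Steps.fwd (nat_lit 32768) (Steps.bwd (nat_lit 3) (Steps.fwd (nat_lit 8192) (Steps.bwd (nat_lit 2) (Steps.fwd (nat_lit 8192) (Steps.bwd (nat_lit 2) (Steps.fwd (nat_lit 8192) (Steps.bwd (nat_lit 2) (Steps.fwd (nat_lit 8192) Steps.nil))))))))))) (nat_lit 191) (nat_lit 0),
  Rule.mk (nat_lit 1) (nat_lit 104) (Steps.bwd (nat_lit 9) (Steps.fwd (nat_lit 65536) (Steps.fwd (nat_lit 40960) (Steps.bwd (nat_lit 4) (Steps.bwd (nat_lit 1) (Steps.bwd (nat_lit 13) Steps.nil)))))) (nat_lit 165) (nat_lit 0),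
  Rule.mk (nat_lit 16) (nat_lit 179) (Steps.bwd (nat_lit 1) (Steps.fwd (nat_lit 16384) (Steps.fwd (nat_lit 8192) (Steps.fwd (nat_lit 16384) (Steps.fwd (nat_lit 8192) (Steps.fwd (nat_lit 16384) (Steps.bwd (nat_lit 1) (Steps.bwd (nat_lit 2) (Steps.bwd (nat_lit 4) (Steps.bwd (nat_lit 1) (Steps.fwd (nat_lit 24576) Steps.nil))))))))))) (nat_lit 190) (nat_lit 1),
  Rule.mk (nat_lit 16) (nat_lit 179) (Steps.bwd (nat_lit 1) (Steps.bwd (nat_lit 3) (Steps.bwd (nat_lit 1) (Steps.fwd (nat_lit 16384) (Steps.bwd (nat_lit 1) (Steps.bwd (nat_lit 3) (Steps.fwd (nat_lit 8192) (Steps.fwd (nat_lit 24576) (Steps.fwd (nat_lit 32768) (Steps.fwd (nat_lit 8192) (Steps.fwd (nat_lit 24576) Steps.nil))))))))))) (nat_lit 190) (nat_lit 1),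
  Rule.mk (nat_lit 18) (nat_lit 179) (Steps.bwd (nat_lit 1) (Steps.fwd (nat_lit 16384) (Steps.bwd (nat_lit 4) (Steps.bwd (nat_lit 1) (Steps.fwd (nat_lit 24576) (Steps.bwd (nat_lit 1) (Steps.bwd (nat_lit 2) (Steps.bwd (nat_lit 1) (Steps.bwd (nat_lit 3) (Steps.fwd (nat_lit 8192) (Steps.bwd (nat_lit 3) Steps.nil))))))))))) (nat_lit 192) (nat_lit 1),
  Rule.mk (nat_lit 18) (nat_lit 179) (Steps.bwd (nat_lit 1) (Steps.bwd (nat_lit 3) (Steps.fwd (nat_lit 32768) (Steps.fwd (nat_lit 8192) (Steps.fwd (nat_lit 24576) (Steps.fwd (nat_lit 8192) (Steps.bwd (nat_lit 2) (Steps.bwd (nat_lit 1) (Steps.fwd (nat_lit 16384) (Steps.fwd (nat_lit 8192) (Steps.bwd (nat_lit 3) Steps.nil))))))))))) (nat_lit 192) (nat_lit 1)]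
noncomputable def R_62 : List (Rule) := [Rule.mk (nat_lit 3) (nat_lit 539) (Steps.bwd (nat_lit 1) (Steps.fwd (nat_lit 24576) (Steps.bwd (nat_lit 1) (Steps.bwd (nat_lit 2) (Steps.bwd (nat_lit 1) (Steps.bwd (nat_lit 3) (Steps.fwd (nat_lit 8192) (Steps.fwd (nat_lit 24576) (Steps.fwd (nat_lit 8192) (Steps.bwd (nat_lit 2) (Steps.fwd (nat_lit 8192) (Steps.bwd (nat_lit 3) (Steps.fwd (nat_lit 8192) (Steps.fwd (nat_lit 24576) (Steps.bwd (nat_lit 1) (Steps.bwd (nat_lit 2) (Steps.fwd (nat_lit 8192) (Steps.fwd (nat_lit 16384) (Steps.fwd (nat_lit 8192) (Steps.bwd (nat_lit 2) (Steps.bwd (nat_lit 1) (Steps.bwd (nat_lit 3) (Steps.fwd (nat_lit 8192) (Steps.bwd (nat_lit 3) (Steps.bwd (nat_lit 1) (Steps.fwd (nat_lit 24576) (Steps.bwd (nat_lit 1) (Steps.bwd (nat_lit 3) (Steps.bwd (nat_lit 1) (Steps.bwd (nat_lit 3) (Steps.fwd (nat_lit 8192) (Steps.fwd (nat_lit 24576) (Steps.bwd (nat_lit 1) (Steps.fwd (nat_lit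 16384) (Steps.bwd (nat_lit 1) Steps.nil))))))))))))))))))))))))))))))))))) (nat_lit 12) (nat_lit 0),
  Rule.mk (nat_lit 16) (nat_lit 179) (Steps.bwd (nat_lit 1) (Steps.fwd (nat_lit 16384) (Steps.fwd (nat_lit 8192) (Steps.fwd (nat_lit 16384) (Steps.bwd (nat_lit 1) (Steps.bwd (nat_lit 3) (Steps.fwd (nat_lit 8192) (Steps.fwd (nat_lit 24576) (Steps.fwd (nat_lit 32768) (Steps.fwd (nat_lit 8192) (Steps.fwd (nat_lit 24576) Steps.nil))))))))))) (nat_lit 190) (nat_lit 1),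
  Rule.mk (nat_lit 15) (nat_lit 179) (Steps.fwd (nat_lit 16384) (Steps.fwd (nat_lit 8192) (Steps.fwd (nat_lit 32768) (Steps.bwd (nat_lit 3) (Steps.fwd (nat_lit 8192) (Steps.bwd (nat_lit 2) (Steps.fwd (nat_lit 8192) (Steps.fwd (nat_lit 24576) (Steps.fwd (nat_lit 8192) (Steps.fwd (nat_lit 24576) (Steps.fwd (nat_lit 8192) Steps.nil))))))))))) (nat_lit 191) (nat_lit 0),
  Rule.mk (nat_lit 0) (nat_lit 194) (Steps.bwd (nat_lit 16) (Steps.bwd (nat_lit 1) (Steps.bwd (nat_lit 3) (Steps.bwd (nat_lit 1) (Steps.fwd (nat_lit 16384) (Steps.bwd (nat_lit 1) (Steps.bwd (nat_lit 3) (Steps.bwd (nat_lit 1) (Steps.fwd (nat_lit 24576) (Steps.fwd (nat_lit 32768) (Steps.bwd (nat_lit 1) (Steps.fwd (nat_lit 24576) Steps.nil)))))))))))) (nat_lit 190) (nat_lit 0),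
  Rule.mk (nat_lit 0) (nat_lit 194) (Steps.bwd (nat_lit 18) (Steps.fwd (nat_lit 8192) (Steps.bwd (nat_lit 3) (Steps.fwd (nat_lit 32768) (Steps.fwd (nat_lit 8192) (Steps.fwd (nat_lit 24576) (Steps.fwd (nat_lit 8192) (Steps.bwd (nat_lit 2) (Steps.fwd (nat_lit 8192) (Steps.bwd (nat_lit 3) (Steps.bwd (nat_lit 1) (Steps.bwd (nat_lit 3) Steps.nil)))))))))))) (nat_lit 192) (nat_lit 0),
  Rule.mk (nat_lit 17) (nat_lit 179) (Steps.fwd (nat_lit 24576) (Steps.fwd (nat_lit 8192) (Steps.fwd (nat_lit 24576) (Steps.fwd (nat_lit 8192) (Steps.fwd (nat_lit 16384) (Steps.fwd (nat_lit 8192) (Steps.fwd (nat_lit 16384) (Steps.fwd (nat_lit 8192) (Steps.bwd (nat_lit 4) (Steps.bwd (nat_lit 2) (Steps.bwd (nat_lit 1) Steps.nil))))))))))) (nat_lit 193) (nat_lit 0),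
  Rule.mk (nat_lit 0) (nat_lit 194) (Steps.bwd (nat_lit 19) (Steps.fwd (nat_lit 16384) (Steps.fwd (nat_lit 32768) (Steps.bwd (nat_lit 1) (Steps.bwd (nat_lit 2) (Steps.bwd (nat_lit 1) (Steps.bwd (nat_lit 2) (Steps.bwd (nat_lit 1) (Steps.bwd (nat_lit 3) (Steps.bwd (nat_lit 1) (Steps.bwd (nat_lit 3) (Steps.bwd (nat_lit 1) Steps.nil)))))))))))) (nat_lit 195) (nat_lit 11),
  Rule.mk (nat_lit 20) (nat_lit 179) (Steps.fwd (nat_lit 8192) (Steps.fwd (nat_lit 24576) (Steps.fwd (nat_lit 8192) (Steps.bwd (nat_lit 2) (Steps.fwd (nat_lit 8192) (Steps.bwd (nat_lit 3) (Steps.bwd (nat_lit 1) (Steps.bwd (nat_lit 3) (Steps.bwd (nat_lit 1) (Steps.bwd (nat_lit 4) (Steps.fwd (nat_lit 24576) Steps.nil))))))))))) (nat_lit 194) (nat_lit 1),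
  Rule.mk (nat_lit 3) (nat_lit 179) (Steps.bwd (nat_lit 4) (Steps.fwd (nat_lit 8192) (Steps.fwd (nat_lit 24576) (Steps.fwd (nat_lit 8192) (Steps.fwd (nat_lit 24576) (Steps.fwd (nat_lit 8192) (Steps.fwd (nat_lit 16384) (Steps.fwd (nat_lit 8192) (Steps.fwd (nat_lit 16384) (Steps.fwd (nat_lit 8192) (Steps.fwd (nat_lit 163840) Steps.nil))))))))))) (nat_lit 195) (nat_lit 1),
  Rule.mk (nat_lit 19) (nat_lit 179) (Steps.bwd (nat_lit 3) (Steps.fwd (nat_lit 32768) (Steps.fwd (nat_lit 8192) (Steps.fwd (nat_lit 24576) (Steps.fwd (nat_lit 8192) (Steps.bwd (nat_lit 2) (Steps.fwd (nat_lit 8192) (Steps.bwd (nat_lit 3) (Steps.bwd (nat_lit 1) (Steps.bwd (nat_lit 3) (Steps.bwd (nat_lit 1) Steps.nil))))))))))) (nat_lit 195) (nat_lit 0),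
  Rule.mk (nat_lit 7) (nat_lit 104) (Steps.bwd (nat_lit 3) (Steps.bwd (nat_lit 5) (Steps.fwd (nat_lit 57344) (Steps.bwd (nat_lit 13) (Steps.fwd (nat_lit 114688) (Steps.fwd (nat_lit 24576) Steps.nil)))))) (nat_lit 174) (nat_lit 2),
  Rule.mk (nat_lit 9) (nat_lit 134) (Steps.bwd (nat_lit 3) (Steps.bwd (nat_lit 14) (Steps.bwd (nat_lit 11) (Steps.fwd (nat_lit 73728) (Steps.bwd (nat_lit 8) (Steps.fwd (nat_lit 40960) (Steps.fwd (nat_lit 32768) (Steps.fwd (nat_lit 24576) Steps.nil)))))))) (nat_lit 179) (nat_lit 8),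
  Rule.mk (nat_lit 6) (nat_lit 164) (Steps.bwd (nat_lit 3) (Steps.bwd (nat_lit 14) (Steps.bwd (nat_lit 13) (Steps.fwd (nat_lit 98304) (Steps.fwd (nat_lit 90112) (Steps.fwd (nat_lit 81920) (Steps.fwd (nat_lit 73728) (Steps.bwd (nat_lit 6) (Steps.bwd (nat_lit 5) (Steps.fwd (nat_lit 24576) Steps.nil)))))))))) (nat_lit 173) (nat_lit 10),
  Rule.mk (nat_lit 11) (nat_lit 164) (Steps.bwd (nat_lit 3) (Steps.bwd (nat_lit 14) (Steps.fwd (nat_lit 98304) (Steps.bwd (nat_lit 11) (Steps.fwd (nat_lit 81920) (Steps.fwd (nat_lit 73728) (Steps.bwd (nat_lit 8) (Steps.bwd (nat_lit 5) (Steps.fwd (nat_lit 32768) (Steps.fwd (nat_lit 24576) Steps.nil)))))))))) (nat_lit 183) (nat_lit 10),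
  Rule.mk (nat_lit 1) (nat_lit 179) (Steps.bwd (nat_lit 3) (Steps.fwd (nat_lit 8192) (Steps.fwd (nat_lit 16384) (Steps.bwd (nat_lit 1) (Steps.fwd (nat_lit 16384) (Steps.bwd (nat_lit 1) (Steps.bwd (nat_lit 2) (Steps.fwd (nat_lit 32768) (Steps.fwd (nat_lit 8192) (Steps.fwd (nat_lit 24576) (Steps.fwd (nat_lit 122880) Steps.nil))))))))))) (nat_lit 190) (nat_lit 2),
  Rule.mk (nat_lit 18) (nat_lit 179) (Steps.bwd (nat_lit 1) (Steps.bwd (nat_lit 3) (Steps.bwd (nat_lit 4) (Steps.fwd (nat_lit 8192) (Steps.fwd (nat_lit 24576) (Steps.fwd (nat_lit 8192) (Steps.fwd (nat_lit 24576) (Steps.fwd (nat_lit 8192) (Steps.fwd (nat_lit 16384) (Steps.fwd (nat_lit 8192) (Steps.fwd (nat_lit 16384) Steps.nil))))))))))) (nat_lit 192) (nat_lit 1),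
  Rule.mk (nat_lit 0) (nat_lit 104) (Steps.bwd (nat_lit 1) (Steps.fwd (nat_lit 114688) (Steps.bwd (nat_lit 7) (Steps.fwd (nat_lit 32768) (Steps.fwd (nat_lit 8192) (Steps.bwd (nat_lit 9) Steps.nil)))))) (nat_lit 157) (nat_lit 5),
  Rule.mk (nat_lit 12) (nat_lit 164) (Steps.fwd (nat_lit 8192) (Steps.fwd (nat_lit 32768) (Steps.fwd (nat_lit 40960) (Steps.fwd (nat_lit 65536) (Steps.bwd (nat_lit 9) (Steps.bwd (nat_lit 10) (Steps.fwd (nat_lit 90112) (Steps.fwd (nat_lit 98304) (Steps.fwd (nat_lit 114688) (Steps.fwd (nat_lit 8192) Steps.nil)))))))))) (nat_lit 162) (nat_lit 2),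
  Rule.mk (nat_lit 2) (nat_lit 179) (Steps.fwd (nat_lit 8192) (Steps.fwd (nat_lit 24576) (Steps.bwd (nat_lit 1) (Steps.fwd (nat_lit 16384) (Steps.bwd (nat_lit 1) (Steps.fwd (nat_lit 16384) (Steps.fwd (nat_lit 8192) (Steps.bwd (nat_lit 4) (Steps.bwd (nat_lit 2) (Steps.fwd (nat_lit 8192) (Steps.fwd (nat_lit 147456) Steps.nil))))))))))) (nat_lit 193) (nat_lit 1),
  Rule.mk (nat_lit 20) (nat_lit 179) (Steps.fwd (nat_lit 8192) (Steps.fwd (nat_lit 24576) (Steps.bwd (nat_lit 1) (Steps.fwd (nat_lit 24576) (Steps.bwd (nat_lit 1) (Steps.fwd (nat_lit 16384) (Steps.fwd (nat_lit 8192) (Steps.bwd (nat_lit 3) (Steps.fwd (nat_lit 8192) (Steps.fwd (nat_lit 32768) (Steps.fwd (nat_lit 24576) Steps.nil))))))))))) (nat_lit 194) (nat_lit 1),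
  Rule.mk (nat_lit 5) (nat_lit 104) (Steps.bwd (nat_lit 2) (Steps.bwd (nat_lit 7) (Steps.fwd (nat_lit 16384) (Steps.bwd (nat_lit 14) (Steps.bwd (nat_lit 13) (Steps.fwd (nat_lit 57344) Steps.nil)))))) (nat_lit 175) (nat_lit 4),
  Rule.mk (nat_lit 0) (nat_lit 194) (Steps.bwd (nat_lit 15) (Steps.fwd (nat_lit 16384) (Steps.bwd (nat_lit 1) (Steps.fwd (nat_lit 32768) (Steps.fwd (nat_lit 16384) (Steps.fwd (nat_lit 8192) (Steps.bwd (nat_lit 2) (Steps.fwd (nat_lit 8192) (Steps.fwd (nat_lit 24576) (Steps.bwd (nat_lit 1) (Steps.fwd (nat_lit 24576) (Steps.bwd (nat_lit 1) Steps.nil)))))))))))) (nat_lit 191) (nat_lit 11),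
  Rule.mk (nat_lit 16) (nat_lit 179) (Steps.bwd (nat_lit 1) (Steps.fwd (nat_lit 16384) (Steps.bwd (nat_lit 1) (Steps.fwd (nat_lit 16384) (Steps.bwd (nat_lit 1) (Steps.bwd (nat_lit 3) (Steps.fwd (nat_lit 8192) (Steps.fwd (nat_lit 24576) (Steps.fwd (nat_lit 32768) (Steps.bwd (nat_lit 1) (Steps.fwd (nat_lit 24576) Steps.nil))))))))))) (nat_lit 190) (nat_lit 1),
  Rule.mk (nat_lit 0) (nat_lit 194) (Steps.bwd (nat_lit 16) (Steps.fwd (nat_lit 8192) (Steps.bwd (nat_lit 3) (Steps.fwd (nat_lit 8192) (Steps.fwd (nat_lit 16384) (Steps.bwd (nat_lit 1) (Steps.bwd (nat_lit 3) (Steps.bwd (nat_lit 1) (Steps.fwd (nat_lit 24576) (Steps.fwd (nat_lit 32768) (Steps.fwd (nat_lit 8192) (Steps.bwd (nat_lit 2) Steps.nil)))))))))))) (nat_lit 190) (nat_lit 0),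
  Rule.mk (nat_lit 18) (nat_lit 179) (Steps.fwd (nat_lit 8192) (Steps.bwd (nat_lit 3) (Steps.bwd (nat_lit 4) (Steps.fwd (nat_lit 8192) (Steps.bwd (nat_lit 2) (Steps.fwd (nat_lit 8192) (Steps.fwd (nat_lit 24576) (Steps.bwd (nat_lit 1) (Steps.fwd (nat_lit 16384) (Steps.bwd (nat_lit 1) (Steps.fwd (nat_lit 16384) Steps.nil))))))))))) (nat_lit 192) (nat_lit 1),
  Rule.mk (nat_lit 0) (nat_lit 194) (Steps.bwd (nat_lit 17) (Steps.bwd (nat_lit 2) (Steps.fwd (nat_lit 8192) (Steps.bwd (nat_lit 2) (Steps.fwd (nat_lit 8192) (Steps.bwd (nat_lit 3) (Steps.bwd (nat_lit 1) (Steps.fwd (nat_lit 16384) (Steps.bwd (nat_lit 1) (Steps.bwd (nat_lit 4) (Steps.fwd (nat_lit 24576) (Steps.fwd (nat_lit 8192) Steps.nil)))))))))))) (nat_lit 193) (nat_lit 11),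
  Rule.mk (nat_lit 0) (nat_lit 194) (Steps.bwd (nat_lit 20) (Steps.bwd (nat_lit 1) (Steps.bwd (nat_lit 2) (Steps.fwd (nat_lit 8192) (Steps.bwd (nat_lit 2) (Steps.fwd (nat_lit 8192) (Steps.bwd (nat_lit 3) (Steps.bwd (nat_lit 1) (Steps.fwd (nat_lit 16384) (Steps.bwd (nat_lit 1) (Steps.bwd (nat_lit 4) (Steps.fwd (nat_lit 24576) Steps.nil)))))))))))) (nat_lit 194) (nat_lit 0),
  Rule.mk (nat_lit 2) (nat_lit 179) (Steps.bwd (nat_lit 20) (Steps.fwd (nat_lit 8192) (Steps.bwd (nat_lit 2) (Steps.fwd (nat_lit 8192) (Steps.fwd (nat_lit 24576) (Steps.bwd (nat_lit 1) (Steps.fwd (nat_lit 16384) (Steps.bwd (nat_lit 1) (Steps.fwd (nat_lit 16384) (Steps.bwd (nat_lit 1) (Steps.fwd (nat_lit 32768) Steps.nil))))))))))) (nat_lit 194) (nat_lit 0),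
  Rule.mk (nat_lit 19) (nat_lit 179) (Steps.fwd (nat_lit 16384) (Steps.fwd (nat_lit 32768) (Steps.bwd (nat_lit 1) (Steps.bwd (nat_lit 2) (Steps.fwd (nat_lit 8192) (Steps.bwd (nat_lit 2) (Steps.fwd (nat_lit 8192) (Steps.bwd (nat_lit 3) (Steps.bwd (nat_lit 1) (Steps.fwd (nat_lit 16384) (Steps.bwd (nat_lit 1) Steps.nil))))))))))) (nat_lit 195) (nat_lit 0),
  Rule.mk (nat_lit 19) (nat_lit 179) (Steps.bwd (nat_lit 3) (Steps.bwd (nat_lit 4) (Steps.fwd (nat_lit 8192) (Steps.bwd (nat_lit 2) (Steps.fwd (nat_lit 8192) (Steps.fwd (nat_lit 24576) (Steps.bwd (nat_lit 1) (Steps.fwd (nat_lit 16384) (Steps.bwd (nat_lit 1) (Steps.fwd (nat_lit 16384) (Steps.bwd (nat_lit 1) Steps.nil))))))))))) (nat_lit 195) (nat_lit 0),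
  Rule.mk (nat_lit 5) (nat_lit 149) (Steps.bwd (nat_lit 3) (Steps.bwd (nat_lit 14) (Steps.bwd (nat_lit 13) (Steps.bwd (nat_lit 12) (Steps.bwd (nat_lit 9) (Steps.bwd (nat_lit 8) (Steps.fwd (nat_lit 40960) (Steps.fwd (nat_lit 32768) (Steps.bwd (nat_lit 2) Steps.nil))))))))) (nat_lit 171) (nat_lit 9),
  Rule.mk (nat_lit 16) (nat_lit 179) (Steps.fwd (nat_lit 8192) (Steps.fwd (nat_lit 16384) (Steps.bwd (nat_lit 1) (Steps.bwd (nat_lit 3) (Steps.fwd (nat_lit 8192) (Steps.bwd (nat_lit 3) (Steps.bwd (nat_lit 1) (Steps.bwd (nat_lit 2) (Steps.bwd (nat_lit 4) (Steps.bwd (nat_lit 1) (Steps.bwd (nat_lit 2) Steps.nil))))))))))) (nat_lit 190) (nat_lit 1),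
  Rule.mk (nat_lit 0) (nat_lit 194) (Steps.bwd (nat_lit 16) (Steps.fwd (nat_lit 8192) (Steps.fwd (nat_lit 16384) (Steps.bwd (nat_lit 1) (Steps.fwd (nat_lit 16384) (Steps.bwd (nat_lit 1) (Steps.bwd (nat_lit 3) (Steps.fwd (nat_lit 8192) (Steps.bwd (nat_lit 2) (Steps.bwd (nat_lit 4) (Steps.fwd (nat_lit 8192) (Steps.bwd (nat_lit 2) Steps.nil)))))))))))) (nat_lit 190) (nat_lit 0),
  Rule.mk (nat_lit 16) (nat_lit 179) (Steps.bwd (nat_lit 1) (Steps.fwd (nat_lit 16384) (Steps.bwd (nat_lit 1) (Steps.bwd (nat_lit 3) (Steps.fwd (nat_lit 8192) (Steps.fwd (nat_lit 16384) (Steps.fwd (nat_lit 8192) (Steps.fwd (nat_lit 24576) (Steps.fwd (nat_lit 32768) (Steps.fwd (nat_lit 8192) (Steps.fwd (nat_lit 24576) Steps.nil))))))))))) (nat_lit 190) (nat_lit 1),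
  Rule.mk (nat_lit 15) (nat_lit 179) (Steps.fwd (nat_lit 16384) (Steps.bwd (nat_lit 1) (Steps.bwd (nat_lit 4) (Steps.bwd (nat_lit 3) (Steps.fwd (nat_lit 8192) (Steps.fwd (nat_lit 24576) (Steps.fwd (nat_lit 8192) (Steps.bwd (nat_lit 2) (Steps.bwd (nat_lit 1) (Steps.bwd (nat_lit 2) (Steps.bwd (nat_lit 1) Steps.nil))))))))))) (nat_lit 191) (nat_lit 0),
  Rule.mk (nat_lit 15) (nat_lit 179) (Steps.fwd (nat_lit 16384) (Steps.bwd (nat_lit 1) (Steps.fwd (nat_lit 32768) (Steps.bwd (nat_lit 3) (Steps.fwd (nat_lit 8192) (Steps.bwd (nat_lit 2) (Steps.bwd (nat_lit 1) (Steps.bwd (nat_lit 2) (Steps.bwd (nat_lit 1) (Steps.bwd (nat_lit 2) (Steps.fwd (nat_lit 8192) Steps.nil))))))))))) (nat_lit 191) (nat_lit 0),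
  Rule.mk (nat_lit 0) (nat_lit 194) (Steps.bwd (nat_lit 16) (Steps.fwd (nat_lit 8192) (Steps.fwd (nat_lit 16384) (Steps.bwd (nat_lit 1) (Steps.bwd (nat_lit 3) (Steps.bwd (nat_lit 1) (Steps.fwd (nat_lit 16384) (Steps.fwd (nat_lit 8192) (Steps.bwd (nat_lit 2) (Steps.fwd (nat_lit 32768) (Steps.bwd (nat_lit 1) (Steps.bwd (nat_lit 2) Steps.nil)))))))))))) (nat_lit 190) (nat_lit 0),
  Rule.mk (nat_lit 0) (nat_lit 194) (Steps.bwd (nat_lit 16) (Steps.fwd (nat_lit 8192) (Steps.bwd (nat_lit 3) (Steps.bwd (nat_lit 1) (Steps.fwd (nat_lit 16384) (Steps.bwd (nat_lit 1) (Steps.fwd (nat_lit 16384) (Steps.bwd (nat_lit 1) (Steps.bwd (nat_lit 2) (Steps.fwd (nat_lit 32768) (Steps.fwd (nat_lit 8192) (Steps.bwd (nat_lit 2) Steps.nil)))))))))))) (nat_lit 190) (nat_lit 0),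
  Rule.mk (nat_lit 18) (nat_lit 179) (Steps.fwd (nat_lit 8192) (Steps.fwd (nat_lit 16384) (Steps.bwd (nat_lit 4) (Steps.bwd (nat_lit 1) (Steps.fwd (nat_lit 24576) (Steps.fwd (nat_lit 8192) (Steps.bwd (nat_lit 2) (Steps.fwd (nat_lit 8192) (Steps.fwd (nat_lit 16384) (Steps.bwd (nat_lit 1) (Steps.fwd (nat_lit 16384) Steps.nil))))))))))) (nat_lit 192) (nat_lit 1),
  Rule.mk (nat_lit 18) (nat_lit 179) (Steps.bwd (nat_lit 1) (Steps.bwd (nat_lit 3) (Steps.fwd (nat_lit 32768) (Steps.fwd (nat_lit 8192) (Steps.bwd (nat_lit 2) (Steps.bwd (nat_lit 1) (Steps.bwd (nat_lit 2) (Steps.bwd (nat_lit 1) (Steps.fwd (nat_lit 16384) (Steps.bwd (nat_lit 1) (Steps.bwd (nat_lit 3) Steps.nil))))))))))) (nat_lit 192) (nat_lit 1),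
  Rule.mk (nat_lit 18) (nat_lit 179) (Steps.fwd (nat_lit 8192) (Steps.fwd (nat_lit 16384) (Steps.bwd (nat_lit 4) (Steps.bwd (nat_lit 1) (Steps.bwd (nat_lit 2) (Steps.fwd (nat_lit 8192) (Steps.fwd (nat_lit 24576) (Steps.fwd (nat_lit 8192) (Steps.bwd (nat_lit 3) (Steps.bwd (nat_lit 1) (Steps.fwd (nat_lit 16384) Steps.nil))))))))))) (nat_lit 192) (nat_lit 1),
  Rule.mk (nat_lit 18) (nat_lit 179) (Steps.bwd (nat_lit 1) (Steps.fwd (nat_lit 16384) (Steps.bwd (nat_lit 4) (Steps.fwd (nat_lit 8192) (Steps.bwd (nat_lit 2) (Steps.fwd (nat_lit 8192) (Steps.bwd (nat_lit 2) (Steps.fwd (nat_lit 8192) (Steps.bwd (nat_lit 3) (Steps.fwd (nat_lit 8192) (Steps.fwd (nat_lit 16384) Steps.nil))))))))))) (nat_lit 192) (nat_lit 1),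
  Rule.mk (nat_lit 17) (nat_lit 179) (Steps.fwd (nat_lit 24576) (Steps.fwd (nat_lit 8192) (Steps.bwd (nat_lit 2) (Steps.fwd (nat_lit 8192) (Steps.fwd (nat_lit 16384) (Steps.bwd (nat_lit 1) (Steps.fwd (nat_lit 16384) (Steps.bwd (nat_lit 1) (Steps.bwd (nat_lit 4) (Steps.bwd (nat_lit 2) (Steps.fwd (nat_lit 8192) Steps.nil))))))))))) (nat_lit 193) (nat_lit 0),
  Rule.mk (nat_lit 0) (nat_lit 194) (Steps.bwd (nat_lit 18) (Steps.bwd (nat_lit 1) (Steps.fwd (nat_lit 16384) (Steps.fwd (nat_lit 32768) (Steps.bwd (nat_lit 1) (Steps.fwd (nat_lit 24576) (Steps.fwd (nat_lit 8192) (Steps.bwd (nat_lit 2) (Steps.fwd (nat_lit 8192) (Steps.fwd (nat_lit 16384) (Steps.fwd (nat_lit 8192) (Steps.fwd (nat_lit 16384) Steps.nil)))))))))))) (nat_lit 192) (nat_lit 0),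
  Rule.mk (nat_lit 20) (nat_lit 179) (Steps.fwd (nat_lit 8192) (Steps.bwd (nat_lit 2) (Steps.bwd (nat_lit 1) (Steps.bwd (nat_lit 2) (Steps.bwd (nat_lit 1) (Steps.fwd (nat_lit 16384) (Steps.bwd (nat_lit 1) (Steps.bwd (nat_lit 3) (Steps.fwd (nat_lit 8192) (Steps.bwd (nat_lit 4) (Steps.bwd (nat_lit 2) Steps.nil))))))))))) (nat_lit 194) (nat_lit 1),
  Rule.mk (nat_lit 20) (nat_lit 179) (Steps.bwd (nat_lit 1) (Steps.bwd (nat_lit 2) (Steps.fwd (nat_lit 8192) (Steps.fwd (nat_lit 24576) (Steps.fwd (nat_lit 8192) (Steps.bwd (nat_lit 3) (Steps.bwd (nat_lit 1) (Steps.fwd (nat_lit 16384) (Steps.bwd (nat_lit 1) (Steps.bwd (nat_lit 4) (Steps.fwd (nat_lit 24576) Steps.nil))))))))))) (nat_lit 194) (nat_lit 1),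
  Rule.mk (nat_lit 19) (nat_lit 179) (Steps.fwd (nat_lit 16384) (Steps.bwd (nat_lit 4) (Steps.bwd (nat_lit 1) (Steps.fwd (nat_lit 24576) (Steps.fwd (nat_lit 8192) (Steps.bwd (nat_lit 2) (Steps.fwd (nat_lit 8192) (Steps.fwd (nat_lit 16384) (Steps.bwd (nat_lit 1) (Steps.fwd (nat_lit 16384) (Steps.bwd (nat_lit 1) Steps.nil))))))))))) (nat_lit 195) (nat_lit 0),
  Rule.mk (nat_lit 19) (nat_lit 179) (Steps.bwd (nat_lit 3) (Steps.fwd (nat_lit 32768) (Steps.fwd (nat_lit 8192) (Steps.bwd (nat_lit 2) (Steps.bwd (nat_lit 1) (Steps.bwd (nat_lit 2) (Steps.bwd (nat_lit 1) (Steps.fwd (nat_lit 16384) (Steps.bwd (nat_lit 1) (Steps.bwd (nat_lit 3) (Steps.fwd (nat_lit 8192) Steps.nil))))))))))) (nat_lit 195) (nat_lit 0),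
  Rule.mk (nat_lit 19) (nat_lit 179) (Steps.fwd (nat_lit 16384) (Steps.bwd (nat_lit 4) (Steps.bwd (nat_lit 1) (Steps.bwd (nat_lit 2) (Steps.fwd (nat_lit 8192) (Steps.fwd (nat_lit 24576) (Steps.fwd (nat_lit 8192) (Steps.bwd (nat_lit 3) (Steps.bwd (nat_lit 1) (Steps.fwd (nat_lit 16384) (Steps.bwd (nat_lit 1) Steps.nil))))))))))) (nat_lit 195) (nat_lit 0),
  Rule.mk (nat_lit 18) (nat_lit 179) (Steps.fwd (nat_lit 8192) (Steps.bwd (nat_lit 3) (Steps.fwd (nat_lit 32768) (Steps.fwd (nat_lit 8192) (Steps.fwd (nat_lit 24576) (Steps.fwd (nat_lit 8192) (Steps.fwd (nat_lit 24576) (Steps.bwd (nat_lit 1) (Steps.fwd (nat_lit 16384) (Steps.bwd (nat_lit 1) (Steps.bwd (nat_lit 3) Steps.nil))))))))))) (nat_lit 192) (nat_lit 1),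
  Rule.mk (nat_lit 3) (nat_lit 134) (Steps.fwd (nat_lit 114688) (Steps.bwd (nat_lit 13) (Steps.fwd (nat_lit 98304) (Steps.bwd (nat_lit 11) (Steps.fwd (nat_lit 81920) (Steps.fwd (nat_lit 49152) (Steps.fwd (nat_lit 24576) (Steps.bwd (nat_lit 13) Steps.nil)))))))) (nat_lit 187) (nat_lit 0),
  Rule.mk (nat_lit 3) (nat_lit 119) (Steps.fwd (nat_lit 40960) (Steps.fwd (nat_lit 49152) (Steps.bwd (nat_lit 7) (Steps.bwd (nat_lit 12) (Steps.fwd (nat_lit 114688) (Steps.bwd (nat_lit 2) (Steps.bwd (nat_lit 14) Steps.nil))))))) (nat_lit 188) (nat_lit 3),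
  Rule.mk (nat_lit 14) (nat_lit 119) (Steps.bwd (nat_lit 3) (Steps.fwd (nat_lit 40960) (Steps.bwd (nat_lit 6) (Steps.bwd (nat_lit 7) (Steps.bwd (nat_lit 12) (Steps.fwd (nat_lit 114688) (Steps.bwd (nat_lit 2) Steps.nil))))))) (nat_lit 188) (nat_lit 2),
  Rule.mk (nat_lit 5) (nat_lit 149) (Steps.bwd (nat_lit 3) (Steps.fwd (nat_lit 32768) (Steps.fwd (nat_lit 40960) (Steps.fwd (nat_lit 65536) (Steps.bwd (nat_lit 9) (Steps.bwd (nat_lit 12) (Steps.fwd (nat_lit 106496) (Steps.bwd (nat_lit 14) (Steps.fwd (nat_lit 24576) Steps.nil))))))))) (nat_lit 170) (nat_lit 2),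
  Rule.mk (nat_lit 6) (nat_lit 164) (Steps.bwd (nat_lit 3) (Steps.fwd (nat_lit 40960) (Steps.bwd (nat_lit 6) (Steps.fwd (nat_lit 73728) (Steps.bwd (nat_lit 10) (Steps.bwd (nat_lit 11) (Steps.bwd (nat_lit 12) (Steps.fwd (nat_lit 106496) (Steps.fwd (nat_lit 114688) (Steps.fwd (nat_lit 24576) Steps.nil)))))))))) (nat_lit 172) (nat_lit 2),
  Rule.mk (nat_lit 11) (nat_lit 164) (Steps.bwd (nat_lit 3) (Steps.bwd (nat_lit 14) (Steps.fwd (nat_lit 98304) (Steps.fwd (nat_lit 90112) (Steps.bwd (nat_lit 10) (Steps.bwd (nat_lit 9) (Steps.fwd (nat_lit 65536) (Steps.fwd (nat_lit 40960) (Steps.bwd (nat_lit 4) (Steps.bwd (nat_lit 2) Steps.nil)))))))))) (nat_lit 183) (nat_lit 10),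
  Rule.mk (nat_lit 0) (nat_lit 194) (Steps.bwd (nat_lit 16) (Steps.fwd (nat_lit 8192) (Steps.bwd (nat_lit 3) (Steps.fwd (nat_lit 8192) (Steps.bwd (nat_lit 3) (Steps.fwd (nat_lit 8192) (Steps.bwd (nat_lit 3) (Steps.fwd (nat_lit 8192) (Steps.fwd (nat_lit 24576) (Steps.fwd (nat_lit 32768) (Steps.fwd (nat_lit 8192) (Steps.fwd (nat_lit 24576) Steps.nil)))))))))))) (nat_lit 190) (nat_lit 0),
  Rule.mk (nat_lit 1) (nat_lit 539) (Steps.bwd (nat_lit 3) (Steps.bwd (nat_lit 1) (Steps.fwd (nat_lit 24576) (Steps.bwd (nat_lit 1) (Steps.fwd (nat_lit 16384) (Steps.fwd (nat_lit 8192) (Steps.fwd (nat_lit 16384) (Steps.fwd (nat_lit 8192) (Steps.fwd (nat_lit 24576) (Steps.bwd (nat_lit 1) (Steps.bwd (nat_lit 2) (Steps.fwd (nat_lit 8192) (Steps.bwd (nat_lit 3) (Steps.bwd (nat_lit 1) (Steps.bwd (nat_lit 2) (Steps.fwd (nat_lit 8192) (Steps.fwd (nat_lit 24576) (Steps.fwd (nat_lit 8192) (Steps.fwd (nat_lit 16384)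 (Steps.bwd (nat_lit 1) (Steps.fwd (nat_lit 24576) (Steps.fwd (nat_lit 8192) (Steps.bwd (nat_lit 2) (Steps.fwd (nat_lit 8192) (Steps.bwd (nat_lit 3) (Steps.bwd (nat_lit 1) (Steps.bwd (nat_lit 2) (Steps.fwd (nat_lit 8192) (Steps.bwd (nat_lit 3) (Steps.bwd (nat_lit 1) (Steps.fwd (nat_lit 16384) (Steps.fwd (nat_lit 8192) (Steps.bwd (nat_lit 2) (Steps.bwd (nat_lit 1) (Steps.bwd (nat_lit 3) Steps.nil))))))))))))))))))))))))))))))))))) (nat_lit 12) (nat_lit 29),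
  Rule.mk (nat_lit 10) (nat_lit 134) (Steps.fwd (nat_lit 8192) (Steps.bwd (nat_lit 4) (Steps.fwd (nat_lit 40960) (Steps.bwd (nat_lit 8) (Steps.fwd (nat_lit 73728) (Steps.bwd (nat_lit 11) (Steps.fwd (nat_lit 114688) (Steps.bwd (nat_lit 1) Steps.nil)))))))) (nat_lit 158) (nat_lit 2),
  Rule.mk (nat_lit 16) (nat_lit 179) (Steps.bwd (nat_lit 1) (Steps.bwd (nat_lit 3) (Steps.bwd (nat_lit 1) (Steps.fwd (nat_lit 16384) (Steps.bwd (nat_lit 1) (Steps.bwd (nat_lit 3) (Steps.bwd (nat_lit 1) (Steps.fwd (nat_lit 24576) (Steps.bwd (nat_lit 4) (Steps.fwd (nat_lit 8192) (Steps.fwd (nat_lit 24576) Steps.nil))))))))))) (nat_lit 190) (nat_lit 1),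
  Rule.mk (nat_lit 16) (nat_lit 179) (Steps.bwd (nat_lit 1) (Steps.fwd (nat_lit 16384) (Steps.bwd (nat_lit 1) (Steps.bwd (nat_lit 3) (Steps.bwd (nat_lit 1) (Steps.bwd (nat_lit 3) (Steps.bwd (nat_lit 1) (Steps.fwd (nat_lit 24576) (Steps.fwd (nat_lit 32768) (Steps.fwd (nat_lit 8192) (Steps.bwd (nat_lit 2) Steps.nil))))))))))) (nat_lit 190) (nat_lit 1),
  Rule.mk (nat_lit 16) (nat_lit 179) (Steps.bwd (nat_lit 1) (Steps.bwd (nat_lit 3) (Steps.bwd (nat_lit 1) (Steps.bwd (nat_lit 3) (Steps.bwd (nat_lit 1) (Steps.bwd (nat_lit 3) (Steps.fwd (nat_lit 8192) (Steps.fwd (nat_lit 24576) (Steps.bwd (nat_lit 4) (Steps.bwd (nat_lit 1) (Steps.fwd (nat_lit 24576) Steps.nil))))))))))) (nat_lit 190) (nat_lit 1),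
  Rule.mk (nat_lit 15) (nat_lit 179) (Steps.fwd (nat_lit 16384) (Steps.bwd (nat_lit 1) (Steps.fwd (nat_lit 32768) (Steps.bwd (nat_lit 3) (Steps.fwd (nat_lit 8192) (Steps.fwd (nat_lit 24576) (Steps.bwd (nat_lit 1) (Steps.fwd (nat_lit 24576) (Steps.fwd (nat_lit 8192) (Steps.fwd (nat_lit 24576) (Steps.bwd (nat_lit 1) Steps.nil))))))))))) (nat_lit 191) (nat_lit 0),
  Rule.mk (nat_lit 15) (nat_lit 179) (Steps.fwd (nat_lit 16384) (Steps.bwd (nat_lit 1) (Steps.bwd (nat_lit 4) (Steps.bwd (nat_lit 3) (Steps.fwd (nat_lit 8192) (Steps.fwd (nat_lit 24576) (Steps.bwd (nat_lit 1) (Steps.fwd (nat_lit 24576) (Steps.fwd (nat_lit 8192) (Steps.bwd (nat_lit 2) (Steps.fwd (nat_lit 8192) Steps.nil))))))))))) (nat_lit 191) (nat_lit 0)]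
noncomputable def R_63 : List (Rule) := [Rule.mk (nat_lit 0) (nat_lit 194) (Steps.bwd (nat_lit 18) (Steps.bwd (nat_lit 1) (Steps.fwd (nat_lit 16384) (Steps.fwd (nat_lit 32768) (Steps.bwd (nat_lit 1) (Steps.fwd (nat_lit 24576) (Steps.fwd (nat_lit 8192) (Steps.bwd (nat_lit 2) (Steps.bwd (nat_lit 1) (Steps.bwd (nat_lit 3) (Steps.bwd (nat_lit 1) (Steps.bwd (nat_lit 3) Steps.nil)))))))))))) (nat_lit 192) (nat_lit 0),
  Rule.mk (nat_lit 18) (nat_lit 179) (Steps.fwd (nat_lit 8192) (Steps.bwd (nat_lit 3) (Steps.fwd (nat_lit 32768) (Steps.bwd (nat_lit 1) (Steps.fwd (nat_lit 24576) (Steps.fwd (nat_lit 8192) (Steps.fwd (nat_lit 24576) (Steps.bwd (nat_lit 1) (Steps.bwd (nat_lit 3) (Steps.bwd (nat_lit 1) (Steps.bwd (nat_lit 3) Steps.nil))))))))))) (nat_lit 192) (nat_lit 1),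
  Rule.mk (nat_lit 0) (nat_lit 194) (Steps.bwd (nat_lit 17) (Steps.fwd (nat_lit 24576) (Steps.bwd (nat_lit 1) (Steps.bwd (nat_lit 2) (Steps.bwd (nat_lit 1) (Steps.fwd (nat_lit 16384) (Steps.bwd (nat_lit 1) (Steps.bwd (nat_lit 3) (Steps.bwd (nat_lit 1) (Steps.fwd (nat_lit 32768) (Steps.bwd (nat_lit 2) (Steps.fwd (nat_lit 8192) Steps.nil)))))))))))) (nat_lit 193) (nat_lit 11),
  Rule.mk (nat_lit 17) (nat_lit 179) (Steps.fwd (nat_lit 24576) (Steps.fwd (nat_lit 8192) (Steps.bwd (nat_lit 2) (Steps.bwd (nat_lit 1) (Steps.bwd (nat_lit 3) (Steps.bwd (nat_lit 1) (Steps.bwd (nat_lit 3) (Steps.bwd (nat_lit 1) (Steps.bwd (nat_lit 4) (Steps.bwd (nat_lit 2) (Steps.fwd (nat_lit 8192) Steps.nil))))))))))) (nat_lit 193) (nat_lit 0),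
  Rule.mk (nat_lit 0) (nat_lit 194) (Steps.bwd (nat_lit 17) (Steps.fwd (nat_lit 24576) (Steps.fwd (nat_lit 8192) (Steps.fwd (nat_lit 24576) (Steps.bwd (nat_lit 1) (Steps.bwd (nat_lit 3) (Steps.bwd (nat_lit 1) (Steps.bwd (nat_lit 3) (Steps.fwd (nat_lit 8192) (Steps.fwd (nat_lit 32768) (Steps.fwd (nat_lit 24576) (Steps.bwd (nat_lit 1) Steps.nil)))))))))))) (nat_lit 193) (nat_lit 11),
  Rule.mk (nat_lit 0) (nat_lit 194) (Steps.bwd (nat_lit 20) (Steps.fwd (nat_lit 8192) (Steps.fwd (nat_lit 24576) (Steps.bwd (nat_lit 1) (Steps.bwd (nat_lit 2) (Steps.bwd (nat_lit 1) (Steps.fwd (nat_lit 16384) (Steps.bwd (nat_lit 1) (Steps.bwd (nat_lit 3) (Steps.bwd (nat_lit 1) (Steps.fwd (nat_lit 32768) (Steps.bwd (nat_lit 2) Steps.nil)))))))))))) (nat_lit 194) (nat_lit 0),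
  Rule.mk (nat_lit 0) (nat_lit 194) (Steps.bwd (nat_lit 19) (Steps.fwd (nat_lit 16384) (Steps.fwd (nat_lit 32768) (Steps.fwd (nat_lit 8192) (Steps.fwd (nat_lit 24576) (Steps.fwd (nat_lit 8192) (Steps.fwd (nat_lit 24576) (Steps.fwd (nat_lit 8192) (Steps.fwd (nat_lit 16384) (Steps.bwd (nat_lit 1) (Steps.bwd (nat_lit 3) (Steps.fwd (nat_lit 8192) Steps.nil)))))))))))) (nat_lit 195) (nat_lit 11),
  Rule.mk (nat_lit 20) (nat_lit 179) (Steps.bwd (nat_lit 1) (Steps.fwd (nat_lit 24576) (Steps.fwd (nat_lit 8192) (Steps.fwd (nat_lit 24576) (Steps.bwd (nat_lit 1) (Steps.bwd (nat_lit 3) (Steps.bwd (nat_lit 1) (Steps.bwd (nat_lit 3) (Steps.fwd (nat_lit 8192) (Steps.fwd (nat_lit 32768) (Steps.fwd (nat_lit 24576) Steps.nil))))))))))) (nat_lit 194) (nat_lit 1),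
  Rule.mk (nat_lit 20) (nat_lit 179) (Steps.bwd (nat_lit 1) (Steps.fwd (nat_lit 24576) (Steps.fwd (nat_lit 8192) (Steps.bwd (nat_lit 2) (Steps.fwd (nat_lit 8192) (Steps.fwd (nat_lit 16384) (Steps.fwd (nat_lit 8192) (Steps.bwd (nat_lit 3) (Steps.fwd (nat_lit 8192) (Steps.bwd (nat_lit 4) (Steps.bwd (nat_lit 2) Steps.nil))))))))))) (nat_lit 194) (nat_lit 1),
  Rule.mk (nat_lit 19) (nat_lit 179) (Steps.fwd (nat_lit 16384) (Steps.fwd (nat_lit 32768) (Steps.fwd (nat_lit 8192) (Steps.fwd (nat_lit 24576) (Steps.bwd (nat_lit 1) (Steps.bwd (nat_lit 2) (Steps.bwd (nat_lit 1) (Steps.fwd (nat_lit 16384) (Steps.bwd (nat_lit 1) (Steps.bwd (nat_lit 3) (Steps.bwd (nat_lit 1) Steps.nil))))))))))) (nat_lit 195) (nat_lit 0),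
  Rule.mk (nat_lit 0) (nat_lit 194) (Steps.bwd (nat_lit 19) (Steps.fwd (nat_lit 16384) (Steps.fwd (nat_lit 32768) (Steps.bwd (nat_lit 1) (Steps.fwd (nat_lit 24576) (Steps.fwd (nat_lit 8192) (Steps.bwd (nat_lit 2) (Steps.bwd (nat_lit 1) (Steps.bwd (nat_lit 3) (Steps.bwd (nat_lit 1) (Steps.bwd (nat_lit 3) (Steps.bwd (nat_lit 1) Steps.nil)))))))))))) (nat_lit 195) (nat_lit 11),
  Rule.mk (nat_lit 19) (nat_lit 179) (Steps.bwd (nat_lit 3) (Steps.fwd (nat_lit 32768) (Steps.bwd (nat_lit 1) (Steps.fwd (nat_lit 24576) (Steps.fwd (nat_lit 8192) (Steps.fwd (nat_lit 24576) (Steps.bwd (nat_lit 1) (Steps.bwd (nat_lit 3) (Steps.bwd (nat_lit 1) (Steps.bwd (nat_lit 3) (Steps.fwd (nat_lit 8192) Steps.nil))))))))))) (nat_lit 195) (nat_lit 0),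
  Rule.mk (nat_lit 17) (nat_lit 179) (Steps.bwd (nat_lit 2) (Steps.bwd (nat_lit 1) (Steps.fwd (nat_lit 24576) (Steps.fwd (nat_lit 8192) (Steps.fwd (nat_lit 16384) (Steps.fwd (nat_lit 8192) (Steps.bwd (nat_lit 3) (Steps.bwd (nat_lit 1) (Steps.bwd (nat_lit 4) (Steps.fwd (nat_lit 24576) (Steps.fwd (nat_lit 8192) Steps.nil))))))))))) (nat_lit 193) (nat_lit 0),
  Rule.mk (nat_lit 20) (nat_lit 179) (Steps.bwd (nat_lit 1) (Steps.bwd (nat_lit 2) (Steps.bwd (nat_lit 1) (Steps.fwd (nat_lit 24576) (Steps.fwd (nat_lit 8192) (Steps.fwd (nat_lit 16384) (Steps.fwd (nat_lit 8192) (Steps.bwd (nat_lit 3) (Steps.bwd (nat_lit 1) (Steps.bwd (nat_lit 4) (Steps.fwd (nat_lit 24576) Steps.nil))))))))))) (nat_lit 194) (nat_lit 1),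
  Rule.mk (nat_lit 18) (nat_lit 179) (Steps.fwd (nat_lit 8192) (Steps.fwd (nat_lit 16384) (Steps.fwd (nat_lit 32768) (Steps.bwd (nat_lit 1) (Steps.fwd (nat_lit 24576) (Steps.bwd (nat_lit 1) (Steps.bwd (nat_lit 2) (Steps.bwd (nat_lit 1) (Steps.fwd (nat_lit 16384) (Steps.bwd (nat_lit 1) (Steps.bwd (nat_lit 3) Steps.nil))))))))))) (nat_lit 192) (nat_lit 1),
  Rule.mk (nat_lit 2) (nat_lit 179) (Steps.bwd (nat_lit 20) (Steps.bwd (nat_lit 1) (Steps.fwd (nat_lit 24576) (Steps.bwd (nat_lit 1) (Steps.fwd (nat_lit 24576) (Steps.bwd (nat_lit 1) (Steps.bwd (nat_lit 3) (Steps.bwd (nat_lit 1) (Steps.bwd (nat_lit 3) (Steps.bwd (nat_lit 1) (Steps.bwd (nat_lit 4) Steps.nil))))))))))) (nat_lit 194) (nat_lit 0),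
  Rule.mk (nat_lit 7) (nat_lit 104) (Steps.bwd (nat_lit 3) (Steps.bwd (nat_lit 14) (Steps.fwd (nat_lit 106496) (Steps.fwd (nat_lit 57344) (Steps.fwd (nat_lit 40960) (Steps.bwd (nat_lit 2) Steps.nil)))))) (nat_lit 175) (nat_lit 6),
  Rule.mk (nat_lit 14) (nat_lit 119) (Steps.bwd (nat_lit 3) (Steps.bwd (nat_lit 14) (Steps.fwd (nat_lit 98304) (Steps.bwd (nat_lit 7) (Steps.bwd (nat_lit 6) (Steps.fwd (nat_lit 40960) (Steps.bwd (nat_lit 2) Steps.nil))))))) (nat_lit 189) (nat_lit 7),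
  Rule.mk (nat_lit 1) (nat_lit 104) (Steps.bwd (nat_lit 14) (Steps.bwd (nat_lit 12) (Steps.bwd (nat_lit 11) (Steps.fwd (nat_lit 49152) (Steps.bwd (nat_lit 1) (Steps.fwd (nat_lit 90112) Steps.nil)))))) (nat_lit 161) (nat_lit 0),
  Rule.mk (nat_lit 11) (nat_lit 134) (Steps.bwd (nat_lit 14) (Steps.bwd (nat_lit 1) (Steps.bwd (nat_lit 10) (Steps.fwd (nat_lit 8192) (Steps.fwd (nat_lit 32768) (Steps.bwd (nat_lit 5) (Steps.fwd (nat_lit 65536) (Steps.fwd (nat_lit 73728) Steps.nil)))))))) (nat_lit 158) (nat_lit 8),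
  Rule.mk (nat_lit 16) (nat_lit 179) (Steps.bwd (nat_lit 1) (Steps.fwd (nat_lit 16384) (Steps.bwd (nat_lit 1) (Steps.bwd (nat_lit 3) (Steps.fwd (nat_lit 8192) (Steps.fwd (nat_lit 16384) (Steps.bwd (nat_lit 1) (Steps.bwd (nat_lit 2) (Steps.fwd (nat_lit 32768) (Steps.fwd (nat_lit 8192) (Steps.fwd (nat_lit 24576) Steps.nil))))))))))) (nat_lit 190) (nat_lit 1),
  Rule.mk (nat_lit 18) (nat_lit 179) (Steps.fwd (nat_lit 8192) (Steps.bwd (nat_lit 3) (Steps.bwd (nat_lit 4) (Steps.bwd (nat_lit 1) (Steps.fwd (nat_lit 24576) (Steps.fwd (nat_lit 8192) (Steps.bwd (nat_lit 2) (Steps.fwd (nat_lit 8192) (Steps.fwd (nat_lit 16384) (Steps.bwd (nat_lit 1) (Steps.fwd (nat_lit 16384) Steps.nil))))))))))) (nat_lit 192) (nat_lit 1),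
  Rule.mk (nat_lit 0) (nat_lit 194) (Steps.bwd (nat_lit 17) (Steps.fwd (nat_lit 24576) (Steps.fwd (nat_lit 8192) (Steps.bwd (nat_lit 2) (Steps.fwd (nat_lit 8192) (Steps.fwd (nat_lit 16384) (Steps.bwd (nat_lit 1) (Steps.fwd (nat_lit 16384) (Steps.bwd (nat_lit 1) (Steps.fwd (nat_lit 32768) (Steps.bwd (nat_lit 2) (Steps.fwd (nat_lit 8192) Steps.nil)))))))))))) (nat_lit 193) (nat_lit 11),
  Rule.mk (nat_lit 18) (nat_lit 179) (Steps.bwd (nat_lit 1) (Steps.fwd (nat_lit 16384) (Steps.fwd (nat_lit 32768) (Steps.fwd (nat_lit 8192) (Steps.fwd (nat_lit 24576) (Steps.fwd (nat_lit 8192) (Steps.fwd (nat_lit 24576) (Steps.fwd (nat_lit 8192) (Steps.bwd (nat_lit 3) (Steps.fwd (nat_lit 8192) (Steps.bwd (nat_lit 3) Steps.nil))))))))))) (nat_lit 192) (nat_lit 1),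
  Rule.mk (nat_lit 0) (nat_lit 194) (Steps.fwd (nat_lit 16384) (Steps.bwd (nat_lit 4) (Steps.fwd (nat_lit 8192) (Steps.bwd (nat_lit 2) (Steps.fwd (nat_lit 8192) (Steps.bwd (nat_lit 2) (Steps.bwd (nat_lit 1) (Steps.fwd (nat_lit 16384) (Steps.bwd (nat_lit 1) (Steps.bwd (nat_lit 3) (Steps.fwd (nat_lit 8192) (Steps.fwd (nat_lit 163840) Steps.nil)))))))))))) (nat_lit 195) (nat_lit 0),
  Rule.mk (nat_lit 0) (nat_lit 194) (Steps.bwd (nat_lit 20) (Steps.fwd (nat_lit 8192) (Steps.bwd (nat_lit 2) (Steps.fwd (nat_lit 8192) (Steps.bwd (nat_lit 2) (Steps.bwd (nat_lit 1) (Steps.fwd (nat_lit 16384) (Steps.bwd (nat_lit 1) (Steps.bwd (nat_lit 3) (Steps.fwd (nat_lit 8192) (Steps.fwd (nat_lit 32768) (Steps.fwd (nat_lit 24576) Steps.nil)))))))))))) (nat_lit 194) (nat_lit 0),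
  Rule.mk (nat_lit 17) (nat_lit 179) (Steps.bwd (nat_lit 2) (Steps.fwd (nat_lit 8192) (Steps.bwd (nat_lit 2) (Steps.fwd (nat_lit 8192) (Steps.fwd (nat_lit 16384) (Steps.bwd (nat_lit 1) (Steps.bwd (nat_lit 3) (Steps.bwd (nat_lit 1) (Steps.fwd (nat_lit 32768) (Steps.bwd (nat_lit 2) (Steps.fwd (nat_lit 8192) Steps.nil))))))))))) (nat_lit 193) (nat_lit 0),
  Rule.mk (nat_lit 7) (nat_lit 89) (Steps.fwd (nat_lit 114688) (Steps.fwd (nat_lit 8192) (Steps.fwd (nat_lit 73728) (Steps.bwd (nat_lit 1) (Steps.bwd (nat_lit 4) Steps.nil))))) (nat_lit 156) (nat_lit 5),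
  Rule.mk (nat_lit 1) (nat_lit 179) (Steps.bwd (nat_lit 3) (Steps.bwd (nat_lit 1) (Steps.fwd (nat_lit 16384) (Steps.bwd (nat_lit 1) (Steps.fwd (nat_lit 16384) (Steps.bwd (nat_lit 1) (Steps.fwd (nat_lit 24576) (Steps.fwd (nat_lit 32768) (Steps.bwd (nat_lit 1) (Steps.fwd (nat_lit 24576) (Steps.fwd (nat_lit 122880) Steps.nil))))))))))) (nat_lit 190) (nat_lit 2),
  Rule.mk (nat_lit 17) (nat_lit 179) (Steps.fwd (nat_lit 24576) (Steps.fwd (nat_lit 8192) (Steps.bwd (nat_lit 2) (Steps.bwd (nat_lit 1) (Steps.fwd (nat_lit 16384) (Steps.bwd (nat_lit 1) (Steps.fwd (nat_lit 16384) (Steps.bwd (nat_lit 1) (Steps.fwd (nat_lit 32768) (Steps.bwd (nat_lit 2) (Steps.bwd (nat_lit 1) Steps.nil))))))))))) (nat_lit 193) (nat_lit 0),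
  Rule.mk (nat_lit 20) (nat_lit 179) (Steps.fwd (nat_lit 8192) (Steps.fwd (nat_lit 24576) (Steps.fwd (nat_lit 8192) (Steps.bwd (nat_lit 2) (Steps.bwd (nat_lit 1) (Steps.fwd (nat_lit 16384) (Steps.bwd (nat_lit 1) (Steps.fwd (nat_lit 16384) (Steps.bwd (nat_lit 1) (Steps.fwd (nat_lit 32768) (Steps.bwd (nat_lit 2) Steps.nil))))))))))) (nat_lit 194) (nat_lit 1),
  Rule.mk (nat_lit 19) (nat_lit 179) (Steps.fwd (nat_lit 16384) (Steps.bwd (nat_lit 4) (Steps.fwd (nat_lit 8192) (Steps.fwd (nat_lit 24576) (Steps.fwd (nat_lit 8192) (Steps.bwd (nat_lit 2) (Steps.bwd (nat_lit 1) (Steps.fwd (nat_lit 16384) (Steps.bwd (nat_lit 1) (Steps.fwd (nat_lit 16384) (Steps.bwd (nat_lit 1) Steps.nil))))))))))) (nat_lit 195) (nat_lit 0),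
  Rule.mk (nat_lit 11) (nat_lit 104) (Steps.bwd (nat_lit 1) (Steps.bwd (nat_lit 6) (Steps.fwd (nat_lit 90112) (Steps.fwd (nat_lit 98304) (Steps.fwd (nat_lit 114688) (Steps.fwd (nat_lit 8192) Steps.nil)))))) (nat_lit 160) (nat_lit 2),
  Rule.mk (nat_lit 14) (nat_lit 134) (Steps.bwd (nat_lit 1) (Steps.bwd (nat_lit 14) (Steps.fwd (nat_lit 8192) (Steps.fwd (nat_lit 49152) (Steps.fwd (nat_lit 81920) (Steps.bwd (nat_lit 11) (Steps.bwd (nat_lit 12) (Steps.fwd (nat_lit 106496) Steps.nil)))))))) (nat_lit 166) (nat_lit 0),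
  Rule.mk (nat_lit 12) (nat_lit 164) (Steps.bwd (nat_lit 1) (Steps.bwd (nat_lit 14) (Steps.fwd (nat_lit 98304) (Steps.fwd (nat_lit 90112) (Steps.fwd (nat_lit 81920) (Steps.fwd (nat_lit 73728) (Steps.fwd (nat_lit 65536) (Steps.bwd (nat_lit 5) (Steps.bwd (nat_lit 4) (Steps.fwd (nat_lit 8192) Steps.nil)))))))))) (nat_lit 163) (nat_lit 10),
  Rule.mk (nat_lit 18) (nat_lit 179) (Steps.bwd (nat_lit 1) (Steps.bwd (nat_lit 3) (Steps.bwd (nat_lit 4) (Steps.bwd (nat_lit 1) (Steps.bwd (nat_lit 2) (Steps.bwd (nat_lit 1) (Steps.bwd (nat_lit 2) (Steps.bwd (nat_lit 1) (Steps.fwd (nat_lit 16384) (Steps.fwd (nat_lit 8192) (Steps.bwd (nat_lit 3) Steps.nil))))))))))) (nat_lit 192) (nat_lit 1),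
  Rule.mk (nat_lit 3) (nat_lit 104) (Steps.bwd (nat_lit 4) (Steps.bwd (nat_lit 5) (Steps.fwd (nat_lit 65536) (Steps.fwd (nat_lit 73728) (Steps.bwd (nat_lit 2) (Steps.bwd (nat_lit 12) Steps.nil)))))) (nat_lit 184) (nat_lit 3),
  Rule.mk (nat_lit 1) (nat_lit 179) (Steps.bwd (nat_lit 19) (Steps.bwd (nat_lit 3) (Steps.bwd (nat_lit 4) (Steps.bwd (nat_lit 1) (Steps.bwd (nat_lit 2) (Steps.fwd (nat_lit 8192) (Steps.fwd (nat_lit 24576) (Steps.fwd (nat_lit 8192) (Steps.bwd (nat_lit 3) (Steps.fwd (nat_lit 8192) (Steps.bwd (nat_lit 3) Steps.nil))))))))))) (nat_lit 195) (nat_lit 11),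
  Rule.mk (nat_lit 9) (nat_lit 89) (Steps.fwd (nat_lit 8192) (Steps.fwd (nat_lit 32768) (Steps.bwd (nat_lit 7) (Steps.fwd (nat_lit 114688) (Steps.bwd (nat_lit 1) Steps.nil))))) (nat_lit 156) (nat_lit 2),
  Rule.mk (nat_lit 14) (nat_lit 134) (Steps.fwd (nat_lit 90112) (Steps.bwd (nat_lit 9) (Steps.bwd (nat_lit 8) (Steps.fwd (nat_lit 40960) (Steps.fwd (nat_lit 32768) (Steps.fwd (nat_lit 8192) (Steps.bwd (nat_lit 10) (Steps.bwd (nat_lit 1) Steps.nil)))))))) (nat_lit 159) (nat_lit 1),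
  Rule.mk (nat_lit 12) (nat_lit 164) (Steps.bwd (nat_lit 1) (Steps.bwd (nat_lit 4) (Steps.fwd (nat_lit 40960) (Steps.fwd (nat_lit 65536) (Steps.bwd (nat_lit 9) (Steps.bwd (nat_lit 10) (Steps.bwd (nat_lit 11) (Steps.fwd (nat_lit 98304) (Steps.fwd (nat_lit 114688) (Steps.bwd (nat_lit 1) Steps.nil)))))))))) (nat_lit 162) (nat_lit 2),
  Rule.mk (nat_lit 3) (nat_lit 134) (Steps.bwd (nat_lit 14) (Steps.fwd (nat_lit 90112) (Steps.bwd (nat_lit 9) (Steps.bwd (nat_lit 8) (Steps.fwd (nat_lit 40960) (Steps.fwd (nat_lit 32768) (Steps.fwd (nat_lit 24576) (Steps.bwd (nat_lit 9) Steps.nil)))))))) (nat_lit 179) (nat_lit 0),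
  Rule.mk (nat_lit 0) (nat_lit 194) (Steps.bwd (nat_lit 3) (Steps.bwd (nat_lit 1) (Steps.fwd (nat_lit 32768) (Steps.bwd (nat_lit 3) (Steps.fwd (nat_lit 8192) (Steps.fwd (nat_lit 24576) (Steps.bwd (nat_lit 1) (Steps.fwd (nat_lit 24576) (Steps.bwd (nat_lit 1) (Steps.bwd (nat_lit 2) (Steps.fwd (nat_lit 8192) (Steps.fwd (nat_lit 131072) Steps.nil)))))))))))) (nat_lit 191) (nat_lit 0),
  Rule.mk (nat_lit 2) (nat_lit 59) (Steps.bwd (nat_lit 0) (Steps.bwd (nat_lit 3) (Steps.fwd (nat_lit 0) Steps.nil))) (nat_lit 196) (nat_lit 0),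
  Rule.mk (nat_lit 18) (nat_lit 179) (Steps.fwd (nat_lit 8192) (Steps.fwd (nat_lit 16384) (Steps.bwd (nat_lit 4) (Steps.fwd (nat_lit 8192) (Steps.fwd (nat_lit 24576) (Steps.bwd (nat_lit 1) (Steps.bwd (nat_lit 2) (Steps.fwd (nat_lit 8192) (Steps.fwd (nat_lit 16384) (Steps.bwd (nat_lit 1) (Steps.bwd (nat_lit 3) Steps.nil))))))))))) (nat_lit 192) (nat_lit 1),
  Rule.mk (nat_lit 2) (nat_lit 179) (Steps.bwd (nat_lit 20) (Steps.fwd (nat_lit 8192) (Steps.fwd (nat_lit 24576) (Steps.bwd (nat_lit 1) (Steps.bwd (nat_lit 2) (Steps.fwd (nat_lit 8192) (Steps.fwd (nat_lit 16384) (Steps.bwd (nat_lit 1) (Steps.bwd (nat_lit 3) (Steps.fwd (nat_lit 8192) (Steps.bwd (nat_lit 4) Steps.nil))))))))))) (nat_lit 194) (nat_lit 0),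
  Rule.mk (nat_lit 0) (nat_lit 194) (Steps.bwd (nat_lit 19) (Steps.fwd (nat_lit 16384) (Steps.bwd (nat_lit 4) (Steps.fwd (nat_lit 8192) (Steps.fwd (nat_lit 24576) (Steps.bwd (nat_lit 1) (Steps.bwd (nat_lit 2) (Steps.fwd (nat_lit 8192) (Steps.fwd (nat_lit 16384) (Steps.bwd (nat_lit 1) (Steps.bwd (nat_lit 3) (Steps.fwd (nat_lit 8192) Steps.nil)))))))))))) (nat_lit 195) (nat_lit 11),
  Rule.mk (nat_lit 7) (nat_lit 104) (Steps.bwd (nat_lit 3) (Steps.bwd (nat_lit 5) (Steps.fwd (nat_lit 57344) (Steps.bwd (nat_lit 13) (Steps.fwd (nat_lit 114688) (Steps.bwd (nat_lit 2) Steps.nil)))))) (nat_lit 174) (nat_lit 2),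
  Rule.mk (nat_lit 14) (nat_lit 119) (Steps.fwd (nat_lit 16384) (Steps.bwd (nat_lit 5) (Steps.fwd (nat_lit 49152) (Steps.bwd (nat_lit 7) (Steps.fwd (nat_lit 98304) (Steps.fwd (nat_lit 114688) (Steps.bwd (nat_lit 2) Steps.nil))))))) (nat_lit 188) (nat_lit 2),
  Rule.mk (nat_lit 9) (nat_lit 134) (Steps.fwd (nat_lit 16384) (Steps.fwd (nat_lit 32768) (Steps.bwd (nat_lit 5) (Steps.fwd (nat_lit 65536) (Steps.bwd (nat_lit 9) (Steps.fwd (nat_lit 90112) (Steps.fwd (nat_lit 114688) (Steps.bwd (nat_lit 2) Steps.nil)))))))) (nat_lit 178) (nat_lit 2),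
  Rule.mk (nat_lit 6) (nat_lit 164) (Steps.bwd (nat_lit 3) (Steps.fwd (nat_lit 114688) (Steps.bwd (nat_lit 13) (Steps.fwd (nat_lit 98304) (Steps.fwd (nat_lit 90112) (Steps.bwd (nat_lit 10) (Steps.bwd (nat_lit 9) (Steps.fwd (nat_lit 49152) (Steps.fwd (nat_lit 40960) (Steps.bwd (nat_lit 2) Steps.nil)))))))))) (nat_lit 173) (nat_lit 10),
  Rule.mk (nat_lit 11) (nat_lit 164) (Steps.fwd (nat_lit 16384) (Steps.fwd (nat_lit 32768) (Steps.fwd (nat_lit 40960) (Steps.bwd (nat_lit 8) (Steps.bwd (nat_lit 9) (Steps.bwd (nat_lit 10) (Steps.fwd (nat_lit 90112) (Steps.fwd (nat_lit 98304) (Steps.fwd (nat_lit 114688) (Steps.bwd (nat_lit 2) Steps.nil)))))))))) (nat_lit 182) (nat_lit 2),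
  Rule.mk (nat_lit 13) (nat_lit 134) (Steps.bwd (nat_lit 3) (Steps.fwd (nat_lit 49152) (Steps.bwd (nat_lit 10) (Steps.bwd (nat_lit 11) (Steps.fwd (nat_lit 98304) (Steps.fwd (nat_lit 106496) (Steps.bwd (nat_lit 14) (Steps.fwd (nat_lit 24576) Steps.nil)))))))) (nat_lit 186) (nat_lit 2),
  Rule.mk (nat_lit 5) (nat_lit 149) (Steps.bwd (nat_lit 3) (Steps.bwd (nat_lit 4) (Steps.fwd (nat_lit 40960) (Steps.bwd (nat_lit 8) (Steps.fwd (nat_lit 73728) (Steps.fwd (nat_lit 98304) (Steps.fwd (nat_lit 106496) (Steps.fwd (nat_lit 114688) (Steps.bwd (nat_lit 2) Steps.nil))))))))) (nat_lit 170) (nat_lit 2),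
  Rule.mk (nat_lit 6) (nat_lit 164) (Steps.bwd (nat_lit 3) (Steps.fwd (nat_lit 114688) (Steps.fwd (nat_lit 106496) (Steps.bwd (nat_lit 12) (Steps.fwd (nat_lit 90112) (Steps.fwd (nat_lit 81920) (Steps.fwd (nat_lit 73728) (Steps.fwd (nat_lit 49152) (Steps.bwd (nat_lit 5) (Steps.fwd (nat_lit 24576) Steps.nil)))))))))) (nat_lit 173) (nat_lit 10),
  Rule.mk (nat_lit 11) (nat_lit 164) (Steps.bwd (nat_lit 3) (Steps.bwd (nat_lit 4) (Steps.fwd (nat_lit 40960) (Steps.bwd (nat_lit 8) (Steps.fwd (nat_lit 73728) (Steps.bwd (nat_lit 10) (Steps.fwd (nat_lit 90112) (Steps.fwd (nat_lit 98304) (Steps.bwd (nat_lit 14) (Steps.fwd (nat_lit 24576) Steps.nil)))))))))) (nat_lit 182) (nat_lit 2),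
  Rule.mk (nat_lit 1) (nat_lit 104) (Steps.fwd (nat_lit 49152) (Steps.bwd (nat_lit 11) (Steps.fwd (nat_lit 98304) (Steps.fwd (nat_lit 114688) (Steps.fwd (nat_lit 8192) (Steps.bwd (nat_lit 11) Steps.nil)))))) (nat_lit 160) (nat_lit 3),
  Rule.mk (nat_lit 0) (nat_lit 194) (Steps.bwd (nat_lit 15) (Steps.fwd (nat_lit 16384) (Steps.fwd (nat_lit 8192) (Steps.fwd (nat_lit 32768) (Steps.bwd (nat_lit 3) (Steps.bwd (nat_lit 1) (Steps.fwd (nat_lit 24576) (Steps.fwd (nat_lit 8192) (Steps.bwd (nat_lit 2) (Steps.fwd (nat_lit 8192) (Steps.bwd (nat_lit 2) (Steps.bwd (nat_lit 1) Steps.nil)))))))))))) (nat_lit 191) (nat_lit 11),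
  Rule.mk (nat_lit 15) (nat_lit 179) (Steps.fwd (nat_lit 16384) (Steps.bwd (nat_lit 1) (Steps.bwd (nat_lit 4) (Steps.fwd (nat_lit 16384) (Steps.bwd (nat_lit 1) (Steps.fwd (nat_lit 24576) (Steps.fwd (nat_lit 8192) (Steps.fwd (nat_lit 24576) (Steps.bwd (nat_lit 1) (Steps.fwd (nat_lit 24576) (Steps.bwd (nat_lit 1) Steps.nil))))))))))) (nat_lit 191) (nat_lit 0),
  Rule.mk (nat_lit 15) (nat_lit 179) (Steps.fwd (nat_lit 16384) (Steps.fwd (nat_lit 8192) (Steps.bwd (nat_lit 4) (Steps.fwd (nat_lit 16384) (Steps.bwd (nat_lit 1) (Steps.fwd (nat_lit 24576) (Steps.bwd (nat_lit 1) (Steps.bwd (nat_lit 2) (Steps.bwd (nat_lit 1) (Steps.fwd (nat_lit 24576) (Steps.bwd (nat_lit 1) Steps.nil))))))))))) (nat_lit 191) (nat_lit 0),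
  Rule.mk (nat_lit 15) (nat_lit 179) (Steps.bwd (nat_lit 3) (Steps.bwd (nat_lit 1) (Steps.fwd (nat_lit 32768) (Steps.bwd (nat_lit 3) (Steps.bwd (nat_lit 1) (Steps.fwd (nat_lit 24576) (Steps.bwd (nat_lit 1) (Steps.fwd (nat_lit 24576) (Steps.fwd (nat_lit 8192) (Steps.bwd (nat_lit 2) (Steps.fwd (nat_lit 8192) Steps.nil))))))))))) (nat_lit 191) (nat_lit 0),
  Rule.mk (nat_lit 0) (nat_lit 194) (Steps.bwd (nat_lit 18) (Steps.fwd (nat_lit 8192) (Steps.bwd (nat_lit 3) (Steps.fwd (nat_lit 32768) (Steps.bwd (nat_lit 1) (Steps.fwd (nat_lit 24576) (Steps.bwd (nat_lit 1) (Steps.bwd (nat_lit 2) (Steps.bwd (nat_lit 1) (Steps.fwd (nat_lit 16384) (Steps.bwd (nat_lit 1) (Steps.bwd (nat_lit 3) Steps.nil)))))))))))) (nat_lit 192) (nat_lit 0),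
  Rule.mk (nat_lit 1) (nat_lit 179) (Steps.bwd (nat_lit 19) (Steps.bwd (nat_lit 3) (Steps.fwd (nat_lit 32768) (Steps.bwd (nat_lit 1) (Steps.fwd (nat_lit 24576) (Steps.bwd (nat_lit 1) (Steps.bwd (nat_lit 2) (Steps.bwd (nat_lit 1) (Steps.fwd (nat_lit 16384) (Steps.bwd (nat_lit 1) (Steps.bwd (nat_lit 3) Steps.nil))))))))))) (nat_lit 195) (nat_lit 11),
  Rule.mk (nat_lit 6) (nat_lit 134) (Steps.bwd (nat_lit 10) (Steps.fwd (nat_lit 90112) (Steps.bwd (nat_lit 12) (Steps.fwd (nat_lit 106496) (Steps.bwd (nat_lit 14) (Steps.bwd (nat_lit 1) (Steps.bwd (nat_lit 14) (Steps.bwd (nat_lit 1) Steps.nil)))))))) (nat_lit 166) (nat_lit 4)]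
noncomputable def R_64 : List (Rule) := [Rule.mk (nat_lit 14) (nat_lit 134) (Steps.bwd (nat_lit 1) (Steps.bwd (nat_lit 6) (Steps.fwd (nat_lit 81920) (Steps.fwd (nat_lit 90112) (Steps.bwd (nat_lit 12) (Steps.fwd (nat_lit 106496) (Steps.bwd (nat_lit 14) (Steps.bwd (nat_lit 1) Steps.nil)))))))) (nat_lit 166) (nat_lit 2),
  Rule.mk (nat_lit 7) (nat_lit 164) (Steps.bwd (nat_lit 1) (Steps.bwd (nat_lit 14) (Steps.bwd (nat_lit 13) (Steps.fwd (nat_lit 98304) (Steps.fwd (nat_lit 90112) (Steps.bwd (nat_lit 10) (Steps.fwd (nat_lit 73728) (Steps.bwd (nat_lit 6) (Steps.fwd (nat_lit 40960) (Steps.bwd (nat_lit 1) Steps.nil)))))))))) (nat_lit 153) (nat_lit 10),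
  Rule.mk (nat_lit 15) (nat_lit 179) (Steps.fwd (nat_lit 16384) (Steps.fwd (nat_lit 8192) (Steps.bwd (nat_lit 4) (Steps.bwd (nat_lit 3) (Steps.fwd (nat_lit 8192) (Steps.bwd (nat_lit 2) (Steps.fwd (nat_lit 8192) (Steps.bwd (nat_lit 2) (Steps.bwd (nat_lit 1) (Steps.bwd (nat_lit 2) (Steps.bwd (nat_lit 1) Steps.nil))))))))))) (nat_lit 191) (nat_lit 0),
  Rule.mk (nat_lit 3) (nat_lit 539) (Steps.bwd (nat_lit 1) (Steps.fwd (nat_lit 24576) (Steps.fwd (nat_lit 8192) (Steps.bwd (nat_lit 3) (Steps.bwd (nat_lit 1) (Steps.bwd (nat_lit 3) (Steps.bwd (nat_lit 1) (Steps.bwd (nat_lit 2) (Steps.bwd (nat_lit 1) (Steps.fwd (nat_lit 16384) (Steps.bwd (nat_lit 1) (Steps.fwd (nat_lit 16384) (Steps.fwd (nat_lit 8192) (Steps.fwd (nat_lit 24576) (Steps.fwd (nat_lit 8192) (Steps.bwd (nat_lit 2) (Steps.fwd (nat_lit 8192) (Steps.bwd (nat_lit 3) (Steps.fwd (nat_lit 8192) (Steps.fwd (nat_lit 24576) (Steps.fwd (nat_lit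 8192) (Steps.bwd (nat_lit 2) (Steps.fwd (nat_lit 8192) (Steps.bwd (nat_lit 3) (Steps.bwd (nat_lit 1) (Steps.fwd (nat_lit 24576) (Steps.fwd (nat_lit 8192) (Steps.fwd (nat_lit 24576) (Steps.fwd (nat_lit 8192) (Steps.bwd (nat_lit 3) (Steps.fwd (nat_lit 8192) (Steps.fwd (nat_lit 24576) (Steps.bwd (nat_lit 1) (Steps.bwd (nat_lit 3) (Steps.bwd (nat_lit 1) Steps.nil))))))))))))))))))))))))))))))))))) (nat_lit 12) (nat_lit 24),
  Rule.mk (nat_lit 0) (nat_lit 194) (Steps.bwd (nat_lit 3) (Steps.fwd (nat_lit 8192) (Steps.fwd (nat_lit 32768) (Steps.bwd (nat_lit 3) (Steps.fwd (nat_lit 8192) (Steps.fwd (nat_lit 24576) (Steps.fwd (nat_lit 8192) (Steps.fwd (nat_lit 24576) (Steps.fwd (nat_lit 8192) (Steps.bwd (nat_lit 2) (Steps.fwd (nat_lit 8192) (Steps.fwd (nat_lit 131072) Steps.nil)))))))))))) (nat_lit 191) (nat_lit 0),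
  Rule.mk (nat_lit 3) (nat_lit 179) (Steps.bwd (nat_lit 18) (Steps.fwd (nat_lit 8192) (Steps.fwd (nat_lit 16384) (Steps.bwd (nat_lit 4) (Steps.fwd (nat_lit 8192) (Steps.fwd (nat_lit 24576) (Steps.fwd (nat_lit 8192) (Steps.fwd (nat_lit 24576) (Steps.fwd (nat_lit 8192) (Steps.bwd (nat_lit 3) (Steps.bwd (nat_lit 1) Steps.nil))))))))))) (nat_lit 192) (nat_lit 0),
  Rule.mk (nat_lit 17) (nat_lit 179) (Steps.bwd (nat_lit 2) (Steps.fwd (nat_lit 8192) (Steps.fwd (nat_lit 24576) (Steps.fwd (nat_lit 8192) (Steps.fwd (nat_lit 16384) (Steps.fwd (nat_lit 8192) (Steps.fwd (nat_lit 16384) (Steps.bwd (nat_lit 1) (Steps.fwd (nat_lit 32768) (Steps.fwd (nat_lit 24576) (Steps.bwd (nat_lit 1) Steps.nil))))))))))) (nat_lit 193) (nat_lit 0),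
  Rule.mk (nat_lit 1) (nat_lit 179) (Steps.bwd (nat_lit 19) (Steps.fwd (nat_lit 16384) (Steps.bwd (nat_lit 4) (Steps.fwd (nat_lit 8192) (Steps.fwd (nat_lit 24576) (Steps.fwd (nat_lit 8192) (Steps.fwd (nat_lit 24576) (Steps.fwd (nat_lit 8192) (Steps.bwd (nat_lit 3) (Steps.bwd (nat_lit 1) (Steps.bwd (nat_lit 3) Steps.nil))))))))))) (nat_lit 195) (nat_lit 11),
  Rule.mk (nat_lit 5) (nat_lit 104) (Steps.fwd (nat_lit 57344) (Steps.fwd (nat_lit 106496) (Steps.bwd (nat_lit 14) (Steps.bwd (nat_lit 2) (Steps.fwd (nat_lit 57344) (Steps.bwd (nat_lit 3) Steps.nil)))))) (nat_lit 174) (nat_lit 4),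
  Rule.mk (nat_lit 6) (nat_lit 104) (Steps.bwd (nat_lit 11) (Steps.fwd (nat_lit 98304) (Steps.fwd (nat_lit 114688) (Steps.fwd (nat_lit 24576) (Steps.bwd (nat_lit 10) (Steps.bwd (nat_lit 3) Steps.nil)))))) (nat_lit 180) (nat_lit 4),
  Rule.mk (nat_lit 9) (nat_lit 104) (Steps.bwd (nat_lit 8) (Steps.fwd (nat_lit 40960) (Steps.bwd (nat_lit 4) (Steps.fwd (nat_lit 24576) (Steps.fwd (nat_lit 98304) (Steps.bwd (nat_lit 3) Steps.nil)))))) (nat_lit 185) (nat_lit 1),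
  Rule.mk (nat_lit 18) (nat_lit 179) (Steps.bwd (nat_lit 1) (Steps.bwd (nat_lit 3) (Steps.bwd (nat_lit 4) (Steps.fwd (nat_lit 8192) (Steps.fwd (nat_lit 24576) (Steps.bwd (nat_lit 1) (Steps.fwd (nat_lit 24576) (Steps.bwd (nat_lit 1) (Steps.fwd (nat_lit 16384) (Steps.bwd (nat_lit 1) (Steps.fwd (nat_lit 16384) Steps.nil))))))))))) (nat_lit 192) (nat_lit 1),
  Rule.mk (nat_lit 19) (nat_lit 179) (Steps.bwd (nat_lit 3) (Steps.bwd (nat_lit 4) (Steps.fwd (nat_lit 8192) (Steps.fwd (nat_lit 24576) (Steps.bwd (nat_lit 1) (Steps.fwd (nat_lit 24576) (Steps.bwd (nat_lit 1) (Steps.fwd (nat_lit 16384) (Steps.bwd (nat_lit 1) (Steps.fwd (nat_lit 16384) (Steps.fwd (nat_lit 8192) Steps.nil))))))))))) (nat_lit 195) (nat_lit 0),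
  Rule.mk (nat_lit 0) (nat_lit 104) (Steps.bwd (nat_lit 14) (Steps.fwd (nat_lit 57344) (Steps.bwd (nat_lit 4) (Steps.bwd (nat_lit 1) (Steps.fwd (nat_lit 73728) (Steps.bwd (nat_lit 1) Steps.nil)))))) (nat_lit 157) (nat_lit 0),
  Rule.mk (nat_lit 16) (nat_lit 179) (Steps.bwd (nat_lit 1) (Steps.fwd (nat_lit 16384) (Steps.fwd (nat_lit 8192) (Steps.bwd (nat_lit 3) (Steps.fwd (nat_lit 8192) (Steps.fwd (nat_lit 16384) (Steps.bwd (nat_lit 1) (Steps.fwd (nat_lit 24576) (Steps.bwd (nat_lit 4) (Steps.fwd (nat_lit 8192) (Steps.fwd (nat_lit 24576) Steps.nil))))))))))) (nat_lit 190) (nat_lit 1),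
  Rule.mk (nat_lit 18) (nat_lit 179) (Steps.fwd (nat_lit 8192) (Steps.fwd (nat_lit 16384) (Steps.bwd (nat_lit 4) (Steps.fwd (nat_lit 8192) (Steps.fwd (nat_lit 24576) (Steps.fwd (nat_lit 8192) (Steps.fwd (nat_lit 24576) (Steps.bwd (nat_lit 1) (Steps.bwd (nat_lit 3) (Steps.bwd (nat_lit 1) (Steps.bwd (nat_lit 3) Steps.nil))))))))))) (nat_lit 192) (nat_lit 1),
  Rule.mk (nat_lit 19) (nat_lit 179) (Steps.fwd (nat_lit 16384) (Steps.bwd (nat_lit 4) (Steps.fwd (nat_lit 8192) (Steps.fwd (nat_lit 24576) (Steps.fwd (nat_lit 8192) (Steps.fwd (nat_lit 24576) (Steps.bwd (nat_lit 1) (Steps.bwd (nat_lit 3) (Steps.bwd (nat_lit 1) (Steps.bwd (nat_lit 3) (Steps.bwd (nat_lit 1) Steps.nil))))))))))) (nat_lit 195) (nat_lit 0),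
  Rule.mk (nat_lit 16) (nat_lit 179) (Steps.bwd (nat_lit 1) (Steps.fwd (nat_lit 16384) (Steps.bwd (nat_lit 1) (Steps.bwd (nat_lit 3) (Steps.fwd (nat_lit 8192) (Steps.bwd (nat_lit 3) (Steps.bwd (nat_lit 1) (Steps.bwd (nat_lit 2) (Steps.bwd (nat_lit 4) (Steps.bwd (nat_lit 1) (Steps.fwd (nat_lit 24576) Steps.nil))))))))))) (nat_lit 190) (nat_lit 1),
  Rule.mk (nat_lit 16) (nat_lit 179) (Steps.bwd (nat_lit 1) (Steps.bwd (nat_lit 3) (Steps.fwd (nat_lit 8192) (Steps.bwd (nat_lit 3) (Steps.bwd (nat_lit 1) (Steps.bwd (nat_lit 3) (Steps.bwd (nat_lit 1) (Steps.fwd (nat_lit 24576) (Steps.fwd (nat_lit 32768) (Steps.fwd (nat_lit 8192) (Steps.fwd (nat_lit 24576) Steps.nil))))))))))) (nat_lit 190) (nat_lit 1),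
  Rule.mk (nat_lit 17) (nat_lit 179) (Steps.bwd (nat_lit 2) (Steps.fwd (nat_lit 8192) (Steps.bwd (nat_lit 2) (Steps.bwd (nat_lit 1) (Steps.fwd (nat_lit 16384) (Steps.bwd (nat_lit 1) (Steps.bwd (nat_lit 3) (Steps.fwd (nat_lit 8192) (Steps.bwd (nat_lit 4) (Steps.bwd (nat_lit 2) (Steps.bwd (nat_lit 1) Steps.nil))))))))))) (nat_lit 193) (nat_lit 0),
  Rule.mk (nat_lit 20) (nat_lit 179) (Steps.bwd (nat_lit 1) (Steps.bwd (nat_lit 2) (Steps.fwd (nat_lit 8192) (Steps.bwd (nat_lit 2) (Steps.bwd (nat_lit 1) (Steps.fwd (nat_lit 16384) (Steps.bwd (nat_lit 1) (Steps.bwd (nat_lit 3) (Steps.fwd (nat_lit 8192) (Steps.bwd (nat_lit 4) (Steps.bwd (nat_lit 2) Steps.nil))))))))))) (nat_lit 194) (nat_lit 1),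
  Rule.mk (nat_lit 17) (nat_lit 179) (Steps.fwd (nat_lit 24576) (Steps.bwd (nat_lit 1) (Steps.fwd (nat_lit 24576) (Steps.fwd (nat_lit 8192) (Steps.bwd (nat_lit 3) (Steps.fwd (nat_lit 8192) (Steps.fwd (nat_lit 16384) (Steps.bwd (nat_lit 1) (Steps.bwd (nat_lit 4) (Steps.bwd (nat_lit 2) (Steps.fwd (nat_lit 8192) Steps.nil))))))))))) (nat_lit 193) (nat_lit 0),
  Rule.mk (nat_lit 17) (nat_lit 179) (Steps.bwd (nat_lit 2) (Steps.fwd (nat_lit 8192) (Steps.fwd (nat_lit 24576) (Steps.fwd (nat_lit 8192) (Steps.bwd (nat_lit 3) (Steps.fwd (nat_lit 8192) (Steps.fwd (nat_lit 16384) (Steps.fwd (nat_lit 8192) (Steps.fwd (nat_lit 32768) (Steps.bwd (nat_lit 2) (Steps.fwd (nat_lit 8192) Steps.nil))))))))))) (nat_lit 193) (nat_lit 0),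
  Rule.mk (nat_lit 20) (nat_lit 179) (Steps.bwd (nat_lit 1) (Steps.bwd (nat_lit 2) (Steps.fwd (nat_lit 8192) (Steps.fwd (nat_lit 24576) (Steps.fwd (nat_lit 8192) (Steps.bwd (nat_lit 3) (Steps.fwd (nat_lit 8192) (Steps.fwd (nat_lit 16384) (Steps.fwd (nat_lit 8192) (Steps.fwd (nat_lit 32768) (Steps.bwd (nat_lit 2) Steps.nil))))))))))) (nat_lit 194) (nat_lit 1),
  Rule.mk (nat_lit 0) (nat_lit 194) (Steps.fwd (nat_lit 8192) (Steps.bwd (nat_lit 3) (Steps.bwd (nat_lit 1) (Steps.bwd (nat_lit 3) (Steps.bwd (nat_lit 1) (Steps.bwd (nat_lit 3) (Steps.fwd (nat_lit 8192) (Steps.fwd (nat_lit 24576) (Steps.bwd (nat_lit 4) (Steps.bwd (nat_lit 1) (Steps.bwd (nat_lit 2) (Steps.fwd (nat_lit 122880) Steps.nil)))))))))))) (nat_lit 190) (nat_lit 1),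
  Rule.mk (nat_lit 15) (nat_lit 179) (Steps.bwd (nat_lit 3) (Steps.bwd (nat_lit 1) (Steps.fwd (nat_lit 32768) (Steps.bwd (nat_lit 3) (Steps.fwd (nat_lit 8192) (Steps.fwd (nat_lit 24576) (Steps.bwd (nat_lit 1) (Steps.bwd (nat_lit 2) (Steps.fwd (nat_lit 8192) (Steps.bwd (nat_lit 2) (Steps.fwd (nat_lit 8192) Steps.nil))))))))))) (nat_lit 191) (nat_lit 0),
  Rule.mk (nat_lit 11) (nat_lit 164) (Steps.bwd (nat_lit 3) (Steps.bwd (nat_lit 4) (Steps.bwd (nat_lit 5) (Steps.bwd (nat_lit 8) (Steps.fwd (nat_lit 73728) (Steps.bwd (nat_lit 10) (Steps.fwd (nat_lit 90112) (Steps.bwd (nat_lit 12) (Steps.bwd (nat_lit 14) (Steps.fwd (nat_lit 24576) Steps.nil)))))))))) (nat_lit 182) (nat_lit 2),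
  Rule.mk (nat_lit 3) (nat_lit 539) (Steps.fwd (nat_lit 8192) (Steps.bwd (nat_lit 3) (Steps.fwd (nat_lit 8192) (Steps.bwd (nat_lit 2) (Steps.bwd (nat_lit 1) (Steps.bwd (nat_lit 3) (Steps.fwd (nat_lit 8192) (Steps.bwd (nat_lit 3) (Steps.fwd (nat_lit 8192) (Steps.fwd (nat_lit 24576) (Steps.fwd (nat_lit 8192) (Steps.fwd (nat_lit 24576) (Steps.fwd (nat_lit 8192) (Steps.fwd (nat_lit 16384) (Steps.fwd (nat_lit 8192) (Steps.fwd (nat_lit 24576) (Steps.bwd (nat_lit 1) (Steps.bwd (nat_lit 2) (Steps.fwd (nat_lit 8192) (Steps.bwd (nat_lit 3) (Steps.bwd (nat_lit 1) (Steps.bwd (nat_lit 2) (Steps.fwd (nat_lit 8192) (Steps.fwd (nat_lit 24576) (Steps.fwd (nat_lit 8192) (Steps.fwd (nat_lit 16384) (Steps.bwd (nat_lit 1) (Steps.fwd (nat_lit 24576) (Steps.fwd (nat_lit 8192) (Steps.fwd (nat_lit 16384) (Steps.fwd (nat_lit 8192) (Steps.fwd (nat_lit 16384) (Steps.fwd (nat_lit 8192) (Steps.fwd (nat_lit 24576) (Steps.bwd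 (nat_lit 1) Steps.nil))))))))))))))))))))))))))))))))))) (nat_lit 12) (nat_lit 28),
  Rule.mk (nat_lit 2) (nat_lit 539) (Steps.fwd (nat_lit 8192) (Steps.bwd (nat_lit 3) (Steps.bwd (nat_lit 1) (Steps.bwd (nat_lit 2) (Steps.bwd (nat_lit 1) (Steps.fwd (nat_lit 16384) (Steps.fwd (nat_lit 8192) (Steps.fwd (nat_lit 16384) (Steps.bwd (nat_lit 1) (Steps.fwd (nat_lit 24576) (Steps.bwd (nat_lit 1) (Steps.fwd (nat_lit 16384) (Steps.fwd (nat_lit 8192) (Steps.bwd (nat_lit 3) (Steps.bwd (nat_lit 1) (Steps.fwd (nat_lit 24576) (Steps.fwd (nat_lit 8192) (Steps.bwd (nat_lit 3) (Steps.fwd (nat_lit 8192) (Steps.fwd (nat_lit 16384) (Steps.bwd (nat_lit 1) (Steps.bwd (nat_lit 2) (Steps.fwd (nat_lit 8192) (Steps.fwd (nat_lit 24576) (Steps.bwd (nat_lit 1) (Steps.fwd (nat_lit 16384) (Steps.fwd (nat_lit 8192) (Steps.fwd (nat_lit 24576) (Steps.bwd (nat_lit 1) (Steps.bwd (nat_lit 2) (Steps.fwd (nat_lit 8192) (Steps.fwd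 (nat_lit 16384) (Steps.fwd (nat_lit 8192) (Steps.fwd (nat_lit 24576) (Steps.bwd (nat_lit 1) Steps.nil))))))))))))))))))))))))))))))))))) (nat_lit 12) (nat_lit 16),
  Rule.mk (nat_lit 16) (nat_lit 179) (Steps.bwd (nat_lit 1) (Steps.fwd (nat_lit 16384) (Steps.bwd (nat_lit 1) (Steps.fwd (nat_lit 16384) (Steps.bwd (nat_lit 1) (Steps.fwd (nat_lit 16384) (Steps.fwd (nat_lit 8192) (Steps.fwd (nat_lit 24576) (Steps.bwd (nat_lit 4) (Steps.bwd (nat_lit 1) (Steps.bwd (nat_lit 2) Steps.nil))))))))))) (nat_lit 190) (nat_lit 1),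
  Rule.mk (nat_lit 0) (nat_lit 194) (Steps.bwd (nat_lit 15) (Steps.fwd (nat_lit 16384) (Steps.fwd (nat_lit 8192) (Steps.bwd (nat_lit 4) (Steps.fwd (nat_lit 16384) (Steps.fwd (nat_lit 8192) (Steps.bwd (nat_lit 2) (Steps.bwd (nat_lit 1) (Steps.fwd (nat_lit 24576) (Steps.bwd (nat_lit 1) (Steps.fwd (nat_lit 24576) (Steps.fwd (nat_lit 8192) Steps.nil)))))))))))) (nat_lit 191) (nat_lit 11),
  Rule.mk (nat_lit 18) (nat_lit 179) (Steps.bwd (nat_lit 1) (Steps.bwd (nat_lit 3) (Steps.bwd (nat_lit 4) (Steps.bwd (nat_lit 1) (Steps.fwd (nat_lit 24576) (Steps.bwd (nat_lit 1) (Steps.fwd (nat_lit 24576) (Steps.fwd (nat_lit 8192) (Steps.bwd (nat_lit 3) (Steps.bwd (nat_lit 1) (Steps.fwd (nat_lit 16384) Steps.nil))))))))))) (nat_lit 192) (nat_lit 1),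
  Rule.mk (nat_lit 17) (nat_lit 179) (Steps.fwd (nat_lit 24576) (Steps.fwd (nat_lit 8192) (Steps.fwd (nat_lit 24576) (Steps.bwd (nat_lit 1) (Steps.fwd (nat_lit 16384) (Steps.bwd (nat_lit 1) (Steps.fwd (nat_lit 16384) (Steps.fwd (nat_lit 8192) (Steps.bwd (nat_lit 4) (Steps.bwd (nat_lit 2) (Steps.bwd (nat_lit 1) Steps.nil))))))))))) (nat_lit 193) (nat_lit 0),
  Rule.mk (nat_lit 20) (nat_lit 179) (Steps.bwd (nat_lit 1) (Steps.fwd (nat_lit 24576) (Steps.fwd (nat_lit 8192) (Steps.fwd (nat_lit 24576) (Steps.bwd (nat_lit 1) (Steps.fwd (nat_lit 16384) (Steps.bwd (nat_lit 1) (Steps.fwd (nat_lit 16384) (Steps.fwd (nat_lit 8192) (Steps.bwd (nat_lit 4) (Steps.bwd (nat_lit 2) Steps.nil))))))))))) (nat_lit 194) (nat_lit 1),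
  Rule.mk (nat_lit 2) (nat_lit 179) (Steps.bwd (nat_lit 20) (Steps.bwd (nat_lit 1) (Steps.fwd (nat_lit 24576) (Steps.bwd (nat_lit 1) (Steps.fwd (nat_lit 24576) (Steps.fwd (nat_lit 8192) (Steps.bwd (nat_lit 3) (Steps.bwd (nat_lit 1) (Steps.fwd (nat_lit 16384) (Steps.fwd (nat_lit 8192) (Steps.fwd (nat_lit 32768) Steps.nil))))))))))) (nat_lit 194) (nat_lit 0),
  Rule.mk (nat_lit 19) (nat_lit 179) (Steps.bwd (nat_lit 3) (Steps.bwd (nat_lit 4) (Steps.bwd (nat_lit 1) (Steps.fwd (nat_lit 24576) (Steps.bwd (nat_lit 1) (Steps.fwd (nat_lit 24576) (Steps.fwd (nat_lit 8192) (Steps.bwd (nat_lit 3) (Steps.bwd (nat_lit 1) (Steps.fwd (nat_lit 16384) (Steps.fwd (nat_lit 8192) Steps.nil))))))))))) (nat_lit 195) (nat_lit 0),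
  Rule.mk (nat_lit 7) (nat_lit 104) (Steps.fwd (nat_lit 16384) (Steps.fwd (nat_lit 40960) (Steps.fwd (nat_lit 57344) (Steps.fwd (nat_lit 106496) (Steps.fwd (nat_lit 114688) (Steps.bwd (nat_lit 2) Steps.nil)))))) (nat_lit 174) (nat_lit 2),
  Rule.mk (nat_lit 14) (nat_lit 119) (Steps.fwd (nat_lit 16384) (Steps.fwd (nat_lit 40960) (Steps.fwd (nat_lit 49152) (Steps.bwd (nat_lit 7) (Steps.fwd (nat_lit 98304) (Steps.fwd (nat_lit 114688) (Steps.bwd (nat_lit 2) Steps.nil))))))) (nat_lit 188) (nat_lit 2),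
  Rule.mk (nat_lit 5) (nat_lit 149) (Steps.bwd (nat_lit 3) (Steps.bwd (nat_lit 4) (Steps.bwd (nat_lit 5) (Steps.fwd (nat_lit 65536) (Steps.bwd (nat_lit 9) (Steps.fwd (nat_lit 98304) (Steps.fwd (nat_lit 106496) (Steps.fwd (nat_lit 114688) (Steps.bwd (nat_lit 2) Steps.nil))))))))) (nat_lit 170) (nat_lit 2),
  Rule.mk (nat_lit 11) (nat_lit 164) (Steps.bwd (nat_lit 3) (Steps.fwd (nat_lit 32768) (Steps.fwd (nat_lit 40960) (Steps.bwd (nat_lit 8) (Steps.bwd (nat_lit 9) (Steps.fwd (nat_lit 81920) (Steps.bwd (nat_lit 11) (Steps.fwd (nat_lit 98304) (Steps.fwd (nat_lit 114688) (Steps.bwd (nat_lit 2) Steps.nil)))))))))) (nat_lit 182) (nat_lit 2),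
  Rule.mk (nat_lit 18) (nat_lit 179) (Steps.bwd (nat_lit 1) (Steps.fwd (nat_lit 16384) (Steps.bwd (nat_lit 4) (Steps.bwd (nat_lit 1) (Steps.bwd (nat_lit 2) (Steps.fwd (nat_lit 8192) (Steps.fwd (nat_lit 24576) (Steps.bwd (nat_lit 1) (Steps.bwd (nat_lit 3) (Steps.fwd (nat_lit 8192) (Steps.bwd (nat_lit 3) Steps.nil))))))))))) (nat_lit 192) (nat_lit 1),
  Rule.mk (nat_lit 0) (nat_lit 194) (Steps.bwd (nat_lit 20) (Steps.fwd (nat_lit 8192) (Steps.bwd (nat_lit 2) (Steps.fwd (nat_lit 8192) (Steps.bwd (nat_lit 2) (Steps.bwd (nat_lit 1) (Steps.bwd (nat_lit 3) (Steps.fwd (nat_lit 8192) (Steps.bwd (nat_lit 3) (Steps.bwd (nat_lit 1) (Steps.bwd (nat_lit 4) (Steps.bwd (nat_lit 2) Steps.nil)))))))))))) (nat_lit 194) (nat_lit 0),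
  Rule.mk (nat_lit 0) (nat_lit 194) (Steps.bwd (nat_lit 15) (Steps.bwd (nat_lit 3) (Steps.bwd (nat_lit 1) (Steps.bwd (nat_lit 4) (Steps.bwd (nat_lit 3) (Steps.fwd (nat_lit 8192) (Steps.fwd (nat_lit 24576) (Steps.fwd (nat_lit 8192) (Steps.bwd (nat_lit 2) (Steps.bwd (nat_lit 1) (Steps.fwd (nat_lit 24576) (Steps.bwd (nat_lit 1) Steps.nil)))))))))))) (nat_lit 191) (nat_lit 11),
  Rule.mk (nat_lit 15) (nat_lit 179) (Steps.bwd (nat_lit 3) (Steps.fwd (nat_lit 8192) (Steps.bwd (nat_lit 4) (Steps.bwd (nat_lit 3) (Steps.bwd (nat_lit 1) (Steps.fwd (nat_lit 24576) (Steps.fwd (nat_lit 8192) (Steps.fwd (nat_lit 24576) (Steps.bwd (nat_lit 1) (Steps.fwd (nat_lit 24576) (Steps.fwd (nat_lit 8192) Steps.nil))))))))))) (nat_lit 191) (nat_lit 0),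
  Rule.mk (nat_lit 5) (nat_lit 104) (Steps.bwd (nat_lit 2) (Steps.bwd (nat_lit 7) (Steps.fwd (nat_lit 16384) (Steps.fwd (nat_lit 114688) (Steps.fwd (nat_lit 106496) (Steps.bwd (nat_lit 7) Steps.nil)))))) (nat_lit 175) (nat_lit 4),
  Rule.mk (nat_lit 6) (nat_lit 134) (Steps.bwd (nat_lit 2) (Steps.bwd (nat_lit 13) (Steps.bwd (nat_lit 3) (Steps.bwd (nat_lit 14) (Steps.bwd (nat_lit 13) (Steps.fwd (nat_lit 98304) (Steps.fwd (nat_lit 90112) (Steps.fwd (nat_lit 81920) Steps.nil)))))))) (nat_lit 187) (nat_lit 6),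
  Rule.mk (nat_lit 17) (nat_lit 179) (Steps.bwd (nat_lit 2) (Steps.fwd (nat_lit 8192) (Steps.bwd (nat_lit 2) (Steps.bwd (nat_lit 1) (Steps.bwd (nat_lit 3) (Steps.fwd (nat_lit 8192) (Steps.fwd (nat_lit 16384) (Steps.fwd (nat_lit 8192) (Steps.bwd (nat_lit 4) (Steps.bwd (nat_lit 2) (Steps.bwd (nat_lit 1) Steps.nil))))))))))) (nat_lit 193) (nat_lit 0),
  Rule.mk (nat_lit 1) (nat_lit 134) (Steps.bwd (nat_lit 14) (Steps.fwd (nat_lit 8192) (Steps.bwd (nat_lit 14) (Steps.bwd (nat_lit 13) (Steps.fwd (nat_lit 98304) (Steps.fwd (nat_lit 90112) (Steps.fwd (nat_lit 81920) (Steps.bwd (nat_lit 6) Steps.nil)))))))) (nat_lit 167) (nat_lit 7),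
  Rule.mk (nat_lit 16) (nat_lit 179) (Steps.fwd (nat_lit 8192) (Steps.bwd (nat_lit 3) (Steps.fwd (nat_lit 8192) (Steps.fwd (nat_lit 16384) (Steps.bwd (nat_lit 1) (Steps.fwd (nat_lit 16384) (Steps.bwd (nat_lit 1) (Steps.bwd (nat_lit 2) (Steps.bwd (nat_lit 4) (Steps.bwd (nat_lit 1) (Steps.bwd (nat_lit 2) Steps.nil))))))))))) (nat_lit 190) (nat_lit 1),
  Rule.mk (nat_lit 0) (nat_lit 194) (Steps.bwd (nat_lit 16) (Steps.bwd (nat_lit 1) (Steps.fwd (nat_lit 16384) (Steps.bwd (nat_lit 1) (Steps.bwd (nat_lit 3) (Steps.bwd (nat_lit 1) (Steps.bwd (nat_lit 3) (Steps.fwd (nat_lit 8192) (Steps.bwd (nat_lit 2) (Steps.fwd (nat_lit 32768) (Steps.fwd (nat_lit 8192) (Steps.bwd (nat_lit 2) Steps.nil)))))))))))) (nat_lit 190) (nat_lit 0),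
  Rule.mk (nat_lit 16) (nat_lit 179) (Steps.bwd (nat_lit 1) (Steps.bwd (nat_lit 3) (Steps.bwd (nat_lit 1) (Steps.bwd (nat_lit 3) (Steps.fwd (nat_lit 8192) (Steps.bwd (nat_lit 3) (Steps.fwd (nat_lit 8192) (Steps.fwd (nat_lit 24576) (Steps.fwd (nat_lit 32768) (Steps.fwd (nat_lit 8192) (Steps.bwd (nat_lit 2) Steps.nil))))))))))) (nat_lit 190) (nat_lit 1),
  Rule.mk (nat_lit 15) (nat_lit 179) (Steps.fwd (nat_lit 16384) (Steps.fwd (nat_lit 8192) (Steps.fwd (nat_lit 32768) (Steps.bwd (nat_lit 3) (Steps.bwd (nat_lit 1) (Steps.fwd (nat_lit 24576) (Steps.fwd (nat_lit 8192) (Steps.fwd (nat_lit 24576) (Steps.fwd (nat_lit 8192) (Steps.bwd (nat_lit 2) (Steps.bwd (nat_lit 1) Steps.nil))))))))))) (nat_lit 191) (nat_lit 0),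
  Rule.mk (nat_lit 0) (nat_lit 194) (Steps.bwd (nat_lit 16) (Steps.fwd (nat_lit 8192) (Steps.fwd (nat_lit 16384) (Steps.fwd (nat_lit 8192) (Steps.fwd (nat_lit 16384) (Steps.bwd (nat_lit 1) (Steps.bwd (nat_lit 3) (Steps.bwd (nat_lit 1) (Steps.bwd (nat_lit 2) (Steps.bwd (nat_lit 4) (Steps.fwd (nat_lit 8192) (Steps.bwd (nat_lit 2) Steps.nil)))))))))))) (nat_lit 190) (nat_lit 0),
  Rule.mk (nat_lit 15) (nat_lit 179) (Steps.bwd (nat_lit 3) (Steps.fwd (nat_lit 8192) (Steps.bwd (nat_lit 4) (Steps.bwd (nat_lit 3) (Steps.fwd (nat_lit 8192) (Steps.bwd (nat_lit 2) (Steps.bwd (nat_lit 1) (Steps.bwd (nat_lit 2) (Steps.bwd (nat_lit 1) (Steps.fwd (nat_lit 24576) (Steps.fwd (nat_lit 8192) Steps.nil))))))))))) (nat_lit 191) (nat_lit 0),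
  Rule.mk (nat_lit 18) (nat_lit 179) (Steps.fwd (nat_lit 8192) (Steps.bwd (nat_lit 3) (Steps.bwd (nat_lit 4) (Steps.bwd (nat_lit 1) (Steps.fwd (nat_lit 24576) (Steps.fwd (nat_lit 8192) (Steps.bwd (nat_lit 2) (Steps.bwd (nat_lit 1) (Steps.fwd (nat_lit 16384) (Steps.bwd (nat_lit 1) (Steps.bwd (nat_lit 3) Steps.nil))))))))))) (nat_lit 192) (nat_lit 1),
  Rule.mk (nat_lit 18) (nat_lit 179) (Steps.bwd (nat_lit 1) (Steps.fwd (nat_lit 16384) (Steps.fwd (nat_lit 32768) (Steps.fwd (nat_lit 8192) (Steps.fwd (nat_lit 24576) (Steps.fwd (nat_lit 8192) (Steps.bwd (nat_lit 2) (Steps.bwd (nat_lit 1) (Steps.bwd (nat_lit 3) (Steps.bwd (nat_lit 1) (Steps.bwd (nat_lit 3) Steps.nil))))))))))) (nat_lit 192) (nat_lit 1),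
  Rule.mk (nat_lit 18) (nat_lit 179) (Steps.bwd (nat_lit 1) (Steps.bwd (nat_lit 3) (Steps.fwd (nat_lit 32768) (Steps.bwd (nat_lit 1) (Steps.fwd (nat_lit 24576) (Steps.fwd (nat_lit 8192) (Steps.fwd (nat_lit 24576) (Steps.fwd (nat_lit 8192) (Steps.bwd (nat_lit 3) (Steps.bwd (nat_lit 1) (Steps.bwd (nat_lit 3) Steps.nil))))))))))) (nat_lit 192) (nat_lit 1),
  Rule.mk (nat_lit 17) (nat_lit 179) (Steps.bwd (nat_lit 2) (Steps.bwd (nat_lit 1) (Steps.fwd (nat_lit 24576) (Steps.fwd (nat_lit 8192) (Steps.fwd (nat_lit 16384) (Steps.bwd (nat_lit 1) (Steps.fwd (nat_lit 16384) (Steps.bwd (nat_lit 1) (Steps.fwd (nat_lit 32768) (Steps.bwd (nat_lit 2) (Steps.bwd (nat_lit 1) Steps.nil))))))))))) (nat_lit 193) (nat_lit 0),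
  Rule.mk (nat_lit 17) (nat_lit 179) (Steps.fwd (nat_lit 24576) (Steps.fwd (nat_lit 8192) (Steps.bwd (nat_lit 2) (Steps.bwd (nat_lit 1) (Steps.bwd (nat_lit 3) (Steps.bwd (nat_lit 1) (Steps.bwd (nat_lit 3) (Steps.fwd (nat_lit 8192) (Steps.fwd (nat_lit 32768) (Steps.fwd (nat_lit 24576) (Steps.fwd (nat_lit 8192) Steps.nil))))))))))) (nat_lit 193) (nat_lit 0),
  Rule.mk (nat_lit 0) (nat_lit 194) (Steps.bwd (nat_lit 20) (Steps.bwd (nat_lit 1) (Steps.bwd (nat_lit 2) (Steps.bwd (nat_lit 1) (Steps.fwd (nat_lit 24576) (Steps.fwd (nat_lit 8192) (Steps.fwd (nat_lit 16384) (Steps.bwd (nat_lit 1) (Steps.fwd (nat_lit 16384) (Steps.bwd (nat_lit 1) (Steps.fwd (nat_lit 32768) (Steps.bwd (nat_lit 2) Steps.nil)))))))))))) (nat_lit 194) (nat_lit 0),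
  Rule.mk (nat_lit 0) (nat_lit 194) (Steps.bwd (nat_lit 20) (Steps.fwd (nat_lit 8192) (Steps.fwd (nat_lit 24576) (Steps.fwd (nat_lit 8192) (Steps.bwd (nat_lit 2) (Steps.bwd (nat_lit 1) (Steps.bwd (nat_lit 3) (Steps.bwd (nat_lit 1) (Steps.bwd (nat_lit 3) (Steps.fwd (nat_lit 8192) (Steps.fwd (nat_lit 32768) (Steps.fwd (nat_lit 24576) Steps.nil)))))))))))) (nat_lit 194) (nat_lit 0),
  Rule.mk (nat_lit 19) (nat_lit 179) (Steps.fwd (nat_lit 16384) (Steps.fwd (nat_lit 32768) (Steps.bwd (nat_lit 1) (Steps.bwd (nat_lit 2) (Steps.bwd (nat_lit 1) (Steps.fwd (nat_lit 24576) (Steps.fwd (nat_lit 8192) (Steps.fwd (nat_lit 16384) (Steps.bwd (nat_lit 1) (Steps.fwd (nat_lit 16384) (Steps.bwd (nat_lit 1) Steps.nil))))))))))) (nat_lit 195) (nat_lit 0),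
  Rule.mk (nat_lit 19) (nat_lit 179) (Steps.bwd (nat_lit 3) (Steps.bwd (nat_lit 4) (Steps.bwd (nat_lit 1) (Steps.fwd (nat_lit 24576) (Steps.fwd (nat_lit 8192) (Steps.bwd (nat_lit 2) (Steps.bwd (nat_lit 1) (Steps.fwd (nat_lit 16384) (Steps.bwd (nat_lit 1) (Steps.bwd (nat_lit 3) (Steps.bwd (nat_lit 1) Steps.nil))))))))))) (nat_lit 195) (nat_lit 0),
  Rule.mk (nat_lit 0) (nat_lit 194) (Steps.bwd (nat_lit 19) (Steps.fwd (nat_lit 16384) (Steps.fwd (nat_lit 32768) (Steps.fwd (nat_lit 8192) (Steps.fwd (nat_lit 24576) (Steps.fwd (nat_lit 8192) (Steps.bwd (nat_lit 2) (Steps.bwd (nat_lit 1) (Steps.bwd (nat_lit 3) (Steps.bwd (nat_lit 1) (Steps.bwd (nat_lit 3) (Steps.fwd (nat_lit 8192) Steps.nil)))))))))))) (nat_lit 195) (nat_lit 11)]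
noncomputable def R_65 : List (Rule) := [Rule.mk (nat_lit 2) (nat_lit 164) (Steps.bwd (nat_lit 11) (Steps.fwd (nat_lit 16384) (Steps.fwd (nat_lit 114688) (Steps.bwd (nat_lit 12) (Steps.bwd (nat_lit 11) (Steps.bwd (nat_lit 10) (Steps.bwd (nat_lit 9) (Steps.fwd (nat_lit 65536) (Steps.fwd (nat_lit 40960) (Steps.bwd (nat_lit 4) Steps.nil)))))))))) (nat_lit 183) (nat_lit 9),
  Rule.mk (nat_lit 16) (nat_lit 179) (Steps.fwd (nat_lit 8192) (Steps.fwd (nat_lit 16384) (Steps.bwd (nat_lit 1) (Steps.bwd (nat_lit 3) (Steps.bwd (nat_lit 1) (Steps.bwd (nat_lit 3) (Steps.fwd (nat_lit 8192) (Steps.bwd (nat_lit 2) (Steps.fwd (nat_lit 32768) (Steps.bwd (nat_lit 1) (Steps.fwd (nat_lit 24576) Steps.nil))))))))))) (nat_lit 190) (nat_lit 1),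
  Rule.mk (nat_lit 18) (nat_lit 179) (Steps.bwd (nat_lit 1) (Steps.bwd (nat_lit 3) (Steps.fwd (nat_lit 32768) (Steps.fwd (nat_lit 8192) (Steps.fwd (nat_lit 24576) (Steps.fwd (nat_lit 8192) (Steps.bwd (nat_lit 2) (Steps.fwd (nat_lit 8192) (Steps.fwd (nat_lit 16384) (Steps.bwd (nat_lit 1) (Steps.bwd (nat_lit 3) Steps.nil))))))))))) (nat_lit 192) (nat_lit 1),
  Rule.mk (nat_lit 17) (nat_lit 179) (Steps.bwd (nat_lit 2) (Steps.bwd (nat_lit 1) (Steps.fwd (nat_lit 24576) (Steps.bwd (nat_lit 1) (Steps.bwd (nat_lit 3) (Steps.bwd (nat_lit 1) (Steps.fwd (nat_lit 16384) (Steps.bwd (nat_lit 1) (Steps.bwd (nat_lit 4) (Steps.bwd (nat_lit 2) (Steps.fwd (nat_lit 8192) Steps.nil))))))))))) (nat_lit 193) (nat_lit 0),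
  Rule.mk (nat_lit 0) (nat_lit 194) (Steps.bwd (nat_lit 20) (Steps.fwd (nat_lit 8192) (Steps.fwd (nat_lit 24576) (Steps.fwd (nat_lit 8192) (Steps.bwd (nat_lit 2) (Steps.fwd (nat_lit 8192) (Steps.fwd (nat_lit 16384) (Steps.bwd (nat_lit 1) (Steps.bwd (nat_lit 3) (Steps.bwd (nat_lit 1) (Steps.bwd (nat_lit 4) (Steps.fwd (nat_lit 24576) Steps.nil)))))))))))) (nat_lit 194) (nat_lit 0),
  Rule.mk (nat_lit 17) (nat_lit 179) (Steps.bwd (nat_lit 2) (Steps.fwd (nat_lit 8192) (Steps.fwd (nat_lit 24576) (Steps.fwd (nat_lit 8192) (Steps.fwd (nat_lit 16384) (Steps.bwd (nat_lit 1) (Steps.fwd (nat_lit 16384) (Steps.bwd (nat_lit 1) (Steps.bwd (nat_lit 4) (Steps.bwd (nat_lit 2) (Steps.fwd (nat_lit 8192) Steps.nil))))))))))) (nat_lit 193) (nat_lit 0),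
  Rule.mk (nat_lit 20) (nat_lit 179) (Steps.fwd (nat_lit 8192) (Steps.bwd (nat_lit 2) (Steps.fwd (nat_lit 8192) (Steps.fwd (nat_lit 24576) (Steps.fwd (nat_lit 8192) (Steps.fwd (nat_lit 16384) (Steps.bwd (nat_lit 1) (Steps.fwd (nat_lit 16384) (Steps.bwd (nat_lit 1) (Steps.bwd (nat_lit 4) (Steps.bwd (nat_lit 2) Steps.nil))))))))))) (nat_lit 194) (nat_lit 1),
  Rule.mk (nat_lit 1) (nat_lit 89) (Steps.fwd (nat_lit 32768) (Steps.bwd (nat_lit 7) (Steps.fwd (nat_lit 114688) (Steps.fwd (nat_lit 8192) (Steps.bwd (nat_lit 9) Steps.nil))))) (nat_lit 156) (nat_lit 3),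
  Rule.mk (nat_lit 11) (nat_lit 134) (Steps.fwd (nat_lit 114688) (Steps.fwd (nat_lit 8192) (Steps.bwd (nat_lit 10) (Steps.fwd (nat_lit 8192) (Steps.bwd (nat_lit 4) (Steps.fwd (nat_lit 40960) (Steps.bwd (nat_lit 8) (Steps.bwd (nat_lit 9) Steps.nil)))))))) (nat_lit 158) (nat_lit 8),
  Rule.mk (nat_lit 10) (nat_lit 164) (Steps.bwd (nat_lit 11) (Steps.bwd (nat_lit 12) (Steps.bwd (nat_lit 13) (Steps.fwd (nat_lit 114688) (Steps.bwd (nat_lit 1) (Steps.bwd (nat_lit 7) (Steps.fwd (nat_lit 8192) (Steps.fwd (nat_lit 40960) (Steps.fwd (nat_lit 49152) (Steps.bwd (nat_lit 9) Steps.nil)))))))))) (nat_lit 152) (nat_lit 7),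
  Rule.mk (nat_lit 2) (nat_lit 179) (Steps.bwd (nat_lit 16) (Steps.fwd (nat_lit 8192) (Steps.bwd (nat_lit 3) (Steps.fwd (nat_lit 8192) (Steps.bwd (nat_lit 3) (Steps.bwd (nat_lit 1) (Steps.bwd (nat_lit 3) (Steps.fwd (nat_lit 8192) (Steps.fwd (nat_lit 24576) (Steps.bwd (nat_lit 4) (Steps.bwd (nat_lit 1) Steps.nil))))))))))) (nat_lit 190) (nat_lit 0),
  Rule.mk (nat_lit 9) (nat_lit 134) (Steps.bwd (nat_lit 3) (Steps.fwd (nat_lit 32768) (Steps.bwd (nat_lit 5) (Steps.bwd (nat_lit 8) (Steps.bwd (nat_lit 9) (Steps.bwd (nat_lit 11) (Steps.bwd (nat_lit 14) (Steps.bwd (nat_lit 2) Steps.nil)))))))) (nat_lit 178) (nat_lit 2),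
  Rule.mk (nat_lit 5) (nat_lit 149) (Steps.bwd (nat_lit 3) (Steps.bwd (nat_lit 4) (Steps.fwd (nat_lit 40960) (Steps.fwd (nat_lit 65536) (Steps.fwd (nat_lit 73728) (Steps.fwd (nat_lit 98304) (Steps.bwd (nat_lit 13) (Steps.bwd (nat_lit 14) (Steps.bwd (nat_lit 2) Steps.nil))))))))) (nat_lit 170) (nat_lit 2),
  Rule.mk (nat_lit 11) (nat_lit 164) (Steps.bwd (nat_lit 3) (Steps.bwd (nat_lit 14) (Steps.bwd (nat_lit 12) (Steps.bwd (nat_lit 11) (Steps.fwd (nat_lit 81920) (Steps.bwd (nat_lit 9) (Steps.fwd (nat_lit 65536) (Steps.bwd (nat_lit 5) (Steps.bwd (nat_lit 4) (Steps.bwd (nat_lit 2) Steps.nil)))))))))) (nat_lit 183) (nat_lit 10),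
  Rule.mk (nat_lit 18) (nat_lit 179) (Steps.bwd (nat_lit 1) (Steps.fwd (nat_lit 16384) (Steps.bwd (nat_lit 4) (Steps.bwd (nat_lit 1) (Steps.bwd (nat_lit 2) (Steps.fwd (nat_lit 8192) (Steps.fwd (nat_lit 24576) (Steps.fwd (nat_lit 8192) (Steps.fwd (nat_lit 16384) (Steps.bwd (nat_lit 1) (Steps.fwd (nat_lit 16384) Steps.nil))))))))))) (nat_lit 192) (nat_lit 1),
  Rule.mk (nat_lit 17) (nat_lit 179) (Steps.bwd (nat_lit 2) (Steps.fwd (nat_lit 8192) (Steps.fwd (nat_lit 24576) (Steps.fwd (nat_lit 8192) (Steps.fwd (nat_lit 16384) (Steps.bwd (nat_lit 1) (Steps.fwd (nat_lit 16384) (Steps.fwd (nat_lit 8192) (Steps.fwd (nat_lit 32768) (Steps.bwd (nat_lit 2) (Steps.bwd (nat_lit 1) Steps.nil))))))))))) (nat_lit 193) (nat_lit 0),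
  Rule.mk (nat_lit 20) (nat_lit 179) (Steps.bwd (nat_lit 1) (Steps.bwd (nat_lit 2) (Steps.fwd (nat_lit 8192) (Steps.fwd (nat_lit 24576) (Steps.fwd (nat_lit 8192) (Steps.fwd (nat_lit 16384) (Steps.bwd (nat_lit 1) (Steps.fwd (nat_lit 16384) (Steps.fwd (nat_lit 8192) (Steps.fwd (nat_lit 32768) (Steps.bwd (nat_lit 2) Steps.nil))))))))))) (nat_lit 194) (nat_lit 1),
  Rule.mk (nat_lit 19) (nat_lit 179) (Steps.fwd (nat_lit 16384) (Steps.bwd (nat_lit 4) (Steps.bwd (nat_lit 1) (Steps.bwd (nat_lit 2) (Steps.fwd (nat_lit 8192) (Steps.fwd (nat_lit 24576) (Steps.fwd (nat_lit 8192) (Steps.fwd (nat_lit 16384) (Steps.bwd (nat_lit 1) (Steps.fwd (nat_lit 16384) (Steps.fwd (nat_lit 8192) Steps.nil))))))))))) (nat_lit 195) (nat_lit 0),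
  Rule.mk (nat_lit 14) (nat_lit 119) (Steps.bwd (nat_lit 3) (Steps.fwd (nat_lit 40960) (Steps.fwd (nat_lit 49152) (Steps.fwd (nat_lit 57344) (Steps.bwd (nat_lit 12) (Steps.fwd (nat_lit 114688) (Steps.bwd (nat_lit 2) Steps.nil))))))) (nat_lit 188) (nat_lit 2),
  Rule.mk (nat_lit 9) (nat_lit 134) (Steps.bwd (nat_lit 3) (Steps.bwd (nat_lit 4) (Steps.fwd (nat_lit 40960) (Steps.fwd (nat_lit 65536) (Steps.fwd (nat_lit 73728) (Steps.fwd (nat_lit 90112) (Steps.fwd (nat_lit 114688) (Steps.fwd (nat_lit 24576) Steps.nil)))))))) (nat_lit 178) (nat_lit 2),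
  Rule.mk (nat_lit 13) (nat_lit 134) (Steps.bwd (nat_lit 3) (Steps.bwd (nat_lit 14) (Steps.bwd (nat_lit 13) (Steps.fwd (nat_lit 98304) (Steps.fwd (nat_lit 90112) (Steps.fwd (nat_lit 81920) (Steps.bwd (nat_lit 6) (Steps.fwd (nat_lit 24576) Steps.nil)))))))) (nat_lit 187) (nat_lit 8),
  Rule.mk (nat_lit 5) (nat_lit 149) (Steps.bwd (nat_lit 3) (Steps.bwd (nat_lit 4) (Steps.fwd (nat_lit 40960) (Steps.fwd (nat_lit 65536) (Steps.fwd (nat_lit 73728) (Steps.fwd (nat_lit 98304) (Steps.fwd (nat_lit 106496) (Steps.bwd (nat_lit 14) (Steps.bwd (nat_lit 2) Steps.nil))))))))) (nat_lit 170) (nat_lit 2),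
  Rule.mk (nat_lit 11) (nat_lit 164) (Steps.bwd (nat_lit 3) (Steps.bwd (nat_lit 4) (Steps.fwd (nat_lit 40960) (Steps.fwd (nat_lit 65536) (Steps.fwd (nat_lit 73728) (Steps.bwd (nat_lit 10) (Steps.bwd (nat_lit 11) (Steps.fwd (nat_lit 98304) (Steps.bwd (nat_lit 14) (Steps.fwd (nat_lit 24576) Steps.nil)))))))))) (nat_lit 182) (nat_lit 2),
  Rule.mk (nat_lit 0) (nat_lit 194) (Steps.bwd (nat_lit 15) (Steps.bwd (nat_lit 3) (Steps.fwd (nat_lit 8192) (Steps.bwd (nat_lit 4) (Steps.bwd (nat_lit 3) (Steps.fwd (nat_lit 8192) (Steps.bwd (nat_lit 2) (Steps.fwd (nat_lit 8192) (Steps.bwd (nat_lit 2) (Steps.bwd (nat_lit 1) (Steps.bwd (nat_lit 2) (Steps.fwd (nat_lit 8192) Steps.nil)))))))))))) (nat_lit 191) (nat_lit 11),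
  Rule.mk (nat_lit 19) (nat_lit 179) (Steps.bwd (nat_lit 3) (Steps.bwd (nat_lit 4) (Steps.bwd (nat_lit 1) (Steps.fwd (nat_lit 24576) (Steps.bwd (nat_lit 1) (Steps.bwd (nat_lit 2) (Steps.bwd (nat_lit 1) (Steps.fwd (nat_lit 16384) (Steps.bwd (nat_lit 1) (Steps.fwd (nat_lit 16384) (Steps.bwd (nat_lit 1) Steps.nil))))))))))) (nat_lit 195) (nat_lit 0),
  Rule.mk (nat_lit 1) (nat_lit 104) (Steps.fwd (nat_lit 49152) (Steps.bwd (nat_lit 11) (Steps.fwd (nat_lit 98304) (Steps.fwd (nat_lit 114688) (Steps.bwd (nat_lit 1) (Steps.bwd (nat_lit 11) Steps.nil)))))) (nat_lit 160) (nat_lit 3),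
  Rule.mk (nat_lit 16) (nat_lit 179) (Steps.bwd (nat_lit 1) (Steps.fwd (nat_lit 16384) (Steps.fwd (nat_lit 8192) (Steps.fwd (nat_lit 16384) (Steps.fwd (nat_lit 8192) (Steps.bwd (nat_lit 3) (Steps.fwd (nat_lit 8192) (Steps.bwd (nat_lit 2) (Steps.bwd (nat_lit 4) (Steps.bwd (nat_lit 1) (Steps.bwd (nat_lit 2) Steps.nil))))))))))) (nat_lit 190) (nat_lit 1),
  Rule.mk (nat_lit 16) (nat_lit 179) (Steps.fwd (nat_lit 8192) (Steps.fwd (nat_lit 16384) (Steps.bwd (nat_lit 1) (Steps.fwd (nat_lit 16384) (Steps.fwd (nat_lit 8192) (Steps.bwd (nat_lit 3) (Steps.bwd (nat_lit 1) (Steps.bwd (nat_lit 2) (Steps.bwd (nat_lit 4) (Steps.fwd (nat_lit 8192) (Steps.fwd (nat_lit 24576) Steps.nil))))))))))) (nat_lit 190) (nat_lit 1),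
  Rule.mk (nat_lit 16) (nat_lit 179) (Steps.bwd (nat_lit 1) (Steps.fwd (nat_lit 16384) (Steps.fwd (nat_lit 8192) (Steps.bwd (nat_lit 3) (Steps.bwd (nat_lit 1) (Steps.fwd (nat_lit 16384) (Steps.bwd (nat_lit 1) (Steps.fwd (nat_lit 24576) (Steps.bwd (nat_lit 4) (Steps.fwd (nat_lit 8192) (Steps.fwd (nat_lit 24576) Steps.nil))))))))))) (nat_lit 190) (nat_lit 1),
  Rule.mk (nat_lit 16) (nat_lit 179) (Steps.fwd (nat_lit 8192) (Steps.bwd (nat_lit 3) (Steps.bwd (nat_lit 1) (Steps.fwd (nat_lit 16384) (Steps.bwd (nat_lit 1) (Steps.bwd (nat_lit 3) (Steps.bwd (nat_lit 1) (Steps.fwd (nat_lit 24576) (Steps.bwd (nat_lit 4) (Steps.bwd (nat_lit 1) (Steps.bwd (nat_lit 2) Steps.nil))))))))))) (nat_lit 190) (nat_lit 1),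
  Rule.mk (nat_lit 0) (nat_lit 194) (Steps.bwd (nat_lit 16) (Steps.bwd (nat_lit 1) (Steps.bwd (nat_lit 3) (Steps.bwd (nat_lit 1) (Steps.fwd (nat_lit 16384) (Steps.fwd (nat_lit 8192) (Steps.bwd (nat_lit 3) (Steps.fwd (nat_lit 8192) (Steps.bwd (nat_lit 2) (Steps.fwd (nat_lit 32768) (Steps.fwd (nat_lit 8192) (Steps.bwd (nat_lit 2) Steps.nil)))))))))))) (nat_lit 190) (nat_lit 0),
  Rule.mk (nat_lit 15) (nat_lit 179) (Steps.fwd (nat_lit 16384) (Steps.bwd (nat_lit 1) (Steps.bwd (nat_lit 4) (Steps.bwd (nat_lit 3) (Steps.bwd (nat_lit 1) (Steps.bwd (nat_lit 2) (Steps.fwd (nat_lit 8192) (Steps.fwd (nat_lit 24576) (Steps.fwd (nat_lit 8192) (Steps.bwd (nat_lit 2) (Steps.fwd (nat_lit 8192) Steps.nil))))))))))) (nat_lit 191) (nat_lit 0),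
  Rule.mk (nat_lit 18) (nat_lit 179) (Steps.bwd (nat_lit 1) (Steps.bwd (nat_lit 3) (Steps.bwd (nat_lit 4) (Steps.bwd (nat_lit 1) (Steps.bwd (nat_lit 2) (Steps.fwd (nat_lit 8192) (Steps.fwd (nat_lit 24576) (Steps.fwd (nat_lit 8192) (Steps.fwd (nat_lit 16384) (Steps.fwd (nat_lit 8192) (Steps.bwd (nat_lit 3) Steps.nil))))))))))) (nat_lit 192) (nat_lit 1),
  Rule.mk (nat_lit 17) (nat_lit 179) (Steps.bwd (nat_lit 2) (Steps.fwd (nat_lit 8192) (Steps.bwd (nat_lit 2) (Steps.fwd (nat_lit 8192) (Steps.fwd (nat_lit 16384) (Steps.fwd (nat_lit 8192) (Steps.bwd (nat_lit 3) (Steps.fwd (nat_lit 8192) (Steps.fwd (nat_lit 32768) (Steps.fwd (nat_lit 24576) (Steps.bwd (nat_lit 1) Steps.nil))))))))))) (nat_lit 193) (nat_lit 0),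
  Rule.mk (nat_lit 20) (nat_lit 179) (Steps.bwd (nat_lit 1) (Steps.bwd (nat_lit 2) (Steps.fwd (nat_lit 8192) (Steps.fwd (nat_lit 24576) (Steps.fwd (nat_lit 8192) (Steps.fwd (nat_lit 16384) (Steps.fwd (nat_lit 8192) (Steps.bwd (nat_lit 3) (Steps.bwd (nat_lit 1) (Steps.bwd (nat_lit 4) (Steps.fwd (nat_lit 24576) Steps.nil))))))))))) (nat_lit 194) (nat_lit 1),
  Rule.mk (nat_lit 19) (nat_lit 179) (Steps.fwd (nat_lit 16384) (Steps.fwd (nat_lit 32768) (Steps.fwd (nat_lit 8192) (Steps.fwd (nat_lit 24576) (Steps.bwd (nat_lit 1) (Steps.fwd (nat_lit 24576) (Steps.bwd (nat_lit 1) (Steps.fwd (nat_lit 16384) (Steps.bwd (nat_lit 1) (Steps.bwd (nat_lit 3) (Steps.bwd (nat_lit 1) Steps.nil))))))))))) (nat_lit 195) (nat_lit 0),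
  Rule.mk (nat_lit 1) (nat_lit 179) (Steps.bwd (nat_lit 19) (Steps.bwd (nat_lit 3) (Steps.bwd (nat_lit 4) (Steps.bwd (nat_lit 1) (Steps.bwd (nat_lit 2) (Steps.bwd (nat_lit 1) (Steps.fwd (nat_lit 24576) (Steps.fwd (nat_lit 8192) (Steps.bwd (nat_lit 3) (Steps.bwd (nat_lit 1) (Steps.bwd (nat_lit 3) Steps.nil))))))))))) (nat_lit 195) (nat_lit 11),
  Rule.mk (nat_lit 8) (nat_lit 104) (Steps.fwd (nat_lit 8192) (Steps.bwd (nat_lit 5) (Steps.fwd (nat_lit 57344) (Steps.bwd (nat_lit 13) (Steps.bwd (nat_lit 14) (Steps.bwd (nat_lit 1) Steps.nil)))))) (nat_lit 154) (nat_lit 2),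
  Rule.mk (nat_lit 14) (nat_lit 104) (Steps.fwd (nat_lit 106496) (Steps.bwd (nat_lit 7) (Steps.bwd (nat_lit 5) (Steps.bwd (nat_lit 1) (Steps.fwd (nat_lit 65536) (Steps.bwd (nat_lit 1) Steps.nil)))))) (nat_lit 155) (nat_lit 1),
  Rule.mk (nat_lit 6) (nat_lit 149) (Steps.fwd (nat_lit 8192) (Steps.fwd (nat_lit 32768) (Steps.bwd (nat_lit 5) (Steps.bwd (nat_lit 8) (Steps.fwd (nat_lit 73728) (Steps.bwd (nat_lit 12) (Steps.bwd (nat_lit 13) (Steps.bwd (nat_lit 14) (Steps.bwd (nat_lit 1) Steps.nil))))))))) (nat_lit 150) (nat_lit 2),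
  Rule.mk (nat_lit 15) (nat_lit 179) (Steps.fwd (nat_lit 16384) (Steps.bwd (nat_lit 1) (Steps.bwd (nat_lit 4) (Steps.bwd (nat_lit 3) (Steps.fwd (nat_lit 8192) (Steps.fwd (nat_lit 24576) (Steps.fwd (nat_lit 8192) (Steps.bwd (nat_lit 2) (Steps.fwd (nat_lit 8192) (Steps.fwd (nat_lit 24576) (Steps.bwd (nat_lit 1) Steps.nil))))))))))) (nat_lit 191) (nat_lit 0),
  Rule.mk (nat_lit 7) (nat_lit 119) (Steps.bwd (nat_lit 6) (Steps.bwd (nat_lit 5) (Steps.bwd (nat_lit 2) (Steps.fwd (nat_lit 114688) (Steps.bwd (nat_lit 3) (Steps.fwd (nat_lit 114688) (Steps.fwd (nat_lit 98304) Steps.nil))))))) (nat_lit 189) (nat_lit 3),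
  Rule.mk (nat_lit 1) (nat_lit 134) (Steps.bwd (nat_lit 10) (Steps.bwd (nat_lit 1) (Steps.fwd (nat_lit 32768) (Steps.bwd (nat_lit 5) (Steps.fwd (nat_lit 65536) (Steps.fwd (nat_lit 73728) (Steps.fwd (nat_lit 90112) (Steps.bwd (nat_lit 14) Steps.nil)))))))) (nat_lit 158) (nat_lit 1),
  Rule.mk (nat_lit 0) (nat_lit 194) (Steps.bwd (nat_lit 2) (Steps.fwd (nat_lit 8192) (Steps.bwd (nat_lit 2) (Steps.bwd (nat_lit 1) (Steps.bwd (nat_lit 3) (Steps.bwd (nat_lit 1) (Steps.fwd (nat_lit 16384) (Steps.bwd (nat_lit 1) (Steps.bwd (nat_lit 4) (Steps.bwd (nat_lit 2) (Steps.bwd (nat_lit 1) (Steps.fwd (nat_lit 147456) Steps.nil)))))))))))) (nat_lit 193) (nat_lit 0),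
  Rule.mk (nat_lit 18) (nat_lit 179) (Steps.fwd (nat_lit 8192) (Steps.fwd (nat_lit 16384) (Steps.fwd (nat_lit 32768) (Steps.bwd (nat_lit 1) (Steps.bwd (nat_lit 2) (Steps.fwd (nat_lit 8192) (Steps.bwd (nat_lit 2) (Steps.bwd (nat_lit 1) (Steps.bwd (nat_lit 3) (Steps.bwd (nat_lit 1) (Steps.fwd (nat_lit 16384) Steps.nil))))))))))) (nat_lit 192) (nat_lit 1),
  Rule.mk (nat_lit 20) (nat_lit 179) (Steps.bwd (nat_lit 1) (Steps.bwd (nat_lit 2) (Steps.fwd (nat_lit 8192) (Steps.bwd (nat_lit 2) (Steps.bwd (nat_lit 1) (Steps.bwd (nat_lit 3) (Steps.bwd (nat_lit 1) (Steps.fwd (nat_lit 16384) (Steps.bwd (nat_lit 1) (Steps.bwd (nat_lit 4) (Steps.bwd (nat_lit 2) Steps.nil))))))))))) (nat_lit 194) (nat_lit 1),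
  Rule.mk (nat_lit 0) (nat_lit 194) (Steps.bwd (nat_lit 20) (Steps.fwd (nat_lit 8192) (Steps.bwd (nat_lit 2) (Steps.fwd (nat_lit 8192) (Steps.fwd (nat_lit 24576) (Steps.fwd (nat_lit 8192) (Steps.fwd (nat_lit 16384) (Steps.bwd (nat_lit 1) (Steps.fwd (nat_lit 16384) (Steps.fwd (nat_lit 8192) (Steps.bwd (nat_lit 4) (Steps.bwd (nat_lit 2) Steps.nil)))))))))))) (nat_lit 194) (nat_lit 0),
  Rule.mk (nat_lit 2) (nat_lit 134) (Steps.bwd (nat_lit 13) (Steps.bwd (nat_lit 3) (Steps.bwd (nat_lit 14) (Steps.bwd (nat_lit 13) (Steps.fwd (nat_lit 98304) (Steps.bwd (nat_lit 11) (Steps.fwd (nat_lit 81920) (Steps.bwd (nat_lit 6) Steps.nil)))))))) (nat_lit 187) (nat_lit 7),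
  Rule.mk (nat_lit 16) (nat_lit 179) (Steps.fwd (nat_lit 8192) (Steps.fwd (nat_lit 16384) (Steps.fwd (nat_lit 8192) (Steps.bwd (nat_lit 3) (Steps.fwd (nat_lit 8192) (Steps.fwd (nat_lit 16384) (Steps.fwd (nat_lit 8192) (Steps.fwd (nat_lit 24576) (Steps.fwd (nat_lit 32768) (Steps.bwd (nat_lit 1) (Steps.bwd (nat_lit 2) Steps.nil))))))))))) (nat_lit 190) (nat_lit 1),
  Rule.mk (nat_lit 16) (nat_lit 179) (Steps.fwd (nat_lit 8192) (Steps.fwd (nat_lit 16384) (Steps.bwd (nat_lit 1) (Steps.bwd (nat_lit 3) (Steps.fwd (nat_lit 8192) (Steps.bwd (nat_lit 3) (Steps.bwd (nat_lit 1) (Steps.bwd (nat_lit 2) (Steps.fwd (nat_lit 32768) (Steps.fwd (nat_lit 8192) (Steps.bwd (nat_lit 2) Steps.nil))))))))))) (nat_lit 190) (nat_lit 1),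
  Rule.mk (nat_lit 0) (nat_lit 194) (Steps.bwd (nat_lit 15) (Steps.bwd (nat_lit 3) (Steps.fwd (nat_lit 8192) (Steps.bwd (nat_lit 4) (Steps.bwd (nat_lit 3) (Steps.bwd (nat_lit 1) (Steps.fwd (nat_lit 24576) (Steps.bwd (nat_lit 1) (Steps.bwd (nat_lit 2) (Steps.fwd (nat_lit 8192) (Steps.bwd (nat_lit 2) (Steps.fwd (nat_lit 8192) Steps.nil)))))))))))) (nat_lit 191) (nat_lit 11),
  Rule.mk (nat_lit 0) (nat_lit 194) (Steps.bwd (nat_lit 18) (Steps.bwd (nat_lit 1) (Steps.bwd (nat_lit 3) (Steps.fwd (nat_lit 32768) (Steps.bwd (nat_lit 1) (Steps.bwd (nat_lit 2) (Steps.fwd (nat_lit 8192) (Steps.bwd (nat_lit 2) (Steps.fwd (nat_lit 8192) (Steps.fwd (nat_lit 16384) (Steps.bwd (nat_lit 1) (Steps.bwd (nat_lit 3) Steps.nil)))))))))))) (nat_lit 192) (nat_lit 0),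
  Rule.mk (nat_lit 0) (nat_lit 194) (Steps.bwd (nat_lit 20) (Steps.bwd (nat_lit 1) (Steps.bwd (nat_lit 2) (Steps.fwd (nat_lit 8192) (Steps.bwd (nat_lit 2) (Steps.fwd (nat_lit 8192) (Steps.fwd (nat_lit 16384) (Steps.bwd (nat_lit 1) (Steps.bwd (nat_lit 3) (Steps.fwd (nat_lit 8192) (Steps.fwd (nat_lit 32768) (Steps.bwd (nat_lit 2) Steps.nil)))))))))))) (nat_lit 194) (nat_lit 0),
  Rule.mk (nat_lit 0) (nat_lit 194) (Steps.bwd (nat_lit 19) (Steps.bwd (nat_lit 3) (Steps.fwd (nat_lit 32768) (Steps.bwd (nat_lit 1) (Steps.bwd (nat_lit 2) (Steps.fwd (nat_lit 8192) (Steps.bwd (nat_lit 2) (Steps.fwd (nat_lit 8192) (Steps.fwd (nat_lit 16384) (Steps.bwd (nat_lit 1) (Steps.bwd (nat_lit 3) (Steps.fwd (nat_lit 8192) Steps.nil)))))))))))) (nat_lit 195) (nat_lit 11),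
  Rule.mk (nat_lit 15) (nat_lit 179) (Steps.fwd (nat_lit 16384) (Steps.bwd (nat_lit 1) (Steps.bwd (nat_lit 4) (Steps.fwd (nat_lit 16384) (Steps.bwd (nat_lit 1) (Steps.bwd (nat_lit 2) (Steps.bwd (nat_lit 1) (Steps.bwd (nat_lit 2) (Steps.bwd (nat_lit 1) (Steps.fwd (nat_lit 24576) (Steps.bwd (nat_lit 1) Steps.nil))))))))))) (nat_lit 191) (nat_lit 0),
  Rule.mk (nat_lit 11) (nat_lit 104) (Steps.bwd (nat_lit 6) (Steps.bwd (nat_lit 1) (Steps.fwd (nat_lit 90112) (Steps.fwd (nat_lit 8192) (Steps.fwd (nat_lit 114688) (Steps.fwd (nat_lit 98304) Steps.nil)))))) (nat_lit 161) (nat_lit 3),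
  Rule.mk (nat_lit 1) (nat_lit 149) (Steps.bwd (nat_lit 6) (Steps.bwd (nat_lit 1) (Steps.bwd (nat_lit 4) (Steps.bwd (nat_lit 5) (Steps.bwd (nat_lit 8) (Steps.bwd (nat_lit 9) (Steps.fwd (nat_lit 98304) (Steps.fwd (nat_lit 106496) (Steps.bwd (nat_lit 14) Steps.nil))))))))) (nat_lit 150) (nat_lit 1),
  Rule.mk (nat_lit 2) (nat_lit 179) (Steps.bwd (nat_lit 16) (Steps.fwd (nat_lit 8192) (Steps.bwd (nat_lit 3) (Steps.fwd (nat_lit 8192) (Steps.fwd (nat_lit 16384) (Steps.fwd (nat_lit 8192) (Steps.fwd (nat_lit 16384) (Steps.bwd (nat_lit 1) (Steps.fwd (nat_lit 24576) (Steps.fwd (nat_lit 32768) (Steps.bwd (nat_lit 1) Steps.nil))))))))))) (nat_lit 190) (nat_lit 0),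
  Rule.mk (nat_lit 15) (nat_lit 179) (Steps.bwd (nat_lit 3) (Steps.bwd (nat_lit 1) (Steps.fwd (nat_lit 32768) (Steps.bwd (nat_lit 3) (Steps.fwd (nat_lit 8192) (Steps.fwd (nat_lit 24576) (Steps.bwd (nat_lit 1) (Steps.fwd (nat_lit 24576) (Steps.bwd (nat_lit 1) (Steps.fwd (nat_lit 24576) (Steps.bwd (nat_lit 1) Steps.nil))))))))))) (nat_lit 191) (nat_lit 0),
  Rule.mk (nat_lit 17) (nat_lit 179) (Steps.bwd (nat_lit 2) (Steps.bwd (nat_lit 1) (Steps.bwd (nat_lit 2) (Steps.fwd (nat_lit 8192) (Steps.fwd (nat_lit 16384) (Steps.fwd (nat_lit 8192) (Steps.fwd (nat_lit 16384) (Steps.bwd (nat_lit 1) (Steps.fwd (nat_lit 32768) (Steps.fwd (nat_lit 24576) (Steps.bwd (nat_lit 1) Steps.nil))))))))))) (nat_lit 193) (nat_lit 0),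
  Rule.mk (nat_lit 19) (nat_lit 179) (Steps.bwd (nat_lit 3) (Steps.fwd (nat_lit 32768) (Steps.fwd (nat_lit 8192) (Steps.fwd (nat_lit 24576) (Steps.bwd (nat_lit 1) (Steps.fwd (nat_lit 24576) (Steps.bwd (nat_lit 1) (Steps.fwd (nat_lit 16384) (Steps.fwd (nat_lit 8192) (Steps.bwd (nat_lit 3) (Steps.bwd (nat_lit 1) Steps.nil))))))))))) (nat_lit 195) (nat_lit 0),
  Rule.mk (nat_lit 12) (nat_lit 104) (Steps.bwd (nat_lit 3) (Steps.bwd (nat_lit 4) (Steps.fwd (nat_lit 40960) (Steps.bwd (nat_lit 8) (Steps.bwd (nat_lit 9) (Steps.bwd (nat_lit 2) Steps.nil)))))) (nat_lit 184) (nat_lit 2),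
  Rule.mk (nat_lit 14) (nat_lit 119) (Steps.fwd (nat_lit 16384) (Steps.bwd (nat_lit 5) (Steps.bwd (nat_lit 6) (Steps.fwd (nat_lit 57344) (Steps.bwd (nat_lit 12) (Steps.bwd (nat_lit 14) (Steps.bwd (nat_lit 2) Steps.nil))))))) (nat_lit 188) (nat_lit 2),
  Rule.mk (nat_lit 11) (nat_lit 164) (Steps.fwd (nat_lit 16384) (Steps.fwd (nat_lit 32768) (Steps.fwd (nat_lit 40960) (Steps.bwd (nat_lit 8) (Steps.bwd (nat_lit 9) (Steps.fwd (nat_lit 81920) (Steps.bwd (nat_lit 11) (Steps.bwd (nat_lit 12) (Steps.bwd (nat_lit 14) (Steps.bwd (nat_lit 2) Steps.nil)))))))))) (nat_lit 182) (nat_lit 2)]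
noncomputable def R_66 : List (Rule) := [Rule.mk (nat_lit 1) (nat_lit 179) (Steps.bwd (nat_lit 17) (Steps.fwd (nat_lit 24576) (Steps.bwd (nat_lit 1) (Steps.fwd (nat_lit 24576) (Steps.bwd (nat_lit 1) (Steps.bwd (nat_lit 3) (Steps.bwd (nat_lit 1) (Steps.fwd (nat_lit 16384) (Steps.fwd (nat_lit 8192) (Steps.bwd (nat_lit 4) (Steps.bwd (nat_lit 2) Steps.nil))))))))))) (nat_lit 193) (nat_lit 11),
  Rule.mk (nat_lit 20) (nat_lit 179) (Steps.bwd (nat_lit 1) (Steps.fwd (nat_lit 24576) (Steps.bwd (nat_lit 1) (Steps.fwd (nat_lit 24576) (Steps.bwd (nat_lit 1) (Steps.bwd (nat_lit 3) (Steps.bwd (nat_lit 1) (Steps.fwd (nat_lit 16384) (Steps.fwd (nat_lit 8192) (Steps.bwd (nat_lit 4) (Steps.bwd (nat_lit 2) Steps.nil))))))))))) (nat_lit 194) (nat_lit 1),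
  Rule.mk (nat_lit 0) (nat_lit 104) (Steps.fwd (nat_lit 8192) (Steps.bwd (nat_lit 14) (Steps.bwd (nat_lit 7) (Steps.bwd (nat_lit 4) (Steps.fwd (nat_lit 8192) (Steps.bwd (nat_lit 9) Steps.nil)))))) (nat_lit 157) (nat_lit 5),
  Rule.mk (nat_lit 6) (nat_lit 149) (Steps.bwd (nat_lit 1) (Steps.bwd (nat_lit 4) (Steps.fwd (nat_lit 40960) (Steps.bwd (nat_lit 8) (Steps.bwd (nat_lit 9) (Steps.fwd (nat_lit 98304) (Steps.fwd (nat_lit 106496) (Steps.bwd (nat_lit 14) (Steps.fwd (nat_lit 8192) Steps.nil))))))))) (nat_lit 150) (nat_lit 2),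
  Rule.mk (nat_lit 16) (nat_lit 179) (Steps.bwd (nat_lit 1) (Steps.bwd (nat_lit 3) (Steps.fwd (nat_lit 8192) (Steps.fwd (nat_lit 16384) (Steps.fwd (nat_lit 8192) (Steps.fwd (nat_lit 16384) (Steps.fwd (nat_lit 8192) (Steps.bwd (nat_lit 2) (Steps.bwd (nat_lit 4) (Steps.fwd (nat_lit 8192) (Steps.bwd (nat_lit 2) Steps.nil))))))))))) (nat_lit 190) (nat_lit 1),
  Rule.mk (nat_lit 0) (nat_lit 194) (Steps.fwd (nat_lit 16384) (Steps.fwd (nat_lit 32768) (Steps.fwd (nat_lit 8192) (Steps.bwd (nat_lit 2) (Steps.fwd (nat_lit 8192) (Steps.fwd (nat_lit 24576) (Steps.fwd (nat_lit 8192) (Steps.fwd (nat_lit 16384) (Steps.bwd (nat_lit 1) (Steps.fwd (nat_lit 16384) (Steps.bwd (nat_lit 1) (Steps.fwd (nat_lit 163840) Steps.nil)))))))))))) (nat_lit 195) (nat_lit 0),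
  Rule.mk (nat_lit 1) (nat_lit 179) (Steps.bwd (nat_lit 3) (Steps.bwd (nat_lit 4) (Steps.bwd (nat_lit 1) (Steps.bwd (nat_lit 2) (Steps.bwd (nat_lit 1) (Steps.bwd (nat_lit 2) (Steps.bwd (nat_lit 1) (Steps.fwd (nat_lit 16384) (Steps.bwd (nat_lit 1) (Steps.fwd (nat_lit 16384) (Steps.fwd (nat_lit 139264) Steps.nil))))))))))) (nat_lit 192) (nat_lit 2),
  Rule.mk (nat_lit 20) (nat_lit 179) (Steps.bwd (nat_lit 1) (Steps.bwd (nat_lit 2) (Steps.bwd (nat_lit 1) (Steps.bwd (nat_lit 2) (Steps.bwd (nat_lit 1) (Steps.fwd (nat_lit 16384) (Steps.bwd (nat_lit 1) (Steps.fwd (nat_lit 16384) (Steps.fwd (nat_lit 8192) (Steps.fwd (nat_lit 32768) (Steps.bwd (nat_lit 2) Steps.nil))))))))))) (nat_lit 194) (nat_lit 1),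
  Rule.mk (nat_lit 19) (nat_lit 179) (Steps.bwd (nat_lit 3) (Steps.bwd (nat_lit 4) (Steps.bwd (nat_lit 1) (Steps.bwd (nat_lit 2) (Steps.bwd (nat_lit 1) (Steps.bwd (nat_lit 2) (Steps.bwd (nat_lit 1) (Steps.fwd (nat_lit 16384) (Steps.bwd (nat_lit 1) (Steps.fwd (nat_lit 16384) (Steps.fwd (nat_lit 8192) Steps.nil))))))))))) (nat_lit 195) (nat_lit 0),
  Rule.mk (nat_lit 2) (nat_lit 179) (Steps.bwd (nat_lit 16) (Steps.bwd (nat_lit 1) (Steps.fwd (nat_lit 16384) (Steps.fwd (nat_lit 8192) (Steps.fwd (nat_lit 16384) (Steps.fwd (nat_lit 8192) (Steps.fwd (nat_lit 16384) (Steps.fwd (nat_lit 8192) (Steps.bwd (nat_lit 2) (Steps.fwd (nat_lit 32768) (Steps.fwd (nat_lit 8192) Steps.nil))))))))))) (nat_lit 190) (nat_lit 0),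
  Rule.mk (nat_lit 1) (nat_lit 179) (Steps.bwd (nat_lit 15) (Steps.fwd (nat_lit 16384) (Steps.fwd (nat_lit 8192) (Steps.fwd (nat_lit 32768) (Steps.bwd (nat_lit 3) (Steps.fwd (nat_lit 8192) (Steps.bwd (nat_lit 2) (Steps.bwd (nat_lit 1) (Steps.fwd (nat_lit 24576) (Steps.fwd (nat_lit 8192) (Steps.bwd (nat_lit 2) Steps.nil))))))))))) (nat_lit 191) (nat_lit 11),
  Rule.mk (nat_lit 9) (nat_lit 104) (Steps.bwd (nat_lit 1) (Steps.fwd (nat_lit 106496) (Steps.fwd (nat_lit 8192) (Steps.fwd (nat_lit 32768) (Steps.bwd (nat_lit 5) (Steps.fwd (nat_lit 65536) Steps.nil)))))) (nat_lit 164) (nat_lit 0),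
  Rule.mk (nat_lit 10) (nat_lit 134) (Steps.bwd (nat_lit 1) (Steps.fwd (nat_lit 114688) (Steps.fwd (nat_lit 90112) (Steps.fwd (nat_lit 73728) (Steps.bwd (nat_lit 8) (Steps.bwd (nat_lit 5) (Steps.fwd (nat_lit 32768) (Steps.fwd (nat_lit 8192) Steps.nil)))))))) (nat_lit 159) (nat_lit 8),
  Rule.mk (nat_lit 7) (nat_lit 164) (Steps.bwd (nat_lit 1) (Steps.fwd (nat_lit 114688) (Steps.bwd (nat_lit 13) (Steps.fwd (nat_lit 98304) (Steps.bwd (nat_lit 11) (Steps.fwd (nat_lit 81920) (Steps.fwd (nat_lit 73728) (Steps.fwd (nat_lit 49152) (Steps.bwd (nat_lit 5) (Steps.bwd (nat_lit 1) Steps.nil)))))))))) (nat_lit 153) (nat_lit 10),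
  Rule.mk (nat_lit 12) (nat_lit 164) (Steps.bwd (nat_lit 1) (Steps.fwd (nat_lit 114688) (Steps.bwd (nat_lit 12) (Steps.bwd (nat_lit 11) (Steps.fwd (nat_lit 81920) (Steps.fwd (nat_lit 73728) (Steps.fwd (nat_lit 65536) (Steps.fwd (nat_lit 40960) (Steps.fwd (nat_lit 32768) (Steps.fwd (nat_lit 8192) Steps.nil)))))))))) (nat_lit 163) (nat_lit 10),
  Rule.mk (nat_lit 0) (nat_lit 59) (Steps.fwd (nat_lit 16384) (Steps.bwd (nat_lit 3) (Steps.bwd (nat_lit 3) Steps.nil))) (nat_lit 3) (nat_lit 0),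
  Rule.mk (nat_lit 16) (nat_lit 179) (Steps.fwd (nat_lit 8192) (Steps.bwd (nat_lit 3) (Steps.fwd (nat_lit 8192) (Steps.bwd (nat_lit 3) (Steps.bwd (nat_lit 1) (Steps.fwd (nat_lit 16384) (Steps.fwd (nat_lit 8192) (Steps.fwd (nat_lit 24576) (Steps.bwd (nat_lit 4) (Steps.fwd (nat_lit 8192) (Steps.bwd (nat_lit 2) Steps.nil))))))))))) (nat_lit 190) (nat_lit 1),
  Rule.mk (nat_lit 16) (nat_lit 179) (Steps.fwd (nat_lit 8192) (Steps.bwd (nat_lit 3) (Steps.bwd (nat_lit 1) (Steps.fwd (nat_lit 16384) (Steps.fwd (nat_lit 8192) (Steps.bwd (nat_lit 3) (Steps.bwd (nat_lit 1) (Steps.bwd (nat_lit 2) (Steps.bwd (nat_lit 4) (Steps.fwd (nat_lit 8192) (Steps.bwd (nat_lit 2) Steps.nil))))))))))) (nat_lit 190) (nat_lit 1),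
  Rule.mk (nat_lit 15) (nat_lit 179) (Steps.bwd (nat_lit 3) (Steps.bwd (nat_lit 1) (Steps.bwd (nat_lit 4) (Steps.bwd (nat_lit 3) (Steps.fwd (nat_lit 8192) (Steps.fwd (nat_lit 24576) (Steps.fwd (nat_lit 8192) (Steps.bwd (nat_lit 2) (Steps.bwd (nat_lit 1) (Steps.bwd (nat_lit 2) (Steps.fwd (nat_lit 8192) Steps.nil))))))))))) (nat_lit 191) (nat_lit 0),
  Rule.mk (nat_lit 0) (nat_lit 194) (Steps.bwd (nat_lit 18) (Steps.fwd (nat_lit 8192) (Steps.bwd (nat_lit 3) (Steps.fwd (nat_lit 32768) (Steps.fwd (nat_lit 8192) (Steps.bwd (nat_lit 2) (Steps.bwd (nat_lit 1) (Steps.fwd (nat_lit 24576) (Steps.fwd (nat_lit 8192) (Steps.bwd (nat_lit 3) (Steps.bwd (nat_lit 1) (Steps.fwd (nat_lit 16384) Steps.nil)))))))))))) (nat_lit 192) (nat_lit 0),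
  Rule.mk (nat_lit 17) (nat_lit 179) (Steps.bwd (nat_lit 2) (Steps.bwd (nat_lit 1) (Steps.fwd (nat_lit 24576) (Steps.fwd (nat_lit 8192) (Steps.bwd (nat_lit 3) (Steps.bwd (nat_lit 1) (Steps.fwd (nat_lit 16384) (Steps.fwd (nat_lit 8192) (Steps.fwd (nat_lit 32768) (Steps.bwd (nat_lit 2) (Steps.fwd (nat_lit 8192) Steps.nil))))))))))) (nat_lit 193) (nat_lit 0),
  Rule.mk (nat_lit 20) (nat_lit 179) (Steps.fwd (nat_lit 8192) (Steps.bwd (nat_lit 2) (Steps.bwd (nat_lit 1) (Steps.fwd (nat_lit 24576) (Steps.fwd (nat_lit 8192) (Steps.bwd (nat_lit 3) (Steps.bwd (nat_lit 1) (Steps.fwd (nat_lit 16384) (Steps.fwd (nat_lit 8192) (Steps.fwd (nat_lit 32768) (Steps.bwd (nat_lit 2) Steps.nil))))))))))) (nat_lit 194) (nat_lit 1),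
  Rule.mk (nat_lit 0) (nat_lit 194) (Steps.bwd (nat_lit 1) (Steps.bwd (nat_lit 2) (Steps.fwd (nat_lit 8192) (Steps.fwd (nat_lit 24576) (Steps.bwd (nat_lit 1) (Steps.bwd (nat_lit 3) (Steps.fwd (nat_lit 8192) (Steps.fwd (nat_lit 16384) (Steps.bwd (nat_lit 1) (Steps.bwd (nat_lit 4) (Steps.fwd (nat_lit 24576) (Steps.fwd (nat_lit 155648) Steps.nil)))))))))))) (nat_lit 194) (nat_lit 1),
  Rule.mk (nat_lit 15) (nat_lit 179) (Steps.bwd (nat_lit 3) (Steps.fwd (nat_lit 8192) (Steps.fwd (nat_lit 32768) (Steps.fwd (nat_lit 16384) (Steps.bwd (nat_lit 1) (Steps.fwd (nat_lit 24576) (Steps.fwd (nat_lit 8192) (Steps.bwd (nat_lit 2) (Steps.fwd (nat_lit 8192) (Steps.fwd (nat_lit 24576) (Steps.bwd (nat_lit 1) Steps.nil))))))))))) (nat_lit 191) (nat_lit 0),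
  Rule.mk (nat_lit 1) (nat_lit 179) (Steps.bwd (nat_lit 15) (Steps.fwd (nat_lit 16384) (Steps.fwd (nat_lit 8192) (Steps.bwd (nat_lit 4) (Steps.bwd (nat_lit 3) (Steps.bwd (nat_lit 1) (Steps.fwd (nat_lit 24576) (Steps.bwd (nat_lit 1) (Steps.fwd (nat_lit 24576) (Steps.fwd (nat_lit 8192) (Steps.bwd (nat_lit 2) Steps.nil))))))))))) (nat_lit 191) (nat_lit 11),
  Rule.mk (nat_lit 6) (nat_lit 104) (Steps.fwd (nat_lit 90112) (Steps.fwd (nat_lit 98304) (Steps.fwd (nat_lit 114688) (Steps.fwd (nat_lit 8192) (Steps.bwd (nat_lit 11) (Steps.bwd (nat_lit 1) Steps.nil)))))) (nat_lit 160) (nat_lit 4),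
  Rule.mk (nat_lit 19) (nat_lit 179) (Steps.fwd (nat_lit 16384) (Steps.bwd (nat_lit 4) (Steps.fwd (nat_lit 8192) (Steps.bwd (nat_lit 2) (Steps.bwd (nat_lit 1) (Steps.fwd (nat_lit 24576) (Steps.bwd (nat_lit 1) (Steps.fwd (nat_lit 16384) (Steps.fwd (nat_lit 8192) (Steps.fwd (nat_lit 16384) (Steps.bwd (nat_lit 1) Steps.nil))))))))))) (nat_lit 195) (nat_lit 0),
  Rule.mk (nat_lit 3) (nat_lit 689) (Steps.fwd (nat_lit 8192) (Steps.fwd (nat_lit 16384) (Steps.bwd (nat_lit 1) (Steps.fwd (nat_lit 16384) (Steps.bwd (nat_lit 1) (Steps.fwd (nat_lit 16384) (Steps.bwd (nat_lit 1) (Steps.fwd (nat_lit 16384) (Steps.bwd (nat_lit 1) (Steps.bwd (nat_lit 3) (Steps.fwd (nat_lit 8192) (Steps.bwd (nat_lit 3) (Steps.fwd (nat_lit 8192) (Steps.bwd (nat_lit 3) (Steps.fwd (nat_lit 8192) (Steps.fwd (nat_lit 16384) (Steps.fwd (nat_lit 8192) (Steps.bwd (nat_lit 3) (Steps.fwd (nat_lit 8192) (Steps.bwd (nat_lit 3) (Steps.fwd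 (nat_lit 8192) (Steps.bwd (nat_lit 3) (Steps.bwd (nat_lit 1) (Steps.bwd (nat_lit 3) (Steps.bwd (nat_lit 1) (Steps.fwd (nat_lit 16384) (Steps.fwd (nat_lit 8192) (Steps.fwd (nat_lit 16384) (Steps.bwd (nat_lit 1) (Steps.bwd (nat_lit 3) (Steps.fwd (nat_lit 8192) (Steps.fwd (nat_lit 16384) (Steps.fwd (nat_lit 8192) (Steps.bwd (nat_lit 3) (Steps.bwd (nat_lit 1) (Steps.bwd (nat_lit 3) (Steps.bwd (nat_lit 1) (Steps.fwd (nat_lit 16384) (Steps.bwd (nat_lit 1) (Steps.bwd (nat_lit 3) (Steps.bwd (nat_lit 1) (Steps.fwd (nat_lit 16384) (Steps.fwd (nat_lit 8192) (Steps.fwd (nat_lit 16384) (Steps.bwd (nat_lit 1) Steps.nil))))))))))))))))))))))))))))))))))))))))))))) (nat_lit 5) (nat_lit 1),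
  Rule.mk (nat_lit 15) (nat_lit 179) (Steps.bwd (nat_lit 3) (Steps.bwd (nat_lit 1) (Steps.bwd (nat_lit 4) (Steps.bwd (nat_lit 3) (Steps.fwd (nat_lit 8192) (Steps.bwd (nat_lit 2) (Steps.fwd (nat_lit 8192) (Steps.bwd (nat_lit 2) (Steps.bwd (nat_lit 1) (Steps.fwd (nat_lit 24576) (Steps.fwd (nat_lit 8192) Steps.nil))))))))))) (nat_lit 191) (nat_lit 0),
  Rule.mk (nat_lit 0) (nat_lit 194) (Steps.bwd (nat_lit 15) (Steps.bwd (nat_lit 3) (Steps.fwd (nat_lit 8192) (Steps.bwd (nat_lit 4) (Steps.bwd (nat_lit 3) (Steps.fwd (nat_lit 8192) (Steps.bwd (nat_lit 2) (Steps.bwd (nat_lit 1) (Steps.fwd (nat_lit 24576) (Steps.fwd (nat_lit 8192) (Steps.bwd (nat_lit 2) (Steps.bwd (nat_lit 1) Steps.nil)))))))))))) (nat_lit 191) (nat_lit 11),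
  Rule.mk (nat_lit 0) (nat_lit 194) (Steps.bwd (nat_lit 18) (Steps.fwd (nat_lit 8192) (Steps.fwd (nat_lit 16384) (Steps.fwd (nat_lit 32768) (Steps.fwd (nat_lit 8192) (Steps.bwd (nat_lit 2) (Steps.bwd (nat_lit 1) (Steps.fwd (nat_lit 24576) (Steps.fwd (nat_lit 8192) (Steps.fwd (nat_lit 16384) (Steps.bwd (nat_lit 1) (Steps.bwd (nat_lit 3) Steps.nil)))))))))))) (nat_lit 192) (nat_lit 0),
  Rule.mk (nat_lit 0) (nat_lit 194) (Steps.bwd (nat_lit 17) (Steps.fwd (nat_lit 24576) (Steps.fwd (nat_lit 8192) (Steps.bwd (nat_lit 2) (Steps.fwd (nat_lit 8192) (Steps.fwd (nat_lit 16384) (Steps.bwd (nat_lit 1) (Steps.bwd (nat_lit 3) (Steps.fwd (nat_lit 8192) (Steps.bwd (nat_lit 4) (Steps.fwd (nat_lit 24576) (Steps.bwd (nat_lit 1) Steps.nil)))))))))))) (nat_lit 193) (nat_lit 11),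
  Rule.mk (nat_lit 17) (nat_lit 179) (Steps.bwd (nat_lit 2) (Steps.bwd (nat_lit 1) (Steps.fwd (nat_lit 24576) (Steps.fwd (nat_lit 8192) (Steps.fwd (nat_lit 16384) (Steps.bwd (nat_lit 1) (Steps.bwd (nat_lit 3) (Steps.fwd (nat_lit 8192) (Steps.fwd (nat_lit 32768) (Steps.bwd (nat_lit 2) (Steps.fwd (nat_lit 8192) Steps.nil))))))))))) (nat_lit 193) (nat_lit 0),
  Rule.mk (nat_lit 17) (nat_lit 179) (Steps.fwd (nat_lit 24576) (Steps.fwd (nat_lit 8192) (Steps.bwd (nat_lit 2) (Steps.bwd (nat_lit 1) (Steps.fwd (nat_lit 16384) (Steps.bwd (nat_lit 1) (Steps.bwd (nat_lit 3) (Steps.fwd (nat_lit 8192) (Steps.bwd (nat_lit 4) (Steps.bwd (nat_lit 2) (Steps.bwd (nat_lit 1) Steps.nil))))))))))) (nat_lit 193) (nat_lit 0),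
  Rule.mk (nat_lit 20) (nat_lit 179) (Steps.fwd (nat_lit 8192) (Steps.bwd (nat_lit 2) (Steps.bwd (nat_lit 1) (Steps.fwd (nat_lit 24576) (Steps.fwd (nat_lit 8192) (Steps.fwd (nat_lit 16384) (Steps.bwd (nat_lit 1) (Steps.bwd (nat_lit 3) (Steps.fwd (nat_lit 8192) (Steps.fwd (nat_lit 32768) (Steps.bwd (nat_lit 2) Steps.nil))))))))))) (nat_lit 194) (nat_lit 1),
  Rule.mk (nat_lit 20) (nat_lit 179) (Steps.bwd (nat_lit 1) (Steps.fwd (nat_lit 24576) (Steps.fwd (nat_lit 8192) (Steps.bwd (nat_lit 2) (Steps.bwd (nat_lit 1) (Steps.fwd (nat_lit 16384) (Steps.bwd (nat_lit 1) (Steps.bwd (nat_lit 3) (Steps.fwd (nat_lit 8192) (Steps.bwd (nat_lit 4) (Steps.bwd (nat_lit 2) Steps.nil))))))))))) (nat_lit 194) (nat_lit 1),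
  Rule.mk (nat_lit 19) (nat_lit 179) (Steps.fwd (nat_lit 16384) (Steps.fwd (nat_lit 32768) (Steps.fwd (nat_lit 8192) (Steps.bwd (nat_lit 2) (Steps.bwd (nat_lit 1) (Steps.fwd (nat_lit 24576) (Steps.fwd (nat_lit 8192) (Steps.fwd (nat_lit 16384) (Steps.bwd (nat_lit 1) (Steps.bwd (nat_lit 3) (Steps.fwd (nat_lit 8192) Steps.nil))))))))))) (nat_lit 195) (nat_lit 0),
  Rule.mk (nat_lit 19) (nat_lit 179) (Steps.bwd (nat_lit 3) (Steps.fwd (nat_lit 32768) (Steps.bwd (nat_lit 1) (Steps.fwd (nat_lit 24576) (Steps.fwd (nat_lit 8192) (Steps.bwd (nat_lit 2) (Steps.bwd (nat_lit 1) (Steps.fwd (nat_lit 16384) (Steps.bwd (nat_lit 1) (Steps.bwd (nat_lit 3) (Steps.fwd (nat_lit 8192) Steps.nil))))))))))) (nat_lit 195) (nat_lit 0),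
  Rule.mk (nat_lit 7) (nat_lit 59) (Steps.fwd (nat_lit 98304) (Steps.bwd (nat_lit 7) (Steps.bwd (nat_lit 12) Steps.nil))) (nat_lit 98) (nat_lit 0),
  Rule.mk (nat_lit 13) (nat_lit 134) (Steps.fwd (nat_lit 114688) (Steps.fwd (nat_lit 8192) (Steps.bwd (nat_lit 14) (Steps.bwd (nat_lit 1) (Steps.bwd (nat_lit 6) (Steps.fwd (nat_lit 81920) (Steps.bwd (nat_lit 11) (Steps.bwd (nat_lit 12) Steps.nil)))))))) (nat_lit 166) (nat_lit 8),
  Rule.mk (nat_lit 0) (nat_lit 194) (Steps.bwd (nat_lit 15) (Steps.fwd (nat_lit 16384) (Steps.fwd (nat_lit 8192) (Steps.fwd (nat_lit 32768) (Steps.fwd (nat_lit 16384) (Steps.bwd (nat_lit 1) (Steps.fwd (nat_lit 24576) (Steps.bwd (nat_lit 1) (Steps.bwd (nat_lit 2) (Steps.bwd (nat_lit 1) (Steps.bwd (nat_lit 2) (Steps.bwd (nat_lit 1) Steps.nil)))))))))))) (nat_lit 191) (nat_lit 11),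
  Rule.mk (nat_lit 0) (nat_lit 194) (Steps.fwd (nat_lit 8192) (Steps.fwd (nat_lit 16384) (Steps.fwd (nat_lit 8192) (Steps.bwd (nat_lit 3) (Steps.fwd (nat_lit 8192) (Steps.fwd (nat_lit 16384) (Steps.bwd (nat_lit 1) (Steps.fwd (nat_lit 24576) (Steps.fwd (nat_lit 32768) (Steps.fwd (nat_lit 8192) (Steps.fwd (nat_lit 24576) (Steps.fwd (nat_lit 122880) Steps.nil)))))))))))) (nat_lit 190) (nat_lit 1),
  Rule.mk (nat_lit 16) (nat_lit 179) (Steps.fwd (nat_lit 8192) (Steps.bwd (nat_lit 3) (Steps.fwd (nat_lit 8192) (Steps.fwd (nat_lit 16384) (Steps.bwd (nat_lit 1) (Steps.bwd (nat_lit 3) (Steps.fwd (nat_lit 8192) (Steps.bwd (nat_lit 2) (Steps.fwd (nat_lit 32768) (Steps.fwd (nat_lit 8192) (Steps.bwd (nat_lit 2) Steps.nil))))))))))) (nat_lit 190) (nat_lit 1),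
  Rule.mk (nat_lit 1) (nat_lit 179) (Steps.bwd (nat_lit 3) (Steps.bwd (nat_lit 4) (Steps.fwd (nat_lit 8192) (Steps.fwd (nat_lit 24576) (Steps.bwd (nat_lit 1) (Steps.bwd (nat_lit 2) (Steps.fwd (nat_lit 8192) (Steps.bwd (nat_lit 3) (Steps.fwd (nat_lit 8192) (Steps.fwd (nat_lit 16384) (Steps.fwd (nat_lit 139264) Steps.nil))))))))))) (nat_lit 192) (nat_lit 2),
  Rule.mk (nat_lit 0) (nat_lit 194) (Steps.bwd (nat_lit 18) (Steps.fwd (nat_lit 8192) (Steps.bwd (nat_lit 3) (Steps.fwd (nat_lit 32768) (Steps.bwd (nat_lit 1) (Steps.fwd (nat_lit 24576) (Steps.bwd (nat_lit 1) (Steps.bwd (nat_lit 2) (Steps.bwd (nat_lit 1) (Steps.fwd (nat_lit 16384) (Steps.fwd (nat_lit 8192) (Steps.fwd (nat_lit 16384) Steps.nil)))))))))))) (nat_lit 192) (nat_lit 0),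
  Rule.mk (nat_lit 0) (nat_lit 194) (Steps.bwd (nat_lit 17) (Steps.fwd (nat_lit 24576) (Steps.bwd (nat_lit 1) (Steps.bwd (nat_lit 2) (Steps.fwd (nat_lit 8192) (Steps.bwd (nat_lit 3) (Steps.fwd (nat_lit 8192) (Steps.fwd (nat_lit 16384) (Steps.bwd (nat_lit 1) (Steps.bwd (nat_lit 4) (Steps.bwd (nat_lit 2) (Steps.fwd (nat_lit 8192) Steps.nil)))))))))))) (nat_lit 193) (nat_lit 11),
  Rule.mk (nat_lit 20) (nat_lit 179) (Steps.bwd (nat_lit 1) (Steps.bwd (nat_lit 2) (Steps.bwd (nat_lit 1) (Steps.bwd (nat_lit 2) (Steps.fwd (nat_lit 8192) (Steps.fwd (nat_lit 16384) (Steps.fwd (nat_lit 8192) (Steps.bwd (nat_lit 3) (Steps.fwd (nat_lit 8192) (Steps.bwd (nat_lit 4) (Steps.fwd (nat_lit 24576) Steps.nil))))))))))) (nat_lit 194) (nat_lit 1),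
  Rule.mk (nat_lit 0) (nat_lit 194) (Steps.bwd (nat_lit 20) (Steps.fwd (nat_lit 8192) (Steps.fwd (nat_lit 24576) (Steps.bwd (nat_lit 1) (Steps.bwd (nat_lit 2) (Steps.fwd (nat_lit 8192) (Steps.bwd (nat_lit 3) (Steps.fwd (nat_lit 8192) (Steps.fwd (nat_lit 16384) (Steps.bwd (nat_lit 1) (Steps.bwd (nat_lit 4) (Steps.bwd (nat_lit 2) Steps.nil)))))))))))) (nat_lit 194) (nat_lit 0),
  Rule.mk (nat_lit 19) (nat_lit 179) (Steps.bwd (nat_lit 3) (Steps.bwd (nat_lit 4) (Steps.fwd (nat_lit 8192) (Steps.fwd (nat_lit 24576) (Steps.bwd (nat_lit 1) (Steps.bwd (nat_lit 2) (Steps.fwd (nat_lit 8192) (Steps.bwd (nat_lit 3) (Steps.fwd (nat_lit 8192) (Steps.fwd (nat_lit 16384) (Steps.bwd (nat_lit 1) Steps.nil))))))))))) (nat_lit 195) (nat_lit 0),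
  Rule.mk (nat_lit 7) (nat_lit 164) (Steps.bwd (nat_lit 1) (Steps.bwd (nat_lit 14) (Steps.bwd (nat_lit 13) (Steps.fwd (nat_lit 98304) (Steps.bwd (nat_lit 11) (Steps.bwd (nat_lit 10) (Steps.fwd (nat_lit 73728) (Steps.fwd (nat_lit 49152) (Steps.fwd (nat_lit 40960) (Steps.fwd (nat_lit 8192) Steps.nil)))))))))) (nat_lit 153) (nat_lit 10),
  Rule.mk (nat_lit 12) (nat_lit 164) (Steps.bwd (nat_lit 1) (Steps.bwd (nat_lit 4) (Steps.bwd (nat_lit 5) (Steps.fwd (nat_lit 65536) (Steps.bwd (nat_lit 9) (Steps.bwd (nat_lit 10) (Steps.bwd (nat_lit 11) (Steps.fwd (nat_lit 98304) (Steps.fwd (nat_lit 114688) (Steps.bwd (nat_lit 1) Steps.nil)))))))))) (nat_lit 162) (nat_lit 2),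
  Rule.mk (nat_lit 3) (nat_lit 539) (Steps.bwd (nat_lit 1) (Steps.bwd (nat_lit 3) (Steps.fwd (nat_lit 8192) (Steps.fwd (nat_lit 24576) (Steps.bwd (nat_lit 1) (Steps.bwd (nat_lit 3) (Steps.bwd (nat_lit 1) (Steps.bwd (nat_lit 3) (Steps.fwd (nat_lit 8192) (Steps.fwd (nat_lit 24576) (Steps.fwd (nat_lit 8192) (Steps.bwd (nat_lit 2) (Steps.fwd (nat_lit 8192) (Steps.bwd (nat_lit 3) (Steps.fwd (nat_lit 8192) (Steps.bwd (nat_lit 2) (Steps.fwd (nat_lit 8192) (Steps.bwd (nat_lit 2) (Steps.bwd (nat_lit 1) (Steps.fwd (nat_lit 16384) (Steps.bwd (nat_lit 1) (Steps.fwd (nat_lit 24576) (Steps.fwd (nat_lit 8192) (Steps.fwd (nat_lit 24576) (Steps.fwd (nat_lit 8192) (Steps.bwd (nat_lit 3) (Steps.bwd (nat_lit 1) (Steps.bwd (nat_lit 2) (Steps.fwd (nat_lit 8192) (Steps.bwd (nat_lit 3) (Steps.bwd (nat_lit 1) (Steps.bwd (nat_lit 3) (Steps.bwd (nat_lit 1) (Steps.bwd (nat_lit 2) (Steps.fwd (nat_lit 8192) Steps.nil)))))))))))))))))))))))))))))))))))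 (nat_lit 12) (nat_lit 28),
  Rule.mk (nat_lit 16) (nat_lit 179) (Steps.bwd (nat_lit 1) (Steps.bwd (nat_lit 3) (Steps.bwd (nat_lit 1) (Steps.fwd (nat_lit 16384) (Steps.fwd (nat_lit 8192) (Steps.bwd (nat_lit 3) (Steps.bwd (nat_lit 1) (Steps.fwd (nat_lit 24576) (Steps.fwd (nat_lit 32768) (Steps.fwd (nat_lit 8192) (Steps.fwd (nat_lit 24576) Steps.nil))))))))))) (nat_lit 190) (nat_lit 1),
  Rule.mk (nat_lit 0) (nat_lit 194) (Steps.bwd (nat_lit 1) (Steps.bwd (nat_lit 3) (Steps.bwd (nat_lit 1) (Steps.fwd (nat_lit 16384) (Steps.fwd (nat_lit 8192) (Steps.bwd (nat_lit 3) (Steps.fwd (nat_lit 8192) (Steps.fwd (nat_lit 24576) (Steps.bwd (nat_lit 4) (Steps.bwd (nat_lit 1) (Steps.fwd (nat_lit 24576) (Steps.fwd (nat_lit 122880) Steps.nil)))))))))))) (nat_lit 190) (nat_lit 1),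
  Rule.mk (nat_lit 1) (nat_lit 179) (Steps.bwd (nat_lit 3) (Steps.bwd (nat_lit 4) (Steps.bwd (nat_lit 1) (Steps.fwd (nat_lit 24576) (Steps.fwd (nat_lit 8192) (Steps.fwd (nat_lit 24576) (Steps.bwd (nat_lit 1) (Steps.fwd (nat_lit 16384) (Steps.fwd (nat_lit 8192) (Steps.bwd (nat_lit 3) (Steps.fwd (nat_lit 139264) Steps.nil))))))))))) (nat_lit 192) (nat_lit 2),
  Rule.mk (nat_lit 19) (nat_lit 179) (Steps.bwd (nat_lit 3) (Steps.bwd (nat_lit 4) (Steps.bwd (nat_lit 1) (Steps.fwd (nat_lit 24576) (Steps.fwd (nat_lit 8192) (Steps.fwd (nat_lit 24576) (Steps.bwd (nat_lit 1) (Steps.fwd (nat_lit 16384) (Steps.fwd (nat_lit 8192) (Steps.bwd (nat_lit 3) (Steps.fwd (nat_lit 8192) Steps.nil))))))))))) (nat_lit 195) (nat_lit 0),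
  Rule.mk (nat_lit 9) (nat_lit 89) (Steps.bwd (nat_lit 1) (Steps.fwd (nat_lit 114688) (Steps.fwd (nat_lit 57344) (Steps.bwd (nat_lit 4) (Steps.bwd (nat_lit 1) Steps.nil))))) (nat_lit 157) (nat_lit 5),
  Rule.mk (nat_lit 11) (nat_lit 104) (Steps.bwd (nat_lit 1) (Steps.fwd (nat_lit 114688) (Steps.fwd (nat_lit 98304) (Steps.bwd (nat_lit 11) (Steps.fwd (nat_lit 49152) (Steps.fwd (nat_lit 8192) Steps.nil)))))) (nat_lit 161) (nat_lit 6),
  Rule.mk (nat_lit 10) (nat_lit 134) (Steps.bwd (nat_lit 1) (Steps.fwd (nat_lit 114688) (Steps.fwd (nat_lit 90112) (Steps.bwd (nat_lit 9) (Steps.bwd (nat_lit 8) (Steps.bwd (nat_lit 5) (Steps.bwd (nat_lit 4) (Steps.fwd (nat_lit 8192) Steps.nil)))))))) (nat_lit 159) (nat_lit 8),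
  Rule.mk (nat_lit 7) (nat_lit 164) (Steps.bwd (nat_lit 1) (Steps.fwd (nat_lit 40960) (Steps.fwd (nat_lit 49152) (Steps.bwd (nat_lit 9) (Steps.bwd (nat_lit 10) (Steps.bwd (nat_lit 11) (Steps.bwd (nat_lit 12) (Steps.bwd (nat_lit 13) (Steps.bwd (nat_lit 14) (Steps.bwd (nat_lit 1) Steps.nil)))))))))) (nat_lit 152) (nat_lit 2),
  Rule.mk (nat_lit 12) (nat_lit 164) (Steps.bwd (nat_lit 1) (Steps.fwd (nat_lit 114688) (Steps.fwd (nat_lit 98304) (Steps.bwd (nat_lit 11) (Steps.fwd (nat_lit 81920) (Steps.bwd (nat_lit 9) (Steps.fwd (nat_lit 65536) (Steps.bwd (nat_lit 5) (Steps.bwd (nat_lit 4) (Steps.bwd (nat_lit 1) Steps.nil)))))))))) (nat_lit 163) (nat_lit 10),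
  Rule.mk (nat_lit 3) (nat_lit 179) (Steps.bwd (nat_lit 1) (Steps.fwd (nat_lit 32768) (Steps.bwd (nat_lit 3) (Steps.bwd (nat_lit 1) (Steps.fwd (nat_lit 24576) (Steps.fwd (nat_lit 8192) (Steps.fwd (nat_lit 24576) (Steps.bwd (nat_lit 1) (Steps.fwd (nat_lit 24576) (Steps.bwd (nat_lit 1) (Steps.fwd (nat_lit 131072) Steps.nil))))))))))) (nat_lit 191) (nat_lit 1),
  Rule.mk (nat_lit 2) (nat_lit 179) (Steps.bwd (nat_lit 1) (Steps.fwd (nat_lit 24576) (Steps.fwd (nat_lit 8192) (Steps.bwd (nat_lit 3) (Steps.fwd (nat_lit 8192) (Steps.fwd (nat_lit 16384) (Steps.bwd (nat_lit 1) (Steps.bwd (nat_lit 4) (Steps.bwd (nat_lit 2) (Steps.bwd (nat_lit 1) (Steps.fwd (nat_lit 147456) Steps.nil))))))))))) (nat_lit 193) (nat_lit 1),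
  Rule.mk (nat_lit 20) (nat_lit 179) (Steps.bwd (nat_lit 1) (Steps.fwd (nat_lit 24576) (Steps.fwd (nat_lit 8192) (Steps.bwd (nat_lit 2) (Steps.bwd (nat_lit 1) (Steps.fwd (nat_lit 16384) (Steps.fwd (nat_lit 8192) (Steps.bwd (nat_lit 3) (Steps.fwd (nat_lit 8192) (Steps.bwd (nat_lit 4) (Steps.fwd (nat_lit 24576) Steps.nil))))))))))) (nat_lit 194) (nat_lit 1)]
noncomputable def R_67 : List (Rule) := [Rule.mk (nat_lit 1) (nat_lit 179) (Steps.bwd (nat_lit 15) (Steps.bwd (nat_lit 3) (Steps.bwd (nat_lit 1) (Steps.fwd (nat_lit 32768) (Steps.bwd (nat_lit 3) (Steps.fwd (nat_lit 8192) (Steps.bwd (nat_lit 2) (Steps.bwd (nat_lit 1) (Steps.fwd (nat_lit 24576) (Steps.fwd (nat_lit 8192) (Steps.fwd (nat_lit 24576) Steps.nil))))))))))) (nat_lit 191) (nat_lit 11),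
  Rule.mk (nat_lit 0) (nat_lit 104) (Steps.bwd (nat_lit 2) (Steps.fwd (nat_lit 65536) (Steps.fwd (nat_lit 16384) (Steps.bwd (nat_lit 4) (Steps.fwd (nat_lit 57344) (Steps.bwd (nat_lit 14) Steps.nil)))))) (nat_lit 176) (nat_lit 0),
  Rule.mk (nat_lit 0) (nat_lit 59) (Steps.bwd (nat_lit 2) (Steps.fwd (nat_lit 0) (Steps.bwd (nat_lit 3) Steps.nil))) (nat_lit 196) (nat_lit 0),
  Rule.mk (nat_lit 0) (nat_lit 59) (Steps.fwd (nat_lit 8192) (Steps.fwd (nat_lit 0) (Steps.bwd (nat_lit 1) Steps.nil))) (nat_lit 196) (nat_lit 0),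
  Rule.mk (nat_lit 0) (nat_lit 194) (Steps.bwd (nat_lit 15) (Steps.bwd (nat_lit 3) (Steps.fwd (nat_lit 8192) (Steps.fwd (nat_lit 32768) (Steps.fwd (nat_lit 16384) (Steps.bwd (nat_lit 1) (Steps.bwd (nat_lit 2) (Steps.bwd (nat_lit 1) (Steps.bwd (nat_lit 2) (Steps.fwd (nat_lit 8192) (Steps.fwd (nat_lit 24576) (Steps.bwd (nat_lit 1) Steps.nil)))))))))))) (nat_lit 191) (nat_lit 11),
  Rule.mk (nat_lit 15) (nat_lit 179) (Steps.fwd (nat_lit 16384) (Steps.fwd (nat_lit 8192) (Steps.fwd (nat_lit 32768) (Steps.fwd (nat_lit 16384) (Steps.bwd (nat_lit 1) (Steps.bwd (nat_lit 2) (Steps.fwd (nat_lit 8192) (Steps.fwd (nat_lit 24576) (Steps.bwd (nat_lit 1) (Steps.fwd (nat_lit 24576) (Steps.fwd (nat_lit 8192) Steps.nil))))))))))) (nat_lit 191) (nat_lit 0),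
  Rule.mk (nat_lit 15) (nat_lit 179) (Steps.bwd (nat_lit 3) (Steps.bwd (nat_lit 1) (Steps.fwd (nat_lit 32768) (Steps.fwd (nat_lit 16384) (Steps.fwd (nat_lit 8192) (Steps.fwd (nat_lit 24576) (Steps.bwd (nat_lit 1) (Steps.fwd (nat_lit 24576) (Steps.fwd (nat_lit 8192) (Steps.bwd (nat_lit 2) (Steps.bwd (nat_lit 1) Steps.nil))))))))))) (nat_lit 191) (nat_lit 0),
  Rule.mk (nat_lit 18) (nat_lit 179) (Steps.fwd (nat_lit 8192) (Steps.bwd (nat_lit 3) (Steps.bwd (nat_lit 4) (Steps.bwd (nat_lit 1) (Steps.bwd (nat_lit 2) (Steps.fwd (nat_lit 8192) (Steps.fwd (nat_lit 24576) (Steps.bwd (nat_lit 1) (Steps.bwd (nat_lit 3) (Steps.fwd (nat_lit 8192) (Steps.fwd (nat_lit 16384) Steps.nil))))))))))) (nat_lit 192) (nat_lit 1),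
  Rule.mk (nat_lit 18) (nat_lit 179) (Steps.bwd (nat_lit 1) (Steps.bwd (nat_lit 3) (Steps.fwd (nat_lit 32768) (Steps.fwd (nat_lit 8192) (Steps.fwd (nat_lit 24576) (Steps.bwd (nat_lit 1) (Steps.fwd (nat_lit 24576) (Steps.fwd (nat_lit 8192) (Steps.bwd (nat_lit 3) (Steps.fwd (nat_lit 8192) (Steps.fwd (nat_lit 16384) Steps.nil))))))))))) (nat_lit 192) (nat_lit 1),
  Rule.mk (nat_lit 0) (nat_lit 194) (Steps.bwd (nat_lit 17) (Steps.bwd (nat_lit 2) (Steps.fwd (nat_lit 8192) (Steps.fwd (nat_lit 24576) (Steps.bwd (nat_lit 1) (Steps.bwd (nat_lit 3) (Steps.fwd (nat_lit 8192) (Steps.fwd (nat_lit 16384) (Steps.bwd (nat_lit 1) (Steps.bwd (nat_lit 4) (Steps.bwd (nat_lit 2) (Steps.fwd (nat_lit 8192) Steps.nil)))))))))))) (nat_lit 193) (nat_lit 11),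
  Rule.mk (nat_lit 20) (nat_lit 179) (Steps.fwd (nat_lit 8192) (Steps.bwd (nat_lit 2) (Steps.fwd (nat_lit 8192) (Steps.fwd (nat_lit 24576) (Steps.bwd (nat_lit 1) (Steps.bwd (nat_lit 3) (Steps.fwd (nat_lit 8192) (Steps.bwd (nat_lit 3) (Steps.bwd (nat_lit 1) (Steps.bwd (nat_lit 4) (Steps.fwd (nat_lit 24576) Steps.nil))))))))))) (nat_lit 194) (nat_lit 1),
  Rule.mk (nat_lit 20) (nat_lit 179) (Steps.bwd (nat_lit 1) (Steps.bwd (nat_lit 2) (Steps.fwd (nat_lit 8192) (Steps.fwd (nat_lit 24576) (Steps.bwd (nat_lit 1) (Steps.bwd (nat_lit 3) (Steps.fwd (nat_lit 8192) (Steps.fwd (nat_lit 16384) (Steps.bwd (nat_lit 1) (Steps.bwd (nat_lit 4) (Steps.bwd (nat_lit 2) Steps.nil))))))))))) (nat_lit 194) (nat_lit 1),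
  Rule.mk (nat_lit 0) (nat_lit 194) (Steps.bwd (nat_lit 20) (Steps.fwd (nat_lit 8192) (Steps.fwd (nat_lit 24576) (Steps.bwd (nat_lit 1) (Steps.fwd (nat_lit 24576) (Steps.fwd (nat_lit 8192) (Steps.bwd (nat_lit 3) (Steps.fwd (nat_lit 8192) (Steps.fwd (nat_lit 16384) (Steps.bwd (nat_lit 1) (Steps.bwd (nat_lit 4) (Steps.bwd (nat_lit 2) Steps.nil)))))))))))) (nat_lit 194) (nat_lit 0),
  Rule.mk (nat_lit 19) (nat_lit 179) (Steps.bwd (nat_lit 3) (Steps.bwd (nat_lit 4) (Steps.bwd (nat_lit 1) (Steps.bwd (nat_lit 2) (Steps.fwd (nat_lit 8192) (Steps.fwd (nat_lit 24576) (Steps.bwd (nat_lit 1) (Steps.bwd (nat_lit 3) (Steps.fwd (nat_lit 8192) (Steps.fwd (nat_lit 16384) (Steps.bwd (nat_lit 1) Steps.nil))))))))))) (nat_lit 195) (nat_lit 0),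
  Rule.mk (nat_lit 0) (nat_lit 194) (Steps.bwd (nat_lit 19) (Steps.bwd (nat_lit 3) (Steps.fwd (nat_lit 32768) (Steps.fwd (nat_lit 8192) (Steps.fwd (nat_lit 24576) (Steps.bwd (nat_lit 1) (Steps.fwd (nat_lit 24576) (Steps.fwd (nat_lit 8192) (Steps.bwd (nat_lit 3) (Steps.fwd (nat_lit 8192) (Steps.fwd (nat_lit 16384) (Steps.bwd (nat_lit 1) Steps.nil)))))))))))) (nat_lit 195) (nat_lit 11),
  Rule.mk (nat_lit 0) (nat_lit 194) (Steps.bwd (nat_lit 15) (Steps.bwd (nat_lit 3) (Steps.bwd (nat_lit 1) (Steps.bwd (nat_lit 4) (Steps.bwd (nat_lit 3) (Steps.fwd (nat_lit 8192) (Steps.bwd (nat_lit 2) (Steps.bwd (nat_lit 1) (Steps.fwd (nat_lit 24576) (Steps.bwd (nat_lit 1) (Steps.fwd (nat_lit 24576) (Steps.bwd (nat_lit 1) Steps.nil)))))))))))) (nat_lit 191) (nat_lit 11),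
  Rule.mk (nat_lit 18) (nat_lit 179) (Steps.bwd (nat_lit 1) (Steps.bwd (nat_lit 3) (Steps.bwd (nat_lit 4) (Steps.fwd (nat_lit 8192) (Steps.bwd (nat_lit 2) (Steps.bwd (nat_lit 1) (Steps.fwd (nat_lit 24576) (Steps.bwd (nat_lit 1) (Steps.bwd (nat_lit 3) (Steps.bwd (nat_lit 1) (Steps.fwd (nat_lit 16384) Steps.nil))))))))))) (nat_lit 192) (nat_lit 1),
  Rule.mk (nat_lit 20) (nat_lit 179) (Steps.fwd (nat_lit 8192) (Steps.bwd (nat_lit 2) (Steps.bwd (nat_lit 1) (Steps.fwd (nat_lit 24576) (Steps.bwd (nat_lit 1) (Steps.bwd (nat_lit 3) (Steps.bwd (nat_lit 1) (Steps.fwd (nat_lit 16384) (Steps.bwd (nat_lit 1) (Steps.bwd (nat_lit 4) (Steps.bwd (nat_lit 2) Steps.nil))))))))))) (nat_lit 194) (nat_lit 1),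
  Rule.mk (nat_lit 19) (nat_lit 179) (Steps.bwd (nat_lit 3) (Steps.bwd (nat_lit 4) (Steps.fwd (nat_lit 8192) (Steps.bwd (nat_lit 2) (Steps.bwd (nat_lit 1) (Steps.fwd (nat_lit 24576) (Steps.bwd (nat_lit 1) (Steps.bwd (nat_lit 3) (Steps.bwd (nat_lit 1) (Steps.fwd (nat_lit 16384) (Steps.bwd (nat_lit 1) Steps.nil))))))))))) (nat_lit 195) (nat_lit 0),
  Rule.mk (nat_lit 2) (nat_lit 179) (Steps.bwd (nat_lit 16) (Steps.bwd (nat_lit 1) (Steps.fwd (nat_lit 16384) (Steps.fwd (nat_lit 8192) (Steps.bwd (nat_lit 3) (Steps.fwd (nat_lit 8192) (Steps.bwd (nat_lit 3) (Steps.bwd (nat_lit 1) (Steps.fwd (nat_lit 24576) (Steps.fwd (nat_lit 32768) (Steps.bwd (nat_lit 1) Steps.nil))))))))))) (nat_lit 190) (nat_lit 0),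
  Rule.mk (nat_lit 10) (nat_lit 104) (Steps.bwd (nat_lit 3) (Steps.bwd (nat_lit 6) (Steps.bwd (nat_lit 11) (Steps.bwd (nat_lit 12) (Steps.fwd (nat_lit 114688) (Steps.bwd (nat_lit 2) Steps.nil)))))) (nat_lit 180) (nat_lit 2),
  Rule.mk (nat_lit 11) (nat_lit 164) (Steps.bwd (nat_lit 3) (Steps.fwd (nat_lit 32768) (Steps.bwd (nat_lit 5) (Steps.bwd (nat_lit 8) (Steps.bwd (nat_lit 9) (Steps.fwd (nat_lit 81920) (Steps.bwd (nat_lit 11) (Steps.bwd (nat_lit 12) (Steps.fwd (nat_lit 114688) (Steps.bwd (nat_lit 2) Steps.nil)))))))))) (nat_lit 182) (nat_lit 2),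
  Rule.mk (nat_lit 1) (nat_lit 134) (Steps.bwd (nat_lit 6) (Steps.bwd (nat_lit 10) (Steps.bwd (nat_lit 11) (Steps.bwd (nat_lit 12) (Steps.fwd (nat_lit 106496) (Steps.fwd (nat_lit 114688) (Steps.fwd (nat_lit 8192) (Steps.bwd (nat_lit 14) Steps.nil)))))))) (nat_lit 166) (nat_lit 3),
  Rule.mk (nat_lit 3) (nat_lit 134) (Steps.bwd (nat_lit 6) (Steps.bwd (nat_lit 10) (Steps.bwd (nat_lit 11) (Steps.bwd (nat_lit 12) (Steps.fwd (nat_lit 106496) (Steps.fwd (nat_lit 114688) (Steps.fwd (nat_lit 24576) (Steps.fwd (nat_lit 106496) Steps.nil)))))))) (nat_lit 186) (nat_lit 3),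
  Rule.mk (nat_lit 1) (nat_lit 179) (Steps.bwd (nat_lit 3) (Steps.fwd (nat_lit 8192) (Steps.fwd (nat_lit 16384) (Steps.bwd (nat_lit 1) (Steps.bwd (nat_lit 3) (Steps.bwd (nat_lit 1) (Steps.bwd (nat_lit 2) (Steps.bwd (nat_lit 4) (Steps.bwd (nat_lit 1) (Steps.fwd (nat_lit 24576) (Steps.fwd (nat_lit 122880) Steps.nil))))))))))) (nat_lit 190) (nat_lit 2),
  Rule.mk (nat_lit 15) (nat_lit 179) (Steps.bwd (nat_lit 3) (Steps.fwd (nat_lit 8192) (Steps.fwd (nat_lit 32768) (Steps.bwd (nat_lit 3) (Steps.fwd (nat_lit 8192) (Steps.bwd (nat_lit 2) (Steps.fwd (nat_lit 8192) (Steps.fwd (nat_lit 24576) (Steps.fwd (nat_lit 8192) (Steps.fwd (nat_lit 24576) (Steps.bwd (nat_lit 1) Steps.nil))))))))))) (nat_lit 191) (nat_lit 0),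
  Rule.mk (nat_lit 11) (nat_lit 104) (Steps.bwd (nat_lit 1) (Steps.fwd (nat_lit 49152) (Steps.fwd (nat_lit 90112) (Steps.bwd (nat_lit 12) (Steps.fwd (nat_lit 114688) (Steps.fwd (nat_lit 8192) Steps.nil)))))) (nat_lit 160) (nat_lit 2),
  Rule.mk (nat_lit 10) (nat_lit 134) (Steps.bwd (nat_lit 1) (Steps.bwd (nat_lit 4) (Steps.bwd (nat_lit 5) (Steps.bwd (nat_lit 8) (Steps.fwd (nat_lit 73728) (Steps.bwd (nat_lit 11) (Steps.fwd (nat_lit 114688) (Steps.fwd (nat_lit 8192) Steps.nil)))))))) (nat_lit 158) (nat_lit 2),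
  Rule.mk (nat_lit 1) (nat_lit 179) (Steps.bwd (nat_lit 3) (Steps.bwd (nat_lit 1) (Steps.bwd (nat_lit 3) (Steps.fwd (nat_lit 8192) (Steps.fwd (nat_lit 16384) (Steps.bwd (nat_lit 1) (Steps.bwd (nat_lit 2) (Steps.fwd (nat_lit 32768) (Steps.fwd (nat_lit 8192) (Steps.bwd (nat_lit 2) (Steps.fwd (nat_lit 122880) Steps.nil))))))))))) (nat_lit 190) (nat_lit 2),
  Rule.mk (nat_lit 11) (nat_lit 104) (Steps.bwd (nat_lit 1) (Steps.bwd (nat_lit 14) (Steps.fwd (nat_lit 98304) (Steps.bwd (nat_lit 11) (Steps.fwd (nat_lit 49152) (Steps.fwd (nat_lit 8192) Steps.nil)))))) (nat_lit 161) (nat_lit 6),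
  Rule.mk (nat_lit 6) (nat_lit 149) (Steps.bwd (nat_lit 1) (Steps.bwd (nat_lit 4) (Steps.fwd (nat_lit 40960) (Steps.bwd (nat_lit 8) (Steps.bwd (nat_lit 9) (Steps.bwd (nat_lit 12) (Steps.bwd (nat_lit 13) (Steps.bwd (nat_lit 14) (Steps.fwd (nat_lit 8192) Steps.nil))))))))) (nat_lit 150) (nat_lit 2),
  Rule.mk (nat_lit 10) (nat_lit 134) (Steps.bwd (nat_lit 11) (Steps.bwd (nat_lit 12) (Steps.fwd (nat_lit 106496) (Steps.fwd (nat_lit 114688) (Steps.fwd (nat_lit 8192) (Steps.bwd (nat_lit 14) (Steps.fwd (nat_lit 8192) (Steps.bwd (nat_lit 6) Steps.nil)))))))) (nat_lit 166) (nat_lit 5),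
  Rule.mk (nat_lit 2) (nat_lit 104) (Steps.bwd (nat_lit 10) (Steps.bwd (nat_lit 3) (Steps.fwd (nat_lit 114688) (Steps.fwd (nat_lit 98304) (Steps.bwd (nat_lit 11) (Steps.bwd (nat_lit 6) Steps.nil)))))) (nat_lit 181) (nat_lit 5),
  Rule.mk (nat_lit 0) (nat_lit 194) (Steps.bwd (nat_lit 16) (Steps.bwd (nat_lit 1) (Steps.fwd (nat_lit 16384) (Steps.fwd (nat_lit 8192) (Steps.fwd (nat_lit 16384) (Steps.bwd (nat_lit 1) (Steps.fwd (nat_lit 16384) (Steps.fwd (nat_lit 8192) (Steps.bwd (nat_lit 2) (Steps.fwd (nat_lit 32768) (Steps.fwd (nat_lit 8192) (Steps.fwd (nat_lit 24576) Steps.nil)))))))))))) (nat_lit 190) (nat_lit 0),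
  Rule.mk (nat_lit 17) (nat_lit 179) (Steps.bwd (nat_lit 2) (Steps.fwd (nat_lit 8192) (Steps.bwd (nat_lit 2) (Steps.bwd (nat_lit 1) (Steps.bwd (nat_lit 3) (Steps.bwd (nat_lit 1) (Steps.fwd (nat_lit 16384) (Steps.bwd (nat_lit 1) (Steps.bwd (nat_lit 4) (Steps.bwd (nat_lit 2) (Steps.bwd (nat_lit 1) Steps.nil))))))))))) (nat_lit 193) (nat_lit 0),
  Rule.mk (nat_lit 16) (nat_lit 179) (Steps.fwd (nat_lit 8192) (Steps.fwd (nat_lit 16384) (Steps.fwd (nat_lit 8192) (Steps.bwd (nat_lit 3) (Steps.fwd (nat_lit 8192) (Steps.bwd (nat_lit 3) (Steps.fwd (nat_lit 8192) (Steps.bwd (nat_lit 2) (Steps.bwd (nat_lit 4) (Steps.bwd (nat_lit 1) (Steps.bwd (nat_lit 2) Steps.nil))))))))))) (nat_lit 190) (nat_lit 1),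
  Rule.mk (nat_lit 17) (nat_lit 179) (Steps.fwd (nat_lit 24576) (Steps.fwd (nat_lit 8192) (Steps.bwd (nat_lit 2) (Steps.bwd (nat_lit 1) (Steps.bwd (nat_lit 3) (Steps.fwd (nat_lit 8192) (Steps.bwd (nat_lit 3) (Steps.fwd (nat_lit 8192) (Steps.bwd (nat_lit 4) (Steps.bwd (nat_lit 2) (Steps.bwd (nat_lit 1) Steps.nil))))))))))) (nat_lit 193) (nat_lit 0),
  Rule.mk (nat_lit 20) (nat_lit 179) (Steps.bwd (nat_lit 1) (Steps.fwd (nat_lit 24576) (Steps.fwd (nat_lit 8192) (Steps.bwd (nat_lit 2) (Steps.bwd (nat_lit 1) (Steps.bwd (nat_lit 3) (Steps.fwd (nat_lit 8192) (Steps.bwd (nat_lit 3) (Steps.fwd (nat_lit 8192) (Steps.bwd (nat_lit 4) (Steps.bwd (nat_lit 2) Steps.nil))))))))))) (nat_lit 194) (nat_lit 1),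
  Rule.mk (nat_lit 7) (nat_lit 164) (Steps.bwd (nat_lit 1) (Steps.bwd (nat_lit 5) (Steps.bwd (nat_lit 6) (Steps.bwd (nat_lit 9) (Steps.fwd (nat_lit 81920) (Steps.fwd (nat_lit 90112) (Steps.bwd (nat_lit 12) (Steps.bwd (nat_lit 13) (Steps.bwd (nat_lit 14) (Steps.fwd (nat_lit 8192) Steps.nil)))))))))) (nat_lit 152) (nat_lit 2),
  Rule.mk (nat_lit 16) (nat_lit 179) (Steps.bwd (nat_lit 1) (Steps.bwd (nat_lit 3) (Steps.bwd (nat_lit 1) (Steps.bwd (nat_lit 3) (Steps.fwd (nat_lit 8192) (Steps.bwd (nat_lit 3) (Steps.fwd (nat_lit 8192) (Steps.bwd (nat_lit 2) (Steps.fwd (nat_lit 32768) (Steps.fwd (nat_lit 8192) (Steps.fwd (nat_lit 24576) Steps.nil))))))))))) (nat_lit 190) (nat_lit 1),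
  Rule.mk (nat_lit 3) (nat_lit 179) (Steps.bwd (nat_lit 1) (Steps.bwd (nat_lit 4) (Steps.fwd (nat_lit 16384) (Steps.fwd (nat_lit 8192) (Steps.bwd (nat_lit 2) (Steps.bwd (nat_lit 1) (Steps.fwd (nat_lit 24576) (Steps.bwd (nat_lit 1) (Steps.bwd (nat_lit 2) (Steps.fwd (nat_lit 8192) (Steps.fwd (nat_lit 131072) Steps.nil))))))))))) (nat_lit 191) (nat_lit 1),
  Rule.mk (nat_lit 20) (nat_lit 179) (Steps.bwd (nat_lit 1) (Steps.fwd (nat_lit 24576) (Steps.bwd (nat_lit 1) (Steps.bwd (nat_lit 2) (Steps.bwd (nat_lit 1) (Steps.fwd (nat_lit 16384) (Steps.fwd (nat_lit 8192) (Steps.bwd (nat_lit 3) (Steps.bwd (nat_lit 1) (Steps.fwd (nat_lit 32768) (Steps.fwd (nat_lit 24576) Steps.nil))))))))))) (nat_lit 194) (nat_lit 1),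
  Rule.mk (nat_lit 3) (nat_lit 179) (Steps.bwd (nat_lit 4) (Steps.bwd (nat_lit 1) (Steps.fwd (nat_lit 24576) (Steps.bwd (nat_lit 1) (Steps.bwd (nat_lit 2) (Steps.bwd (nat_lit 1) (Steps.fwd (nat_lit 16384) (Steps.fwd (nat_lit 8192) (Steps.bwd (nat_lit 3) (Steps.bwd (nat_lit 1) (Steps.fwd (nat_lit 163840) Steps.nil))))))))))) (nat_lit 195) (nat_lit 1),
  Rule.mk (nat_lit 2) (nat_lit 689) (Steps.bwd (nat_lit 1) (Steps.fwd (nat_lit 24576) (Steps.bwd (nat_lit 1) (Steps.bwd (nat_lit 2) (Steps.bwd (nat_lit 1) (Steps.bwd (nat_lit 2) (Steps.bwd (nat_lit 1) (Steps.bwd (nat_lit 2) (Steps.bwd (nat_lit 1) (Steps.fwd (nat_lit 24576) (Steps.bwd (nat_lit 1) (Steps.fwd (nat_lit 24576) (Steps.fwd (nat_lit 8192) (Steps.bwd (nat_lit 2) (Steps.bwd (nat_lit 1) (Steps.fwd (nat_lit 24576) (Steps.bwd (nat_lit 1) (Steps.bwd (nat_lit 2) (Steps.fwd (nat_lit 8192) (Steps.fwd (nat_lit 24576) (Steps.bwd (nat_lit 1) (Steps.fwd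 (nat_lit 24576) (Steps.bwd (nat_lit 1) (Steps.fwd (nat_lit 24576) (Steps.fwd (nat_lit 8192) (Steps.fwd (nat_lit 24576) (Steps.fwd (nat_lit 8192) (Steps.fwd (nat_lit 24576) (Steps.fwd (nat_lit 8192) (Steps.fwd (nat_lit 24576) (Steps.fwd (nat_lit 8192) (Steps.bwd (nat_lit 2) (Steps.bwd (nat_lit 1) (Steps.fwd (nat_lit 24576) (Steps.bwd (nat_lit 1) (Steps.fwd (nat_lit 24576) (Steps.bwd (nat_lit 1) (Steps.fwd (nat_lit 24576) (Steps.fwd (nat_lit 8192) (Steps.fwd (nat_lit 24576) (Steps.fwd (nat_lit 8192) (Steps.fwd (nat_lit 24576) (Steps.bwd (nat_lit 1) (Steps.fwd (nat_lit 24576) (Steps.bwd (nat_lit 1) Steps.nil))))))))))))))))))))))))))))))))))))))))))))) (nat_lit 4) (nat_lit 0),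
  Rule.mk (nat_lit 16) (nat_lit 179) (Steps.fwd (nat_lit 8192) (Steps.fwd (nat_lit 16384) (Steps.fwd (nat_lit 8192) (Steps.bwd (nat_lit 3) (Steps.fwd (nat_lit 8192) (Steps.fwd (nat_lit 16384) (Steps.fwd (nat_lit 8192) (Steps.fwd (nat_lit 24576) (Steps.fwd (nat_lit 32768) (Steps.fwd (nat_lit 8192) (Steps.fwd (nat_lit 24576) Steps.nil))))))))))) (nat_lit 190) (nat_lit 1),
  Rule.mk (nat_lit 18) (nat_lit 179) (Steps.fwd (nat_lit 8192) (Steps.fwd (nat_lit 16384) (Steps.fwd (nat_lit 32768) (Steps.bwd (nat_lit 1) (Steps.fwd (nat_lit 24576) (Steps.fwd (nat_lit 8192) (Steps.fwd (nat_lit 24576) (Steps.fwd (nat_lit 8192) (Steps.fwd (nat_lit 16384) (Steps.fwd (nat_lit 8192) (Steps.bwd (nat_lit 3) Steps.nil))))))))))) (nat_lit 192) (nat_lit 1),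
  Rule.mk (nat_lit 1) (nat_lit 179) (Steps.bwd (nat_lit 17) (Steps.fwd (nat_lit 24576) (Steps.bwd (nat_lit 1) (Steps.bwd (nat_lit 2) (Steps.fwd (nat_lit 8192) (Steps.fwd (nat_lit 16384) (Steps.fwd (nat_lit 8192) (Steps.bwd (nat_lit 3) (Steps.fwd (nat_lit 8192) (Steps.fwd (nat_lit 32768) (Steps.fwd (nat_lit 24576) Steps.nil))))))))))) (nat_lit 193) (nat_lit 11),
  Rule.mk (nat_lit 0) (nat_lit 194) (Steps.bwd (nat_lit 18) (Steps.bwd (nat_lit 1) (Steps.fwd (nat_lit 16384) (Steps.bwd (nat_lit 4) (Steps.bwd (nat_lit 1) (Steps.bwd (nat_lit 2) (Steps.bwd (nat_lit 1) (Steps.fwd (nat_lit 24576) (Steps.bwd (nat_lit 1) (Steps.fwd (nat_lit 16384) (Steps.fwd (nat_lit 8192) (Steps.fwd (nat_lit 16384) Steps.nil)))))))))))) (nat_lit 192) (nat_lit 0),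
  Rule.mk (nat_lit 0) (nat_lit 194) (Steps.bwd (nat_lit 20) (Steps.fwd (nat_lit 8192) (Steps.bwd (nat_lit 2) (Steps.bwd (nat_lit 1) (Steps.bwd (nat_lit 2) (Steps.fwd (nat_lit 8192) (Steps.bwd (nat_lit 3) (Steps.fwd (nat_lit 8192) (Steps.fwd (nat_lit 16384) (Steps.fwd (nat_lit 8192) (Steps.fwd (nat_lit 32768) (Steps.bwd (nat_lit 2) Steps.nil)))))))))))) (nat_lit 194) (nat_lit 0),
  Rule.mk (nat_lit 19) (nat_lit 179) (Steps.fwd (nat_lit 16384) (Steps.fwd (nat_lit 32768) (Steps.bwd (nat_lit 1) (Steps.fwd (nat_lit 24576) (Steps.fwd (nat_lit 8192) (Steps.fwd (nat_lit 24576) (Steps.fwd (nat_lit 8192) (Steps.fwd (nat_lit 16384) (Steps.fwd (nat_lit 8192) (Steps.bwd (nat_lit 3) (Steps.fwd (nat_lit 8192) Steps.nil))))))))))) (nat_lit 195) (nat_lit 0),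
  Rule.mk (nat_lit 0) (nat_lit 614) (Steps.fwd (nat_lit 8192) (Steps.bwd (nat_lit 3) (Steps.bwd (nat_lit 1) (Steps.fwd (nat_lit 16384) (Steps.fwd (nat_lit 8192) (Steps.bwd (nat_lit 2) (Steps.fwd (nat_lit 8192) (Steps.fwd (nat_lit 24576) (Steps.fwd (nat_lit 8192) (Steps.bwd (nat_lit 3) (Steps.fwd (nat_lit 8192) (Steps.fwd (nat_lit 16384) (Steps.bwd (nat_lit 1) (Steps.fwd (nat_lit 24576) (Steps.fwd (nat_lit 8192) (Steps.bwd (nat_lit 2) (Steps.bwd (nat_lit 1) (Steps.fwd (nat_lit 16384) (Steps.fwd (nat_lit 8192) (Steps.bwd (nat_lit 3) (Steps.fwd (nat_lit 8192) (Steps.fwd (nat_lit 24576) (Steps.bwd (nat_lit 1) (Steps.bwd (nat_lit 2) (Steps.fwd (nat_lit 8192) (Steps.fwd (nat_lit 16384) (Steps.bwd (nat_lit 1) (Steps.bwd (nat_lit 3) (Steps.fwd (nat_lit 8192) (Steps.bwd (nat_lit 2) (Steps.bwd (nat_lit 1) (Steps.fwd (nat_lit 24576) (Steps.bwd (nat_lit 1) (Steps.bwd (nat_lit 3) (Steps.bwd (nat_lit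 1) (Steps.fwd (nat_lit 16384) (Steps.bwd (nat_lit 1) (Steps.bwd (nat_lit 2) (Steps.fwd (nat_lit 8192) (Steps.fwd (nat_lit 24576) Steps.nil)))))))))))))))))))))))))))))))))))))))) (nat_lit 8) (nat_lit 0),
  Rule.mk (nat_lit 18) (nat_lit 179) (Steps.fwd (nat_lit 8192) (Steps.bwd (nat_lit 3) (Steps.fwd (nat_lit 32768) (Steps.bwd (nat_lit 1) (Steps.bwd (nat_lit 2) (Steps.fwd (nat_lit 8192) (Steps.fwd (nat_lit 24576) (Steps.fwd (nat_lit 8192) (Steps.bwd (nat_lit 3) (Steps.bwd (nat_lit 1) (Steps.fwd (nat_lit 16384) Steps.nil))))))))))) (nat_lit 192) (nat_lit 1),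
  Rule.mk (nat_lit 20) (nat_lit 179) (Steps.bwd (nat_lit 1) (Steps.bwd (nat_lit 2) (Steps.fwd (nat_lit 8192) (Steps.fwd (nat_lit 24576) (Steps.fwd (nat_lit 8192) (Steps.bwd (nat_lit 3) (Steps.bwd (nat_lit 1) (Steps.fwd (nat_lit 16384) (Steps.fwd (nat_lit 8192) (Steps.bwd (nat_lit 4) (Steps.fwd (nat_lit 24576) Steps.nil))))))))))) (nat_lit 194) (nat_lit 1),
  Rule.mk (nat_lit 16) (nat_lit 179) (Steps.bwd (nat_lit 1) (Steps.fwd (nat_lit 16384) (Steps.bwd (nat_lit 1) (Steps.fwd (nat_lit 16384) (Steps.fwd (nat_lit 8192) (Steps.bwd (nat_lit 3) (Steps.bwd (nat_lit 1) (Steps.bwd (nat_lit 2) (Steps.fwd (nat_lit 32768) (Steps.bwd (nat_lit 1) (Steps.bwd (nat_lit 2) Steps.nil))))))))))) (nat_lit 190) (nat_lit 1),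
  Rule.mk (nat_lit 10) (nat_lit 104) (Steps.bwd (nat_lit 3) (Steps.fwd (nat_lit 49152) (Steps.bwd (nat_lit 11) (Steps.fwd (nat_lit 98304) (Steps.fwd (nat_lit 114688) (Steps.fwd (nat_lit 24576) Steps.nil)))))) (nat_lit 180) (nat_lit 2),
  Rule.mk (nat_lit 9) (nat_lit 134) (Steps.bwd (nat_lit 3) (Steps.bwd (nat_lit 4) (Steps.fwd (nat_lit 40960) (Steps.bwd (nat_lit 8) (Steps.bwd (nat_lit 9) (Steps.bwd (nat_lit 11) (Steps.fwd (nat_lit 114688) (Steps.fwd (nat_lit 24576) Steps.nil)))))))) (nat_lit 178) (nat_lit 2),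
  Rule.mk (nat_lit 11) (nat_lit 164) (Steps.bwd (nat_lit 3) (Steps.bwd (nat_lit 4) (Steps.fwd (nat_lit 40960) (Steps.bwd (nat_lit 8) (Steps.bwd (nat_lit 9) (Steps.bwd (nat_lit 10) (Steps.bwd (nat_lit 11) (Steps.fwd (nat_lit 98304) (Steps.fwd (nat_lit 114688) (Steps.bwd (nat_lit 2) Steps.nil)))))))))) (nat_lit 182) (nat_lit 2),
  Rule.mk (nat_lit 19) (nat_lit 179) (Steps.bwd (nat_lit 3) (Steps.fwd (nat_lit 32768) (Steps.bwd (nat_lit 1) (Steps.bwd (nat_lit 2) (Steps.fwd (nat_lit 8192) (Steps.fwd (nat_lit 24576) (Steps.fwd (nat_lit 8192) (Steps.bwd (nat_lit 3) (Steps.fwd (nat_lit 8192) (Steps.fwd (nat_lit 16384) (Steps.fwd (nat_lit 8192) Steps.nil))))))))))) (nat_lit 195) (nat_lit 0),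
  Rule.mk (nat_lit 1) (nat_lit 104) (Steps.bwd (nat_lit 13) (Steps.fwd (nat_lit 8192) (Steps.fwd (nat_lit 32768) (Steps.bwd (nat_lit 5) (Steps.bwd (nat_lit 8) (Steps.bwd (nat_lit 9) Steps.nil)))))) (nat_lit 164) (nat_lit 1),
  Rule.mk (nat_lit 17) (nat_lit 179) (Steps.fwd (nat_lit 24576) (Steps.fwd (nat_lit 8192) (Steps.fwd (nat_lit 24576) (Steps.bwd (nat_lit 1) (Steps.fwd (nat_lit 16384) (Steps.fwd (nat_lit 8192) (Steps.fwd (nat_lit 16384) (Steps.fwd (nat_lit 8192) (Steps.bwd (nat_lit 4) (Steps.bwd (nat_lit 2) (Steps.bwd (nat_lit 1) Steps.nil))))))))))) (nat_lit 193) (nat_lit 0),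
  Rule.mk (nat_lit 0) (nat_lit 194) (Steps.bwd (nat_lit 1) (Steps.bwd (nat_lit 3) (Steps.bwd (nat_lit 4) (Steps.fwd (nat_lit 8192) (Steps.bwd (nat_lit 2) (Steps.bwd (nat_lit 1) (Steps.fwd (nat_lit 24576) (Steps.fwd (nat_lit 8192) (Steps.fwd (nat_lit 16384) (Steps.fwd (nat_lit 8192) (Steps.fwd (nat_lit 16384) (Steps.fwd (nat_lit 139264) Steps.nil)))))))))))) (nat_lit 192) (nat_lit 1),
  Rule.mk (nat_lit 20) (nat_lit 179) (Steps.bwd (nat_lit 1) (Steps.bwd (nat_lit 2) (Steps.bwd (nat_lit 1) (Steps.bwd (nat_lit 2) (Steps.bwd (nat_lit 1) (Steps.bwd (nat_lit 3) (Steps.fwd (nat_lit 8192) (Steps.fwd (nat_lit 16384) (Steps.bwd (nat_lit 1) (Steps.fwd (nat_lit 32768) (Steps.fwd (nat_lit 24576) Steps.nil))))))))))) (nat_lit 194) (nat_lit 1),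
  Rule.mk (nat_lit 19) (nat_lit 179) (Steps.fwd (nat_lit 16384) (Steps.fwd (nat_lit 32768) (Steps.bwd (nat_lit 1) (Steps.bwd (nat_lit 2) (Steps.bwd (nat_lit 1) (Steps.bwd (nat_lit 2) (Steps.bwd (nat_lit 1) (Steps.bwd (nat_lit 3) (Steps.fwd (nat_lit 8192) (Steps.fwd (nat_lit 16384) (Steps.bwd (nat_lit 1) Steps.nil))))))))))) (nat_lit 195) (nat_lit 0),
  Rule.mk (nat_lit 2) (nat_lit 839) (Steps.fwd (nat_lit 8192) (Steps.bwd (nat_lit 3) (Steps.fwd (nat_lit 8192) (Steps.bwd (nat_lit 2) (Steps.bwd (nat_lit 1) (Steps.fwd (nat_lit 24576) (Steps.fwd (nat_lit 8192) (Steps.bwd (nat_lit 3) (Steps.bwd (nat_lit 1) (Steps.bwd (nat_lit 2) (Steps.fwd (nat_lit 8192) (Steps.bwd (nat_lit 3) (Steps.fwd (nat_lit 8192) (Steps.fwd (nat_lit 24576) (Steps.fwd (nat_lit 8192) (Steps.bwd (nat_lit 3) (Steps.fwd (nat_lit 8192) (Steps.fwd (nat_lit 24576) (Steps.fwd (nat_lit 8192) (Steps.fwd (nat_lit 24576) (Steps.bwd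 (nat_lit 1) (Steps.fwd (nat_lit 16384) (Steps.fwd (nat_lit 8192) (Steps.bwd (nat_lit 2) (Steps.bwd (nat_lit 1) (Steps.bwd (nat_lit 3) (Steps.fwd (nat_lit 8192) (Steps.bwd (nat_lit 2) (Steps.bwd (nat_lit 1) (Steps.bwd (nat_lit 3) (Steps.bwd (nat_lit 1) (Steps.fwd (nat_lit 24576) (Steps.fwd (nat_lit 8192) (Steps.fwd (nat_lit 24576) (Steps.fwd (nat_lit 8192) (Steps.fwd (nat_lit 16384) (Steps.bwd (nat_lit 1) (Steps.fwd (nat_lit 24576) (Steps.fwd (nat_lit 8192) (Steps.bwd (nat_lit 3) (Steps.fwd (nat_lit 8192) (Steps.fwd (nat_lit 24576) (Steps.fwd (nat_lit 8192) (Steps.fwd (nat_lit 16384) (Steps.bwd (nat_lit 1) (Steps.fwd (nat_lit 24576) (Steps.fwd (nat_lit 8192) (Steps.fwd (nat_lit 24576) (Steps.bwd (nat_lit 1) (Steps.bwd (nat_lit 3) (Steps.bwd (nat_lit 1) (Steps.fwd (nat_lit 24576) (Steps.fwd (nat_lit 8192) (Steps.fwd (nat_lit 16384) (Steps.bwd (nat_lit 1) Steps.nil)))))))))))))))))))))))))))))))))))))))))))))))))))))))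 (nat_lit 10) (nat_lit 12)]
noncomputable def R_68 : List (Rule) := [Rule.mk (nat_lit 0) (nat_lit 194) (Steps.bwd (nat_lit 15) (Steps.bwd (nat_lit 3) (Steps.bwd (nat_lit 1) (Steps.fwd (nat_lit 32768) (Steps.bwd (nat_lit 3) (Steps.fwd (nat_lit 8192) (Steps.bwd (nat_lit 2) (Steps.bwd (nat_lit 1) (Steps.bwd (nat_lit 2) (Steps.fwd (nat_lit 8192) (Steps.fwd (nat_lit 24576) (Steps.bwd (nat_lit 1) Steps.nil)))))))))))) (nat_lit 191) (nat_lit 11),
  Rule.mk (nat_lit 16) (nat_lit 179) (Steps.bwd (nat_lit 1) (Steps.fwd (nat_lit 16384) (Steps.fwd (nat_lit 8192) (Steps.fwd (nat_lit 16384) (Steps.bwd (nat_lit 1) (Steps.bwd (nat_lit 3) (Steps.bwd (nat_lit 1) (Steps.fwd (nat_lit 24576) (Steps.fwd (nat_lit 32768) (Steps.fwd (nat_lit 8192) (Steps.fwd (nat_lit 24576) Steps.nil))))))))))) (nat_lit 190) (nat_lit 1),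
  Rule.mk (nat_lit 15) (nat_lit 179) (Steps.bwd (nat_lit 3) (Steps.fwd (nat_lit 8192) (Steps.bwd (nat_lit 4) (Steps.fwd (nat_lit 16384) (Steps.fwd (nat_lit 8192) (Steps.bwd (nat_lit 2) (Steps.bwd (nat_lit 1) (Steps.fwd (nat_lit 24576) (Steps.fwd (nat_lit 8192) (Steps.bwd (nat_lit 2) (Steps.fwd (nat_lit 8192) Steps.nil))))))))))) (nat_lit 191) (nat_lit 0),
  Rule.mk (nat_lit 15) (nat_lit 179) (Steps.fwd (nat_lit 16384) (Steps.fwd (nat_lit 8192) (Steps.bwd (nat_lit 4) (Steps.bwd (nat_lit 3) (Steps.bwd (nat_lit 1) (Steps.bwd (nat_lit 2) (Steps.bwd (nat_lit 1) (Steps.bwd (nat_lit 2) (Steps.fwd (nat_lit 8192) (Steps.fwd (nat_lit 24576) (Steps.bwd (nat_lit 1) Steps.nil))))))))))) (nat_lit 191) (nat_lit 0),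
  Rule.mk (nat_lit 2) (nat_lit 179) (Steps.bwd (nat_lit 20) (Steps.bwd (nat_lit 1) (Steps.bwd (nat_lit 2) (Steps.fwd (nat_lit 8192) (Steps.bwd (nat_lit 2) (Steps.fwd (nat_lit 8192) (Steps.bwd (nat_lit 3) (Steps.bwd (nat_lit 1) (Steps.bwd (nat_lit 3) (Steps.fwd (nat_lit 8192) (Steps.fwd (nat_lit 32768) Steps.nil))))))))))) (nat_lit 194) (nat_lit 0),
  Rule.mk (nat_lit 8) (nat_lit 89) (Steps.fwd (nat_lit 16384) (Steps.fwd (nat_lit 32768) (Steps.fwd (nat_lit 57344) (Steps.fwd (nat_lit 114688) (Steps.bwd (nat_lit 2) Steps.nil))))) (nat_lit 176) (nat_lit 2),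
  Rule.mk (nat_lit 7) (nat_lit 104) (Steps.fwd (nat_lit 16384) (Steps.fwd (nat_lit 40960) (Steps.bwd (nat_lit 7) (Steps.bwd (nat_lit 13) (Steps.fwd (nat_lit 114688) (Steps.bwd (nat_lit 2) Steps.nil)))))) (nat_lit 174) (nat_lit 2),
  Rule.mk (nat_lit 14) (nat_lit 119) (Steps.bwd (nat_lit 3) (Steps.fwd (nat_lit 40960) (Steps.fwd (nat_lit 49152) (Steps.bwd (nat_lit 7) (Steps.fwd (nat_lit 98304) (Steps.fwd (nat_lit 114688) (Steps.bwd (nat_lit 2) Steps.nil))))))) (nat_lit 188) (nat_lit 2),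
  Rule.mk (nat_lit 13) (nat_lit 134) (Steps.bwd (nat_lit 3) (Steps.bwd (nat_lit 6) (Steps.bwd (nat_lit 10) (Steps.bwd (nat_lit 11) (Steps.fwd (nat_lit 98304) (Steps.bwd (nat_lit 13) (Steps.fwd (nat_lit 114688) (Steps.bwd (nat_lit 2) Steps.nil)))))))) (nat_lit 186) (nat_lit 2),
  Rule.mk (nat_lit 5) (nat_lit 149) (Steps.fwd (nat_lit 16384) (Steps.bwd (nat_lit 4) (Steps.bwd (nat_lit 5) (Steps.bwd (nat_lit 8) (Steps.fwd (nat_lit 73728) (Steps.fwd (nat_lit 98304) (Steps.bwd (nat_lit 13) (Steps.fwd (nat_lit 114688) (Steps.bwd (nat_lit 2) Steps.nil))))))))) (nat_lit 170) (nat_lit 2),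
  Rule.mk (nat_lit 16) (nat_lit 179) (Steps.fwd (nat_lit 8192) (Steps.bwd (nat_lit 3) (Steps.fwd (nat_lit 8192) (Steps.bwd (nat_lit 3) (Steps.bwd (nat_lit 1) (Steps.bwd (nat_lit 3) (Steps.fwd (nat_lit 8192) (Steps.fwd (nat_lit 24576) (Steps.fwd (nat_lit 32768) (Steps.fwd (nat_lit 8192) (Steps.bwd (nat_lit 2) Steps.nil))))))))))) (nat_lit 190) (nat_lit 1),
  Rule.mk (nat_lit 18) (nat_lit 179) (Steps.fwd (nat_lit 8192) (Steps.fwd (nat_lit 16384) (Steps.bwd (nat_lit 4) (Steps.bwd (nat_lit 1) (Steps.fwd (nat_lit 24576) (Steps.fwd (nat_lit 8192) (Steps.fwd (nat_lit 24576) (Steps.bwd (nat_lit 1) (Steps.fwd (nat_lit 16384) (Steps.bwd (nat_lit 1) (Steps.fwd (nat_lit 16384) Steps.nil))))))))))) (nat_lit 192) (nat_lit 1),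
  Rule.mk (nat_lit 3) (nat_lit 179) (Steps.bwd (nat_lit 18) (Steps.bwd (nat_lit 1) (Steps.fwd (nat_lit 16384) (Steps.bwd (nat_lit 4) (Steps.fwd (nat_lit 8192) (Steps.bwd (nat_lit 2) (Steps.fwd (nat_lit 8192) (Steps.fwd (nat_lit 24576) (Steps.fwd (nat_lit 8192) (Steps.fwd (nat_lit 16384) (Steps.bwd (nat_lit 1) Steps.nil))))))))))) (nat_lit 192) (nat_lit 0),
  Rule.mk (nat_lit 13) (nat_lit 134) (Steps.bwd (nat_lit 3) (Steps.bwd (nat_lit 14) (Steps.bwd (nat_lit 13) (Steps.bwd (nat_lit 12) (Steps.bwd (nat_lit 11) (Steps.fwd (nat_lit 81920) (Steps.fwd (nat_lit 49152) (Steps.bwd (nat_lit 2) Steps.nil)))))))) (nat_lit 187) (nat_lit 8),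
  Rule.mk (nat_lit 5) (nat_lit 149) (Steps.bwd (nat_lit 3) (Steps.bwd (nat_lit 14) (Steps.bwd (nat_lit 13) (Steps.bwd (nat_lit 12) (Steps.bwd (nat_lit 9) (Steps.fwd (nat_lit 65536) (Steps.bwd (nat_lit 5) (Steps.fwd (nat_lit 32768) (Steps.bwd (nat_lit 2) Steps.nil))))))))) (nat_lit 171) (nat_lit 9),
  Rule.mk (nat_lit 15) (nat_lit 179) (Steps.bwd (nat_lit 3) (Steps.bwd (nat_lit 1) (Steps.bwd (nat_lit 4) (Steps.bwd (nat_lit 3) (Steps.fwd (nat_lit 8192) (Steps.fwd (nat_lit 24576) (Steps.fwd (nat_lit 8192) (Steps.fwd (nat_lit 24576) (Steps.bwd (nat_lit 1) (Steps.fwd (nat_lit 24576) (Steps.bwd (nat_lit 1) Steps.nil))))))))))) (nat_lit 191) (nat_lit 0),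
  Rule.mk (nat_lit 3) (nat_lit 119) (Steps.bwd (nat_lit 5) (Steps.fwd (nat_lit 49152) (Steps.bwd (nat_lit 7) (Steps.bwd (nat_lit 12) (Steps.fwd (nat_lit 114688) (Steps.fwd (nat_lit 24576) (Steps.bwd (nat_lit 14) Steps.nil))))))) (nat_lit 188) (nat_lit 3),
  Rule.mk (nat_lit 2) (nat_lit 134) (Steps.fwd (nat_lit 73728) (Steps.fwd (nat_lit 16384) (Steps.fwd (nat_lit 32768) (Steps.bwd (nat_lit 5) (Steps.bwd (nat_lit 8) (Steps.fwd (nat_lit 73728) (Steps.fwd (nat_lit 90112) (Steps.bwd (nat_lit 14) Steps.nil)))))))) (nat_lit 178) (nat_lit 1),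
  Rule.mk (nat_lit 15) (nat_lit 179) (Steps.bwd (nat_lit 3) (Steps.fwd (nat_lit 8192) (Steps.bwd (nat_lit 4) (Steps.bwd (nat_lit 3) (Steps.bwd (nat_lit 1) (Steps.bwd (nat_lit 2) (Steps.bwd (nat_lit 1) (Steps.bwd (nat_lit 2) (Steps.fwd (nat_lit 8192) (Steps.fwd (nat_lit 24576) (Steps.fwd (nat_lit 8192) Steps.nil))))))))))) (nat_lit 191) (nat_lit 0),
  Rule.mk (nat_lit 19) (nat_lit 179) (Steps.bwd (nat_lit 3) (Steps.bwd (nat_lit 4) (Steps.fwd (nat_lit 8192) (Steps.bwd (nat_lit 2) (Steps.fwd (nat_lit 8192) (Steps.bwd (nat_lit 2) (Steps.fwd (nat_lit 8192) (Steps.bwd (nat_lit 3) (Steps.bwd (nat_lit 1) (Steps.bwd (nat_lit 3) (Steps.bwd (nat_lit 1) Steps.nil))))))))))) (nat_lit 195) (nat_lit 0),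
  Rule.mk (nat_lit 2) (nat_lit 134) (Steps.bwd (nat_lit 9) (Steps.bwd (nat_lit 3) (Steps.fwd (nat_lit 32768) (Steps.bwd (nat_lit 5) (Steps.bwd (nat_lit 8) (Steps.bwd (nat_lit 9) (Steps.bwd (nat_lit 11) (Steps.bwd (nat_lit 14) Steps.nil)))))))) (nat_lit 178) (nat_lit 1),
  Rule.mk (nat_lit 17) (nat_lit 179) (Steps.bwd (nat_lit 2) (Steps.fwd (nat_lit 8192) (Steps.fwd (nat_lit 24576) (Steps.bwd (nat_lit 1) (Steps.bwd (nat_lit 3) (Steps.bwd (nat_lit 1) (Steps.fwd (nat_lit 16384) (Steps.bwd (nat_lit 1) (Steps.bwd (nat_lit 4) (Steps.fwd (nat_lit 24576) (Steps.fwd (nat_lit 8192) Steps.nil))))))))))) (nat_lit 193) (nat_lit 0),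
  Rule.mk (nat_lit 20) (nat_lit 179) (Steps.bwd (nat_lit 1) (Steps.bwd (nat_lit 2) (Steps.fwd (nat_lit 8192) (Steps.bwd (nat_lit 2) (Steps.fwd (nat_lit 8192) (Steps.fwd (nat_lit 16384) (Steps.bwd (nat_lit 1) (Steps.fwd (nat_lit 16384) (Steps.fwd (nat_lit 8192) (Steps.fwd (nat_lit 32768) (Steps.bwd (nat_lit 2) Steps.nil))))))))))) (nat_lit 194) (nat_lit 1),
  Rule.mk (nat_lit 2) (nat_lit 164) (Steps.bwd (nat_lit 11) (Steps.bwd (nat_lit 3) (Steps.bwd (nat_lit 14) (Steps.bwd (nat_lit 12) (Steps.bwd (nat_lit 11) (Steps.bwd (nat_lit 10) (Steps.bwd (nat_lit 9) (Steps.bwd (nat_lit 8) (Steps.bwd (nat_lit 5) (Steps.fwd (nat_lit 32768) Steps.nil)))))))))) (nat_lit 183) (nat_lit 9),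
  Rule.mk (nat_lit 15) (nat_lit 179) (Steps.bwd (nat_lit 3) (Steps.fwd (nat_lit 8192) (Steps.fwd (nat_lit 32768) (Steps.fwd (nat_lit 16384) (Steps.bwd (nat_lit 1) (Steps.fwd (nat_lit 24576) (Steps.bwd (nat_lit 1) (Steps.bwd (nat_lit 2) (Steps.fwd (nat_lit 8192) (Steps.bwd (nat_lit 2) (Steps.fwd (nat_lit 8192) Steps.nil))))))))))) (nat_lit 191) (nat_lit 0),
  Rule.mk (nat_lit 0) (nat_lit 194) (Steps.bwd (nat_lit 18) (Steps.fwd (nat_lit 8192) (Steps.fwd (nat_lit 16384) (Steps.bwd (nat_lit 4) (Steps.fwd (nat_lit 8192) (Steps.bwd (nat_lit 2) (Steps.fwd (nat_lit 8192) (Steps.bwd (nat_lit 2) (Steps.bwd (nat_lit 1) (Steps.fwd (nat_lit 16384) (Steps.bwd (nat_lit 1) (Steps.fwd (nat_lit 16384) Steps.nil)))))))))))) (nat_lit 192) (nat_lit 0),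
  Rule.mk (nat_lit 0) (nat_lit 194) (Steps.bwd (nat_lit 19) (Steps.fwd (nat_lit 16384) (Steps.bwd (nat_lit 4) (Steps.fwd (nat_lit 8192) (Steps.bwd (nat_lit 2) (Steps.fwd (nat_lit 8192) (Steps.bwd (nat_lit 2) (Steps.bwd (nat_lit 1) (Steps.fwd (nat_lit 16384) (Steps.bwd (nat_lit 1) (Steps.fwd (nat_lit 16384) (Steps.fwd (nat_lit 8192) Steps.nil)))))))))))) (nat_lit 195) (nat_lit 11),
  Rule.mk (nat_lit 17) (nat_lit 179) (Steps.bwd (nat_lit 2) (Steps.fwd (nat_lit 8192) (Steps.fwd (nat_lit 24576) (Steps.fwd (nat_lit 8192) (Steps.bwd (nat_lit 3) (Steps.bwd (nat_lit 1) (Steps.bwd (nat_lit 3) (Steps.fwd (nat_lit 8192) (Steps.bwd (nat_lit 4) (Steps.fwd (nat_lit 24576) (Steps.bwd (nat_lit 1) Steps.nil))))))))))) (nat_lit 193) (nat_lit 0),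
  Rule.mk (nat_lit 16) (nat_lit 179) (Steps.bwd (nat_lit 1) (Steps.bwd (nat_lit 3) (Steps.fwd (nat_lit 8192) (Steps.bwd (nat_lit 3) (Steps.bwd (nat_lit 1) (Steps.fwd (nat_lit 16384) (Steps.fwd (nat_lit 8192) (Steps.bwd (nat_lit 2) (Steps.fwd (nat_lit 32768) (Steps.fwd (nat_lit 8192) (Steps.fwd (nat_lit 24576) Steps.nil))))))))))) (nat_lit 190) (nat_lit 1),
  Rule.mk (nat_lit 17) (nat_lit 179) (Steps.bwd (nat_lit 2) (Steps.fwd (nat_lit 8192) (Steps.fwd (nat_lit 24576) (Steps.fwd (nat_lit 8192) (Steps.bwd (nat_lit 3) (Steps.bwd (nat_lit 1) (Steps.fwd (nat_lit 16384) (Steps.bwd (nat_lit 1) (Steps.bwd (nat_lit 4) (Steps.fwd (nat_lit 24576) (Steps.bwd (nat_lit 1) Steps.nil))))))))))) (nat_lit 193) (nat_lit 0),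
  Rule.mk (nat_lit 0) (nat_lit 194) (Steps.bwd (nat_lit 17) (Steps.fwd (nat_lit 24576) (Steps.bwd (nat_lit 1) (Steps.bwd (nat_lit 2) (Steps.fwd (nat_lit 8192) (Steps.bwd (nat_lit 3) (Steps.bwd (nat_lit 1) (Steps.fwd (nat_lit 16384) (Steps.fwd (nat_lit 8192) (Steps.bwd (nat_lit 4) (Steps.fwd (nat_lit 24576) (Steps.fwd (nat_lit 8192) Steps.nil)))))))))))) (nat_lit 193) (nat_lit 11),
  Rule.mk (nat_lit 0) (nat_lit 194) (Steps.bwd (nat_lit 20) (Steps.bwd (nat_lit 1) (Steps.fwd (nat_lit 24576) (Steps.bwd (nat_lit 1) (Steps.bwd (nat_lit 2) (Steps.fwd (nat_lit 8192) (Steps.bwd (nat_lit 3) (Steps.bwd (nat_lit 1) (Steps.fwd (nat_lit 16384) (Steps.fwd (nat_lit 8192) (Steps.bwd (nat_lit 4) (Steps.fwd (nat_lit 24576) Steps.nil)))))))))))) (nat_lit 194) (nat_lit 0),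
  Rule.mk (nat_lit 19) (nat_lit 179) (Steps.fwd (nat_lit 16384) (Steps.bwd (nat_lit 4) (Steps.bwd (nat_lit 1) (Steps.fwd (nat_lit 24576) (Steps.bwd (nat_lit 1) (Steps.bwd (nat_lit 2) (Steps.fwd (nat_lit 8192) (Steps.bwd (nat_lit 3) (Steps.bwd (nat_lit 1) (Steps.fwd (nat_lit 16384) (Steps.fwd (nat_lit 8192) Steps.nil))))))))))) (nat_lit 195) (nat_lit 0),
  Rule.mk (nat_lit 16) (nat_lit 179) (Steps.fwd (nat_lit 8192) (Steps.bwd (nat_lit 3) (Steps.bwd (nat_lit 1) (Steps.bwd (nat_lit 3) (Steps.fwd (nat_lit 8192) (Steps.fwd (nat_lit 16384) (Steps.bwd (nat_lit 1) (Steps.fwd (nat_lit 24576) (Steps.fwd (nat_lit 32768) (Steps.bwd (nat_lit 1) (Steps.bwd (nat_lit 2) Steps.nil))))))))))) (nat_lit 190) (nat_lit 1),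
  Rule.mk (nat_lit 16) (nat_lit 179) (Steps.fwd (nat_lit 8192) (Steps.bwd (nat_lit 3) (Steps.fwd (nat_lit 8192) (Steps.bwd (nat_lit 3) (Steps.bwd (nat_lit 1) (Steps.fwd (nat_lit 16384) (Steps.bwd (nat_lit 1) (Steps.bwd (nat_lit 2) (Steps.fwd (nat_lit 32768) (Steps.bwd (nat_lit 1) (Steps.bwd (nat_lit 2) Steps.nil))))))))))) (nat_lit 190) (nat_lit 1),
  Rule.mk (nat_lit 15) (nat_lit 179) (Steps.bwd (nat_lit 3) (Steps.fwd (nat_lit 8192) (Steps.bwd (nat_lit 4) (Steps.fwd (nat_lit 16384) (Steps.fwd (nat_lit 8192) (Steps.fwd (nat_lit 24576) (Steps.bwd (nat_lit 1) (Steps.bwd (nat_lit 2) (Steps.fwd (nat_lit 8192) (Steps.bwd (nat_lit 2) (Steps.bwd (nat_lit 1) Steps.nil))))))))))) (nat_lit 191) (nat_lit 0),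
  Rule.mk (nat_lit 1) (nat_lit 179) (Steps.bwd (nat_lit 15) (Steps.bwd (nat_lit 3) (Steps.fwd (nat_lit 8192) (Steps.fwd (nat_lit 32768) (Steps.bwd (nat_lit 3) (Steps.bwd (nat_lit 1) (Steps.bwd (nat_lit 2) (Steps.fwd (nat_lit 8192) (Steps.bwd (nat_lit 2) (Steps.bwd (nat_lit 1) (Steps.bwd (nat_lit 2) Steps.nil))))))))))) (nat_lit 191) (nat_lit 11),
  Rule.mk (nat_lit 0) (nat_lit 194) (Steps.fwd (nat_lit 24576) (Steps.fwd (nat_lit 8192) (Steps.fwd (nat_lit 24576) (Steps.fwd (nat_lit 8192) (Steps.fwd (nat_lit 16384) (Steps.bwd (nat_lit 1) (Steps.fwd (nat_lit 16384) (Steps.fwd (nat_lit 8192) (Steps.bwd (nat_lit 4) (Steps.fwd (nat_lit 24576) (Steps.bwd (nat_lit 1) (Steps.fwd (nat_lit 147456) Steps.nil)))))))))))) (nat_lit 193) (nat_lit 0),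
  Rule.mk (nat_lit 17) (nat_lit 179) (Steps.bwd (nat_lit 2) (Steps.fwd (nat_lit 8192) (Steps.bwd (nat_lit 2) (Steps.bwd (nat_lit 1) (Steps.bwd (nat_lit 3) (Steps.bwd (nat_lit 1) (Steps.bwd (nat_lit 3) (Steps.fwd (nat_lit 8192) (Steps.fwd (nat_lit 32768) (Steps.fwd (nat_lit 24576) (Steps.bwd (nat_lit 1) Steps.nil))))))))))) (nat_lit 193) (nat_lit 0),
  Rule.mk (nat_lit 20) (nat_lit 179) (Steps.bwd (nat_lit 1) (Steps.bwd (nat_lit 2) (Steps.fwd (nat_lit 8192) (Steps.bwd (nat_lit 2) (Steps.bwd (nat_lit 1) (Steps.bwd (nat_lit 3) (Steps.bwd (nat_lit 1) (Steps.bwd (nat_lit 3) (Steps.fwd (nat_lit 8192) (Steps.fwd (nat_lit 32768) (Steps.fwd (nat_lit 24576) Steps.nil))))))))))) (nat_lit 194) (nat_lit 1),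
  Rule.mk (nat_lit 19) (nat_lit 179) (Steps.bwd (nat_lit 3) (Steps.fwd (nat_lit 32768) (Steps.bwd (nat_lit 1) (Steps.bwd (nat_lit 2) (Steps.fwd (nat_lit 8192) (Steps.bwd (nat_lit 2) (Steps.bwd (nat_lit 1) (Steps.bwd (nat_lit 3) (Steps.bwd (nat_lit 1) (Steps.bwd (nat_lit 3) (Steps.fwd (nat_lit 8192) Steps.nil))))))))))) (nat_lit 195) (nat_lit 0),
  Rule.mk (nat_lit 2) (nat_lit 179) (Steps.fwd (nat_lit 8192) (Steps.fwd (nat_lit 24576) (Steps.bwd (nat_lit 1) (Steps.bwd (nat_lit 3) (Steps.fwd (nat_lit 8192) (Steps.fwd (nat_lit 16384) (Steps.bwd (nat_lit 1) (Steps.fwd (nat_lit 32768) (Steps.fwd (nat_lit 24576) (Steps.fwd (nat_lit 8192) (Steps.fwd (nat_lit 147456) Steps.nil))))))))))) (nat_lit 193) (nat_lit 1),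
  Rule.mk (nat_lit 0) (nat_lit 614) (Steps.bwd (nat_lit 2) (Steps.fwd (nat_lit 8192) (Steps.fwd (nat_lit 24576) (Steps.bwd (nat_lit 1) (Steps.bwd (nat_lit 3) (Steps.fwd (nat_lit 8192) (Steps.fwd (nat_lit 16384) (Steps.bwd (nat_lit 1) (Steps.bwd (nat_lit 2) (Steps.bwd (nat_lit 1) (Steps.bwd (nat_lit 2) (Steps.bwd (nat_lit 1) (Steps.fwd (nat_lit 16384) (Steps.bwd (nat_lit 1) (Steps.fwd (nat_lit 16384) (Steps.fwd (nat_lit 8192) (Steps.fwd (nat_lit 24576) (Steps.bwd (nat_lit 1) (Steps.fwd (nat_lit 24576) (Steps.bwd (nat_lit 1) (Steps.bwd (nat_lit 3) (Steps.bwd (nat_lit 1) (Steps.fwd (nat_lit 16384) (Steps.bwd (nat_lit 1) (Steps.fwd (nat_lit 24576) (Steps.bwd (nat_lit 1) (Steps.fwd (nat_lit 24576) (Steps.bwd (nat_lit 1) (Steps.bwd (nat_lit 3) (Steps.bwd (nat_lit 1) (Steps.bwd (nat_lit 3) (Steps.bwd (nat_lit 1) (Steps.fwd (nat_lit 24576) (Steps.bwd (nat_lit 1) (Steps.bwd (nat_lit 2) (Steps.bwd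 (nat_lit 1) (Steps.fwd (nat_lit 16384) (Steps.bwd (nat_lit 1) (Steps.fwd (nat_lit 16384) (Steps.fwd (nat_lit 8192) Steps.nil)))))))))))))))))))))))))))))))))))))))) (nat_lit 8) (nat_lit 5),
  Rule.mk (nat_lit 7) (nat_lit 104) (Steps.bwd (nat_lit 3) (Steps.fwd (nat_lit 114688) (Steps.fwd (nat_lit 106496) (Steps.fwd (nat_lit 57344) (Steps.bwd (nat_lit 5) (Steps.bwd (nat_lit 2) Steps.nil)))))) (nat_lit 175) (nat_lit 6),
  Rule.mk (nat_lit 6) (nat_lit 164) (Steps.bwd (nat_lit 3) (Steps.fwd (nat_lit 114688) (Steps.fwd (nat_lit 106496) (Steps.bwd (nat_lit 12) (Steps.bwd (nat_lit 11) (Steps.bwd (nat_lit 10) (Steps.bwd (nat_lit 9) (Steps.bwd (nat_lit 6) (Steps.bwd (nat_lit 5) (Steps.bwd (nat_lit 2) Steps.nil)))))))))) (nat_lit 173) (nat_lit 10),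
  Rule.mk (nat_lit 16) (nat_lit 179) (Steps.fwd (nat_lit 8192) (Steps.bwd (nat_lit 3) (Steps.bwd (nat_lit 1) (Steps.bwd (nat_lit 3) (Steps.bwd (nat_lit 1) (Steps.fwd (nat_lit 16384) (Steps.bwd (nat_lit 1) (Steps.fwd (nat_lit 24576) (Steps.bwd (nat_lit 4) (Steps.fwd (nat_lit 8192) (Steps.bwd (nat_lit 2) Steps.nil))))))))))) (nat_lit 190) (nat_lit 1),
  Rule.mk (nat_lit 16) (nat_lit 179) (Steps.bwd (nat_lit 1) (Steps.bwd (nat_lit 3) (Steps.bwd (nat_lit 1) (Steps.fwd (nat_lit 16384) (Steps.bwd (nat_lit 1) (Steps.bwd (nat_lit 3) (Steps.bwd (nat_lit 1) (Steps.fwd (nat_lit 24576) (Steps.bwd (nat_lit 4) (Steps.bwd (nat_lit 1) (Steps.fwd (nat_lit 24576) Steps.nil))))))))))) (nat_lit 190) (nat_lit 1),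
  Rule.mk (nat_lit 15) (nat_lit 179) (Steps.bwd (nat_lit 3) (Steps.bwd (nat_lit 1) (Steps.bwd (nat_lit 4) (Steps.fwd (nat_lit 16384) (Steps.fwd (nat_lit 8192) (Steps.bwd (nat_lit 2) (Steps.fwd (nat_lit 8192) (Steps.fwd (nat_lit 24576) (Steps.bwd (nat_lit 1) (Steps.fwd (nat_lit 24576) (Steps.fwd (nat_lit 8192) Steps.nil))))))))))) (nat_lit 191) (nat_lit 0),
  Rule.mk (nat_lit 17) (nat_lit 179) (Steps.bwd (nat_lit 2) (Steps.bwd (nat_lit 1) (Steps.fwd (nat_lit 24576) (Steps.fwd (nat_lit 8192) (Steps.bwd (nat_lit 3) (Steps.bwd (nat_lit 1) (Steps.bwd (nat_lit 3) (Steps.bwd (nat_lit 1) (Steps.bwd (nat_lit 4) (Steps.bwd (nat_lit 2) (Steps.fwd (nat_lit 8192) Steps.nil))))))))))) (nat_lit 193) (nat_lit 0),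
  Rule.mk (nat_lit 17) (nat_lit 179) (Steps.bwd (nat_lit 2) (Steps.bwd (nat_lit 1) (Steps.bwd (nat_lit 2) (Steps.bwd (nat_lit 1) (Steps.bwd (nat_lit 3) (Steps.bwd (nat_lit 1) (Steps.fwd (nat_lit 16384) (Steps.bwd (nat_lit 1) (Steps.fwd (nat_lit 32768) (Steps.bwd (nat_lit 2) (Steps.fwd (nat_lit 8192) Steps.nil))))))))))) (nat_lit 193) (nat_lit 0),
  Rule.mk (nat_lit 0) (nat_lit 194) (Steps.bwd (nat_lit 19) (Steps.fwd (nat_lit 16384) (Steps.fwd (nat_lit 32768) (Steps.fwd (nat_lit 8192) (Steps.fwd (nat_lit 24576) (Steps.fwd (nat_lit 8192) (Steps.fwd (nat_lit 24576) (Steps.bwd (nat_lit 1) (Steps.bwd (nat_lit 3) (Steps.fwd (nat_lit 8192) (Steps.fwd (nat_lit 16384) (Steps.bwd (nat_lit 1) Steps.nil)))))))))))) (nat_lit 195) (nat_lit 11),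
  Rule.mk (nat_lit 0) (nat_lit 194) (Steps.bwd (nat_lit 19) (Steps.fwd (nat_lit 16384) (Steps.bwd (nat_lit 4) (Steps.fwd (nat_lit 8192) (Steps.bwd (nat_lit 2) (Steps.fwd (nat_lit 8192) (Steps.fwd (nat_lit 24576) (Steps.fwd (nat_lit 8192) (Steps.fwd (nat_lit 16384) (Steps.fwd (nat_lit 8192) (Steps.fwd (nat_lit 16384) (Steps.bwd (nat_lit 1) Steps.nil)))))))))))) (nat_lit 195) (nat_lit 11),
  Rule.mk (nat_lit 19) (nat_lit 179) (Steps.bwd (nat_lit 3) (Steps.bwd (nat_lit 4) (Steps.fwd (nat_lit 8192) (Steps.bwd (nat_lit 2) (Steps.bwd (nat_lit 1) (Steps.fwd (nat_lit 24576) (Steps.fwd (nat_lit 8192) (Steps.bwd (nat_lit 3) (Steps.bwd (nat_lit 1) (Steps.bwd (nat_lit 3) (Steps.bwd (nat_lit 1) Steps.nil))))))))))) (nat_lit 195) (nat_lit 0),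
  Rule.mk (nat_lit 16) (nat_lit 179) (Steps.fwd (nat_lit 8192) (Steps.bwd (nat_lit 3) (Steps.fwd (nat_lit 8192) (Steps.fwd (nat_lit 16384) (Steps.fwd (nat_lit 8192) (Steps.fwd (nat_lit 16384) (Steps.bwd (nat_lit 1) (Steps.bwd (nat_lit 2) (Steps.bwd (nat_lit 4) (Steps.bwd (nat_lit 1) (Steps.bwd (nat_lit 2) Steps.nil))))))))))) (nat_lit 190) (nat_lit 1),
  Rule.mk (nat_lit 2) (nat_lit 164) (Steps.bwd (nat_lit 6) (Steps.bwd (nat_lit 3) (Steps.fwd (nat_lit 40960) (Steps.bwd (nat_lit 6) (Steps.bwd (nat_lit 9) (Steps.fwd (nat_lit 81920) (Steps.fwd (nat_lit 90112) (Steps.bwd (nat_lit 12) (Steps.fwd (nat_lit 106496) (Steps.bwd (nat_lit 14) Steps.nil)))))))))) (nat_lit 172) (nat_lit 1),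
  Rule.mk (nat_lit 1) (nat_lit 179) (Steps.bwd (nat_lit 15) (Steps.fwd (nat_lit 16384) (Steps.fwd (nat_lit 8192) (Steps.fwd (nat_lit 32768) (Steps.bwd (nat_lit 3) (Steps.bwd (nat_lit 1) (Steps.bwd (nat_lit 2) (Steps.fwd (nat_lit 8192) (Steps.fwd (nat_lit 24576) (Steps.bwd (nat_lit 1) (Steps.bwd (nat_lit 2) Steps.nil))))))))))) (nat_lit 191) (nat_lit 11),
  Rule.mk (nat_lit 17) (nat_lit 179) (Steps.fwd (nat_lit 24576) (Steps.fwd (nat_lit 8192) (Steps.bwd (nat_lit 2) (Steps.bwd (nat_lit 1) (Steps.bwd (nat_lit 3) (Steps.bwd (nat_lit 1) (Steps.fwd (nat_lit 16384) (Steps.fwd (nat_lit 8192) (Steps.bwd (nat_lit 4) (Steps.bwd (nat_lit 2) (Steps.bwd (nat_lit 1) Steps.nil))))))))))) (nat_lit 193) (nat_lit 0),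
  Rule.mk (nat_lit 20) (nat_lit 179) (Steps.bwd (nat_lit 1) (Steps.fwd (nat_lit 24576) (Steps.fwd (nat_lit 8192) (Steps.bwd (nat_lit 2) (Steps.bwd (nat_lit 1) (Steps.bwd (nat_lit 3) (Steps.bwd (nat_lit 1) (Steps.fwd (nat_lit 16384) (Steps.fwd (nat_lit 8192) (Steps.bwd (nat_lit 4) (Steps.bwd (nat_lit 2) Steps.nil))))))))))) (nat_lit 194) (nat_lit 1),
  Rule.mk (nat_lit 3) (nat_lit 539) (Steps.bwd (nat_lit 1) (Steps.bwd (nat_lit 2) (Steps.bwd (nat_lit 1) (Steps.fwd (nat_lit 24576) (Steps.bwd (nat_lit 1) (Steps.fwd (nat_lit 16384) (Steps.fwd (nat_lit 8192) (Steps.fwd (nat_lit 24576) (Steps.fwd (nat_lit 8192) (Steps.bwd (nat_lit 3) (Steps.bwd (nat_lit 1) (Steps.bwd (nat_lit 3) (Steps.fwd (nat_lit 8192) (Steps.bwd (nat_lit 2) (Steps.bwd (nat_lit 1) (Steps.bwd (nat_lit 3) (Steps.bwd (nat_lit 1) (Steps.bwd (nat_lit 3) (Steps.fwd (nat_lit 8192) (Steps.bwd (nat_lit 2) (Steps.bwd (nat_lit 1) (Steps.bwd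 (nat_lit 3) (Steps.fwd (nat_lit 8192) (Steps.bwd (nat_lit 3) (Steps.bwd (nat_lit 1) (Steps.bwd (nat_lit 2) (Steps.bwd (nat_lit 1) (Steps.bwd (nat_lit 2) (Steps.bwd (nat_lit 1) (Steps.fwd (nat_lit 16384) (Steps.fwd (nat_lit 8192) (Steps.fwd (nat_lit 24576) (Steps.bwd (nat_lit 1) (Steps.bwd (nat_lit 2) (Steps.bwd (nat_lit 1) Steps.nil))))))))))))))))))))))))))))))))))) (nat_lit 12) (nat_lit 12),
  Rule.mk (nat_lit 12) (nat_lit 104) (Steps.bwd (nat_lit 3) (Steps.fwd (nat_lit 73728) (Steps.fwd (nat_lit 65536) (Steps.bwd (nat_lit 5) (Steps.bwd (nat_lit 4) (Steps.fwd (nat_lit 24576) Steps.nil)))))) (nat_lit 185) (nat_lit 6),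
  Rule.mk (nat_lit 0) (nat_lit 194) (Steps.fwd (nat_lit 24576) (Steps.fwd (nat_lit 8192) (Steps.fwd (nat_lit 24576) (Steps.fwd (nat_lit 8192) (Steps.fwd (nat_lit 16384) (Steps.fwd (nat_lit 8192) (Steps.bwd (nat_lit 3) (Steps.bwd (nat_lit 1) (Steps.fwd (nat_lit 32768) (Steps.fwd (nat_lit 24576) (Steps.fwd (nat_lit 8192) (Steps.fwd (nat_lit 147456) Steps.nil)))))))))))) (nat_lit 193) (nat_lit 0),
  Rule.mk (nat_lit 18) (nat_lit 179) (Steps.bwd (nat_lit 1) (Steps.bwd (nat_lit 3) (Steps.fwd (nat_lit 32768) (Steps.fwd (nat_lit 8192) (Steps.fwd (nat_lit 24576) (Steps.bwd (nat_lit 1) (Steps.bwd (nat_lit 2) (Steps.fwd (nat_lit 8192) (Steps.bwd (nat_lit 3) (Steps.bwd (nat_lit 1) (Steps.fwd (nat_lit 16384) Steps.nil))))))))))) (nat_lit 192) (nat_lit 1),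
  Rule.mk (nat_lit 19) (nat_lit 179) (Steps.bwd (nat_lit 3) (Steps.bwd (nat_lit 4) (Steps.fwd (nat_lit 8192) (Steps.fwd (nat_lit 24576) (Steps.bwd (nat_lit 1) (Steps.bwd (nat_lit 2) (Steps.bwd (nat_lit 1) (Steps.bwd (nat_lit 3) (Steps.bwd (nat_lit 1) (Steps.bwd (nat_lit 3) (Steps.fwd (nat_lit 8192) Steps.nil))))))))))) (nat_lit 195) (nat_lit 0),
  Rule.mk (nat_lit 19) (nat_lit 179) (Steps.bwd (nat_lit 3) (Steps.fwd (nat_lit 32768) (Steps.fwd (nat_lit 8192) (Steps.fwd (nat_lit 24576) (Steps.bwd (nat_lit 1) (Steps.bwd (nat_lit 2) (Steps.fwd (nat_lit 8192) (Steps.bwd (nat_lit 3) (Steps.bwd (nat_lit 1) (Steps.fwd (nat_lit 16384) (Steps.fwd (nat_lit 8192) Steps.nil))))))))))) (nat_lit 195) (nat_lit 0)]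
noncomputable def R_69 : List (Rule) := [Rule.mk (nat_lit 16) (nat_lit 179) (Steps.bwd (nat_lit 1) (Steps.fwd (nat_lit 16384) (Steps.fwd (nat_lit 8192) (Steps.bwd (nat_lit 3) (Steps.fwd (nat_lit 8192) (Steps.fwd (nat_lit 16384) (Steps.fwd (nat_lit 8192) (Steps.fwd (nat_lit 24576) (Steps.fwd (nat_lit 32768) (Steps.fwd (nat_lit 8192) (Steps.bwd (nat_lit 2) Steps.nil))))))))))) (nat_lit 190) (nat_lit 1),
  Rule.mk (nat_lit 16) (nat_lit 179) (Steps.fwd (nat_lit 8192) (Steps.bwd (nat_lit 3) (Steps.fwd (nat_lit 8192) (Steps.fwd (nat_lit 16384) (Steps.fwd (nat_lit 8192) (Steps.bwd (nat_lit 3) (Steps.bwd (nat_lit 1) (Steps.bwd (nat_lit 2) (Steps.fwd (nat_lit 32768) (Steps.fwd (nat_lit 8192) (Steps.bwd (nat_lit 2) Steps.nil))))))))))) (nat_lit 190) (nat_lit 1),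
  Rule.mk (nat_lit 15) (nat_lit 179) (Steps.bwd (nat_lit 3) (Steps.fwd (nat_lit 8192) (Steps.fwd (nat_lit 32768) (Steps.bwd (nat_lit 3) (Steps.bwd (nat_lit 1) (Steps.bwd (nat_lit 2) (Steps.fwd (nat_lit 8192) (Steps.fwd (nat_lit 24576) (Steps.fwd (nat_lit 8192) (Steps.bwd (nat_lit 2) (Steps.bwd (nat_lit 1) Steps.nil))))))))))) (nat_lit 191) (nat_lit 0),
  Rule.mk (nat_lit 2) (nat_lit 179) (Steps.bwd (nat_lit 1) (Steps.bwd (nat_lit 2) (Steps.bwd (nat_lit 1) (Steps.fwd (nat_lit 16384) (Steps.fwd (nat_lit 8192) (Steps.bwd (nat_lit 3) (Steps.fwd (nat_lit 8192) (Steps.fwd (nat_lit 32768) (Steps.bwd (nat_lit 2) (Steps.fwd (nat_lit 8192) (Steps.fwd (nat_lit 147456) Steps.nil))))))))))) (nat_lit 193) (nat_lit 1),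
  Rule.mk (nat_lit 0) (nat_lit 194) (Steps.fwd (nat_lit 24576) (Steps.bwd (nat_lit 1) (Steps.bwd (nat_lit 2) (Steps.fwd (nat_lit 8192) (Steps.bwd (nat_lit 3) (Steps.fwd (nat_lit 8192) (Steps.fwd (nat_lit 16384) (Steps.fwd (nat_lit 8192) (Steps.bwd (nat_lit 4) (Steps.bwd (nat_lit 2) (Steps.fwd (nat_lit 8192) (Steps.fwd (nat_lit 147456) Steps.nil)))))))))))) (nat_lit 193) (nat_lit 0),
  Rule.mk (nat_lit 0) (nat_lit 194) (Steps.bwd (nat_lit 19) (Steps.fwd (nat_lit 16384) (Steps.fwd (nat_lit 32768) (Steps.bwd (nat_lit 1) (Steps.bwd (nat_lit 2) (Steps.bwd (nat_lit 1) (Steps.fwd (nat_lit 24576) (Steps.bwd (nat_lit 1) (Steps.fwd (nat_lit 16384) (Steps.fwd (nat_lit 8192) (Steps.bwd (nat_lit 3) (Steps.fwd (nat_lit 8192) Steps.nil)))))))))))) (nat_lit 195) (nat_lit 11),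
  Rule.mk (nat_lit 19) (nat_lit 179) (Steps.bwd (nat_lit 3) (Steps.bwd (nat_lit 4) (Steps.bwd (nat_lit 1) (Steps.fwd (nat_lit 24576) (Steps.bwd (nat_lit 1) (Steps.bwd (nat_lit 2) (Steps.fwd (nat_lit 8192) (Steps.bwd (nat_lit 3) (Steps.fwd (nat_lit 8192) (Steps.fwd (nat_lit 16384) (Steps.fwd (nat_lit 8192) Steps.nil))))))))))) (nat_lit 195) (nat_lit 0),
  Rule.mk (nat_lit 14) (nat_lit 104) (Steps.bwd (nat_lit 2) (Steps.bwd (nat_lit 10) (Steps.bwd (nat_lit 3) (Steps.bwd (nat_lit 6) (Steps.fwd (nat_lit 90112) (Steps.bwd (nat_lit 12) Steps.nil)))))) (nat_lit 180) (nat_lit 0),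
  Rule.mk (nat_lit 6) (nat_lit 104) (Steps.bwd (nat_lit 2) (Steps.bwd (nat_lit 10) (Steps.bwd (nat_lit 3) (Steps.fwd (nat_lit 114688) (Steps.fwd (nat_lit 98304) (Steps.fwd (nat_lit 90112) Steps.nil)))))) (nat_lit 181) (nat_lit 4),
  Rule.mk (nat_lit 3) (nat_lit 179) (Steps.bwd (nat_lit 18) (Steps.fwd (nat_lit 8192) (Steps.bwd (nat_lit 3) (Steps.bwd (nat_lit 4) (Steps.fwd (nat_lit 8192) (Steps.bwd (nat_lit 2) (Steps.bwd (nat_lit 1) (Steps.fwd (nat_lit 24576) (Steps.fwd (nat_lit 8192) (Steps.fwd (nat_lit 16384) (Steps.bwd (nat_lit 1) Steps.nil))))))))))) (nat_lit 192) (nat_lit 0),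
  Rule.mk (nat_lit 14) (nat_lit 89) (Steps.bwd (nat_lit 7) (Steps.fwd (nat_lit 32768) (Steps.fwd (nat_lit 24576) (Steps.bwd (nat_lit 8) (Steps.bwd (nat_lit 3) Steps.nil))))) (nat_lit 177) (nat_lit 1),
  Rule.mk (nat_lit 6) (nat_lit 104) (Steps.fwd (nat_lit 90112) (Steps.bwd (nat_lit 12) (Steps.bwd (nat_lit 14) (Steps.fwd (nat_lit 24576) (Steps.bwd (nat_lit 10) (Steps.bwd (nat_lit 3) Steps.nil)))))) (nat_lit 180) (nat_lit 4),
  Rule.mk (nat_lit 9) (nat_lit 104) (Steps.fwd (nat_lit 65536) (Steps.bwd (nat_lit 5) (Steps.bwd (nat_lit 4) (Steps.fwd (nat_lit 24576) (Steps.fwd (nat_lit 98304) (Steps.bwd (nat_lit 3) Steps.nil)))))) (nat_lit 185) (nat_lit 1),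
  Rule.mk (nat_lit 5) (nat_lit 119) (Steps.bwd (nat_lit 6) (Steps.fwd (nat_lit 57344) (Steps.bwd (nat_lit 12) (Steps.fwd (nat_lit 114688) (Steps.fwd (nat_lit 24576) (Steps.bwd (nat_lit 14) (Steps.bwd (nat_lit 3) Steps.nil))))))) (nat_lit 188) (nat_lit 4),
  Rule.mk (nat_lit 18) (nat_lit 179) (Steps.bwd (nat_lit 1) (Steps.bwd (nat_lit 3) (Steps.bwd (nat_lit 4) (Steps.bwd (nat_lit 1) (Steps.bwd (nat_lit 2) (Steps.bwd (nat_lit 1) (Steps.bwd (nat_lit 2) (Steps.bwd (nat_lit 1) (Steps.bwd (nat_lit 3) (Steps.bwd (nat_lit 1) (Steps.bwd (nat_lit 3) Steps.nil))))))))))) (nat_lit 192) (nat_lit 1),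
  Rule.mk (nat_lit 19) (nat_lit 179) (Steps.bwd (nat_lit 3) (Steps.bwd (nat_lit 4) (Steps.bwd (nat_lit 1) (Steps.bwd (nat_lit 2) (Steps.bwd (nat_lit 1) (Steps.bwd (nat_lit 2) (Steps.bwd (nat_lit 1) (Steps.bwd (nat_lit 3) (Steps.bwd (nat_lit 1) (Steps.bwd (nat_lit 3) (Steps.bwd (nat_lit 1) Steps.nil))))))))))) (nat_lit 195) (nat_lit 0),
  Rule.mk (nat_lit 1) (nat_lit 539) (Steps.fwd (nat_lit 24576) (Steps.fwd (nat_lit 8192) (Steps.bwd (nat_lit 2) (Steps.fwd (nat_lit 8192) (Steps.bwd (nat_lit 3) (Steps.fwd (nat_lit 8192) (Steps.fwd (nat_lit 24576) (Steps.bwd (nat_lit 1) (Steps.fwd (nat_lit 24576) (Steps.fwd (nat_lit 8192) (Steps.bwd (nat_lit 3) (Steps.fwd (nat_lit 8192) (Steps.bwd (nat_lit 2) (Steps.fwd (nat_lit 8192) (Steps.fwd (nat_lit 24576) (Steps.fwd (nat_lit 8192) (Steps.bwd (nat_lit 3) (Steps.fwd (nat_lit 8192) (Steps.bwd (nat_lit 2) (Steps.fwd (nat_lit 8192) (Steps.fwd (nat_lit 16384)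 (Steps.fwd (nat_lit 8192) (Steps.bwd (nat_lit 3) (Steps.fwd (nat_lit 8192) (Steps.fwd (nat_lit 24576) (Steps.fwd (nat_lit 8192) (Steps.bwd (nat_lit 3) (Steps.fwd (nat_lit 8192) (Steps.bwd (nat_lit 3) (Steps.bwd (nat_lit 1) (Steps.fwd (nat_lit 24576) (Steps.fwd (nat_lit 8192) (Steps.fwd (nat_lit 16384) (Steps.bwd (nat_lit 1) (Steps.bwd (nat_lit 3) Steps.nil))))))))))))))))))))))))))))))))))) (nat_lit 12) (nat_lit 1),
  Rule.mk (nat_lit 7) (nat_lit 164) (Steps.bwd (nat_lit 1) (Steps.bwd (nat_lit 5) (Steps.fwd (nat_lit 49152) (Steps.fwd (nat_lit 73728) (Steps.bwd (nat_lit 10) (Steps.bwd (nat_lit 11) (Steps.fwd (nat_lit 98304) (Steps.bwd (nat_lit 13) (Steps.fwd (nat_lit 114688) (Steps.bwd (nat_lit 1) Steps.nil)))))))))) (nat_lit 152) (nat_lit 2),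
  Rule.mk (nat_lit 0) (nat_lit 194) (Steps.bwd (nat_lit 15) (Steps.bwd (nat_lit 3) (Steps.fwd (nat_lit 8192) (Steps.bwd (nat_lit 4) (Steps.bwd (nat_lit 3) (Steps.bwd (nat_lit 1) (Steps.fwd (nat_lit 24576) (Steps.bwd (nat_lit 1) (Steps.bwd (nat_lit 2) (Steps.fwd (nat_lit 8192) (Steps.fwd (nat_lit 24576) (Steps.fwd (nat_lit 8192) Steps.nil)))))))))))) (nat_lit 191) (nat_lit 11),
  Rule.mk (nat_lit 0) (nat_lit 194) (Steps.bwd (nat_lit 15) (Steps.fwd (nat_lit 16384) (Steps.bwd (nat_lit 1) (Steps.fwd (nat_lit 32768) (Steps.bwd (nat_lit 3) (Steps.bwd (nat_lit 1) (Steps.fwd (nat_lit 24576) (Steps.fwd (nat_lit 8192) (Steps.fwd (nat_lit 24576) (Steps.fwd (nat_lit 8192) (Steps.bwd (nat_lit 2) (Steps.bwd (nat_lit 1) Steps.nil)))))))))))) (nat_lit 191) (nat_lit 11),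
  Rule.mk (nat_lit 0) (nat_lit 194) (Steps.bwd (nat_lit 1) (Steps.bwd (nat_lit 3) (Steps.bwd (nat_lit 1) (Steps.bwd (nat_lit 3) (Steps.fwd (nat_lit 8192) (Steps.fwd (nat_lit 16384) (Steps.fwd (nat_lit 8192) (Steps.fwd (nat_lit 24576) (Steps.bwd (nat_lit 4) (Steps.bwd (nat_lit 1) (Steps.fwd (nat_lit 24576) (Steps.fwd (nat_lit 122880) Steps.nil)))))))))))) (nat_lit 190) (nat_lit 1),
  Rule.mk (nat_lit 0) (nat_lit 194) (Steps.bwd (nat_lit 15) (Steps.bwd (nat_lit 3) (Steps.bwd (nat_lit 1) (Steps.bwd (nat_lit 4) (Steps.bwd (nat_lit 3) (Steps.bwd (nat_lit 1) (Steps.fwd (nat_lit 24576) (Steps.fwd (nat_lit 8192) (Steps.fwd (nat_lit 24576) (Steps.bwd (nat_lit 1) (Steps.fwd (nat_lit 24576) (Steps.bwd (nat_lit 1) Steps.nil)))))))))))) (nat_lit 191) (nat_lit 11),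
  Rule.mk (nat_lit 15) (nat_lit 179) (Steps.fwd (nat_lit 16384) (Steps.fwd (nat_lit 8192) (Steps.fwd (nat_lit 32768) (Steps.bwd (nat_lit 3) (Steps.bwd (nat_lit 1) (Steps.fwd (nat_lit 24576) (Steps.fwd (nat_lit 8192) (Steps.bwd (nat_lit 2) (Steps.fwd (nat_lit 8192) (Steps.fwd (nat_lit 24576) (Steps.bwd (nat_lit 1) Steps.nil))))))))))) (nat_lit 191) (nat_lit 0),
  Rule.mk (nat_lit 15) (nat_lit 179) (Steps.bwd (nat_lit 3) (Steps.bwd (nat_lit 1) (Steps.fwd (nat_lit 32768) (Steps.bwd (nat_lit 3) (Steps.bwd (nat_lit 1) (Steps.bwd (nat_lit 2) (Steps.fwd (nat_lit 8192) (Steps.bwd (nat_lit 2) (Steps.bwd (nat_lit 1) (Steps.bwd (nat_lit 2) (Steps.fwd (nat_lit 8192) Steps.nil))))))))))) (nat_lit 191) (nat_lit 0),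
  Rule.mk (nat_lit 0) (nat_lit 194) (Steps.bwd (nat_lit 17) (Steps.fwd (nat_lit 24576) (Steps.fwd (nat_lit 8192) (Steps.fwd (nat_lit 24576) (Steps.bwd (nat_lit 1) (Steps.fwd (nat_lit 16384) (Steps.bwd (nat_lit 1) (Steps.bwd (nat_lit 3) (Steps.fwd (nat_lit 8192) (Steps.bwd (nat_lit 4) (Steps.fwd (nat_lit 24576) (Steps.fwd (nat_lit 8192) Steps.nil)))))))))))) (nat_lit 193) (nat_lit 11),
  Rule.mk (nat_lit 18) (nat_lit 179) (Steps.fwd (nat_lit 8192) (Steps.fwd (nat_lit 16384) (Steps.bwd (nat_lit 4) (Steps.bwd (nat_lit 1) (Steps.fwd (nat_lit 24576) (Steps.bwd (nat_lit 1) (Steps.fwd (nat_lit 24576) (Steps.fwd (nat_lit 8192) (Steps.bwd (nat_lit 3) (Steps.fwd (nat_lit 8192) (Steps.bwd (nat_lit 3) Steps.nil))))))))))) (nat_lit 192) (nat_lit 1),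
  Rule.mk (nat_lit 18) (nat_lit 179) (Steps.fwd (nat_lit 8192) (Steps.bwd (nat_lit 3) (Steps.fwd (nat_lit 32768) (Steps.bwd (nat_lit 1) (Steps.fwd (nat_lit 24576) (Steps.fwd (nat_lit 8192) (Steps.bwd (nat_lit 2) (Steps.fwd (nat_lit 8192) (Steps.bwd (nat_lit 3) (Steps.fwd (nat_lit 8192) (Steps.fwd (nat_lit 16384) Steps.nil))))))))))) (nat_lit 192) (nat_lit 1),
  Rule.mk (nat_lit 17) (nat_lit 179) (Steps.bwd (nat_lit 2) (Steps.bwd (nat_lit 1) (Steps.fwd (nat_lit 24576) (Steps.fwd (nat_lit 8192) (Steps.bwd (nat_lit 3) (Steps.fwd (nat_lit 8192) (Steps.bwd (nat_lit 3) (Steps.bwd (nat_lit 1) (Steps.fwd (nat_lit 32768) (Steps.bwd (nat_lit 2) (Steps.fwd (nat_lit 8192) Steps.nil))))))))))) (nat_lit 193) (nat_lit 0),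
  Rule.mk (nat_lit 17) (nat_lit 179) (Steps.fwd (nat_lit 24576) (Steps.fwd (nat_lit 8192) (Steps.bwd (nat_lit 2) (Steps.fwd (nat_lit 8192) (Steps.bwd (nat_lit 3) (Steps.bwd (nat_lit 1) (Steps.bwd (nat_lit 3) (Steps.fwd (nat_lit 8192) (Steps.bwd (nat_lit 4) (Steps.bwd (nat_lit 2) (Steps.fwd (nat_lit 8192) Steps.nil))))))))))) (nat_lit 193) (nat_lit 0),
  Rule.mk (nat_lit 17) (nat_lit 179) (Steps.fwd (nat_lit 24576) (Steps.bwd (nat_lit 1) (Steps.fwd (nat_lit 24576) (Steps.bwd (nat_lit 1) (Steps.bwd (nat_lit 3) (Steps.fwd (nat_lit 8192) (Steps.fwd (nat_lit 16384) (Steps.fwd (nat_lit 8192) (Steps.fwd (nat_lit 32768) (Steps.fwd (nat_lit 24576) (Steps.bwd (nat_lit 1) Steps.nil))))))))))) (nat_lit 193) (nat_lit 0),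
  Rule.mk (nat_lit 17) (nat_lit 179) (Steps.fwd (nat_lit 24576) (Steps.bwd (nat_lit 1) (Steps.fwd (nat_lit 24576) (Steps.fwd (nat_lit 8192) (Steps.bwd (nat_lit 3) (Steps.fwd (nat_lit 8192) (Steps.bwd (nat_lit 3) (Steps.fwd (nat_lit 8192) (Steps.fwd (nat_lit 32768) (Steps.bwd (nat_lit 2) (Steps.fwd (nat_lit 8192) Steps.nil))))))))))) (nat_lit 193) (nat_lit 0),
  Rule.mk (nat_lit 20) (nat_lit 179) (Steps.fwd (nat_lit 8192) (Steps.bwd (nat_lit 2) (Steps.bwd (nat_lit 1) (Steps.fwd (nat_lit 24576) (Steps.fwd (nat_lit 8192) (Steps.bwd (nat_lit 3) (Steps.fwd (nat_lit 8192) (Steps.bwd (nat_lit 3) (Steps.bwd (nat_lit 1) (Steps.fwd (nat_lit 32768) (Steps.bwd (nat_lit 2) Steps.nil))))))))))) (nat_lit 194) (nat_lit 1),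
  Rule.mk (nat_lit 0) (nat_lit 194) (Steps.fwd (nat_lit 16384) (Steps.fwd (nat_lit 32768) (Steps.bwd (nat_lit 1) (Steps.fwd (nat_lit 24576) (Steps.fwd (nat_lit 8192) (Steps.fwd (nat_lit 24576) (Steps.bwd (nat_lit 1) (Steps.fwd (nat_lit 16384) (Steps.bwd (nat_lit 1) (Steps.bwd (nat_lit 3) (Steps.fwd (nat_lit 8192) (Steps.fwd (nat_lit 163840) Steps.nil)))))))))))) (nat_lit 195) (nat_lit 0),
  Rule.mk (nat_lit 0) (nat_lit 194) (Steps.bwd (nat_lit 19) (Steps.bwd (nat_lit 3) (Steps.bwd (nat_lit 4) (Steps.bwd (nat_lit 1) (Steps.bwd (nat_lit 2) (Steps.bwd (nat_lit 1) (Steps.fwd (nat_lit 24576) (Steps.fwd (nat_lit 8192) (Steps.bwd (nat_lit 3) (Steps.fwd (nat_lit 8192) (Steps.bwd (nat_lit 3) (Steps.bwd (nat_lit 1) Steps.nil)))))))))))) (nat_lit 195) (nat_lit 11),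
  Rule.mk (nat_lit 20) (nat_lit 179) (Steps.bwd (nat_lit 1) (Steps.fwd (nat_lit 24576) (Steps.bwd (nat_lit 1) (Steps.fwd (nat_lit 24576) (Steps.fwd (nat_lit 8192) (Steps.bwd (nat_lit 3) (Steps.fwd (nat_lit 8192) (Steps.bwd (nat_lit 3) (Steps.fwd (nat_lit 8192) (Steps.fwd (nat_lit 32768) (Steps.bwd (nat_lit 2) Steps.nil))))))))))) (nat_lit 194) (nat_lit 1),
  Rule.mk (nat_lit 20) (nat_lit 179) (Steps.bwd (nat_lit 1) (Steps.fwd (nat_lit 24576) (Steps.fwd (nat_lit 8192) (Steps.bwd (nat_lit 2) (Steps.fwd (nat_lit 8192) (Steps.bwd (nat_lit 3) (Steps.fwd (nat_lit 8192) (Steps.fwd (nat_lit 16384) (Steps.bwd (nat_lit 1) (Steps.fwd (nat_lit 32768) (Steps.bwd (nat_lit 2) Steps.nil))))))))))) (nat_lit 194) (nat_lit 1),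
  Rule.mk (nat_lit 19) (nat_lit 179) (Steps.bwd (nat_lit 3) (Steps.bwd (nat_lit 4) (Steps.fwd (nat_lit 8192) (Steps.bwd (nat_lit 2) (Steps.bwd (nat_lit 1) (Steps.fwd (nat_lit 24576) (Steps.fwd (nat_lit 8192) (Steps.bwd (nat_lit 3) (Steps.fwd (nat_lit 8192) (Steps.bwd (nat_lit 3) (Steps.bwd (nat_lit 1) Steps.nil))))))))))) (nat_lit 195) (nat_lit 0),
  Rule.mk (nat_lit 0) (nat_lit 194) (Steps.bwd (nat_lit 19) (Steps.bwd (nat_lit 3) (Steps.fwd (nat_lit 32768) (Steps.bwd (nat_lit 1) (Steps.fwd (nat_lit 24576) (Steps.fwd (nat_lit 8192) (Steps.bwd (nat_lit 2) (Steps.fwd (nat_lit 8192) (Steps.bwd (nat_lit 3) (Steps.bwd (nat_lit 1) (Steps.bwd (nat_lit 3) (Steps.fwd (nat_lit 8192) Steps.nil)))))))))))) (nat_lit 195) (nat_lit 11),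
  Rule.mk (nat_lit 19) (nat_lit 179) (Steps.fwd (nat_lit 16384) (Steps.bwd (nat_lit 4) (Steps.bwd (nat_lit 1) (Steps.fwd (nat_lit 24576) (Steps.bwd (nat_lit 1) (Steps.fwd (nat_lit 24576) (Steps.fwd (nat_lit 8192) (Steps.bwd (nat_lit 3) (Steps.fwd (nat_lit 8192) (Steps.bwd (nat_lit 3) (Steps.fwd (nat_lit 8192) Steps.nil))))))))))) (nat_lit 195) (nat_lit 0),
  Rule.mk (nat_lit 19) (nat_lit 179) (Steps.bwd (nat_lit 3) (Steps.fwd (nat_lit 32768) (Steps.bwd (nat_lit 1) (Steps.fwd (nat_lit 24576) (Steps.fwd (nat_lit 8192) (Steps.bwd (nat_lit 2) (Steps.fwd (nat_lit 8192) (Steps.bwd (nat_lit 3) (Steps.fwd (nat_lit 8192) (Steps.fwd (nat_lit 16384) (Steps.bwd (nat_lit 1) Steps.nil))))))))))) (nat_lit 195) (nat_lit 0),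
  Rule.mk (nat_lit 2) (nat_lit 164) (Steps.bwd (nat_lit 11) (Steps.fwd (nat_lit 16384) (Steps.fwd (nat_lit 32768) (Steps.fwd (nat_lit 40960) (Steps.bwd (nat_lit 8) (Steps.fwd (nat_lit 73728) (Steps.bwd (nat_lit 10) (Steps.bwd (nat_lit 11) (Steps.bwd (nat_lit 12) (Steps.bwd (nat_lit 14) Steps.nil)))))))))) (nat_lit 182) (nat_lit 1),
  Rule.mk (nat_lit 16) (nat_lit 179) (Steps.fwd (nat_lit 8192) (Steps.fwd (nat_lit 16384) (Steps.bwd (nat_lit 1) (Steps.fwd (nat_lit 16384) (Steps.fwd (nat_lit 8192) (Steps.bwd (nat_lit 3) (Steps.fwd (nat_lit 8192) (Steps.bwd (nat_lit 2) (Steps.fwd (nat_lit 32768) (Steps.fwd (nat_lit 8192) (Steps.fwd (nat_lit 24576) Steps.nil))))))))))) (nat_lit 190) (nat_lit 1),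
  Rule.mk (nat_lit 1) (nat_lit 539) (Steps.fwd (nat_lit 24576) (Steps.bwd (nat_lit 1) (Steps.fwd (nat_lit 16384) (Steps.fwd (nat_lit 8192) (Steps.bwd (nat_lit 2) (Steps.fwd (nat_lit 8192) (Steps.bwd (nat_lit 3) (Steps.bwd (nat_lit 1) (Steps.bwd (nat_lit 3) (Steps.fwd (nat_lit 8192) (Steps.fwd (nat_lit 24576) (Steps.fwd (nat_lit 8192) (Steps.bwd (nat_lit 3) (Steps.bwd (nat_lit 1) (Steps.fwd (nat_lit 16384) (Steps.fwd (nat_lit 8192) (Steps.bwd (nat_lit 2) (Steps.fwd (nat_lit 8192) (Steps.fwd (nat_lit 16384) (Steps.bwd (nat_lit 1) (Steps.fwd (nat_lit 16384) (Steps.bwd (nat_lit 1) (Steps.fwd (nat_lit 24576) (Steps.bwd (nat_lit 1) (Steps.bwd (nat_lit 2) (Steps.fwd (nat_lit 8192) (Steps.fwd (nat_lit 16384) (Steps.bwd (nat_lit 1) (Steps.fwd (nat_lit 24576) (Steps.bwd (nat_lit 1) (Steps.bwd (nat_lit 2) (Steps.fwd (nat_lit 8192) (Steps.bwd (nat_lit 3) (Steps.fwd (nat_lit 8192) (Steps.bwd (nat_lit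 2) Steps.nil))))))))))))))))))))))))))))))))))) (nat_lit 12) (nat_lit 15),
  Rule.mk (nat_lit 18) (nat_lit 179) (Steps.fwd (nat_lit 8192) (Steps.fwd (nat_lit 16384) (Steps.bwd (nat_lit 4) (Steps.bwd (nat_lit 1) (Steps.bwd (nat_lit 2) (Steps.fwd (nat_lit 8192) (Steps.fwd (nat_lit 24576) (Steps.bwd (nat_lit 1) (Steps.fwd (nat_lit 16384) (Steps.bwd (nat_lit 1) (Steps.bwd (nat_lit 3) Steps.nil))))))))))) (nat_lit 192) (nat_lit 1),
  Rule.mk (nat_lit 17) (nat_lit 179) (Steps.bwd (nat_lit 2) (Steps.bwd (nat_lit 1) (Steps.bwd (nat_lit 2) (Steps.bwd (nat_lit 1) (Steps.bwd (nat_lit 3) (Steps.bwd (nat_lit 1) (Steps.fwd (nat_lit 16384) (Steps.bwd (nat_lit 1) (Steps.fwd (nat_lit 32768) (Steps.fwd (nat_lit 24576) (Steps.bwd (nat_lit 1) Steps.nil))))))))))) (nat_lit 193) (nat_lit 0),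
  Rule.mk (nat_lit 17) (nat_lit 179) (Steps.bwd (nat_lit 2) (Steps.fwd (nat_lit 8192) (Steps.fwd (nat_lit 24576) (Steps.bwd (nat_lit 1) (Steps.fwd (nat_lit 16384) (Steps.bwd (nat_lit 1) (Steps.bwd (nat_lit 3) (Steps.bwd (nat_lit 1) (Steps.fwd (nat_lit 32768) (Steps.bwd (nat_lit 2) (Steps.bwd (nat_lit 1) Steps.nil))))))))))) (nat_lit 193) (nat_lit 0),
  Rule.mk (nat_lit 17) (nat_lit 179) (Steps.fwd (nat_lit 24576) (Steps.fwd (nat_lit 8192) (Steps.bwd (nat_lit 2) (Steps.bwd (nat_lit 1) (Steps.bwd (nat_lit 3) (Steps.bwd (nat_lit 1) (Steps.bwd (nat_lit 3) (Steps.bwd (nat_lit 1) (Steps.bwd (nat_lit 4) (Steps.fwd (nat_lit 24576) (Steps.fwd (nat_lit 8192) Steps.nil))))))))))) (nat_lit 193) (nat_lit 0),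
  Rule.mk (nat_lit 17) (nat_lit 179) (Steps.bwd (nat_lit 2) (Steps.bwd (nat_lit 1) (Steps.fwd (nat_lit 24576) (Steps.bwd (nat_lit 1) (Steps.fwd (nat_lit 16384) (Steps.fwd (nat_lit 8192) (Steps.bwd (nat_lit 3) (Steps.bwd (nat_lit 1) (Steps.bwd (nat_lit 4) (Steps.fwd (nat_lit 24576) (Steps.fwd (nat_lit 8192) Steps.nil))))))))))) (nat_lit 193) (nat_lit 0),
  Rule.mk (nat_lit 20) (nat_lit 179) (Steps.bwd (nat_lit 1) (Steps.bwd (nat_lit 2) (Steps.bwd (nat_lit 1) (Steps.bwd (nat_lit 2) (Steps.bwd (nat_lit 1) (Steps.bwd (nat_lit 3) (Steps.bwd (nat_lit 1) (Steps.fwd (nat_lit 16384) (Steps.bwd (nat_lit 1) (Steps.fwd (nat_lit 32768) (Steps.fwd (nat_lit 24576) Steps.nil))))))))))) (nat_lit 194) (nat_lit 1),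
  Rule.mk (nat_lit 0) (nat_lit 194) (Steps.bwd (nat_lit 20) (Steps.bwd (nat_lit 1) (Steps.bwd (nat_lit 2) (Steps.fwd (nat_lit 8192) (Steps.fwd (nat_lit 24576) (Steps.bwd (nat_lit 1) (Steps.fwd (nat_lit 16384) (Steps.bwd (nat_lit 1) (Steps.bwd (nat_lit 3) (Steps.bwd (nat_lit 1) (Steps.fwd (nat_lit 32768) (Steps.bwd (nat_lit 2) Steps.nil)))))))))))) (nat_lit 194) (nat_lit 0),
  Rule.mk (nat_lit 20) (nat_lit 179) (Steps.fwd (nat_lit 8192) (Steps.fwd (nat_lit 24576) (Steps.fwd (nat_lit 8192) (Steps.bwd (nat_lit 2) (Steps.bwd (nat_lit 1) (Steps.bwd (nat_lit 3) (Steps.bwd (nat_lit 1) (Steps.bwd (nat_lit 3) (Steps.bwd (nat_lit 1) (Steps.bwd (nat_lit 4) (Steps.fwd (nat_lit 24576) Steps.nil))))))))))) (nat_lit 194) (nat_lit 1),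
  Rule.mk (nat_lit 0) (nat_lit 194) (Steps.bwd (nat_lit 19) (Steps.bwd (nat_lit 3) (Steps.fwd (nat_lit 32768) (Steps.fwd (nat_lit 8192) (Steps.fwd (nat_lit 24576) (Steps.bwd (nat_lit 1) (Steps.bwd (nat_lit 2) (Steps.fwd (nat_lit 8192) (Steps.bwd (nat_lit 3) (Steps.fwd (nat_lit 8192) (Steps.fwd (nat_lit 16384) (Steps.bwd (nat_lit 1) Steps.nil)))))))))))) (nat_lit 195) (nat_lit 11),
  Rule.mk (nat_lit 19) (nat_lit 179) (Steps.fwd (nat_lit 16384) (Steps.bwd (nat_lit 4) (Steps.bwd (nat_lit 1) (Steps.bwd (nat_lit 2) (Steps.bwd (nat_lit 1) (Steps.bwd (nat_lit 2) (Steps.bwd (nat_lit 1) (Steps.bwd (nat_lit 3) (Steps.bwd (nat_lit 1) (Steps.fwd (nat_lit 16384) (Steps.bwd (nat_lit 1) Steps.nil))))))))))) (nat_lit 195) (nat_lit 0),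
  Rule.mk (nat_lit 19) (nat_lit 179) (Steps.fwd (nat_lit 16384) (Steps.bwd (nat_lit 4) (Steps.bwd (nat_lit 1) (Steps.bwd (nat_lit 2) (Steps.fwd (nat_lit 8192) (Steps.fwd (nat_lit 24576) (Steps.bwd (nat_lit 1) (Steps.fwd (nat_lit 16384) (Steps.bwd (nat_lit 1) (Steps.bwd (nat_lit 3) (Steps.bwd (nat_lit 1) Steps.nil))))))))))) (nat_lit 195) (nat_lit 0),
  Rule.mk (nat_lit 0) (nat_lit 194) (Steps.bwd (nat_lit 1) (Steps.fwd (nat_lit 16384) (Steps.fwd (nat_lit 32768) (Steps.fwd (nat_lit 8192) (Steps.fwd (nat_lit 24576) (Steps.bwd (nat_lit 1) (Steps.bwd (nat_lit 2) (Steps.bwd (nat_lit 1) (Steps.fwd (nat_lit 16384) (Steps.bwd (nat_lit 1) (Steps.bwd (nat_lit 3) (Steps.fwd (nat_lit 139264) Steps.nil)))))))))))) (nat_lit 192) (nat_lit 1),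
  Rule.mk (nat_lit 17) (nat_lit 179) (Steps.bwd (nat_lit 2) (Steps.bwd (nat_lit 1) (Steps.fwd (nat_lit 24576) (Steps.fwd (nat_lit 8192) (Steps.fwd (nat_lit 16384) (Steps.fwd (nat_lit 8192) (Steps.fwd (nat_lit 16384) (Steps.fwd (nat_lit 8192) (Steps.fwd (nat_lit 32768) (Steps.bwd (nat_lit 2) (Steps.fwd (nat_lit 8192) Steps.nil))))))))))) (nat_lit 193) (nat_lit 0),
  Rule.mk (nat_lit 0) (nat_lit 194) (Steps.fwd (nat_lit 16384) (Steps.fwd (nat_lit 32768) (Steps.fwd (nat_lit 8192) (Steps.fwd (nat_lit 24576) (Steps.bwd (nat_lit 1) (Steps.bwd (nat_lit 2) (Steps.bwd (nat_lit 1) (Steps.fwd (nat_lit 16384) (Steps.bwd (nat_lit 1) (Steps.bwd (nat_lit 3) (Steps.fwd (nat_lit 8192) (Steps.fwd (nat_lit 163840) Steps.nil)))))))))))) (nat_lit 195) (nat_lit 0),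
  Rule.mk (nat_lit 1) (nat_lit 104) (Steps.bwd (nat_lit 13) (Steps.fwd (nat_lit 8192) (Steps.fwd (nat_lit 73728) (Steps.fwd (nat_lit 65536) (Steps.fwd (nat_lit 40960) (Steps.bwd (nat_lit 4) Steps.nil)))))) (nat_lit 165) (nat_lit 5),
  Rule.mk (nat_lit 17) (nat_lit 179) (Steps.fwd (nat_lit 24576) (Steps.fwd (nat_lit 8192) (Steps.fwd (nat_lit 24576) (Steps.bwd (nat_lit 1) (Steps.bwd (nat_lit 3) (Steps.bwd (nat_lit 1) (Steps.bwd (nat_lit 3) (Steps.bwd (nat_lit 1) (Steps.fwd (nat_lit 32768) (Steps.bwd (nat_lit 2) (Steps.bwd (nat_lit 1) Steps.nil))))))))))) (nat_lit 193) (nat_lit 0),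
  Rule.mk (nat_lit 20) (nat_lit 179) (Steps.fwd (nat_lit 8192) (Steps.fwd (nat_lit 24576) (Steps.fwd (nat_lit 8192) (Steps.fwd (nat_lit 24576) (Steps.bwd (nat_lit 1) (Steps.bwd (nat_lit 3) (Steps.bwd (nat_lit 1) (Steps.bwd (nat_lit 3) (Steps.bwd (nat_lit 1) (Steps.fwd (nat_lit 32768) (Steps.bwd (nat_lit 2) Steps.nil))))))))))) (nat_lit 194) (nat_lit 1),
  Rule.mk (nat_lit 2) (nat_lit 179) (Steps.bwd (nat_lit 20) (Steps.fwd (nat_lit 8192) (Steps.fwd (nat_lit 24576) (Steps.bwd (nat_lit 1) (Steps.bwd (nat_lit 2) (Steps.bwd (nat_lit 1) (Steps.bwd (nat_lit 3) (Steps.bwd (nat_lit 1) (Steps.bwd (nat_lit 3) (Steps.fwd (nat_lit 8192) (Steps.fwd (nat_lit 32768) Steps.nil))))))))))) (nat_lit 194) (nat_lit 0),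
  Rule.mk (nat_lit 7) (nat_lit 104) (Steps.fwd (nat_lit 16384) (Steps.bwd (nat_lit 5) (Steps.fwd (nat_lit 57344) (Steps.bwd (nat_lit 13) (Steps.fwd (nat_lit 114688) (Steps.bwd (nat_lit 2) Steps.nil)))))) (nat_lit 174) (nat_lit 2),
  Rule.mk (nat_lit 6) (nat_lit 164) (Steps.fwd (nat_lit 16384) (Steps.bwd (nat_lit 5) (Steps.bwd (nat_lit 6) (Steps.fwd (nat_lit 73728) (Steps.bwd (nat_lit 10) (Steps.fwd (nat_lit 90112) (Steps.fwd (nat_lit 98304) (Steps.bwd (nat_lit 13) (Steps.fwd (nat_lit 114688) (Steps.bwd (nat_lit 2) Steps.nil)))))))))) (nat_lit 172) (nat_lit 2),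
  Rule.mk (nat_lit 11) (nat_lit 164) (Steps.fwd (nat_lit 16384) (Steps.bwd (nat_lit 14) (Steps.bwd (nat_lit 12) (Steps.fwd (nat_lit 90112) (Steps.bwd (nat_lit 10) (Steps.fwd (nat_lit 73728) (Steps.bwd (nat_lit 8) (Steps.fwd (nat_lit 40960) (Steps.fwd (nat_lit 32768) (Steps.bwd (nat_lit 2) Steps.nil)))))))))) (nat_lit 183) (nat_lit 10)]
noncomputable def R_70 : List (Rule) := [Rule.mk (nat_lit 16) (nat_lit 179) (Steps.fwd (nat_lit 8192) (Steps.bwd (nat_lit 3) (Steps.fwd (nat_lit 8192) (Steps.bwd (nat_lit 3) (Steps.bwd (nat_lit 1) (Steps.fwd (nat_lit 16384) (Steps.bwd (nat_lit 1) (Steps.bwd (nat_lit 2) (Steps.bwd (nat_lit 4) (Steps.bwd (nat_lit 1) (Steps.bwd (nat_lit 2) Steps.nil))))))))))) (nat_lit 190) (nat_lit 1),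
  Rule.mk (nat_lit 0) (nat_lit 194) (Steps.bwd (nat_lit 16) (Steps.fwd (nat_lit 8192) (Steps.fwd (nat_lit 16384) (Steps.fwd (nat_lit 8192) (Steps.bwd (nat_lit 3) (Steps.bwd (nat_lit 1) (Steps.fwd (nat_lit 16384) (Steps.bwd (nat_lit 1) (Steps.bwd (nat_lit 2) (Steps.bwd (nat_lit 4) (Steps.fwd (nat_lit 8192) (Steps.fwd (nat_lit 24576) Steps.nil)))))))))))) (nat_lit 190) (nat_lit 0),
  Rule.mk (nat_lit 3) (nat_lit 179) (Steps.bwd (nat_lit 4) (Steps.fwd (nat_lit 8192) (Steps.fwd (nat_lit 24576) (Steps.fwd (nat_lit 8192) (Steps.fwd (nat_lit 24576) (Steps.bwd (nat_lit 1) (Steps.fwd (nat_lit 16384) (Steps.fwd (nat_lit 8192) (Steps.bwd (nat_lit 3) (Steps.bwd (nat_lit 1) (Steps.fwd (nat_lit 163840) Steps.nil))))))))))) (nat_lit 195) (nat_lit 1),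
  Rule.mk (nat_lit 6) (nat_lit 104) (Steps.bwd (nat_lit 11) (Steps.fwd (nat_lit 98304) (Steps.bwd (nat_lit 14) (Steps.fwd (nat_lit 24576) (Steps.fwd (nat_lit 81920) (Steps.bwd (nat_lit 3) Steps.nil)))))) (nat_lit 180) (nat_lit 4),
  Rule.mk (nat_lit 5) (nat_lit 164) (Steps.fwd (nat_lit 49152) (Steps.bwd (nat_lit 9) (Steps.fwd (nat_lit 81920) (Steps.fwd (nat_lit 90112) (Steps.fwd (nat_lit 98304) (Steps.fwd (nat_lit 106496) (Steps.bwd (nat_lit 14) (Steps.bwd (nat_lit 2) (Steps.fwd (nat_lit 49152) (Steps.bwd (nat_lit 3) Steps.nil)))))))))) (nat_lit 172) (nat_lit 4),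
  Rule.mk (nat_lit 18) (nat_lit 179) (Steps.bwd (nat_lit 1) (Steps.fwd (nat_lit 16384) (Steps.bwd (nat_lit 4) (Steps.fwd (nat_lit 8192) (Steps.bwd (nat_lit 2) (Steps.fwd (nat_lit 8192) (Steps.bwd (nat_lit 2) (Steps.bwd (nat_lit 1) (Steps.fwd (nat_lit 16384) (Steps.bwd (nat_lit 1) (Steps.bwd (nat_lit 3) Steps.nil))))))))))) (nat_lit 192) (nat_lit 1),
  Rule.mk (nat_lit 1) (nat_lit 179) (Steps.bwd (nat_lit 17) (Steps.fwd (nat_lit 24576) (Steps.bwd (nat_lit 1) (Steps.bwd (nat_lit 2) (Steps.bwd (nat_lit 1) (Steps.fwd (nat_lit 16384) (Steps.bwd (nat_lit 1) (Steps.fwd (nat_lit 16384) (Steps.fwd (nat_lit 8192) (Steps.bwd (nat_lit 4) (Steps.bwd (nat_lit 2) Steps.nil))))))))))) (nat_lit 193) (nat_lit 11),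
  Rule.mk (nat_lit 14) (nat_lit 104) (Steps.fwd (nat_lit 106496) (Steps.bwd (nat_lit 7) (Steps.fwd (nat_lit 40960) (Steps.bwd (nat_lit 1) (Steps.fwd (nat_lit 65536) (Steps.bwd (nat_lit 1) Steps.nil)))))) (nat_lit 155) (nat_lit 1),
  Rule.mk (nat_lit 11) (nat_lit 104) (Steps.bwd (nat_lit 1) (Steps.fwd (nat_lit 114688) (Steps.bwd (nat_lit 12) (Steps.fwd (nat_lit 90112) (Steps.bwd (nat_lit 6) (Steps.bwd (nat_lit 1) Steps.nil)))))) (nat_lit 161) (nat_lit 6),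
  Rule.mk (nat_lit 15) (nat_lit 179) (Steps.fwd (nat_lit 16384) (Steps.bwd (nat_lit 1) (Steps.fwd (nat_lit 32768) (Steps.bwd (nat_lit 3) (Steps.bwd (nat_lit 1) (Steps.fwd (nat_lit 24576) (Steps.bwd (nat_lit 1) (Steps.bwd (nat_lit 2) (Steps.bwd (nat_lit 1) (Steps.bwd (nat_lit 2) (Steps.bwd (nat_lit 1) Steps.nil))))))))))) (nat_lit 191) (nat_lit 0),
  Rule.mk (nat_lit 19) (nat_lit 179) (Steps.fwd (nat_lit 16384) (Steps.fwd (nat_lit 32768) (Steps.fwd (nat_lit 8192) (Steps.bwd (nat_lit 2) (Steps.fwd (nat_lit 8192) (Steps.fwd (nat_lit 24576) (Steps.fwd (nat_lit 8192) (Steps.bwd (nat_lit 3) (Steps.fwd (nat_lit 8192) (Steps.fwd (nat_lit 16384) (Steps.bwd (nat_lit 1) Steps.nil))))))))))) (nat_lit 195) (nat_lit 0),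
  Rule.mk (nat_lit 3) (nat_lit 104) (Steps.fwd (nat_lit 32768) (Steps.fwd (nat_lit 40960) (Steps.bwd (nat_lit 8) (Steps.fwd (nat_lit 73728) (Steps.fwd (nat_lit 24576) (Steps.bwd (nat_lit 12) Steps.nil)))))) (nat_lit 184) (nat_lit 3),
  Rule.mk (nat_lit 16) (nat_lit 179) (Steps.fwd (nat_lit 8192) (Steps.bwd (nat_lit 3) (Steps.fwd (nat_lit 8192) (Steps.fwd (nat_lit 16384) (Steps.bwd (nat_lit 1) (Steps.bwd (nat_lit 3) (Steps.bwd (nat_lit 1) (Steps.fwd (nat_lit 24576) (Steps.bwd (nat_lit 4) (Steps.fwd (nat_lit 8192) (Steps.fwd (nat_lit 24576) Steps.nil))))))))))) (nat_lit 190) (nat_lit 1),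
  Rule.mk (nat_lit 0) (nat_lit 194) (Steps.fwd (nat_lit 16384) (Steps.fwd (nat_lit 8192) (Steps.bwd (nat_lit 4) (Steps.fwd (nat_lit 16384) (Steps.fwd (nat_lit 8192) (Steps.bwd (nat_lit 2) (Steps.fwd (nat_lit 8192) (Steps.fwd (nat_lit 24576) (Steps.fwd (nat_lit 8192) (Steps.bwd (nat_lit 2) (Steps.bwd (nat_lit 1) (Steps.fwd (nat_lit 131072) Steps.nil)))))))))))) (nat_lit 191) (nat_lit 0),
  Rule.mk (nat_lit 17) (nat_lit 179) (Steps.bwd (nat_lit 2) (Steps.bwd (nat_lit 1) (Steps.bwd (nat_lit 2) (Steps.fwd (nat_lit 8192) (Steps.fwd (nat_lit 16384) (Steps.bwd (nat_lit 1) (Steps.bwd (nat_lit 3) (Steps.bwd (nat_lit 1) (Steps.fwd (nat_lit 32768) (Steps.fwd (nat_lit 24576) (Steps.fwd (nat_lit 8192) Steps.nil))))))))))) (nat_lit 193) (nat_lit 0),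
  Rule.mk (nat_lit 0) (nat_lit 194) (Steps.bwd (nat_lit 17) (Steps.bwd (nat_lit 2) (Steps.bwd (nat_lit 1) (Steps.bwd (nat_lit 2) (Steps.bwd (nat_lit 1) (Steps.bwd (nat_lit 3) (Steps.bwd (nat_lit 1) (Steps.fwd (nat_lit 16384) (Steps.bwd (nat_lit 1) (Steps.bwd (nat_lit 4) (Steps.fwd (nat_lit 24576) (Steps.bwd (nat_lit 1) Steps.nil)))))))))))) (nat_lit 193) (nat_lit 11),
  Rule.mk (nat_lit 20) (nat_lit 179) (Steps.fwd (nat_lit 8192) (Steps.bwd (nat_lit 2) (Steps.bwd (nat_lit 1) (Steps.bwd (nat_lit 2) (Steps.fwd (nat_lit 8192) (Steps.fwd (nat_lit 16384) (Steps.bwd (nat_lit 1) (Steps.bwd (nat_lit 3) (Steps.bwd (nat_lit 1) (Steps.fwd (nat_lit 32768) (Steps.fwd (nat_lit 24576) Steps.nil))))))))))) (nat_lit 194) (nat_lit 1),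
  Rule.mk (nat_lit 10) (nat_lit 104) (Steps.bwd (nat_lit 3) (Steps.bwd (nat_lit 6) (Steps.bwd (nat_lit 11) (Steps.fwd (nat_lit 98304) (Steps.fwd (nat_lit 114688) (Steps.bwd (nat_lit 2) Steps.nil)))))) (nat_lit 180) (nat_lit 2),
  Rule.mk (nat_lit 14) (nat_lit 119) (Steps.bwd (nat_lit 3) (Steps.bwd (nat_lit 5) (Steps.fwd (nat_lit 49152) (Steps.bwd (nat_lit 7) (Steps.fwd (nat_lit 98304) (Steps.fwd (nat_lit 114688) (Steps.bwd (nat_lit 2) Steps.nil))))))) (nat_lit 188) (nat_lit 2),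
  Rule.mk (nat_lit 9) (nat_lit 134) (Steps.bwd (nat_lit 3) (Steps.bwd (nat_lit 4) (Steps.bwd (nat_lit 5) (Steps.bwd (nat_lit 8) (Steps.bwd (nat_lit 9) (Steps.bwd (nat_lit 11) (Steps.fwd (nat_lit 114688) (Steps.bwd (nat_lit 2) Steps.nil)))))))) (nat_lit 178) (nat_lit 2),
  Rule.mk (nat_lit 5) (nat_lit 149) (Steps.bwd (nat_lit 3) (Steps.bwd (nat_lit 4) (Steps.bwd (nat_lit 5) (Steps.bwd (nat_lit 8) (Steps.bwd (nat_lit 9) (Steps.fwd (nat_lit 98304) (Steps.bwd (nat_lit 13) (Steps.bwd (nat_lit 14) (Steps.bwd (nat_lit 2) Steps.nil))))))))) (nat_lit 170) (nat_lit 2),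
  Rule.mk (nat_lit 11) (nat_lit 164) (Steps.bwd (nat_lit 3) (Steps.bwd (nat_lit 14) (Steps.bwd (nat_lit 12) (Steps.bwd (nat_lit 11) (Steps.bwd (nat_lit 10) (Steps.fwd (nat_lit 73728) (Steps.bwd (nat_lit 8) (Steps.bwd (nat_lit 5) (Steps.fwd (nat_lit 32768) (Steps.fwd (nat_lit 24576) Steps.nil)))))))))) (nat_lit 183) (nat_lit 10),
  Rule.mk (nat_lit 15) (nat_lit 179) (Steps.bwd (nat_lit 3) (Steps.fwd (nat_lit 8192) (Steps.fwd (nat_lit 32768) (Steps.fwd (nat_lit 16384) (Steps.fwd (nat_lit 8192) (Steps.fwd (nat_lit 24576) (Steps.fwd (nat_lit 8192) (Steps.bwd (nat_lit 2) (Steps.fwd (nat_lit 8192) (Steps.bwd (nat_lit 2) (Steps.fwd (nat_lit 8192) Steps.nil))))))))))) (nat_lit 191) (nat_lit 0),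
  Rule.mk (nat_lit 1) (nat_lit 539) (Steps.bwd (nat_lit 3) (Steps.fwd (nat_lit 8192) (Steps.bwd (nat_lit 3) (Steps.bwd (nat_lit 1) (Steps.bwd (nat_lit 2) (Steps.bwd (nat_lit 1) (Steps.bwd (nat_lit 2) (Steps.bwd (nat_lit 1) (Steps.bwd (nat_lit 3) (Steps.bwd (nat_lit 1) (Steps.fwd (nat_lit 24576) (Steps.bwd (nat_lit 1) (Steps.bwd (nat_lit 2) (Steps.bwd (nat_lit 1) (Steps.bwd (nat_lit 3) (Steps.fwd (nat_lit 8192) (Steps.fwd (nat_lit 24576) (Steps.fwd (nat_lit 8192) (Steps.bwd (nat_lit 2) (Steps.fwd (nat_lit 8192) (Steps.bwd (nat_lit 3) (Steps.fwd (nat_lit 8192) (Steps.fwd (nat_lit 24576) (Steps.bwd (nat_lit 1) (Steps.bwd (nat_lit 3) (Steps.fwd (nat_lit 8192) (Steps.fwd (nat_lit 16384) (Steps.fwd (nat_lit 8192) (Steps.fwd (nat_lit 24576) (Steps.bwd (nat_lit 1) (Steps.fwd (nat_lit 16384) (Steps.fwd (nat_lit 8192) (Steps.bwd (nat_lit 3) (Steps.fwd (nat_lit 8192) (Steps.fwd (nat_lit 24576) Steps.nil)))))))))))))))))))))))))))))))))))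 (nat_lit 12) (nat_lit 33),
  Rule.mk (nat_lit 16) (nat_lit 179) (Steps.bwd (nat_lit 1) (Steps.bwd (nat_lit 3) (Steps.fwd (nat_lit 8192) (Steps.bwd (nat_lit 3) (Steps.bwd (nat_lit 1) (Steps.bwd (nat_lit 3) (Steps.bwd (nat_lit 1) (Steps.fwd (nat_lit 24576) (Steps.bwd (nat_lit 4) (Steps.fwd (nat_lit 8192) (Steps.bwd (nat_lit 2) Steps.nil))))))))))) (nat_lit 190) (nat_lit 1),
  Rule.mk (nat_lit 15) (nat_lit 179) (Steps.bwd (nat_lit 3) (Steps.bwd (nat_lit 1) (Steps.fwd (nat_lit 32768) (Steps.bwd (nat_lit 3) (Steps.fwd (nat_lit 8192) (Steps.fwd (nat_lit 24576) (Steps.bwd (nat_lit 1) (Steps.fwd (nat_lit 24576) (Steps.fwd (nat_lit 8192) (Steps.fwd (nat_lit 24576) (Steps.bwd (nat_lit 1) Steps.nil))))))))))) (nat_lit 191) (nat_lit 0),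
  Rule.mk (nat_lit 0) (nat_lit 194) (Steps.bwd (nat_lit 15) (Steps.fwd (nat_lit 16384) (Steps.bwd (nat_lit 1) (Steps.bwd (nat_lit 4) (Steps.bwd (nat_lit 3) (Steps.bwd (nat_lit 1) (Steps.fwd (nat_lit 24576) (Steps.fwd (nat_lit 8192) (Steps.fwd (nat_lit 24576) (Steps.bwd (nat_lit 1) (Steps.fwd (nat_lit 24576) (Steps.fwd (nat_lit 8192) Steps.nil)))))))))))) (nat_lit 191) (nat_lit 11),
  Rule.mk (nat_lit 15) (nat_lit 179) (Steps.fwd (nat_lit 16384) (Steps.fwd (nat_lit 8192) (Steps.fwd (nat_lit 32768) (Steps.bwd (nat_lit 3) (Steps.fwd (nat_lit 8192) (Steps.fwd (nat_lit 24576) (Steps.bwd (nat_lit 1) (Steps.fwd (nat_lit 24576) (Steps.fwd (nat_lit 8192) (Steps.bwd (nat_lit 2) (Steps.bwd (nat_lit 1) Steps.nil))))))))))) (nat_lit 191) (nat_lit 0),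
  Rule.mk (nat_lit 0) (nat_lit 194) (Steps.bwd (nat_lit 17) (Steps.fwd (nat_lit 24576) (Steps.bwd (nat_lit 1) (Steps.fwd (nat_lit 24576) (Steps.fwd (nat_lit 8192) (Steps.bwd (nat_lit 3) (Steps.bwd (nat_lit 1) (Steps.bwd (nat_lit 3) (Steps.fwd (nat_lit 8192) (Steps.fwd (nat_lit 32768) (Steps.fwd (nat_lit 24576) (Steps.fwd (nat_lit 8192) Steps.nil)))))))))))) (nat_lit 193) (nat_lit 11),
  Rule.mk (nat_lit 0) (nat_lit 194) (Steps.bwd (nat_lit 17) (Steps.fwd (nat_lit 24576) (Steps.bwd (nat_lit 1) (Steps.fwd (nat_lit 24576) (Steps.fwd (nat_lit 8192) (Steps.fwd (nat_lit 16384) (Steps.bwd (nat_lit 1) (Steps.bwd (nat_lit 3) (Steps.fwd (nat_lit 8192) (Steps.fwd (nat_lit 32768) (Steps.bwd (nat_lit 2) (Steps.fwd (nat_lit 8192) Steps.nil)))))))))))) (nat_lit 193) (nat_lit 11),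
  Rule.mk (nat_lit 17) (nat_lit 179) (Steps.fwd (nat_lit 24576) (Steps.fwd (nat_lit 8192) (Steps.fwd (nat_lit 24576) (Steps.bwd (nat_lit 1) (Steps.bwd (nat_lit 3) (Steps.fwd (nat_lit 8192) (Steps.bwd (nat_lit 3) (Steps.bwd (nat_lit 1) (Steps.bwd (nat_lit 4) (Steps.fwd (nat_lit 24576) (Steps.fwd (nat_lit 8192) Steps.nil))))))))))) (nat_lit 193) (nat_lit 0),
  Rule.mk (nat_lit 20) (nat_lit 179) (Steps.bwd (nat_lit 1) (Steps.fwd (nat_lit 24576) (Steps.fwd (nat_lit 8192) (Steps.fwd (nat_lit 24576) (Steps.bwd (nat_lit 1) (Steps.bwd (nat_lit 3) (Steps.fwd (nat_lit 8192) (Steps.bwd (nat_lit 3) (Steps.bwd (nat_lit 1) (Steps.bwd (nat_lit 4) (Steps.fwd (nat_lit 24576) Steps.nil))))))))))) (nat_lit 194) (nat_lit 1),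
  Rule.mk (nat_lit 19) (nat_lit 179) (Steps.bwd (nat_lit 3) (Steps.bwd (nat_lit 4) (Steps.bwd (nat_lit 1) (Steps.fwd (nat_lit 24576) (Steps.fwd (nat_lit 8192) (Steps.fwd (nat_lit 24576) (Steps.bwd (nat_lit 1) (Steps.bwd (nat_lit 3) (Steps.fwd (nat_lit 8192) (Steps.bwd (nat_lit 3) (Steps.bwd (nat_lit 1) Steps.nil))))))))))) (nat_lit 195) (nat_lit 0),
  Rule.mk (nat_lit 19) (nat_lit 179) (Steps.fwd (nat_lit 16384) (Steps.bwd (nat_lit 4) (Steps.bwd (nat_lit 1) (Steps.fwd (nat_lit 24576) (Steps.fwd (nat_lit 8192) (Steps.bwd (nat_lit 2) (Steps.bwd (nat_lit 1) (Steps.bwd (nat_lit 3) (Steps.fwd (nat_lit 8192) (Steps.bwd (nat_lit 3) (Steps.fwd (nat_lit 8192) Steps.nil))))))))))) (nat_lit 195) (nat_lit 0),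
  Rule.mk (nat_lit 2) (nat_lit 134) (Steps.bwd (nat_lit 13) (Steps.fwd (nat_lit 16384) (Steps.fwd (nat_lit 49152) (Steps.bwd (nat_lit 10) (Steps.bwd (nat_lit 11) (Steps.fwd (nat_lit 98304) (Steps.fwd (nat_lit 106496) (Steps.fwd (nat_lit 114688) Steps.nil)))))))) (nat_lit 186) (nat_lit 1),
  Rule.mk (nat_lit 16) (nat_lit 179) (Steps.fwd (nat_lit 8192) (Steps.fwd (nat_lit 16384) (Steps.bwd (nat_lit 1) (Steps.bwd (nat_lit 3) (Steps.fwd (nat_lit 8192) (Steps.bwd (nat_lit 3) (Steps.fwd (nat_lit 8192) (Steps.bwd (nat_lit 2) (Steps.bwd (nat_lit 4) (Steps.fwd (nat_lit 8192) (Steps.bwd (nat_lit 2) Steps.nil))))))))))) (nat_lit 190) (nat_lit 1),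
  Rule.mk (nat_lit 15) (nat_lit 179) (Steps.fwd (nat_lit 16384) (Steps.bwd (nat_lit 1) (Steps.bwd (nat_lit 4) (Steps.bwd (nat_lit 3) (Steps.fwd (nat_lit 8192) (Steps.bwd (nat_lit 2) (Steps.fwd (nat_lit 8192) (Steps.bwd (nat_lit 2) (Steps.fwd (nat_lit 8192) (Steps.bwd (nat_lit 2) (Steps.fwd (nat_lit 8192) Steps.nil))))))))))) (nat_lit 191) (nat_lit 0),
  Rule.mk (nat_lit 0) (nat_lit 194) (Steps.fwd (nat_lit 8192) (Steps.fwd (nat_lit 16384) (Steps.bwd (nat_lit 1) (Steps.fwd (nat_lit 16384) (Steps.bwd (nat_lit 1) (Steps.fwd (nat_lit 16384) (Steps.bwd (nat_lit 1) (Steps.fwd (nat_lit 24576) (Steps.fwd (nat_lit 32768) (Steps.bwd (nat_lit 1) (Steps.fwd (nat_lit 24576) (Steps.fwd (nat_lit 122880) Steps.nil)))))))))))) (nat_lit 190) (nat_lit 1),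
  Rule.mk (nat_lit 15) (nat_lit 179) (Steps.fwd (nat_lit 16384) (Steps.fwd (nat_lit 8192) (Steps.bwd (nat_lit 4) (Steps.fwd (nat_lit 16384) (Steps.fwd (nat_lit 8192) (Steps.bwd (nat_lit 2) (Steps.fwd (nat_lit 8192) (Steps.bwd (nat_lit 2) (Steps.bwd (nat_lit 1) (Steps.fwd (nat_lit 24576) (Steps.bwd (nat_lit 1) Steps.nil))))))))))) (nat_lit 191) (nat_lit 0),
  Rule.mk (nat_lit 0) (nat_lit 194) (Steps.bwd (nat_lit 17) (Steps.bwd (nat_lit 2) (Steps.bwd (nat_lit 1) (Steps.bwd (nat_lit 2) (Steps.fwd (nat_lit 8192) (Steps.fwd (nat_lit 16384) (Steps.bwd (nat_lit 1) (Steps.fwd (nat_lit 16384) (Steps.bwd (nat_lit 1) (Steps.fwd (nat_lit 32768) (Steps.bwd (nat_lit 2) (Steps.bwd (nat_lit 1) Steps.nil)))))))))))) (nat_lit 193) (nat_lit 11),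
  Rule.mk (nat_lit 17) (nat_lit 179) (Steps.bwd (nat_lit 2) (Steps.fwd (nat_lit 8192) (Steps.bwd (nat_lit 2) (Steps.bwd (nat_lit 1) (Steps.fwd (nat_lit 16384) (Steps.fwd (nat_lit 8192) (Steps.fwd (nat_lit 16384) (Steps.bwd (nat_lit 1) (Steps.fwd (nat_lit 32768) (Steps.fwd (nat_lit 24576) (Steps.bwd (nat_lit 1) Steps.nil))))))))))) (nat_lit 193) (nat_lit 0),
  Rule.mk (nat_lit 20) (nat_lit 179) (Steps.fwd (nat_lit 8192) (Steps.bwd (nat_lit 2) (Steps.fwd (nat_lit 8192) (Steps.bwd (nat_lit 2) (Steps.bwd (nat_lit 1) (Steps.fwd (nat_lit 16384) (Steps.fwd (nat_lit 8192) (Steps.fwd (nat_lit 16384) (Steps.bwd (nat_lit 1) (Steps.fwd (nat_lit 32768) (Steps.fwd (nat_lit 24576) Steps.nil))))))))))) (nat_lit 194) (nat_lit 1),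
  Rule.mk (nat_lit 19) (nat_lit 179) (Steps.fwd (nat_lit 16384) (Steps.bwd (nat_lit 4) (Steps.fwd (nat_lit 8192) (Steps.bwd (nat_lit 2) (Steps.fwd (nat_lit 8192) (Steps.bwd (nat_lit 2) (Steps.bwd (nat_lit 1) (Steps.fwd (nat_lit 16384) (Steps.fwd (nat_lit 8192) (Steps.fwd (nat_lit 16384) (Steps.bwd (nat_lit 1) Steps.nil))))))))))) (nat_lit 195) (nat_lit 0),
  Rule.mk (nat_lit 16) (nat_lit 179) (Steps.fwd (nat_lit 8192) (Steps.bwd (nat_lit 3) (Steps.fwd (nat_lit 8192) (Steps.bwd (nat_lit 3) (Steps.fwd (nat_lit 8192) (Steps.fwd (nat_lit 16384) (Steps.bwd (nat_lit 1) (Steps.bwd (nat_lit 2) (Steps.bwd (nat_lit 4) (Steps.bwd (nat_lit 1) (Steps.fwd (nat_lit 24576) Steps.nil))))))))))) (nat_lit 190) (nat_lit 1),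
  Rule.mk (nat_lit 17) (nat_lit 179) (Steps.fwd (nat_lit 24576) (Steps.fwd (nat_lit 8192) (Steps.bwd (nat_lit 2) (Steps.fwd (nat_lit 8192) (Steps.bwd (nat_lit 3) (Steps.fwd (nat_lit 8192) (Steps.fwd (nat_lit 16384) (Steps.bwd (nat_lit 1) (Steps.fwd (nat_lit 32768) (Steps.fwd (nat_lit 24576) (Steps.bwd (nat_lit 1) Steps.nil))))))))))) (nat_lit 193) (nat_lit 0),
  Rule.mk (nat_lit 20) (nat_lit 179) (Steps.fwd (nat_lit 8192) (Steps.fwd (nat_lit 24576) (Steps.fwd (nat_lit 8192) (Steps.bwd (nat_lit 2) (Steps.fwd (nat_lit 8192) (Steps.bwd (nat_lit 3) (Steps.fwd (nat_lit 8192) (Steps.fwd (nat_lit 16384) (Steps.bwd (nat_lit 1) (Steps.fwd (nat_lit 32768) (Steps.fwd (nat_lit 24576) Steps.nil))))))))))) (nat_lit 194) (nat_lit 1),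
  Rule.mk (nat_lit 15) (nat_lit 179) (Steps.fwd (nat_lit 16384) (Steps.bwd (nat_lit 1) (Steps.fwd (nat_lit 32768) (Steps.bwd (nat_lit 3) (Steps.fwd (nat_lit 8192) (Steps.bwd (nat_lit 2) (Steps.fwd (nat_lit 8192) (Steps.fwd (nat_lit 24576) (Steps.bwd (nat_lit 1) (Steps.fwd (nat_lit 24576) (Steps.fwd (nat_lit 8192) Steps.nil))))))))))) (nat_lit 191) (nat_lit 0),
  Rule.mk (nat_lit 10) (nat_lit 104) (Steps.bwd (nat_lit 3) (Steps.bwd (nat_lit 6) (Steps.fwd (nat_lit 90112) (Steps.fwd (nat_lit 98304) (Steps.fwd (nat_lit 114688) (Steps.fwd (nat_lit 24576) Steps.nil)))))) (nat_lit 180) (nat_lit 2),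
  Rule.mk (nat_lit 5) (nat_lit 149) (Steps.bwd (nat_lit 3) (Steps.bwd (nat_lit 4) (Steps.bwd (nat_lit 5) (Steps.bwd (nat_lit 8) (Steps.fwd (nat_lit 73728) (Steps.bwd (nat_lit 12) (Steps.bwd (nat_lit 13) (Steps.bwd (nat_lit 14) (Steps.fwd (nat_lit 24576) Steps.nil))))))))) (nat_lit 170) (nat_lit 2),
  Rule.mk (nat_lit 7) (nat_lit 59) (Steps.fwd (nat_lit 40960) (Steps.fwd (nat_lit 57344) (Steps.bwd (nat_lit 5) Steps.nil))) (nat_lit 44) (nat_lit 1),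
  Rule.mk (nat_lit 16) (nat_lit 179) (Steps.bwd (nat_lit 1) (Steps.bwd (nat_lit 3) (Steps.bwd (nat_lit 1) (Steps.bwd (nat_lit 3) (Steps.fwd (nat_lit 8192) (Steps.bwd (nat_lit 3) (Steps.bwd (nat_lit 1) (Steps.bwd (nat_lit 2) (Steps.bwd (nat_lit 4) (Steps.bwd (nat_lit 1) (Steps.bwd (nat_lit 2) Steps.nil))))))))))) (nat_lit 190) (nat_lit 1),
  Rule.mk (nat_lit 15) (nat_lit 179) (Steps.fwd (nat_lit 16384) (Steps.bwd (nat_lit 1) (Steps.fwd (nat_lit 32768) (Steps.bwd (nat_lit 3) (Steps.bwd (nat_lit 1) (Steps.bwd (nat_lit 2) (Steps.fwd (nat_lit 8192) (Steps.fwd (nat_lit 24576) (Steps.fwd (nat_lit 8192) (Steps.fwd (nat_lit 24576) (Steps.fwd (nat_lit 8192) Steps.nil))))))))))) (nat_lit 191) (nat_lit 0),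
  Rule.mk (nat_lit 15) (nat_lit 179) (Steps.bwd (nat_lit 3) (Steps.bwd (nat_lit 1) (Steps.bwd (nat_lit 4) (Steps.fwd (nat_lit 16384) (Steps.fwd (nat_lit 8192) (Steps.bwd (nat_lit 2) (Steps.fwd (nat_lit 8192) (Steps.fwd (nat_lit 24576) (Steps.bwd (nat_lit 1) (Steps.bwd (nat_lit 2) (Steps.fwd (nat_lit 8192) Steps.nil))))))))))) (nat_lit 191) (nat_lit 0),
  Rule.mk (nat_lit 18) (nat_lit 179) (Steps.bwd (nat_lit 1) (Steps.bwd (nat_lit 3) (Steps.bwd (nat_lit 4) (Steps.fwd (nat_lit 8192) (Steps.bwd (nat_lit 2) (Steps.fwd (nat_lit 8192) (Steps.fwd (nat_lit 24576) (Steps.bwd (nat_lit 1) (Steps.fwd (nat_lit 16384) (Steps.bwd (nat_lit 1) (Steps.fwd (nat_lit 16384) Steps.nil))))))))))) (nat_lit 192) (nat_lit 1),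
  Rule.mk (nat_lit 17) (nat_lit 179) (Steps.fwd (nat_lit 24576) (Steps.fwd (nat_lit 8192) (Steps.bwd (nat_lit 2) (Steps.bwd (nat_lit 1) (Steps.bwd (nat_lit 3) (Steps.bwd (nat_lit 1) (Steps.bwd (nat_lit 3) (Steps.fwd (nat_lit 8192) (Steps.fwd (nat_lit 32768) (Steps.fwd (nat_lit 24576) (Steps.bwd (nat_lit 1) Steps.nil))))))))))) (nat_lit 193) (nat_lit 0),
  Rule.mk (nat_lit 20) (nat_lit 179) (Steps.fwd (nat_lit 8192) (Steps.fwd (nat_lit 24576) (Steps.fwd (nat_lit 8192) (Steps.bwd (nat_lit 2) (Steps.bwd (nat_lit 1) (Steps.bwd (nat_lit 3) (Steps.bwd (nat_lit 1) (Steps.bwd (nat_lit 3) (Steps.fwd (nat_lit 8192) (Steps.fwd (nat_lit 32768) (Steps.fwd (nat_lit 24576) Steps.nil))))))))))) (nat_lit 194) (nat_lit 1),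
  Rule.mk (nat_lit 20) (nat_lit 179) (Steps.bwd (nat_lit 1) (Steps.bwd (nat_lit 2) (Steps.fwd (nat_lit 8192) (Steps.fwd (nat_lit 24576) (Steps.fwd (nat_lit 8192) (Steps.fwd (nat_lit 16384) (Steps.fwd (nat_lit 8192) (Steps.fwd (nat_lit 16384) (Steps.bwd (nat_lit 1) (Steps.fwd (nat_lit 32768) (Steps.fwd (nat_lit 24576) Steps.nil))))))))))) (nat_lit 194) (nat_lit 1),
  Rule.mk (nat_lit 2) (nat_lit 164) (Steps.bwd (nat_lit 11) (Steps.fwd (nat_lit 16384) (Steps.bwd (nat_lit 14) (Steps.bwd (nat_lit 12) (Steps.fwd (nat_lit 90112) (Steps.bwd (nat_lit 10) (Steps.fwd (nat_lit 73728) (Steps.fwd (nat_lit 65536) (Steps.fwd (nat_lit 40960) (Steps.fwd (nat_lit 32768) Steps.nil)))))))))) (nat_lit 183) (nat_lit 9),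
  Rule.mk (nat_lit 16) (nat_lit 179) (Steps.bwd (nat_lit 1) (Steps.fwd (nat_lit 16384) (Steps.bwd (nat_lit 1) (Steps.bwd (nat_lit 3) (Steps.fwd (nat_lit 8192) (Steps.bwd (nat_lit 3) (Steps.bwd (nat_lit 1) (Steps.bwd (nat_lit 2) (Steps.fwd (nat_lit 32768) (Steps.bwd (nat_lit 1) (Steps.fwd (nat_lit 24576) Steps.nil))))))))))) (nat_lit 190) (nat_lit 1),
  Rule.mk (nat_lit 18) (nat_lit 179) (Steps.fwd (nat_lit 8192) (Steps.fwd (nat_lit 16384) (Steps.fwd (nat_lit 32768) (Steps.bwd (nat_lit 1) (Steps.fwd (nat_lit 24576) (Steps.bwd (nat_lit 1) (Steps.bwd (nat_lit 2) (Steps.bwd (nat_lit 1) (Steps.fwd (nat_lit 16384) (Steps.fwd (nat_lit 8192) (Steps.bwd (nat_lit 3) Steps.nil))))))))))) (nat_lit 192) (nat_lit 1),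
  Rule.mk (nat_lit 0) (nat_lit 194) (Steps.bwd (nat_lit 17) (Steps.fwd (nat_lit 24576) (Steps.bwd (nat_lit 1) (Steps.bwd (nat_lit 2) (Steps.fwd (nat_lit 8192) (Steps.fwd (nat_lit 16384) (Steps.bwd (nat_lit 1) (Steps.bwd (nat_lit 3) (Steps.fwd (nat_lit 8192) (Steps.bwd (nat_lit 4) (Steps.bwd (nat_lit 2) (Steps.bwd (nat_lit 1) Steps.nil)))))))))))) (nat_lit 193) (nat_lit 11),
  Rule.mk (nat_lit 0) (nat_lit 194) (Steps.bwd (nat_lit 20) (Steps.fwd (nat_lit 8192) (Steps.fwd (nat_lit 24576) (Steps.bwd (nat_lit 1) (Steps.bwd (nat_lit 2) (Steps.fwd (nat_lit 8192) (Steps.fwd (nat_lit 16384) (Steps.bwd (nat_lit 1) (Steps.bwd (nat_lit 3) (Steps.fwd (nat_lit 8192) (Steps.bwd (nat_lit 4) (Steps.bwd (nat_lit 2) Steps.nil)))))))))))) (nat_lit 194) (nat_lit 0),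
  Rule.mk (nat_lit 0) (nat_lit 194) (Steps.bwd (nat_lit 19) (Steps.fwd (nat_lit 16384) (Steps.fwd (nat_lit 32768) (Steps.bwd (nat_lit 1) (Steps.fwd (nat_lit 24576) (Steps.bwd (nat_lit 1) (Steps.bwd (nat_lit 2) (Steps.bwd (nat_lit 1) (Steps.fwd (nat_lit 16384) (Steps.fwd (nat_lit 8192) (Steps.bwd (nat_lit 3) (Steps.bwd (nat_lit 1) Steps.nil)))))))))))) (nat_lit 195) (nat_lit 11),
  Rule.mk (nat_lit 15) (nat_lit 179) (Steps.bwd (nat_lit 3) (Steps.bwd (nat_lit 1) (Steps.fwd (nat_lit 32768) (Steps.bwd (nat_lit 3) (Steps.bwd (nat_lit 1) (Steps.bwd (nat_lit 2) (Steps.fwd (nat_lit 8192) (Steps.fwd (nat_lit 24576) (Steps.fwd (nat_lit 8192) (Steps.bwd (nat_lit 2) (Steps.fwd (nat_lit 8192) Steps.nil))))))))))) (nat_lit 191) (nat_lit 0)]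
noncomputable def R_71 : List (Rule) := [Rule.mk (nat_lit 17) (nat_lit 179) (Steps.bwd (nat_lit 2) (Steps.bwd (nat_lit 1) (Steps.bwd (nat_lit 2) (Steps.bwd (nat_lit 1) (Steps.fwd (nat_lit 16384) (Steps.fwd (nat_lit 8192) (Steps.fwd (nat_lit 16384) (Steps.fwd (nat_lit 8192) (Steps.fwd (nat_lit 32768) (Steps.fwd (nat_lit 24576) (Steps.bwd (nat_lit 1) Steps.nil))))))))))) (nat_lit 193) (nat_lit 0),
  Rule.mk (nat_lit 1) (nat_lit 179) (Steps.bwd (nat_lit 17) (Steps.bwd (nat_lit 2) (Steps.fwd (nat_lit 8192) (Steps.bwd (nat_lit 2) (Steps.bwd (nat_lit 1) (Steps.bwd (nat_lit 3) (Steps.fwd (nat_lit 8192) (Steps.fwd (nat_lit 16384) (Steps.bwd (nat_lit 1) (Steps.bwd (nat_lit 4) (Steps.bwd (nat_lit 2) Steps.nil))))))))))) (nat_lit 193) (nat_lit 11),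
  Rule.mk (nat_lit 9) (nat_lit 89) (Steps.bwd (nat_lit 1) (Steps.bwd (nat_lit 14) (Steps.fwd (nat_lit 57344) (Steps.bwd (nat_lit 4) (Steps.bwd (nat_lit 1) Steps.nil))))) (nat_lit 157) (nat_lit 5),
  Rule.mk (nat_lit 14) (nat_lit 134) (Steps.fwd (nat_lit 90112) (Steps.bwd (nat_lit 9) (Steps.fwd (nat_lit 65536) (Steps.bwd (nat_lit 5) (Steps.bwd (nat_lit 4) (Steps.fwd (nat_lit 8192) (Steps.bwd (nat_lit 10) (Steps.bwd (nat_lit 1) Steps.nil)))))))) (nat_lit 159) (nat_lit 1),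
  Rule.mk (nat_lit 15) (nat_lit 179) (Steps.bwd (nat_lit 3) (Steps.fwd (nat_lit 8192) (Steps.bwd (nat_lit 4) (Steps.bwd (nat_lit 3) (Steps.fwd (nat_lit 8192) (Steps.bwd (nat_lit 2) (Steps.fwd (nat_lit 8192) (Steps.bwd (nat_lit 2) (Steps.fwd (nat_lit 8192) (Steps.bwd (nat_lit 2) (Steps.bwd (nat_lit 1) Steps.nil))))))))))) (nat_lit 191) (nat_lit 0),
  Rule.mk (nat_lit 2) (nat_lit 539) (Steps.bwd (nat_lit 1) (Steps.bwd (nat_lit 3) (Steps.bwd (nat_lit 1) (Steps.fwd (nat_lit 16384) (Steps.fwd (nat_lit 8192) (Steps.bwd (nat_lit 2) (Steps.fwd (nat_lit 8192) (Steps.fwd (nat_lit 16384) (Steps.bwd (nat_lit 1) (Steps.bwd (nat_lit 3) (Steps.fwd (nat_lit 8192) (Steps.bwd (nat_lit 2) (Steps.fwd (nat_lit 8192) (Steps.bwd (nat_lit 2) (Steps.bwd (nat_lit 1) (Steps.fwd (nat_lit 16384) (Steps.fwd (nat_lit 8192) (Steps.fwd (nat_lit 24576) (Steps.fwd (nat_lit 8192) (Steps.fwd (nat_lit 24576) (Steps.fwd (nat_lit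 8192) (Steps.fwd (nat_lit 16384) (Steps.bwd (nat_lit 1) (Steps.bwd (nat_lit 2) (Steps.bwd (nat_lit 1) (Steps.bwd (nat_lit 2) (Steps.bwd (nat_lit 1) (Steps.fwd (nat_lit 16384) (Steps.bwd (nat_lit 1) (Steps.fwd (nat_lit 24576) (Steps.fwd (nat_lit 8192) (Steps.fwd (nat_lit 16384) (Steps.fwd (nat_lit 8192) (Steps.fwd (nat_lit 16384) (Steps.bwd (nat_lit 1) Steps.nil))))))))))))))))))))))))))))))))))) (nat_lit 12) (nat_lit 26),
  Rule.mk (nat_lit 16) (nat_lit 179) (Steps.bwd (nat_lit 1) (Steps.fwd (nat_lit 16384) (Steps.bwd (nat_lit 1) (Steps.bwd (nat_lit 3) (Steps.fwd (nat_lit 8192) (Steps.fwd (nat_lit 16384) (Steps.fwd (nat_lit 8192) (Steps.bwd (nat_lit 2) (Steps.fwd (nat_lit 32768) (Steps.fwd (nat_lit 8192) (Steps.fwd (nat_lit 24576) Steps.nil))))))))))) (nat_lit 190) (nat_lit 1),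
  Rule.mk (nat_lit 0) (nat_lit 194) (Steps.bwd (nat_lit 16) (Steps.bwd (nat_lit 1) (Steps.bwd (nat_lit 3) (Steps.fwd (nat_lit 8192) (Steps.fwd (nat_lit 16384) (Steps.fwd (nat_lit 8192) (Steps.fwd (nat_lit 16384) (Steps.bwd (nat_lit 1) (Steps.bwd (nat_lit 2) (Steps.bwd (nat_lit 4) (Steps.bwd (nat_lit 1) (Steps.bwd (nat_lit 2) Steps.nil)))))))))))) (nat_lit 190) (nat_lit 0),
  Rule.mk (nat_lit 16) (nat_lit 179) (Steps.fwd (nat_lit 8192) (Steps.fwd (nat_lit 16384) (Steps.fwd (nat_lit 8192) (Steps.fwd (nat_lit 16384) (Steps.bwd (nat_lit 1) (Steps.fwd (nat_lit 16384) (Steps.bwd (nat_lit 1) (Steps.bwd (nat_lit 2) (Steps.fwd (nat_lit 32768) (Steps.bwd (nat_lit 1) (Steps.fwd (nat_lit 24576) Steps.nil))))))))))) (nat_lit 190) (nat_lit 1),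
  Rule.mk (nat_lit 15) (nat_lit 179) (Steps.fwd (nat_lit 16384) (Steps.fwd (nat_lit 8192) (Steps.fwd (nat_lit 32768) (Steps.fwd (nat_lit 16384) (Steps.fwd (nat_lit 8192) (Steps.bwd (nat_lit 2) (Steps.bwd (nat_lit 1) (Steps.fwd (nat_lit 24576) (Steps.fwd (nat_lit 8192) (Steps.fwd (nat_lit 24576) (Steps.bwd (nat_lit 1) Steps.nil))))))))))) (nat_lit 191) (nat_lit 0),
  Rule.mk (nat_lit 0) (nat_lit 194) (Steps.bwd (nat_lit 18) (Steps.fwd (nat_lit 8192) (Steps.fwd (nat_lit 16384) (Steps.fwd (nat_lit 32768) (Steps.bwd (nat_lit 1) (Steps.bwd (nat_lit 2) (Steps.fwd (nat_lit 8192) (Steps.fwd (nat_lit 24576) (Steps.fwd (nat_lit 8192) (Steps.fwd (nat_lit 16384) (Steps.fwd (nat_lit 8192) (Steps.fwd (nat_lit 16384) Steps.nil)))))))))))) (nat_lit 192) (nat_lit 0),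
  Rule.mk (nat_lit 0) (nat_lit 194) (Steps.bwd (nat_lit 18) (Steps.bwd (nat_lit 1) (Steps.fwd (nat_lit 16384) (Steps.bwd (nat_lit 4) (Steps.bwd (nat_lit 1) (Steps.bwd (nat_lit 2) (Steps.bwd (nat_lit 1) (Steps.fwd (nat_lit 24576) (Steps.fwd (nat_lit 8192) (Steps.fwd (nat_lit 16384) (Steps.fwd (nat_lit 8192) (Steps.bwd (nat_lit 3) Steps.nil)))))))))))) (nat_lit 192) (nat_lit 0),
  Rule.mk (nat_lit 0) (nat_lit 194) (Steps.fwd (nat_lit 8192) (Steps.bwd (nat_lit 3) (Steps.fwd (nat_lit 32768) (Steps.fwd (nat_lit 8192) (Steps.bwd (nat_lit 2) (Steps.bwd (nat_lit 1) (Steps.bwd (nat_lit 2) (Steps.bwd (nat_lit 1) (Steps.bwd (nat_lit 3) (Steps.bwd (nat_lit 1) (Steps.fwd (nat_lit 16384) (Steps.fwd (nat_lit 139264) Steps.nil)))))))))))) (nat_lit 192) (nat_lit 1),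
  Rule.mk (nat_lit 0) (nat_lit 194) (Steps.bwd (nat_lit 19) (Steps.fwd (nat_lit 16384) (Steps.bwd (nat_lit 4) (Steps.bwd (nat_lit 1) (Steps.bwd (nat_lit 2) (Steps.bwd (nat_lit 1) (Steps.fwd (nat_lit 24576) (Steps.fwd (nat_lit 8192) (Steps.fwd (nat_lit 16384) (Steps.fwd (nat_lit 8192) (Steps.bwd (nat_lit 3) (Steps.fwd (nat_lit 8192) Steps.nil)))))))))))) (nat_lit 195) (nat_lit 11),
  Rule.mk (nat_lit 20) (nat_lit 179) (Steps.bwd (nat_lit 1) (Steps.bwd (nat_lit 2) (Steps.fwd (nat_lit 8192) (Steps.fwd (nat_lit 24576) (Steps.fwd (nat_lit 8192) (Steps.fwd (nat_lit 16384) (Steps.fwd (nat_lit 8192) (Steps.fwd (nat_lit 16384) (Steps.bwd (nat_lit 1) (Steps.bwd (nat_lit 4) (Steps.fwd (nat_lit 24576) Steps.nil))))))))))) (nat_lit 194) (nat_lit 1),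
  Rule.mk (nat_lit 19) (nat_lit 179) (Steps.bwd (nat_lit 3) (Steps.bwd (nat_lit 4) (Steps.bwd (nat_lit 1) (Steps.fwd (nat_lit 24576) (Steps.bwd (nat_lit 1) (Steps.bwd (nat_lit 2) (Steps.bwd (nat_lit 1) (Steps.bwd (nat_lit 3) (Steps.fwd (nat_lit 8192) (Steps.fwd (nat_lit 16384) (Steps.fwd (nat_lit 8192) Steps.nil))))))))))) (nat_lit 195) (nat_lit 0),
  Rule.mk (nat_lit 0) (nat_lit 194) (Steps.bwd (nat_lit 19) (Steps.fwd (nat_lit 16384) (Steps.fwd (nat_lit 32768) (Steps.bwd (nat_lit 1) (Steps.bwd (nat_lit 2) (Steps.fwd (nat_lit 8192) (Steps.fwd (nat_lit 24576) (Steps.fwd (nat_lit 8192) (Steps.fwd (nat_lit 16384) (Steps.fwd (nat_lit 8192) (Steps.fwd (nat_lit 16384) (Steps.bwd (nat_lit 1) Steps.nil)))))))))))) (nat_lit 195) (nat_lit 11),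
  Rule.mk (nat_lit 17) (nat_lit 179) (Steps.bwd (nat_lit 2) (Steps.bwd (nat_lit 1) (Steps.fwd (nat_lit 24576) (Steps.fwd (nat_lit 8192) (Steps.fwd (nat_lit 16384) (Steps.fwd (nat_lit 8192) (Steps.bwd (nat_lit 3) (Steps.fwd (nat_lit 8192) (Steps.fwd (nat_lit 32768) (Steps.fwd (nat_lit 24576) (Steps.fwd (nat_lit 8192) Steps.nil))))))))))) (nat_lit 193) (nat_lit 0),
  Rule.mk (nat_lit 7) (nat_lit 89) (Steps.bwd (nat_lit 14) (Steps.bwd (nat_lit 1) (Steps.bwd (nat_lit 9) (Steps.fwd (nat_lit 8192) (Steps.bwd (nat_lit 4) Steps.nil))))) (nat_lit 156) (nat_lit 5),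
  Rule.mk (nat_lit 10) (nat_lit 134) (Steps.bwd (nat_lit 1) (Steps.fwd (nat_lit 32768) (Steps.bwd (nat_lit 5) (Steps.fwd (nat_lit 65536) (Steps.bwd (nat_lit 9) (Steps.fwd (nat_lit 90112) (Steps.fwd (nat_lit 114688) (Steps.fwd (nat_lit 8192) Steps.nil)))))))) (nat_lit 158) (nat_lit 2),
  Rule.mk (nat_lit 7) (nat_lit 164) (Steps.bwd (nat_lit 1) (Steps.fwd (nat_lit 40960) (Steps.bwd (nat_lit 6) (Steps.fwd (nat_lit 73728) (Steps.bwd (nat_lit 10) (Steps.fwd (nat_lit 90112) (Steps.fwd (nat_lit 98304) (Steps.bwd (nat_lit 13) (Steps.bwd (nat_lit 14) (Steps.bwd (nat_lit 1) Steps.nil)))))))))) (nat_lit 152) (nat_lit 2),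
  Rule.mk (nat_lit 16) (nat_lit 179) (Steps.fwd (nat_lit 8192) (Steps.fwd (nat_lit 16384) (Steps.fwd (nat_lit 8192) (Steps.fwd (nat_lit 16384) (Steps.bwd (nat_lit 1) (Steps.fwd (nat_lit 16384) (Steps.fwd (nat_lit 8192) (Steps.fwd (nat_lit 24576) (Steps.bwd (nat_lit 4) (Steps.fwd (nat_lit 8192) (Steps.bwd (nat_lit 2) Steps.nil))))))))))) (nat_lit 190) (nat_lit 1),
  Rule.mk (nat_lit 0) (nat_lit 194) (Steps.bwd (nat_lit 16) (Steps.fwd (nat_lit 8192) (Steps.fwd (nat_lit 16384) (Steps.bwd (nat_lit 1) (Steps.fwd (nat_lit 16384) (Steps.bwd (nat_lit 1) (Steps.fwd (nat_lit 16384) (Steps.fwd (nat_lit 8192) (Steps.bwd (nat_lit 2) (Steps.bwd (nat_lit 4) (Steps.bwd (nat_lit 1) (Steps.fwd (nat_lit 24576) Steps.nil)))))))))))) (nat_lit 190) (nat_lit 0),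
  Rule.mk (nat_lit 0) (nat_lit 194) (Steps.bwd (nat_lit 15) (Steps.fwd (nat_lit 16384) (Steps.fwd (nat_lit 8192) (Steps.bwd (nat_lit 4) (Steps.fwd (nat_lit 16384) (Steps.fwd (nat_lit 8192) (Steps.fwd (nat_lit 24576) (Steps.fwd (nat_lit 8192) (Steps.bwd (nat_lit 2) (Steps.bwd (nat_lit 1) (Steps.bwd (nat_lit 2) (Steps.fwd (nat_lit 8192) Steps.nil)))))))))))) (nat_lit 191) (nat_lit 11),
  Rule.mk (nat_lit 18) (nat_lit 179) (Steps.fwd (nat_lit 8192) (Steps.bwd (nat_lit 3) (Steps.fwd (nat_lit 32768) (Steps.fwd (nat_lit 8192) (Steps.fwd (nat_lit 24576) (Steps.fwd (nat_lit 8192) (Steps.bwd (nat_lit 2) (Steps.bwd (nat_lit 1) (Steps.bwd (nat_lit 3) (Steps.fwd (nat_lit 8192) (Steps.fwd (nat_lit 16384) Steps.nil))))))))))) (nat_lit 192) (nat_lit 1),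
  Rule.mk (nat_lit 17) (nat_lit 179) (Steps.fwd (nat_lit 24576) (Steps.fwd (nat_lit 8192) (Steps.bwd (nat_lit 2) (Steps.bwd (nat_lit 1) (Steps.bwd (nat_lit 3) (Steps.fwd (nat_lit 8192) (Steps.fwd (nat_lit 16384) (Steps.fwd (nat_lit 8192) (Steps.fwd (nat_lit 32768) (Steps.fwd (nat_lit 24576) (Steps.bwd (nat_lit 1) Steps.nil))))))))))) (nat_lit 193) (nat_lit 0),
  Rule.mk (nat_lit 20) (nat_lit 179) (Steps.fwd (nat_lit 8192) (Steps.fwd (nat_lit 24576) (Steps.fwd (nat_lit 8192) (Steps.bwd (nat_lit 2) (Steps.bwd (nat_lit 1) (Steps.bwd (nat_lit 3) (Steps.fwd (nat_lit 8192) (Steps.fwd (nat_lit 16384) (Steps.fwd (nat_lit 8192) (Steps.fwd (nat_lit 32768) (Steps.fwd (nat_lit 24576) Steps.nil))))))))))) (nat_lit 194) (nat_lit 1),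
  Rule.mk (nat_lit 19) (nat_lit 179) (Steps.bwd (nat_lit 3) (Steps.fwd (nat_lit 32768) (Steps.fwd (nat_lit 8192) (Steps.fwd (nat_lit 24576) (Steps.fwd (nat_lit 8192) (Steps.bwd (nat_lit 2) (Steps.bwd (nat_lit 1) (Steps.bwd (nat_lit 3) (Steps.fwd (nat_lit 8192) (Steps.fwd (nat_lit 16384) (Steps.fwd (nat_lit 8192) Steps.nil))))))))))) (nat_lit 195) (nat_lit 0),
  Rule.mk (nat_lit 1) (nat_lit 104) (Steps.bwd (nat_lit 13) (Steps.fwd (nat_lit 8192) (Steps.bwd (nat_lit 9) (Steps.bwd (nat_lit 8) (Steps.bwd (nat_lit 5) (Steps.bwd (nat_lit 4) Steps.nil)))))) (nat_lit 165) (nat_lit 5),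
  Rule.mk (nat_lit 3) (nat_lit 119) (Steps.bwd (nat_lit 5) (Steps.bwd (nat_lit 6) (Steps.fwd (nat_lit 57344) (Steps.bwd (nat_lit 12) (Steps.fwd (nat_lit 114688) (Steps.fwd (nat_lit 24576) (Steps.bwd (nat_lit 14) Steps.nil))))))) (nat_lit 188) (nat_lit 3),
  Rule.mk (nat_lit 17) (nat_lit 179) (Steps.fwd (nat_lit 24576) (Steps.bwd (nat_lit 1) (Steps.bwd (nat_lit 2) (Steps.fwd (nat_lit 8192) (Steps.fwd (nat_lit 16384) (Steps.bwd (nat_lit 1) (Steps.bwd (nat_lit 3) (Steps.bwd (nat_lit 1) (Steps.bwd (nat_lit 4) (Steps.bwd (nat_lit 2) (Steps.fwd (nat_lit 8192) Steps.nil))))))))))) (nat_lit 193) (nat_lit 0),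
  Rule.mk (nat_lit 1) (nat_lit 179) (Steps.fwd (nat_lit 24576) (Steps.bwd (nat_lit 1) (Steps.bwd (nat_lit 2) (Steps.fwd (nat_lit 8192) (Steps.fwd (nat_lit 16384) (Steps.bwd (nat_lit 1) (Steps.bwd (nat_lit 3) (Steps.bwd (nat_lit 1) (Steps.bwd (nat_lit 4) (Steps.bwd (nat_lit 2) (Steps.fwd (nat_lit 155648) Steps.nil))))))))))) (nat_lit 194) (nat_lit 2),
  Rule.mk (nat_lit 14) (nat_lit 104) (Steps.bwd (nat_lit 1) (Steps.bwd (nat_lit 8) (Steps.fwd (nat_lit 8192) (Steps.bwd (nat_lit 5) (Steps.fwd (nat_lit 57344) (Steps.fwd (nat_lit 106496) Steps.nil)))))) (nat_lit 154) (nat_lit 0),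
  Rule.mk (nat_lit 6) (nat_lit 104) (Steps.bwd (nat_lit 1) (Steps.fwd (nat_lit 90112) (Steps.bwd (nat_lit 1) (Steps.fwd (nat_lit 114688) (Steps.fwd (nat_lit 98304) (Steps.fwd (nat_lit 90112) Steps.nil)))))) (nat_lit 161) (nat_lit 4),
  Rule.mk (nat_lit 2) (nat_lit 179) (Steps.bwd (nat_lit 1) (Steps.fwd (nat_lit 24576) (Steps.bwd (nat_lit 1) (Steps.bwd (nat_lit 3) (Steps.fwd (nat_lit 8192) (Steps.bwd (nat_lit 3) (Steps.fwd (nat_lit 8192) (Steps.fwd (nat_lit 32768) (Steps.fwd (nat_lit 24576) (Steps.fwd (nat_lit 8192) (Steps.fwd (nat_lit 147456) Steps.nil))))))))))) (nat_lit 193) (nat_lit 1),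
  Rule.mk (nat_lit 19) (nat_lit 179) (Steps.fwd (nat_lit 16384) (Steps.bwd (nat_lit 4) (Steps.bwd (nat_lit 1) (Steps.fwd (nat_lit 24576) (Steps.bwd (nat_lit 1) (Steps.bwd (nat_lit 2) (Steps.fwd (nat_lit 8192) (Steps.fwd (nat_lit 16384) (Steps.bwd (nat_lit 1) (Steps.bwd (nat_lit 3) (Steps.bwd (nat_lit 1) Steps.nil))))))))))) (nat_lit 195) (nat_lit 0),
  Rule.mk (nat_lit 11) (nat_lit 104) (Steps.bwd (nat_lit 1) (Steps.fwd (nat_lit 114688) (Steps.bwd (nat_lit 12) (Steps.fwd (nat_lit 90112) (Steps.fwd (nat_lit 49152) (Steps.bwd (nat_lit 1) Steps.nil)))))) (nat_lit 161) (nat_lit 6),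
  Rule.mk (nat_lit 6) (nat_lit 134) (Steps.bwd (nat_lit 1) (Steps.fwd (nat_lit 114688) (Steps.bwd (nat_lit 1) (Steps.bwd (nat_lit 14) (Steps.bwd (nat_lit 13) (Steps.fwd (nat_lit 98304) (Steps.fwd (nat_lit 90112) (Steps.bwd (nat_lit 10) Steps.nil)))))))) (nat_lit 167) (nat_lit 6),
  Rule.mk (nat_lit 7) (nat_lit 164) (Steps.bwd (nat_lit 1) (Steps.fwd (nat_lit 40960) (Steps.fwd (nat_lit 49152) (Steps.bwd (nat_lit 9) (Steps.bwd (nat_lit 10) (Steps.bwd (nat_lit 11) (Steps.fwd (nat_lit 98304) (Steps.bwd (nat_lit 13) (Steps.fwd (nat_lit 114688) (Steps.fwd (nat_lit 8192) Steps.nil)))))))))) (nat_lit 152) (nat_lit 2),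
  Rule.mk (nat_lit 12) (nat_lit 164) (Steps.bwd (nat_lit 1) (Steps.fwd (nat_lit 32768) (Steps.fwd (nat_lit 40960) (Steps.bwd (nat_lit 8) (Steps.bwd (nat_lit 9) (Steps.fwd (nat_lit 81920) (Steps.fwd (nat_lit 90112) (Steps.fwd (nat_lit 98304) (Steps.bwd (nat_lit 14) (Steps.bwd (nat_lit 1) Steps.nil)))))))))) (nat_lit 162) (nat_lit 2),
  Rule.mk (nat_lit 16) (nat_lit 179) (Steps.bwd (nat_lit 1) (Steps.fwd (nat_lit 16384) (Steps.fwd (nat_lit 8192) (Steps.bwd (nat_lit 3) (Steps.bwd (nat_lit 1) (Steps.fwd (nat_lit 16384) (Steps.fwd (nat_lit 8192) (Steps.bwd (nat_lit 2) (Steps.bwd (nat_lit 4) (Steps.bwd (nat_lit 1) (Steps.bwd (nat_lit 2) Steps.nil))))))))))) (nat_lit 190) (nat_lit 1),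
  Rule.mk (nat_lit 3) (nat_lit 104) (Steps.fwd (nat_lit 73728) (Steps.fwd (nat_lit 65536) (Steps.fwd (nat_lit 40960) (Steps.bwd (nat_lit 4) (Steps.fwd (nat_lit 24576) (Steps.bwd (nat_lit 12) Steps.nil)))))) (nat_lit 185) (nat_lit 0),
  Rule.mk (nat_lit 1) (nat_lit 179) (Steps.bwd (nat_lit 15) (Steps.bwd (nat_lit 3) (Steps.fwd (nat_lit 8192) (Steps.bwd (nat_lit 4) (Steps.bwd (nat_lit 3) (Steps.bwd (nat_lit 1) (Steps.bwd (nat_lit 2) (Steps.bwd (nat_lit 1) (Steps.bwd (nat_lit 2) (Steps.fwd (nat_lit 8192) (Steps.bwd (nat_lit 2) Steps.nil))))))))))) (nat_lit 191) (nat_lit 11),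
  Rule.mk (nat_lit 18) (nat_lit 179) (Steps.fwd (nat_lit 8192) (Steps.fwd (nat_lit 16384) (Steps.bwd (nat_lit 4) (Steps.fwd (nat_lit 8192) (Steps.fwd (nat_lit 24576) (Steps.bwd (nat_lit 1) (Steps.bwd (nat_lit 2) (Steps.fwd (nat_lit 8192) (Steps.bwd (nat_lit 3) (Steps.bwd (nat_lit 1) (Steps.bwd (nat_lit 3) Steps.nil))))))))))) (nat_lit 192) (nat_lit 1),
  Rule.mk (nat_lit 13) (nat_lit 104) (Steps.fwd (nat_lit 8192) (Steps.fwd (nat_lit 32768) (Steps.bwd (nat_lit 5) (Steps.bwd (nat_lit 8) (Steps.fwd (nat_lit 73728) (Steps.bwd (nat_lit 1) Steps.nil)))))) (nat_lit 164) (nat_lit 2),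
  Rule.mk (nat_lit 10) (nat_lit 134) (Steps.fwd (nat_lit 8192) (Steps.fwd (nat_lit 32768) (Steps.fwd (nat_lit 40960) (Steps.bwd (nat_lit 8) (Steps.bwd (nat_lit 9) (Steps.bwd (nat_lit 11) (Steps.fwd (nat_lit 114688) (Steps.bwd (nat_lit 1) Steps.nil)))))))) (nat_lit 158) (nat_lit 2),
  Rule.mk (nat_lit 6) (nat_lit 134) (Steps.bwd (nat_lit 10) (Steps.bwd (nat_lit 11) (Steps.bwd (nat_lit 12) (Steps.bwd (nat_lit 13) (Steps.bwd (nat_lit 14) (Steps.bwd (nat_lit 1) (Steps.fwd (nat_lit 114688) (Steps.bwd (nat_lit 1) Steps.nil)))))))) (nat_lit 166) (nat_lit 4),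
  Rule.mk (nat_lit 15) (nat_lit 179) (Steps.fwd (nat_lit 16384) (Steps.bwd (nat_lit 1) (Steps.bwd (nat_lit 4) (Steps.bwd (nat_lit 3) (Steps.fwd (nat_lit 8192) (Steps.fwd (nat_lit 24576) (Steps.fwd (nat_lit 8192) (Steps.bwd (nat_lit 2) (Steps.bwd (nat_lit 1) (Steps.fwd (nat_lit 24576) (Steps.fwd (nat_lit 8192) Steps.nil))))))))))) (nat_lit 191) (nat_lit 0),
  Rule.mk (nat_lit 17) (nat_lit 179) (Steps.bwd (nat_lit 2) (Steps.bwd (nat_lit 1) (Steps.fwd (nat_lit 24576) (Steps.bwd (nat_lit 1) (Steps.fwd (nat_lit 16384) (Steps.fwd (nat_lit 8192) (Steps.fwd (nat_lit 16384) (Steps.bwd (nat_lit 1) (Steps.bwd (nat_lit 4) (Steps.fwd (nat_lit 24576) (Steps.fwd (nat_lit 8192) Steps.nil))))))))))) (nat_lit 193) (nat_lit 0),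
  Rule.mk (nat_lit 3) (nat_lit 839) (Steps.bwd (nat_lit 1) (Steps.bwd (nat_lit 3) (Steps.fwd (nat_lit 8192) (Steps.fwd (nat_lit 24576) (Steps.bwd (nat_lit 1) (Steps.bwd (nat_lit 3) (Steps.fwd (nat_lit 8192) (Steps.bwd (nat_lit 2) (Steps.bwd (nat_lit 1) (Steps.bwd (nat_lit 3) (Steps.fwd (nat_lit 8192) (Steps.fwd (nat_lit 24576) (Steps.fwd (nat_lit 8192) (Steps.bwd (nat_lit 3) (Steps.fwd (nat_lit 8192) (Steps.bwd (nat_lit 3) (Steps.bwd (nat_lit 1) (Steps.bwd (nat_lit 2) (Steps.bwd (nat_lit 1) (Steps.fwd (nat_lit 16384) (Steps.bwd (nat_lit 1) (Steps.fwd (nat_lit 24576) (Steps.bwd (nat_lit 1) (Steps.bwd (nat_lit 3) (Steps.fwd (nat_lit 8192) (Steps.fwd (nat_lit 24576) (Steps.fwd (nat_lit 8192) (Steps.bwd (nat_lit 3) (Steps.fwd (nat_lit 8192) (Steps.bwd (nat_lit 3) (Steps.bwd (nat_lit 1) (Steps.bwd (nat_lit 2) (Steps.fwd (nat_lit 8192) (Steps.fwd (nat_lit 16384) (Steps.fwd (nat_lit 8192) (Steps.bwd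 (nat_lit 2) (Steps.bwd (nat_lit 1) (Steps.fwd (nat_lit 16384) (Steps.fwd (nat_lit 8192) (Steps.bwd (nat_lit 2) (Steps.fwd (nat_lit 8192) (Steps.fwd (nat_lit 16384) (Steps.fwd (nat_lit 8192) (Steps.fwd (nat_lit 16384) (Steps.bwd (nat_lit 1) (Steps.bwd (nat_lit 2) (Steps.fwd (nat_lit 8192) (Steps.bwd (nat_lit 3) (Steps.fwd (nat_lit 8192) (Steps.fwd (nat_lit 24576) (Steps.bwd (nat_lit 1) (Steps.bwd (nat_lit 3) (Steps.fwd (nat_lit 8192) (Steps.bwd (nat_lit 2) (Steps.bwd (nat_lit 1) Steps.nil))))))))))))))))))))))))))))))))))))))))))))))))))))))) (nat_lit 11) (nat_lit 11),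
  Rule.mk (nat_lit 15) (nat_lit 179) (Steps.bwd (nat_lit 3) (Steps.fwd (nat_lit 8192) (Steps.bwd (nat_lit 4) (Steps.bwd (nat_lit 3) (Steps.bwd (nat_lit 1) (Steps.fwd (nat_lit 24576) (Steps.fwd (nat_lit 8192) (Steps.fwd (nat_lit 24576) (Steps.fwd (nat_lit 8192) (Steps.bwd (nat_lit 2) (Steps.bwd (nat_lit 1) Steps.nil))))))))))) (nat_lit 191) (nat_lit 0),
  Rule.mk (nat_lit 18) (nat_lit 179) (Steps.fwd (nat_lit 8192) (Steps.bwd (nat_lit 3) (Steps.fwd (nat_lit 32768) (Steps.bwd (nat_lit 1) (Steps.fwd (nat_lit 24576) (Steps.fwd (nat_lit 8192) (Steps.fwd (nat_lit 24576) (Steps.fwd (nat_lit 8192) (Steps.fwd (nat_lit 16384) (Steps.bwd (nat_lit 1) (Steps.fwd (nat_lit 16384) Steps.nil))))))))))) (nat_lit 192) (nat_lit 1),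
  Rule.mk (nat_lit 1) (nat_lit 179) (Steps.bwd (nat_lit 17) (Steps.fwd (nat_lit 24576) (Steps.fwd (nat_lit 8192) (Steps.fwd (nat_lit 24576) (Steps.fwd (nat_lit 8192) (Steps.fwd (nat_lit 16384) (Steps.bwd (nat_lit 1) (Steps.fwd (nat_lit 16384) (Steps.fwd (nat_lit 8192) (Steps.bwd (nat_lit 4) (Steps.bwd (nat_lit 2) Steps.nil))))))))))) (nat_lit 193) (nat_lit 11),
  Rule.mk (nat_lit 0) (nat_lit 194) (Steps.bwd (nat_lit 20) (Steps.bwd (nat_lit 1) (Steps.fwd (nat_lit 24576) (Steps.fwd (nat_lit 8192) (Steps.fwd (nat_lit 24576) (Steps.fwd (nat_lit 8192) (Steps.fwd (nat_lit 16384) (Steps.bwd (nat_lit 1) (Steps.fwd (nat_lit 16384) (Steps.fwd (nat_lit 8192) (Steps.bwd (nat_lit 4) (Steps.bwd (nat_lit 2) Steps.nil)))))))))))) (nat_lit 194) (nat_lit 0),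
  Rule.mk (nat_lit 20) (nat_lit 179) (Steps.fwd (nat_lit 8192) (Steps.fwd (nat_lit 24576) (Steps.fwd (nat_lit 8192) (Steps.bwd (nat_lit 2) (Steps.bwd (nat_lit 1) (Steps.fwd (nat_lit 16384) (Steps.bwd (nat_lit 1) (Steps.fwd (nat_lit 16384) (Steps.fwd (nat_lit 8192) (Steps.fwd (nat_lit 32768) (Steps.fwd (nat_lit 24576) Steps.nil))))))))))) (nat_lit 194) (nat_lit 1),
  Rule.mk (nat_lit 19) (nat_lit 179) (Steps.bwd (nat_lit 3) (Steps.fwd (nat_lit 32768) (Steps.bwd (nat_lit 1) (Steps.fwd (nat_lit 24576) (Steps.fwd (nat_lit 8192) (Steps.fwd (nat_lit 24576) (Steps.fwd (nat_lit 8192) (Steps.fwd (nat_lit 16384) (Steps.bwd (nat_lit 1) (Steps.fwd (nat_lit 16384) (Steps.fwd (nat_lit 8192) Steps.nil))))))))))) (nat_lit 195) (nat_lit 0),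
  Rule.mk (nat_lit 8) (nat_lit 104) (Steps.fwd (nat_lit 8192) (Steps.bwd (nat_lit 5) (Steps.bwd (nat_lit 7) (Steps.fwd (nat_lit 106496) (Steps.fwd (nat_lit 114688) (Steps.bwd (nat_lit 1) Steps.nil)))))) (nat_lit 154) (nat_lit 2),
  Rule.mk (nat_lit 6) (nat_lit 104) (Steps.bwd (nat_lit 11) (Steps.bwd (nat_lit 12) (Steps.fwd (nat_lit 114688) (Steps.fwd (nat_lit 8192) (Steps.bwd (nat_lit 11) (Steps.bwd (nat_lit 1) Steps.nil)))))) (nat_lit 160) (nat_lit 4),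
  Rule.mk (nat_lit 11) (nat_lit 104) (Steps.bwd (nat_lit 1) (Steps.bwd (nat_lit 6) (Steps.fwd (nat_lit 90112) (Steps.bwd (nat_lit 12) (Steps.fwd (nat_lit 114688) (Steps.bwd (nat_lit 1) Steps.nil)))))) (nat_lit 160) (nat_lit 2),
  Rule.mk (nat_lit 14) (nat_lit 134) (Steps.bwd (nat_lit 11) (Steps.bwd (nat_lit 9) (Steps.bwd (nat_lit 8) (Steps.fwd (nat_lit 40960) (Steps.fwd (nat_lit 32768) (Steps.fwd (nat_lit 8192) (Steps.bwd (nat_lit 10) (Steps.bwd (nat_lit 1) Steps.nil)))))))) (nat_lit 159) (nat_lit 1),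
  Rule.mk (nat_lit 12) (nat_lit 164) (Steps.bwd (nat_lit 1) (Steps.fwd (nat_lit 114688) (Steps.bwd (nat_lit 12) (Steps.fwd (nat_lit 90112) (Steps.bwd (nat_lit 10) (Steps.fwd (nat_lit 73728) (Steps.bwd (nat_lit 8) (Steps.bwd (nat_lit 5) (Steps.fwd (nat_lit 32768) (Steps.bwd (nat_lit 1) Steps.nil)))))))))) (nat_lit 163) (nat_lit 10),
  Rule.mk (nat_lit 0) (nat_lit 194) (Steps.bwd (nat_lit 15) (Steps.bwd (nat_lit 3) (Steps.bwd (nat_lit 1) (Steps.bwd (nat_lit 4) (Steps.fwd (nat_lit 16384) (Steps.fwd (nat_lit 8192) (Steps.bwd (nat_lit 2) (Steps.fwd (nat_lit 8192) (Steps.bwd (nat_lit 2) (Steps.bwd (nat_lit 1) (Steps.fwd (nat_lit 24576) (Steps.bwd (nat_lit 1) Steps.nil)))))))))))) (nat_lit 191) (nat_lit 11),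
  Rule.mk (nat_lit 17) (nat_lit 179) (Steps.bwd (nat_lit 2) (Steps.bwd (nat_lit 1) (Steps.bwd (nat_lit 2) (Steps.fwd (nat_lit 8192) (Steps.fwd (nat_lit 16384) (Steps.bwd (nat_lit 1) (Steps.fwd (nat_lit 16384) (Steps.bwd (nat_lit 1) (Steps.fwd (nat_lit 32768) (Steps.bwd (nat_lit 2) (Steps.fwd (nat_lit 8192) Steps.nil))))))))))) (nat_lit 193) (nat_lit 0),
  Rule.mk (nat_lit 1) (nat_lit 179) (Steps.bwd (nat_lit 2) (Steps.fwd (nat_lit 8192) (Steps.fwd (nat_lit 24576) (Steps.fwd (nat_lit 8192) (Steps.bwd (nat_lit 3) (Steps.fwd (nat_lit 8192) (Steps.fwd (nat_lit 16384) (Steps.fwd (nat_lit 8192) (Steps.fwd (nat_lit 32768) (Steps.fwd (nat_lit 24576) (Steps.fwd (nat_lit 155648) Steps.nil))))))))))) (nat_lit 194) (nat_lit 2)]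
noncomputable def R_72 : List (Rule) := [Rule.mk (nat_lit 14) (nat_lit 89) (Steps.bwd (nat_lit 1) (Steps.fwd (nat_lit 73728) (Steps.bwd (nat_lit 1) (Steps.fwd (nat_lit 32768) (Steps.bwd (nat_lit 7) Steps.nil))))) (nat_lit 156) (nat_lit 0),
  Rule.mk (nat_lit 10) (nat_lit 134) (Steps.bwd (nat_lit 1) (Steps.bwd (nat_lit 4) (Steps.fwd (nat_lit 40960) (Steps.fwd (nat_lit 65536) (Steps.bwd (nat_lit 9) (Steps.bwd (nat_lit 11) (Steps.bwd (nat_lit 14) (Steps.fwd (nat_lit 8192) Steps.nil)))))))) (nat_lit 158) (nat_lit 2),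
  Rule.mk (nat_lit 16) (nat_lit 179) (Steps.bwd (nat_lit 1) (Steps.fwd (nat_lit 16384) (Steps.bwd (nat_lit 1) (Steps.bwd (nat_lit 3) (Steps.bwd (nat_lit 1) (Steps.fwd (nat_lit 16384) (Steps.bwd (nat_lit 1) (Steps.bwd (nat_lit 2) (Steps.bwd (nat_lit 4) (Steps.bwd (nat_lit 1) (Steps.fwd (nat_lit 24576) Steps.nil))))))))))) (nat_lit 190) (nat_lit 1),
  Rule.mk (nat_lit 0) (nat_lit 194) (Steps.bwd (nat_lit 3) (Steps.bwd (nat_lit 1) (Steps.fwd (nat_lit 32768) (Steps.bwd (nat_lit 3) (Steps.bwd (nat_lit 1) (Steps.bwd (nat_lit 2) (Steps.bwd (nat_lit 1) (Steps.bwd (nat_lit 2) (Steps.fwd (nat_lit 8192) (Steps.bwd (nat_lit 2) (Steps.fwd (nat_lit 8192) (Steps.fwd (nat_lit 131072) Steps.nil)))))))))))) (nat_lit 191) (nat_lit 0),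
  Rule.mk (nat_lit 18) (nat_lit 179) (Steps.bwd (nat_lit 1) (Steps.bwd (nat_lit 3) (Steps.fwd (nat_lit 32768) (Steps.bwd (nat_lit 1) (Steps.bwd (nat_lit 2) (Steps.bwd (nat_lit 1) (Steps.bwd (nat_lit 2) (Steps.fwd (nat_lit 8192) (Steps.bwd (nat_lit 3) (Steps.fwd (nat_lit 8192) (Steps.fwd (nat_lit 16384) Steps.nil))))))))))) (nat_lit 192) (nat_lit 1),
  Rule.mk (nat_lit 0) (nat_lit 194) (Steps.bwd (nat_lit 18) (Steps.fwd (nat_lit 8192) (Steps.bwd (nat_lit 3) (Steps.fwd (nat_lit 32768) (Steps.fwd (nat_lit 8192) (Steps.bwd (nat_lit 2) (Steps.fwd (nat_lit 8192) (Steps.fwd (nat_lit 24576) (Steps.fwd (nat_lit 8192) (Steps.fwd (nat_lit 16384) (Steps.fwd (nat_lit 8192) (Steps.fwd (nat_lit 16384) Steps.nil)))))))))))) (nat_lit 192) (nat_lit 0),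
  Rule.mk (nat_lit 0) (nat_lit 194) (Steps.bwd (nat_lit 19) (Steps.bwd (nat_lit 3) (Steps.fwd (nat_lit 32768) (Steps.fwd (nat_lit 8192) (Steps.bwd (nat_lit 2) (Steps.fwd (nat_lit 8192) (Steps.fwd (nat_lit 24576) (Steps.fwd (nat_lit 8192) (Steps.fwd (nat_lit 16384) (Steps.fwd (nat_lit 8192) (Steps.fwd (nat_lit 16384) (Steps.fwd (nat_lit 8192) Steps.nil)))))))))))) (nat_lit 195) (nat_lit 11),
  Rule.mk (nat_lit 19) (nat_lit 179) (Steps.bwd (nat_lit 3) (Steps.bwd (nat_lit 4) (Steps.fwd (nat_lit 8192) (Steps.bwd (nat_lit 2) (Steps.bwd (nat_lit 1) (Steps.bwd (nat_lit 2) (Steps.bwd (nat_lit 1) (Steps.bwd (nat_lit 3) (Steps.bwd (nat_lit 1) (Steps.fwd (nat_lit 16384) (Steps.bwd (nat_lit 1) Steps.nil))))))))))) (nat_lit 195) (nat_lit 0),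
  Rule.mk (nat_lit 19) (nat_lit 179) (Steps.bwd (nat_lit 3) (Steps.fwd (nat_lit 32768) (Steps.bwd (nat_lit 1) (Steps.bwd (nat_lit 2) (Steps.bwd (nat_lit 1) (Steps.bwd (nat_lit 2) (Steps.fwd (nat_lit 8192) (Steps.bwd (nat_lit 3) (Steps.fwd (nat_lit 8192) (Steps.fwd (nat_lit 16384) (Steps.fwd (nat_lit 8192) Steps.nil))))))))))) (nat_lit 195) (nat_lit 0),
  Rule.mk (nat_lit 17) (nat_lit 179) (Steps.bwd (nat_lit 2) (Steps.bwd (nat_lit 1) (Steps.fwd (nat_lit 24576) (Steps.bwd (nat_lit 1) (Steps.fwd (nat_lit 16384) (Steps.fwd (nat_lit 8192) (Steps.bwd (nat_lit 3) (Steps.fwd (nat_lit 8192) (Steps.bwd (nat_lit 4) (Steps.fwd (nat_lit 24576) (Steps.bwd (nat_lit 1) Steps.nil))))))))))) (nat_lit 193) (nat_lit 0),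
  Rule.mk (nat_lit 20) (nat_lit 179) (Steps.bwd (nat_lit 1) (Steps.bwd (nat_lit 2) (Steps.bwd (nat_lit 1) (Steps.fwd (nat_lit 24576) (Steps.bwd (nat_lit 1) (Steps.fwd (nat_lit 16384) (Steps.fwd (nat_lit 8192) (Steps.bwd (nat_lit 3) (Steps.fwd (nat_lit 8192) (Steps.bwd (nat_lit 4) (Steps.fwd (nat_lit 24576) Steps.nil))))))))))) (nat_lit 194) (nat_lit 1),
  Rule.mk (nat_lit 0) (nat_lit 194) (Steps.bwd (nat_lit 16) (Steps.fwd (nat_lit 8192) (Steps.bwd (nat_lit 3) (Steps.fwd (nat_lit 8192) (Steps.bwd (nat_lit 3) (Steps.fwd (nat_lit 8192) (Steps.fwd (nat_lit 16384) (Steps.fwd (nat_lit 8192) (Steps.fwd (nat_lit 24576) (Steps.bwd (nat_lit 4) (Steps.bwd (nat_lit 1) (Steps.bwd (nat_lit 2) Steps.nil)))))))))))) (nat_lit 190) (nat_lit 0),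
  Rule.mk (nat_lit 18) (nat_lit 179) (Steps.bwd (nat_lit 1) (Steps.fwd (nat_lit 16384) (Steps.bwd (nat_lit 4) (Steps.bwd (nat_lit 1) (Steps.fwd (nat_lit 24576) (Steps.bwd (nat_lit 1) (Steps.fwd (nat_lit 24576) (Steps.fwd (nat_lit 8192) (Steps.bwd (nat_lit 3) (Steps.fwd (nat_lit 8192) (Steps.bwd (nat_lit 3) Steps.nil))))))))))) (nat_lit 192) (nat_lit 1),
  Rule.mk (nat_lit 10) (nat_lit 104) (Steps.bwd (nat_lit 3) (Steps.fwd (nat_lit 114688) (Steps.bwd (nat_lit 12) (Steps.fwd (nat_lit 90112) (Steps.fwd (nat_lit 49152) (Steps.fwd (nat_lit 24576) Steps.nil)))))) (nat_lit 181) (nat_lit 6),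
  Rule.mk (nat_lit 14) (nat_lit 119) (Steps.bwd (nat_lit 3) (Steps.fwd (nat_lit 40960) (Steps.fwd (nat_lit 49152) (Steps.fwd (nat_lit 57344) (Steps.fwd (nat_lit 98304) (Steps.bwd (nat_lit 14) (Steps.bwd (nat_lit 2) Steps.nil))))))) (nat_lit 188) (nat_lit 2),
  Rule.mk (nat_lit 6) (nat_lit 164) (Steps.bwd (nat_lit 3) (Steps.fwd (nat_lit 40960) (Steps.fwd (nat_lit 49152) (Steps.bwd (nat_lit 9) (Steps.bwd (nat_lit 10) (Steps.bwd (nat_lit 11) (Steps.fwd (nat_lit 98304) (Steps.bwd (nat_lit 13) (Steps.fwd (nat_lit 114688) (Steps.fwd (nat_lit 24576) Steps.nil)))))))))) (nat_lit 172) (nat_lit 2),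
  Rule.mk (nat_lit 1) (nat_lit 179) (Steps.bwd (nat_lit 3) (Steps.fwd (nat_lit 32768) (Steps.fwd (nat_lit 8192) (Steps.fwd (nat_lit 24576) (Steps.bwd (nat_lit 1) (Steps.fwd (nat_lit 24576) (Steps.bwd (nat_lit 1) (Steps.bwd (nat_lit 3) (Steps.bwd (nat_lit 1) (Steps.fwd (nat_lit 16384) (Steps.fwd (nat_lit 139264) Steps.nil))))))))))) (nat_lit 192) (nat_lit 2),
  Rule.mk (nat_lit 19) (nat_lit 179) (Steps.bwd (nat_lit 3) (Steps.fwd (nat_lit 32768) (Steps.fwd (nat_lit 8192) (Steps.fwd (nat_lit 24576) (Steps.bwd (nat_lit 1) (Steps.fwd (nat_lit 24576) (Steps.bwd (nat_lit 1) (Steps.bwd (nat_lit 3) (Steps.bwd (nat_lit 1) (Steps.fwd (nat_lit 16384) (Steps.bwd (nat_lit 1) Steps.nil))))))))))) (nat_lit 195) (nat_lit 0),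
  Rule.mk (nat_lit 0) (nat_lit 74) (Steps.bwd (nat_lit 1) (Steps.fwd (nat_lit 32768) (Steps.fwd (nat_lit 8192) (Steps.bwd (nat_lit 5) Steps.nil)))) (nat_lit 146) (nat_lit 0),
  Rule.mk (nat_lit 9) (nat_lit 89) (Steps.fwd (nat_lit 8192) (Steps.bwd (nat_lit 4) (Steps.fwd (nat_lit 57344) (Steps.fwd (nat_lit 114688) (Steps.fwd (nat_lit 8192) Steps.nil))))) (nat_lit 156) (nat_lit 2),
  Rule.mk (nat_lit 16) (nat_lit 179) (Steps.fwd (nat_lit 8192) (Steps.fwd (nat_lit 16384) (Steps.bwd (nat_lit 1) (Steps.fwd (nat_lit 16384) (Steps.fwd (nat_lit 8192) (Steps.bwd (nat_lit 3) (Steps.fwd (nat_lit 8192) (Steps.fwd (nat_lit 24576) (Steps.bwd (nat_lit 4) (Steps.fwd (nat_lit 8192) (Steps.fwd (nat_lit 24576) Steps.nil))))))))))) (nat_lit 190) (nat_lit 1),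
  Rule.mk (nat_lit 16) (nat_lit 179) (Steps.fwd (nat_lit 8192) (Steps.bwd (nat_lit 3) (Steps.bwd (nat_lit 1) (Steps.bwd (nat_lit 3) (Steps.fwd (nat_lit 8192) (Steps.bwd (nat_lit 3) (Steps.bwd (nat_lit 1) (Steps.fwd (nat_lit 24576) (Steps.bwd (nat_lit 4) (Steps.fwd (nat_lit 8192) (Steps.bwd (nat_lit 2) Steps.nil))))))))))) (nat_lit 190) (nat_lit 1),
  Rule.mk (nat_lit 16) (nat_lit 179) (Steps.bwd (nat_lit 1) (Steps.bwd (nat_lit 3) (Steps.fwd (nat_lit 8192) (Steps.bwd (nat_lit 3) (Steps.bwd (nat_lit 1) (Steps.fwd (nat_lit 16384) (Steps.bwd (nat_lit 1) (Steps.bwd (nat_lit 2) (Steps.bwd (nat_lit 4) (Steps.fwd (nat_lit 8192) (Steps.bwd (nat_lit 2) Steps.nil))))))))))) (nat_lit 190) (nat_lit 1),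
  Rule.mk (nat_lit 0) (nat_lit 194) (Steps.bwd (nat_lit 16) (Steps.fwd (nat_lit 8192) (Steps.fwd (nat_lit 16384) (Steps.bwd (nat_lit 1) (Steps.bwd (nat_lit 3) (Steps.bwd (nat_lit 1) (Steps.bwd (nat_lit 3) (Steps.bwd (nat_lit 1) (Steps.fwd (nat_lit 24576) (Steps.bwd (nat_lit 4) (Steps.bwd (nat_lit 1) (Steps.bwd (nat_lit 2) Steps.nil)))))))))))) (nat_lit 190) (nat_lit 0),
  Rule.mk (nat_lit 15) (nat_lit 179) (Steps.bwd (nat_lit 3) (Steps.fwd (nat_lit 8192) (Steps.fwd (nat_lit 32768) (Steps.fwd (nat_lit 16384) (Steps.fwd (nat_lit 8192) (Steps.fwd (nat_lit 24576) (Steps.bwd (nat_lit 1) (Steps.fwd (nat_lit 24576) (Steps.bwd (nat_lit 1) (Steps.bwd (nat_lit 2) (Steps.fwd (nat_lit 8192) Steps.nil))))))))))) (nat_lit 191) (nat_lit 0),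
  Rule.mk (nat_lit 0) (nat_lit 194) (Steps.bwd (nat_lit 18) (Steps.fwd (nat_lit 8192) (Steps.fwd (nat_lit 16384) (Steps.fwd (nat_lit 32768) (Steps.fwd (nat_lit 8192) (Steps.bwd (nat_lit 2) (Steps.bwd (nat_lit 1) (Steps.fwd (nat_lit 24576) (Steps.bwd (nat_lit 1) (Steps.bwd (nat_lit 3) (Steps.fwd (nat_lit 8192) (Steps.bwd (nat_lit 3) Steps.nil)))))))))))) (nat_lit 192) (nat_lit 0),
  Rule.mk (nat_lit 17) (nat_lit 179) (Steps.bwd (nat_lit 2) (Steps.bwd (nat_lit 1) (Steps.fwd (nat_lit 24576) (Steps.bwd (nat_lit 1) (Steps.bwd (nat_lit 3) (Steps.fwd (nat_lit 8192) (Steps.bwd (nat_lit 3) (Steps.bwd (nat_lit 1) (Steps.fwd (nat_lit 32768) (Steps.fwd (nat_lit 24576) (Steps.fwd (nat_lit 8192) Steps.nil))))))))))) (nat_lit 193) (nat_lit 0),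
  Rule.mk (nat_lit 20) (nat_lit 179) (Steps.fwd (nat_lit 8192) (Steps.bwd (nat_lit 2) (Steps.bwd (nat_lit 1) (Steps.fwd (nat_lit 24576) (Steps.bwd (nat_lit 1) (Steps.bwd (nat_lit 3) (Steps.fwd (nat_lit 8192) (Steps.bwd (nat_lit 3) (Steps.bwd (nat_lit 1) (Steps.fwd (nat_lit 32768) (Steps.fwd (nat_lit 24576) Steps.nil))))))))))) (nat_lit 194) (nat_lit 1),
  Rule.mk (nat_lit 19) (nat_lit 179) (Steps.fwd (nat_lit 16384) (Steps.fwd (nat_lit 32768) (Steps.fwd (nat_lit 8192) (Steps.bwd (nat_lit 2) (Steps.bwd (nat_lit 1) (Steps.fwd (nat_lit 24576) (Steps.bwd (nat_lit 1) (Steps.bwd (nat_lit 3) (Steps.fwd (nat_lit 8192) (Steps.bwd (nat_lit 3) (Steps.bwd (nat_lit 1) Steps.nil))))))))))) (nat_lit 195) (nat_lit 0),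
  Rule.mk (nat_lit 17) (nat_lit 179) (Steps.bwd (nat_lit 2) (Steps.fwd (nat_lit 8192) (Steps.bwd (nat_lit 2) (Steps.fwd (nat_lit 8192) (Steps.fwd (nat_lit 16384) (Steps.bwd (nat_lit 1) (Steps.fwd (nat_lit 16384) (Steps.bwd (nat_lit 1) (Steps.bwd (nat_lit 4) (Steps.fwd (nat_lit 24576) (Steps.fwd (nat_lit 8192) Steps.nil))))))))))) (nat_lit 193) (nat_lit 0),
  Rule.mk (nat_lit 15) (nat_lit 179) (Steps.fwd (nat_lit 16384) (Steps.bwd (nat_lit 1) (Steps.fwd (nat_lit 32768) (Steps.fwd (nat_lit 16384) (Steps.bwd (nat_lit 1) (Steps.fwd (nat_lit 24576) (Steps.fwd (nat_lit 8192) (Steps.bwd (nat_lit 2) (Steps.fwd (nat_lit 8192) (Steps.bwd (nat_lit 2) (Steps.bwd (nat_lit 1) Steps.nil))))))))))) (nat_lit 191) (nat_lit 0),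
  Rule.mk (nat_lit 15) (nat_lit 179) (Steps.fwd (nat_lit 16384) (Steps.bwd (nat_lit 1) (Steps.fwd (nat_lit 32768) (Steps.bwd (nat_lit 3) (Steps.bwd (nat_lit 1) (Steps.bwd (nat_lit 2) (Steps.fwd (nat_lit 8192) (Steps.bwd (nat_lit 2) (Steps.fwd (nat_lit 8192) (Steps.fwd (nat_lit 24576) (Steps.bwd (nat_lit 1) Steps.nil))))))))))) (nat_lit 191) (nat_lit 0),
  Rule.mk (nat_lit 17) (nat_lit 179) (Steps.fwd (nat_lit 24576) (Steps.bwd (nat_lit 1) (Steps.fwd (nat_lit 24576) (Steps.fwd (nat_lit 8192) (Steps.bwd (nat_lit 3) (Steps.fwd (nat_lit 8192) (Steps.fwd (nat_lit 16384) (Steps.bwd (nat_lit 1) (Steps.fwd (nat_lit 32768) (Steps.fwd (nat_lit 24576) (Steps.fwd (nat_lit 8192) Steps.nil))))))))))) (nat_lit 193) (nat_lit 0),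
  Rule.mk (nat_lit 20) (nat_lit 179) (Steps.bwd (nat_lit 1) (Steps.fwd (nat_lit 24576) (Steps.bwd (nat_lit 1) (Steps.fwd (nat_lit 24576) (Steps.fwd (nat_lit 8192) (Steps.bwd (nat_lit 3) (Steps.fwd (nat_lit 8192) (Steps.fwd (nat_lit 16384) (Steps.bwd (nat_lit 1) (Steps.fwd (nat_lit 32768) (Steps.fwd (nat_lit 24576) Steps.nil))))))))))) (nat_lit 194) (nat_lit 1),
  Rule.mk (nat_lit 19) (nat_lit 179) (Steps.bwd (nat_lit 3) (Steps.fwd (nat_lit 32768) (Steps.bwd (nat_lit 1) (Steps.fwd (nat_lit 24576) (Steps.bwd (nat_lit 1) (Steps.fwd (nat_lit 24576) (Steps.fwd (nat_lit 8192) (Steps.bwd (nat_lit 3) (Steps.fwd (nat_lit 8192) (Steps.fwd (nat_lit 16384) (Steps.bwd (nat_lit 1) Steps.nil))))))))))) (nat_lit 195) (nat_lit 0),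
  Rule.mk (nat_lit 3) (nat_lit 539) (Steps.fwd (nat_lit 8192) (Steps.bwd (nat_lit 2) (Steps.bwd (nat_lit 1) (Steps.fwd (nat_lit 16384) (Steps.bwd (nat_lit 1) (Steps.fwd (nat_lit 16384) (Steps.fwd (nat_lit 8192) (Steps.fwd (nat_lit 24576) (Steps.fwd (nat_lit 8192) (Steps.bwd (nat_lit 3) (Steps.bwd (nat_lit 1) (Steps.bwd (nat_lit 3) (Steps.bwd (nat_lit 1) (Steps.fwd (nat_lit 24576) (Steps.bwd (nat_lit 1) (Steps.bwd (nat_lit 3) (Steps.fwd (nat_lit 8192) (Steps.bwd (nat_lit 3) (Steps.fwd (nat_lit 8192) (Steps.bwd (nat_lit 2) (Steps.fwd (nat_lit 8192) (Steps.bwd (nat_lit 2) (Steps.bwd (nat_lit 1) (Steps.bwd (nat_lit 3) (Steps.bwd (nat_lit 1) (Steps.fwd (nat_lit 24576) (Steps.bwd (nat_lit 1) (Steps.fwd (nat_lit 24576) (Steps.fwd (nat_lit 8192) (Steps.bwd (nat_lit 3) (Steps.fwd (nat_lit 8192) (Steps.bwd (nat_lit 2) (Steps.fwd (nat_lit 8192) (Steps.bwd (nat_lit 2) (Steps.bwd (nat_lit 1) Steps.nil)))))))))))))))))))))))))))))))))))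 (nat_lit 12) (nat_lit 18),
  Rule.mk (nat_lit 2) (nat_lit 839) (Steps.bwd (nat_lit 1) (Steps.bwd (nat_lit 3) (Steps.fwd (nat_lit 8192) (Steps.fwd (nat_lit 16384) (Steps.fwd (nat_lit 8192) (Steps.bwd (nat_lit 2) (Steps.fwd (nat_lit 8192) (Steps.fwd (nat_lit 16384) (Steps.bwd (nat_lit 1) (Steps.bwd (nat_lit 2) (Steps.fwd (nat_lit 8192) (Steps.bwd (nat_lit 3) (Steps.fwd (nat_lit 8192) (Steps.fwd (nat_lit 24576) (Steps.fwd (nat_lit 8192) (Steps.bwd (nat_lit 3) (Steps.fwd (nat_lit 8192) (Steps.bwd (nat_lit 3) (Steps.fwd (nat_lit 8192) (Steps.fwd (nat_lit 24576) (Steps.fwd (nat_lit 8192) (Steps.bwd (nat_lit 3) (Steps.bwd (nat_lit 1) (Steps.fwd (nat_lit 24576) (Steps.bwd (nat_lit 1) (Steps.bwd (nat_lit 3) (Steps.fwd (nat_lit 8192) (Steps.fwd (nat_lit 24576) (Steps.bwd (nat_lit 1) (Steps.fwd (nat_lit 16384) (Steps.bwd (nat_lit 1) (Steps.bwd (nat_lit 3) (Steps.fwd (nat_lit 8192) (Steps.bwd (nat_lit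 2) (Steps.fwd (nat_lit 8192) (Steps.bwd (nat_lit 3) (Steps.bwd (nat_lit 1) (Steps.fwd (nat_lit 24576) (Steps.fwd (nat_lit 8192) (Steps.bwd (nat_lit 3) (Steps.fwd (nat_lit 8192) (Steps.fwd (nat_lit 24576) (Steps.bwd (nat_lit 1) (Steps.fwd (nat_lit 16384) (Steps.fwd (nat_lit 8192) (Steps.bwd (nat_lit 3) (Steps.fwd (nat_lit 8192) (Steps.fwd (nat_lit 24576) (Steps.bwd (nat_lit 1) (Steps.fwd (nat_lit 16384) (Steps.bwd (nat_lit 1) (Steps.fwd (nat_lit 24576) (Steps.fwd (nat_lit 8192) (Steps.fwd (nat_lit 16384) (Steps.bwd (nat_lit 1) Steps.nil))))))))))))))))))))))))))))))))))))))))))))))))))))))) (nat_lit 11) (nat_lit 9),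
  Rule.mk (nat_lit 0) (nat_lit 194) (Steps.bwd (nat_lit 15) (Steps.fwd (nat_lit 16384) (Steps.bwd (nat_lit 1) (Steps.fwd (nat_lit 32768) (Steps.bwd (nat_lit 3) (Steps.fwd (nat_lit 8192) (Steps.bwd (nat_lit 2) (Steps.fwd (nat_lit 8192) (Steps.bwd (nat_lit 2) (Steps.bwd (nat_lit 1) (Steps.bwd (nat_lit 2) (Steps.bwd (nat_lit 1) Steps.nil)))))))))))) (nat_lit 191) (nat_lit 11),
  Rule.mk (nat_lit 15) (nat_lit 179) (Steps.fwd (nat_lit 16384) (Steps.fwd (nat_lit 8192) (Steps.bwd (nat_lit 4) (Steps.bwd (nat_lit 3) (Steps.bwd (nat_lit 1) (Steps.bwd (nat_lit 2) (Steps.fwd (nat_lit 8192) (Steps.bwd (nat_lit 2) (Steps.bwd (nat_lit 1) (Steps.fwd (nat_lit 24576) (Steps.fwd (nat_lit 8192) Steps.nil))))))))))) (nat_lit 191) (nat_lit 0),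
  Rule.mk (nat_lit 0) (nat_lit 194) (Steps.bwd (nat_lit 3) (Steps.bwd (nat_lit 1) (Steps.fwd (nat_lit 32768) (Steps.fwd (nat_lit 16384) (Steps.bwd (nat_lit 1) (Steps.fwd (nat_lit 24576) (Steps.fwd (nat_lit 8192) (Steps.bwd (nat_lit 2) (Steps.bwd (nat_lit 1) (Steps.fwd (nat_lit 24576) (Steps.bwd (nat_lit 1) (Steps.fwd (nat_lit 131072) Steps.nil)))))))))))) (nat_lit 191) (nat_lit 0),
  Rule.mk (nat_lit 15) (nat_lit 179) (Steps.bwd (nat_lit 3) (Steps.bwd (nat_lit 1) (Steps.bwd (nat_lit 4) (Steps.fwd (nat_lit 16384) (Steps.fwd (nat_lit 8192) (Steps.bwd (nat_lit 2) (Steps.bwd (nat_lit 1) (Steps.fwd (nat_lit 24576) (Steps.bwd (nat_lit 1) (Steps.fwd (nat_lit 24576) (Steps.bwd (nat_lit 1) Steps.nil))))))))))) (nat_lit 191) (nat_lit 0),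
  Rule.mk (nat_lit 18) (nat_lit 179) (Steps.bwd (nat_lit 1) (Steps.bwd (nat_lit 3) (Steps.fwd (nat_lit 32768) (Steps.bwd (nat_lit 1) (Steps.bwd (nat_lit 2) (Steps.bwd (nat_lit 1) (Steps.fwd (nat_lit 24576) (Steps.fwd (nat_lit 8192) (Steps.fwd (nat_lit 16384) (Steps.fwd (nat_lit 8192) (Steps.fwd (nat_lit 16384) Steps.nil))))))))))) (nat_lit 192) (nat_lit 1),
  Rule.mk (nat_lit 18) (nat_lit 179) (Steps.bwd (nat_lit 1) (Steps.bwd (nat_lit 3) (Steps.bwd (nat_lit 4) (Steps.bwd (nat_lit 1) (Steps.fwd (nat_lit 24576) (Steps.fwd (nat_lit 8192) (Steps.bwd (nat_lit 2) (Steps.bwd (nat_lit 1) (Steps.bwd (nat_lit 3) (Steps.fwd (nat_lit 8192) (Steps.bwd (nat_lit 3) Steps.nil))))))))))) (nat_lit 192) (nat_lit 1),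
  Rule.mk (nat_lit 17) (nat_lit 179) (Steps.fwd (nat_lit 24576) (Steps.bwd (nat_lit 1) (Steps.fwd (nat_lit 24576) (Steps.bwd (nat_lit 1) (Steps.fwd (nat_lit 16384) (Steps.bwd (nat_lit 1) (Steps.fwd (nat_lit 16384) (Steps.fwd (nat_lit 8192) (Steps.fwd (nat_lit 32768) (Steps.fwd (nat_lit 24576) (Steps.fwd (nat_lit 8192) Steps.nil))))))))))) (nat_lit 193) (nat_lit 0),
  Rule.mk (nat_lit 17) (nat_lit 179) (Steps.bwd (nat_lit 2) (Steps.bwd (nat_lit 1) (Steps.fwd (nat_lit 24576) (Steps.fwd (nat_lit 8192) (Steps.fwd (nat_lit 16384) (Steps.fwd (nat_lit 8192) (Steps.fwd (nat_lit 16384) (Steps.fwd (nat_lit 8192) (Steps.fwd (nat_lit 32768) (Steps.bwd (nat_lit 2) (Steps.bwd (nat_lit 1) Steps.nil))))))))))) (nat_lit 193) (nat_lit 0),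
  Rule.mk (nat_lit 0) (nat_lit 194) (Steps.bwd (nat_lit 18) (Steps.bwd (nat_lit 1) (Steps.bwd (nat_lit 3) (Steps.fwd (nat_lit 32768) (Steps.fwd (nat_lit 8192) (Steps.bwd (nat_lit 2) (Steps.fwd (nat_lit 8192) (Steps.bwd (nat_lit 2) (Steps.bwd (nat_lit 1) (Steps.bwd (nat_lit 3) (Steps.fwd (nat_lit 8192) (Steps.fwd (nat_lit 16384) Steps.nil)))))))))))) (nat_lit 192) (nat_lit 0),
  Rule.mk (nat_lit 20) (nat_lit 179) (Steps.bwd (nat_lit 1) (Steps.bwd (nat_lit 2) (Steps.bwd (nat_lit 1) (Steps.fwd (nat_lit 24576) (Steps.fwd (nat_lit 8192) (Steps.fwd (nat_lit 16384) (Steps.fwd (nat_lit 8192) (Steps.fwd (nat_lit 16384) (Steps.fwd (nat_lit 8192) (Steps.fwd (nat_lit 32768) (Steps.bwd (nat_lit 2) Steps.nil))))))))))) (nat_lit 194) (nat_lit 1),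
  Rule.mk (nat_lit 0) (nat_lit 194) (Steps.bwd (nat_lit 19) (Steps.bwd (nat_lit 3) (Steps.fwd (nat_lit 32768) (Steps.fwd (nat_lit 8192) (Steps.bwd (nat_lit 2) (Steps.fwd (nat_lit 8192) (Steps.bwd (nat_lit 2) (Steps.bwd (nat_lit 1) (Steps.bwd (nat_lit 3) (Steps.fwd (nat_lit 8192) (Steps.fwd (nat_lit 16384) (Steps.bwd (nat_lit 1) Steps.nil)))))))))))) (nat_lit 195) (nat_lit 11),
  Rule.mk (nat_lit 0) (nat_lit 194) (Steps.bwd (nat_lit 19) (Steps.bwd (nat_lit 3) (Steps.fwd (nat_lit 32768) (Steps.bwd (nat_lit 1) (Steps.bwd (nat_lit 2) (Steps.bwd (nat_lit 1) (Steps.fwd (nat_lit 24576) (Steps.fwd (nat_lit 8192) (Steps.fwd (nat_lit 16384) (Steps.fwd (nat_lit 8192) (Steps.fwd (nat_lit 16384) (Steps.fwd (nat_lit 8192) Steps.nil)))))))))))) (nat_lit 195) (nat_lit 11),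
  Rule.mk (nat_lit 0) (nat_lit 194) (Steps.bwd (nat_lit 20) (Steps.fwd (nat_lit 8192) (Steps.bwd (nat_lit 2) (Steps.fwd (nat_lit 8192) (Steps.bwd (nat_lit 2) (Steps.bwd (nat_lit 1) (Steps.bwd (nat_lit 3) (Steps.fwd (nat_lit 8192) (Steps.fwd (nat_lit 16384) (Steps.bwd (nat_lit 1) (Steps.bwd (nat_lit 4) (Steps.bwd (nat_lit 2) Steps.nil)))))))))))) (nat_lit 194) (nat_lit 0),
  Rule.mk (nat_lit 15) (nat_lit 179) (Steps.fwd (nat_lit 16384) (Steps.bwd (nat_lit 1) (Steps.bwd (nat_lit 4) (Steps.bwd (nat_lit 3) (Steps.fwd (nat_lit 8192) (Steps.bwd (nat_lit 2) (Steps.bwd (nat_lit 1) (Steps.bwd (nat_lit 2) (Steps.fwd (nat_lit 8192) (Steps.fwd (nat_lit 24576) (Steps.fwd (nat_lit 8192) Steps.nil))))))))))) (nat_lit 191) (nat_lit 0),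
  Rule.mk (nat_lit 19) (nat_lit 179) (Steps.bwd (nat_lit 3) (Steps.bwd (nat_lit 4) (Steps.bwd (nat_lit 1) (Steps.bwd (nat_lit 2) (Steps.fwd (nat_lit 8192) (Steps.bwd (nat_lit 2) (Steps.fwd (nat_lit 8192) (Steps.bwd (nat_lit 3) (Steps.fwd (nat_lit 8192) (Steps.bwd (nat_lit 3) (Steps.fwd (nat_lit 8192) Steps.nil))))))))))) (nat_lit 195) (nat_lit 0),
  Rule.mk (nat_lit 2) (nat_lit 134) (Steps.bwd (nat_lit 13) (Steps.fwd (nat_lit 16384) (Steps.bwd (nat_lit 14) (Steps.fwd (nat_lit 106496) (Steps.fwd (nat_lit 98304) (Steps.bwd (nat_lit 11) (Steps.bwd (nat_lit 10) (Steps.bwd (nat_lit 6) Steps.nil)))))))) (nat_lit 187) (nat_lit 7),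
  Rule.mk (nat_lit 16) (nat_lit 179) (Steps.bwd (nat_lit 1) (Steps.fwd (nat_lit 16384) (Steps.bwd (nat_lit 1) (Steps.bwd (nat_lit 3) (Steps.fwd (nat_lit 8192) (Steps.fwd (nat_lit 16384) (Steps.fwd (nat_lit 8192) (Steps.bwd (nat_lit 2) (Steps.fwd (nat_lit 32768) (Steps.fwd (nat_lit 8192) (Steps.bwd (nat_lit 2) Steps.nil))))))))))) (nat_lit 190) (nat_lit 1),
  Rule.mk (nat_lit 15) (nat_lit 179) (Steps.fwd (nat_lit 16384) (Steps.bwd (nat_lit 1) (Steps.bwd (nat_lit 4) (Steps.fwd (nat_lit 16384) (Steps.bwd (nat_lit 1) (Steps.fwd (nat_lit 24576) (Steps.fwd (nat_lit 8192) (Steps.bwd (nat_lit 2) (Steps.fwd (nat_lit 8192) (Steps.fwd (nat_lit 24576) (Steps.bwd (nat_lit 1) Steps.nil))))))))))) (nat_lit 191) (nat_lit 0),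
  Rule.mk (nat_lit 0) (nat_lit 194) (Steps.bwd (nat_lit 18) (Steps.bwd (nat_lit 1) (Steps.bwd (nat_lit 3) (Steps.fwd (nat_lit 32768) (Steps.bwd (nat_lit 1) (Steps.fwd (nat_lit 24576) (Steps.fwd (nat_lit 8192) (Steps.bwd (nat_lit 2) (Steps.fwd (nat_lit 8192) (Steps.fwd (nat_lit 16384) (Steps.bwd (nat_lit 1) (Steps.bwd (nat_lit 3) Steps.nil)))))))))))) (nat_lit 192) (nat_lit 0),
  Rule.mk (nat_lit 0) (nat_lit 194) (Steps.fwd (nat_lit 8192) (Steps.fwd (nat_lit 16384) (Steps.fwd (nat_lit 32768) (Steps.fwd (nat_lit 8192) (Steps.fwd (nat_lit 24576) (Steps.fwd (nat_lit 8192) (Steps.bwd (nat_lit 2) (Steps.bwd (nat_lit 1) (Steps.fwd (nat_lit 16384) (Steps.bwd (nat_lit 1) (Steps.bwd (nat_lit 3) (Steps.fwd (nat_lit 139264) Steps.nil)))))))))))) (nat_lit 192) (nat_lit 1),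
  Rule.mk (nat_lit 20) (nat_lit 179) (Steps.bwd (nat_lit 1) (Steps.fwd (nat_lit 24576) (Steps.fwd (nat_lit 8192) (Steps.bwd (nat_lit 2) (Steps.fwd (nat_lit 8192) (Steps.fwd (nat_lit 16384) (Steps.bwd (nat_lit 1) (Steps.bwd (nat_lit 3) (Steps.bwd (nat_lit 1) (Steps.bwd (nat_lit 4) (Steps.bwd (nat_lit 2) Steps.nil))))))))))) (nat_lit 194) (nat_lit 1),
  Rule.mk (nat_lit 0) (nat_lit 194) (Steps.bwd (nat_lit 20) (Steps.fwd (nat_lit 8192) (Steps.fwd (nat_lit 24576) (Steps.fwd (nat_lit 8192) (Steps.bwd (nat_lit 2) (Steps.bwd (nat_lit 1) (Steps.fwd (nat_lit 16384) (Steps.bwd (nat_lit 1) (Steps.bwd (nat_lit 3) (Steps.fwd (nat_lit 8192) (Steps.bwd (nat_lit 4) (Steps.fwd (nat_lit 24576) Steps.nil)))))))))))) (nat_lit 194) (nat_lit 0),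
  Rule.mk (nat_lit 15) (nat_lit 179) (Steps.bwd (nat_lit 3) (Steps.fwd (nat_lit 8192) (Steps.bwd (nat_lit 4) (Steps.fwd (nat_lit 16384) (Steps.fwd (nat_lit 8192) (Steps.fwd (nat_lit 24576) (Steps.fwd (nat_lit 8192) (Steps.bwd (nat_lit 2) (Steps.bwd (nat_lit 1) (Steps.bwd (nat_lit 2) (Steps.bwd (nat_lit 1) Steps.nil))))))))))) (nat_lit 191) (nat_lit 0),
  Rule.mk (nat_lit 20) (nat_lit 179) (Steps.bwd (nat_lit 1) (Steps.bwd (nat_lit 2) (Steps.bwd (nat_lit 1) (Steps.bwd (nat_lit 2) (Steps.bwd (nat_lit 1) (Steps.fwd (nat_lit 16384) (Steps.fwd (nat_lit 8192) (Steps.bwd (nat_lit 3) (Steps.bwd (nat_lit 1) (Steps.bwd (nat_lit 4) (Steps.bwd (nat_lit 2) Steps.nil))))))))))) (nat_lit 194) (nat_lit 1),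
  Rule.mk (nat_lit 15) (nat_lit 179) (Steps.bwd (nat_lit 3) (Steps.bwd (nat_lit 1) (Steps.fwd (nat_lit 32768) (Steps.fwd (nat_lit 16384) (Steps.fwd (nat_lit 8192) (Steps.fwd (nat_lit 24576) (Steps.fwd (nat_lit 8192) (Steps.fwd (nat_lit 24576) (Steps.fwd (nat_lit 8192) (Steps.bwd (nat_lit 2) (Steps.bwd (nat_lit 1) Steps.nil))))))))))) (nat_lit 191) (nat_lit 0),
  Rule.mk (nat_lit 17) (nat_lit 179) (Steps.bwd (nat_lit 2) (Steps.fwd (nat_lit 8192) (Steps.fwd (nat_lit 24576) (Steps.bwd (nat_lit 1) (Steps.fwd (nat_lit 16384) (Steps.bwd (nat_lit 1) (Steps.fwd (nat_lit 16384) (Steps.bwd (nat_lit 1) (Steps.bwd (nat_lit 4) (Steps.bwd (nat_lit 2) (Steps.bwd (nat_lit 1) Steps.nil))))))))))) (nat_lit 193) (nat_lit 0),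
  Rule.mk (nat_lit 14) (nat_lit 119) (Steps.bwd (nat_lit 3) (Steps.bwd (nat_lit 5) (Steps.bwd (nat_lit 6) (Steps.bwd (nat_lit 7) (Steps.fwd (nat_lit 98304) (Steps.fwd (nat_lit 114688) (Steps.fwd (nat_lit 24576) Steps.nil))))))) (nat_lit 188) (nat_lit 2)]
noncomputable def R_73 : List (Rule) := [Rule.mk (nat_lit 13) (nat_lit 134) (Steps.bwd (nat_lit 3) (Steps.fwd (nat_lit 49152) (Steps.bwd (nat_lit 10) (Steps.bwd (nat_lit 11) (Steps.fwd (nat_lit 98304) (Steps.bwd (nat_lit 13) (Steps.fwd (nat_lit 114688) (Steps.fwd (nat_lit 24576) Steps.nil)))))))) (nat_lit 186) (nat_lit 2),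
  Rule.mk (nat_lit 5) (nat_lit 149) (Steps.bwd (nat_lit 3) (Steps.bwd (nat_lit 4) (Steps.fwd (nat_lit 40960) (Steps.fwd (nat_lit 65536) (Steps.bwd (nat_lit 9) (Steps.fwd (nat_lit 98304) (Steps.bwd (nat_lit 13) (Steps.bwd (nat_lit 14) (Steps.fwd (nat_lit 24576) Steps.nil))))))))) (nat_lit 170) (nat_lit 2),
  Rule.mk (nat_lit 15) (nat_lit 179) (Steps.bwd (nat_lit 3) (Steps.fwd (nat_lit 8192) (Steps.fwd (nat_lit 32768) (Steps.bwd (nat_lit 3) (Steps.fwd (nat_lit 8192) (Steps.fwd (nat_lit 24576) (Steps.bwd (nat_lit 1) (Steps.bwd (nat_lit 2) (Steps.fwd (nat_lit 8192) (Steps.fwd (nat_lit 24576) (Steps.bwd (nat_lit 1) Steps.nil))))))))))) (nat_lit 191) (nat_lit 0),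
  Rule.mk (nat_lit 18) (nat_lit 179) (Steps.fwd (nat_lit 8192) (Steps.fwd (nat_lit 16384) (Steps.fwd (nat_lit 32768) (Steps.fwd (nat_lit 8192) (Steps.fwd (nat_lit 24576) (Steps.bwd (nat_lit 1) (Steps.bwd (nat_lit 2) (Steps.fwd (nat_lit 8192) (Steps.bwd (nat_lit 3) (Steps.bwd (nat_lit 1) (Steps.fwd (nat_lit 16384) Steps.nil))))))))))) (nat_lit 192) (nat_lit 1),
  Rule.mk (nat_lit 18) (nat_lit 179) (Steps.bwd (nat_lit 1) (Steps.fwd (nat_lit 16384) (Steps.bwd (nat_lit 4) (Steps.bwd (nat_lit 1) (Steps.bwd (nat_lit 2) (Steps.fwd (nat_lit 8192) (Steps.fwd (nat_lit 24576) (Steps.bwd (nat_lit 1) (Steps.bwd (nat_lit 3) (Steps.fwd (nat_lit 8192) (Steps.fwd (nat_lit 16384) Steps.nil))))))))))) (nat_lit 192) (nat_lit 1),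
  Rule.mk (nat_lit 19) (nat_lit 179) (Steps.fwd (nat_lit 16384) (Steps.bwd (nat_lit 4) (Steps.bwd (nat_lit 1) (Steps.bwd (nat_lit 2) (Steps.fwd (nat_lit 8192) (Steps.fwd (nat_lit 24576) (Steps.bwd (nat_lit 1) (Steps.bwd (nat_lit 3) (Steps.fwd (nat_lit 8192) (Steps.fwd (nat_lit 16384) (Steps.bwd (nat_lit 1) Steps.nil))))))))))) (nat_lit 195) (nat_lit 0),
  Rule.mk (nat_lit 15) (nat_lit 179) (Steps.bwd (nat_lit 3) (Steps.fwd (nat_lit 8192) (Steps.bwd (nat_lit 4) (Steps.fwd (nat_lit 16384) (Steps.fwd (nat_lit 8192) (Steps.bwd (nat_lit 2) (Steps.bwd (nat_lit 1) (Steps.fwd (nat_lit 24576) (Steps.bwd (nat_lit 1) (Steps.bwd (nat_lit 2) (Steps.bwd (nat_lit 1) Steps.nil))))))))))) (nat_lit 191) (nat_lit 0),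
  Rule.mk (nat_lit 3) (nat_lit 134) (Steps.bwd (nat_lit 6) (Steps.bwd (nat_lit 10) (Steps.bwd (nat_lit 11) (Steps.bwd (nat_lit 12) (Steps.fwd (nat_lit 106496) (Steps.fwd (nat_lit 114688) (Steps.fwd (nat_lit 24576) (Steps.bwd (nat_lit 13) Steps.nil)))))))) (nat_lit 186) (nat_lit 3),
  Rule.mk (nat_lit 0) (nat_lit 194) (Steps.bwd (nat_lit 15) (Steps.bwd (nat_lit 3) (Steps.fwd (nat_lit 8192) (Steps.bwd (nat_lit 4) (Steps.bwd (nat_lit 3) (Steps.fwd (nat_lit 8192) (Steps.fwd (nat_lit 24576) (Steps.bwd (nat_lit 1) (Steps.fwd (nat_lit 24576) (Steps.bwd (nat_lit 1) (Steps.fwd (nat_lit 24576) (Steps.fwd (nat_lit 8192) Steps.nil)))))))))))) (nat_lit 191) (nat_lit 11),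
  Rule.mk (nat_lit 17) (nat_lit 179) (Steps.fwd (nat_lit 24576) (Steps.bwd (nat_lit 1) (Steps.bwd (nat_lit 2) (Steps.bwd (nat_lit 1) (Steps.bwd (nat_lit 3) (Steps.fwd (nat_lit 8192) (Steps.bwd (nat_lit 3) (Steps.fwd (nat_lit 8192) (Steps.fwd (nat_lit 32768) (Steps.bwd (nat_lit 2) (Steps.bwd (nat_lit 1) Steps.nil))))))))))) (nat_lit 193) (nat_lit 0),
  Rule.mk (nat_lit 20) (nat_lit 179) (Steps.bwd (nat_lit 1) (Steps.fwd (nat_lit 24576) (Steps.bwd (nat_lit 1) (Steps.bwd (nat_lit 2) (Steps.bwd (nat_lit 1) (Steps.bwd (nat_lit 3) (Steps.fwd (nat_lit 8192) (Steps.bwd (nat_lit 3) (Steps.fwd (nat_lit 8192) (Steps.fwd (nat_lit 32768) (Steps.bwd (nat_lit 2) Steps.nil))))))))))) (nat_lit 194) (nat_lit 1),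
  Rule.mk (nat_lit 1) (nat_lit 179) (Steps.bwd (nat_lit 19) (Steps.bwd (nat_lit 3) (Steps.bwd (nat_lit 4) (Steps.bwd (nat_lit 1) (Steps.bwd (nat_lit 2) (Steps.fwd (nat_lit 8192) (Steps.bwd (nat_lit 2) (Steps.bwd (nat_lit 1) (Steps.bwd (nat_lit 3) (Steps.bwd (nat_lit 1) (Steps.fwd (nat_lit 16384) Steps.nil))))))))))) (nat_lit 195) (nat_lit 11),
  Rule.mk (nat_lit 9) (nat_lit 89) (Steps.fwd (nat_lit 8192) (Steps.bwd (nat_lit 4) (Steps.fwd (nat_lit 57344) (Steps.fwd (nat_lit 114688) (Steps.bwd (nat_lit 1) Steps.nil))))) (nat_lit 156) (nat_lit 2),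
  Rule.mk (nat_lit 6) (nat_lit 104) (Steps.fwd (nat_lit 90112) (Steps.bwd (nat_lit 12) (Steps.fwd (nat_lit 114688) (Steps.fwd (nat_lit 8192) (Steps.bwd (nat_lit 11) (Steps.bwd (nat_lit 1) Steps.nil)))))) (nat_lit 160) (nat_lit 4),
  Rule.mk (nat_lit 13) (nat_lit 104) (Steps.fwd (nat_lit 8192) (Steps.fwd (nat_lit 32768) (Steps.bwd (nat_lit 5) (Steps.bwd (nat_lit 8) (Steps.bwd (nat_lit 9) (Steps.bwd (nat_lit 1) Steps.nil)))))) (nat_lit 164) (nat_lit 2),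
  Rule.mk (nat_lit 10) (nat_lit 134) (Steps.fwd (nat_lit 8192) (Steps.bwd (nat_lit 14) (Steps.bwd (nat_lit 11) (Steps.fwd (nat_lit 73728) (Steps.bwd (nat_lit 8) (Steps.bwd (nat_lit 5) (Steps.fwd (nat_lit 32768) (Steps.bwd (nat_lit 1) Steps.nil)))))))) (nat_lit 159) (nat_lit 8),
  Rule.mk (nat_lit 7) (nat_lit 164) (Steps.bwd (nat_lit 1) (Steps.bwd (nat_lit 14) (Steps.fwd (nat_lit 106496) (Steps.fwd (nat_lit 98304) (Steps.bwd (nat_lit 11) (Steps.fwd (nat_lit 81920) (Steps.bwd (nat_lit 9) (Steps.fwd (nat_lit 49152) (Steps.bwd (nat_lit 5) (Steps.bwd (nat_lit 1) Steps.nil)))))))))) (nat_lit 153) (nat_lit 10),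
  Rule.mk (nat_lit 17) (nat_lit 179) (Steps.bwd (nat_lit 2) (Steps.fwd (nat_lit 8192) (Steps.bwd (nat_lit 2) (Steps.bwd (nat_lit 1) (Steps.bwd (nat_lit 3) (Steps.bwd (nat_lit 1) (Steps.fwd (nat_lit 16384) (Steps.bwd (nat_lit 1) (Steps.bwd (nat_lit 4) (Steps.fwd (nat_lit 24576) (Steps.fwd (nat_lit 8192) Steps.nil))))))))))) (nat_lit 193) (nat_lit 0),
  Rule.mk (nat_lit 20) (nat_lit 179) (Steps.bwd (nat_lit 1) (Steps.bwd (nat_lit 2) (Steps.fwd (nat_lit 8192) (Steps.bwd (nat_lit 2) (Steps.bwd (nat_lit 1) (Steps.bwd (nat_lit 3) (Steps.bwd (nat_lit 1) (Steps.fwd (nat_lit 16384) (Steps.bwd (nat_lit 1) (Steps.bwd (nat_lit 4) (Steps.fwd (nat_lit 24576) Steps.nil))))))))))) (nat_lit 194) (nat_lit 1),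
  Rule.mk (nat_lit 16) (nat_lit 179) (Steps.bwd (nat_lit 1) (Steps.bwd (nat_lit 3) (Steps.bwd (nat_lit 1) (Steps.fwd (nat_lit 16384) (Steps.fwd (nat_lit 8192) (Steps.fwd (nat_lit 16384) (Steps.fwd (nat_lit 8192) (Steps.bwd (nat_lit 2) (Steps.fwd (nat_lit 32768) (Steps.bwd (nat_lit 1) (Steps.bwd (nat_lit 2) Steps.nil))))))))))) (nat_lit 190) (nat_lit 1),
  Rule.mk (nat_lit 1) (nat_lit 179) (Steps.bwd (nat_lit 3) (Steps.bwd (nat_lit 1) (Steps.bwd (nat_lit 3) (Steps.fwd (nat_lit 8192) (Steps.bwd (nat_lit 3) (Steps.bwd (nat_lit 1) (Steps.bwd (nat_lit 2) (Steps.bwd (nat_lit 4) (Steps.bwd (nat_lit 1) (Steps.fwd (nat_lit 24576) (Steps.fwd (nat_lit 122880) Steps.nil))))))))))) (nat_lit 190) (nat_lit 2),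
  Rule.mk (nat_lit 0) (nat_lit 194) (Steps.bwd (nat_lit 15) (Steps.bwd (nat_lit 3) (Steps.fwd (nat_lit 8192) (Steps.fwd (nat_lit 32768) (Steps.fwd (nat_lit 16384) (Steps.fwd (nat_lit 8192) (Steps.bwd (nat_lit 2) (Steps.bwd (nat_lit 1) (Steps.fwd (nat_lit 24576) (Steps.bwd (nat_lit 1) (Steps.bwd (nat_lit 2) (Steps.fwd (nat_lit 8192) Steps.nil)))))))))))) (nat_lit 191) (nat_lit 11),
  Rule.mk (nat_lit 15) (nat_lit 179) (Steps.fwd (nat_lit 16384) (Steps.fwd (nat_lit 8192) (Steps.fwd (nat_lit 32768) (Steps.bwd (nat_lit 3) (Steps.bwd (nat_lit 1) (Steps.bwd (nat_lit 2) (Steps.fwd (nat_lit 8192) (Steps.bwd (nat_lit 2) (Steps.fwd (nat_lit 8192) (Steps.fwd (nat_lit 24576) (Steps.fwd (nat_lit 8192) Steps.nil))))))))))) (nat_lit 191) (nat_lit 0),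
  Rule.mk (nat_lit 0) (nat_lit 194) (Steps.bwd (nat_lit 17) (Steps.fwd (nat_lit 24576) (Steps.bwd (nat_lit 1) (Steps.bwd (nat_lit 2) (Steps.fwd (nat_lit 8192) (Steps.bwd (nat_lit 3) (Steps.fwd (nat_lit 8192) (Steps.fwd (nat_lit 16384) (Steps.fwd (nat_lit 8192) (Steps.fwd (nat_lit 32768) (Steps.bwd (nat_lit 2) (Steps.fwd (nat_lit 8192) Steps.nil)))))))))))) (nat_lit 193) (nat_lit 11),
  Rule.mk (nat_lit 20) (nat_lit 179) (Steps.bwd (nat_lit 1) (Steps.fwd (nat_lit 24576) (Steps.bwd (nat_lit 1) (Steps.bwd (nat_lit 2) (Steps.fwd (nat_lit 8192) (Steps.bwd (nat_lit 3) (Steps.fwd (nat_lit 8192) (Steps.fwd (nat_lit 16384) (Steps.fwd (nat_lit 8192) (Steps.fwd (nat_lit 32768) (Steps.bwd (nat_lit 2) Steps.nil))))))))))) (nat_lit 194) (nat_lit 1),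
  Rule.mk (nat_lit 11) (nat_lit 104) (Steps.bwd (nat_lit 1) (Steps.bwd (nat_lit 6) (Steps.fwd (nat_lit 90112) (Steps.fwd (nat_lit 98304) (Steps.fwd (nat_lit 114688) (Steps.bwd (nat_lit 1) Steps.nil)))))) (nat_lit 160) (nat_lit 2),
  Rule.mk (nat_lit 12) (nat_lit 164) (Steps.bwd (nat_lit 1) (Steps.fwd (nat_lit 32768) (Steps.fwd (nat_lit 40960) (Steps.fwd (nat_lit 65536) (Steps.bwd (nat_lit 9) (Steps.bwd (nat_lit 10) (Steps.bwd (nat_lit 11) (Steps.bwd (nat_lit 12) (Steps.bwd (nat_lit 14) (Steps.bwd (nat_lit 1) Steps.nil)))))))))) (nat_lit 162) (nat_lit 2),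
  Rule.mk (nat_lit 18) (nat_lit 179) (Steps.fwd (nat_lit 8192) (Steps.fwd (nat_lit 16384) (Steps.bwd (nat_lit 4) (Steps.bwd (nat_lit 1) (Steps.fwd (nat_lit 24576) (Steps.fwd (nat_lit 8192) (Steps.fwd (nat_lit 24576) (Steps.bwd (nat_lit 1) (Steps.fwd (nat_lit 16384) (Steps.fwd (nat_lit 8192) (Steps.fwd (nat_lit 16384) Steps.nil))))))))))) (nat_lit 192) (nat_lit 1),
  Rule.mk (nat_lit 20) (nat_lit 179) (Steps.bwd (nat_lit 1) (Steps.fwd (nat_lit 24576) (Steps.fwd (nat_lit 8192) (Steps.fwd (nat_lit 24576) (Steps.bwd (nat_lit 1) (Steps.fwd (nat_lit 16384) (Steps.fwd (nat_lit 8192) (Steps.fwd (nat_lit 16384) (Steps.bwd (nat_lit 1) (Steps.bwd (nat_lit 4) (Steps.bwd (nat_lit 2) Steps.nil))))))))))) (nat_lit 194) (nat_lit 1),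
  Rule.mk (nat_lit 19) (nat_lit 179) (Steps.fwd (nat_lit 16384) (Steps.bwd (nat_lit 4) (Steps.bwd (nat_lit 1) (Steps.fwd (nat_lit 24576) (Steps.fwd (nat_lit 8192) (Steps.fwd (nat_lit 24576) (Steps.bwd (nat_lit 1) (Steps.fwd (nat_lit 16384) (Steps.fwd (nat_lit 8192) (Steps.fwd (nat_lit 16384) (Steps.bwd (nat_lit 1) Steps.nil))))))))))) (nat_lit 195) (nat_lit 0),
  Rule.mk (nat_lit 0) (nat_lit 194) (Steps.bwd (nat_lit 16) (Steps.fwd (nat_lit 8192) (Steps.bwd (nat_lit 3) (Steps.fwd (nat_lit 8192) (Steps.bwd (nat_lit 3) (Steps.bwd (nat_lit 1) (Steps.bwd (nat_lit 3) (Steps.fwd (nat_lit 8192) (Steps.bwd (nat_lit 2) (Steps.bwd (nat_lit 4) (Steps.bwd (nat_lit 1) (Steps.bwd (nat_lit 2) Steps.nil)))))))))))) (nat_lit 190) (nat_lit 0),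
  Rule.mk (nat_lit 15) (nat_lit 179) (Steps.fwd (nat_lit 16384) (Steps.fwd (nat_lit 8192) (Steps.bwd (nat_lit 4) (Steps.fwd (nat_lit 16384) (Steps.bwd (nat_lit 1) (Steps.fwd (nat_lit 24576) (Steps.fwd (nat_lit 8192) (Steps.fwd (nat_lit 24576) (Steps.fwd (nat_lit 8192) (Steps.bwd (nat_lit 2) (Steps.bwd (nat_lit 1) Steps.nil))))))))))) (nat_lit 191) (nat_lit 0),
  Rule.mk (nat_lit 17) (nat_lit 179) (Steps.bwd (nat_lit 2) (Steps.bwd (nat_lit 1) (Steps.bwd (nat_lit 2) (Steps.fwd (nat_lit 8192) (Steps.bwd (nat_lit 3) (Steps.bwd (nat_lit 1) (Steps.bwd (nat_lit 3) (Steps.fwd (nat_lit 8192) (Steps.bwd (nat_lit 4) (Steps.bwd (nat_lit 2) (Steps.bwd (nat_lit 1) Steps.nil))))))))))) (nat_lit 193) (nat_lit 0),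
  Rule.mk (nat_lit 0) (nat_lit 194) (Steps.fwd (nat_lit 8192) (Steps.bwd (nat_lit 2) (Steps.bwd (nat_lit 1) (Steps.bwd (nat_lit 2) (Steps.fwd (nat_lit 8192) (Steps.bwd (nat_lit 3) (Steps.bwd (nat_lit 1) (Steps.bwd (nat_lit 3) (Steps.fwd (nat_lit 8192) (Steps.bwd (nat_lit 4) (Steps.bwd (nat_lit 2) (Steps.fwd (nat_lit 155648) Steps.nil)))))))))))) (nat_lit 194) (nat_lit 1),
  Rule.mk (nat_lit 3) (nat_lit 179) (Steps.bwd (nat_lit 4) (Steps.fwd (nat_lit 8192) (Steps.bwd (nat_lit 2) (Steps.bwd (nat_lit 1) (Steps.bwd (nat_lit 2) (Steps.fwd (nat_lit 8192) (Steps.bwd (nat_lit 3) (Steps.bwd (nat_lit 1) (Steps.bwd (nat_lit 3) (Steps.fwd (nat_lit 8192) (Steps.fwd (nat_lit 163840) Steps.nil))))))))))) (nat_lit 195) (nat_lit 1),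
  Rule.mk (nat_lit 9) (nat_lit 134) (Steps.bwd (nat_lit 3) (Steps.bwd (nat_lit 4) (Steps.fwd (nat_lit 40960) (Steps.bwd (nat_lit 8) (Steps.fwd (nat_lit 73728) (Steps.bwd (nat_lit 11) (Steps.bwd (nat_lit 14) (Steps.bwd (nat_lit 2) Steps.nil)))))))) (nat_lit 178) (nat_lit 2),
  Rule.mk (nat_lit 1) (nat_lit 179) (Steps.bwd (nat_lit 3) (Steps.bwd (nat_lit 4) (Steps.fwd (nat_lit 8192) (Steps.bwd (nat_lit 2) (Steps.bwd (nat_lit 1) (Steps.bwd (nat_lit 2) (Steps.fwd (nat_lit 8192) (Steps.bwd (nat_lit 3) (Steps.bwd (nat_lit 1) (Steps.bwd (nat_lit 3) (Steps.fwd (nat_lit 139264) Steps.nil))))))))))) (nat_lit 192) (nat_lit 2),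
  Rule.mk (nat_lit 0) (nat_lit 554) (Steps.bwd (nat_lit 1) (Steps.bwd (nat_lit 3) (Steps.bwd (nat_lit 1) (Steps.bwd (nat_lit 3) (Steps.fwd (nat_lit 8192) (Steps.bwd (nat_lit 2) (Steps.fwd (nat_lit 8192) (Steps.bwd (nat_lit 3) (Steps.bwd (nat_lit 1) (Steps.bwd (nat_lit 3) (Steps.fwd (nat_lit 8192) (Steps.bwd (nat_lit 2) (Steps.fwd (nat_lit 8192) (Steps.fwd (nat_lit 16384) (Steps.bwd (nat_lit 1) (Steps.bwd (nat_lit 3) (Steps.fwd (nat_lit 8192) (Steps.fwd (nat_lit 24576) (Steps.fwd (nat_lit 8192) (Steps.bwd (nat_lit 2) (Steps.bwd (nat_lit 1) (Steps.bwd (nat_lit 3) (Steps.bwd (nat_lit 1) (Steps.bwd (nat_lit 2) (Steps.fwd (nat_lit 8192) (Steps.fwd (nat_lit 24576) (Steps.fwd (nat_lit 8192) (Steps.fwd (nat_lit 16384) (Steps.bwd (nat_lit 1) (Steps.bwd (nat_lit 2) (Steps.fwd (nat_lit 8192) (Steps.fwd (nat_lit 24576) (Steps.bwd (nat_lit 1) (Steps.fwd (nat_lit 16384) (Steps.fwd (nat_lit 8192) (Steps.fwd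 (nat_lit 24576) Steps.nil)))))))))))))))))))))))))))))))))))) (nat_lit 12) (nat_lit 20),
  Rule.mk (nat_lit 6) (nat_lit 104) (Steps.bwd (nat_lit 1) (Steps.fwd (nat_lit 90112) (Steps.bwd (nat_lit 1) (Steps.fwd (nat_lit 114688) (Steps.bwd (nat_lit 12) (Steps.bwd (nat_lit 11) Steps.nil)))))) (nat_lit 161) (nat_lit 4),
  Rule.mk (nat_lit 16) (nat_lit 179) (Steps.bwd (nat_lit 1) (Steps.bwd (nat_lit 3) (Steps.bwd (nat_lit 1) (Steps.fwd (nat_lit 16384) (Steps.bwd (nat_lit 1) (Steps.fwd (nat_lit 16384) (Steps.fwd (nat_lit 8192) (Steps.bwd (nat_lit 2) (Steps.fwd (nat_lit 32768) (Steps.fwd (nat_lit 8192) (Steps.bwd (nat_lit 2) Steps.nil))))))))))) (nat_lit 190) (nat_lit 1),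
  Rule.mk (nat_lit 15) (nat_lit 179) (Steps.fwd (nat_lit 16384) (Steps.bwd (nat_lit 1) (Steps.bwd (nat_lit 4) (Steps.fwd (nat_lit 16384) (Steps.fwd (nat_lit 8192) (Steps.fwd (nat_lit 24576) (Steps.bwd (nat_lit 1) (Steps.fwd (nat_lit 24576) (Steps.fwd (nat_lit 8192) (Steps.fwd (nat_lit 24576) (Steps.bwd (nat_lit 1) Steps.nil))))))))))) (nat_lit 191) (nat_lit 0),
  Rule.mk (nat_lit 0) (nat_lit 194) (Steps.bwd (nat_lit 15) (Steps.bwd (nat_lit 3) (Steps.fwd (nat_lit 8192) (Steps.fwd (nat_lit 32768) (Steps.fwd (nat_lit 16384) (Steps.bwd (nat_lit 1) (Steps.fwd (nat_lit 24576) (Steps.fwd (nat_lit 8192) (Steps.fwd (nat_lit 24576) (Steps.bwd (nat_lit 1) (Steps.fwd (nat_lit 24576) (Steps.bwd (nat_lit 1) Steps.nil)))))))))))) (nat_lit 191) (nat_lit 11),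
  Rule.mk (nat_lit 3) (nat_lit 179) (Steps.bwd (nat_lit 1) (Steps.bwd (nat_lit 4) (Steps.fwd (nat_lit 16384) (Steps.bwd (nat_lit 1) (Steps.fwd (nat_lit 24576) (Steps.bwd (nat_lit 1) (Steps.bwd (nat_lit 2) (Steps.fwd (nat_lit 8192) (Steps.bwd (nat_lit 2) (Steps.fwd (nat_lit 8192) (Steps.fwd (nat_lit 131072) Steps.nil))))))))))) (nat_lit 191) (nat_lit 1),
  Rule.mk (nat_lit 0) (nat_lit 194) (Steps.bwd (nat_lit 18) (Steps.fwd (nat_lit 8192) (Steps.bwd (nat_lit 3) (Steps.bwd (nat_lit 4) (Steps.bwd (nat_lit 1) (Steps.fwd (nat_lit 24576) (Steps.fwd (nat_lit 8192) (Steps.fwd (nat_lit 24576) (Steps.bwd (nat_lit 1) (Steps.bwd (nat_lit 3) (Steps.bwd (nat_lit 1) (Steps.fwd (nat_lit 16384) Steps.nil)))))))))))) (nat_lit 192) (nat_lit 0),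
  Rule.mk (nat_lit 18) (nat_lit 179) (Steps.fwd (nat_lit 8192) (Steps.bwd (nat_lit 3) (Steps.bwd (nat_lit 4) (Steps.bwd (nat_lit 1) (Steps.fwd (nat_lit 24576) (Steps.bwd (nat_lit 1) (Steps.fwd (nat_lit 24576) (Steps.fwd (nat_lit 8192) (Steps.bwd (nat_lit 3) (Steps.fwd (nat_lit 8192) (Steps.bwd (nat_lit 3) Steps.nil))))))))))) (nat_lit 192) (nat_lit 1),
  Rule.mk (nat_lit 18) (nat_lit 179) (Steps.bwd (nat_lit 1) (Steps.bwd (nat_lit 3) (Steps.fwd (nat_lit 32768) (Steps.bwd (nat_lit 1) (Steps.fwd (nat_lit 24576) (Steps.bwd (nat_lit 1) (Steps.bwd (nat_lit 2) (Steps.fwd (nat_lit 8192) (Steps.fwd (nat_lit 16384) (Steps.bwd (nat_lit 1) (Steps.fwd (nat_lit 16384) Steps.nil))))))))))) (nat_lit 192) (nat_lit 1),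
  Rule.mk (nat_lit 17) (nat_lit 179) (Steps.fwd (nat_lit 24576) (Steps.fwd (nat_lit 8192) (Steps.fwd (nat_lit 24576) (Steps.bwd (nat_lit 1) (Steps.bwd (nat_lit 3) (Steps.bwd (nat_lit 1) (Steps.fwd (nat_lit 16384) (Steps.bwd (nat_lit 1) (Steps.bwd (nat_lit 4) (Steps.bwd (nat_lit 2) (Steps.bwd (nat_lit 1) Steps.nil))))))))))) (nat_lit 193) (nat_lit 0),
  Rule.mk (nat_lit 20) (nat_lit 179) (Steps.bwd (nat_lit 1) (Steps.fwd (nat_lit 24576) (Steps.fwd (nat_lit 8192) (Steps.fwd (nat_lit 24576) (Steps.bwd (nat_lit 1) (Steps.bwd (nat_lit 3) (Steps.bwd (nat_lit 1) (Steps.fwd (nat_lit 16384) (Steps.bwd (nat_lit 1) (Steps.bwd (nat_lit 4) (Steps.bwd (nat_lit 2) Steps.nil))))))))))) (nat_lit 194) (nat_lit 1),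
  Rule.mk (nat_lit 20) (nat_lit 179) (Steps.bwd (nat_lit 1) (Steps.fwd (nat_lit 24576) (Steps.bwd (nat_lit 1) (Steps.fwd (nat_lit 24576) (Steps.fwd (nat_lit 8192) (Steps.bwd (nat_lit 3) (Steps.fwd (nat_lit 8192) (Steps.bwd (nat_lit 3) (Steps.bwd (nat_lit 1) (Steps.fwd (nat_lit 32768) (Steps.fwd (nat_lit 24576) Steps.nil))))))))))) (nat_lit 194) (nat_lit 1),
  Rule.mk (nat_lit 0) (nat_lit 194) (Steps.bwd (nat_lit 19) (Steps.bwd (nat_lit 3) (Steps.bwd (nat_lit 4) (Steps.bwd (nat_lit 1) (Steps.fwd (nat_lit 24576) (Steps.fwd (nat_lit 8192) (Steps.fwd (nat_lit 24576) (Steps.bwd (nat_lit 1) (Steps.bwd (nat_lit 3) (Steps.bwd (nat_lit 1) (Steps.fwd (nat_lit 16384) (Steps.bwd (nat_lit 1) Steps.nil)))))))))))) (nat_lit 195) (nat_lit 11),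
  Rule.mk (nat_lit 19) (nat_lit 179) (Steps.bwd (nat_lit 3) (Steps.bwd (nat_lit 4) (Steps.bwd (nat_lit 1) (Steps.fwd (nat_lit 24576) (Steps.bwd (nat_lit 1) (Steps.fwd (nat_lit 24576) (Steps.fwd (nat_lit 8192) (Steps.bwd (nat_lit 3) (Steps.fwd (nat_lit 8192) (Steps.bwd (nat_lit 3) (Steps.bwd (nat_lit 1) Steps.nil))))))))))) (nat_lit 195) (nat_lit 0),
  Rule.mk (nat_lit 1) (nat_lit 179) (Steps.bwd (nat_lit 15) (Steps.bwd (nat_lit 3) (Steps.fwd (nat_lit 8192) (Steps.fwd (nat_lit 32768) (Steps.bwd (nat_lit 3) (Steps.fwd (nat_lit 8192) (Steps.bwd (nat_lit 2) (Steps.fwd (nat_lit 8192) (Steps.fwd (nat_lit 24576) (Steps.fwd (nat_lit 8192) (Steps.fwd (nat_lit 24576) Steps.nil))))))))))) (nat_lit 191) (nat_lit 11),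
  Rule.mk (nat_lit 3) (nat_lit 539) (Steps.bwd (nat_lit 1) (Steps.fwd (nat_lit 16384) (Steps.bwd (nat_lit 1) (Steps.bwd (nat_lit 2) (Steps.fwd (nat_lit 8192) (Steps.bwd (nat_lit 2) (Steps.fwd (nat_lit 8192) (Steps.fwd (nat_lit 16384) (Steps.bwd (nat_lit 1) (Steps.fwd (nat_lit 24576) (Steps.fwd (nat_lit 8192) (Steps.bwd (nat_lit 2) (Steps.fwd (nat_lit 8192) (Steps.fwd (nat_lit 16384) (Steps.bwd (nat_lit 1) (Steps.fwd (nat_lit 24576) (Steps.bwd (nat_lit 1) (Steps.bwd (nat_lit 2) (Steps.bwd (nat_lit 1) (Steps.fwd (nat_lit 16384) (Steps.fwd (nat_lit 8192) (Steps.fwd (nat_lit 24576) (Steps.fwd (nat_lit 8192) (Steps.bwd (nat_lit 3) (Steps.fwd (nat_lit 8192) (Steps.bwd (nat_lit 3) (Steps.bwd (nat_lit 1) (Steps.fwd (nat_lit 24576) (Steps.bwd (nat_lit 1) (Steps.bwd (nat_lit 3) (Steps.fwd (nat_lit 8192) (Steps.bwd (nat_lit 3) (Steps.fwd (nat_lit 8192) (Steps.fwd (nat_lit 24576) (Steps.bwd (nat_lit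 1) Steps.nil))))))))))))))))))))))))))))))))))) (nat_lit 12) (nat_lit 34),
  Rule.mk (nat_lit 10) (nat_lit 104) (Steps.bwd (nat_lit 3) (Steps.fwd (nat_lit 114688) (Steps.fwd (nat_lit 98304) (Steps.bwd (nat_lit 11) (Steps.bwd (nat_lit 6) (Steps.fwd (nat_lit 24576) Steps.nil)))))) (nat_lit 181) (nat_lit 6),
  Rule.mk (nat_lit 5) (nat_lit 149) (Steps.bwd (nat_lit 3) (Steps.bwd (nat_lit 4) (Steps.fwd (nat_lit 40960) (Steps.fwd (nat_lit 65536) (Steps.fwd (nat_lit 73728) (Steps.fwd (nat_lit 98304) (Steps.bwd (nat_lit 13) (Steps.bwd (nat_lit 14) (Steps.fwd (nat_lit 24576) Steps.nil))))))))) (nat_lit 170) (nat_lit 2),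
  Rule.mk (nat_lit 6) (nat_lit 164) (Steps.bwd (nat_lit 3) (Steps.fwd (nat_lit 40960) (Steps.fwd (nat_lit 49152) (Steps.fwd (nat_lit 73728) (Steps.bwd (nat_lit 10) (Steps.fwd (nat_lit 90112) (Steps.fwd (nat_lit 98304) (Steps.bwd (nat_lit 13) (Steps.bwd (nat_lit 14) (Steps.fwd (nat_lit 24576) Steps.nil)))))))))) (nat_lit 172) (nat_lit 2),
  Rule.mk (nat_lit 11) (nat_lit 164) (Steps.bwd (nat_lit 3) (Steps.bwd (nat_lit 4) (Steps.fwd (nat_lit 40960) (Steps.fwd (nat_lit 65536) (Steps.fwd (nat_lit 73728) (Steps.bwd (nat_lit 10) (Steps.fwd (nat_lit 90112) (Steps.fwd (nat_lit 98304) (Steps.bwd (nat_lit 14) (Steps.fwd (nat_lit 24576) Steps.nil)))))))))) (nat_lit 182) (nat_lit 2),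
  Rule.mk (nat_lit 16) (nat_lit 179) (Steps.bwd (nat_lit 1) (Steps.bwd (nat_lit 3) (Steps.bwd (nat_lit 1) (Steps.fwd (nat_lit 16384) (Steps.bwd (nat_lit 1) (Steps.fwd (nat_lit 16384) (Steps.fwd (nat_lit 8192) (Steps.bwd (nat_lit 2) (Steps.bwd (nat_lit 4) (Steps.fwd (nat_lit 8192) (Steps.bwd (nat_lit 2) Steps.nil))))))))))) (nat_lit 190) (nat_lit 1),
  Rule.mk (nat_lit 0) (nat_lit 194) (Steps.bwd (nat_lit 15) (Steps.fwd (nat_lit 16384) (Steps.fwd (nat_lit 8192) (Steps.bwd (nat_lit 4) (Steps.bwd (nat_lit 3) (Steps.bwd (nat_lit 1) (Steps.fwd (nat_lit 24576) (Steps.bwd (nat_lit 1) (Steps.fwd (nat_lit 24576) (Steps.bwd (nat_lit 1) (Steps.bwd (nat_lit 2) (Steps.fwd (nat_lit 8192) Steps.nil)))))))))))) (nat_lit 191) (nat_lit 11),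
  Rule.mk (nat_lit 15) (nat_lit 179) (Steps.bwd (nat_lit 3) (Steps.bwd (nat_lit 1) (Steps.fwd (nat_lit 32768) (Steps.bwd (nat_lit 3) (Steps.fwd (nat_lit 8192) (Steps.bwd (nat_lit 2) (Steps.bwd (nat_lit 1) (Steps.bwd (nat_lit 2) (Steps.fwd (nat_lit 8192) (Steps.fwd (nat_lit 24576) (Steps.bwd (nat_lit 1) Steps.nil))))))))))) (nat_lit 191) (nat_lit 0),
  Rule.mk (nat_lit 0) (nat_lit 194) (Steps.bwd (nat_lit 1) (Steps.bwd (nat_lit 3) (Steps.bwd (nat_lit 4) (Steps.fwd (nat_lit 8192) (Steps.fwd (nat_lit 24576) (Steps.bwd (nat_lit 1) (Steps.bwd (nat_lit 2) (Steps.fwd (nat_lit 8192) (Steps.bwd (nat_lit 3) (Steps.bwd (nat_lit 1) (Steps.fwd (nat_lit 16384) (Steps.fwd (nat_lit 139264) Steps.nil)))))))))))) (nat_lit 192) (nat_lit 1),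
  Rule.mk (nat_lit 17) (nat_lit 179) (Steps.fwd (nat_lit 24576) (Steps.fwd (nat_lit 8192) (Steps.bwd (nat_lit 2) (Steps.fwd (nat_lit 8192) (Steps.bwd (nat_lit 3) (Steps.bwd (nat_lit 1) (Steps.fwd (nat_lit 16384) (Steps.bwd (nat_lit 1) (Steps.bwd (nat_lit 4) (Steps.fwd (nat_lit 24576) (Steps.bwd (nat_lit 1) Steps.nil))))))))))) (nat_lit 193) (nat_lit 0),
  Rule.mk (nat_lit 0) (nat_lit 194) (Steps.bwd (nat_lit 20) (Steps.fwd (nat_lit 8192) (Steps.fwd (nat_lit 24576) (Steps.fwd (nat_lit 8192) (Steps.bwd (nat_lit 2) (Steps.fwd (nat_lit 8192) (Steps.bwd (nat_lit 3) (Steps.bwd (nat_lit 1) (Steps.fwd (nat_lit 16384) (Steps.bwd (nat_lit 1) (Steps.bwd (nat_lit 4) (Steps.fwd (nat_lit 24576) Steps.nil)))))))))))) (nat_lit 194) (nat_lit 0),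
  Rule.mk (nat_lit 19) (nat_lit 179) (Steps.bwd (nat_lit 3) (Steps.bwd (nat_lit 4) (Steps.fwd (nat_lit 8192) (Steps.fwd (nat_lit 24576) (Steps.fwd (nat_lit 8192) (Steps.bwd (nat_lit 2) (Steps.fwd (nat_lit 8192) (Steps.bwd (nat_lit 3) (Steps.bwd (nat_lit 1) (Steps.fwd (nat_lit 16384) (Steps.bwd (nat_lit 1) Steps.nil))))))))))) (nat_lit 195) (nat_lit 0)]
noncomputable def R_74 : List (Rule) := [Rule.mk (nat_lit 19) (nat_lit 179) (Steps.bwd (nat_lit 3) (Steps.bwd (nat_lit 4) (Steps.fwd (nat_lit 8192) (Steps.fwd (nat_lit 24576) (Steps.bwd (nat_lit 1) (Steps.bwd (nat_lit 2) (Steps.fwd (nat_lit 8192) (Steps.bwd (nat_lit 3) (Steps.bwd (nat_lit 1) (Steps.fwd (nat_lit 16384) (Steps.bwd (nat_lit 1) Steps.nil))))))))))) (nat_lit 195) (nat_lit 0),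
  Rule.mk (nat_lit 8) (nat_lit 89) (Steps.fwd (nat_lit 16384) (Steps.fwd (nat_lit 114688) (Steps.fwd (nat_lit 57344) (Steps.bwd (nat_lit 4) (Steps.bwd (nat_lit 2) Steps.nil))))) (nat_lit 177) (nat_lit 5),
  Rule.mk (nat_lit 13) (nat_lit 134) (Steps.fwd (nat_lit 16384) (Steps.fwd (nat_lit 114688) (Steps.bwd (nat_lit 13) (Steps.bwd (nat_lit 12) (Steps.bwd (nat_lit 11) (Steps.fwd (nat_lit 81920) (Steps.bwd (nat_lit 6) (Steps.bwd (nat_lit 2) Steps.nil)))))))) (nat_lit 187) (nat_lit 8),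
  Rule.mk (nat_lit 17) (nat_lit 179) (Steps.fwd (nat_lit 24576) (Steps.fwd (nat_lit 8192) (Steps.bwd (nat_lit 2) (Steps.fwd (nat_lit 8192) (Steps.bwd (nat_lit 3) (Steps.fwd (nat_lit 8192) (Steps.bwd (nat_lit 3) (Steps.bwd (nat_lit 1) (Steps.bwd (nat_lit 4) (Steps.bwd (nat_lit 2) (Steps.fwd (nat_lit 8192) Steps.nil))))))))))) (nat_lit 193) (nat_lit 0),
  Rule.mk (nat_lit 0) (nat_lit 194) (Steps.bwd (nat_lit 20) (Steps.fwd (nat_lit 8192) (Steps.fwd (nat_lit 24576) (Steps.fwd (nat_lit 8192) (Steps.bwd (nat_lit 2) (Steps.fwd (nat_lit 8192) (Steps.bwd (nat_lit 3) (Steps.fwd (nat_lit 8192) (Steps.bwd (nat_lit 3) (Steps.bwd (nat_lit 1) (Steps.bwd (nat_lit 4) (Steps.bwd (nat_lit 2) Steps.nil)))))))))))) (nat_lit 194) (nat_lit 0),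
  Rule.mk (nat_lit 16) (nat_lit 179) (Steps.bwd (nat_lit 1) (Steps.fwd (nat_lit 16384) (Steps.bwd (nat_lit 1) (Steps.fwd (nat_lit 16384) (Steps.fwd (nat_lit 8192) (Steps.bwd (nat_lit 3) (Steps.bwd (nat_lit 1) (Steps.bwd (nat_lit 2) (Steps.bwd (nat_lit 4) (Steps.bwd (nat_lit 1) (Steps.bwd (nat_lit 2) Steps.nil))))))))))) (nat_lit 190) (nat_lit 1),
  Rule.mk (nat_lit 15) (nat_lit 179) (Steps.fwd (nat_lit 16384) (Steps.fwd (nat_lit 8192) (Steps.bwd (nat_lit 4) (Steps.fwd (nat_lit 16384) (Steps.fwd (nat_lit 8192) (Steps.bwd (nat_lit 2) (Steps.fwd (nat_lit 8192) (Steps.fwd (nat_lit 24576) (Steps.bwd (nat_lit 1) (Steps.bwd (nat_lit 2) (Steps.bwd (nat_lit 1) Steps.nil))))))))))) (nat_lit 191) (nat_lit 0),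
  Rule.mk (nat_lit 0) (nat_lit 194) (Steps.fwd (nat_lit 24576) (Steps.bwd (nat_lit 1) (Steps.fwd (nat_lit 24576) (Steps.fwd (nat_lit 8192) (Steps.fwd (nat_lit 16384) (Steps.fwd (nat_lit 8192) (Steps.bwd (nat_lit 3) (Steps.bwd (nat_lit 1) (Steps.fwd (nat_lit 32768) (Steps.fwd (nat_lit 24576) (Steps.bwd (nat_lit 1) (Steps.fwd (nat_lit 147456) Steps.nil)))))))))))) (nat_lit 193) (nat_lit 0),
  Rule.mk (nat_lit 0) (nat_lit 194) (Steps.bwd (nat_lit 20) (Steps.fwd (nat_lit 8192) (Steps.fwd (nat_lit 24576) (Steps.bwd (nat_lit 1) (Steps.bwd (nat_lit 2) (Steps.bwd (nat_lit 1) (Steps.bwd (nat_lit 3) (Steps.fwd (nat_lit 8192) (Steps.bwd (nat_lit 3) (Steps.fwd (nat_lit 8192) (Steps.fwd (nat_lit 32768) (Steps.bwd (nat_lit 2) Steps.nil)))))))))))) (nat_lit 194) (nat_lit 0),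
  Rule.mk (nat_lit 19) (nat_lit 179) (Steps.bwd (nat_lit 3) (Steps.bwd (nat_lit 4) (Steps.fwd (nat_lit 8192) (Steps.fwd (nat_lit 24576) (Steps.bwd (nat_lit 1) (Steps.bwd (nat_lit 2) (Steps.bwd (nat_lit 1) (Steps.bwd (nat_lit 3) (Steps.fwd (nat_lit 8192) (Steps.bwd (nat_lit 3) (Steps.fwd (nat_lit 8192) Steps.nil))))))))))) (nat_lit 195) (nat_lit 0),
  Rule.mk (nat_lit 16) (nat_lit 179) (Steps.bwd (nat_lit 1) (Steps.fwd (nat_lit 16384) (Steps.bwd (nat_lit 1) (Steps.bwd (nat_lit 3) (Steps.bwd (nat_lit 1) (Steps.fwd (nat_lit 16384) (Steps.bwd (nat_lit 1) (Steps.bwd (nat_lit 2) (Steps.fwd (nat_lit 32768) (Steps.fwd (nat_lit 8192) (Steps.bwd (nat_lit 2) Steps.nil))))))))))) (nat_lit 190) (nat_lit 1),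
  Rule.mk (nat_lit 15) (nat_lit 179) (Steps.bwd (nat_lit 3) (Steps.fwd (nat_lit 8192) (Steps.fwd (nat_lit 32768) (Steps.fwd (nat_lit 16384) (Steps.bwd (nat_lit 1) (Steps.bwd (nat_lit 2) (Steps.fwd (nat_lit 8192) (Steps.fwd (nat_lit 24576) (Steps.fwd (nat_lit 8192) (Steps.fwd (nat_lit 24576) (Steps.fwd (nat_lit 8192) Steps.nil))))))))))) (nat_lit 191) (nat_lit 0),
  Rule.mk (nat_lit 18) (nat_lit 179) (Steps.fwd (nat_lit 8192) (Steps.fwd (nat_lit 16384) (Steps.fwd (nat_lit 32768) (Steps.bwd (nat_lit 1) (Steps.bwd (nat_lit 2) (Steps.fwd (nat_lit 8192) (Steps.fwd (nat_lit 24576) (Steps.fwd (nat_lit 8192) (Steps.bwd (nat_lit 3) (Steps.bwd (nat_lit 1) (Steps.fwd (nat_lit 16384) Steps.nil))))))))))) (nat_lit 192) (nat_lit 1),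
  Rule.mk (nat_lit 0) (nat_lit 194) (Steps.bwd (nat_lit 1) (Steps.fwd (nat_lit 16384) (Steps.bwd (nat_lit 4) (Steps.bwd (nat_lit 1) (Steps.fwd (nat_lit 24576) (Steps.bwd (nat_lit 1) (Steps.bwd (nat_lit 2) (Steps.fwd (nat_lit 8192) (Steps.bwd (nat_lit 3) (Steps.bwd (nat_lit 1) (Steps.bwd (nat_lit 3) (Steps.fwd (nat_lit 139264) Steps.nil)))))))))))) (nat_lit 192) (nat_lit 1),
  Rule.mk (nat_lit 17) (nat_lit 179) (Steps.fwd (nat_lit 24576) (Steps.bwd (nat_lit 1) (Steps.bwd (nat_lit 2) (Steps.bwd (nat_lit 1) (Steps.fwd (nat_lit 16384) (Steps.bwd (nat_lit 1) (Steps.fwd (nat_lit 16384) (Steps.bwd (nat_lit 1) (Steps.fwd (nat_lit 32768) (Steps.bwd (nat_lit 2) (Steps.fwd (nat_lit 8192) Steps.nil))))))))))) (nat_lit 193) (nat_lit 0),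
  Rule.mk (nat_lit 17) (nat_lit 179) (Steps.bwd (nat_lit 2) (Steps.bwd (nat_lit 1) (Steps.fwd (nat_lit 24576) (Steps.fwd (nat_lit 8192) (Steps.bwd (nat_lit 3) (Steps.bwd (nat_lit 1) (Steps.fwd (nat_lit 16384) (Steps.fwd (nat_lit 8192) (Steps.bwd (nat_lit 4) (Steps.bwd (nat_lit 2) (Steps.bwd (nat_lit 1) Steps.nil))))))))))) (nat_lit 193) (nat_lit 0),
  Rule.mk (nat_lit 0) (nat_lit 194) (Steps.bwd (nat_lit 20) (Steps.bwd (nat_lit 1) (Steps.fwd (nat_lit 24576) (Steps.fwd (nat_lit 8192) (Steps.fwd (nat_lit 24576) (Steps.bwd (nat_lit 1) (Steps.fwd (nat_lit 16384) (Steps.fwd (nat_lit 8192) (Steps.bwd (nat_lit 3) (Steps.fwd (nat_lit 8192) (Steps.fwd (nat_lit 32768) (Steps.bwd (nat_lit 2) Steps.nil)))))))))))) (nat_lit 194) (nat_lit 0),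
  Rule.mk (nat_lit 20) (nat_lit 179) (Steps.bwd (nat_lit 1) (Steps.bwd (nat_lit 2) (Steps.bwd (nat_lit 1) (Steps.fwd (nat_lit 24576) (Steps.fwd (nat_lit 8192) (Steps.bwd (nat_lit 3) (Steps.bwd (nat_lit 1) (Steps.fwd (nat_lit 16384) (Steps.fwd (nat_lit 8192) (Steps.bwd (nat_lit 4) (Steps.bwd (nat_lit 2) Steps.nil))))))))))) (nat_lit 194) (nat_lit 1),
  Rule.mk (nat_lit 0) (nat_lit 194) (Steps.bwd (nat_lit 19) (Steps.fwd (nat_lit 16384) (Steps.fwd (nat_lit 32768) (Steps.bwd (nat_lit 1) (Steps.bwd (nat_lit 2) (Steps.bwd (nat_lit 1) (Steps.fwd (nat_lit 24576) (Steps.fwd (nat_lit 8192) (Steps.bwd (nat_lit 3) (Steps.bwd (nat_lit 1) (Steps.fwd (nat_lit 16384) (Steps.fwd (nat_lit 8192) Steps.nil)))))))))))) (nat_lit 195) (nat_lit 11),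
  Rule.mk (nat_lit 14) (nat_lit 89) (Steps.bwd (nat_lit 2) (Steps.bwd (nat_lit 8) (Steps.fwd (nat_lit 16384) (Steps.bwd (nat_lit 4) (Steps.bwd (nat_lit 7) Steps.nil))))) (nat_lit 176) (nat_lit 0),
  Rule.mk (nat_lit 6) (nat_lit 134) (Steps.bwd (nat_lit 2) (Steps.fwd (nat_lit 106496) (Steps.fwd (nat_lit 16384) (Steps.fwd (nat_lit 114688) (Steps.fwd (nat_lit 106496) (Steps.bwd (nat_lit 12) (Steps.fwd (nat_lit 90112) (Steps.bwd (nat_lit 10) Steps.nil)))))))) (nat_lit 187) (nat_lit 6),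
  Rule.mk (nat_lit 1) (nat_lit 104) (Steps.fwd (nat_lit 90112) (Steps.bwd (nat_lit 1) (Steps.bwd (nat_lit 14) (Steps.bwd (nat_lit 12) (Steps.fwd (nat_lit 90112) (Steps.bwd (nat_lit 6) Steps.nil)))))) (nat_lit 161) (nat_lit 5),
  Rule.mk (nat_lit 7) (nat_lit 164) (Steps.bwd (nat_lit 1) (Steps.fwd (nat_lit 114688) (Steps.fwd (nat_lit 106496) (Steps.fwd (nat_lit 98304) (Steps.bwd (nat_lit 11) (Steps.bwd (nat_lit 10) (Steps.fwd (nat_lit 73728) (Steps.fwd (nat_lit 49152) (Steps.bwd (nat_lit 5) (Steps.bwd (nat_lit 1) Steps.nil)))))))))) (nat_lit 153) (nat_lit 10),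
  Rule.mk (nat_lit 13) (nat_lit 134) (Steps.bwd (nat_lit 3) (Steps.bwd (nat_lit 6) (Steps.bwd (nat_lit 10) (Steps.fwd (nat_lit 90112) (Steps.fwd (nat_lit 98304) (Steps.bwd (nat_lit 13) (Steps.bwd (nat_lit 14) (Steps.bwd (nat_lit 2) Steps.nil)))))))) (nat_lit 186) (nat_lit 2),
  Rule.mk (nat_lit 11) (nat_lit 164) (Steps.bwd (nat_lit 3) (Steps.bwd (nat_lit 4) (Steps.bwd (nat_lit 5) (Steps.fwd (nat_lit 65536) (Steps.bwd (nat_lit 9) (Steps.bwd (nat_lit 10) (Steps.fwd (nat_lit 90112) (Steps.fwd (nat_lit 98304) (Steps.fwd (nat_lit 114688) (Steps.bwd (nat_lit 2) Steps.nil)))))))))) (nat_lit 182) (nat_lit 2),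
  Rule.mk (nat_lit 15) (nat_lit 179) (Steps.fwd (nat_lit 16384) (Steps.bwd (nat_lit 1) (Steps.bwd (nat_lit 4) (Steps.bwd (nat_lit 3) (Steps.fwd (nat_lit 8192) (Steps.bwd (nat_lit 2) (Steps.bwd (nat_lit 1) (Steps.fwd (nat_lit 24576) (Steps.fwd (nat_lit 8192) (Steps.bwd (nat_lit 2) (Steps.fwd (nat_lit 8192) Steps.nil))))))))))) (nat_lit 191) (nat_lit 0),
  Rule.mk (nat_lit 19) (nat_lit 179) (Steps.bwd (nat_lit 3) (Steps.bwd (nat_lit 4) (Steps.fwd (nat_lit 8192) (Steps.fwd (nat_lit 24576) (Steps.fwd (nat_lit 8192) (Steps.fwd (nat_lit 24576) (Steps.bwd (nat_lit 1) (Steps.fwd (nat_lit 16384) (Steps.bwd (nat_lit 1) (Steps.fwd (nat_lit 16384) (Steps.bwd (nat_lit 1) Steps.nil))))))))))) (nat_lit 195) (nat_lit 0),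
  Rule.mk (nat_lit 1) (nat_lit 539) (Steps.bwd (nat_lit 3) (Steps.fwd (nat_lit 8192) (Steps.bwd (nat_lit 3) (Steps.bwd (nat_lit 1) (Steps.fwd (nat_lit 24576) (Steps.bwd (nat_lit 1) (Steps.bwd (nat_lit 3) (Steps.fwd (nat_lit 8192) (Steps.bwd (nat_lit 3) (Steps.bwd (nat_lit 1) (Steps.bwd (nat_lit 2) (Steps.fwd (nat_lit 8192) (Steps.bwd (nat_lit 3) (Steps.fwd (nat_lit 8192) (Steps.bwd (nat_lit 3) (Steps.fwd (nat_lit 8192) (Steps.fwd (nat_lit 24576) (Steps.fwd (nat_lit 8192) (Steps.bwd (nat_lit 2) (Steps.fwd (nat_lit 8192) (Steps.bwd (nat_lit 3) (Steps.bwd (nat_lit 1) (Steps.fwd (nat_lit 24576) (Steps.bwd (nat_lit 1) (Steps.bwd (nat_lit 2) (Steps.fwd (nat_lit 8192) (Steps.bwd (nat_lit 3) (Steps.bwd (nat_lit 1) (Steps.fwd (nat_lit 24576) (Steps.bwd (nat_lit 1) (Steps.bwd (nat_lit 2) (Steps.fwd (nat_lit 8192) (Steps.fwd (nat_lit 16384) (Steps.fwd (nat_lit 8192) (Steps.bwd (nat_lit 2) Steps.nil)))))))))))))))))))))))))))))))))))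 (nat_lit 12) (nat_lit 21),
  Rule.mk (nat_lit 10) (nat_lit 134) (Steps.bwd (nat_lit 1) (Steps.fwd (nat_lit 32768) (Steps.fwd (nat_lit 40960) (Steps.bwd (nat_lit 8) (Steps.fwd (nat_lit 73728) (Steps.bwd (nat_lit 11) (Steps.bwd (nat_lit 14) (Steps.bwd (nat_lit 1) Steps.nil)))))))) (nat_lit 158) (nat_lit 2),
  Rule.mk (nat_lit 16) (nat_lit 179) (Steps.fwd (nat_lit 8192) (Steps.bwd (nat_lit 3) (Steps.bwd (nat_lit 1) (Steps.bwd (nat_lit 3) (Steps.bwd (nat_lit 1) (Steps.bwd (nat_lit 3) (Steps.fwd (nat_lit 8192) (Steps.bwd (nat_lit 2) (Steps.fwd (nat_lit 32768) (Steps.bwd (nat_lit 1) (Steps.fwd (nat_lit 24576) Steps.nil))))))))))) (nat_lit 190) (nat_lit 1),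
  Rule.mk (nat_lit 16) (nat_lit 179) (Steps.bwd (nat_lit 1) (Steps.bwd (nat_lit 3) (Steps.bwd (nat_lit 1) (Steps.bwd (nat_lit 3) (Steps.fwd (nat_lit 8192) (Steps.bwd (nat_lit 3) (Steps.bwd (nat_lit 1) (Steps.fwd (nat_lit 24576) (Steps.bwd (nat_lit 4) (Steps.fwd (nat_lit 8192) (Steps.fwd (nat_lit 24576) Steps.nil))))))))))) (nat_lit 190) (nat_lit 1),
  Rule.mk (nat_lit 15) (nat_lit 179) (Steps.bwd (nat_lit 3) (Steps.fwd (nat_lit 8192) (Steps.bwd (nat_lit 4) (Steps.bwd (nat_lit 3) (Steps.bwd (nat_lit 1) (Steps.fwd (nat_lit 24576) (Steps.fwd (nat_lit 8192) (Steps.bwd (nat_lit 2) (Steps.bwd (nat_lit 1) (Steps.fwd (nat_lit 24576) (Steps.bwd (nat_lit 1) Steps.nil))))))))))) (nat_lit 191) (nat_lit 0),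
  Rule.mk (nat_lit 15) (nat_lit 179) (Steps.bwd (nat_lit 3) (Steps.bwd (nat_lit 1) (Steps.fwd (nat_lit 32768) (Steps.bwd (nat_lit 3) (Steps.fwd (nat_lit 8192) (Steps.fwd (nat_lit 24576) (Steps.fwd (nat_lit 8192) (Steps.fwd (nat_lit 24576) (Steps.bwd (nat_lit 1) (Steps.bwd (nat_lit 2) (Steps.bwd (nat_lit 1) Steps.nil))))))))))) (nat_lit 191) (nat_lit 0),
  Rule.mk (nat_lit 18) (nat_lit 179) (Steps.bwd (nat_lit 1) (Steps.fwd (nat_lit 16384) (Steps.fwd (nat_lit 32768) (Steps.bwd (nat_lit 1) (Steps.fwd (nat_lit 24576) (Steps.fwd (nat_lit 8192) (Steps.fwd (nat_lit 24576) (Steps.bwd (nat_lit 1) (Steps.bwd (nat_lit 3) (Steps.bwd (nat_lit 1) (Steps.bwd (nat_lit 3) Steps.nil))))))))))) (nat_lit 192) (nat_lit 1),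
  Rule.mk (nat_lit 18) (nat_lit 179) (Steps.bwd (nat_lit 1) (Steps.bwd (nat_lit 3) (Steps.bwd (nat_lit 4) (Steps.fwd (nat_lit 8192) (Steps.fwd (nat_lit 24576) (Steps.fwd (nat_lit 8192) (Steps.fwd (nat_lit 24576) (Steps.bwd (nat_lit 1) (Steps.fwd (nat_lit 16384) (Steps.bwd (nat_lit 1) (Steps.fwd (nat_lit 16384) Steps.nil))))))))))) (nat_lit 192) (nat_lit 1),
  Rule.mk (nat_lit 17) (nat_lit 179) (Steps.fwd (nat_lit 24576) (Steps.fwd (nat_lit 8192) (Steps.fwd (nat_lit 24576) (Steps.fwd (nat_lit 8192) (Steps.fwd (nat_lit 16384) (Steps.bwd (nat_lit 1) (Steps.fwd (nat_lit 16384) (Steps.bwd (nat_lit 1) (Steps.fwd (nat_lit 32768) (Steps.bwd (nat_lit 2) (Steps.bwd (nat_lit 1) Steps.nil))))))))))) (nat_lit 193) (nat_lit 0),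
  Rule.mk (nat_lit 17) (nat_lit 179) (Steps.fwd (nat_lit 24576) (Steps.fwd (nat_lit 8192) (Steps.bwd (nat_lit 2) (Steps.bwd (nat_lit 1) (Steps.bwd (nat_lit 3) (Steps.fwd (nat_lit 8192) (Steps.bwd (nat_lit 3) (Steps.bwd (nat_lit 1) (Steps.bwd (nat_lit 4) (Steps.bwd (nat_lit 2) (Steps.fwd (nat_lit 8192) Steps.nil))))))))))) (nat_lit 193) (nat_lit 0),
  Rule.mk (nat_lit 0) (nat_lit 194) (Steps.bwd (nat_lit 20) (Steps.bwd (nat_lit 1) (Steps.fwd (nat_lit 24576) (Steps.fwd (nat_lit 8192) (Steps.fwd (nat_lit 24576) (Steps.bwd (nat_lit 1) (Steps.bwd (nat_lit 3) (Steps.bwd (nat_lit 1) (Steps.bwd (nat_lit 3) (Steps.fwd (nat_lit 8192) (Steps.fwd (nat_lit 32768) (Steps.fwd (nat_lit 24576) Steps.nil)))))))))))) (nat_lit 194) (nat_lit 0),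
  Rule.mk (nat_lit 20) (nat_lit 179) (Steps.bwd (nat_lit 1) (Steps.fwd (nat_lit 24576) (Steps.fwd (nat_lit 8192) (Steps.bwd (nat_lit 2) (Steps.bwd (nat_lit 1) (Steps.bwd (nat_lit 3) (Steps.fwd (nat_lit 8192) (Steps.bwd (nat_lit 3) (Steps.bwd (nat_lit 1) (Steps.bwd (nat_lit 4) (Steps.bwd (nat_lit 2) Steps.nil))))))))))) (nat_lit 194) (nat_lit 1),
  Rule.mk (nat_lit 19) (nat_lit 179) (Steps.bwd (nat_lit 3) (Steps.bwd (nat_lit 4) (Steps.bwd (nat_lit 1) (Steps.fwd (nat_lit 24576) (Steps.bwd (nat_lit 1) (Steps.bwd (nat_lit 2) (Steps.fwd (nat_lit 8192) (Steps.bwd (nat_lit 3) (Steps.bwd (nat_lit 1) (Steps.bwd (nat_lit 3) (Steps.bwd (nat_lit 1) Steps.nil))))))))))) (nat_lit 195) (nat_lit 0),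
  Rule.mk (nat_lit 0) (nat_lit 194) (Steps.bwd (nat_lit 20) (Steps.bwd (nat_lit 1) (Steps.fwd (nat_lit 24576) (Steps.fwd (nat_lit 8192) (Steps.fwd (nat_lit 24576) (Steps.fwd (nat_lit 8192) (Steps.bwd (nat_lit 3) (Steps.bwd (nat_lit 1) (Steps.bwd (nat_lit 3) (Steps.fwd (nat_lit 8192) (Steps.bwd (nat_lit 4) (Steps.bwd (nat_lit 2) Steps.nil)))))))))))) (nat_lit 194) (nat_lit 0),
  Rule.mk (nat_lit 17) (nat_lit 179) (Steps.bwd (nat_lit 2) (Steps.fwd (nat_lit 8192) (Steps.fwd (nat_lit 24576) (Steps.bwd (nat_lit 1) (Steps.fwd (nat_lit 16384) (Steps.bwd (nat_lit 1) (Steps.fwd (nat_lit 16384) (Steps.bwd (nat_lit 1) (Steps.bwd (nat_lit 4) (Steps.fwd (nat_lit 24576) (Steps.bwd (nat_lit 1) Steps.nil))))))))))) (nat_lit 193) (nat_lit 0),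
  Rule.mk (nat_lit 0) (nat_lit 194) (Steps.bwd (nat_lit 3) (Steps.fwd (nat_lit 32768) (Steps.fwd (nat_lit 8192) (Steps.bwd (nat_lit 2) (Steps.fwd (nat_lit 8192) (Steps.bwd (nat_lit 2) (Steps.fwd (nat_lit 8192) (Steps.bwd (nat_lit 3) (Steps.bwd (nat_lit 1) (Steps.fwd (nat_lit 16384) (Steps.bwd (nat_lit 1) (Steps.fwd (nat_lit 163840) Steps.nil)))))))))))) (nat_lit 195) (nat_lit 0),
  Rule.mk (nat_lit 2) (nat_lit 104) (Steps.bwd (nat_lit 10) (Steps.bwd (nat_lit 3) (Steps.fwd (nat_lit 49152) (Steps.bwd (nat_lit 11) (Steps.fwd (nat_lit 98304) (Steps.fwd (nat_lit 114688) Steps.nil)))))) (nat_lit 180) (nat_lit 1),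
  Rule.mk (nat_lit 16) (nat_lit 179) (Steps.fwd (nat_lit 8192) (Steps.bwd (nat_lit 3) (Steps.fwd (nat_lit 8192) (Steps.bwd (nat_lit 3) (Steps.fwd (nat_lit 8192) (Steps.bwd (nat_lit 3) (Steps.fwd (nat_lit 8192) (Steps.fwd (nat_lit 24576) (Steps.fwd (nat_lit 32768) (Steps.bwd (nat_lit 1) (Steps.bwd (nat_lit 2) Steps.nil))))))))))) (nat_lit 190) (nat_lit 1),
  Rule.mk (nat_lit 1) (nat_lit 179) (Steps.bwd (nat_lit 17) (Steps.fwd (nat_lit 24576) (Steps.fwd (nat_lit 8192) (Steps.bwd (nat_lit 2) (Steps.bwd (nat_lit 1) (Steps.fwd (nat_lit 16384) (Steps.bwd (nat_lit 1) (Steps.bwd (nat_lit 3) (Steps.bwd (nat_lit 1) (Steps.bwd (nat_lit 4) (Steps.bwd (nat_lit 2) Steps.nil))))))))))) (nat_lit 193) (nat_lit 11),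
  Rule.mk (nat_lit 20) (nat_lit 179) (Steps.bwd (nat_lit 1) (Steps.fwd (nat_lit 24576) (Steps.fwd (nat_lit 8192) (Steps.bwd (nat_lit 2) (Steps.bwd (nat_lit 1) (Steps.fwd (nat_lit 16384) (Steps.bwd (nat_lit 1) (Steps.bwd (nat_lit 3) (Steps.bwd (nat_lit 1) (Steps.bwd (nat_lit 4) (Steps.bwd (nat_lit 2) Steps.nil))))))))))) (nat_lit 194) (nat_lit 1),
  Rule.mk (nat_lit 6) (nat_lit 104) (Steps.fwd (nat_lit 90112) (Steps.fwd (nat_lit 98304) (Steps.fwd (nat_lit 114688) (Steps.bwd (nat_lit 1) (Steps.bwd (nat_lit 11) (Steps.bwd (nat_lit 1) Steps.nil)))))) (nat_lit 160) (nat_lit 4),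
  Rule.mk (nat_lit 11) (nat_lit 104) (Steps.fwd (nat_lit 8192) (Steps.fwd (nat_lit 49152) (Steps.fwd (nat_lit 90112) (Steps.bwd (nat_lit 12) (Steps.bwd (nat_lit 14) (Steps.bwd (nat_lit 1) Steps.nil)))))) (nat_lit 160) (nat_lit 2),
  Rule.mk (nat_lit 7) (nat_lit 164) (Steps.bwd (nat_lit 1) (Steps.fwd (nat_lit 40960) (Steps.fwd (nat_lit 49152) (Steps.bwd (nat_lit 9) (Steps.bwd (nat_lit 10) (Steps.fwd (nat_lit 90112) (Steps.bwd (nat_lit 12) (Steps.bwd (nat_lit 13) (Steps.bwd (nat_lit 14) (Steps.bwd (nat_lit 1) Steps.nil)))))))))) (nat_lit 152) (nat_lit 2),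
  Rule.mk (nat_lit 15) (nat_lit 179) (Steps.bwd (nat_lit 3) (Steps.bwd (nat_lit 1) (Steps.bwd (nat_lit 4) (Steps.bwd (nat_lit 3) (Steps.bwd (nat_lit 1) (Steps.fwd (nat_lit 24576) (Steps.bwd (nat_lit 1) (Steps.fwd (nat_lit 24576) (Steps.bwd (nat_lit 1) (Steps.bwd (nat_lit 2) (Steps.bwd (nat_lit 1) Steps.nil))))))))))) (nat_lit 191) (nat_lit 0),
  Rule.mk (nat_lit 0) (nat_lit 194) (Steps.bwd (nat_lit 16) (Steps.bwd (nat_lit 1) (Steps.bwd (nat_lit 3) (Steps.bwd (nat_lit 1) (Steps.bwd (nat_lit 3) (Steps.bwd (nat_lit 1) (Steps.fwd (nat_lit 16384) (Steps.bwd (nat_lit 1) (Steps.bwd (nat_lit 2) (Steps.fwd (nat_lit 32768) (Steps.fwd (nat_lit 8192) (Steps.bwd (nat_lit 2) Steps.nil)))))))))))) (nat_lit 190) (nat_lit 0),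
  Rule.mk (nat_lit 3) (nat_lit 179) (Steps.bwd (nat_lit 18) (Steps.fwd (nat_lit 8192) (Steps.bwd (nat_lit 3) (Steps.fwd (nat_lit 32768) (Steps.fwd (nat_lit 8192) (Steps.fwd (nat_lit 24576) (Steps.fwd (nat_lit 8192) (Steps.bwd (nat_lit 2) (Steps.fwd (nat_lit 8192) (Steps.fwd (nat_lit 16384) (Steps.bwd (nat_lit 1) Steps.nil))))))))))) (nat_lit 192) (nat_lit 0),
  Rule.mk (nat_lit 1) (nat_lit 179) (Steps.bwd (nat_lit 19) (Steps.bwd (nat_lit 3) (Steps.fwd (nat_lit 32768) (Steps.fwd (nat_lit 8192) (Steps.fwd (nat_lit 24576) (Steps.fwd (nat_lit 8192) (Steps.bwd (nat_lit 2) (Steps.fwd (nat_lit 8192) (Steps.fwd (nat_lit 16384) (Steps.bwd (nat_lit 1) (Steps.bwd (nat_lit 3) Steps.nil))))))))))) (nat_lit 195) (nat_lit 11),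
  Rule.mk (nat_lit 0) (nat_lit 74) (Steps.fwd (nat_lit 24576) (Steps.bwd (nat_lit 4) (Steps.fwd (nat_lit 16384) (Steps.fwd (nat_lit 32768) Steps.nil)))) (nat_lit 168) (nat_lit 0),
  Rule.mk (nat_lit 18) (nat_lit 179) (Steps.bwd (nat_lit 1) (Steps.bwd (nat_lit 3) (Steps.bwd (nat_lit 4) (Steps.fwd (nat_lit 8192) (Steps.bwd (nat_lit 2) (Steps.fwd (nat_lit 8192) (Steps.fwd (nat_lit 24576) (Steps.fwd (nat_lit 8192) (Steps.bwd (nat_lit 3) (Steps.fwd (nat_lit 8192) (Steps.bwd (nat_lit 3) Steps.nil))))))))))) (nat_lit 192) (nat_lit 1),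
  Rule.mk (nat_lit 16) (nat_lit 179) (Steps.bwd (nat_lit 1) (Steps.bwd (nat_lit 3) (Steps.fwd (nat_lit 8192) (Steps.fwd (nat_lit 16384) (Steps.bwd (nat_lit 1) (Steps.bwd (nat_lit 3) (Steps.fwd (nat_lit 8192) (Steps.bwd (nat_lit 2) (Steps.bwd (nat_lit 4) (Steps.fwd (nat_lit 8192) (Steps.bwd (nat_lit 2) Steps.nil))))))))))) (nat_lit 190) (nat_lit 1),
  Rule.mk (nat_lit 16) (nat_lit 179) (Steps.bwd (nat_lit 1) (Steps.bwd (nat_lit 3) (Steps.fwd (nat_lit 8192) (Steps.fwd (nat_lit 16384) (Steps.fwd (nat_lit 8192) (Steps.bwd (nat_lit 3) (Steps.fwd (nat_lit 8192) (Steps.bwd (nat_lit 2) (Steps.bwd (nat_lit 4) (Steps.fwd (nat_lit 8192) (Steps.fwd (nat_lit 24576) Steps.nil))))))))))) (nat_lit 190) (nat_lit 1),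
  Rule.mk (nat_lit 15) (nat_lit 179) (Steps.bwd (nat_lit 3) (Steps.fwd (nat_lit 8192) (Steps.fwd (nat_lit 32768) (Steps.fwd (nat_lit 16384) (Steps.fwd (nat_lit 8192) (Steps.fwd (nat_lit 24576) (Steps.fwd (nat_lit 8192) (Steps.bwd (nat_lit 2) (Steps.fwd (nat_lit 8192) (Steps.bwd (nat_lit 2) (Steps.bwd (nat_lit 1) Steps.nil))))))))))) (nat_lit 191) (nat_lit 0),
  Rule.mk (nat_lit 18) (nat_lit 179) (Steps.bwd (nat_lit 1) (Steps.fwd (nat_lit 16384) (Steps.fwd (nat_lit 32768) (Steps.fwd (nat_lit 8192) (Steps.bwd (nat_lit 2) (Steps.bwd (nat_lit 1) (Steps.fwd (nat_lit 24576) (Steps.bwd (nat_lit 1) (Steps.bwd (nat_lit 3) (Steps.fwd (nat_lit 8192) (Steps.fwd (nat_lit 16384) Steps.nil))))))))))) (nat_lit 192) (nat_lit 1),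
  Rule.mk (nat_lit 17) (nat_lit 179) (Steps.bwd (nat_lit 2) (Steps.bwd (nat_lit 1) (Steps.fwd (nat_lit 24576) (Steps.bwd (nat_lit 1) (Steps.bwd (nat_lit 3) (Steps.fwd (nat_lit 8192) (Steps.fwd (nat_lit 16384) (Steps.fwd (nat_lit 8192) (Steps.bwd (nat_lit 4) (Steps.fwd (nat_lit 24576) (Steps.bwd (nat_lit 1) Steps.nil))))))))))) (nat_lit 193) (nat_lit 0),
  Rule.mk (nat_lit 20) (nat_lit 179) (Steps.fwd (nat_lit 8192) (Steps.bwd (nat_lit 2) (Steps.bwd (nat_lit 1) (Steps.fwd (nat_lit 24576) (Steps.bwd (nat_lit 1) (Steps.bwd (nat_lit 3) (Steps.fwd (nat_lit 8192) (Steps.fwd (nat_lit 16384) (Steps.fwd (nat_lit 8192) (Steps.bwd (nat_lit 4) (Steps.fwd (nat_lit 24576) Steps.nil))))))))))) (nat_lit 194) (nat_lit 1),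
  Rule.mk (nat_lit 19) (nat_lit 179) (Steps.fwd (nat_lit 16384) (Steps.fwd (nat_lit 32768) (Steps.fwd (nat_lit 8192) (Steps.bwd (nat_lit 2) (Steps.bwd (nat_lit 1) (Steps.fwd (nat_lit 24576) (Steps.bwd (nat_lit 1) (Steps.bwd (nat_lit 3) (Steps.fwd (nat_lit 8192) (Steps.fwd (nat_lit 16384) (Steps.fwd (nat_lit 8192) Steps.nil))))))))))) (nat_lit 195) (nat_lit 0),
  Rule.mk (nat_lit 6) (nat_lit 134) (Steps.bwd (nat_lit 1) (Steps.bwd (nat_lit 14) (Steps.bwd (nat_lit 1) (Steps.fwd (nat_lit 114688) (Steps.bwd (nat_lit 13) (Steps.bwd (nat_lit 12) (Steps.bwd (nat_lit 11) (Steps.bwd (nat_lit 10) Steps.nil)))))))) (nat_lit 167) (nat_lit 6)]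
noncomputable def R_75 : List (Rule) := [Rule.mk (nat_lit 7) (nat_lit 164) (Steps.bwd (nat_lit 1) (Steps.bwd (nat_lit 5) (Steps.fwd (nat_lit 49152) (Steps.fwd (nat_lit 73728) (Steps.fwd (nat_lit 81920) (Steps.fwd (nat_lit 90112) (Steps.fwd (nat_lit 98304) (Steps.fwd (nat_lit 106496) (Steps.fwd (nat_lit 114688) (Steps.bwd (nat_lit 1) Steps.nil)))))))))) (nat_lit 152) (nat_lit 2),
  Rule.mk (nat_lit 12) (nat_lit 164) (Steps.bwd (nat_lit 1) (Steps.bwd (nat_lit 4) (Steps.fwd (nat_lit 40960) (Steps.fwd (nat_lit 65536) (Steps.bwd (nat_lit 9) (Steps.bwd (nat_lit 10) (Steps.fwd (nat_lit 90112) (Steps.fwd (nat_lit 98304) (Steps.fwd (nat_lit 114688) (Steps.fwd (nat_lit 8192) Steps.nil)))))))))) (nat_lit 162) (nat_lit 2),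
  Rule.mk (nat_lit 0) (nat_lit 194) (Steps.bwd (nat_lit 15) (Steps.bwd (nat_lit 3) (Steps.bwd (nat_lit 1) (Steps.fwd (nat_lit 32768) (Steps.fwd (nat_lit 16384) (Steps.fwd (nat_lit 8192) (Steps.fwd (nat_lit 24576) (Steps.bwd (nat_lit 1) (Steps.fwd (nat_lit 24576) (Steps.fwd (nat_lit 8192) (Steps.bwd (nat_lit 2) (Steps.bwd (nat_lit 1) Steps.nil)))))))))))) (nat_lit 191) (nat_lit 11),
  Rule.mk (nat_lit 16) (nat_lit 179) (Steps.bwd (nat_lit 1) (Steps.bwd (nat_lit 3) (Steps.fwd (nat_lit 8192) (Steps.bwd (nat_lit 3) (Steps.bwd (nat_lit 1) (Steps.fwd (nat_lit 16384) (Steps.bwd (nat_lit 1) (Steps.bwd (nat_lit 2) (Steps.fwd (nat_lit 32768) (Steps.fwd (nat_lit 8192) (Steps.bwd (nat_lit 2) Steps.nil))))))))))) (nat_lit 190) (nat_lit 1),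
  Rule.mk (nat_lit 16) (nat_lit 179) (Steps.fwd (nat_lit 8192) (Steps.bwd (nat_lit 3) (Steps.bwd (nat_lit 1) (Steps.fwd (nat_lit 16384) (Steps.bwd (nat_lit 1) (Steps.bwd (nat_lit 3) (Steps.bwd (nat_lit 1) (Steps.fwd (nat_lit 24576) (Steps.bwd (nat_lit 4) (Steps.bwd (nat_lit 1) (Steps.fwd (nat_lit 24576) Steps.nil))))))))))) (nat_lit 190) (nat_lit 1),
  Rule.mk (nat_lit 18) (nat_lit 179) (Steps.bwd (nat_lit 1) (Steps.bwd (nat_lit 3) (Steps.bwd (nat_lit 4) (Steps.bwd (nat_lit 1) (Steps.fwd (nat_lit 24576) (Steps.bwd (nat_lit 1) (Steps.bwd (nat_lit 2) (Steps.bwd (nat_lit 1) (Steps.bwd (nat_lit 3) (Steps.fwd (nat_lit 8192) (Steps.bwd (nat_lit 3) Steps.nil))))))))))) (nat_lit 192) (nat_lit 1),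
  Rule.mk (nat_lit 0) (nat_lit 194) (Steps.bwd (nat_lit 18) (Steps.bwd (nat_lit 1) (Steps.fwd (nat_lit 16384) (Steps.fwd (nat_lit 32768) (Steps.fwd (nat_lit 8192) (Steps.fwd (nat_lit 24576) (Steps.bwd (nat_lit 1) (Steps.fwd (nat_lit 24576) (Steps.fwd (nat_lit 8192) (Steps.fwd (nat_lit 16384) (Steps.fwd (nat_lit 8192) (Steps.bwd (nat_lit 3) Steps.nil)))))))))))) (nat_lit 192) (nat_lit 0),
  Rule.mk (nat_lit 17) (nat_lit 179) (Steps.fwd (nat_lit 24576) (Steps.bwd (nat_lit 1) (Steps.fwd (nat_lit 24576) (Steps.fwd (nat_lit 8192) (Steps.bwd (nat_lit 3) (Steps.bwd (nat_lit 1) (Steps.fwd (nat_lit 16384) (Steps.bwd (nat_lit 1) (Steps.bwd (nat_lit 4) (Steps.bwd (nat_lit 2) (Steps.fwd (nat_lit 8192) Steps.nil))))))))))) (nat_lit 193) (nat_lit 0),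
  Rule.mk (nat_lit 20) (nat_lit 179) (Steps.bwd (nat_lit 1) (Steps.fwd (nat_lit 24576) (Steps.bwd (nat_lit 1) (Steps.fwd (nat_lit 24576) (Steps.fwd (nat_lit 8192) (Steps.bwd (nat_lit 3) (Steps.bwd (nat_lit 1) (Steps.fwd (nat_lit 16384) (Steps.bwd (nat_lit 1) (Steps.bwd (nat_lit 4) (Steps.bwd (nat_lit 2) Steps.nil))))))))))) (nat_lit 194) (nat_lit 1),
  Rule.mk (nat_lit 19) (nat_lit 179) (Steps.bwd (nat_lit 3) (Steps.bwd (nat_lit 4) (Steps.bwd (nat_lit 1) (Steps.fwd (nat_lit 24576) (Steps.bwd (nat_lit 1) (Steps.bwd (nat_lit 2) (Steps.bwd (nat_lit 1) (Steps.bwd (nat_lit 3) (Steps.fwd (nat_lit 8192) (Steps.bwd (nat_lit 3) (Steps.bwd (nat_lit 1) Steps.nil))))))))))) (nat_lit 195) (nat_lit 0),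
  Rule.mk (nat_lit 2) (nat_lit 179) (Steps.bwd (nat_lit 20) (Steps.fwd (nat_lit 8192) (Steps.bwd (nat_lit 2) (Steps.bwd (nat_lit 1) (Steps.fwd (nat_lit 24576) (Steps.fwd (nat_lit 8192) (Steps.bwd (nat_lit 3) (Steps.bwd (nat_lit 1) (Steps.fwd (nat_lit 16384) (Steps.fwd (nat_lit 8192) (Steps.bwd (nat_lit 4) Steps.nil))))))))))) (nat_lit 194) (nat_lit 0),
  Rule.mk (nat_lit 12) (nat_lit 104) (Steps.fwd (nat_lit 16384) (Steps.fwd (nat_lit 32768) (Steps.fwd (nat_lit 40960) (Steps.fwd (nat_lit 65536) (Steps.bwd (nat_lit 9) (Steps.bwd (nat_lit 2) Steps.nil)))))) (nat_lit 184) (nat_lit 2),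
  Rule.mk (nat_lit 5) (nat_lit 149) (Steps.fwd (nat_lit 16384) (Steps.bwd (nat_lit 4) (Steps.bwd (nat_lit 5) (Steps.fwd (nat_lit 65536) (Steps.fwd (nat_lit 73728) (Steps.fwd (nat_lit 98304) (Steps.bwd (nat_lit 13) (Steps.bwd (nat_lit 14) (Steps.bwd (nat_lit 2) Steps.nil))))))))) (nat_lit 170) (nat_lit 2),
  Rule.mk (nat_lit 6) (nat_lit 164) (Steps.bwd (nat_lit 3) (Steps.bwd (nat_lit 14) (Steps.bwd (nat_lit 13) (Steps.fwd (nat_lit 98304) (Steps.bwd (nat_lit 11) (Steps.fwd (nat_lit 81920) (Steps.fwd (nat_lit 73728) (Steps.fwd (nat_lit 49152) (Steps.bwd (nat_lit 5) (Steps.bwd (nat_lit 2) Steps.nil)))))))))) (nat_lit 173) (nat_lit 10),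
  Rule.mk (nat_lit 11) (nat_lit 164) (Steps.fwd (nat_lit 16384) (Steps.fwd (nat_lit 114688) (Steps.fwd (nat_lit 98304) (Steps.fwd (nat_lit 90112) (Steps.bwd (nat_lit 10) (Steps.bwd (nat_lit 9) (Steps.bwd (nat_lit 8) (Steps.fwd (nat_lit 40960) (Steps.bwd (nat_lit 4) (Steps.bwd (nat_lit 2) Steps.nil)))))))))) (nat_lit 183) (nat_lit 10),
  Rule.mk (nat_lit 1) (nat_lit 179) (Steps.bwd (nat_lit 17) (Steps.bwd (nat_lit 2) (Steps.bwd (nat_lit 1) (Steps.fwd (nat_lit 24576) (Steps.fwd (nat_lit 8192) (Steps.bwd (nat_lit 3) (Steps.bwd (nat_lit 1) (Steps.fwd (nat_lit 16384) (Steps.fwd (nat_lit 8192) (Steps.bwd (nat_lit 4) (Steps.bwd (nat_lit 2) Steps.nil))))))))))) (nat_lit 193) (nat_lit 11),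
  Rule.mk (nat_lit 14) (nat_lit 89) (Steps.fwd (nat_lit 57344) (Steps.fwd (nat_lit 32768) (Steps.fwd (nat_lit 8192) (Steps.bwd (nat_lit 9) (Steps.bwd (nat_lit 1) Steps.nil))))) (nat_lit 157) (nat_lit 1),
  Rule.mk (nat_lit 5) (nat_lit 104) (Steps.bwd (nat_lit 7) (Steps.bwd (nat_lit 13) (Steps.bwd (nat_lit 14) (Steps.fwd (nat_lit 8192) (Steps.fwd (nat_lit 65536) (Steps.bwd (nat_lit 1) Steps.nil)))))) (nat_lit 154) (nat_lit 4),
  Rule.mk (nat_lit 10) (nat_lit 134) (Steps.fwd (nat_lit 8192) (Steps.fwd (nat_lit 32768) (Steps.bwd (nat_lit 5) (Steps.bwd (nat_lit 8) (Steps.fwd (nat_lit 73728) (Steps.fwd (nat_lit 90112) (Steps.fwd (nat_lit 114688) (Steps.bwd (nat_lit 1) Steps.nil)))))))) (nat_lit 158) (nat_lit 2),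
  Rule.mk (nat_lit 7) (nat_lit 164) (Steps.bwd (nat_lit 1) (Steps.fwd (nat_lit 40960) (Steps.fwd (nat_lit 49152) (Steps.fwd (nat_lit 73728) (Steps.bwd (nat_lit 10) (Steps.fwd (nat_lit 90112) (Steps.fwd (nat_lit 98304) (Steps.fwd (nat_lit 106496) (Steps.fwd (nat_lit 114688) (Steps.bwd (nat_lit 1) Steps.nil)))))))))) (nat_lit 152) (nat_lit 2),
  Rule.mk (nat_lit 12) (nat_lit 164) (Steps.bwd (nat_lit 1) (Steps.bwd (nat_lit 4) (Steps.bwd (nat_lit 5) (Steps.fwd (nat_lit 65536) (Steps.fwd (nat_lit 73728) (Steps.bwd (nat_lit 10) (Steps.fwd (nat_lit 90112) (Steps.fwd (nat_lit 98304) (Steps.fwd (nat_lit 114688) (Steps.bwd (nat_lit 1) Steps.nil)))))))))) (nat_lit 162) (nat_lit 2),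
  Rule.mk (nat_lit 16) (nat_lit 179) (Steps.fwd (nat_lit 8192) (Steps.bwd (nat_lit 3) (Steps.bwd (nat_lit 1) (Steps.fwd (nat_lit 16384) (Steps.fwd (nat_lit 8192) (Steps.fwd (nat_lit 16384) (Steps.fwd (nat_lit 8192) (Steps.bwd (nat_lit 2) (Steps.bwd (nat_lit 4) (Steps.bwd (nat_lit 1) (Steps.bwd (nat_lit 2) Steps.nil))))))))))) (nat_lit 190) (nat_lit 1),
  Rule.mk (nat_lit 0) (nat_lit 194) (Steps.bwd (nat_lit 20) (Steps.fwd (nat_lit 8192) (Steps.fwd (nat_lit 24576) (Steps.bwd (nat_lit 1) (Steps.bwd (nat_lit 2) (Steps.bwd (nat_lit 1) (Steps.bwd (nat_lit 3) (Steps.fwd (nat_lit 8192) (Steps.fwd (nat_lit 16384) (Steps.fwd (nat_lit 8192) (Steps.fwd (nat_lit 32768) (Steps.bwd (nat_lit 2) Steps.nil)))))))))))) (nat_lit 194) (nat_lit 0),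
  Rule.mk (nat_lit 13) (nat_lit 134) (Steps.bwd (nat_lit 3) (Steps.fwd (nat_lit 49152) (Steps.bwd (nat_lit 10) (Steps.fwd (nat_lit 90112) (Steps.bwd (nat_lit 12) (Steps.fwd (nat_lit 106496) (Steps.fwd (nat_lit 114688) (Steps.fwd (nat_lit 24576) Steps.nil)))))))) (nat_lit 186) (nat_lit 2),
  Rule.mk (nat_lit 5) (nat_lit 149) (Steps.bwd (nat_lit 3) (Steps.bwd (nat_lit 4) (Steps.bwd (nat_lit 5) (Steps.fwd (nat_lit 65536) (Steps.fwd (nat_lit 73728) (Steps.bwd (nat_lit 12) (Steps.fwd (nat_lit 106496) (Steps.fwd (nat_lit 114688) (Steps.bwd (nat_lit 2) Steps.nil))))))))) (nat_lit 170) (nat_lit 2),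
  Rule.mk (nat_lit 0) (nat_lit 194) (Steps.bwd (nat_lit 16) (Steps.bwd (nat_lit 1) (Steps.fwd (nat_lit 16384) (Steps.fwd (nat_lit 8192) (Steps.bwd (nat_lit 3) (Steps.fwd (nat_lit 8192) (Steps.bwd (nat_lit 3) (Steps.fwd (nat_lit 8192) (Steps.fwd (nat_lit 24576) (Steps.fwd (nat_lit 32768) (Steps.bwd (nat_lit 1) (Steps.bwd (nat_lit 2) Steps.nil)))))))))))) (nat_lit 190) (nat_lit 0),
  Rule.mk (nat_lit 18) (nat_lit 179) (Steps.bwd (nat_lit 1) (Steps.bwd (nat_lit 3) (Steps.bwd (nat_lit 4) (Steps.bwd (nat_lit 1) (Steps.bwd (nat_lit 2) (Steps.fwd (nat_lit 8192) (Steps.fwd (nat_lit 24576) (Steps.bwd (nat_lit 1) (Steps.bwd (nat_lit 3) (Steps.bwd (nat_lit 1) (Steps.fwd (nat_lit 16384) Steps.nil))))))))))) (nat_lit 192) (nat_lit 1),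
  Rule.mk (nat_lit 17) (nat_lit 179) (Steps.bwd (nat_lit 2) (Steps.fwd (nat_lit 8192) (Steps.bwd (nat_lit 2) (Steps.fwd (nat_lit 8192) (Steps.bwd (nat_lit 3) (Steps.bwd (nat_lit 1) (Steps.fwd (nat_lit 16384) (Steps.bwd (nat_lit 1) (Steps.fwd (nat_lit 32768) (Steps.fwd (nat_lit 24576) (Steps.bwd (nat_lit 1) Steps.nil))))))))))) (nat_lit 193) (nat_lit 0),
  Rule.mk (nat_lit 17) (nat_lit 179) (Steps.bwd (nat_lit 2) (Steps.fwd (nat_lit 8192) (Steps.fwd (nat_lit 24576) (Steps.bwd (nat_lit 1) (Steps.bwd (nat_lit 3) (Steps.bwd (nat_lit 1) (Steps.fwd (nat_lit 16384) (Steps.fwd (nat_lit 8192) (Steps.bwd (nat_lit 4) (Steps.bwd (nat_lit 2) (Steps.fwd (nat_lit 8192) Steps.nil))))))))))) (nat_lit 193) (nat_lit 0),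
  Rule.mk (nat_lit 0) (nat_lit 194) (Steps.bwd (nat_lit 18) (Steps.fwd (nat_lit 8192) (Steps.fwd (nat_lit 16384) (Steps.fwd (nat_lit 32768) (Steps.fwd (nat_lit 8192) (Steps.bwd (nat_lit 2) (Steps.fwd (nat_lit 8192) (Steps.bwd (nat_lit 2) (Steps.fwd (nat_lit 8192) (Steps.bwd (nat_lit 3) (Steps.fwd (nat_lit 8192) (Steps.bwd (nat_lit 3) Steps.nil)))))))))))) (nat_lit 192) (nat_lit 0),
  Rule.mk (nat_lit 20) (nat_lit 179) (Steps.bwd (nat_lit 1) (Steps.bwd (nat_lit 2) (Steps.fwd (nat_lit 8192) (Steps.fwd (nat_lit 24576) (Steps.bwd (nat_lit 1) (Steps.bwd (nat_lit 3) (Steps.bwd (nat_lit 1) (Steps.fwd (nat_lit 16384) (Steps.fwd (nat_lit 8192) (Steps.bwd (nat_lit 4) (Steps.bwd (nat_lit 2) Steps.nil))))))))))) (nat_lit 194) (nat_lit 1),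
  Rule.mk (nat_lit 20) (nat_lit 179) (Steps.fwd (nat_lit 8192) (Steps.fwd (nat_lit 24576) (Steps.bwd (nat_lit 1) (Steps.fwd (nat_lit 24576) (Steps.bwd (nat_lit 1) (Steps.fwd (nat_lit 16384) (Steps.bwd (nat_lit 1) (Steps.fwd (nat_lit 16384) (Steps.bwd (nat_lit 1) (Steps.bwd (nat_lit 4) (Steps.bwd (nat_lit 2) Steps.nil))))))))))) (nat_lit 194) (nat_lit 1),
  Rule.mk (nat_lit 0) (nat_lit 194) (Steps.bwd (nat_lit 19) (Steps.bwd (nat_lit 3) (Steps.bwd (nat_lit 4) (Steps.bwd (nat_lit 1) (Steps.bwd (nat_lit 2) (Steps.fwd (nat_lit 8192) (Steps.fwd (nat_lit 24576) (Steps.bwd (nat_lit 1) (Steps.bwd (nat_lit 3) (Steps.bwd (nat_lit 1) (Steps.fwd (nat_lit 16384) (Steps.fwd (nat_lit 8192) Steps.nil)))))))))))) (nat_lit 195) (nat_lit 11),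
  Rule.mk (nat_lit 2) (nat_lit 179) (Steps.bwd (nat_lit 16) (Steps.fwd (nat_lit 8192) (Steps.bwd (nat_lit 3) (Steps.bwd (nat_lit 1) (Steps.fwd (nat_lit 16384) (Steps.fwd (nat_lit 8192) (Steps.fwd (nat_lit 16384) (Steps.fwd (nat_lit 8192) (Steps.bwd (nat_lit 2) (Steps.bwd (nat_lit 4) (Steps.bwd (nat_lit 1) Steps.nil))))))))))) (nat_lit 190) (nat_lit 0),
  Rule.mk (nat_lit 0) (nat_lit 119) (Steps.fwd (nat_lit 16384) (Steps.fwd (nat_lit 40960) (Steps.fwd (nat_lit 57344) (Steps.bwd (nat_lit 13) (Steps.bwd (nat_lit 14) (Steps.fwd (nat_lit 24576) (Steps.bwd (nat_lit 7) Steps.nil))))))) (nat_lit 174) (nat_lit 2),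
  Rule.mk (nat_lit 1) (nat_lit 179) (Steps.fwd (nat_lit 16384) (Steps.bwd (nat_lit 4) (Steps.bwd (nat_lit 1) (Steps.bwd (nat_lit 2) (Steps.fwd (nat_lit 8192) (Steps.bwd (nat_lit 2) (Steps.fwd (nat_lit 8192) (Steps.fwd (nat_lit 16384) (Steps.fwd (nat_lit 8192) (Steps.fwd (nat_lit 16384) (Steps.fwd (nat_lit 139264) Steps.nil))))))))))) (nat_lit 192) (nat_lit 2),
  Rule.mk (nat_lit 17) (nat_lit 179) (Steps.bwd (nat_lit 2) (Steps.fwd (nat_lit 8192) (Steps.bwd (nat_lit 2) (Steps.fwd (nat_lit 8192) (Steps.fwd (nat_lit 16384) (Steps.fwd (nat_lit 8192) (Steps.fwd (nat_lit 16384) (Steps.fwd (nat_lit 8192) (Steps.fwd (nat_lit 32768) (Steps.bwd (nat_lit 2) (Steps.bwd (nat_lit 1) Steps.nil))))))))))) (nat_lit 193) (nat_lit 0),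
  Rule.mk (nat_lit 20) (nat_lit 179) (Steps.bwd (nat_lit 1) (Steps.bwd (nat_lit 2) (Steps.fwd (nat_lit 8192) (Steps.bwd (nat_lit 2) (Steps.fwd (nat_lit 8192) (Steps.fwd (nat_lit 16384) (Steps.fwd (nat_lit 8192) (Steps.fwd (nat_lit 16384) (Steps.fwd (nat_lit 8192) (Steps.fwd (nat_lit 32768) (Steps.bwd (nat_lit 2) Steps.nil))))))))))) (nat_lit 194) (nat_lit 1),
  Rule.mk (nat_lit 0) (nat_lit 194) (Steps.bwd (nat_lit 20) (Steps.fwd (nat_lit 8192) (Steps.bwd (nat_lit 2) (Steps.bwd (nat_lit 1) (Steps.bwd (nat_lit 2) (Steps.bwd (nat_lit 1) (Steps.fwd (nat_lit 16384) (Steps.bwd (nat_lit 1) (Steps.fwd (nat_lit 16384) (Steps.fwd (nat_lit 8192) (Steps.fwd (nat_lit 32768) (Steps.bwd (nat_lit 2) Steps.nil)))))))))))) (nat_lit 194) (nat_lit 0),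
  Rule.mk (nat_lit 14) (nat_lit 104) (Steps.bwd (nat_lit 1) (Steps.bwd (nat_lit 8) (Steps.bwd (nat_lit 1) (Steps.bwd (nat_lit 5) (Steps.fwd (nat_lit 57344) (Steps.bwd (nat_lit 13) Steps.nil)))))) (nat_lit 154) (nat_lit 0),
  Rule.mk (nat_lit 10) (nat_lit 134) (Steps.bwd (nat_lit 1) (Steps.fwd (nat_lit 114688) (Steps.bwd (nat_lit 11) (Steps.fwd (nat_lit 73728) (Steps.fwd (nat_lit 65536) (Steps.bwd (nat_lit 5) (Steps.bwd (nat_lit 4) (Steps.bwd (nat_lit 1) Steps.nil)))))))) (nat_lit 159) (nat_lit 8),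
  Rule.mk (nat_lit 16) (nat_lit 179) (Steps.bwd (nat_lit 1) (Steps.fwd (nat_lit 16384) (Steps.fwd (nat_lit 8192) (Steps.bwd (nat_lit 3) (Steps.fwd (nat_lit 8192) (Steps.fwd (nat_lit 16384) (Steps.bwd (nat_lit 1) (Steps.fwd (nat_lit 24576) (Steps.fwd (nat_lit 32768) (Steps.bwd (nat_lit 1) (Steps.bwd (nat_lit 2) Steps.nil))))))))))) (nat_lit 190) (nat_lit 1),
  Rule.mk (nat_lit 20) (nat_lit 179) (Steps.bwd (nat_lit 1) (Steps.bwd (nat_lit 2) (Steps.bwd (nat_lit 1) (Steps.bwd (nat_lit 2) (Steps.bwd (nat_lit 1) (Steps.fwd (nat_lit 16384) (Steps.fwd (nat_lit 8192) (Steps.bwd (nat_lit 3) (Steps.fwd (nat_lit 8192) (Steps.fwd (nat_lit 32768) (Steps.bwd (nat_lit 2) Steps.nil))))))))))) (nat_lit 194) (nat_lit 1),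
  Rule.mk (nat_lit 3) (nat_lit 539) (Steps.bwd (nat_lit 1) (Steps.bwd (nat_lit 2) (Steps.bwd (nat_lit 1) (Steps.fwd (nat_lit 16384) (Steps.bwd (nat_lit 1) (Steps.bwd (nat_lit 3) (Steps.fwd (nat_lit 8192) (Steps.fwd (nat_lit 24576) (Steps.fwd (nat_lit 8192) (Steps.fwd (nat_lit 16384) (Steps.bwd (nat_lit 1) (Steps.fwd (nat_lit 16384) (Steps.fwd (nat_lit 8192) (Steps.bwd (nat_lit 2) (Steps.bwd (nat_lit 1) (Steps.bwd (nat_lit 2) (Steps.bwd (nat_lit 1) (Steps.bwd (nat_lit 3) (Steps.bwd (nat_lit 1) (Steps.bwd (nat_lit 2) (Steps.fwd (nat_lit 8192) (Steps.bwd (nat_lit 2) (Steps.fwd (nat_lit 8192) (Steps.fwd (nat_lit 16384) (Steps.fwd (nat_lit 8192) (Steps.fwd (nat_lit 24576) (Steps.bwd (nat_lit 1) (Steps.bwd (nat_lit 2) (Steps.bwd (nat_lit 1) (Steps.fwd (nat_lit 16384) (Steps.bwd (nat_lit 1) (Steps.fwd (nat_lit 24576) (Steps.bwd (nat_lit 1) (Steps.bwd (nat_lit 3) (Steps.fwd (nat_lit 8192) Steps.nil)))))))))))))))))))))))))))))))))))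 (nat_lit 12) (nat_lit 24),
  Rule.mk (nat_lit 16) (nat_lit 179) (Steps.bwd (nat_lit 1) (Steps.fwd (nat_lit 16384) (Steps.fwd (nat_lit 8192) (Steps.fwd (nat_lit 16384) (Steps.fwd (nat_lit 8192) (Steps.fwd (nat_lit 16384) (Steps.fwd (nat_lit 8192) (Steps.fwd (nat_lit 24576) (Steps.fwd (nat_lit 32768) (Steps.fwd (nat_lit 8192) (Steps.bwd (nat_lit 2) Steps.nil))))))))))) (nat_lit 190) (nat_lit 1),
  Rule.mk (nat_lit 17) (nat_lit 179) (Steps.bwd (nat_lit 2) (Steps.fwd (nat_lit 8192) (Steps.fwd (nat_lit 24576) (Steps.bwd (nat_lit 1) (Steps.fwd (nat_lit 16384) (Steps.bwd (nat_lit 1) (Steps.bwd (nat_lit 3) (Steps.fwd (nat_lit 8192) (Steps.bwd (nat_lit 4) (Steps.bwd (nat_lit 2) (Steps.fwd (nat_lit 8192) Steps.nil))))))))))) (nat_lit 193) (nat_lit 0),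
  Rule.mk (nat_lit 20) (nat_lit 179) (Steps.bwd (nat_lit 1) (Steps.bwd (nat_lit 2) (Steps.fwd (nat_lit 8192) (Steps.fwd (nat_lit 24576) (Steps.bwd (nat_lit 1) (Steps.fwd (nat_lit 16384) (Steps.bwd (nat_lit 1) (Steps.bwd (nat_lit 3) (Steps.fwd (nat_lit 8192) (Steps.bwd (nat_lit 4) (Steps.bwd (nat_lit 2) Steps.nil))))))))))) (nat_lit 194) (nat_lit 1),
  Rule.mk (nat_lit 13) (nat_lit 134) (Steps.bwd (nat_lit 3) (Steps.fwd (nat_lit 49152) (Steps.fwd (nat_lit 81920) (Steps.fwd (nat_lit 90112) (Steps.bwd (nat_lit 12) (Steps.fwd (nat_lit 106496) (Steps.fwd (nat_lit 114688) (Steps.fwd (nat_lit 24576) Steps.nil)))))))) (nat_lit 186) (nat_lit 2),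
  Rule.mk (nat_lit 6) (nat_lit 164) (Steps.bwd (nat_lit 3) (Steps.fwd (nat_lit 40960) (Steps.bwd (nat_lit 6) (Steps.bwd (nat_lit 9) (Steps.bwd (nat_lit 10) (Steps.fwd (nat_lit 90112) (Steps.bwd (nat_lit 12) (Steps.bwd (nat_lit 13) (Steps.bwd (nat_lit 14) (Steps.bwd (nat_lit 2) Steps.nil)))))))))) (nat_lit 172) (nat_lit 2),
  Rule.mk (nat_lit 16) (nat_lit 179) (Steps.fwd (nat_lit 8192) (Steps.fwd (nat_lit 16384) (Steps.fwd (nat_lit 8192) (Steps.fwd (nat_lit 16384) (Steps.fwd (nat_lit 8192) (Steps.bwd (nat_lit 3) (Steps.bwd (nat_lit 1) (Steps.bwd (nat_lit 2) (Steps.bwd (nat_lit 4) (Steps.fwd (nat_lit 8192) (Steps.bwd (nat_lit 2) Steps.nil))))))))))) (nat_lit 190) (nat_lit 1),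
  Rule.mk (nat_lit 18) (nat_lit 179) (Steps.fwd (nat_lit 8192) (Steps.fwd (nat_lit 16384) (Steps.fwd (nat_lit 32768) (Steps.fwd (nat_lit 8192) (Steps.fwd (nat_lit 24576) (Steps.fwd (nat_lit 8192) (Steps.bwd (nat_lit 2) (Steps.fwd (nat_lit 8192) (Steps.fwd (nat_lit 16384) (Steps.fwd (nat_lit 8192) (Steps.bwd (nat_lit 3) Steps.nil))))))))))) (nat_lit 192) (nat_lit 1),
  Rule.mk (nat_lit 0) (nat_lit 194) (Steps.fwd (nat_lit 8192) (Steps.bwd (nat_lit 3) (Steps.bwd (nat_lit 4) (Steps.bwd (nat_lit 1) (Steps.bwd (nat_lit 2) (Steps.fwd (nat_lit 8192) (Steps.fwd (nat_lit 24576) (Steps.bwd (nat_lit 1) (Steps.bwd (nat_lit 3) (Steps.fwd (nat_lit 8192) (Steps.bwd (nat_lit 3) (Steps.fwd (nat_lit 139264) Steps.nil)))))))))))) (nat_lit 192) (nat_lit 1),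
  Rule.mk (nat_lit 20) (nat_lit 179) (Steps.fwd (nat_lit 8192) (Steps.fwd (nat_lit 24576) (Steps.fwd (nat_lit 8192) (Steps.bwd (nat_lit 2) (Steps.fwd (nat_lit 8192) (Steps.bwd (nat_lit 3) (Steps.fwd (nat_lit 8192) (Steps.bwd (nat_lit 3) (Steps.bwd (nat_lit 1) (Steps.bwd (nat_lit 4) (Steps.fwd (nat_lit 24576) Steps.nil))))))))))) (nat_lit 194) (nat_lit 1),
  Rule.mk (nat_lit 0) (nat_lit 194) (Steps.bwd (nat_lit 19) (Steps.fwd (nat_lit 16384) (Steps.fwd (nat_lit 32768) (Steps.fwd (nat_lit 8192) (Steps.fwd (nat_lit 24576) (Steps.fwd (nat_lit 8192) (Steps.bwd (nat_lit 2) (Steps.fwd (nat_lit 8192) (Steps.bwd (nat_lit 3) (Steps.fwd (nat_lit 8192) (Steps.bwd (nat_lit 3) (Steps.bwd (nat_lit 1) Steps.nil)))))))))))) (nat_lit 195) (nat_lit 11),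
  Rule.mk (nat_lit 19) (nat_lit 179) (Steps.bwd (nat_lit 3) (Steps.bwd (nat_lit 4) (Steps.bwd (nat_lit 1) (Steps.bwd (nat_lit 2) (Steps.fwd (nat_lit 8192) (Steps.fwd (nat_lit 24576) (Steps.bwd (nat_lit 1) (Steps.bwd (nat_lit 3) (Steps.fwd (nat_lit 8192) (Steps.bwd (nat_lit 3) (Steps.fwd (nat_lit 8192) Steps.nil))))))))))) (nat_lit 195) (nat_lit 0),
  Rule.mk (nat_lit 15) (nat_lit 179) (Steps.fwd (nat_lit 16384) (Steps.bwd (nat_lit 1) (Steps.bwd (nat_lit 4) (Steps.bwd (nat_lit 3) (Steps.fwd (nat_lit 8192) (Steps.fwd (nat_lit 24576) (Steps.fwd (nat_lit 8192) (Steps.fwd (nat_lit 24576) (Steps.fwd (nat_lit 8192) (Steps.bwd (nat_lit 2) (Steps.fwd (nat_lit 8192) Steps.nil))))))))))) (nat_lit 191) (nat_lit 0),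
  Rule.mk (nat_lit 5) (nat_lit 104) (Steps.bwd (nat_lit 2) (Steps.fwd (nat_lit 57344) (Steps.fwd (nat_lit 16384) (Steps.bwd (nat_lit 14) (Steps.fwd (nat_lit 106496) (Steps.fwd (nat_lit 57344) Steps.nil)))))) (nat_lit 175) (nat_lit 4),
  Rule.mk (nat_lit 6) (nat_lit 134) (Steps.bwd (nat_lit 2) (Steps.fwd (nat_lit 106496) (Steps.fwd (nat_lit 16384) (Steps.fwd (nat_lit 114688) (Steps.bwd (nat_lit 13) (Steps.bwd (nat_lit 12) (Steps.bwd (nat_lit 11) (Steps.bwd (nat_lit 10) Steps.nil)))))))) (nat_lit 187) (nat_lit 6),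
  Rule.mk (nat_lit 17) (nat_lit 179) (Steps.fwd (nat_lit 24576) (Steps.fwd (nat_lit 8192) (Steps.fwd (nat_lit 24576) (Steps.bwd (nat_lit 1) (Steps.fwd (nat_lit 16384) (Steps.bwd (nat_lit 1) (Steps.bwd (nat_lit 3) (Steps.fwd (nat_lit 8192) (Steps.bwd (nat_lit 4) (Steps.bwd (nat_lit 2) (Steps.fwd (nat_lit 8192) Steps.nil))))))))))) (nat_lit 193) (nat_lit 0),
  Rule.mk (nat_lit 20) (nat_lit 179) (Steps.fwd (nat_lit 8192) (Steps.fwd (nat_lit 24576) (Steps.fwd (nat_lit 8192) (Steps.fwd (nat_lit 24576) (Steps.bwd (nat_lit 1) (Steps.fwd (nat_lit 16384) (Steps.bwd (nat_lit 1) (Steps.bwd (nat_lit 3) (Steps.fwd (nat_lit 8192) (Steps.bwd (nat_lit 4) (Steps.bwd (nat_lit 2) Steps.nil))))))))))) (nat_lit 194) (nat_lit 1),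
  Rule.mk (nat_lit 1) (nat_lit 134) (Steps.bwd (nat_lit 14) (Steps.fwd (nat_lit 8192) (Steps.fwd (nat_lit 114688) (Steps.bwd (nat_lit 13) (Steps.bwd (nat_lit 12) (Steps.bwd (nat_lit 11) (Steps.bwd (nat_lit 10) (Steps.bwd (nat_lit 6) Steps.nil)))))))) (nat_lit 167) (nat_lit 7),
  Rule.mk (nat_lit 0) (nat_lit 194) (Steps.bwd (nat_lit 16) (Steps.fwd (nat_lit 8192) (Steps.bwd (nat_lit 3) (Steps.bwd (nat_lit 1) (Steps.fwd (nat_lit 16384) (Steps.fwd (nat_lit 8192) (Steps.bwd (nat_lit 3) (Steps.bwd (nat_lit 1) (Steps.fwd (nat_lit 24576) (Steps.bwd (nat_lit 4) (Steps.fwd (nat_lit 8192) (Steps.bwd (nat_lit 2) Steps.nil)))))))))))) (nat_lit 190) (nat_lit 0),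
  Rule.mk (nat_lit 18) (nat_lit 179) (Steps.bwd (nat_lit 1) (Steps.fwd (nat_lit 16384) (Steps.bwd (nat_lit 4) (Steps.bwd (nat_lit 1) (Steps.fwd (nat_lit 24576) (Steps.bwd (nat_lit 1) (Steps.bwd (nat_lit 2) (Steps.fwd (nat_lit 8192) (Steps.fwd (nat_lit 16384) (Steps.bwd (nat_lit 1) (Steps.fwd (nat_lit 16384) Steps.nil))))))))))) (nat_lit 192) (nat_lit 1),
  Rule.mk (nat_lit 18) (nat_lit 179) (Steps.bwd (nat_lit 1) (Steps.fwd (nat_lit 16384) (Steps.fwd (nat_lit 32768) (Steps.fwd (nat_lit 8192) (Steps.fwd (nat_lit 24576) (Steps.bwd (nat_lit 1) (Steps.bwd (nat_lit 2) (Steps.fwd (nat_lit 8192) (Steps.fwd (nat_lit 16384) (Steps.fwd (nat_lit 8192) (Steps.fwd (nat_lit 16384) Steps.nil))))))))))) (nat_lit 192) (nat_lit 1)]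
noncomputable def R_76 : List (Rule) := [Rule.mk (nat_lit 17) (nat_lit 179) (Steps.fwd (nat_lit 24576) (Steps.fwd (nat_lit 8192) (Steps.bwd (nat_lit 2) (Steps.bwd (nat_lit 1) (Steps.fwd (nat_lit 16384) (Steps.fwd (nat_lit 8192) (Steps.bwd (nat_lit 3) (Steps.bwd (nat_lit 1) (Steps.bwd (nat_lit 4) (Steps.bwd (nat_lit 2) (Steps.fwd (nat_lit 8192) Steps.nil))))))))))) (nat_lit 193) (nat_lit 0),
  Rule.mk (nat_lit 17) (nat_lit 179) (Steps.bwd (nat_lit 2) (Steps.bwd (nat_lit 1) (Steps.fwd (nat_lit 24576) (Steps.bwd (nat_lit 1) (Steps.fwd (nat_lit 16384) (Steps.fwd (nat_lit 8192) (Steps.bwd (nat_lit 3) (Steps.fwd (nat_lit 8192) (Steps.fwd (nat_lit 32768) (Steps.bwd (nat_lit 2) (Steps.bwd (nat_lit 1) Steps.nil))))))))))) (nat_lit 193) (nat_lit 0),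
  Rule.mk (nat_lit 20) (nat_lit 179) (Steps.bwd (nat_lit 1) (Steps.fwd (nat_lit 24576) (Steps.fwd (nat_lit 8192) (Steps.bwd (nat_lit 2) (Steps.bwd (nat_lit 1) (Steps.fwd (nat_lit 16384) (Steps.fwd (nat_lit 8192) (Steps.bwd (nat_lit 3) (Steps.bwd (nat_lit 1) (Steps.bwd (nat_lit 4) (Steps.bwd (nat_lit 2) Steps.nil))))))))))) (nat_lit 194) (nat_lit 1),
  Rule.mk (nat_lit 20) (nat_lit 179) (Steps.fwd (nat_lit 8192) (Steps.bwd (nat_lit 2) (Steps.bwd (nat_lit 1) (Steps.fwd (nat_lit 24576) (Steps.bwd (nat_lit 1) (Steps.fwd (nat_lit 16384) (Steps.fwd (nat_lit 8192) (Steps.bwd (nat_lit 3) (Steps.fwd (nat_lit 8192) (Steps.fwd (nat_lit 32768) (Steps.bwd (nat_lit 2) Steps.nil))))))))))) (nat_lit 194) (nat_lit 1),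
  Rule.mk (nat_lit 20) (nat_lit 179) (Steps.bwd (nat_lit 1) (Steps.fwd (nat_lit 24576) (Steps.bwd (nat_lit 1) (Steps.bwd (nat_lit 2) (Steps.fwd (nat_lit 8192) (Steps.fwd (nat_lit 16384) (Steps.bwd (nat_lit 1) (Steps.fwd (nat_lit 16384) (Steps.bwd (nat_lit 1) (Steps.fwd (nat_lit 32768) (Steps.bwd (nat_lit 2) Steps.nil))))))))))) (nat_lit 194) (nat_lit 1),
  Rule.mk (nat_lit 19) (nat_lit 179) (Steps.bwd (nat_lit 3) (Steps.fwd (nat_lit 32768) (Steps.bwd (nat_lit 1) (Steps.fwd (nat_lit 24576) (Steps.fwd (nat_lit 8192) (Steps.bwd (nat_lit 2) (Steps.bwd (nat_lit 1) (Steps.fwd (nat_lit 16384) (Steps.fwd (nat_lit 8192) (Steps.bwd (nat_lit 3) (Steps.bwd (nat_lit 1) Steps.nil))))))))))) (nat_lit 195) (nat_lit 0),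
  Rule.mk (nat_lit 17) (nat_lit 179) (Steps.bwd (nat_lit 2) (Steps.fwd (nat_lit 8192) (Steps.fwd (nat_lit 24576) (Steps.fwd (nat_lit 8192) (Steps.bwd (nat_lit 3) (Steps.fwd (nat_lit 8192) (Steps.bwd (nat_lit 3) (Steps.bwd (nat_lit 1) (Steps.bwd (nat_lit 4) (Steps.bwd (nat_lit 2) (Steps.bwd (nat_lit 1) Steps.nil))))))))))) (nat_lit 193) (nat_lit 0),
  Rule.mk (nat_lit 20) (nat_lit 179) (Steps.fwd (nat_lit 8192) (Steps.bwd (nat_lit 2) (Steps.fwd (nat_lit 8192) (Steps.fwd (nat_lit 24576) (Steps.fwd (nat_lit 8192) (Steps.bwd (nat_lit 3) (Steps.fwd (nat_lit 8192) (Steps.bwd (nat_lit 3) (Steps.bwd (nat_lit 1) (Steps.bwd (nat_lit 4) (Steps.bwd (nat_lit 2) Steps.nil))))))))))) (nat_lit 194) (nat_lit 1),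
  Rule.mk (nat_lit 2) (nat_lit 164) (Steps.bwd (nat_lit 11) (Steps.fwd (nat_lit 16384) (Steps.bwd (nat_lit 4) (Steps.bwd (nat_lit 5) (Steps.fwd (nat_lit 65536) (Steps.fwd (nat_lit 73728) (Steps.fwd (nat_lit 81920) (Steps.fwd (nat_lit 90112) (Steps.fwd (nat_lit 98304) (Steps.bwd (nat_lit 14) Steps.nil)))))))))) (nat_lit 182) (nat_lit 1),
  Rule.mk (nat_lit 2) (nat_lit 179) (Steps.bwd (nat_lit 16) (Steps.bwd (nat_lit 1) (Steps.bwd (nat_lit 3) (Steps.bwd (nat_lit 1) (Steps.bwd (nat_lit 3) (Steps.fwd (nat_lit 8192) (Steps.fwd (nat_lit 16384) (Steps.fwd (nat_lit 8192) (Steps.bwd (nat_lit 2) (Steps.bwd (nat_lit 4) (Steps.fwd (nat_lit 8192) Steps.nil))))))))))) (nat_lit 190) (nat_lit 0),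
  Rule.mk (nat_lit 12) (nat_lit 104) (Steps.fwd (nat_lit 16384) (Steps.bwd (nat_lit 4) (Steps.bwd (nat_lit 5) (Steps.fwd (nat_lit 65536) (Steps.bwd (nat_lit 9) (Steps.bwd (nat_lit 2) Steps.nil)))))) (nat_lit 184) (nat_lit 2),
  Rule.mk (nat_lit 14) (nat_lit 119) (Steps.fwd (nat_lit 16384) (Steps.fwd (nat_lit 40960) (Steps.bwd (nat_lit 6) (Steps.bwd (nat_lit 7) (Steps.bwd (nat_lit 12) (Steps.bwd (nat_lit 14) (Steps.bwd (nat_lit 2) Steps.nil))))))) (nat_lit 188) (nat_lit 2),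
  Rule.mk (nat_lit 9) (nat_lit 134) (Steps.bwd (nat_lit 3) (Steps.bwd (nat_lit 14) (Steps.bwd (nat_lit 11) (Steps.fwd (nat_lit 73728) (Steps.fwd (nat_lit 65536) (Steps.bwd (nat_lit 5) (Steps.bwd (nat_lit 4) (Steps.bwd (nat_lit 2) Steps.nil)))))))) (nat_lit 179) (nat_lit 8),
  Rule.mk (nat_lit 13) (nat_lit 134) (Steps.bwd (nat_lit 3) (Steps.bwd (nat_lit 6) (Steps.fwd (nat_lit 81920) (Steps.bwd (nat_lit 11) (Steps.fwd (nat_lit 98304) (Steps.bwd (nat_lit 13) (Steps.bwd (nat_lit 14) (Steps.bwd (nat_lit 2) Steps.nil)))))))) (nat_lit 186) (nat_lit 2),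
  Rule.mk (nat_lit 5) (nat_lit 149) (Steps.bwd (nat_lit 3) (Steps.fwd (nat_lit 32768) (Steps.bwd (nat_lit 5) (Steps.fwd (nat_lit 65536) (Steps.bwd (nat_lit 9) (Steps.fwd (nat_lit 98304) (Steps.bwd (nat_lit 13) (Steps.bwd (nat_lit 14) (Steps.bwd (nat_lit 2) Steps.nil))))))))) (nat_lit 170) (nat_lit 2),
  Rule.mk (nat_lit 6) (nat_lit 164) (Steps.fwd (nat_lit 16384) (Steps.bwd (nat_lit 5) (Steps.fwd (nat_lit 49152) (Steps.fwd (nat_lit 73728) (Steps.fwd (nat_lit 81920) (Steps.bwd (nat_lit 11) (Steps.fwd (nat_lit 98304) (Steps.bwd (nat_lit 13) (Steps.bwd (nat_lit 14) (Steps.bwd (nat_lit 2) Steps.nil)))))))))) (nat_lit 172) (nat_lit 2),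
  Rule.mk (nat_lit 16) (nat_lit 179) (Steps.fwd (nat_lit 8192) (Steps.fwd (nat_lit 16384) (Steps.bwd (nat_lit 1) (Steps.fwd (nat_lit 16384) (Steps.fwd (nat_lit 8192) (Steps.fwd (nat_lit 16384) (Steps.fwd (nat_lit 8192) (Steps.bwd (nat_lit 2) (Steps.bwd (nat_lit 4) (Steps.bwd (nat_lit 1) (Steps.bwd (nat_lit 2) Steps.nil))))))))))) (nat_lit 190) (nat_lit 1),
  Rule.mk (nat_lit 16) (nat_lit 179) (Steps.fwd (nat_lit 8192) (Steps.bwd (nat_lit 3) (Steps.fwd (nat_lit 8192) (Steps.fwd (nat_lit 16384) (Steps.bwd (nat_lit 1) (Steps.fwd (nat_lit 16384) (Steps.bwd (nat_lit 1) (Steps.bwd (nat_lit 2) (Steps.fwd (nat_lit 32768) (Steps.bwd (nat_lit 1) (Steps.fwd (nat_lit 24576) Steps.nil))))))))))) (nat_lit 190) (nat_lit 1),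
  Rule.mk (nat_lit 0) (nat_lit 194) (Steps.bwd (nat_lit 3) (Steps.fwd (nat_lit 8192) (Steps.bwd (nat_lit 4) (Steps.bwd (nat_lit 3) (Steps.fwd (nat_lit 8192) (Steps.fwd (nat_lit 24576) (Steps.fwd (nat_lit 8192) (Steps.bwd (nat_lit 2) (Steps.fwd (nat_lit 8192) (Steps.bwd (nat_lit 2) (Steps.bwd (nat_lit 1) (Steps.fwd (nat_lit 131072) Steps.nil)))))))))))) (nat_lit 191) (nat_lit 0),
  Rule.mk (nat_lit 16) (nat_lit 179) (Steps.bwd (nat_lit 1) (Steps.fwd (nat_lit 16384) (Steps.bwd (nat_lit 1) (Steps.bwd (nat_lit 3) (Steps.bwd (nat_lit 1) (Steps.fwd (nat_lit 16384) (Steps.bwd (nat_lit 1) (Steps.fwd (nat_lit 24576) (Steps.fwd (nat_lit 32768) (Steps.bwd (nat_lit 1) (Steps.bwd (nat_lit 2) Steps.nil))))))))))) (nat_lit 190) (nat_lit 1),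
  Rule.mk (nat_lit 0) (nat_lit 194) (Steps.bwd (nat_lit 16) (Steps.fwd (nat_lit 8192) (Steps.bwd (nat_lit 3) (Steps.bwd (nat_lit 1) (Steps.fwd (nat_lit 16384) (Steps.fwd (nat_lit 8192) (Steps.fwd (nat_lit 16384) (Steps.fwd (nat_lit 8192) (Steps.fwd (nat_lit 24576) (Steps.bwd (nat_lit 4) (Steps.fwd (nat_lit 8192) (Steps.fwd (nat_lit 24576) Steps.nil)))))))))))) (nat_lit 190) (nat_lit 0),
  Rule.mk (nat_lit 0) (nat_lit 194) (Steps.bwd (nat_lit 15) (Steps.bwd (nat_lit 3) (Steps.fwd (nat_lit 8192) (Steps.fwd (nat_lit 32768) (Steps.fwd (nat_lit 16384) (Steps.bwd (nat_lit 1) (Steps.bwd (nat_lit 2) (Steps.fwd (nat_lit 8192) (Steps.fwd (nat_lit 24576) (Steps.bwd (nat_lit 1) (Steps.fwd (nat_lit 24576) (Steps.fwd (nat_lit 8192) Steps.nil)))))))))))) (nat_lit 191) (nat_lit 11),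
  Rule.mk (nat_lit 0) (nat_lit 194) (Steps.bwd (nat_lit 18) (Steps.bwd (nat_lit 1) (Steps.fwd (nat_lit 16384) (Steps.fwd (nat_lit 32768) (Steps.bwd (nat_lit 1) (Steps.fwd (nat_lit 24576) (Steps.bwd (nat_lit 1) (Steps.fwd (nat_lit 24576) (Steps.fwd (nat_lit 8192) (Steps.fwd (nat_lit 16384) (Steps.bwd (nat_lit 1) (Steps.fwd (nat_lit 16384) Steps.nil)))))))))))) (nat_lit 192) (nat_lit 0),
  Rule.mk (nat_lit 0) (nat_lit 194) (Steps.bwd (nat_lit 17) (Steps.fwd (nat_lit 24576) (Steps.bwd (nat_lit 1) (Steps.bwd (nat_lit 2) (Steps.bwd (nat_lit 1) (Steps.fwd (nat_lit 16384) (Steps.fwd (nat_lit 8192) (Steps.fwd (nat_lit 16384) (Steps.fwd (nat_lit 8192) (Steps.bwd (nat_lit 4) (Steps.bwd (nat_lit 2) (Steps.fwd (nat_lit 8192) Steps.nil)))))))))))) (nat_lit 193) (nat_lit 11),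
  Rule.mk (nat_lit 0) (nat_lit 194) (Steps.fwd (nat_lit 24576) (Steps.bwd (nat_lit 1) (Steps.fwd (nat_lit 24576) (Steps.fwd (nat_lit 8192) (Steps.bwd (nat_lit 3) (Steps.bwd (nat_lit 1) (Steps.fwd (nat_lit 16384) (Steps.fwd (nat_lit 8192) (Steps.bwd (nat_lit 4) (Steps.fwd (nat_lit 24576) (Steps.bwd (nat_lit 1) (Steps.fwd (nat_lit 147456) Steps.nil)))))))))))) (nat_lit 193) (nat_lit 0),
  Rule.mk (nat_lit 0) (nat_lit 194) (Steps.bwd (nat_lit 17) (Steps.fwd (nat_lit 24576) (Steps.bwd (nat_lit 1) (Steps.fwd (nat_lit 24576) (Steps.fwd (nat_lit 8192) (Steps.bwd (nat_lit 3) (Steps.fwd (nat_lit 8192) (Steps.fwd (nat_lit 16384) (Steps.bwd (nat_lit 1) (Steps.bwd (nat_lit 4) (Steps.fwd (nat_lit 24576) (Steps.fwd (nat_lit 8192) Steps.nil)))))))))))) (nat_lit 193) (nat_lit 11),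
  Rule.mk (nat_lit 17) (nat_lit 179) (Steps.fwd (nat_lit 24576) (Steps.bwd (nat_lit 1) (Steps.fwd (nat_lit 24576) (Steps.fwd (nat_lit 8192) (Steps.fwd (nat_lit 16384) (Steps.bwd (nat_lit 1) (Steps.fwd (nat_lit 16384) (Steps.bwd (nat_lit 1) (Steps.fwd (nat_lit 32768) (Steps.bwd (nat_lit 2) (Steps.bwd (nat_lit 1) Steps.nil))))))))))) (nat_lit 193) (nat_lit 0),
  Rule.mk (nat_lit 0) (nat_lit 194) (Steps.bwd (nat_lit 17) (Steps.bwd (nat_lit 2) (Steps.bwd (nat_lit 1) (Steps.bwd (nat_lit 2) (Steps.fwd (nat_lit 8192) (Steps.fwd (nat_lit 16384) (Steps.fwd (nat_lit 8192) (Steps.bwd (nat_lit 3) (Steps.fwd (nat_lit 8192) (Steps.bwd (nat_lit 4) (Steps.fwd (nat_lit 24576) (Steps.bwd (nat_lit 1) Steps.nil)))))))))))) (nat_lit 193) (nat_lit 11),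
  Rule.mk (nat_lit 20) (nat_lit 179) (Steps.bwd (nat_lit 1) (Steps.fwd (nat_lit 24576) (Steps.bwd (nat_lit 1) (Steps.fwd (nat_lit 24576) (Steps.fwd (nat_lit 8192) (Steps.bwd (nat_lit 3) (Steps.fwd (nat_lit 8192) (Steps.fwd (nat_lit 16384) (Steps.bwd (nat_lit 1) (Steps.bwd (nat_lit 4) (Steps.fwd (nat_lit 24576) Steps.nil))))))))))) (nat_lit 194) (nat_lit 1),
  Rule.mk (nat_lit 0) (nat_lit 194) (Steps.bwd (nat_lit 20) (Steps.bwd (nat_lit 1) (Steps.fwd (nat_lit 24576) (Steps.bwd (nat_lit 1) (Steps.fwd (nat_lit 24576) (Steps.fwd (nat_lit 8192) (Steps.fwd (nat_lit 16384) (Steps.bwd (nat_lit 1) (Steps.fwd (nat_lit 16384) (Steps.bwd (nat_lit 1) (Steps.fwd (nat_lit 32768) (Steps.bwd (nat_lit 2) Steps.nil)))))))))))) (nat_lit 194) (nat_lit 0),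
  Rule.mk (nat_lit 0) (nat_lit 194) (Steps.bwd (nat_lit 19) (Steps.fwd (nat_lit 16384) (Steps.fwd (nat_lit 32768) (Steps.bwd (nat_lit 1) (Steps.fwd (nat_lit 24576) (Steps.bwd (nat_lit 1) (Steps.fwd (nat_lit 24576) (Steps.fwd (nat_lit 8192) (Steps.fwd (nat_lit 16384) (Steps.bwd (nat_lit 1) (Steps.fwd (nat_lit 16384) (Steps.bwd (nat_lit 1) Steps.nil)))))))))))) (nat_lit 195) (nat_lit 11),
  Rule.mk (nat_lit 19) (nat_lit 179) (Steps.fwd (nat_lit 16384) (Steps.fwd (nat_lit 32768) (Steps.bwd (nat_lit 1) (Steps.bwd (nat_lit 2) (Steps.bwd (nat_lit 1) (Steps.bwd (nat_lit 2) (Steps.fwd (nat_lit 8192) (Steps.fwd (nat_lit 16384) (Steps.fwd (nat_lit 8192) (Steps.bwd (nat_lit 3) (Steps.fwd (nat_lit 8192) Steps.nil))))))))))) (nat_lit 195) (nat_lit 0),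
  Rule.mk (nat_lit 0) (nat_lit 194) (Steps.bwd (nat_lit 19) (Steps.bwd (nat_lit 3) (Steps.fwd (nat_lit 32768) (Steps.bwd (nat_lit 1) (Steps.bwd (nat_lit 2) (Steps.fwd (nat_lit 8192) (Steps.fwd (nat_lit 24576) (Steps.bwd (nat_lit 1) (Steps.bwd (nat_lit 3) (Steps.fwd (nat_lit 8192) (Steps.bwd (nat_lit 3) (Steps.fwd (nat_lit 8192) Steps.nil)))))))))))) (nat_lit 195) (nat_lit 11),
  Rule.mk (nat_lit 3) (nat_lit 179) (Steps.bwd (nat_lit 18) (Steps.bwd (nat_lit 1) (Steps.bwd (nat_lit 3) (Steps.fwd (nat_lit 32768) (Steps.fwd (nat_lit 8192) (Steps.fwd (nat_lit 24576) (Steps.fwd (nat_lit 8192) (Steps.bwd (nat_lit 2) (Steps.bwd (nat_lit 1) (Steps.bwd (nat_lit 3) (Steps.fwd (nat_lit 8192) Steps.nil))))))))))) (nat_lit 192) (nat_lit 0),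
  Rule.mk (nat_lit 6) (nat_lit 134) (Steps.bwd (nat_lit 10) (Steps.fwd (nat_lit 90112) (Steps.bwd (nat_lit 12) (Steps.fwd (nat_lit 106496) (Steps.fwd (nat_lit 114688) (Steps.fwd (nat_lit 24576) (Steps.fwd (nat_lit 106496) (Steps.bwd (nat_lit 3) Steps.nil)))))))) (nat_lit 186) (nat_lit 4),
  Rule.mk (nat_lit 1) (nat_lit 539) (Steps.fwd (nat_lit 16384) (Steps.fwd (nat_lit 8192) (Steps.fwd (nat_lit 24576) (Steps.fwd (nat_lit 8192) (Steps.bwd (nat_lit 3) (Steps.bwd (nat_lit 1) (Steps.bwd (nat_lit 3) (Steps.bwd (nat_lit 1) (Steps.bwd (nat_lit 2) (Steps.bwd (nat_lit 1) (Steps.fwd (nat_lit 24576) (Steps.bwd (nat_lit 1) (Steps.bwd (nat_lit 3) (Steps.bwd (nat_lit 1) (Steps.bwd (nat_lit 2) (Steps.bwd (nat_lit 1) (Steps.bwd (nat_lit 2) (Steps.fwd (nat_lit 8192) (Steps.bwd (nat_lit 3) (Steps.fwd (nat_lit 8192) (Steps.fwd (nat_lit 24576) (Steps.fwd (nat_lit 8192) (Steps.fwd (nat_lit 24576) (Steps.bwd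 (nat_lit 1) (Steps.fwd (nat_lit 16384) (Steps.fwd (nat_lit 8192) (Steps.fwd (nat_lit 24576) (Steps.fwd (nat_lit 8192) (Steps.bwd (nat_lit 3) (Steps.bwd (nat_lit 1) (Steps.fwd (nat_lit 16384) (Steps.bwd (nat_lit 1) (Steps.bwd (nat_lit 2) (Steps.fwd (nat_lit 8192) (Steps.bwd (nat_lit 3) Steps.nil))))))))))))))))))))))))))))))))))) (nat_lit 12) (nat_lit 29),
  Rule.mk (nat_lit 10) (nat_lit 134) (Steps.bwd (nat_lit 1) (Steps.fwd (nat_lit 114688) (Steps.bwd (nat_lit 11) (Steps.bwd (nat_lit 9) (Steps.bwd (nat_lit 8) (Steps.fwd (nat_lit 40960) (Steps.bwd (nat_lit 4) (Steps.fwd (nat_lit 8192) Steps.nil)))))))) (nat_lit 159) (nat_lit 8),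
  Rule.mk (nat_lit 0) (nat_lit 194) (Steps.bwd (nat_lit 15) (Steps.fwd (nat_lit 16384) (Steps.fwd (nat_lit 8192) (Steps.bwd (nat_lit 4) (Steps.bwd (nat_lit 3) (Steps.fwd (nat_lit 8192) (Steps.fwd (nat_lit 24576) (Steps.bwd (nat_lit 1) (Steps.bwd (nat_lit 2) (Steps.fwd (nat_lit 8192) (Steps.fwd (nat_lit 24576) (Steps.bwd (nat_lit 1) Steps.nil)))))))))))) (nat_lit 191) (nat_lit 11),
  Rule.mk (nat_lit 16) (nat_lit 179) (Steps.bwd (nat_lit 1) (Steps.fwd (nat_lit 16384) (Steps.fwd (nat_lit 8192) (Steps.bwd (nat_lit 3) (Steps.bwd (nat_lit 1) (Steps.fwd (nat_lit 16384) (Steps.fwd (nat_lit 8192) (Steps.fwd (nat_lit 24576) (Steps.bwd (nat_lit 4) (Steps.fwd (nat_lit 8192) (Steps.fwd (nat_lit 24576) Steps.nil))))))))))) (nat_lit 190) (nat_lit 1),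
  Rule.mk (nat_lit 18) (nat_lit 179) (Steps.bwd (nat_lit 1) (Steps.fwd (nat_lit 16384) (Steps.bwd (nat_lit 4) (Steps.bwd (nat_lit 1) (Steps.fwd (nat_lit 24576) (Steps.fwd (nat_lit 8192) (Steps.bwd (nat_lit 2) (Steps.bwd (nat_lit 1) (Steps.fwd (nat_lit 16384) (Steps.bwd (nat_lit 1) (Steps.bwd (nat_lit 3) Steps.nil))))))))))) (nat_lit 192) (nat_lit 1),
  Rule.mk (nat_lit 20) (nat_lit 179) (Steps.fwd (nat_lit 8192) (Steps.fwd (nat_lit 24576) (Steps.bwd (nat_lit 1) (Steps.bwd (nat_lit 2) (Steps.fwd (nat_lit 8192) (Steps.bwd (nat_lit 3) (Steps.bwd (nat_lit 1) (Steps.fwd (nat_lit 16384) (Steps.fwd (nat_lit 8192) (Steps.bwd (nat_lit 4) (Steps.fwd (nat_lit 24576) Steps.nil))))))))))) (nat_lit 194) (nat_lit 1),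
  Rule.mk (nat_lit 19) (nat_lit 179) (Steps.bwd (nat_lit 3) (Steps.fwd (nat_lit 32768) (Steps.fwd (nat_lit 8192) (Steps.fwd (nat_lit 24576) (Steps.fwd (nat_lit 8192) (Steps.bwd (nat_lit 2) (Steps.bwd (nat_lit 1) (Steps.bwd (nat_lit 3) (Steps.fwd (nat_lit 8192) (Steps.bwd (nat_lit 3) (Steps.bwd (nat_lit 1) Steps.nil))))))))))) (nat_lit 195) (nat_lit 0),
  Rule.mk (nat_lit 5) (nat_lit 104) (Steps.bwd (nat_lit 2) (Steps.fwd (nat_lit 57344) (Steps.fwd (nat_lit 16384) (Steps.fwd (nat_lit 114688) (Steps.bwd (nat_lit 13) (Steps.bwd (nat_lit 7) Steps.nil)))))) (nat_lit 175) (nat_lit 4),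
  Rule.mk (nat_lit 1) (nat_lit 104) (Steps.fwd (nat_lit 65536) (Steps.fwd (nat_lit 8192) (Steps.fwd (nat_lit 114688) (Steps.bwd (nat_lit 13) (Steps.bwd (nat_lit 7) (Steps.bwd (nat_lit 5) Steps.nil)))))) (nat_lit 155) (nat_lit 5),
  Rule.mk (nat_lit 16) (nat_lit 179) (Steps.fwd (nat_lit 8192) (Steps.fwd (nat_lit 16384) (Steps.bwd (nat_lit 1) (Steps.bwd (nat_lit 3) (Steps.fwd (nat_lit 8192) (Steps.fwd (nat_lit 16384) (Steps.fwd (nat_lit 8192) (Steps.bwd (nat_lit 2) (Steps.fwd (nat_lit 32768) (Steps.bwd (nat_lit 1) (Steps.bwd (nat_lit 2) Steps.nil))))))))))) (nat_lit 190) (nat_lit 1),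
  Rule.mk (nat_lit 20) (nat_lit 179) (Steps.bwd (nat_lit 1) (Steps.bwd (nat_lit 2) (Steps.fwd (nat_lit 8192) (Steps.fwd (nat_lit 24576) (Steps.bwd (nat_lit 1) (Steps.bwd (nat_lit 3) (Steps.fwd (nat_lit 8192) (Steps.bwd (nat_lit 3) (Steps.fwd (nat_lit 8192) (Steps.bwd (nat_lit 4) (Steps.bwd (nat_lit 2) Steps.nil))))))))))) (nat_lit 194) (nat_lit 1),
  Rule.mk (nat_lit 3) (nat_lit 179) (Steps.bwd (nat_lit 18) (Steps.fwd (nat_lit 8192) (Steps.bwd (nat_lit 3) (Steps.fwd (nat_lit 32768) (Steps.fwd (nat_lit 8192) (Steps.bwd (nat_lit 2) (Steps.fwd (nat_lit 8192) (Steps.fwd (nat_lit 24576) (Steps.bwd (nat_lit 1) (Steps.fwd (nat_lit 16384) (Steps.bwd (nat_lit 1) Steps.nil))))))))))) (nat_lit 192) (nat_lit 0),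
  Rule.mk (nat_lit 14) (nat_lit 89) (Steps.fwd (nat_lit 57344) (Steps.bwd (nat_lit 4) (Steps.bwd (nat_lit 2) (Steps.bwd (nat_lit 8) (Steps.bwd (nat_lit 3) Steps.nil))))) (nat_lit 177) (nat_lit 1),
  Rule.mk (nat_lit 1) (nat_lit 104) (Steps.fwd (nat_lit 90112) (Steps.fwd (nat_lit 8192) (Steps.fwd (nat_lit 114688) (Steps.bwd (nat_lit 12) (Steps.bwd (nat_lit 11) (Steps.bwd (nat_lit 6) Steps.nil)))))) (nat_lit 161) (nat_lit 5),
  Rule.mk (nat_lit 5) (nat_lit 164) (Steps.bwd (nat_lit 1) (Steps.bwd (nat_lit 7) (Steps.fwd (nat_lit 8192) (Steps.fwd (nat_lit 114688) (Steps.fwd (nat_lit 106496) (Steps.bwd (nat_lit 12) (Steps.bwd (nat_lit 11) (Steps.fwd (nat_lit 81920) (Steps.fwd (nat_lit 73728) (Steps.bwd (nat_lit 6) Steps.nil)))))))))) (nat_lit 153) (nat_lit 8),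
  Rule.mk (nat_lit 0) (nat_lit 194) (Steps.bwd (nat_lit 15) (Steps.fwd (nat_lit 16384) (Steps.fwd (nat_lit 8192) (Steps.bwd (nat_lit 4) (Steps.bwd (nat_lit 3) (Steps.fwd (nat_lit 8192) (Steps.bwd (nat_lit 2) (Steps.bwd (nat_lit 1) (Steps.fwd (nat_lit 24576) (Steps.bwd (nat_lit 1) (Steps.bwd (nat_lit 2) (Steps.fwd (nat_lit 8192) Steps.nil)))))))))))) (nat_lit 191) (nat_lit 11),
  Rule.mk (nat_lit 16) (nat_lit 179) (Steps.fwd (nat_lit 8192) (Steps.bwd (nat_lit 3) (Steps.fwd (nat_lit 8192) (Steps.fwd (nat_lit 16384) (Steps.bwd (nat_lit 1) (Steps.bwd (nat_lit 3) (Steps.bwd (nat_lit 1) (Steps.bwd (nat_lit 2) (Steps.fwd (nat_lit 32768) (Steps.bwd (nat_lit 1) (Steps.bwd (nat_lit 2) Steps.nil))))))))))) (nat_lit 190) (nat_lit 1),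
  Rule.mk (nat_lit 0) (nat_lit 194) (Steps.bwd (nat_lit 15) (Steps.fwd (nat_lit 16384) (Steps.bwd (nat_lit 1) (Steps.fwd (nat_lit 32768) (Steps.fwd (nat_lit 16384) (Steps.fwd (nat_lit 8192) (Steps.bwd (nat_lit 2) (Steps.fwd (nat_lit 8192) (Steps.fwd (nat_lit 24576) (Steps.fwd (nat_lit 8192) (Steps.bwd (nat_lit 2) (Steps.bwd (nat_lit 1) Steps.nil)))))))))))) (nat_lit 191) (nat_lit 11),
  Rule.mk (nat_lit 15) (nat_lit 179) (Steps.fwd (nat_lit 16384) (Steps.bwd (nat_lit 1) (Steps.fwd (nat_lit 32768) (Steps.bwd (nat_lit 3) (Steps.bwd (nat_lit 1) (Steps.fwd (nat_lit 24576) (Steps.bwd (nat_lit 1) (Steps.fwd (nat_lit 24576) (Steps.fwd (nat_lit 8192) (Steps.fwd (nat_lit 24576) (Steps.fwd (nat_lit 8192) Steps.nil))))))))))) (nat_lit 191) (nat_lit 0),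
  Rule.mk (nat_lit 18) (nat_lit 179) (Steps.bwd (nat_lit 1) (Steps.bwd (nat_lit 3) (Steps.fwd (nat_lit 32768) (Steps.bwd (nat_lit 1) (Steps.fwd (nat_lit 24576) (Steps.bwd (nat_lit 1) (Steps.fwd (nat_lit 24576) (Steps.fwd (nat_lit 8192) (Steps.bwd (nat_lit 3) (Steps.fwd (nat_lit 8192) (Steps.fwd (nat_lit 16384) Steps.nil))))))))))) (nat_lit 192) (nat_lit 1),
  Rule.mk (nat_lit 17) (nat_lit 179) (Steps.fwd (nat_lit 24576) (Steps.bwd (nat_lit 1) (Steps.fwd (nat_lit 24576) (Steps.fwd (nat_lit 8192) (Steps.bwd (nat_lit 3) (Steps.fwd (nat_lit 8192) (Steps.fwd (nat_lit 16384) (Steps.bwd (nat_lit 1) (Steps.fwd (nat_lit 32768) (Steps.fwd (nat_lit 24576) (Steps.bwd (nat_lit 1) Steps.nil))))))))))) (nat_lit 193) (nat_lit 0),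
  Rule.mk (nat_lit 19) (nat_lit 179) (Steps.bwd (nat_lit 3) (Steps.bwd (nat_lit 4) (Steps.bwd (nat_lit 1) (Steps.fwd (nat_lit 24576) (Steps.bwd (nat_lit 1) (Steps.fwd (nat_lit 24576) (Steps.fwd (nat_lit 8192) (Steps.bwd (nat_lit 3) (Steps.fwd (nat_lit 8192) (Steps.fwd (nat_lit 16384) (Steps.bwd (nat_lit 1) Steps.nil))))))))))) (nat_lit 195) (nat_lit 0),
  Rule.mk (nat_lit 2) (nat_lit 164) (Steps.bwd (nat_lit 11) (Steps.bwd (nat_lit 3) (Steps.fwd (nat_lit 32768) (Steps.fwd (nat_lit 40960) (Steps.fwd (nat_lit 65536) (Steps.bwd (nat_lit 9) (Steps.bwd (nat_lit 10) (Steps.bwd (nat_lit 11) (Steps.fwd (nat_lit 98304) (Steps.bwd (nat_lit 14) Steps.nil)))))))))) (nat_lit 182) (nat_lit 1),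
  Rule.mk (nat_lit 2) (nat_lit 179) (Steps.bwd (nat_lit 16) (Steps.fwd (nat_lit 8192) (Steps.fwd (nat_lit 16384) (Steps.bwd (nat_lit 1) (Steps.fwd (nat_lit 16384) (Steps.fwd (nat_lit 8192) (Steps.bwd (nat_lit 3) (Steps.fwd (nat_lit 8192) (Steps.bwd (nat_lit 2) (Steps.bwd (nat_lit 4) (Steps.fwd (nat_lit 8192) Steps.nil))))))))))) (nat_lit 190) (nat_lit 0),
  Rule.mk (nat_lit 8) (nat_lit 89) (Steps.fwd (nat_lit 16384) (Steps.fwd (nat_lit 32768) (Steps.fwd (nat_lit 57344) (Steps.bwd (nat_lit 14) (Steps.fwd (nat_lit 24576) Steps.nil))))) (nat_lit 176) (nat_lit 2),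
  Rule.mk (nat_lit 6) (nat_lit 59) (Steps.fwd (nat_lit 65536) (Steps.fwd (nat_lit 49152) (Steps.bwd (nat_lit 8) Steps.nil))) (nat_lit 52) (nat_lit 0),
  Rule.mk (nat_lit 0) (nat_lit 194) (Steps.bwd (nat_lit 15) (Steps.bwd (nat_lit 3) (Steps.fwd (nat_lit 8192) (Steps.bwd (nat_lit 4) (Steps.bwd (nat_lit 3) (Steps.fwd (nat_lit 8192) (Steps.bwd (nat_lit 2) (Steps.fwd (nat_lit 8192) (Steps.bwd (nat_lit 2) (Steps.fwd (nat_lit 8192) (Steps.bwd (nat_lit 2) (Steps.fwd (nat_lit 8192) Steps.nil)))))))))))) (nat_lit 191) (nat_lit 11),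
  Rule.mk (nat_lit 17) (nat_lit 179) (Steps.fwd (nat_lit 24576) (Steps.fwd (nat_lit 8192) (Steps.bwd (nat_lit 2) (Steps.bwd (nat_lit 1) (Steps.fwd (nat_lit 16384) (Steps.fwd (nat_lit 8192) (Steps.fwd (nat_lit 16384) (Steps.bwd (nat_lit 1) (Steps.fwd (nat_lit 32768) (Steps.fwd (nat_lit 24576) (Steps.bwd (nat_lit 1) Steps.nil))))))))))) (nat_lit 193) (nat_lit 0),
  Rule.mk (nat_lit 20) (nat_lit 179) (Steps.bwd (nat_lit 1) (Steps.fwd (nat_lit 24576) (Steps.fwd (nat_lit 8192) (Steps.bwd (nat_lit 2) (Steps.bwd (nat_lit 1) (Steps.fwd (nat_lit 16384) (Steps.fwd (nat_lit 8192) (Steps.fwd (nat_lit 16384) (Steps.bwd (nat_lit 1) (Steps.fwd (nat_lit 32768) (Steps.fwd (nat_lit 24576) Steps.nil))))))))))) (nat_lit 194) (nat_lit 1)]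
noncomputable def R_77 : List (Rule) := [Rule.mk (nat_lit 3) (nat_lit 134) (Steps.bwd (nat_lit 6) (Steps.bwd (nat_lit 10) (Steps.fwd (nat_lit 90112) (Steps.fwd (nat_lit 98304) (Steps.bwd (nat_lit 13) (Steps.fwd (nat_lit 114688) (Steps.fwd (nat_lit 24576) (Steps.bwd (nat_lit 13) Steps.nil)))))))) (nat_lit 186) (nat_lit 3),
  Rule.mk (nat_lit 16) (nat_lit 179) (Steps.fwd (nat_lit 8192) (Steps.fwd (nat_lit 16384) (Steps.fwd (nat_lit 8192) (Steps.bwd (nat_lit 3) (Steps.fwd (nat_lit 8192) (Steps.fwd (nat_lit 16384) (Steps.bwd (nat_lit 1) (Steps.fwd (nat_lit 24576) (Steps.fwd (nat_lit 32768) (Steps.fwd (nat_lit 8192) (Steps.fwd (nat_lit 24576) Steps.nil))))))))))) (nat_lit 190) (nat_lit 1),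
  Rule.mk (nat_lit 17) (nat_lit 179) (Steps.fwd (nat_lit 24576) (Steps.fwd (nat_lit 8192) (Steps.bwd (nat_lit 2) (Steps.fwd (nat_lit 8192) (Steps.bwd (nat_lit 3) (Steps.fwd (nat_lit 8192) (Steps.fwd (nat_lit 16384) (Steps.bwd (nat_lit 1) (Steps.bwd (nat_lit 4) (Steps.bwd (nat_lit 2) (Steps.fwd (nat_lit 8192) Steps.nil))))))))))) (nat_lit 193) (nat_lit 0),
  Rule.mk (nat_lit 20) (nat_lit 179) (Steps.bwd (nat_lit 1) (Steps.fwd (nat_lit 24576) (Steps.fwd (nat_lit 8192) (Steps.bwd (nat_lit 2) (Steps.fwd (nat_lit 8192) (Steps.bwd (nat_lit 3) (Steps.fwd (nat_lit 8192) (Steps.fwd (nat_lit 16384) (Steps.bwd (nat_lit 1) (Steps.bwd (nat_lit 4) (Steps.bwd (nat_lit 2) Steps.nil))))))))))) (nat_lit 194) (nat_lit 1),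
  Rule.mk (nat_lit 0) (nat_lit 194) (Steps.bwd (nat_lit 18) (Steps.fwd (nat_lit 8192) (Steps.bwd (nat_lit 3) (Steps.fwd (nat_lit 32768) (Steps.fwd (nat_lit 8192) (Steps.bwd (nat_lit 2) (Steps.fwd (nat_lit 8192) (Steps.bwd (nat_lit 2) (Steps.fwd (nat_lit 8192) (Steps.fwd (nat_lit 16384) (Steps.bwd (nat_lit 1) (Steps.fwd (nat_lit 16384) Steps.nil)))))))))))) (nat_lit 192) (nat_lit 0),
  Rule.mk (nat_lit 18) (nat_lit 179) (Steps.fwd (nat_lit 8192) (Steps.fwd (nat_lit 16384) (Steps.bwd (nat_lit 4) (Steps.bwd (nat_lit 1) (Steps.fwd (nat_lit 24576) (Steps.bwd (nat_lit 1) (Steps.bwd (nat_lit 2) (Steps.fwd (nat_lit 8192) (Steps.fwd (nat_lit 16384) (Steps.bwd (nat_lit 1) (Steps.bwd (nat_lit 3) Steps.nil))))))))))) (nat_lit 192) (nat_lit 1),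
  Rule.mk (nat_lit 0) (nat_lit 194) (Steps.bwd (nat_lit 20) (Steps.fwd (nat_lit 8192) (Steps.bwd (nat_lit 2) (Steps.fwd (nat_lit 8192) (Steps.bwd (nat_lit 2) (Steps.fwd (nat_lit 8192) (Steps.fwd (nat_lit 16384) (Steps.bwd (nat_lit 1) (Steps.fwd (nat_lit 16384) (Steps.bwd (nat_lit 1) (Steps.bwd (nat_lit 4) (Steps.fwd (nat_lit 24576) Steps.nil)))))))))))) (nat_lit 194) (nat_lit 0),
  Rule.mk (nat_lit 2) (nat_lit 179) (Steps.bwd (nat_lit 20) (Steps.fwd (nat_lit 8192) (Steps.bwd (nat_lit 2) (Steps.fwd (nat_lit 8192) (Steps.bwd (nat_lit 2) (Steps.fwd (nat_lit 8192) (Steps.bwd (nat_lit 3) (Steps.fwd (nat_lit 8192) (Steps.bwd (nat_lit 3) (Steps.bwd (nat_lit 1) (Steps.bwd (nat_lit 4) Steps.nil))))))))))) (nat_lit 194) (nat_lit 0),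
  Rule.mk (nat_lit 14) (nat_lit 119) (Steps.bwd (nat_lit 3) (Steps.bwd (nat_lit 5) (Steps.bwd (nat_lit 6) (Steps.fwd (nat_lit 57344) (Steps.bwd (nat_lit 12) (Steps.fwd (nat_lit 114688) (Steps.bwd (nat_lit 2) Steps.nil))))))) (nat_lit 188) (nat_lit 2),
  Rule.mk (nat_lit 5) (nat_lit 149) (Steps.bwd (nat_lit 3) (Steps.fwd (nat_lit 32768) (Steps.bwd (nat_lit 5) (Steps.bwd (nat_lit 8) (Steps.bwd (nat_lit 9) (Steps.bwd (nat_lit 12) (Steps.fwd (nat_lit 106496) (Steps.fwd (nat_lit 114688) (Steps.bwd (nat_lit 2) Steps.nil))))))))) (nat_lit 170) (nat_lit 2),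
  Rule.mk (nat_lit 6) (nat_lit 164) (Steps.bwd (nat_lit 3) (Steps.fwd (nat_lit 40960) (Steps.fwd (nat_lit 49152) (Steps.fwd (nat_lit 73728) (Steps.bwd (nat_lit 10) (Steps.fwd (nat_lit 90112) (Steps.bwd (nat_lit 12) (Steps.fwd (nat_lit 106496) (Steps.fwd (nat_lit 114688) (Steps.bwd (nat_lit 2) Steps.nil)))))))))) (nat_lit 172) (nat_lit 2),
  Rule.mk (nat_lit 16) (nat_lit 179) (Steps.fwd (nat_lit 8192) (Steps.bwd (nat_lit 3) (Steps.bwd (nat_lit 1) (Steps.fwd (nat_lit 16384) (Steps.bwd (nat_lit 1) (Steps.bwd (nat_lit 3) (Steps.fwd (nat_lit 8192) (Steps.bwd (nat_lit 2) (Steps.fwd (nat_lit 32768) (Steps.fwd (nat_lit 8192) (Steps.bwd (nat_lit 2) Steps.nil))))))))))) (nat_lit 190) (nat_lit 1),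
  Rule.mk (nat_lit 3) (nat_lit 179) (Steps.bwd (nat_lit 18) (Steps.fwd (nat_lit 8192) (Steps.fwd (nat_lit 16384) (Steps.bwd (nat_lit 4) (Steps.bwd (nat_lit 1) (Steps.fwd (nat_lit 24576) (Steps.bwd (nat_lit 1) (Steps.fwd (nat_lit 24576) (Steps.bwd (nat_lit 1) (Steps.fwd (nat_lit 16384) (Steps.fwd (nat_lit 8192) Steps.nil))))))))))) (nat_lit 192) (nat_lit 0),
  Rule.mk (nat_lit 14) (nat_lit 89) (Steps.fwd (nat_lit 57344) (Steps.fwd (nat_lit 32768) (Steps.bwd (nat_lit 2) (Steps.bwd (nat_lit 8) (Steps.bwd (nat_lit 3) Steps.nil))))) (nat_lit 177) (nat_lit 1),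
  Rule.mk (nat_lit 6) (nat_lit 104) (Steps.bwd (nat_lit 11) (Steps.fwd (nat_lit 98304) (Steps.fwd (nat_lit 114688) (Steps.fwd (nat_lit 24576) (Steps.fwd (nat_lit 81920) (Steps.bwd (nat_lit 3) Steps.nil)))))) (nat_lit 180) (nat_lit 4),
  Rule.mk (nat_lit 18) (nat_lit 179) (Steps.fwd (nat_lit 8192) (Steps.bwd (nat_lit 3) (Steps.bwd (nat_lit 4) (Steps.bwd (nat_lit 1) (Steps.bwd (nat_lit 2) (Steps.bwd (nat_lit 1) (Steps.bwd (nat_lit 2) (Steps.fwd (nat_lit 8192) (Steps.bwd (nat_lit 3) (Steps.fwd (nat_lit 8192) (Steps.fwd (nat_lit 16384) Steps.nil))))))))))) (nat_lit 192) (nat_lit 1),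
  Rule.mk (nat_lit 19) (nat_lit 179) (Steps.bwd (nat_lit 3) (Steps.bwd (nat_lit 4) (Steps.bwd (nat_lit 1) (Steps.bwd (nat_lit 2) (Steps.bwd (nat_lit 1) (Steps.bwd (nat_lit 2) (Steps.fwd (nat_lit 8192) (Steps.bwd (nat_lit 3) (Steps.fwd (nat_lit 8192) (Steps.fwd (nat_lit 16384) (Steps.fwd (nat_lit 8192) Steps.nil))))))))))) (nat_lit 195) (nat_lit 0),
  Rule.mk (nat_lit 16) (nat_lit 179) (Steps.fwd (nat_lit 8192) (Steps.bwd (nat_lit 3) (Steps.bwd (nat_lit 1) (Steps.bwd (nat_lit 3) (Steps.bwd (nat_lit 1) (Steps.fwd (nat_lit 16384) (Steps.fwd (nat_lit 8192) (Steps.fwd (nat_lit 24576) (Steps.fwd (nat_lit 32768) (Steps.bwd (nat_lit 1) (Steps.fwd (nat_lit 24576) Steps.nil))))))))))) (nat_lit 190) (nat_lit 1),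
  Rule.mk (nat_lit 0) (nat_lit 194) (Steps.bwd (nat_lit 15) (Steps.bwd (nat_lit 3) (Steps.bwd (nat_lit 1) (Steps.fwd (nat_lit 32768) (Steps.fwd (nat_lit 16384) (Steps.bwd (nat_lit 1) (Steps.bwd (nat_lit 2) (Steps.bwd (nat_lit 1) (Steps.fwd (nat_lit 24576) (Steps.bwd (nat_lit 1) (Steps.bwd (nat_lit 2) (Steps.fwd (nat_lit 8192) Steps.nil)))))))))))) (nat_lit 191) (nat_lit 11),
  Rule.mk (nat_lit 0) (nat_lit 194) (Steps.bwd (nat_lit 16) (Steps.bwd (nat_lit 1) (Steps.fwd (nat_lit 16384) (Steps.bwd (nat_lit 1) (Steps.fwd (nat_lit 16384) (Steps.fwd (nat_lit 8192) (Steps.bwd (nat_lit 3) (Steps.fwd (nat_lit 8192) (Steps.bwd (nat_lit 2) (Steps.fwd (nat_lit 32768) (Steps.fwd (nat_lit 8192) (Steps.bwd (nat_lit 2) Steps.nil)))))))))))) (nat_lit 190) (nat_lit 0),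
  Rule.mk (nat_lit 15) (nat_lit 179) (Steps.fwd (nat_lit 16384) (Steps.bwd (nat_lit 1) (Steps.bwd (nat_lit 4) (Steps.bwd (nat_lit 3) (Steps.fwd (nat_lit 8192) (Steps.fwd (nat_lit 24576) (Steps.bwd (nat_lit 1) (Steps.fwd (nat_lit 24576) (Steps.fwd (nat_lit 8192) (Steps.fwd (nat_lit 24576) (Steps.bwd (nat_lit 1) Steps.nil))))))))))) (nat_lit 191) (nat_lit 0),
  Rule.mk (nat_lit 0) (nat_lit 194) (Steps.bwd (nat_lit 17) (Steps.fwd (nat_lit 24576) (Steps.fwd (nat_lit 8192) (Steps.bwd (nat_lit 2) (Steps.fwd (nat_lit 8192) (Steps.bwd (nat_lit 3) (Steps.fwd (nat_lit 8192) (Steps.fwd (nat_lit 16384) (Steps.fwd (nat_lit 8192) (Steps.fwd (nat_lit 32768) (Steps.bwd (nat_lit 2) (Steps.fwd (nat_lit 8192) Steps.nil)))))))))))) (nat_lit 193) (nat_lit 11),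
  Rule.mk (nat_lit 0) (nat_lit 194) (Steps.bwd (nat_lit 1) (Steps.fwd (nat_lit 16384) (Steps.fwd (nat_lit 32768) (Steps.bwd (nat_lit 1) (Steps.fwd (nat_lit 24576) (Steps.bwd (nat_lit 1) (Steps.bwd (nat_lit 2) (Steps.fwd (nat_lit 8192) (Steps.bwd (nat_lit 3) (Steps.fwd (nat_lit 8192) (Steps.bwd (nat_lit 3) (Steps.fwd (nat_lit 139264) Steps.nil)))))))))))) (nat_lit 192) (nat_lit 1),
  Rule.mk (nat_lit 0) (nat_lit 194) (Steps.bwd (nat_lit 18) (Steps.bwd (nat_lit 1) (Steps.bwd (nat_lit 3) (Steps.bwd (nat_lit 4) (Steps.fwd (nat_lit 8192) (Steps.fwd (nat_lit 24576) (Steps.fwd (nat_lit 8192) (Steps.bwd (nat_lit 2) (Steps.fwd (nat_lit 8192) (Steps.bwd (nat_lit 3) (Steps.fwd (nat_lit 8192) (Steps.fwd (nat_lit 16384) Steps.nil)))))))))))) (nat_lit 192) (nat_lit 0),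
  Rule.mk (nat_lit 20) (nat_lit 179) (Steps.bwd (nat_lit 1) (Steps.fwd (nat_lit 24576) (Steps.bwd (nat_lit 1) (Steps.bwd (nat_lit 2) (Steps.fwd (nat_lit 8192) (Steps.bwd (nat_lit 3) (Steps.fwd (nat_lit 8192) (Steps.bwd (nat_lit 3) (Steps.fwd (nat_lit 8192) (Steps.fwd (nat_lit 32768) (Steps.bwd (nat_lit 2) Steps.nil))))))))))) (nat_lit 194) (nat_lit 1),
  Rule.mk (nat_lit 0) (nat_lit 194) (Steps.fwd (nat_lit 16384) (Steps.bwd (nat_lit 4) (Steps.bwd (nat_lit 1) (Steps.bwd (nat_lit 2) (Steps.bwd (nat_lit 1) (Steps.fwd (nat_lit 24576) (Steps.bwd (nat_lit 1) (Steps.fwd (nat_lit 16384) (Steps.bwd (nat_lit 1) (Steps.bwd (nat_lit 3) (Steps.bwd (nat_lit 1) (Steps.fwd (nat_lit 163840) Steps.nil)))))))))))) (nat_lit 195) (nat_lit 0),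
  Rule.mk (nat_lit 19) (nat_lit 179) (Steps.fwd (nat_lit 16384) (Steps.fwd (nat_lit 32768) (Steps.bwd (nat_lit 1) (Steps.fwd (nat_lit 24576) (Steps.bwd (nat_lit 1) (Steps.bwd (nat_lit 2) (Steps.fwd (nat_lit 8192) (Steps.bwd (nat_lit 3) (Steps.fwd (nat_lit 8192) (Steps.bwd (nat_lit 3) (Steps.fwd (nat_lit 8192) Steps.nil))))))))))) (nat_lit 195) (nat_lit 0),
  Rule.mk (nat_lit 2) (nat_lit 164) (Steps.bwd (nat_lit 11) (Steps.bwd (nat_lit 3) (Steps.fwd (nat_lit 114688) (Steps.bwd (nat_lit 12) (Steps.bwd (nat_lit 11) (Steps.fwd (nat_lit 81920) (Steps.bwd (nat_lit 9) (Steps.fwd (nat_lit 65536) (Steps.fwd (nat_lit 40960) (Steps.fwd (nat_lit 32768) Steps.nil)))))))))) (nat_lit 183) (nat_lit 9),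
  Rule.mk (nat_lit 2) (nat_lit 164) (Steps.bwd (nat_lit 11) (Steps.fwd (nat_lit 16384) (Steps.fwd (nat_lit 114688) (Steps.fwd (nat_lit 98304) (Steps.fwd (nat_lit 90112) (Steps.fwd (nat_lit 81920) (Steps.bwd (nat_lit 9) (Steps.bwd (nat_lit 8) (Steps.bwd (nat_lit 5) (Steps.fwd (nat_lit 32768) Steps.nil)))))))))) (nat_lit 183) (nat_lit 9),
  Rule.mk (nat_lit 16) (nat_lit 179) (Steps.fwd (nat_lit 8192) (Steps.fwd (nat_lit 16384) (Steps.fwd (nat_lit 8192) (Steps.fwd (nat_lit 16384) (Steps.bwd (nat_lit 1) (Steps.fwd (nat_lit 16384) (Steps.fwd (nat_lit 8192) (Steps.bwd (nat_lit 2) (Steps.fwd (nat_lit 32768) (Steps.fwd (nat_lit 8192) (Steps.fwd (nat_lit 24576) Steps.nil))))))))))) (nat_lit 190) (nat_lit 1),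
  Rule.mk (nat_lit 18) (nat_lit 179) (Steps.bwd (nat_lit 1) (Steps.fwd (nat_lit 16384) (Steps.fwd (nat_lit 32768) (Steps.fwd (nat_lit 8192) (Steps.fwd (nat_lit 24576) (Steps.fwd (nat_lit 8192) (Steps.fwd (nat_lit 24576) (Steps.bwd (nat_lit 1) (Steps.fwd (nat_lit 16384) (Steps.fwd (nat_lit 8192) (Steps.fwd (nat_lit 16384) Steps.nil))))))))))) (nat_lit 192) (nat_lit 1),
  Rule.mk (nat_lit 3) (nat_lit 179) (Steps.bwd (nat_lit 18) (Steps.fwd (nat_lit 8192) (Steps.bwd (nat_lit 3) (Steps.bwd (nat_lit 4) (Steps.bwd (nat_lit 1) (Steps.fwd (nat_lit 24576) (Steps.fwd (nat_lit 8192) (Steps.bwd (nat_lit 2) (Steps.bwd (nat_lit 1) (Steps.bwd (nat_lit 3) (Steps.fwd (nat_lit 8192) Steps.nil))))))))))) (nat_lit 192) (nat_lit 0),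
  Rule.mk (nat_lit 1) (nat_lit 599) (Steps.bwd (nat_lit 2) (Steps.fwd (nat_lit 8192) (Steps.fwd (nat_lit 24576) (Steps.bwd (nat_lit 1) (Steps.bwd (nat_lit 3) (Steps.fwd (nat_lit 8192) (Steps.bwd (nat_lit 3) (Steps.fwd (nat_lit 8192) (Steps.bwd (nat_lit 2) (Steps.fwd (nat_lit 8192) (Steps.bwd (nat_lit 2) (Steps.fwd (nat_lit 8192) (Steps.fwd (nat_lit 16384) (Steps.fwd (nat_lit 8192) (Steps.bwd (nat_lit 3) (Steps.fwd (nat_lit 8192) (Steps.bwd (nat_lit 2) (Steps.bwd (nat_lit 1) (Steps.fwd (nat_lit 24576) (Steps.bwd (nat_lit 1) (Steps.fwd (nat_lit 16384) (Steps.bwd (nat_lit 1) (Steps.fwd (nat_lit 16384) (Steps.fwd (nat_lit 8192) (Steps.fwd (nat_lit 24576) (Steps.fwd (nat_lit 8192) (Steps.fwd (nat_lit 24576) (Steps.bwd (nat_lit 1) (Steps.fwd (nat_lit 16384) (Steps.fwd (nat_lit 8192) (Steps.fwd (nat_lit 16384) (Steps.bwd (nat_lit 1) (Steps.fwd (nat_lit 24576) (Steps.fwd (nat_lit 8192) (Steps.bwd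 (nat_lit 2) (Steps.bwd (nat_lit 1) (Steps.bwd (nat_lit 3) (Steps.fwd (nat_lit 8192) (Steps.bwd (nat_lit 3) Steps.nil))))))))))))))))))))))))))))))))))))))) (nat_lit 8) (nat_lit 5),
  Rule.mk (nat_lit 13) (nat_lit 104) (Steps.bwd (nat_lit 1) (Steps.fwd (nat_lit 73728) (Steps.fwd (nat_lit 65536) (Steps.fwd (nat_lit 40960) (Steps.fwd (nat_lit 32768) (Steps.bwd (nat_lit 1) Steps.nil)))))) (nat_lit 165) (nat_lit 6),
  Rule.mk (nat_lit 16) (nat_lit 179) (Steps.fwd (nat_lit 8192) (Steps.bwd (nat_lit 3) (Steps.bwd (nat_lit 1) (Steps.fwd (nat_lit 16384) (Steps.bwd (nat_lit 1) (Steps.fwd (nat_lit 16384) (Steps.fwd (nat_lit 8192) (Steps.bwd (nat_lit 2) (Steps.fwd (nat_lit 32768) (Steps.bwd (nat_lit 1) (Steps.bwd (nat_lit 2) Steps.nil))))))))))) (nat_lit 190) (nat_lit 1),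
  Rule.mk (nat_lit 15) (nat_lit 179) (Steps.bwd (nat_lit 3) (Steps.bwd (nat_lit 1) (Steps.bwd (nat_lit 4) (Steps.fwd (nat_lit 16384) (Steps.bwd (nat_lit 1) (Steps.fwd (nat_lit 24576) (Steps.bwd (nat_lit 1) (Steps.bwd (nat_lit 2) (Steps.fwd (nat_lit 8192) (Steps.fwd (nat_lit 24576) (Steps.bwd (nat_lit 1) Steps.nil))))))))))) (nat_lit 191) (nat_lit 0),
  Rule.mk (nat_lit 15) (nat_lit 179) (Steps.bwd (nat_lit 3) (Steps.fwd (nat_lit 8192) (Steps.fwd (nat_lit 32768) (Steps.bwd (nat_lit 3) (Steps.bwd (nat_lit 1) (Steps.bwd (nat_lit 2) (Steps.fwd (nat_lit 8192) (Steps.fwd (nat_lit 24576) (Steps.bwd (nat_lit 1) (Steps.bwd (nat_lit 2) (Steps.bwd (nat_lit 1) Steps.nil))))))))))) (nat_lit 191) (nat_lit 0),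
  Rule.mk (nat_lit 18) (nat_lit 179) (Steps.bwd (nat_lit 1) (Steps.bwd (nat_lit 3) (Steps.fwd (nat_lit 32768) (Steps.fwd (nat_lit 8192) (Steps.fwd (nat_lit 24576) (Steps.bwd (nat_lit 1) (Steps.fwd (nat_lit 24576) (Steps.fwd (nat_lit 8192) (Steps.bwd (nat_lit 3) (Steps.bwd (nat_lit 1) (Steps.fwd (nat_lit 16384) Steps.nil))))))))))) (nat_lit 192) (nat_lit 1),
  Rule.mk (nat_lit 0) (nat_lit 194) (Steps.bwd (nat_lit 17) (Steps.fwd (nat_lit 24576) (Steps.bwd (nat_lit 1) (Steps.fwd (nat_lit 24576) (Steps.fwd (nat_lit 8192) (Steps.bwd (nat_lit 3) (Steps.bwd (nat_lit 1) (Steps.fwd (nat_lit 16384) (Steps.fwd (nat_lit 8192) (Steps.bwd (nat_lit 4) (Steps.bwd (nat_lit 2) (Steps.bwd (nat_lit 1) Steps.nil)))))))))))) (nat_lit 193) (nat_lit 11),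
  Rule.mk (nat_lit 20) (nat_lit 179) (Steps.bwd (nat_lit 1) (Steps.fwd (nat_lit 24576) (Steps.fwd (nat_lit 8192) (Steps.bwd (nat_lit 2) (Steps.bwd (nat_lit 1) (Steps.bwd (nat_lit 3) (Steps.fwd (nat_lit 8192) (Steps.bwd (nat_lit 3) (Steps.bwd (nat_lit 1) (Steps.fwd (nat_lit 32768) (Steps.fwd (nat_lit 24576) Steps.nil))))))))))) (nat_lit 194) (nat_lit 1),
  Rule.mk (nat_lit 2) (nat_lit 179) (Steps.bwd (nat_lit 20) (Steps.fwd (nat_lit 8192) (Steps.fwd (nat_lit 24576) (Steps.bwd (nat_lit 1) (Steps.fwd (nat_lit 24576) (Steps.fwd (nat_lit 8192) (Steps.bwd (nat_lit 3) (Steps.bwd (nat_lit 1) (Steps.fwd (nat_lit 16384) (Steps.bwd (nat_lit 1) (Steps.fwd (nat_lit 32768) Steps.nil))))))))))) (nat_lit 194) (nat_lit 0),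
  Rule.mk (nat_lit 20) (nat_lit 179) (Steps.bwd (nat_lit 1) (Steps.bwd (nat_lit 2) (Steps.fwd (nat_lit 8192) (Steps.fwd (nat_lit 24576) (Steps.bwd (nat_lit 1) (Steps.bwd (nat_lit 3) (Steps.fwd (nat_lit 8192) (Steps.bwd (nat_lit 3) (Steps.fwd (nat_lit 8192) (Steps.bwd (nat_lit 4) (Steps.fwd (nat_lit 24576) Steps.nil))))))))))) (nat_lit 194) (nat_lit 1),
  Rule.mk (nat_lit 19) (nat_lit 179) (Steps.bwd (nat_lit 3) (Steps.bwd (nat_lit 4) (Steps.bwd (nat_lit 1) (Steps.fwd (nat_lit 24576) (Steps.fwd (nat_lit 8192) (Steps.bwd (nat_lit 2) (Steps.bwd (nat_lit 1) (Steps.bwd (nat_lit 3) (Steps.fwd (nat_lit 8192) (Steps.bwd (nat_lit 3) (Steps.bwd (nat_lit 1) Steps.nil))))))))))) (nat_lit 195) (nat_lit 0),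
  Rule.mk (nat_lit 19) (nat_lit 179) (Steps.bwd (nat_lit 3) (Steps.fwd (nat_lit 32768) (Steps.fwd (nat_lit 8192) (Steps.fwd (nat_lit 24576) (Steps.bwd (nat_lit 1) (Steps.fwd (nat_lit 24576) (Steps.fwd (nat_lit 8192) (Steps.bwd (nat_lit 3) (Steps.bwd (nat_lit 1) (Steps.fwd (nat_lit 16384) (Steps.bwd (nat_lit 1) Steps.nil))))))))))) (nat_lit 195) (nat_lit 0),
  Rule.mk (nat_lit 0) (nat_lit 194) (Steps.fwd (nat_lit 16384) (Steps.fwd (nat_lit 32768) (Steps.bwd (nat_lit 1) (Steps.bwd (nat_lit 2) (Steps.fwd (nat_lit 8192) (Steps.fwd (nat_lit 24576) (Steps.bwd (nat_lit 1) (Steps.bwd (nat_lit 3) (Steps.fwd (nat_lit 8192) (Steps.bwd (nat_lit 3) (Steps.fwd (nat_lit 8192) (Steps.fwd (nat_lit 163840) Steps.nil)))))))))))) (nat_lit 195) (nat_lit 0),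
  Rule.mk (nat_lit 7) (nat_lit 104) (Steps.fwd (nat_lit 16384) (Steps.bwd (nat_lit 5) (Steps.bwd (nat_lit 7) (Steps.bwd (nat_lit 13) (Steps.bwd (nat_lit 14) (Steps.bwd (nat_lit 2) Steps.nil)))))) (nat_lit 174) (nat_lit 2),
  Rule.mk (nat_lit 10) (nat_lit 104) (Steps.bwd (nat_lit 3) (Steps.fwd (nat_lit 114688) (Steps.fwd (nat_lit 98304) (Steps.bwd (nat_lit 11) (Steps.bwd (nat_lit 6) (Steps.bwd (nat_lit 2) Steps.nil)))))) (nat_lit 181) (nat_lit 6),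
  Rule.mk (nat_lit 12) (nat_lit 104) (Steps.fwd (nat_lit 16384) (Steps.fwd (nat_lit 73728) (Steps.fwd (nat_lit 65536) (Steps.fwd (nat_lit 40960) (Steps.fwd (nat_lit 32768) (Steps.bwd (nat_lit 2) Steps.nil)))))) (nat_lit 185) (nat_lit 6),
  Rule.mk (nat_lit 9) (nat_lit 134) (Steps.bwd (nat_lit 3) (Steps.bwd (nat_lit 14) (Steps.fwd (nat_lit 90112) (Steps.fwd (nat_lit 73728) (Steps.fwd (nat_lit 65536) (Steps.fwd (nat_lit 40960) (Steps.fwd (nat_lit 32768) (Steps.bwd (nat_lit 2) Steps.nil)))))))) (nat_lit 179) (nat_lit 8),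
  Rule.mk (nat_lit 5) (nat_lit 149) (Steps.bwd (nat_lit 3) (Steps.bwd (nat_lit 4) (Steps.bwd (nat_lit 5) (Steps.fwd (nat_lit 65536) (Steps.bwd (nat_lit 9) (Steps.fwd (nat_lit 98304) (Steps.bwd (nat_lit 13) (Steps.bwd (nat_lit 14) (Steps.bwd (nat_lit 2) Steps.nil))))))))) (nat_lit 170) (nat_lit 2),
  Rule.mk (nat_lit 6) (nat_lit 164) (Steps.bwd (nat_lit 3) (Steps.bwd (nat_lit 5) (Steps.fwd (nat_lit 49152) (Steps.fwd (nat_lit 73728) (Steps.bwd (nat_lit 10) (Steps.bwd (nat_lit 11) (Steps.fwd (nat_lit 98304) (Steps.bwd (nat_lit 13) (Steps.bwd (nat_lit 14) (Steps.bwd (nat_lit 2) Steps.nil)))))))))) (nat_lit 172) (nat_lit 2),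
  Rule.mk (nat_lit 11) (nat_lit 164) (Steps.bwd (nat_lit 3) (Steps.bwd (nat_lit 14) (Steps.bwd (nat_lit 12) (Steps.fwd (nat_lit 90112) (Steps.bwd (nat_lit 10) (Steps.fwd (nat_lit 73728) (Steps.fwd (nat_lit 65536) (Steps.fwd (nat_lit 40960) (Steps.fwd (nat_lit 32768) (Steps.bwd (nat_lit 2) Steps.nil)))))))))) (nat_lit 183) (nat_lit 10),
  Rule.mk (nat_lit 1) (nat_lit 539) (Steps.fwd (nat_lit 16384) (Steps.bwd (nat_lit 1) (Steps.fwd (nat_lit 24576) (Steps.bwd (nat_lit 1) (Steps.fwd (nat_lit 24576) (Steps.bwd (nat_lit 1) (Steps.fwd (nat_lit 16384) (Steps.fwd (nat_lit 8192) (Steps.fwd (nat_lit 24576) (Steps.bwd (nat_lit 1) (Steps.bwd (nat_lit 2) (Steps.bwd (nat_lit 1) (Steps.bwd (nat_lit 3) (Steps.bwd (nat_lit 1) (Steps.fwd (nat_lit 24576) (Steps.fwd (nat_lit 8192) (Steps.bwd (nat_lit 3) (Steps.fwd (nat_lit 8192) (Steps.fwd (nat_lit 16384) (Steps.fwd (nat_lit 8192) (Steps.fwd (nat_lit 24576)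 (Steps.fwd (nat_lit 8192) (Steps.fwd (nat_lit 16384) (Steps.fwd (nat_lit 8192) (Steps.bwd (nat_lit 3) (Steps.bwd (nat_lit 1) (Steps.fwd (nat_lit 24576) (Steps.bwd (nat_lit 1) (Steps.bwd (nat_lit 3) (Steps.fwd (nat_lit 8192) (Steps.fwd (nat_lit 16384) (Steps.fwd (nat_lit 8192) (Steps.bwd (nat_lit 2) (Steps.fwd (nat_lit 8192) (Steps.bwd (nat_lit 2) Steps.nil))))))))))))))))))))))))))))))))))) (nat_lit 12) (nat_lit 5),
  Rule.mk (nat_lit 0) (nat_lit 194) (Steps.bwd (nat_lit 16) (Steps.bwd (nat_lit 1) (Steps.fwd (nat_lit 16384) (Steps.fwd (nat_lit 8192) (Steps.fwd (nat_lit 16384) (Steps.bwd (nat_lit 1) (Steps.fwd (nat_lit 16384) (Steps.bwd (nat_lit 1) (Steps.fwd (nat_lit 24576) (Steps.bwd (nat_lit 4) (Steps.bwd (nat_lit 1) (Steps.bwd (nat_lit 2) Steps.nil)))))))))))) (nat_lit 190) (nat_lit 0),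
  Rule.mk (nat_lit 0) (nat_lit 194) (Steps.bwd (nat_lit 15) (Steps.bwd (nat_lit 3) (Steps.fwd (nat_lit 8192) (Steps.bwd (nat_lit 4) (Steps.bwd (nat_lit 3) (Steps.bwd (nat_lit 1) (Steps.bwd (nat_lit 2) (Steps.fwd (nat_lit 8192) (Steps.bwd (nat_lit 2) (Steps.fwd (nat_lit 8192) (Steps.bwd (nat_lit 2) (Steps.bwd (nat_lit 1) Steps.nil)))))))))))) (nat_lit 191) (nat_lit 11),
  Rule.mk (nat_lit 16) (nat_lit 179) (Steps.bwd (nat_lit 1) (Steps.fwd (nat_lit 16384) (Steps.bwd (nat_lit 1) (Steps.fwd (nat_lit 16384) (Steps.fwd (nat_lit 8192) (Steps.fwd (nat_lit 16384) (Steps.fwd (nat_lit 8192) (Steps.bwd (nat_lit 2) (Steps.bwd (nat_lit 4) (Steps.fwd (nat_lit 8192) (Steps.fwd (nat_lit 24576) Steps.nil))))))))))) (nat_lit 190) (nat_lit 1),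
  Rule.mk (nat_lit 0) (nat_lit 194) (Steps.bwd (nat_lit 2) (Steps.bwd (nat_lit 1) (Steps.bwd (nat_lit 2) (Steps.fwd (nat_lit 8192) (Steps.fwd (nat_lit 16384) (Steps.fwd (nat_lit 8192) (Steps.fwd (nat_lit 16384) (Steps.bwd (nat_lit 1) (Steps.fwd (nat_lit 32768) (Steps.bwd (nat_lit 2) (Steps.bwd (nat_lit 1) (Steps.fwd (nat_lit 147456) Steps.nil)))))))))))) (nat_lit 193) (nat_lit 0),
  Rule.mk (nat_lit 17) (nat_lit 179) (Steps.fwd (nat_lit 24576) (Steps.bwd (nat_lit 1) (Steps.fwd (nat_lit 24576) (Steps.fwd (nat_lit 8192) (Steps.bwd (nat_lit 3) (Steps.bwd (nat_lit 1) (Steps.fwd (nat_lit 16384) (Steps.bwd (nat_lit 1) (Steps.fwd (nat_lit 32768) (Steps.bwd (nat_lit 2) (Steps.fwd (nat_lit 8192) Steps.nil))))))))))) (nat_lit 193) (nat_lit 0),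
  Rule.mk (nat_lit 17) (nat_lit 179) (Steps.bwd (nat_lit 2) (Steps.fwd (nat_lit 8192) (Steps.bwd (nat_lit 2) (Steps.bwd (nat_lit 1) (Steps.fwd (nat_lit 16384) (Steps.fwd (nat_lit 8192) (Steps.bwd (nat_lit 3) (Steps.fwd (nat_lit 8192) (Steps.bwd (nat_lit 4) (Steps.bwd (nat_lit 2) (Steps.fwd (nat_lit 8192) Steps.nil))))))))))) (nat_lit 193) (nat_lit 0),
  Rule.mk (nat_lit 0) (nat_lit 194) (Steps.fwd (nat_lit 8192) (Steps.bwd (nat_lit 2) (Steps.fwd (nat_lit 8192) (Steps.bwd (nat_lit 2) (Steps.bwd (nat_lit 1) (Steps.fwd (nat_lit 16384) (Steps.fwd (nat_lit 8192) (Steps.bwd (nat_lit 3) (Steps.fwd (nat_lit 8192) (Steps.bwd (nat_lit 4) (Steps.bwd (nat_lit 2) (Steps.fwd (nat_lit 155648) Steps.nil)))))))))))) (nat_lit 194) (nat_lit 1),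
  Rule.mk (nat_lit 0) (nat_lit 194) (Steps.bwd (nat_lit 19) (Steps.bwd (nat_lit 3) (Steps.fwd (nat_lit 32768) (Steps.bwd (nat_lit 1) (Steps.bwd (nat_lit 2) (Steps.fwd (nat_lit 8192) (Steps.bwd (nat_lit 2) (Steps.bwd (nat_lit 1) (Steps.fwd (nat_lit 16384) (Steps.bwd (nat_lit 1) (Steps.fwd (nat_lit 16384) (Steps.bwd (nat_lit 1) Steps.nil)))))))))))) (nat_lit 195) (nat_lit 11),
  Rule.mk (nat_lit 0) (nat_lit 194) (Steps.bwd (nat_lit 19) (Steps.fwd (nat_lit 16384) (Steps.bwd (nat_lit 4) (Steps.fwd (nat_lit 8192) (Steps.bwd (nat_lit 2) (Steps.fwd (nat_lit 8192) (Steps.bwd (nat_lit 2) (Steps.bwd (nat_lit 1) (Steps.fwd (nat_lit 16384) (Steps.fwd (nat_lit 8192) (Steps.bwd (nat_lit 3) (Steps.fwd (nat_lit 8192) Steps.nil)))))))))))) (nat_lit 195) (nat_lit 11),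
  Rule.mk (nat_lit 0) (nat_lit 194) (Steps.bwd (nat_lit 20) (Steps.bwd (nat_lit 1) (Steps.bwd (nat_lit 2) (Steps.fwd (nat_lit 8192) (Steps.bwd (nat_lit 2) (Steps.bwd (nat_lit 1) (Steps.fwd (nat_lit 16384) (Steps.bwd (nat_lit 1) (Steps.fwd (nat_lit 16384) (Steps.bwd (nat_lit 1) (Steps.fwd (nat_lit 32768) (Steps.bwd (nat_lit 2) Steps.nil)))))))))))) (nat_lit 194) (nat_lit 0),
  Rule.mk (nat_lit 7) (nat_lit 104) (Steps.fwd (nat_lit 40960) (Steps.bwd (nat_lit 2) (Steps.bwd (nat_lit 7) (Steps.fwd (nat_lit 16384) (Steps.bwd (nat_lit 14) (Steps.fwd (nat_lit 106496) Steps.nil)))))) (nat_lit 175) (nat_lit 3)]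
noncomputable def R_78 : List (Rule) := [Rule.mk (nat_lit 12) (nat_lit 119) (Steps.bwd (nat_lit 7) (Steps.fwd (nat_lit 49152) (Steps.bwd (nat_lit 5) (Steps.fwd (nat_lit 24576) (Steps.fwd (nat_lit 114688) (Steps.fwd (nat_lit 16384) (Steps.bwd (nat_lit 14) Steps.nil))))))) (nat_lit 189) (nat_lit 2),
  Rule.mk (nat_lit 16) (nat_lit 179) (Steps.fwd (nat_lit 8192) (Steps.bwd (nat_lit 3) (Steps.bwd (nat_lit 1) (Steps.fwd (nat_lit 16384) (Steps.bwd (nat_lit 1) (Steps.fwd (nat_lit 16384) (Steps.bwd (nat_lit 1) (Steps.fwd (nat_lit 24576) (Steps.bwd (nat_lit 4) (Steps.bwd (nat_lit 1) (Steps.fwd (nat_lit 24576) Steps.nil))))))))))) (nat_lit 190) (nat_lit 1),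
  Rule.mk (nat_lit 6) (nat_lit 164) (Steps.bwd (nat_lit 3) (Steps.bwd (nat_lit 5) (Steps.bwd (nat_lit 6) (Steps.fwd (nat_lit 73728) (Steps.fwd (nat_lit 81920) (Steps.bwd (nat_lit 11) (Steps.bwd (nat_lit 12) (Steps.fwd (nat_lit 106496) (Steps.bwd (nat_lit 14) (Steps.bwd (nat_lit 2) Steps.nil)))))))))) (nat_lit 172) (nat_lit 2),
  Rule.mk (nat_lit 0) (nat_lit 194) (Steps.bwd (nat_lit 15) (Steps.fwd (nat_lit 16384) (Steps.fwd (nat_lit 8192) (Steps.fwd (nat_lit 32768) (Steps.fwd (nat_lit 16384) (Steps.bwd (nat_lit 1) (Steps.bwd (nat_lit 2) (Steps.fwd (nat_lit 8192) (Steps.fwd (nat_lit 24576) (Steps.fwd (nat_lit 8192) (Steps.fwd (nat_lit 24576) (Steps.bwd (nat_lit 1) Steps.nil)))))))))))) (nat_lit 191) (nat_lit 11),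
  Rule.mk (nat_lit 1) (nat_lit 179) (Steps.bwd (nat_lit 3) (Steps.bwd (nat_lit 1) (Steps.fwd (nat_lit 16384) (Steps.bwd (nat_lit 1) (Steps.fwd (nat_lit 16384) (Steps.fwd (nat_lit 8192) (Steps.bwd (nat_lit 2) (Steps.fwd (nat_lit 32768) (Steps.bwd (nat_lit 1) (Steps.bwd (nat_lit 2) (Steps.fwd (nat_lit 122880) Steps.nil))))))))))) (nat_lit 190) (nat_lit 2),
  Rule.mk (nat_lit 15) (nat_lit 179) (Steps.bwd (nat_lit 3) (Steps.fwd (nat_lit 8192) (Steps.fwd (nat_lit 32768) (Steps.fwd (nat_lit 16384) (Steps.bwd (nat_lit 1) (Steps.bwd (nat_lit 2) (Steps.fwd (nat_lit 8192) (Steps.fwd (nat_lit 24576) (Steps.bwd (nat_lit 1) (Steps.bwd (nat_lit 2) (Steps.bwd (nat_lit 1) Steps.nil))))))))))) (nat_lit 191) (nat_lit 0),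
  Rule.mk (nat_lit 0) (nat_lit 194) (Steps.fwd (nat_lit 8192) (Steps.bwd (nat_lit 3) (Steps.fwd (nat_lit 8192) (Steps.fwd (nat_lit 16384) (Steps.fwd (nat_lit 8192) (Steps.bwd (nat_lit 3) (Steps.bwd (nat_lit 1) (Steps.bwd (nat_lit 2) (Steps.bwd (nat_lit 4) (Steps.bwd (nat_lit 1) (Steps.fwd (nat_lit 24576) (Steps.fwd (nat_lit 122880) Steps.nil)))))))))))) (nat_lit 190) (nat_lit 1),
  Rule.mk (nat_lit 15) (nat_lit 179) (Steps.bwd (nat_lit 3) (Steps.fwd (nat_lit 8192) (Steps.fwd (nat_lit 32768) (Steps.bwd (nat_lit 3) (Steps.bwd (nat_lit 1) (Steps.bwd (nat_lit 2) (Steps.bwd (nat_lit 1) (Steps.fwd (nat_lit 24576) (Steps.bwd (nat_lit 1) (Steps.fwd (nat_lit 24576) (Steps.bwd (nat_lit 1) Steps.nil))))))))))) (nat_lit 191) (nat_lit 0),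
  Rule.mk (nat_lit 0) (nat_lit 194) (Steps.bwd (nat_lit 2) (Steps.fwd (nat_lit 8192) (Steps.bwd (nat_lit 2) (Steps.fwd (nat_lit 8192) (Steps.bwd (nat_lit 3) (Steps.bwd (nat_lit 1) (Steps.fwd (nat_lit 16384) (Steps.fwd (nat_lit 8192) (Steps.bwd (nat_lit 4) (Steps.fwd (nat_lit 24576) (Steps.bwd (nat_lit 1) (Steps.fwd (nat_lit 147456) Steps.nil)))))))))))) (nat_lit 193) (nat_lit 0),
  Rule.mk (nat_lit 0) (nat_lit 194) (Steps.bwd (nat_lit 17) (Steps.bwd (nat_lit 2) (Steps.bwd (nat_lit 1) (Steps.bwd (nat_lit 2) (Steps.fwd (nat_lit 8192) (Steps.bwd (nat_lit 3) (Steps.fwd (nat_lit 8192) (Steps.fwd (nat_lit 16384) (Steps.fwd (nat_lit 8192) (Steps.fwd (nat_lit 32768) (Steps.bwd (nat_lit 2) (Steps.bwd (nat_lit 1) Steps.nil)))))))))))) (nat_lit 193) (nat_lit 11),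
  Rule.mk (nat_lit 17) (nat_lit 179) (Steps.bwd (nat_lit 2) (Steps.bwd (nat_lit 1) (Steps.fwd (nat_lit 24576) (Steps.bwd (nat_lit 1) (Steps.bwd (nat_lit 3) (Steps.bwd (nat_lit 1) (Steps.fwd (nat_lit 16384) (Steps.fwd (nat_lit 8192) (Steps.bwd (nat_lit 4) (Steps.fwd (nat_lit 24576) (Steps.bwd (nat_lit 1) Steps.nil))))))))))) (nat_lit 193) (nat_lit 0),
  Rule.mk (nat_lit 0) (nat_lit 194) (Steps.bwd (nat_lit 18) (Steps.fwd (nat_lit 8192) (Steps.bwd (nat_lit 3) (Steps.bwd (nat_lit 4) (Steps.fwd (nat_lit 8192) (Steps.fwd (nat_lit 24576) (Steps.fwd (nat_lit 8192) (Steps.bwd (nat_lit 2) (Steps.fwd (nat_lit 8192) (Steps.bwd (nat_lit 3) (Steps.bwd (nat_lit 1) (Steps.fwd (nat_lit 16384) Steps.nil)))))))))))) (nat_lit 192) (nat_lit 0),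
  Rule.mk (nat_lit 20) (nat_lit 179) (Steps.bwd (nat_lit 1) (Steps.bwd (nat_lit 2) (Steps.fwd (nat_lit 8192) (Steps.fwd (nat_lit 24576) (Steps.bwd (nat_lit 1) (Steps.fwd (nat_lit 16384) (Steps.bwd (nat_lit 1) (Steps.bwd (nat_lit 3) (Steps.fwd (nat_lit 8192) (Steps.fwd (nat_lit 32768) (Steps.fwd (nat_lit 24576) Steps.nil))))))))))) (nat_lit 194) (nat_lit 1),
  Rule.mk (nat_lit 20) (nat_lit 179) (Steps.bwd (nat_lit 1) (Steps.bwd (nat_lit 2) (Steps.bwd (nat_lit 1) (Steps.fwd (nat_lit 24576) (Steps.bwd (nat_lit 1) (Steps.fwd (nat_lit 16384) (Steps.fwd (nat_lit 8192) (Steps.fwd (nat_lit 16384) (Steps.bwd (nat_lit 1) (Steps.bwd (nat_lit 4) (Steps.fwd (nat_lit 24576) Steps.nil))))))))))) (nat_lit 194) (nat_lit 1),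
  Rule.mk (nat_lit 19) (nat_lit 179) (Steps.fwd (nat_lit 16384) (Steps.bwd (nat_lit 4) (Steps.bwd (nat_lit 1) (Steps.bwd (nat_lit 2) (Steps.bwd (nat_lit 1) (Steps.fwd (nat_lit 24576) (Steps.bwd (nat_lit 1) (Steps.fwd (nat_lit 16384) (Steps.fwd (nat_lit 8192) (Steps.fwd (nat_lit 16384) (Steps.bwd (nat_lit 1) Steps.nil))))))))))) (nat_lit 195) (nat_lit 0),
  Rule.mk (nat_lit 14) (nat_lit 89) (Steps.bwd (nat_lit 1) (Steps.bwd (nat_lit 9) (Steps.bwd (nat_lit 1) (Steps.fwd (nat_lit 32768) (Steps.fwd (nat_lit 57344) Steps.nil))))) (nat_lit 156) (nat_lit 0),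
  Rule.mk (nat_lit 6) (nat_lit 104) (Steps.bwd (nat_lit 1) (Steps.fwd (nat_lit 90112) (Steps.bwd (nat_lit 1) (Steps.bwd (nat_lit 14) (Steps.fwd (nat_lit 98304) (Steps.fwd (nat_lit 90112) Steps.nil)))))) (nat_lit 161) (nat_lit 4),
  Rule.mk (nat_lit 13) (nat_lit 104) (Steps.bwd (nat_lit 1) (Steps.bwd (nat_lit 9) (Steps.bwd (nat_lit 8) (Steps.bwd (nat_lit 5) (Steps.bwd (nat_lit 4) (Steps.fwd (nat_lit 8192) Steps.nil)))))) (nat_lit 165) (nat_lit 6),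
  Rule.mk (nat_lit 10) (nat_lit 134) (Steps.bwd (nat_lit 1) (Steps.bwd (nat_lit 14) (Steps.bwd (nat_lit 11) (Steps.bwd (nat_lit 9) (Steps.bwd (nat_lit 8) (Steps.bwd (nat_lit 5) (Steps.fwd (nat_lit 32768) (Steps.fwd (nat_lit 8192) Steps.nil)))))))) (nat_lit 159) (nat_lit 8),
  Rule.mk (nat_lit 7) (nat_lit 164) (Steps.bwd (nat_lit 1) (Steps.bwd (nat_lit 5) (Steps.fwd (nat_lit 49152) (Steps.fwd (nat_lit 73728) (Steps.bwd (nat_lit 10) (Steps.bwd (nat_lit 11) (Steps.bwd (nat_lit 12) (Steps.fwd (nat_lit 106496) (Steps.bwd (nat_lit 14) (Steps.fwd (nat_lit 8192) Steps.nil)))))))))) (nat_lit 152) (nat_lit 2),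
  Rule.mk (nat_lit 16) (nat_lit 179) (Steps.bwd (nat_lit 1) (Steps.bwd (nat_lit 3) (Steps.bwd (nat_lit 1) (Steps.fwd (nat_lit 16384) (Steps.fwd (nat_lit 8192) (Steps.bwd (nat_lit 3) (Steps.fwd (nat_lit 8192) (Steps.bwd (nat_lit 2) (Steps.fwd (nat_lit 32768) (Steps.fwd (nat_lit 8192) (Steps.fwd (nat_lit 24576) Steps.nil))))))))))) (nat_lit 190) (nat_lit 1),
  Rule.mk (nat_lit 15) (nat_lit 179) (Steps.bwd (nat_lit 3) (Steps.fwd (nat_lit 8192) (Steps.fwd (nat_lit 32768) (Steps.fwd (nat_lit 16384) (Steps.fwd (nat_lit 8192) (Steps.bwd (nat_lit 2) (Steps.fwd (nat_lit 8192) (Steps.fwd (nat_lit 24576) (Steps.fwd (nat_lit 8192) (Steps.bwd (nat_lit 2) (Steps.bwd (nat_lit 1) Steps.nil))))))))))) (nat_lit 191) (nat_lit 0),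
  Rule.mk (nat_lit 5) (nat_lit 104) (Steps.bwd (nat_lit 2) (Steps.bwd (nat_lit 7) (Steps.fwd (nat_lit 16384) (Steps.fwd (nat_lit 114688) (Steps.fwd (nat_lit 106496) (Steps.fwd (nat_lit 57344) Steps.nil)))))) (nat_lit 175) (nat_lit 4),
  Rule.mk (nat_lit 17) (nat_lit 179) (Steps.bwd (nat_lit 2) (Steps.bwd (nat_lit 1) (Steps.fwd (nat_lit 24576) (Steps.bwd (nat_lit 1) (Steps.fwd (nat_lit 16384) (Steps.fwd (nat_lit 8192) (Steps.fwd (nat_lit 16384) (Steps.bwd (nat_lit 1) (Steps.fwd (nat_lit 32768) (Steps.bwd (nat_lit 2) (Steps.fwd (nat_lit 8192) Steps.nil))))))))))) (nat_lit 193) (nat_lit 0),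
  Rule.mk (nat_lit 1) (nat_lit 179) (Steps.bwd (nat_lit 2) (Steps.bwd (nat_lit 1) (Steps.fwd (nat_lit 24576) (Steps.bwd (nat_lit 1) (Steps.fwd (nat_lit 16384) (Steps.fwd (nat_lit 8192) (Steps.fwd (nat_lit 16384) (Steps.bwd (nat_lit 1) (Steps.fwd (nat_lit 32768) (Steps.bwd (nat_lit 2) (Steps.fwd (nat_lit 155648) Steps.nil))))))))))) (nat_lit 194) (nat_lit 2),
  Rule.mk (nat_lit 0) (nat_lit 854) (Steps.bwd (nat_lit 1) (Steps.bwd (nat_lit 2) (Steps.bwd (nat_lit 1) (Steps.fwd (nat_lit 24576) (Steps.bwd (nat_lit 1) (Steps.fwd (nat_lit 16384) (Steps.fwd (nat_lit 8192) (Steps.bwd (nat_lit 2) (Steps.bwd (nat_lit 1) (Steps.bwd (nat_lit 3) (Steps.fwd (nat_lit 8192) (Steps.fwd (nat_lit 24576) (Steps.fwd (nat_lit 8192) (Steps.bwd (nat_lit 3) (Steps.bwd (nat_lit 1) (Steps.bwd (nat_lit 2) (Steps.fwd (nat_lit 8192) (Steps.fwd (nat_lit 24576) (Steps.fwd (nat_lit 8192) (Steps.bwd (nat_lit 3) (Steps.bwd (nat_lit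 1) (Steps.fwd (nat_lit 24576) (Steps.fwd (nat_lit 8192) (Steps.bwd (nat_lit 3) (Steps.fwd (nat_lit 8192) (Steps.fwd (nat_lit 24576) (Steps.fwd (nat_lit 8192) (Steps.bwd (nat_lit 3) (Steps.fwd (nat_lit 8192) (Steps.bwd (nat_lit 2) (Steps.fwd (nat_lit 8192) (Steps.bwd (nat_lit 2) (Steps.bwd (nat_lit 1) (Steps.bwd (nat_lit 3) (Steps.fwd (nat_lit 8192) (Steps.fwd (nat_lit 24576) (Steps.fwd (nat_lit 8192) (Steps.fwd (nat_lit 16384) (Steps.bwd (nat_lit 1) (Steps.bwd (nat_lit 2) (Steps.bwd (nat_lit 1) (Steps.bwd (nat_lit 3) (Steps.bwd (nat_lit 1) (Steps.fwd (nat_lit 24576) (Steps.fwd (nat_lit 8192) (Steps.bwd (nat_lit 2) (Steps.bwd (nat_lit 1) (Steps.fwd (nat_lit 16384) (Steps.fwd (nat_lit 8192) (Steps.bwd (nat_lit 2) (Steps.fwd (nat_lit 8192) (Steps.fwd (nat_lit 16384) (Steps.bwd (nat_lit 1) (Steps.fwd (nat_lit 24576) (Steps.bwd (nat_lit 1) (Steps.fwd (nat_lit 16384) Steps.nil))))))))))))))))))))))))))))))))))))))))))))))))))))))))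 (nat_lit 10) (nat_lit 0),
  Rule.mk (nat_lit 10) (nat_lit 134) (Steps.bwd (nat_lit 1) (Steps.fwd (nat_lit 32768) (Steps.fwd (nat_lit 40960) (Steps.bwd (nat_lit 8) (Steps.fwd (nat_lit 73728) (Steps.bwd (nat_lit 11) (Steps.fwd (nat_lit 114688) (Steps.fwd (nat_lit 8192) Steps.nil)))))))) (nat_lit 158) (nat_lit 2),
  Rule.mk (nat_lit 12) (nat_lit 164) (Steps.bwd (nat_lit 1) (Steps.fwd (nat_lit 32768) (Steps.fwd (nat_lit 40960) (Steps.bwd (nat_lit 8) (Steps.fwd (nat_lit 73728) (Steps.bwd (nat_lit 10) (Steps.fwd (nat_lit 90112) (Steps.bwd (nat_lit 12) (Steps.bwd (nat_lit 14) (Steps.bwd (nat_lit 1) Steps.nil)))))))))) (nat_lit 162) (nat_lit 2),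
  Rule.mk (nat_lit 15) (nat_lit 179) (Steps.bwd (nat_lit 3) (Steps.bwd (nat_lit 1) (Steps.bwd (nat_lit 4) (Steps.bwd (nat_lit 3) (Steps.bwd (nat_lit 1) (Steps.fwd (nat_lit 24576) (Steps.bwd (nat_lit 1) (Steps.bwd (nat_lit 2) (Steps.fwd (nat_lit 8192) (Steps.bwd (nat_lit 2) (Steps.bwd (nat_lit 1) Steps.nil))))))))))) (nat_lit 191) (nat_lit 0),
  Rule.mk (nat_lit 15) (nat_lit 179) (Steps.fwd (nat_lit 16384) (Steps.fwd (nat_lit 8192) (Steps.bwd (nat_lit 4) (Steps.fwd (nat_lit 16384) (Steps.bwd (nat_lit 1) (Steps.bwd (nat_lit 2) (Steps.fwd (nat_lit 8192) (Steps.bwd (nat_lit 2) (Steps.bwd (nat_lit 1) (Steps.bwd (nat_lit 2) (Steps.fwd (nat_lit 8192) Steps.nil))))))))))) (nat_lit 191) (nat_lit 0),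
  Rule.mk (nat_lit 0) (nat_lit 194) (Steps.bwd (nat_lit 15) (Steps.bwd (nat_lit 3) (Steps.fwd (nat_lit 8192) (Steps.bwd (nat_lit 4) (Steps.bwd (nat_lit 3) (Steps.fwd (nat_lit 8192) (Steps.bwd (nat_lit 2) (Steps.bwd (nat_lit 1) (Steps.bwd (nat_lit 2) (Steps.fwd (nat_lit 8192) (Steps.bwd (nat_lit 2) (Steps.fwd (nat_lit 8192) Steps.nil)))))))))))) (nat_lit 191) (nat_lit 11),
  Rule.mk (nat_lit 0) (nat_lit 194) (Steps.bwd (nat_lit 15) (Steps.fwd (nat_lit 16384) (Steps.bwd (nat_lit 1) (Steps.bwd (nat_lit 4) (Steps.fwd (nat_lit 16384) (Steps.bwd (nat_lit 1) (Steps.bwd (nat_lit 2) (Steps.fwd (nat_lit 8192) (Steps.bwd (nat_lit 2) (Steps.fwd (nat_lit 8192) (Steps.fwd (nat_lit 24576) (Steps.fwd (nat_lit 8192) Steps.nil)))))))))))) (nat_lit 191) (nat_lit 11),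
  Rule.mk (nat_lit 15) (nat_lit 179) (Steps.fwd (nat_lit 16384) (Steps.bwd (nat_lit 1) (Steps.fwd (nat_lit 32768) (Steps.bwd (nat_lit 3) (Steps.bwd (nat_lit 1) (Steps.bwd (nat_lit 2) (Steps.fwd (nat_lit 8192) (Steps.fwd (nat_lit 24576) (Steps.bwd (nat_lit 1) (Steps.fwd (nat_lit 24576) (Steps.fwd (nat_lit 8192) Steps.nil))))))))))) (nat_lit 191) (nat_lit 0),
  Rule.mk (nat_lit 18) (nat_lit 179) (Steps.fwd (nat_lit 8192) (Steps.fwd (nat_lit 16384) (Steps.bwd (nat_lit 4) (Steps.bwd (nat_lit 1) (Steps.fwd (nat_lit 24576) (Steps.fwd (nat_lit 8192) (Steps.fwd (nat_lit 24576) (Steps.fwd (nat_lit 8192) (Steps.fwd (nat_lit 16384) (Steps.bwd (nat_lit 1) (Steps.bwd (nat_lit 3) Steps.nil))))))))))) (nat_lit 192) (nat_lit 1),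
  Rule.mk (nat_lit 18) (nat_lit 179) (Steps.bwd (nat_lit 1) (Steps.bwd (nat_lit 3) (Steps.fwd (nat_lit 32768) (Steps.bwd (nat_lit 1) (Steps.bwd (nat_lit 2) (Steps.fwd (nat_lit 8192) (Steps.fwd (nat_lit 24576) (Steps.bwd (nat_lit 1) (Steps.fwd (nat_lit 16384) (Steps.fwd (nat_lit 8192) (Steps.bwd (nat_lit 3) Steps.nil))))))))))) (nat_lit 192) (nat_lit 1),
  Rule.mk (nat_lit 0) (nat_lit 194) (Steps.bwd (nat_lit 17) (Steps.fwd (nat_lit 24576) (Steps.bwd (nat_lit 1) (Steps.bwd (nat_lit 2) (Steps.fwd (nat_lit 8192) (Steps.bwd (nat_lit 3) (Steps.bwd (nat_lit 1) (Steps.fwd (nat_lit 16384) (Steps.bwd (nat_lit 1) (Steps.bwd (nat_lit 4) (Steps.bwd (nat_lit 2) (Steps.bwd (nat_lit 1) Steps.nil)))))))))))) (nat_lit 193) (nat_lit 11),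
  Rule.mk (nat_lit 17) (nat_lit 179) (Steps.bwd (nat_lit 2) (Steps.bwd (nat_lit 1) (Steps.bwd (nat_lit 2) (Steps.fwd (nat_lit 8192) (Steps.bwd (nat_lit 3) (Steps.fwd (nat_lit 8192) (Steps.fwd (nat_lit 16384) (Steps.bwd (nat_lit 1) (Steps.fwd (nat_lit 32768) (Steps.bwd (nat_lit 2) (Steps.bwd (nat_lit 1) Steps.nil))))))))))) (nat_lit 193) (nat_lit 0),
  Rule.mk (nat_lit 20) (nat_lit 179) (Steps.fwd (nat_lit 8192) (Steps.bwd (nat_lit 2) (Steps.bwd (nat_lit 1) (Steps.bwd (nat_lit 2) (Steps.fwd (nat_lit 8192) (Steps.bwd (nat_lit 3) (Steps.fwd (nat_lit 8192) (Steps.fwd (nat_lit 16384) (Steps.bwd (nat_lit 1) (Steps.fwd (nat_lit 32768) (Steps.bwd (nat_lit 2) Steps.nil))))))))))) (nat_lit 194) (nat_lit 1),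
  Rule.mk (nat_lit 16) (nat_lit 179) (Steps.fwd (nat_lit 8192) (Steps.bwd (nat_lit 3) (Steps.fwd (nat_lit 8192) (Steps.fwd (nat_lit 16384) (Steps.bwd (nat_lit 1) (Steps.bwd (nat_lit 3) (Steps.bwd (nat_lit 1) (Steps.fwd (nat_lit 24576) (Steps.fwd (nat_lit 32768) (Steps.fwd (nat_lit 8192) (Steps.bwd (nat_lit 2) Steps.nil))))))))))) (nat_lit 190) (nat_lit 1),
  Rule.mk (nat_lit 10) (nat_lit 134) (Steps.bwd (nat_lit 1) (Steps.fwd (nat_lit 32768) (Steps.bwd (nat_lit 5) (Steps.fwd (nat_lit 65536) (Steps.bwd (nat_lit 9) (Steps.bwd (nat_lit 11) (Steps.bwd (nat_lit 14) (Steps.bwd (nat_lit 1) Steps.nil)))))))) (nat_lit 158) (nat_lit 2),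
  Rule.mk (nat_lit 6) (nat_lit 134) (Steps.bwd (nat_lit 1) (Steps.fwd (nat_lit 114688) (Steps.bwd (nat_lit 1) (Steps.fwd (nat_lit 114688) (Steps.bwd (nat_lit 13) (Steps.fwd (nat_lit 98304) (Steps.bwd (nat_lit 11) (Steps.fwd (nat_lit 81920) Steps.nil)))))))) (nat_lit 167) (nat_lit 6),
  Rule.mk (nat_lit 12) (nat_lit 164) (Steps.bwd (nat_lit 1) (Steps.fwd (nat_lit 32768) (Steps.bwd (nat_lit 5) (Steps.fwd (nat_lit 65536) (Steps.bwd (nat_lit 9) (Steps.fwd (nat_lit 81920) (Steps.fwd (nat_lit 90112) (Steps.bwd (nat_lit 12) (Steps.fwd (nat_lit 114688) (Steps.fwd (nat_lit 8192) Steps.nil)))))))))) (nat_lit 162) (nat_lit 2),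
  Rule.mk (nat_lit 18) (nat_lit 179) (Steps.bwd (nat_lit 1) (Steps.bwd (nat_lit 3) (Steps.fwd (nat_lit 32768) (Steps.bwd (nat_lit 1) (Steps.bwd (nat_lit 2) (Steps.fwd (nat_lit 8192) (Steps.fwd (nat_lit 24576) (Steps.fwd (nat_lit 8192) (Steps.bwd (nat_lit 3) (Steps.bwd (nat_lit 1) (Steps.fwd (nat_lit 16384) Steps.nil))))))))))) (nat_lit 192) (nat_lit 1),
  Rule.mk (nat_lit 16) (nat_lit 179) (Steps.fwd (nat_lit 8192) (Steps.bwd (nat_lit 3) (Steps.fwd (nat_lit 8192) (Steps.fwd (nat_lit 16384) (Steps.fwd (nat_lit 8192) (Steps.bwd (nat_lit 3) (Steps.fwd (nat_lit 8192) (Steps.bwd (nat_lit 2) (Steps.bwd (nat_lit 4) (Steps.fwd (nat_lit 8192) (Steps.fwd (nat_lit 24576) Steps.nil))))))))))) (nat_lit 190) (nat_lit 1),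
  Rule.mk (nat_lit 0) (nat_lit 194) (Steps.bwd (nat_lit 16) (Steps.fwd (nat_lit 8192) (Steps.fwd (nat_lit 16384) (Steps.fwd (nat_lit 8192) (Steps.bwd (nat_lit 3) (Steps.fwd (nat_lit 8192) (Steps.fwd (nat_lit 16384) (Steps.bwd (nat_lit 1) (Steps.bwd (nat_lit 2) (Steps.bwd (nat_lit 4) (Steps.fwd (nat_lit 8192) (Steps.bwd (nat_lit 2) Steps.nil)))))))))))) (nat_lit 190) (nat_lit 0),
  Rule.mk (nat_lit 15) (nat_lit 179) (Steps.fwd (nat_lit 16384) (Steps.fwd (nat_lit 8192) (Steps.bwd (nat_lit 4) (Steps.bwd (nat_lit 3) (Steps.fwd (nat_lit 8192) (Steps.bwd (nat_lit 2) (Steps.fwd (nat_lit 8192) (Steps.bwd (nat_lit 2) (Steps.bwd (nat_lit 1) (Steps.fwd (nat_lit 24576) (Steps.bwd (nat_lit 1) Steps.nil))))))))))) (nat_lit 191) (nat_lit 0),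
  Rule.mk (nat_lit 15) (nat_lit 179) (Steps.bwd (nat_lit 3) (Steps.fwd (nat_lit 8192) (Steps.fwd (nat_lit 32768) (Steps.bwd (nat_lit 3) (Steps.fwd (nat_lit 8192) (Steps.fwd (nat_lit 24576) (Steps.fwd (nat_lit 8192) (Steps.fwd (nat_lit 24576) (Steps.bwd (nat_lit 1) (Steps.fwd (nat_lit 24576) (Steps.fwd (nat_lit 8192) Steps.nil))))))))))) (nat_lit 191) (nat_lit 0),
  Rule.mk (nat_lit 18) (nat_lit 179) (Steps.fwd (nat_lit 8192) (Steps.bwd (nat_lit 3) (Steps.bwd (nat_lit 4) (Steps.bwd (nat_lit 1) (Steps.bwd (nat_lit 2) (Steps.bwd (nat_lit 1) (Steps.fwd (nat_lit 24576) (Steps.fwd (nat_lit 8192) (Steps.fwd (nat_lit 16384) (Steps.fwd (nat_lit 8192) (Steps.bwd (nat_lit 3) Steps.nil))))))))))) (nat_lit 192) (nat_lit 1),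
  Rule.mk (nat_lit 17) (nat_lit 179) (Steps.bwd (nat_lit 2) (Steps.bwd (nat_lit 1) (Steps.fwd (nat_lit 24576) (Steps.fwd (nat_lit 8192) (Steps.fwd (nat_lit 16384) (Steps.fwd (nat_lit 8192) (Steps.bwd (nat_lit 3) (Steps.fwd (nat_lit 8192) (Steps.fwd (nat_lit 32768) (Steps.bwd (nat_lit 2) (Steps.fwd (nat_lit 8192) Steps.nil))))))))))) (nat_lit 193) (nat_lit 0),
  Rule.mk (nat_lit 0) (nat_lit 194) (Steps.bwd (nat_lit 20) (Steps.bwd (nat_lit 1) (Steps.bwd (nat_lit 2) (Steps.bwd (nat_lit 1) (Steps.fwd (nat_lit 24576) (Steps.fwd (nat_lit 8192) (Steps.fwd (nat_lit 16384) (Steps.fwd (nat_lit 8192) (Steps.bwd (nat_lit 3) (Steps.fwd (nat_lit 8192) (Steps.fwd (nat_lit 32768) (Steps.bwd (nat_lit 2) Steps.nil)))))))))))) (nat_lit 194) (nat_lit 0),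
  Rule.mk (nat_lit 19) (nat_lit 179) (Steps.bwd (nat_lit 3) (Steps.bwd (nat_lit 4) (Steps.bwd (nat_lit 1) (Steps.bwd (nat_lit 2) (Steps.bwd (nat_lit 1) (Steps.fwd (nat_lit 24576) (Steps.fwd (nat_lit 8192) (Steps.fwd (nat_lit 16384) (Steps.fwd (nat_lit 8192) (Steps.bwd (nat_lit 3) (Steps.fwd (nat_lit 8192) Steps.nil))))))))))) (nat_lit 195) (nat_lit 0),
  Rule.mk (nat_lit 16) (nat_lit 179) (Steps.bwd (nat_lit 1) (Steps.fwd (nat_lit 16384) (Steps.fwd (nat_lit 8192) (Steps.bwd (nat_lit 3) (Steps.fwd (nat_lit 8192) (Steps.bwd (nat_lit 3) (Steps.bwd (nat_lit 1) (Steps.bwd (nat_lit 2) (Steps.fwd (nat_lit 32768) (Steps.fwd (nat_lit 8192) (Steps.fwd (nat_lit 24576) Steps.nil))))))))))) (nat_lit 190) (nat_lit 1),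
  Rule.mk (nat_lit 16) (nat_lit 179) (Steps.fwd (nat_lit 8192) (Steps.bwd (nat_lit 3) (Steps.fwd (nat_lit 8192) (Steps.bwd (nat_lit 3) (Steps.bwd (nat_lit 1) (Steps.bwd (nat_lit 3) (Steps.fwd (nat_lit 8192) (Steps.fwd (nat_lit 24576) (Steps.bwd (nat_lit 4) (Steps.bwd (nat_lit 1) (Steps.fwd (nat_lit 24576) Steps.nil))))))))))) (nat_lit 190) (nat_lit 1),
  Rule.mk (nat_lit 15) (nat_lit 179) (Steps.fwd (nat_lit 16384) (Steps.bwd (nat_lit 1) (Steps.fwd (nat_lit 32768) (Steps.bwd (nat_lit 3) (Steps.bwd (nat_lit 1) (Steps.bwd (nat_lit 2) (Steps.bwd (nat_lit 1) (Steps.fwd (nat_lit 24576) (Steps.bwd (nat_lit 1) (Steps.bwd (nat_lit 2) (Steps.bwd (nat_lit 1) Steps.nil))))))))))) (nat_lit 191) (nat_lit 0),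
  Rule.mk (nat_lit 15) (nat_lit 179) (Steps.bwd (nat_lit 3) (Steps.bwd (nat_lit 1) (Steps.fwd (nat_lit 32768) (Steps.bwd (nat_lit 3) (Steps.bwd (nat_lit 1) (Steps.bwd (nat_lit 2) (Steps.fwd (nat_lit 8192) (Steps.fwd (nat_lit 24576) (Steps.fwd (nat_lit 8192) (Steps.fwd (nat_lit 24576) (Steps.fwd (nat_lit 8192) Steps.nil))))))))))) (nat_lit 191) (nat_lit 0),
  Rule.mk (nat_lit 0) (nat_lit 194) (Steps.bwd (nat_lit 18) (Steps.fwd (nat_lit 8192) (Steps.bwd (nat_lit 3) (Steps.fwd (nat_lit 32768) (Steps.bwd (nat_lit 1) (Steps.bwd (nat_lit 2) (Steps.bwd (nat_lit 1) (Steps.bwd (nat_lit 2) (Steps.fwd (nat_lit 8192) (Steps.bwd (nat_lit 3) (Steps.bwd (nat_lit 1) (Steps.fwd (nat_lit 16384) Steps.nil)))))))))))) (nat_lit 192) (nat_lit 0),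
  Rule.mk (nat_lit 17) (nat_lit 179) (Steps.fwd (nat_lit 24576) (Steps.fwd (nat_lit 8192) (Steps.bwd (nat_lit 2) (Steps.fwd (nat_lit 8192) (Steps.bwd (nat_lit 3) (Steps.bwd (nat_lit 1) (Steps.bwd (nat_lit 3) (Steps.fwd (nat_lit 8192) (Steps.fwd (nat_lit 32768) (Steps.bwd (nat_lit 2) (Steps.bwd (nat_lit 1) Steps.nil))))))))))) (nat_lit 193) (nat_lit 0),
  Rule.mk (nat_lit 20) (nat_lit 179) (Steps.fwd (nat_lit 8192) (Steps.fwd (nat_lit 24576) (Steps.fwd (nat_lit 8192) (Steps.bwd (nat_lit 2) (Steps.fwd (nat_lit 8192) (Steps.bwd (nat_lit 3) (Steps.bwd (nat_lit 1) (Steps.bwd (nat_lit 3) (Steps.fwd (nat_lit 8192) (Steps.fwd (nat_lit 32768) (Steps.bwd (nat_lit 2) Steps.nil))))))))))) (nat_lit 194) (nat_lit 1),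
  Rule.mk (nat_lit 19) (nat_lit 179) (Steps.bwd (nat_lit 3) (Steps.fwd (nat_lit 32768) (Steps.fwd (nat_lit 8192) (Steps.fwd (nat_lit 24576) (Steps.fwd (nat_lit 8192) (Steps.bwd (nat_lit 2) (Steps.fwd (nat_lit 8192) (Steps.bwd (nat_lit 3) (Steps.bwd (nat_lit 1) (Steps.bwd (nat_lit 3) (Steps.fwd (nat_lit 8192) Steps.nil))))))))))) (nat_lit 195) (nat_lit 0),
  Rule.mk (nat_lit 19) (nat_lit 179) (Steps.bwd (nat_lit 3) (Steps.fwd (nat_lit 32768) (Steps.bwd (nat_lit 1) (Steps.bwd (nat_lit 2) (Steps.bwd (nat_lit 1) (Steps.bwd (nat_lit 2) (Steps.fwd (nat_lit 8192) (Steps.bwd (nat_lit 3) (Steps.bwd (nat_lit 1) (Steps.fwd (nat_lit 16384) (Steps.bwd (nat_lit 1) Steps.nil))))))))))) (nat_lit 195) (nat_lit 0),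
  Rule.mk (nat_lit 1) (nat_lit 179) (Steps.bwd (nat_lit 17) (Steps.bwd (nat_lit 2) (Steps.fwd (nat_lit 8192) (Steps.bwd (nat_lit 2) (Steps.fwd (nat_lit 8192) (Steps.fwd (nat_lit 16384) (Steps.fwd (nat_lit 8192) (Steps.bwd (nat_lit 3) (Steps.fwd (nat_lit 8192) (Steps.bwd (nat_lit 4) (Steps.fwd (nat_lit 24576) Steps.nil))))))))))) (nat_lit 193) (nat_lit 11),
  Rule.mk (nat_lit 14) (nat_lit 104) (Steps.bwd (nat_lit 13) (Steps.fwd (nat_lit 57344) (Steps.bwd (nat_lit 5) (Steps.bwd (nat_lit 1) (Steps.fwd (nat_lit 65536) (Steps.bwd (nat_lit 1) Steps.nil)))))) (nat_lit 155) (nat_lit 1),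
  Rule.mk (nat_lit 7) (nat_lit 164) (Steps.bwd (nat_lit 1) (Steps.fwd (nat_lit 40960) (Steps.fwd (nat_lit 49152) (Steps.bwd (nat_lit 9) (Steps.bwd (nat_lit 10) (Steps.bwd (nat_lit 11) (Steps.bwd (nat_lit 12) (Steps.fwd (nat_lit 106496) (Steps.fwd (nat_lit 114688) (Steps.bwd (nat_lit 1) Steps.nil)))))))))) (nat_lit 152) (nat_lit 2),
  Rule.mk (nat_lit 2) (nat_lit 179) (Steps.bwd (nat_lit 16) (Steps.fwd (nat_lit 8192) (Steps.fwd (nat_lit 16384) (Steps.fwd (nat_lit 8192) (Steps.fwd (nat_lit 16384) (Steps.fwd (nat_lit 8192) (Steps.bwd (nat_lit 3) (Steps.fwd (nat_lit 8192) (Steps.fwd (nat_lit 24576) (Steps.fwd (nat_lit 32768) (Steps.bwd (nat_lit 1) Steps.nil))))))))))) (nat_lit 190) (nat_lit 0)]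
noncomputable def R_79 : List (Rule) := [Rule.mk (nat_lit 15) (nat_lit 179) (Steps.bwd (nat_lit 3) (Steps.fwd (nat_lit 8192) (Steps.fwd (nat_lit 32768) (Steps.fwd (nat_lit 16384) (Steps.bwd (nat_lit 1) (Steps.fwd (nat_lit 24576) (Steps.fwd (nat_lit 8192) (Steps.fwd (nat_lit 24576) (Steps.bwd (nat_lit 1) (Steps.fwd (nat_lit 24576) (Steps.bwd (nat_lit 1) Steps.nil))))))))))) (nat_lit 191) (nat_lit 0),
  Rule.mk (nat_lit 1) (nat_lit 179) (Steps.bwd (nat_lit 15) (Steps.bwd (nat_lit 3) (Steps.bwd (nat_lit 1) (Steps.bwd (nat_lit 4) (Steps.bwd (nat_lit 3) (Steps.fwd (nat_lit 8192) (Steps.fwd (nat_lit 24576) (Steps.bwd (nat_lit 1) (Steps.fwd (nat_lit 24576) (Steps.bwd (nat_lit 1) (Steps.bwd (nat_lit 2) Steps.nil))))))))))) (nat_lit 191) (nat_lit 11),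
  Rule.mk (nat_lit 15) (nat_lit 179) (Steps.bwd (nat_lit 3) (Steps.bwd (nat_lit 1) (Steps.bwd (nat_lit 4) (Steps.bwd (nat_lit 3) (Steps.bwd (nat_lit 1) (Steps.fwd (nat_lit 24576) (Steps.fwd (nat_lit 8192) (Steps.fwd (nat_lit 24576) (Steps.bwd (nat_lit 1) (Steps.fwd (nat_lit 24576) (Steps.fwd (nat_lit 8192) Steps.nil))))))))))) (nat_lit 191) (nat_lit 0),
  Rule.mk (nat_lit 17) (nat_lit 179) (Steps.bwd (nat_lit 2) (Steps.bwd (nat_lit 1) (Steps.fwd (nat_lit 24576) (Steps.bwd (nat_lit 1) (Steps.fwd (nat_lit 16384) (Steps.fwd (nat_lit 8192) (Steps.bwd (nat_lit 3) (Steps.bwd (nat_lit 1) (Steps.bwd (nat_lit 4) (Steps.fwd (nat_lit 24576) (Steps.bwd (nat_lit 1) Steps.nil))))))))))) (nat_lit 193) (nat_lit 0),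
  Rule.mk (nat_lit 20) (nat_lit 179) (Steps.bwd (nat_lit 1) (Steps.bwd (nat_lit 2) (Steps.bwd (nat_lit 1) (Steps.fwd (nat_lit 24576) (Steps.bwd (nat_lit 1) (Steps.fwd (nat_lit 16384) (Steps.fwd (nat_lit 8192) (Steps.bwd (nat_lit 3) (Steps.bwd (nat_lit 1) (Steps.bwd (nat_lit 4) (Steps.fwd (nat_lit 24576) Steps.nil))))))))))) (nat_lit 194) (nat_lit 1),
  Rule.mk (nat_lit 17) (nat_lit 179) (Steps.fwd (nat_lit 24576) (Steps.bwd (nat_lit 1) (Steps.bwd (nat_lit 2) (Steps.bwd (nat_lit 1) (Steps.fwd (nat_lit 16384) (Steps.fwd (nat_lit 8192) (Steps.bwd (nat_lit 3) (Steps.fwd (nat_lit 8192) (Steps.fwd (nat_lit 32768) (Steps.bwd (nat_lit 2) (Steps.bwd (nat_lit 1) Steps.nil))))))))))) (nat_lit 193) (nat_lit 0),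
  Rule.mk (nat_lit 0) (nat_lit 74) (Steps.fwd (nat_lit 32768) (Steps.bwd (nat_lit 3) (Steps.fwd (nat_lit 32768) (Steps.bwd (nat_lit 2) Steps.nil)))) (nat_lit 168) (nat_lit 1),
  Rule.mk (nat_lit 16) (nat_lit 179) (Steps.fwd (nat_lit 8192) (Steps.fwd (nat_lit 16384) (Steps.bwd (nat_lit 1) (Steps.fwd (nat_lit 16384) (Steps.fwd (nat_lit 8192) (Steps.bwd (nat_lit 3) (Steps.bwd (nat_lit 1) (Steps.bwd (nat_lit 2) (Steps.fwd (nat_lit 32768) (Steps.bwd (nat_lit 1) (Steps.fwd (nat_lit 24576) Steps.nil))))))))))) (nat_lit 190) (nat_lit 1),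
  Rule.mk (nat_lit 0) (nat_lit 194) (Steps.bwd (nat_lit 1) (Steps.bwd (nat_lit 3) (Steps.fwd (nat_lit 8192) (Steps.fwd (nat_lit 16384) (Steps.fwd (nat_lit 8192) (Steps.bwd (nat_lit 3) (Steps.fwd (nat_lit 8192) (Steps.fwd (nat_lit 24576) (Steps.fwd (nat_lit 32768) (Steps.fwd (nat_lit 8192) (Steps.bwd (nat_lit 2) (Steps.fwd (nat_lit 122880) Steps.nil)))))))))))) (nat_lit 190) (nat_lit 1),
  Rule.mk (nat_lit 0) (nat_lit 194) (Steps.bwd (nat_lit 15) (Steps.fwd (nat_lit 16384) (Steps.fwd (nat_lit 8192) (Steps.fwd (nat_lit 32768) (Steps.bwd (nat_lit 3) (Steps.bwd (nat_lit 1) (Steps.bwd (nat_lit 2) (Steps.bwd (nat_lit 1) (Steps.fwd (nat_lit 24576) (Steps.bwd (nat_lit 1) (Steps.fwd (nat_lit 24576) (Steps.bwd (nat_lit 1) Steps.nil)))))))))))) (nat_lit 191) (nat_lit 11),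
  Rule.mk (nat_lit 18) (nat_lit 179) (Steps.bwd (nat_lit 1) (Steps.bwd (nat_lit 3) (Steps.bwd (nat_lit 4) (Steps.bwd (nat_lit 1) (Steps.fwd (nat_lit 24576) (Steps.bwd (nat_lit 1) (Steps.bwd (nat_lit 2) (Steps.bwd (nat_lit 1) (Steps.bwd (nat_lit 3) (Steps.bwd (nat_lit 1) (Steps.fwd (nat_lit 16384) Steps.nil))))))))))) (nat_lit 192) (nat_lit 1),
  Rule.mk (nat_lit 1) (nat_lit 179) (Steps.bwd (nat_lit 19) (Steps.bwd (nat_lit 3) (Steps.bwd (nat_lit 4) (Steps.bwd (nat_lit 1) (Steps.fwd (nat_lit 24576) (Steps.bwd (nat_lit 1) (Steps.bwd (nat_lit 2) (Steps.bwd (nat_lit 1) (Steps.bwd (nat_lit 3) (Steps.bwd (nat_lit 1) (Steps.fwd (nat_lit 16384) Steps.nil))))))))))) (nat_lit 195) (nat_lit 11),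
  Rule.mk (nat_lit 2) (nat_lit 539) (Steps.fwd (nat_lit 8192) (Steps.bwd (nat_lit 3) (Steps.fwd (nat_lit 8192) (Steps.fwd (nat_lit 16384) (Steps.bwd (nat_lit 1) (Steps.bwd (nat_lit 2) (Steps.bwd (nat_lit 1) (Steps.fwd (nat_lit 24576) (Steps.bwd (nat_lit 1) (Steps.fwd (nat_lit 16384) (Steps.fwd (nat_lit 8192) (Steps.bwd (nat_lit 2) (Steps.fwd (nat_lit 8192) (Steps.bwd (nat_lit 2) (Steps.fwd (nat_lit 8192) (Steps.fwd (nat_lit 16384) (Steps.fwd (nat_lit 8192) (Steps.bwd (nat_lit 2) (Steps.bwd (nat_lit 1) (Steps.fwd (nat_lit 24576) (Steps.bwd (nat_lit 1) (Steps.fwd (nat_lit 16384) (Steps.bwd (nat_lit 1) (Steps.fwd (nat_lit 24576) (Steps.bwd (nat_lit 1) (Steps.fwd (nat_lit 16384) (Steps.fwd (nat_lit 8192) (Steps.bwd (nat_lit 3) (Steps.bwd (nat_lit 1) (Steps.bwd (nat_lit 2) (Steps.bwd (nat_lit 1) (Steps.bwd (nat_lit 3) (Steps.bwd (nat_lit 1) (Steps.fwd (nat_lit 16384) (Steps.bwd (nat_lit 1) Steps.nil)))))))))))))))))))))))))))))))))))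 (nat_lit 12) (nat_lit 32),
  Rule.mk (nat_lit 0) (nat_lit 194) (Steps.bwd (nat_lit 16) (Steps.fwd (nat_lit 8192) (Steps.bwd (nat_lit 3) (Steps.bwd (nat_lit 1) (Steps.fwd (nat_lit 16384) (Steps.fwd (nat_lit 8192) (Steps.fwd (nat_lit 16384) (Steps.fwd (nat_lit 8192) (Steps.bwd (nat_lit 2) (Steps.fwd (nat_lit 32768) (Steps.bwd (nat_lit 1) (Steps.fwd (nat_lit 24576) Steps.nil)))))))))))) (nat_lit 190) (nat_lit 0),
  Rule.mk (nat_lit 0) (nat_lit 194) (Steps.bwd (nat_lit 15) (Steps.fwd (nat_lit 16384) (Steps.bwd (nat_lit 1) (Steps.bwd (nat_lit 4) (Steps.fwd (nat_lit 16384) (Steps.bwd (nat_lit 1) (Steps.bwd (nat_lit 2) (Steps.fwd (nat_lit 8192) (Steps.fwd (nat_lit 24576) (Steps.bwd (nat_lit 1) (Steps.bwd (nat_lit 2) (Steps.bwd (nat_lit 1) Steps.nil)))))))))))) (nat_lit 191) (nat_lit 11),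
  Rule.mk (nat_lit 0) (nat_lit 194) (Steps.bwd (nat_lit 18) (Steps.fwd (nat_lit 8192) (Steps.bwd (nat_lit 3) (Steps.bwd (nat_lit 4) (Steps.bwd (nat_lit 1) (Steps.bwd (nat_lit 2) (Steps.bwd (nat_lit 1) (Steps.bwd (nat_lit 2) (Steps.fwd (nat_lit 8192) (Steps.bwd (nat_lit 3) (Steps.fwd (nat_lit 8192) (Steps.fwd (nat_lit 16384) Steps.nil)))))))))))) (nat_lit 192) (nat_lit 0),
  Rule.mk (nat_lit 18) (nat_lit 179) (Steps.bwd (nat_lit 1) (Steps.bwd (nat_lit 3) (Steps.fwd (nat_lit 32768) (Steps.bwd (nat_lit 1) (Steps.bwd (nat_lit 2) (Steps.fwd (nat_lit 8192) (Steps.fwd (nat_lit 24576) (Steps.bwd (nat_lit 1) (Steps.fwd (nat_lit 16384) (Steps.bwd (nat_lit 1) (Steps.fwd (nat_lit 16384) Steps.nil))))))))))) (nat_lit 192) (nat_lit 1),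
  Rule.mk (nat_lit 17) (nat_lit 179) (Steps.bwd (nat_lit 2) (Steps.bwd (nat_lit 1) (Steps.bwd (nat_lit 2) (Steps.fwd (nat_lit 8192) (Steps.bwd (nat_lit 3) (Steps.fwd (nat_lit 8192) (Steps.fwd (nat_lit 16384) (Steps.bwd (nat_lit 1) (Steps.bwd (nat_lit 4) (Steps.bwd (nat_lit 2) (Steps.fwd (nat_lit 8192) Steps.nil))))))))))) (nat_lit 193) (nat_lit 0),
  Rule.mk (nat_lit 20) (nat_lit 179) (Steps.bwd (nat_lit 1) (Steps.bwd (nat_lit 2) (Steps.fwd (nat_lit 8192) (Steps.fwd (nat_lit 24576) (Steps.bwd (nat_lit 1) (Steps.fwd (nat_lit 16384) (Steps.bwd (nat_lit 1) (Steps.fwd (nat_lit 16384) (Steps.bwd (nat_lit 1) (Steps.bwd (nat_lit 4) (Steps.fwd (nat_lit 24576) Steps.nil))))))))))) (nat_lit 194) (nat_lit 1),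
  Rule.mk (nat_lit 19) (nat_lit 179) (Steps.bwd (nat_lit 3) (Steps.bwd (nat_lit 4) (Steps.bwd (nat_lit 1) (Steps.bwd (nat_lit 2) (Steps.bwd (nat_lit 1) (Steps.bwd (nat_lit 2) (Steps.fwd (nat_lit 8192) (Steps.bwd (nat_lit 3) (Steps.fwd (nat_lit 8192) (Steps.fwd (nat_lit 16384) (Steps.bwd (nat_lit 1) Steps.nil))))))))))) (nat_lit 195) (nat_lit 0),
  Rule.mk (nat_lit 0) (nat_lit 194) (Steps.bwd (nat_lit 20) (Steps.fwd (nat_lit 8192) (Steps.bwd (nat_lit 2) (Steps.fwd (nat_lit 8192) (Steps.bwd (nat_lit 2) (Steps.fwd (nat_lit 8192) (Steps.bwd (nat_lit 3) (Steps.bwd (nat_lit 1) (Steps.fwd (nat_lit 16384) (Steps.fwd (nat_lit 8192) (Steps.bwd (nat_lit 4) (Steps.fwd (nat_lit 24576) Steps.nil)))))))))))) (nat_lit 194) (nat_lit 0),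
  Rule.mk (nat_lit 18) (nat_lit 179) (Steps.fwd (nat_lit 8192) (Steps.fwd (nat_lit 16384) (Steps.bwd (nat_lit 4) (Steps.fwd (nat_lit 8192) (Steps.bwd (nat_lit 2) (Steps.fwd (nat_lit 8192) (Steps.fwd (nat_lit 24576) (Steps.fwd (nat_lit 8192) (Steps.fwd (nat_lit 16384) (Steps.fwd (nat_lit 8192) (Steps.bwd (nat_lit 3) Steps.nil))))))))))) (nat_lit 192) (nat_lit 1),
  Rule.mk (nat_lit 0) (nat_lit 194) (Steps.fwd (nat_lit 16384) (Steps.bwd (nat_lit 4) (Steps.fwd (nat_lit 8192) (Steps.bwd (nat_lit 2) (Steps.fwd (nat_lit 8192) (Steps.fwd (nat_lit 24576) (Steps.fwd (nat_lit 8192) (Steps.fwd (nat_lit 16384) (Steps.fwd (nat_lit 8192) (Steps.bwd (nat_lit 3) (Steps.fwd (nat_lit 8192) (Steps.fwd (nat_lit 163840) Steps.nil)))))))))))) (nat_lit 195) (nat_lit 0),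
  Rule.mk (nat_lit 16) (nat_lit 179) (Steps.fwd (nat_lit 8192) (Steps.fwd (nat_lit 16384) (Steps.bwd (nat_lit 1) (Steps.fwd (nat_lit 16384) (Steps.fwd (nat_lit 8192) (Steps.bwd (nat_lit 3) (Steps.fwd (nat_lit 8192) (Steps.fwd (nat_lit 24576) (Steps.bwd (nat_lit 4) (Steps.bwd (nat_lit 1) (Steps.bwd (nat_lit 2) Steps.nil))))))))))) (nat_lit 190) (nat_lit 1),
  Rule.mk (nat_lit 15) (nat_lit 179) (Steps.fwd (nat_lit 16384) (Steps.bwd (nat_lit 1) (Steps.fwd (nat_lit 32768) (Steps.fwd (nat_lit 16384) (Steps.bwd (nat_lit 1) (Steps.bwd (nat_lit 2) (Steps.fwd (nat_lit 8192) (Steps.fwd (nat_lit 24576) (Steps.bwd (nat_lit 1) (Steps.bwd (nat_lit 2) (Steps.fwd (nat_lit 8192) Steps.nil))))))))))) (nat_lit 191) (nat_lit 0),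
  Rule.mk (nat_lit 15) (nat_lit 179) (Steps.bwd (nat_lit 3) (Steps.fwd (nat_lit 8192) (Steps.fwd (nat_lit 32768) (Steps.bwd (nat_lit 3) (Steps.fwd (nat_lit 8192) (Steps.fwd (nat_lit 24576) (Steps.bwd (nat_lit 1) (Steps.bwd (nat_lit 2) (Steps.fwd (nat_lit 8192) (Steps.bwd (nat_lit 2) (Steps.fwd (nat_lit 8192) Steps.nil))))))))))) (nat_lit 191) (nat_lit 0),
  Rule.mk (nat_lit 15) (nat_lit 179) (Steps.fwd (nat_lit 16384) (Steps.bwd (nat_lit 1) (Steps.fwd (nat_lit 32768) (Steps.bwd (nat_lit 3) (Steps.bwd (nat_lit 1) (Steps.bwd (nat_lit 2) (Steps.fwd (nat_lit 8192) (Steps.bwd (nat_lit 2) (Steps.fwd (nat_lit 8192) (Steps.fwd (nat_lit 24576) (Steps.fwd (nat_lit 8192) Steps.nil))))))))))) (nat_lit 191) (nat_lit 0),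
  Rule.mk (nat_lit 18) (nat_lit 179) (Steps.fwd (nat_lit 8192) (Steps.fwd (nat_lit 16384) (Steps.fwd (nat_lit 32768) (Steps.fwd (nat_lit 8192) (Steps.fwd (nat_lit 24576) (Steps.bwd (nat_lit 1) (Steps.bwd (nat_lit 2) (Steps.fwd (nat_lit 8192) (Steps.fwd (nat_lit 16384) (Steps.fwd (nat_lit 8192) (Steps.bwd (nat_lit 3) Steps.nil))))))))))) (nat_lit 192) (nat_lit 1),
  Rule.mk (nat_lit 0) (nat_lit 194) (Steps.bwd (nat_lit 17) (Steps.bwd (nat_lit 2) (Steps.fwd (nat_lit 8192) (Steps.fwd (nat_lit 24576) (Steps.bwd (nat_lit 1) (Steps.fwd (nat_lit 16384) (Steps.bwd (nat_lit 1) (Steps.fwd (nat_lit 16384) (Steps.fwd (nat_lit 8192) (Steps.fwd (nat_lit 32768) (Steps.bwd (nat_lit 2) (Steps.fwd (nat_lit 8192) Steps.nil)))))))))))) (nat_lit 193) (nat_lit 11),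
  Rule.mk (nat_lit 17) (nat_lit 179) (Steps.bwd (nat_lit 2) (Steps.fwd (nat_lit 8192) (Steps.fwd (nat_lit 24576) (Steps.bwd (nat_lit 1) (Steps.bwd (nat_lit 3) (Steps.fwd (nat_lit 8192) (Steps.bwd (nat_lit 3) (Steps.fwd (nat_lit 8192) (Steps.bwd (nat_lit 4) (Steps.bwd (nat_lit 2) (Steps.fwd (nat_lit 8192) Steps.nil))))))))))) (nat_lit 193) (nat_lit 0),
  Rule.mk (nat_lit 17) (nat_lit 179) (Steps.bwd (nat_lit 2) (Steps.fwd (nat_lit 8192) (Steps.bwd (nat_lit 2) (Steps.fwd (nat_lit 8192) (Steps.bwd (nat_lit 3) (Steps.bwd (nat_lit 1) (Steps.fwd (nat_lit 16384) (Steps.fwd (nat_lit 8192) (Steps.bwd (nat_lit 4) (Steps.bwd (nat_lit 2) (Steps.bwd (nat_lit 1) Steps.nil))))))))))) (nat_lit 193) (nat_lit 0),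
  Rule.mk (nat_lit 20) (nat_lit 179) (Steps.bwd (nat_lit 1) (Steps.bwd (nat_lit 2) (Steps.fwd (nat_lit 8192) (Steps.bwd (nat_lit 2) (Steps.fwd (nat_lit 8192) (Steps.bwd (nat_lit 3) (Steps.bwd (nat_lit 1) (Steps.fwd (nat_lit 16384) (Steps.fwd (nat_lit 8192) (Steps.bwd (nat_lit 4) (Steps.bwd (nat_lit 2) Steps.nil))))))))))) (nat_lit 194) (nat_lit 1),
  Rule.mk (nat_lit 1) (nat_lit 179) (Steps.bwd (nat_lit 19) (Steps.fwd (nat_lit 16384) (Steps.fwd (nat_lit 32768) (Steps.fwd (nat_lit 8192) (Steps.fwd (nat_lit 24576) (Steps.bwd (nat_lit 1) (Steps.bwd (nat_lit 2) (Steps.fwd (nat_lit 8192) (Steps.fwd (nat_lit 16384) (Steps.fwd (nat_lit 8192) (Steps.bwd (nat_lit 3) Steps.nil))))))))))) (nat_lit 195) (nat_lit 11),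
  Rule.mk (nat_lit 19) (nat_lit 179) (Steps.fwd (nat_lit 16384) (Steps.bwd (nat_lit 4) (Steps.bwd (nat_lit 1) (Steps.bwd (nat_lit 2) (Steps.fwd (nat_lit 8192) (Steps.bwd (nat_lit 2) (Steps.fwd (nat_lit 8192) (Steps.bwd (nat_lit 3) (Steps.bwd (nat_lit 1) (Steps.fwd (nat_lit 16384) (Steps.fwd (nat_lit 8192) Steps.nil))))))))))) (nat_lit 195) (nat_lit 0),
  Rule.mk (nat_lit 9) (nat_lit 89) (Steps.fwd (nat_lit 8192) (Steps.bwd (nat_lit 14) (Steps.bwd (nat_lit 7) (Steps.fwd (nat_lit 32768) (Steps.bwd (nat_lit 1) Steps.nil))))) (nat_lit 157) (nat_lit 5),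
  Rule.mk (nat_lit 10) (nat_lit 134) (Steps.fwd (nat_lit 8192) (Steps.fwd (nat_lit 114688) (Steps.bwd (nat_lit 11) (Steps.bwd (nat_lit 9) (Steps.fwd (nat_lit 65536) (Steps.bwd (nat_lit 5) (Steps.fwd (nat_lit 32768) (Steps.bwd (nat_lit 1) Steps.nil)))))))) (nat_lit 159) (nat_lit 8),
  Rule.mk (nat_lit 7) (nat_lit 164) (Steps.fwd (nat_lit 8192) (Steps.bwd (nat_lit 5) (Steps.fwd (nat_lit 49152) (Steps.fwd (nat_lit 73728) (Steps.bwd (nat_lit 10) (Steps.bwd (nat_lit 11) (Steps.bwd (nat_lit 12) (Steps.bwd (nat_lit 13) (Steps.bwd (nat_lit 14) (Steps.bwd (nat_lit 1) Steps.nil)))))))))) (nat_lit 152) (nat_lit 2),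
  Rule.mk (nat_lit 2) (nat_lit 179) (Steps.bwd (nat_lit 20) (Steps.bwd (nat_lit 1) (Steps.bwd (nat_lit 2) (Steps.fwd (nat_lit 8192) (Steps.bwd (nat_lit 2) (Steps.fwd (nat_lit 8192) (Steps.bwd (nat_lit 3) (Steps.fwd (nat_lit 8192) (Steps.bwd (nat_lit 3) (Steps.fwd (nat_lit 8192) (Steps.bwd (nat_lit 4) Steps.nil))))))))))) (nat_lit 194) (nat_lit 0),
  Rule.mk (nat_lit 8) (nat_lit 89) (Steps.fwd (nat_lit 16384) (Steps.bwd (nat_lit 4) (Steps.fwd (nat_lit 57344) (Steps.fwd (nat_lit 114688) (Steps.bwd (nat_lit 2) Steps.nil))))) (nat_lit 176) (nat_lit 2),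
  Rule.mk (nat_lit 7) (nat_lit 104) (Steps.fwd (nat_lit 16384) (Steps.bwd (nat_lit 14) (Steps.fwd (nat_lit 106496) (Steps.bwd (nat_lit 7) (Steps.bwd (nat_lit 5) (Steps.bwd (nat_lit 2) Steps.nil)))))) (nat_lit 175) (nat_lit 6),
  Rule.mk (nat_lit 12) (nat_lit 104) (Steps.fwd (nat_lit 16384) (Steps.fwd (nat_lit 32768) (Steps.bwd (nat_lit 5) (Steps.bwd (nat_lit 8) (Steps.bwd (nat_lit 9) (Steps.bwd (nat_lit 2) Steps.nil)))))) (nat_lit 184) (nat_lit 2),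
  Rule.mk (nat_lit 5) (nat_lit 149) (Steps.fwd (nat_lit 16384) (Steps.bwd (nat_lit 4) (Steps.fwd (nat_lit 40960) (Steps.fwd (nat_lit 65536) (Steps.fwd (nat_lit 73728) (Steps.bwd (nat_lit 12) (Steps.bwd (nat_lit 13) (Steps.fwd (nat_lit 114688) (Steps.bwd (nat_lit 2) Steps.nil))))))))) (nat_lit 170) (nat_lit 2),
  Rule.mk (nat_lit 11) (nat_lit 164) (Steps.bwd (nat_lit 3) (Steps.fwd (nat_lit 32768) (Steps.bwd (nat_lit 5) (Steps.fwd (nat_lit 65536) (Steps.fwd (nat_lit 73728) (Steps.fwd (nat_lit 81920) (Steps.bwd (nat_lit 11) (Steps.bwd (nat_lit 12) (Steps.fwd (nat_lit 114688) (Steps.bwd (nat_lit 2) Steps.nil)))))))))) (nat_lit 182) (nat_lit 2),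
  Rule.mk (nat_lit 16) (nat_lit 179) (Steps.bwd (nat_lit 1) (Steps.fwd (nat_lit 16384) (Steps.fwd (nat_lit 8192) (Steps.fwd (nat_lit 16384) (Steps.fwd (nat_lit 8192) (Steps.fwd (nat_lit 16384) (Steps.bwd (nat_lit 1) (Steps.bwd (nat_lit 2) (Steps.bwd (nat_lit 4) (Steps.bwd (nat_lit 1) (Steps.bwd (nat_lit 2) Steps.nil))))))))))) (nat_lit 190) (nat_lit 1),
  Rule.mk (nat_lit 15) (nat_lit 179) (Steps.bwd (nat_lit 3) (Steps.bwd (nat_lit 1) (Steps.bwd (nat_lit 4) (Steps.bwd (nat_lit 3) (Steps.fwd (nat_lit 8192) (Steps.bwd (nat_lit 2) (Steps.bwd (nat_lit 1) (Steps.bwd (nat_lit 2) (Steps.fwd (nat_lit 8192) (Steps.fwd (nat_lit 24576) (Steps.fwd (nat_lit 8192) Steps.nil))))))))))) (nat_lit 191) (nat_lit 0),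
  Rule.mk (nat_lit 0) (nat_lit 194) (Steps.bwd (nat_lit 15) (Steps.fwd (nat_lit 16384) (Steps.fwd (nat_lit 8192) (Steps.bwd (nat_lit 4) (Steps.bwd (nat_lit 3) (Steps.bwd (nat_lit 1) (Steps.bwd (nat_lit 2) (Steps.fwd (nat_lit 8192) (Steps.fwd (nat_lit 24576) (Steps.fwd (nat_lit 8192) (Steps.fwd (nat_lit 24576) (Steps.bwd (nat_lit 1) Steps.nil)))))))))))) (nat_lit 191) (nat_lit 11),
  Rule.mk (nat_lit 15) (nat_lit 179) (Steps.bwd (nat_lit 3) (Steps.bwd (nat_lit 1) (Steps.bwd (nat_lit 4) (Steps.fwd (nat_lit 16384) (Steps.bwd (nat_lit 1) (Steps.fwd (nat_lit 24576) (Steps.bwd (nat_lit 1) (Steps.fwd (nat_lit 24576) (Steps.bwd (nat_lit 1) (Steps.bwd (nat_lit 2) (Steps.fwd (nat_lit 8192) Steps.nil))))))))))) (nat_lit 191) (nat_lit 0),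
  Rule.mk (nat_lit 0) (nat_lit 194) (Steps.bwd (nat_lit 17) (Steps.fwd (nat_lit 24576) (Steps.fwd (nat_lit 8192) (Steps.fwd (nat_lit 24576) (Steps.bwd (nat_lit 1) (Steps.fwd (nat_lit 16384) (Steps.fwd (nat_lit 8192) (Steps.fwd (nat_lit 16384) (Steps.bwd (nat_lit 1) (Steps.bwd (nat_lit 4) (Steps.bwd (nat_lit 2) (Steps.fwd (nat_lit 8192) Steps.nil)))))))))))) (nat_lit 193) (nat_lit 11),
  Rule.mk (nat_lit 0) (nat_lit 194) (Steps.bwd (nat_lit 18) (Steps.fwd (nat_lit 8192) (Steps.bwd (nat_lit 3) (Steps.bwd (nat_lit 4) (Steps.bwd (nat_lit 1) (Steps.bwd (nat_lit 2) (Steps.fwd (nat_lit 8192) (Steps.fwd (nat_lit 24576) (Steps.fwd (nat_lit 8192) (Steps.bwd (nat_lit 3) (Steps.bwd (nat_lit 1) (Steps.bwd (nat_lit 3) Steps.nil)))))))))))) (nat_lit 192) (nat_lit 0),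
  Rule.mk (nat_lit 18) (nat_lit 179) (Steps.bwd (nat_lit 1) (Steps.fwd (nat_lit 16384) (Steps.fwd (nat_lit 32768) (Steps.bwd (nat_lit 1) (Steps.fwd (nat_lit 24576) (Steps.bwd (nat_lit 1) (Steps.fwd (nat_lit 24576) (Steps.bwd (nat_lit 1) (Steps.fwd (nat_lit 16384) (Steps.bwd (nat_lit 1) (Steps.fwd (nat_lit 16384) Steps.nil))))))))))) (nat_lit 192) (nat_lit 1),
  Rule.mk (nat_lit 17) (nat_lit 179) (Steps.bwd (nat_lit 2) (Steps.bwd (nat_lit 1) (Steps.bwd (nat_lit 2) (Steps.fwd (nat_lit 8192) (Steps.bwd (nat_lit 3) (Steps.bwd (nat_lit 1) (Steps.bwd (nat_lit 3) (Steps.fwd (nat_lit 8192) (Steps.bwd (nat_lit 4) (Steps.bwd (nat_lit 2) (Steps.fwd (nat_lit 8192) Steps.nil))))))))))) (nat_lit 193) (nat_lit 0),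
  Rule.mk (nat_lit 20) (nat_lit 179) (Steps.fwd (nat_lit 8192) (Steps.bwd (nat_lit 2) (Steps.bwd (nat_lit 1) (Steps.bwd (nat_lit 2) (Steps.fwd (nat_lit 8192) (Steps.bwd (nat_lit 3) (Steps.bwd (nat_lit 1) (Steps.bwd (nat_lit 3) (Steps.fwd (nat_lit 8192) (Steps.bwd (nat_lit 4) (Steps.bwd (nat_lit 2) Steps.nil))))))))))) (nat_lit 194) (nat_lit 1),
  Rule.mk (nat_lit 20) (nat_lit 179) (Steps.bwd (nat_lit 1) (Steps.bwd (nat_lit 2) (Steps.fwd (nat_lit 8192) (Steps.fwd (nat_lit 24576) (Steps.fwd (nat_lit 8192) (Steps.bwd (nat_lit 3) (Steps.bwd (nat_lit 1) (Steps.bwd (nat_lit 3) (Steps.fwd (nat_lit 8192) (Steps.bwd (nat_lit 4) (Steps.fwd (nat_lit 24576) Steps.nil))))))))))) (nat_lit 194) (nat_lit 1),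
  Rule.mk (nat_lit 19) (nat_lit 179) (Steps.fwd (nat_lit 16384) (Steps.fwd (nat_lit 32768) (Steps.fwd (nat_lit 8192) (Steps.bwd (nat_lit 2) (Steps.bwd (nat_lit 1) (Steps.bwd (nat_lit 2) (Steps.fwd (nat_lit 8192) (Steps.bwd (nat_lit 3) (Steps.bwd (nat_lit 1) (Steps.bwd (nat_lit 3) (Steps.fwd (nat_lit 8192) Steps.nil))))))))))) (nat_lit 195) (nat_lit 0),
  Rule.mk (nat_lit 19) (nat_lit 179) (Steps.bwd (nat_lit 3) (Steps.bwd (nat_lit 4) (Steps.bwd (nat_lit 1) (Steps.bwd (nat_lit 2) (Steps.fwd (nat_lit 8192) (Steps.fwd (nat_lit 24576) (Steps.fwd (nat_lit 8192) (Steps.bwd (nat_lit 3) (Steps.bwd (nat_lit 1) (Steps.bwd (nat_lit 3) (Steps.fwd (nat_lit 8192) Steps.nil))))))))))) (nat_lit 195) (nat_lit 0),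
  Rule.mk (nat_lit 2) (nat_lit 164) (Steps.bwd (nat_lit 11) (Steps.bwd (nat_lit 3) (Steps.fwd (nat_lit 32768) (Steps.bwd (nat_lit 5) (Steps.bwd (nat_lit 8) (Steps.bwd (nat_lit 9) (Steps.fwd (nat_lit 81920) (Steps.bwd (nat_lit 11) (Steps.fwd (nat_lit 98304) (Steps.bwd (nat_lit 14) Steps.nil)))))))))) (nat_lit 182) (nat_lit 1),
  Rule.mk (nat_lit 16) (nat_lit 179) (Steps.fwd (nat_lit 8192) (Steps.fwd (nat_lit 16384) (Steps.fwd (nat_lit 8192) (Steps.bwd (nat_lit 3) (Steps.bwd (nat_lit 1) (Steps.fwd (nat_lit 16384) (Steps.fwd (nat_lit 8192) (Steps.bwd (nat_lit 2) (Steps.fwd (nat_lit 32768) (Steps.bwd (nat_lit 1) (Steps.bwd (nat_lit 2) Steps.nil))))))))))) (nat_lit 190) (nat_lit 1),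
  Rule.mk (nat_lit 15) (nat_lit 179) (Steps.bwd (nat_lit 3) (Steps.fwd (nat_lit 8192) (Steps.bwd (nat_lit 4) (Steps.fwd (nat_lit 16384) (Steps.bwd (nat_lit 1) (Steps.fwd (nat_lit 24576) (Steps.bwd (nat_lit 1) (Steps.bwd (nat_lit 2) (Steps.fwd (nat_lit 8192) (Steps.bwd (nat_lit 2) (Steps.fwd (nat_lit 8192) Steps.nil))))))))))) (nat_lit 191) (nat_lit 0),
  Rule.mk (nat_lit 0) (nat_lit 194) (Steps.bwd (nat_lit 17) (Steps.fwd (nat_lit 24576) (Steps.bwd (nat_lit 1) (Steps.bwd (nat_lit 2) (Steps.bwd (nat_lit 1) (Steps.fwd (nat_lit 16384) (Steps.fwd (nat_lit 8192) (Steps.bwd (nat_lit 3) (Steps.fwd (nat_lit 8192) (Steps.bwd (nat_lit 4) (Steps.bwd (nat_lit 2) (Steps.bwd (nat_lit 1) Steps.nil)))))))))))) (nat_lit 193) (nat_lit 11),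
  Rule.mk (nat_lit 18) (nat_lit 179) (Steps.fwd (nat_lit 8192) (Steps.fwd (nat_lit 16384) (Steps.fwd (nat_lit 32768) (Steps.bwd (nat_lit 1) (Steps.bwd (nat_lit 2) (Steps.fwd (nat_lit 8192) (Steps.bwd (nat_lit 2) (Steps.fwd (nat_lit 8192) (Steps.bwd (nat_lit 3) (Steps.fwd (nat_lit 8192) (Steps.bwd (nat_lit 3) Steps.nil))))))))))) (nat_lit 192) (nat_lit 1),
  Rule.mk (nat_lit 20) (nat_lit 179) (Steps.bwd (nat_lit 1) (Steps.fwd (nat_lit 24576) (Steps.bwd (nat_lit 1) (Steps.bwd (nat_lit 2) (Steps.fwd (nat_lit 8192) (Steps.fwd (nat_lit 16384) (Steps.fwd (nat_lit 8192) (Steps.bwd (nat_lit 3) (Steps.bwd (nat_lit 1) (Steps.bwd (nat_lit 4) (Steps.bwd (nat_lit 2) Steps.nil))))))))))) (nat_lit 194) (nat_lit 1),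
  Rule.mk (nat_lit 0) (nat_lit 194) (Steps.bwd (nat_lit 19) (Steps.fwd (nat_lit 16384) (Steps.fwd (nat_lit 32768) (Steps.bwd (nat_lit 1) (Steps.fwd (nat_lit 24576) (Steps.bwd (nat_lit 1) (Steps.bwd (nat_lit 2) (Steps.fwd (nat_lit 8192) (Steps.fwd (nat_lit 16384) (Steps.fwd (nat_lit 8192) (Steps.bwd (nat_lit 3) (Steps.bwd (nat_lit 1) Steps.nil)))))))))))) (nat_lit 195) (nat_lit 11),
  Rule.mk (nat_lit 19) (nat_lit 179) (Steps.fwd (nat_lit 16384) (Steps.fwd (nat_lit 32768) (Steps.bwd (nat_lit 1) (Steps.bwd (nat_lit 2) (Steps.fwd (nat_lit 8192) (Steps.bwd (nat_lit 2) (Steps.fwd (nat_lit 8192) (Steps.bwd (nat_lit 3) (Steps.fwd (nat_lit 8192) (Steps.bwd (nat_lit 3) (Steps.bwd (nat_lit 1) Steps.nil))))))))))) (nat_lit 195) (nat_lit 0),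
  Rule.mk (nat_lit 16) (nat_lit 179) (Steps.fwd (nat_lit 8192) (Steps.fwd (nat_lit 16384) (Steps.bwd (nat_lit 1) (Steps.fwd (nat_lit 16384) (Steps.bwd (nat_lit 1) (Steps.fwd (nat_lit 16384) (Steps.bwd (nat_lit 1) (Steps.bwd (nat_lit 2) (Steps.fwd (nat_lit 32768) (Steps.bwd (nat_lit 1) (Steps.bwd (nat_lit 2) Steps.nil))))))))))) (nat_lit 190) (nat_lit 1)]
noncomputable def R_80 : List (Rule) := [Rule.mk (nat_lit 15) (nat_lit 179) (Steps.bwd (nat_lit 3) (Steps.bwd (nat_lit 1) (Steps.bwd (nat_lit 4) (Steps.bwd (nat_lit 3) (Steps.bwd (nat_lit 1) (Steps.bwd (nat_lit 2) (Steps.bwd (nat_lit 1) (Steps.bwd (nat_lit 2) (Steps.fwd (nat_lit 8192) (Steps.fwd (nat_lit 24576) (Steps.bwd (nat_lit 1) Steps.nil))))))))))) (nat_lit 191) (nat_lit 0),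
  Rule.mk (nat_lit 18) (nat_lit 179) (Steps.bwd (nat_lit 1) (Steps.bwd (nat_lit 3) (Steps.bwd (nat_lit 4) (Steps.bwd (nat_lit 1) (Steps.bwd (nat_lit 2) (Steps.bwd (nat_lit 1) (Steps.bwd (nat_lit 2) (Steps.fwd (nat_lit 8192) (Steps.fwd (nat_lit 16384) (Steps.bwd (nat_lit 1) (Steps.fwd (nat_lit 16384) Steps.nil))))))))))) (nat_lit 192) (nat_lit 1),
  Rule.mk (nat_lit 18) (nat_lit 179) (Steps.fwd (nat_lit 8192) (Steps.fwd (nat_lit 16384) (Steps.fwd (nat_lit 32768) (Steps.bwd (nat_lit 1) (Steps.bwd (nat_lit 2) (Steps.fwd (nat_lit 8192) (Steps.fwd (nat_lit 24576) (Steps.bwd (nat_lit 1) (Steps.bwd (nat_lit 3) (Steps.fwd (nat_lit 8192) (Steps.bwd (nat_lit 3) Steps.nil))))))))))) (nat_lit 192) (nat_lit 1),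
  Rule.mk (nat_lit 17) (nat_lit 179) (Steps.bwd (nat_lit 2) (Steps.bwd (nat_lit 1) (Steps.bwd (nat_lit 2) (Steps.fwd (nat_lit 8192) (Steps.fwd (nat_lit 16384) (Steps.bwd (nat_lit 1) (Steps.fwd (nat_lit 16384) (Steps.fwd (nat_lit 8192) (Steps.fwd (nat_lit 32768) (Steps.fwd (nat_lit 24576) (Steps.fwd (nat_lit 8192) Steps.nil))))))))))) (nat_lit 193) (nat_lit 0),
  Rule.mk (nat_lit 0) (nat_lit 194) (Steps.bwd (nat_lit 1) (Steps.bwd (nat_lit 2) (Steps.fwd (nat_lit 8192) (Steps.fwd (nat_lit 24576) (Steps.bwd (nat_lit 1) (Steps.bwd (nat_lit 3) (Steps.fwd (nat_lit 8192) (Steps.bwd (nat_lit 3) (Steps.fwd (nat_lit 8192) (Steps.bwd (nat_lit 4) (Steps.bwd (nat_lit 2) (Steps.fwd (nat_lit 155648) Steps.nil)))))))))))) (nat_lit 194) (nat_lit 1),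
  Rule.mk (nat_lit 0) (nat_lit 194) (Steps.bwd (nat_lit 20) (Steps.bwd (nat_lit 1) (Steps.bwd (nat_lit 2) (Steps.fwd (nat_lit 8192) (Steps.bwd (nat_lit 2) (Steps.bwd (nat_lit 1) (Steps.fwd (nat_lit 16384) (Steps.bwd (nat_lit 1) (Steps.fwd (nat_lit 16384) (Steps.fwd (nat_lit 8192) (Steps.fwd (nat_lit 32768) (Steps.fwd (nat_lit 24576) Steps.nil)))))))))))) (nat_lit 194) (nat_lit 0),
  Rule.mk (nat_lit 19) (nat_lit 179) (Steps.fwd (nat_lit 16384) (Steps.bwd (nat_lit 4) (Steps.fwd (nat_lit 8192) (Steps.bwd (nat_lit 2) (Steps.fwd (nat_lit 8192) (Steps.fwd (nat_lit 24576) (Steps.bwd (nat_lit 1) (Steps.bwd (nat_lit 3) (Steps.fwd (nat_lit 8192) (Steps.bwd (nat_lit 3) (Steps.fwd (nat_lit 8192) Steps.nil))))))))))) (nat_lit 195) (nat_lit 0),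
  Rule.mk (nat_lit 19) (nat_lit 179) (Steps.fwd (nat_lit 16384) (Steps.fwd (nat_lit 32768) (Steps.fwd (nat_lit 8192) (Steps.fwd (nat_lit 24576) (Steps.bwd (nat_lit 1) (Steps.fwd (nat_lit 24576) (Steps.fwd (nat_lit 8192) (Steps.fwd (nat_lit 16384) (Steps.bwd (nat_lit 1) (Steps.bwd (nat_lit 3) (Steps.fwd (nat_lit 8192) Steps.nil))))))))))) (nat_lit 195) (nat_lit 0),
  Rule.mk (nat_lit 17) (nat_lit 179) (Steps.bwd (nat_lit 2) (Steps.fwd (nat_lit 8192) (Steps.bwd (nat_lit 2) (Steps.bwd (nat_lit 1) (Steps.fwd (nat_lit 16384) (Steps.bwd (nat_lit 1) (Steps.fwd (nat_lit 16384) (Steps.bwd (nat_lit 1) (Steps.fwd (nat_lit 32768) (Steps.bwd (nat_lit 2) (Steps.fwd (nat_lit 8192) Steps.nil))))))))))) (nat_lit 193) (nat_lit 0),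
  Rule.mk (nat_lit 6) (nat_lit 104) (Steps.bwd (nat_lit 2) (Steps.fwd (nat_lit 81920) (Steps.bwd (nat_lit 3) (Steps.bwd (nat_lit 14) (Steps.bwd (nat_lit 12) (Steps.bwd (nat_lit 11) Steps.nil)))))) (nat_lit 181) (nat_lit 4),
  Rule.mk (nat_lit 1) (nat_lit 104) (Steps.bwd (nat_lit 11) (Steps.fwd (nat_lit 8192) (Steps.bwd (nat_lit 14) (Steps.bwd (nat_lit 12) (Steps.bwd (nat_lit 11) (Steps.bwd (nat_lit 6) Steps.nil)))))) (nat_lit 161) (nat_lit 5),
  Rule.mk (nat_lit 15) (nat_lit 179) (Steps.fwd (nat_lit 16384) (Steps.bwd (nat_lit 1) (Steps.bwd (nat_lit 4) (Steps.bwd (nat_lit 3) (Steps.bwd (nat_lit 1) (Steps.bwd (nat_lit 2) (Steps.bwd (nat_lit 1) (Steps.bwd (nat_lit 2) (Steps.bwd (nat_lit 1) (Steps.fwd (nat_lit 24576) (Steps.fwd (nat_lit 8192) Steps.nil))))))))))) (nat_lit 191) (nat_lit 0),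
  Rule.mk (nat_lit 18) (nat_lit 179) (Steps.bwd (nat_lit 1) (Steps.fwd (nat_lit 16384) (Steps.fwd (nat_lit 32768) (Steps.fwd (nat_lit 8192) (Steps.bwd (nat_lit 2) (Steps.fwd (nat_lit 8192) (Steps.bwd (nat_lit 2) (Steps.fwd (nat_lit 8192) (Steps.fwd (nat_lit 16384) (Steps.bwd (nat_lit 1) (Steps.fwd (nat_lit 16384) Steps.nil))))))))))) (nat_lit 192) (nat_lit 1),
  Rule.mk (nat_lit 18) (nat_lit 179) (Steps.bwd (nat_lit 1) (Steps.fwd (nat_lit 16384) (Steps.bwd (nat_lit 4) (Steps.bwd (nat_lit 1) (Steps.bwd (nat_lit 2) (Steps.bwd (nat_lit 1) (Steps.bwd (nat_lit 2) (Steps.bwd (nat_lit 1) (Steps.bwd (nat_lit 3) (Steps.fwd (nat_lit 8192) (Steps.fwd (nat_lit 16384) Steps.nil))))))))))) (nat_lit 192) (nat_lit 1),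
  Rule.mk (nat_lit 17) (nat_lit 179) (Steps.bwd (nat_lit 2) (Steps.fwd (nat_lit 8192) (Steps.fwd (nat_lit 24576) (Steps.fwd (nat_lit 8192) (Steps.bwd (nat_lit 3) (Steps.bwd (nat_lit 1) (Steps.fwd (nat_lit 16384) (Steps.bwd (nat_lit 1) (Steps.fwd (nat_lit 32768) (Steps.bwd (nat_lit 2) (Steps.bwd (nat_lit 1) Steps.nil))))))))))) (nat_lit 193) (nat_lit 0),
  Rule.mk (nat_lit 17) (nat_lit 179) (Steps.bwd (nat_lit 2) (Steps.fwd (nat_lit 8192) (Steps.bwd (nat_lit 2) (Steps.fwd (nat_lit 8192) (Steps.fwd (nat_lit 16384) (Steps.bwd (nat_lit 1) (Steps.fwd (nat_lit 16384) (Steps.fwd (nat_lit 8192) (Steps.bwd (nat_lit 4) (Steps.bwd (nat_lit 2) (Steps.fwd (nat_lit 8192) Steps.nil))))))))))) (nat_lit 193) (nat_lit 0),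
  Rule.mk (nat_lit 17) (nat_lit 179) (Steps.bwd (nat_lit 2) (Steps.bwd (nat_lit 1) (Steps.bwd (nat_lit 2) (Steps.bwd (nat_lit 1) (Steps.fwd (nat_lit 16384) (Steps.fwd (nat_lit 8192) (Steps.bwd (nat_lit 3) (Steps.bwd (nat_lit 1) (Steps.fwd (nat_lit 32768) (Steps.fwd (nat_lit 24576) (Steps.bwd (nat_lit 1) Steps.nil))))))))))) (nat_lit 193) (nat_lit 0),
  Rule.mk (nat_lit 20) (nat_lit 179) (Steps.fwd (nat_lit 8192) (Steps.bwd (nat_lit 2) (Steps.fwd (nat_lit 8192) (Steps.bwd (nat_lit 2) (Steps.fwd (nat_lit 8192) (Steps.fwd (nat_lit 16384) (Steps.bwd (nat_lit 1) (Steps.fwd (nat_lit 16384) (Steps.fwd (nat_lit 8192) (Steps.bwd (nat_lit 4) (Steps.bwd (nat_lit 2) Steps.nil))))))))))) (nat_lit 194) (nat_lit 1),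
  Rule.mk (nat_lit 20) (nat_lit 179) (Steps.fwd (nat_lit 8192) (Steps.bwd (nat_lit 2) (Steps.bwd (nat_lit 1) (Steps.bwd (nat_lit 2) (Steps.bwd (nat_lit 1) (Steps.fwd (nat_lit 16384) (Steps.fwd (nat_lit 8192) (Steps.bwd (nat_lit 3) (Steps.bwd (nat_lit 1) (Steps.fwd (nat_lit 32768) (Steps.fwd (nat_lit 24576) Steps.nil))))))))))) (nat_lit 194) (nat_lit 1),
  Rule.mk (nat_lit 19) (nat_lit 179) (Steps.fwd (nat_lit 16384) (Steps.fwd (nat_lit 32768) (Steps.fwd (nat_lit 8192) (Steps.bwd (nat_lit 2) (Steps.fwd (nat_lit 8192) (Steps.bwd (nat_lit 2) (Steps.fwd (nat_lit 8192) (Steps.fwd (nat_lit 16384) (Steps.bwd (nat_lit 1) (Steps.fwd (nat_lit 16384) (Steps.fwd (nat_lit 8192) Steps.nil))))))))))) (nat_lit 195) (nat_lit 0),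
  Rule.mk (nat_lit 19) (nat_lit 179) (Steps.bwd (nat_lit 3) (Steps.bwd (nat_lit 4) (Steps.fwd (nat_lit 8192) (Steps.bwd (nat_lit 2) (Steps.bwd (nat_lit 1) (Steps.bwd (nat_lit 2) (Steps.bwd (nat_lit 1) (Steps.fwd (nat_lit 16384) (Steps.fwd (nat_lit 8192) (Steps.bwd (nat_lit 3) (Steps.bwd (nat_lit 1) Steps.nil))))))))))) (nat_lit 195) (nat_lit 0),
  Rule.mk (nat_lit 0) (nat_lit 194) (Steps.bwd (nat_lit 16) (Steps.bwd (nat_lit 1) (Steps.fwd (nat_lit 16384) (Steps.fwd (nat_lit 8192) (Steps.bwd (nat_lit 3) (Steps.fwd (nat_lit 8192) (Steps.fwd (nat_lit 16384) (Steps.fwd (nat_lit 8192) (Steps.bwd (nat_lit 2) (Steps.bwd (nat_lit 4) (Steps.fwd (nat_lit 8192) (Steps.fwd (nat_lit 24576) Steps.nil)))))))))))) (nat_lit 190) (nat_lit 0),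
  Rule.mk (nat_lit 3) (nat_lit 539) (Steps.bwd (nat_lit 1) (Steps.bwd (nat_lit 3) (Steps.bwd (nat_lit 1) (Steps.bwd (nat_lit 2) (Steps.fwd (nat_lit 8192) (Steps.fwd (nat_lit 16384) (Steps.bwd (nat_lit 1) (Steps.fwd (nat_lit 16384) (Steps.bwd (nat_lit 1) (Steps.bwd (nat_lit 2) (Steps.fwd (nat_lit 8192) (Steps.bwd (nat_lit 2) (Steps.fwd (nat_lit 8192) (Steps.bwd (nat_lit 3) (Steps.bwd (nat_lit 1) (Steps.fwd (nat_lit 24576) (Steps.fwd (nat_lit 8192) (Steps.bwd (nat_lit 2) (Steps.bwd (nat_lit 1) (Steps.bwd (nat_lit 3) (Steps.fwd (nat_lit 8192) (Steps.bwd (nat_lit 2) (Steps.bwd (nat_lit 1) (Steps.fwd (nat_lit 24576) (Steps.fwd (nat_lit 8192) (Steps.bwd (nat_lit 3) (Steps.bwd (nat_lit 1) (Steps.bwd (nat_lit 2) (Steps.fwd (nat_lit 8192) (Steps.bwd (nat_lit 3) (Steps.bwd (nat_lit 1) (Steps.fwd (nat_lit 16384) (Steps.bwd (nat_lit 1) (Steps.fwd (nat_lit 24576) (Steps.bwd (nat_lit 1) Steps.nil)))))))))))))))))))))))))))))))))))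 (nat_lit 12) (nat_lit 28),
  Rule.mk (nat_lit 15) (nat_lit 179) (Steps.bwd (nat_lit 3) (Steps.bwd (nat_lit 1) (Steps.bwd (nat_lit 4) (Steps.fwd (nat_lit 16384) (Steps.fwd (nat_lit 8192) (Steps.fwd (nat_lit 24576) (Steps.fwd (nat_lit 8192) (Steps.fwd (nat_lit 24576) (Steps.fwd (nat_lit 8192) (Steps.fwd (nat_lit 24576) (Steps.fwd (nat_lit 8192) Steps.nil))))))))))) (nat_lit 191) (nat_lit 0),
  Rule.mk (nat_lit 1) (nat_lit 179) (Steps.bwd (nat_lit 15) (Steps.bwd (nat_lit 3) (Steps.bwd (nat_lit 1) (Steps.bwd (nat_lit 4) (Steps.bwd (nat_lit 3) (Steps.fwd (nat_lit 8192) (Steps.fwd (nat_lit 24576) (Steps.fwd (nat_lit 8192) (Steps.fwd (nat_lit 24576) (Steps.fwd (nat_lit 8192) (Steps.fwd (nat_lit 24576) Steps.nil))))))))))) (nat_lit 191) (nat_lit 11),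
  Rule.mk (nat_lit 0) (nat_lit 194) (Steps.bwd (nat_lit 18) (Steps.bwd (nat_lit 1) (Steps.bwd (nat_lit 3) (Steps.fwd (nat_lit 32768) (Steps.fwd (nat_lit 8192) (Steps.fwd (nat_lit 24576) (Steps.fwd (nat_lit 8192) (Steps.fwd (nat_lit 24576) (Steps.fwd (nat_lit 8192) (Steps.bwd (nat_lit 3) (Steps.fwd (nat_lit 8192) (Steps.bwd (nat_lit 3) Steps.nil)))))))))))) (nat_lit 192) (nat_lit 0),
  Rule.mk (nat_lit 20) (nat_lit 179) (Steps.fwd (nat_lit 8192) (Steps.fwd (nat_lit 24576) (Steps.fwd (nat_lit 8192) (Steps.fwd (nat_lit 24576) (Steps.fwd (nat_lit 8192) (Steps.bwd (nat_lit 3) (Steps.fwd (nat_lit 8192) (Steps.bwd (nat_lit 3) (Steps.fwd (nat_lit 8192) (Steps.fwd (nat_lit 32768) (Steps.fwd (nat_lit 24576) Steps.nil))))))))))) (nat_lit 194) (nat_lit 1),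
  Rule.mk (nat_lit 0) (nat_lit 194) (Steps.bwd (nat_lit 19) (Steps.bwd (nat_lit 3) (Steps.fwd (nat_lit 32768) (Steps.fwd (nat_lit 8192) (Steps.fwd (nat_lit 24576) (Steps.fwd (nat_lit 8192) (Steps.fwd (nat_lit 24576) (Steps.fwd (nat_lit 8192) (Steps.bwd (nat_lit 3) (Steps.fwd (nat_lit 8192) (Steps.bwd (nat_lit 3) (Steps.fwd (nat_lit 8192) Steps.nil)))))))))))) (nat_lit 195) (nat_lit 11),
  Rule.mk (nat_lit 13) (nat_lit 104) (Steps.bwd (nat_lit 1) (Steps.bwd (nat_lit 4) (Steps.fwd (nat_lit 40960) (Steps.fwd (nat_lit 65536) (Steps.fwd (nat_lit 73728) (Steps.bwd (nat_lit 1) Steps.nil)))))) (nat_lit 164) (nat_lit 2),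
  Rule.mk (nat_lit 3) (nat_lit 134) (Steps.bwd (nat_lit 6) (Steps.bwd (nat_lit 10) (Steps.fwd (nat_lit 90112) (Steps.fwd (nat_lit 98304) (Steps.fwd (nat_lit 106496) (Steps.bwd (nat_lit 14) (Steps.fwd (nat_lit 24576) (Steps.fwd (nat_lit 106496) Steps.nil)))))))) (nat_lit 186) (nat_lit 3),
  Rule.mk (nat_lit 0) (nat_lit 194) (Steps.bwd (nat_lit 18) (Steps.fwd (nat_lit 8192) (Steps.bwd (nat_lit 3) (Steps.bwd (nat_lit 4) (Steps.fwd (nat_lit 8192) (Steps.fwd (nat_lit 24576) (Steps.fwd (nat_lit 8192) (Steps.bwd (nat_lit 2) (Steps.bwd (nat_lit 1) (Steps.bwd (nat_lit 3) (Steps.fwd (nat_lit 8192) (Steps.bwd (nat_lit 3) Steps.nil)))))))))))) (nat_lit 192) (nat_lit 0),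
  Rule.mk (nat_lit 19) (nat_lit 179) (Steps.bwd (nat_lit 3) (Steps.bwd (nat_lit 4) (Steps.fwd (nat_lit 8192) (Steps.fwd (nat_lit 24576) (Steps.fwd (nat_lit 8192) (Steps.bwd (nat_lit 2) (Steps.bwd (nat_lit 1) (Steps.bwd (nat_lit 3) (Steps.fwd (nat_lit 8192) (Steps.bwd (nat_lit 3) (Steps.bwd (nat_lit 1) Steps.nil))))))))))) (nat_lit 195) (nat_lit 0),
  Rule.mk (nat_lit 3) (nat_lit 179) (Steps.fwd (nat_lit 8192) (Steps.bwd (nat_lit 4) (Steps.bwd (nat_lit 3) (Steps.bwd (nat_lit 1) (Steps.fwd (nat_lit 24576) (Steps.fwd (nat_lit 8192) (Steps.bwd (nat_lit 2) (Steps.fwd (nat_lit 8192) (Steps.fwd (nat_lit 24576) (Steps.fwd (nat_lit 8192) (Steps.fwd (nat_lit 131072) Steps.nil))))))))))) (nat_lit 191) (nat_lit 1),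
  Rule.mk (nat_lit 15) (nat_lit 179) (Steps.bwd (nat_lit 3) (Steps.bwd (nat_lit 1) (Steps.fwd (nat_lit 32768) (Steps.bwd (nat_lit 3) (Steps.bwd (nat_lit 1) (Steps.fwd (nat_lit 24576) (Steps.bwd (nat_lit 1) (Steps.bwd (nat_lit 2) (Steps.fwd (nat_lit 8192) (Steps.fwd (nat_lit 24576) (Steps.bwd (nat_lit 1) Steps.nil))))))))))) (nat_lit 191) (nat_lit 0),
  Rule.mk (nat_lit 9) (nat_lit 134) (Steps.bwd (nat_lit 3) (Steps.fwd (nat_lit 32768) (Steps.bwd (nat_lit 5) (Steps.bwd (nat_lit 8) (Steps.fwd (nat_lit 73728) (Steps.fwd (nat_lit 90112) (Steps.bwd (nat_lit 14) (Steps.bwd (nat_lit 2) Steps.nil)))))))) (nat_lit 178) (nat_lit 2),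
  Rule.mk (nat_lit 5) (nat_lit 149) (Steps.bwd (nat_lit 3) (Steps.fwd (nat_lit 32768) (Steps.bwd (nat_lit 5) (Steps.bwd (nat_lit 8) (Steps.fwd (nat_lit 73728) (Steps.bwd (nat_lit 12) (Steps.bwd (nat_lit 13) (Steps.bwd (nat_lit 14) (Steps.bwd (nat_lit 2) Steps.nil))))))))) (nat_lit 170) (nat_lit 2),
  Rule.mk (nat_lit 6) (nat_lit 164) (Steps.bwd (nat_lit 3) (Steps.bwd (nat_lit 5) (Steps.fwd (nat_lit 49152) (Steps.bwd (nat_lit 9) (Steps.fwd (nat_lit 81920) (Steps.fwd (nat_lit 90112) (Steps.fwd (nat_lit 98304) (Steps.fwd (nat_lit 106496) (Steps.fwd (nat_lit 114688) (Steps.fwd (nat_lit 24576) Steps.nil)))))))))) (nat_lit 172) (nat_lit 2),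
  Rule.mk (nat_lit 11) (nat_lit 164) (Steps.bwd (nat_lit 3) (Steps.fwd (nat_lit 32768) (Steps.bwd (nat_lit 5) (Steps.bwd (nat_lit 8) (Steps.fwd (nat_lit 73728) (Steps.bwd (nat_lit 10) (Steps.fwd (nat_lit 90112) (Steps.fwd (nat_lit 98304) (Steps.bwd (nat_lit 14) (Steps.fwd (nat_lit 24576) Steps.nil)))))))))) (nat_lit 182) (nat_lit 2),
  Rule.mk (nat_lit 1) (nat_lit 179) (Steps.bwd (nat_lit 3) (Steps.fwd (nat_lit 32768) (Steps.bwd (nat_lit 1) (Steps.fwd (nat_lit 24576) (Steps.fwd (nat_lit 8192) (Steps.fwd (nat_lit 24576) (Steps.fwd (nat_lit 8192) (Steps.bwd (nat_lit 3) (Steps.fwd (nat_lit 8192) (Steps.fwd (nat_lit 16384) (Steps.fwd (nat_lit 139264) Steps.nil))))))))))) (nat_lit 192) (nat_lit 2),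
  Rule.mk (nat_lit 19) (nat_lit 179) (Steps.bwd (nat_lit 3) (Steps.fwd (nat_lit 32768) (Steps.bwd (nat_lit 1) (Steps.fwd (nat_lit 24576) (Steps.fwd (nat_lit 8192) (Steps.fwd (nat_lit 24576) (Steps.fwd (nat_lit 8192) (Steps.bwd (nat_lit 3) (Steps.fwd (nat_lit 8192) (Steps.fwd (nat_lit 16384) (Steps.bwd (nat_lit 1) Steps.nil))))))))))) (nat_lit 195) (nat_lit 0),
  Rule.mk (nat_lit 3) (nat_lit 599) (Steps.bwd (nat_lit 1) (Steps.bwd (nat_lit 3) (Steps.fwd (nat_lit 8192) (Steps.bwd (nat_lit 2) (Steps.fwd (nat_lit 8192) (Steps.bwd (nat_lit 2) (Steps.bwd (nat_lit 1) (Steps.fwd (nat_lit 16384) (Steps.fwd (nat_lit 8192) (Steps.bwd (nat_lit 3) (Steps.fwd (nat_lit 8192) (Steps.fwd (nat_lit 24576) (Steps.fwd (nat_lit 8192) (Steps.fwd (nat_lit 24576) (Steps.bwd (nat_lit 1) (Steps.bwd (nat_lit 3) (Steps.bwd (nat_lit 1) (Steps.bwd (nat_lit 3) (Steps.bwd (nat_lit 1) (Steps.fwd (nat_lit 24576) (Steps.fwd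 (nat_lit 8192) (Steps.fwd (nat_lit 24576) (Steps.fwd (nat_lit 8192) (Steps.fwd (nat_lit 16384) (Steps.fwd (nat_lit 8192) (Steps.bwd (nat_lit 3) (Steps.bwd (nat_lit 1) (Steps.fwd (nat_lit 24576) (Steps.fwd (nat_lit 8192) (Steps.fwd (nat_lit 24576) (Steps.bwd (nat_lit 1) (Steps.fwd (nat_lit 16384) (Steps.bwd (nat_lit 1) (Steps.bwd (nat_lit 3) (Steps.bwd (nat_lit 1) (Steps.bwd (nat_lit 2) (Steps.bwd (nat_lit 1) (Steps.bwd (nat_lit 2) (Steps.bwd (nat_lit 1) Steps.nil))))))))))))))))))))))))))))))))))))))) (nat_lit 8) (nat_lit 2),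
  Rule.mk (nat_lit 16) (nat_lit 179) (Steps.bwd (nat_lit 1) (Steps.bwd (nat_lit 3) (Steps.bwd (nat_lit 1) (Steps.bwd (nat_lit 3) (Steps.fwd (nat_lit 8192) (Steps.fwd (nat_lit 16384) (Steps.bwd (nat_lit 1) (Steps.bwd (nat_lit 2) (Steps.bwd (nat_lit 4) (Steps.bwd (nat_lit 1) (Steps.fwd (nat_lit 24576) Steps.nil))))))))))) (nat_lit 190) (nat_lit 1),
  Rule.mk (nat_lit 18) (nat_lit 179) (Steps.fwd (nat_lit 8192) (Steps.bwd (nat_lit 3) (Steps.bwd (nat_lit 4) (Steps.fwd (nat_lit 8192) (Steps.bwd (nat_lit 2) (Steps.fwd (nat_lit 8192) (Steps.fwd (nat_lit 24576) (Steps.fwd (nat_lit 8192) (Steps.fwd (nat_lit 16384) (Steps.bwd (nat_lit 1) (Steps.bwd (nat_lit 3) Steps.nil))))))))))) (nat_lit 192) (nat_lit 1),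
  Rule.mk (nat_lit 0) (nat_lit 194) (Steps.bwd (nat_lit 18) (Steps.fwd (nat_lit 8192) (Steps.fwd (nat_lit 16384) (Steps.fwd (nat_lit 32768) (Steps.bwd (nat_lit 1) (Steps.bwd (nat_lit 2) (Steps.bwd (nat_lit 1) (Steps.bwd (nat_lit 2) (Steps.bwd (nat_lit 1) (Steps.bwd (nat_lit 3) (Steps.bwd (nat_lit 1) (Steps.bwd (nat_lit 3) Steps.nil)))))))))))) (nat_lit 192) (nat_lit 0),
  Rule.mk (nat_lit 20) (nat_lit 179) (Steps.bwd (nat_lit 1) (Steps.bwd (nat_lit 2) (Steps.bwd (nat_lit 1) (Steps.bwd (nat_lit 2) (Steps.bwd (nat_lit 1) (Steps.bwd (nat_lit 3) (Steps.bwd (nat_lit 1) (Steps.bwd (nat_lit 3) (Steps.fwd (nat_lit 8192) (Steps.bwd (nat_lit 4) (Steps.fwd (nat_lit 24576) Steps.nil))))))))))) (nat_lit 194) (nat_lit 1),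
  Rule.mk (nat_lit 19) (nat_lit 179) (Steps.bwd (nat_lit 3) (Steps.bwd (nat_lit 4) (Steps.fwd (nat_lit 8192) (Steps.bwd (nat_lit 2) (Steps.fwd (nat_lit 8192) (Steps.fwd (nat_lit 24576) (Steps.fwd (nat_lit 8192) (Steps.fwd (nat_lit 16384) (Steps.bwd (nat_lit 1) (Steps.bwd (nat_lit 3) (Steps.bwd (nat_lit 1) Steps.nil))))))))))) (nat_lit 195) (nat_lit 0),
  Rule.mk (nat_lit 0) (nat_lit 194) (Steps.bwd (nat_lit 1) (Steps.fwd (nat_lit 24576) (Steps.fwd (nat_lit 8192) (Steps.fwd (nat_lit 24576) (Steps.fwd (nat_lit 8192) (Steps.fwd (nat_lit 16384) (Steps.fwd (nat_lit 8192) (Steps.fwd (nat_lit 16384) (Steps.fwd (nat_lit 8192) (Steps.bwd (nat_lit 4) (Steps.bwd (nat_lit 2) (Steps.fwd (nat_lit 155648) Steps.nil)))))))))))) (nat_lit 194) (nat_lit 1),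
  Rule.mk (nat_lit 15) (nat_lit 179) (Steps.bwd (nat_lit 3) (Steps.bwd (nat_lit 1) (Steps.bwd (nat_lit 4) (Steps.fwd (nat_lit 16384) (Steps.bwd (nat_lit 1) (Steps.bwd (nat_lit 2) (Steps.fwd (nat_lit 8192) (Steps.bwd (nat_lit 2) (Steps.fwd (nat_lit 8192) (Steps.fwd (nat_lit 24576) (Steps.fwd (nat_lit 8192) Steps.nil))))))))))) (nat_lit 191) (nat_lit 0),
  Rule.mk (nat_lit 0) (nat_lit 194) (Steps.bwd (nat_lit 18) (Steps.fwd (nat_lit 8192) (Steps.bwd (nat_lit 3) (Steps.bwd (nat_lit 4) (Steps.fwd (nat_lit 8192) (Steps.bwd (nat_lit 2) (Steps.fwd (nat_lit 8192) (Steps.fwd (nat_lit 24576) (Steps.fwd (nat_lit 8192) (Steps.bwd (nat_lit 3) (Steps.bwd (nat_lit 1) (Steps.fwd (nat_lit 16384) Steps.nil)))))))))))) (nat_lit 192) (nat_lit 0),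
  Rule.mk (nat_lit 17) (nat_lit 179) (Steps.bwd (nat_lit 2) (Steps.fwd (nat_lit 8192) (Steps.fwd (nat_lit 24576) (Steps.fwd (nat_lit 8192) (Steps.bwd (nat_lit 3) (Steps.bwd (nat_lit 1) (Steps.fwd (nat_lit 16384) (Steps.bwd (nat_lit 1) (Steps.bwd (nat_lit 4) (Steps.bwd (nat_lit 2) (Steps.fwd (nat_lit 8192) Steps.nil))))))))))) (nat_lit 193) (nat_lit 0),
  Rule.mk (nat_lit 0) (nat_lit 194) (Steps.bwd (nat_lit 3) (Steps.bwd (nat_lit 4) (Steps.fwd (nat_lit 8192) (Steps.bwd (nat_lit 2) (Steps.fwd (nat_lit 8192) (Steps.fwd (nat_lit 24576) (Steps.fwd (nat_lit 8192) (Steps.bwd (nat_lit 3) (Steps.bwd (nat_lit 1) (Steps.fwd (nat_lit 16384) (Steps.bwd (nat_lit 1) (Steps.fwd (nat_lit 163840) Steps.nil)))))))))))) (nat_lit 195) (nat_lit 0),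
  Rule.mk (nat_lit 0) (nat_lit 194) (Steps.bwd (nat_lit 16) (Steps.bwd (nat_lit 1) (Steps.fwd (nat_lit 16384) (Steps.fwd (nat_lit 8192) (Steps.fwd (nat_lit 16384) (Steps.fwd (nat_lit 8192) (Steps.bwd (nat_lit 3) (Steps.fwd (nat_lit 8192) (Steps.fwd (nat_lit 24576) (Steps.bwd (nat_lit 4) (Steps.bwd (nat_lit 1) (Steps.fwd (nat_lit 24576) Steps.nil)))))))))))) (nat_lit 190) (nat_lit 0),
  Rule.mk (nat_lit 16) (nat_lit 179) (Steps.fwd (nat_lit 8192) (Steps.bwd (nat_lit 3) (Steps.bwd (nat_lit 1) (Steps.fwd (nat_lit 16384) (Steps.bwd (nat_lit 1) (Steps.fwd (nat_lit 16384) (Steps.fwd (nat_lit 8192) (Steps.bwd (nat_lit 2) (Steps.bwd (nat_lit 4) (Steps.bwd (nat_lit 1) (Steps.fwd (nat_lit 24576) Steps.nil))))))))))) (nat_lit 190) (nat_lit 1),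
  Rule.mk (nat_lit 15) (nat_lit 179) (Steps.bwd (nat_lit 3) (Steps.bwd (nat_lit 1) (Steps.fwd (nat_lit 32768) (Steps.bwd (nat_lit 3) (Steps.fwd (nat_lit 8192) (Steps.bwd (nat_lit 2) (Steps.bwd (nat_lit 1) (Steps.fwd (nat_lit 24576) (Steps.fwd (nat_lit 8192) (Steps.bwd (nat_lit 2) (Steps.fwd (nat_lit 8192) Steps.nil))))))))))) (nat_lit 191) (nat_lit 0),
  Rule.mk (nat_lit 15) (nat_lit 179) (Steps.fwd (nat_lit 16384) (Steps.fwd (nat_lit 8192) (Steps.bwd (nat_lit 4) (Steps.bwd (nat_lit 3) (Steps.fwd (nat_lit 8192) (Steps.fwd (nat_lit 24576) (Steps.fwd (nat_lit 8192) (Steps.fwd (nat_lit 24576) (Steps.bwd (nat_lit 1) (Steps.fwd (nat_lit 24576) (Steps.fwd (nat_lit 8192) Steps.nil))))))))))) (nat_lit 191) (nat_lit 0),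
  Rule.mk (nat_lit 5) (nat_lit 104) (Steps.bwd (nat_lit 2) (Steps.bwd (nat_lit 7) (Steps.bwd (nat_lit 3) (Steps.bwd (nat_lit 14) (Steps.bwd (nat_lit 13) (Steps.bwd (nat_lit 7) Steps.nil)))))) (nat_lit 175) (nat_lit 4),
  Rule.mk (nat_lit 6) (nat_lit 104) (Steps.bwd (nat_lit 2) (Steps.fwd (nat_lit 81920) (Steps.bwd (nat_lit 3) (Steps.fwd (nat_lit 114688) (Steps.fwd (nat_lit 98304) (Steps.bwd (nat_lit 11) Steps.nil)))))) (nat_lit 181) (nat_lit 4),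
  Rule.mk (nat_lit 2) (nat_lit 179) (Steps.bwd (nat_lit 16) (Steps.bwd (nat_lit 1) (Steps.bwd (nat_lit 3) (Steps.fwd (nat_lit 8192) (Steps.fwd (nat_lit 16384) (Steps.fwd (nat_lit 8192) (Steps.bwd (nat_lit 3) (Steps.bwd (nat_lit 1) (Steps.fwd (nat_lit 24576) (Steps.bwd (nat_lit 4) (Steps.fwd (nat_lit 8192) Steps.nil))))))))))) (nat_lit 190) (nat_lit 0),
  Rule.mk (nat_lit 9) (nat_lit 134) (Steps.bwd (nat_lit 3) (Steps.bwd (nat_lit 4) (Steps.bwd (nat_lit 5) (Steps.fwd (nat_lit 65536) (Steps.fwd (nat_lit 73728) (Steps.bwd (nat_lit 11) (Steps.bwd (nat_lit 14) (Steps.bwd (nat_lit 2) Steps.nil)))))))) (nat_lit 178) (nat_lit 2),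
  Rule.mk (nat_lit 13) (nat_lit 134) (Steps.bwd (nat_lit 3) (Steps.fwd (nat_lit 114688) (Steps.bwd (nat_lit 13) (Steps.bwd (nat_lit 12) (Steps.bwd (nat_lit 11) (Steps.fwd (nat_lit 81920) (Steps.fwd (nat_lit 49152) (Steps.bwd (nat_lit 2) Steps.nil)))))))) (nat_lit 187) (nat_lit 8),
  Rule.mk (nat_lit 11) (nat_lit 164) (Steps.bwd (nat_lit 3) (Steps.fwd (nat_lit 32768) (Steps.bwd (nat_lit 5) (Steps.bwd (nat_lit 8) (Steps.bwd (nat_lit 9) (Steps.fwd (nat_lit 81920) (Steps.fwd (nat_lit 90112) (Steps.fwd (nat_lit 98304) (Steps.bwd (nat_lit 14) (Steps.bwd (nat_lit 2) Steps.nil)))))))))) (nat_lit 182) (nat_lit 2),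
  Rule.mk (nat_lit 17) (nat_lit 179) (Steps.bwd (nat_lit 2) (Steps.bwd (nat_lit 1) (Steps.fwd (nat_lit 24576) (Steps.bwd (nat_lit 1) (Steps.fwd (nat_lit 16384) (Steps.bwd (nat_lit 1) (Steps.fwd (nat_lit 16384) (Steps.fwd (nat_lit 8192) (Steps.fwd (nat_lit 32768) (Steps.bwd (nat_lit 2) (Steps.bwd (nat_lit 1) Steps.nil))))))))))) (nat_lit 193) (nat_lit 0),
  Rule.mk (nat_lit 1) (nat_lit 839) (Steps.bwd (nat_lit 2) (Steps.bwd (nat_lit 1) (Steps.fwd (nat_lit 16384) (Steps.bwd (nat_lit 1) (Steps.fwd (nat_lit 24576) (Steps.fwd (nat_lit 8192) (Steps.bwd (nat_lit 2) (Steps.fwd (nat_lit 8192) (Steps.bwd (nat_lit 3) (Steps.bwd (nat_lit 1) (Steps.bwd (nat_lit 2) (Steps.bwd (nat_lit 1) (Steps.bwd (nat_lit 3) (Steps.bwd (nat_lit 1) (Steps.fwd (nat_lit 24576) (Steps.fwd (nat_lit 8192) (Steps.bwd (nat_lit 3) (Steps.fwd (nat_lit 8192) (Steps.bwd (nat_lit 2) (Steps.bwd (nat_lit 1) (Steps.fwd (nat_lit 24576)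 (Steps.bwd (nat_lit 1) (Steps.bwd (nat_lit 3) (Steps.fwd (nat_lit 8192) (Steps.fwd (nat_lit 24576) (Steps.fwd (nat_lit 8192) (Steps.fwd (nat_lit 16384) (Steps.fwd (nat_lit 8192) (Steps.fwd (nat_lit 24576) (Steps.bwd (nat_lit 1) (Steps.fwd (nat_lit 16384) (Steps.bwd (nat_lit 1) (Steps.bwd (nat_lit 2) (Steps.fwd (nat_lit 8192) (Steps.fwd (nat_lit 24576) (Steps.fwd (nat_lit 8192) (Steps.bwd (nat_lit 3) (Steps.fwd (nat_lit 8192) (Steps.bwd (nat_lit 2) (Steps.bwd (nat_lit 1) (Steps.bwd (nat_lit 3) (Steps.bwd (nat_lit 1) (Steps.bwd (nat_lit 2) (Steps.bwd (nat_lit 1) (Steps.bwd (nat_lit 3) (Steps.fwd (nat_lit 8192) (Steps.bwd (nat_lit 2) (Steps.bwd (nat_lit 1) (Steps.bwd (nat_lit 2) (Steps.fwd (nat_lit 8192) (Steps.fwd (nat_lit 16384) (Steps.bwd (nat_lit 1) (Steps.fwd (nat_lit 24576) (Steps.fwd (nat_lit 8192) (Steps.fwd (nat_lit 16384) Steps.nil)))))))))))))))))))))))))))))))))))))))))))))))))))))))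 (nat_lit 10) (nat_lit 11),
  Rule.mk (nat_lit 10) (nat_lit 134) (Steps.fwd (nat_lit 8192) (Steps.bwd (nat_lit 4) (Steps.fwd (nat_lit 40960) (Steps.bwd (nat_lit 8) (Steps.bwd (nat_lit 9) (Steps.bwd (nat_lit 11) (Steps.fwd (nat_lit 114688) (Steps.bwd (nat_lit 1) Steps.nil)))))))) (nat_lit 158) (nat_lit 2)]
noncomputable def R_81 : List (Rule) := [Rule.mk (nat_lit 12) (nat_lit 164) (Steps.bwd (nat_lit 1) (Steps.bwd (nat_lit 4) (Steps.fwd (nat_lit 40960) (Steps.bwd (nat_lit 8) (Steps.bwd (nat_lit 9) (Steps.fwd (nat_lit 81920) (Steps.fwd (nat_lit 90112) (Steps.fwd (nat_lit 98304) (Steps.fwd (nat_lit 114688) (Steps.bwd (nat_lit 1) Steps.nil)))))))))) (nat_lit 162) (nat_lit 2),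
  Rule.mk (nat_lit 0) (nat_lit 194) (Steps.bwd (nat_lit 16) (Steps.fwd (nat_lit 8192) (Steps.fwd (nat_lit 16384) (Steps.bwd (nat_lit 1) (Steps.fwd (nat_lit 16384) (Steps.fwd (nat_lit 8192) (Steps.fwd (nat_lit 16384) (Steps.bwd (nat_lit 1) (Steps.bwd (nat_lit 2) (Steps.bwd (nat_lit 4) (Steps.fwd (nat_lit 8192) (Steps.fwd (nat_lit 24576) Steps.nil)))))))))))) (nat_lit 190) (nat_lit 0),
  Rule.mk (nat_lit 0) (nat_lit 194) (Steps.bwd (nat_lit 15) (Steps.bwd (nat_lit 3) (Steps.fwd (nat_lit 8192) (Steps.fwd (nat_lit 32768) (Steps.bwd (nat_lit 3) (Steps.fwd (nat_lit 8192) (Steps.fwd (nat_lit 24576) (Steps.fwd (nat_lit 8192) (Steps.bwd (nat_lit 2) (Steps.bwd (nat_lit 1) (Steps.bwd (nat_lit 2) (Steps.fwd (nat_lit 8192) Steps.nil)))))))))))) (nat_lit 191) (nat_lit 11),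
  Rule.mk (nat_lit 15) (nat_lit 179) (Steps.bwd (nat_lit 3) (Steps.bwd (nat_lit 1) (Steps.fwd (nat_lit 32768) (Steps.bwd (nat_lit 3) (Steps.bwd (nat_lit 1) (Steps.bwd (nat_lit 2) (Steps.fwd (nat_lit 8192) (Steps.bwd (nat_lit 2) (Steps.fwd (nat_lit 8192) (Steps.bwd (nat_lit 2) (Steps.bwd (nat_lit 1) Steps.nil))))))))))) (nat_lit 191) (nat_lit 0),
  Rule.mk (nat_lit 15) (nat_lit 179) (Steps.fwd (nat_lit 16384) (Steps.fwd (nat_lit 8192) (Steps.bwd (nat_lit 4) (Steps.bwd (nat_lit 3) (Steps.fwd (nat_lit 8192) (Steps.bwd (nat_lit 2) (Steps.bwd (nat_lit 1) (Steps.bwd (nat_lit 2) (Steps.bwd (nat_lit 1) (Steps.fwd (nat_lit 24576) (Steps.bwd (nat_lit 1) Steps.nil))))))))))) (nat_lit 191) (nat_lit 0),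
  Rule.mk (nat_lit 0) (nat_lit 194) (Steps.bwd (nat_lit 15) (Steps.bwd (nat_lit 3) (Steps.fwd (nat_lit 8192) (Steps.fwd (nat_lit 32768) (Steps.fwd (nat_lit 16384) (Steps.bwd (nat_lit 1) (Steps.bwd (nat_lit 2) (Steps.bwd (nat_lit 1) (Steps.fwd (nat_lit 24576) (Steps.bwd (nat_lit 1) (Steps.bwd (nat_lit 2) (Steps.fwd (nat_lit 8192) Steps.nil)))))))))))) (nat_lit 191) (nat_lit 11),
  Rule.mk (nat_lit 18) (nat_lit 179) (Steps.fwd (nat_lit 8192) (Steps.fwd (nat_lit 16384) (Steps.fwd (nat_lit 32768) (Steps.fwd (nat_lit 8192) (Steps.fwd (nat_lit 24576) (Steps.bwd (nat_lit 1) (Steps.fwd (nat_lit 24576) (Steps.fwd (nat_lit 8192) (Steps.fwd (nat_lit 16384) (Steps.bwd (nat_lit 1) (Steps.fwd (nat_lit 16384) Steps.nil))))))))))) (nat_lit 192) (nat_lit 1),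
  Rule.mk (nat_lit 18) (nat_lit 179) (Steps.fwd (nat_lit 8192) (Steps.fwd (nat_lit 16384) (Steps.bwd (nat_lit 4) (Steps.fwd (nat_lit 8192) (Steps.bwd (nat_lit 2) (Steps.bwd (nat_lit 1) (Steps.bwd (nat_lit 2) (Steps.bwd (nat_lit 1) (Steps.fwd (nat_lit 16384) (Steps.bwd (nat_lit 1) (Steps.bwd (nat_lit 3) Steps.nil))))))))))) (nat_lit 192) (nat_lit 1),
  Rule.mk (nat_lit 0) (nat_lit 194) (Steps.bwd (nat_lit 2) (Steps.fwd (nat_lit 8192) (Steps.bwd (nat_lit 2) (Steps.fwd (nat_lit 8192) (Steps.bwd (nat_lit 3) (Steps.fwd (nat_lit 8192) (Steps.fwd (nat_lit 16384) (Steps.fwd (nat_lit 8192) (Steps.bwd (nat_lit 4) (Steps.fwd (nat_lit 24576) (Steps.bwd (nat_lit 1) (Steps.fwd (nat_lit 147456) Steps.nil)))))))))))) (nat_lit 193) (nat_lit 0),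
  Rule.mk (nat_lit 17) (nat_lit 179) (Steps.fwd (nat_lit 24576) (Steps.bwd (nat_lit 1) (Steps.bwd (nat_lit 2) (Steps.fwd (nat_lit 8192) (Steps.fwd (nat_lit 16384) (Steps.fwd (nat_lit 8192) (Steps.fwd (nat_lit 16384) (Steps.bwd (nat_lit 1) (Steps.fwd (nat_lit 32768) (Steps.bwd (nat_lit 2) (Steps.bwd (nat_lit 1) Steps.nil))))))))))) (nat_lit 193) (nat_lit 0),
  Rule.mk (nat_lit 17) (nat_lit 179) (Steps.fwd (nat_lit 24576) (Steps.bwd (nat_lit 1) (Steps.fwd (nat_lit 24576) (Steps.fwd (nat_lit 8192) (Steps.fwd (nat_lit 16384) (Steps.bwd (nat_lit 1) (Steps.fwd (nat_lit 16384) (Steps.fwd (nat_lit 8192) (Steps.fwd (nat_lit 32768) (Steps.fwd (nat_lit 24576) (Steps.bwd (nat_lit 1) Steps.nil))))))))))) (nat_lit 193) (nat_lit 0),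
  Rule.mk (nat_lit 17) (nat_lit 179) (Steps.bwd (nat_lit 2) (Steps.fwd (nat_lit 8192) (Steps.bwd (nat_lit 2) (Steps.bwd (nat_lit 1) (Steps.fwd (nat_lit 16384) (Steps.fwd (nat_lit 8192) (Steps.fwd (nat_lit 16384) (Steps.bwd (nat_lit 1) (Steps.bwd (nat_lit 4) (Steps.bwd (nat_lit 2) (Steps.fwd (nat_lit 8192) Steps.nil))))))))))) (nat_lit 193) (nat_lit 0),
  Rule.mk (nat_lit 17) (nat_lit 179) (Steps.bwd (nat_lit 2) (Steps.bwd (nat_lit 1) (Steps.bwd (nat_lit 2) (Steps.bwd (nat_lit 1) (Steps.fwd (nat_lit 16384) (Steps.bwd (nat_lit 1) (Steps.bwd (nat_lit 3) (Steps.fwd (nat_lit 8192) (Steps.bwd (nat_lit 4) (Steps.bwd (nat_lit 2) (Steps.bwd (nat_lit 1) Steps.nil))))))))))) (nat_lit 193) (nat_lit 0),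
  Rule.mk (nat_lit 1) (nat_lit 179) (Steps.fwd (nat_lit 24576) (Steps.bwd (nat_lit 1) (Steps.bwd (nat_lit 2) (Steps.fwd (nat_lit 8192) (Steps.fwd (nat_lit 16384) (Steps.fwd (nat_lit 8192) (Steps.fwd (nat_lit 16384) (Steps.bwd (nat_lit 1) (Steps.fwd (nat_lit 32768) (Steps.bwd (nat_lit 2) (Steps.fwd (nat_lit 155648) Steps.nil))))))))))) (nat_lit 194) (nat_lit 2),
  Rule.mk (nat_lit 0) (nat_lit 194) (Steps.bwd (nat_lit 20) (Steps.fwd (nat_lit 8192) (Steps.fwd (nat_lit 24576) (Steps.bwd (nat_lit 1) (Steps.fwd (nat_lit 24576) (Steps.fwd (nat_lit 8192) (Steps.fwd (nat_lit 16384) (Steps.bwd (nat_lit 1) (Steps.fwd (nat_lit 16384) (Steps.fwd (nat_lit 8192) (Steps.fwd (nat_lit 32768) (Steps.fwd (nat_lit 24576) Steps.nil)))))))))))) (nat_lit 194) (nat_lit 0),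
  Rule.mk (nat_lit 0) (nat_lit 194) (Steps.fwd (nat_lit 8192) (Steps.bwd (nat_lit 2) (Steps.fwd (nat_lit 8192) (Steps.bwd (nat_lit 2) (Steps.bwd (nat_lit 1) (Steps.fwd (nat_lit 16384) (Steps.fwd (nat_lit 8192) (Steps.fwd (nat_lit 16384) (Steps.bwd (nat_lit 1) (Steps.bwd (nat_lit 4) (Steps.bwd (nat_lit 2) (Steps.fwd (nat_lit 155648) Steps.nil)))))))))))) (nat_lit 194) (nat_lit 1),
  Rule.mk (nat_lit 20) (nat_lit 179) (Steps.bwd (nat_lit 1) (Steps.bwd (nat_lit 2) (Steps.bwd (nat_lit 1) (Steps.fwd (nat_lit 24576) (Steps.bwd (nat_lit 1) (Steps.fwd (nat_lit 16384) (Steps.bwd (nat_lit 1) (Steps.bwd (nat_lit 3) (Steps.fwd (nat_lit 8192) (Steps.fwd (nat_lit 32768) (Steps.bwd (nat_lit 2) Steps.nil))))))))))) (nat_lit 194) (nat_lit 1),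
  Rule.mk (nat_lit 0) (nat_lit 194) (Steps.bwd (nat_lit 19) (Steps.fwd (nat_lit 16384) (Steps.fwd (nat_lit 32768) (Steps.fwd (nat_lit 8192) (Steps.fwd (nat_lit 24576) (Steps.bwd (nat_lit 1) (Steps.fwd (nat_lit 24576) (Steps.fwd (nat_lit 8192) (Steps.fwd (nat_lit 16384) (Steps.bwd (nat_lit 1) (Steps.fwd (nat_lit 16384) (Steps.fwd (nat_lit 8192) Steps.nil)))))))))))) (nat_lit 195) (nat_lit 11),
  Rule.mk (nat_lit 19) (nat_lit 179) (Steps.fwd (nat_lit 16384) (Steps.bwd (nat_lit 4) (Steps.fwd (nat_lit 8192) (Steps.bwd (nat_lit 2) (Steps.bwd (nat_lit 1) (Steps.bwd (nat_lit 2) (Steps.bwd (nat_lit 1) (Steps.fwd (nat_lit 16384) (Steps.bwd (nat_lit 1) (Steps.bwd (nat_lit 3) (Steps.fwd (nat_lit 8192) Steps.nil))))))))))) (nat_lit 195) (nat_lit 0),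
  Rule.mk (nat_lit 19) (nat_lit 179) (Steps.bwd (nat_lit 3) (Steps.fwd (nat_lit 32768) (Steps.bwd (nat_lit 1) (Steps.bwd (nat_lit 2) (Steps.bwd (nat_lit 1) (Steps.fwd (nat_lit 24576) (Steps.bwd (nat_lit 1) (Steps.fwd (nat_lit 16384) (Steps.bwd (nat_lit 1) (Steps.bwd (nat_lit 3) (Steps.fwd (nat_lit 8192) Steps.nil))))))))))) (nat_lit 195) (nat_lit 0),
  Rule.mk (nat_lit 14) (nat_lit 104) (Steps.bwd (nat_lit 1) (Steps.bwd (nat_lit 8) (Steps.fwd (nat_lit 8192) (Steps.fwd (nat_lit 40960) (Steps.fwd (nat_lit 57344) (Steps.bwd (nat_lit 13) Steps.nil)))))) (nat_lit 154) (nat_lit 0),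
  Rule.mk (nat_lit 6) (nat_lit 134) (Steps.bwd (nat_lit 1) (Steps.bwd (nat_lit 14) (Steps.fwd (nat_lit 8192) (Steps.fwd (nat_lit 114688) (Steps.bwd (nat_lit 13) (Steps.bwd (nat_lit 12) (Steps.fwd (nat_lit 90112) (Steps.bwd (nat_lit 10) Steps.nil)))))))) (nat_lit 167) (nat_lit 6),
  Rule.mk (nat_lit 16) (nat_lit 179) (Steps.fwd (nat_lit 8192) (Steps.bwd (nat_lit 3) (Steps.bwd (nat_lit 1) (Steps.fwd (nat_lit 16384) (Steps.bwd (nat_lit 1) (Steps.fwd (nat_lit 16384) (Steps.bwd (nat_lit 1) (Steps.bwd (nat_lit 2) (Steps.bwd (nat_lit 4) (Steps.bwd (nat_lit 1) (Steps.fwd (nat_lit 24576) Steps.nil))))))))))) (nat_lit 190) (nat_lit 1),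
  Rule.mk (nat_lit 16) (nat_lit 179) (Steps.bwd (nat_lit 1) (Steps.bwd (nat_lit 3) (Steps.bwd (nat_lit 1) (Steps.bwd (nat_lit 3) (Steps.fwd (nat_lit 8192) (Steps.bwd (nat_lit 3) (Steps.bwd (nat_lit 1) (Steps.fwd (nat_lit 24576) (Steps.fwd (nat_lit 32768) (Steps.fwd (nat_lit 8192) (Steps.fwd (nat_lit 24576) Steps.nil))))))))))) (nat_lit 190) (nat_lit 1),
  Rule.mk (nat_lit 0) (nat_lit 194) (Steps.bwd (nat_lit 18) (Steps.bwd (nat_lit 1) (Steps.bwd (nat_lit 3) (Steps.bwd (nat_lit 4) (Steps.bwd (nat_lit 1) (Steps.fwd (nat_lit 24576) (Steps.bwd (nat_lit 1) (Steps.bwd (nat_lit 2) (Steps.fwd (nat_lit 8192) (Steps.fwd (nat_lit 16384) (Steps.fwd (nat_lit 8192) (Steps.fwd (nat_lit 16384) Steps.nil)))))))))))) (nat_lit 192) (nat_lit 0),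
  Rule.mk (nat_lit 19) (nat_lit 179) (Steps.bwd (nat_lit 3) (Steps.bwd (nat_lit 4) (Steps.bwd (nat_lit 1) (Steps.fwd (nat_lit 24576) (Steps.bwd (nat_lit 1) (Steps.bwd (nat_lit 2) (Steps.fwd (nat_lit 8192) (Steps.fwd (nat_lit 16384) (Steps.fwd (nat_lit 8192) (Steps.fwd (nat_lit 16384) (Steps.bwd (nat_lit 1) Steps.nil))))))))))) (nat_lit 195) (nat_lit 0),
  Rule.mk (nat_lit 2) (nat_lit 539) (Steps.bwd (nat_lit 1) (Steps.bwd (nat_lit 3) (Steps.bwd (nat_lit 1) (Steps.bwd (nat_lit 3) (Steps.fwd (nat_lit 8192) (Steps.bwd (nat_lit 2) (Steps.fwd (nat_lit 8192) (Steps.bwd (nat_lit 3) (Steps.bwd (nat_lit 1) (Steps.fwd (nat_lit 16384) (Steps.bwd (nat_lit 1) (Steps.bwd (nat_lit 2) (Steps.bwd (nat_lit 1) (Steps.bwd (nat_lit 2) (Steps.fwd (nat_lit 8192) (Steps.bwd (nat_lit 3) (Steps.fwd (nat_lit 8192) (Steps.bwd (nat_lit 2) (Steps.bwd (nat_lit 1) (Steps.fwd (nat_lit 24576) (Steps.bwd (nat_lit 1) (Steps.fwd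 (nat_lit 16384) (Steps.bwd (nat_lit 1) (Steps.fwd (nat_lit 24576) (Steps.bwd (nat_lit 1) (Steps.fwd (nat_lit 24576) (Steps.bwd (nat_lit 1) (Steps.bwd (nat_lit 3) (Steps.bwd (nat_lit 1) (Steps.bwd (nat_lit 2) (Steps.fwd (nat_lit 8192) (Steps.fwd (nat_lit 16384) (Steps.fwd (nat_lit 8192) (Steps.bwd (nat_lit 3) (Steps.fwd (nat_lit 8192) Steps.nil))))))))))))))))))))))))))))))))))) (nat_lit 12) (nat_lit 26),
  Rule.mk (nat_lit 3) (nat_lit 539) (Steps.bwd (nat_lit 1) (Steps.bwd (nat_lit 3) (Steps.bwd (nat_lit 1) (Steps.fwd (nat_lit 24576) (Steps.fwd (nat_lit 8192) (Steps.fwd (nat_lit 16384) (Steps.fwd (nat_lit 8192) (Steps.bwd (nat_lit 3) (Steps.fwd (nat_lit 8192) (Steps.bwd (nat_lit 2) (Steps.bwd (nat_lit 1) (Steps.bwd (nat_lit 3) (Steps.bwd (nat_lit 1) (Steps.fwd (nat_lit 16384) (Steps.bwd (nat_lit 1) (Steps.fwd (nat_lit 24576) (Steps.bwd (nat_lit 1) (Steps.bwd (nat_lit 2) (Steps.bwd (nat_lit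 1) (Steps.fwd (nat_lit 16384) (Steps.fwd (nat_lit 8192) (Steps.fwd (nat_lit 24576) (Steps.bwd (nat_lit 1) (Steps.bwd (nat_lit 2) (Steps.fwd (nat_lit 8192) (Steps.bwd (nat_lit 3) (Steps.bwd (nat_lit 1) (Steps.bwd (nat_lit 2) (Steps.bwd (nat_lit 1) (Steps.fwd (nat_lit 24576) (Steps.bwd (nat_lit 1) (Steps.fwd (nat_lit 16384) (Steps.bwd (nat_lit 1) (Steps.fwd (nat_lit 24576) (Steps.bwd (nat_lit 1) Steps.nil))))))))))))))))))))))))))))))))))) (nat_lit 12) (nat_lit 22),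
  Rule.mk (nat_lit 16) (nat_lit 179) (Steps.bwd (nat_lit 1) (Steps.bwd (nat_lit 3) (Steps.bwd (nat_lit 1) (Steps.fwd (nat_lit 16384) (Steps.fwd (nat_lit 8192) (Steps.fwd (nat_lit 16384) (Steps.fwd (nat_lit 8192) (Steps.bwd (nat_lit 2) (Steps.bwd (nat_lit 4) (Steps.fwd (nat_lit 8192) (Steps.fwd (nat_lit 24576) Steps.nil))))))))))) (nat_lit 190) (nat_lit 1),
  Rule.mk (nat_lit 0) (nat_lit 194) (Steps.bwd (nat_lit 16) (Steps.bwd (nat_lit 1) (Steps.bwd (nat_lit 3) (Steps.bwd (nat_lit 1) (Steps.fwd (nat_lit 16384) (Steps.fwd (nat_lit 8192) (Steps.bwd (nat_lit 3) (Steps.fwd (nat_lit 8192) (Steps.fwd (nat_lit 24576) (Steps.bwd (nat_lit 4) (Steps.fwd (nat_lit 8192) (Steps.fwd (nat_lit 24576) Steps.nil)))))))))))) (nat_lit 190) (nat_lit 0),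
  Rule.mk (nat_lit 0) (nat_lit 194) (Steps.bwd (nat_lit 16) (Steps.bwd (nat_lit 1) (Steps.fwd (nat_lit 16384) (Steps.fwd (nat_lit 8192) (Steps.bwd (nat_lit 3) (Steps.fwd (nat_lit 8192) (Steps.fwd (nat_lit 16384) (Steps.bwd (nat_lit 1) (Steps.fwd (nat_lit 24576) (Steps.fwd (nat_lit 32768) (Steps.fwd (nat_lit 8192) (Steps.fwd (nat_lit 24576) Steps.nil)))))))))))) (nat_lit 190) (nat_lit 0),
  Rule.mk (nat_lit 16) (nat_lit 179) (Steps.fwd (nat_lit 8192) (Steps.bwd (nat_lit 3) (Steps.fwd (nat_lit 8192) (Steps.fwd (nat_lit 16384) (Steps.bwd (nat_lit 1) (Steps.fwd (nat_lit 16384) (Steps.bwd (nat_lit 1) (Steps.bwd (nat_lit 2) (Steps.fwd (nat_lit 32768) (Steps.bwd (nat_lit 1) (Steps.bwd (nat_lit 2) Steps.nil))))))))))) (nat_lit 190) (nat_lit 1),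
  Rule.mk (nat_lit 0) (nat_lit 194) (Steps.fwd (nat_lit 16384) (Steps.bwd (nat_lit 1) (Steps.bwd (nat_lit 4) (Steps.fwd (nat_lit 16384) (Steps.bwd (nat_lit 1) (Steps.fwd (nat_lit 24576) (Steps.fwd (nat_lit 8192) (Steps.fwd (nat_lit 24576) (Steps.fwd (nat_lit 8192) (Steps.fwd (nat_lit 24576) (Steps.fwd (nat_lit 8192) (Steps.fwd (nat_lit 131072) Steps.nil)))))))))))) (nat_lit 191) (nat_lit 0),
  Rule.mk (nat_lit 0) (nat_lit 194) (Steps.bwd (nat_lit 16) (Steps.fwd (nat_lit 8192) (Steps.bwd (nat_lit 3) (Steps.bwd (nat_lit 1) (Steps.bwd (nat_lit 3) (Steps.bwd (nat_lit 1) (Steps.bwd (nat_lit 3) (Steps.bwd (nat_lit 1) (Steps.fwd (nat_lit 24576) (Steps.fwd (nat_lit 32768) (Steps.bwd (nat_lit 1) (Steps.fwd (nat_lit 24576) Steps.nil)))))))))))) (nat_lit 190) (nat_lit 0),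
  Rule.mk (nat_lit 15) (nat_lit 179) (Steps.bwd (nat_lit 3) (Steps.fwd (nat_lit 8192) (Steps.fwd (nat_lit 32768) (Steps.bwd (nat_lit 3) (Steps.fwd (nat_lit 8192) (Steps.fwd (nat_lit 24576) (Steps.fwd (nat_lit 8192) (Steps.fwd (nat_lit 24576) (Steps.fwd (nat_lit 8192) (Steps.fwd (nat_lit 24576) (Steps.fwd (nat_lit 8192) Steps.nil))))))))))) (nat_lit 191) (nat_lit 0),
  Rule.mk (nat_lit 18) (nat_lit 179) (Steps.bwd (nat_lit 1) (Steps.bwd (nat_lit 3) (Steps.bwd (nat_lit 4) (Steps.bwd (nat_lit 1) (Steps.fwd (nat_lit 24576) (Steps.fwd (nat_lit 8192) (Steps.fwd (nat_lit 24576) (Steps.fwd (nat_lit 8192) (Steps.fwd (nat_lit 16384) (Steps.bwd (nat_lit 1) (Steps.fwd (nat_lit 16384) Steps.nil))))))))))) (nat_lit 192) (nat_lit 1),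
  Rule.mk (nat_lit 0) (nat_lit 194) (Steps.bwd (nat_lit 18) (Steps.fwd (nat_lit 8192) (Steps.fwd (nat_lit 16384) (Steps.bwd (nat_lit 4) (Steps.fwd (nat_lit 8192) (Steps.fwd (nat_lit 24576) (Steps.fwd (nat_lit 8192) (Steps.fwd (nat_lit 24576) (Steps.fwd (nat_lit 8192) (Steps.bwd (nat_lit 3) (Steps.fwd (nat_lit 8192) (Steps.fwd (nat_lit 16384) Steps.nil)))))))))))) (nat_lit 192) (nat_lit 0),
  Rule.mk (nat_lit 18) (nat_lit 179) (Steps.fwd (nat_lit 8192) (Steps.fwd (nat_lit 16384) (Steps.bwd (nat_lit 4) (Steps.fwd (nat_lit 8192) (Steps.fwd (nat_lit 24576) (Steps.fwd (nat_lit 8192) (Steps.fwd (nat_lit 24576) (Steps.fwd (nat_lit 8192) (Steps.bwd (nat_lit 3) (Steps.bwd (nat_lit 1) (Steps.bwd (nat_lit 3) Steps.nil))))))))))) (nat_lit 192) (nat_lit 1),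
  Rule.mk (nat_lit 18) (nat_lit 179) (Steps.fwd (nat_lit 8192) (Steps.fwd (nat_lit 16384) (Steps.fwd (nat_lit 32768) (Steps.fwd (nat_lit 8192) (Steps.bwd (nat_lit 2) (Steps.fwd (nat_lit 8192) (Steps.bwd (nat_lit 2) (Steps.fwd (nat_lit 8192) (Steps.bwd (nat_lit 3) (Steps.bwd (nat_lit 1) (Steps.fwd (nat_lit 16384) Steps.nil))))))))))) (nat_lit 192) (nat_lit 1),
  Rule.mk (nat_lit 2) (nat_lit 179) (Steps.fwd (nat_lit 8192) (Steps.bwd (nat_lit 2) (Steps.fwd (nat_lit 8192) (Steps.bwd (nat_lit 3) (Steps.fwd (nat_lit 8192) (Steps.fwd (nat_lit 16384) (Steps.bwd (nat_lit 1) (Steps.fwd (nat_lit 32768) (Steps.fwd (nat_lit 24576) (Steps.fwd (nat_lit 8192) (Steps.fwd (nat_lit 147456) Steps.nil))))))))))) (nat_lit 193) (nat_lit 1),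
  Rule.mk (nat_lit 17) (nat_lit 179) (Steps.fwd (nat_lit 24576) (Steps.fwd (nat_lit 8192) (Steps.fwd (nat_lit 24576) (Steps.fwd (nat_lit 8192) (Steps.bwd (nat_lit 3) (Steps.fwd (nat_lit 8192) (Steps.fwd (nat_lit 16384) (Steps.bwd (nat_lit 1) (Steps.fwd (nat_lit 32768) (Steps.fwd (nat_lit 24576) (Steps.fwd (nat_lit 8192) Steps.nil))))))))))) (nat_lit 193) (nat_lit 0),
  Rule.mk (nat_lit 1) (nat_lit 179) (Steps.bwd (nat_lit 2) (Steps.fwd (nat_lit 8192) (Steps.bwd (nat_lit 2) (Steps.fwd (nat_lit 8192) (Steps.bwd (nat_lit 3) (Steps.fwd (nat_lit 8192) (Steps.fwd (nat_lit 16384) (Steps.bwd (nat_lit 1) (Steps.fwd (nat_lit 32768) (Steps.fwd (nat_lit 24576) (Steps.fwd (nat_lit 155648) Steps.nil))))))))))) (nat_lit 194) (nat_lit 2),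
  Rule.mk (nat_lit 0) (nat_lit 194) (Steps.bwd (nat_lit 20) (Steps.fwd (nat_lit 8192) (Steps.fwd (nat_lit 24576) (Steps.fwd (nat_lit 8192) (Steps.fwd (nat_lit 24576) (Steps.fwd (nat_lit 8192) (Steps.bwd (nat_lit 3) (Steps.fwd (nat_lit 8192) (Steps.fwd (nat_lit 16384) (Steps.bwd (nat_lit 1) (Steps.fwd (nat_lit 32768) (Steps.fwd (nat_lit 24576) Steps.nil)))))))))))) (nat_lit 194) (nat_lit 0),
  Rule.mk (nat_lit 20) (nat_lit 179) (Steps.fwd (nat_lit 8192) (Steps.fwd (nat_lit 24576) (Steps.fwd (nat_lit 8192) (Steps.fwd (nat_lit 24576) (Steps.fwd (nat_lit 8192) (Steps.bwd (nat_lit 3) (Steps.bwd (nat_lit 1) (Steps.bwd (nat_lit 3) (Steps.bwd (nat_lit 1) (Steps.fwd (nat_lit 32768) (Steps.bwd (nat_lit 2) Steps.nil))))))))))) (nat_lit 194) (nat_lit 1),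
  Rule.mk (nat_lit 0) (nat_lit 194) (Steps.fwd (nat_lit 8192) (Steps.bwd (nat_lit 2) (Steps.fwd (nat_lit 8192) (Steps.bwd (nat_lit 2) (Steps.bwd (nat_lit 1) (Steps.bwd (nat_lit 3) (Steps.bwd (nat_lit 1) (Steps.bwd (nat_lit 3) (Steps.fwd (nat_lit 8192) (Steps.fwd (nat_lit 32768) (Steps.fwd (nat_lit 24576) (Steps.fwd (nat_lit 155648) Steps.nil)))))))))))) (nat_lit 194) (nat_lit 1),
  Rule.mk (nat_lit 0) (nat_lit 194) (Steps.bwd (nat_lit 19) (Steps.fwd (nat_lit 16384) (Steps.bwd (nat_lit 4) (Steps.fwd (nat_lit 8192) (Steps.fwd (nat_lit 24576) (Steps.fwd (nat_lit 8192) (Steps.fwd (nat_lit 24576) (Steps.fwd (nat_lit 8192) (Steps.bwd (nat_lit 3) (Steps.fwd (nat_lit 8192) (Steps.fwd (nat_lit 16384) (Steps.bwd (nat_lit 1) Steps.nil)))))))))))) (nat_lit 195) (nat_lit 11),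
  Rule.mk (nat_lit 0) (nat_lit 554) (Steps.fwd (nat_lit 24576) (Steps.bwd (nat_lit 1) (Steps.bwd (nat_lit 2) (Steps.bwd (nat_lit 1) (Steps.bwd (nat_lit 3) (Steps.fwd (nat_lit 8192) (Steps.bwd (nat_lit 2) (Steps.fwd (nat_lit 8192) (Steps.fwd (nat_lit 24576) (Steps.bwd (nat_lit 1) (Steps.fwd (nat_lit 16384) (Steps.bwd (nat_lit 1) (Steps.fwd (nat_lit 24576) (Steps.fwd (nat_lit 8192) (Steps.bwd (nat_lit 3) (Steps.bwd (nat_lit 1) (Steps.fwd (nat_lit 16384) (Steps.fwd (nat_lit 8192) (Steps.fwd (nat_lit 24576) (Steps.fwd (nat_lit 8192) (Steps.bwd (nat_lit 3) (Steps.fwd (nat_lit 8192) (Steps.bwd (nat_lit 3) (Steps.bwd (nat_lit 1) (Steps.bwd (nat_lit 2) (Steps.bwd (nat_lit 1) (Steps.bwd (nat_lit 3) (Steps.fwd (nat_lit 8192) (Steps.fwd (nat_lit 16384) (Steps.bwd (nat_lit 1) (Steps.bwd (nat_lit 2) (Steps.bwd (nat_lit 1) (Steps.fwd (nat_lit 24576) (Steps.bwd (nat_lit 1) (Steps.fwd (nat_lit 16384) (Steps.fwd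 (nat_lit 8192) Steps.nil)))))))))))))))))))))))))))))))))))) (nat_lit 12) (nat_lit 7),
  Rule.mk (nat_lit 9) (nat_lit 89) (Steps.fwd (nat_lit 8192) (Steps.fwd (nat_lit 32768) (Steps.bwd (nat_lit 7) (Steps.bwd (nat_lit 14) (Steps.fwd (nat_lit 8192) Steps.nil))))) (nat_lit 156) (nat_lit 2),
  Rule.mk (nat_lit 6) (nat_lit 104) (Steps.fwd (nat_lit 8192) (Steps.fwd (nat_lit 90112) (Steps.bwd (nat_lit 1) (Steps.fwd (nat_lit 114688) (Steps.bwd (nat_lit 12) (Steps.bwd (nat_lit 11) Steps.nil)))))) (nat_lit 161) (nat_lit 4),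
  Rule.mk (nat_lit 7) (nat_lit 164) (Steps.fwd (nat_lit 8192) (Steps.fwd (nat_lit 114688) (Steps.bwd (nat_lit 13) (Steps.fwd (nat_lit 98304) (Steps.fwd (nat_lit 90112) (Steps.bwd (nat_lit 10) (Steps.fwd (nat_lit 73728) (Steps.bwd (nat_lit 6) (Steps.fwd (nat_lit 40960) (Steps.bwd (nat_lit 1) Steps.nil)))))))))) (nat_lit 153) (nat_lit 10),
  Rule.mk (nat_lit 0) (nat_lit 194) (Steps.bwd (nat_lit 3) (Steps.bwd (nat_lit 1) (Steps.fwd (nat_lit 32768) (Steps.bwd (nat_lit 3) (Steps.bwd (nat_lit 1) (Steps.bwd (nat_lit 2) (Steps.fwd (nat_lit 8192) (Steps.bwd (nat_lit 2) (Steps.fwd (nat_lit 8192) (Steps.bwd (nat_lit 2) (Steps.bwd (nat_lit 1) (Steps.fwd (nat_lit 131072) Steps.nil)))))))))))) (nat_lit 191) (nat_lit 0),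
  Rule.mk (nat_lit 0) (nat_lit 194) (Steps.bwd (nat_lit 16) (Steps.fwd (nat_lit 8192) (Steps.bwd (nat_lit 3) (Steps.bwd (nat_lit 1) (Steps.fwd (nat_lit 16384) (Steps.bwd (nat_lit 1) (Steps.fwd (nat_lit 16384) (Steps.fwd (nat_lit 8192) (Steps.bwd (nat_lit 2) (Steps.fwd (nat_lit 32768) (Steps.bwd (nat_lit 1) (Steps.bwd (nat_lit 2) Steps.nil)))))))))))) (nat_lit 190) (nat_lit 0),
  Rule.mk (nat_lit 15) (nat_lit 179) (Steps.fwd (nat_lit 16384) (Steps.fwd (nat_lit 8192) (Steps.fwd (nat_lit 32768) (Steps.fwd (nat_lit 16384) (Steps.fwd (nat_lit 8192) (Steps.bwd (nat_lit 2) (Steps.fwd (nat_lit 8192) (Steps.bwd (nat_lit 2) (Steps.bwd (nat_lit 1) (Steps.fwd (nat_lit 24576) (Steps.fwd (nat_lit 8192) Steps.nil))))))))))) (nat_lit 191) (nat_lit 0),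
  Rule.mk (nat_lit 15) (nat_lit 179) (Steps.fwd (nat_lit 16384) (Steps.fwd (nat_lit 8192) (Steps.fwd (nat_lit 32768) (Steps.fwd (nat_lit 16384) (Steps.bwd (nat_lit 1) (Steps.fwd (nat_lit 24576) (Steps.fwd (nat_lit 8192) (Steps.bwd (nat_lit 2) (Steps.bwd (nat_lit 1) (Steps.fwd (nat_lit 24576) (Steps.fwd (nat_lit 8192) Steps.nil))))))))))) (nat_lit 191) (nat_lit 0),
  Rule.mk (nat_lit 0) (nat_lit 194) (Steps.bwd (nat_lit 17) (Steps.bwd (nat_lit 2) (Steps.bwd (nat_lit 1) (Steps.bwd (nat_lit 2) (Steps.fwd (nat_lit 8192) (Steps.bwd (nat_lit 3) (Steps.fwd (nat_lit 8192) (Steps.fwd (nat_lit 16384) (Steps.fwd (nat_lit 8192) (Steps.bwd (nat_lit 4) (Steps.fwd (nat_lit 24576) (Steps.bwd (nat_lit 1) Steps.nil)))))))))))) (nat_lit 193) (nat_lit 11),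
  Rule.mk (nat_lit 18) (nat_lit 179) (Steps.fwd (nat_lit 8192) (Steps.bwd (nat_lit 3) (Steps.bwd (nat_lit 4) (Steps.fwd (nat_lit 8192) (Steps.bwd (nat_lit 2) (Steps.fwd (nat_lit 8192) (Steps.bwd (nat_lit 2) (Steps.bwd (nat_lit 1) (Steps.bwd (nat_lit 3) (Steps.fwd (nat_lit 8192) (Steps.bwd (nat_lit 3) Steps.nil))))))))))) (nat_lit 192) (nat_lit 1),
  Rule.mk (nat_lit 18) (nat_lit 179) (Steps.fwd (nat_lit 8192) (Steps.fwd (nat_lit 16384) (Steps.bwd (nat_lit 4) (Steps.bwd (nat_lit 1) (Steps.fwd (nat_lit 24576) (Steps.fwd (nat_lit 8192) (Steps.bwd (nat_lit 2) (Steps.bwd (nat_lit 1) (Steps.fwd (nat_lit 16384) (Steps.bwd (nat_lit 1) (Steps.fwd (nat_lit 16384) Steps.nil))))))))))) (nat_lit 192) (nat_lit 1),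
  Rule.mk (nat_lit 0) (nat_lit 194) (Steps.bwd (nat_lit 18) (Steps.fwd (nat_lit 8192) (Steps.fwd (nat_lit 16384) (Steps.bwd (nat_lit 4) (Steps.bwd (nat_lit 1) (Steps.bwd (nat_lit 2) (Steps.fwd (nat_lit 8192) (Steps.bwd (nat_lit 2) (Steps.fwd (nat_lit 8192) (Steps.bwd (nat_lit 3) (Steps.fwd (nat_lit 8192) (Steps.fwd (nat_lit 16384) Steps.nil)))))))))))) (nat_lit 192) (nat_lit 0),
  Rule.mk (nat_lit 0) (nat_lit 194) (Steps.bwd (nat_lit 1) (Steps.bwd (nat_lit 3) (Steps.bwd (nat_lit 4) (Steps.bwd (nat_lit 1) (Steps.bwd (nat_lit 2) (Steps.bwd (nat_lit 1) (Steps.bwd (nat_lit 2) (Steps.fwd (nat_lit 8192) (Steps.bwd (nat_lit 3) (Steps.fwd (nat_lit 8192) (Steps.fwd (nat_lit 16384) (Steps.fwd (nat_lit 139264) Steps.nil)))))))))))) (nat_lit 192) (nat_lit 1),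
  Rule.mk (nat_lit 20) (nat_lit 179) (Steps.fwd (nat_lit 8192) (Steps.bwd (nat_lit 2) (Steps.bwd (nat_lit 1) (Steps.fwd (nat_lit 24576) (Steps.bwd (nat_lit 1) (Steps.fwd (nat_lit 16384) (Steps.bwd (nat_lit 1) (Steps.fwd (nat_lit 16384) (Steps.fwd (nat_lit 8192) (Steps.fwd (nat_lit 32768) (Steps.bwd (nat_lit 2) Steps.nil))))))))))) (nat_lit 194) (nat_lit 1),
  Rule.mk (nat_lit 19) (nat_lit 179) (Steps.bwd (nat_lit 3) (Steps.fwd (nat_lit 32768) (Steps.bwd (nat_lit 1) (Steps.bwd (nat_lit 2) (Steps.bwd (nat_lit 1) (Steps.fwd (nat_lit 24576) (Steps.bwd (nat_lit 1) (Steps.fwd (nat_lit 16384) (Steps.fwd (nat_lit 8192) (Steps.fwd (nat_lit 16384) (Steps.fwd (nat_lit 8192) Steps.nil))))))))))) (nat_lit 195) (nat_lit 0),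
  Rule.mk (nat_lit 19) (nat_lit 179) (Steps.bwd (nat_lit 3) (Steps.bwd (nat_lit 4) (Steps.fwd (nat_lit 8192) (Steps.bwd (nat_lit 2) (Steps.fwd (nat_lit 8192) (Steps.bwd (nat_lit 2) (Steps.bwd (nat_lit 1) (Steps.bwd (nat_lit 3) (Steps.fwd (nat_lit 8192) (Steps.bwd (nat_lit 3) (Steps.fwd (nat_lit 8192) Steps.nil))))))))))) (nat_lit 195) (nat_lit 0),
  Rule.mk (nat_lit 0) (nat_lit 194) (Steps.bwd (nat_lit 18) (Steps.bwd (nat_lit 1) (Steps.bwd (nat_lit 3) (Steps.fwd (nat_lit 32768) (Steps.fwd (nat_lit 8192) (Steps.fwd (nat_lit 24576) (Steps.fwd (nat_lit 8192) (Steps.bwd (nat_lit 2) (Steps.bwd (nat_lit 1) (Steps.bwd (nat_lit 3) (Steps.bwd (nat_lit 1) (Steps.bwd (nat_lit 3) Steps.nil)))))))))))) (nat_lit 192) (nat_lit 0),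
  Rule.mk (nat_lit 0) (nat_lit 194) (Steps.bwd (nat_lit 20) (Steps.bwd (nat_lit 1) (Steps.fwd (nat_lit 24576) (Steps.fwd (nat_lit 8192) (Steps.fwd (nat_lit 24576) (Steps.fwd (nat_lit 8192) (Steps.fwd (nat_lit 16384) (Steps.bwd (nat_lit 1) (Steps.bwd (nat_lit 3) (Steps.bwd (nat_lit 1) (Steps.bwd (nat_lit 4) (Steps.fwd (nat_lit 24576) Steps.nil)))))))))))) (nat_lit 194) (nat_lit 0)]
noncomputable def R_82 : List (Rule) := [Rule.mk (nat_lit 16) (nat_lit 179) (Steps.bwd (nat_lit 1) (Steps.fwd (nat_lit 16384) (Steps.bwd (nat_lit 1) (Steps.fwd (nat_lit 16384) (Steps.fwd (nat_lit 8192) (Steps.bwd (nat_lit 3) (Steps.fwd (nat_lit 8192) (Steps.fwd (nat_lit 24576) (Steps.bwd (nat_lit 4) (Steps.fwd (nat_lit 8192) (Steps.bwd (nat_lit 2) Steps.nil))))))))))) (nat_lit 190) (nat_lit 1),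
  Rule.mk (nat_lit 0) (nat_lit 194) (Steps.bwd (nat_lit 16) (Steps.fwd (nat_lit 8192) (Steps.fwd (nat_lit 16384) (Steps.fwd (nat_lit 8192) (Steps.fwd (nat_lit 16384) (Steps.fwd (nat_lit 8192) (Steps.bwd (nat_lit 3) (Steps.fwd (nat_lit 8192) (Steps.bwd (nat_lit 2) (Steps.fwd (nat_lit 32768) (Steps.fwd (nat_lit 8192) (Steps.fwd (nat_lit 24576) Steps.nil)))))))))))) (nat_lit 190) (nat_lit 0),
  Rule.mk (nat_lit 20) (nat_lit 179) (Steps.bwd (nat_lit 1) (Steps.bwd (nat_lit 2) (Steps.fwd (nat_lit 8192) (Steps.fwd (nat_lit 24576) (Steps.bwd (nat_lit 1) (Steps.fwd (nat_lit 16384) (Steps.bwd (nat_lit 1) (Steps.fwd (nat_lit 16384) (Steps.bwd (nat_lit 1) (Steps.bwd (nat_lit 4) (Steps.bwd (nat_lit 2) Steps.nil))))))))))) (nat_lit 194) (nat_lit 1),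
  Rule.mk (nat_lit 0) (nat_lit 194) (Steps.fwd (nat_lit 16384) (Steps.fwd (nat_lit 8192) (Steps.bwd (nat_lit 4) (Steps.fwd (nat_lit 16384) (Steps.fwd (nat_lit 8192) (Steps.bwd (nat_lit 2) (Steps.fwd (nat_lit 8192) (Steps.fwd (nat_lit 24576) (Steps.bwd (nat_lit 1) (Steps.bwd (nat_lit 2) (Steps.fwd (nat_lit 8192) (Steps.fwd (nat_lit 131072) Steps.nil)))))))))))) (nat_lit 191) (nat_lit 0),
  Rule.mk (nat_lit 16) (nat_lit 179) (Steps.fwd (nat_lit 8192) (Steps.bwd (nat_lit 3) (Steps.fwd (nat_lit 8192) (Steps.fwd (nat_lit 16384) (Steps.bwd (nat_lit 1) (Steps.bwd (nat_lit 3) (Steps.fwd (nat_lit 8192) (Steps.fwd (nat_lit 24576) (Steps.bwd (nat_lit 4) (Steps.bwd (nat_lit 1) (Steps.bwd (nat_lit 2) Steps.nil))))))))))) (nat_lit 190) (nat_lit 1),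
  Rule.mk (nat_lit 2) (nat_lit 164) (Steps.bwd (nat_lit 11) (Steps.bwd (nat_lit 3) (Steps.bwd (nat_lit 4) (Steps.bwd (nat_lit 5) (Steps.fwd (nat_lit 65536) (Steps.fwd (nat_lit 73728) (Steps.fwd (nat_lit 81920) (Steps.bwd (nat_lit 11) (Steps.fwd (nat_lit 98304) (Steps.bwd (nat_lit 14) Steps.nil)))))))))) (nat_lit 182) (nat_lit 1),
  Rule.mk (nat_lit 20) (nat_lit 179) (Steps.bwd (nat_lit 1) (Steps.bwd (nat_lit 2) (Steps.fwd (nat_lit 8192) (Steps.bwd (nat_lit 2) (Steps.bwd (nat_lit 1) (Steps.bwd (nat_lit 3) (Steps.fwd (nat_lit 8192) (Steps.bwd (nat_lit 3) (Steps.bwd (nat_lit 1) (Steps.fwd (nat_lit 32768) (Steps.bwd (nat_lit 2) Steps.nil))))))))))) (nat_lit 194) (nat_lit 1),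
  Rule.mk (nat_lit 1) (nat_lit 179) (Steps.bwd (nat_lit 17) (Steps.fwd (nat_lit 24576) (Steps.bwd (nat_lit 1) (Steps.fwd (nat_lit 24576) (Steps.fwd (nat_lit 8192) (Steps.fwd (nat_lit 16384) (Steps.bwd (nat_lit 1) (Steps.bwd (nat_lit 3) (Steps.fwd (nat_lit 8192) (Steps.bwd (nat_lit 4) (Steps.bwd (nat_lit 2) Steps.nil))))))))))) (nat_lit 193) (nat_lit 11),
  Rule.mk (nat_lit 20) (nat_lit 179) (Steps.fwd (nat_lit 8192) (Steps.fwd (nat_lit 24576) (Steps.bwd (nat_lit 1) (Steps.fwd (nat_lit 24576) (Steps.fwd (nat_lit 8192) (Steps.fwd (nat_lit 16384) (Steps.bwd (nat_lit 1) (Steps.bwd (nat_lit 3) (Steps.fwd (nat_lit 8192) (Steps.bwd (nat_lit 4) (Steps.bwd (nat_lit 2) Steps.nil))))))))))) (nat_lit 194) (nat_lit 1),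
  Rule.mk (nat_lit 13) (nat_lit 104) (Steps.bwd (nat_lit 1) (Steps.bwd (nat_lit 9) (Steps.fwd (nat_lit 65536) (Steps.fwd (nat_lit 40960) (Steps.bwd (nat_lit 4) (Steps.bwd (nat_lit 1) Steps.nil)))))) (nat_lit 165) (nat_lit 6),
  Rule.mk (nat_lit 10) (nat_lit 134) (Steps.fwd (nat_lit 8192) (Steps.fwd (nat_lit 32768) (Steps.fwd (nat_lit 40960) (Steps.fwd (nat_lit 65536) (Steps.fwd (nat_lit 73728) (Steps.fwd (nat_lit 90112) (Steps.bwd (nat_lit 14) (Steps.bwd (nat_lit 1) Steps.nil)))))))) (nat_lit 158) (nat_lit 2),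
  Rule.mk (nat_lit 12) (nat_lit 164) (Steps.fwd (nat_lit 8192) (Steps.bwd (nat_lit 4) (Steps.fwd (nat_lit 40960) (Steps.bwd (nat_lit 8) (Steps.bwd (nat_lit 9) (Steps.fwd (nat_lit 81920) (Steps.bwd (nat_lit 11) (Steps.bwd (nat_lit 12) (Steps.bwd (nat_lit 14) (Steps.bwd (nat_lit 1) Steps.nil)))))))))) (nat_lit 162) (nat_lit 2),
  Rule.mk (nat_lit 2) (nat_lit 539) (Steps.fwd (nat_lit 8192) (Steps.bwd (nat_lit 2) (Steps.fwd (nat_lit 8192) (Steps.bwd (nat_lit 3) (Steps.bwd (nat_lit 1) (Steps.bwd (nat_lit 2) (Steps.fwd (nat_lit 8192) (Steps.bwd (nat_lit 2) (Steps.bwd (nat_lit 1) (Steps.bwd (nat_lit 3) (Steps.bwd (nat_lit 1) (Steps.fwd (nat_lit 24576) (Steps.fwd (nat_lit 8192) (Steps.bwd (nat_lit 3) (Steps.bwd (nat_lit 1) (Steps.bwd (nat_lit 3) (Steps.fwd (nat_lit 8192) (Steps.fwd (nat_lit 24576) (Steps.bwd (nat_lit 1) (Steps.fwd (nat_lit 16384) (Steps.fwd (nat_lit 8192) (Steps.bwd (nat_lit 3)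 (Steps.fwd (nat_lit 8192) (Steps.bwd (nat_lit 2) (Steps.fwd (nat_lit 8192) (Steps.fwd (nat_lit 16384) (Steps.fwd (nat_lit 8192) (Steps.bwd (nat_lit 3) (Steps.fwd (nat_lit 8192) (Steps.bwd (nat_lit 2) (Steps.bwd (nat_lit 1) (Steps.bwd (nat_lit 2) (Steps.fwd (nat_lit 8192) (Steps.fwd (nat_lit 16384) (Steps.bwd (nat_lit 1) Steps.nil))))))))))))))))))))))))))))))))))) (nat_lit 12) (nat_lit 8),
  Rule.mk (nat_lit 0) (nat_lit 194) (Steps.bwd (nat_lit 16) (Steps.fwd (nat_lit 8192) (Steps.fwd (nat_lit 16384) (Steps.bwd (nat_lit 1) (Steps.fwd (nat_lit 16384) (Steps.bwd (nat_lit 1) (Steps.fwd (nat_lit 16384) (Steps.fwd (nat_lit 8192) (Steps.bwd (nat_lit 2) (Steps.bwd (nat_lit 4) (Steps.fwd (nat_lit 8192) (Steps.fwd (nat_lit 24576) Steps.nil)))))))))))) (nat_lit 190) (nat_lit 0),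
  Rule.mk (nat_lit 17) (nat_lit 179) (Steps.bwd (nat_lit 2) (Steps.fwd (nat_lit 8192) (Steps.fwd (nat_lit 24576) (Steps.bwd (nat_lit 1) (Steps.fwd (nat_lit 16384) (Steps.bwd (nat_lit 1) (Steps.fwd (nat_lit 16384) (Steps.fwd (nat_lit 8192) (Steps.fwd (nat_lit 32768) (Steps.fwd (nat_lit 24576) (Steps.fwd (nat_lit 8192) Steps.nil))))))))))) (nat_lit 193) (nat_lit 0),
  Rule.mk (nat_lit 20) (nat_lit 179) (Steps.fwd (nat_lit 8192) (Steps.bwd (nat_lit 2) (Steps.fwd (nat_lit 8192) (Steps.fwd (nat_lit 24576) (Steps.bwd (nat_lit 1) (Steps.fwd (nat_lit 16384) (Steps.bwd (nat_lit 1) (Steps.fwd (nat_lit 16384) (Steps.fwd (nat_lit 8192) (Steps.fwd (nat_lit 32768) (Steps.fwd (nat_lit 24576) Steps.nil))))))))))) (nat_lit 194) (nat_lit 1),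
  Rule.mk (nat_lit 19) (nat_lit 179) (Steps.bwd (nat_lit 3) (Steps.bwd (nat_lit 4) (Steps.fwd (nat_lit 8192) (Steps.bwd (nat_lit 2) (Steps.fwd (nat_lit 8192) (Steps.fwd (nat_lit 24576) (Steps.bwd (nat_lit 1) (Steps.fwd (nat_lit 16384) (Steps.bwd (nat_lit 1) (Steps.fwd (nat_lit 16384) (Steps.fwd (nat_lit 8192) Steps.nil))))))))))) (nat_lit 195) (nat_lit 0),
  Rule.mk (nat_lit 0) (nat_lit 194) (Steps.bwd (nat_lit 17) (Steps.fwd (nat_lit 24576) (Steps.bwd (nat_lit 1) (Steps.bwd (nat_lit 2) (Steps.bwd (nat_lit 1) (Steps.fwd (nat_lit 16384) (Steps.bwd (nat_lit 1) (Steps.fwd (nat_lit 16384) (Steps.fwd (nat_lit 8192) (Steps.fwd (nat_lit 32768) (Steps.bwd (nat_lit 2) (Steps.fwd (nat_lit 8192) Steps.nil)))))))))))) (nat_lit 193) (nat_lit 11),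
  Rule.mk (nat_lit 17) (nat_lit 179) (Steps.bwd (nat_lit 2) (Steps.fwd (nat_lit 8192) (Steps.bwd (nat_lit 2) (Steps.fwd (nat_lit 8192) (Steps.bwd (nat_lit 3) (Steps.bwd (nat_lit 1) (Steps.fwd (nat_lit 16384) (Steps.bwd (nat_lit 1) (Steps.fwd (nat_lit 32768) (Steps.fwd (nat_lit 24576) (Steps.fwd (nat_lit 8192) Steps.nil))))))))))) (nat_lit 193) (nat_lit 0),
  Rule.mk (nat_lit 20) (nat_lit 179) (Steps.bwd (nat_lit 1) (Steps.fwd (nat_lit 24576) (Steps.bwd (nat_lit 1) (Steps.bwd (nat_lit 2) (Steps.bwd (nat_lit 1) (Steps.fwd (nat_lit 16384) (Steps.bwd (nat_lit 1) (Steps.fwd (nat_lit 16384) (Steps.fwd (nat_lit 8192) (Steps.fwd (nat_lit 32768) (Steps.bwd (nat_lit 2) Steps.nil))))))))))) (nat_lit 194) (nat_lit 1),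
  Rule.mk (nat_lit 16) (nat_lit 179) (Steps.fwd (nat_lit 8192) (Steps.fwd (nat_lit 16384) (Steps.bwd (nat_lit 1) (Steps.fwd (nat_lit 16384) (Steps.fwd (nat_lit 8192) (Steps.bwd (nat_lit 3) (Steps.fwd (nat_lit 8192) (Steps.bwd (nat_lit 2) (Steps.bwd (nat_lit 4) (Steps.bwd (nat_lit 1) (Steps.bwd (nat_lit 2) Steps.nil))))))))))) (nat_lit 190) (nat_lit 1),
  Rule.mk (nat_lit 0) (nat_lit 194) (Steps.bwd (nat_lit 16) (Steps.bwd (nat_lit 1) (Steps.bwd (nat_lit 3) (Steps.fwd (nat_lit 8192) (Steps.bwd (nat_lit 3) (Steps.bwd (nat_lit 1) (Steps.fwd (nat_lit 16384) (Steps.bwd (nat_lit 1) (Steps.bwd (nat_lit 2) (Steps.bwd (nat_lit 4) (Steps.bwd (nat_lit 1) (Steps.bwd (nat_lit 2) Steps.nil)))))))))))) (nat_lit 190) (nat_lit 0),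
  Rule.mk (nat_lit 15) (nat_lit 179) (Steps.fwd (nat_lit 16384) (Steps.fwd (nat_lit 8192) (Steps.bwd (nat_lit 4) (Steps.fwd (nat_lit 16384) (Steps.bwd (nat_lit 1) (Steps.bwd (nat_lit 2) (Steps.bwd (nat_lit 1) (Steps.fwd (nat_lit 24576) (Steps.bwd (nat_lit 1) (Steps.bwd (nat_lit 2) (Steps.fwd (nat_lit 8192) Steps.nil))))))))))) (nat_lit 191) (nat_lit 0),
  Rule.mk (nat_lit 15) (nat_lit 179) (Steps.fwd (nat_lit 16384) (Steps.fwd (nat_lit 8192) (Steps.fwd (nat_lit 32768) (Steps.bwd (nat_lit 3) (Steps.bwd (nat_lit 1) (Steps.fwd (nat_lit 24576) (Steps.bwd (nat_lit 1) (Steps.bwd (nat_lit 2) (Steps.fwd (nat_lit 8192) (Steps.bwd (nat_lit 2) (Steps.bwd (nat_lit 1) Steps.nil))))))))))) (nat_lit 191) (nat_lit 0),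
  Rule.mk (nat_lit 18) (nat_lit 179) (Steps.bwd (nat_lit 1) (Steps.fwd (nat_lit 16384) (Steps.bwd (nat_lit 4) (Steps.bwd (nat_lit 1) (Steps.bwd (nat_lit 2) (Steps.fwd (nat_lit 8192) (Steps.bwd (nat_lit 2) (Steps.bwd (nat_lit 1) (Steps.fwd (nat_lit 16384) (Steps.fwd (nat_lit 8192) (Steps.fwd (nat_lit 16384) Steps.nil))))))))))) (nat_lit 192) (nat_lit 1),
  Rule.mk (nat_lit 17) (nat_lit 179) (Steps.bwd (nat_lit 2) (Steps.fwd (nat_lit 8192) (Steps.bwd (nat_lit 2) (Steps.bwd (nat_lit 1) (Steps.fwd (nat_lit 16384) (Steps.fwd (nat_lit 8192) (Steps.fwd (nat_lit 16384) (Steps.bwd (nat_lit 1) (Steps.bwd (nat_lit 4) (Steps.bwd (nat_lit 2) (Steps.bwd (nat_lit 1) Steps.nil))))))))))) (nat_lit 193) (nat_lit 0),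
  Rule.mk (nat_lit 20) (nat_lit 179) (Steps.bwd (nat_lit 1) (Steps.bwd (nat_lit 2) (Steps.fwd (nat_lit 8192) (Steps.bwd (nat_lit 2) (Steps.bwd (nat_lit 1) (Steps.fwd (nat_lit 16384) (Steps.fwd (nat_lit 8192) (Steps.fwd (nat_lit 16384) (Steps.bwd (nat_lit 1) (Steps.bwd (nat_lit 4) (Steps.bwd (nat_lit 2) Steps.nil))))))))))) (nat_lit 194) (nat_lit 1),
  Rule.mk (nat_lit 0) (nat_lit 194) (Steps.fwd (nat_lit 16384) (Steps.bwd (nat_lit 4) (Steps.bwd (nat_lit 1) (Steps.bwd (nat_lit 2) (Steps.fwd (nat_lit 8192) (Steps.bwd (nat_lit 2) (Steps.bwd (nat_lit 1) (Steps.fwd (nat_lit 16384) (Steps.fwd (nat_lit 8192) (Steps.fwd (nat_lit 16384) (Steps.bwd (nat_lit 1) (Steps.fwd (nat_lit 163840) Steps.nil)))))))))))) (nat_lit 195) (nat_lit 0),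
  Rule.mk (nat_lit 5) (nat_lit 119) (Steps.bwd (nat_lit 2) (Steps.fwd (nat_lit 114688) (Steps.bwd (nat_lit 3) (Steps.bwd (nat_lit 14) (Steps.bwd (nat_lit 12) (Steps.bwd (nat_lit 7) (Steps.bwd (nat_lit 6) Steps.nil))))))) (nat_lit 189) (nat_lit 5),
  Rule.mk (nat_lit 1) (nat_lit 179) (Steps.bwd (nat_lit 17) (Steps.bwd (nat_lit 2) (Steps.fwd (nat_lit 8192) (Steps.bwd (nat_lit 2) (Steps.fwd (nat_lit 8192) (Steps.fwd (nat_lit 16384) (Steps.bwd (nat_lit 1) (Steps.bwd (nat_lit 3) (Steps.bwd (nat_lit 1) (Steps.bwd (nat_lit 4) (Steps.bwd (nat_lit 2) Steps.nil))))))))))) (nat_lit 193) (nat_lit 11),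
  Rule.mk (nat_lit 20) (nat_lit 179) (Steps.bwd (nat_lit 1) (Steps.bwd (nat_lit 2) (Steps.fwd (nat_lit 8192) (Steps.bwd (nat_lit 2) (Steps.fwd (nat_lit 8192) (Steps.fwd (nat_lit 16384) (Steps.bwd (nat_lit 1) (Steps.bwd (nat_lit 3) (Steps.bwd (nat_lit 1) (Steps.bwd (nat_lit 4) (Steps.bwd (nat_lit 2) Steps.nil))))))))))) (nat_lit 194) (nat_lit 1),
  Rule.mk (nat_lit 14) (nat_lit 89) (Steps.bwd (nat_lit 7) (Steps.bwd (nat_lit 4) (Steps.fwd (nat_lit 8192) (Steps.fwd (nat_lit 73728) (Steps.bwd (nat_lit 1) Steps.nil))))) (nat_lit 157) (nat_lit 1),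
  Rule.mk (nat_lit 10) (nat_lit 134) (Steps.bwd (nat_lit 1) (Steps.fwd (nat_lit 32768) (Steps.bwd (nat_lit 5) (Steps.bwd (nat_lit 8) (Steps.bwd (nat_lit 9) (Steps.bwd (nat_lit 11) (Steps.bwd (nat_lit 14) (Steps.bwd (nat_lit 1) Steps.nil)))))))) (nat_lit 158) (nat_lit 2),
  Rule.mk (nat_lit 12) (nat_lit 164) (Steps.bwd (nat_lit 1) (Steps.bwd (nat_lit 4) (Steps.bwd (nat_lit 5) (Steps.bwd (nat_lit 8) (Steps.fwd (nat_lit 73728) (Steps.bwd (nat_lit 10) (Steps.bwd (nat_lit 11) (Steps.fwd (nat_lit 98304) (Steps.bwd (nat_lit 14) (Steps.bwd (nat_lit 1) Steps.nil)))))))))) (nat_lit 162) (nat_lit 2),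
  Rule.mk (nat_lit 0) (nat_lit 194) (Steps.bwd (nat_lit 16) (Steps.bwd (nat_lit 1) (Steps.bwd (nat_lit 3) (Steps.bwd (nat_lit 1) (Steps.fwd (nat_lit 16384) (Steps.fwd (nat_lit 8192) (Steps.fwd (nat_lit 16384) (Steps.bwd (nat_lit 1) (Steps.fwd (nat_lit 24576) (Steps.fwd (nat_lit 32768) (Steps.fwd (nat_lit 8192) (Steps.bwd (nat_lit 2) Steps.nil)))))))))))) (nat_lit 190) (nat_lit 0),
  Rule.mk (nat_lit 3) (nat_lit 104) (Steps.bwd (nat_lit 6) (Steps.fwd (nat_lit 90112) (Steps.fwd (nat_lit 98304) (Steps.bwd (nat_lit 14) (Steps.fwd (nat_lit 24576) (Steps.fwd (nat_lit 81920) Steps.nil)))))) (nat_lit 180) (nat_lit 3),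
  Rule.mk (nat_lit 15) (nat_lit 179) (Steps.bwd (nat_lit 3) (Steps.fwd (nat_lit 8192) (Steps.fwd (nat_lit 32768) (Steps.fwd (nat_lit 16384) (Steps.fwd (nat_lit 8192) (Steps.fwd (nat_lit 24576) (Steps.fwd (nat_lit 8192) (Steps.bwd (nat_lit 2) (Steps.bwd (nat_lit 1) (Steps.bwd (nat_lit 2) (Steps.fwd (nat_lit 8192) Steps.nil))))))))))) (nat_lit 191) (nat_lit 0),
  Rule.mk (nat_lit 18) (nat_lit 179) (Steps.fwd (nat_lit 8192) (Steps.bwd (nat_lit 3) (Steps.bwd (nat_lit 4) (Steps.bwd (nat_lit 1) (Steps.fwd (nat_lit 24576) (Steps.fwd (nat_lit 8192) (Steps.fwd (nat_lit 24576) (Steps.bwd (nat_lit 1) (Steps.fwd (nat_lit 16384) (Steps.fwd (nat_lit 8192) (Steps.bwd (nat_lit 3) Steps.nil))))))))))) (nat_lit 192) (nat_lit 1),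
  Rule.mk (nat_lit 18) (nat_lit 179) (Steps.fwd (nat_lit 8192) (Steps.bwd (nat_lit 3) (Steps.fwd (nat_lit 32768) (Steps.fwd (nat_lit 8192) (Steps.bwd (nat_lit 2) (Steps.fwd (nat_lit 8192) (Steps.fwd (nat_lit 24576) (Steps.fwd (nat_lit 8192) (Steps.bwd (nat_lit 3) (Steps.fwd (nat_lit 8192) (Steps.fwd (nat_lit 16384) Steps.nil))))))))))) (nat_lit 192) (nat_lit 1),
  Rule.mk (nat_lit 18) (nat_lit 179) (Steps.fwd (nat_lit 8192) (Steps.bwd (nat_lit 3) (Steps.bwd (nat_lit 4) (Steps.bwd (nat_lit 1) (Steps.bwd (nat_lit 2) (Steps.bwd (nat_lit 1) (Steps.fwd (nat_lit 24576) (Steps.bwd (nat_lit 1) (Steps.fwd (nat_lit 16384) (Steps.fwd (nat_lit 8192) (Steps.fwd (nat_lit 16384) Steps.nil))))))))))) (nat_lit 192) (nat_lit 1),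
  Rule.mk (nat_lit 0) (nat_lit 194) (Steps.bwd (nat_lit 18) (Steps.bwd (nat_lit 1) (Steps.fwd (nat_lit 16384) (Steps.bwd (nat_lit 4) (Steps.bwd (nat_lit 1) (Steps.fwd (nat_lit 24576) (Steps.bwd (nat_lit 1) (Steps.bwd (nat_lit 2) (Steps.fwd (nat_lit 8192) (Steps.bwd (nat_lit 3) (Steps.bwd (nat_lit 1) (Steps.bwd (nat_lit 3) Steps.nil)))))))))))) (nat_lit 192) (nat_lit 0),
  Rule.mk (nat_lit 0) (nat_lit 194) (Steps.bwd (nat_lit 19) (Steps.fwd (nat_lit 16384) (Steps.bwd (nat_lit 4) (Steps.bwd (nat_lit 1) (Steps.fwd (nat_lit 24576) (Steps.bwd (nat_lit 1) (Steps.bwd (nat_lit 2) (Steps.fwd (nat_lit 8192) (Steps.bwd (nat_lit 3) (Steps.bwd (nat_lit 1) (Steps.bwd (nat_lit 3) (Steps.fwd (nat_lit 8192) Steps.nil)))))))))))) (nat_lit 195) (nat_lit 11),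
  Rule.mk (nat_lit 0) (nat_lit 194) (Steps.bwd (nat_lit 20) (Steps.bwd (nat_lit 1) (Steps.bwd (nat_lit 2) (Steps.bwd (nat_lit 1) (Steps.bwd (nat_lit 2) (Steps.fwd (nat_lit 8192) (Steps.bwd (nat_lit 3) (Steps.fwd (nat_lit 8192) (Steps.fwd (nat_lit 16384) (Steps.fwd (nat_lit 8192) (Steps.fwd (nat_lit 32768) (Steps.fwd (nat_lit 24576) Steps.nil)))))))))))) (nat_lit 194) (nat_lit 0),
  Rule.mk (nat_lit 2) (nat_lit 104) (Steps.bwd (nat_lit 10) (Steps.fwd (nat_lit 16384) (Steps.fwd (nat_lit 114688) (Steps.bwd (nat_lit 12) (Steps.fwd (nat_lit 90112) (Steps.bwd (nat_lit 6) Steps.nil)))))) (nat_lit 181) (nat_lit 5),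
  Rule.mk (nat_lit 1) (nat_lit 134) (Steps.bwd (nat_lit 10) (Steps.fwd (nat_lit 8192) (Steps.bwd (nat_lit 4) (Steps.bwd (nat_lit 5) (Steps.bwd (nat_lit 8) (Steps.fwd (nat_lit 73728) (Steps.bwd (nat_lit 11) (Steps.fwd (nat_lit 114688) Steps.nil)))))))) (nat_lit 158) (nat_lit 1),
  Rule.mk (nat_lit 0) (nat_lit 194) (Steps.bwd (nat_lit 16) (Steps.bwd (nat_lit 1) (Steps.fwd (nat_lit 16384) (Steps.fwd (nat_lit 8192) (Steps.fwd (nat_lit 16384) (Steps.bwd (nat_lit 1) (Steps.fwd (nat_lit 16384) (Steps.fwd (nat_lit 8192) (Steps.bwd (nat_lit 2) (Steps.fwd (nat_lit 32768) (Steps.fwd (nat_lit 8192) (Steps.bwd (nat_lit 2) Steps.nil)))))))))))) (nat_lit 190) (nat_lit 0),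
  Rule.mk (nat_lit 0) (nat_lit 194) (Steps.fwd (nat_lit 8192) (Steps.fwd (nat_lit 16384) (Steps.bwd (nat_lit 1) (Steps.fwd (nat_lit 16384) (Steps.fwd (nat_lit 8192) (Steps.fwd (nat_lit 16384) (Steps.bwd (nat_lit 1) (Steps.bwd (nat_lit 2) (Steps.bwd (nat_lit 4) (Steps.fwd (nat_lit 8192) (Steps.bwd (nat_lit 2) (Steps.fwd (nat_lit 122880) Steps.nil)))))))))))) (nat_lit 190) (nat_lit 1),
  Rule.mk (nat_lit 15) (nat_lit 179) (Steps.bwd (nat_lit 3) (Steps.bwd (nat_lit 1) (Steps.bwd (nat_lit 4) (Steps.fwd (nat_lit 16384) (Steps.fwd (nat_lit 8192) (Steps.fwd (nat_lit 24576) (Steps.fwd (nat_lit 8192) (Steps.fwd (nat_lit 24576) (Steps.bwd (nat_lit 1) (Steps.fwd (nat_lit 24576) (Steps.bwd (nat_lit 1) Steps.nil))))))))))) (nat_lit 191) (nat_lit 0),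
  Rule.mk (nat_lit 0) (nat_lit 194) (Steps.fwd (nat_lit 16384) (Steps.bwd (nat_lit 1) (Steps.fwd (nat_lit 32768) (Steps.bwd (nat_lit 3) (Steps.fwd (nat_lit 8192) (Steps.fwd (nat_lit 24576) (Steps.bwd (nat_lit 1) (Steps.fwd (nat_lit 24576) (Steps.fwd (nat_lit 8192) (Steps.bwd (nat_lit 2) (Steps.fwd (nat_lit 8192) (Steps.fwd (nat_lit 131072) Steps.nil)))))))))))) (nat_lit 191) (nat_lit 0),
  Rule.mk (nat_lit 18) (nat_lit 179) (Steps.fwd (nat_lit 8192) (Steps.fwd (nat_lit 16384) (Steps.fwd (nat_lit 32768) (Steps.fwd (nat_lit 8192) (Steps.fwd (nat_lit 24576) (Steps.bwd (nat_lit 1) (Steps.fwd (nat_lit 24576) (Steps.bwd (nat_lit 1) (Steps.fwd (nat_lit 16384) (Steps.fwd (nat_lit 8192) (Steps.fwd (nat_lit 16384) Steps.nil))))))))))) (nat_lit 192) (nat_lit 1),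
  Rule.mk (nat_lit 18) (nat_lit 179) (Steps.bwd (nat_lit 1) (Steps.fwd (nat_lit 16384) (Steps.bwd (nat_lit 4) (Steps.fwd (nat_lit 8192) (Steps.fwd (nat_lit 24576) (Steps.bwd (nat_lit 1) (Steps.fwd (nat_lit 24576) (Steps.fwd (nat_lit 8192) (Steps.fwd (nat_lit 16384) (Steps.fwd (nat_lit 8192) (Steps.fwd (nat_lit 16384) Steps.nil))))))))))) (nat_lit 192) (nat_lit 1),
  Rule.mk (nat_lit 0) (nat_lit 194) (Steps.bwd (nat_lit 17) (Steps.fwd (nat_lit 24576) (Steps.fwd (nat_lit 8192) (Steps.fwd (nat_lit 24576) (Steps.bwd (nat_lit 1) (Steps.bwd (nat_lit 3) (Steps.fwd (nat_lit 8192) (Steps.fwd (nat_lit 16384) (Steps.bwd (nat_lit 1) (Steps.fwd (nat_lit 32768) (Steps.bwd (nat_lit 2) (Steps.fwd (nat_lit 8192) Steps.nil)))))))))))) (nat_lit 193) (nat_lit 11),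
  Rule.mk (nat_lit 17) (nat_lit 179) (Steps.fwd (nat_lit 24576) (Steps.bwd (nat_lit 1) (Steps.fwd (nat_lit 24576) (Steps.bwd (nat_lit 1) (Steps.fwd (nat_lit 16384) (Steps.fwd (nat_lit 8192) (Steps.fwd (nat_lit 16384) (Steps.bwd (nat_lit 1) (Steps.fwd (nat_lit 32768) (Steps.fwd (nat_lit 24576) (Steps.fwd (nat_lit 8192) Steps.nil))))))))))) (nat_lit 193) (nat_lit 0),
  Rule.mk (nat_lit 20) (nat_lit 179) (Steps.fwd (nat_lit 8192) (Steps.fwd (nat_lit 24576) (Steps.fwd (nat_lit 8192) (Steps.fwd (nat_lit 24576) (Steps.bwd (nat_lit 1) (Steps.bwd (nat_lit 3) (Steps.fwd (nat_lit 8192) (Steps.fwd (nat_lit 16384) (Steps.bwd (nat_lit 1) (Steps.fwd (nat_lit 32768) (Steps.bwd (nat_lit 2) Steps.nil))))))))))) (nat_lit 194) (nat_lit 1),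
  Rule.mk (nat_lit 20) (nat_lit 179) (Steps.fwd (nat_lit 8192) (Steps.fwd (nat_lit 24576) (Steps.bwd (nat_lit 1) (Steps.fwd (nat_lit 24576) (Steps.bwd (nat_lit 1) (Steps.fwd (nat_lit 16384) (Steps.fwd (nat_lit 8192) (Steps.fwd (nat_lit 16384) (Steps.bwd (nat_lit 1) (Steps.fwd (nat_lit 32768) (Steps.fwd (nat_lit 24576) Steps.nil))))))))))) (nat_lit 194) (nat_lit 1),
  Rule.mk (nat_lit 19) (nat_lit 179) (Steps.fwd (nat_lit 16384) (Steps.fwd (nat_lit 32768) (Steps.fwd (nat_lit 8192) (Steps.fwd (nat_lit 24576) (Steps.fwd (nat_lit 8192) (Steps.fwd (nat_lit 24576) (Steps.bwd (nat_lit 1) (Steps.bwd (nat_lit 3) (Steps.fwd (nat_lit 8192) (Steps.fwd (nat_lit 16384) (Steps.bwd (nat_lit 1) Steps.nil))))))))))) (nat_lit 195) (nat_lit 0),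
  Rule.mk (nat_lit 19) (nat_lit 179) (Steps.fwd (nat_lit 16384) (Steps.fwd (nat_lit 32768) (Steps.fwd (nat_lit 8192) (Steps.fwd (nat_lit 24576) (Steps.bwd (nat_lit 1) (Steps.fwd (nat_lit 24576) (Steps.bwd (nat_lit 1) (Steps.fwd (nat_lit 16384) (Steps.fwd (nat_lit 8192) (Steps.fwd (nat_lit 16384) (Steps.bwd (nat_lit 1) Steps.nil))))))))))) (nat_lit 195) (nat_lit 0),
  Rule.mk (nat_lit 16) (nat_lit 179) (Steps.bwd (nat_lit 1) (Steps.fwd (nat_lit 16384) (Steps.bwd (nat_lit 1) (Steps.fwd (nat_lit 16384) (Steps.fwd (nat_lit 8192) (Steps.fwd (nat_lit 16384) (Steps.bwd (nat_lit 1) (Steps.bwd (nat_lit 2) (Steps.fwd (nat_lit 32768) (Steps.fwd (nat_lit 8192) (Steps.bwd (nat_lit 2) Steps.nil))))))))))) (nat_lit 190) (nat_lit 1),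
  Rule.mk (nat_lit 20) (nat_lit 179) (Steps.fwd (nat_lit 8192) (Steps.bwd (nat_lit 2) (Steps.bwd (nat_lit 1) (Steps.bwd (nat_lit 2) (Steps.bwd (nat_lit 1) (Steps.bwd (nat_lit 3) (Steps.fwd (nat_lit 8192) (Steps.bwd (nat_lit 3) (Steps.bwd (nat_lit 1) (Steps.fwd (nat_lit 32768) (Steps.bwd (nat_lit 2) Steps.nil))))))))))) (nat_lit 194) (nat_lit 1),
  Rule.mk (nat_lit 16) (nat_lit 179) (Steps.fwd (nat_lit 8192) (Steps.fwd (nat_lit 16384) (Steps.bwd (nat_lit 1) (Steps.bwd (nat_lit 3) (Steps.fwd (nat_lit 8192) (Steps.fwd (nat_lit 16384) (Steps.bwd (nat_lit 1) (Steps.bwd (nat_lit 2) (Steps.fwd (nat_lit 32768) (Steps.fwd (nat_lit 8192) (Steps.bwd (nat_lit 2) Steps.nil))))))))))) (nat_lit 190) (nat_lit 1),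
  Rule.mk (nat_lit 15) (nat_lit 179) (Steps.fwd (nat_lit 16384) (Steps.fwd (nat_lit 8192) (Steps.fwd (nat_lit 32768) (Steps.fwd (nat_lit 16384) (Steps.fwd (nat_lit 8192) (Steps.fwd (nat_lit 24576) (Steps.bwd (nat_lit 1) (Steps.fwd (nat_lit 24576) (Steps.bwd (nat_lit 1) (Steps.bwd (nat_lit 2) (Steps.bwd (nat_lit 1) Steps.nil))))))))))) (nat_lit 191) (nat_lit 0),
  Rule.mk (nat_lit 18) (nat_lit 179) (Steps.fwd (nat_lit 8192) (Steps.bwd (nat_lit 3) (Steps.fwd (nat_lit 32768) (Steps.bwd (nat_lit 1) (Steps.fwd (nat_lit 24576) (Steps.bwd (nat_lit 1) (Steps.bwd (nat_lit 2) (Steps.bwd (nat_lit 1) (Steps.bwd (nat_lit 3) (Steps.bwd (nat_lit 1) (Steps.fwd (nat_lit 16384) Steps.nil))))))))))) (nat_lit 192) (nat_lit 1),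
  Rule.mk (nat_lit 17) (nat_lit 179) (Steps.bwd (nat_lit 2) (Steps.fwd (nat_lit 8192) (Steps.fwd (nat_lit 24576) (Steps.fwd (nat_lit 8192) (Steps.fwd (nat_lit 16384) (Steps.fwd (nat_lit 8192) (Steps.fwd (nat_lit 16384) (Steps.bwd (nat_lit 1) (Steps.bwd (nat_lit 4) (Steps.bwd (nat_lit 2) (Steps.bwd (nat_lit 1) Steps.nil))))))))))) (nat_lit 193) (nat_lit 0),
  Rule.mk (nat_lit 20) (nat_lit 179) (Steps.fwd (nat_lit 8192) (Steps.bwd (nat_lit 2) (Steps.fwd (nat_lit 8192) (Steps.fwd (nat_lit 24576) (Steps.fwd (nat_lit 8192) (Steps.fwd (nat_lit 16384) (Steps.fwd (nat_lit 8192) (Steps.fwd (nat_lit 16384) (Steps.bwd (nat_lit 1) (Steps.bwd (nat_lit 4) (Steps.bwd (nat_lit 2) Steps.nil))))))))))) (nat_lit 194) (nat_lit 1)]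
noncomputable def R_83 : List (Rule) := [Rule.mk (nat_lit 2) (nat_lit 104) (Steps.bwd (nat_lit 10) (Steps.fwd (nat_lit 16384) (Steps.bwd (nat_lit 6) (Steps.fwd (nat_lit 90112) (Steps.fwd (nat_lit 98304) (Steps.fwd (nat_lit 114688) Steps.nil)))))) (nat_lit 180) (nat_lit 1),
  Rule.mk (nat_lit 1) (nat_lit 134) (Steps.bwd (nat_lit 10) (Steps.fwd (nat_lit 8192) (Steps.fwd (nat_lit 32768) (Steps.bwd (nat_lit 5) (Steps.bwd (nat_lit 8) (Steps.fwd (nat_lit 73728) (Steps.bwd (nat_lit 11) (Steps.bwd (nat_lit 14) Steps.nil)))))))) (nat_lit 158) (nat_lit 1),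
  Rule.mk (nat_lit 11) (nat_lit 134) (Steps.bwd (nat_lit 10) (Steps.bwd (nat_lit 6) (Steps.fwd (nat_lit 8192) (Steps.fwd (nat_lit 114688) (Steps.bwd (nat_lit 1) (Steps.bwd (nat_lit 14) (Steps.bwd (nat_lit 13) (Steps.bwd (nat_lit 12) Steps.nil)))))))) (nat_lit 167) (nat_lit 4),
  Rule.mk (nat_lit 16) (nat_lit 179) (Steps.fwd (nat_lit 8192) (Steps.bwd (nat_lit 3) (Steps.bwd (nat_lit 1) (Steps.fwd (nat_lit 16384) (Steps.bwd (nat_lit 1) (Steps.fwd (nat_lit 16384) (Steps.fwd (nat_lit 8192) (Steps.bwd (nat_lit 2) (Steps.bwd (nat_lit 4) (Steps.fwd (nat_lit 8192) (Steps.fwd (nat_lit 24576) Steps.nil))))))))))) (nat_lit 190) (nat_lit 1),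
  Rule.mk (nat_lit 16) (nat_lit 179) (Steps.bwd (nat_lit 1) (Steps.fwd (nat_lit 16384) (Steps.bwd (nat_lit 1) (Steps.fwd (nat_lit 16384) (Steps.fwd (nat_lit 8192) (Steps.fwd (nat_lit 16384) (Steps.bwd (nat_lit 1) (Steps.bwd (nat_lit 2) (Steps.bwd (nat_lit 4) (Steps.bwd (nat_lit 1) (Steps.fwd (nat_lit 24576) Steps.nil))))))))))) (nat_lit 190) (nat_lit 1),
  Rule.mk (nat_lit 16) (nat_lit 179) (Steps.bwd (nat_lit 1) (Steps.fwd (nat_lit 16384) (Steps.fwd (nat_lit 8192) (Steps.fwd (nat_lit 16384) (Steps.bwd (nat_lit 1) (Steps.bwd (nat_lit 3) (Steps.fwd (nat_lit 8192) (Steps.bwd (nat_lit 2) (Steps.fwd (nat_lit 32768) (Steps.bwd (nat_lit 1) (Steps.bwd (nat_lit 2) Steps.nil))))))))))) (nat_lit 190) (nat_lit 1),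
  Rule.mk (nat_lit 0) (nat_lit 194) (Steps.bwd (nat_lit 18) (Steps.bwd (nat_lit 1) (Steps.bwd (nat_lit 3) (Steps.fwd (nat_lit 32768) (Steps.fwd (nat_lit 8192) (Steps.bwd (nat_lit 2) (Steps.fwd (nat_lit 8192) (Steps.fwd (nat_lit 24576) (Steps.bwd (nat_lit 1) (Steps.fwd (nat_lit 16384) (Steps.bwd (nat_lit 1) (Steps.fwd (nat_lit 16384) Steps.nil)))))))))))) (nat_lit 192) (nat_lit 0),
  Rule.mk (nat_lit 18) (nat_lit 179) (Steps.bwd (nat_lit 1) (Steps.fwd (nat_lit 16384) (Steps.bwd (nat_lit 4) (Steps.bwd (nat_lit 1) (Steps.bwd (nat_lit 2) (Steps.fwd (nat_lit 8192) (Steps.bwd (nat_lit 2) (Steps.bwd (nat_lit 1) (Steps.bwd (nat_lit 3) (Steps.fwd (nat_lit 8192) (Steps.fwd (nat_lit 16384) Steps.nil))))))))))) (nat_lit 192) (nat_lit 1),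
  Rule.mk (nat_lit 0) (nat_lit 194) (Steps.bwd (nat_lit 18) (Steps.bwd (nat_lit 1) (Steps.fwd (nat_lit 16384) (Steps.bwd (nat_lit 4) (Steps.bwd (nat_lit 1) (Steps.bwd (nat_lit 2) (Steps.fwd (nat_lit 8192) (Steps.bwd (nat_lit 2) (Steps.fwd (nat_lit 8192) (Steps.bwd (nat_lit 3) (Steps.bwd (nat_lit 1) (Steps.fwd (nat_lit 16384) Steps.nil)))))))))))) (nat_lit 192) (nat_lit 0),
  Rule.mk (nat_lit 20) (nat_lit 179) (Steps.fwd (nat_lit 8192) (Steps.bwd (nat_lit 2) (Steps.fwd (nat_lit 8192) (Steps.fwd (nat_lit 24576) (Steps.bwd (nat_lit 1) (Steps.fwd (nat_lit 16384) (Steps.bwd (nat_lit 1) (Steps.fwd (nat_lit 16384) (Steps.fwd (nat_lit 8192) (Steps.fwd (nat_lit 32768) (Steps.bwd (nat_lit 2) Steps.nil))))))))))) (nat_lit 194) (nat_lit 1),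
  Rule.mk (nat_lit 0) (nat_lit 194) (Steps.bwd (nat_lit 19) (Steps.bwd (nat_lit 3) (Steps.fwd (nat_lit 32768) (Steps.fwd (nat_lit 8192) (Steps.bwd (nat_lit 2) (Steps.fwd (nat_lit 8192) (Steps.fwd (nat_lit 24576) (Steps.bwd (nat_lit 1) (Steps.fwd (nat_lit 16384) (Steps.bwd (nat_lit 1) (Steps.fwd (nat_lit 16384) (Steps.fwd (nat_lit 8192) Steps.nil)))))))))))) (nat_lit 195) (nat_lit 11),
  Rule.mk (nat_lit 20) (nat_lit 179) (Steps.fwd (nat_lit 8192) (Steps.bwd (nat_lit 2) (Steps.bwd (nat_lit 1) (Steps.fwd (nat_lit 24576) (Steps.fwd (nat_lit 8192) (Steps.fwd (nat_lit 16384) (Steps.bwd (nat_lit 1) (Steps.fwd (nat_lit 16384) (Steps.fwd (nat_lit 8192) (Steps.fwd (nat_lit 32768) (Steps.bwd (nat_lit 2) Steps.nil))))))))))) (nat_lit 194) (nat_lit 1),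
  Rule.mk (nat_lit 16) (nat_lit 179) (Steps.fwd (nat_lit 8192) (Steps.fwd (nat_lit 16384) (Steps.fwd (nat_lit 8192) (Steps.bwd (nat_lit 3) (Steps.bwd (nat_lit 1) (Steps.fwd (nat_lit 16384) (Steps.bwd (nat_lit 1) (Steps.bwd (nat_lit 2) (Steps.bwd (nat_lit 4) (Steps.fwd (nat_lit 8192) (Steps.fwd (nat_lit 24576) Steps.nil))))))))))) (nat_lit 190) (nat_lit 1),
  Rule.mk (nat_lit 15) (nat_lit 179) (Steps.fwd (nat_lit 16384) (Steps.fwd (nat_lit 8192) (Steps.fwd (nat_lit 32768) (Steps.fwd (nat_lit 16384) (Steps.bwd (nat_lit 1) (Steps.bwd (nat_lit 2) (Steps.fwd (nat_lit 8192) (Steps.fwd (nat_lit 24576) (Steps.fwd (nat_lit 8192) (Steps.bwd (nat_lit 2) (Steps.fwd (nat_lit 8192) Steps.nil))))))))))) (nat_lit 191) (nat_lit 0),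
  Rule.mk (nat_lit 0) (nat_lit 194) (Steps.bwd (nat_lit 17) (Steps.bwd (nat_lit 2) (Steps.fwd (nat_lit 8192) (Steps.bwd (nat_lit 2) (Steps.bwd (nat_lit 1) (Steps.bwd (nat_lit 3) (Steps.bwd (nat_lit 1) (Steps.fwd (nat_lit 16384) (Steps.fwd (nat_lit 8192) (Steps.fwd (nat_lit 32768) (Steps.bwd (nat_lit 2) (Steps.bwd (nat_lit 1) Steps.nil)))))))))))) (nat_lit 193) (nat_lit 11),
  Rule.mk (nat_lit 20) (nat_lit 179) (Steps.bwd (nat_lit 1) (Steps.bwd (nat_lit 2) (Steps.fwd (nat_lit 8192) (Steps.fwd (nat_lit 24576) (Steps.fwd (nat_lit 8192) (Steps.fwd (nat_lit 16384) (Steps.bwd (nat_lit 1) (Steps.fwd (nat_lit 16384) (Steps.fwd (nat_lit 8192) (Steps.bwd (nat_lit 4) (Steps.bwd (nat_lit 2) Steps.nil))))))))))) (nat_lit 194) (nat_lit 1),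
  Rule.mk (nat_lit 2) (nat_lit 164) (Steps.bwd (nat_lit 11) (Steps.fwd (nat_lit 16384) (Steps.bwd (nat_lit 4) (Steps.bwd (nat_lit 5) (Steps.bwd (nat_lit 8) (Steps.fwd (nat_lit 73728) (Steps.bwd (nat_lit 10) (Steps.fwd (nat_lit 90112) (Steps.bwd (nat_lit 12) (Steps.bwd (nat_lit 14) Steps.nil)))))))))) (nat_lit 182) (nat_lit 1),
  Rule.mk (nat_lit 11) (nat_lit 104) (Steps.bwd (nat_lit 1) (Steps.fwd (nat_lit 49152) (Steps.bwd (nat_lit 11) (Steps.fwd (nat_lit 98304) (Steps.bwd (nat_lit 14) (Steps.bwd (nat_lit 1) Steps.nil)))))) (nat_lit 160) (nat_lit 2),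
  Rule.mk (nat_lit 6) (nat_lit 134) (Steps.bwd (nat_lit 1) (Steps.bwd (nat_lit 14) (Steps.fwd (nat_lit 8192) (Steps.fwd (nat_lit 114688) (Steps.fwd (nat_lit 106496) (Steps.bwd (nat_lit 12) (Steps.bwd (nat_lit 11) (Steps.bwd (nat_lit 10) Steps.nil)))))))) (nat_lit 167) (nat_lit 6),
  Rule.mk (nat_lit 12) (nat_lit 164) (Steps.bwd (nat_lit 1) (Steps.bwd (nat_lit 4) (Steps.fwd (nat_lit 40960) (Steps.fwd (nat_lit 65536) (Steps.fwd (nat_lit 73728) (Steps.fwd (nat_lit 81920) (Steps.bwd (nat_lit 11) (Steps.bwd (nat_lit 12) (Steps.bwd (nat_lit 14) (Steps.bwd (nat_lit 1) Steps.nil)))))))))) (nat_lit 162) (nat_lit 2),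
  Rule.mk (nat_lit 2) (nat_lit 134) (Steps.fwd (nat_lit 106496) (Steps.bwd (nat_lit 3) (Steps.fwd (nat_lit 114688) (Steps.fwd (nat_lit 106496) (Steps.bwd (nat_lit 12) (Steps.bwd (nat_lit 11) (Steps.bwd (nat_lit 10) (Steps.bwd (nat_lit 6) Steps.nil)))))))) (nat_lit 187) (nat_lit 7),
  Rule.mk (nat_lit 3) (nat_lit 164) (Steps.bwd (nat_lit 14) (Steps.fwd (nat_lit 106496) (Steps.fwd (nat_lit 98304) (Steps.bwd (nat_lit 11) (Steps.bwd (nat_lit 10) (Steps.fwd (nat_lit 73728) (Steps.bwd (nat_lit 6) (Steps.bwd (nat_lit 5) (Steps.fwd (nat_lit 24576) (Steps.bwd (nat_lit 6) Steps.nil)))))))))) (nat_lit 173) (nat_lit 0),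
  Rule.mk (nat_lit 16) (nat_lit 179) (Steps.fwd (nat_lit 8192) (Steps.bwd (nat_lit 3) (Steps.bwd (nat_lit 1) (Steps.fwd (nat_lit 16384) (Steps.bwd (nat_lit 1) (Steps.fwd (nat_lit 16384) (Steps.fwd (nat_lit 8192) (Steps.bwd (nat_lit 2) (Steps.fwd (nat_lit 32768) (Steps.bwd (nat_lit 1) (Steps.fwd (nat_lit 24576) Steps.nil))))))))))) (nat_lit 190) (nat_lit 1),
  Rule.mk (nat_lit 15) (nat_lit 179) (Steps.bwd (nat_lit 3) (Steps.fwd (nat_lit 8192) (Steps.bwd (nat_lit 4) (Steps.bwd (nat_lit 3) (Steps.bwd (nat_lit 1) (Steps.bwd (nat_lit 2) (Steps.fwd (nat_lit 8192) (Steps.bwd (nat_lit 2) (Steps.bwd (nat_lit 1) (Steps.fwd (nat_lit 24576) (Steps.bwd (nat_lit 1) Steps.nil))))))))))) (nat_lit 191) (nat_lit 0),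
  Rule.mk (nat_lit 0) (nat_lit 194) (Steps.bwd (nat_lit 18) (Steps.fwd (nat_lit 8192) (Steps.fwd (nat_lit 16384) (Steps.fwd (nat_lit 32768) (Steps.bwd (nat_lit 1) (Steps.fwd (nat_lit 24576) (Steps.fwd (nat_lit 8192) (Steps.bwd (nat_lit 2) (Steps.fwd (nat_lit 8192) (Steps.bwd (nat_lit 3) (Steps.bwd (nat_lit 1) (Steps.fwd (nat_lit 16384) Steps.nil)))))))))))) (nat_lit 192) (nat_lit 0),
  Rule.mk (nat_lit 2) (nat_lit 179) (Steps.fwd (nat_lit 8192) (Steps.bwd (nat_lit 2) (Steps.bwd (nat_lit 1) (Steps.fwd (nat_lit 16384) (Steps.fwd (nat_lit 8192) (Steps.fwd (nat_lit 16384) (Steps.fwd (nat_lit 8192) (Steps.bwd (nat_lit 4) (Steps.fwd (nat_lit 24576) (Steps.fwd (nat_lit 8192) (Steps.fwd (nat_lit 147456) Steps.nil))))))))))) (nat_lit 193) (nat_lit 1),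
  Rule.mk (nat_lit 20) (nat_lit 179) (Steps.fwd (nat_lit 8192) (Steps.bwd (nat_lit 2) (Steps.fwd (nat_lit 8192) (Steps.fwd (nat_lit 24576) (Steps.bwd (nat_lit 1) (Steps.fwd (nat_lit 16384) (Steps.bwd (nat_lit 1) (Steps.bwd (nat_lit 3) (Steps.fwd (nat_lit 8192) (Steps.bwd (nat_lit 4) (Steps.bwd (nat_lit 2) Steps.nil))))))))))) (nat_lit 194) (nat_lit 1),
  Rule.mk (nat_lit 14) (nat_lit 89) (Steps.bwd (nat_lit 2) (Steps.fwd (nat_lit 65536) (Steps.fwd (nat_lit 16384) (Steps.bwd (nat_lit 4) (Steps.fwd (nat_lit 57344) Steps.nil))))) (nat_lit 176) (nat_lit 0),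
  Rule.mk (nat_lit 1) (nat_lit 539) (Steps.bwd (nat_lit 2) (Steps.fwd (nat_lit 8192) (Steps.bwd (nat_lit 3) (Steps.bwd (nat_lit 1) (Steps.fwd (nat_lit 16384) (Steps.bwd (nat_lit 1) (Steps.fwd (nat_lit 24576) (Steps.fwd (nat_lit 8192) (Steps.bwd (nat_lit 3) (Steps.fwd (nat_lit 8192) (Steps.bwd (nat_lit 3) (Steps.fwd (nat_lit 8192) (Steps.bwd (nat_lit 2) (Steps.bwd (nat_lit 1) (Steps.fwd (nat_lit 16384) (Steps.fwd (nat_lit 8192) (Steps.bwd (nat_lit 3) (Steps.bwd (nat_lit 1) (Steps.fwd (nat_lit 24576) (Steps.bwd (nat_lit 1) (Steps.bwd (nat_lit 2) (Steps.fwd (nat_lit 8192) (Steps.fwd (nat_lit 16384) (Steps.fwd (nat_lit 8192) (Steps.fwd (nat_lit 24576) (Steps.fwd (nat_lit 8192) (Steps.bwd (nat_lit 2) (Steps.bwd (nat_lit 1) (Steps.fwd (nat_lit 16384) (Steps.bwd (nat_lit 1) (Steps.bwd (nat_lit 2) (Steps.bwd (nat_lit 1) (Steps.fwd (nat_lit 24576) (Steps.fwd (nat_lit 8192) (Steps.bwd (nat_lit 3)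 Steps.nil))))))))))))))))))))))))))))))))))) (nat_lit 12) (nat_lit 19),
  Rule.mk (nat_lit 11) (nat_lit 104) (Steps.fwd (nat_lit 8192) (Steps.bwd (nat_lit 6) (Steps.bwd (nat_lit 11) (Steps.fwd (nat_lit 98304) (Steps.bwd (nat_lit 14) (Steps.bwd (nat_lit 1) Steps.nil)))))) (nat_lit 160) (nat_lit 2),
  Rule.mk (nat_lit 10) (nat_lit 134) (Steps.fwd (nat_lit 8192) (Steps.bwd (nat_lit 4) (Steps.bwd (nat_lit 5) (Steps.fwd (nat_lit 65536) (Steps.fwd (nat_lit 73728) (Steps.bwd (nat_lit 11) (Steps.bwd (nat_lit 14) (Steps.bwd (nat_lit 1) Steps.nil)))))))) (nat_lit 158) (nat_lit 2),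
  Rule.mk (nat_lit 0) (nat_lit 194) (Steps.bwd (nat_lit 16) (Steps.fwd (nat_lit 8192) (Steps.fwd (nat_lit 16384) (Steps.bwd (nat_lit 1) (Steps.fwd (nat_lit 16384) (Steps.fwd (nat_lit 8192) (Steps.fwd (nat_lit 16384) (Steps.bwd (nat_lit 1) (Steps.bwd (nat_lit 2) (Steps.fwd (nat_lit 32768) (Steps.bwd (nat_lit 1) (Steps.bwd (nat_lit 2) Steps.nil)))))))))))) (nat_lit 190) (nat_lit 0),
  Rule.mk (nat_lit 1) (nat_lit 179) (Steps.bwd (nat_lit 15) (Steps.bwd (nat_lit 3) (Steps.bwd (nat_lit 1) (Steps.fwd (nat_lit 32768) (Steps.bwd (nat_lit 3) (Steps.bwd (nat_lit 1) (Steps.bwd (nat_lit 2) (Steps.fwd (nat_lit 8192) (Steps.bwd (nat_lit 2) (Steps.bwd (nat_lit 1) (Steps.bwd (nat_lit 2) Steps.nil))))))))))) (nat_lit 191) (nat_lit 11),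
  Rule.mk (nat_lit 0) (nat_lit 194) (Steps.bwd (nat_lit 17) (Steps.bwd (nat_lit 2) (Steps.fwd (nat_lit 8192) (Steps.fwd (nat_lit 24576) (Steps.bwd (nat_lit 1) (Steps.fwd (nat_lit 16384) (Steps.fwd (nat_lit 8192) (Steps.fwd (nat_lit 16384) (Steps.bwd (nat_lit 1) (Steps.bwd (nat_lit 4) (Steps.bwd (nat_lit 2) (Steps.bwd (nat_lit 1) Steps.nil)))))))))))) (nat_lit 193) (nat_lit 11),
  Rule.mk (nat_lit 18) (nat_lit 179) (Steps.bwd (nat_lit 1) (Steps.bwd (nat_lit 3) (Steps.bwd (nat_lit 4) (Steps.bwd (nat_lit 1) (Steps.bwd (nat_lit 2) (Steps.fwd (nat_lit 8192) (Steps.bwd (nat_lit 2) (Steps.bwd (nat_lit 1) (Steps.fwd (nat_lit 16384) (Steps.fwd (nat_lit 8192) (Steps.fwd (nat_lit 16384) Steps.nil))))))))))) (nat_lit 192) (nat_lit 1),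
  Rule.mk (nat_lit 17) (nat_lit 179) (Steps.bwd (nat_lit 2) (Steps.bwd (nat_lit 1) (Steps.bwd (nat_lit 2) (Steps.fwd (nat_lit 8192) (Steps.bwd (nat_lit 3) (Steps.bwd (nat_lit 1) (Steps.fwd (nat_lit 16384) (Steps.bwd (nat_lit 1) (Steps.fwd (nat_lit 32768) (Steps.fwd (nat_lit 24576) (Steps.bwd (nat_lit 1) Steps.nil))))))))))) (nat_lit 193) (nat_lit 0),
  Rule.mk (nat_lit 20) (nat_lit 179) (Steps.fwd (nat_lit 8192) (Steps.bwd (nat_lit 2) (Steps.bwd (nat_lit 1) (Steps.bwd (nat_lit 2) (Steps.fwd (nat_lit 8192) (Steps.bwd (nat_lit 3) (Steps.bwd (nat_lit 1) (Steps.fwd (nat_lit 16384) (Steps.bwd (nat_lit 1) (Steps.fwd (nat_lit 32768) (Steps.fwd (nat_lit 24576) Steps.nil))))))))))) (nat_lit 194) (nat_lit 1),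
  Rule.mk (nat_lit 20) (nat_lit 179) (Steps.bwd (nat_lit 1) (Steps.bwd (nat_lit 2) (Steps.fwd (nat_lit 8192) (Steps.bwd (nat_lit 2) (Steps.bwd (nat_lit 1) (Steps.fwd (nat_lit 16384) (Steps.fwd (nat_lit 8192) (Steps.fwd (nat_lit 16384) (Steps.fwd (nat_lit 8192) (Steps.bwd (nat_lit 4) (Steps.fwd (nat_lit 24576) Steps.nil))))))))))) (nat_lit 194) (nat_lit 1),
  Rule.mk (nat_lit 19) (nat_lit 179) (Steps.fwd (nat_lit 16384) (Steps.fwd (nat_lit 32768) (Steps.fwd (nat_lit 8192) (Steps.bwd (nat_lit 2) (Steps.bwd (nat_lit 1) (Steps.bwd (nat_lit 2) (Steps.fwd (nat_lit 8192) (Steps.bwd (nat_lit 3) (Steps.bwd (nat_lit 1) (Steps.fwd (nat_lit 16384) (Steps.bwd (nat_lit 1) Steps.nil))))))))))) (nat_lit 195) (nat_lit 0),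
  Rule.mk (nat_lit 19) (nat_lit 179) (Steps.bwd (nat_lit 3) (Steps.bwd (nat_lit 4) (Steps.bwd (nat_lit 1) (Steps.bwd (nat_lit 2) (Steps.fwd (nat_lit 8192) (Steps.bwd (nat_lit 2) (Steps.bwd (nat_lit 1) (Steps.fwd (nat_lit 16384) (Steps.fwd (nat_lit 8192) (Steps.fwd (nat_lit 16384) (Steps.fwd (nat_lit 8192) Steps.nil))))))))))) (nat_lit 195) (nat_lit 0),
  Rule.mk (nat_lit 14) (nat_lit 134) (Steps.bwd (nat_lit 11) (Steps.fwd (nat_lit 73728) (Steps.bwd (nat_lit 8) (Steps.bwd (nat_lit 5) (Steps.fwd (nat_lit 32768) (Steps.bwd (nat_lit 1) (Steps.fwd (nat_lit 81920) (Steps.bwd (nat_lit 1) Steps.nil)))))))) (nat_lit 159) (nat_lit 1),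
  Rule.mk (nat_lit 6) (nat_lit 134) (Steps.fwd (nat_lit 81920) (Steps.bwd (nat_lit 11) (Steps.bwd (nat_lit 12) (Steps.fwd (nat_lit 106496) (Steps.bwd (nat_lit 14) (Steps.bwd (nat_lit 1) (Steps.bwd (nat_lit 14) (Steps.bwd (nat_lit 1) Steps.nil)))))))) (nat_lit 166) (nat_lit 4),
  Rule.mk (nat_lit 7) (nat_lit 164) (Steps.fwd (nat_lit 8192) (Steps.bwd (nat_lit 5) (Steps.fwd (nat_lit 49152) (Steps.bwd (nat_lit 9) (Steps.fwd (nat_lit 81920) (Steps.fwd (nat_lit 90112) (Steps.fwd (nat_lit 98304) (Steps.fwd (nat_lit 106496) (Steps.bwd (nat_lit 14) (Steps.bwd (nat_lit 1) Steps.nil)))))))))) (nat_lit 152) (nat_lit 2),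
  Rule.mk (nat_lit 0) (nat_lit 194) (Steps.bwd (nat_lit 1) (Steps.bwd (nat_lit 3) (Steps.fwd (nat_lit 8192) (Steps.bwd (nat_lit 3) (Steps.bwd (nat_lit 1) (Steps.bwd (nat_lit 3) (Steps.fwd (nat_lit 8192) (Steps.fwd (nat_lit 24576) (Steps.fwd (nat_lit 32768) (Steps.fwd (nat_lit 8192) (Steps.bwd (nat_lit 2) (Steps.fwd (nat_lit 122880) Steps.nil)))))))))))) (nat_lit 190) (nat_lit 1),
  Rule.mk (nat_lit 10) (nat_lit 104) (Steps.fwd (nat_lit 16384) (Steps.bwd (nat_lit 14) (Steps.fwd (nat_lit 98304) (Steps.fwd (nat_lit 90112) (Steps.bwd (nat_lit 6) (Steps.bwd (nat_lit 2) Steps.nil)))))) (nat_lit 181) (nat_lit 6),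
  Rule.mk (nat_lit 0) (nat_lit 194) (Steps.bwd (nat_lit 15) (Steps.bwd (nat_lit 3) (Steps.bwd (nat_lit 1) (Steps.fwd (nat_lit 32768) (Steps.fwd (nat_lit 16384) (Steps.bwd (nat_lit 1) (Steps.fwd (nat_lit 24576) (Steps.bwd (nat_lit 1) (Steps.bwd (nat_lit 2) (Steps.bwd (nat_lit 1) (Steps.bwd (nat_lit 2) (Steps.bwd (nat_lit 1) Steps.nil)))))))))))) (nat_lit 191) (nat_lit 11),
  Rule.mk (nat_lit 15) (nat_lit 179) (Steps.fwd (nat_lit 16384) (Steps.bwd (nat_lit 1) (Steps.bwd (nat_lit 4) (Steps.bwd (nat_lit 3) (Steps.fwd (nat_lit 8192) (Steps.bwd (nat_lit 2) (Steps.fwd (nat_lit 8192) (Steps.bwd (nat_lit 2) (Steps.fwd (nat_lit 8192) (Steps.fwd (nat_lit 24576) (Steps.fwd (nat_lit 8192) Steps.nil))))))))))) (nat_lit 191) (nat_lit 0),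
  Rule.mk (nat_lit 18) (nat_lit 179) (Steps.bwd (nat_lit 1) (Steps.bwd (nat_lit 3) (Steps.fwd (nat_lit 32768) (Steps.fwd (nat_lit 8192) (Steps.bwd (nat_lit 2) (Steps.fwd (nat_lit 8192) (Steps.bwd (nat_lit 2) (Steps.fwd (nat_lit 8192) (Steps.fwd (nat_lit 16384) (Steps.fwd (nat_lit 8192) (Steps.fwd (nat_lit 16384) Steps.nil))))))))))) (nat_lit 192) (nat_lit 1),
  Rule.mk (nat_lit 0) (nat_lit 194) (Steps.bwd (nat_lit 17) (Steps.bwd (nat_lit 2) (Steps.fwd (nat_lit 8192) (Steps.fwd (nat_lit 24576) (Steps.fwd (nat_lit 8192) (Steps.bwd (nat_lit 3) (Steps.bwd (nat_lit 1) (Steps.bwd (nat_lit 3) (Steps.fwd (nat_lit 8192) (Steps.bwd (nat_lit 4) (Steps.bwd (nat_lit 2) (Steps.fwd (nat_lit 8192) Steps.nil)))))))))))) (nat_lit 193) (nat_lit 11),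
  Rule.mk (nat_lit 17) (nat_lit 179) (Steps.bwd (nat_lit 2) (Steps.fwd (nat_lit 8192) (Steps.bwd (nat_lit 2) (Steps.fwd (nat_lit 8192) (Steps.fwd (nat_lit 16384) (Steps.fwd (nat_lit 8192) (Steps.fwd (nat_lit 16384) (Steps.bwd (nat_lit 1) (Steps.bwd (nat_lit 4) (Steps.bwd (nat_lit 2) (Steps.bwd (nat_lit 1) Steps.nil))))))))))) (nat_lit 193) (nat_lit 0),
  Rule.mk (nat_lit 20) (nat_lit 179) (Steps.bwd (nat_lit 1) (Steps.bwd (nat_lit 2) (Steps.fwd (nat_lit 8192) (Steps.fwd (nat_lit 24576) (Steps.fwd (nat_lit 8192) (Steps.bwd (nat_lit 3) (Steps.bwd (nat_lit 1) (Steps.bwd (nat_lit 3) (Steps.fwd (nat_lit 8192) (Steps.bwd (nat_lit 4) (Steps.bwd (nat_lit 2) Steps.nil))))))))))) (nat_lit 194) (nat_lit 1),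
  Rule.mk (nat_lit 20) (nat_lit 179) (Steps.fwd (nat_lit 8192) (Steps.bwd (nat_lit 2) (Steps.fwd (nat_lit 8192) (Steps.bwd (nat_lit 2) (Steps.fwd (nat_lit 8192) (Steps.fwd (nat_lit 16384) (Steps.fwd (nat_lit 8192) (Steps.fwd (nat_lit 16384) (Steps.bwd (nat_lit 1) (Steps.bwd (nat_lit 4) (Steps.bwd (nat_lit 2) Steps.nil))))))))))) (nat_lit 194) (nat_lit 1),
  Rule.mk (nat_lit 19) (nat_lit 179) (Steps.bwd (nat_lit 3) (Steps.fwd (nat_lit 32768) (Steps.fwd (nat_lit 8192) (Steps.bwd (nat_lit 2) (Steps.fwd (nat_lit 8192) (Steps.bwd (nat_lit 2) (Steps.fwd (nat_lit 8192) (Steps.fwd (nat_lit 16384) (Steps.fwd (nat_lit 8192) (Steps.fwd (nat_lit 16384) (Steps.bwd (nat_lit 1) Steps.nil))))))))))) (nat_lit 195) (nat_lit 0),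
  Rule.mk (nat_lit 3) (nat_lit 179) (Steps.bwd (nat_lit 4) (Steps.fwd (nat_lit 8192) (Steps.fwd (nat_lit 24576) (Steps.fwd (nat_lit 8192) (Steps.bwd (nat_lit 2) (Steps.fwd (nat_lit 8192) (Steps.fwd (nat_lit 16384) (Steps.bwd (nat_lit 1) (Steps.fwd (nat_lit 16384) (Steps.fwd (nat_lit 8192) (Steps.fwd (nat_lit 163840) Steps.nil))))))))))) (nat_lit 195) (nat_lit 1),
  Rule.mk (nat_lit 1) (nat_lit 179) (Steps.bwd (nat_lit 17) (Steps.bwd (nat_lit 2) (Steps.fwd (nat_lit 8192) (Steps.bwd (nat_lit 2) (Steps.bwd (nat_lit 1) (Steps.fwd (nat_lit 16384) (Steps.bwd (nat_lit 1) (Steps.bwd (nat_lit 3) (Steps.bwd (nat_lit 1) (Steps.fwd (nat_lit 32768) (Steps.fwd (nat_lit 24576) Steps.nil))))))))))) (nat_lit 193) (nat_lit 11),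
  Rule.mk (nat_lit 12) (nat_lit 104) (Steps.bwd (nat_lit 3) (Steps.bwd (nat_lit 9) (Steps.fwd (nat_lit 65536) (Steps.fwd (nat_lit 40960) (Steps.bwd (nat_lit 4) (Steps.fwd (nat_lit 24576) Steps.nil)))))) (nat_lit 185) (nat_lit 6),
  Rule.mk (nat_lit 9) (nat_lit 134) (Steps.bwd (nat_lit 3) (Steps.bwd (nat_lit 14) (Steps.bwd (nat_lit 11) (Steps.fwd (nat_lit 73728) (Steps.bwd (nat_lit 8) (Steps.bwd (nat_lit 5) (Steps.fwd (nat_lit 32768) (Steps.fwd (nat_lit 24576) Steps.nil)))))))) (nat_lit 179) (nat_lit 8),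
  Rule.mk (nat_lit 13) (nat_lit 134) (Steps.bwd (nat_lit 3) (Steps.bwd (nat_lit 6) (Steps.fwd (nat_lit 81920) (Steps.bwd (nat_lit 11) (Steps.bwd (nat_lit 12) (Steps.fwd (nat_lit 106496) (Steps.bwd (nat_lit 14) (Steps.fwd (nat_lit 24576) Steps.nil)))))))) (nat_lit 186) (nat_lit 2),
  Rule.mk (nat_lit 11) (nat_lit 164) (Steps.bwd (nat_lit 3) (Steps.bwd (nat_lit 14) (Steps.bwd (nat_lit 12) (Steps.fwd (nat_lit 90112) (Steps.bwd (nat_lit 10) (Steps.fwd (nat_lit 73728) (Steps.fwd (nat_lit 65536) (Steps.bwd (nat_lit 5) (Steps.bwd (nat_lit 4) (Steps.fwd (nat_lit 24576) Steps.nil)))))))))) (nat_lit 183) (nat_lit 10),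
  Rule.mk (nat_lit 5) (nat_lit 59) (Steps.fwd (nat_lit 90112) (Steps.fwd (nat_lit 40960) (Steps.bwd (nat_lit 11) Steps.nil))) (nat_lit 80) (nat_lit 0),
  Rule.mk (nat_lit 0) (nat_lit 119) (Steps.fwd (nat_lit 8192) (Steps.fwd (nat_lit 90112) (Steps.fwd (nat_lit 8192) (Steps.bwd (nat_lit 6) (Steps.fwd (nat_lit 90112) (Steps.fwd (nat_lit 98304) (Steps.fwd (nat_lit 114688) Steps.nil))))))) (nat_lit 160) (nat_lit 0),
  Rule.mk (nat_lit 16) (nat_lit 179) (Steps.fwd (nat_lit 8192) (Steps.fwd (nat_lit 16384) (Steps.fwd (nat_lit 8192) (Steps.bwd (nat_lit 3) (Steps.fwd (nat_lit 8192) (Steps.bwd (nat_lit 3) (Steps.bwd (nat_lit 1) (Steps.fwd (nat_lit 24576) (Steps.fwd (nat_lit 32768) (Steps.fwd (nat_lit 8192) (Steps.bwd (nat_lit 2) Steps.nil))))))))))) (nat_lit 190) (nat_lit 1),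
  Rule.mk (nat_lit 0) (nat_lit 194) (Steps.bwd (nat_lit 15) (Steps.bwd (nat_lit 3) (Steps.bwd (nat_lit 1) (Steps.fwd (nat_lit 32768) (Steps.fwd (nat_lit 16384) (Steps.bwd (nat_lit 1) (Steps.fwd (nat_lit 24576) (Steps.fwd (nat_lit 8192) (Steps.fwd (nat_lit 24576) (Steps.bwd (nat_lit 1) (Steps.fwd (nat_lit 24576) (Steps.bwd (nat_lit 1) Steps.nil)))))))))))) (nat_lit 191) (nat_lit 11),
  Rule.mk (nat_lit 16) (nat_lit 179) (Steps.fwd (nat_lit 8192) (Steps.bwd (nat_lit 3) (Steps.bwd (nat_lit 1) (Steps.bwd (nat_lit 3) (Steps.fwd (nat_lit 8192) (Steps.bwd (nat_lit 3) (Steps.bwd (nat_lit 1) (Steps.fwd (nat_lit 24576) (Steps.fwd (nat_lit 32768) (Steps.fwd (nat_lit 8192) (Steps.bwd (nat_lit 2) Steps.nil))))))))))) (nat_lit 190) (nat_lit 1)]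
noncomputable def R_84 : List (Rule) := [Rule.mk (nat_lit 0) (nat_lit 194) (Steps.bwd (nat_lit 3) (Steps.bwd (nat_lit 1) (Steps.bwd (nat_lit 4) (Steps.fwd (nat_lit 16384) (Steps.bwd (nat_lit 1) (Steps.bwd (nat_lit 2) (Steps.bwd (nat_lit 1) (Steps.fwd (nat_lit 24576) (Steps.bwd (nat_lit 1) (Steps.fwd (nat_lit 24576) (Steps.bwd (nat_lit 1) (Steps.fwd (nat_lit 131072) Steps.nil)))))))))))) (nat_lit 191) (nat_lit 0),
  Rule.mk (nat_lit 15) (nat_lit 179) (Steps.fwd (nat_lit 16384) (Steps.fwd (nat_lit 8192) (Steps.fwd (nat_lit 32768) (Steps.fwd (nat_lit 16384) (Steps.bwd (nat_lit 1) (Steps.fwd (nat_lit 24576) (Steps.bwd (nat_lit 1) (Steps.fwd (nat_lit 24576) (Steps.bwd (nat_lit 1) (Steps.fwd (nat_lit 24576) (Steps.fwd (nat_lit 8192) Steps.nil))))))))))) (nat_lit 191) (nat_lit 0),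
  Rule.mk (nat_lit 0) (nat_lit 194) (Steps.fwd (nat_lit 8192) (Steps.fwd (nat_lit 16384) (Steps.bwd (nat_lit 1) (Steps.bwd (nat_lit 3) (Steps.fwd (nat_lit 8192) (Steps.bwd (nat_lit 3) (Steps.fwd (nat_lit 8192) (Steps.fwd (nat_lit 24576) (Steps.fwd (nat_lit 32768) (Steps.bwd (nat_lit 1) (Steps.fwd (nat_lit 24576) (Steps.fwd (nat_lit 122880) Steps.nil)))))))))))) (nat_lit 190) (nat_lit 1),
  Rule.mk (nat_lit 18) (nat_lit 179) (Steps.bwd (nat_lit 1) (Steps.bwd (nat_lit 3) (Steps.bwd (nat_lit 4) (Steps.bwd (nat_lit 1) (Steps.bwd (nat_lit 2) (Steps.bwd (nat_lit 1) (Steps.fwd (nat_lit 24576) (Steps.bwd (nat_lit 1) (Steps.bwd (nat_lit 3) (Steps.fwd (nat_lit 8192) (Steps.bwd (nat_lit 3) Steps.nil))))))))))) (nat_lit 192) (nat_lit 1),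
  Rule.mk (nat_lit 18) (nat_lit 179) (Steps.fwd (nat_lit 8192) (Steps.bwd (nat_lit 3) (Steps.bwd (nat_lit 4) (Steps.bwd (nat_lit 1) (Steps.fwd (nat_lit 24576) (Steps.bwd (nat_lit 1) (Steps.fwd (nat_lit 24576) (Steps.bwd (nat_lit 1) (Steps.bwd (nat_lit 3) (Steps.bwd (nat_lit 1) (Steps.bwd (nat_lit 3) Steps.nil))))))))))) (nat_lit 192) (nat_lit 1),
  Rule.mk (nat_lit 0) (nat_lit 194) (Steps.bwd (nat_lit 17) (Steps.bwd (nat_lit 2) (Steps.bwd (nat_lit 1) (Steps.fwd (nat_lit 24576) (Steps.bwd (nat_lit 1) (Steps.bwd (nat_lit 3) (Steps.fwd (nat_lit 8192) (Steps.bwd (nat_lit 3) (Steps.bwd (nat_lit 1) (Steps.fwd (nat_lit 32768) (Steps.bwd (nat_lit 2) (Steps.fwd (nat_lit 8192) Steps.nil)))))))))))) (nat_lit 193) (nat_lit 11),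
  Rule.mk (nat_lit 17) (nat_lit 179) (Steps.fwd (nat_lit 24576) (Steps.bwd (nat_lit 1) (Steps.fwd (nat_lit 24576) (Steps.bwd (nat_lit 1) (Steps.bwd (nat_lit 3) (Steps.bwd (nat_lit 1) (Steps.bwd (nat_lit 3) (Steps.fwd (nat_lit 8192) (Steps.bwd (nat_lit 4) (Steps.bwd (nat_lit 2) (Steps.bwd (nat_lit 1) Steps.nil))))))))))) (nat_lit 193) (nat_lit 0),
  Rule.mk (nat_lit 20) (nat_lit 179) (Steps.bwd (nat_lit 1) (Steps.bwd (nat_lit 2) (Steps.bwd (nat_lit 1) (Steps.fwd (nat_lit 24576) (Steps.bwd (nat_lit 1) (Steps.bwd (nat_lit 3) (Steps.fwd (nat_lit 8192) (Steps.bwd (nat_lit 3) (Steps.bwd (nat_lit 1) (Steps.fwd (nat_lit 32768) (Steps.bwd (nat_lit 2) Steps.nil))))))))))) (nat_lit 194) (nat_lit 1),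
  Rule.mk (nat_lit 20) (nat_lit 179) (Steps.bwd (nat_lit 1) (Steps.fwd (nat_lit 24576) (Steps.bwd (nat_lit 1) (Steps.fwd (nat_lit 24576) (Steps.bwd (nat_lit 1) (Steps.bwd (nat_lit 3) (Steps.bwd (nat_lit 1) (Steps.bwd (nat_lit 3) (Steps.fwd (nat_lit 8192) (Steps.bwd (nat_lit 4) (Steps.bwd (nat_lit 2) Steps.nil))))))))))) (nat_lit 194) (nat_lit 1),
  Rule.mk (nat_lit 20) (nat_lit 179) (Steps.bwd (nat_lit 1) (Steps.fwd (nat_lit 24576) (Steps.bwd (nat_lit 1) (Steps.fwd (nat_lit 24576) (Steps.fwd (nat_lit 8192) (Steps.fwd (nat_lit 16384) (Steps.bwd (nat_lit 1) (Steps.bwd (nat_lit 3) (Steps.fwd (nat_lit 8192) (Steps.fwd (nat_lit 32768) (Steps.fwd (nat_lit 24576) Steps.nil))))))))))) (nat_lit 194) (nat_lit 1),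
  Rule.mk (nat_lit 19) (nat_lit 179) (Steps.bwd (nat_lit 3) (Steps.bwd (nat_lit 4) (Steps.bwd (nat_lit 1) (Steps.bwd (nat_lit 2) (Steps.bwd (nat_lit 1) (Steps.fwd (nat_lit 24576) (Steps.bwd (nat_lit 1) (Steps.bwd (nat_lit 3) (Steps.fwd (nat_lit 8192) (Steps.bwd (nat_lit 3) (Steps.bwd (nat_lit 1) Steps.nil))))))))))) (nat_lit 195) (nat_lit 0),
  Rule.mk (nat_lit 0) (nat_lit 194) (Steps.bwd (nat_lit 19) (Steps.bwd (nat_lit 3) (Steps.bwd (nat_lit 4) (Steps.bwd (nat_lit 1) (Steps.fwd (nat_lit 24576) (Steps.bwd (nat_lit 1) (Steps.fwd (nat_lit 24576) (Steps.bwd (nat_lit 1) (Steps.bwd (nat_lit 3) (Steps.bwd (nat_lit 1) (Steps.bwd (nat_lit 3) (Steps.fwd (nat_lit 8192) Steps.nil)))))))))))) (nat_lit 195) (nat_lit 11),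
  Rule.mk (nat_lit 10) (nat_lit 104) (Steps.bwd (nat_lit 3) (Steps.fwd (nat_lit 49152) (Steps.bwd (nat_lit 11) (Steps.fwd (nat_lit 98304) (Steps.bwd (nat_lit 14) (Steps.bwd (nat_lit 2) Steps.nil)))))) (nat_lit 180) (nat_lit 2),
  Rule.mk (nat_lit 14) (nat_lit 119) (Steps.bwd (nat_lit 3) (Steps.fwd (nat_lit 40960) (Steps.bwd (nat_lit 6) (Steps.fwd (nat_lit 57344) (Steps.fwd (nat_lit 98304) (Steps.bwd (nat_lit 14) (Steps.bwd (nat_lit 2) Steps.nil))))))) (nat_lit 188) (nat_lit 2),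
  Rule.mk (nat_lit 13) (nat_lit 134) (Steps.bwd (nat_lit 3) (Steps.bwd (nat_lit 14) (Steps.fwd (nat_lit 106496) (Steps.bwd (nat_lit 12) (Steps.bwd (nat_lit 11) (Steps.fwd (nat_lit 81920) (Steps.fwd (nat_lit 49152) (Steps.fwd (nat_lit 24576) Steps.nil)))))))) (nat_lit 187) (nat_lit 8),
  Rule.mk (nat_lit 5) (nat_lit 149) (Steps.bwd (nat_lit 3) (Steps.bwd (nat_lit 4) (Steps.fwd (nat_lit 40960) (Steps.fwd (nat_lit 65536) (Steps.fwd (nat_lit 73728) (Steps.fwd (nat_lit 98304) (Steps.fwd (nat_lit 106496) (Steps.fwd (nat_lit 114688) (Steps.fwd (nat_lit 24576) Steps.nil))))))))) (nat_lit 170) (nat_lit 2),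
  Rule.mk (nat_lit 6) (nat_lit 164) (Steps.bwd (nat_lit 3) (Steps.bwd (nat_lit 14) (Steps.fwd (nat_lit 106496) (Steps.bwd (nat_lit 12) (Steps.bwd (nat_lit 11) (Steps.fwd (nat_lit 81920) (Steps.bwd (nat_lit 9) (Steps.bwd (nat_lit 6) (Steps.fwd (nat_lit 40960) (Steps.fwd (nat_lit 24576) Steps.nil)))))))))) (nat_lit 173) (nat_lit 10),
  Rule.mk (nat_lit 11) (nat_lit 164) (Steps.bwd (nat_lit 3) (Steps.bwd (nat_lit 4) (Steps.fwd (nat_lit 40960) (Steps.fwd (nat_lit 65536) (Steps.fwd (nat_lit 73728) (Steps.fwd (nat_lit 81920) (Steps.bwd (nat_lit 11) (Steps.bwd (nat_lit 12) (Steps.bwd (nat_lit 14) (Steps.fwd (nat_lit 24576) Steps.nil)))))))))) (nat_lit 182) (nat_lit 2),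
  Rule.mk (nat_lit 1) (nat_lit 179) (Steps.bwd (nat_lit 3) (Steps.fwd (nat_lit 8192) (Steps.bwd (nat_lit 3) (Steps.bwd (nat_lit 1) (Steps.fwd (nat_lit 16384) (Steps.bwd (nat_lit 1) (Steps.fwd (nat_lit 24576) (Steps.bwd (nat_lit 4) (Steps.bwd (nat_lit 1) (Steps.bwd (nat_lit 2) (Steps.fwd (nat_lit 122880) Steps.nil))))))))))) (nat_lit 190) (nat_lit 2),
  Rule.mk (nat_lit 2) (nat_lit 539) (Steps.bwd (nat_lit 1) (Steps.bwd (nat_lit 3) (Steps.fwd (nat_lit 8192) (Steps.bwd (nat_lit 3) (Steps.bwd (nat_lit 1) (Steps.bwd (nat_lit 2) (Steps.fwd (nat_lit 8192) (Steps.bwd (nat_lit 2) (Steps.bwd (nat_lit 1) (Steps.fwd (nat_lit 16384) (Steps.fwd (nat_lit 8192) (Steps.bwd (nat_lit 2) (Steps.fwd (nat_lit 8192) (Steps.bwd (nat_lit 2) (Steps.fwd (nat_lit 8192) (Steps.fwd (nat_lit 16384) (Steps.fwd (nat_lit 8192) (Steps.bwd (nat_lit 2) (Steps.bwd (nat_lit 1) (Steps.bwd (nat_lit 2) (Steps.fwd (nat_lit 8192)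 (Steps.fwd (nat_lit 16384) (Steps.fwd (nat_lit 8192) (Steps.bwd (nat_lit 2) (Steps.fwd (nat_lit 8192) (Steps.fwd (nat_lit 16384) (Steps.fwd (nat_lit 8192) (Steps.bwd (nat_lit 3) (Steps.fwd (nat_lit 8192) (Steps.fwd (nat_lit 24576) (Steps.fwd (nat_lit 8192) (Steps.bwd (nat_lit 3) (Steps.bwd (nat_lit 1) (Steps.bwd (nat_lit 3) (Steps.bwd (nat_lit 1) Steps.nil))))))))))))))))))))))))))))))))))) (nat_lit 12) (nat_lit 32),
  Rule.mk (nat_lit 6) (nat_lit 164) (Steps.fwd (nat_lit 16384) (Steps.fwd (nat_lit 40960) (Steps.fwd (nat_lit 49152) (Steps.fwd (nat_lit 73728) (Steps.bwd (nat_lit 10) (Steps.fwd (nat_lit 90112) (Steps.bwd (nat_lit 12) (Steps.fwd (nat_lit 106496) (Steps.fwd (nat_lit 114688) (Steps.bwd (nat_lit 2) Steps.nil)))))))))) (nat_lit 172) (nat_lit 2),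
  Rule.mk (nat_lit 11) (nat_lit 164) (Steps.fwd (nat_lit 16384) (Steps.fwd (nat_lit 32768) (Steps.fwd (nat_lit 40960) (Steps.bwd (nat_lit 8) (Steps.fwd (nat_lit 73728) (Steps.bwd (nat_lit 10) (Steps.fwd (nat_lit 90112) (Steps.fwd (nat_lit 98304) (Steps.fwd (nat_lit 114688) (Steps.bwd (nat_lit 2) Steps.nil)))))))))) (nat_lit 182) (nat_lit 2),
  Rule.mk (nat_lit 16) (nat_lit 179) (Steps.bwd (nat_lit 1) (Steps.fwd (nat_lit 16384) (Steps.fwd (nat_lit 8192) (Steps.bwd (nat_lit 3) (Steps.fwd (nat_lit 8192) (Steps.bwd (nat_lit 3) (Steps.bwd (nat_lit 1) (Steps.fwd (nat_lit 24576) (Steps.bwd (nat_lit 4) (Steps.bwd (nat_lit 1) (Steps.bwd (nat_lit 2) Steps.nil))))))))))) (nat_lit 190) (nat_lit 1),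
  Rule.mk (nat_lit 16) (nat_lit 179) (Steps.bwd (nat_lit 1) (Steps.fwd (nat_lit 16384) (Steps.fwd (nat_lit 8192) (Steps.bwd (nat_lit 3) (Steps.bwd (nat_lit 1) (Steps.bwd (nat_lit 3) (Steps.bwd (nat_lit 1) (Steps.bwd (nat_lit 2) (Steps.bwd (nat_lit 4) (Steps.bwd (nat_lit 1) (Steps.fwd (nat_lit 24576) Steps.nil))))))))))) (nat_lit 190) (nat_lit 1),
  Rule.mk (nat_lit 15) (nat_lit 179) (Steps.bwd (nat_lit 3) (Steps.bwd (nat_lit 1) (Steps.bwd (nat_lit 4) (Steps.bwd (nat_lit 3) (Steps.bwd (nat_lit 1) (Steps.bwd (nat_lit 2) (Steps.bwd (nat_lit 1) (Steps.fwd (nat_lit 24576) (Steps.fwd (nat_lit 8192) (Steps.fwd (nat_lit 24576) (Steps.bwd (nat_lit 1) Steps.nil))))))))))) (nat_lit 191) (nat_lit 0),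
  Rule.mk (nat_lit 3) (nat_lit 179) (Steps.bwd (nat_lit 18) (Steps.bwd (nat_lit 1) (Steps.bwd (nat_lit 3) (Steps.bwd (nat_lit 4) (Steps.bwd (nat_lit 1) (Steps.bwd (nat_lit 2) (Steps.bwd (nat_lit 1) (Steps.fwd (nat_lit 24576) (Steps.fwd (nat_lit 8192) (Steps.fwd (nat_lit 16384) (Steps.bwd (nat_lit 1) Steps.nil))))))))))) (nat_lit 192) (nat_lit 0),
  Rule.mk (nat_lit 17) (nat_lit 179) (Steps.bwd (nat_lit 2) (Steps.fwd (nat_lit 8192) (Steps.fwd (nat_lit 24576) (Steps.bwd (nat_lit 1) (Steps.bwd (nat_lit 3) (Steps.fwd (nat_lit 8192) (Steps.fwd (nat_lit 16384) (Steps.bwd (nat_lit 1) (Steps.fwd (nat_lit 32768) (Steps.bwd (nat_lit 2) (Steps.bwd (nat_lit 1) Steps.nil))))))))))) (nat_lit 193) (nat_lit 0),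
  Rule.mk (nat_lit 1) (nat_lit 179) (Steps.bwd (nat_lit 19) (Steps.bwd (nat_lit 3) (Steps.bwd (nat_lit 4) (Steps.bwd (nat_lit 1) (Steps.bwd (nat_lit 2) (Steps.bwd (nat_lit 1) (Steps.fwd (nat_lit 24576) (Steps.fwd (nat_lit 8192) (Steps.fwd (nat_lit 16384) (Steps.bwd (nat_lit 1) (Steps.bwd (nat_lit 3) Steps.nil))))))))))) (nat_lit 195) (nat_lit 11),
  Rule.mk (nat_lit 6) (nat_lit 134) (Steps.fwd (nat_lit 81920) (Steps.bwd (nat_lit 11) (Steps.bwd (nat_lit 12) (Steps.fwd (nat_lit 106496) (Steps.bwd (nat_lit 14) (Steps.bwd (nat_lit 2) (Steps.fwd (nat_lit 106496) (Steps.bwd (nat_lit 3) Steps.nil)))))))) (nat_lit 186) (nat_lit 4),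
  Rule.mk (nat_lit 14) (nat_lit 134) (Steps.fwd (nat_lit 106496) (Steps.fwd (nat_lit 98304) (Steps.fwd (nat_lit 90112) (Steps.bwd (nat_lit 10) (Steps.bwd (nat_lit 6) (Steps.bwd (nat_lit 2) (Steps.fwd (nat_lit 106496) (Steps.bwd (nat_lit 3) Steps.nil)))))))) (nat_lit 187) (nat_lit 1),
  Rule.mk (nat_lit 5) (nat_lit 164) (Steps.bwd (nat_lit 6) (Steps.fwd (nat_lit 73728) (Steps.fwd (nat_lit 81920) (Steps.fwd (nat_lit 90112) (Steps.bwd (nat_lit 12) (Steps.bwd (nat_lit 13) (Steps.fwd (nat_lit 114688) (Steps.fwd (nat_lit 24576) (Steps.fwd (nat_lit 49152) (Steps.bwd (nat_lit 3) Steps.nil)))))))))) (nat_lit 172) (nat_lit 4),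
  Rule.mk (nat_lit 18) (nat_lit 179) (Steps.bwd (nat_lit 1) (Steps.bwd (nat_lit 3) (Steps.bwd (nat_lit 4) (Steps.bwd (nat_lit 1) (Steps.fwd (nat_lit 24576) (Steps.bwd (nat_lit 1) (Steps.bwd (nat_lit 2) (Steps.bwd (nat_lit 1) (Steps.fwd (nat_lit 16384) (Steps.fwd (nat_lit 8192) (Steps.bwd (nat_lit 3) Steps.nil))))))))))) (nat_lit 192) (nat_lit 1),
  Rule.mk (nat_lit 19) (nat_lit 179) (Steps.bwd (nat_lit 3) (Steps.bwd (nat_lit 4) (Steps.bwd (nat_lit 1) (Steps.fwd (nat_lit 24576) (Steps.bwd (nat_lit 1) (Steps.bwd (nat_lit 2) (Steps.bwd (nat_lit 1) (Steps.fwd (nat_lit 16384) (Steps.fwd (nat_lit 8192) (Steps.bwd (nat_lit 3) (Steps.fwd (nat_lit 8192) Steps.nil))))))))))) (nat_lit 195) (nat_lit 0),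
  Rule.mk (nat_lit 7) (nat_lit 164) (Steps.fwd (nat_lit 8192) (Steps.bwd (nat_lit 5) (Steps.bwd (nat_lit 6) (Steps.fwd (nat_lit 73728) (Steps.fwd (nat_lit 81920) (Steps.fwd (nat_lit 90112) (Steps.bwd (nat_lit 12) (Steps.bwd (nat_lit 13) (Steps.fwd (nat_lit 114688) (Steps.bwd (nat_lit 1) Steps.nil)))))))))) (nat_lit 152) (nat_lit 2),
  Rule.mk (nat_lit 3) (nat_lit 104) (Steps.fwd (nat_lit 114688) (Steps.fwd (nat_lit 106496) (Steps.bwd (nat_lit 7) (Steps.fwd (nat_lit 40960) (Steps.fwd (nat_lit 24576) (Steps.bwd (nat_lit 7) Steps.nil)))))) (nat_lit 175) (nat_lit 0),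
  Rule.mk (nat_lit 16) (nat_lit 179) (Steps.fwd (nat_lit 8192) (Steps.fwd (nat_lit 16384) (Steps.bwd (nat_lit 1) (Steps.bwd (nat_lit 3) (Steps.bwd (nat_lit 1) (Steps.bwd (nat_lit 3) (Steps.bwd (nat_lit 1) (Steps.fwd (nat_lit 24576) (Steps.fwd (nat_lit 32768) (Steps.fwd (nat_lit 8192) (Steps.bwd (nat_lit 2) Steps.nil))))))))))) (nat_lit 190) (nat_lit 1),
  Rule.mk (nat_lit 16) (nat_lit 179) (Steps.bwd (nat_lit 1) (Steps.bwd (nat_lit 3) (Steps.bwd (nat_lit 1) (Steps.bwd (nat_lit 3) (Steps.bwd (nat_lit 1) (Steps.bwd (nat_lit 3) (Steps.bwd (nat_lit 1) (Steps.fwd (nat_lit 24576) (Steps.bwd (nat_lit 4) (Steps.fwd (nat_lit 8192) (Steps.fwd (nat_lit 24576) Steps.nil))))))))))) (nat_lit 190) (nat_lit 1),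
  Rule.mk (nat_lit 0) (nat_lit 194) (Steps.bwd (nat_lit 15) (Steps.fwd (nat_lit 16384) (Steps.fwd (nat_lit 8192) (Steps.fwd (nat_lit 32768) (Steps.bwd (nat_lit 3) (Steps.fwd (nat_lit 8192) (Steps.bwd (nat_lit 2) (Steps.fwd (nat_lit 8192) (Steps.fwd (nat_lit 24576) (Steps.fwd (nat_lit 8192) (Steps.fwd (nat_lit 24576) (Steps.fwd (nat_lit 8192) Steps.nil)))))))))))) (nat_lit 191) (nat_lit 11),
  Rule.mk (nat_lit 15) (nat_lit 179) (Steps.bwd (nat_lit 3) (Steps.bwd (nat_lit 1) (Steps.bwd (nat_lit 4) (Steps.bwd (nat_lit 3) (Steps.bwd (nat_lit 1) (Steps.fwd (nat_lit 24576) (Steps.fwd (nat_lit 8192) (Steps.bwd (nat_lit 2) (Steps.bwd (nat_lit 1) (Steps.fwd (nat_lit 24576) (Steps.fwd (nat_lit 8192) Steps.nil))))))))))) (nat_lit 191) (nat_lit 0),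
  Rule.mk (nat_lit 18) (nat_lit 179) (Steps.bwd (nat_lit 1) (Steps.bwd (nat_lit 3) (Steps.fwd (nat_lit 32768) (Steps.fwd (nat_lit 8192) (Steps.fwd (nat_lit 24576) (Steps.fwd (nat_lit 8192) (Steps.fwd (nat_lit 24576) (Steps.fwd (nat_lit 8192) (Steps.bwd (nat_lit 3) (Steps.bwd (nat_lit 1) (Steps.fwd (nat_lit 16384) Steps.nil))))))))))) (nat_lit 192) (nat_lit 1),
  Rule.mk (nat_lit 17) (nat_lit 179) (Steps.fwd (nat_lit 24576) (Steps.fwd (nat_lit 8192) (Steps.fwd (nat_lit 24576) (Steps.bwd (nat_lit 1) (Steps.bwd (nat_lit 3) (Steps.bwd (nat_lit 1) (Steps.bwd (nat_lit 3) (Steps.bwd (nat_lit 1) (Steps.bwd (nat_lit 4) (Steps.bwd (nat_lit 2) (Steps.fwd (nat_lit 8192) Steps.nil))))))))))) (nat_lit 193) (nat_lit 0),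
  Rule.mk (nat_lit 17) (nat_lit 179) (Steps.fwd (nat_lit 24576) (Steps.fwd (nat_lit 8192) (Steps.fwd (nat_lit 24576) (Steps.bwd (nat_lit 1) (Steps.bwd (nat_lit 3) (Steps.bwd (nat_lit 1) (Steps.bwd (nat_lit 3) (Steps.bwd (nat_lit 1) (Steps.fwd (nat_lit 32768) (Steps.bwd (nat_lit 2) (Steps.fwd (nat_lit 8192) Steps.nil))))))))))) (nat_lit 193) (nat_lit 0),
  Rule.mk (nat_lit 0) (nat_lit 194) (Steps.bwd (nat_lit 19) (Steps.fwd (nat_lit 16384) (Steps.fwd (nat_lit 32768) (Steps.fwd (nat_lit 8192) (Steps.fwd (nat_lit 24576) (Steps.fwd (nat_lit 8192) (Steps.fwd (nat_lit 24576) (Steps.fwd (nat_lit 8192) (Steps.bwd (nat_lit 3) (Steps.bwd (nat_lit 1) (Steps.bwd (nat_lit 3) (Steps.fwd (nat_lit 8192) Steps.nil)))))))))))) (nat_lit 195) (nat_lit 11),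
  Rule.mk (nat_lit 19) (nat_lit 179) (Steps.fwd (nat_lit 16384) (Steps.fwd (nat_lit 32768) (Steps.bwd (nat_lit 1) (Steps.fwd (nat_lit 24576) (Steps.fwd (nat_lit 8192) (Steps.fwd (nat_lit 24576) (Steps.bwd (nat_lit 1) (Steps.bwd (nat_lit 3) (Steps.bwd (nat_lit 1) (Steps.bwd (nat_lit 3) (Steps.bwd (nat_lit 1) Steps.nil))))))))))) (nat_lit 195) (nat_lit 0),
  Rule.mk (nat_lit 19) (nat_lit 179) (Steps.bwd (nat_lit 3) (Steps.fwd (nat_lit 32768) (Steps.fwd (nat_lit 8192) (Steps.fwd (nat_lit 24576) (Steps.fwd (nat_lit 8192) (Steps.fwd (nat_lit 24576) (Steps.fwd (nat_lit 8192) (Steps.bwd (nat_lit 3) (Steps.bwd (nat_lit 1) (Steps.fwd (nat_lit 16384) (Steps.fwd (nat_lit 8192) Steps.nil))))))))))) (nat_lit 195) (nat_lit 0),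
  Rule.mk (nat_lit 16) (nat_lit 179) (Steps.fwd (nat_lit 8192) (Steps.bwd (nat_lit 3) (Steps.bwd (nat_lit 1) (Steps.bwd (nat_lit 3) (Steps.bwd (nat_lit 1) (Steps.bwd (nat_lit 3) (Steps.bwd (nat_lit 1) (Steps.bwd (nat_lit 2) (Steps.bwd (nat_lit 4) (Steps.fwd (nat_lit 8192) (Steps.fwd (nat_lit 24576) Steps.nil))))))))))) (nat_lit 190) (nat_lit 1),
  Rule.mk (nat_lit 16) (nat_lit 179) (Steps.fwd (nat_lit 8192) (Steps.fwd (nat_lit 16384) (Steps.fwd (nat_lit 8192) (Steps.bwd (nat_lit 3) (Steps.bwd (nat_lit 1) (Steps.fwd (nat_lit 16384) (Steps.fwd (nat_lit 8192) (Steps.fwd (nat_lit 24576) (Steps.bwd (nat_lit 4) (Steps.bwd (nat_lit 1) (Steps.fwd (nat_lit 24576) Steps.nil))))))))))) (nat_lit 190) (nat_lit 1),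
  Rule.mk (nat_lit 15) (nat_lit 179) (Steps.bwd (nat_lit 3) (Steps.bwd (nat_lit 1) (Steps.fwd (nat_lit 32768) (Steps.fwd (nat_lit 16384) (Steps.fwd (nat_lit 8192) (Steps.bwd (nat_lit 2) (Steps.fwd (nat_lit 8192) (Steps.bwd (nat_lit 2) (Steps.fwd (nat_lit 8192) (Steps.bwd (nat_lit 2) (Steps.bwd (nat_lit 1) Steps.nil))))))))))) (nat_lit 191) (nat_lit 0),
  Rule.mk (nat_lit 14) (nat_lit 134) (Steps.bwd (nat_lit 11) (Steps.bwd (nat_lit 9) (Steps.bwd (nat_lit 8) (Steps.fwd (nat_lit 40960) (Steps.bwd (nat_lit 4) (Steps.fwd (nat_lit 8192) (Steps.fwd (nat_lit 81920) (Steps.bwd (nat_lit 1) Steps.nil)))))))) (nat_lit 159) (nat_lit 1),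
  Rule.mk (nat_lit 15) (nat_lit 179) (Steps.bwd (nat_lit 3) (Steps.fwd (nat_lit 8192) (Steps.bwd (nat_lit 4) (Steps.bwd (nat_lit 3) (Steps.fwd (nat_lit 8192) (Steps.bwd (nat_lit 2) (Steps.bwd (nat_lit 1) (Steps.fwd (nat_lit 24576) (Steps.fwd (nat_lit 8192) (Steps.bwd (nat_lit 2) (Steps.fwd (nat_lit 8192) Steps.nil))))))))))) (nat_lit 191) (nat_lit 0),
  Rule.mk (nat_lit 0) (nat_lit 194) (Steps.bwd (nat_lit 18) (Steps.fwd (nat_lit 8192) (Steps.fwd (nat_lit 16384) (Steps.fwd (nat_lit 32768) (Steps.bwd (nat_lit 1) (Steps.fwd (nat_lit 24576) (Steps.fwd (nat_lit 8192) (Steps.fwd (nat_lit 24576) (Steps.bwd (nat_lit 1) (Steps.bwd (nat_lit 3) (Steps.fwd (nat_lit 8192) (Steps.fwd (nat_lit 16384) Steps.nil)))))))))))) (nat_lit 192) (nat_lit 0),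
  Rule.mk (nat_lit 20) (nat_lit 179) (Steps.bwd (nat_lit 1) (Steps.bwd (nat_lit 2) (Steps.bwd (nat_lit 1) (Steps.fwd (nat_lit 24576) (Steps.fwd (nat_lit 8192) (Steps.bwd (nat_lit 3) (Steps.bwd (nat_lit 1) (Steps.bwd (nat_lit 3) (Steps.fwd (nat_lit 8192) (Steps.bwd (nat_lit 4) (Steps.bwd (nat_lit 2) Steps.nil))))))))))) (nat_lit 194) (nat_lit 1),
  Rule.mk (nat_lit 0) (nat_lit 194) (Steps.bwd (nat_lit 15) (Steps.bwd (nat_lit 3) (Steps.bwd (nat_lit 1) (Steps.fwd (nat_lit 32768) (Steps.fwd (nat_lit 16384) (Steps.fwd (nat_lit 8192) (Steps.fwd (nat_lit 24576) (Steps.bwd (nat_lit 1) (Steps.fwd (nat_lit 24576) (Steps.fwd (nat_lit 8192) (Steps.bwd (nat_lit 2) (Steps.fwd (nat_lit 8192) Steps.nil)))))))))))) (nat_lit 191) (nat_lit 11),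
  Rule.mk (nat_lit 15) (nat_lit 179) (Steps.bwd (nat_lit 3) (Steps.fwd (nat_lit 8192) (Steps.bwd (nat_lit 4) (Steps.fwd (nat_lit 16384) (Steps.bwd (nat_lit 1) (Steps.fwd (nat_lit 24576) (Steps.fwd (nat_lit 8192) (Steps.bwd (nat_lit 2) (Steps.fwd (nat_lit 8192) (Steps.bwd (nat_lit 2) (Steps.fwd (nat_lit 8192) Steps.nil))))))))))) (nat_lit 191) (nat_lit 0),
  Rule.mk (nat_lit 18) (nat_lit 179) (Steps.fwd (nat_lit 8192) (Steps.bwd (nat_lit 3) (Steps.bwd (nat_lit 4) (Steps.bwd (nat_lit 1) (Steps.fwd (nat_lit 24576) (Steps.fwd (nat_lit 8192) (Steps.bwd (nat_lit 2) (Steps.fwd (nat_lit 8192) (Steps.bwd (nat_lit 3) (Steps.fwd (nat_lit 8192) (Steps.fwd (nat_lit 16384) Steps.nil))))))))))) (nat_lit 192) (nat_lit 1),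
  Rule.mk (nat_lit 17) (nat_lit 179) (Steps.fwd (nat_lit 24576) (Steps.fwd (nat_lit 8192) (Steps.bwd (nat_lit 2) (Steps.fwd (nat_lit 8192) (Steps.bwd (nat_lit 3) (Steps.fwd (nat_lit 8192) (Steps.fwd (nat_lit 16384) (Steps.bwd (nat_lit 1) (Steps.fwd (nat_lit 32768) (Steps.fwd (nat_lit 24576) (Steps.fwd (nat_lit 8192) Steps.nil))))))))))) (nat_lit 193) (nat_lit 0),
  Rule.mk (nat_lit 17) (nat_lit 179) (Steps.bwd (nat_lit 2) (Steps.fwd (nat_lit 8192) (Steps.bwd (nat_lit 2) (Steps.fwd (nat_lit 8192) (Steps.bwd (nat_lit 3) (Steps.bwd (nat_lit 1) (Steps.fwd (nat_lit 16384) (Steps.bwd (nat_lit 1) (Steps.fwd (nat_lit 32768) (Steps.bwd (nat_lit 2) (Steps.fwd (nat_lit 8192) Steps.nil))))))))))) (nat_lit 193) (nat_lit 0),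
  Rule.mk (nat_lit 0) (nat_lit 194) (Steps.bwd (nat_lit 1) (Steps.fwd (nat_lit 24576) (Steps.fwd (nat_lit 8192) (Steps.bwd (nat_lit 2) (Steps.fwd (nat_lit 8192) (Steps.bwd (nat_lit 3) (Steps.fwd (nat_lit 8192) (Steps.fwd (nat_lit 16384) (Steps.bwd (nat_lit 1) (Steps.fwd (nat_lit 32768) (Steps.fwd (nat_lit 24576) (Steps.fwd (nat_lit 155648) Steps.nil)))))))))))) (nat_lit 194) (nat_lit 1),
  Rule.mk (nat_lit 20) (nat_lit 179) (Steps.fwd (nat_lit 8192) (Steps.bwd (nat_lit 2) (Steps.fwd (nat_lit 8192) (Steps.bwd (nat_lit 2) (Steps.fwd (nat_lit 8192) (Steps.bwd (nat_lit 3) (Steps.bwd (nat_lit 1) (Steps.fwd (nat_lit 16384) (Steps.bwd (nat_lit 1) (Steps.fwd (nat_lit 32768) (Steps.bwd (nat_lit 2) Steps.nil))))))))))) (nat_lit 194) (nat_lit 1),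
  Rule.mk (nat_lit 0) (nat_lit 194) (Steps.bwd (nat_lit 20) (Steps.fwd (nat_lit 8192) (Steps.bwd (nat_lit 2) (Steps.bwd (nat_lit 1) (Steps.fwd (nat_lit 24576) (Steps.bwd (nat_lit 1) (Steps.fwd (nat_lit 16384) (Steps.bwd (nat_lit 1) (Steps.bwd (nat_lit 3) (Steps.bwd (nat_lit 1) (Steps.fwd (nat_lit 32768) (Steps.fwd (nat_lit 24576) Steps.nil)))))))))))) (nat_lit 194) (nat_lit 0),
  Rule.mk (nat_lit 20) (nat_lit 179) (Steps.bwd (nat_lit 1) (Steps.fwd (nat_lit 24576) (Steps.fwd (nat_lit 8192) (Steps.fwd (nat_lit 24576) (Steps.bwd (nat_lit 1) (Steps.bwd (nat_lit 3) (Steps.fwd (nat_lit 8192) (Steps.fwd (nat_lit 16384) (Steps.fwd (nat_lit 8192) (Steps.bwd (nat_lit 4) (Steps.fwd (nat_lit 24576) Steps.nil))))))))))) (nat_lit 194) (nat_lit 1),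
  Rule.mk (nat_lit 18) (nat_lit 179) (Steps.fwd (nat_lit 8192) (Steps.bwd (nat_lit 3) (Steps.fwd (nat_lit 32768) (Steps.bwd (nat_lit 1) (Steps.bwd (nat_lit 2) (Steps.bwd (nat_lit 1) (Steps.fwd (nat_lit 24576) (Steps.fwd (nat_lit 8192) (Steps.bwd (nat_lit 3) (Steps.bwd (nat_lit 1) (Steps.bwd (nat_lit 3) Steps.nil))))))))))) (nat_lit 192) (nat_lit 1),
  Rule.mk (nat_lit 1) (nat_lit 134) (Steps.bwd (nat_lit 10) (Steps.bwd (nat_lit 1) (Steps.fwd (nat_lit 32768) (Steps.fwd (nat_lit 40960) (Steps.bwd (nat_lit 8) (Steps.fwd (nat_lit 73728) (Steps.fwd (nat_lit 90112) (Steps.bwd (nat_lit 14) Steps.nil)))))))) (nat_lit 158) (nat_lit 1),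
  Rule.mk (nat_lit 2) (nat_lit 539) (Steps.bwd (nat_lit 1) (Steps.bwd (nat_lit 3) (Steps.fwd (nat_lit 8192) (Steps.fwd (nat_lit 24576) (Steps.bwd (nat_lit 1) (Steps.fwd (nat_lit 16384) (Steps.fwd (nat_lit 8192) (Steps.fwd (nat_lit 16384) (Steps.bwd (nat_lit 1) (Steps.fwd (nat_lit 24576) (Steps.bwd (nat_lit 1) (Steps.fwd (nat_lit 16384) (Steps.bwd (nat_lit 1) (Steps.bwd (nat_lit 3) (Steps.bwd (nat_lit 1) (Steps.fwd (nat_lit 24576) (Steps.bwd (nat_lit 1) (Steps.fwd (nat_lit 16384) (Steps.bwd (nat_lit 1) (Steps.fwd (nat_lit 16384) (Steps.fwd (nat_lit 8192) (Steps.fwd (nat_lit 24576) (Steps.fwd (nat_lit 8192) (Steps.fwd (nat_lit 24576) (Steps.bwd (nat_lit 1) (Steps.bwd (nat_lit 3) (Steps.fwd (nat_lit 8192) (Steps.fwd (nat_lit 24576) (Steps.fwd (nat_lit 8192) (Steps.bwd (nat_lit 2) (Steps.bwd (nat_lit 1) (Steps.bwd (nat_lit 3) (Steps.fwd (nat_lit 8192) (Steps.fwd (nat_lit 24576) (Steps.bwd (nat_lit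 1) Steps.nil))))))))))))))))))))))))))))))))))) (nat_lit 12) (nat_lit 16)]
noncomputable def R_85 : List (Rule) := [Rule.mk (nat_lit 16) (nat_lit 179) (Steps.bwd (nat_lit 1) (Steps.bwd (nat_lit 3) (Steps.fwd (nat_lit 8192) (Steps.fwd (nat_lit 16384) (Steps.fwd (nat_lit 8192) (Steps.bwd (nat_lit 3) (Steps.bwd (nat_lit 1) (Steps.fwd (nat_lit 24576) (Steps.bwd (nat_lit 4) (Steps.bwd (nat_lit 1) (Steps.fwd (nat_lit 24576) Steps.nil))))))))))) (nat_lit 190) (nat_lit 1),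
  Rule.mk (nat_lit 0) (nat_lit 194) (Steps.bwd (nat_lit 3) (Steps.fwd (nat_lit 8192) (Steps.bwd (nat_lit 4) (Steps.fwd (nat_lit 16384) (Steps.fwd (nat_lit 8192) (Steps.bwd (nat_lit 2) (Steps.fwd (nat_lit 8192) (Steps.fwd (nat_lit 24576) (Steps.bwd (nat_lit 1) (Steps.bwd (nat_lit 2) (Steps.bwd (nat_lit 1) (Steps.fwd (nat_lit 131072) Steps.nil)))))))))))) (nat_lit 191) (nat_lit 0),
  Rule.mk (nat_lit 18) (nat_lit 179) (Steps.bwd (nat_lit 1) (Steps.fwd (nat_lit 16384) (Steps.bwd (nat_lit 4) (Steps.bwd (nat_lit 1) (Steps.fwd (nat_lit 24576) (Steps.bwd (nat_lit 1) (Steps.fwd (nat_lit 24576) (Steps.fwd (nat_lit 8192) (Steps.fwd (nat_lit 16384) (Steps.fwd (nat_lit 8192) (Steps.bwd (nat_lit 3) Steps.nil))))))))))) (nat_lit 192) (nat_lit 1),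
  Rule.mk (nat_lit 17) (nat_lit 179) (Steps.bwd (nat_lit 2) (Steps.fwd (nat_lit 8192) (Steps.fwd (nat_lit 24576) (Steps.bwd (nat_lit 1) (Steps.bwd (nat_lit 3) (Steps.fwd (nat_lit 8192) (Steps.fwd (nat_lit 16384) (Steps.fwd (nat_lit 8192) (Steps.fwd (nat_lit 32768) (Steps.bwd (nat_lit 2) (Steps.fwd (nat_lit 8192) Steps.nil))))))))))) (nat_lit 193) (nat_lit 0),
  Rule.mk (nat_lit 17) (nat_lit 179) (Steps.fwd (nat_lit 24576) (Steps.bwd (nat_lit 1) (Steps.fwd (nat_lit 24576) (Steps.fwd (nat_lit 8192) (Steps.fwd (nat_lit 16384) (Steps.fwd (nat_lit 8192) (Steps.bwd (nat_lit 3) (Steps.bwd (nat_lit 1) (Steps.fwd (nat_lit 32768) (Steps.fwd (nat_lit 24576) (Steps.bwd (nat_lit 1) Steps.nil))))))))))) (nat_lit 193) (nat_lit 0),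
  Rule.mk (nat_lit 20) (nat_lit 179) (Steps.bwd (nat_lit 1) (Steps.fwd (nat_lit 24576) (Steps.bwd (nat_lit 1) (Steps.fwd (nat_lit 24576) (Steps.fwd (nat_lit 8192) (Steps.fwd (nat_lit 16384) (Steps.fwd (nat_lit 8192) (Steps.bwd (nat_lit 3) (Steps.bwd (nat_lit 1) (Steps.fwd (nat_lit 32768) (Steps.fwd (nat_lit 24576) Steps.nil))))))))))) (nat_lit 194) (nat_lit 1),
  Rule.mk (nat_lit 2) (nat_lit 164) (Steps.bwd (nat_lit 11) (Steps.fwd (nat_lit 16384) (Steps.fwd (nat_lit 114688) (Steps.fwd (nat_lit 98304) (Steps.bwd (nat_lit 11) (Steps.bwd (nat_lit 10) (Steps.fwd (nat_lit 73728) (Steps.fwd (nat_lit 65536) (Steps.fwd (nat_lit 40960) (Steps.fwd (nat_lit 32768) Steps.nil)))))))))) (nat_lit 183) (nat_lit 9),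
  Rule.mk (nat_lit 16) (nat_lit 179) (Steps.fwd (nat_lit 8192) (Steps.fwd (nat_lit 16384) (Steps.fwd (nat_lit 8192) (Steps.fwd (nat_lit 16384) (Steps.fwd (nat_lit 8192) (Steps.bwd (nat_lit 3) (Steps.fwd (nat_lit 8192) (Steps.bwd (nat_lit 2) (Steps.bwd (nat_lit 4) (Steps.bwd (nat_lit 1) (Steps.bwd (nat_lit 2) Steps.nil))))))))))) (nat_lit 190) (nat_lit 1),
  Rule.mk (nat_lit 16) (nat_lit 179) (Steps.fwd (nat_lit 8192) (Steps.fwd (nat_lit 16384) (Steps.fwd (nat_lit 8192) (Steps.bwd (nat_lit 3) (Steps.fwd (nat_lit 8192) (Steps.bwd (nat_lit 3) (Steps.bwd (nat_lit 1) (Steps.bwd (nat_lit 2) (Steps.fwd (nat_lit 32768) (Steps.fwd (nat_lit 8192) (Steps.fwd (nat_lit 24576) Steps.nil))))))))))) (nat_lit 190) (nat_lit 1),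
  Rule.mk (nat_lit 20) (nat_lit 179) (Steps.bwd (nat_lit 1) (Steps.bwd (nat_lit 2) (Steps.bwd (nat_lit 1) (Steps.fwd (nat_lit 24576) (Steps.fwd (nat_lit 8192) (Steps.bwd (nat_lit 3) (Steps.fwd (nat_lit 8192) (Steps.bwd (nat_lit 3) (Steps.bwd (nat_lit 1) (Steps.fwd (nat_lit 32768) (Steps.bwd (nat_lit 2) Steps.nil))))))))))) (nat_lit 194) (nat_lit 1),
  Rule.mk (nat_lit 0) (nat_lit 194) (Steps.bwd (nat_lit 1) (Steps.fwd (nat_lit 16384) (Steps.fwd (nat_lit 32768) (Steps.fwd (nat_lit 8192) (Steps.fwd (nat_lit 24576) (Steps.bwd (nat_lit 1) (Steps.fwd (nat_lit 24576) (Steps.bwd (nat_lit 1) (Steps.bwd (nat_lit 3) (Steps.fwd (nat_lit 8192) (Steps.fwd (nat_lit 16384) (Steps.fwd (nat_lit 139264) Steps.nil)))))))))))) (nat_lit 192) (nat_lit 1),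
  Rule.mk (nat_lit 17) (nat_lit 179) (Steps.bwd (nat_lit 2) (Steps.bwd (nat_lit 1) (Steps.fwd (nat_lit 24576) (Steps.bwd (nat_lit 1) (Steps.bwd (nat_lit 3) (Steps.fwd (nat_lit 8192) (Steps.bwd (nat_lit 3) (Steps.fwd (nat_lit 8192) (Steps.bwd (nat_lit 4) (Steps.fwd (nat_lit 24576) (Steps.fwd (nat_lit 8192) Steps.nil))))))))))) (nat_lit 193) (nat_lit 0),
  Rule.mk (nat_lit 20) (nat_lit 179) (Steps.fwd (nat_lit 8192) (Steps.bwd (nat_lit 2) (Steps.bwd (nat_lit 1) (Steps.fwd (nat_lit 24576) (Steps.fwd (nat_lit 8192) (Steps.bwd (nat_lit 3) (Steps.fwd (nat_lit 8192) (Steps.bwd (nat_lit 3) (Steps.bwd (nat_lit 1) (Steps.bwd (nat_lit 4) (Steps.bwd (nat_lit 2) Steps.nil))))))))))) (nat_lit 194) (nat_lit 1),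
  Rule.mk (nat_lit 1) (nat_lit 134) (Steps.bwd (nat_lit 10) (Steps.bwd (nat_lit 1) (Steps.bwd (nat_lit 4) (Steps.fwd (nat_lit 40960) (Steps.fwd (nat_lit 65536) (Steps.fwd (nat_lit 73728) (Steps.fwd (nat_lit 90112) (Steps.fwd (nat_lit 114688) Steps.nil)))))))) (nat_lit 158) (nat_lit 1),
  Rule.mk (nat_lit 0) (nat_lit 194) (Steps.bwd (nat_lit 16) (Steps.fwd (nat_lit 8192) (Steps.bwd (nat_lit 3) (Steps.bwd (nat_lit 1) (Steps.bwd (nat_lit 3) (Steps.bwd (nat_lit 1) (Steps.fwd (nat_lit 16384) (Steps.fwd (nat_lit 8192) (Steps.fwd (nat_lit 24576) (Steps.fwd (nat_lit 32768) (Steps.fwd (nat_lit 8192) (Steps.fwd (nat_lit 24576) Steps.nil)))))))))))) (nat_lit 190) (nat_lit 0),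
  Rule.mk (nat_lit 15) (nat_lit 179) (Steps.bwd (nat_lit 3) (Steps.fwd (nat_lit 8192) (Steps.fwd (nat_lit 32768) (Steps.fwd (nat_lit 16384) (Steps.bwd (nat_lit 1) (Steps.fwd (nat_lit 24576) (Steps.bwd (nat_lit 1) (Steps.fwd (nat_lit 24576) (Steps.bwd (nat_lit 1) (Steps.fwd (nat_lit 24576) (Steps.bwd (nat_lit 1) Steps.nil))))))))))) (nat_lit 191) (nat_lit 0),
  Rule.mk (nat_lit 0) (nat_lit 194) (Steps.bwd (nat_lit 2) (Steps.bwd (nat_lit 1) (Steps.bwd (nat_lit 2) (Steps.fwd (nat_lit 8192) (Steps.bwd (nat_lit 3) (Steps.fwd (nat_lit 8192) (Steps.bwd (nat_lit 3) (Steps.fwd (nat_lit 8192) (Steps.bwd (nat_lit 4) (Steps.fwd (nat_lit 24576) (Steps.fwd (nat_lit 8192) (Steps.fwd (nat_lit 147456) Steps.nil)))))))))))) (nat_lit 193) (nat_lit 0),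
  Rule.mk (nat_lit 17) (nat_lit 179) (Steps.bwd (nat_lit 2) (Steps.bwd (nat_lit 1) (Steps.bwd (nat_lit 2) (Steps.fwd (nat_lit 8192) (Steps.bwd (nat_lit 3) (Steps.bwd (nat_lit 1) (Steps.bwd (nat_lit 3) (Steps.bwd (nat_lit 1) (Steps.fwd (nat_lit 32768) (Steps.fwd (nat_lit 24576) (Steps.bwd (nat_lit 1) Steps.nil))))))))))) (nat_lit 193) (nat_lit 0),
  Rule.mk (nat_lit 17) (nat_lit 179) (Steps.bwd (nat_lit 2) (Steps.bwd (nat_lit 1) (Steps.fwd (nat_lit 24576) (Steps.bwd (nat_lit 1) (Steps.bwd (nat_lit 3) (Steps.bwd (nat_lit 1) (Steps.fwd (nat_lit 16384) (Steps.fwd (nat_lit 8192) (Steps.bwd (nat_lit 4) (Steps.fwd (nat_lit 24576) (Steps.fwd (nat_lit 8192) Steps.nil))))))))))) (nat_lit 193) (nat_lit 0),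
  Rule.mk (nat_lit 0) (nat_lit 194) (Steps.bwd (nat_lit 19) (Steps.bwd (nat_lit 3) (Steps.fwd (nat_lit 32768) (Steps.bwd (nat_lit 1) (Steps.bwd (nat_lit 2) (Steps.fwd (nat_lit 8192) (Steps.fwd (nat_lit 24576) (Steps.fwd (nat_lit 8192) (Steps.bwd (nat_lit 3) (Steps.fwd (nat_lit 8192) (Steps.fwd (nat_lit 16384) (Steps.bwd (nat_lit 1) Steps.nil)))))))))))) (nat_lit 195) (nat_lit 11),
  Rule.mk (nat_lit 0) (nat_lit 194) (Steps.bwd (nat_lit 19) (Steps.bwd (nat_lit 3) (Steps.bwd (nat_lit 4) (Steps.fwd (nat_lit 8192) (Steps.bwd (nat_lit 2) (Steps.bwd (nat_lit 1) (Steps.fwd (nat_lit 24576) (Steps.bwd (nat_lit 1) (Steps.bwd (nat_lit 3) (Steps.bwd (nat_lit 1) (Steps.fwd (nat_lit 16384) (Steps.fwd (nat_lit 8192) Steps.nil)))))))))))) (nat_lit 195) (nat_lit 11),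
  Rule.mk (nat_lit 19) (nat_lit 179) (Steps.bwd (nat_lit 3) (Steps.fwd (nat_lit 32768) (Steps.bwd (nat_lit 1) (Steps.fwd (nat_lit 24576) (Steps.bwd (nat_lit 1) (Steps.fwd (nat_lit 24576) (Steps.bwd (nat_lit 1) (Steps.fwd (nat_lit 16384) (Steps.fwd (nat_lit 8192) (Steps.bwd (nat_lit 3) (Steps.fwd (nat_lit 8192) Steps.nil))))))))))) (nat_lit 195) (nat_lit 0),
  Rule.mk (nat_lit 2) (nat_lit 539) (Steps.bwd (nat_lit 1) (Steps.bwd (nat_lit 3) (Steps.bwd (nat_lit 1) (Steps.bwd (nat_lit 3) (Steps.fwd (nat_lit 8192) (Steps.fwd (nat_lit 24576) (Steps.bwd (nat_lit 1) (Steps.fwd (nat_lit 24576) (Steps.fwd (nat_lit 8192) (Steps.bwd (nat_lit 3) (Steps.bwd (nat_lit 1) (Steps.bwd (nat_lit 2) (Steps.bwd (nat_lit 1) (Steps.fwd (nat_lit 24576) (Steps.fwd (nat_lit 8192) (Steps.fwd (nat_lit 16384) (Steps.fwd (nat_lit 8192) (Steps.fwd (nat_lit 24576) (Steps.bwd (nat_lit 1) (Steps.fwd (nat_lit 24576) (Steps.fwd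 (nat_lit 8192) (Steps.bwd (nat_lit 3) (Steps.bwd (nat_lit 1) (Steps.fwd (nat_lit 24576) (Steps.bwd (nat_lit 1) (Steps.fwd (nat_lit 16384) (Steps.fwd (nat_lit 8192) (Steps.bwd (nat_lit 3) (Steps.bwd (nat_lit 1) (Steps.bwd (nat_lit 2) (Steps.fwd (nat_lit 8192) (Steps.bwd (nat_lit 3) (Steps.bwd (nat_lit 1) (Steps.bwd (nat_lit 3) (Steps.bwd (nat_lit 1) Steps.nil))))))))))))))))))))))))))))))))))) (nat_lit 12) (nat_lit 32),
  Rule.mk (nat_lit 16) (nat_lit 179) (Steps.fwd (nat_lit 8192) (Steps.fwd (nat_lit 16384) (Steps.fwd (nat_lit 8192) (Steps.fwd (nat_lit 16384) (Steps.fwd (nat_lit 8192) (Steps.bwd (nat_lit 3) (Steps.fwd (nat_lit 8192) (Steps.fwd (nat_lit 24576) (Steps.bwd (nat_lit 4) (Steps.bwd (nat_lit 1) (Steps.fwd (nat_lit 24576) Steps.nil))))))))))) (nat_lit 190) (nat_lit 1),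
  Rule.mk (nat_lit 16) (nat_lit 179) (Steps.fwd (nat_lit 8192) (Steps.fwd (nat_lit 16384) (Steps.fwd (nat_lit 8192) (Steps.bwd (nat_lit 3) (Steps.fwd (nat_lit 8192) (Steps.bwd (nat_lit 3) (Steps.fwd (nat_lit 8192) (Steps.fwd (nat_lit 24576) (Steps.bwd (nat_lit 4) (Steps.fwd (nat_lit 8192) (Steps.fwd (nat_lit 24576) Steps.nil))))))))))) (nat_lit 190) (nat_lit 1),
  Rule.mk (nat_lit 0) (nat_lit 194) (Steps.bwd (nat_lit 16) (Steps.fwd (nat_lit 8192) (Steps.fwd (nat_lit 16384) (Steps.fwd (nat_lit 8192) (Steps.bwd (nat_lit 3) (Steps.bwd (nat_lit 1) (Steps.bwd (nat_lit 3) (Steps.bwd (nat_lit 1) (Steps.bwd (nat_lit 2) (Steps.fwd (nat_lit 32768) (Steps.bwd (nat_lit 1) (Steps.fwd (nat_lit 24576) Steps.nil)))))))))))) (nat_lit 190) (nat_lit 0),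
  Rule.mk (nat_lit 0) (nat_lit 194) (Steps.bwd (nat_lit 18) (Steps.fwd (nat_lit 8192) (Steps.bwd (nat_lit 3) (Steps.fwd (nat_lit 32768) (Steps.bwd (nat_lit 1) (Steps.fwd (nat_lit 24576) (Steps.fwd (nat_lit 8192) (Steps.fwd (nat_lit 24576) (Steps.fwd (nat_lit 8192) (Steps.fwd (nat_lit 16384) (Steps.fwd (nat_lit 8192) (Steps.bwd (nat_lit 3) Steps.nil)))))))))))) (nat_lit 192) (nat_lit 0),
  Rule.mk (nat_lit 17) (nat_lit 179) (Steps.fwd (nat_lit 24576) (Steps.fwd (nat_lit 8192) (Steps.fwd (nat_lit 24576) (Steps.fwd (nat_lit 8192) (Steps.fwd (nat_lit 16384) (Steps.fwd (nat_lit 8192) (Steps.bwd (nat_lit 3) (Steps.fwd (nat_lit 8192) (Steps.bwd (nat_lit 4) (Steps.fwd (nat_lit 24576) (Steps.bwd (nat_lit 1) Steps.nil))))))))))) (nat_lit 193) (nat_lit 0),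
  Rule.mk (nat_lit 0) (nat_lit 194) (Steps.bwd (nat_lit 20) (Steps.bwd (nat_lit 1) (Steps.fwd (nat_lit 24576) (Steps.fwd (nat_lit 8192) (Steps.fwd (nat_lit 24576) (Steps.fwd (nat_lit 8192) (Steps.fwd (nat_lit 16384) (Steps.fwd (nat_lit 8192) (Steps.fwd (nat_lit 16384) (Steps.fwd (nat_lit 8192) (Steps.fwd (nat_lit 32768) (Steps.fwd (nat_lit 24576) Steps.nil)))))))))))) (nat_lit 194) (nat_lit 0),
  Rule.mk (nat_lit 20) (nat_lit 179) (Steps.bwd (nat_lit 1) (Steps.fwd (nat_lit 24576) (Steps.fwd (nat_lit 8192) (Steps.fwd (nat_lit 24576) (Steps.fwd (nat_lit 8192) (Steps.fwd (nat_lit 16384) (Steps.fwd (nat_lit 8192) (Steps.bwd (nat_lit 3) (Steps.fwd (nat_lit 8192) (Steps.bwd (nat_lit 4) (Steps.fwd (nat_lit 24576) Steps.nil))))))))))) (nat_lit 194) (nat_lit 1),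
  Rule.mk (nat_lit 19) (nat_lit 179) (Steps.bwd (nat_lit 3) (Steps.bwd (nat_lit 4) (Steps.bwd (nat_lit 1) (Steps.fwd (nat_lit 24576) (Steps.fwd (nat_lit 8192) (Steps.fwd (nat_lit 24576) (Steps.fwd (nat_lit 8192) (Steps.fwd (nat_lit 16384) (Steps.fwd (nat_lit 8192) (Steps.fwd (nat_lit 16384) (Steps.fwd (nat_lit 8192) Steps.nil))))))))))) (nat_lit 195) (nat_lit 0),
  Rule.mk (nat_lit 0) (nat_lit 194) (Steps.bwd (nat_lit 20) (Steps.bwd (nat_lit 1) (Steps.fwd (nat_lit 24576) (Steps.bwd (nat_lit 1) (Steps.bwd (nat_lit 2) (Steps.bwd (nat_lit 1) (Steps.bwd (nat_lit 3) (Steps.bwd (nat_lit 1) (Steps.bwd (nat_lit 3) (Steps.fwd (nat_lit 8192) (Steps.bwd (nat_lit 4) (Steps.fwd (nat_lit 24576) Steps.nil)))))))))))) (nat_lit 194) (nat_lit 0),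
  Rule.mk (nat_lit 17) (nat_lit 179) (Steps.bwd (nat_lit 2) (Steps.bwd (nat_lit 1) (Steps.bwd (nat_lit 2) (Steps.bwd (nat_lit 1) (Steps.bwd (nat_lit 3) (Steps.bwd (nat_lit 1) (Steps.bwd (nat_lit 3) (Steps.fwd (nat_lit 8192) (Steps.fwd (nat_lit 32768) (Steps.fwd (nat_lit 24576) (Steps.bwd (nat_lit 1) Steps.nil))))))))))) (nat_lit 193) (nat_lit 0),
  Rule.mk (nat_lit 16) (nat_lit 179) (Steps.fwd (nat_lit 8192) (Steps.bwd (nat_lit 3) (Steps.fwd (nat_lit 8192) (Steps.bwd (nat_lit 3) (Steps.bwd (nat_lit 1) (Steps.fwd (nat_lit 16384) (Steps.bwd (nat_lit 1) (Steps.fwd (nat_lit 24576) (Steps.fwd (nat_lit 32768) (Steps.bwd (nat_lit 1) (Steps.bwd (nat_lit 2) Steps.nil))))))))))) (nat_lit 190) (nat_lit 1),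
  Rule.mk (nat_lit 2) (nat_lit 179) (Steps.bwd (nat_lit 20) (Steps.bwd (nat_lit 1) (Steps.bwd (nat_lit 2) (Steps.fwd (nat_lit 8192) (Steps.bwd (nat_lit 2) (Steps.fwd (nat_lit 8192) (Steps.fwd (nat_lit 16384) (Steps.fwd (nat_lit 8192) (Steps.bwd (nat_lit 3) (Steps.fwd (nat_lit 8192) (Steps.bwd (nat_lit 4) Steps.nil))))))))))) (nat_lit 194) (nat_lit 0),
  Rule.mk (nat_lit 9) (nat_lit 134) (Steps.bwd (nat_lit 3) (Steps.bwd (nat_lit 4) (Steps.fwd (nat_lit 40960) (Steps.bwd (nat_lit 8) (Steps.bwd (nat_lit 9) (Steps.fwd (nat_lit 90112) (Steps.bwd (nat_lit 14) (Steps.bwd (nat_lit 2) Steps.nil)))))))) (nat_lit 178) (nat_lit 2),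
  Rule.mk (nat_lit 5) (nat_lit 149) (Steps.fwd (nat_lit 16384) (Steps.fwd (nat_lit 32768) (Steps.fwd (nat_lit 40960) (Steps.fwd (nat_lit 65536) (Steps.bwd (nat_lit 9) (Steps.fwd (nat_lit 98304) (Steps.fwd (nat_lit 106496) (Steps.bwd (nat_lit 14) (Steps.bwd (nat_lit 2) Steps.nil))))))))) (nat_lit 170) (nat_lit 2),
  Rule.mk (nat_lit 1) (nat_lit 539) (Steps.fwd (nat_lit 16384) (Steps.fwd (nat_lit 8192) (Steps.bwd (nat_lit 3) (Steps.bwd (nat_lit 1) (Steps.bwd (nat_lit 2) (Steps.bwd (nat_lit 1) (Steps.bwd (nat_lit 2) (Steps.bwd (nat_lit 1) (Steps.bwd (nat_lit 3) (Steps.bwd (nat_lit 1) (Steps.fwd (nat_lit 24576) (Steps.bwd (nat_lit 1) (Steps.fwd (nat_lit 24576) (Steps.fwd (nat_lit 8192) (Steps.bwd (nat_lit 3) (Steps.bwd (nat_lit 1) (Steps.fwd (nat_lit 24576) (Steps.fwd (nat_lit 8192) (Steps.fwd (nat_lit 24576) (Steps.bwd (nat_lit 1) (Steps.bwd (nat_lit 3) (Steps.fwd (nat_lit 8192) (Steps.bwd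 (nat_lit 2) (Steps.fwd (nat_lit 8192) (Steps.bwd (nat_lit 3) (Steps.bwd (nat_lit 1) (Steps.fwd (nat_lit 16384) (Steps.fwd (nat_lit 8192) (Steps.bwd (nat_lit 2) (Steps.fwd (nat_lit 8192) (Steps.bwd (nat_lit 3) (Steps.fwd (nat_lit 8192) (Steps.bwd (nat_lit 3) (Steps.bwd (nat_lit 1) (Steps.bwd (nat_lit 2) Steps.nil))))))))))))))))))))))))))))))))))) (nat_lit 12) (nat_lit 33),
  Rule.mk (nat_lit 14) (nat_lit 104) (Steps.bwd (nat_lit 1) (Steps.bwd (nat_lit 11) (Steps.fwd (nat_lit 8192) (Steps.bwd (nat_lit 6) (Steps.fwd (nat_lit 90112) (Steps.fwd (nat_lit 98304) Steps.nil)))))) (nat_lit 160) (nat_lit 0),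
  Rule.mk (nat_lit 0) (nat_lit 194) (Steps.bwd (nat_lit 16) (Steps.bwd (nat_lit 1) (Steps.fwd (nat_lit 16384) (Steps.bwd (nat_lit 1) (Steps.fwd (nat_lit 16384) (Steps.bwd (nat_lit 1) (Steps.fwd (nat_lit 16384) (Steps.fwd (nat_lit 8192) (Steps.bwd (nat_lit 2) (Steps.bwd (nat_lit 4) (Steps.fwd (nat_lit 8192) (Steps.bwd (nat_lit 2) Steps.nil)))))))))))) (nat_lit 190) (nat_lit 0),
  Rule.mk (nat_lit 15) (nat_lit 179) (Steps.bwd (nat_lit 3) (Steps.fwd (nat_lit 8192) (Steps.bwd (nat_lit 4) (Steps.fwd (nat_lit 16384) (Steps.fwd (nat_lit 8192) (Steps.fwd (nat_lit 24576) (Steps.bwd (nat_lit 1) (Steps.bwd (nat_lit 2) (Steps.bwd (nat_lit 1) (Steps.bwd (nat_lit 2) (Steps.bwd (nat_lit 1) Steps.nil))))))))))) (nat_lit 191) (nat_lit 0),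
  Rule.mk (nat_lit 0) (nat_lit 194) (Steps.bwd (nat_lit 17) (Steps.fwd (nat_lit 24576) (Steps.fwd (nat_lit 8192) (Steps.fwd (nat_lit 24576) (Steps.bwd (nat_lit 1) (Steps.fwd (nat_lit 16384) (Steps.bwd (nat_lit 1) (Steps.fwd (nat_lit 16384) (Steps.bwd (nat_lit 1) (Steps.bwd (nat_lit 4) (Steps.fwd (nat_lit 24576) (Steps.fwd (nat_lit 8192) Steps.nil)))))))))))) (nat_lit 193) (nat_lit 11),
  Rule.mk (nat_lit 17) (nat_lit 179) (Steps.fwd (nat_lit 24576) (Steps.bwd (nat_lit 1) (Steps.fwd (nat_lit 24576) (Steps.bwd (nat_lit 1) (Steps.fwd (nat_lit 16384) (Steps.bwd (nat_lit 1) (Steps.fwd (nat_lit 16384) (Steps.fwd (nat_lit 8192) (Steps.fwd (nat_lit 32768) (Steps.bwd (nat_lit 2) (Steps.fwd (nat_lit 8192) Steps.nil))))))))))) (nat_lit 193) (nat_lit 0),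
  Rule.mk (nat_lit 0) (nat_lit 194) (Steps.bwd (nat_lit 18) (Steps.fwd (nat_lit 8192) (Steps.bwd (nat_lit 3) (Steps.bwd (nat_lit 4) (Steps.fwd (nat_lit 8192) (Steps.fwd (nat_lit 24576) (Steps.bwd (nat_lit 1) (Steps.bwd (nat_lit 2) (Steps.fwd (nat_lit 8192) (Steps.fwd (nat_lit 16384) (Steps.fwd (nat_lit 8192) (Steps.fwd (nat_lit 16384) Steps.nil)))))))))))) (nat_lit 192) (nat_lit 0),
  Rule.mk (nat_lit 20) (nat_lit 179) (Steps.bwd (nat_lit 1) (Steps.fwd (nat_lit 24576) (Steps.fwd (nat_lit 8192) (Steps.fwd (nat_lit 24576) (Steps.bwd (nat_lit 1) (Steps.fwd (nat_lit 16384) (Steps.bwd (nat_lit 1) (Steps.fwd (nat_lit 16384) (Steps.bwd (nat_lit 1) (Steps.bwd (nat_lit 4) (Steps.fwd (nat_lit 24576) Steps.nil))))))))))) (nat_lit 194) (nat_lit 1),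
  Rule.mk (nat_lit 0) (nat_lit 194) (Steps.bwd (nat_lit 19) (Steps.bwd (nat_lit 3) (Steps.bwd (nat_lit 4) (Steps.fwd (nat_lit 8192) (Steps.fwd (nat_lit 24576) (Steps.bwd (nat_lit 1) (Steps.bwd (nat_lit 2) (Steps.fwd (nat_lit 8192) (Steps.fwd (nat_lit 16384) (Steps.fwd (nat_lit 8192) (Steps.fwd (nat_lit 16384) (Steps.fwd (nat_lit 8192) Steps.nil)))))))))))) (nat_lit 195) (nat_lit 11),
  Rule.mk (nat_lit 0) (nat_lit 194) (Steps.bwd (nat_lit 19) (Steps.fwd (nat_lit 16384) (Steps.fwd (nat_lit 32768) (Steps.bwd (nat_lit 1) (Steps.fwd (nat_lit 24576) (Steps.fwd (nat_lit 8192) (Steps.fwd (nat_lit 24576) (Steps.bwd (nat_lit 1) (Steps.fwd (nat_lit 16384) (Steps.bwd (nat_lit 1) (Steps.fwd (nat_lit 16384) (Steps.bwd (nat_lit 1) Steps.nil)))))))))))) (nat_lit 195) (nat_lit 11),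
  Rule.mk (nat_lit 19) (nat_lit 179) (Steps.bwd (nat_lit 3) (Steps.bwd (nat_lit 4) (Steps.bwd (nat_lit 1) (Steps.bwd (nat_lit 2) (Steps.bwd (nat_lit 1) (Steps.bwd (nat_lit 2) (Steps.bwd (nat_lit 1) (Steps.fwd (nat_lit 16384) (Steps.fwd (nat_lit 8192) (Steps.bwd (nat_lit 3) (Steps.bwd (nat_lit 1) Steps.nil))))))))))) (nat_lit 195) (nat_lit 0),
  Rule.mk (nat_lit 17) (nat_lit 179) (Steps.bwd (nat_lit 2) (Steps.fwd (nat_lit 8192) (Steps.bwd (nat_lit 2) (Steps.fwd (nat_lit 8192) (Steps.bwd (nat_lit 3) (Steps.bwd (nat_lit 1) (Steps.bwd (nat_lit 3) (Steps.fwd (nat_lit 8192) (Steps.bwd (nat_lit 4) (Steps.bwd (nat_lit 2) (Steps.fwd (nat_lit 8192) Steps.nil))))))))))) (nat_lit 193) (nat_lit 0),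
  Rule.mk (nat_lit 14) (nat_lit 89) (Steps.bwd (nat_lit 1) (Steps.fwd (nat_lit 73728) (Steps.fwd (nat_lit 8192) (Steps.bwd (nat_lit 4) (Steps.fwd (nat_lit 57344) Steps.nil))))) (nat_lit 156) (nat_lit 0),
  Rule.mk (nat_lit 7) (nat_lit 164) (Steps.bwd (nat_lit 1) (Steps.fwd (nat_lit 40960) (Steps.bwd (nat_lit 6) (Steps.fwd (nat_lit 73728) (Steps.bwd (nat_lit 10) (Steps.bwd (nat_lit 11) (Steps.fwd (nat_lit 98304) (Steps.bwd (nat_lit 13) (Steps.fwd (nat_lit 114688) (Steps.fwd (nat_lit 8192) Steps.nil)))))))))) (nat_lit 152) (nat_lit 2),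
  Rule.mk (nat_lit 12) (nat_lit 164) (Steps.bwd (nat_lit 1) (Steps.bwd (nat_lit 4) (Steps.bwd (nat_lit 5) (Steps.fwd (nat_lit 65536) (Steps.fwd (nat_lit 73728) (Steps.bwd (nat_lit 10) (Steps.fwd (nat_lit 90112) (Steps.fwd (nat_lit 98304) (Steps.fwd (nat_lit 114688) (Steps.fwd (nat_lit 8192) Steps.nil)))))))))) (nat_lit 162) (nat_lit 2),
  Rule.mk (nat_lit 0) (nat_lit 194) (Steps.bwd (nat_lit 16) (Steps.bwd (nat_lit 1) (Steps.fwd (nat_lit 16384) (Steps.fwd (nat_lit 8192) (Steps.bwd (nat_lit 3) (Steps.fwd (nat_lit 8192) (Steps.bwd (nat_lit 3) (Steps.bwd (nat_lit 1) (Steps.fwd (nat_lit 24576) (Steps.fwd (nat_lit 32768) (Steps.bwd (nat_lit 1) (Steps.fwd (nat_lit 24576) Steps.nil)))))))))))) (nat_lit 190) (nat_lit 0),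
  Rule.mk (nat_lit 15) (nat_lit 179) (Steps.bwd (nat_lit 3) (Steps.bwd (nat_lit 1) (Steps.bwd (nat_lit 4) (Steps.bwd (nat_lit 3) (Steps.fwd (nat_lit 8192) (Steps.bwd (nat_lit 2) (Steps.fwd (nat_lit 8192) (Steps.bwd (nat_lit 2) (Steps.fwd (nat_lit 8192) (Steps.fwd (nat_lit 24576) (Steps.bwd (nat_lit 1) Steps.nil))))))))))) (nat_lit 191) (nat_lit 0),
  Rule.mk (nat_lit 17) (nat_lit 179) (Steps.bwd (nat_lit 2) (Steps.fwd (nat_lit 8192) (Steps.bwd (nat_lit 2) (Steps.fwd (nat_lit 8192) (Steps.bwd (nat_lit 3) (Steps.fwd (nat_lit 8192) (Steps.bwd (nat_lit 3) (Steps.bwd (nat_lit 1) (Steps.bwd (nat_lit 4) (Steps.bwd (nat_lit 2) (Steps.bwd (nat_lit 1) Steps.nil))))))))))) (nat_lit 193) (nat_lit 0),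
  Rule.mk (nat_lit 0) (nat_lit 194) (Steps.bwd (nat_lit 19) (Steps.fwd (nat_lit 16384) (Steps.fwd (nat_lit 32768) (Steps.fwd (nat_lit 8192) (Steps.fwd (nat_lit 24576) (Steps.bwd (nat_lit 1) (Steps.fwd (nat_lit 24576) (Steps.bwd (nat_lit 1) (Steps.fwd (nat_lit 16384) (Steps.bwd (nat_lit 1) (Steps.fwd (nat_lit 16384) (Steps.fwd (nat_lit 8192) Steps.nil)))))))))))) (nat_lit 195) (nat_lit 11),
  Rule.mk (nat_lit 19) (nat_lit 179) (Steps.bwd (nat_lit 3) (Steps.fwd (nat_lit 32768) (Steps.bwd (nat_lit 1) (Steps.bwd (nat_lit 2) (Steps.fwd (nat_lit 8192) (Steps.bwd (nat_lit 2) (Steps.fwd (nat_lit 8192) (Steps.bwd (nat_lit 3) (Steps.fwd (nat_lit 8192) (Steps.bwd (nat_lit 3) (Steps.bwd (nat_lit 1) Steps.nil))))))))))) (nat_lit 195) (nat_lit 0),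
  Rule.mk (nat_lit 18) (nat_lit 179) (Steps.bwd (nat_lit 1) (Steps.bwd (nat_lit 3) (Steps.bwd (nat_lit 4) (Steps.fwd (nat_lit 8192) (Steps.fwd (nat_lit 24576) (Steps.fwd (nat_lit 8192) (Steps.fwd (nat_lit 24576) (Steps.fwd (nat_lit 8192) (Steps.bwd (nat_lit 3) (Steps.bwd (nat_lit 1) (Steps.fwd (nat_lit 16384) Steps.nil))))))))))) (nat_lit 192) (nat_lit 1),
  Rule.mk (nat_lit 18) (nat_lit 179) (Steps.fwd (nat_lit 8192) (Steps.bwd (nat_lit 3) (Steps.fwd (nat_lit 32768) (Steps.bwd (nat_lit 1) (Steps.fwd (nat_lit 24576) (Steps.bwd (nat_lit 1) (Steps.fwd (nat_lit 24576) (Steps.bwd (nat_lit 1) (Steps.bwd (nat_lit 3) (Steps.bwd (nat_lit 1) (Steps.fwd (nat_lit 16384) Steps.nil))))))))))) (nat_lit 192) (nat_lit 1),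
  Rule.mk (nat_lit 19) (nat_lit 179) (Steps.bwd (nat_lit 3) (Steps.fwd (nat_lit 32768) (Steps.bwd (nat_lit 1) (Steps.fwd (nat_lit 24576) (Steps.bwd (nat_lit 1) (Steps.fwd (nat_lit 24576) (Steps.bwd (nat_lit 1) (Steps.bwd (nat_lit 3) (Steps.bwd (nat_lit 1) (Steps.fwd (nat_lit 16384) (Steps.fwd (nat_lit 8192) Steps.nil))))))))))) (nat_lit 195) (nat_lit 0),
  Rule.mk (nat_lit 11) (nat_lit 104) (Steps.bwd (nat_lit 1) (Steps.fwd (nat_lit 49152) (Steps.bwd (nat_lit 11) (Steps.fwd (nat_lit 98304) (Steps.fwd (nat_lit 114688) (Steps.fwd (nat_lit 8192) Steps.nil)))))) (nat_lit 160) (nat_lit 2),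
  Rule.mk (nat_lit 10) (nat_lit 134) (Steps.bwd (nat_lit 1) (Steps.bwd (nat_lit 4) (Steps.bwd (nat_lit 5) (Steps.bwd (nat_lit 8) (Steps.fwd (nat_lit 73728) (Steps.bwd (nat_lit 11) (Steps.fwd (nat_lit 114688) (Steps.bwd (nat_lit 1) Steps.nil)))))))) (nat_lit 158) (nat_lit 2),
  Rule.mk (nat_lit 12) (nat_lit 164) (Steps.bwd (nat_lit 1) (Steps.bwd (nat_lit 4) (Steps.bwd (nat_lit 5) (Steps.bwd (nat_lit 8) (Steps.fwd (nat_lit 73728) (Steps.bwd (nat_lit 10) (Steps.fwd (nat_lit 90112) (Steps.fwd (nat_lit 98304) (Steps.fwd (nat_lit 114688) (Steps.bwd (nat_lit 1) Steps.nil)))))))))) (nat_lit 162) (nat_lit 2),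
  Rule.mk (nat_lit 0) (nat_lit 194) (Steps.bwd (nat_lit 15) (Steps.bwd (nat_lit 3) (Steps.bwd (nat_lit 1) (Steps.fwd (nat_lit 32768) (Steps.bwd (nat_lit 3) (Steps.bwd (nat_lit 1) (Steps.fwd (nat_lit 24576) (Steps.bwd (nat_lit 1) (Steps.bwd (nat_lit 2) (Steps.bwd (nat_lit 1) (Steps.fwd (nat_lit 24576) (Steps.bwd (nat_lit 1) Steps.nil)))))))))))) (nat_lit 191) (nat_lit 11)]
noncomputable def R_86 : List (Rule) := [Rule.mk (nat_lit 15) (nat_lit 179) (Steps.fwd (nat_lit 16384) (Steps.bwd (nat_lit 1) (Steps.bwd (nat_lit 4) (Steps.bwd (nat_lit 3) (Steps.fwd (nat_lit 8192) (Steps.bwd (nat_lit 2) (Steps.bwd (nat_lit 1) (Steps.fwd (nat_lit 24576) (Steps.bwd (nat_lit 1) (Steps.fwd (nat_lit 24576) (Steps.fwd (nat_lit 8192) Steps.nil))))))))))) (nat_lit 191) (nat_lit 0),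
  Rule.mk (nat_lit 15) (nat_lit 179) (Steps.bwd (nat_lit 3) (Steps.fwd (nat_lit 8192) (Steps.bwd (nat_lit 4) (Steps.bwd (nat_lit 3) (Steps.fwd (nat_lit 8192) (Steps.bwd (nat_lit 2) (Steps.fwd (nat_lit 8192) (Steps.bwd (nat_lit 2) (Steps.bwd (nat_lit 1) (Steps.fwd (nat_lit 24576) (Steps.fwd (nat_lit 8192) Steps.nil))))))))))) (nat_lit 191) (nat_lit 0),
  Rule.mk (nat_lit 18) (nat_lit 179) (Steps.bwd (nat_lit 1) (Steps.bwd (nat_lit 3) (Steps.fwd (nat_lit 32768) (Steps.fwd (nat_lit 8192) (Steps.fwd (nat_lit 24576) (Steps.fwd (nat_lit 8192) (Steps.fwd (nat_lit 24576) (Steps.bwd (nat_lit 1) (Steps.bwd (nat_lit 3) (Steps.bwd (nat_lit 1) (Steps.bwd (nat_lit 3) Steps.nil))))))))))) (nat_lit 192) (nat_lit 1),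
  Rule.mk (nat_lit 20) (nat_lit 179) (Steps.fwd (nat_lit 8192) (Steps.fwd (nat_lit 24576) (Steps.fwd (nat_lit 8192) (Steps.fwd (nat_lit 24576) (Steps.bwd (nat_lit 1) (Steps.bwd (nat_lit 3) (Steps.bwd (nat_lit 1) (Steps.bwd (nat_lit 3) (Steps.bwd (nat_lit 1) (Steps.bwd (nat_lit 4) (Steps.bwd (nat_lit 2) Steps.nil))))))))))) (nat_lit 194) (nat_lit 1),
  Rule.mk (nat_lit 19) (nat_lit 179) (Steps.bwd (nat_lit 3) (Steps.fwd (nat_lit 32768) (Steps.fwd (nat_lit 8192) (Steps.fwd (nat_lit 24576) (Steps.fwd (nat_lit 8192) (Steps.fwd (nat_lit 24576) (Steps.bwd (nat_lit 1) (Steps.bwd (nat_lit 3) (Steps.bwd (nat_lit 1) (Steps.bwd (nat_lit 3) (Steps.bwd (nat_lit 1) Steps.nil))))))))))) (nat_lit 195) (nat_lit 0),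
  Rule.mk (nat_lit 14) (nat_lit 104) (Steps.bwd (nat_lit 2) (Steps.bwd (nat_lit 7) (Steps.fwd (nat_lit 16384) (Steps.bwd (nat_lit 5) (Steps.fwd (nat_lit 57344) (Steps.bwd (nat_lit 13) Steps.nil)))))) (nat_lit 174) (nat_lit 0),
  Rule.mk (nat_lit 6) (nat_lit 134) (Steps.bwd (nat_lit 2) (Steps.fwd (nat_lit 106496) (Steps.bwd (nat_lit 3) (Steps.bwd (nat_lit 14) (Steps.fwd (nat_lit 106496) (Steps.bwd (nat_lit 12) (Steps.bwd (nat_lit 11) (Steps.bwd (nat_lit 10) Steps.nil)))))))) (nat_lit 187) (nat_lit 6),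
  Rule.mk (nat_lit 1) (nat_lit 539) (Steps.bwd (nat_lit 2) (Steps.fwd (nat_lit 8192) (Steps.bwd (nat_lit 3) (Steps.fwd (nat_lit 8192) (Steps.fwd (nat_lit 16384) (Steps.fwd (nat_lit 8192) (Steps.bwd (nat_lit 2) (Steps.bwd (nat_lit 1) (Steps.fwd (nat_lit 16384) (Steps.bwd (nat_lit 1) (Steps.bwd (nat_lit 3) (Steps.fwd (nat_lit 8192) (Steps.fwd (nat_lit 24576) (Steps.bwd (nat_lit 1) (Steps.fwd (nat_lit 24576) (Steps.fwd (nat_lit 8192) (Steps.bwd (nat_lit 3) (Steps.fwd (nat_lit 8192) (Steps.fwd (nat_lit 24576) (Steps.fwd (nat_lit 8192) (Steps.fwd (nat_lit 24576) (Steps.fwd (nat_lit 8192) (Steps.bwd (nat_lit 3) (Steps.bwd (nat_lit 1) (Steps.fwd (nat_lit 24576) (Steps.bwd (nat_lit 1) (Steps.fwd (nat_lit 24576) (Steps.bwd (nat_lit 1) (Steps.bwd (nat_lit 3) (Steps.fwd (nat_lit 8192) (Steps.bwd (nat_lit 2) (Steps.bwd (nat_lit 1) (Steps.fwd (nat_lit 16384) (Steps.bwd (nat_lit 1) (Steps.fwd (nat_lit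 16384) Steps.nil))))))))))))))))))))))))))))))))))) (nat_lit 12) (nat_lit 25),
  Rule.mk (nat_lit 11) (nat_lit 104) (Steps.fwd (nat_lit 8192) (Steps.bwd (nat_lit 6) (Steps.fwd (nat_lit 90112) (Steps.bwd (nat_lit 12) (Steps.bwd (nat_lit 14) (Steps.bwd (nat_lit 1) Steps.nil)))))) (nat_lit 160) (nat_lit 2),
  Rule.mk (nat_lit 7) (nat_lit 164) (Steps.bwd (nat_lit 1) (Steps.bwd (nat_lit 5) (Steps.fwd (nat_lit 49152) (Steps.bwd (nat_lit 9) (Steps.bwd (nat_lit 10) (Steps.fwd (nat_lit 90112) (Steps.fwd (nat_lit 98304) (Steps.bwd (nat_lit 13) (Steps.bwd (nat_lit 14) (Steps.bwd (nat_lit 1) Steps.nil)))))))))) (nat_lit 152) (nat_lit 2),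
  Rule.mk (nat_lit 12) (nat_lit 164) (Steps.fwd (nat_lit 8192) (Steps.fwd (nat_lit 32768) (Steps.bwd (nat_lit 5) (Steps.fwd (nat_lit 65536) (Steps.bwd (nat_lit 9) (Steps.fwd (nat_lit 81920) (Steps.fwd (nat_lit 90112) (Steps.bwd (nat_lit 12) (Steps.bwd (nat_lit 14) (Steps.bwd (nat_lit 1) Steps.nil)))))))))) (nat_lit 162) (nat_lit 2),
  Rule.mk (nat_lit 0) (nat_lit 194) (Steps.bwd (nat_lit 15) (Steps.fwd (nat_lit 16384) (Steps.bwd (nat_lit 1) (Steps.fwd (nat_lit 32768) (Steps.fwd (nat_lit 16384) (Steps.fwd (nat_lit 8192) (Steps.bwd (nat_lit 2) (Steps.fwd (nat_lit 8192) (Steps.bwd (nat_lit 2) (Steps.fwd (nat_lit 8192) (Steps.bwd (nat_lit 2) (Steps.bwd (nat_lit 1) Steps.nil)))))))))))) (nat_lit 191) (nat_lit 11),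
  Rule.mk (nat_lit 15) (nat_lit 179) (Steps.bwd (nat_lit 3) (Steps.bwd (nat_lit 1) (Steps.fwd (nat_lit 32768) (Steps.fwd (nat_lit 16384) (Steps.bwd (nat_lit 1) (Steps.fwd (nat_lit 24576) (Steps.fwd (nat_lit 8192) (Steps.bwd (nat_lit 2) (Steps.bwd (nat_lit 1) (Steps.bwd (nat_lit 2) (Steps.fwd (nat_lit 8192) Steps.nil))))))))))) (nat_lit 191) (nat_lit 0),
  Rule.mk (nat_lit 15) (nat_lit 179) (Steps.bwd (nat_lit 3) (Steps.fwd (nat_lit 8192) (Steps.fwd (nat_lit 32768) (Steps.bwd (nat_lit 3) (Steps.fwd (nat_lit 8192) (Steps.bwd (nat_lit 2) (Steps.bwd (nat_lit 1) (Steps.bwd (nat_lit 2) (Steps.fwd (nat_lit 8192) (Steps.fwd (nat_lit 24576) (Steps.fwd (nat_lit 8192) Steps.nil))))))))))) (nat_lit 191) (nat_lit 0),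
  Rule.mk (nat_lit 15) (nat_lit 179) (Steps.bwd (nat_lit 3) (Steps.bwd (nat_lit 1) (Steps.fwd (nat_lit 32768) (Steps.fwd (nat_lit 16384) (Steps.bwd (nat_lit 1) (Steps.bwd (nat_lit 2) (Steps.fwd (nat_lit 8192) (Steps.fwd (nat_lit 24576) (Steps.fwd (nat_lit 8192) (Steps.fwd (nat_lit 24576) (Steps.fwd (nat_lit 8192) Steps.nil))))))))))) (nat_lit 191) (nat_lit 0),
  Rule.mk (nat_lit 0) (nat_lit 194) (Steps.bwd (nat_lit 17) (Steps.bwd (nat_lit 2) (Steps.bwd (nat_lit 1) (Steps.fwd (nat_lit 24576) (Steps.bwd (nat_lit 1) (Steps.fwd (nat_lit 16384) (Steps.fwd (nat_lit 8192) (Steps.fwd (nat_lit 16384) (Steps.bwd (nat_lit 1) (Steps.bwd (nat_lit 4) (Steps.fwd (nat_lit 24576) (Steps.fwd (nat_lit 8192) Steps.nil)))))))))))) (nat_lit 193) (nat_lit 11),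
  Rule.mk (nat_lit 17) (nat_lit 179) (Steps.bwd (nat_lit 2) (Steps.bwd (nat_lit 1) (Steps.fwd (nat_lit 24576) (Steps.bwd (nat_lit 1) (Steps.fwd (nat_lit 16384) (Steps.fwd (nat_lit 8192) (Steps.bwd (nat_lit 3) (Steps.bwd (nat_lit 1) (Steps.bwd (nat_lit 4) (Steps.bwd (nat_lit 2) (Steps.bwd (nat_lit 1) Steps.nil))))))))))) (nat_lit 193) (nat_lit 0),
  Rule.mk (nat_lit 17) (nat_lit 179) (Steps.bwd (nat_lit 2) (Steps.bwd (nat_lit 1) (Steps.bwd (nat_lit 2) (Steps.fwd (nat_lit 8192) (Steps.bwd (nat_lit 3) (Steps.fwd (nat_lit 8192) (Steps.fwd (nat_lit 16384) (Steps.fwd (nat_lit 8192) (Steps.fwd (nat_lit 32768) (Steps.bwd (nat_lit 2) (Steps.fwd (nat_lit 8192) Steps.nil))))))))))) (nat_lit 193) (nat_lit 0),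
  Rule.mk (nat_lit 20) (nat_lit 179) (Steps.fwd (nat_lit 8192) (Steps.bwd (nat_lit 2) (Steps.bwd (nat_lit 1) (Steps.bwd (nat_lit 2) (Steps.fwd (nat_lit 8192) (Steps.bwd (nat_lit 3) (Steps.fwd (nat_lit 8192) (Steps.fwd (nat_lit 16384) (Steps.fwd (nat_lit 8192) (Steps.fwd (nat_lit 32768) (Steps.bwd (nat_lit 2) Steps.nil))))))))))) (nat_lit 194) (nat_lit 1),
  Rule.mk (nat_lit 19) (nat_lit 179) (Steps.fwd (nat_lit 16384) (Steps.bwd (nat_lit 4) (Steps.bwd (nat_lit 1) (Steps.bwd (nat_lit 2) (Steps.fwd (nat_lit 8192) (Steps.bwd (nat_lit 2) (Steps.bwd (nat_lit 1) (Steps.fwd (nat_lit 16384) (Steps.bwd (nat_lit 1) (Steps.fwd (nat_lit 16384) (Steps.bwd (nat_lit 1) Steps.nil))))))))))) (nat_lit 195) (nat_lit 0),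
  Rule.mk (nat_lit 7) (nat_lit 104) (Steps.bwd (nat_lit 3) (Steps.fwd (nat_lit 40960) (Steps.bwd (nat_lit 7) (Steps.fwd (nat_lit 106496) (Steps.fwd (nat_lit 114688) (Steps.fwd (nat_lit 24576) Steps.nil)))))) (nat_lit 174) (nat_lit 2),
  Rule.mk (nat_lit 9) (nat_lit 134) (Steps.bwd (nat_lit 3) (Steps.bwd (nat_lit 4) (Steps.bwd (nat_lit 5) (Steps.bwd (nat_lit 8) (Steps.fwd (nat_lit 73728) (Steps.bwd (nat_lit 11) (Steps.fwd (nat_lit 114688) (Steps.bwd (nat_lit 2) Steps.nil)))))))) (nat_lit 178) (nat_lit 2),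
  Rule.mk (nat_lit 5) (nat_lit 149) (Steps.bwd (nat_lit 3) (Steps.bwd (nat_lit 4) (Steps.bwd (nat_lit 5) (Steps.bwd (nat_lit 8) (Steps.fwd (nat_lit 73728) (Steps.fwd (nat_lit 98304) (Steps.bwd (nat_lit 13) (Steps.bwd (nat_lit 14) (Steps.fwd (nat_lit 24576) Steps.nil))))))))) (nat_lit 170) (nat_lit 2),
  Rule.mk (nat_lit 6) (nat_lit 164) (Steps.bwd (nat_lit 3) (Steps.fwd (nat_lit 40960) (Steps.fwd (nat_lit 49152) (Steps.fwd (nat_lit 73728) (Steps.fwd (nat_lit 81920) (Steps.bwd (nat_lit 11) (Steps.bwd (nat_lit 12) (Steps.bwd (nat_lit 13) (Steps.bwd (nat_lit 14) (Steps.fwd (nat_lit 24576) Steps.nil)))))))))) (nat_lit 172) (nat_lit 2),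
  Rule.mk (nat_lit 11) (nat_lit 164) (Steps.bwd (nat_lit 3) (Steps.bwd (nat_lit 4) (Steps.bwd (nat_lit 5) (Steps.bwd (nat_lit 8) (Steps.fwd (nat_lit 73728) (Steps.bwd (nat_lit 10) (Steps.fwd (nat_lit 90112) (Steps.fwd (nat_lit 98304) (Steps.fwd (nat_lit 114688) (Steps.bwd (nat_lit 2) Steps.nil)))))))))) (nat_lit 182) (nat_lit 2),
  Rule.mk (nat_lit 15) (nat_lit 179) (Steps.bwd (nat_lit 3) (Steps.fwd (nat_lit 8192) (Steps.fwd (nat_lit 32768) (Steps.fwd (nat_lit 16384) (Steps.fwd (nat_lit 8192) (Steps.bwd (nat_lit 2) (Steps.fwd (nat_lit 8192) (Steps.bwd (nat_lit 2) (Steps.fwd (nat_lit 8192) (Steps.fwd (nat_lit 24576) (Steps.bwd (nat_lit 1) Steps.nil))))))))))) (nat_lit 191) (nat_lit 0),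
  Rule.mk (nat_lit 1) (nat_lit 839) (Steps.bwd (nat_lit 3) (Steps.fwd (nat_lit 8192) (Steps.fwd (nat_lit 24576) (Steps.fwd (nat_lit 8192) (Steps.fwd (nat_lit 24576) (Steps.fwd (nat_lit 8192) (Steps.bwd (nat_lit 3) (Steps.bwd (nat_lit 1) (Steps.fwd (nat_lit 24576) (Steps.bwd (nat_lit 1) (Steps.fwd (nat_lit 16384) (Steps.bwd (nat_lit 1) (Steps.bwd (nat_lit 2) (Steps.fwd (nat_lit 8192) (Steps.bwd (nat_lit 3) (Steps.bwd (nat_lit 1) (Steps.fwd (nat_lit 24576) (Steps.bwd (nat_lit 1) (Steps.fwd (nat_lit 24576) (Steps.bwd (nat_lit 1) (Steps.bwd (nat_lit 3) (Steps.fwd (nat_lit 8192) (Steps.bwd (nat_lit 2) (Steps.fwd (nat_lit 8192) (Steps.fwd (nat_lit 16384) (Steps.bwd (nat_lit 1) (Steps.fwd (nat_lit 24576) (Steps.bwd (nat_lit 1) (Steps.bwd (nat_lit 3) (Steps.bwd (nat_lit 1) (Steps.fwd (nat_lit 24576) (Steps.bwd (nat_lit 1) (Steps.fwd (nat_lit 24576) (Steps.fwd (nat_lit 8192) (Steps.fwd (nat_lit 16384)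 (Steps.bwd (nat_lit 1) (Steps.fwd (nat_lit 24576) (Steps.fwd (nat_lit 8192) (Steps.fwd (nat_lit 16384) (Steps.bwd (nat_lit 1) (Steps.fwd (nat_lit 24576) (Steps.bwd (nat_lit 1) (Steps.fwd (nat_lit 16384) (Steps.fwd (nat_lit 8192) (Steps.bwd (nat_lit 2) (Steps.fwd (nat_lit 8192) (Steps.bwd (nat_lit 2) (Steps.fwd (nat_lit 8192) (Steps.bwd (nat_lit 3) (Steps.bwd (nat_lit 1) (Steps.fwd (nat_lit 24576) (Steps.bwd (nat_lit 1) (Steps.fwd (nat_lit 16384) (Steps.bwd (nat_lit 1) (Steps.fwd (nat_lit 24576) Steps.nil))))))))))))))))))))))))))))))))))))))))))))))))))))))) (nat_lit 10) (nat_lit 13),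
  Rule.mk (nat_lit 0) (nat_lit 194) (Steps.bwd (nat_lit 15) (Steps.fwd (nat_lit 16384) (Steps.fwd (nat_lit 8192) (Steps.bwd (nat_lit 4) (Steps.bwd (nat_lit 3) (Steps.bwd (nat_lit 1) (Steps.fwd (nat_lit 24576) (Steps.fwd (nat_lit 8192) (Steps.fwd (nat_lit 24576) (Steps.bwd (nat_lit 1) (Steps.fwd (nat_lit 24576) (Steps.bwd (nat_lit 1) Steps.nil)))))))))))) (nat_lit 191) (nat_lit 11),
  Rule.mk (nat_lit 16) (nat_lit 179) (Steps.fwd (nat_lit 8192) (Steps.bwd (nat_lit 3) (Steps.bwd (nat_lit 1) (Steps.bwd (nat_lit 3) (Steps.fwd (nat_lit 8192) (Steps.bwd (nat_lit 3) (Steps.fwd (nat_lit 8192) (Steps.bwd (nat_lit 2) (Steps.fwd (nat_lit 32768) (Steps.bwd (nat_lit 1) (Steps.bwd (nat_lit 2) Steps.nil))))))))))) (nat_lit 190) (nat_lit 1),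
  Rule.mk (nat_lit 16) (nat_lit 179) (Steps.bwd (nat_lit 1) (Steps.bwd (nat_lit 3) (Steps.fwd (nat_lit 8192) (Steps.bwd (nat_lit 3) (Steps.fwd (nat_lit 8192) (Steps.fwd (nat_lit 16384) (Steps.fwd (nat_lit 8192) (Steps.bwd (nat_lit 2) (Steps.fwd (nat_lit 32768) (Steps.fwd (nat_lit 8192) (Steps.fwd (nat_lit 24576) Steps.nil))))))))))) (nat_lit 190) (nat_lit 1),
  Rule.mk (nat_lit 0) (nat_lit 194) (Steps.bwd (nat_lit 15) (Steps.fwd (nat_lit 16384) (Steps.bwd (nat_lit 1) (Steps.fwd (nat_lit 32768) (Steps.fwd (nat_lit 16384) (Steps.bwd (nat_lit 1) (Steps.fwd (nat_lit 24576) (Steps.bwd (nat_lit 1) (Steps.fwd (nat_lit 24576) (Steps.fwd (nat_lit 8192) (Steps.bwd (nat_lit 2) (Steps.fwd (nat_lit 8192) Steps.nil)))))))))))) (nat_lit 191) (nat_lit 11),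
  Rule.mk (nat_lit 15) (nat_lit 179) (Steps.bwd (nat_lit 3) (Steps.fwd (nat_lit 8192) (Steps.bwd (nat_lit 4) (Steps.bwd (nat_lit 3) (Steps.bwd (nat_lit 1) (Steps.fwd (nat_lit 24576) (Steps.fwd (nat_lit 8192) (Steps.bwd (nat_lit 2) (Steps.fwd (nat_lit 8192) (Steps.bwd (nat_lit 2) (Steps.fwd (nat_lit 8192) Steps.nil))))))))))) (nat_lit 191) (nat_lit 0),
  Rule.mk (nat_lit 0) (nat_lit 194) (Steps.bwd (nat_lit 15) (Steps.bwd (nat_lit 3) (Steps.bwd (nat_lit 1) (Steps.fwd (nat_lit 32768) (Steps.fwd (nat_lit 16384) (Steps.fwd (nat_lit 8192) (Steps.bwd (nat_lit 2) (Steps.fwd (nat_lit 8192) (Steps.bwd (nat_lit 2) (Steps.fwd (nat_lit 8192) (Steps.bwd (nat_lit 2) (Steps.bwd (nat_lit 1) Steps.nil)))))))))))) (nat_lit 191) (nat_lit 11),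
  Rule.mk (nat_lit 18) (nat_lit 179) (Steps.bwd (nat_lit 1) (Steps.fwd (nat_lit 16384) (Steps.bwd (nat_lit 4) (Steps.bwd (nat_lit 1) (Steps.fwd (nat_lit 24576) (Steps.bwd (nat_lit 1) (Steps.fwd (nat_lit 24576) (Steps.fwd (nat_lit 8192) (Steps.fwd (nat_lit 16384) (Steps.bwd (nat_lit 1) (Steps.bwd (nat_lit 3) Steps.nil))))))))))) (nat_lit 192) (nat_lit 1),
  Rule.mk (nat_lit 18) (nat_lit 179) (Steps.bwd (nat_lit 1) (Steps.bwd (nat_lit 3) (Steps.bwd (nat_lit 4) (Steps.fwd (nat_lit 8192) (Steps.bwd (nat_lit 2) (Steps.fwd (nat_lit 8192) (Steps.bwd (nat_lit 2) (Steps.fwd (nat_lit 8192) (Steps.bwd (nat_lit 3) (Steps.bwd (nat_lit 1) (Steps.bwd (nat_lit 3) Steps.nil))))))))))) (nat_lit 192) (nat_lit 1),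
  Rule.mk (nat_lit 17) (nat_lit 179) (Steps.bwd (nat_lit 2) (Steps.fwd (nat_lit 8192) (Steps.fwd (nat_lit 24576) (Steps.bwd (nat_lit 1) (Steps.fwd (nat_lit 16384) (Steps.bwd (nat_lit 1) (Steps.bwd (nat_lit 3) (Steps.bwd (nat_lit 1) (Steps.fwd (nat_lit 32768) (Steps.fwd (nat_lit 24576) (Steps.bwd (nat_lit 1) Steps.nil))))))))))) (nat_lit 193) (nat_lit 0),
  Rule.mk (nat_lit 0) (nat_lit 194) (Steps.bwd (nat_lit 17) (Steps.fwd (nat_lit 24576) (Steps.bwd (nat_lit 1) (Steps.bwd (nat_lit 2) (Steps.fwd (nat_lit 8192) (Steps.bwd (nat_lit 3) (Steps.bwd (nat_lit 1) (Steps.bwd (nat_lit 3) (Steps.fwd (nat_lit 8192) (Steps.fwd (nat_lit 32768) (Steps.bwd (nat_lit 2) (Steps.bwd (nat_lit 1) Steps.nil)))))))))))) (nat_lit 193) (nat_lit 11),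
  Rule.mk (nat_lit 2) (nat_lit 179) (Steps.bwd (nat_lit 20) (Steps.fwd (nat_lit 8192) (Steps.bwd (nat_lit 2) (Steps.bwd (nat_lit 1) (Steps.bwd (nat_lit 2) (Steps.fwd (nat_lit 8192) (Steps.bwd (nat_lit 3) (Steps.fwd (nat_lit 8192) (Steps.bwd (nat_lit 3) (Steps.bwd (nat_lit 1) (Steps.fwd (nat_lit 32768) Steps.nil))))))))))) (nat_lit 194) (nat_lit 0),
  Rule.mk (nat_lit 20) (nat_lit 179) (Steps.bwd (nat_lit 1) (Steps.fwd (nat_lit 24576) (Steps.bwd (nat_lit 1) (Steps.bwd (nat_lit 2) (Steps.fwd (nat_lit 8192) (Steps.bwd (nat_lit 3) (Steps.bwd (nat_lit 1) (Steps.bwd (nat_lit 3) (Steps.fwd (nat_lit 8192) (Steps.fwd (nat_lit 32768) (Steps.bwd (nat_lit 2) Steps.nil))))))))))) (nat_lit 194) (nat_lit 1),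
  Rule.mk (nat_lit 20) (nat_lit 179) (Steps.fwd (nat_lit 8192) (Steps.fwd (nat_lit 24576) (Steps.bwd (nat_lit 1) (Steps.fwd (nat_lit 24576) (Steps.bwd (nat_lit 1) (Steps.bwd (nat_lit 3) (Steps.fwd (nat_lit 8192) (Steps.bwd (nat_lit 3) (Steps.fwd (nat_lit 8192) (Steps.bwd (nat_lit 4) (Steps.bwd (nat_lit 2) Steps.nil))))))))))) (nat_lit 194) (nat_lit 1),
  Rule.mk (nat_lit 20) (nat_lit 179) (Steps.bwd (nat_lit 1) (Steps.fwd (nat_lit 24576) (Steps.bwd (nat_lit 1) (Steps.fwd (nat_lit 24576) (Steps.fwd (nat_lit 8192) (Steps.fwd (nat_lit 16384) (Steps.bwd (nat_lit 1) (Steps.bwd (nat_lit 3) (Steps.fwd (nat_lit 8192) (Steps.fwd (nat_lit 32768) (Steps.bwd (nat_lit 2) Steps.nil))))))))))) (nat_lit 194) (nat_lit 1),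
  Rule.mk (nat_lit 19) (nat_lit 179) (Steps.fwd (nat_lit 16384) (Steps.bwd (nat_lit 4) (Steps.fwd (nat_lit 8192) (Steps.bwd (nat_lit 2) (Steps.bwd (nat_lit 1) (Steps.bwd (nat_lit 2) (Steps.fwd (nat_lit 8192) (Steps.bwd (nat_lit 3) (Steps.fwd (nat_lit 8192) (Steps.bwd (nat_lit 3) (Steps.bwd (nat_lit 1) Steps.nil))))))))))) (nat_lit 195) (nat_lit 0),
  Rule.mk (nat_lit 19) (nat_lit 179) (Steps.bwd (nat_lit 3) (Steps.bwd (nat_lit 4) (Steps.bwd (nat_lit 1) (Steps.fwd (nat_lit 24576) (Steps.bwd (nat_lit 1) (Steps.bwd (nat_lit 2) (Steps.fwd (nat_lit 8192) (Steps.bwd (nat_lit 3) (Steps.bwd (nat_lit 1) (Steps.bwd (nat_lit 3) (Steps.fwd (nat_lit 8192) Steps.nil))))))))))) (nat_lit 195) (nat_lit 0),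
  Rule.mk (nat_lit 8) (nat_lit 89) (Steps.bwd (nat_lit 3) (Steps.fwd (nat_lit 114688) (Steps.bwd (nat_lit 7) (Steps.fwd (nat_lit 32768) (Steps.bwd (nat_lit 2) Steps.nil))))) (nat_lit 177) (nat_lit 5),
  Rule.mk (nat_lit 12) (nat_lit 104) (Steps.fwd (nat_lit 16384) (Steps.fwd (nat_lit 73728) (Steps.bwd (nat_lit 8) (Steps.bwd (nat_lit 5) (Steps.fwd (nat_lit 32768) (Steps.bwd (nat_lit 2) Steps.nil)))))) (nat_lit 185) (nat_lit 6),
  Rule.mk (nat_lit 9) (nat_lit 134) (Steps.fwd (nat_lit 16384) (Steps.bwd (nat_lit 14) (Steps.bwd (nat_lit 11) (Steps.fwd (nat_lit 73728) (Steps.bwd (nat_lit 8) (Steps.bwd (nat_lit 5) (Steps.fwd (nat_lit 32768) (Steps.bwd (nat_lit 2) Steps.nil)))))))) (nat_lit 179) (nat_lit 8),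
  Rule.mk (nat_lit 11) (nat_lit 164) (Steps.bwd (nat_lit 3) (Steps.bwd (nat_lit 14) (Steps.fwd (nat_lit 98304) (Steps.fwd (nat_lit 90112) (Steps.bwd (nat_lit 10) (Steps.fwd (nat_lit 73728) (Steps.bwd (nat_lit 8) (Steps.bwd (nat_lit 5) (Steps.fwd (nat_lit 32768) (Steps.bwd (nat_lit 2) Steps.nil)))))))))) (nat_lit 183) (nat_lit 10),
  Rule.mk (nat_lit 18) (nat_lit 179) (Steps.bwd (nat_lit 1) (Steps.fwd (nat_lit 16384) (Steps.bwd (nat_lit 4) (Steps.fwd (nat_lit 8192) (Steps.bwd (nat_lit 2) (Steps.fwd (nat_lit 8192) (Steps.bwd (nat_lit 2) (Steps.fwd (nat_lit 8192) (Steps.fwd (nat_lit 16384) (Steps.bwd (nat_lit 1) (Steps.fwd (nat_lit 16384) Steps.nil))))))))))) (nat_lit 192) (nat_lit 1),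
  Rule.mk (nat_lit 19) (nat_lit 179) (Steps.fwd (nat_lit 16384) (Steps.bwd (nat_lit 4) (Steps.fwd (nat_lit 8192) (Steps.bwd (nat_lit 2) (Steps.fwd (nat_lit 8192) (Steps.bwd (nat_lit 2) (Steps.fwd (nat_lit 8192) (Steps.fwd (nat_lit 16384) (Steps.bwd (nat_lit 1) (Steps.fwd (nat_lit 16384) (Steps.fwd (nat_lit 8192) Steps.nil))))))))))) (nat_lit 195) (nat_lit 0),
  Rule.mk (nat_lit 17) (nat_lit 179) (Steps.bwd (nat_lit 2) (Steps.fwd (nat_lit 8192) (Steps.bwd (nat_lit 2) (Steps.fwd (nat_lit 8192) (Steps.bwd (nat_lit 3) (Steps.bwd (nat_lit 1) (Steps.bwd (nat_lit 3) (Steps.fwd (nat_lit 8192) (Steps.fwd (nat_lit 32768) (Steps.fwd (nat_lit 24576) (Steps.bwd (nat_lit 1) Steps.nil))))))))))) (nat_lit 193) (nat_lit 0),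
  Rule.mk (nat_lit 1) (nat_lit 134) (Steps.bwd (nat_lit 10) (Steps.fwd (nat_lit 8192) (Steps.fwd (nat_lit 32768) (Steps.fwd (nat_lit 40960) (Steps.bwd (nat_lit 8) (Steps.bwd (nat_lit 9) (Steps.fwd (nat_lit 90112) (Steps.bwd (nat_lit 14) Steps.nil)))))))) (nat_lit 158) (nat_lit 1),
  Rule.mk (nat_lit 17) (nat_lit 179) (Steps.bwd (nat_lit 2) (Steps.fwd (nat_lit 8192) (Steps.fwd (nat_lit 24576) (Steps.bwd (nat_lit 1) (Steps.bwd (nat_lit 3) (Steps.fwd (nat_lit 8192) (Steps.bwd (nat_lit 3) (Steps.bwd (nat_lit 1) (Steps.fwd (nat_lit 32768) (Steps.bwd (nat_lit 2) (Steps.fwd (nat_lit 8192) Steps.nil))))))))))) (nat_lit 193) (nat_lit 0),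
  Rule.mk (nat_lit 0) (nat_lit 194) (Steps.bwd (nat_lit 19) (Steps.fwd (nat_lit 16384) (Steps.bwd (nat_lit 4) (Steps.fwd (nat_lit 8192) (Steps.fwd (nat_lit 24576) (Steps.bwd (nat_lit 1) (Steps.fwd (nat_lit 24576) (Steps.fwd (nat_lit 8192) (Steps.bwd (nat_lit 3) (Steps.bwd (nat_lit 1) (Steps.fwd (nat_lit 16384) (Steps.fwd (nat_lit 8192) Steps.nil)))))))))))) (nat_lit 195) (nat_lit 11),
  Rule.mk (nat_lit 0) (nat_lit 194) (Steps.bwd (nat_lit 20) (Steps.fwd (nat_lit 8192) (Steps.fwd (nat_lit 24576) (Steps.bwd (nat_lit 1) (Steps.fwd (nat_lit 24576) (Steps.fwd (nat_lit 8192) (Steps.bwd (nat_lit 3) (Steps.bwd (nat_lit 1) (Steps.fwd (nat_lit 16384) (Steps.fwd (nat_lit 8192) (Steps.bwd (nat_lit 4) (Steps.bwd (nat_lit 2) Steps.nil)))))))))))) (nat_lit 194) (nat_lit 0),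
  Rule.mk (nat_lit 2) (nat_lit 164) (Steps.bwd (nat_lit 11) (Steps.fwd (nat_lit 16384) (Steps.fwd (nat_lit 114688) (Steps.bwd (nat_lit 12) (Steps.bwd (nat_lit 11) (Steps.fwd (nat_lit 81920) (Steps.bwd (nat_lit 9) (Steps.fwd (nat_lit 65536) (Steps.bwd (nat_lit 5) (Steps.fwd (nat_lit 32768) Steps.nil)))))))))) (nat_lit 183) (nat_lit 9),
  Rule.mk (nat_lit 15) (nat_lit 179) (Steps.fwd (nat_lit 16384) (Steps.fwd (nat_lit 8192) (Steps.bwd (nat_lit 4) (Steps.fwd (nat_lit 16384) (Steps.fwd (nat_lit 8192) (Steps.bwd (nat_lit 2) (Steps.bwd (nat_lit 1) (Steps.bwd (nat_lit 2) (Steps.fwd (nat_lit 8192) (Steps.bwd (nat_lit 2) (Steps.fwd (nat_lit 8192) Steps.nil))))))))))) (nat_lit 191) (nat_lit 0),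
  Rule.mk (nat_lit 15) (nat_lit 179) (Steps.bwd (nat_lit 3) (Steps.bwd (nat_lit 1) (Steps.fwd (nat_lit 32768) (Steps.fwd (nat_lit 16384) (Steps.bwd (nat_lit 1) (Steps.bwd (nat_lit 2) (Steps.fwd (nat_lit 8192) (Steps.bwd (nat_lit 2) (Steps.fwd (nat_lit 8192) (Steps.bwd (nat_lit 2) (Steps.fwd (nat_lit 8192) Steps.nil))))))))))) (nat_lit 191) (nat_lit 0),
  Rule.mk (nat_lit 18) (nat_lit 179) (Steps.bwd (nat_lit 1) (Steps.fwd (nat_lit 16384) (Steps.bwd (nat_lit 4) (Steps.bwd (nat_lit 1) (Steps.bwd (nat_lit 2) (Steps.fwd (nat_lit 8192) (Steps.bwd (nat_lit 2) (Steps.fwd (nat_lit 8192) (Steps.bwd (nat_lit 3) (Steps.bwd (nat_lit 1) (Steps.bwd (nat_lit 3) Steps.nil))))))))))) (nat_lit 192) (nat_lit 1),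
  Rule.mk (nat_lit 0) (nat_lit 194) (Steps.bwd (nat_lit 17) (Steps.bwd (nat_lit 2) (Steps.fwd (nat_lit 8192) (Steps.bwd (nat_lit 2) (Steps.fwd (nat_lit 8192) (Steps.bwd (nat_lit 3) (Steps.bwd (nat_lit 1) (Steps.bwd (nat_lit 3) (Steps.bwd (nat_lit 1) (Steps.bwd (nat_lit 4) (Steps.bwd (nat_lit 2) (Steps.fwd (nat_lit 8192) Steps.nil)))))))))))) (nat_lit 193) (nat_lit 11),
  Rule.mk (nat_lit 0) (nat_lit 194) (Steps.bwd (nat_lit 20) (Steps.bwd (nat_lit 1) (Steps.bwd (nat_lit 2) (Steps.fwd (nat_lit 8192) (Steps.bwd (nat_lit 2) (Steps.fwd (nat_lit 8192) (Steps.bwd (nat_lit 3) (Steps.bwd (nat_lit 1) (Steps.bwd (nat_lit 3) (Steps.bwd (nat_lit 1) (Steps.bwd (nat_lit 4) (Steps.bwd (nat_lit 2) Steps.nil)))))))))))) (nat_lit 194) (nat_lit 0),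
  Rule.mk (nat_lit 0) (nat_lit 194) (Steps.bwd (nat_lit 20) (Steps.fwd (nat_lit 8192) (Steps.fwd (nat_lit 24576) (Steps.fwd (nat_lit 8192) (Steps.fwd (nat_lit 24576) (Steps.bwd (nat_lit 1) (Steps.fwd (nat_lit 16384) (Steps.bwd (nat_lit 1) (Steps.fwd (nat_lit 16384) (Steps.fwd (nat_lit 8192) (Steps.fwd (nat_lit 32768) (Steps.bwd (nat_lit 2) Steps.nil)))))))))))) (nat_lit 194) (nat_lit 0),
  Rule.mk (nat_lit 0) (nat_lit 194) (Steps.bwd (nat_lit 15) (Steps.bwd (nat_lit 3) (Steps.fwd (nat_lit 8192) (Steps.fwd (nat_lit 32768) (Steps.fwd (nat_lit 16384) (Steps.fwd (nat_lit 8192) (Steps.bwd (nat_lit 2) (Steps.fwd (nat_lit 8192) (Steps.fwd (nat_lit 24576) (Steps.fwd (nat_lit 8192) (Steps.bwd (nat_lit 2) (Steps.bwd (nat_lit 1) Steps.nil)))))))))))) (nat_lit 191) (nat_lit 11),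
  Rule.mk (nat_lit 15) (nat_lit 179) (Steps.bwd (nat_lit 3) (Steps.bwd (nat_lit 1) (Steps.bwd (nat_lit 4) (Steps.bwd (nat_lit 3) (Steps.fwd (nat_lit 8192) (Steps.fwd (nat_lit 24576) (Steps.fwd (nat_lit 8192) (Steps.fwd (nat_lit 24576) (Steps.bwd (nat_lit 1) (Steps.bwd (nat_lit 2) (Steps.fwd (nat_lit 8192) Steps.nil))))))))))) (nat_lit 191) (nat_lit 0),
  Rule.mk (nat_lit 0) (nat_lit 194) (Steps.bwd (nat_lit 18) (Steps.fwd (nat_lit 8192) (Steps.fwd (nat_lit 16384) (Steps.fwd (nat_lit 32768) (Steps.fwd (nat_lit 8192) (Steps.fwd (nat_lit 24576) (Steps.bwd (nat_lit 1) (Steps.bwd (nat_lit 2) (Steps.fwd (nat_lit 8192) (Steps.fwd (nat_lit 16384) (Steps.bwd (nat_lit 1) (Steps.fwd (nat_lit 16384) Steps.nil)))))))))))) (nat_lit 192) (nat_lit 0)]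
noncomputable def R_87 : List (Rule) := [Rule.mk (nat_lit 17) (nat_lit 179) (Steps.fwd (nat_lit 24576) (Steps.bwd (nat_lit 1) (Steps.bwd (nat_lit 2) (Steps.fwd (nat_lit 8192) (Steps.fwd (nat_lit 16384) (Steps.bwd (nat_lit 1) (Steps.fwd (nat_lit 16384) (Steps.fwd (nat_lit 8192) (Steps.bwd (nat_lit 4) (Steps.fwd (nat_lit 24576) (Steps.fwd (nat_lit 8192) Steps.nil))))))))))) (nat_lit 193) (nat_lit 0),
  Rule.mk (nat_lit 0) (nat_lit 194) (Steps.bwd (nat_lit 19) (Steps.bwd (nat_lit 3) (Steps.fwd (nat_lit 32768) (Steps.bwd (nat_lit 1) (Steps.bwd (nat_lit 2) (Steps.fwd (nat_lit 8192) (Steps.bwd (nat_lit 2) (Steps.bwd (nat_lit 1) (Steps.fwd (nat_lit 16384) (Steps.fwd (nat_lit 8192) (Steps.bwd (nat_lit 3) (Steps.bwd (nat_lit 1) Steps.nil)))))))))))) (nat_lit 195) (nat_lit 11),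
  Rule.mk (nat_lit 0) (nat_lit 194) (Steps.bwd (nat_lit 1) (Steps.bwd (nat_lit 2) (Steps.fwd (nat_lit 8192) (Steps.bwd (nat_lit 2) (Steps.bwd (nat_lit 1) (Steps.fwd (nat_lit 16384) (Steps.fwd (nat_lit 8192) (Steps.bwd (nat_lit 3) (Steps.bwd (nat_lit 1) (Steps.bwd (nat_lit 4) (Steps.bwd (nat_lit 2) (Steps.fwd (nat_lit 155648) Steps.nil)))))))))))) (nat_lit 194) (nat_lit 1),
  Rule.mk (nat_lit 15) (nat_lit 179) (Steps.bwd (nat_lit 3) (Steps.bwd (nat_lit 1) (Steps.bwd (nat_lit 4) (Steps.bwd (nat_lit 3) (Steps.bwd (nat_lit 1) (Steps.fwd (nat_lit 24576) (Steps.fwd (nat_lit 8192) (Steps.fwd (nat_lit 24576) (Steps.fwd (nat_lit 8192) (Steps.fwd (nat_lit 24576) (Steps.bwd (nat_lit 1) Steps.nil))))))))))) (nat_lit 191) (nat_lit 0),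
  Rule.mk (nat_lit 17) (nat_lit 179) (Steps.bwd (nat_lit 2) (Steps.fwd (nat_lit 8192) (Steps.fwd (nat_lit 24576) (Steps.bwd (nat_lit 1) (Steps.fwd (nat_lit 16384) (Steps.fwd (nat_lit 8192) (Steps.bwd (nat_lit 3) (Steps.bwd (nat_lit 1) (Steps.bwd (nat_lit 4) (Steps.fwd (nat_lit 24576) (Steps.bwd (nat_lit 1) Steps.nil))))))))))) (nat_lit 193) (nat_lit 0),
  Rule.mk (nat_lit 1) (nat_lit 179) (Steps.bwd (nat_lit 17) (Steps.fwd (nat_lit 24576) (Steps.fwd (nat_lit 8192) (Steps.fwd (nat_lit 24576) (Steps.bwd (nat_lit 1) (Steps.fwd (nat_lit 16384) (Steps.fwd (nat_lit 8192) (Steps.bwd (nat_lit 3) (Steps.fwd (nat_lit 8192) (Steps.fwd (nat_lit 32768) (Steps.fwd (nat_lit 24576) Steps.nil))))))))))) (nat_lit 193) (nat_lit 11),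
  Rule.mk (nat_lit 9) (nat_lit 89) (Steps.fwd (nat_lit 8192) (Steps.fwd (nat_lit 32768) (Steps.fwd (nat_lit 57344) (Steps.fwd (nat_lit 114688) (Steps.bwd (nat_lit 1) Steps.nil))))) (nat_lit 156) (nat_lit 2),
  Rule.mk (nat_lit 6) (nat_lit 104) (Steps.fwd (nat_lit 90112) (Steps.bwd (nat_lit 12) (Steps.bwd (nat_lit 14) (Steps.fwd (nat_lit 8192) (Steps.bwd (nat_lit 11) (Steps.bwd (nat_lit 1) Steps.nil)))))) (nat_lit 160) (nat_lit 4),
  Rule.mk (nat_lit 10) (nat_lit 134) (Steps.bwd (nat_lit 1) (Steps.fwd (nat_lit 114688) (Steps.fwd (nat_lit 90112) (Steps.fwd (nat_lit 73728) (Steps.fwd (nat_lit 65536) (Steps.fwd (nat_lit 40960) (Steps.bwd (nat_lit 4) (Steps.bwd (nat_lit 1) Steps.nil)))))))) (nat_lit 159) (nat_lit 8),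
  Rule.mk (nat_lit 12) (nat_lit 164) (Steps.bwd (nat_lit 1) (Steps.fwd (nat_lit 114688) (Steps.bwd (nat_lit 12) (Steps.fwd (nat_lit 90112) (Steps.fwd (nat_lit 81920) (Steps.fwd (nat_lit 73728) (Steps.fwd (nat_lit 65536) (Steps.fwd (nat_lit 40960) (Steps.bwd (nat_lit 4) (Steps.bwd (nat_lit 1) Steps.nil)))))))))) (nat_lit 163) (nat_lit 10),
  Rule.mk (nat_lit 15) (nat_lit 179) (Steps.fwd (nat_lit 16384) (Steps.fwd (nat_lit 8192) (Steps.fwd (nat_lit 32768) (Steps.bwd (nat_lit 3) (Steps.bwd (nat_lit 1) (Steps.fwd (nat_lit 24576) (Steps.bwd (nat_lit 1) (Steps.bwd (nat_lit 2) (Steps.fwd (nat_lit 8192) (Steps.fwd (nat_lit 24576) (Steps.bwd (nat_lit 1) Steps.nil))))))))))) (nat_lit 191) (nat_lit 0),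
  Rule.mk (nat_lit 2) (nat_lit 539) (Steps.fwd (nat_lit 8192) (Steps.fwd (nat_lit 16384) (Steps.bwd (nat_lit 1) (Steps.fwd (nat_lit 24576) (Steps.fwd (nat_lit 8192) (Steps.bwd (nat_lit 3) (Steps.bwd (nat_lit 1) (Steps.fwd (nat_lit 16384) (Steps.bwd (nat_lit 1) (Steps.bwd (nat_lit 2) (Steps.fwd (nat_lit 8192) (Steps.bwd (nat_lit 3) (Steps.fwd (nat_lit 8192) (Steps.fwd (nat_lit 16384) (Steps.fwd (nat_lit 8192) (Steps.fwd (nat_lit 24576) (Steps.fwd (nat_lit 8192) (Steps.fwd (nat_lit 16384) (Steps.bwd (nat_lit 1) (Steps.fwd (nat_lit 16384) (Steps.bwd (nat_lit 1) (Steps.fwd (nat_lit 24576) (Steps.bwd (nat_lit 1) (Steps.fwd (nat_lit 24576) (Steps.fwd (nat_lit 8192) (Steps.fwd (nat_lit 16384) (Steps.bwd (nat_lit 1) (Steps.fwd (nat_lit 24576) (Steps.bwd (nat_lit 1) (Steps.fwd (nat_lit 24576) (Steps.fwd (nat_lit 8192) (Steps.bwd (nat_lit 3) (Steps.fwd (nat_lit 8192) (Steps.fwd (nat_lit 24576) (Steps.bwd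 (nat_lit 1) Steps.nil))))))))))))))))))))))))))))))))))) (nat_lit 12) (nat_lit 16),
  Rule.mk (nat_lit 16) (nat_lit 179) (Steps.fwd (nat_lit 8192) (Steps.bwd (nat_lit 3) (Steps.bwd (nat_lit 1) (Steps.bwd (nat_lit 3) (Steps.bwd (nat_lit 1) (Steps.fwd (nat_lit 16384) (Steps.fwd (nat_lit 8192) (Steps.fwd (nat_lit 24576) (Steps.bwd (nat_lit 4) (Steps.bwd (nat_lit 1) (Steps.fwd (nat_lit 24576) Steps.nil))))))))))) (nat_lit 190) (nat_lit 1),
  Rule.mk (nat_lit 15) (nat_lit 179) (Steps.fwd (nat_lit 16384) (Steps.fwd (nat_lit 8192) (Steps.fwd (nat_lit 32768) (Steps.bwd (nat_lit 3) (Steps.bwd (nat_lit 1) (Steps.fwd (nat_lit 24576) (Steps.bwd (nat_lit 1) (Steps.bwd (nat_lit 2) (Steps.fwd (nat_lit 8192) (Steps.fwd (nat_lit 24576) (Steps.fwd (nat_lit 8192) Steps.nil))))))))))) (nat_lit 191) (nat_lit 0),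
  Rule.mk (nat_lit 17) (nat_lit 179) (Steps.fwd (nat_lit 24576) (Steps.bwd (nat_lit 1) (Steps.fwd (nat_lit 24576) (Steps.bwd (nat_lit 1) (Steps.bwd (nat_lit 3) (Steps.bwd (nat_lit 1) (Steps.fwd (nat_lit 16384) (Steps.fwd (nat_lit 8192) (Steps.fwd (nat_lit 32768) (Steps.fwd (nat_lit 24576) (Steps.bwd (nat_lit 1) Steps.nil))))))))))) (nat_lit 193) (nat_lit 0),
  Rule.mk (nat_lit 17) (nat_lit 179) (Steps.fwd (nat_lit 24576) (Steps.fwd (nat_lit 8192) (Steps.bwd (nat_lit 2) (Steps.bwd (nat_lit 1) (Steps.fwd (nat_lit 16384) (Steps.fwd (nat_lit 8192) (Steps.bwd (nat_lit 3) (Steps.bwd (nat_lit 1) (Steps.bwd (nat_lit 4) (Steps.fwd (nat_lit 24576) (Steps.fwd (nat_lit 8192) Steps.nil))))))))))) (nat_lit 193) (nat_lit 0),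
  Rule.mk (nat_lit 20) (nat_lit 179) (Steps.fwd (nat_lit 8192) (Steps.fwd (nat_lit 24576) (Steps.bwd (nat_lit 1) (Steps.fwd (nat_lit 24576) (Steps.bwd (nat_lit 1) (Steps.bwd (nat_lit 3) (Steps.bwd (nat_lit 1) (Steps.fwd (nat_lit 16384) (Steps.fwd (nat_lit 8192) (Steps.fwd (nat_lit 32768) (Steps.fwd (nat_lit 24576) Steps.nil))))))))))) (nat_lit 194) (nat_lit 1),
  Rule.mk (nat_lit 20) (nat_lit 179) (Steps.fwd (nat_lit 8192) (Steps.fwd (nat_lit 24576) (Steps.fwd (nat_lit 8192) (Steps.bwd (nat_lit 2) (Steps.bwd (nat_lit 1) (Steps.fwd (nat_lit 16384) (Steps.fwd (nat_lit 8192) (Steps.bwd (nat_lit 3) (Steps.bwd (nat_lit 1) (Steps.bwd (nat_lit 4) (Steps.fwd (nat_lit 24576) Steps.nil))))))))))) (nat_lit 194) (nat_lit 1),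
  Rule.mk (nat_lit 19) (nat_lit 179) (Steps.fwd (nat_lit 16384) (Steps.bwd (nat_lit 4) (Steps.fwd (nat_lit 8192) (Steps.fwd (nat_lit 24576) (Steps.bwd (nat_lit 1) (Steps.fwd (nat_lit 24576) (Steps.bwd (nat_lit 1) (Steps.bwd (nat_lit 3) (Steps.bwd (nat_lit 1) (Steps.fwd (nat_lit 16384) (Steps.fwd (nat_lit 8192) Steps.nil))))))))))) (nat_lit 195) (nat_lit 0),
  Rule.mk (nat_lit 0) (nat_lit 194) (Steps.bwd (nat_lit 20) (Steps.fwd (nat_lit 8192) (Steps.fwd (nat_lit 24576) (Steps.bwd (nat_lit 1) (Steps.bwd (nat_lit 2) (Steps.fwd (nat_lit 8192) (Steps.fwd (nat_lit 16384) (Steps.bwd (nat_lit 1) (Steps.bwd (nat_lit 3) (Steps.bwd (nat_lit 1) (Steps.fwd (nat_lit 32768) (Steps.fwd (nat_lit 24576) Steps.nil)))))))))))) (nat_lit 194) (nat_lit 0),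
  Rule.mk (nat_lit 17) (nat_lit 179) (Steps.bwd (nat_lit 2) (Steps.fwd (nat_lit 8192) (Steps.fwd (nat_lit 24576) (Steps.fwd (nat_lit 8192) (Steps.bwd (nat_lit 3) (Steps.fwd (nat_lit 8192) (Steps.bwd (nat_lit 3) (Steps.bwd (nat_lit 1) (Steps.fwd (nat_lit 32768) (Steps.bwd (nat_lit 2) (Steps.fwd (nat_lit 8192) Steps.nil))))))))))) (nat_lit 193) (nat_lit 0),
  Rule.mk (nat_lit 11) (nat_lit 164) (Steps.bwd (nat_lit 3) (Steps.fwd (nat_lit 32768) (Steps.bwd (nat_lit 5) (Steps.bwd (nat_lit 8) (Steps.bwd (nat_lit 9) (Steps.bwd (nat_lit 10) (Steps.bwd (nat_lit 11) (Steps.fwd (nat_lit 98304) (Steps.bwd (nat_lit 14) (Steps.bwd (nat_lit 2) Steps.nil)))))))))) (nat_lit 182) (nat_lit 2),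
  Rule.mk (nat_lit 15) (nat_lit 179) (Steps.fwd (nat_lit 16384) (Steps.bwd (nat_lit 1) (Steps.fwd (nat_lit 32768) (Steps.fwd (nat_lit 16384) (Steps.fwd (nat_lit 8192) (Steps.fwd (nat_lit 24576) (Steps.bwd (nat_lit 1) (Steps.fwd (nat_lit 24576) (Steps.bwd (nat_lit 1) (Steps.bwd (nat_lit 2) (Steps.fwd (nat_lit 8192) Steps.nil))))))))))) (nat_lit 191) (nat_lit 0),
  Rule.mk (nat_lit 17) (nat_lit 179) (Steps.fwd (nat_lit 24576) (Steps.bwd (nat_lit 1) (Steps.bwd (nat_lit 2) (Steps.fwd (nat_lit 8192) (Steps.bwd (nat_lit 3) (Steps.bwd (nat_lit 1) (Steps.bwd (nat_lit 3) (Steps.bwd (nat_lit 1) (Steps.fwd (nat_lit 32768) (Steps.bwd (nat_lit 2) (Steps.fwd (nat_lit 8192) Steps.nil))))))))))) (nat_lit 193) (nat_lit 0),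
  Rule.mk (nat_lit 17) (nat_lit 179) (Steps.fwd (nat_lit 24576) (Steps.bwd (nat_lit 1) (Steps.bwd (nat_lit 2) (Steps.fwd (nat_lit 8192) (Steps.bwd (nat_lit 3) (Steps.bwd (nat_lit 1) (Steps.fwd (nat_lit 16384) (Steps.fwd (nat_lit 8192) (Steps.fwd (nat_lit 32768) (Steps.bwd (nat_lit 2) (Steps.fwd (nat_lit 8192) Steps.nil))))))))))) (nat_lit 193) (nat_lit 0),
  Rule.mk (nat_lit 20) (nat_lit 179) (Steps.bwd (nat_lit 1) (Steps.fwd (nat_lit 24576) (Steps.bwd (nat_lit 1) (Steps.bwd (nat_lit 2) (Steps.fwd (nat_lit 8192) (Steps.bwd (nat_lit 3) (Steps.bwd (nat_lit 1) (Steps.bwd (nat_lit 3) (Steps.bwd (nat_lit 1) (Steps.fwd (nat_lit 32768) (Steps.bwd (nat_lit 2) Steps.nil))))))))))) (nat_lit 194) (nat_lit 1),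
  Rule.mk (nat_lit 20) (nat_lit 179) (Steps.bwd (nat_lit 1) (Steps.fwd (nat_lit 24576) (Steps.bwd (nat_lit 1) (Steps.bwd (nat_lit 2) (Steps.fwd (nat_lit 8192) (Steps.bwd (nat_lit 3) (Steps.bwd (nat_lit 1) (Steps.fwd (nat_lit 16384) (Steps.fwd (nat_lit 8192) (Steps.fwd (nat_lit 32768) (Steps.bwd (nat_lit 2) Steps.nil))))))))))) (nat_lit 194) (nat_lit 1),
  Rule.mk (nat_lit 3) (nat_lit 179) (Steps.bwd (nat_lit 18) (Steps.fwd (nat_lit 8192) (Steps.bwd (nat_lit 3) (Steps.fwd (nat_lit 32768) (Steps.fwd (nat_lit 8192) (Steps.bwd (nat_lit 2) (Steps.fwd (nat_lit 8192) (Steps.bwd (nat_lit 2) (Steps.fwd (nat_lit 8192) (Steps.fwd (nat_lit 16384) (Steps.fwd (nat_lit 8192) Steps.nil))))))))))) (nat_lit 192) (nat_lit 0),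
  Rule.mk (nat_lit 14) (nat_lit 119) (Steps.fwd (nat_lit 98304) (Steps.bwd (nat_lit 7) (Steps.bwd (nat_lit 6) (Steps.bwd (nat_lit 5) (Steps.fwd (nat_lit 24576) (Steps.bwd (nat_lit 14) (Steps.bwd (nat_lit 3) Steps.nil))))))) (nat_lit 189) (nat_lit 1),
  Rule.mk (nat_lit 16) (nat_lit 179) (Steps.bwd (nat_lit 1) (Steps.bwd (nat_lit 3) (Steps.bwd (nat_lit 1) (Steps.bwd (nat_lit 3) (Steps.fwd (nat_lit 8192) (Steps.bwd (nat_lit 3) (Steps.fwd (nat_lit 8192) (Steps.fwd (nat_lit 24576) (Steps.bwd (nat_lit 4) (Steps.fwd (nat_lit 8192) (Steps.fwd (nat_lit 24576) Steps.nil))))))))))) (nat_lit 190) (nat_lit 1),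
  Rule.mk (nat_lit 15) (nat_lit 179) (Steps.bwd (nat_lit 3) (Steps.bwd (nat_lit 1) (Steps.fwd (nat_lit 32768) (Steps.bwd (nat_lit 3) (Steps.fwd (nat_lit 8192) (Steps.fwd (nat_lit 24576) (Steps.fwd (nat_lit 8192) (Steps.bwd (nat_lit 2) (Steps.bwd (nat_lit 1) (Steps.fwd (nat_lit 24576) (Steps.bwd (nat_lit 1) Steps.nil))))))))))) (nat_lit 191) (nat_lit 0),
  Rule.mk (nat_lit 6) (nat_lit 104) (Steps.bwd (nat_lit 1) (Steps.fwd (nat_lit 90112) (Steps.fwd (nat_lit 8192) (Steps.bwd (nat_lit 14) (Steps.bwd (nat_lit 12) (Steps.bwd (nat_lit 11) Steps.nil)))))) (nat_lit 161) (nat_lit 4),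
  Rule.mk (nat_lit 10) (nat_lit 134) (Steps.bwd (nat_lit 1) (Steps.bwd (nat_lit 4) (Steps.fwd (nat_lit 40960) (Steps.bwd (nat_lit 8) (Steps.bwd (nat_lit 9) (Steps.fwd (nat_lit 90112) (Steps.bwd (nat_lit 14) (Steps.bwd (nat_lit 1) Steps.nil)))))))) (nat_lit 158) (nat_lit 2),
  Rule.mk (nat_lit 12) (nat_lit 164) (Steps.bwd (nat_lit 1) (Steps.bwd (nat_lit 4) (Steps.fwd (nat_lit 40960) (Steps.bwd (nat_lit 8) (Steps.bwd (nat_lit 9) (Steps.fwd (nat_lit 81920) (Steps.fwd (nat_lit 90112) (Steps.bwd (nat_lit 12) (Steps.bwd (nat_lit 14) (Steps.fwd (nat_lit 8192) Steps.nil)))))))))) (nat_lit 162) (nat_lit 2),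
  Rule.mk (nat_lit 0) (nat_lit 194) (Steps.bwd (nat_lit 17) (Steps.fwd (nat_lit 24576) (Steps.bwd (nat_lit 1) (Steps.fwd (nat_lit 24576) (Steps.fwd (nat_lit 8192) (Steps.bwd (nat_lit 3) (Steps.fwd (nat_lit 8192) (Steps.bwd (nat_lit 3) (Steps.fwd (nat_lit 8192) (Steps.fwd (nat_lit 32768) (Steps.bwd (nat_lit 2) (Steps.bwd (nat_lit 1) Steps.nil)))))))))))) (nat_lit 193) (nat_lit 11),
  Rule.mk (nat_lit 18) (nat_lit 179) (Steps.bwd (nat_lit 1) (Steps.bwd (nat_lit 3) (Steps.fwd (nat_lit 32768) (Steps.bwd (nat_lit 1) (Steps.fwd (nat_lit 24576) (Steps.fwd (nat_lit 8192) (Steps.bwd (nat_lit 2) (Steps.fwd (nat_lit 8192) (Steps.fwd (nat_lit 16384) (Steps.fwd (nat_lit 8192) (Steps.bwd (nat_lit 3) Steps.nil))))))))))) (nat_lit 192) (nat_lit 1),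
  Rule.mk (nat_lit 2) (nat_lit 179) (Steps.bwd (nat_lit 1) (Steps.fwd (nat_lit 24576) (Steps.bwd (nat_lit 1) (Steps.fwd (nat_lit 16384) (Steps.fwd (nat_lit 8192) (Steps.bwd (nat_lit 3) (Steps.fwd (nat_lit 8192) (Steps.bwd (nat_lit 4) (Steps.fwd (nat_lit 24576) (Steps.bwd (nat_lit 1) (Steps.fwd (nat_lit 147456) Steps.nil))))))))))) (nat_lit 193) (nat_lit 1),
  Rule.mk (nat_lit 20) (nat_lit 179) (Steps.bwd (nat_lit 1) (Steps.fwd (nat_lit 24576) (Steps.bwd (nat_lit 1) (Steps.fwd (nat_lit 24576) (Steps.bwd (nat_lit 1) (Steps.bwd (nat_lit 3) (Steps.fwd (nat_lit 8192) (Steps.bwd (nat_lit 3) (Steps.fwd (nat_lit 8192) (Steps.bwd (nat_lit 4) (Steps.bwd (nat_lit 2) Steps.nil))))))))))) (nat_lit 194) (nat_lit 1),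
  Rule.mk (nat_lit 0) (nat_lit 194) (Steps.bwd (nat_lit 20) (Steps.bwd (nat_lit 1) (Steps.fwd (nat_lit 24576) (Steps.bwd (nat_lit 1) (Steps.fwd (nat_lit 24576) (Steps.fwd (nat_lit 8192) (Steps.bwd (nat_lit 3) (Steps.fwd (nat_lit 8192) (Steps.bwd (nat_lit 3) (Steps.fwd (nat_lit 8192) (Steps.fwd (nat_lit 32768) (Steps.bwd (nat_lit 2) Steps.nil)))))))))))) (nat_lit 194) (nat_lit 0),
  Rule.mk (nat_lit 0) (nat_lit 554) (Steps.bwd (nat_lit 2) (Steps.bwd (nat_lit 1) (Steps.bwd (nat_lit 3) (Steps.bwd (nat_lit 1) (Steps.fwd (nat_lit 16384) (Steps.fwd (nat_lit 8192) (Steps.bwd (nat_lit 2) (Steps.fwd (nat_lit 8192) (Steps.bwd (nat_lit 2) (Steps.fwd (nat_lit 8192) (Steps.bwd (nat_lit 3) (Steps.bwd (nat_lit 1) (Steps.fwd (nat_lit 24576) (Steps.fwd (nat_lit 8192) (Steps.fwd (nat_lit 24576) (Steps.bwd (nat_lit 1) (Steps.bwd (nat_lit 3) (Steps.bwd (nat_lit 1) (Steps.fwd (nat_lit 24576) (Steps.bwd (nat_lit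 1) (Steps.fwd (nat_lit 24576) (Steps.bwd (nat_lit 1) (Steps.bwd (nat_lit 3) (Steps.bwd (nat_lit 1) (Steps.fwd (nat_lit 24576) (Steps.bwd (nat_lit 1) (Steps.fwd (nat_lit 16384) (Steps.fwd (nat_lit 8192) (Steps.fwd (nat_lit 16384) (Steps.bwd (nat_lit 1) (Steps.fwd (nat_lit 24576) (Steps.bwd (nat_lit 1) (Steps.fwd (nat_lit 16384) (Steps.bwd (nat_lit 1) (Steps.bwd (nat_lit 3) (Steps.bwd (nat_lit 1) Steps.nil)))))))))))))))))))))))))))))))))))) (nat_lit 12) (nat_lit 31),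
  Rule.mk (nat_lit 16) (nat_lit 179) (Steps.fwd (nat_lit 8192) (Steps.bwd (nat_lit 3) (Steps.fwd (nat_lit 8192) (Steps.bwd (nat_lit 3) (Steps.fwd (nat_lit 8192) (Steps.bwd (nat_lit 3) (Steps.fwd (nat_lit 8192) (Steps.fwd (nat_lit 24576) (Steps.bwd (nat_lit 4) (Steps.bwd (nat_lit 1) (Steps.fwd (nat_lit 24576) Steps.nil))))))))))) (nat_lit 190) (nat_lit 1),
  Rule.mk (nat_lit 16) (nat_lit 179) (Steps.fwd (nat_lit 8192) (Steps.bwd (nat_lit 3) (Steps.fwd (nat_lit 8192) (Steps.bwd (nat_lit 3) (Steps.fwd (nat_lit 8192) (Steps.fwd (nat_lit 16384) (Steps.bwd (nat_lit 1) (Steps.fwd (nat_lit 24576) (Steps.bwd (nat_lit 4) (Steps.bwd (nat_lit 1) (Steps.fwd (nat_lit 24576) Steps.nil))))))))))) (nat_lit 190) (nat_lit 1),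
  Rule.mk (nat_lit 18) (nat_lit 179) (Steps.fwd (nat_lit 8192) (Steps.bwd (nat_lit 3) (Steps.bwd (nat_lit 4) (Steps.bwd (nat_lit 1) (Steps.fwd (nat_lit 24576) (Steps.fwd (nat_lit 8192) (Steps.bwd (nat_lit 2) (Steps.fwd (nat_lit 8192) (Steps.fwd (nat_lit 16384) (Steps.bwd (nat_lit 1) (Steps.bwd (nat_lit 3) Steps.nil))))))))))) (nat_lit 192) (nat_lit 1),
  Rule.mk (nat_lit 17) (nat_lit 179) (Steps.fwd (nat_lit 24576) (Steps.bwd (nat_lit 1) (Steps.bwd (nat_lit 2) (Steps.fwd (nat_lit 8192) (Steps.bwd (nat_lit 3) (Steps.fwd (nat_lit 8192) (Steps.bwd (nat_lit 3) (Steps.fwd (nat_lit 8192) (Steps.bwd (nat_lit 4) (Steps.fwd (nat_lit 24576) (Steps.bwd (nat_lit 1) Steps.nil))))))))))) (nat_lit 193) (nat_lit 0),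
  Rule.mk (nat_lit 20) (nat_lit 179) (Steps.bwd (nat_lit 1) (Steps.fwd (nat_lit 24576) (Steps.bwd (nat_lit 1) (Steps.bwd (nat_lit 2) (Steps.fwd (nat_lit 8192) (Steps.bwd (nat_lit 3) (Steps.fwd (nat_lit 8192) (Steps.bwd (nat_lit 3) (Steps.fwd (nat_lit 8192) (Steps.bwd (nat_lit 4) (Steps.fwd (nat_lit 24576) Steps.nil))))))))))) (nat_lit 194) (nat_lit 1),
  Rule.mk (nat_lit 20) (nat_lit 179) (Steps.bwd (nat_lit 1) (Steps.bwd (nat_lit 2) (Steps.fwd (nat_lit 8192) (Steps.fwd (nat_lit 24576) (Steps.fwd (nat_lit 8192) (Steps.bwd (nat_lit 3) (Steps.fwd (nat_lit 8192) (Steps.bwd (nat_lit 3) (Steps.fwd (nat_lit 8192) (Steps.fwd (nat_lit 32768) (Steps.fwd (nat_lit 24576) Steps.nil))))))))))) (nat_lit 194) (nat_lit 1),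
  Rule.mk (nat_lit 19) (nat_lit 179) (Steps.bwd (nat_lit 3) (Steps.fwd (nat_lit 32768) (Steps.bwd (nat_lit 1) (Steps.fwd (nat_lit 24576) (Steps.bwd (nat_lit 1) (Steps.bwd (nat_lit 2) (Steps.fwd (nat_lit 8192) (Steps.bwd (nat_lit 3) (Steps.fwd (nat_lit 8192) (Steps.bwd (nat_lit 3) (Steps.fwd (nat_lit 8192) Steps.nil))))))))))) (nat_lit 195) (nat_lit 0),
  Rule.mk (nat_lit 19) (nat_lit 179) (Steps.bwd (nat_lit 3) (Steps.bwd (nat_lit 4) (Steps.bwd (nat_lit 1) (Steps.fwd (nat_lit 24576) (Steps.fwd (nat_lit 8192) (Steps.bwd (nat_lit 2) (Steps.fwd (nat_lit 8192) (Steps.fwd (nat_lit 16384) (Steps.bwd (nat_lit 1) (Steps.bwd (nat_lit 3) (Steps.fwd (nat_lit 8192) Steps.nil))))))))))) (nat_lit 195) (nat_lit 0),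
  Rule.mk (nat_lit 15) (nat_lit 179) (Steps.bwd (nat_lit 3) (Steps.bwd (nat_lit 1) (Steps.bwd (nat_lit 4) (Steps.bwd (nat_lit 3) (Steps.bwd (nat_lit 1) (Steps.fwd (nat_lit 24576) (Steps.fwd (nat_lit 8192) (Steps.bwd (nat_lit 2) (Steps.fwd (nat_lit 8192) (Steps.fwd (nat_lit 24576) (Steps.bwd (nat_lit 1) Steps.nil))))))))))) (nat_lit 191) (nat_lit 0),
  Rule.mk (nat_lit 2) (nat_lit 539) (Steps.bwd (nat_lit 1) (Steps.bwd (nat_lit 3) (Steps.bwd (nat_lit 1) (Steps.bwd (nat_lit 3) (Steps.bwd (nat_lit 1) (Steps.bwd (nat_lit 2) (Steps.fwd (nat_lit 8192) (Steps.fwd (nat_lit 16384) (Steps.bwd (nat_lit 1) (Steps.bwd (nat_lit 3) (Steps.bwd (nat_lit 1) (Steps.fwd (nat_lit 24576) (Steps.bwd (nat_lit 1) (Steps.fwd (nat_lit 16384) (Steps.bwd (nat_lit 1) (Steps.bwd (nat_lit 3) (Steps.bwd (nat_lit 1) (Steps.fwd (nat_lit 24576) (Steps.bwd (nat_lit 1) (Steps.bwd (nat_lit 2) (Steps.fwd (nat_lit 8192) (Steps.bwd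 (nat_lit 3) (Steps.bwd (nat_lit 1) (Steps.fwd (nat_lit 24576) (Steps.bwd (nat_lit 1) (Steps.bwd (nat_lit 2) (Steps.fwd (nat_lit 8192) (Steps.fwd (nat_lit 16384) (Steps.fwd (nat_lit 8192) (Steps.fwd (nat_lit 24576) (Steps.bwd (nat_lit 1) (Steps.fwd (nat_lit 24576) (Steps.fwd (nat_lit 8192) (Steps.bwd (nat_lit 3) (Steps.bwd (nat_lit 1) Steps.nil))))))))))))))))))))))))))))))))))) (nat_lit 12) (nat_lit 20),
  Rule.mk (nat_lit 12) (nat_lit 104) (Steps.fwd (nat_lit 16384) (Steps.bwd (nat_lit 4) (Steps.fwd (nat_lit 40960) (Steps.fwd (nat_lit 65536) (Steps.bwd (nat_lit 9) (Steps.bwd (nat_lit 2) Steps.nil)))))) (nat_lit 184) (nat_lit 2),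
  Rule.mk (nat_lit 13) (nat_lit 134) (Steps.fwd (nat_lit 16384) (Steps.bwd (nat_lit 6) (Steps.fwd (nat_lit 81920) (Steps.bwd (nat_lit 11) (Steps.fwd (nat_lit 98304) (Steps.bwd (nat_lit 13) (Steps.bwd (nat_lit 14) (Steps.bwd (nat_lit 2) Steps.nil)))))))) (nat_lit 186) (nat_lit 2),
  Rule.mk (nat_lit 5) (nat_lit 149) (Steps.fwd (nat_lit 16384) (Steps.bwd (nat_lit 4) (Steps.bwd (nat_lit 5) (Steps.bwd (nat_lit 8) (Steps.fwd (nat_lit 73728) (Steps.fwd (nat_lit 98304) (Steps.bwd (nat_lit 13) (Steps.bwd (nat_lit 14) (Steps.bwd (nat_lit 2) Steps.nil))))))))) (nat_lit 170) (nat_lit 2),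
  Rule.mk (nat_lit 6) (nat_lit 164) (Steps.fwd (nat_lit 16384) (Steps.bwd (nat_lit 14) (Steps.bwd (nat_lit 13) (Steps.bwd (nat_lit 12) (Steps.fwd (nat_lit 90112) (Steps.fwd (nat_lit 81920) (Steps.bwd (nat_lit 9) (Steps.fwd (nat_lit 49152) (Steps.bwd (nat_lit 5) (Steps.bwd (nat_lit 2) Steps.nil)))))))))) (nat_lit 173) (nat_lit 10),
  Rule.mk (nat_lit 11) (nat_lit 164) (Steps.bwd (nat_lit 3) (Steps.bwd (nat_lit 4) (Steps.fwd (nat_lit 40960) (Steps.fwd (nat_lit 65536) (Steps.fwd (nat_lit 73728) (Steps.bwd (nat_lit 10) (Steps.bwd (nat_lit 11) (Steps.bwd (nat_lit 12) (Steps.bwd (nat_lit 14) (Steps.bwd (nat_lit 2) Steps.nil)))))))))) (nat_lit 182) (nat_lit 2),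
  Rule.mk (nat_lit 15) (nat_lit 179) (Steps.bwd (nat_lit 3) (Steps.fwd (nat_lit 8192) (Steps.fwd (nat_lit 32768) (Steps.bwd (nat_lit 3) (Steps.bwd (nat_lit 1) (Steps.bwd (nat_lit 2) (Steps.bwd (nat_lit 1) (Steps.bwd (nat_lit 2) (Steps.fwd (nat_lit 8192) (Steps.fwd (nat_lit 24576) (Steps.fwd (nat_lit 8192) Steps.nil))))))))))) (nat_lit 191) (nat_lit 0),
  Rule.mk (nat_lit 18) (nat_lit 179) (Steps.fwd (nat_lit 8192) (Steps.bwd (nat_lit 3) (Steps.fwd (nat_lit 32768) (Steps.bwd (nat_lit 1) (Steps.bwd (nat_lit 2) (Steps.bwd (nat_lit 1) (Steps.bwd (nat_lit 2) (Steps.fwd (nat_lit 8192) (Steps.bwd (nat_lit 3) (Steps.fwd (nat_lit 8192) (Steps.fwd (nat_lit 16384) Steps.nil))))))))))) (nat_lit 192) (nat_lit 1),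
  Rule.mk (nat_lit 17) (nat_lit 179) (Steps.bwd (nat_lit 2) (Steps.bwd (nat_lit 1) (Steps.fwd (nat_lit 24576) (Steps.bwd (nat_lit 1) (Steps.bwd (nat_lit 3) (Steps.bwd (nat_lit 1) (Steps.fwd (nat_lit 16384) (Steps.fwd (nat_lit 8192) (Steps.fwd (nat_lit 32768) (Steps.bwd (nat_lit 2) (Steps.bwd (nat_lit 1) Steps.nil))))))))))) (nat_lit 193) (nat_lit 0),
  Rule.mk (nat_lit 2) (nat_lit 179) (Steps.bwd (nat_lit 1) (Steps.bwd (nat_lit 2) (Steps.bwd (nat_lit 1) (Steps.bwd (nat_lit 3) (Steps.bwd (nat_lit 1) (Steps.bwd (nat_lit 3) (Steps.bwd (nat_lit 1) (Steps.bwd (nat_lit 4) (Steps.fwd (nat_lit 24576) (Steps.fwd (nat_lit 8192) (Steps.fwd (nat_lit 147456) Steps.nil))))))))))) (nat_lit 193) (nat_lit 1),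
  Rule.mk (nat_lit 17) (nat_lit 179) (Steps.bwd (nat_lit 2) (Steps.bwd (nat_lit 1) (Steps.bwd (nat_lit 2) (Steps.fwd (nat_lit 8192) (Steps.bwd (nat_lit 3) (Steps.fwd (nat_lit 8192) (Steps.fwd (nat_lit 16384) (Steps.bwd (nat_lit 1) (Steps.bwd (nat_lit 4) (Steps.fwd (nat_lit 24576) (Steps.bwd (nat_lit 1) Steps.nil))))))))))) (nat_lit 193) (nat_lit 0),
  Rule.mk (nat_lit 20) (nat_lit 179) (Steps.bwd (nat_lit 1) (Steps.bwd (nat_lit 2) (Steps.bwd (nat_lit 1) (Steps.fwd (nat_lit 24576) (Steps.bwd (nat_lit 1) (Steps.bwd (nat_lit 3) (Steps.bwd (nat_lit 1) (Steps.fwd (nat_lit 16384) (Steps.fwd (nat_lit 8192) (Steps.fwd (nat_lit 32768) (Steps.bwd (nat_lit 2) Steps.nil))))))))))) (nat_lit 194) (nat_lit 1),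
  Rule.mk (nat_lit 1) (nat_lit 179) (Steps.bwd (nat_lit 2) (Steps.bwd (nat_lit 1) (Steps.bwd (nat_lit 2) (Steps.bwd (nat_lit 1) (Steps.bwd (nat_lit 3) (Steps.bwd (nat_lit 1) (Steps.bwd (nat_lit 3) (Steps.bwd (nat_lit 1) (Steps.bwd (nat_lit 4) (Steps.fwd (nat_lit 24576) (Steps.fwd (nat_lit 155648) Steps.nil))))))))))) (nat_lit 194) (nat_lit 2),
  Rule.mk (nat_lit 20) (nat_lit 179) (Steps.bwd (nat_lit 1) (Steps.bwd (nat_lit 2) (Steps.bwd (nat_lit 1) (Steps.bwd (nat_lit 2) (Steps.fwd (nat_lit 8192) (Steps.bwd (nat_lit 3) (Steps.fwd (nat_lit 8192) (Steps.fwd (nat_lit 16384) (Steps.bwd (nat_lit 1) (Steps.bwd (nat_lit 4) (Steps.fwd (nat_lit 24576) Steps.nil))))))))))) (nat_lit 194) (nat_lit 1),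
  Rule.mk (nat_lit 19) (nat_lit 179) (Steps.bwd (nat_lit 3) (Steps.fwd (nat_lit 32768) (Steps.bwd (nat_lit 1) (Steps.bwd (nat_lit 2) (Steps.bwd (nat_lit 1) (Steps.bwd (nat_lit 2) (Steps.fwd (nat_lit 8192) (Steps.bwd (nat_lit 3) (Steps.fwd (nat_lit 8192) (Steps.fwd (nat_lit 16384) (Steps.bwd (nat_lit 1) Steps.nil))))))))))) (nat_lit 195) (nat_lit 0)]
noncomputable def R_88 : List (Rule) := [Rule.mk (nat_lit 0) (nat_lit 704) (Steps.bwd (nat_lit 1) (Steps.bwd (nat_lit 2) (Steps.bwd (nat_lit 1) (Steps.bwd (nat_lit 2) (Steps.bwd (nat_lit 1) (Steps.bwd (nat_lit 2) (Steps.fwd (nat_lit 8192) (Steps.fwd (nat_lit 24576) (Steps.fwd (nat_lit 8192) (Steps.bwd (nat_lit 2) (Steps.fwd (nat_lit 8192) (Steps.bwd (nat_lit 2) (Steps.fwd (nat_lit 8192) (Steps.bwd (nat_lit 2) (Steps.fwd (nat_lit 8192) (Steps.bwd (nat_lit 2) (Steps.bwd (nat_lit 1) (Steps.bwd (nat_lit 2) (Steps.fwd (nat_lit 8192) (Steps.bwd (nat_lit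 2) (Steps.bwd (nat_lit 1) (Steps.bwd (nat_lit 2) (Steps.bwd (nat_lit 1) (Steps.bwd (nat_lit 2) (Steps.fwd (nat_lit 8192) (Steps.bwd (nat_lit 2) (Steps.bwd (nat_lit 1) (Steps.bwd (nat_lit 2) (Steps.fwd (nat_lit 8192) (Steps.bwd (nat_lit 2) (Steps.bwd (nat_lit 1) (Steps.fwd (nat_lit 24576) (Steps.bwd (nat_lit 1) (Steps.fwd (nat_lit 24576) (Steps.bwd (nat_lit 1) (Steps.fwd (nat_lit 24576) (Steps.bwd (nat_lit 1) (Steps.fwd (nat_lit 24576) (Steps.bwd (nat_lit 1) (Steps.fwd (nat_lit 24576) (Steps.bwd (nat_lit 1) (Steps.bwd (nat_lit 2) (Steps.fwd (nat_lit 8192) (Steps.bwd (nat_lit 2) (Steps.bwd (nat_lit 1) (Steps.fwd (nat_lit 24576) Steps.nil)))))))))))))))))))))))))))))))))))))))))))))) (nat_lit 4) (nat_lit 0),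
  Rule.mk (nat_lit 14) (nat_lit 104) (Steps.bwd (nat_lit 1) (Steps.fwd (nat_lit 90112) (Steps.bwd (nat_lit 1) (Steps.bwd (nat_lit 6) (Steps.fwd (nat_lit 90112) (Steps.bwd (nat_lit 12) Steps.nil)))))) (nat_lit 160) (nat_lit 0),
  Rule.mk (nat_lit 10) (nat_lit 134) (Steps.bwd (nat_lit 1) (Steps.bwd (nat_lit 14) (Steps.fwd (nat_lit 90112) (Steps.bwd (nat_lit 9) (Steps.fwd (nat_lit 65536) (Steps.bwd (nat_lit 5) (Steps.fwd (nat_lit 32768) (Steps.bwd (nat_lit 1) Steps.nil)))))))) (nat_lit 159) (nat_lit 8),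
  Rule.mk (nat_lit 7) (nat_lit 164) (Steps.bwd (nat_lit 1) (Steps.bwd (nat_lit 14) (Steps.fwd (nat_lit 106496) (Steps.bwd (nat_lit 12) (Steps.fwd (nat_lit 90112) (Steps.fwd (nat_lit 81920) (Steps.fwd (nat_lit 73728) (Steps.fwd (nat_lit 49152) (Steps.fwd (nat_lit 40960) (Steps.bwd (nat_lit 1) Steps.nil)))))))))) (nat_lit 153) (nat_lit 10),
  Rule.mk (nat_lit 12) (nat_lit 164) (Steps.bwd (nat_lit 1) (Steps.bwd (nat_lit 14) (Steps.fwd (nat_lit 98304) (Steps.fwd (nat_lit 90112) (Steps.bwd (nat_lit 10) (Steps.bwd (nat_lit 9) (Steps.fwd (nat_lit 65536) (Steps.bwd (nat_lit 5) (Steps.bwd (nat_lit 4) (Steps.fwd (nat_lit 8192) Steps.nil)))))))))) (nat_lit 163) (nat_lit 10),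
  Rule.mk (nat_lit 16) (nat_lit 179) (Steps.bwd (nat_lit 1) (Steps.fwd (nat_lit 16384) (Steps.fwd (nat_lit 8192) (Steps.fwd (nat_lit 16384) (Steps.fwd (nat_lit 8192) (Steps.fwd (nat_lit 16384) (Steps.bwd (nat_lit 1) (Steps.bwd (nat_lit 2) (Steps.bwd (nat_lit 4) (Steps.fwd (nat_lit 8192) (Steps.bwd (nat_lit 2) Steps.nil))))))))))) (nat_lit 190) (nat_lit 1),
  Rule.mk (nat_lit 0) (nat_lit 194) (Steps.bwd (nat_lit 15) (Steps.bwd (nat_lit 3) (Steps.bwd (nat_lit 1) (Steps.fwd (nat_lit 32768) (Steps.bwd (nat_lit 3) (Steps.bwd (nat_lit 1) (Steps.fwd (nat_lit 24576) (Steps.fwd (nat_lit 8192) (Steps.bwd (nat_lit 2) (Steps.bwd (nat_lit 1) (Steps.bwd (nat_lit 2) (Steps.bwd (nat_lit 1) Steps.nil)))))))))))) (nat_lit 191) (nat_lit 11),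
  Rule.mk (nat_lit 16) (nat_lit 179) (Steps.fwd (nat_lit 8192) (Steps.fwd (nat_lit 16384) (Steps.bwd (nat_lit 1) (Steps.bwd (nat_lit 3) (Steps.fwd (nat_lit 8192) (Steps.fwd (nat_lit 16384) (Steps.fwd (nat_lit 8192) (Steps.bwd (nat_lit 2) (Steps.fwd (nat_lit 32768) (Steps.bwd (nat_lit 1) (Steps.fwd (nat_lit 24576) Steps.nil))))))))))) (nat_lit 190) (nat_lit 1),
  Rule.mk (nat_lit 16) (nat_lit 179) (Steps.bwd (nat_lit 1) (Steps.bwd (nat_lit 3) (Steps.fwd (nat_lit 8192) (Steps.fwd (nat_lit 16384) (Steps.fwd (nat_lit 8192) (Steps.fwd (nat_lit 16384) (Steps.fwd (nat_lit 8192) (Steps.fwd (nat_lit 24576) (Steps.bwd (nat_lit 4) (Steps.fwd (nat_lit 8192) (Steps.fwd (nat_lit 24576) Steps.nil))))))))))) (nat_lit 190) (nat_lit 1),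
  Rule.mk (nat_lit 15) (nat_lit 179) (Steps.fwd (nat_lit 16384) (Steps.bwd (nat_lit 1) (Steps.bwd (nat_lit 4) (Steps.fwd (nat_lit 16384) (Steps.bwd (nat_lit 1) (Steps.fwd (nat_lit 24576) (Steps.bwd (nat_lit 1) (Steps.fwd (nat_lit 24576) (Steps.bwd (nat_lit 1) (Steps.fwd (nat_lit 24576) (Steps.fwd (nat_lit 8192) Steps.nil))))))))))) (nat_lit 191) (nat_lit 0),
  Rule.mk (nat_lit 2) (nat_lit 539) (Steps.bwd (nat_lit 1) (Steps.bwd (nat_lit 3) (Steps.fwd (nat_lit 8192) (Steps.fwd (nat_lit 24576) (Steps.fwd (nat_lit 8192) (Steps.fwd (nat_lit 24576) (Steps.fwd (nat_lit 8192) (Steps.bwd (nat_lit 3) (Steps.fwd (nat_lit 8192) (Steps.bwd (nat_lit 2) (Steps.bwd (nat_lit 1) (Steps.bwd (nat_lit 2) (Steps.bwd (nat_lit 1) (Steps.fwd (nat_lit 16384) (Steps.fwd (nat_lit 8192) (Steps.bwd (nat_lit 2) (Steps.fwd (nat_lit 8192) (Steps.bwd (nat_lit 3) (Steps.fwd (nat_lit 8192) (Steps.fwd (nat_lit 16384) (Steps.fwd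 (nat_lit 8192) (Steps.bwd (nat_lit 2) (Steps.fwd (nat_lit 8192) (Steps.bwd (nat_lit 3) (Steps.bwd (nat_lit 1) (Steps.bwd (nat_lit 3) (Steps.fwd (nat_lit 8192) (Steps.fwd (nat_lit 24576) (Steps.fwd (nat_lit 8192) (Steps.fwd (nat_lit 16384) (Steps.bwd (nat_lit 1) (Steps.fwd (nat_lit 16384) (Steps.bwd (nat_lit 1) (Steps.fwd (nat_lit 24576) (Steps.fwd (nat_lit 8192) Steps.nil))))))))))))))))))))))))))))))))))) (nat_lit 12) (nat_lit 4),
  Rule.mk (nat_lit 16) (nat_lit 179) (Steps.bwd (nat_lit 1) (Steps.fwd (nat_lit 16384) (Steps.fwd (nat_lit 8192) (Steps.fwd (nat_lit 16384) (Steps.bwd (nat_lit 1) (Steps.bwd (nat_lit 3) (Steps.fwd (nat_lit 8192) (Steps.bwd (nat_lit 2) (Steps.fwd (nat_lit 32768) (Steps.fwd (nat_lit 8192) (Steps.bwd (nat_lit 2) Steps.nil))))))))))) (nat_lit 190) (nat_lit 1),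
  Rule.mk (nat_lit 16) (nat_lit 179) (Steps.fwd (nat_lit 8192) (Steps.fwd (nat_lit 16384) (Steps.bwd (nat_lit 1) (Steps.bwd (nat_lit 3) (Steps.fwd (nat_lit 8192) (Steps.bwd (nat_lit 3) (Steps.bwd (nat_lit 1) (Steps.bwd (nat_lit 2) (Steps.fwd (nat_lit 32768) (Steps.fwd (nat_lit 8192) (Steps.fwd (nat_lit 24576) Steps.nil))))))))))) (nat_lit 190) (nat_lit 1),
  Rule.mk (nat_lit 18) (nat_lit 179) (Steps.fwd (nat_lit 8192) (Steps.fwd (nat_lit 16384) (Steps.bwd (nat_lit 4) (Steps.fwd (nat_lit 8192) (Steps.bwd (nat_lit 2) (Steps.bwd (nat_lit 1) (Steps.fwd (nat_lit 24576) (Steps.fwd (nat_lit 8192) (Steps.fwd (nat_lit 16384) (Steps.bwd (nat_lit 1) (Steps.bwd (nat_lit 3) Steps.nil))))))))))) (nat_lit 192) (nat_lit 1),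
  Rule.mk (nat_lit 18) (nat_lit 179) (Steps.fwd (nat_lit 8192) (Steps.fwd (nat_lit 16384) (Steps.bwd (nat_lit 4) (Steps.bwd (nat_lit 1) (Steps.fwd (nat_lit 24576) (Steps.bwd (nat_lit 1) (Steps.bwd (nat_lit 2) (Steps.fwd (nat_lit 8192) (Steps.bwd (nat_lit 3) (Steps.bwd (nat_lit 1) (Steps.fwd (nat_lit 16384) Steps.nil))))))))))) (nat_lit 192) (nat_lit 1),
  Rule.mk (nat_lit 0) (nat_lit 194) (Steps.bwd (nat_lit 19) (Steps.fwd (nat_lit 16384) (Steps.bwd (nat_lit 4) (Steps.fwd (nat_lit 8192) (Steps.bwd (nat_lit 2) (Steps.bwd (nat_lit 1) (Steps.fwd (nat_lit 24576) (Steps.fwd (nat_lit 8192) (Steps.fwd (nat_lit 16384) (Steps.bwd (nat_lit 1) (Steps.bwd (nat_lit 3) (Steps.fwd (nat_lit 8192) Steps.nil)))))))))))) (nat_lit 195) (nat_lit 11),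
  Rule.mk (nat_lit 11) (nat_lit 164) (Steps.fwd (nat_lit 16384) (Steps.fwd (nat_lit 32768) (Steps.fwd (nat_lit 40960) (Steps.fwd (nat_lit 65536) (Steps.fwd (nat_lit 73728) (Steps.fwd (nat_lit 81920) (Steps.bwd (nat_lit 11) (Steps.bwd (nat_lit 12) (Steps.fwd (nat_lit 114688) (Steps.bwd (nat_lit 2) Steps.nil)))))))))) (nat_lit 182) (nat_lit 2),
  Rule.mk (nat_lit 20) (nat_lit 179) (Steps.bwd (nat_lit 1) (Steps.bwd (nat_lit 2) (Steps.fwd (nat_lit 8192) (Steps.fwd (nat_lit 24576) (Steps.bwd (nat_lit 1) (Steps.fwd (nat_lit 16384) (Steps.fwd (nat_lit 8192) (Steps.bwd (nat_lit 3) (Steps.fwd (nat_lit 8192) (Steps.fwd (nat_lit 32768) (Steps.bwd (nat_lit 2) Steps.nil))))))))))) (nat_lit 194) (nat_lit 1),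
  Rule.mk (nat_lit 18) (nat_lit 179) (Steps.bwd (nat_lit 1) (Steps.fwd (nat_lit 16384) (Steps.bwd (nat_lit 4) (Steps.bwd (nat_lit 1) (Steps.fwd (nat_lit 24576) (Steps.bwd (nat_lit 1) (Steps.fwd (nat_lit 24576) (Steps.bwd (nat_lit 1) (Steps.fwd (nat_lit 16384) (Steps.bwd (nat_lit 1) (Steps.bwd (nat_lit 3) Steps.nil))))))))))) (nat_lit 192) (nat_lit 1),
  Rule.mk (nat_lit 0) (nat_lit 194) (Steps.fwd (nat_lit 16384) (Steps.bwd (nat_lit 4) (Steps.bwd (nat_lit 1) (Steps.fwd (nat_lit 24576) (Steps.bwd (nat_lit 1) (Steps.fwd (nat_lit 24576) (Steps.bwd (nat_lit 1) (Steps.fwd (nat_lit 16384) (Steps.bwd (nat_lit 1) (Steps.bwd (nat_lit 3) (Steps.bwd (nat_lit 1) (Steps.fwd (nat_lit 163840) Steps.nil)))))))))))) (nat_lit 195) (nat_lit 0),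
  Rule.mk (nat_lit 16) (nat_lit 179) (Steps.bwd (nat_lit 1) (Steps.bwd (nat_lit 3) (Steps.fwd (nat_lit 8192) (Steps.bwd (nat_lit 3) (Steps.bwd (nat_lit 1) (Steps.bwd (nat_lit 3) (Steps.bwd (nat_lit 1) (Steps.bwd (nat_lit 2) (Steps.bwd (nat_lit 4) (Steps.fwd (nat_lit 8192) (Steps.bwd (nat_lit 2) Steps.nil))))))))))) (nat_lit 190) (nat_lit 1),
  Rule.mk (nat_lit 15) (nat_lit 179) (Steps.fwd (nat_lit 16384) (Steps.bwd (nat_lit 1) (Steps.bwd (nat_lit 4) (Steps.fwd (nat_lit 16384) (Steps.fwd (nat_lit 8192) (Steps.fwd (nat_lit 24576) (Steps.fwd (nat_lit 8192) (Steps.fwd (nat_lit 24576) (Steps.fwd (nat_lit 8192) (Steps.bwd (nat_lit 2) (Steps.fwd (nat_lit 8192) Steps.nil))))))))))) (nat_lit 191) (nat_lit 0),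
  Rule.mk (nat_lit 20) (nat_lit 179) (Steps.bwd (nat_lit 1) (Steps.bwd (nat_lit 2) (Steps.fwd (nat_lit 8192) (Steps.fwd (nat_lit 24576) (Steps.fwd (nat_lit 8192) (Steps.bwd (nat_lit 3) (Steps.bwd (nat_lit 1) (Steps.fwd (nat_lit 16384) (Steps.bwd (nat_lit 1) (Steps.fwd (nat_lit 32768) (Steps.bwd (nat_lit 2) Steps.nil))))))))))) (nat_lit 194) (nat_lit 1),
  Rule.mk (nat_lit 2) (nat_lit 164) (Steps.bwd (nat_lit 11) (Steps.bwd (nat_lit 3) (Steps.bwd (nat_lit 4) (Steps.bwd (nat_lit 5) (Steps.bwd (nat_lit 8) (Steps.fwd (nat_lit 73728) (Steps.bwd (nat_lit 10) (Steps.fwd (nat_lit 90112) (Steps.bwd (nat_lit 12) (Steps.bwd (nat_lit 14) Steps.nil)))))))))) (nat_lit 182) (nat_lit 1),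
  Rule.mk (nat_lit 16) (nat_lit 179) (Steps.fwd (nat_lit 8192) (Steps.fwd (nat_lit 16384) (Steps.fwd (nat_lit 8192) (Steps.fwd (nat_lit 16384) (Steps.bwd (nat_lit 1) (Steps.fwd (nat_lit 16384) (Steps.fwd (nat_lit 8192) (Steps.fwd (nat_lit 24576) (Steps.fwd (nat_lit 32768) (Steps.fwd (nat_lit 8192) (Steps.bwd (nat_lit 2) Steps.nil))))))))))) (nat_lit 190) (nat_lit 1),
  Rule.mk (nat_lit 16) (nat_lit 179) (Steps.bwd (nat_lit 1) (Steps.fwd (nat_lit 16384) (Steps.fwd (nat_lit 8192) (Steps.bwd (nat_lit 3) (Steps.fwd (nat_lit 8192) (Steps.bwd (nat_lit 3) (Steps.fwd (nat_lit 8192) (Steps.bwd (nat_lit 2) (Steps.fwd (nat_lit 32768) (Steps.bwd (nat_lit 1) (Steps.fwd (nat_lit 24576) Steps.nil))))))))))) (nat_lit 190) (nat_lit 1),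
  Rule.mk (nat_lit 17) (nat_lit 179) (Steps.bwd (nat_lit 2) (Steps.bwd (nat_lit 1) (Steps.fwd (nat_lit 24576) (Steps.fwd (nat_lit 8192) (Steps.bwd (nat_lit 3) (Steps.bwd (nat_lit 1) (Steps.bwd (nat_lit 3) (Steps.fwd (nat_lit 8192) (Steps.bwd (nat_lit 4) (Steps.bwd (nat_lit 2) (Steps.fwd (nat_lit 8192) Steps.nil))))))))))) (nat_lit 193) (nat_lit 0),
  Rule.mk (nat_lit 1) (nat_lit 539) (Steps.bwd (nat_lit 2) (Steps.fwd (nat_lit 8192) (Steps.bwd (nat_lit 3) (Steps.fwd (nat_lit 8192) (Steps.bwd (nat_lit 3) (Steps.bwd (nat_lit 1) (Steps.fwd (nat_lit 24576) (Steps.bwd (nat_lit 1) (Steps.bwd (nat_lit 2) (Steps.fwd (nat_lit 8192) (Steps.bwd (nat_lit 3) (Steps.bwd (nat_lit 1) (Steps.fwd (nat_lit 24576) (Steps.fwd (nat_lit 8192) (Steps.bwd (nat_lit 2) (Steps.fwd (nat_lit 8192) (Steps.fwd (nat_lit 16384) (Steps.bwd (nat_lit 1) (Steps.bwd (nat_lit 2) (Steps.fwd (nat_lit 8192) (Steps.bwd (nat_lit 2)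 (Steps.fwd (nat_lit 8192) (Steps.bwd (nat_lit 3) (Steps.bwd (nat_lit 1) (Steps.bwd (nat_lit 2) (Steps.bwd (nat_lit 1) (Steps.fwd (nat_lit 16384) (Steps.fwd (nat_lit 8192) (Steps.fwd (nat_lit 16384) (Steps.fwd (nat_lit 8192) (Steps.fwd (nat_lit 24576) (Steps.bwd (nat_lit 1) (Steps.bwd (nat_lit 3) (Steps.bwd (nat_lit 1) (Steps.fwd (nat_lit 16384) Steps.nil))))))))))))))))))))))))))))))))))) (nat_lit 12) (nat_lit 31),
  Rule.mk (nat_lit 16) (nat_lit 179) (Steps.bwd (nat_lit 1) (Steps.bwd (nat_lit 3) (Steps.bwd (nat_lit 1) (Steps.fwd (nat_lit 16384) (Steps.bwd (nat_lit 1) (Steps.fwd (nat_lit 16384) (Steps.bwd (nat_lit 1) (Steps.fwd (nat_lit 24576) (Steps.fwd (nat_lit 32768) (Steps.fwd (nat_lit 8192) (Steps.bwd (nat_lit 2) Steps.nil))))))))))) (nat_lit 190) (nat_lit 1),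
  Rule.mk (nat_lit 16) (nat_lit 179) (Steps.bwd (nat_lit 1) (Steps.fwd (nat_lit 16384) (Steps.bwd (nat_lit 1) (Steps.bwd (nat_lit 3) (Steps.fwd (nat_lit 8192) (Steps.fwd (nat_lit 16384) (Steps.bwd (nat_lit 1) (Steps.bwd (nat_lit 2) (Steps.bwd (nat_lit 4) (Steps.fwd (nat_lit 8192) (Steps.fwd (nat_lit 24576) Steps.nil))))))))))) (nat_lit 190) (nat_lit 1),
  Rule.mk (nat_lit 15) (nat_lit 179) (Steps.fwd (nat_lit 16384) (Steps.fwd (nat_lit 8192) (Steps.bwd (nat_lit 4) (Steps.bwd (nat_lit 3) (Steps.bwd (nat_lit 1) (Steps.fwd (nat_lit 24576) (Steps.bwd (nat_lit 1) (Steps.fwd (nat_lit 24576) (Steps.bwd (nat_lit 1) (Steps.bwd (nat_lit 2) (Steps.bwd (nat_lit 1) Steps.nil))))))))))) (nat_lit 191) (nat_lit 0),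
  Rule.mk (nat_lit 15) (nat_lit 179) (Steps.bwd (nat_lit 3) (Steps.bwd (nat_lit 1) (Steps.bwd (nat_lit 4) (Steps.bwd (nat_lit 3) (Steps.bwd (nat_lit 1) (Steps.fwd (nat_lit 24576) (Steps.bwd (nat_lit 1) (Steps.bwd (nat_lit 2) (Steps.bwd (nat_lit 1) (Steps.bwd (nat_lit 2) (Steps.fwd (nat_lit 8192) Steps.nil))))))))))) (nat_lit 191) (nat_lit 0),
  Rule.mk (nat_lit 0) (nat_lit 194) (Steps.bwd (nat_lit 15) (Steps.fwd (nat_lit 16384) (Steps.fwd (nat_lit 8192) (Steps.fwd (nat_lit 32768) (Steps.fwd (nat_lit 16384) (Steps.bwd (nat_lit 1) (Steps.bwd (nat_lit 2) (Steps.bwd (nat_lit 1) (Steps.bwd (nat_lit 2) (Steps.fwd (nat_lit 8192) (Steps.fwd (nat_lit 24576) (Steps.bwd (nat_lit 1) Steps.nil)))))))))))) (nat_lit 191) (nat_lit 11),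
  Rule.mk (nat_lit 15) (nat_lit 179) (Steps.fwd (nat_lit 16384) (Steps.bwd (nat_lit 1) (Steps.bwd (nat_lit 4) (Steps.fwd (nat_lit 16384) (Steps.bwd (nat_lit 1) (Steps.bwd (nat_lit 2) (Steps.fwd (nat_lit 8192) (Steps.fwd (nat_lit 24576) (Steps.bwd (nat_lit 1) (Steps.bwd (nat_lit 2) (Steps.fwd (nat_lit 8192) Steps.nil))))))))))) (nat_lit 191) (nat_lit 0),
  Rule.mk (nat_lit 0) (nat_lit 194) (Steps.fwd (nat_lit 8192) (Steps.bwd (nat_lit 3) (Steps.bwd (nat_lit 1) (Steps.fwd (nat_lit 16384) (Steps.fwd (nat_lit 8192) (Steps.bwd (nat_lit 3) (Steps.fwd (nat_lit 8192) (Steps.bwd (nat_lit 2) (Steps.bwd (nat_lit 4) (Steps.fwd (nat_lit 8192) (Steps.bwd (nat_lit 2) (Steps.fwd (nat_lit 122880) Steps.nil)))))))))))) (nat_lit 190) (nat_lit 1),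
  Rule.mk (nat_lit 0) (nat_lit 194) (Steps.fwd (nat_lit 24576) (Steps.fwd (nat_lit 8192) (Steps.bwd (nat_lit 2) (Steps.fwd (nat_lit 8192) (Steps.fwd (nat_lit 16384) (Steps.fwd (nat_lit 8192) (Steps.bwd (nat_lit 3) (Steps.fwd (nat_lit 8192) (Steps.fwd (nat_lit 32768) (Steps.bwd (nat_lit 2) (Steps.fwd (nat_lit 8192) (Steps.fwd (nat_lit 147456) Steps.nil)))))))))))) (nat_lit 193) (nat_lit 0),
  Rule.mk (nat_lit 0) (nat_lit 194) (Steps.bwd (nat_lit 18) (Steps.fwd (nat_lit 8192) (Steps.bwd (nat_lit 3) (Steps.fwd (nat_lit 32768) (Steps.bwd (nat_lit 1) (Steps.bwd (nat_lit 2) (Steps.bwd (nat_lit 1) (Steps.bwd (nat_lit 2) (Steps.fwd (nat_lit 8192) (Steps.bwd (nat_lit 3) (Steps.fwd (nat_lit 8192) (Steps.bwd (nat_lit 3) Steps.nil)))))))))))) (nat_lit 192) (nat_lit 0),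
  Rule.mk (nat_lit 0) (nat_lit 194) (Steps.fwd (nat_lit 8192) (Steps.bwd (nat_lit 3) (Steps.bwd (nat_lit 4) (Steps.fwd (nat_lit 8192) (Steps.bwd (nat_lit 2) (Steps.fwd (nat_lit 8192) (Steps.fwd (nat_lit 24576) (Steps.fwd (nat_lit 8192) (Steps.bwd (nat_lit 3) (Steps.bwd (nat_lit 1) (Steps.bwd (nat_lit 3) (Steps.fwd (nat_lit 139264) Steps.nil)))))))))))) (nat_lit 192) (nat_lit 1),
  Rule.mk (nat_lit 17) (nat_lit 179) (Steps.bwd (nat_lit 2) (Steps.fwd (nat_lit 8192) (Steps.fwd (nat_lit 24576) (Steps.bwd (nat_lit 1) (Steps.fwd (nat_lit 16384) (Steps.bwd (nat_lit 1) (Steps.fwd (nat_lit 16384) (Steps.bwd (nat_lit 1) (Steps.bwd (nat_lit 4) (Steps.bwd (nat_lit 2) (Steps.fwd (nat_lit 8192) Steps.nil))))))))))) (nat_lit 193) (nat_lit 0),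
  Rule.mk (nat_lit 0) (nat_lit 194) (Steps.bwd (nat_lit 18) (Steps.bwd (nat_lit 1) (Steps.bwd (nat_lit 3) (Steps.bwd (nat_lit 4) (Steps.fwd (nat_lit 8192) (Steps.fwd (nat_lit 24576) (Steps.bwd (nat_lit 1) (Steps.fwd (nat_lit 24576) (Steps.bwd (nat_lit 1) (Steps.fwd (nat_lit 16384) (Steps.fwd (nat_lit 8192) (Steps.fwd (nat_lit 16384) Steps.nil)))))))))))) (nat_lit 192) (nat_lit 0),
  Rule.mk (nat_lit 0) (nat_lit 194) (Steps.bwd (nat_lit 3) (Steps.bwd (nat_lit 4) (Steps.fwd (nat_lit 8192) (Steps.bwd (nat_lit 2) (Steps.fwd (nat_lit 8192) (Steps.fwd (nat_lit 24576) (Steps.fwd (nat_lit 8192) (Steps.bwd (nat_lit 3) (Steps.bwd (nat_lit 1) (Steps.bwd (nat_lit 3) (Steps.bwd (nat_lit 1) (Steps.fwd (nat_lit 163840) Steps.nil)))))))))))) (nat_lit 195) (nat_lit 0),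
  Rule.mk (nat_lit 1) (nat_lit 179) (Steps.bwd (nat_lit 2) (Steps.fwd (nat_lit 8192) (Steps.fwd (nat_lit 24576) (Steps.bwd (nat_lit 1) (Steps.fwd (nat_lit 16384) (Steps.bwd (nat_lit 1) (Steps.fwd (nat_lit 16384) (Steps.bwd (nat_lit 1) (Steps.bwd (nat_lit 4) (Steps.bwd (nat_lit 2) (Steps.fwd (nat_lit 155648) Steps.nil))))))))))) (nat_lit 194) (nat_lit 2),
  Rule.mk (nat_lit 20) (nat_lit 179) (Steps.bwd (nat_lit 1) (Steps.bwd (nat_lit 2) (Steps.bwd (nat_lit 1) (Steps.bwd (nat_lit 2) (Steps.fwd (nat_lit 8192) (Steps.bwd (nat_lit 3) (Steps.fwd (nat_lit 8192) (Steps.bwd (nat_lit 3) (Steps.bwd (nat_lit 1) (Steps.fwd (nat_lit 32768) (Steps.fwd (nat_lit 24576) Steps.nil))))))))))) (nat_lit 194) (nat_lit 1),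
  Rule.mk (nat_lit 19) (nat_lit 179) (Steps.fwd (nat_lit 16384) (Steps.bwd (nat_lit 4) (Steps.fwd (nat_lit 8192) (Steps.fwd (nat_lit 24576) (Steps.fwd (nat_lit 8192) (Steps.fwd (nat_lit 24576) (Steps.bwd (nat_lit 1) (Steps.bwd (nat_lit 3) (Steps.bwd (nat_lit 1) (Steps.fwd (nat_lit 16384) (Steps.bwd (nat_lit 1) Steps.nil))))))))))) (nat_lit 195) (nat_lit 0),
  Rule.mk (nat_lit 0) (nat_lit 194) (Steps.bwd (nat_lit 19) (Steps.fwd (nat_lit 16384) (Steps.bwd (nat_lit 4) (Steps.bwd (nat_lit 1) (Steps.fwd (nat_lit 24576) (Steps.bwd (nat_lit 1) (Steps.bwd (nat_lit 2) (Steps.bwd (nat_lit 1) (Steps.fwd (nat_lit 16384) (Steps.bwd (nat_lit 1) (Steps.bwd (nat_lit 3) (Steps.fwd (nat_lit 8192) Steps.nil)))))))))))) (nat_lit 195) (nat_lit 11),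
  Rule.mk (nat_lit 19) (nat_lit 179) (Steps.bwd (nat_lit 3) (Steps.fwd (nat_lit 32768) (Steps.bwd (nat_lit 1) (Steps.bwd (nat_lit 2) (Steps.bwd (nat_lit 1) (Steps.bwd (nat_lit 2) (Steps.fwd (nat_lit 8192) (Steps.bwd (nat_lit 3) (Steps.fwd (nat_lit 8192) (Steps.bwd (nat_lit 3) (Steps.bwd (nat_lit 1) Steps.nil))))))))))) (nat_lit 195) (nat_lit 0),
  Rule.mk (nat_lit 6) (nat_lit 104) (Steps.bwd (nat_lit 1) (Steps.bwd (nat_lit 11) (Steps.fwd (nat_lit 8192) (Steps.bwd (nat_lit 14) (Steps.fwd (nat_lit 98304) (Steps.fwd (nat_lit 90112) Steps.nil)))))) (nat_lit 161) (nat_lit 4),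
  Rule.mk (nat_lit 3) (nat_lit 179) (Steps.bwd (nat_lit 1) (Steps.bwd (nat_lit 4) (Steps.bwd (nat_lit 3) (Steps.bwd (nat_lit 1) (Steps.bwd (nat_lit 2) (Steps.fwd (nat_lit 8192) (Steps.fwd (nat_lit 24576) (Steps.fwd (nat_lit 8192) (Steps.fwd (nat_lit 24576) (Steps.bwd (nat_lit 1) (Steps.fwd (nat_lit 131072) Steps.nil))))))))))) (nat_lit 191) (nat_lit 1),
  Rule.mk (nat_lit 18) (nat_lit 179) (Steps.bwd (nat_lit 1) (Steps.bwd (nat_lit 3) (Steps.fwd (nat_lit 32768) (Steps.bwd (nat_lit 1) (Steps.bwd (nat_lit 2) (Steps.fwd (nat_lit 8192) (Steps.fwd (nat_lit 24576) (Steps.fwd (nat_lit 8192) (Steps.bwd (nat_lit 3) (Steps.fwd (nat_lit 8192) (Steps.fwd (nat_lit 16384) Steps.nil))))))))))) (nat_lit 192) (nat_lit 1),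
  Rule.mk (nat_lit 1) (nat_lit 539) (Steps.bwd (nat_lit 3) (Steps.bwd (nat_lit 1) (Steps.bwd (nat_lit 2) (Steps.fwd (nat_lit 8192) (Steps.bwd (nat_lit 3) (Steps.fwd (nat_lit 8192) (Steps.bwd (nat_lit 3) (Steps.bwd (nat_lit 1) (Steps.bwd (nat_lit 2) (Steps.bwd (nat_lit 1) (Steps.bwd (nat_lit 2) (Steps.fwd (nat_lit 8192) (Steps.fwd (nat_lit 16384) (Steps.fwd (nat_lit 8192) (Steps.fwd (nat_lit 24576) (Steps.bwd (nat_lit 1) (Steps.bwd (nat_lit 2) (Steps.fwd (nat_lit 8192) (Steps.fwd (nat_lit 16384) (Steps.bwd (nat_lit 1) (Steps.bwd (nat_lit 2) (Steps.bwd (nat_lit 1) (Steps.bwd (nat_lit 2) (Steps.fwd (nat_lit 8192) (Steps.bwd (nat_lit 3) (Steps.fwd (nat_lit 8192) (Steps.bwd (nat_lit 2) (Steps.fwd (nat_lit 8192) (Steps.fwd (nat_lit 16384) (Steps.fwd (nat_lit 8192) (Steps.bwd (nat_lit 3) (Steps.fwd (nat_lit 8192) (Steps.bwd (nat_lit 2) (Steps.bwd (nat_lit 1) (Steps.fwd (nat_lit 16384) Steps.nil)))))))))))))))))))))))))))))))))))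 (nat_lit 12) (nat_lit 29),
  Rule.mk (nat_lit 0) (nat_lit 194) (Steps.bwd (nat_lit 1) (Steps.bwd (nat_lit 3) (Steps.bwd (nat_lit 1) (Steps.bwd (nat_lit 3) (Steps.bwd (nat_lit 1) (Steps.bwd (nat_lit 3) (Steps.bwd (nat_lit 1) (Steps.bwd (nat_lit 2) (Steps.bwd (nat_lit 4) (Steps.bwd (nat_lit 1) (Steps.fwd (nat_lit 24576) (Steps.fwd (nat_lit 122880) Steps.nil)))))))))))) (nat_lit 190) (nat_lit 1),
  Rule.mk (nat_lit 0) (nat_lit 194) (Steps.bwd (nat_lit 16) (Steps.bwd (nat_lit 1) (Steps.bwd (nat_lit 3) (Steps.fwd (nat_lit 8192) (Steps.bwd (nat_lit 3) (Steps.bwd (nat_lit 1) (Steps.bwd (nat_lit 3) (Steps.bwd (nat_lit 1) (Steps.fwd (nat_lit 24576) (Steps.fwd (nat_lit 32768) (Steps.fwd (nat_lit 8192) (Steps.fwd (nat_lit 24576) Steps.nil)))))))))))) (nat_lit 190) (nat_lit 0),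
  Rule.mk (nat_lit 17) (nat_lit 179) (Steps.fwd (nat_lit 24576) (Steps.fwd (nat_lit 8192) (Steps.fwd (nat_lit 24576) (Steps.bwd (nat_lit 1) (Steps.fwd (nat_lit 16384) (Steps.fwd (nat_lit 8192) (Steps.fwd (nat_lit 16384) (Steps.bwd (nat_lit 1) (Steps.bwd (nat_lit 4) (Steps.fwd (nat_lit 24576) (Steps.fwd (nat_lit 8192) Steps.nil))))))))))) (nat_lit 193) (nat_lit 0),
  Rule.mk (nat_lit 0) (nat_lit 194) (Steps.bwd (nat_lit 20) (Steps.fwd (nat_lit 8192) (Steps.fwd (nat_lit 24576) (Steps.fwd (nat_lit 8192) (Steps.fwd (nat_lit 24576) (Steps.bwd (nat_lit 1) (Steps.fwd (nat_lit 16384) (Steps.fwd (nat_lit 8192) (Steps.fwd (nat_lit 16384) (Steps.bwd (nat_lit 1) (Steps.bwd (nat_lit 4) (Steps.fwd (nat_lit 24576) Steps.nil)))))))))))) (nat_lit 194) (nat_lit 0),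
  Rule.mk (nat_lit 0) (nat_lit 194) (Steps.bwd (nat_lit 19) (Steps.fwd (nat_lit 16384) (Steps.fwd (nat_lit 32768) (Steps.bwd (nat_lit 1) (Steps.fwd (nat_lit 24576) (Steps.fwd (nat_lit 8192) (Steps.bwd (nat_lit 2) (Steps.bwd (nat_lit 1) (Steps.bwd (nat_lit 3) (Steps.fwd (nat_lit 8192) (Steps.bwd (nat_lit 3) (Steps.bwd (nat_lit 1) Steps.nil)))))))))))) (nat_lit 195) (nat_lit 11),
  Rule.mk (nat_lit 19) (nat_lit 179) (Steps.fwd (nat_lit 16384) (Steps.fwd (nat_lit 32768) (Steps.fwd (nat_lit 8192) (Steps.fwd (nat_lit 24576) (Steps.fwd (nat_lit 8192) (Steps.fwd (nat_lit 24576) (Steps.bwd (nat_lit 1) (Steps.fwd (nat_lit 16384) (Steps.fwd (nat_lit 8192) (Steps.fwd (nat_lit 16384) (Steps.bwd (nat_lit 1) Steps.nil))))))))))) (nat_lit 195) (nat_lit 0),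
  Rule.mk (nat_lit 3) (nat_lit 179) (Steps.fwd (nat_lit 32768) (Steps.fwd (nat_lit 8192) (Steps.fwd (nat_lit 24576) (Steps.bwd (nat_lit 1) (Steps.fwd (nat_lit 24576) (Steps.fwd (nat_lit 8192) (Steps.fwd (nat_lit 16384) (Steps.bwd (nat_lit 1) (Steps.bwd (nat_lit 3) (Steps.fwd (nat_lit 8192) (Steps.fwd (nat_lit 163840) Steps.nil))))))))))) (nat_lit 195) (nat_lit 1),
  Rule.mk (nat_lit 8) (nat_lit 89) (Steps.bwd (nat_lit 3) (Steps.bwd (nat_lit 14) (Steps.fwd (nat_lit 57344) (Steps.fwd (nat_lit 32768) (Steps.bwd (nat_lit 2) Steps.nil))))) (nat_lit 177) (nat_lit 5),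
  Rule.mk (nat_lit 12) (nat_lit 104) (Steps.bwd (nat_lit 3) (Steps.fwd (nat_lit 73728) (Steps.fwd (nat_lit 65536) (Steps.fwd (nat_lit 40960) (Steps.fwd (nat_lit 32768) (Steps.bwd (nat_lit 2) Steps.nil)))))) (nat_lit 185) (nat_lit 6),
  Rule.mk (nat_lit 13) (nat_lit 134) (Steps.bwd (nat_lit 3) (Steps.bwd (nat_lit 6) (Steps.fwd (nat_lit 81920) (Steps.bwd (nat_lit 11) (Steps.fwd (nat_lit 98304) (Steps.bwd (nat_lit 13) (Steps.fwd (nat_lit 114688) (Steps.bwd (nat_lit 2) Steps.nil)))))))) (nat_lit 186) (nat_lit 2),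
  Rule.mk (nat_lit 11) (nat_lit 164) (Steps.bwd (nat_lit 3) (Steps.bwd (nat_lit 14) (Steps.fwd (nat_lit 98304) (Steps.bwd (nat_lit 11) (Steps.fwd (nat_lit 81920) (Steps.bwd (nat_lit 9) (Steps.bwd (nat_lit 8) (Steps.bwd (nat_lit 5) (Steps.bwd (nat_lit 4) (Steps.bwd (nat_lit 2) Steps.nil)))))))))) (nat_lit 183) (nat_lit 10),
  Rule.mk (nat_lit 1) (nat_lit 179) (Steps.bwd (nat_lit 3) (Steps.fwd (nat_lit 32768) (Steps.fwd (nat_lit 8192) (Steps.fwd (nat_lit 24576) (Steps.bwd (nat_lit 1) (Steps.fwd (nat_lit 24576) (Steps.fwd (nat_lit 8192) (Steps.fwd (nat_lit 16384) (Steps.bwd (nat_lit 1) (Steps.bwd (nat_lit 3) (Steps.fwd (nat_lit 139264) Steps.nil))))))))))) (nat_lit 192) (nat_lit 2),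
  Rule.mk (nat_lit 0) (nat_lit 74) (Steps.fwd (nat_lit 40960) (Steps.bwd (nat_lit 1) (Steps.bwd (nat_lit 4) (Steps.fwd (nat_lit 8192) Steps.nil)))) (nat_lit 146) (nat_lit 3),
  Rule.mk (nat_lit 0) (nat_lit 194) (Steps.bwd (nat_lit 16) (Steps.fwd (nat_lit 8192) (Steps.fwd (nat_lit 16384) (Steps.fwd (nat_lit 8192) (Steps.bwd (nat_lit 3) (Steps.fwd (nat_lit 8192) (Steps.fwd (nat_lit 16384) (Steps.bwd (nat_lit 1) (Steps.bwd (nat_lit 2) (Steps.bwd (nat_lit 4) (Steps.bwd (nat_lit 1) (Steps.fwd (nat_lit 24576) Steps.nil)))))))))))) (nat_lit 190) (nat_lit 0)]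
noncomputable def R_89 : List (Rule) := [Rule.mk (nat_lit 0) (nat_lit 194) (Steps.bwd (nat_lit 16) (Steps.fwd (nat_lit 8192) (Steps.bwd (nat_lit 3) (Steps.fwd (nat_lit 8192) (Steps.bwd (nat_lit 3) (Steps.bwd (nat_lit 1) (Steps.bwd (nat_lit 3) (Steps.bwd (nat_lit 1) (Steps.fwd (nat_lit 24576) (Steps.bwd (nat_lit 4) (Steps.bwd (nat_lit 1) (Steps.fwd (nat_lit 24576) Steps.nil)))))))))))) (nat_lit 190) (nat_lit 0),
  Rule.mk (nat_lit 16) (nat_lit 179) (Steps.fwd (nat_lit 8192) (Steps.bwd (nat_lit 3) (Steps.bwd (nat_lit 1) (Steps.bwd (nat_lit 3) (Steps.bwd (nat_lit 1) (Steps.bwd (nat_lit 3) (Steps.fwd (nat_lit 8192) (Steps.fwd (nat_lit 24576) (Steps.fwd (nat_lit 32768) (Steps.fwd (nat_lit 8192) (Steps.fwd (nat_lit 24576) Steps.nil))))))))))) (nat_lit 190) (nat_lit 1),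
  Rule.mk (nat_lit 0) (nat_lit 194) (Steps.bwd (nat_lit 15) (Steps.fwd (nat_lit 16384) (Steps.fwd (nat_lit 8192) (Steps.bwd (nat_lit 4) (Steps.fwd (nat_lit 16384) (Steps.fwd (nat_lit 8192) (Steps.fwd (nat_lit 24576) (Steps.fwd (nat_lit 8192) (Steps.fwd (nat_lit 24576) (Steps.fwd (nat_lit 8192) (Steps.fwd (nat_lit 24576) (Steps.fwd (nat_lit 8192) Steps.nil)))))))))))) (nat_lit 191) (nat_lit 11),
  Rule.mk (nat_lit 16) (nat_lit 179) (Steps.bwd (nat_lit 1) (Steps.bwd (nat_lit 3) (Steps.fwd (nat_lit 8192) (Steps.bwd (nat_lit 3) (Steps.bwd (nat_lit 1) (Steps.fwd (nat_lit 16384) (Steps.fwd (nat_lit 8192) (Steps.bwd (nat_lit 2) (Steps.fwd (nat_lit 32768) (Steps.bwd (nat_lit 1) (Steps.bwd (nat_lit 2) Steps.nil))))))))))) (nat_lit 190) (nat_lit 1),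
  Rule.mk (nat_lit 15) (nat_lit 179) (Steps.bwd (nat_lit 3) (Steps.bwd (nat_lit 1) (Steps.fwd (nat_lit 32768) (Steps.bwd (nat_lit 3) (Steps.fwd (nat_lit 8192) (Steps.fwd (nat_lit 24576) (Steps.bwd (nat_lit 1) (Steps.bwd (nat_lit 2) (Steps.bwd (nat_lit 1) (Steps.fwd (nat_lit 24576) (Steps.bwd (nat_lit 1) Steps.nil))))))))))) (nat_lit 191) (nat_lit 0),
  Rule.mk (nat_lit 0) (nat_lit 194) (Steps.bwd (nat_lit 1) (Steps.fwd (nat_lit 16384) (Steps.fwd (nat_lit 8192) (Steps.bwd (nat_lit 3) (Steps.fwd (nat_lit 8192) (Steps.fwd (nat_lit 16384) (Steps.fwd (nat_lit 8192) (Steps.fwd (nat_lit 24576) (Steps.fwd (nat_lit 32768) (Steps.fwd (nat_lit 8192) (Steps.fwd (nat_lit 24576) (Steps.fwd (nat_lit 122880) Steps.nil)))))))))))) (nat_lit 190) (nat_lit 1),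
  Rule.mk (nat_lit 15) (nat_lit 179) (Steps.fwd (nat_lit 16384) (Steps.bwd (nat_lit 1) (Steps.fwd (nat_lit 32768) (Steps.bwd (nat_lit 3) (Steps.bwd (nat_lit 1) (Steps.fwd (nat_lit 24576) (Steps.bwd (nat_lit 1) (Steps.bwd (nat_lit 2) (Steps.bwd (nat_lit 1) (Steps.fwd (nat_lit 24576) (Steps.fwd (nat_lit 8192) Steps.nil))))))))))) (nat_lit 191) (nat_lit 0),
  Rule.mk (nat_lit 18) (nat_lit 179) (Steps.bwd (nat_lit 1) (Steps.bwd (nat_lit 3) (Steps.bwd (nat_lit 4) (Steps.fwd (nat_lit 8192) (Steps.bwd (nat_lit 2) (Steps.fwd (nat_lit 8192) (Steps.bwd (nat_lit 2) (Steps.bwd (nat_lit 1) (Steps.bwd (nat_lit 3) (Steps.bwd (nat_lit 1) (Steps.bwd (nat_lit 3) Steps.nil))))))))))) (nat_lit 192) (nat_lit 1),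
  Rule.mk (nat_lit 18) (nat_lit 179) (Steps.bwd (nat_lit 1) (Steps.bwd (nat_lit 3) (Steps.bwd (nat_lit 4) (Steps.bwd (nat_lit 1) (Steps.fwd (nat_lit 24576) (Steps.bwd (nat_lit 1) (Steps.bwd (nat_lit 2) (Steps.bwd (nat_lit 1) (Steps.fwd (nat_lit 16384) (Steps.bwd (nat_lit 1) (Steps.bwd (nat_lit 3) Steps.nil))))))))))) (nat_lit 192) (nat_lit 1),
  Rule.mk (nat_lit 0) (nat_lit 194) (Steps.bwd (nat_lit 18) (Steps.fwd (nat_lit 8192) (Steps.fwd (nat_lit 16384) (Steps.bwd (nat_lit 4) (Steps.fwd (nat_lit 8192) (Steps.fwd (nat_lit 24576) (Steps.fwd (nat_lit 8192) (Steps.fwd (nat_lit 24576) (Steps.bwd (nat_lit 1) (Steps.fwd (nat_lit 16384) (Steps.fwd (nat_lit 8192) (Steps.bwd (nat_lit 3) Steps.nil)))))))))))) (nat_lit 192) (nat_lit 0),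
  Rule.mk (nat_lit 17) (nat_lit 179) (Steps.bwd (nat_lit 2) (Steps.fwd (nat_lit 8192) (Steps.bwd (nat_lit 2) (Steps.bwd (nat_lit 1) (Steps.bwd (nat_lit 3) (Steps.bwd (nat_lit 1) (Steps.bwd (nat_lit 3) (Steps.fwd (nat_lit 8192) (Steps.fwd (nat_lit 32768) (Steps.bwd (nat_lit 2) (Steps.fwd (nat_lit 8192) Steps.nil))))))))))) (nat_lit 193) (nat_lit 0),
  Rule.mk (nat_lit 17) (nat_lit 179) (Steps.fwd (nat_lit 24576) (Steps.bwd (nat_lit 1) (Steps.bwd (nat_lit 2) (Steps.bwd (nat_lit 1) (Steps.bwd (nat_lit 3) (Steps.fwd (nat_lit 8192) (Steps.bwd (nat_lit 3) (Steps.bwd (nat_lit 1) (Steps.fwd (nat_lit 32768) (Steps.fwd (nat_lit 24576) (Steps.bwd (nat_lit 1) Steps.nil))))))))))) (nat_lit 193) (nat_lit 0),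
  Rule.mk (nat_lit 20) (nat_lit 179) (Steps.fwd (nat_lit 8192) (Steps.fwd (nat_lit 24576) (Steps.bwd (nat_lit 1) (Steps.bwd (nat_lit 2) (Steps.fwd (nat_lit 8192) (Steps.bwd (nat_lit 3) (Steps.bwd (nat_lit 1) (Steps.bwd (nat_lit 3) (Steps.bwd (nat_lit 1) (Steps.fwd (nat_lit 32768) (Steps.bwd (nat_lit 2) Steps.nil))))))))))) (nat_lit 194) (nat_lit 1),
  Rule.mk (nat_lit 20) (nat_lit 179) (Steps.fwd (nat_lit 8192) (Steps.bwd (nat_lit 2) (Steps.fwd (nat_lit 8192) (Steps.bwd (nat_lit 2) (Steps.bwd (nat_lit 1) (Steps.bwd (nat_lit 3) (Steps.bwd (nat_lit 1) (Steps.bwd (nat_lit 3) (Steps.fwd (nat_lit 8192) (Steps.fwd (nat_lit 32768) (Steps.bwd (nat_lit 2) Steps.nil))))))))))) (nat_lit 194) (nat_lit 1),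
  Rule.mk (nat_lit 0) (nat_lit 194) (Steps.bwd (nat_lit 3) (Steps.bwd (nat_lit 4) (Steps.fwd (nat_lit 8192) (Steps.fwd (nat_lit 24576) (Steps.fwd (nat_lit 8192) (Steps.fwd (nat_lit 24576) (Steps.fwd (nat_lit 8192) (Steps.fwd (nat_lit 16384) (Steps.fwd (nat_lit 8192) (Steps.bwd (nat_lit 3) (Steps.bwd (nat_lit 1) (Steps.fwd (nat_lit 163840) Steps.nil)))))))))))) (nat_lit 195) (nat_lit 0),
  Rule.mk (nat_lit 20) (nat_lit 179) (Steps.bwd (nat_lit 1) (Steps.fwd (nat_lit 24576) (Steps.bwd (nat_lit 1) (Steps.bwd (nat_lit 2) (Steps.bwd (nat_lit 1) (Steps.fwd (nat_lit 16384) (Steps.bwd (nat_lit 1) (Steps.bwd (nat_lit 3) (Steps.bwd (nat_lit 1) (Steps.bwd (nat_lit 4) (Steps.fwd (nat_lit 24576) Steps.nil))))))))))) (nat_lit 194) (nat_lit 1),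
  Rule.mk (nat_lit 19) (nat_lit 179) (Steps.bwd (nat_lit 3) (Steps.bwd (nat_lit 4) (Steps.fwd (nat_lit 8192) (Steps.bwd (nat_lit 2) (Steps.fwd (nat_lit 8192) (Steps.bwd (nat_lit 2) (Steps.bwd (nat_lit 1) (Steps.bwd (nat_lit 3) (Steps.bwd (nat_lit 1) (Steps.bwd (nat_lit 3) (Steps.fwd (nat_lit 8192) Steps.nil))))))))))) (nat_lit 195) (nat_lit 0),
  Rule.mk (nat_lit 0) (nat_lit 194) (Steps.fwd (nat_lit 8192) (Steps.fwd (nat_lit 24576) (Steps.fwd (nat_lit 8192) (Steps.fwd (nat_lit 24576) (Steps.fwd (nat_lit 8192) (Steps.fwd (nat_lit 16384) (Steps.fwd (nat_lit 8192) (Steps.bwd (nat_lit 3) (Steps.bwd (nat_lit 1) (Steps.fwd (nat_lit 32768) (Steps.bwd (nat_lit 2) (Steps.fwd (nat_lit 155648) Steps.nil)))))))))))) (nat_lit 194) (nat_lit 1),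
  Rule.mk (nat_lit 19) (nat_lit 179) (Steps.bwd (nat_lit 3) (Steps.bwd (nat_lit 4) (Steps.bwd (nat_lit 1) (Steps.fwd (nat_lit 24576) (Steps.bwd (nat_lit 1) (Steps.fwd (nat_lit 24576) (Steps.bwd (nat_lit 1) (Steps.fwd (nat_lit 16384) (Steps.bwd (nat_lit 1) (Steps.bwd (nat_lit 3) (Steps.bwd (nat_lit 1) Steps.nil))))))))))) (nat_lit 195) (nat_lit 0),
  Rule.mk (nat_lit 6) (nat_lit 134) (Steps.fwd (nat_lit 8192) (Steps.fwd (nat_lit 114688) (Steps.bwd (nat_lit 1) (Steps.bwd (nat_lit 14) (Steps.fwd (nat_lit 106496) (Steps.bwd (nat_lit 12) (Steps.bwd (nat_lit 11) (Steps.bwd (nat_lit 10) Steps.nil)))))))) (nat_lit 167) (nat_lit 6),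
  Rule.mk (nat_lit 17) (nat_lit 179) (Steps.fwd (nat_lit 24576) (Steps.bwd (nat_lit 1) (Steps.fwd (nat_lit 24576) (Steps.bwd (nat_lit 1) (Steps.fwd (nat_lit 16384) (Steps.fwd (nat_lit 8192) (Steps.bwd (nat_lit 3) (Steps.bwd (nat_lit 1) (Steps.bwd (nat_lit 4) (Steps.fwd (nat_lit 24576) (Steps.bwd (nat_lit 1) Steps.nil))))))))))) (nat_lit 193) (nat_lit 0),
  Rule.mk (nat_lit 0) (nat_lit 194) (Steps.bwd (nat_lit 20) (Steps.bwd (nat_lit 1) (Steps.fwd (nat_lit 24576) (Steps.bwd (nat_lit 1) (Steps.fwd (nat_lit 24576) (Steps.bwd (nat_lit 1) (Steps.fwd (nat_lit 16384) (Steps.fwd (nat_lit 8192) (Steps.bwd (nat_lit 3) (Steps.bwd (nat_lit 1) (Steps.bwd (nat_lit 4) (Steps.fwd (nat_lit 24576) Steps.nil)))))))))))) (nat_lit 194) (nat_lit 0),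
  Rule.mk (nat_lit 18) (nat_lit 179) (Steps.fwd (nat_lit 8192) (Steps.fwd (nat_lit 16384) (Steps.fwd (nat_lit 32768) (Steps.bwd (nat_lit 1) (Steps.fwd (nat_lit 24576) (Steps.fwd (nat_lit 8192) (Steps.bwd (nat_lit 2) (Steps.bwd (nat_lit 1) (Steps.bwd (nat_lit 3) (Steps.fwd (nat_lit 8192) (Steps.bwd (nat_lit 3) Steps.nil))))))))))) (nat_lit 192) (nat_lit 1),
  Rule.mk (nat_lit 15) (nat_lit 179) (Steps.fwd (nat_lit 16384) (Steps.bwd (nat_lit 1) (Steps.fwd (nat_lit 32768) (Steps.fwd (nat_lit 16384) (Steps.bwd (nat_lit 1) (Steps.bwd (nat_lit 2) (Steps.fwd (nat_lit 8192) (Steps.bwd (nat_lit 2) (Steps.bwd (nat_lit 1) (Steps.bwd (nat_lit 2) (Steps.fwd (nat_lit 8192) Steps.nil))))))))))) (nat_lit 191) (nat_lit 0),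
  Rule.mk (nat_lit 10) (nat_lit 134) (Steps.bwd (nat_lit 11) (Steps.fwd (nat_lit 98304) (Steps.fwd (nat_lit 106496) (Steps.fwd (nat_lit 114688) (Steps.bwd (nat_lit 2) (Steps.fwd (nat_lit 106496) (Steps.fwd (nat_lit 16384) (Steps.bwd (nat_lit 6) Steps.nil)))))))) (nat_lit 186) (nat_lit 5),
  Rule.mk (nat_lit 3) (nat_lit 179) (Steps.bwd (nat_lit 18) (Steps.bwd (nat_lit 1) (Steps.fwd (nat_lit 16384) (Steps.fwd (nat_lit 32768) (Steps.bwd (nat_lit 1) (Steps.bwd (nat_lit 2) (Steps.fwd (nat_lit 8192) (Steps.fwd (nat_lit 24576) (Steps.bwd (nat_lit 1) (Steps.fwd (nat_lit 16384) (Steps.fwd (nat_lit 8192) Steps.nil))))))))))) (nat_lit 192) (nat_lit 0),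
  Rule.mk (nat_lit 5) (nat_lit 104) (Steps.fwd (nat_lit 57344) (Steps.fwd (nat_lit 106496) (Steps.bwd (nat_lit 14) (Steps.fwd (nat_lit 24576) (Steps.bwd (nat_lit 7) (Steps.bwd (nat_lit 3) Steps.nil)))))) (nat_lit 174) (nat_lit 4),
  Rule.mk (nat_lit 6) (nat_lit 104) (Steps.bwd (nat_lit 11) (Steps.fwd (nat_lit 98304) (Steps.bwd (nat_lit 14) (Steps.fwd (nat_lit 24576) (Steps.bwd (nat_lit 10) (Steps.bwd (nat_lit 3) Steps.nil)))))) (nat_lit 180) (nat_lit 4),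
  Rule.mk (nat_lit 9) (nat_lit 104) (Steps.fwd (nat_lit 65536) (Steps.bwd (nat_lit 5) (Steps.bwd (nat_lit 4) (Steps.bwd (nat_lit 2) (Steps.fwd (nat_lit 98304) (Steps.bwd (nat_lit 3) Steps.nil)))))) (nat_lit 185) (nat_lit 1),
  Rule.mk (nat_lit 18) (nat_lit 179) (Steps.fwd (nat_lit 8192) (Steps.bwd (nat_lit 3) (Steps.bwd (nat_lit 4) (Steps.fwd (nat_lit 8192) (Steps.bwd (nat_lit 2) (Steps.bwd (nat_lit 1) (Steps.fwd (nat_lit 24576) (Steps.bwd (nat_lit 1) (Steps.fwd (nat_lit 16384) (Steps.fwd (nat_lit 8192) (Steps.bwd (nat_lit 3) Steps.nil))))))))))) (nat_lit 192) (nat_lit 1),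
  Rule.mk (nat_lit 1) (nat_lit 179) (Steps.bwd (nat_lit 19) (Steps.fwd (nat_lit 16384) (Steps.fwd (nat_lit 32768) (Steps.bwd (nat_lit 1) (Steps.bwd (nat_lit 2) (Steps.fwd (nat_lit 8192) (Steps.fwd (nat_lit 24576) (Steps.bwd (nat_lit 1) (Steps.fwd (nat_lit 16384) (Steps.fwd (nat_lit 8192) (Steps.bwd (nat_lit 3) Steps.nil))))))))))) (nat_lit 195) (nat_lit 11),
  Rule.mk (nat_lit 19) (nat_lit 179) (Steps.bwd (nat_lit 3) (Steps.bwd (nat_lit 4) (Steps.fwd (nat_lit 8192) (Steps.bwd (nat_lit 2) (Steps.bwd (nat_lit 1) (Steps.fwd (nat_lit 24576) (Steps.bwd (nat_lit 1) (Steps.fwd (nat_lit 16384) (Steps.fwd (nat_lit 8192) (Steps.bwd (nat_lit 3) (Steps.bwd (nat_lit 1) Steps.nil))))))))))) (nat_lit 195) (nat_lit 0),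
  Rule.mk (nat_lit 0) (nat_lit 704) (Steps.bwd (nat_lit 3) (Steps.fwd (nat_lit 8192) (Steps.bwd (nat_lit 3) (Steps.bwd (nat_lit 1) (Steps.fwd (nat_lit 16384) (Steps.bwd (nat_lit 1) (Steps.fwd (nat_lit 16384) (Steps.fwd (nat_lit 8192) (Steps.bwd (nat_lit 3) (Steps.fwd (nat_lit 8192) (Steps.bwd (nat_lit 3) (Steps.fwd (nat_lit 8192) (Steps.bwd (nat_lit 3) (Steps.fwd (nat_lit 8192) (Steps.fwd (nat_lit 16384) (Steps.bwd (nat_lit 1) (Steps.bwd (nat_lit 3) (Steps.bwd (nat_lit 1) (Steps.fwd (nat_lit 16384) (Steps.fwd (nat_lit 8192) (Steps.fwd (nat_lit 16384) (Steps.fwd (nat_lit 8192) (Steps.bwd (nat_lit 3) (Steps.bwd (nat_lit 1) (Steps.bwd (nat_lit 3) (Steps.bwd (nat_lit 1) (Steps.fwd (nat_lit 16384) (Steps.fwd (nat_lit 8192) (Steps.bwd (nat_lit 3) (Steps.fwd (nat_lit 8192) (Steps.bwd (nat_lit 3) (Steps.fwd (nat_lit 8192) (Steps.bwd (nat_lit 3) (Steps.bwd (nat_lit 1) (Steps.fwd (nat_lit 16384) (Steps.bwd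 (nat_lit 1) (Steps.bwd (nat_lit 3) (Steps.bwd (nat_lit 1) (Steps.fwd (nat_lit 16384) (Steps.bwd (nat_lit 1) (Steps.bwd (nat_lit 3) (Steps.bwd (nat_lit 1) (Steps.fwd (nat_lit 16384) (Steps.fwd (nat_lit 8192) (Steps.bwd (nat_lit 3) (Steps.bwd (nat_lit 1) Steps.nil)))))))))))))))))))))))))))))))))))))))))))))) (nat_lit 5) (nat_lit 0),
  Rule.mk (nat_lit 12) (nat_lit 164) (Steps.fwd (nat_lit 8192) (Steps.bwd (nat_lit 4) (Steps.bwd (nat_lit 5) (Steps.fwd (nat_lit 65536) (Steps.fwd (nat_lit 73728) (Steps.bwd (nat_lit 10) (Steps.bwd (nat_lit 11) (Steps.bwd (nat_lit 12) (Steps.bwd (nat_lit 14) (Steps.fwd (nat_lit 8192) Steps.nil)))))))))) (nat_lit 162) (nat_lit 2),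
  Rule.mk (nat_lit 16) (nat_lit 179) (Steps.fwd (nat_lit 8192) (Steps.fwd (nat_lit 16384) (Steps.fwd (nat_lit 8192) (Steps.bwd (nat_lit 3) (Steps.fwd (nat_lit 8192) (Steps.bwd (nat_lit 3) (Steps.fwd (nat_lit 8192) (Steps.fwd (nat_lit 24576) (Steps.fwd (nat_lit 32768) (Steps.bwd (nat_lit 1) (Steps.bwd (nat_lit 2) Steps.nil))))))))))) (nat_lit 190) (nat_lit 1),
  Rule.mk (nat_lit 16) (nat_lit 179) (Steps.fwd (nat_lit 8192) (Steps.bwd (nat_lit 3) (Steps.fwd (nat_lit 8192) (Steps.bwd (nat_lit 3) (Steps.fwd (nat_lit 8192) (Steps.bwd (nat_lit 3) (Steps.fwd (nat_lit 8192) (Steps.fwd (nat_lit 24576) (Steps.bwd (nat_lit 4) (Steps.fwd (nat_lit 8192) (Steps.bwd (nat_lit 2) Steps.nil))))))))))) (nat_lit 190) (nat_lit 1),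
  Rule.mk (nat_lit 16) (nat_lit 179) (Steps.fwd (nat_lit 8192) (Steps.bwd (nat_lit 3) (Steps.fwd (nat_lit 8192) (Steps.bwd (nat_lit 3) (Steps.fwd (nat_lit 8192) (Steps.bwd (nat_lit 3) (Steps.bwd (nat_lit 1) (Steps.fwd (nat_lit 24576) (Steps.fwd (nat_lit 32768) (Steps.fwd (nat_lit 8192) (Steps.bwd (nat_lit 2) Steps.nil))))))))))) (nat_lit 190) (nat_lit 1),
  Rule.mk (nat_lit 15) (nat_lit 179) (Steps.bwd (nat_lit 3) (Steps.fwd (nat_lit 8192) (Steps.bwd (nat_lit 4) (Steps.bwd (nat_lit 3) (Steps.fwd (nat_lit 8192) (Steps.fwd (nat_lit 24576) (Steps.bwd (nat_lit 1) (Steps.bwd (nat_lit 2) (Steps.fwd (nat_lit 8192) (Steps.fwd (nat_lit 24576) (Steps.fwd (nat_lit 8192) Steps.nil))))))))))) (nat_lit 191) (nat_lit 0),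
  Rule.mk (nat_lit 18) (nat_lit 179) (Steps.fwd (nat_lit 8192) (Steps.bwd (nat_lit 3) (Steps.fwd (nat_lit 32768) (Steps.bwd (nat_lit 1) (Steps.fwd (nat_lit 24576) (Steps.bwd (nat_lit 1) (Steps.fwd (nat_lit 24576) (Steps.fwd (nat_lit 8192) (Steps.bwd (nat_lit 3) (Steps.fwd (nat_lit 8192) (Steps.bwd (nat_lit 3) Steps.nil))))))))))) (nat_lit 192) (nat_lit 1),
  Rule.mk (nat_lit 18) (nat_lit 179) (Steps.bwd (nat_lit 1) (Steps.fwd (nat_lit 16384) (Steps.bwd (nat_lit 4) (Steps.bwd (nat_lit 1) (Steps.bwd (nat_lit 2) (Steps.fwd (nat_lit 8192) (Steps.bwd (nat_lit 2) (Steps.fwd (nat_lit 8192) (Steps.bwd (nat_lit 3) (Steps.fwd (nat_lit 8192) (Steps.bwd (nat_lit 3) Steps.nil))))))))))) (nat_lit 192) (nat_lit 1),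
  Rule.mk (nat_lit 17) (nat_lit 179) (Steps.bwd (nat_lit 2) (Steps.fwd (nat_lit 8192) (Steps.bwd (nat_lit 2) (Steps.fwd (nat_lit 8192) (Steps.bwd (nat_lit 3) (Steps.fwd (nat_lit 8192) (Steps.bwd (nat_lit 3) (Steps.fwd (nat_lit 8192) (Steps.fwd (nat_lit 32768) (Steps.fwd (nat_lit 24576) (Steps.fwd (nat_lit 8192) Steps.nil))))))))))) (nat_lit 193) (nat_lit 0),
  Rule.mk (nat_lit 20) (nat_lit 179) (Steps.bwd (nat_lit 1) (Steps.fwd (nat_lit 24576) (Steps.bwd (nat_lit 1) (Steps.fwd (nat_lit 24576) (Steps.fwd (nat_lit 8192) (Steps.bwd (nat_lit 3) (Steps.fwd (nat_lit 8192) (Steps.bwd (nat_lit 3) (Steps.fwd (nat_lit 8192) (Steps.bwd (nat_lit 4) (Steps.fwd (nat_lit 24576) Steps.nil))))))))))) (nat_lit 194) (nat_lit 1),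
  Rule.mk (nat_lit 19) (nat_lit 179) (Steps.fwd (nat_lit 16384) (Steps.bwd (nat_lit 4) (Steps.bwd (nat_lit 1) (Steps.bwd (nat_lit 2) (Steps.fwd (nat_lit 8192) (Steps.bwd (nat_lit 2) (Steps.fwd (nat_lit 8192) (Steps.bwd (nat_lit 3) (Steps.fwd (nat_lit 8192) (Steps.bwd (nat_lit 3) (Steps.fwd (nat_lit 8192) Steps.nil))))))))))) (nat_lit 195) (nat_lit 0),
  Rule.mk (nat_lit 15) (nat_lit 179) (Steps.bwd (nat_lit 3) (Steps.bwd (nat_lit 1) (Steps.fwd (nat_lit 32768) (Steps.bwd (nat_lit 3) (Steps.fwd (nat_lit 8192) (Steps.bwd (nat_lit 2) (Steps.fwd (nat_lit 8192) (Steps.fwd (nat_lit 24576) (Steps.bwd (nat_lit 1) (Steps.bwd (nat_lit 2) (Steps.fwd (nat_lit 8192) Steps.nil))))))))))) (nat_lit 191) (nat_lit 0),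
  Rule.mk (nat_lit 0) (nat_lit 194) (Steps.fwd (nat_lit 8192) (Steps.bwd (nat_lit 3) (Steps.bwd (nat_lit 1) (Steps.fwd (nat_lit 16384) (Steps.fwd (nat_lit 8192) (Steps.bwd (nat_lit 3) (Steps.bwd (nat_lit 1) (Steps.fwd (nat_lit 24576) (Steps.bwd (nat_lit 4) (Steps.bwd (nat_lit 1) (Steps.bwd (nat_lit 2) (Steps.fwd (nat_lit 122880) Steps.nil)))))))))))) (nat_lit 190) (nat_lit 1),
  Rule.mk (nat_lit 15) (nat_lit 179) (Steps.bwd (nat_lit 3) (Steps.fwd (nat_lit 8192) (Steps.fwd (nat_lit 32768) (Steps.bwd (nat_lit 3) (Steps.bwd (nat_lit 1) (Steps.bwd (nat_lit 2) (Steps.fwd (nat_lit 8192) (Steps.fwd (nat_lit 24576) (Steps.bwd (nat_lit 1) (Steps.fwd (nat_lit 24576) (Steps.fwd (nat_lit 8192) Steps.nil))))))))))) (nat_lit 191) (nat_lit 0),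
  Rule.mk (nat_lit 18) (nat_lit 179) (Steps.fwd (nat_lit 8192) (Steps.fwd (nat_lit 16384) (Steps.bwd (nat_lit 4) (Steps.fwd (nat_lit 8192) (Steps.fwd (nat_lit 24576) (Steps.bwd (nat_lit 1) (Steps.bwd (nat_lit 2) (Steps.fwd (nat_lit 8192) (Steps.bwd (nat_lit 3) (Steps.fwd (nat_lit 8192) (Steps.bwd (nat_lit 3) Steps.nil))))))))))) (nat_lit 192) (nat_lit 1),
  Rule.mk (nat_lit 17) (nat_lit 179) (Steps.fwd (nat_lit 24576) (Steps.bwd (nat_lit 1) (Steps.bwd (nat_lit 2) (Steps.fwd (nat_lit 8192) (Steps.bwd (nat_lit 3) (Steps.fwd (nat_lit 8192) (Steps.bwd (nat_lit 3) (Steps.bwd (nat_lit 1) (Steps.fwd (nat_lit 32768) (Steps.fwd (nat_lit 24576) (Steps.fwd (nat_lit 8192) Steps.nil))))))))))) (nat_lit 193) (nat_lit 0),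
  Rule.mk (nat_lit 0) (nat_lit 194) (Steps.bwd (nat_lit 2) (Steps.fwd (nat_lit 8192) (Steps.fwd (nat_lit 24576) (Steps.bwd (nat_lit 1) (Steps.fwd (nat_lit 16384) (Steps.fwd (nat_lit 8192) (Steps.fwd (nat_lit 16384) (Steps.bwd (nat_lit 1) (Steps.fwd (nat_lit 32768) (Steps.fwd (nat_lit 24576) (Steps.bwd (nat_lit 1) (Steps.fwd (nat_lit 147456) Steps.nil)))))))))))) (nat_lit 193) (nat_lit 0),
  Rule.mk (nat_lit 0) (nat_lit 194) (Steps.bwd (nat_lit 19) (Steps.bwd (nat_lit 3) (Steps.bwd (nat_lit 4) (Steps.fwd (nat_lit 8192) (Steps.fwd (nat_lit 24576) (Steps.bwd (nat_lit 1) (Steps.fwd (nat_lit 24576) (Steps.bwd (nat_lit 1) (Steps.bwd (nat_lit 3) (Steps.fwd (nat_lit 8192) (Steps.bwd (nat_lit 3) (Steps.bwd (nat_lit 1) Steps.nil)))))))))))) (nat_lit 195) (nat_lit 11),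
  Rule.mk (nat_lit 0) (nat_lit 194) (Steps.bwd (nat_lit 1) (Steps.fwd (nat_lit 24576) (Steps.fwd (nat_lit 8192) (Steps.fwd (nat_lit 24576) (Steps.bwd (nat_lit 1) (Steps.fwd (nat_lit 16384) (Steps.fwd (nat_lit 8192) (Steps.fwd (nat_lit 16384) (Steps.bwd (nat_lit 1) (Steps.fwd (nat_lit 32768) (Steps.fwd (nat_lit 24576) (Steps.fwd (nat_lit 155648) Steps.nil)))))))))))) (nat_lit 194) (nat_lit 1),
  Rule.mk (nat_lit 15) (nat_lit 179) (Steps.fwd (nat_lit 16384) (Steps.bwd (nat_lit 1) (Steps.bwd (nat_lit 4) (Steps.fwd (nat_lit 16384) (Steps.fwd (nat_lit 8192) (Steps.bwd (nat_lit 2) (Steps.fwd (nat_lit 8192) (Steps.fwd (nat_lit 24576) (Steps.bwd (nat_lit 1) (Steps.fwd (nat_lit 24576) (Steps.bwd (nat_lit 1) Steps.nil))))))))))) (nat_lit 191) (nat_lit 0),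
  Rule.mk (nat_lit 17) (nat_lit 179) (Steps.fwd (nat_lit 24576) (Steps.bwd (nat_lit 1) (Steps.bwd (nat_lit 2) (Steps.fwd (nat_lit 8192) (Steps.bwd (nat_lit 3) (Steps.fwd (nat_lit 8192) (Steps.fwd (nat_lit 16384) (Steps.fwd (nat_lit 8192) (Steps.fwd (nat_lit 32768) (Steps.fwd (nat_lit 24576) (Steps.bwd (nat_lit 1) Steps.nil))))))))))) (nat_lit 193) (nat_lit 0),
  Rule.mk (nat_lit 16) (nat_lit 179) (Steps.fwd (nat_lit 8192) (Steps.bwd (nat_lit 3) (Steps.fwd (nat_lit 8192) (Steps.fwd (nat_lit 16384) (Steps.fwd (nat_lit 8192) (Steps.bwd (nat_lit 3) (Steps.bwd (nat_lit 1) (Steps.fwd (nat_lit 24576) (Steps.bwd (nat_lit 4) (Steps.fwd (nat_lit 8192) (Steps.bwd (nat_lit 2) Steps.nil))))))))))) (nat_lit 190) (nat_lit 1),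
  Rule.mk (nat_lit 15) (nat_lit 179) (Steps.bwd (nat_lit 3) (Steps.fwd (nat_lit 8192) (Steps.fwd (nat_lit 32768) (Steps.fwd (nat_lit 16384) (Steps.bwd (nat_lit 1) (Steps.bwd (nat_lit 2) (Steps.fwd (nat_lit 8192) (Steps.bwd (nat_lit 2) (Steps.bwd (nat_lit 1) (Steps.fwd (nat_lit 24576) (Steps.fwd (nat_lit 8192) Steps.nil))))))))))) (nat_lit 191) (nat_lit 0),
  Rule.mk (nat_lit 19) (nat_lit 179) (Steps.bwd (nat_lit 3) (Steps.bwd (nat_lit 4) (Steps.bwd (nat_lit 1) (Steps.bwd (nat_lit 2) (Steps.bwd (nat_lit 1) (Steps.fwd (nat_lit 24576) (Steps.bwd (nat_lit 1) (Steps.fwd (nat_lit 16384) (Steps.fwd (nat_lit 8192) (Steps.bwd (nat_lit 3) (Steps.bwd (nat_lit 1) Steps.nil))))))))))) (nat_lit 195) (nat_lit 0),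
  Rule.mk (nat_lit 9) (nat_lit 134) (Steps.bwd (nat_lit 3) (Steps.bwd (nat_lit 4) (Steps.bwd (nat_lit 5) (Steps.fwd (nat_lit 65536) (Steps.bwd (nat_lit 9) (Steps.fwd (nat_lit 90112) (Steps.bwd (nat_lit 14) (Steps.bwd (nat_lit 2) Steps.nil)))))))) (nat_lit 178) (nat_lit 2),
  Rule.mk (nat_lit 0) (nat_lit 194) (Steps.bwd (nat_lit 16) (Steps.bwd (nat_lit 1) (Steps.fwd (nat_lit 16384) (Steps.bwd (nat_lit 1) (Steps.fwd (nat_lit 16384) (Steps.bwd (nat_lit 1) (Steps.fwd (nat_lit 16384) (Steps.bwd (nat_lit 1) (Steps.fwd (nat_lit 24576) (Steps.fwd (nat_lit 32768) (Steps.fwd (nat_lit 8192) (Steps.bwd (nat_lit 2) Steps.nil)))))))))))) (nat_lit 190) (nat_lit 0),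
  Rule.mk (nat_lit 19) (nat_lit 179) (Steps.bwd (nat_lit 3) (Steps.bwd (nat_lit 4) (Steps.bwd (nat_lit 1) (Steps.fwd (nat_lit 24576) (Steps.fwd (nat_lit 8192) (Steps.bwd (nat_lit 2) (Steps.bwd (nat_lit 1) (Steps.fwd (nat_lit 16384) (Steps.fwd (nat_lit 8192) (Steps.fwd (nat_lit 16384) (Steps.bwd (nat_lit 1) Steps.nil))))))))))) (nat_lit 195) (nat_lit 0),
  Rule.mk (nat_lit 1) (nat_lit 539) (Steps.bwd (nat_lit 3) (Steps.fwd (nat_lit 8192) (Steps.bwd (nat_lit 2) (Steps.fwd (nat_lit 8192) (Steps.bwd (nat_lit 2) (Steps.fwd (nat_lit 8192) (Steps.bwd (nat_lit 3) (Steps.bwd (nat_lit 1) (Steps.fwd (nat_lit 24576) (Steps.fwd (nat_lit 8192) (Steps.fwd (nat_lit 24576) (Steps.fwd (nat_lit 8192) (Steps.fwd (nat_lit 16384) (Steps.fwd (nat_lit 8192) (Steps.bwd (nat_lit 2) (Steps.bwd (nat_lit 1) (Steps.fwd (nat_lit 24576) (Steps.bwd (nat_lit 1) (Steps.fwd (nat_lit 16384) (Steps.bwd (nat_lit 1) (Steps.bwd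 (nat_lit 2) (Steps.fwd (nat_lit 8192) (Steps.fwd (nat_lit 16384) (Steps.bwd (nat_lit 1) (Steps.fwd (nat_lit 16384) (Steps.fwd (nat_lit 8192) (Steps.bwd (nat_lit 2) (Steps.fwd (nat_lit 8192) (Steps.fwd (nat_lit 16384) (Steps.fwd (nat_lit 8192) (Steps.fwd (nat_lit 16384) (Steps.bwd (nat_lit 1) (Steps.bwd (nat_lit 2) (Steps.bwd (nat_lit 1) (Steps.bwd (nat_lit 3) Steps.nil))))))))))))))))))))))))))))))))))) (nat_lit 12) (nat_lit 35),
  Rule.mk (nat_lit 16) (nat_lit 179) (Steps.bwd (nat_lit 1) (Steps.fwd (nat_lit 16384) (Steps.bwd (nat_lit 1) (Steps.fwd (nat_lit 16384) (Steps.fwd (nat_lit 8192) (Steps.bwd (nat_lit 3) (Steps.fwd (nat_lit 8192) (Steps.bwd (nat_lit 2) (Steps.fwd (nat_lit 32768) (Steps.bwd (nat_lit 1) (Steps.fwd (nat_lit 24576) Steps.nil))))))))))) (nat_lit 190) (nat_lit 1),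
  Rule.mk (nat_lit 16) (nat_lit 179) (Steps.bwd (nat_lit 1) (Steps.bwd (nat_lit 3) (Steps.bwd (nat_lit 1) (Steps.bwd (nat_lit 3) (Steps.fwd (nat_lit 8192) (Steps.fwd (nat_lit 16384) (Steps.fwd (nat_lit 8192) (Steps.fwd (nat_lit 24576) (Steps.fwd (nat_lit 32768) (Steps.fwd (nat_lit 8192) (Steps.bwd (nat_lit 2) Steps.nil))))))))))) (nat_lit 190) (nat_lit 1),
  Rule.mk (nat_lit 15) (nat_lit 179) (Steps.fwd (nat_lit 16384) (Steps.bwd (nat_lit 1) (Steps.fwd (nat_lit 32768) (Steps.bwd (nat_lit 3) (Steps.bwd (nat_lit 1) (Steps.bwd (nat_lit 2) (Steps.bwd (nat_lit 1) (Steps.fwd (nat_lit 24576) (Steps.fwd (nat_lit 8192) (Steps.bwd (nat_lit 2) (Steps.bwd (nat_lit 1) Steps.nil))))))))))) (nat_lit 191) (nat_lit 0),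
  Rule.mk (nat_lit 15) (nat_lit 179) (Steps.bwd (nat_lit 3) (Steps.bwd (nat_lit 1) (Steps.bwd (nat_lit 4) (Steps.bwd (nat_lit 3) (Steps.bwd (nat_lit 1) (Steps.fwd (nat_lit 24576) (Steps.fwd (nat_lit 8192) (Steps.bwd (nat_lit 2) (Steps.bwd (nat_lit 1) (Steps.fwd (nat_lit 24576) (Steps.bwd (nat_lit 1) Steps.nil))))))))))) (nat_lit 191) (nat_lit 0)]
noncomputable def R_90 : List (Rule) := [Rule.mk (nat_lit 18) (nat_lit 179) (Steps.bwd (nat_lit 1) (Steps.bwd (nat_lit 3) (Steps.bwd (nat_lit 4) (Steps.fwd (nat_lit 8192) (Steps.fwd (nat_lit 24576) (Steps.bwd (nat_lit 1) (Steps.bwd (nat_lit 2) (Steps.bwd (nat_lit 1) (Steps.bwd (nat_lit 3) (Steps.bwd (nat_lit 1) (Steps.bwd (nat_lit 3) Steps.nil))))))))))) (nat_lit 192) (nat_lit 1),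
  Rule.mk (nat_lit 18) (nat_lit 179) (Steps.fwd (nat_lit 8192) (Steps.bwd (nat_lit 3) (Steps.fwd (nat_lit 32768) (Steps.bwd (nat_lit 1) (Steps.bwd (nat_lit 2) (Steps.bwd (nat_lit 1) (Steps.bwd (nat_lit 2) (Steps.bwd (nat_lit 1) (Steps.bwd (nat_lit 3) (Steps.fwd (nat_lit 8192) (Steps.fwd (nat_lit 16384) Steps.nil))))))))))) (nat_lit 192) (nat_lit 1),
  Rule.mk (nat_lit 0) (nat_lit 194) (Steps.bwd (nat_lit 17) (Steps.fwd (nat_lit 24576) (Steps.fwd (nat_lit 8192) (Steps.fwd (nat_lit 24576) (Steps.bwd (nat_lit 1) (Steps.bwd (nat_lit 3) (Steps.fwd (nat_lit 8192) (Steps.fwd (nat_lit 16384) (Steps.fwd (nat_lit 8192) (Steps.fwd (nat_lit 32768) (Steps.bwd (nat_lit 2) (Steps.fwd (nat_lit 8192) Steps.nil)))))))))))) (nat_lit 193) (nat_lit 11),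
  Rule.mk (nat_lit 18) (nat_lit 179) (Steps.bwd (nat_lit 1) (Steps.fwd (nat_lit 16384) (Steps.fwd (nat_lit 32768) (Steps.bwd (nat_lit 1) (Steps.fwd (nat_lit 24576) (Steps.fwd (nat_lit 8192) (Steps.bwd (nat_lit 2) (Steps.bwd (nat_lit 1) (Steps.fwd (nat_lit 16384) (Steps.bwd (nat_lit 1) (Steps.bwd (nat_lit 3) Steps.nil))))))))))) (nat_lit 192) (nat_lit 1),
  Rule.mk (nat_lit 18) (nat_lit 179) (Steps.bwd (nat_lit 1) (Steps.bwd (nat_lit 3) (Steps.bwd (nat_lit 4) (Steps.bwd (nat_lit 1) (Steps.fwd (nat_lit 24576) (Steps.fwd (nat_lit 8192) (Steps.bwd (nat_lit 2) (Steps.bwd (nat_lit 1) (Steps.fwd (nat_lit 16384) (Steps.fwd (nat_lit 8192) (Steps.fwd (nat_lit 16384) Steps.nil))))))))))) (nat_lit 192) (nat_lit 1),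
  Rule.mk (nat_lit 17) (nat_lit 179) (Steps.bwd (nat_lit 2) (Steps.fwd (nat_lit 8192) (Steps.fwd (nat_lit 24576) (Steps.bwd (nat_lit 1) (Steps.fwd (nat_lit 16384) (Steps.fwd (nat_lit 8192) (Steps.bwd (nat_lit 3) (Steps.fwd (nat_lit 8192) (Steps.fwd (nat_lit 32768) (Steps.bwd (nat_lit 2) (Steps.bwd (nat_lit 1) Steps.nil))))))))))) (nat_lit 193) (nat_lit 0),
  Rule.mk (nat_lit 17) (nat_lit 179) (Steps.bwd (nat_lit 2) (Steps.bwd (nat_lit 1) (Steps.bwd (nat_lit 2) (Steps.bwd (nat_lit 1) (Steps.bwd (nat_lit 3) (Steps.fwd (nat_lit 8192) (Steps.fwd (nat_lit 16384) (Steps.fwd (nat_lit 8192) (Steps.bwd (nat_lit 4) (Steps.fwd (nat_lit 24576) (Steps.fwd (nat_lit 8192) Steps.nil))))))))))) (nat_lit 193) (nat_lit 0),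
  Rule.mk (nat_lit 0) (nat_lit 194) (Steps.bwd (nat_lit 17) (Steps.bwd (nat_lit 2) (Steps.bwd (nat_lit 1) (Steps.fwd (nat_lit 24576) (Steps.fwd (nat_lit 8192) (Steps.bwd (nat_lit 3) (Steps.bwd (nat_lit 1) (Steps.bwd (nat_lit 3) (Steps.bwd (nat_lit 1) (Steps.bwd (nat_lit 4) (Steps.fwd (nat_lit 24576) (Steps.bwd (nat_lit 1) Steps.nil)))))))))))) (nat_lit 193) (nat_lit 11),
  Rule.mk (nat_lit 20) (nat_lit 179) (Steps.bwd (nat_lit 1) (Steps.bwd (nat_lit 2) (Steps.bwd (nat_lit 1) (Steps.bwd (nat_lit 2) (Steps.bwd (nat_lit 1) (Steps.bwd (nat_lit 3) (Steps.fwd (nat_lit 8192) (Steps.fwd (nat_lit 16384) (Steps.fwd (nat_lit 8192) (Steps.bwd (nat_lit 4) (Steps.fwd (nat_lit 24576) Steps.nil))))))))))) (nat_lit 194) (nat_lit 1),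
  Rule.mk (nat_lit 0) (nat_lit 194) (Steps.bwd (nat_lit 20) (Steps.bwd (nat_lit 1) (Steps.bwd (nat_lit 2) (Steps.bwd (nat_lit 1) (Steps.fwd (nat_lit 24576) (Steps.fwd (nat_lit 8192) (Steps.bwd (nat_lit 3) (Steps.bwd (nat_lit 1) (Steps.bwd (nat_lit 3) (Steps.bwd (nat_lit 1) (Steps.bwd (nat_lit 4) (Steps.fwd (nat_lit 24576) Steps.nil)))))))))))) (nat_lit 194) (nat_lit 0),
  Rule.mk (nat_lit 19) (nat_lit 179) (Steps.fwd (nat_lit 16384) (Steps.bwd (nat_lit 4) (Steps.fwd (nat_lit 8192) (Steps.fwd (nat_lit 24576) (Steps.fwd (nat_lit 8192) (Steps.fwd (nat_lit 24576) (Steps.fwd (nat_lit 8192) (Steps.bwd (nat_lit 3) (Steps.bwd (nat_lit 1) (Steps.bwd (nat_lit 3) (Steps.bwd (nat_lit 1) Steps.nil))))))))))) (nat_lit 195) (nat_lit 0),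
  Rule.mk (nat_lit 19) (nat_lit 179) (Steps.bwd (nat_lit 3) (Steps.fwd (nat_lit 32768) (Steps.bwd (nat_lit 1) (Steps.bwd (nat_lit 2) (Steps.bwd (nat_lit 1) (Steps.bwd (nat_lit 2) (Steps.bwd (nat_lit 1) (Steps.bwd (nat_lit 3) (Steps.fwd (nat_lit 8192) (Steps.fwd (nat_lit 16384) (Steps.fwd (nat_lit 8192) Steps.nil))))))))))) (nat_lit 195) (nat_lit 0),
  Rule.mk (nat_lit 0) (nat_lit 194) (Steps.bwd (nat_lit 20) (Steps.fwd (nat_lit 8192) (Steps.fwd (nat_lit 24576) (Steps.fwd (nat_lit 8192) (Steps.fwd (nat_lit 24576) (Steps.bwd (nat_lit 1) (Steps.bwd (nat_lit 3) (Steps.fwd (nat_lit 8192) (Steps.fwd (nat_lit 16384) (Steps.fwd (nat_lit 8192) (Steps.fwd (nat_lit 32768) (Steps.bwd (nat_lit 2) Steps.nil)))))))))))) (nat_lit 194) (nat_lit 0),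
  Rule.mk (nat_lit 19) (nat_lit 179) (Steps.fwd (nat_lit 16384) (Steps.fwd (nat_lit 32768) (Steps.bwd (nat_lit 1) (Steps.fwd (nat_lit 24576) (Steps.fwd (nat_lit 8192) (Steps.bwd (nat_lit 2) (Steps.bwd (nat_lit 1) (Steps.fwd (nat_lit 16384) (Steps.bwd (nat_lit 1) (Steps.bwd (nat_lit 3) (Steps.fwd (nat_lit 8192) Steps.nil))))))))))) (nat_lit 195) (nat_lit 0),
  Rule.mk (nat_lit 17) (nat_lit 179) (Steps.bwd (nat_lit 2) (Steps.fwd (nat_lit 8192) (Steps.fwd (nat_lit 24576) (Steps.fwd (nat_lit 8192) (Steps.bwd (nat_lit 3) (Steps.fwd (nat_lit 8192) (Steps.fwd (nat_lit 16384) (Steps.bwd (nat_lit 1) (Steps.bwd (nat_lit 4) (Steps.fwd (nat_lit 24576) (Steps.fwd (nat_lit 8192) Steps.nil))))))))))) (nat_lit 193) (nat_lit 0),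
  Rule.mk (nat_lit 0) (nat_lit 194) (Steps.bwd (nat_lit 20) (Steps.fwd (nat_lit 8192) (Steps.bwd (nat_lit 2) (Steps.fwd (nat_lit 8192) (Steps.fwd (nat_lit 24576) (Steps.fwd (nat_lit 8192) (Steps.bwd (nat_lit 3) (Steps.fwd (nat_lit 8192) (Steps.fwd (nat_lit 16384) (Steps.bwd (nat_lit 1) (Steps.bwd (nat_lit 4) (Steps.fwd (nat_lit 24576) Steps.nil)))))))))))) (nat_lit 194) (nat_lit 0),
  Rule.mk (nat_lit 18) (nat_lit 179) (Steps.fwd (nat_lit 8192) (Steps.fwd (nat_lit 16384) (Steps.fwd (nat_lit 32768) (Steps.bwd (nat_lit 1) (Steps.fwd (nat_lit 24576) (Steps.fwd (nat_lit 8192) (Steps.bwd (nat_lit 2) (Steps.fwd (nat_lit 8192) (Steps.fwd (nat_lit 16384) (Steps.bwd (nat_lit 1) (Steps.bwd (nat_lit 3) Steps.nil))))))))))) (nat_lit 192) (nat_lit 1),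
  Rule.mk (nat_lit 14) (nat_lit 104) (Steps.bwd (nat_lit 1) (Steps.bwd (nat_lit 11) (Steps.bwd (nat_lit 1) (Steps.bwd (nat_lit 6) (Steps.fwd (nat_lit 90112) (Steps.fwd (nat_lit 98304) Steps.nil)))))) (nat_lit 160) (nat_lit 0),
  Rule.mk (nat_lit 6) (nat_lit 104) (Steps.bwd (nat_lit 1) (Steps.bwd (nat_lit 11) (Steps.bwd (nat_lit 1) (Steps.bwd (nat_lit 14) (Steps.fwd (nat_lit 98304) (Steps.bwd (nat_lit 11) Steps.nil)))))) (nat_lit 161) (nat_lit 4),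
  Rule.mk (nat_lit 7) (nat_lit 164) (Steps.bwd (nat_lit 1) (Steps.bwd (nat_lit 14) (Steps.fwd (nat_lit 106496) (Steps.bwd (nat_lit 12) (Steps.fwd (nat_lit 90112) (Steps.fwd (nat_lit 81920) (Steps.bwd (nat_lit 9) (Steps.fwd (nat_lit 49152) (Steps.bwd (nat_lit 5) (Steps.bwd (nat_lit 1) Steps.nil)))))))))) (nat_lit 153) (nat_lit 10),
  Rule.mk (nat_lit 12) (nat_lit 164) (Steps.bwd (nat_lit 1) (Steps.bwd (nat_lit 4) (Steps.fwd (nat_lit 40960) (Steps.bwd (nat_lit 8) (Steps.fwd (nat_lit 73728) (Steps.bwd (nat_lit 10) (Steps.fwd (nat_lit 90112) (Steps.bwd (nat_lit 12) (Steps.bwd (nat_lit 14) (Steps.bwd (nat_lit 1) Steps.nil)))))))))) (nat_lit 162) (nat_lit 2),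
  Rule.mk (nat_lit 16) (nat_lit 179) (Steps.bwd (nat_lit 1) (Steps.bwd (nat_lit 3) (Steps.fwd (nat_lit 8192) (Steps.bwd (nat_lit 3) (Steps.fwd (nat_lit 8192) (Steps.bwd (nat_lit 3) (Steps.bwd (nat_lit 1) (Steps.bwd (nat_lit 2) (Steps.bwd (nat_lit 4) (Steps.bwd (nat_lit 1) (Steps.bwd (nat_lit 2) Steps.nil))))))))))) (nat_lit 190) (nat_lit 1),
  Rule.mk (nat_lit 18) (nat_lit 179) (Steps.bwd (nat_lit 1) (Steps.fwd (nat_lit 16384) (Steps.bwd (nat_lit 4) (Steps.bwd (nat_lit 1) (Steps.bwd (nat_lit 2) (Steps.fwd (nat_lit 8192) (Steps.fwd (nat_lit 24576) (Steps.fwd (nat_lit 8192) (Steps.bwd (nat_lit 3) (Steps.bwd (nat_lit 1) (Steps.fwd (nat_lit 16384) Steps.nil))))))))))) (nat_lit 192) (nat_lit 1),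
  Rule.mk (nat_lit 18) (nat_lit 179) (Steps.bwd (nat_lit 1) (Steps.fwd (nat_lit 16384) (Steps.fwd (nat_lit 32768) (Steps.bwd (nat_lit 1) (Steps.bwd (nat_lit 2) (Steps.bwd (nat_lit 1) (Steps.bwd (nat_lit 2) (Steps.bwd (nat_lit 1) (Steps.bwd (nat_lit 3) (Steps.fwd (nat_lit 8192) (Steps.fwd (nat_lit 16384) Steps.nil))))))))))) (nat_lit 192) (nat_lit 1),
  Rule.mk (nat_lit 20) (nat_lit 179) (Steps.bwd (nat_lit 1) (Steps.bwd (nat_lit 2) (Steps.fwd (nat_lit 8192) (Steps.fwd (nat_lit 24576) (Steps.fwd (nat_lit 8192) (Steps.bwd (nat_lit 3) (Steps.bwd (nat_lit 1) (Steps.fwd (nat_lit 16384) (Steps.fwd (nat_lit 8192) (Steps.fwd (nat_lit 32768) (Steps.bwd (nat_lit 2) Steps.nil))))))))))) (nat_lit 194) (nat_lit 1),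
  Rule.mk (nat_lit 19) (nat_lit 179) (Steps.fwd (nat_lit 16384) (Steps.bwd (nat_lit 4) (Steps.bwd (nat_lit 1) (Steps.bwd (nat_lit 2) (Steps.fwd (nat_lit 8192) (Steps.fwd (nat_lit 24576) (Steps.fwd (nat_lit 8192) (Steps.bwd (nat_lit 3) (Steps.bwd (nat_lit 1) (Steps.fwd (nat_lit 16384) (Steps.fwd (nat_lit 8192) Steps.nil))))))))))) (nat_lit 195) (nat_lit 0),
  Rule.mk (nat_lit 0) (nat_lit 194) (Steps.bwd (nat_lit 16) (Steps.bwd (nat_lit 1) (Steps.bwd (nat_lit 3) (Steps.fwd (nat_lit 8192) (Steps.fwd (nat_lit 16384) (Steps.fwd (nat_lit 8192) (Steps.bwd (nat_lit 3) (Steps.bwd (nat_lit 1) (Steps.fwd (nat_lit 24576) (Steps.bwd (nat_lit 4) (Steps.bwd (nat_lit 1) (Steps.bwd (nat_lit 2) Steps.nil)))))))))))) (nat_lit 190) (nat_lit 0),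
  Rule.mk (nat_lit 16) (nat_lit 179) (Steps.fwd (nat_lit 8192) (Steps.fwd (nat_lit 16384) (Steps.fwd (nat_lit 8192) (Steps.bwd (nat_lit 3) (Steps.bwd (nat_lit 1) (Steps.fwd (nat_lit 16384) (Steps.fwd (nat_lit 8192) (Steps.fwd (nat_lit 24576) (Steps.fwd (nat_lit 32768) (Steps.fwd (nat_lit 8192) (Steps.fwd (nat_lit 24576) Steps.nil))))))))))) (nat_lit 190) (nat_lit 1),
  Rule.mk (nat_lit 16) (nat_lit 179) (Steps.fwd (nat_lit 8192) (Steps.bwd (nat_lit 3) (Steps.bwd (nat_lit 1) (Steps.fwd (nat_lit 16384) (Steps.fwd (nat_lit 8192) (Steps.bwd (nat_lit 3) (Steps.bwd (nat_lit 1) (Steps.fwd (nat_lit 24576) (Steps.fwd (nat_lit 32768) (Steps.fwd (nat_lit 8192) (Steps.fwd (nat_lit 24576) Steps.nil))))))))))) (nat_lit 190) (nat_lit 1),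
  Rule.mk (nat_lit 15) (nat_lit 179) (Steps.bwd (nat_lit 3) (Steps.fwd (nat_lit 8192) (Steps.bwd (nat_lit 4) (Steps.bwd (nat_lit 3) (Steps.bwd (nat_lit 1) (Steps.fwd (nat_lit 24576) (Steps.bwd (nat_lit 1) (Steps.bwd (nat_lit 2) (Steps.bwd (nat_lit 1) (Steps.fwd (nat_lit 24576) (Steps.fwd (nat_lit 8192) Steps.nil))))))))))) (nat_lit 191) (nat_lit 0),
  Rule.mk (nat_lit 18) (nat_lit 179) (Steps.fwd (nat_lit 8192) (Steps.bwd (nat_lit 3) (Steps.bwd (nat_lit 4) (Steps.fwd (nat_lit 8192) (Steps.fwd (nat_lit 24576) (Steps.bwd (nat_lit 1) (Steps.fwd (nat_lit 24576) (Steps.bwd (nat_lit 1) (Steps.fwd (nat_lit 16384) (Steps.fwd (nat_lit 8192) (Steps.fwd (nat_lit 16384) Steps.nil))))))))))) (nat_lit 192) (nat_lit 1),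
  Rule.mk (nat_lit 0) (nat_lit 194) (Steps.bwd (nat_lit 17) (Steps.fwd (nat_lit 24576) (Steps.bwd (nat_lit 1) (Steps.bwd (nat_lit 2) (Steps.fwd (nat_lit 8192) (Steps.bwd (nat_lit 3) (Steps.bwd (nat_lit 1) (Steps.fwd (nat_lit 16384) (Steps.fwd (nat_lit 8192) (Steps.fwd (nat_lit 32768) (Steps.bwd (nat_lit 2) (Steps.fwd (nat_lit 8192) Steps.nil)))))))))))) (nat_lit 193) (nat_lit 11),
  Rule.mk (nat_lit 0) (nat_lit 194) (Steps.bwd (nat_lit 20) (Steps.fwd (nat_lit 8192) (Steps.fwd (nat_lit 24576) (Steps.bwd (nat_lit 1) (Steps.bwd (nat_lit 2) (Steps.fwd (nat_lit 8192) (Steps.fwd (nat_lit 16384) (Steps.fwd (nat_lit 8192) (Steps.bwd (nat_lit 3) (Steps.bwd (nat_lit 1) (Steps.bwd (nat_lit 4) (Steps.bwd (nat_lit 2) Steps.nil)))))))))))) (nat_lit 194) (nat_lit 0),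
  Rule.mk (nat_lit 0) (nat_lit 194) (Steps.bwd (nat_lit 19) (Steps.fwd (nat_lit 16384) (Steps.bwd (nat_lit 4) (Steps.bwd (nat_lit 1) (Steps.bwd (nat_lit 2) (Steps.fwd (nat_lit 8192) (Steps.fwd (nat_lit 24576) (Steps.bwd (nat_lit 1) (Steps.fwd (nat_lit 16384) (Steps.fwd (nat_lit 8192) (Steps.bwd (nat_lit 3) (Steps.bwd (nat_lit 1) Steps.nil)))))))))))) (nat_lit 195) (nat_lit 11),
  Rule.mk (nat_lit 19) (nat_lit 179) (Steps.fwd (nat_lit 16384) (Steps.fwd (nat_lit 32768) (Steps.fwd (nat_lit 8192) (Steps.fwd (nat_lit 24576) (Steps.bwd (nat_lit 1) (Steps.bwd (nat_lit 2) (Steps.fwd (nat_lit 8192) (Steps.bwd (nat_lit 3) (Steps.bwd (nat_lit 1) (Steps.fwd (nat_lit 16384) (Steps.fwd (nat_lit 8192) Steps.nil))))))))))) (nat_lit 195) (nat_lit 0),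
  Rule.mk (nat_lit 19) (nat_lit 179) (Steps.bwd (nat_lit 3) (Steps.bwd (nat_lit 4) (Steps.fwd (nat_lit 8192) (Steps.fwd (nat_lit 24576) (Steps.bwd (nat_lit 1) (Steps.fwd (nat_lit 24576) (Steps.bwd (nat_lit 1) (Steps.fwd (nat_lit 16384) (Steps.fwd (nat_lit 8192) (Steps.fwd (nat_lit 16384) (Steps.fwd (nat_lit 8192) Steps.nil))))))))))) (nat_lit 195) (nat_lit 0),
  Rule.mk (nat_lit 1) (nat_lit 179) (Steps.bwd (nat_lit 3) (Steps.bwd (nat_lit 1) (Steps.fwd (nat_lit 16384) (Steps.fwd (nat_lit 8192) (Steps.bwd (nat_lit 3) (Steps.bwd (nat_lit 1) (Steps.fwd (nat_lit 24576) (Steps.fwd (nat_lit 32768) (Steps.fwd (nat_lit 8192) (Steps.bwd (nat_lit 2) (Steps.fwd (nat_lit 122880) Steps.nil))))))))))) (nat_lit 190) (nat_lit 2),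
  Rule.mk (nat_lit 0) (nat_lit 194) (Steps.bwd (nat_lit 1) (Steps.fwd (nat_lit 16384) (Steps.bwd (nat_lit 1) (Steps.bwd (nat_lit 3) (Steps.fwd (nat_lit 8192) (Steps.fwd (nat_lit 16384) (Steps.fwd (nat_lit 8192) (Steps.fwd (nat_lit 24576) (Steps.bwd (nat_lit 4) (Steps.fwd (nat_lit 8192) (Steps.bwd (nat_lit 2) (Steps.fwd (nat_lit 122880) Steps.nil)))))))))))) (nat_lit 190) (nat_lit 1),
  Rule.mk (nat_lit 15) (nat_lit 179) (Steps.bwd (nat_lit 3) (Steps.bwd (nat_lit 1) (Steps.bwd (nat_lit 4) (Steps.fwd (nat_lit 16384) (Steps.bwd (nat_lit 1) (Steps.bwd (nat_lit 2) (Steps.bwd (nat_lit 1) (Steps.bwd (nat_lit 2) (Steps.bwd (nat_lit 1) (Steps.fwd (nat_lit 24576) (Steps.fwd (nat_lit 8192) Steps.nil))))))))))) (nat_lit 191) (nat_lit 0),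
  Rule.mk (nat_lit 18) (nat_lit 179) (Steps.bwd (nat_lit 1) (Steps.bwd (nat_lit 3) (Steps.fwd (nat_lit 32768) (Steps.bwd (nat_lit 1) (Steps.fwd (nat_lit 24576) (Steps.fwd (nat_lit 8192) (Steps.fwd (nat_lit 24576) (Steps.fwd (nat_lit 8192) (Steps.fwd (nat_lit 16384) (Steps.fwd (nat_lit 8192) (Steps.bwd (nat_lit 3) Steps.nil))))))))))) (nat_lit 192) (nat_lit 1),
  Rule.mk (nat_lit 19) (nat_lit 179) (Steps.bwd (nat_lit 3) (Steps.fwd (nat_lit 32768) (Steps.bwd (nat_lit 1) (Steps.fwd (nat_lit 24576) (Steps.fwd (nat_lit 8192) (Steps.fwd (nat_lit 24576) (Steps.fwd (nat_lit 8192) (Steps.fwd (nat_lit 16384) (Steps.fwd (nat_lit 8192) (Steps.bwd (nat_lit 3) (Steps.bwd (nat_lit 1) Steps.nil))))))))))) (nat_lit 195) (nat_lit 0),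
  Rule.mk (nat_lit 2) (nat_lit 539) (Steps.bwd (nat_lit 1) (Steps.bwd (nat_lit 3) (Steps.bwd (nat_lit 1) (Steps.bwd (nat_lit 2) (Steps.fwd (nat_lit 8192) (Steps.fwd (nat_lit 24576) (Steps.fwd (nat_lit 8192) (Steps.bwd (nat_lit 3) (Steps.bwd (nat_lit 1) (Steps.fwd (nat_lit 24576) (Steps.bwd (nat_lit 1) (Steps.fwd (nat_lit 16384) (Steps.fwd (nat_lit 8192) (Steps.fwd (nat_lit 16384) (Steps.bwd (nat_lit 1) (Steps.fwd (nat_lit 24576) (Steps.fwd (nat_lit 8192) (Steps.bwd (nat_lit 3) (Steps.fwd (nat_lit 8192) (Steps.fwd (nat_lit 16384) (Steps.bwd (nat_lit 1) (Steps.fwd (nat_lit 24576) (Steps.bwd (nat_lit 1) (Steps.bwd (nat_lit 3) (Steps.fwd (nat_lit 8192) (Steps.bwd (nat_lit 3) (Steps.fwd (nat_lit 8192) (Steps.fwd (nat_lit 24576) (Steps.fwd (nat_lit 8192) (Steps.fwd (nat_lit 24576) (Steps.bwd (nat_lit 1) (Steps.fwd (nat_lit 16384) (Steps.fwd (nat_lit 8192) (Steps.bwd (nat_lit 2) (Steps.bwd (nat_lit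 1) Steps.nil))))))))))))))))))))))))))))))))))) (nat_lit 12) (nat_lit 10),
  Rule.mk (nat_lit 14) (nat_lit 119) (Steps.fwd (nat_lit 16384) (Steps.bwd (nat_lit 5) (Steps.fwd (nat_lit 49152) (Steps.bwd (nat_lit 7) (Steps.bwd (nat_lit 12) (Steps.fwd (nat_lit 114688) (Steps.bwd (nat_lit 2) Steps.nil))))))) (nat_lit 188) (nat_lit 2),
  Rule.mk (nat_lit 9) (nat_lit 134) (Steps.fwd (nat_lit 16384) (Steps.bwd (nat_lit 4) (Steps.fwd (nat_lit 40960) (Steps.fwd (nat_lit 65536) (Steps.fwd (nat_lit 73728) (Steps.bwd (nat_lit 11) (Steps.fwd (nat_lit 114688) (Steps.bwd (nat_lit 2) Steps.nil)))))))) (nat_lit 178) (nat_lit 2),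
  Rule.mk (nat_lit 13) (nat_lit 134) (Steps.bwd (nat_lit 3) (Steps.fwd (nat_lit 49152) (Steps.fwd (nat_lit 81920) (Steps.fwd (nat_lit 90112) (Steps.fwd (nat_lit 98304) (Steps.bwd (nat_lit 13) (Steps.fwd (nat_lit 114688) (Steps.bwd (nat_lit 2) Steps.nil)))))))) (nat_lit 186) (nat_lit 2),
  Rule.mk (nat_lit 5) (nat_lit 149) (Steps.bwd (nat_lit 3) (Steps.fwd (nat_lit 32768) (Steps.fwd (nat_lit 40960) (Steps.bwd (nat_lit 8) (Steps.fwd (nat_lit 73728) (Steps.fwd (nat_lit 98304) (Steps.bwd (nat_lit 13) (Steps.fwd (nat_lit 114688) (Steps.bwd (nat_lit 2) Steps.nil))))))))) (nat_lit 170) (nat_lit 2),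
  Rule.mk (nat_lit 6) (nat_lit 164) (Steps.bwd (nat_lit 3) (Steps.fwd (nat_lit 40960) (Steps.bwd (nat_lit 6) (Steps.fwd (nat_lit 73728) (Steps.fwd (nat_lit 81920) (Steps.fwd (nat_lit 90112) (Steps.fwd (nat_lit 98304) (Steps.bwd (nat_lit 13) (Steps.fwd (nat_lit 114688) (Steps.bwd (nat_lit 2) Steps.nil)))))))))) (nat_lit 172) (nat_lit 2),
  Rule.mk (nat_lit 11) (nat_lit 164) (Steps.fwd (nat_lit 16384) (Steps.fwd (nat_lit 32768) (Steps.bwd (nat_lit 5) (Steps.bwd (nat_lit 8) (Steps.fwd (nat_lit 73728) (Steps.fwd (nat_lit 81920) (Steps.fwd (nat_lit 90112) (Steps.bwd (nat_lit 12) (Steps.fwd (nat_lit 114688) (Steps.bwd (nat_lit 2) Steps.nil)))))))))) (nat_lit 182) (nat_lit 2),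
  Rule.mk (nat_lit 16) (nat_lit 179) (Steps.fwd (nat_lit 8192) (Steps.bwd (nat_lit 3) (Steps.bwd (nat_lit 1) (Steps.fwd (nat_lit 16384) (Steps.bwd (nat_lit 1) (Steps.fwd (nat_lit 16384) (Steps.bwd (nat_lit 1) (Steps.bwd (nat_lit 2) (Steps.bwd (nat_lit 4) (Steps.bwd (nat_lit 1) (Steps.bwd (nat_lit 2) Steps.nil))))))))))) (nat_lit 190) (nat_lit 1),
  Rule.mk (nat_lit 15) (nat_lit 179) (Steps.fwd (nat_lit 16384) (Steps.bwd (nat_lit 1) (Steps.bwd (nat_lit 4) (Steps.fwd (nat_lit 16384) (Steps.bwd (nat_lit 1) (Steps.fwd (nat_lit 24576) (Steps.fwd (nat_lit 8192) (Steps.bwd (nat_lit 2) (Steps.bwd (nat_lit 1) (Steps.bwd (nat_lit 2) (Steps.bwd (nat_lit 1) Steps.nil))))))))))) (nat_lit 191) (nat_lit 0),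
  Rule.mk (nat_lit 0) (nat_lit 194) (Steps.bwd (nat_lit 16) (Steps.fwd (nat_lit 8192) (Steps.fwd (nat_lit 16384) (Steps.fwd (nat_lit 8192) (Steps.fwd (nat_lit 16384) (Steps.fwd (nat_lit 8192) (Steps.fwd (nat_lit 16384) (Steps.bwd (nat_lit 1) (Steps.bwd (nat_lit 2) (Steps.bwd (nat_lit 4) (Steps.bwd (nat_lit 1) (Steps.fwd (nat_lit 24576) Steps.nil)))))))))))) (nat_lit 190) (nat_lit 0),
  Rule.mk (nat_lit 0) (nat_lit 194) (Steps.bwd (nat_lit 18) (Steps.fwd (nat_lit 8192) (Steps.bwd (nat_lit 3) (Steps.fwd (nat_lit 32768) (Steps.fwd (nat_lit 8192) (Steps.bwd (nat_lit 2) (Steps.bwd (nat_lit 1) (Steps.bwd (nat_lit 2) (Steps.bwd (nat_lit 1) (Steps.bwd (nat_lit 3) (Steps.bwd (nat_lit 1) (Steps.fwd (nat_lit 16384) Steps.nil)))))))))))) (nat_lit 192) (nat_lit 0),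
  Rule.mk (nat_lit 17) (nat_lit 179) (Steps.bwd (nat_lit 2) (Steps.bwd (nat_lit 1) (Steps.bwd (nat_lit 2) (Steps.bwd (nat_lit 1) (Steps.fwd (nat_lit 16384) (Steps.fwd (nat_lit 8192) (Steps.bwd (nat_lit 3) (Steps.bwd (nat_lit 1) (Steps.bwd (nat_lit 4) (Steps.fwd (nat_lit 24576) (Steps.fwd (nat_lit 8192) Steps.nil))))))))))) (nat_lit 193) (nat_lit 0),
  Rule.mk (nat_lit 20) (nat_lit 179) (Steps.fwd (nat_lit 8192) (Steps.bwd (nat_lit 2) (Steps.bwd (nat_lit 1) (Steps.bwd (nat_lit 2) (Steps.bwd (nat_lit 1) (Steps.bwd (nat_lit 3) (Steps.bwd (nat_lit 1) (Steps.fwd (nat_lit 16384) (Steps.fwd (nat_lit 8192) (Steps.fwd (nat_lit 32768) (Steps.fwd (nat_lit 24576) Steps.nil))))))))))) (nat_lit 194) (nat_lit 1),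
  Rule.mk (nat_lit 0) (nat_lit 194) (Steps.bwd (nat_lit 19) (Steps.bwd (nat_lit 3) (Steps.fwd (nat_lit 32768) (Steps.fwd (nat_lit 8192) (Steps.fwd (nat_lit 24576) (Steps.bwd (nat_lit 1) (Steps.bwd (nat_lit 2) (Steps.fwd (nat_lit 8192) (Steps.fwd (nat_lit 16384) (Steps.fwd (nat_lit 8192) (Steps.fwd (nat_lit 16384) (Steps.fwd (nat_lit 8192) Steps.nil)))))))))))) (nat_lit 195) (nat_lit 11),
  Rule.mk (nat_lit 0) (nat_lit 194) (Steps.bwd (nat_lit 20) (Steps.bwd (nat_lit 1) (Steps.bwd (nat_lit 2) (Steps.fwd (nat_lit 8192) (Steps.fwd (nat_lit 24576) (Steps.fwd (nat_lit 8192) (Steps.fwd (nat_lit 16384) (Steps.fwd (nat_lit 8192) (Steps.fwd (nat_lit 16384) (Steps.bwd (nat_lit 1) (Steps.bwd (nat_lit 4) (Steps.fwd (nat_lit 24576) Steps.nil)))))))))))) (nat_lit 194) (nat_lit 0),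
  Rule.mk (nat_lit 16) (nat_lit 179) (Steps.fwd (nat_lit 8192) (Steps.bwd (nat_lit 3) (Steps.bwd (nat_lit 1) (Steps.bwd (nat_lit 3) (Steps.bwd (nat_lit 1) (Steps.bwd (nat_lit 3) (Steps.fwd (nat_lit 8192) (Steps.bwd (nat_lit 2) (Steps.fwd (nat_lit 32768) (Steps.fwd (nat_lit 8192) (Steps.bwd (nat_lit 2) Steps.nil))))))))))) (nat_lit 190) (nat_lit 1),
  Rule.mk (nat_lit 16) (nat_lit 179) (Steps.fwd (nat_lit 8192) (Steps.fwd (nat_lit 16384) (Steps.fwd (nat_lit 8192) (Steps.bwd (nat_lit 3) (Steps.fwd (nat_lit 8192) (Steps.fwd (nat_lit 16384) (Steps.fwd (nat_lit 8192) (Steps.bwd (nat_lit 2) (Steps.fwd (nat_lit 32768) (Steps.fwd (nat_lit 8192) (Steps.fwd (nat_lit 24576) Steps.nil))))))))))) (nat_lit 190) (nat_lit 1),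
  Rule.mk (nat_lit 0) (nat_lit 194) (Steps.bwd (nat_lit 15) (Steps.fwd (nat_lit 16384) (Steps.bwd (nat_lit 1) (Steps.bwd (nat_lit 4) (Steps.fwd (nat_lit 16384) (Steps.fwd (nat_lit 8192) (Steps.fwd (nat_lit 24576) (Steps.fwd (nat_lit 8192) (Steps.bwd (nat_lit 2) (Steps.fwd (nat_lit 8192) (Steps.bwd (nat_lit 2) (Steps.bwd (nat_lit 1) Steps.nil)))))))))))) (nat_lit 191) (nat_lit 11),
  Rule.mk (nat_lit 15) (nat_lit 179) (Steps.bwd (nat_lit 3) (Steps.bwd (nat_lit 1) (Steps.fwd (nat_lit 32768) (Steps.fwd (nat_lit 16384) (Steps.fwd (nat_lit 8192) (Steps.bwd (nat_lit 2) (Steps.fwd (nat_lit 8192) (Steps.bwd (nat_lit 2) (Steps.bwd (nat_lit 1) (Steps.fwd (nat_lit 24576) (Steps.bwd (nat_lit 1) Steps.nil))))))))))) (nat_lit 191) (nat_lit 0),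
  Rule.mk (nat_lit 18) (nat_lit 179) (Steps.bwd (nat_lit 1) (Steps.bwd (nat_lit 3) (Steps.fwd (nat_lit 32768) (Steps.fwd (nat_lit 8192) (Steps.fwd (nat_lit 24576) (Steps.fwd (nat_lit 8192) (Steps.bwd (nat_lit 2) (Steps.fwd (nat_lit 8192) (Steps.bwd (nat_lit 3) (Steps.fwd (nat_lit 8192) (Steps.fwd (nat_lit 16384) Steps.nil))))))))))) (nat_lit 192) (nat_lit 1),
  Rule.mk (nat_lit 18) (nat_lit 179) (Steps.bwd (nat_lit 1) (Steps.bwd (nat_lit 3) (Steps.fwd (nat_lit 32768) (Steps.fwd (nat_lit 8192) (Steps.bwd (nat_lit 2) (Steps.fwd (nat_lit 8192) (Steps.bwd (nat_lit 2) (Steps.bwd (nat_lit 1) (Steps.bwd (nat_lit 3) (Steps.bwd (nat_lit 1) (Steps.fwd (nat_lit 16384) Steps.nil))))))))))) (nat_lit 192) (nat_lit 1),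
  Rule.mk (nat_lit 17) (nat_lit 179) (Steps.fwd (nat_lit 24576) (Steps.fwd (nat_lit 8192) (Steps.bwd (nat_lit 2) (Steps.fwd (nat_lit 8192) (Steps.bwd (nat_lit 3) (Steps.fwd (nat_lit 8192) (Steps.fwd (nat_lit 16384) (Steps.bwd (nat_lit 1) (Steps.fwd (nat_lit 32768) (Steps.bwd (nat_lit 2) (Steps.bwd (nat_lit 1) Steps.nil))))))))))) (nat_lit 193) (nat_lit 0),
  Rule.mk (nat_lit 17) (nat_lit 179) (Steps.bwd (nat_lit 2) (Steps.fwd (nat_lit 8192) (Steps.bwd (nat_lit 2) (Steps.bwd (nat_lit 1) (Steps.bwd (nat_lit 3) (Steps.bwd (nat_lit 1) (Steps.fwd (nat_lit 16384) (Steps.fwd (nat_lit 8192) (Steps.bwd (nat_lit 4) (Steps.bwd (nat_lit 2) (Steps.fwd (nat_lit 8192) Steps.nil))))))))))) (nat_lit 193) (nat_lit 0)]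
noncomputable def R_91 : List (Rule) := [Rule.mk (nat_lit 20) (nat_lit 179) (Steps.fwd (nat_lit 8192) (Steps.fwd (nat_lit 24576) (Steps.fwd (nat_lit 8192) (Steps.bwd (nat_lit 2) (Steps.fwd (nat_lit 8192) (Steps.bwd (nat_lit 3) (Steps.fwd (nat_lit 8192) (Steps.fwd (nat_lit 16384) (Steps.bwd (nat_lit 1) (Steps.fwd (nat_lit 32768) (Steps.bwd (nat_lit 2) Steps.nil))))))))))) (nat_lit 194) (nat_lit 1),
  Rule.mk (nat_lit 20) (nat_lit 179) (Steps.bwd (nat_lit 1) (Steps.bwd (nat_lit 2) (Steps.bwd (nat_lit 1) (Steps.fwd (nat_lit 24576) (Steps.bwd (nat_lit 1) (Steps.bwd (nat_lit 3) (Steps.bwd (nat_lit 1) (Steps.fwd (nat_lit 16384) (Steps.fwd (nat_lit 8192) (Steps.bwd (nat_lit 4) (Steps.bwd (nat_lit 2) Steps.nil))))))))))) (nat_lit 194) (nat_lit 1),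
  Rule.mk (nat_lit 1) (nat_lit 179) (Steps.bwd (nat_lit 17) (Steps.bwd (nat_lit 2) (Steps.fwd (nat_lit 8192) (Steps.fwd (nat_lit 24576) (Steps.fwd (nat_lit 8192) (Steps.bwd (nat_lit 3) (Steps.bwd (nat_lit 1) (Steps.fwd (nat_lit 16384) (Steps.fwd (nat_lit 8192) (Steps.fwd (nat_lit 32768) (Steps.bwd (nat_lit 2) Steps.nil))))))))))) (nat_lit 193) (nat_lit 11),
  Rule.mk (nat_lit 8) (nat_lit 104) (Steps.fwd (nat_lit 8192) (Steps.bwd (nat_lit 5) (Steps.bwd (nat_lit 7) (Steps.fwd (nat_lit 106496) (Steps.bwd (nat_lit 14) (Steps.bwd (nat_lit 1) Steps.nil)))))) (nat_lit 154) (nat_lit 2),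
  Rule.mk (nat_lit 6) (nat_lit 104) (Steps.fwd (nat_lit 90112) (Steps.bwd (nat_lit 12) (Steps.fwd (nat_lit 114688) (Steps.bwd (nat_lit 1) (Steps.fwd (nat_lit 90112) (Steps.bwd (nat_lit 1) Steps.nil)))))) (nat_lit 160) (nat_lit 4),
  Rule.mk (nat_lit 10) (nat_lit 134) (Steps.bwd (nat_lit 1) (Steps.bwd (nat_lit 4) (Steps.bwd (nat_lit 5) (Steps.fwd (nat_lit 65536) (Steps.fwd (nat_lit 73728) (Steps.bwd (nat_lit 11) (Steps.bwd (nat_lit 14) (Steps.bwd (nat_lit 1) Steps.nil)))))))) (nat_lit 158) (nat_lit 2),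
  Rule.mk (nat_lit 12) (nat_lit 164) (Steps.fwd (nat_lit 8192) (Steps.fwd (nat_lit 32768) (Steps.fwd (nat_lit 40960) (Steps.bwd (nat_lit 8) (Steps.bwd (nat_lit 9) (Steps.fwd (nat_lit 81920) (Steps.fwd (nat_lit 90112) (Steps.fwd (nat_lit 98304) (Steps.bwd (nat_lit 14) (Steps.bwd (nat_lit 1) Steps.nil)))))))))) (nat_lit 162) (nat_lit 2),
  Rule.mk (nat_lit 3) (nat_lit 179) (Steps.bwd (nat_lit 18) (Steps.fwd (nat_lit 8192) (Steps.bwd (nat_lit 3) (Steps.bwd (nat_lit 4) (Steps.bwd (nat_lit 1) (Steps.fwd (nat_lit 24576) (Steps.bwd (nat_lit 1) (Steps.bwd (nat_lit 2) (Steps.bwd (nat_lit 1) (Steps.fwd (nat_lit 16384) (Steps.bwd (nat_lit 1) Steps.nil))))))))))) (nat_lit 192) (nat_lit 0),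
  Rule.mk (nat_lit 1) (nat_lit 179) (Steps.bwd (nat_lit 19) (Steps.bwd (nat_lit 3) (Steps.bwd (nat_lit 4) (Steps.bwd (nat_lit 1) (Steps.fwd (nat_lit 24576) (Steps.bwd (nat_lit 1) (Steps.bwd (nat_lit 2) (Steps.bwd (nat_lit 1) (Steps.fwd (nat_lit 16384) (Steps.bwd (nat_lit 1) (Steps.bwd (nat_lit 3) Steps.nil))))))))))) (nat_lit 195) (nat_lit 11),
  Rule.mk (nat_lit 0) (nat_lit 74) (Steps.fwd (nat_lit 24576) (Steps.bwd (nat_lit 4) (Steps.bwd (nat_lit 3) (Steps.fwd (nat_lit 32768) Steps.nil)))) (nat_lit 168) (nat_lit 0),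
  Rule.mk (nat_lit 0) (nat_lit 194) (Steps.bwd (nat_lit 20) (Steps.bwd (nat_lit 1) (Steps.fwd (nat_lit 24576) (Steps.bwd (nat_lit 1) (Steps.bwd (nat_lit 2) (Steps.bwd (nat_lit 1) (Steps.fwd (nat_lit 16384) (Steps.bwd (nat_lit 1) (Steps.bwd (nat_lit 3) (Steps.bwd (nat_lit 1) (Steps.fwd (nat_lit 32768) (Steps.bwd (nat_lit 2) Steps.nil)))))))))))) (nat_lit 194) (nat_lit 0),
  Rule.mk (nat_lit 16) (nat_lit 179) (Steps.fwd (nat_lit 8192) (Steps.bwd (nat_lit 3) (Steps.bwd (nat_lit 1) (Steps.bwd (nat_lit 3) (Steps.fwd (nat_lit 8192) (Steps.bwd (nat_lit 3) (Steps.fwd (nat_lit 8192) (Steps.fwd (nat_lit 24576) (Steps.bwd (nat_lit 4) (Steps.bwd (nat_lit 1) (Steps.bwd (nat_lit 2) Steps.nil))))))))))) (nat_lit 190) (nat_lit 1),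
  Rule.mk (nat_lit 0) (nat_lit 194) (Steps.bwd (nat_lit 16) (Steps.bwd (nat_lit 1) (Steps.bwd (nat_lit 3) (Steps.fwd (nat_lit 8192) (Steps.fwd (nat_lit 16384) (Steps.bwd (nat_lit 1) (Steps.fwd (nat_lit 16384) (Steps.bwd (nat_lit 1) (Steps.fwd (nat_lit 24576) (Steps.bwd (nat_lit 4) (Steps.fwd (nat_lit 8192) (Steps.bwd (nat_lit 2) Steps.nil)))))))))))) (nat_lit 190) (nat_lit 0),
  Rule.mk (nat_lit 18) (nat_lit 179) (Steps.bwd (nat_lit 1) (Steps.fwd (nat_lit 16384) (Steps.fwd (nat_lit 32768) (Steps.fwd (nat_lit 8192) (Steps.bwd (nat_lit 2) (Steps.fwd (nat_lit 8192) (Steps.bwd (nat_lit 2) (Steps.bwd (nat_lit 1) (Steps.fwd (nat_lit 16384) (Steps.bwd (nat_lit 1) (Steps.bwd (nat_lit 3) Steps.nil))))))))))) (nat_lit 192) (nat_lit 1),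
  Rule.mk (nat_lit 18) (nat_lit 179) (Steps.bwd (nat_lit 1) (Steps.bwd (nat_lit 3) (Steps.bwd (nat_lit 4) (Steps.bwd (nat_lit 1) (Steps.bwd (nat_lit 2) (Steps.fwd (nat_lit 8192) (Steps.fwd (nat_lit 24576) (Steps.fwd (nat_lit 8192) (Steps.bwd (nat_lit 3) (Steps.fwd (nat_lit 8192) (Steps.bwd (nat_lit 3) Steps.nil))))))))))) (nat_lit 192) (nat_lit 1),
  Rule.mk (nat_lit 17) (nat_lit 179) (Steps.bwd (nat_lit 2) (Steps.bwd (nat_lit 1) (Steps.fwd (nat_lit 24576) (Steps.bwd (nat_lit 1) (Steps.bwd (nat_lit 3) (Steps.fwd (nat_lit 8192) (Steps.fwd (nat_lit 16384) (Steps.bwd (nat_lit 1) (Steps.fwd (nat_lit 32768) (Steps.fwd (nat_lit 24576) (Steps.fwd (nat_lit 8192) Steps.nil))))))))))) (nat_lit 193) (nat_lit 0),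
  Rule.mk (nat_lit 19) (nat_lit 179) (Steps.fwd (nat_lit 16384) (Steps.fwd (nat_lit 32768) (Steps.fwd (nat_lit 8192) (Steps.bwd (nat_lit 2) (Steps.fwd (nat_lit 8192) (Steps.bwd (nat_lit 2) (Steps.bwd (nat_lit 1) (Steps.fwd (nat_lit 16384) (Steps.bwd (nat_lit 1) (Steps.bwd (nat_lit 3) (Steps.fwd (nat_lit 8192) Steps.nil))))))))))) (nat_lit 195) (nat_lit 0),
  Rule.mk (nat_lit 0) (nat_lit 194) (Steps.bwd (nat_lit 20) (Steps.bwd (nat_lit 1) (Steps.fwd (nat_lit 24576) (Steps.bwd (nat_lit 1) (Steps.fwd (nat_lit 24576) (Steps.bwd (nat_lit 1) (Steps.bwd (nat_lit 3) (Steps.bwd (nat_lit 1) (Steps.fwd (nat_lit 16384) (Steps.fwd (nat_lit 8192) (Steps.fwd (nat_lit 32768) (Steps.fwd (nat_lit 24576) Steps.nil)))))))))))) (nat_lit 194) (nat_lit 0),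
  Rule.mk (nat_lit 2) (nat_lit 164) (Steps.bwd (nat_lit 11) (Steps.fwd (nat_lit 16384) (Steps.fwd (nat_lit 32768) (Steps.fwd (nat_lit 40960) (Steps.bwd (nat_lit 8) (Steps.bwd (nat_lit 9) (Steps.bwd (nat_lit 10) (Steps.fwd (nat_lit 90112) (Steps.fwd (nat_lit 98304) (Steps.fwd (nat_lit 114688) Steps.nil)))))))))) (nat_lit 182) (nat_lit 1),
  Rule.mk (nat_lit 1) (nat_lit 839) (Steps.bwd (nat_lit 2) (Steps.fwd (nat_lit 8192) (Steps.bwd (nat_lit 3) (Steps.bwd (nat_lit 1) (Steps.fwd (nat_lit 24576) (Steps.bwd (nat_lit 1) (Steps.fwd (nat_lit 16384) (Steps.bwd (nat_lit 1) (Steps.fwd (nat_lit 24576) (Steps.fwd (nat_lit 8192) (Steps.fwd (nat_lit 16384) (Steps.bwd (nat_lit 1) (Steps.bwd (nat_lit 2) (Steps.bwd (nat_lit 1) (Steps.bwd (nat_lit 2) (Steps.fwd (nat_lit 8192) (Steps.fwd (nat_lit 16384) (Steps.fwd (nat_lit 8192) (Steps.bwd (nat_lit 2) (Steps.fwd (nat_lit 8192) (Steps.fwd (nat_lit 16384) (Steps.bwd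 (nat_lit 1) (Steps.bwd (nat_lit 2) (Steps.bwd (nat_lit 1) (Steps.fwd (nat_lit 16384) (Steps.bwd (nat_lit 1) (Steps.fwd (nat_lit 24576) (Steps.bwd (nat_lit 1) (Steps.fwd (nat_lit 24576) (Steps.fwd (nat_lit 8192) (Steps.bwd (nat_lit 3) (Steps.fwd (nat_lit 8192) (Steps.fwd (nat_lit 24576) (Steps.bwd (nat_lit 1) (Steps.bwd (nat_lit 3) (Steps.bwd (nat_lit 1) (Steps.fwd (nat_lit 24576) (Steps.bwd (nat_lit 1) (Steps.fwd (nat_lit 16384) (Steps.fwd (nat_lit 8192) (Steps.bwd (nat_lit 2) (Steps.bwd (nat_lit 1) (Steps.fwd (nat_lit 24576) (Steps.bwd (nat_lit 1) (Steps.fwd (nat_lit 16384) (Steps.bwd (nat_lit 1) (Steps.bwd (nat_lit 2) (Steps.bwd (nat_lit 1) (Steps.fwd (nat_lit 16384) (Steps.fwd (nat_lit 8192) (Steps.bwd (nat_lit 2) (Steps.fwd (nat_lit 8192) (Steps.fwd (nat_lit 16384) (Steps.bwd (nat_lit 1) (Steps.bwd (nat_lit 2) Steps.nil))))))))))))))))))))))))))))))))))))))))))))))))))))))) (nat_lit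 10) (nat_lit 3),
  Rule.mk (nat_lit 16) (nat_lit 179) (Steps.bwd (nat_lit 1) (Steps.bwd (nat_lit 3) (Steps.bwd (nat_lit 1) (Steps.fwd (nat_lit 16384) (Steps.fwd (nat_lit 8192) (Steps.fwd (nat_lit 16384) (Steps.bwd (nat_lit 1) (Steps.bwd (nat_lit 2) (Steps.bwd (nat_lit 4) (Steps.fwd (nat_lit 8192) (Steps.fwd (nat_lit 24576) Steps.nil))))))))))) (nat_lit 190) (nat_lit 1),
  Rule.mk (nat_lit 0) (nat_lit 194) (Steps.bwd (nat_lit 16) (Steps.fwd (nat_lit 8192) (Steps.fwd (nat_lit 16384) (Steps.bwd (nat_lit 1) (Steps.fwd (nat_lit 16384) (Steps.bwd (nat_lit 1) (Steps.fwd (nat_lit 16384) (Steps.bwd (nat_lit 1) (Steps.bwd (nat_lit 2) (Steps.bwd (nat_lit 4) (Steps.bwd (nat_lit 1) (Steps.fwd (nat_lit 24576) Steps.nil)))))))))))) (nat_lit 190) (nat_lit 0),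
  Rule.mk (nat_lit 16) (nat_lit 179) (Steps.bwd (nat_lit 1) (Steps.fwd (nat_lit 16384) (Steps.bwd (nat_lit 1) (Steps.fwd (nat_lit 16384) (Steps.bwd (nat_lit 1) (Steps.fwd (nat_lit 16384) (Steps.bwd (nat_lit 1) (Steps.fwd (nat_lit 24576) (Steps.bwd (nat_lit 4) (Steps.fwd (nat_lit 8192) (Steps.fwd (nat_lit 24576) Steps.nil))))))))))) (nat_lit 190) (nat_lit 1),
  Rule.mk (nat_lit 15) (nat_lit 179) (Steps.bwd (nat_lit 3) (Steps.bwd (nat_lit 1) (Steps.bwd (nat_lit 4) (Steps.fwd (nat_lit 16384) (Steps.fwd (nat_lit 8192) (Steps.bwd (nat_lit 2) (Steps.bwd (nat_lit 1) (Steps.bwd (nat_lit 2) (Steps.bwd (nat_lit 1) (Steps.bwd (nat_lit 2) (Steps.fwd (nat_lit 8192) Steps.nil))))))))))) (nat_lit 191) (nat_lit 0),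
  Rule.mk (nat_lit 15) (nat_lit 179) (Steps.bwd (nat_lit 3) (Steps.bwd (nat_lit 1) (Steps.bwd (nat_lit 4) (Steps.fwd (nat_lit 16384) (Steps.bwd (nat_lit 1) (Steps.bwd (nat_lit 2) (Steps.fwd (nat_lit 8192) (Steps.fwd (nat_lit 24576) (Steps.bwd (nat_lit 1) (Steps.fwd (nat_lit 24576) (Steps.bwd (nat_lit 1) Steps.nil))))))))))) (nat_lit 191) (nat_lit 0),
  Rule.mk (nat_lit 0) (nat_lit 194) (Steps.bwd (nat_lit 17) (Steps.bwd (nat_lit 2) (Steps.fwd (nat_lit 8192) (Steps.bwd (nat_lit 2) (Steps.bwd (nat_lit 1) (Steps.bwd (nat_lit 3) (Steps.fwd (nat_lit 8192) (Steps.fwd (nat_lit 16384) (Steps.bwd (nat_lit 1) (Steps.fwd (nat_lit 32768) (Steps.fwd (nat_lit 24576) (Steps.fwd (nat_lit 8192) Steps.nil)))))))))))) (nat_lit 193) (nat_lit 11),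
  Rule.mk (nat_lit 18) (nat_lit 179) (Steps.bwd (nat_lit 1) (Steps.fwd (nat_lit 16384) (Steps.bwd (nat_lit 4) (Steps.fwd (nat_lit 8192) (Steps.fwd (nat_lit 24576) (Steps.bwd (nat_lit 1) (Steps.fwd (nat_lit 24576) (Steps.fwd (nat_lit 8192) (Steps.fwd (nat_lit 16384) (Steps.bwd (nat_lit 1) (Steps.fwd (nat_lit 16384) Steps.nil))))))))))) (nat_lit 192) (nat_lit 1),
  Rule.mk (nat_lit 0) (nat_lit 194) (Steps.bwd (nat_lit 17) (Steps.bwd (nat_lit 2) (Steps.bwd (nat_lit 1) (Steps.bwd (nat_lit 2) (Steps.bwd (nat_lit 1) (Steps.fwd (nat_lit 16384) (Steps.fwd (nat_lit 8192) (Steps.fwd (nat_lit 16384) (Steps.bwd (nat_lit 1) (Steps.bwd (nat_lit 4) (Steps.bwd (nat_lit 2) (Steps.fwd (nat_lit 8192) Steps.nil)))))))))))) (nat_lit 193) (nat_lit 11),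
  Rule.mk (nat_lit 17) (nat_lit 179) (Steps.bwd (nat_lit 2) (Steps.bwd (nat_lit 1) (Steps.bwd (nat_lit 2) (Steps.bwd (nat_lit 1) (Steps.fwd (nat_lit 16384) (Steps.bwd (nat_lit 1) (Steps.fwd (nat_lit 16384) (Steps.bwd (nat_lit 1) (Steps.fwd (nat_lit 32768) (Steps.bwd (nat_lit 2) (Steps.bwd (nat_lit 1) Steps.nil))))))))))) (nat_lit 193) (nat_lit 0),
  Rule.mk (nat_lit 0) (nat_lit 194) (Steps.bwd (nat_lit 20) (Steps.fwd (nat_lit 8192) (Steps.bwd (nat_lit 2) (Steps.bwd (nat_lit 1) (Steps.bwd (nat_lit 2) (Steps.bwd (nat_lit 1) (Steps.fwd (nat_lit 16384) (Steps.fwd (nat_lit 8192) (Steps.fwd (nat_lit 16384) (Steps.bwd (nat_lit 1) (Steps.bwd (nat_lit 4) (Steps.bwd (nat_lit 2) Steps.nil)))))))))))) (nat_lit 194) (nat_lit 0),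
  Rule.mk (nat_lit 0) (nat_lit 194) (Steps.fwd (nat_lit 8192) (Steps.bwd (nat_lit 2) (Steps.bwd (nat_lit 1) (Steps.bwd (nat_lit 2) (Steps.bwd (nat_lit 1) (Steps.fwd (nat_lit 16384) (Steps.bwd (nat_lit 1) (Steps.fwd (nat_lit 16384) (Steps.bwd (nat_lit 1) (Steps.fwd (nat_lit 32768) (Steps.bwd (nat_lit 2) (Steps.fwd (nat_lit 155648) Steps.nil)))))))))))) (nat_lit 194) (nat_lit 1),
  Rule.mk (nat_lit 0) (nat_lit 194) (Steps.fwd (nat_lit 8192) (Steps.bwd (nat_lit 2) (Steps.bwd (nat_lit 1) (Steps.bwd (nat_lit 2) (Steps.fwd (nat_lit 8192) (Steps.fwd (nat_lit 16384) (Steps.fwd (nat_lit 8192) (Steps.fwd (nat_lit 16384) (Steps.bwd (nat_lit 1) (Steps.bwd (nat_lit 4) (Steps.fwd (nat_lit 24576) (Steps.fwd (nat_lit 155648) Steps.nil)))))))))))) (nat_lit 194) (nat_lit 1),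
  Rule.mk (nat_lit 20) (nat_lit 179) (Steps.bwd (nat_lit 1) (Steps.fwd (nat_lit 24576) (Steps.fwd (nat_lit 8192) (Steps.fwd (nat_lit 24576) (Steps.bwd (nat_lit 1) (Steps.bwd (nat_lit 3) (Steps.fwd (nat_lit 8192) (Steps.bwd (nat_lit 3) (Steps.fwd (nat_lit 8192) (Steps.fwd (nat_lit 32768) (Steps.bwd (nat_lit 2) Steps.nil))))))))))) (nat_lit 194) (nat_lit 1),
  Rule.mk (nat_lit 20) (nat_lit 179) (Steps.fwd (nat_lit 8192) (Steps.bwd (nat_lit 2) (Steps.fwd (nat_lit 8192) (Steps.bwd (nat_lit 2) (Steps.bwd (nat_lit 1) (Steps.bwd (nat_lit 3) (Steps.fwd (nat_lit 8192) (Steps.fwd (nat_lit 16384) (Steps.bwd (nat_lit 1) (Steps.fwd (nat_lit 32768) (Steps.fwd (nat_lit 24576) Steps.nil))))))))))) (nat_lit 194) (nat_lit 1),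
  Rule.mk (nat_lit 0) (nat_lit 194) (Steps.bwd (nat_lit 18) (Steps.fwd (nat_lit 8192) (Steps.fwd (nat_lit 16384) (Steps.fwd (nat_lit 32768) (Steps.fwd (nat_lit 8192) (Steps.fwd (nat_lit 24576) (Steps.fwd (nat_lit 8192) (Steps.bwd (nat_lit 2) (Steps.fwd (nat_lit 8192) (Steps.bwd (nat_lit 3) (Steps.fwd (nat_lit 8192) (Steps.bwd (nat_lit 3) Steps.nil)))))))))))) (nat_lit 192) (nat_lit 0),
  Rule.mk (nat_lit 0) (nat_lit 194) (Steps.bwd (nat_lit 20) (Steps.fwd (nat_lit 8192) (Steps.fwd (nat_lit 24576) (Steps.bwd (nat_lit 1) (Steps.fwd (nat_lit 24576) (Steps.bwd (nat_lit 1) (Steps.fwd (nat_lit 16384) (Steps.bwd (nat_lit 1) (Steps.bwd (nat_lit 3) (Steps.bwd (nat_lit 1) (Steps.bwd (nat_lit 4) (Steps.bwd (nat_lit 2) Steps.nil)))))))))))) (nat_lit 194) (nat_lit 0),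
  Rule.mk (nat_lit 14) (nat_lit 104) (Steps.bwd (nat_lit 1) (Steps.bwd (nat_lit 8) (Steps.fwd (nat_lit 8192) (Steps.fwd (nat_lit 40960) (Steps.fwd (nat_lit 57344) (Steps.fwd (nat_lit 106496) Steps.nil)))))) (nat_lit 154) (nat_lit 0),
  Rule.mk (nat_lit 6) (nat_lit 134) (Steps.bwd (nat_lit 1) (Steps.bwd (nat_lit 14) (Steps.fwd (nat_lit 8192) (Steps.fwd (nat_lit 114688) (Steps.bwd (nat_lit 13) (Steps.fwd (nat_lit 98304) (Steps.fwd (nat_lit 90112) (Steps.bwd (nat_lit 10) Steps.nil)))))))) (nat_lit 167) (nat_lit 6),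
  Rule.mk (nat_lit 3) (nat_lit 179) (Steps.bwd (nat_lit 1) (Steps.bwd (nat_lit 4) (Steps.fwd (nat_lit 16384) (Steps.bwd (nat_lit 1) (Steps.bwd (nat_lit 2) (Steps.fwd (nat_lit 8192) (Steps.fwd (nat_lit 24576) (Steps.bwd (nat_lit 1) (Steps.bwd (nat_lit 2) (Steps.bwd (nat_lit 1) (Steps.fwd (nat_lit 131072) Steps.nil))))))))))) (nat_lit 191) (nat_lit 1),
  Rule.mk (nat_lit 18) (nat_lit 179) (Steps.fwd (nat_lit 8192) (Steps.fwd (nat_lit 16384) (Steps.bwd (nat_lit 4) (Steps.bwd (nat_lit 1) (Steps.fwd (nat_lit 24576) (Steps.fwd (nat_lit 8192) (Steps.fwd (nat_lit 24576) (Steps.fwd (nat_lit 8192) (Steps.bwd (nat_lit 3) (Steps.fwd (nat_lit 8192) (Steps.bwd (nat_lit 3) Steps.nil))))))))))) (nat_lit 192) (nat_lit 1),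
  Rule.mk (nat_lit 19) (nat_lit 179) (Steps.fwd (nat_lit 16384) (Steps.bwd (nat_lit 4) (Steps.bwd (nat_lit 1) (Steps.fwd (nat_lit 24576) (Steps.fwd (nat_lit 8192) (Steps.fwd (nat_lit 24576) (Steps.fwd (nat_lit 8192) (Steps.bwd (nat_lit 3) (Steps.fwd (nat_lit 8192) (Steps.bwd (nat_lit 3) (Steps.bwd (nat_lit 1) Steps.nil))))))))))) (nat_lit 195) (nat_lit 0),
  Rule.mk (nat_lit 0) (nat_lit 74) (Steps.bwd (nat_lit 3) (Steps.fwd (nat_lit 32768) (Steps.bwd (nat_lit 2) (Steps.bwd (nat_lit 4) Steps.nil)))) (nat_lit 168) (nat_lit 2),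
  Rule.mk (nat_lit 15) (nat_lit 179) (Steps.fwd (nat_lit 16384) (Steps.fwd (nat_lit 8192) (Steps.bwd (nat_lit 4) (Steps.fwd (nat_lit 16384) (Steps.bwd (nat_lit 1) (Steps.fwd (nat_lit 24576) (Steps.fwd (nat_lit 8192) (Steps.fwd (nat_lit 24576) (Steps.fwd (nat_lit 8192) (Steps.fwd (nat_lit 24576) (Steps.fwd (nat_lit 8192) Steps.nil))))))))))) (nat_lit 191) (nat_lit 0),
  Rule.mk (nat_lit 18) (nat_lit 179) (Steps.bwd (nat_lit 1) (Steps.fwd (nat_lit 16384) (Steps.fwd (nat_lit 32768) (Steps.bwd (nat_lit 1) (Steps.fwd (nat_lit 24576) (Steps.bwd (nat_lit 1) (Steps.bwd (nat_lit 2) (Steps.bwd (nat_lit 1) (Steps.fwd (nat_lit 16384) (Steps.bwd (nat_lit 1) (Steps.bwd (nat_lit 3) Steps.nil))))))))))) (nat_lit 192) (nat_lit 1),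
  Rule.mk (nat_lit 19) (nat_lit 179) (Steps.fwd (nat_lit 16384) (Steps.fwd (nat_lit 32768) (Steps.bwd (nat_lit 1) (Steps.fwd (nat_lit 24576) (Steps.bwd (nat_lit 1) (Steps.bwd (nat_lit 2) (Steps.bwd (nat_lit 1) (Steps.fwd (nat_lit 16384) (Steps.bwd (nat_lit 1) (Steps.bwd (nat_lit 3) (Steps.fwd (nat_lit 8192) Steps.nil))))))))))) (nat_lit 195) (nat_lit 0),
  Rule.mk (nat_lit 10) (nat_lit 104) (Steps.fwd (nat_lit 16384) (Steps.fwd (nat_lit 49152) (Steps.fwd (nat_lit 90112) (Steps.fwd (nat_lit 98304) (Steps.fwd (nat_lit 114688) (Steps.bwd (nat_lit 2) Steps.nil)))))) (nat_lit 180) (nat_lit 2),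
  Rule.mk (nat_lit 15) (nat_lit 179) (Steps.bwd (nat_lit 3) (Steps.bwd (nat_lit 1) (Steps.fwd (nat_lit 32768) (Steps.fwd (nat_lit 16384) (Steps.fwd (nat_lit 8192) (Steps.bwd (nat_lit 2) (Steps.fwd (nat_lit 8192) (Steps.bwd (nat_lit 2) (Steps.bwd (nat_lit 1) (Steps.fwd (nat_lit 24576) (Steps.fwd (nat_lit 8192) Steps.nil))))))))))) (nat_lit 191) (nat_lit 0),
  Rule.mk (nat_lit 0) (nat_lit 194) (Steps.bwd (nat_lit 15) (Steps.bwd (nat_lit 3) (Steps.fwd (nat_lit 8192) (Steps.fwd (nat_lit 32768) (Steps.fwd (nat_lit 16384) (Steps.fwd (nat_lit 8192) (Steps.bwd (nat_lit 2) (Steps.bwd (nat_lit 1) (Steps.fwd (nat_lit 24576) (Steps.fwd (nat_lit 8192) (Steps.fwd (nat_lit 24576) (Steps.fwd (nat_lit 8192) Steps.nil)))))))))))) (nat_lit 191) (nat_lit 11),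
  Rule.mk (nat_lit 18) (nat_lit 179) (Steps.fwd (nat_lit 8192) (Steps.bwd (nat_lit 3) (Steps.fwd (nat_lit 32768) (Steps.fwd (nat_lit 8192) (Steps.bwd (nat_lit 2) (Steps.bwd (nat_lit 1) (Steps.fwd (nat_lit 24576) (Steps.fwd (nat_lit 8192) (Steps.bwd (nat_lit 3) (Steps.fwd (nat_lit 8192) (Steps.bwd (nat_lit 3) Steps.nil))))))))))) (nat_lit 192) (nat_lit 1),
  Rule.mk (nat_lit 17) (nat_lit 179) (Steps.bwd (nat_lit 2) (Steps.bwd (nat_lit 1) (Steps.fwd (nat_lit 24576) (Steps.fwd (nat_lit 8192) (Steps.bwd (nat_lit 3) (Steps.fwd (nat_lit 8192) (Steps.bwd (nat_lit 3) (Steps.fwd (nat_lit 8192) (Steps.fwd (nat_lit 32768) (Steps.fwd (nat_lit 24576) (Steps.bwd (nat_lit 1) Steps.nil))))))))))) (nat_lit 193) (nat_lit 0),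
  Rule.mk (nat_lit 20) (nat_lit 179) (Steps.fwd (nat_lit 8192) (Steps.bwd (nat_lit 2) (Steps.bwd (nat_lit 1) (Steps.fwd (nat_lit 24576) (Steps.fwd (nat_lit 8192) (Steps.bwd (nat_lit 3) (Steps.fwd (nat_lit 8192) (Steps.bwd (nat_lit 3) (Steps.fwd (nat_lit 8192) (Steps.fwd (nat_lit 32768) (Steps.fwd (nat_lit 24576) Steps.nil))))))))))) (nat_lit 194) (nat_lit 1),
  Rule.mk (nat_lit 19) (nat_lit 179) (Steps.bwd (nat_lit 3) (Steps.fwd (nat_lit 32768) (Steps.fwd (nat_lit 8192) (Steps.bwd (nat_lit 2) (Steps.bwd (nat_lit 1) (Steps.fwd (nat_lit 24576) (Steps.fwd (nat_lit 8192) (Steps.bwd (nat_lit 3) (Steps.fwd (nat_lit 8192) (Steps.bwd (nat_lit 3) (Steps.fwd (nat_lit 8192) Steps.nil))))))))))) (nat_lit 195) (nat_lit 0),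
  Rule.mk (nat_lit 2) (nat_lit 164) (Steps.bwd (nat_lit 11) (Steps.fwd (nat_lit 16384) (Steps.bwd (nat_lit 14) (Steps.fwd (nat_lit 98304) (Steps.bwd (nat_lit 11) (Steps.bwd (nat_lit 10) (Steps.bwd (nat_lit 9) (Steps.bwd (nat_lit 8) (Steps.fwd (nat_lit 40960) (Steps.fwd (nat_lit 32768) Steps.nil)))))))))) (nat_lit 183) (nat_lit 9),
  Rule.mk (nat_lit 16) (nat_lit 179) (Steps.bwd (nat_lit 1) (Steps.bwd (nat_lit 3) (Steps.fwd (nat_lit 8192) (Steps.fwd (nat_lit 16384) (Steps.fwd (nat_lit 8192) (Steps.bwd (nat_lit 3) (Steps.fwd (nat_lit 8192) (Steps.bwd (nat_lit 2) (Steps.fwd (nat_lit 32768) (Steps.bwd (nat_lit 1) (Steps.bwd (nat_lit 2) Steps.nil))))))))))) (nat_lit 190) (nat_lit 1),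
  Rule.mk (nat_lit 0) (nat_lit 194) (Steps.fwd (nat_lit 16384) (Steps.fwd (nat_lit 32768) (Steps.bwd (nat_lit 1) (Steps.bwd (nat_lit 2) (Steps.bwd (nat_lit 1) (Steps.bwd (nat_lit 2) (Steps.bwd (nat_lit 1) (Steps.fwd (nat_lit 16384) (Steps.fwd (nat_lit 8192) (Steps.bwd (nat_lit 3) (Steps.bwd (nat_lit 1) (Steps.fwd (nat_lit 163840) Steps.nil)))))))))))) (nat_lit 195) (nat_lit 0),
  Rule.mk (nat_lit 15) (nat_lit 179) (Steps.fwd (nat_lit 16384) (Steps.bwd (nat_lit 1) (Steps.fwd (nat_lit 32768) (Steps.bwd (nat_lit 3) (Steps.bwd (nat_lit 1) (Steps.fwd (nat_lit 24576) (Steps.bwd (nat_lit 1) (Steps.bwd (nat_lit 2) (Steps.bwd (nat_lit 1) (Steps.fwd (nat_lit 24576) (Steps.bwd (nat_lit 1) Steps.nil))))))))))) (nat_lit 191) (nat_lit 0),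
  Rule.mk (nat_lit 17) (nat_lit 179) (Steps.fwd (nat_lit 24576) (Steps.fwd (nat_lit 8192) (Steps.bwd (nat_lit 2) (Steps.bwd (nat_lit 1) (Steps.fwd (nat_lit 16384) (Steps.bwd (nat_lit 1) (Steps.fwd (nat_lit 16384) (Steps.fwd (nat_lit 8192) (Steps.fwd (nat_lit 32768) (Steps.fwd (nat_lit 24576) (Steps.bwd (nat_lit 1) Steps.nil))))))))))) (nat_lit 193) (nat_lit 0),
  Rule.mk (nat_lit 9) (nat_lit 104) (Steps.bwd (nat_lit 2) (Steps.bwd (nat_lit 12) (Steps.bwd (nat_lit 3) (Steps.fwd (nat_lit 32768) (Steps.fwd (nat_lit 40960) (Steps.fwd (nat_lit 65536) Steps.nil)))))) (nat_lit 184) (nat_lit 0),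
  Rule.mk (nat_lit 6) (nat_lit 134) (Steps.bwd (nat_lit 2) (Steps.fwd (nat_lit 106496) (Steps.fwd (nat_lit 16384) (Steps.bwd (nat_lit 14) (Steps.fwd (nat_lit 106496) (Steps.fwd (nat_lit 98304) (Steps.bwd (nat_lit 11) (Steps.bwd (nat_lit 10) Steps.nil)))))))) (nat_lit 187) (nat_lit 6),
  Rule.mk (nat_lit 17) (nat_lit 179) (Steps.bwd (nat_lit 2) (Steps.fwd (nat_lit 8192) (Steps.bwd (nat_lit 2) (Steps.fwd (nat_lit 8192) (Steps.bwd (nat_lit 3) (Steps.fwd (nat_lit 8192) (Steps.fwd (nat_lit 16384) (Steps.bwd (nat_lit 1) (Steps.bwd (nat_lit 4) (Steps.bwd (nat_lit 2) (Steps.bwd (nat_lit 1) Steps.nil))))))))))) (nat_lit 193) (nat_lit 0),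
  Rule.mk (nat_lit 20) (nat_lit 179) (Steps.fwd (nat_lit 8192) (Steps.bwd (nat_lit 2) (Steps.fwd (nat_lit 8192) (Steps.bwd (nat_lit 2) (Steps.fwd (nat_lit 8192) (Steps.bwd (nat_lit 3) (Steps.fwd (nat_lit 8192) (Steps.fwd (nat_lit 16384) (Steps.bwd (nat_lit 1) (Steps.bwd (nat_lit 4) (Steps.bwd (nat_lit 2) Steps.nil))))))))))) (nat_lit 194) (nat_lit 1),
  Rule.mk (nat_lit 1) (nat_lit 599) (Steps.bwd (nat_lit 2) (Steps.bwd (nat_lit 1) (Steps.fwd (nat_lit 16384) (Steps.bwd (nat_lit 1) (Steps.fwd (nat_lit 16384) (Steps.fwd (nat_lit 8192) (Steps.bwd (nat_lit 2) (Steps.bwd (nat_lit 1) (Steps.fwd (nat_lit 24576) (Steps.bwd (nat_lit 1) (Steps.fwd (nat_lit 16384) (Steps.fwd (nat_lit 8192) (Steps.fwd (nat_lit 16384) (Steps.bwd (nat_lit 1) (Steps.fwd (nat_lit 24576) (Steps.fwd (nat_lit 8192) (Steps.fwd (nat_lit 24576) (Steps.bwd (nat_lit 1) (Steps.fwd (nat_lit 16384) (Steps.bwd (nat_lit 1) (Steps.bwd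 (nat_lit 3) (Steps.fwd (nat_lit 8192) (Steps.bwd (nat_lit 2) (Steps.fwd (nat_lit 8192) (Steps.fwd (nat_lit 24576) (Steps.fwd (nat_lit 8192) (Steps.fwd (nat_lit 16384) (Steps.bwd (nat_lit 1) (Steps.bwd (nat_lit 3) (Steps.fwd (nat_lit 8192) (Steps.fwd (nat_lit 24576) (Steps.fwd (nat_lit 8192) (Steps.fwd (nat_lit 24576) (Steps.bwd (nat_lit 1) (Steps.bwd (nat_lit 3) (Steps.fwd (nat_lit 8192) (Steps.bwd (nat_lit 3) (Steps.fwd (nat_lit 8192) (Steps.bwd (nat_lit 2) Steps.nil))))))))))))))))))))))))))))))))))))))) (nat_lit 8) (nat_lit 7),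
  Rule.mk (nat_lit 11) (nat_lit 104) (Steps.bwd (nat_lit 1) (Steps.bwd (nat_lit 14) (Steps.bwd (nat_lit 12) (Steps.bwd (nat_lit 11) (Steps.bwd (nat_lit 6) (Steps.bwd (nat_lit 1) Steps.nil)))))) (nat_lit 161) (nat_lit 6),
  Rule.mk (nat_lit 13) (nat_lit 104) (Steps.fwd (nat_lit 8192) (Steps.bwd (nat_lit 4) (Steps.fwd (nat_lit 40960) (Steps.fwd (nat_lit 65536) (Steps.fwd (nat_lit 73728) (Steps.bwd (nat_lit 1) Steps.nil)))))) (nat_lit 164) (nat_lit 2)]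
noncomputable def R_92 : List (Rule) := [Rule.mk (nat_lit 10) (nat_lit 134) (Steps.bwd (nat_lit 1) (Steps.bwd (nat_lit 4) (Steps.bwd (nat_lit 5) (Steps.fwd (nat_lit 65536) (Steps.bwd (nat_lit 9) (Steps.fwd (nat_lit 90112) (Steps.bwd (nat_lit 14) (Steps.bwd (nat_lit 1) Steps.nil)))))))) (nat_lit 158) (nat_lit 2),
  Rule.mk (nat_lit 7) (nat_lit 164) (Steps.fwd (nat_lit 8192) (Steps.bwd (nat_lit 14) (Steps.bwd (nat_lit 13) (Steps.fwd (nat_lit 98304) (Steps.bwd (nat_lit 11) (Steps.fwd (nat_lit 81920) (Steps.fwd (nat_lit 73728) (Steps.bwd (nat_lit 6) (Steps.bwd (nat_lit 5) (Steps.bwd (nat_lit 1) Steps.nil)))))))))) (nat_lit 153) (nat_lit 10),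
  Rule.mk (nat_lit 12) (nat_lit 164) (Steps.fwd (nat_lit 8192) (Steps.bwd (nat_lit 14) (Steps.fwd (nat_lit 98304) (Steps.bwd (nat_lit 11) (Steps.bwd (nat_lit 10) (Steps.fwd (nat_lit 73728) (Steps.bwd (nat_lit 8) (Steps.bwd (nat_lit 5) (Steps.fwd (nat_lit 32768) (Steps.bwd (nat_lit 1) Steps.nil)))))))))) (nat_lit 163) (nat_lit 10),
  Rule.mk (nat_lit 0) (nat_lit 194) (Steps.bwd (nat_lit 16) (Steps.bwd (nat_lit 1) (Steps.fwd (nat_lit 16384) (Steps.fwd (nat_lit 8192) (Steps.fwd (nat_lit 16384) (Steps.bwd (nat_lit 1) (Steps.fwd (nat_lit 16384) (Steps.fwd (nat_lit 8192) (Steps.bwd (nat_lit 2) (Steps.bwd (nat_lit 4) (Steps.bwd (nat_lit 1) (Steps.fwd (nat_lit 24576) Steps.nil)))))))))))) (nat_lit 190) (nat_lit 0),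
  Rule.mk (nat_lit 16) (nat_lit 179) (Steps.fwd (nat_lit 8192) (Steps.fwd (nat_lit 16384) (Steps.bwd (nat_lit 1) (Steps.fwd (nat_lit 16384) (Steps.fwd (nat_lit 8192) (Steps.fwd (nat_lit 16384) (Steps.fwd (nat_lit 8192) (Steps.bwd (nat_lit 2) (Steps.fwd (nat_lit 32768) (Steps.fwd (nat_lit 8192) (Steps.fwd (nat_lit 24576) Steps.nil))))))))))) (nat_lit 190) (nat_lit 1),
  Rule.mk (nat_lit 16) (nat_lit 179) (Steps.bwd (nat_lit 1) (Steps.fwd (nat_lit 16384) (Steps.fwd (nat_lit 8192) (Steps.fwd (nat_lit 16384) (Steps.fwd (nat_lit 8192) (Steps.fwd (nat_lit 16384) (Steps.fwd (nat_lit 8192) (Steps.fwd (nat_lit 24576) (Steps.bwd (nat_lit 4) (Steps.fwd (nat_lit 8192) (Steps.fwd (nat_lit 24576) Steps.nil))))))))))) (nat_lit 190) (nat_lit 1),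
  Rule.mk (nat_lit 15) (nat_lit 179) (Steps.bwd (nat_lit 3) (Steps.bwd (nat_lit 1) (Steps.fwd (nat_lit 32768) (Steps.fwd (nat_lit 16384) (Steps.bwd (nat_lit 1) (Steps.bwd (nat_lit 2) (Steps.bwd (nat_lit 1) (Steps.fwd (nat_lit 24576) (Steps.fwd (nat_lit 8192) (Steps.bwd (nat_lit 2) (Steps.bwd (nat_lit 1) Steps.nil))))))))))) (nat_lit 191) (nat_lit 0),
  Rule.mk (nat_lit 18) (nat_lit 179) (Steps.bwd (nat_lit 1) (Steps.fwd (nat_lit 16384) (Steps.bwd (nat_lit 4) (Steps.fwd (nat_lit 8192) (Steps.fwd (nat_lit 24576) (Steps.fwd (nat_lit 8192) (Steps.fwd (nat_lit 24576) (Steps.bwd (nat_lit 1) (Steps.bwd (nat_lit 3) (Steps.bwd (nat_lit 1) (Steps.bwd (nat_lit 3) Steps.nil))))))))))) (nat_lit 192) (nat_lit 1),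
  Rule.mk (nat_lit 2) (nat_lit 179) (Steps.bwd (nat_lit 1) (Steps.bwd (nat_lit 2) (Steps.fwd (nat_lit 8192) (Steps.fwd (nat_lit 16384) (Steps.bwd (nat_lit 1) (Steps.fwd (nat_lit 16384) (Steps.fwd (nat_lit 8192) (Steps.bwd (nat_lit 4) (Steps.fwd (nat_lit 24576) (Steps.bwd (nat_lit 1) (Steps.fwd (nat_lit 147456) Steps.nil))))))))))) (nat_lit 193) (nat_lit 1),
  Rule.mk (nat_lit 1) (nat_lit 539) (Steps.bwd (nat_lit 2) (Steps.bwd (nat_lit 1) (Steps.bwd (nat_lit 2) (Steps.fwd (nat_lit 8192) (Steps.fwd (nat_lit 16384) (Steps.bwd (nat_lit 1) (Steps.bwd (nat_lit 2) (Steps.bwd (nat_lit 1) (Steps.fwd (nat_lit 16384) (Steps.bwd (nat_lit 1) (Steps.fwd (nat_lit 16384) (Steps.fwd (nat_lit 8192) (Steps.bwd (nat_lit 2) (Steps.bwd (nat_lit 1) (Steps.bwd (nat_lit 3) (Steps.bwd (nat_lit 1) (Steps.bwd (nat_lit 3) (Steps.fwd (nat_lit 8192) (Steps.fwd (nat_lit 24576) (Steps.fwd (nat_lit 8192) (Steps.bwd (nat_lit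 3) (Steps.fwd (nat_lit 8192) (Steps.fwd (nat_lit 16384) (Steps.bwd (nat_lit 1) (Steps.bwd (nat_lit 2) (Steps.fwd (nat_lit 8192) (Steps.fwd (nat_lit 24576) (Steps.bwd (nat_lit 1) (Steps.fwd (nat_lit 16384) (Steps.fwd (nat_lit 8192) (Steps.bwd (nat_lit 2) (Steps.bwd (nat_lit 1) (Steps.bwd (nat_lit 2) (Steps.fwd (nat_lit 8192) (Steps.fwd (nat_lit 16384) Steps.nil))))))))))))))))))))))))))))))))))) (nat_lit 12) (nat_lit 13),
  Rule.mk (nat_lit 19) (nat_lit 179) (Steps.bwd (nat_lit 3) (Steps.fwd (nat_lit 32768) (Steps.bwd (nat_lit 1) (Steps.bwd (nat_lit 2) (Steps.fwd (nat_lit 8192) (Steps.bwd (nat_lit 2) (Steps.bwd (nat_lit 1) (Steps.fwd (nat_lit 16384) (Steps.fwd (nat_lit 8192) (Steps.fwd (nat_lit 16384) (Steps.fwd (nat_lit 8192) Steps.nil))))))))))) (nat_lit 195) (nat_lit 0),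
  Rule.mk (nat_lit 13) (nat_lit 104) (Steps.bwd (nat_lit 1) (Steps.fwd (nat_lit 73728) (Steps.bwd (nat_lit 8) (Steps.bwd (nat_lit 5) (Steps.fwd (nat_lit 32768) (Steps.bwd (nat_lit 1) Steps.nil)))))) (nat_lit 165) (nat_lit 6),
  Rule.mk (nat_lit 10) (nat_lit 134) (Steps.bwd (nat_lit 1) (Steps.bwd (nat_lit 4) (Steps.fwd (nat_lit 40960) (Steps.bwd (nat_lit 8) (Steps.fwd (nat_lit 73728) (Steps.bwd (nat_lit 11) (Steps.fwd (nat_lit 114688) (Steps.bwd (nat_lit 1) Steps.nil)))))))) (nat_lit 158) (nat_lit 2),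
  Rule.mk (nat_lit 7) (nat_lit 164) (Steps.fwd (nat_lit 8192) (Steps.fwd (nat_lit 40960) (Steps.fwd (nat_lit 49152) (Steps.bwd (nat_lit 9) (Steps.fwd (nat_lit 81920) (Steps.bwd (nat_lit 11) (Steps.fwd (nat_lit 98304) (Steps.bwd (nat_lit 13) (Steps.fwd (nat_lit 114688) (Steps.bwd (nat_lit 1) Steps.nil)))))))))) (nat_lit 152) (nat_lit 2),
  Rule.mk (nat_lit 12) (nat_lit 164) (Steps.fwd (nat_lit 8192) (Steps.bwd (nat_lit 4) (Steps.fwd (nat_lit 40960) (Steps.bwd (nat_lit 8) (Steps.bwd (nat_lit 9) (Steps.fwd (nat_lit 81920) (Steps.fwd (nat_lit 90112) (Steps.bwd (nat_lit 12) (Steps.fwd (nat_lit 114688) (Steps.bwd (nat_lit 1) Steps.nil)))))))))) (nat_lit 162) (nat_lit 2),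
  Rule.mk (nat_lit 0) (nat_lit 194) (Steps.bwd (nat_lit 16) (Steps.fwd (nat_lit 8192) (Steps.bwd (nat_lit 3) (Steps.fwd (nat_lit 8192) (Steps.bwd (nat_lit 3) (Steps.fwd (nat_lit 8192) (Steps.bwd (nat_lit 3) (Steps.fwd (nat_lit 8192) (Steps.fwd (nat_lit 24576) (Steps.fwd (nat_lit 32768) (Steps.bwd (nat_lit 1) (Steps.bwd (nat_lit 2) Steps.nil)))))))))))) (nat_lit 190) (nat_lit 0),
  Rule.mk (nat_lit 17) (nat_lit 179) (Steps.bwd (nat_lit 2) (Steps.bwd (nat_lit 1) (Steps.bwd (nat_lit 2) (Steps.bwd (nat_lit 1) (Steps.bwd (nat_lit 3) (Steps.fwd (nat_lit 8192) (Steps.fwd (nat_lit 16384) (Steps.bwd (nat_lit 1) (Steps.bwd (nat_lit 4) (Steps.bwd (nat_lit 2) (Steps.fwd (nat_lit 8192) Steps.nil))))))))))) (nat_lit 193) (nat_lit 0),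
  Rule.mk (nat_lit 20) (nat_lit 179) (Steps.bwd (nat_lit 1) (Steps.bwd (nat_lit 2) (Steps.bwd (nat_lit 1) (Steps.bwd (nat_lit 2) (Steps.bwd (nat_lit 1) (Steps.bwd (nat_lit 3) (Steps.fwd (nat_lit 8192) (Steps.fwd (nat_lit 16384) (Steps.bwd (nat_lit 1) (Steps.bwd (nat_lit 4) (Steps.bwd (nat_lit 2) Steps.nil))))))))))) (nat_lit 194) (nat_lit 1),
  Rule.mk (nat_lit 19) (nat_lit 179) (Steps.fwd (nat_lit 16384) (Steps.bwd (nat_lit 4) (Steps.bwd (nat_lit 1) (Steps.bwd (nat_lit 2) (Steps.bwd (nat_lit 1) (Steps.bwd (nat_lit 2) (Steps.bwd (nat_lit 1) (Steps.bwd (nat_lit 3) (Steps.fwd (nat_lit 8192) (Steps.fwd (nat_lit 16384) (Steps.bwd (nat_lit 1) Steps.nil))))))))))) (nat_lit 195) (nat_lit 0),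
  Rule.mk (nat_lit 15) (nat_lit 179) (Steps.bwd (nat_lit 3) (Steps.fwd (nat_lit 8192) (Steps.fwd (nat_lit 32768) (Steps.fwd (nat_lit 16384) (Steps.bwd (nat_lit 1) (Steps.bwd (nat_lit 2) (Steps.fwd (nat_lit 8192) (Steps.bwd (nat_lit 2) (Steps.bwd (nat_lit 1) (Steps.bwd (nat_lit 2) (Steps.fwd (nat_lit 8192) Steps.nil))))))))))) (nat_lit 191) (nat_lit 0),
  Rule.mk (nat_lit 0) (nat_lit 194) (Steps.bwd (nat_lit 15) (Steps.fwd (nat_lit 16384) (Steps.bwd (nat_lit 1) (Steps.fwd (nat_lit 32768) (Steps.fwd (nat_lit 16384) (Steps.fwd (nat_lit 8192) (Steps.bwd (nat_lit 2) (Steps.bwd (nat_lit 1) (Steps.bwd (nat_lit 2) (Steps.fwd (nat_lit 8192) (Steps.bwd (nat_lit 2) (Steps.bwd (nat_lit 1) Steps.nil)))))))))))) (nat_lit 191) (nat_lit 11),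
  Rule.mk (nat_lit 18) (nat_lit 179) (Steps.fwd (nat_lit 8192) (Steps.fwd (nat_lit 16384) (Steps.fwd (nat_lit 32768) (Steps.bwd (nat_lit 1) (Steps.bwd (nat_lit 2) (Steps.fwd (nat_lit 8192) (Steps.bwd (nat_lit 2) (Steps.bwd (nat_lit 1) (Steps.fwd (nat_lit 16384) (Steps.fwd (nat_lit 8192) (Steps.fwd (nat_lit 16384) Steps.nil))))))))))) (nat_lit 192) (nat_lit 1),
  Rule.mk (nat_lit 17) (nat_lit 179) (Steps.bwd (nat_lit 2) (Steps.fwd (nat_lit 8192) (Steps.fwd (nat_lit 24576) (Steps.fwd (nat_lit 8192) (Steps.bwd (nat_lit 3) (Steps.fwd (nat_lit 8192) (Steps.fwd (nat_lit 16384) (Steps.bwd (nat_lit 1) (Steps.bwd (nat_lit 4) (Steps.bwd (nat_lit 2) (Steps.fwd (nat_lit 8192) Steps.nil))))))))))) (nat_lit 193) (nat_lit 0),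
  Rule.mk (nat_lit 20) (nat_lit 179) (Steps.bwd (nat_lit 1) (Steps.bwd (nat_lit 2) (Steps.fwd (nat_lit 8192) (Steps.fwd (nat_lit 24576) (Steps.fwd (nat_lit 8192) (Steps.bwd (nat_lit 3) (Steps.fwd (nat_lit 8192) (Steps.fwd (nat_lit 16384) (Steps.bwd (nat_lit 1) (Steps.bwd (nat_lit 4) (Steps.bwd (nat_lit 2) Steps.nil))))))))))) (nat_lit 194) (nat_lit 1),
  Rule.mk (nat_lit 0) (nat_lit 194) (Steps.bwd (nat_lit 19) (Steps.bwd (nat_lit 3) (Steps.bwd (nat_lit 4) (Steps.fwd (nat_lit 8192) (Steps.bwd (nat_lit 2) (Steps.bwd (nat_lit 1) (Steps.bwd (nat_lit 2) (Steps.fwd (nat_lit 8192) (Steps.fwd (nat_lit 16384) (Steps.bwd (nat_lit 1) (Steps.fwd (nat_lit 16384) (Steps.fwd (nat_lit 8192) Steps.nil)))))))))))) (nat_lit 195) (nat_lit 11),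
  Rule.mk (nat_lit 0) (nat_lit 194) (Steps.bwd (nat_lit 20) (Steps.fwd (nat_lit 8192) (Steps.bwd (nat_lit 2) (Steps.bwd (nat_lit 1) (Steps.bwd (nat_lit 2) (Steps.fwd (nat_lit 8192) (Steps.fwd (nat_lit 16384) (Steps.bwd (nat_lit 1) (Steps.fwd (nat_lit 16384) (Steps.fwd (nat_lit 8192) (Steps.bwd (nat_lit 4) (Steps.bwd (nat_lit 2) Steps.nil)))))))))))) (nat_lit 194) (nat_lit 0),
  Rule.mk (nat_lit 0) (nat_lit 194) (Steps.bwd (nat_lit 15) (Steps.fwd (nat_lit 16384) (Steps.bwd (nat_lit 1) (Steps.bwd (nat_lit 4) (Steps.fwd (nat_lit 16384) (Steps.fwd (nat_lit 8192) (Steps.bwd (nat_lit 2) (Steps.bwd (nat_lit 1) (Steps.fwd (nat_lit 24576) (Steps.bwd (nat_lit 1) (Steps.fwd (nat_lit 24576) (Steps.fwd (nat_lit 8192) Steps.nil)))))))))))) (nat_lit 191) (nat_lit 11),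
  Rule.mk (nat_lit 16) (nat_lit 179) (Steps.fwd (nat_lit 8192) (Steps.bwd (nat_lit 3) (Steps.bwd (nat_lit 1) (Steps.fwd (nat_lit 16384) (Steps.bwd (nat_lit 1) (Steps.fwd (nat_lit 16384) (Steps.fwd (nat_lit 8192) (Steps.fwd (nat_lit 24576) (Steps.fwd (nat_lit 32768) (Steps.bwd (nat_lit 1) (Steps.bwd (nat_lit 2) Steps.nil))))))))))) (nat_lit 190) (nat_lit 1),
  Rule.mk (nat_lit 2) (nat_lit 164) (Steps.bwd (nat_lit 11) (Steps.fwd (nat_lit 16384) (Steps.fwd (nat_lit 32768) (Steps.fwd (nat_lit 40960) (Steps.bwd (nat_lit 8) (Steps.bwd (nat_lit 9) (Steps.fwd (nat_lit 81920) (Steps.bwd (nat_lit 11) (Steps.fwd (nat_lit 98304) (Steps.bwd (nat_lit 14) Steps.nil)))))))))) (nat_lit 182) (nat_lit 1),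
  Rule.mk (nat_lit 20) (nat_lit 179) (Steps.fwd (nat_lit 8192) (Steps.fwd (nat_lit 24576) (Steps.fwd (nat_lit 8192) (Steps.fwd (nat_lit 24576) (Steps.bwd (nat_lit 1) (Steps.fwd (nat_lit 16384) (Steps.fwd (nat_lit 8192) (Steps.fwd (nat_lit 16384) (Steps.bwd (nat_lit 1) (Steps.bwd (nat_lit 4) (Steps.bwd (nat_lit 2) Steps.nil))))))))))) (nat_lit 194) (nat_lit 1),
  Rule.mk (nat_lit 3) (nat_lit 179) (Steps.bwd (nat_lit 18) (Steps.fwd (nat_lit 8192) (Steps.fwd (nat_lit 16384) (Steps.fwd (nat_lit 32768) (Steps.bwd (nat_lit 1) (Steps.fwd (nat_lit 24576) (Steps.bwd (nat_lit 1) (Steps.fwd (nat_lit 24576) (Steps.bwd (nat_lit 1) (Steps.bwd (nat_lit 3) (Steps.bwd (nat_lit 1) Steps.nil))))))))))) (nat_lit 192) (nat_lit 0),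
  Rule.mk (nat_lit 6) (nat_lit 104) (Steps.fwd (nat_lit 90112) (Steps.fwd (nat_lit 98304) (Steps.fwd (nat_lit 114688) (Steps.fwd (nat_lit 24576) (Steps.bwd (nat_lit 10) (Steps.bwd (nat_lit 3) Steps.nil)))))) (nat_lit 180) (nat_lit 4),
  Rule.mk (nat_lit 9) (nat_lit 104) (Steps.bwd (nat_lit 8) (Steps.fwd (nat_lit 40960) (Steps.bwd (nat_lit 4) (Steps.fwd (nat_lit 24576) (Steps.bwd (nat_lit 12) (Steps.bwd (nat_lit 3) Steps.nil)))))) (nat_lit 185) (nat_lit 1),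
  Rule.mk (nat_lit 18) (nat_lit 179) (Steps.bwd (nat_lit 1) (Steps.bwd (nat_lit 3) (Steps.bwd (nat_lit 4) (Steps.bwd (nat_lit 1) (Steps.bwd (nat_lit 2) (Steps.bwd (nat_lit 1) (Steps.fwd (nat_lit 24576) (Steps.bwd (nat_lit 1) (Steps.bwd (nat_lit 3) (Steps.bwd (nat_lit 1) (Steps.fwd (nat_lit 16384) Steps.nil))))))))))) (nat_lit 192) (nat_lit 1),
  Rule.mk (nat_lit 1) (nat_lit 179) (Steps.bwd (nat_lit 19) (Steps.fwd (nat_lit 16384) (Steps.fwd (nat_lit 32768) (Steps.bwd (nat_lit 1) (Steps.fwd (nat_lit 24576) (Steps.bwd (nat_lit 1) (Steps.fwd (nat_lit 24576) (Steps.bwd (nat_lit 1) (Steps.bwd (nat_lit 3) (Steps.bwd (nat_lit 1) (Steps.bwd (nat_lit 3) Steps.nil))))))))))) (nat_lit 195) (nat_lit 11),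
  Rule.mk (nat_lit 0) (nat_lit 194) (Steps.bwd (nat_lit 20) (Steps.bwd (nat_lit 1) (Steps.bwd (nat_lit 2) (Steps.fwd (nat_lit 8192) (Steps.fwd (nat_lit 24576) (Steps.fwd (nat_lit 8192) (Steps.bwd (nat_lit 3) (Steps.fwd (nat_lit 8192) (Steps.fwd (nat_lit 16384) (Steps.fwd (nat_lit 8192) (Steps.fwd (nat_lit 32768) (Steps.fwd (nat_lit 24576) Steps.nil)))))))))))) (nat_lit 194) (nat_lit 0),
  Rule.mk (nat_lit 0) (nat_lit 74) (Steps.fwd (nat_lit 8192) (Steps.bwd (nat_lit 4) (Steps.bwd (nat_lit 1) (Steps.bwd (nat_lit 5) Steps.nil)))) (nat_lit 146) (nat_lit 0),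
  Rule.mk (nat_lit 7) (nat_lit 164) (Steps.bwd (nat_lit 1) (Steps.fwd (nat_lit 40960) (Steps.fwd (nat_lit 49152) (Steps.bwd (nat_lit 9) (Steps.bwd (nat_lit 10) (Steps.bwd (nat_lit 11) (Steps.bwd (nat_lit 12) (Steps.fwd (nat_lit 106496) (Steps.bwd (nat_lit 14) (Steps.bwd (nat_lit 1) Steps.nil)))))))))) (nat_lit 152) (nat_lit 2),
  Rule.mk (nat_lit 12) (nat_lit 164) (Steps.bwd (nat_lit 1) (Steps.bwd (nat_lit 4) (Steps.bwd (nat_lit 5) (Steps.bwd (nat_lit 8) (Steps.bwd (nat_lit 9) (Steps.bwd (nat_lit 10) (Steps.bwd (nat_lit 11) (Steps.bwd (nat_lit 12) (Steps.fwd (nat_lit 114688) (Steps.bwd (nat_lit 1) Steps.nil)))))))))) (nat_lit 162) (nat_lit 2),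
  Rule.mk (nat_lit 16) (nat_lit 179) (Steps.bwd (nat_lit 1) (Steps.bwd (nat_lit 3) (Steps.bwd (nat_lit 1) (Steps.bwd (nat_lit 3) (Steps.bwd (nat_lit 1) (Steps.fwd (nat_lit 16384) (Steps.bwd (nat_lit 1) (Steps.bwd (nat_lit 2) (Steps.bwd (nat_lit 4) (Steps.bwd (nat_lit 1) (Steps.bwd (nat_lit 2) Steps.nil))))))))))) (nat_lit 190) (nat_lit 1),
  Rule.mk (nat_lit 16) (nat_lit 179) (Steps.bwd (nat_lit 1) (Steps.fwd (nat_lit 16384) (Steps.bwd (nat_lit 1) (Steps.fwd (nat_lit 16384) (Steps.bwd (nat_lit 1) (Steps.bwd (nat_lit 3) (Steps.fwd (nat_lit 8192) (Steps.fwd (nat_lit 24576) (Steps.bwd (nat_lit 4) (Steps.fwd (nat_lit 8192) (Steps.bwd (nat_lit 2) Steps.nil))))))))))) (nat_lit 190) (nat_lit 1),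
  Rule.mk (nat_lit 15) (nat_lit 179) (Steps.bwd (nat_lit 3) (Steps.fwd (nat_lit 8192) (Steps.fwd (nat_lit 32768) (Steps.bwd (nat_lit 3) (Steps.fwd (nat_lit 8192) (Steps.fwd (nat_lit 24576) (Steps.bwd (nat_lit 1) (Steps.fwd (nat_lit 24576) (Steps.fwd (nat_lit 8192) (Steps.fwd (nat_lit 24576) (Steps.bwd (nat_lit 1) Steps.nil))))))))))) (nat_lit 191) (nat_lit 0),
  Rule.mk (nat_lit 0) (nat_lit 194) (Steps.bwd (nat_lit 16) (Steps.fwd (nat_lit 8192) (Steps.fwd (nat_lit 16384) (Steps.bwd (nat_lit 1) (Steps.fwd (nat_lit 16384) (Steps.bwd (nat_lit 1) (Steps.fwd (nat_lit 16384) (Steps.fwd (nat_lit 8192) (Steps.bwd (nat_lit 2) (Steps.fwd (nat_lit 32768) (Steps.fwd (nat_lit 8192) (Steps.fwd (nat_lit 24576) Steps.nil)))))))))))) (nat_lit 190) (nat_lit 0),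
  Rule.mk (nat_lit 18) (nat_lit 179) (Steps.bwd (nat_lit 1) (Steps.bwd (nat_lit 3) (Steps.fwd (nat_lit 32768) (Steps.fwd (nat_lit 8192) (Steps.bwd (nat_lit 2) (Steps.fwd (nat_lit 8192) (Steps.fwd (nat_lit 24576) (Steps.bwd (nat_lit 1) (Steps.bwd (nat_lit 3) (Steps.bwd (nat_lit 1) (Steps.fwd (nat_lit 16384) Steps.nil))))))))))) (nat_lit 192) (nat_lit 1),
  Rule.mk (nat_lit 18) (nat_lit 179) (Steps.bwd (nat_lit 1) (Steps.fwd (nat_lit 16384) (Steps.bwd (nat_lit 4) (Steps.bwd (nat_lit 1) (Steps.bwd (nat_lit 2) (Steps.fwd (nat_lit 8192) (Steps.bwd (nat_lit 2) (Steps.fwd (nat_lit 8192) (Steps.fwd (nat_lit 16384) (Steps.fwd (nat_lit 8192) (Steps.fwd (nat_lit 16384) Steps.nil))))))))))) (nat_lit 192) (nat_lit 1),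
  Rule.mk (nat_lit 17) (nat_lit 179) (Steps.bwd (nat_lit 2) (Steps.fwd (nat_lit 8192) (Steps.fwd (nat_lit 24576) (Steps.bwd (nat_lit 1) (Steps.bwd (nat_lit 3) (Steps.bwd (nat_lit 1) (Steps.fwd (nat_lit 16384) (Steps.bwd (nat_lit 1) (Steps.bwd (nat_lit 4) (Steps.fwd (nat_lit 24576) (Steps.bwd (nat_lit 1) Steps.nil))))))))))) (nat_lit 193) (nat_lit 0),
  Rule.mk (nat_lit 17) (nat_lit 179) (Steps.fwd (nat_lit 24576) (Steps.fwd (nat_lit 8192) (Steps.fwd (nat_lit 24576) (Steps.bwd (nat_lit 1) (Steps.fwd (nat_lit 16384) (Steps.bwd (nat_lit 1) (Steps.fwd (nat_lit 16384) (Steps.bwd (nat_lit 1) (Steps.fwd (nat_lit 32768) (Steps.bwd (nat_lit 2) (Steps.bwd (nat_lit 1) Steps.nil))))))))))) (nat_lit 193) (nat_lit 0),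
  Rule.mk (nat_lit 0) (nat_lit 194) (Steps.bwd (nat_lit 20) (Steps.fwd (nat_lit 8192) (Steps.bwd (nat_lit 2) (Steps.fwd (nat_lit 8192) (Steps.fwd (nat_lit 24576) (Steps.bwd (nat_lit 1) (Steps.bwd (nat_lit 3) (Steps.bwd (nat_lit 1) (Steps.fwd (nat_lit 16384) (Steps.bwd (nat_lit 1) (Steps.bwd (nat_lit 4) (Steps.fwd (nat_lit 24576) Steps.nil)))))))))))) (nat_lit 194) (nat_lit 0),
  Rule.mk (nat_lit 20) (nat_lit 179) (Steps.bwd (nat_lit 1) (Steps.fwd (nat_lit 24576) (Steps.fwd (nat_lit 8192) (Steps.fwd (nat_lit 24576) (Steps.bwd (nat_lit 1) (Steps.fwd (nat_lit 16384) (Steps.bwd (nat_lit 1) (Steps.fwd (nat_lit 16384) (Steps.bwd (nat_lit 1) (Steps.fwd (nat_lit 32768) (Steps.bwd (nat_lit 2) Steps.nil))))))))))) (nat_lit 194) (nat_lit 1),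
  Rule.mk (nat_lit 0) (nat_lit 194) (Steps.bwd (nat_lit 19) (Steps.bwd (nat_lit 3) (Steps.fwd (nat_lit 32768) (Steps.fwd (nat_lit 8192) (Steps.bwd (nat_lit 2) (Steps.fwd (nat_lit 8192) (Steps.fwd (nat_lit 24576) (Steps.bwd (nat_lit 1) (Steps.bwd (nat_lit 3) (Steps.bwd (nat_lit 1) (Steps.fwd (nat_lit 16384) (Steps.bwd (nat_lit 1) Steps.nil)))))))))))) (nat_lit 195) (nat_lit 11),
  Rule.mk (nat_lit 0) (nat_lit 194) (Steps.bwd (nat_lit 20) (Steps.fwd (nat_lit 8192) (Steps.bwd (nat_lit 2) (Steps.fwd (nat_lit 8192) (Steps.bwd (nat_lit 2) (Steps.fwd (nat_lit 8192) (Steps.bwd (nat_lit 3) (Steps.fwd (nat_lit 8192) (Steps.bwd (nat_lit 3) (Steps.fwd (nat_lit 8192) (Steps.fwd (nat_lit 32768) (Steps.bwd (nat_lit 2) Steps.nil)))))))))))) (nat_lit 194) (nat_lit 0),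
  Rule.mk (nat_lit 15) (nat_lit 179) (Steps.fwd (nat_lit 16384) (Steps.fwd (nat_lit 8192) (Steps.fwd (nat_lit 32768) (Steps.fwd (nat_lit 16384) (Steps.fwd (nat_lit 8192) (Steps.fwd (nat_lit 24576) (Steps.bwd (nat_lit 1) (Steps.bwd (nat_lit 2) (Steps.fwd (nat_lit 8192) (Steps.fwd (nat_lit 24576) (Steps.bwd (nat_lit 1) Steps.nil))))))))))) (nat_lit 191) (nat_lit 0),
  Rule.mk (nat_lit 2) (nat_lit 539) (Steps.fwd (nat_lit 8192) (Steps.bwd (nat_lit 3) (Steps.bwd (nat_lit 1) (Steps.fwd (nat_lit 24576) (Steps.bwd (nat_lit 1) (Steps.bwd (nat_lit 3) (Steps.fwd (nat_lit 8192) (Steps.fwd (nat_lit 16384) (Steps.bwd (nat_lit 1) (Steps.bwd (nat_lit 2) (Steps.fwd (nat_lit 8192) (Steps.fwd (nat_lit 16384) (Steps.bwd (nat_lit 1) (Steps.fwd (nat_lit 16384) (Steps.bwd (nat_lit 1) (Steps.fwd (nat_lit 24576) (Steps.fwd (nat_lit 8192) (Steps.bwd (nat_lit 3) (Steps.fwd (nat_lit 8192) (Steps.bwd (nat_lit 3) (Steps.fwd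 (nat_lit 8192) (Steps.fwd (nat_lit 24576) (Steps.bwd (nat_lit 1) (Steps.bwd (nat_lit 2) (Steps.fwd (nat_lit 8192) (Steps.bwd (nat_lit 3) (Steps.fwd (nat_lit 8192) (Steps.fwd (nat_lit 24576) (Steps.fwd (nat_lit 8192) (Steps.bwd (nat_lit 2) (Steps.bwd (nat_lit 1) (Steps.bwd (nat_lit 3) (Steps.fwd (nat_lit 8192) (Steps.fwd (nat_lit 24576) (Steps.bwd (nat_lit 1) Steps.nil))))))))))))))))))))))))))))))))))) (nat_lit 12) (nat_lit 16),
  Rule.mk (nat_lit 16) (nat_lit 179) (Steps.bwd (nat_lit 1) (Steps.bwd (nat_lit 3) (Steps.bwd (nat_lit 1) (Steps.fwd (nat_lit 16384) (Steps.fwd (nat_lit 8192) (Steps.bwd (nat_lit 3) (Steps.bwd (nat_lit 1) (Steps.fwd (nat_lit 24576) (Steps.bwd (nat_lit 4) (Steps.bwd (nat_lit 1) (Steps.bwd (nat_lit 2) Steps.nil))))))))))) (nat_lit 190) (nat_lit 1),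
  Rule.mk (nat_lit 16) (nat_lit 179) (Steps.bwd (nat_lit 1) (Steps.fwd (nat_lit 16384) (Steps.fwd (nat_lit 8192) (Steps.bwd (nat_lit 3) (Steps.bwd (nat_lit 1) (Steps.fwd (nat_lit 16384) (Steps.fwd (nat_lit 8192) (Steps.bwd (nat_lit 2) (Steps.bwd (nat_lit 4) (Steps.bwd (nat_lit 1) (Steps.fwd (nat_lit 24576) Steps.nil))))))))))) (nat_lit 190) (nat_lit 1),
  Rule.mk (nat_lit 18) (nat_lit 179) (Steps.bwd (nat_lit 1) (Steps.fwd (nat_lit 16384) (Steps.bwd (nat_lit 4) (Steps.fwd (nat_lit 8192) (Steps.fwd (nat_lit 24576) (Steps.fwd (nat_lit 8192) (Steps.fwd (nat_lit 24576) (Steps.bwd (nat_lit 1) (Steps.fwd (nat_lit 16384) (Steps.fwd (nat_lit 8192) (Steps.bwd (nat_lit 3) Steps.nil))))))))))) (nat_lit 192) (nat_lit 1),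
  Rule.mk (nat_lit 5) (nat_lit 104) (Steps.bwd (nat_lit 2) (Steps.fwd (nat_lit 57344) (Steps.bwd (nat_lit 3) (Steps.fwd (nat_lit 114688) (Steps.bwd (nat_lit 13) (Steps.fwd (nat_lit 57344) Steps.nil)))))) (nat_lit 175) (nat_lit 4),
  Rule.mk (nat_lit 15) (nat_lit 179) (Steps.fwd (nat_lit 16384) (Steps.bwd (nat_lit 1) (Steps.bwd (nat_lit 4) (Steps.fwd (nat_lit 16384) (Steps.bwd (nat_lit 1) (Steps.bwd (nat_lit 2) (Steps.bwd (nat_lit 1) (Steps.bwd (nat_lit 2) (Steps.fwd (nat_lit 8192) (Steps.fwd (nat_lit 24576) (Steps.fwd (nat_lit 8192) Steps.nil))))))))))) (nat_lit 191) (nat_lit 0),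
  Rule.mk (nat_lit 18) (nat_lit 179) (Steps.bwd (nat_lit 1) (Steps.fwd (nat_lit 16384) (Steps.fwd (nat_lit 32768) (Steps.fwd (nat_lit 8192) (Steps.fwd (nat_lit 24576) (Steps.bwd (nat_lit 1) (Steps.bwd (nat_lit 2) (Steps.fwd (nat_lit 8192) (Steps.fwd (nat_lit 16384) (Steps.bwd (nat_lit 1) (Steps.fwd (nat_lit 16384) Steps.nil))))))))))) (nat_lit 192) (nat_lit 1),
  Rule.mk (nat_lit 0) (nat_lit 194) (Steps.bwd (nat_lit 18) (Steps.bwd (nat_lit 1) (Steps.bwd (nat_lit 3) (Steps.bwd (nat_lit 4) (Steps.bwd (nat_lit 1) (Steps.bwd (nat_lit 2) (Steps.bwd (nat_lit 1) (Steps.bwd (nat_lit 2) (Steps.fwd (nat_lit 8192) (Steps.bwd (nat_lit 3) (Steps.bwd (nat_lit 1) (Steps.fwd (nat_lit 16384) Steps.nil)))))))))))) (nat_lit 192) (nat_lit 0),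
  Rule.mk (nat_lit 17) (nat_lit 179) (Steps.fwd (nat_lit 24576) (Steps.bwd (nat_lit 1) (Steps.bwd (nat_lit 2) (Steps.fwd (nat_lit 8192) (Steps.fwd (nat_lit 16384) (Steps.bwd (nat_lit 1) (Steps.fwd (nat_lit 16384) (Steps.fwd (nat_lit 8192) (Steps.bwd (nat_lit 4) (Steps.bwd (nat_lit 2) (Steps.bwd (nat_lit 1) Steps.nil))))))))))) (nat_lit 193) (nat_lit 0),
  Rule.mk (nat_lit 20) (nat_lit 179) (Steps.fwd (nat_lit 8192) (Steps.fwd (nat_lit 24576) (Steps.bwd (nat_lit 1) (Steps.bwd (nat_lit 2) (Steps.fwd (nat_lit 8192) (Steps.fwd (nat_lit 16384) (Steps.bwd (nat_lit 1) (Steps.fwd (nat_lit 16384) (Steps.fwd (nat_lit 8192) (Steps.bwd (nat_lit 4) (Steps.bwd (nat_lit 2) Steps.nil))))))))))) (nat_lit 194) (nat_lit 1),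
  Rule.mk (nat_lit 0) (nat_lit 194) (Steps.bwd (nat_lit 19) (Steps.fwd (nat_lit 16384) (Steps.fwd (nat_lit 32768) (Steps.fwd (nat_lit 8192) (Steps.bwd (nat_lit 2) (Steps.fwd (nat_lit 8192) (Steps.fwd (nat_lit 24576) (Steps.bwd (nat_lit 1) (Steps.fwd (nat_lit 16384) (Steps.fwd (nat_lit 8192) (Steps.fwd (nat_lit 16384) (Steps.fwd (nat_lit 8192) Steps.nil)))))))))))) (nat_lit 195) (nat_lit 11),
  Rule.mk (nat_lit 19) (nat_lit 179) (Steps.fwd (nat_lit 16384) (Steps.fwd (nat_lit 32768) (Steps.fwd (nat_lit 8192) (Steps.fwd (nat_lit 24576) (Steps.bwd (nat_lit 1) (Steps.bwd (nat_lit 2) (Steps.fwd (nat_lit 8192) (Steps.fwd (nat_lit 16384) (Steps.bwd (nat_lit 1) (Steps.fwd (nat_lit 16384) (Steps.fwd (nat_lit 8192) Steps.nil))))))))))) (nat_lit 195) (nat_lit 0)]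
noncomputable def R_93 : List (Rule) := [Rule.mk (nat_lit 19) (nat_lit 179) (Steps.bwd (nat_lit 3) (Steps.bwd (nat_lit 4) (Steps.bwd (nat_lit 1) (Steps.bwd (nat_lit 2) (Steps.bwd (nat_lit 1) (Steps.bwd (nat_lit 2) (Steps.fwd (nat_lit 8192) (Steps.bwd (nat_lit 3) (Steps.bwd (nat_lit 1) (Steps.fwd (nat_lit 16384) (Steps.fwd (nat_lit 8192) Steps.nil))))))))))) (nat_lit 195) (nat_lit 0),
  Rule.mk (nat_lit 2) (nat_lit 164) (Steps.bwd (nat_lit 11) (Steps.bwd (nat_lit 3) (Steps.bwd (nat_lit 14) (Steps.bwd (nat_lit 12) (Steps.fwd (nat_lit 90112) (Steps.fwd (nat_lit 81920) (Steps.fwd (nat_lit 73728) (Steps.bwd (nat_lit 8) (Steps.bwd (nat_lit 5) (Steps.bwd (nat_lit 4) Steps.nil)))))))))) (nat_lit 183) (nat_lit 9),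
  Rule.mk (nat_lit 16) (nat_lit 179) (Steps.fwd (nat_lit 8192) (Steps.bwd (nat_lit 3) (Steps.fwd (nat_lit 8192) (Steps.bwd (nat_lit 3) (Steps.bwd (nat_lit 1) (Steps.bwd (nat_lit 3) (Steps.bwd (nat_lit 1) (Steps.fwd (nat_lit 24576) (Steps.bwd (nat_lit 4) (Steps.fwd (nat_lit 8192) (Steps.bwd (nat_lit 2) Steps.nil))))))))))) (nat_lit 190) (nat_lit 1),
  Rule.mk (nat_lit 15) (nat_lit 179) (Steps.bwd (nat_lit 3) (Steps.fwd (nat_lit 8192) (Steps.fwd (nat_lit 32768) (Steps.bwd (nat_lit 3) (Steps.bwd (nat_lit 1) (Steps.bwd (nat_lit 2) (Steps.bwd (nat_lit 1) (Steps.bwd (nat_lit 2) (Steps.fwd (nat_lit 8192) (Steps.bwd (nat_lit 2) (Steps.fwd (nat_lit 8192) Steps.nil))))))))))) (nat_lit 191) (nat_lit 0),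
  Rule.mk (nat_lit 15) (nat_lit 179) (Steps.fwd (nat_lit 16384) (Steps.bwd (nat_lit 1) (Steps.bwd (nat_lit 4) (Steps.fwd (nat_lit 16384) (Steps.bwd (nat_lit 1) (Steps.bwd (nat_lit 2) (Steps.fwd (nat_lit 8192) (Steps.bwd (nat_lit 2) (Steps.fwd (nat_lit 8192) (Steps.bwd (nat_lit 2) (Steps.fwd (nat_lit 8192) Steps.nil))))))))))) (nat_lit 191) (nat_lit 0),
  Rule.mk (nat_lit 18) (nat_lit 179) (Steps.bwd (nat_lit 1) (Steps.bwd (nat_lit 3) (Steps.bwd (nat_lit 4) (Steps.fwd (nat_lit 8192) (Steps.bwd (nat_lit 2) (Steps.fwd (nat_lit 8192) (Steps.bwd (nat_lit 2) (Steps.fwd (nat_lit 8192) (Steps.bwd (nat_lit 3) (Steps.bwd (nat_lit 1) (Steps.fwd (nat_lit 16384) Steps.nil))))))))))) (nat_lit 192) (nat_lit 1),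
  Rule.mk (nat_lit 0) (nat_lit 194) (Steps.bwd (nat_lit 17) (Steps.fwd (nat_lit 24576) (Steps.fwd (nat_lit 8192) (Steps.bwd (nat_lit 2) (Steps.bwd (nat_lit 1) (Steps.fwd (nat_lit 16384) (Steps.bwd (nat_lit 1) (Steps.fwd (nat_lit 16384) (Steps.fwd (nat_lit 8192) (Steps.bwd (nat_lit 4) (Steps.bwd (nat_lit 2) (Steps.fwd (nat_lit 8192) Steps.nil)))))))))))) (nat_lit 193) (nat_lit 11),
  Rule.mk (nat_lit 0) (nat_lit 194) (Steps.bwd (nat_lit 18) (Steps.fwd (nat_lit 8192) (Steps.bwd (nat_lit 3) (Steps.bwd (nat_lit 4) (Steps.fwd (nat_lit 8192) (Steps.bwd (nat_lit 2) (Steps.fwd (nat_lit 8192) (Steps.fwd (nat_lit 24576) (Steps.bwd (nat_lit 1) (Steps.fwd (nat_lit 16384) (Steps.bwd (nat_lit 1) (Steps.fwd (nat_lit 16384) Steps.nil)))))))))))) (nat_lit 192) (nat_lit 0),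
  Rule.mk (nat_lit 20) (nat_lit 179) (Steps.bwd (nat_lit 1) (Steps.fwd (nat_lit 24576) (Steps.fwd (nat_lit 8192) (Steps.bwd (nat_lit 2) (Steps.bwd (nat_lit 1) (Steps.fwd (nat_lit 16384) (Steps.bwd (nat_lit 1) (Steps.fwd (nat_lit 16384) (Steps.fwd (nat_lit 8192) (Steps.bwd (nat_lit 4) (Steps.bwd (nat_lit 2) Steps.nil))))))))))) (nat_lit 194) (nat_lit 1),
  Rule.mk (nat_lit 0) (nat_lit 194) (Steps.bwd (nat_lit 19) (Steps.bwd (nat_lit 3) (Steps.bwd (nat_lit 4) (Steps.fwd (nat_lit 8192) (Steps.bwd (nat_lit 2) (Steps.fwd (nat_lit 8192) (Steps.fwd (nat_lit 24576) (Steps.bwd (nat_lit 1) (Steps.fwd (nat_lit 16384) (Steps.bwd (nat_lit 1) (Steps.fwd (nat_lit 16384) (Steps.fwd (nat_lit 8192) Steps.nil)))))))))))) (nat_lit 195) (nat_lit 11),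
  Rule.mk (nat_lit 19) (nat_lit 179) (Steps.bwd (nat_lit 3) (Steps.bwd (nat_lit 4) (Steps.fwd (nat_lit 8192) (Steps.bwd (nat_lit 2) (Steps.fwd (nat_lit 8192) (Steps.bwd (nat_lit 2) (Steps.fwd (nat_lit 8192) (Steps.bwd (nat_lit 3) (Steps.bwd (nat_lit 1) (Steps.fwd (nat_lit 16384) (Steps.bwd (nat_lit 1) Steps.nil))))))))))) (nat_lit 195) (nat_lit 0),
  Rule.mk (nat_lit 16) (nat_lit 179) (Steps.bwd (nat_lit 1) (Steps.fwd (nat_lit 16384) (Steps.fwd (nat_lit 8192) (Steps.fwd (nat_lit 16384) (Steps.fwd (nat_lit 8192) (Steps.bwd (nat_lit 3) (Steps.fwd (nat_lit 8192) (Steps.fwd (nat_lit 24576) (Steps.bwd (nat_lit 4) (Steps.bwd (nat_lit 1) (Steps.bwd (nat_lit 2) Steps.nil))))))))))) (nat_lit 190) (nat_lit 1),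
  Rule.mk (nat_lit 15) (nat_lit 179) (Steps.bwd (nat_lit 3) (Steps.fwd (nat_lit 8192) (Steps.bwd (nat_lit 4) (Steps.fwd (nat_lit 16384) (Steps.bwd (nat_lit 1) (Steps.bwd (nat_lit 2) (Steps.fwd (nat_lit 8192) (Steps.bwd (nat_lit 2) (Steps.fwd (nat_lit 8192) (Steps.fwd (nat_lit 24576) (Steps.bwd (nat_lit 1) Steps.nil))))))))))) (nat_lit 191) (nat_lit 0),
  Rule.mk (nat_lit 15) (nat_lit 179) (Steps.fwd (nat_lit 16384) (Steps.bwd (nat_lit 1) (Steps.fwd (nat_lit 32768) (Steps.bwd (nat_lit 3) (Steps.bwd (nat_lit 1) (Steps.bwd (nat_lit 2) (Steps.fwd (nat_lit 8192) (Steps.bwd (nat_lit 2) (Steps.fwd (nat_lit 8192) (Steps.bwd (nat_lit 2) (Steps.fwd (nat_lit 8192) Steps.nil))))))))))) (nat_lit 191) (nat_lit 0),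
  Rule.mk (nat_lit 17) (nat_lit 179) (Steps.bwd (nat_lit 2) (Steps.fwd (nat_lit 8192) (Steps.fwd (nat_lit 24576) (Steps.fwd (nat_lit 8192) (Steps.bwd (nat_lit 3) (Steps.bwd (nat_lit 1) (Steps.fwd (nat_lit 16384) (Steps.bwd (nat_lit 1) (Steps.fwd (nat_lit 32768) (Steps.bwd (nat_lit 2) (Steps.fwd (nat_lit 8192) Steps.nil))))))))))) (nat_lit 193) (nat_lit 0),
  Rule.mk (nat_lit 20) (nat_lit 179) (Steps.fwd (nat_lit 8192) (Steps.bwd (nat_lit 2) (Steps.fwd (nat_lit 8192) (Steps.fwd (nat_lit 24576) (Steps.fwd (nat_lit 8192) (Steps.bwd (nat_lit 3) (Steps.bwd (nat_lit 1) (Steps.fwd (nat_lit 16384) (Steps.bwd (nat_lit 1) (Steps.fwd (nat_lit 32768) (Steps.bwd (nat_lit 2) Steps.nil))))))))))) (nat_lit 194) (nat_lit 1),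
  Rule.mk (nat_lit 2) (nat_lit 164) (Steps.bwd (nat_lit 11) (Steps.bwd (nat_lit 3) (Steps.bwd (nat_lit 4) (Steps.fwd (nat_lit 40960) (Steps.fwd (nat_lit 65536) (Steps.bwd (nat_lit 9) (Steps.bwd (nat_lit 10) (Steps.fwd (nat_lit 90112) (Steps.fwd (nat_lit 98304) (Steps.fwd (nat_lit 114688) Steps.nil)))))))))) (nat_lit 182) (nat_lit 1),
  Rule.mk (nat_lit 0) (nat_lit 194) (Steps.bwd (nat_lit 16) (Steps.fwd (nat_lit 8192) (Steps.bwd (nat_lit 3) (Steps.bwd (nat_lit 1) (Steps.bwd (nat_lit 3) (Steps.fwd (nat_lit 8192) (Steps.fwd (nat_lit 16384) (Steps.bwd (nat_lit 1) (Steps.bwd (nat_lit 2) (Steps.fwd (nat_lit 32768) (Steps.bwd (nat_lit 1) (Steps.bwd (nat_lit 2) Steps.nil)))))))))))) (nat_lit 190) (nat_lit 0),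
  Rule.mk (nat_lit 0) (nat_lit 194) (Steps.bwd (nat_lit 16) (Steps.bwd (nat_lit 1) (Steps.bwd (nat_lit 3) (Steps.bwd (nat_lit 1) (Steps.fwd (nat_lit 16384) (Steps.fwd (nat_lit 8192) (Steps.bwd (nat_lit 3) (Steps.bwd (nat_lit 1) (Steps.bwd (nat_lit 2) (Steps.fwd (nat_lit 32768) (Steps.bwd (nat_lit 1) (Steps.bwd (nat_lit 2) Steps.nil)))))))))))) (nat_lit 190) (nat_lit 0),
  Rule.mk (nat_lit 1) (nat_lit 179) (Steps.bwd (nat_lit 15) (Steps.bwd (nat_lit 3) (Steps.fwd (nat_lit 8192) (Steps.bwd (nat_lit 4) (Steps.fwd (nat_lit 16384) (Steps.bwd (nat_lit 1) (Steps.bwd (nat_lit 2) (Steps.fwd (nat_lit 8192) (Steps.fwd (nat_lit 24576) (Steps.fwd (nat_lit 8192) (Steps.fwd (nat_lit 24576) Steps.nil))))))))))) (nat_lit 191) (nat_lit 11),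
  Rule.mk (nat_lit 0) (nat_lit 194) (Steps.fwd (nat_lit 8192) (Steps.bwd (nat_lit 3) (Steps.bwd (nat_lit 4) (Steps.fwd (nat_lit 8192) (Steps.fwd (nat_lit 24576) (Steps.bwd (nat_lit 1) (Steps.bwd (nat_lit 2) (Steps.fwd (nat_lit 8192) (Steps.bwd (nat_lit 3) (Steps.fwd (nat_lit 8192) (Steps.bwd (nat_lit 3) (Steps.fwd (nat_lit 139264) Steps.nil)))))))))))) (nat_lit 192) (nat_lit 1),
  Rule.mk (nat_lit 0) (nat_lit 194) (Steps.bwd (nat_lit 18) (Steps.fwd (nat_lit 8192) (Steps.bwd (nat_lit 3) (Steps.fwd (nat_lit 32768) (Steps.bwd (nat_lit 1) (Steps.bwd (nat_lit 2) (Steps.fwd (nat_lit 8192) (Steps.fwd (nat_lit 24576) (Steps.fwd (nat_lit 8192) (Steps.fwd (nat_lit 16384) (Steps.fwd (nat_lit 8192) (Steps.fwd (nat_lit 16384) Steps.nil)))))))))))) (nat_lit 192) (nat_lit 0),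
  Rule.mk (nat_lit 17) (nat_lit 179) (Steps.bwd (nat_lit 2) (Steps.fwd (nat_lit 8192) (Steps.fwd (nat_lit 24576) (Steps.fwd (nat_lit 8192) (Steps.fwd (nat_lit 16384) (Steps.fwd (nat_lit 8192) (Steps.fwd (nat_lit 16384) (Steps.fwd (nat_lit 8192) (Steps.bwd (nat_lit 4) (Steps.bwd (nat_lit 2) (Steps.fwd (nat_lit 8192) Steps.nil))))))))))) (nat_lit 193) (nat_lit 0),
  Rule.mk (nat_lit 0) (nat_lit 194) (Steps.bwd (nat_lit 1) (Steps.bwd (nat_lit 2) (Steps.fwd (nat_lit 8192) (Steps.fwd (nat_lit 24576) (Steps.fwd (nat_lit 8192) (Steps.fwd (nat_lit 16384) (Steps.fwd (nat_lit 8192) (Steps.fwd (nat_lit 16384) (Steps.fwd (nat_lit 8192) (Steps.bwd (nat_lit 4) (Steps.bwd (nat_lit 2) (Steps.fwd (nat_lit 155648) Steps.nil)))))))))))) (nat_lit 194) (nat_lit 1),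
  Rule.mk (nat_lit 0) (nat_lit 194) (Steps.bwd (nat_lit 19) (Steps.bwd (nat_lit 3) (Steps.bwd (nat_lit 4) (Steps.fwd (nat_lit 8192) (Steps.bwd (nat_lit 2) (Steps.fwd (nat_lit 8192) (Steps.fwd (nat_lit 24576) (Steps.fwd (nat_lit 8192) (Steps.fwd (nat_lit 16384) (Steps.fwd (nat_lit 8192) (Steps.fwd (nat_lit 16384) (Steps.fwd (nat_lit 8192) Steps.nil)))))))))))) (nat_lit 195) (nat_lit 11),
  Rule.mk (nat_lit 14) (nat_lit 89) (Steps.bwd (nat_lit 7) (Steps.bwd (nat_lit 4) (Steps.bwd (nat_lit 1) (Steps.bwd (nat_lit 9) (Steps.bwd (nat_lit 1) Steps.nil))))) (nat_lit 157) (nat_lit 1),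
  Rule.mk (nat_lit 8) (nat_lit 104) (Steps.fwd (nat_lit 8192) (Steps.fwd (nat_lit 40960) (Steps.bwd (nat_lit 7) (Steps.bwd (nat_lit 13) (Steps.bwd (nat_lit 14) (Steps.bwd (nat_lit 1) Steps.nil)))))) (nat_lit 154) (nat_lit 2),
  Rule.mk (nat_lit 13) (nat_lit 104) (Steps.fwd (nat_lit 8192) (Steps.bwd (nat_lit 4) (Steps.fwd (nat_lit 40960) (Steps.fwd (nat_lit 65536) (Steps.bwd (nat_lit 9) (Steps.bwd (nat_lit 1) Steps.nil)))))) (nat_lit 164) (nat_lit 2),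
  Rule.mk (nat_lit 6) (nat_lit 134) (Steps.bwd (nat_lit 10) (Steps.fwd (nat_lit 90112) (Steps.bwd (nat_lit 12) (Steps.fwd (nat_lit 106496) (Steps.fwd (nat_lit 114688) (Steps.bwd (nat_lit 1) (Steps.bwd (nat_lit 14) (Steps.bwd (nat_lit 1) Steps.nil)))))))) (nat_lit 166) (nat_lit 4),
  Rule.mk (nat_lit 7) (nat_lit 164) (Steps.fwd (nat_lit 8192) (Steps.fwd (nat_lit 114688) (Steps.bwd (nat_lit 13) (Steps.bwd (nat_lit 12) (Steps.fwd (nat_lit 90112) (Steps.fwd (nat_lit 81920) (Steps.bwd (nat_lit 9) (Steps.fwd (nat_lit 49152) (Steps.fwd (nat_lit 40960) (Steps.bwd (nat_lit 1) Steps.nil)))))))))) (nat_lit 153) (nat_lit 10),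
  Rule.mk (nat_lit 17) (nat_lit 179) (Steps.fwd (nat_lit 24576) (Steps.fwd (nat_lit 8192) (Steps.fwd (nat_lit 24576) (Steps.fwd (nat_lit 8192) (Steps.fwd (nat_lit 16384) (Steps.fwd (nat_lit 8192) (Steps.bwd (nat_lit 3) (Steps.bwd (nat_lit 1) (Steps.fwd (nat_lit 32768) (Steps.fwd (nat_lit 24576) (Steps.bwd (nat_lit 1) Steps.nil))))))))))) (nat_lit 193) (nat_lit 0),
  Rule.mk (nat_lit 16) (nat_lit 179) (Steps.bwd (nat_lit 1) (Steps.bwd (nat_lit 3) (Steps.fwd (nat_lit 8192) (Steps.bwd (nat_lit 3) (Steps.fwd (nat_lit 8192) (Steps.bwd (nat_lit 3) (Steps.fwd (nat_lit 8192) (Steps.fwd (nat_lit 24576) (Steps.bwd (nat_lit 4) (Steps.fwd (nat_lit 8192) (Steps.bwd (nat_lit 2) Steps.nil))))))))))) (nat_lit 190) (nat_lit 1),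
  Rule.mk (nat_lit 0) (nat_lit 194) (Steps.bwd (nat_lit 16) (Steps.bwd (nat_lit 1) (Steps.fwd (nat_lit 16384) (Steps.bwd (nat_lit 1) (Steps.fwd (nat_lit 16384) (Steps.bwd (nat_lit 1) (Steps.fwd (nat_lit 16384) (Steps.fwd (nat_lit 8192) (Steps.bwd (nat_lit 2) (Steps.bwd (nat_lit 4) (Steps.bwd (nat_lit 1) (Steps.bwd (nat_lit 2) Steps.nil)))))))))))) (nat_lit 190) (nat_lit 0),
  Rule.mk (nat_lit 0) (nat_lit 194) (Steps.bwd (nat_lit 16) (Steps.fwd (nat_lit 8192) (Steps.bwd (nat_lit 3) (Steps.bwd (nat_lit 1) (Steps.fwd (nat_lit 16384) (Steps.bwd (nat_lit 1) (Steps.fwd (nat_lit 16384) (Steps.bwd (nat_lit 1) (Steps.bwd (nat_lit 2) (Steps.fwd (nat_lit 32768) (Steps.bwd (nat_lit 1) (Steps.fwd (nat_lit 24576) Steps.nil)))))))))))) (nat_lit 190) (nat_lit 0),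
  Rule.mk (nat_lit 0) (nat_lit 194) (Steps.bwd (nat_lit 18) (Steps.fwd (nat_lit 8192) (Steps.bwd (nat_lit 3) (Steps.fwd (nat_lit 32768) (Steps.bwd (nat_lit 1) (Steps.bwd (nat_lit 2) (Steps.fwd (nat_lit 8192) (Steps.bwd (nat_lit 2) (Steps.fwd (nat_lit 8192) (Steps.bwd (nat_lit 3) (Steps.bwd (nat_lit 1) (Steps.bwd (nat_lit 3) Steps.nil)))))))))))) (nat_lit 192) (nat_lit 0),
  Rule.mk (nat_lit 0) (nat_lit 194) (Steps.fwd (nat_lit 8192) (Steps.bwd (nat_lit 3) (Steps.bwd (nat_lit 4) (Steps.fwd (nat_lit 8192) (Steps.bwd (nat_lit 2) (Steps.fwd (nat_lit 8192) (Steps.bwd (nat_lit 2) (Steps.fwd (nat_lit 8192) (Steps.fwd (nat_lit 16384) (Steps.fwd (nat_lit 8192) (Steps.fwd (nat_lit 16384) (Steps.fwd (nat_lit 139264) Steps.nil)))))))))))) (nat_lit 192) (nat_lit 1),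
  Rule.mk (nat_lit 17) (nat_lit 179) (Steps.bwd (nat_lit 2) (Steps.fwd (nat_lit 8192) (Steps.bwd (nat_lit 2) (Steps.fwd (nat_lit 8192) (Steps.bwd (nat_lit 3) (Steps.bwd (nat_lit 1) (Steps.bwd (nat_lit 3) (Steps.bwd (nat_lit 1) (Steps.fwd (nat_lit 32768) (Steps.fwd (nat_lit 24576) (Steps.fwd (nat_lit 8192) Steps.nil))))))))))) (nat_lit 193) (nat_lit 0),
  Rule.mk (nat_lit 17) (nat_lit 179) (Steps.bwd (nat_lit 2) (Steps.fwd (nat_lit 8192) (Steps.bwd (nat_lit 2) (Steps.fwd (nat_lit 8192) (Steps.fwd (nat_lit 16384) (Steps.fwd (nat_lit 8192) (Steps.fwd (nat_lit 16384) (Steps.bwd (nat_lit 1) (Steps.bwd (nat_lit 4) (Steps.bwd (nat_lit 2) (Steps.fwd (nat_lit 8192) Steps.nil))))))))))) (nat_lit 193) (nat_lit 0),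
  Rule.mk (nat_lit 20) (nat_lit 179) (Steps.bwd (nat_lit 1) (Steps.bwd (nat_lit 2) (Steps.fwd (nat_lit 8192) (Steps.bwd (nat_lit 2) (Steps.fwd (nat_lit 8192) (Steps.bwd (nat_lit 3) (Steps.bwd (nat_lit 1) (Steps.bwd (nat_lit 3) (Steps.bwd (nat_lit 1) (Steps.fwd (nat_lit 32768) (Steps.fwd (nat_lit 24576) Steps.nil))))))))))) (nat_lit 194) (nat_lit 1),
  Rule.mk (nat_lit 0) (nat_lit 194) (Steps.bwd (nat_lit 19) (Steps.fwd (nat_lit 16384) (Steps.fwd (nat_lit 32768) (Steps.fwd (nat_lit 8192) (Steps.bwd (nat_lit 2) (Steps.bwd (nat_lit 1) (Steps.bwd (nat_lit 2) (Steps.bwd (nat_lit 1) (Steps.fwd (nat_lit 16384) (Steps.bwd (nat_lit 1) (Steps.fwd (nat_lit 16384) (Steps.bwd (nat_lit 1) Steps.nil)))))))))))) (nat_lit 195) (nat_lit 11),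
  Rule.mk (nat_lit 19) (nat_lit 179) (Steps.bwd (nat_lit 3) (Steps.fwd (nat_lit 32768) (Steps.bwd (nat_lit 1) (Steps.bwd (nat_lit 2) (Steps.fwd (nat_lit 8192) (Steps.bwd (nat_lit 2) (Steps.fwd (nat_lit 8192) (Steps.bwd (nat_lit 3) (Steps.bwd (nat_lit 1) (Steps.bwd (nat_lit 3) (Steps.bwd (nat_lit 1) Steps.nil))))))))))) (nat_lit 195) (nat_lit 0),
  Rule.mk (nat_lit 0) (nat_lit 194) (Steps.bwd (nat_lit 20) (Steps.fwd (nat_lit 8192) (Steps.bwd (nat_lit 2) (Steps.bwd (nat_lit 1) (Steps.bwd (nat_lit 2) (Steps.bwd (nat_lit 1) (Steps.fwd (nat_lit 16384) (Steps.bwd (nat_lit 1) (Steps.fwd (nat_lit 16384) (Steps.bwd (nat_lit 1) (Steps.fwd (nat_lit 32768) (Steps.fwd (nat_lit 24576) Steps.nil)))))))))))) (nat_lit 194) (nat_lit 0),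
  Rule.mk (nat_lit 16) (nat_lit 179) (Steps.bwd (nat_lit 1) (Steps.fwd (nat_lit 16384) (Steps.fwd (nat_lit 8192) (Steps.fwd (nat_lit 16384) (Steps.bwd (nat_lit 1) (Steps.fwd (nat_lit 16384) (Steps.fwd (nat_lit 8192) (Steps.fwd (nat_lit 24576) (Steps.fwd (nat_lit 32768) (Steps.bwd (nat_lit 1) (Steps.bwd (nat_lit 2) Steps.nil))))))))))) (nat_lit 190) (nat_lit 1),
  Rule.mk (nat_lit 15) (nat_lit 179) (Steps.fwd (nat_lit 16384) (Steps.fwd (nat_lit 8192) (Steps.bwd (nat_lit 4) (Steps.bwd (nat_lit 3) (Steps.bwd (nat_lit 1) (Steps.fwd (nat_lit 24576) (Steps.bwd (nat_lit 1) (Steps.fwd (nat_lit 24576) (Steps.bwd (nat_lit 1) (Steps.bwd (nat_lit 2) (Steps.fwd (nat_lit 8192) Steps.nil))))))))))) (nat_lit 191) (nat_lit 0),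
  Rule.mk (nat_lit 1) (nat_lit 179) (Steps.bwd (nat_lit 15) (Steps.bwd (nat_lit 3) (Steps.fwd (nat_lit 8192) (Steps.fwd (nat_lit 32768) (Steps.bwd (nat_lit 3) (Steps.bwd (nat_lit 1) (Steps.fwd (nat_lit 24576) (Steps.bwd (nat_lit 1) (Steps.bwd (nat_lit 2) (Steps.fwd (nat_lit 8192) (Steps.bwd (nat_lit 2) Steps.nil))))))))))) (nat_lit 191) (nat_lit 11),
  Rule.mk (nat_lit 3) (nat_lit 179) (Steps.bwd (nat_lit 18) (Steps.fwd (nat_lit 8192) (Steps.fwd (nat_lit 16384) (Steps.fwd (nat_lit 32768) (Steps.bwd (nat_lit 1) (Steps.fwd (nat_lit 24576) (Steps.bwd (nat_lit 1) (Steps.bwd (nat_lit 2) (Steps.fwd (nat_lit 8192) (Steps.bwd (nat_lit 3) (Steps.fwd (nat_lit 8192) Steps.nil))))))))))) (nat_lit 192) (nat_lit 0),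
  Rule.mk (nat_lit 17) (nat_lit 179) (Steps.bwd (nat_lit 2) (Steps.bwd (nat_lit 1) (Steps.bwd (nat_lit 2) (Steps.bwd (nat_lit 1) (Steps.bwd (nat_lit 3) (Steps.bwd (nat_lit 1) (Steps.fwd (nat_lit 16384) (Steps.fwd (nat_lit 8192) (Steps.bwd (nat_lit 4) (Steps.bwd (nat_lit 2) (Steps.fwd (nat_lit 8192) Steps.nil))))))))))) (nat_lit 193) (nat_lit 0),
  Rule.mk (nat_lit 20) (nat_lit 179) (Steps.fwd (nat_lit 8192) (Steps.bwd (nat_lit 2) (Steps.bwd (nat_lit 1) (Steps.bwd (nat_lit 2) (Steps.bwd (nat_lit 1) (Steps.bwd (nat_lit 3) (Steps.bwd (nat_lit 1) (Steps.fwd (nat_lit 16384) (Steps.fwd (nat_lit 8192) (Steps.bwd (nat_lit 4) (Steps.bwd (nat_lit 2) Steps.nil))))))))))) (nat_lit 194) (nat_lit 1),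
  Rule.mk (nat_lit 1) (nat_lit 179) (Steps.bwd (nat_lit 19) (Steps.fwd (nat_lit 16384) (Steps.fwd (nat_lit 32768) (Steps.bwd (nat_lit 1) (Steps.fwd (nat_lit 24576) (Steps.bwd (nat_lit 1) (Steps.bwd (nat_lit 2) (Steps.fwd (nat_lit 8192) (Steps.bwd (nat_lit 3) (Steps.fwd (nat_lit 8192) (Steps.bwd (nat_lit 3) Steps.nil))))))))))) (nat_lit 195) (nat_lit 11),
  Rule.mk (nat_lit 3) (nat_lit 539) (Steps.fwd (nat_lit 8192) (Steps.fwd (nat_lit 24576) (Steps.bwd (nat_lit 1) (Steps.fwd (nat_lit 16384) (Steps.bwd (nat_lit 1) (Steps.fwd (nat_lit 16384) (Steps.bwd (nat_lit 1) (Steps.fwd (nat_lit 24576) (Steps.bwd (nat_lit 1) (Steps.fwd (nat_lit 16384) (Steps.fwd (nat_lit 8192) (Steps.fwd (nat_lit 16384) (Steps.fwd (nat_lit 8192) (Steps.fwd (nat_lit 24576) (Steps.fwd (nat_lit 8192) (Steps.fwd (nat_lit 16384) (Steps.bwd (nat_lit 1) (Steps.bwd (nat_lit 3) (Steps.fwd (nat_lit 8192) (Steps.bwd (nat_lit 2)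 (Steps.bwd (nat_lit 1) (Steps.fwd (nat_lit 24576) (Steps.bwd (nat_lit 1) (Steps.fwd (nat_lit 16384) (Steps.bwd (nat_lit 1) (Steps.bwd (nat_lit 2) (Steps.bwd (nat_lit 1) (Steps.bwd (nat_lit 2) (Steps.bwd (nat_lit 1) (Steps.bwd (nat_lit 3) (Steps.bwd (nat_lit 1) (Steps.bwd (nat_lit 2) (Steps.fwd (nat_lit 8192) (Steps.bwd (nat_lit 2) (Steps.bwd (nat_lit 1) Steps.nil))))))))))))))))))))))))))))))))))) (nat_lit 12) (nat_lit 18),
  Rule.mk (nat_lit 8) (nat_lit 89) (Steps.bwd (nat_lit 3) (Steps.bwd (nat_lit 14) (Steps.fwd (nat_lit 57344) (Steps.fwd (nat_lit 32768) (Steps.fwd (nat_lit 24576) Steps.nil))))) (nat_lit 177) (nat_lit 5),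
  Rule.mk (nat_lit 9) (nat_lit 134) (Steps.bwd (nat_lit 3) (Steps.bwd (nat_lit 14) (Steps.fwd (nat_lit 90112) (Steps.fwd (nat_lit 73728) (Steps.bwd (nat_lit 8) (Steps.bwd (nat_lit 5) (Steps.fwd (nat_lit 32768) (Steps.bwd (nat_lit 2) Steps.nil)))))))) (nat_lit 179) (nat_lit 8),
  Rule.mk (nat_lit 13) (nat_lit 134) (Steps.bwd (nat_lit 3) (Steps.bwd (nat_lit 14) (Steps.fwd (nat_lit 106496) (Steps.bwd (nat_lit 12) (Steps.bwd (nat_lit 11) (Steps.bwd (nat_lit 10) (Steps.bwd (nat_lit 6) (Steps.bwd (nat_lit 2) Steps.nil)))))))) (nat_lit 187) (nat_lit 8),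
  Rule.mk (nat_lit 5) (nat_lit 149) (Steps.bwd (nat_lit 3) (Steps.bwd (nat_lit 14) (Steps.fwd (nat_lit 106496) (Steps.bwd (nat_lit 12) (Steps.bwd (nat_lit 9) (Steps.bwd (nat_lit 8) (Steps.bwd (nat_lit 5) (Steps.bwd (nat_lit 4) (Steps.bwd (nat_lit 2) Steps.nil))))))))) (nat_lit 171) (nat_lit 9),
  Rule.mk (nat_lit 6) (nat_lit 164) (Steps.bwd (nat_lit 3) (Steps.bwd (nat_lit 5) (Steps.bwd (nat_lit 6) (Steps.fwd (nat_lit 73728) (Steps.fwd (nat_lit 81920) (Steps.bwd (nat_lit 11) (Steps.fwd (nat_lit 98304) (Steps.bwd (nat_lit 13) (Steps.fwd (nat_lit 114688) (Steps.bwd (nat_lit 2) Steps.nil)))))))))) (nat_lit 172) (nat_lit 2),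
  Rule.mk (nat_lit 11) (nat_lit 164) (Steps.bwd (nat_lit 3) (Steps.bwd (nat_lit 14) (Steps.bwd (nat_lit 12) (Steps.fwd (nat_lit 90112) (Steps.bwd (nat_lit 10) (Steps.fwd (nat_lit 73728) (Steps.bwd (nat_lit 8) (Steps.bwd (nat_lit 5) (Steps.fwd (nat_lit 32768) (Steps.fwd (nat_lit 24576) Steps.nil)))))))))) (nat_lit 183) (nat_lit 10),
  Rule.mk (nat_lit 0) (nat_lit 194) (Steps.bwd (nat_lit 16) (Steps.fwd (nat_lit 8192) (Steps.fwd (nat_lit 16384) (Steps.bwd (nat_lit 1) (Steps.bwd (nat_lit 3) (Steps.bwd (nat_lit 1) (Steps.bwd (nat_lit 3) (Steps.fwd (nat_lit 8192) (Steps.fwd (nat_lit 24576) (Steps.fwd (nat_lit 32768) (Steps.fwd (nat_lit 8192) (Steps.fwd (nat_lit 24576) Steps.nil)))))))))))) (nat_lit 190) (nat_lit 0),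
  Rule.mk (nat_lit 0) (nat_lit 194) (Steps.bwd (nat_lit 15) (Steps.bwd (nat_lit 3) (Steps.fwd (nat_lit 8192) (Steps.fwd (nat_lit 32768) (Steps.fwd (nat_lit 16384) (Steps.bwd (nat_lit 1) (Steps.bwd (nat_lit 2) (Steps.fwd (nat_lit 8192) (Steps.bwd (nat_lit 2) (Steps.bwd (nat_lit 1) (Steps.fwd (nat_lit 24576) (Steps.fwd (nat_lit 8192) Steps.nil)))))))))))) (nat_lit 191) (nat_lit 11),
  Rule.mk (nat_lit 0) (nat_lit 194) (Steps.bwd (nat_lit 2) (Steps.bwd (nat_lit 1) (Steps.fwd (nat_lit 24576) (Steps.fwd (nat_lit 8192) (Steps.fwd (nat_lit 16384) (Steps.bwd (nat_lit 1) (Steps.fwd (nat_lit 16384) (Steps.fwd (nat_lit 8192) (Steps.bwd (nat_lit 4) (Steps.bwd (nat_lit 2) (Steps.bwd (nat_lit 1) (Steps.fwd (nat_lit 147456) Steps.nil)))))))))))) (nat_lit 193) (nat_lit 0),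
  Rule.mk (nat_lit 17) (nat_lit 179) (Steps.bwd (nat_lit 2) (Steps.fwd (nat_lit 8192) (Steps.bwd (nat_lit 2) (Steps.bwd (nat_lit 1) (Steps.bwd (nat_lit 3) (Steps.fwd (nat_lit 8192) (Steps.bwd (nat_lit 3) (Steps.fwd (nat_lit 8192) (Steps.bwd (nat_lit 4) (Steps.bwd (nat_lit 2) (Steps.fwd (nat_lit 8192) Steps.nil))))))))))) (nat_lit 193) (nat_lit 0),
  Rule.mk (nat_lit 20) (nat_lit 179) (Steps.bwd (nat_lit 1) (Steps.bwd (nat_lit 2) (Steps.fwd (nat_lit 8192) (Steps.bwd (nat_lit 2) (Steps.bwd (nat_lit 1) (Steps.bwd (nat_lit 3) (Steps.fwd (nat_lit 8192) (Steps.bwd (nat_lit 3) (Steps.fwd (nat_lit 8192) (Steps.bwd (nat_lit 4) (Steps.bwd (nat_lit 2) Steps.nil))))))))))) (nat_lit 194) (nat_lit 1),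
  Rule.mk (nat_lit 19) (nat_lit 179) (Steps.fwd (nat_lit 16384) (Steps.fwd (nat_lit 32768) (Steps.bwd (nat_lit 1) (Steps.bwd (nat_lit 2) (Steps.fwd (nat_lit 8192) (Steps.bwd (nat_lit 2) (Steps.bwd (nat_lit 1) (Steps.bwd (nat_lit 3) (Steps.fwd (nat_lit 8192) (Steps.bwd (nat_lit 3) (Steps.fwd (nat_lit 8192) Steps.nil))))))))))) (nat_lit 195) (nat_lit 0),
  Rule.mk (nat_lit 0) (nat_lit 554) (Steps.fwd (nat_lit 8192) (Steps.fwd (nat_lit 24576) (Steps.bwd (nat_lit 1) (Steps.bwd (nat_lit 3) (Steps.bwd (nat_lit 1) (Steps.bwd (nat_lit 3) (Steps.fwd (nat_lit 8192) (Steps.fwd (nat_lit 24576) (Steps.bwd (nat_lit 1) (Steps.fwd (nat_lit 16384) (Steps.bwd (nat_lit 1) (Steps.fwd (nat_lit 16384) (Steps.bwd (nat_lit 1) (Steps.fwd (nat_lit 24576) (Steps.bwd (nat_lit 1) (Steps.bwd (nat_lit 2) (Steps.fwd (nat_lit 8192) (Steps.bwd (nat_lit 3) (Steps.fwd (nat_lit 8192) (Steps.bwd (nat_lit 2) (Steps.bwd (nat_lit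 1) (Steps.bwd (nat_lit 2) (Steps.fwd (nat_lit 8192) (Steps.bwd (nat_lit 3) (Steps.bwd (nat_lit 1) (Steps.fwd (nat_lit 24576) (Steps.fwd (nat_lit 8192) (Steps.bwd (nat_lit 2) (Steps.fwd (nat_lit 8192) (Steps.fwd (nat_lit 16384) (Steps.bwd (nat_lit 1) (Steps.bwd (nat_lit 2) (Steps.bwd (nat_lit 1) (Steps.bwd (nat_lit 3) (Steps.fwd (nat_lit 8192) (Steps.bwd (nat_lit 3) Steps.nil)))))))))))))))))))))))))))))))))))) (nat_lit 12) (nat_lit 24),
  Rule.mk (nat_lit 6) (nat_lit 134) (Steps.bwd (nat_lit 1) (Steps.bwd (nat_lit 14) (Steps.bwd (nat_lit 1) (Steps.bwd (nat_lit 14) (Steps.fwd (nat_lit 106496) (Steps.bwd (nat_lit 12) (Steps.bwd (nat_lit 11) (Steps.bwd (nat_lit 10) Steps.nil)))))))) (nat_lit 167) (nat_lit 6)]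
noncomputable def R_94 : List (Rule) := [Rule.mk (nat_lit 7) (nat_lit 164) (Steps.bwd (nat_lit 1) (Steps.fwd (nat_lit 40960) (Steps.fwd (nat_lit 49152) (Steps.bwd (nat_lit 9) (Steps.fwd (nat_lit 81920) (Steps.fwd (nat_lit 90112) (Steps.fwd (nat_lit 98304) (Steps.bwd (nat_lit 13) (Steps.fwd (nat_lit 114688) (Steps.fwd (nat_lit 8192) Steps.nil)))))))))) (nat_lit 152) (nat_lit 2),
  Rule.mk (nat_lit 12) (nat_lit 164) (Steps.bwd (nat_lit 1) (Steps.bwd (nat_lit 4) (Steps.fwd (nat_lit 40960) (Steps.bwd (nat_lit 8) (Steps.fwd (nat_lit 73728) (Steps.fwd (nat_lit 81920) (Steps.bwd (nat_lit 11) (Steps.bwd (nat_lit 12) (Steps.bwd (nat_lit 14) (Steps.bwd (nat_lit 1) Steps.nil)))))))))) (nat_lit 162) (nat_lit 2),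
  Rule.mk (nat_lit 16) (nat_lit 179) (Steps.fwd (nat_lit 8192) (Steps.fwd (nat_lit 16384) (Steps.fwd (nat_lit 8192) (Steps.bwd (nat_lit 3) (Steps.fwd (nat_lit 8192) (Steps.bwd (nat_lit 3) (Steps.bwd (nat_lit 1) (Steps.fwd (nat_lit 24576) (Steps.bwd (nat_lit 4) (Steps.bwd (nat_lit 1) (Steps.bwd (nat_lit 2) Steps.nil))))))))))) (nat_lit 190) (nat_lit 1),
  Rule.mk (nat_lit 16) (nat_lit 179) (Steps.fwd (nat_lit 8192) (Steps.bwd (nat_lit 3) (Steps.fwd (nat_lit 8192) (Steps.bwd (nat_lit 3) (Steps.bwd (nat_lit 1) (Steps.bwd (nat_lit 3) (Steps.fwd (nat_lit 8192) (Steps.bwd (nat_lit 2) (Steps.fwd (nat_lit 32768) (Steps.fwd (nat_lit 8192) (Steps.fwd (nat_lit 24576) Steps.nil))))))))))) (nat_lit 190) (nat_lit 1),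
  Rule.mk (nat_lit 0) (nat_lit 194) (Steps.bwd (nat_lit 15) (Steps.fwd (nat_lit 16384) (Steps.fwd (nat_lit 8192) (Steps.fwd (nat_lit 32768) (Steps.bwd (nat_lit 3) (Steps.fwd (nat_lit 8192) (Steps.fwd (nat_lit 24576) (Steps.bwd (nat_lit 1) (Steps.fwd (nat_lit 24576) (Steps.fwd (nat_lit 8192) (Steps.fwd (nat_lit 24576) (Steps.bwd (nat_lit 1) Steps.nil)))))))))))) (nat_lit 191) (nat_lit 11),
  Rule.mk (nat_lit 15) (nat_lit 179) (Steps.fwd (nat_lit 16384) (Steps.fwd (nat_lit 8192) (Steps.bwd (nat_lit 4) (Steps.bwd (nat_lit 3) (Steps.bwd (nat_lit 1) (Steps.fwd (nat_lit 24576) (Steps.bwd (nat_lit 1) (Steps.fwd (nat_lit 24576) (Steps.fwd (nat_lit 8192) (Steps.bwd (nat_lit 2) (Steps.bwd (nat_lit 1) Steps.nil))))))))))) (nat_lit 191) (nat_lit 0),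
  Rule.mk (nat_lit 15) (nat_lit 179) (Steps.bwd (nat_lit 3) (Steps.bwd (nat_lit 1) (Steps.bwd (nat_lit 4) (Steps.fwd (nat_lit 16384) (Steps.fwd (nat_lit 8192) (Steps.fwd (nat_lit 24576) (Steps.fwd (nat_lit 8192) (Steps.bwd (nat_lit 2) (Steps.fwd (nat_lit 8192) (Steps.bwd (nat_lit 2) (Steps.fwd (nat_lit 8192) Steps.nil))))))))))) (nat_lit 191) (nat_lit 0),
  Rule.mk (nat_lit 18) (nat_lit 179) (Steps.fwd (nat_lit 8192) (Steps.fwd (nat_lit 16384) (Steps.fwd (nat_lit 32768) (Steps.bwd (nat_lit 1) (Steps.fwd (nat_lit 24576) (Steps.fwd (nat_lit 8192) (Steps.fwd (nat_lit 24576) (Steps.fwd (nat_lit 8192) (Steps.bwd (nat_lit 3) (Steps.bwd (nat_lit 1) (Steps.bwd (nat_lit 3) Steps.nil))))))))))) (nat_lit 192) (nat_lit 1),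
  Rule.mk (nat_lit 0) (nat_lit 194) (Steps.bwd (nat_lit 17) (Steps.fwd (nat_lit 24576) (Steps.bwd (nat_lit 1) (Steps.bwd (nat_lit 2) (Steps.fwd (nat_lit 8192) (Steps.bwd (nat_lit 3) (Steps.fwd (nat_lit 8192) (Steps.bwd (nat_lit 3) (Steps.bwd (nat_lit 1) (Steps.bwd (nat_lit 4) (Steps.bwd (nat_lit 2) (Steps.bwd (nat_lit 1) Steps.nil)))))))))))) (nat_lit 193) (nat_lit 11),
  Rule.mk (nat_lit 17) (nat_lit 179) (Steps.fwd (nat_lit 24576) (Steps.fwd (nat_lit 8192) (Steps.fwd (nat_lit 24576) (Steps.fwd (nat_lit 8192) (Steps.bwd (nat_lit 3) (Steps.bwd (nat_lit 1) (Steps.bwd (nat_lit 3) (Steps.fwd (nat_lit 8192) (Steps.bwd (nat_lit 4) (Steps.bwd (nat_lit 2) (Steps.fwd (nat_lit 8192) Steps.nil))))))))))) (nat_lit 193) (nat_lit 0),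
  Rule.mk (nat_lit 0) (nat_lit 194) (Steps.fwd (nat_lit 16384) (Steps.fwd (nat_lit 32768) (Steps.fwd (nat_lit 8192) (Steps.fwd (nat_lit 24576) (Steps.bwd (nat_lit 1) (Steps.fwd (nat_lit 24576) (Steps.bwd (nat_lit 1) (Steps.fwd (nat_lit 16384) (Steps.fwd (nat_lit 8192) (Steps.bwd (nat_lit 3) (Steps.fwd (nat_lit 8192) (Steps.fwd (nat_lit 163840) Steps.nil)))))))))))) (nat_lit 195) (nat_lit 0),
  Rule.mk (nat_lit 20) (nat_lit 179) (Steps.bwd (nat_lit 1) (Steps.fwd (nat_lit 24576) (Steps.fwd (nat_lit 8192) (Steps.fwd (nat_lit 24576) (Steps.fwd (nat_lit 8192) (Steps.bwd (nat_lit 3) (Steps.bwd (nat_lit 1) (Steps.bwd (nat_lit 3) (Steps.fwd (nat_lit 8192) (Steps.bwd (nat_lit 4) (Steps.bwd (nat_lit 2) Steps.nil))))))))))) (nat_lit 194) (nat_lit 1),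
  Rule.mk (nat_lit 20) (nat_lit 179) (Steps.bwd (nat_lit 1) (Steps.fwd (nat_lit 24576) (Steps.bwd (nat_lit 1) (Steps.fwd (nat_lit 24576) (Steps.fwd (nat_lit 8192) (Steps.fwd (nat_lit 16384) (Steps.fwd (nat_lit 8192) (Steps.bwd (nat_lit 3) (Steps.fwd (nat_lit 8192) (Steps.fwd (nat_lit 32768) (Steps.bwd (nat_lit 2) Steps.nil))))))))))) (nat_lit 194) (nat_lit 1),
  Rule.mk (nat_lit 19) (nat_lit 179) (Steps.fwd (nat_lit 16384) (Steps.fwd (nat_lit 32768) (Steps.bwd (nat_lit 1) (Steps.fwd (nat_lit 24576) (Steps.fwd (nat_lit 8192) (Steps.fwd (nat_lit 24576) (Steps.fwd (nat_lit 8192) (Steps.bwd (nat_lit 3) (Steps.bwd (nat_lit 1) (Steps.bwd (nat_lit 3) (Steps.fwd (nat_lit 8192) Steps.nil))))))))))) (nat_lit 195) (nat_lit 0),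
  Rule.mk (nat_lit 2) (nat_lit 539) (Steps.bwd (nat_lit 1) (Steps.bwd (nat_lit 3) (Steps.fwd (nat_lit 8192) (Steps.bwd (nat_lit 3) (Steps.bwd (nat_lit 1) (Steps.fwd (nat_lit 24576) (Steps.bwd (nat_lit 1) (Steps.fwd (nat_lit 16384) (Steps.bwd (nat_lit 1) (Steps.fwd (nat_lit 16384) (Steps.fwd (nat_lit 8192) (Steps.fwd (nat_lit 24576) (Steps.fwd (nat_lit 8192) (Steps.bwd (nat_lit 2) (Steps.fwd (nat_lit 8192) (Steps.fwd (nat_lit 16384) (Steps.bwd (nat_lit 1) (Steps.fwd (nat_lit 24576) (Steps.fwd (nat_lit 8192) (Steps.fwd (nat_lit 24576) (Steps.fwd (nat_lit 8192) (Steps.bwd (nat_lit 3) (Steps.fwd (nat_lit 8192) (Steps.fwd (nat_lit 24576) (Steps.fwd (nat_lit 8192) (Steps.fwd (nat_lit 24576) (Steps.bwd (nat_lit 1) (Steps.fwd (nat_lit 16384) (Steps.fwd (nat_lit 8192) (Steps.bwd (nat_lit 2) (Steps.bwd (nat_lit 1) (Steps.bwd (nat_lit 3) (Steps.fwd (nat_lit 8192) (Steps.bwd (nat_lit 3) (Steps.fwd (nat_lit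 8192) Steps.nil))))))))))))))))))))))))))))))))))) (nat_lit 12) (nat_lit 26),
  Rule.mk (nat_lit 0) (nat_lit 194) (Steps.bwd (nat_lit 16) (Steps.bwd (nat_lit 1) (Steps.bwd (nat_lit 3) (Steps.fwd (nat_lit 8192) (Steps.bwd (nat_lit 3) (Steps.fwd (nat_lit 8192) (Steps.fwd (nat_lit 16384) (Steps.bwd (nat_lit 1) (Steps.fwd (nat_lit 24576) (Steps.fwd (nat_lit 32768) (Steps.bwd (nat_lit 1) (Steps.fwd (nat_lit 24576) Steps.nil)))))))))))) (nat_lit 190) (nat_lit 0),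
  Rule.mk (nat_lit 16) (nat_lit 179) (Steps.fwd (nat_lit 8192) (Steps.fwd (nat_lit 16384) (Steps.bwd (nat_lit 1) (Steps.fwd (nat_lit 16384) (Steps.bwd (nat_lit 1) (Steps.bwd (nat_lit 3) (Steps.bwd (nat_lit 1) (Steps.fwd (nat_lit 24576) (Steps.bwd (nat_lit 4) (Steps.fwd (nat_lit 8192) (Steps.fwd (nat_lit 24576) Steps.nil))))))))))) (nat_lit 190) (nat_lit 1),
  Rule.mk (nat_lit 18) (nat_lit 179) (Steps.fwd (nat_lit 8192) (Steps.bwd (nat_lit 3) (Steps.bwd (nat_lit 4) (Steps.fwd (nat_lit 8192) (Steps.fwd (nat_lit 24576) (Steps.bwd (nat_lit 1) (Steps.fwd (nat_lit 24576) (Steps.fwd (nat_lit 8192) (Steps.fwd (nat_lit 16384) (Steps.bwd (nat_lit 1) (Steps.fwd (nat_lit 16384) Steps.nil))))))))))) (nat_lit 192) (nat_lit 1),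
  Rule.mk (nat_lit 17) (nat_lit 179) (Steps.bwd (nat_lit 2) (Steps.fwd (nat_lit 8192) (Steps.fwd (nat_lit 24576) (Steps.fwd (nat_lit 8192) (Steps.bwd (nat_lit 3) (Steps.fwd (nat_lit 8192) (Steps.fwd (nat_lit 16384) (Steps.bwd (nat_lit 1) (Steps.fwd (nat_lit 32768) (Steps.fwd (nat_lit 24576) (Steps.bwd (nat_lit 1) Steps.nil))))))))))) (nat_lit 193) (nat_lit 0),
  Rule.mk (nat_lit 20) (nat_lit 179) (Steps.bwd (nat_lit 1) (Steps.bwd (nat_lit 2) (Steps.fwd (nat_lit 8192) (Steps.fwd (nat_lit 24576) (Steps.fwd (nat_lit 8192) (Steps.bwd (nat_lit 3) (Steps.fwd (nat_lit 8192) (Steps.fwd (nat_lit 16384) (Steps.bwd (nat_lit 1) (Steps.fwd (nat_lit 32768) (Steps.fwd (nat_lit 24576) Steps.nil))))))))))) (nat_lit 194) (nat_lit 1),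
  Rule.mk (nat_lit 0) (nat_lit 194) (Steps.bwd (nat_lit 19) (Steps.fwd (nat_lit 16384) (Steps.fwd (nat_lit 32768) (Steps.bwd (nat_lit 1) (Steps.bwd (nat_lit 2) (Steps.fwd (nat_lit 8192) (Steps.fwd (nat_lit 24576) (Steps.fwd (nat_lit 8192) (Steps.bwd (nat_lit 3) (Steps.fwd (nat_lit 8192) (Steps.fwd (nat_lit 16384) (Steps.bwd (nat_lit 1) Steps.nil)))))))))))) (nat_lit 195) (nat_lit 11),
  Rule.mk (nat_lit 19) (nat_lit 179) (Steps.bwd (nat_lit 3) (Steps.bwd (nat_lit 4) (Steps.fwd (nat_lit 8192) (Steps.fwd (nat_lit 24576) (Steps.bwd (nat_lit 1) (Steps.fwd (nat_lit 24576) (Steps.fwd (nat_lit 8192) (Steps.fwd (nat_lit 16384) (Steps.bwd (nat_lit 1) (Steps.fwd (nat_lit 16384) (Steps.bwd (nat_lit 1) Steps.nil))))))))))) (nat_lit 195) (nat_lit 0),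
  Rule.mk (nat_lit 10) (nat_lit 104) (Steps.fwd (nat_lit 16384) (Steps.fwd (nat_lit 49152) (Steps.bwd (nat_lit 11) (Steps.bwd (nat_lit 12) (Steps.bwd (nat_lit 14) (Steps.bwd (nat_lit 2) Steps.nil)))))) (nat_lit 180) (nat_lit 2),
  Rule.mk (nat_lit 11) (nat_lit 164) (Steps.fwd (nat_lit 16384) (Steps.bwd (nat_lit 14) (Steps.bwd (nat_lit 12) (Steps.bwd (nat_lit 11) (Steps.fwd (nat_lit 81920) (Steps.bwd (nat_lit 9) (Steps.bwd (nat_lit 8) (Steps.fwd (nat_lit 40960) (Steps.bwd (nat_lit 4) (Steps.bwd (nat_lit 2) Steps.nil)))))))))) (nat_lit 183) (nat_lit 10),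
  Rule.mk (nat_lit 16) (nat_lit 179) (Steps.fwd (nat_lit 8192) (Steps.bwd (nat_lit 3) (Steps.bwd (nat_lit 1) (Steps.fwd (nat_lit 16384) (Steps.fwd (nat_lit 8192) (Steps.bwd (nat_lit 3) (Steps.fwd (nat_lit 8192) (Steps.bwd (nat_lit 2) (Steps.bwd (nat_lit 4) (Steps.fwd (nat_lit 8192) (Steps.bwd (nat_lit 2) Steps.nil))))))))))) (nat_lit 190) (nat_lit 1),
  Rule.mk (nat_lit 3) (nat_lit 179) (Steps.bwd (nat_lit 18) (Steps.fwd (nat_lit 8192) (Steps.fwd (nat_lit 16384) (Steps.bwd (nat_lit 4) (Steps.fwd (nat_lit 8192) (Steps.fwd (nat_lit 24576) (Steps.bwd (nat_lit 1) (Steps.bwd (nat_lit 2) (Steps.bwd (nat_lit 1) (Steps.bwd (nat_lit 3) (Steps.bwd (nat_lit 1) Steps.nil))))))))))) (nat_lit 192) (nat_lit 0),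
  Rule.mk (nat_lit 1) (nat_lit 539) (Steps.bwd (nat_lit 3) (Steps.bwd (nat_lit 1) (Steps.bwd (nat_lit 2) (Steps.fwd (nat_lit 8192) (Steps.bwd (nat_lit 2) (Steps.fwd (nat_lit 8192) (Steps.bwd (nat_lit 3) (Steps.fwd (nat_lit 8192) (Steps.bwd (nat_lit 2) (Steps.bwd (nat_lit 1) (Steps.fwd (nat_lit 24576) (Steps.bwd (nat_lit 1) (Steps.fwd (nat_lit 16384) (Steps.bwd (nat_lit 1) (Steps.fwd (nat_lit 24576) (Steps.fwd (nat_lit 8192) (Steps.fwd (nat_lit 24576) (Steps.bwd (nat_lit 1) (Steps.bwd (nat_lit 3) (Steps.fwd (nat_lit 8192) (Steps.fwd (nat_lit 24576) (Steps.fwd (nat_lit 8192) (Steps.bwd (nat_lit 3) (Steps.fwd (nat_lit 8192) (Steps.bwd (nat_lit 3) (Steps.bwd (nat_lit 1) (Steps.fwd (nat_lit 24576) (Steps.fwd (nat_lit 8192) (Steps.bwd (nat_lit 3) (Steps.bwd (nat_lit 1) (Steps.fwd (nat_lit 16384) (Steps.bwd (nat_lit 1) (Steps.fwd (nat_lit 24576) (Steps.bwd (nat_lit 1) (Steps.bwd (nat_lit 3) Steps.nil)))))))))))))))))))))))))))))))))))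 (nat_lit 12) (nat_lit 35),
  Rule.mk (nat_lit 10) (nat_lit 134) (Steps.bwd (nat_lit 1) (Steps.fwd (nat_lit 32768) (Steps.bwd (nat_lit 5) (Steps.bwd (nat_lit 8) (Steps.fwd (nat_lit 73728) (Steps.fwd (nat_lit 90112) (Steps.fwd (nat_lit 114688) (Steps.bwd (nat_lit 1) Steps.nil)))))))) (nat_lit 158) (nat_lit 2),
  Rule.mk (nat_lit 7) (nat_lit 164) (Steps.bwd (nat_lit 1) (Steps.fwd (nat_lit 40960) (Steps.fwd (nat_lit 49152) (Steps.bwd (nat_lit 9) (Steps.fwd (nat_lit 81920) (Steps.fwd (nat_lit 90112) (Steps.fwd (nat_lit 98304) (Steps.bwd (nat_lit 13) (Steps.fwd (nat_lit 114688) (Steps.bwd (nat_lit 1) Steps.nil)))))))))) (nat_lit 152) (nat_lit 2),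
  Rule.mk (nat_lit 12) (nat_lit 164) (Steps.bwd (nat_lit 1) (Steps.fwd (nat_lit 32768) (Steps.bwd (nat_lit 5) (Steps.bwd (nat_lit 8) (Steps.fwd (nat_lit 73728) (Steps.fwd (nat_lit 81920) (Steps.bwd (nat_lit 11) (Steps.fwd (nat_lit 98304) (Steps.bwd (nat_lit 14) (Steps.fwd (nat_lit 8192) Steps.nil)))))))))) (nat_lit 162) (nat_lit 2),
  Rule.mk (nat_lit 0) (nat_lit 194) (Steps.bwd (nat_lit 15) (Steps.fwd (nat_lit 16384) (Steps.fwd (nat_lit 8192) (Steps.bwd (nat_lit 4) (Steps.bwd (nat_lit 3) (Steps.bwd (nat_lit 1) (Steps.bwd (nat_lit 2) (Steps.fwd (nat_lit 8192) (Steps.bwd (nat_lit 2) (Steps.fwd (nat_lit 8192) (Steps.bwd (nat_lit 2) (Steps.fwd (nat_lit 8192) Steps.nil)))))))))))) (nat_lit 191) (nat_lit 11),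
  Rule.mk (nat_lit 0) (nat_lit 194) (Steps.bwd (nat_lit 16) (Steps.fwd (nat_lit 8192) (Steps.bwd (nat_lit 3) (Steps.bwd (nat_lit 1) (Steps.bwd (nat_lit 3) (Steps.bwd (nat_lit 1) (Steps.bwd (nat_lit 3) (Steps.bwd (nat_lit 1) (Steps.bwd (nat_lit 2) (Steps.fwd (nat_lit 32768) (Steps.fwd (nat_lit 8192) (Steps.bwd (nat_lit 2) Steps.nil)))))))))))) (nat_lit 190) (nat_lit 0),
  Rule.mk (nat_lit 0) (nat_lit 194) (Steps.bwd (nat_lit 16) (Steps.bwd (nat_lit 1) (Steps.bwd (nat_lit 3) (Steps.bwd (nat_lit 1) (Steps.bwd (nat_lit 3) (Steps.bwd (nat_lit 1) (Steps.bwd (nat_lit 3) (Steps.bwd (nat_lit 1) (Steps.bwd (nat_lit 2) (Steps.fwd (nat_lit 32768) (Steps.fwd (nat_lit 8192) (Steps.bwd (nat_lit 2) Steps.nil)))))))))))) (nat_lit 190) (nat_lit 0),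
  Rule.mk (nat_lit 16) (nat_lit 179) (Steps.bwd (nat_lit 1) (Steps.bwd (nat_lit 3) (Steps.bwd (nat_lit 1) (Steps.bwd (nat_lit 3) (Steps.bwd (nat_lit 1) (Steps.bwd (nat_lit 3) (Steps.bwd (nat_lit 1) (Steps.bwd (nat_lit 2) (Steps.fwd (nat_lit 32768) (Steps.fwd (nat_lit 8192) (Steps.fwd (nat_lit 24576) Steps.nil))))))))))) (nat_lit 190) (nat_lit 1),
  Rule.mk (nat_lit 15) (nat_lit 179) (Steps.bwd (nat_lit 3) (Steps.bwd (nat_lit 1) (Steps.fwd (nat_lit 32768) (Steps.bwd (nat_lit 3) (Steps.fwd (nat_lit 8192) (Steps.fwd (nat_lit 24576) (Steps.bwd (nat_lit 1) (Steps.bwd (nat_lit 2) (Steps.fwd (nat_lit 8192) (Steps.bwd (nat_lit 2) (Steps.bwd (nat_lit 1) Steps.nil))))))))))) (nat_lit 191) (nat_lit 0),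
  Rule.mk (nat_lit 0) (nat_lit 194) (Steps.bwd (nat_lit 18) (Steps.bwd (nat_lit 1) (Steps.fwd (nat_lit 16384) (Steps.bwd (nat_lit 4) (Steps.bwd (nat_lit 1) (Steps.bwd (nat_lit 2) (Steps.bwd (nat_lit 1) (Steps.fwd (nat_lit 24576) (Steps.bwd (nat_lit 1) (Steps.bwd (nat_lit 3) (Steps.bwd (nat_lit 1) (Steps.bwd (nat_lit 3) Steps.nil)))))))))))) (nat_lit 192) (nat_lit 0),
  Rule.mk (nat_lit 17) (nat_lit 179) (Steps.fwd (nat_lit 24576) (Steps.bwd (nat_lit 1) (Steps.bwd (nat_lit 2) (Steps.bwd (nat_lit 1) (Steps.fwd (nat_lit 16384) (Steps.bwd (nat_lit 1) (Steps.fwd (nat_lit 16384) (Steps.fwd (nat_lit 8192) (Steps.fwd (nat_lit 32768) (Steps.fwd (nat_lit 24576) (Steps.bwd (nat_lit 1) Steps.nil))))))))))) (nat_lit 193) (nat_lit 0),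
  Rule.mk (nat_lit 0) (nat_lit 194) (Steps.bwd (nat_lit 17) (Steps.fwd (nat_lit 24576) (Steps.bwd (nat_lit 1) (Steps.bwd (nat_lit 2) (Steps.bwd (nat_lit 1) (Steps.bwd (nat_lit 3) (Steps.bwd (nat_lit 1) (Steps.bwd (nat_lit 3) (Steps.bwd (nat_lit 1) (Steps.fwd (nat_lit 32768) (Steps.bwd (nat_lit 2) (Steps.fwd (nat_lit 8192) Steps.nil)))))))))))) (nat_lit 193) (nat_lit 11),
  Rule.mk (nat_lit 0) (nat_lit 194) (Steps.bwd (nat_lit 17) (Steps.bwd (nat_lit 2) (Steps.bwd (nat_lit 1) (Steps.fwd (nat_lit 24576) (Steps.bwd (nat_lit 1) (Steps.bwd (nat_lit 3) (Steps.bwd (nat_lit 1) (Steps.bwd (nat_lit 3) (Steps.bwd (nat_lit 1) (Steps.bwd (nat_lit 4) (Steps.fwd (nat_lit 24576) (Steps.fwd (nat_lit 8192) Steps.nil)))))))))))) (nat_lit 193) (nat_lit 11),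
  Rule.mk (nat_lit 0) (nat_lit 194) (Steps.bwd (nat_lit 1) (Steps.bwd (nat_lit 2) (Steps.bwd (nat_lit 1) (Steps.fwd (nat_lit 24576) (Steps.bwd (nat_lit 1) (Steps.bwd (nat_lit 3) (Steps.bwd (nat_lit 1) (Steps.bwd (nat_lit 3) (Steps.bwd (nat_lit 1) (Steps.bwd (nat_lit 4) (Steps.fwd (nat_lit 24576) (Steps.fwd (nat_lit 155648) Steps.nil)))))))))))) (nat_lit 194) (nat_lit 1),
  Rule.mk (nat_lit 19) (nat_lit 179) (Steps.fwd (nat_lit 16384) (Steps.bwd (nat_lit 4) (Steps.fwd (nat_lit 8192) (Steps.fwd (nat_lit 24576) (Steps.bwd (nat_lit 1) (Steps.bwd (nat_lit 2) (Steps.bwd (nat_lit 1) (Steps.bwd (nat_lit 3) (Steps.bwd (nat_lit 1) (Steps.bwd (nat_lit 3) (Steps.bwd (nat_lit 1) Steps.nil))))))))))) (nat_lit 195) (nat_lit 0),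
  Rule.mk (nat_lit 19) (nat_lit 179) (Steps.fwd (nat_lit 16384) (Steps.bwd (nat_lit 4) (Steps.fwd (nat_lit 8192) (Steps.bwd (nat_lit 2) (Steps.bwd (nat_lit 1) (Steps.fwd (nat_lit 24576) (Steps.bwd (nat_lit 1) (Steps.bwd (nat_lit 3) (Steps.bwd (nat_lit 1) (Steps.bwd (nat_lit 3) (Steps.bwd (nat_lit 1) Steps.nil))))))))))) (nat_lit 195) (nat_lit 0),
  Rule.mk (nat_lit 0) (nat_lit 194) (Steps.fwd (nat_lit 8192) (Steps.fwd (nat_lit 16384) (Steps.fwd (nat_lit 8192) (Steps.fwd (nat_lit 16384) (Steps.fwd (nat_lit 8192) (Steps.bwd (nat_lit 3) (Steps.fwd (nat_lit 8192) (Steps.fwd (nat_lit 24576) (Steps.bwd (nat_lit 4) (Steps.bwd (nat_lit 1) (Steps.bwd (nat_lit 2) (Steps.fwd (nat_lit 122880) Steps.nil)))))))))))) (nat_lit 190) (nat_lit 1),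
  Rule.mk (nat_lit 19) (nat_lit 179) (Steps.bwd (nat_lit 3) (Steps.bwd (nat_lit 4) (Steps.bwd (nat_lit 1) (Steps.bwd (nat_lit 2) (Steps.fwd (nat_lit 8192) (Steps.bwd (nat_lit 2) (Steps.fwd (nat_lit 8192) (Steps.fwd (nat_lit 16384) (Steps.fwd (nat_lit 8192) (Steps.bwd (nat_lit 3) (Steps.fwd (nat_lit 8192) Steps.nil))))))))))) (nat_lit 195) (nat_lit 0),
  Rule.mk (nat_lit 3) (nat_lit 179) (Steps.bwd (nat_lit 18) (Steps.fwd (nat_lit 8192) (Steps.bwd (nat_lit 3) (Steps.bwd (nat_lit 4) (Steps.bwd (nat_lit 1) (Steps.bwd (nat_lit 2) (Steps.fwd (nat_lit 8192) (Steps.fwd (nat_lit 24576) (Steps.bwd (nat_lit 1) (Steps.fwd (nat_lit 16384) (Steps.fwd (nat_lit 8192) Steps.nil))))))))))) (nat_lit 192) (nat_lit 0),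
  Rule.mk (nat_lit 6) (nat_lit 104) (Steps.fwd (nat_lit 90112) (Steps.bwd (nat_lit 12) (Steps.bwd (nat_lit 14) (Steps.bwd (nat_lit 2) (Steps.bwd (nat_lit 10) (Steps.bwd (nat_lit 3) Steps.nil)))))) (nat_lit 180) (nat_lit 4),
  Rule.mk (nat_lit 1) (nat_lit 599) (Steps.fwd (nat_lit 24576) (Steps.bwd (nat_lit 1) (Steps.bwd (nat_lit 2) (Steps.fwd (nat_lit 8192) (Steps.bwd (nat_lit 3) (Steps.bwd (nat_lit 1) (Steps.fwd (nat_lit 16384) (Steps.fwd (nat_lit 8192) (Steps.bwd (nat_lit 2) (Steps.bwd (nat_lit 1) (Steps.fwd (nat_lit 24576) (Steps.bwd (nat_lit 1) (Steps.bwd (nat_lit 3) (Steps.bwd (nat_lit 1) (Steps.fwd (nat_lit 16384) (Steps.bwd (nat_lit 1) (Steps.fwd (nat_lit 24576) (Steps.bwd (nat_lit 1) (Steps.fwd (nat_lit 24576) (Steps.fwd (nat_lit 8192) (Steps.bwd (nat_lit 3) (Steps.fwd (nat_lit 8192) (Steps.bwd (nat_lit 3) (Steps.fwd (nat_lit 8192) (Steps.bwd (nat_lit 2) (Steps.fwd (nat_lit 8192)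 (Steps.fwd (nat_lit 24576) (Steps.fwd (nat_lit 8192) (Steps.bwd (nat_lit 3) (Steps.fwd (nat_lit 8192) (Steps.fwd (nat_lit 16384) (Steps.bwd (nat_lit 1) (Steps.bwd (nat_lit 2) (Steps.fwd (nat_lit 8192) (Steps.fwd (nat_lit 24576) (Steps.bwd (nat_lit 1) (Steps.fwd (nat_lit 16384) (Steps.fwd (nat_lit 8192) (Steps.bwd (nat_lit 3) Steps.nil))))))))))))))))))))))))))))))))))))))) (nat_lit 8) (nat_lit 5),
  Rule.mk (nat_lit 16) (nat_lit 179) (Steps.bwd (nat_lit 1) (Steps.fwd (nat_lit 16384) (Steps.fwd (nat_lit 8192) (Steps.bwd (nat_lit 3) (Steps.fwd (nat_lit 8192) (Steps.bwd (nat_lit 3) (Steps.bwd (nat_lit 1) (Steps.bwd (nat_lit 2) (Steps.fwd (nat_lit 32768) (Steps.fwd (nat_lit 8192) (Steps.bwd (nat_lit 2) Steps.nil))))))))))) (nat_lit 190) (nat_lit 1),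
  Rule.mk (nat_lit 18) (nat_lit 179) (Steps.fwd (nat_lit 8192) (Steps.bwd (nat_lit 3) (Steps.bwd (nat_lit 4) (Steps.bwd (nat_lit 1) (Steps.fwd (nat_lit 24576) (Steps.bwd (nat_lit 1) (Steps.bwd (nat_lit 2) (Steps.bwd (nat_lit 1) (Steps.fwd (nat_lit 16384) (Steps.fwd (nat_lit 8192) (Steps.fwd (nat_lit 16384) Steps.nil))))))))))) (nat_lit 192) (nat_lit 1),
  Rule.mk (nat_lit 20) (nat_lit 179) (Steps.fwd (nat_lit 8192) (Steps.fwd (nat_lit 24576) (Steps.bwd (nat_lit 1) (Steps.bwd (nat_lit 2) (Steps.fwd (nat_lit 8192) (Steps.bwd (nat_lit 3) (Steps.bwd (nat_lit 1) (Steps.fwd (nat_lit 16384) (Steps.fwd (nat_lit 8192) (Steps.fwd (nat_lit 32768) (Steps.fwd (nat_lit 24576) Steps.nil))))))))))) (nat_lit 194) (nat_lit 1),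
  Rule.mk (nat_lit 15) (nat_lit 179) (Steps.bwd (nat_lit 3) (Steps.bwd (nat_lit 1) (Steps.fwd (nat_lit 32768) (Steps.fwd (nat_lit 16384) (Steps.bwd (nat_lit 1) (Steps.bwd (nat_lit 2) (Steps.fwd (nat_lit 8192) (Steps.fwd (nat_lit 24576) (Steps.fwd (nat_lit 8192) (Steps.bwd (nat_lit 2) (Steps.bwd (nat_lit 1) Steps.nil))))))))))) (nat_lit 191) (nat_lit 0),
  Rule.mk (nat_lit 19) (nat_lit 179) (Steps.bwd (nat_lit 3) (Steps.bwd (nat_lit 4) (Steps.bwd (nat_lit 1) (Steps.fwd (nat_lit 24576) (Steps.bwd (nat_lit 1) (Steps.bwd (nat_lit 2) (Steps.bwd (nat_lit 1) (Steps.fwd (nat_lit 16384) (Steps.fwd (nat_lit 8192) (Steps.fwd (nat_lit 16384) (Steps.fwd (nat_lit 8192) Steps.nil))))))))))) (nat_lit 195) (nat_lit 0),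
  Rule.mk (nat_lit 1) (nat_lit 104) (Steps.bwd (nat_lit 11) (Steps.fwd (nat_lit 8192) (Steps.bwd (nat_lit 6) (Steps.fwd (nat_lit 90112) (Steps.bwd (nat_lit 12) (Steps.bwd (nat_lit 14) Steps.nil)))))) (nat_lit 160) (nat_lit 1),
  Rule.mk (nat_lit 2) (nat_lit 179) (Steps.bwd (nat_lit 20) (Steps.bwd (nat_lit 1) (Steps.fwd (nat_lit 24576) (Steps.bwd (nat_lit 1) (Steps.fwd (nat_lit 24576) (Steps.fwd (nat_lit 8192) (Steps.bwd (nat_lit 3) (Steps.fwd (nat_lit 8192) (Steps.bwd (nat_lit 3) (Steps.bwd (nat_lit 1) (Steps.bwd (nat_lit 4) Steps.nil))))))))))) (nat_lit 194) (nat_lit 0),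
  Rule.mk (nat_lit 12) (nat_lit 104) (Steps.fwd (nat_lit 16384) (Steps.fwd (nat_lit 32768) (Steps.bwd (nat_lit 5) (Steps.fwd (nat_lit 65536) (Steps.fwd (nat_lit 73728) (Steps.fwd (nat_lit 24576) Steps.nil)))))) (nat_lit 184) (nat_lit 2),
  Rule.mk (nat_lit 9) (nat_lit 134) (Steps.fwd (nat_lit 16384) (Steps.fwd (nat_lit 32768) (Steps.bwd (nat_lit 5) (Steps.fwd (nat_lit 65536) (Steps.fwd (nat_lit 73728) (Steps.bwd (nat_lit 11) (Steps.fwd (nat_lit 114688) (Steps.bwd (nat_lit 2) Steps.nil)))))))) (nat_lit 178) (nat_lit 2),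
  Rule.mk (nat_lit 5) (nat_lit 149) (Steps.fwd (nat_lit 16384) (Steps.fwd (nat_lit 32768) (Steps.bwd (nat_lit 5) (Steps.fwd (nat_lit 65536) (Steps.fwd (nat_lit 73728) (Steps.bwd (nat_lit 12) (Steps.fwd (nat_lit 106496) (Steps.fwd (nat_lit 114688) (Steps.fwd (nat_lit 24576) Steps.nil))))))))) (nat_lit 170) (nat_lit 2),
  Rule.mk (nat_lit 11) (nat_lit 164) (Steps.fwd (nat_lit 16384) (Steps.fwd (nat_lit 32768) (Steps.bwd (nat_lit 5) (Steps.fwd (nat_lit 65536) (Steps.fwd (nat_lit 73728) (Steps.bwd (nat_lit 10) (Steps.bwd (nat_lit 11) (Steps.bwd (nat_lit 12) (Steps.fwd (nat_lit 114688) (Steps.fwd (nat_lit 24576) Steps.nil)))))))))) (nat_lit 182) (nat_lit 2),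
  Rule.mk (nat_lit 1) (nat_lit 179) (Steps.bwd (nat_lit 15) (Steps.fwd (nat_lit 16384) (Steps.bwd (nat_lit 1) (Steps.bwd (nat_lit 4) (Steps.fwd (nat_lit 16384) (Steps.fwd (nat_lit 8192) (Steps.fwd (nat_lit 24576) (Steps.bwd (nat_lit 1) (Steps.bwd (nat_lit 2) (Steps.bwd (nat_lit 1) (Steps.fwd (nat_lit 24576) Steps.nil))))))))))) (nat_lit 191) (nat_lit 11),
  Rule.mk (nat_lit 8) (nat_lit 104) (Steps.fwd (nat_lit 8192) (Steps.bwd (nat_lit 14) (Steps.bwd (nat_lit 13) (Steps.fwd (nat_lit 57344) (Steps.fwd (nat_lit 40960) (Steps.bwd (nat_lit 1) Steps.nil)))))) (nat_lit 155) (nat_lit 6),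
  Rule.mk (nat_lit 13) (nat_lit 104) (Steps.fwd (nat_lit 8192) (Steps.bwd (nat_lit 4) (Steps.fwd (nat_lit 40960) (Steps.bwd (nat_lit 8) (Steps.fwd (nat_lit 73728) (Steps.bwd (nat_lit 1) Steps.nil)))))) (nat_lit 164) (nat_lit 2),
  Rule.mk (nat_lit 7) (nat_lit 164) (Steps.fwd (nat_lit 8192) (Steps.bwd (nat_lit 5) (Steps.fwd (nat_lit 49152) (Steps.bwd (nat_lit 9) (Steps.bwd (nat_lit 10) (Steps.fwd (nat_lit 90112) (Steps.bwd (nat_lit 12) (Steps.fwd (nat_lit 106496) (Steps.bwd (nat_lit 14) (Steps.bwd (nat_lit 1) Steps.nil)))))))))) (nat_lit 152) (nat_lit 2),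
  Rule.mk (nat_lit 12) (nat_lit 164) (Steps.bwd (nat_lit 1) (Steps.bwd (nat_lit 4) (Steps.bwd (nat_lit 5) (Steps.fwd (nat_lit 65536) (Steps.fwd (nat_lit 73728) (Steps.fwd (nat_lit 81920) (Steps.fwd (nat_lit 90112) (Steps.bwd (nat_lit 12) (Steps.bwd (nat_lit 14) (Steps.bwd (nat_lit 1) Steps.nil)))))))))) (nat_lit 162) (nat_lit 2),
  Rule.mk (nat_lit 3) (nat_lit 179) (Steps.bwd (nat_lit 18) (Steps.fwd (nat_lit 8192) (Steps.fwd (nat_lit 16384) (Steps.bwd (nat_lit 4) (Steps.bwd (nat_lit 1) (Steps.bwd (nat_lit 2) (Steps.bwd (nat_lit 1) (Steps.fwd (nat_lit 24576) (Steps.fwd (nat_lit 8192) (Steps.fwd (nat_lit 16384) (Steps.bwd (nat_lit 1) Steps.nil))))))))))) (nat_lit 192) (nat_lit 0)]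
noncomputable def R_95 : List (Rule) := [Rule.mk (nat_lit 17) (nat_lit 179) (Steps.fwd (nat_lit 24576) (Steps.bwd (nat_lit 1) (Steps.fwd (nat_lit 24576) (Steps.fwd (nat_lit 8192) (Steps.bwd (nat_lit 3) (Steps.fwd (nat_lit 8192) (Steps.fwd (nat_lit 16384) (Steps.bwd (nat_lit 1) (Steps.bwd (nat_lit 4) (Steps.fwd (nat_lit 24576) (Steps.bwd (nat_lit 1) Steps.nil))))))))))) (nat_lit 193) (nat_lit 0),
  Rule.mk (nat_lit 20) (nat_lit 179) (Steps.fwd (nat_lit 8192) (Steps.fwd (nat_lit 24576) (Steps.bwd (nat_lit 1) (Steps.fwd (nat_lit 24576) (Steps.fwd (nat_lit 8192) (Steps.bwd (nat_lit 3) (Steps.fwd (nat_lit 8192) (Steps.fwd (nat_lit 16384) (Steps.bwd (nat_lit 1) (Steps.bwd (nat_lit 4) (Steps.fwd (nat_lit 24576) Steps.nil))))))))))) (nat_lit 194) (nat_lit 1),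
  Rule.mk (nat_lit 1) (nat_lit 539) (Steps.bwd (nat_lit 2) (Steps.bwd (nat_lit 1) (Steps.fwd (nat_lit 16384) (Steps.bwd (nat_lit 1) (Steps.fwd (nat_lit 16384) (Steps.fwd (nat_lit 8192) (Steps.fwd (nat_lit 24576) (Steps.bwd (nat_lit 1) (Steps.fwd (nat_lit 24576) (Steps.bwd (nat_lit 1) (Steps.bwd (nat_lit 3) (Steps.fwd (nat_lit 8192) (Steps.fwd (nat_lit 24576) (Steps.fwd (nat_lit 8192) (Steps.fwd (nat_lit 24576) (Steps.bwd (nat_lit 1) (Steps.fwd (nat_lit 16384) (Steps.bwd (nat_lit 1) (Steps.fwd (nat_lit 24576) (Steps.bwd (nat_lit 1) (Steps.fwd (nat_lit 24576) (Steps.bwd (nat_lit 1) (Steps.fwd (nat_lit 16384) (Steps.fwd (nat_lit 8192) (Steps.fwd (nat_lit 24576) (Steps.bwd (nat_lit 1) (Steps.fwd (nat_lit 16384) (Steps.fwd (nat_lit 8192) (Steps.bwd (nat_lit 3) (Steps.bwd (nat_lit 1) (Steps.fwd (nat_lit 24576) (Steps.fwd (nat_lit 8192) (Steps.fwd (nat_lit 16384) (Steps.bwd (nat_lit 1) (Steps.bwd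 (nat_lit 3) Steps.nil))))))))))))))))))))))))))))))))))) (nat_lit 12) (nat_lit 31),
  Rule.mk (nat_lit 15) (nat_lit 179) (Steps.bwd (nat_lit 3) (Steps.fwd (nat_lit 8192) (Steps.bwd (nat_lit 4) (Steps.fwd (nat_lit 16384) (Steps.fwd (nat_lit 8192) (Steps.fwd (nat_lit 24576) (Steps.fwd (nat_lit 8192) (Steps.bwd (nat_lit 2) (Steps.bwd (nat_lit 1) (Steps.fwd (nat_lit 24576) (Steps.bwd (nat_lit 1) Steps.nil))))))))))) (nat_lit 191) (nat_lit 0),
  Rule.mk (nat_lit 20) (nat_lit 179) (Steps.fwd (nat_lit 8192) (Steps.fwd (nat_lit 24576) (Steps.fwd (nat_lit 8192) (Steps.bwd (nat_lit 2) (Steps.bwd (nat_lit 1) (Steps.bwd (nat_lit 3) (Steps.fwd (nat_lit 8192) (Steps.fwd (nat_lit 16384) (Steps.fwd (nat_lit 8192) (Steps.fwd (nat_lit 32768) (Steps.bwd (nat_lit 2) Steps.nil))))))))))) (nat_lit 194) (nat_lit 1),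
  Rule.mk (nat_lit 9) (nat_lit 89) (Steps.bwd (nat_lit 1) (Steps.fwd (nat_lit 114688) (Steps.bwd (nat_lit 7) (Steps.fwd (nat_lit 32768) (Steps.bwd (nat_lit 1) Steps.nil))))) (nat_lit 157) (nat_lit 5),
  Rule.mk (nat_lit 8) (nat_lit 104) (Steps.bwd (nat_lit 1) (Steps.fwd (nat_lit 114688) (Steps.bwd (nat_lit 13) (Steps.fwd (nat_lit 57344) (Steps.fwd (nat_lit 40960) (Steps.fwd (nat_lit 8192) Steps.nil)))))) (nat_lit 155) (nat_lit 6),
  Rule.mk (nat_lit 10) (nat_lit 134) (Steps.bwd (nat_lit 1) (Steps.fwd (nat_lit 114688) (Steps.bwd (nat_lit 11) (Steps.fwd (nat_lit 73728) (Steps.fwd (nat_lit 65536) (Steps.bwd (nat_lit 5) (Steps.fwd (nat_lit 32768) (Steps.bwd (nat_lit 1) Steps.nil)))))))) (nat_lit 159) (nat_lit 8),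
  Rule.mk (nat_lit 6) (nat_lit 134) (Steps.bwd (nat_lit 1) (Steps.fwd (nat_lit 114688) (Steps.fwd (nat_lit 8192) (Steps.bwd (nat_lit 14) (Steps.fwd (nat_lit 106496) (Steps.fwd (nat_lit 98304) (Steps.bwd (nat_lit 11) (Steps.fwd (nat_lit 81920) Steps.nil)))))))) (nat_lit 167) (nat_lit 6),
  Rule.mk (nat_lit 7) (nat_lit 164) (Steps.bwd (nat_lit 1) (Steps.fwd (nat_lit 114688) (Steps.bwd (nat_lit 13) (Steps.bwd (nat_lit 12) (Steps.bwd (nat_lit 11) (Steps.fwd (nat_lit 81920) (Steps.bwd (nat_lit 9) (Steps.bwd (nat_lit 6) (Steps.fwd (nat_lit 40960) (Steps.fwd (nat_lit 8192) Steps.nil)))))))))) (nat_lit 153) (nat_lit 10),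
  Rule.mk (nat_lit 12) (nat_lit 164) (Steps.bwd (nat_lit 1) (Steps.fwd (nat_lit 114688) (Steps.fwd (nat_lit 98304) (Steps.fwd (nat_lit 90112) (Steps.bwd (nat_lit 10) (Steps.fwd (nat_lit 73728) (Steps.bwd (nat_lit 8) (Steps.bwd (nat_lit 5) (Steps.fwd (nat_lit 32768) (Steps.fwd (nat_lit 8192) Steps.nil)))))))))) (nat_lit 163) (nat_lit 10),
  Rule.mk (nat_lit 3) (nat_lit 179) (Steps.bwd (nat_lit 4) (Steps.fwd (nat_lit 8192) (Steps.fwd (nat_lit 24576) (Steps.fwd (nat_lit 8192) (Steps.bwd (nat_lit 2) (Steps.bwd (nat_lit 1) (Steps.bwd (nat_lit 3) (Steps.fwd (nat_lit 8192) (Steps.bwd (nat_lit 3) (Steps.fwd (nat_lit 8192) (Steps.fwd (nat_lit 163840) Steps.nil))))))))))) (nat_lit 195) (nat_lit 1),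
  Rule.mk (nat_lit 18) (nat_lit 179) (Steps.fwd (nat_lit 8192) (Steps.bwd (nat_lit 3) (Steps.bwd (nat_lit 4) (Steps.bwd (nat_lit 1) (Steps.bwd (nat_lit 2) (Steps.fwd (nat_lit 8192) (Steps.bwd (nat_lit 2) (Steps.fwd (nat_lit 8192) (Steps.fwd (nat_lit 16384) (Steps.fwd (nat_lit 8192) (Steps.bwd (nat_lit 3) Steps.nil))))))))))) (nat_lit 192) (nat_lit 1),
  Rule.mk (nat_lit 1) (nat_lit 104) (Steps.bwd (nat_lit 11) (Steps.fwd (nat_lit 8192) (Steps.bwd (nat_lit 6) (Steps.bwd (nat_lit 11) (Steps.fwd (nat_lit 98304) (Steps.fwd (nat_lit 114688) Steps.nil)))))) (nat_lit 160) (nat_lit 1),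
  Rule.mk (nat_lit 15) (nat_lit 179) (Steps.bwd (nat_lit 3) (Steps.bwd (nat_lit 1) (Steps.bwd (nat_lit 4) (Steps.bwd (nat_lit 3) (Steps.bwd (nat_lit 1) (Steps.bwd (nat_lit 2) (Steps.fwd (nat_lit 8192) (Steps.bwd (nat_lit 2) (Steps.fwd (nat_lit 8192) (Steps.bwd (nat_lit 2) (Steps.bwd (nat_lit 1) Steps.nil))))))))))) (nat_lit 191) (nat_lit 0),
  Rule.mk (nat_lit 3) (nat_lit 179) (Steps.bwd (nat_lit 18) (Steps.bwd (nat_lit 1) (Steps.bwd (nat_lit 3) (Steps.bwd (nat_lit 4) (Steps.bwd (nat_lit 1) (Steps.fwd (nat_lit 24576) (Steps.fwd (nat_lit 8192) (Steps.fwd (nat_lit 24576) (Steps.bwd (nat_lit 1) (Steps.fwd (nat_lit 16384) (Steps.bwd (nat_lit 1) Steps.nil))))))))))) (nat_lit 192) (nat_lit 0),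
  Rule.mk (nat_lit 17) (nat_lit 179) (Steps.fwd (nat_lit 24576) (Steps.fwd (nat_lit 8192) (Steps.bwd (nat_lit 2) (Steps.fwd (nat_lit 8192) (Steps.bwd (nat_lit 3) (Steps.fwd (nat_lit 8192) (Steps.bwd (nat_lit 3) (Steps.bwd (nat_lit 1) (Steps.bwd (nat_lit 4) (Steps.bwd (nat_lit 2) (Steps.bwd (nat_lit 1) Steps.nil))))))))))) (nat_lit 193) (nat_lit 0),
  Rule.mk (nat_lit 19) (nat_lit 179) (Steps.fwd (nat_lit 16384) (Steps.bwd (nat_lit 4) (Steps.fwd (nat_lit 8192) (Steps.fwd (nat_lit 24576) (Steps.bwd (nat_lit 1) (Steps.fwd (nat_lit 24576) (Steps.fwd (nat_lit 8192) (Steps.fwd (nat_lit 16384) (Steps.bwd (nat_lit 1) (Steps.fwd (nat_lit 16384) (Steps.bwd (nat_lit 1) Steps.nil))))))))))) (nat_lit 195) (nat_lit 0),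
  Rule.mk (nat_lit 2) (nat_lit 539) (Steps.bwd (nat_lit 1) (Steps.fwd (nat_lit 16384) (Steps.bwd (nat_lit 1) (Steps.bwd (nat_lit 2) (Steps.fwd (nat_lit 8192) (Steps.bwd (nat_lit 3) (Steps.bwd (nat_lit 1) (Steps.fwd (nat_lit 16384) (Steps.bwd (nat_lit 1) (Steps.bwd (nat_lit 2) (Steps.fwd (nat_lit 8192) (Steps.bwd (nat_lit 3) (Steps.fwd (nat_lit 8192) (Steps.fwd (nat_lit 16384) (Steps.bwd (nat_lit 1) (Steps.fwd (nat_lit 24576) (Steps.bwd (nat_lit 1) (Steps.bwd (nat_lit 3) (Steps.bwd (nat_lit 1) (Steps.fwd (nat_lit 16384) (Steps.bwd (nat_lit 1) (Steps.bwd (nat_lit 2) (Steps.bwd (nat_lit 1) (Steps.fwd (nat_lit 24576) (Steps.bwd (nat_lit 1) (Steps.fwd (nat_lit 16384) (Steps.fwd (nat_lit 8192) (Steps.bwd (nat_lit 2) (Steps.bwd (nat_lit 1) (Steps.bwd (nat_lit 2) (Steps.fwd (nat_lit 8192) (Steps.fwd (nat_lit 16384) (Steps.fwd (nat_lit 8192) (Steps.bwd (nat_lit 2) (Steps.bwd (nat_lit 1) Steps.nil)))))))))))))))))))))))))))))))))))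 (nat_lit 12) (nat_lit 16),
  Rule.mk (nat_lit 0) (nat_lit 554) (Steps.fwd (nat_lit 24576) (Steps.fwd (nat_lit 8192) (Steps.fwd (nat_lit 16384) (Steps.bwd (nat_lit 1) (Steps.fwd (nat_lit 16384) (Steps.bwd (nat_lit 1) (Steps.bwd (nat_lit 2) (Steps.bwd (nat_lit 1) (Steps.bwd (nat_lit 2) (Steps.fwd (nat_lit 8192) (Steps.bwd (nat_lit 3) (Steps.fwd (nat_lit 8192) (Steps.fwd (nat_lit 24576) (Steps.fwd (nat_lit 8192) (Steps.bwd (nat_lit 2) (Steps.fwd (nat_lit 8192) (Steps.bwd (nat_lit 3) (Steps.fwd (nat_lit 8192) (Steps.fwd (nat_lit 24576) (Steps.bwd (nat_lit 1) (Steps.bwd (nat_lit 2) (Steps.bwd (nat_lit 1) (Steps.fwd (nat_lit 16384) (Steps.bwd (nat_lit 1) (Steps.bwd (nat_lit 2) (Steps.bwd (nat_lit 1) (Steps.fwd (nat_lit 16384) (Steps.fwd (nat_lit 8192) (Steps.bwd (nat_lit 3) (Steps.fwd (nat_lit 8192) (Steps.bwd (nat_lit 2) (Steps.fwd (nat_lit 8192) (Steps.bwd (nat_lit 3) (Steps.fwd (nat_lit 8192)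 (Steps.bwd (nat_lit 3) (Steps.fwd (nat_lit 8192) Steps.nil)))))))))))))))))))))))))))))))))))) (nat_lit 12) (nat_lit 31),
  Rule.mk (nat_lit 16) (nat_lit 179) (Steps.fwd (nat_lit 8192) (Steps.fwd (nat_lit 16384) (Steps.fwd (nat_lit 8192) (Steps.fwd (nat_lit 16384) (Steps.bwd (nat_lit 1) (Steps.fwd (nat_lit 16384) (Steps.bwd (nat_lit 1) (Steps.bwd (nat_lit 2) (Steps.fwd (nat_lit 32768) (Steps.fwd (nat_lit 8192) (Steps.fwd (nat_lit 24576) Steps.nil))))))))))) (nat_lit 190) (nat_lit 1),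
  Rule.mk (nat_lit 15) (nat_lit 179) (Steps.fwd (nat_lit 16384) (Steps.fwd (nat_lit 8192) (Steps.fwd (nat_lit 32768) (Steps.bwd (nat_lit 3) (Steps.fwd (nat_lit 8192) (Steps.bwd (nat_lit 2) (Steps.bwd (nat_lit 1) (Steps.bwd (nat_lit 2) (Steps.fwd (nat_lit 8192) (Steps.fwd (nat_lit 24576) (Steps.fwd (nat_lit 8192) Steps.nil))))))))))) (nat_lit 191) (nat_lit 0),
  Rule.mk (nat_lit 15) (nat_lit 179) (Steps.bwd (nat_lit 3) (Steps.fwd (nat_lit 8192) (Steps.bwd (nat_lit 4) (Steps.bwd (nat_lit 3) (Steps.bwd (nat_lit 1) (Steps.bwd (nat_lit 2) (Steps.fwd (nat_lit 8192) (Steps.fwd (nat_lit 24576) (Steps.fwd (nat_lit 8192) (Steps.bwd (nat_lit 2) (Steps.fwd (nat_lit 8192) Steps.nil))))))))))) (nat_lit 191) (nat_lit 0),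
  Rule.mk (nat_lit 15) (nat_lit 179) (Steps.fwd (nat_lit 16384) (Steps.bwd (nat_lit 1) (Steps.bwd (nat_lit 4) (Steps.bwd (nat_lit 3) (Steps.fwd (nat_lit 8192) (Steps.fwd (nat_lit 24576) (Steps.fwd (nat_lit 8192) (Steps.bwd (nat_lit 2) (Steps.fwd (nat_lit 8192) (Steps.bwd (nat_lit 2) (Steps.bwd (nat_lit 1) Steps.nil))))))))))) (nat_lit 191) (nat_lit 0),
  Rule.mk (nat_lit 15) (nat_lit 179) (Steps.fwd (nat_lit 16384) (Steps.fwd (nat_lit 8192) (Steps.bwd (nat_lit 4) (Steps.bwd (nat_lit 3) (Steps.fwd (nat_lit 8192) (Steps.fwd (nat_lit 24576) (Steps.bwd (nat_lit 1) (Steps.fwd (nat_lit 24576) (Steps.bwd (nat_lit 1) (Steps.bwd (nat_lit 2) (Steps.fwd (nat_lit 8192) Steps.nil))))))))))) (nat_lit 191) (nat_lit 0),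
  Rule.mk (nat_lit 0) (nat_lit 194) (Steps.bwd (nat_lit 17) (Steps.bwd (nat_lit 2) (Steps.bwd (nat_lit 1) (Steps.bwd (nat_lit 2) (Steps.bwd (nat_lit 1) (Steps.fwd (nat_lit 16384) (Steps.bwd (nat_lit 1) (Steps.fwd (nat_lit 16384) (Steps.bwd (nat_lit 1) (Steps.bwd (nat_lit 4) (Steps.fwd (nat_lit 24576) (Steps.bwd (nat_lit 1) Steps.nil)))))))))))) (nat_lit 193) (nat_lit 11),
  Rule.mk (nat_lit 18) (nat_lit 179) (Steps.fwd (nat_lit 8192) (Steps.bwd (nat_lit 3) (Steps.bwd (nat_lit 4) (Steps.bwd (nat_lit 1) (Steps.bwd (nat_lit 2) (Steps.fwd (nat_lit 8192) (Steps.fwd (nat_lit 24576) (Steps.fwd (nat_lit 8192) (Steps.fwd (nat_lit 16384) (Steps.bwd (nat_lit 1) (Steps.fwd (nat_lit 16384) Steps.nil))))))))))) (nat_lit 192) (nat_lit 1),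
  Rule.mk (nat_lit 18) (nat_lit 179) (Steps.bwd (nat_lit 1) (Steps.bwd (nat_lit 3) (Steps.bwd (nat_lit 4) (Steps.fwd (nat_lit 8192) (Steps.fwd (nat_lit 24576) (Steps.fwd (nat_lit 8192) (Steps.bwd (nat_lit 2) (Steps.fwd (nat_lit 8192) (Steps.bwd (nat_lit 3) (Steps.bwd (nat_lit 1) (Steps.bwd (nat_lit 3) Steps.nil))))))))))) (nat_lit 192) (nat_lit 1),
  Rule.mk (nat_lit 17) (nat_lit 179) (Steps.bwd (nat_lit 2) (Steps.fwd (nat_lit 8192) (Steps.fwd (nat_lit 24576) (Steps.fwd (nat_lit 8192) (Steps.fwd (nat_lit 16384) (Steps.fwd (nat_lit 8192) (Steps.fwd (nat_lit 16384) (Steps.fwd (nat_lit 8192) (Steps.bwd (nat_lit 4) (Steps.fwd (nat_lit 24576) (Steps.fwd (nat_lit 8192) Steps.nil))))))))))) (nat_lit 193) (nat_lit 0),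
  Rule.mk (nat_lit 0) (nat_lit 194) (Steps.bwd (nat_lit 17) (Steps.bwd (nat_lit 2) (Steps.fwd (nat_lit 8192) (Steps.fwd (nat_lit 24576) (Steps.fwd (nat_lit 8192) (Steps.fwd (nat_lit 16384) (Steps.bwd (nat_lit 1) (Steps.fwd (nat_lit 16384) (Steps.bwd (nat_lit 1) (Steps.fwd (nat_lit 32768) (Steps.fwd (nat_lit 24576) (Steps.fwd (nat_lit 8192) Steps.nil)))))))))))) (nat_lit 193) (nat_lit 11),
  Rule.mk (nat_lit 0) (nat_lit 194) (Steps.fwd (nat_lit 8192) (Steps.bwd (nat_lit 2) (Steps.fwd (nat_lit 8192) (Steps.fwd (nat_lit 24576) (Steps.fwd (nat_lit 8192) (Steps.fwd (nat_lit 16384) (Steps.fwd (nat_lit 8192) (Steps.fwd (nat_lit 16384) (Steps.fwd (nat_lit 8192) (Steps.bwd (nat_lit 4) (Steps.fwd (nat_lit 24576) (Steps.fwd (nat_lit 155648) Steps.nil)))))))))))) (nat_lit 194) (nat_lit 1),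
  Rule.mk (nat_lit 0) (nat_lit 194) (Steps.bwd (nat_lit 20) (Steps.fwd (nat_lit 8192) (Steps.bwd (nat_lit 2) (Steps.fwd (nat_lit 8192) (Steps.bwd (nat_lit 2) (Steps.fwd (nat_lit 8192) (Steps.fwd (nat_lit 16384) (Steps.fwd (nat_lit 8192) (Steps.fwd (nat_lit 16384) (Steps.bwd (nat_lit 1) (Steps.fwd (nat_lit 32768) (Steps.fwd (nat_lit 24576) Steps.nil)))))))))))) (nat_lit 194) (nat_lit 0),
  Rule.mk (nat_lit 0) (nat_lit 194) (Steps.bwd (nat_lit 20) (Steps.bwd (nat_lit 1) (Steps.bwd (nat_lit 2) (Steps.fwd (nat_lit 8192) (Steps.fwd (nat_lit 24576) (Steps.fwd (nat_lit 8192) (Steps.fwd (nat_lit 16384) (Steps.bwd (nat_lit 1) (Steps.fwd (nat_lit 16384) (Steps.bwd (nat_lit 1) (Steps.fwd (nat_lit 32768) (Steps.fwd (nat_lit 24576) Steps.nil)))))))))))) (nat_lit 194) (nat_lit 0),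
  Rule.mk (nat_lit 20) (nat_lit 179) (Steps.fwd (nat_lit 8192) (Steps.fwd (nat_lit 24576) (Steps.fwd (nat_lit 8192) (Steps.bwd (nat_lit 2) (Steps.fwd (nat_lit 8192) (Steps.bwd (nat_lit 3) (Steps.bwd (nat_lit 1) (Steps.bwd (nat_lit 3) (Steps.fwd (nat_lit 8192) (Steps.fwd (nat_lit 32768) (Steps.fwd (nat_lit 24576) Steps.nil))))))))))) (nat_lit 194) (nat_lit 1),
  Rule.mk (nat_lit 19) (nat_lit 179) (Steps.bwd (nat_lit 3) (Steps.bwd (nat_lit 4) (Steps.bwd (nat_lit 1) (Steps.bwd (nat_lit 2) (Steps.fwd (nat_lit 8192) (Steps.fwd (nat_lit 24576) (Steps.fwd (nat_lit 8192) (Steps.fwd (nat_lit 16384) (Steps.bwd (nat_lit 1) (Steps.fwd (nat_lit 16384) (Steps.bwd (nat_lit 1) Steps.nil))))))))))) (nat_lit 195) (nat_lit 0),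
  Rule.mk (nat_lit 19) (nat_lit 179) (Steps.bwd (nat_lit 3) (Steps.bwd (nat_lit 4) (Steps.fwd (nat_lit 8192) (Steps.fwd (nat_lit 24576) (Steps.fwd (nat_lit 8192) (Steps.bwd (nat_lit 2) (Steps.fwd (nat_lit 8192) (Steps.bwd (nat_lit 3) (Steps.bwd (nat_lit 1) (Steps.bwd (nat_lit 3) (Steps.fwd (nat_lit 8192) Steps.nil))))))))))) (nat_lit 195) (nat_lit 0),
  Rule.mk (nat_lit 2) (nat_lit 104) (Steps.bwd (nat_lit 10) (Steps.fwd (nat_lit 16384) (Steps.bwd (nat_lit 6) (Steps.bwd (nat_lit 11) (Steps.bwd (nat_lit 12) (Steps.bwd (nat_lit 14) Steps.nil)))))) (nat_lit 180) (nat_lit 1),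
  Rule.mk (nat_lit 1) (nat_lit 134) (Steps.bwd (nat_lit 10) (Steps.fwd (nat_lit 8192) (Steps.bwd (nat_lit 4) (Steps.fwd (nat_lit 40960) (Steps.fwd (nat_lit 65536) (Steps.bwd (nat_lit 9) (Steps.fwd (nat_lit 90112) (Steps.bwd (nat_lit 14) Steps.nil)))))))) (nat_lit 158) (nat_lit 1),
  Rule.mk (nat_lit 16) (nat_lit 179) (Steps.bwd (nat_lit 1) (Steps.fwd (nat_lit 16384) (Steps.fwd (nat_lit 8192) (Steps.bwd (nat_lit 3) (Steps.bwd (nat_lit 1) (Steps.bwd (nat_lit 3) (Steps.fwd (nat_lit 8192) (Steps.bwd (nat_lit 2) (Steps.bwd (nat_lit 4) (Steps.bwd (nat_lit 1) (Steps.fwd (nat_lit 24576) Steps.nil))))))))))) (nat_lit 190) (nat_lit 1),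
  Rule.mk (nat_lit 18) (nat_lit 179) (Steps.bwd (nat_lit 1) (Steps.bwd (nat_lit 3) (Steps.fwd (nat_lit 32768) (Steps.bwd (nat_lit 1) (Steps.fwd (nat_lit 24576) (Steps.bwd (nat_lit 1) (Steps.bwd (nat_lit 2) (Steps.bwd (nat_lit 1) (Steps.fwd (nat_lit 16384) (Steps.fwd (nat_lit 8192) (Steps.bwd (nat_lit 3) Steps.nil))))))))))) (nat_lit 192) (nat_lit 1),
  Rule.mk (nat_lit 17) (nat_lit 179) (Steps.fwd (nat_lit 24576) (Steps.bwd (nat_lit 1) (Steps.bwd (nat_lit 2) (Steps.fwd (nat_lit 8192) (Steps.fwd (nat_lit 16384) (Steps.fwd (nat_lit 8192) (Steps.fwd (nat_lit 16384) (Steps.fwd (nat_lit 8192) (Steps.bwd (nat_lit 4) (Steps.bwd (nat_lit 2) (Steps.bwd (nat_lit 1) Steps.nil))))))))))) (nat_lit 193) (nat_lit 0),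
  Rule.mk (nat_lit 17) (nat_lit 179) (Steps.fwd (nat_lit 24576) (Steps.bwd (nat_lit 1) (Steps.bwd (nat_lit 2) (Steps.bwd (nat_lit 1) (Steps.fwd (nat_lit 16384) (Steps.fwd (nat_lit 8192) (Steps.bwd (nat_lit 3) (Steps.bwd (nat_lit 1) (Steps.fwd (nat_lit 32768) (Steps.fwd (nat_lit 24576) (Steps.fwd (nat_lit 8192) Steps.nil))))))))))) (nat_lit 193) (nat_lit 0),
  Rule.mk (nat_lit 0) (nat_lit 194) (Steps.bwd (nat_lit 20) (Steps.bwd (nat_lit 1) (Steps.fwd (nat_lit 24576) (Steps.bwd (nat_lit 1) (Steps.bwd (nat_lit 2) (Steps.bwd (nat_lit 1) (Steps.fwd (nat_lit 16384) (Steps.fwd (nat_lit 8192) (Steps.bwd (nat_lit 3) (Steps.bwd (nat_lit 1) (Steps.fwd (nat_lit 32768) (Steps.fwd (nat_lit 24576) Steps.nil)))))))))))) (nat_lit 194) (nat_lit 0),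
  Rule.mk (nat_lit 19) (nat_lit 179) (Steps.bwd (nat_lit 3) (Steps.fwd (nat_lit 32768) (Steps.bwd (nat_lit 1) (Steps.fwd (nat_lit 24576) (Steps.bwd (nat_lit 1) (Steps.bwd (nat_lit 2) (Steps.bwd (nat_lit 1) (Steps.fwd (nat_lit 16384) (Steps.fwd (nat_lit 8192) (Steps.bwd (nat_lit 3) (Steps.bwd (nat_lit 1) Steps.nil))))))))))) (nat_lit 195) (nat_lit 0),
  Rule.mk (nat_lit 16) (nat_lit 179) (Steps.bwd (nat_lit 1) (Steps.fwd (nat_lit 16384) (Steps.bwd (nat_lit 1) (Steps.bwd (nat_lit 3) (Steps.fwd (nat_lit 8192) (Steps.fwd (nat_lit 16384) (Steps.fwd (nat_lit 8192) (Steps.fwd (nat_lit 24576) (Steps.fwd (nat_lit 32768) (Steps.bwd (nat_lit 1) (Steps.bwd (nat_lit 2) Steps.nil))))))))))) (nat_lit 190) (nat_lit 1),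
  Rule.mk (nat_lit 0) (nat_lit 194) (Steps.bwd (nat_lit 16) (Steps.bwd (nat_lit 1) (Steps.fwd (nat_lit 16384) (Steps.fwd (nat_lit 8192) (Steps.fwd (nat_lit 16384) (Steps.fwd (nat_lit 8192) (Steps.bwd (nat_lit 3) (Steps.bwd (nat_lit 1) (Steps.bwd (nat_lit 2) (Steps.fwd (nat_lit 32768) (Steps.fwd (nat_lit 8192) (Steps.bwd (nat_lit 2) Steps.nil)))))))))))) (nat_lit 190) (nat_lit 0),
  Rule.mk (nat_lit 16) (nat_lit 179) (Steps.bwd (nat_lit 1) (Steps.bwd (nat_lit 3) (Steps.fwd (nat_lit 8192) (Steps.fwd (nat_lit 16384) (Steps.fwd (nat_lit 8192) (Steps.fwd (nat_lit 16384) (Steps.fwd (nat_lit 8192) (Steps.fwd (nat_lit 24576) (Steps.bwd (nat_lit 4) (Steps.bwd (nat_lit 1) (Steps.bwd (nat_lit 2) Steps.nil))))))))))) (nat_lit 190) (nat_lit 1),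
  Rule.mk (nat_lit 16) (nat_lit 179) (Steps.bwd (nat_lit 1) (Steps.fwd (nat_lit 16384) (Steps.bwd (nat_lit 1) (Steps.fwd (nat_lit 16384) (Steps.bwd (nat_lit 1) (Steps.bwd (nat_lit 3) (Steps.bwd (nat_lit 1) (Steps.bwd (nat_lit 2) (Steps.bwd (nat_lit 4) (Steps.bwd (nat_lit 1) (Steps.fwd (nat_lit 24576) Steps.nil))))))))))) (nat_lit 190) (nat_lit 1),
  Rule.mk (nat_lit 15) (nat_lit 179) (Steps.fwd (nat_lit 16384) (Steps.bwd (nat_lit 1) (Steps.bwd (nat_lit 4) (Steps.bwd (nat_lit 3) (Steps.bwd (nat_lit 1) (Steps.fwd (nat_lit 24576) (Steps.bwd (nat_lit 1) (Steps.bwd (nat_lit 2) (Steps.bwd (nat_lit 1) (Steps.bwd (nat_lit 2) (Steps.fwd (nat_lit 8192) Steps.nil))))))))))) (nat_lit 191) (nat_lit 0),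
  Rule.mk (nat_lit 18) (nat_lit 179) (Steps.fwd (nat_lit 8192) (Steps.bwd (nat_lit 3) (Steps.bwd (nat_lit 4) (Steps.bwd (nat_lit 1) (Steps.bwd (nat_lit 2) (Steps.bwd (nat_lit 1) (Steps.bwd (nat_lit 2) (Steps.fwd (nat_lit 8192) (Steps.fwd (nat_lit 16384) (Steps.fwd (nat_lit 8192) (Steps.fwd (nat_lit 16384) Steps.nil))))))))))) (nat_lit 192) (nat_lit 1),
  Rule.mk (nat_lit 18) (nat_lit 179) (Steps.fwd (nat_lit 8192) (Steps.fwd (nat_lit 16384) (Steps.bwd (nat_lit 4) (Steps.bwd (nat_lit 1) (Steps.bwd (nat_lit 2) (Steps.fwd (nat_lit 8192) (Steps.fwd (nat_lit 24576) (Steps.fwd (nat_lit 8192) (Steps.bwd (nat_lit 3) (Steps.fwd (nat_lit 8192) (Steps.bwd (nat_lit 3) Steps.nil))))))))))) (nat_lit 192) (nat_lit 1),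
  Rule.mk (nat_lit 17) (nat_lit 179) (Steps.fwd (nat_lit 24576) (Steps.bwd (nat_lit 1) (Steps.bwd (nat_lit 2) (Steps.bwd (nat_lit 1) (Steps.fwd (nat_lit 16384) (Steps.bwd (nat_lit 1) (Steps.fwd (nat_lit 16384) (Steps.bwd (nat_lit 1) (Steps.bwd (nat_lit 4) (Steps.bwd (nat_lit 2) (Steps.fwd (nat_lit 8192) Steps.nil))))))))))) (nat_lit 193) (nat_lit 0),
  Rule.mk (nat_lit 0) (nat_lit 194) (Steps.bwd (nat_lit 20) (Steps.bwd (nat_lit 1) (Steps.fwd (nat_lit 24576) (Steps.bwd (nat_lit 1) (Steps.bwd (nat_lit 2) (Steps.bwd (nat_lit 1) (Steps.fwd (nat_lit 16384) (Steps.bwd (nat_lit 1) (Steps.fwd (nat_lit 16384) (Steps.bwd (nat_lit 1) (Steps.bwd (nat_lit 4) (Steps.bwd (nat_lit 2) Steps.nil)))))))))))) (nat_lit 194) (nat_lit 0),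
  Rule.mk (nat_lit 20) (nat_lit 179) (Steps.bwd (nat_lit 1) (Steps.bwd (nat_lit 2) (Steps.fwd (nat_lit 8192) (Steps.fwd (nat_lit 24576) (Steps.fwd (nat_lit 8192) (Steps.bwd (nat_lit 3) (Steps.fwd (nat_lit 8192) (Steps.bwd (nat_lit 3) (Steps.bwd (nat_lit 1) (Steps.fwd (nat_lit 32768) (Steps.bwd (nat_lit 2) Steps.nil))))))))))) (nat_lit 194) (nat_lit 1),
  Rule.mk (nat_lit 19) (nat_lit 179) (Steps.bwd (nat_lit 3) (Steps.bwd (nat_lit 4) (Steps.bwd (nat_lit 1) (Steps.bwd (nat_lit 2) (Steps.bwd (nat_lit 1) (Steps.bwd (nat_lit 2) (Steps.fwd (nat_lit 8192) (Steps.fwd (nat_lit 16384) (Steps.fwd (nat_lit 8192) (Steps.fwd (nat_lit 16384) (Steps.bwd (nat_lit 1) Steps.nil))))))))))) (nat_lit 195) (nat_lit 0),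
  Rule.mk (nat_lit 19) (nat_lit 179) (Steps.fwd (nat_lit 16384) (Steps.bwd (nat_lit 4) (Steps.bwd (nat_lit 1) (Steps.bwd (nat_lit 2) (Steps.fwd (nat_lit 8192) (Steps.fwd (nat_lit 24576) (Steps.fwd (nat_lit 8192) (Steps.bwd (nat_lit 3) (Steps.fwd (nat_lit 8192) (Steps.bwd (nat_lit 3) (Steps.bwd (nat_lit 1) Steps.nil))))))))))) (nat_lit 195) (nat_lit 0),
  Rule.mk (nat_lit 0) (nat_lit 194) (Steps.bwd (nat_lit 15) (Steps.fwd (nat_lit 16384) (Steps.fwd (nat_lit 8192) (Steps.bwd (nat_lit 4) (Steps.fwd (nat_lit 16384) (Steps.fwd (nat_lit 8192) (Steps.fwd (nat_lit 24576) (Steps.fwd (nat_lit 8192) (Steps.bwd (nat_lit 2) (Steps.fwd (nat_lit 8192) (Steps.bwd (nat_lit 2) (Steps.fwd (nat_lit 8192) Steps.nil)))))))))))) (nat_lit 191) (nat_lit 11),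
  Rule.mk (nat_lit 0) (nat_lit 194) (Steps.bwd (nat_lit 17) (Steps.bwd (nat_lit 2) (Steps.bwd (nat_lit 1) (Steps.fwd (nat_lit 24576) (Steps.bwd (nat_lit 1) (Steps.fwd (nat_lit 16384) (Steps.bwd (nat_lit 1) (Steps.fwd (nat_lit 16384) (Steps.bwd (nat_lit 1) (Steps.bwd (nat_lit 4) (Steps.fwd (nat_lit 24576) (Steps.bwd (nat_lit 1) Steps.nil)))))))))))) (nat_lit 193) (nat_lit 11),
  Rule.mk (nat_lit 20) (nat_lit 179) (Steps.fwd (nat_lit 8192) (Steps.bwd (nat_lit 2) (Steps.bwd (nat_lit 1) (Steps.fwd (nat_lit 24576) (Steps.bwd (nat_lit 1) (Steps.fwd (nat_lit 16384) (Steps.bwd (nat_lit 1) (Steps.fwd (nat_lit 16384) (Steps.bwd (nat_lit 1) (Steps.bwd (nat_lit 4) (Steps.fwd (nat_lit 24576) Steps.nil))))))))))) (nat_lit 194) (nat_lit 1),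
  Rule.mk (nat_lit 19) (nat_lit 179) (Steps.bwd (nat_lit 3) (Steps.fwd (nat_lit 32768) (Steps.fwd (nat_lit 8192) (Steps.bwd (nat_lit 2) (Steps.bwd (nat_lit 1) (Steps.fwd (nat_lit 24576) (Steps.bwd (nat_lit 1) (Steps.fwd (nat_lit 16384) (Steps.bwd (nat_lit 1) (Steps.fwd (nat_lit 16384) (Steps.bwd (nat_lit 1) Steps.nil))))))))))) (nat_lit 195) (nat_lit 0),
  Rule.mk (nat_lit 16) (nat_lit 179) (Steps.fwd (nat_lit 8192) (Steps.bwd (nat_lit 3) (Steps.fwd (nat_lit 8192) (Steps.fwd (nat_lit 16384) (Steps.bwd (nat_lit 1) (Steps.fwd (nat_lit 16384) (Steps.fwd (nat_lit 8192) (Steps.bwd (nat_lit 2) (Steps.fwd (nat_lit 32768) (Steps.fwd (nat_lit 8192) (Steps.bwd (nat_lit 2) Steps.nil))))))))))) (nat_lit 190) (nat_lit 1),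
  Rule.mk (nat_lit 16) (nat_lit 179) (Steps.fwd (nat_lit 8192) (Steps.fwd (nat_lit 16384) (Steps.fwd (nat_lit 8192) (Steps.fwd (nat_lit 16384) (Steps.fwd (nat_lit 8192) (Steps.fwd (nat_lit 16384) (Steps.bwd (nat_lit 1) (Steps.fwd (nat_lit 24576) (Steps.bwd (nat_lit 4) (Steps.bwd (nat_lit 1) (Steps.bwd (nat_lit 2) Steps.nil))))))))))) (nat_lit 190) (nat_lit 1),
  Rule.mk (nat_lit 0) (nat_lit 194) (Steps.bwd (nat_lit 3) (Steps.fwd (nat_lit 8192) (Steps.fwd (nat_lit 32768) (Steps.bwd (nat_lit 3) (Steps.bwd (nat_lit 1) (Steps.fwd (nat_lit 24576) (Steps.bwd (nat_lit 1) (Steps.bwd (nat_lit 2) (Steps.fwd (nat_lit 8192) (Steps.fwd (nat_lit 24576) (Steps.bwd (nat_lit 1) (Steps.fwd (nat_lit 131072) Steps.nil)))))))))))) (nat_lit 191) (nat_lit 0),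
  Rule.mk (nat_lit 0) (nat_lit 194) (Steps.fwd (nat_lit 8192) (Steps.fwd (nat_lit 16384) (Steps.bwd (nat_lit 4) (Steps.bwd (nat_lit 1) (Steps.fwd (nat_lit 24576) (Steps.bwd (nat_lit 1) (Steps.bwd (nat_lit 2) (Steps.fwd (nat_lit 8192) (Steps.bwd (nat_lit 3) (Steps.bwd (nat_lit 1) (Steps.fwd (nat_lit 16384) (Steps.fwd (nat_lit 139264) Steps.nil)))))))))))) (nat_lit 192) (nat_lit 1)]
noncomputable def R_96 : List (Rule) := [Rule.mk (nat_lit 0) (nat_lit 194) (Steps.fwd (nat_lit 8192) (Steps.fwd (nat_lit 16384) (Steps.bwd (nat_lit 4) (Steps.bwd (nat_lit 1) (Steps.bwd (nat_lit 2) (Steps.fwd (nat_lit 8192) (Steps.fwd (nat_lit 24576) (Steps.bwd (nat_lit 1) (Steps.fwd (nat_lit 16384) (Steps.bwd (nat_lit 1) (Steps.bwd (nat_lit 3) (Steps.fwd (nat_lit 139264) Steps.nil)))))))))))) (nat_lit 192) (nat_lit 1),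
  Rule.mk (nat_lit 17) (nat_lit 179) (Steps.bwd (nat_lit 2) (Steps.fwd (nat_lit 8192) (Steps.fwd (nat_lit 24576) (Steps.bwd (nat_lit 1) (Steps.fwd (nat_lit 16384) (Steps.bwd (nat_lit 1) (Steps.bwd (nat_lit 3) (Steps.bwd (nat_lit 1) (Steps.bwd (nat_lit 4) (Steps.fwd (nat_lit 24576) (Steps.bwd (nat_lit 1) Steps.nil))))))))))) (nat_lit 193) (nat_lit 0),
  Rule.mk (nat_lit 2) (nat_lit 179) (Steps.bwd (nat_lit 20) (Steps.bwd (nat_lit 1) (Steps.fwd (nat_lit 24576) (Steps.bwd (nat_lit 1) (Steps.bwd (nat_lit 2) (Steps.fwd (nat_lit 8192) (Steps.bwd (nat_lit 3) (Steps.bwd (nat_lit 1) (Steps.fwd (nat_lit 16384) (Steps.bwd (nat_lit 1) (Steps.fwd (nat_lit 32768) Steps.nil))))))))))) (nat_lit 194) (nat_lit 0),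
  Rule.mk (nat_lit 20) (nat_lit 179) (Steps.bwd (nat_lit 1) (Steps.bwd (nat_lit 2) (Steps.fwd (nat_lit 8192) (Steps.fwd (nat_lit 24576) (Steps.bwd (nat_lit 1) (Steps.fwd (nat_lit 16384) (Steps.bwd (nat_lit 1) (Steps.bwd (nat_lit 3) (Steps.bwd (nat_lit 1) (Steps.bwd (nat_lit 4) (Steps.fwd (nat_lit 24576) Steps.nil))))))))))) (nat_lit 194) (nat_lit 1),
  Rule.mk (nat_lit 19) (nat_lit 179) (Steps.fwd (nat_lit 16384) (Steps.bwd (nat_lit 4) (Steps.bwd (nat_lit 1) (Steps.fwd (nat_lit 24576) (Steps.bwd (nat_lit 1) (Steps.bwd (nat_lit 2) (Steps.fwd (nat_lit 8192) (Steps.bwd (nat_lit 3) (Steps.bwd (nat_lit 1) (Steps.fwd (nat_lit 16384) (Steps.bwd (nat_lit 1) Steps.nil))))))))))) (nat_lit 195) (nat_lit 0),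
  Rule.mk (nat_lit 0) (nat_lit 194) (Steps.bwd (nat_lit 20) (Steps.fwd (nat_lit 8192) (Steps.fwd (nat_lit 24576) (Steps.fwd (nat_lit 8192) (Steps.bwd (nat_lit 2) (Steps.fwd (nat_lit 8192) (Steps.bwd (nat_lit 3) (Steps.bwd (nat_lit 1) (Steps.fwd (nat_lit 16384) (Steps.fwd (nat_lit 8192) (Steps.fwd (nat_lit 32768) (Steps.bwd (nat_lit 2) Steps.nil)))))))))))) (nat_lit 194) (nat_lit 0),
  Rule.mk (nat_lit 10) (nat_lit 104) (Steps.fwd (nat_lit 16384) (Steps.bwd (nat_lit 6) (Steps.fwd (nat_lit 90112) (Steps.fwd (nat_lit 98304) (Steps.bwd (nat_lit 14) (Steps.bwd (nat_lit 2) Steps.nil)))))) (nat_lit 180) (nat_lit 2),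
  Rule.mk (nat_lit 14) (nat_lit 119) (Steps.fwd (nat_lit 16384) (Steps.bwd (nat_lit 14) (Steps.fwd (nat_lit 98304) (Steps.bwd (nat_lit 7) (Steps.fwd (nat_lit 49152) (Steps.fwd (nat_lit 40960) (Steps.bwd (nat_lit 2) Steps.nil))))))) (nat_lit 189) (nat_lit 7),
  Rule.mk (nat_lit 13) (nat_lit 134) (Steps.fwd (nat_lit 16384) (Steps.bwd (nat_lit 6) (Steps.fwd (nat_lit 81920) (Steps.fwd (nat_lit 90112) (Steps.fwd (nat_lit 98304) (Steps.bwd (nat_lit 13) (Steps.bwd (nat_lit 14) (Steps.bwd (nat_lit 2) Steps.nil)))))))) (nat_lit 186) (nat_lit 2),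
  Rule.mk (nat_lit 5) (nat_lit 149) (Steps.fwd (nat_lit 16384) (Steps.bwd (nat_lit 4) (Steps.fwd (nat_lit 40960) (Steps.bwd (nat_lit 8) (Steps.fwd (nat_lit 73728) (Steps.fwd (nat_lit 98304) (Steps.bwd (nat_lit 13) (Steps.bwd (nat_lit 14) (Steps.bwd (nat_lit 2) Steps.nil))))))))) (nat_lit 170) (nat_lit 2),
  Rule.mk (nat_lit 6) (nat_lit 164) (Steps.fwd (nat_lit 16384) (Steps.bwd (nat_lit 5) (Steps.fwd (nat_lit 49152) (Steps.bwd (nat_lit 9) (Steps.fwd (nat_lit 81920) (Steps.fwd (nat_lit 90112) (Steps.fwd (nat_lit 98304) (Steps.bwd (nat_lit 13) (Steps.bwd (nat_lit 14) (Steps.bwd (nat_lit 2) Steps.nil)))))))))) (nat_lit 172) (nat_lit 2),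
  Rule.mk (nat_lit 11) (nat_lit 164) (Steps.fwd (nat_lit 16384) (Steps.bwd (nat_lit 4) (Steps.bwd (nat_lit 5) (Steps.bwd (nat_lit 8) (Steps.bwd (nat_lit 9) (Steps.fwd (nat_lit 81920) (Steps.fwd (nat_lit 90112) (Steps.fwd (nat_lit 98304) (Steps.bwd (nat_lit 14) (Steps.bwd (nat_lit 2) Steps.nil)))))))))) (nat_lit 182) (nat_lit 2),
  Rule.mk (nat_lit 1) (nat_lit 179) (Steps.bwd (nat_lit 15) (Steps.bwd (nat_lit 3) (Steps.fwd (nat_lit 8192) (Steps.fwd (nat_lit 32768) (Steps.bwd (nat_lit 3) (Steps.fwd (nat_lit 8192) (Steps.fwd (nat_lit 24576) (Steps.fwd (nat_lit 8192) (Steps.fwd (nat_lit 24576) (Steps.bwd (nat_lit 1) (Steps.bwd (nat_lit 2) Steps.nil))))))))))) (nat_lit 191) (nat_lit 11),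
  Rule.mk (nat_lit 17) (nat_lit 179) (Steps.fwd (nat_lit 24576) (Steps.bwd (nat_lit 1) (Steps.bwd (nat_lit 2) (Steps.fwd (nat_lit 8192) (Steps.bwd (nat_lit 3) (Steps.bwd (nat_lit 1) (Steps.fwd (nat_lit 16384) (Steps.bwd (nat_lit 1) (Steps.fwd (nat_lit 32768) (Steps.bwd (nat_lit 2) (Steps.bwd (nat_lit 1) Steps.nil))))))))))) (nat_lit 193) (nat_lit 0),
  Rule.mk (nat_lit 0) (nat_lit 554) (Steps.fwd (nat_lit 8192) (Steps.fwd (nat_lit 16384) (Steps.fwd (nat_lit 8192) (Steps.bwd (nat_lit 3) (Steps.bwd (nat_lit 1) (Steps.fwd (nat_lit 24576) (Steps.bwd (nat_lit 1) (Steps.bwd (nat_lit 3) (Steps.bwd (nat_lit 1) (Steps.bwd (nat_lit 3) (Steps.bwd (nat_lit 1) (Steps.bwd (nat_lit 2) (Steps.fwd (nat_lit 8192) (Steps.fwd (nat_lit 24576) (Steps.bwd (nat_lit 1) (Steps.fwd (nat_lit 16384) (Steps.fwd (nat_lit 8192) (Steps.bwd (nat_lit 2) (Steps.fwd (nat_lit 8192) (Steps.bwd (nat_lit 2) (Steps.fwd (nat_lit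 8192) (Steps.fwd (nat_lit 16384) (Steps.bwd (nat_lit 1) (Steps.bwd (nat_lit 2) (Steps.fwd (nat_lit 8192) (Steps.bwd (nat_lit 2) (Steps.bwd (nat_lit 1) (Steps.bwd (nat_lit 3) (Steps.fwd (nat_lit 8192) (Steps.fwd (nat_lit 24576) (Steps.fwd (nat_lit 8192) (Steps.bwd (nat_lit 3) (Steps.bwd (nat_lit 1) (Steps.fwd (nat_lit 16384) (Steps.bwd (nat_lit 1) (Steps.bwd (nat_lit 2) Steps.nil)))))))))))))))))))))))))))))))))))) (nat_lit 12) (nat_lit 26),
  Rule.mk (nat_lit 15) (nat_lit 179) (Steps.fwd (nat_lit 16384) (Steps.bwd (nat_lit 1) (Steps.bwd (nat_lit 4) (Steps.bwd (nat_lit 3) (Steps.bwd (nat_lit 1) (Steps.fwd (nat_lit 24576) (Steps.fwd (nat_lit 8192) (Steps.fwd (nat_lit 24576) (Steps.fwd (nat_lit 8192) (Steps.fwd (nat_lit 24576) (Steps.fwd (nat_lit 8192) Steps.nil))))))))))) (nat_lit 191) (nat_lit 0),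
  Rule.mk (nat_lit 18) (nat_lit 179) (Steps.fwd (nat_lit 8192) (Steps.bwd (nat_lit 3) (Steps.fwd (nat_lit 32768) (Steps.fwd (nat_lit 8192) (Steps.bwd (nat_lit 2) (Steps.bwd (nat_lit 1) (Steps.fwd (nat_lit 24576) (Steps.bwd (nat_lit 1) (Steps.fwd (nat_lit 16384) (Steps.bwd (nat_lit 1) (Steps.fwd (nat_lit 16384) Steps.nil))))))))))) (nat_lit 192) (nat_lit 1),
  Rule.mk (nat_lit 0) (nat_lit 194) (Steps.bwd (nat_lit 17) (Steps.bwd (nat_lit 2) (Steps.bwd (nat_lit 1) (Steps.bwd (nat_lit 2) (Steps.fwd (nat_lit 8192) (Steps.fwd (nat_lit 16384) (Steps.fwd (nat_lit 8192) (Steps.bwd (nat_lit 3) (Steps.bwd (nat_lit 1) (Steps.fwd (nat_lit 32768) (Steps.fwd (nat_lit 24576) (Steps.bwd (nat_lit 1) Steps.nil)))))))))))) (nat_lit 193) (nat_lit 11),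
  Rule.mk (nat_lit 18) (nat_lit 179) (Steps.bwd (nat_lit 1) (Steps.fwd (nat_lit 16384) (Steps.bwd (nat_lit 4) (Steps.bwd (nat_lit 1) (Steps.fwd (nat_lit 24576) (Steps.fwd (nat_lit 8192) (Steps.fwd (nat_lit 24576) (Steps.fwd (nat_lit 8192) (Steps.fwd (nat_lit 16384) (Steps.fwd (nat_lit 8192) (Steps.bwd (nat_lit 3) Steps.nil))))))))))) (nat_lit 192) (nat_lit 1),
  Rule.mk (nat_lit 0) (nat_lit 194) (Steps.bwd (nat_lit 18) (Steps.bwd (nat_lit 1) (Steps.bwd (nat_lit 3) (Steps.bwd (nat_lit 4) (Steps.bwd (nat_lit 1) (Steps.bwd (nat_lit 2) (Steps.fwd (nat_lit 8192) (Steps.bwd (nat_lit 2) (Steps.fwd (nat_lit 8192) (Steps.bwd (nat_lit 3) (Steps.fwd (nat_lit 8192) (Steps.fwd (nat_lit 16384) Steps.nil)))))))))))) (nat_lit 192) (nat_lit 0),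
  Rule.mk (nat_lit 0) (nat_lit 194) (Steps.bwd (nat_lit 1) (Steps.fwd (nat_lit 16384) (Steps.fwd (nat_lit 32768) (Steps.bwd (nat_lit 1) (Steps.bwd (nat_lit 2) (Steps.bwd (nat_lit 1) (Steps.bwd (nat_lit 2) (Steps.fwd (nat_lit 8192) (Steps.fwd (nat_lit 16384) (Steps.fwd (nat_lit 8192) (Steps.bwd (nat_lit 3) (Steps.fwd (nat_lit 139264) Steps.nil)))))))))))) (nat_lit 192) (nat_lit 1),
  Rule.mk (nat_lit 0) (nat_lit 194) (Steps.bwd (nat_lit 19) (Steps.bwd (nat_lit 3) (Steps.bwd (nat_lit 4) (Steps.bwd (nat_lit 1) (Steps.bwd (nat_lit 2) (Steps.fwd (nat_lit 8192) (Steps.bwd (nat_lit 2) (Steps.fwd (nat_lit 8192) (Steps.bwd (nat_lit 3) (Steps.fwd (nat_lit 8192) (Steps.fwd (nat_lit 16384) (Steps.bwd (nat_lit 1) Steps.nil)))))))))))) (nat_lit 195) (nat_lit 11),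
  Rule.mk (nat_lit 0) (nat_lit 194) (Steps.bwd (nat_lit 20) (Steps.fwd (nat_lit 8192) (Steps.fwd (nat_lit 24576) (Steps.bwd (nat_lit 1) (Steps.bwd (nat_lit 2) (Steps.bwd (nat_lit 1) (Steps.fwd (nat_lit 16384) (Steps.fwd (nat_lit 8192) (Steps.fwd (nat_lit 16384) (Steps.fwd (nat_lit 8192) (Steps.bwd (nat_lit 4) (Steps.bwd (nat_lit 2) Steps.nil)))))))))))) (nat_lit 194) (nat_lit 0),
  Rule.mk (nat_lit 19) (nat_lit 179) (Steps.bwd (nat_lit 3) (Steps.fwd (nat_lit 32768) (Steps.fwd (nat_lit 8192) (Steps.bwd (nat_lit 2) (Steps.bwd (nat_lit 1) (Steps.fwd (nat_lit 24576) (Steps.bwd (nat_lit 1) (Steps.fwd (nat_lit 16384) (Steps.bwd (nat_lit 1) (Steps.fwd (nat_lit 16384) (Steps.fwd (nat_lit 8192) Steps.nil))))))))))) (nat_lit 195) (nat_lit 0),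
  Rule.mk (nat_lit 19) (nat_lit 179) (Steps.bwd (nat_lit 3) (Steps.bwd (nat_lit 4) (Steps.fwd (nat_lit 8192) (Steps.fwd (nat_lit 24576) (Steps.bwd (nat_lit 1) (Steps.bwd (nat_lit 2) (Steps.bwd (nat_lit 1) (Steps.fwd (nat_lit 16384) (Steps.fwd (nat_lit 8192) (Steps.fwd (nat_lit 16384) (Steps.fwd (nat_lit 8192) Steps.nil))))))))))) (nat_lit 195) (nat_lit 0),
  Rule.mk (nat_lit 1) (nat_lit 179) (Steps.bwd (nat_lit 19) (Steps.fwd (nat_lit 16384) (Steps.fwd (nat_lit 32768) (Steps.fwd (nat_lit 8192) (Steps.bwd (nat_lit 2) (Steps.fwd (nat_lit 8192) (Steps.fwd (nat_lit 24576) (Steps.bwd (nat_lit 1) (Steps.fwd (nat_lit 16384) (Steps.bwd (nat_lit 1) (Steps.bwd (nat_lit 3) Steps.nil))))))))))) (nat_lit 195) (nat_lit 11),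
  Rule.mk (nat_lit 14) (nat_lit 89) (Steps.bwd (nat_lit 7) (Steps.fwd (nat_lit 32768) (Steps.fwd (nat_lit 8192) (Steps.fwd (nat_lit 73728) (Steps.bwd (nat_lit 1) Steps.nil))))) (nat_lit 157) (nat_lit 1),
  Rule.mk (nat_lit 7) (nat_lit 164) (Steps.bwd (nat_lit 1) (Steps.bwd (nat_lit 5) (Steps.fwd (nat_lit 49152) (Steps.bwd (nat_lit 9) (Steps.fwd (nat_lit 81920) (Steps.fwd (nat_lit 90112) (Steps.bwd (nat_lit 12) (Steps.fwd (nat_lit 106496) (Steps.bwd (nat_lit 14) (Steps.bwd (nat_lit 1) Steps.nil)))))))))) (nat_lit 152) (nat_lit 2),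
  Rule.mk (nat_lit 15) (nat_lit 179) (Steps.fwd (nat_lit 16384) (Steps.bwd (nat_lit 1) (Steps.bwd (nat_lit 4) (Steps.bwd (nat_lit 3) (Steps.fwd (nat_lit 8192) (Steps.fwd (nat_lit 24576) (Steps.bwd (nat_lit 1) (Steps.bwd (nat_lit 2) (Steps.bwd (nat_lit 1) (Steps.bwd (nat_lit 2) (Steps.bwd (nat_lit 1) Steps.nil))))))))))) (nat_lit 191) (nat_lit 0),
  Rule.mk (nat_lit 3) (nat_lit 179) (Steps.bwd (nat_lit 18) (Steps.fwd (nat_lit 8192) (Steps.bwd (nat_lit 3) (Steps.fwd (nat_lit 32768) (Steps.bwd (nat_lit 1) (Steps.bwd (nat_lit 2) (Steps.bwd (nat_lit 1) (Steps.fwd (nat_lit 24576) (Steps.bwd (nat_lit 1) (Steps.bwd (nat_lit 3) (Steps.bwd (nat_lit 1) Steps.nil))))))))))) (nat_lit 192) (nat_lit 0),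
  Rule.mk (nat_lit 2) (nat_lit 539) (Steps.bwd (nat_lit 1) (Steps.bwd (nat_lit 3) (Steps.bwd (nat_lit 1) (Steps.fwd (nat_lit 24576) (Steps.bwd (nat_lit 1) (Steps.fwd (nat_lit 16384) (Steps.fwd (nat_lit 8192) (Steps.fwd (nat_lit 16384) (Steps.bwd (nat_lit 1) (Steps.fwd (nat_lit 24576) (Steps.bwd (nat_lit 1) (Steps.bwd (nat_lit 3) (Steps.bwd (nat_lit 1) (Steps.fwd (nat_lit 16384) (Steps.fwd (nat_lit 8192) (Steps.bwd (nat_lit 2) (Steps.fwd (nat_lit 8192) (Steps.bwd (nat_lit 3) (Steps.bwd (nat_lit 1) (Steps.bwd (nat_lit 3) (Steps.bwd (nat_lit 1) (Steps.fwd (nat_lit 24576) (Steps.bwd (nat_lit 1) (Steps.bwd (nat_lit 2) (Steps.fwd (nat_lit 8192) (Steps.fwd (nat_lit 16384) (Steps.fwd (nat_lit 8192) (Steps.bwd (nat_lit 2) (Steps.bwd (nat_lit 1) (Steps.fwd (nat_lit 24576) (Steps.fwd (nat_lit 8192) (Steps.fwd (nat_lit 16384) (Steps.bwd (nat_lit 1) (Steps.bwd (nat_lit 2) (Steps.bwd (nat_lit 1) Steps.nil)))))))))))))))))))))))))))))))))))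 (nat_lit 12) (nat_lit 16),
  Rule.mk (nat_lit 0) (nat_lit 854) (Steps.bwd (nat_lit 1) (Steps.fwd (nat_lit 24576) (Steps.fwd (nat_lit 8192) (Steps.fwd (nat_lit 16384) (Steps.bwd (nat_lit 1) (Steps.fwd (nat_lit 24576) (Steps.bwd (nat_lit 1) (Steps.bwd (nat_lit 2) (Steps.bwd (nat_lit 1) (Steps.fwd (nat_lit 16384) (Steps.bwd (nat_lit 1) (Steps.fwd (nat_lit 24576) (Steps.bwd (nat_lit 1) (Steps.fwd (nat_lit 16384) (Steps.fwd (nat_lit 8192) (Steps.bwd (nat_lit 2) (Steps.bwd (nat_lit 1) (Steps.fwd (nat_lit 16384) (Steps.bwd (nat_lit 1) (Steps.fwd (nat_lit 24576) (Steps.bwd (nat_lit 1) (Steps.bwd (nat_lit 2) (Steps.fwd (nat_lit 8192) (Steps.bwd (nat_lit 3) (Steps.fwd (nat_lit 8192) (Steps.bwd (nat_lit 2) (Steps.bwd (nat_lit 1) (Steps.fwd (nat_lit 16384) (Steps.fwd (nat_lit 8192) (Steps.bwd (nat_lit 2) (Steps.fwd (nat_lit 8192) (Steps.fwd (nat_lit 16384) (Steps.bwd (nat_lit 1) (Steps.fwd (nat_lit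 24576) (Steps.bwd (nat_lit 1) (Steps.fwd (nat_lit 24576) (Steps.fwd (nat_lit 8192) (Steps.fwd (nat_lit 16384) (Steps.fwd (nat_lit 8192) (Steps.fwd (nat_lit 24576) (Steps.fwd (nat_lit 8192) (Steps.fwd (nat_lit 16384) (Steps.bwd (nat_lit 1) (Steps.bwd (nat_lit 2) (Steps.fwd (nat_lit 8192) (Steps.fwd (nat_lit 16384) (Steps.fwd (nat_lit 8192) (Steps.bwd (nat_lit 2) (Steps.bwd (nat_lit 1) (Steps.fwd (nat_lit 24576) (Steps.fwd (nat_lit 8192) (Steps.fwd (nat_lit 16384) (Steps.bwd (nat_lit 1) (Steps.bwd (nat_lit 2) (Steps.bwd (nat_lit 1) (Steps.bwd (nat_lit 3) Steps.nil)))))))))))))))))))))))))))))))))))))))))))))))))))))))) (nat_lit 10) (nat_lit 10),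
  Rule.mk (nat_lit 0) (nat_lit 194) (Steps.bwd (nat_lit 3) (Steps.bwd (nat_lit 1) (Steps.bwd (nat_lit 4) (Steps.bwd (nat_lit 3) (Steps.bwd (nat_lit 1) (Steps.bwd (nat_lit 2) (Steps.bwd (nat_lit 1) (Steps.bwd (nat_lit 2) (Steps.fwd (nat_lit 8192) (Steps.fwd (nat_lit 24576) (Steps.bwd (nat_lit 1) (Steps.fwd (nat_lit 131072) Steps.nil)))))))))))) (nat_lit 191) (nat_lit 0),
  Rule.mk (nat_lit 15) (nat_lit 179) (Steps.fwd (nat_lit 16384) (Steps.bwd (nat_lit 1) (Steps.bwd (nat_lit 4) (Steps.fwd (nat_lit 16384) (Steps.fwd (nat_lit 8192) (Steps.bwd (nat_lit 2) (Steps.bwd (nat_lit 1) (Steps.bwd (nat_lit 2) (Steps.bwd (nat_lit 1) (Steps.fwd (nat_lit 24576) (Steps.fwd (nat_lit 8192) Steps.nil))))))))))) (nat_lit 191) (nat_lit 0),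
  Rule.mk (nat_lit 15) (nat_lit 179) (Steps.bwd (nat_lit 3) (Steps.fwd (nat_lit 8192) (Steps.bwd (nat_lit 4) (Steps.fwd (nat_lit 16384) (Steps.bwd (nat_lit 1) (Steps.bwd (nat_lit 2) (Steps.bwd (nat_lit 1) (Steps.fwd (nat_lit 24576) (Steps.fwd (nat_lit 8192) (Steps.fwd (nat_lit 24576) (Steps.fwd (nat_lit 8192) Steps.nil))))))))))) (nat_lit 191) (nat_lit 0),
  Rule.mk (nat_lit 0) (nat_lit 194) (Steps.bwd (nat_lit 15) (Steps.fwd (nat_lit 16384) (Steps.fwd (nat_lit 8192) (Steps.fwd (nat_lit 32768) (Steps.bwd (nat_lit 3) (Steps.bwd (nat_lit 1) (Steps.fwd (nat_lit 24576) (Steps.fwd (nat_lit 8192) (Steps.fwd (nat_lit 24576) (Steps.fwd (nat_lit 8192) (Steps.bwd (nat_lit 2) (Steps.fwd (nat_lit 8192) Steps.nil)))))))))))) (nat_lit 191) (nat_lit 11),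
  Rule.mk (nat_lit 18) (nat_lit 179) (Steps.fwd (nat_lit 8192) (Steps.fwd (nat_lit 16384) (Steps.bwd (nat_lit 4) (Steps.fwd (nat_lit 8192) (Steps.fwd (nat_lit 24576) (Steps.fwd (nat_lit 8192) (Steps.fwd (nat_lit 24576) (Steps.fwd (nat_lit 8192) (Steps.fwd (nat_lit 16384) (Steps.fwd (nat_lit 8192) (Steps.fwd (nat_lit 16384) Steps.nil))))))))))) (nat_lit 192) (nat_lit 1),
  Rule.mk (nat_lit 18) (nat_lit 179) (Steps.fwd (nat_lit 8192) (Steps.fwd (nat_lit 16384) (Steps.fwd (nat_lit 32768) (Steps.bwd (nat_lit 1) (Steps.bwd (nat_lit 2) (Steps.bwd (nat_lit 1) (Steps.fwd (nat_lit 24576) (Steps.fwd (nat_lit 8192) (Steps.fwd (nat_lit 16384) (Steps.fwd (nat_lit 8192) (Steps.fwd (nat_lit 16384) Steps.nil))))))))))) (nat_lit 192) (nat_lit 1),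
  Rule.mk (nat_lit 17) (nat_lit 179) (Steps.fwd (nat_lit 24576) (Steps.bwd (nat_lit 1) (Steps.fwd (nat_lit 24576) (Steps.bwd (nat_lit 1) (Steps.fwd (nat_lit 16384) (Steps.fwd (nat_lit 8192) (Steps.fwd (nat_lit 16384) (Steps.fwd (nat_lit 8192) (Steps.bwd (nat_lit 4) (Steps.fwd (nat_lit 24576) (Steps.fwd (nat_lit 8192) Steps.nil))))))))))) (nat_lit 193) (nat_lit 0),
  Rule.mk (nat_lit 0) (nat_lit 194) (Steps.bwd (nat_lit 17) (Steps.fwd (nat_lit 24576) (Steps.fwd (nat_lit 8192) (Steps.fwd (nat_lit 24576) (Steps.fwd (nat_lit 8192) (Steps.fwd (nat_lit 16384) (Steps.fwd (nat_lit 8192) (Steps.fwd (nat_lit 16384) (Steps.fwd (nat_lit 8192) (Steps.bwd (nat_lit 4) (Steps.fwd (nat_lit 24576) (Steps.bwd (nat_lit 1) Steps.nil)))))))))))) (nat_lit 193) (nat_lit 11),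
  Rule.mk (nat_lit 0) (nat_lit 194) (Steps.bwd (nat_lit 18) (Steps.fwd (nat_lit 8192) (Steps.bwd (nat_lit 3) (Steps.bwd (nat_lit 4) (Steps.bwd (nat_lit 1) (Steps.bwd (nat_lit 2) (Steps.bwd (nat_lit 1) (Steps.bwd (nat_lit 2) (Steps.bwd (nat_lit 1) (Steps.bwd (nat_lit 3) (Steps.fwd (nat_lit 8192) (Steps.fwd (nat_lit 16384) Steps.nil)))))))))))) (nat_lit 192) (nat_lit 0),
  Rule.mk (nat_lit 0) (nat_lit 194) (Steps.bwd (nat_lit 20) (Steps.fwd (nat_lit 8192) (Steps.fwd (nat_lit 24576) (Steps.bwd (nat_lit 1) (Steps.fwd (nat_lit 24576) (Steps.bwd (nat_lit 1) (Steps.fwd (nat_lit 16384) (Steps.fwd (nat_lit 8192) (Steps.fwd (nat_lit 16384) (Steps.fwd (nat_lit 8192) (Steps.bwd (nat_lit 4) (Steps.fwd (nat_lit 24576) Steps.nil)))))))))))) (nat_lit 194) (nat_lit 0),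
  Rule.mk (nat_lit 20) (nat_lit 179) (Steps.fwd (nat_lit 8192) (Steps.fwd (nat_lit 24576) (Steps.fwd (nat_lit 8192) (Steps.fwd (nat_lit 24576) (Steps.fwd (nat_lit 8192) (Steps.fwd (nat_lit 16384) (Steps.fwd (nat_lit 8192) (Steps.fwd (nat_lit 16384) (Steps.fwd (nat_lit 8192) (Steps.bwd (nat_lit 4) (Steps.fwd (nat_lit 24576) Steps.nil))))))))))) (nat_lit 194) (nat_lit 1),
  Rule.mk (nat_lit 20) (nat_lit 179) (Steps.bwd (nat_lit 1) (Steps.bwd (nat_lit 2) (Steps.bwd (nat_lit 1) (Steps.fwd (nat_lit 24576) (Steps.fwd (nat_lit 8192) (Steps.fwd (nat_lit 16384) (Steps.fwd (nat_lit 8192) (Steps.fwd (nat_lit 16384) (Steps.fwd (nat_lit 8192) (Steps.fwd (nat_lit 32768) (Steps.fwd (nat_lit 24576) Steps.nil))))))))))) (nat_lit 194) (nat_lit 1),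
  Rule.mk (nat_lit 20) (nat_lit 179) (Steps.bwd (nat_lit 1) (Steps.fwd (nat_lit 24576) (Steps.fwd (nat_lit 8192) (Steps.fwd (nat_lit 24576) (Steps.fwd (nat_lit 8192) (Steps.bwd (nat_lit 3) (Steps.fwd (nat_lit 8192) (Steps.fwd (nat_lit 16384) (Steps.fwd (nat_lit 8192) (Steps.bwd (nat_lit 4) (Steps.fwd (nat_lit 24576) Steps.nil))))))))))) (nat_lit 194) (nat_lit 1),
  Rule.mk (nat_lit 19) (nat_lit 179) (Steps.bwd (nat_lit 3) (Steps.fwd (nat_lit 32768) (Steps.fwd (nat_lit 8192) (Steps.fwd (nat_lit 24576) (Steps.bwd (nat_lit 1) (Steps.fwd (nat_lit 24576) (Steps.bwd (nat_lit 1) (Steps.fwd (nat_lit 16384) (Steps.fwd (nat_lit 8192) (Steps.fwd (nat_lit 16384) (Steps.fwd (nat_lit 8192) Steps.nil))))))))))) (nat_lit 195) (nat_lit 0),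
  Rule.mk (nat_lit 19) (nat_lit 179) (Steps.fwd (nat_lit 16384) (Steps.bwd (nat_lit 4) (Steps.fwd (nat_lit 8192) (Steps.fwd (nat_lit 24576) (Steps.fwd (nat_lit 8192) (Steps.fwd (nat_lit 24576) (Steps.fwd (nat_lit 8192) (Steps.fwd (nat_lit 16384) (Steps.fwd (nat_lit 8192) (Steps.fwd (nat_lit 16384) (Steps.fwd (nat_lit 8192) Steps.nil))))))))))) (nat_lit 195) (nat_lit 0),
  Rule.mk (nat_lit 19) (nat_lit 179) (Steps.fwd (nat_lit 16384) (Steps.fwd (nat_lit 32768) (Steps.bwd (nat_lit 1) (Steps.bwd (nat_lit 2) (Steps.bwd (nat_lit 1) (Steps.fwd (nat_lit 24576) (Steps.fwd (nat_lit 8192) (Steps.fwd (nat_lit 16384) (Steps.fwd (nat_lit 8192) (Steps.fwd (nat_lit 16384) (Steps.fwd (nat_lit 8192) Steps.nil))))))))))) (nat_lit 195) (nat_lit 0),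
  Rule.mk (nat_lit 17) (nat_lit 179) (Steps.bwd (nat_lit 2) (Steps.bwd (nat_lit 1) (Steps.bwd (nat_lit 2) (Steps.fwd (nat_lit 8192) (Steps.bwd (nat_lit 3) (Steps.fwd (nat_lit 8192) (Steps.bwd (nat_lit 3) (Steps.bwd (nat_lit 1) (Steps.bwd (nat_lit 4) (Steps.fwd (nat_lit 24576) (Steps.fwd (nat_lit 8192) Steps.nil))))))))))) (nat_lit 193) (nat_lit 0),
  Rule.mk (nat_lit 16) (nat_lit 179) (Steps.bwd (nat_lit 1) (Steps.bwd (nat_lit 3) (Steps.bwd (nat_lit 1) (Steps.bwd (nat_lit 3) (Steps.bwd (nat_lit 1) (Steps.fwd (nat_lit 16384) (Steps.fwd (nat_lit 8192) (Steps.fwd (nat_lit 24576) (Steps.bwd (nat_lit 4) (Steps.bwd (nat_lit 1) (Steps.bwd (nat_lit 2) Steps.nil))))))))))) (nat_lit 190) (nat_lit 1),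
  Rule.mk (nat_lit 0) (nat_lit 194) (Steps.bwd (nat_lit 15) (Steps.bwd (nat_lit 3) (Steps.bwd (nat_lit 1) (Steps.fwd (nat_lit 32768) (Steps.fwd (nat_lit 16384) (Steps.fwd (nat_lit 8192) (Steps.fwd (nat_lit 24576) (Steps.bwd (nat_lit 1) (Steps.fwd (nat_lit 24576) (Steps.bwd (nat_lit 1) (Steps.bwd (nat_lit 2) (Steps.fwd (nat_lit 8192) Steps.nil)))))))))))) (nat_lit 191) (nat_lit 11),
  Rule.mk (nat_lit 0) (nat_lit 194) (Steps.bwd (nat_lit 15) (Steps.fwd (nat_lit 16384) (Steps.fwd (nat_lit 8192) (Steps.fwd (nat_lit 32768) (Steps.bwd (nat_lit 3) (Steps.bwd (nat_lit 1) (Steps.fwd (nat_lit 24576) (Steps.bwd (nat_lit 1) (Steps.bwd (nat_lit 2) (Steps.fwd (nat_lit 8192) (Steps.bwd (nat_lit 2) (Steps.fwd (nat_lit 8192) Steps.nil)))))))))))) (nat_lit 191) (nat_lit 11),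
  Rule.mk (nat_lit 0) (nat_lit 194) (Steps.bwd (nat_lit 18) (Steps.fwd (nat_lit 8192) (Steps.fwd (nat_lit 16384) (Steps.bwd (nat_lit 4) (Steps.bwd (nat_lit 1) (Steps.fwd (nat_lit 24576) (Steps.bwd (nat_lit 1) (Steps.bwd (nat_lit 2) (Steps.fwd (nat_lit 8192) (Steps.bwd (nat_lit 3) (Steps.bwd (nat_lit 1) (Steps.fwd (nat_lit 16384) Steps.nil)))))))))))) (nat_lit 192) (nat_lit 0),
  Rule.mk (nat_lit 0) (nat_lit 194) (Steps.bwd (nat_lit 18) (Steps.fwd (nat_lit 8192) (Steps.fwd (nat_lit 16384) (Steps.bwd (nat_lit 4) (Steps.bwd (nat_lit 1) (Steps.bwd (nat_lit 2) (Steps.fwd (nat_lit 8192) (Steps.bwd (nat_lit 2) (Steps.fwd (nat_lit 8192) (Steps.bwd (nat_lit 3) (Steps.fwd (nat_lit 8192) (Steps.bwd (nat_lit 3) Steps.nil)))))))))))) (nat_lit 192) (nat_lit 0),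
  Rule.mk (nat_lit 17) (nat_lit 179) (Steps.fwd (nat_lit 24576) (Steps.bwd (nat_lit 1) (Steps.bwd (nat_lit 2) (Steps.fwd (nat_lit 8192) (Steps.bwd (nat_lit 3) (Steps.bwd (nat_lit 1) (Steps.fwd (nat_lit 16384) (Steps.bwd (nat_lit 1) (Steps.bwd (nat_lit 4) (Steps.fwd (nat_lit 24576) (Steps.bwd (nat_lit 1) Steps.nil))))))))))) (nat_lit 193) (nat_lit 0),
  Rule.mk (nat_lit 0) (nat_lit 194) (Steps.bwd (nat_lit 20) (Steps.bwd (nat_lit 1) (Steps.fwd (nat_lit 24576) (Steps.bwd (nat_lit 1) (Steps.bwd (nat_lit 2) (Steps.fwd (nat_lit 8192) (Steps.bwd (nat_lit 3) (Steps.bwd (nat_lit 1) (Steps.fwd (nat_lit 16384) (Steps.bwd (nat_lit 1) (Steps.bwd (nat_lit 4) (Steps.fwd (nat_lit 24576) Steps.nil)))))))))))) (nat_lit 194) (nat_lit 0),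
  Rule.mk (nat_lit 1) (nat_lit 179) (Steps.bwd (nat_lit 17) (Steps.fwd (nat_lit 24576) (Steps.bwd (nat_lit 1) (Steps.fwd (nat_lit 24576) (Steps.bwd (nat_lit 1) (Steps.fwd (nat_lit 16384) (Steps.bwd (nat_lit 1) (Steps.fwd (nat_lit 16384) (Steps.fwd (nat_lit 8192) (Steps.bwd (nat_lit 4) (Steps.fwd (nat_lit 24576) Steps.nil))))))))))) (nat_lit 193) (nat_lit 11),
  Rule.mk (nat_lit 8) (nat_lit 104) (Steps.fwd (nat_lit 8192) (Steps.bwd (nat_lit 5) (Steps.fwd (nat_lit 57344) (Steps.fwd (nat_lit 106496) (Steps.bwd (nat_lit 14) (Steps.bwd (nat_lit 1) Steps.nil)))))) (nat_lit 154) (nat_lit 2),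
  Rule.mk (nat_lit 15) (nat_lit 179) (Steps.bwd (nat_lit 3) (Steps.fwd (nat_lit 8192) (Steps.fwd (nat_lit 32768) (Steps.bwd (nat_lit 3) (Steps.fwd (nat_lit 8192) (Steps.bwd (nat_lit 2) (Steps.bwd (nat_lit 1) (Steps.bwd (nat_lit 2) (Steps.fwd (nat_lit 8192) (Steps.fwd (nat_lit 24576) (Steps.bwd (nat_lit 1) Steps.nil))))))))))) (nat_lit 191) (nat_lit 0),
  Rule.mk (nat_lit 0) (nat_lit 194) (Steps.fwd (nat_lit 16384) (Steps.fwd (nat_lit 32768) (Steps.fwd (nat_lit 8192) (Steps.bwd (nat_lit 2) (Steps.bwd (nat_lit 1) (Steps.fwd (nat_lit 24576) (Steps.bwd (nat_lit 1) (Steps.fwd (nat_lit 16384) (Steps.fwd (nat_lit 8192) (Steps.fwd (nat_lit 16384) (Steps.fwd (nat_lit 8192) (Steps.fwd (nat_lit 163840) Steps.nil)))))))))))) (nat_lit 195) (nat_lit 0),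
  Rule.mk (nat_lit 20) (nat_lit 179) (Steps.fwd (nat_lit 8192) (Steps.bwd (nat_lit 2) (Steps.bwd (nat_lit 1) (Steps.bwd (nat_lit 2) (Steps.bwd (nat_lit 1) (Steps.bwd (nat_lit 3) (Steps.bwd (nat_lit 1) (Steps.bwd (nat_lit 3) (Steps.fwd (nat_lit 8192) (Steps.fwd (nat_lit 32768) (Steps.bwd (nat_lit 2) Steps.nil))))))))))) (nat_lit 194) (nat_lit 1),
  Rule.mk (nat_lit 2) (nat_lit 164) (Steps.bwd (nat_lit 11) (Steps.bwd (nat_lit 3) (Steps.bwd (nat_lit 4) (Steps.fwd (nat_lit 40960) (Steps.bwd (nat_lit 8) (Steps.fwd (nat_lit 73728) (Steps.bwd (nat_lit 10) (Steps.fwd (nat_lit 90112) (Steps.bwd (nat_lit 12) (Steps.fwd (nat_lit 114688) Steps.nil)))))))))) (nat_lit 182) (nat_lit 1),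
  Rule.mk (nat_lit 0) (nat_lit 194) (Steps.fwd (nat_lit 16384) (Steps.bwd (nat_lit 1) (Steps.bwd (nat_lit 4) (Steps.fwd (nat_lit 16384) (Steps.bwd (nat_lit 1) (Steps.bwd (nat_lit 2) (Steps.fwd (nat_lit 8192) (Steps.bwd (nat_lit 2) (Steps.bwd (nat_lit 1) (Steps.fwd (nat_lit 24576) (Steps.fwd (nat_lit 8192) (Steps.fwd (nat_lit 131072) Steps.nil)))))))))))) (nat_lit 191) (nat_lit 0),
  Rule.mk (nat_lit 15) (nat_lit 179) (Steps.fwd (nat_lit 16384) (Steps.bwd (nat_lit 1) (Steps.bwd (nat_lit 4) (Steps.fwd (nat_lit 16384) (Steps.bwd (nat_lit 1) (Steps.fwd (nat_lit 24576) (Steps.bwd (nat_lit 1) (Steps.fwd (nat_lit 24576) (Steps.fwd (nat_lit 8192) (Steps.bwd (nat_lit 2) (Steps.fwd (nat_lit 8192) Steps.nil))))))))))) (nat_lit 191) (nat_lit 0)]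
noncomputable def R_97 : List (Rule) := [Rule.mk (nat_lit 0) (nat_lit 194) (Steps.bwd (nat_lit 15) (Steps.bwd (nat_lit 3) (Steps.fwd (nat_lit 8192) (Steps.bwd (nat_lit 4) (Steps.bwd (nat_lit 3) (Steps.bwd (nat_lit 1) (Steps.fwd (nat_lit 24576) (Steps.fwd (nat_lit 8192) (Steps.bwd (nat_lit 2) (Steps.fwd (nat_lit 8192) (Steps.fwd (nat_lit 24576) (Steps.bwd (nat_lit 1) Steps.nil)))))))))))) (nat_lit 191) (nat_lit 11),
  Rule.mk (nat_lit 15) (nat_lit 179) (Steps.fwd (nat_lit 16384) (Steps.fwd (nat_lit 8192) (Steps.bwd (nat_lit 4) (Steps.fwd (nat_lit 16384) (Steps.fwd (nat_lit 8192) (Steps.bwd (nat_lit 2) (Steps.fwd (nat_lit 8192) (Steps.fwd (nat_lit 24576) (Steps.bwd (nat_lit 1) (Steps.fwd (nat_lit 24576) (Steps.fwd (nat_lit 8192) Steps.nil))))))))))) (nat_lit 191) (nat_lit 0),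
  Rule.mk (nat_lit 0) (nat_lit 194) (Steps.bwd (nat_lit 18) (Steps.fwd (nat_lit 8192) (Steps.bwd (nat_lit 3) (Steps.fwd (nat_lit 32768) (Steps.bwd (nat_lit 1) (Steps.fwd (nat_lit 24576) (Steps.fwd (nat_lit 8192) (Steps.bwd (nat_lit 2) (Steps.fwd (nat_lit 8192) (Steps.fwd (nat_lit 16384) (Steps.fwd (nat_lit 8192) (Steps.bwd (nat_lit 3) Steps.nil)))))))))))) (nat_lit 192) (nat_lit 0),
  Rule.mk (nat_lit 0) (nat_lit 194) (Steps.bwd (nat_lit 17) (Steps.fwd (nat_lit 24576) (Steps.bwd (nat_lit 1) (Steps.fwd (nat_lit 24576) (Steps.fwd (nat_lit 8192) (Steps.bwd (nat_lit 3) (Steps.bwd (nat_lit 1) (Steps.fwd (nat_lit 16384) (Steps.bwd (nat_lit 1) (Steps.fwd (nat_lit 32768) (Steps.bwd (nat_lit 2) (Steps.bwd (nat_lit 1) Steps.nil)))))))))))) (nat_lit 193) (nat_lit 11),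
  Rule.mk (nat_lit 0) (nat_lit 194) (Steps.bwd (nat_lit 17) (Steps.fwd (nat_lit 24576) (Steps.fwd (nat_lit 8192) (Steps.fwd (nat_lit 24576) (Steps.bwd (nat_lit 1) (Steps.bwd (nat_lit 3) (Steps.bwd (nat_lit 1) (Steps.fwd (nat_lit 16384) (Steps.bwd (nat_lit 1) (Steps.bwd (nat_lit 4) (Steps.bwd (nat_lit 2) (Steps.fwd (nat_lit 8192) Steps.nil)))))))))))) (nat_lit 193) (nat_lit 11),
  Rule.mk (nat_lit 0) (nat_lit 194) (Steps.bwd (nat_lit 18) (Steps.fwd (nat_lit 8192) (Steps.bwd (nat_lit 3) (Steps.bwd (nat_lit 4) (Steps.fwd (nat_lit 8192) (Steps.fwd (nat_lit 24576) (Steps.bwd (nat_lit 1) (Steps.bwd (nat_lit 2) (Steps.bwd (nat_lit 1) (Steps.fwd (nat_lit 16384) (Steps.bwd (nat_lit 1) (Steps.bwd (nat_lit 3) Steps.nil)))))))))))) (nat_lit 192) (nat_lit 0),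
  Rule.mk (nat_lit 20) (nat_lit 179) (Steps.fwd (nat_lit 8192) (Steps.fwd (nat_lit 24576) (Steps.fwd (nat_lit 8192) (Steps.fwd (nat_lit 24576) (Steps.bwd (nat_lit 1) (Steps.bwd (nat_lit 3) (Steps.bwd (nat_lit 1) (Steps.fwd (nat_lit 16384) (Steps.bwd (nat_lit 1) (Steps.bwd (nat_lit 4) (Steps.bwd (nat_lit 2) Steps.nil))))))))))) (nat_lit 194) (nat_lit 1),
  Rule.mk (nat_lit 20) (nat_lit 179) (Steps.bwd (nat_lit 1) (Steps.fwd (nat_lit 24576) (Steps.fwd (nat_lit 8192) (Steps.bwd (nat_lit 2) (Steps.fwd (nat_lit 8192) (Steps.fwd (nat_lit 16384) (Steps.fwd (nat_lit 8192) (Steps.bwd (nat_lit 3) (Steps.bwd (nat_lit 1) (Steps.fwd (nat_lit 32768) (Steps.fwd (nat_lit 24576) Steps.nil))))))))))) (nat_lit 194) (nat_lit 1),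
  Rule.mk (nat_lit 0) (nat_lit 194) (Steps.fwd (nat_lit 8192) (Steps.bwd (nat_lit 2) (Steps.fwd (nat_lit 8192) (Steps.fwd (nat_lit 24576) (Steps.bwd (nat_lit 1) (Steps.bwd (nat_lit 3) (Steps.fwd (nat_lit 8192) (Steps.bwd (nat_lit 3) (Steps.fwd (nat_lit 8192) (Steps.bwd (nat_lit 4) (Steps.bwd (nat_lit 2) (Steps.fwd (nat_lit 155648) Steps.nil)))))))))))) (nat_lit 194) (nat_lit 1),
  Rule.mk (nat_lit 0) (nat_lit 194) (Steps.bwd (nat_lit 19) (Steps.bwd (nat_lit 3) (Steps.fwd (nat_lit 32768) (Steps.bwd (nat_lit 1) (Steps.bwd (nat_lit 2) (Steps.fwd (nat_lit 8192) (Steps.bwd (nat_lit 2) (Steps.fwd (nat_lit 8192) (Steps.fwd (nat_lit 16384) (Steps.fwd (nat_lit 8192) (Steps.bwd (nat_lit 3) (Steps.bwd (nat_lit 1) Steps.nil)))))))))))) (nat_lit 195) (nat_lit 11),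
  Rule.mk (nat_lit 0) (nat_lit 194) (Steps.bwd (nat_lit 20) (Steps.bwd (nat_lit 1) (Steps.fwd (nat_lit 24576) (Steps.bwd (nat_lit 1) (Steps.fwd (nat_lit 24576) (Steps.fwd (nat_lit 8192) (Steps.bwd (nat_lit 3) (Steps.bwd (nat_lit 1) (Steps.fwd (nat_lit 16384) (Steps.bwd (nat_lit 1) (Steps.fwd (nat_lit 32768) (Steps.bwd (nat_lit 2) Steps.nil)))))))))))) (nat_lit 194) (nat_lit 0),
  Rule.mk (nat_lit 15) (nat_lit 179) (Steps.fwd (nat_lit 16384) (Steps.fwd (nat_lit 8192) (Steps.bwd (nat_lit 4) (Steps.fwd (nat_lit 16384) (Steps.fwd (nat_lit 8192) (Steps.fwd (nat_lit 24576) (Steps.bwd (nat_lit 1) (Steps.bwd (nat_lit 2) (Steps.bwd (nat_lit 1) (Steps.bwd (nat_lit 2) (Steps.fwd (nat_lit 8192) Steps.nil))))))))))) (nat_lit 191) (nat_lit 0),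
  Rule.mk (nat_lit 0) (nat_lit 194) (Steps.bwd (nat_lit 17) (Steps.fwd (nat_lit 24576) (Steps.fwd (nat_lit 8192) (Steps.bwd (nat_lit 2) (Steps.bwd (nat_lit 1) (Steps.fwd (nat_lit 16384) (Steps.fwd (nat_lit 8192) (Steps.fwd (nat_lit 16384) (Steps.fwd (nat_lit 8192) (Steps.bwd (nat_lit 4) (Steps.fwd (nat_lit 24576) (Steps.fwd (nat_lit 8192) Steps.nil)))))))))))) (nat_lit 193) (nat_lit 11),
  Rule.mk (nat_lit 0) (nat_lit 194) (Steps.bwd (nat_lit 2) (Steps.bwd (nat_lit 1) (Steps.bwd (nat_lit 2) (Steps.fwd (nat_lit 8192) (Steps.fwd (nat_lit 16384) (Steps.bwd (nat_lit 1) (Steps.bwd (nat_lit 3) (Steps.bwd (nat_lit 1) (Steps.bwd (nat_lit 4) (Steps.bwd (nat_lit 2) (Steps.bwd (nat_lit 1) (Steps.fwd (nat_lit 147456) Steps.nil)))))))))))) (nat_lit 193) (nat_lit 0),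
  Rule.mk (nat_lit 20) (nat_lit 179) (Steps.bwd (nat_lit 1) (Steps.fwd (nat_lit 24576) (Steps.bwd (nat_lit 1) (Steps.bwd (nat_lit 2) (Steps.fwd (nat_lit 8192) (Steps.fwd (nat_lit 16384) (Steps.bwd (nat_lit 1) (Steps.bwd (nat_lit 3) (Steps.bwd (nat_lit 1) (Steps.bwd (nat_lit 4) (Steps.bwd (nat_lit 2) Steps.nil))))))))))) (nat_lit 194) (nat_lit 1),
  Rule.mk (nat_lit 0) (nat_lit 194) (Steps.bwd (nat_lit 19) (Steps.bwd (nat_lit 3) (Steps.fwd (nat_lit 32768) (Steps.bwd (nat_lit 1) (Steps.fwd (nat_lit 24576) (Steps.bwd (nat_lit 1) (Steps.bwd (nat_lit 2) (Steps.fwd (nat_lit 8192) (Steps.fwd (nat_lit 16384) (Steps.bwd (nat_lit 1) (Steps.bwd (nat_lit 3) (Steps.bwd (nat_lit 1) Steps.nil)))))))))))) (nat_lit 195) (nat_lit 11),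
  Rule.mk (nat_lit 0) (nat_lit 194) (Steps.bwd (nat_lit 3) (Steps.bwd (nat_lit 1) (Steps.fwd (nat_lit 32768) (Steps.fwd (nat_lit 16384) (Steps.fwd (nat_lit 8192) (Steps.bwd (nat_lit 2) (Steps.fwd (nat_lit 8192) (Steps.fwd (nat_lit 24576) (Steps.fwd (nat_lit 8192) (Steps.fwd (nat_lit 24576) (Steps.bwd (nat_lit 1) (Steps.fwd (nat_lit 131072) Steps.nil)))))))))))) (nat_lit 191) (nat_lit 0),
  Rule.mk (nat_lit 2) (nat_lit 164) (Steps.bwd (nat_lit 11) (Steps.bwd (nat_lit 3) (Steps.fwd (nat_lit 32768) (Steps.fwd (nat_lit 40960) (Steps.bwd (nat_lit 8) (Steps.fwd (nat_lit 73728) (Steps.fwd (nat_lit 81920) (Steps.bwd (nat_lit 11) (Steps.bwd (nat_lit 12) (Steps.bwd (nat_lit 14) Steps.nil)))))))))) (nat_lit 182) (nat_lit 1),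
  Rule.mk (nat_lit 15) (nat_lit 179) (Steps.bwd (nat_lit 3) (Steps.fwd (nat_lit 8192) (Steps.bwd (nat_lit 4) (Steps.fwd (nat_lit 16384) (Steps.fwd (nat_lit 8192) (Steps.bwd (nat_lit 2) (Steps.fwd (nat_lit 8192) (Steps.bwd (nat_lit 2) (Steps.fwd (nat_lit 8192) (Steps.bwd (nat_lit 2) (Steps.fwd (nat_lit 8192) Steps.nil))))))))))) (nat_lit 191) (nat_lit 0),
  Rule.mk (nat_lit 15) (nat_lit 179) (Steps.fwd (nat_lit 16384) (Steps.fwd (nat_lit 8192) (Steps.bwd (nat_lit 4) (Steps.fwd (nat_lit 16384) (Steps.fwd (nat_lit 8192) (Steps.bwd (nat_lit 2) (Steps.fwd (nat_lit 8192) (Steps.bwd (nat_lit 2) (Steps.fwd (nat_lit 8192) (Steps.bwd (nat_lit 2) (Steps.bwd (nat_lit 1) Steps.nil))))))))))) (nat_lit 191) (nat_lit 0),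
  Rule.mk (nat_lit 18) (nat_lit 179) (Steps.fwd (nat_lit 8192) (Steps.fwd (nat_lit 16384) (Steps.fwd (nat_lit 32768) (Steps.fwd (nat_lit 8192) (Steps.bwd (nat_lit 2) (Steps.fwd (nat_lit 8192) (Steps.bwd (nat_lit 2) (Steps.fwd (nat_lit 8192) (Steps.fwd (nat_lit 16384) (Steps.bwd (nat_lit 1) (Steps.fwd (nat_lit 16384) Steps.nil))))))))))) (nat_lit 192) (nat_lit 1),
  Rule.mk (nat_lit 0) (nat_lit 194) (Steps.bwd (nat_lit 1) (Steps.bwd (nat_lit 3) (Steps.bwd (nat_lit 4) (Steps.fwd (nat_lit 8192) (Steps.bwd (nat_lit 2) (Steps.fwd (nat_lit 8192) (Steps.bwd (nat_lit 2) (Steps.bwd (nat_lit 1) (Steps.bwd (nat_lit 3) (Steps.bwd (nat_lit 1) (Steps.fwd (nat_lit 16384) (Steps.fwd (nat_lit 139264) Steps.nil)))))))))))) (nat_lit 192) (nat_lit 1),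
  Rule.mk (nat_lit 0) (nat_lit 194) (Steps.bwd (nat_lit 20) (Steps.fwd (nat_lit 8192) (Steps.bwd (nat_lit 2) (Steps.fwd (nat_lit 8192) (Steps.bwd (nat_lit 2) (Steps.fwd (nat_lit 8192) (Steps.fwd (nat_lit 16384) (Steps.bwd (nat_lit 1) (Steps.fwd (nat_lit 16384) (Steps.fwd (nat_lit 8192) (Steps.bwd (nat_lit 4) (Steps.fwd (nat_lit 24576) Steps.nil)))))))))))) (nat_lit 194) (nat_lit 0),
  Rule.mk (nat_lit 0) (nat_lit 194) (Steps.fwd (nat_lit 8192) (Steps.bwd (nat_lit 2) (Steps.fwd (nat_lit 8192) (Steps.bwd (nat_lit 2) (Steps.bwd (nat_lit 1) (Steps.bwd (nat_lit 3) (Steps.bwd (nat_lit 1) (Steps.fwd (nat_lit 16384) (Steps.bwd (nat_lit 1) (Steps.bwd (nat_lit 4) (Steps.fwd (nat_lit 24576) (Steps.fwd (nat_lit 155648) Steps.nil)))))))))))) (nat_lit 194) (nat_lit 1),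
  Rule.mk (nat_lit 0) (nat_lit 194) (Steps.bwd (nat_lit 20) (Steps.fwd (nat_lit 8192) (Steps.bwd (nat_lit 2) (Steps.fwd (nat_lit 8192) (Steps.fwd (nat_lit 24576) (Steps.fwd (nat_lit 8192) (Steps.fwd (nat_lit 16384) (Steps.bwd (nat_lit 1) (Steps.fwd (nat_lit 16384) (Steps.bwd (nat_lit 1) (Steps.fwd (nat_lit 32768) (Steps.fwd (nat_lit 24576) Steps.nil)))))))))))) (nat_lit 194) (nat_lit 0),
  Rule.mk (nat_lit 16) (nat_lit 179) (Steps.fwd (nat_lit 8192) (Steps.bwd (nat_lit 3) (Steps.fwd (nat_lit 8192) (Steps.bwd (nat_lit 3) (Steps.fwd (nat_lit 8192) (Steps.fwd (nat_lit 16384) (Steps.fwd (nat_lit 8192) (Steps.bwd (nat_lit 2) (Steps.fwd (nat_lit 32768) (Steps.bwd (nat_lit 1) (Steps.bwd (nat_lit 2) Steps.nil))))))))))) (nat_lit 190) (nat_lit 1),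
  Rule.mk (nat_lit 0) (nat_lit 194) (Steps.bwd (nat_lit 16) (Steps.bwd (nat_lit 1) (Steps.fwd (nat_lit 16384) (Steps.fwd (nat_lit 8192) (Steps.fwd (nat_lit 16384) (Steps.bwd (nat_lit 1) (Steps.fwd (nat_lit 16384) (Steps.fwd (nat_lit 8192) (Steps.bwd (nat_lit 2) (Steps.fwd (nat_lit 32768) (Steps.bwd (nat_lit 1) (Steps.fwd (nat_lit 24576) Steps.nil)))))))))))) (nat_lit 190) (nat_lit 0),
  Rule.mk (nat_lit 2) (nat_lit 179) (Steps.bwd (nat_lit 1) (Steps.fwd (nat_lit 24576) (Steps.fwd (nat_lit 8192) (Steps.fwd (nat_lit 16384) (Steps.bwd (nat_lit 1) (Steps.bwd (nat_lit 3) (Steps.fwd (nat_lit 8192) (Steps.bwd (nat_lit 4) (Steps.bwd (nat_lit 2) (Steps.fwd (nat_lit 8192) (Steps.fwd (nat_lit 147456) Steps.nil))))))))))) (nat_lit 193) (nat_lit 1),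
  Rule.mk (nat_lit 5) (nat_lit 104) (Steps.bwd (nat_lit 2) (Steps.fwd (nat_lit 57344) (Steps.bwd (nat_lit 3) (Steps.bwd (nat_lit 14) (Steps.fwd (nat_lit 106496) (Steps.bwd (nat_lit 7) Steps.nil)))))) (nat_lit 175) (nat_lit 4),
  Rule.mk (nat_lit 6) (nat_lit 104) (Steps.bwd (nat_lit 2) (Steps.bwd (nat_lit 10) (Steps.bwd (nat_lit 3) (Steps.fwd (nat_lit 114688) (Steps.bwd (nat_lit 12) (Steps.fwd (nat_lit 90112) Steps.nil)))))) (nat_lit 181) (nat_lit 4),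
  Rule.mk (nat_lit 9) (nat_lit 104) (Steps.bwd (nat_lit 2) (Steps.bwd (nat_lit 12) (Steps.bwd (nat_lit 3) (Steps.fwd (nat_lit 32768) (Steps.bwd (nat_lit 5) (Steps.bwd (nat_lit 8) Steps.nil)))))) (nat_lit 184) (nat_lit 0),
  Rule.mk (nat_lit 0) (nat_lit 194) (Steps.bwd (nat_lit 18) (Steps.fwd (nat_lit 8192) (Steps.fwd (nat_lit 16384) (Steps.fwd (nat_lit 32768) (Steps.fwd (nat_lit 8192) (Steps.fwd (nat_lit 24576) (Steps.bwd (nat_lit 1) (Steps.bwd (nat_lit 2) (Steps.fwd (nat_lit 8192) (Steps.bwd (nat_lit 3) (Steps.bwd (nat_lit 1) (Steps.fwd (nat_lit 16384) Steps.nil)))))))))))) (nat_lit 192) (nat_lit 0),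
  Rule.mk (nat_lit 20) (nat_lit 179) (Steps.fwd (nat_lit 8192) (Steps.bwd (nat_lit 2) (Steps.fwd (nat_lit 8192) (Steps.fwd (nat_lit 24576) (Steps.bwd (nat_lit 1) (Steps.fwd (nat_lit 16384) (Steps.fwd (nat_lit 8192) (Steps.bwd (nat_lit 3) (Steps.bwd (nat_lit 1) (Steps.bwd (nat_lit 4) (Steps.bwd (nat_lit 2) Steps.nil))))))))))) (nat_lit 194) (nat_lit 1),
  Rule.mk (nat_lit 0) (nat_lit 194) (Steps.bwd (nat_lit 16) (Steps.bwd (nat_lit 1) (Steps.bwd (nat_lit 3) (Steps.fwd (nat_lit 8192) (Steps.fwd (nat_lit 16384) (Steps.bwd (nat_lit 1) (Steps.fwd (nat_lit 16384) (Steps.fwd (nat_lit 8192) (Steps.bwd (nat_lit 2) (Steps.bwd (nat_lit 4) (Steps.fwd (nat_lit 8192) (Steps.bwd (nat_lit 2) Steps.nil)))))))))))) (nat_lit 190) (nat_lit 0),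
  Rule.mk (nat_lit 18) (nat_lit 179) (Steps.fwd (nat_lit 8192) (Steps.fwd (nat_lit 16384) (Steps.bwd (nat_lit 4) (Steps.bwd (nat_lit 1) (Steps.bwd (nat_lit 2) (Steps.fwd (nat_lit 8192) (Steps.bwd (nat_lit 2) (Steps.fwd (nat_lit 8192) (Steps.fwd (nat_lit 16384) (Steps.bwd (nat_lit 1) (Steps.fwd (nat_lit 16384) Steps.nil))))))))))) (nat_lit 192) (nat_lit 1),
  Rule.mk (nat_lit 0) (nat_lit 194) (Steps.bwd (nat_lit 2) (Steps.fwd (nat_lit 8192) (Steps.bwd (nat_lit 2) (Steps.fwd (nat_lit 8192) (Steps.fwd (nat_lit 16384) (Steps.bwd (nat_lit 1) (Steps.fwd (nat_lit 16384) (Steps.fwd (nat_lit 8192) (Steps.fwd (nat_lit 32768) (Steps.fwd (nat_lit 24576) (Steps.fwd (nat_lit 8192) (Steps.fwd (nat_lit 147456) Steps.nil)))))))))))) (nat_lit 193) (nat_lit 0),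
  Rule.mk (nat_lit 17) (nat_lit 179) (Steps.fwd (nat_lit 24576) (Steps.fwd (nat_lit 8192) (Steps.bwd (nat_lit 2) (Steps.bwd (nat_lit 1) (Steps.bwd (nat_lit 3) (Steps.fwd (nat_lit 8192) (Steps.fwd (nat_lit 16384) (Steps.bwd (nat_lit 1) (Steps.bwd (nat_lit 4) (Steps.bwd (nat_lit 2) (Steps.bwd (nat_lit 1) Steps.nil))))))))))) (nat_lit 193) (nat_lit 0),
  Rule.mk (nat_lit 20) (nat_lit 179) (Steps.fwd (nat_lit 8192) (Steps.fwd (nat_lit 24576) (Steps.fwd (nat_lit 8192) (Steps.bwd (nat_lit 2) (Steps.bwd (nat_lit 1) (Steps.bwd (nat_lit 3) (Steps.fwd (nat_lit 8192) (Steps.fwd (nat_lit 16384) (Steps.bwd (nat_lit 1) (Steps.bwd (nat_lit 4) (Steps.bwd (nat_lit 2) Steps.nil))))))))))) (nat_lit 194) (nat_lit 1),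
  Rule.mk (nat_lit 20) (nat_lit 179) (Steps.bwd (nat_lit 1) (Steps.fwd (nat_lit 24576) (Steps.fwd (nat_lit 8192) (Steps.bwd (nat_lit 2) (Steps.fwd (nat_lit 8192) (Steps.fwd (nat_lit 16384) (Steps.bwd (nat_lit 1) (Steps.fwd (nat_lit 16384) (Steps.fwd (nat_lit 8192) (Steps.fwd (nat_lit 32768) (Steps.fwd (nat_lit 24576) Steps.nil))))))))))) (nat_lit 194) (nat_lit 1),
  Rule.mk (nat_lit 20) (nat_lit 179) (Steps.bwd (nat_lit 1) (Steps.bwd (nat_lit 2) (Steps.fwd (nat_lit 8192) (Steps.bwd (nat_lit 2) (Steps.bwd (nat_lit 1) (Steps.fwd (nat_lit 16384) (Steps.bwd (nat_lit 1) (Steps.bwd (nat_lit 3) (Steps.fwd (nat_lit 8192) (Steps.fwd (nat_lit 32768) (Steps.bwd (nat_lit 2) Steps.nil))))))))))) (nat_lit 194) (nat_lit 1),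
  Rule.mk (nat_lit 15) (nat_lit 179) (Steps.bwd (nat_lit 3) (Steps.bwd (nat_lit 1) (Steps.bwd (nat_lit 4) (Steps.fwd (nat_lit 16384) (Steps.bwd (nat_lit 1) (Steps.bwd (nat_lit 2) (Steps.bwd (nat_lit 1) (Steps.fwd (nat_lit 24576) (Steps.fwd (nat_lit 8192) (Steps.fwd (nat_lit 24576) (Steps.fwd (nat_lit 8192) Steps.nil))))))))))) (nat_lit 191) (nat_lit 0),
  Rule.mk (nat_lit 17) (nat_lit 179) (Steps.bwd (nat_lit 2) (Steps.bwd (nat_lit 1) (Steps.fwd (nat_lit 24576) (Steps.fwd (nat_lit 8192) (Steps.bwd (nat_lit 3) (Steps.fwd (nat_lit 8192) (Steps.fwd (nat_lit 16384) (Steps.fwd (nat_lit 8192) (Steps.bwd (nat_lit 4) (Steps.bwd (nat_lit 2) (Steps.bwd (nat_lit 1) Steps.nil))))))))))) (nat_lit 193) (nat_lit 0),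
  Rule.mk (nat_lit 15) (nat_lit 179) (Steps.bwd (nat_lit 3) (Steps.bwd (nat_lit 1) (Steps.fwd (nat_lit 32768) (Steps.fwd (nat_lit 16384) (Steps.fwd (nat_lit 8192) (Steps.fwd (nat_lit 24576) (Steps.bwd (nat_lit 1) (Steps.bwd (nat_lit 2) (Steps.bwd (nat_lit 1) (Steps.fwd (nat_lit 24576) (Steps.bwd (nat_lit 1) Steps.nil))))))))))) (nat_lit 191) (nat_lit 0),
  Rule.mk (nat_lit 17) (nat_lit 179) (Steps.fwd (nat_lit 24576) (Steps.bwd (nat_lit 1) (Steps.bwd (nat_lit 2) (Steps.fwd (nat_lit 8192) (Steps.bwd (nat_lit 3) (Steps.bwd (nat_lit 1) (Steps.bwd (nat_lit 3) (Steps.bwd (nat_lit 1) (Steps.fwd (nat_lit 32768) (Steps.fwd (nat_lit 24576) (Steps.bwd (nat_lit 1) Steps.nil))))))))))) (nat_lit 193) (nat_lit 0),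
  Rule.mk (nat_lit 2) (nat_lit 179) (Steps.fwd (nat_lit 8192) (Steps.fwd (nat_lit 24576) (Steps.fwd (nat_lit 8192) (Steps.fwd (nat_lit 16384) (Steps.fwd (nat_lit 8192) (Steps.bwd (nat_lit 3) (Steps.bwd (nat_lit 1) (Steps.fwd (nat_lit 32768) (Steps.bwd (nat_lit 2) (Steps.bwd (nat_lit 1) (Steps.fwd (nat_lit 147456) Steps.nil))))))))))) (nat_lit 193) (nat_lit 1),
  Rule.mk (nat_lit 2) (nat_lit 539) (Steps.bwd (nat_lit 1) (Steps.bwd (nat_lit 3) (Steps.fwd (nat_lit 8192) (Steps.fwd (nat_lit 16384) (Steps.bwd (nat_lit 1) (Steps.bwd (nat_lit 2) (Steps.bwd (nat_lit 1) (Steps.fwd (nat_lit 24576) (Steps.bwd (nat_lit 1) (Steps.bwd (nat_lit 3) (Steps.fwd (nat_lit 8192) (Steps.fwd (nat_lit 24576) (Steps.fwd (nat_lit 8192) (Steps.fwd (nat_lit 24576) (Steps.bwd (nat_lit 1) (Steps.bwd (nat_lit 3) (Steps.fwd (nat_lit 8192) (Steps.bwd (nat_lit 2) (Steps.fwd (nat_lit 8192) (Steps.bwd (nat_lit 2) (Steps.fwd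 (nat_lit 8192) (Steps.fwd (nat_lit 16384) (Steps.fwd (nat_lit 8192) (Steps.fwd (nat_lit 24576) (Steps.bwd (nat_lit 1) (Steps.bwd (nat_lit 3) (Steps.bwd (nat_lit 1) (Steps.bwd (nat_lit 3) (Steps.fwd (nat_lit 8192) (Steps.fwd (nat_lit 24576) (Steps.fwd (nat_lit 8192) (Steps.fwd (nat_lit 16384) (Steps.fwd (nat_lit 8192) (Steps.bwd (nat_lit 3) (Steps.bwd (nat_lit 1) Steps.nil))))))))))))))))))))))))))))))))))) (nat_lit 12) (nat_lit 32),
  Rule.mk (nat_lit 1) (nat_lit 599) (Steps.bwd (nat_lit 2) (Steps.fwd (nat_lit 8192) (Steps.fwd (nat_lit 24576) (Steps.fwd (nat_lit 8192) (Steps.fwd (nat_lit 16384) (Steps.fwd (nat_lit 8192) (Steps.bwd (nat_lit 3) (Steps.bwd (nat_lit 1) (Steps.bwd (nat_lit 2) (Steps.bwd (nat_lit 1) (Steps.fwd (nat_lit 24576) (Steps.bwd (nat_lit 1) (Steps.bwd (nat_lit 3) (Steps.bwd (nat_lit 1) (Steps.bwd (nat_lit 3) (Steps.fwd (nat_lit 8192) (Steps.bwd (nat_lit 2) (Steps.fwd (nat_lit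 8192) (Steps.fwd (nat_lit 24576) (Steps.fwd (nat_lit 8192) (Steps.fwd (nat_lit 16384) (Steps.fwd (nat_lit 8192) (Steps.fwd (nat_lit 16384) (Steps.bwd (nat_lit 1) (Steps.bwd (nat_lit 2) (Steps.fwd (nat_lit 8192) (Steps.bwd (nat_lit 2) (Steps.bwd (nat_lit 1) (Steps.bwd (nat_lit 3) (Steps.fwd (nat_lit 8192) (Steps.fwd (nat_lit 16384) (Steps.fwd (nat_lit 8192) (Steps.bwd (nat_lit 2) (Steps.fwd (nat_lit 8192) (Steps.bwd (nat_lit 2) (Steps.bwd (nat_lit 1) (Steps.fwd (nat_lit 16384) (Steps.bwd (nat_lit 1) (Steps.bwd (nat_lit 3) Steps.nil))))))))))))))))))))))))))))))))))))))) (nat_lit 8) (nat_lit 5),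
  Rule.mk (nat_lit 0) (nat_lit 194) (Steps.bwd (nat_lit 16) (Steps.fwd (nat_lit 8192) (Steps.fwd (nat_lit 16384) (Steps.fwd (nat_lit 8192) (Steps.bwd (nat_lit 3) (Steps.fwd (nat_lit 8192) (Steps.fwd (nat_lit 16384) (Steps.fwd (nat_lit 8192) (Steps.fwd (nat_lit 24576) (Steps.bwd (nat_lit 4) (Steps.bwd (nat_lit 1) (Steps.bwd (nat_lit 2) Steps.nil)))))))))))) (nat_lit 190) (nat_lit 0),
  Rule.mk (nat_lit 16) (nat_lit 179) (Steps.fwd (nat_lit 8192) (Steps.bwd (nat_lit 3) (Steps.fwd (nat_lit 8192) (Steps.fwd (nat_lit 16384) (Steps.fwd (nat_lit 8192) (Steps.bwd (nat_lit 3) (Steps.fwd (nat_lit 8192) (Steps.bwd (nat_lit 2) (Steps.fwd (nat_lit 32768) (Steps.bwd (nat_lit 1) (Steps.fwd (nat_lit 24576) Steps.nil))))))))))) (nat_lit 190) (nat_lit 1),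
  Rule.mk (nat_lit 0) (nat_lit 194) (Steps.bwd (nat_lit 16) (Steps.fwd (nat_lit 8192) (Steps.fwd (nat_lit 16384) (Steps.fwd (nat_lit 8192) (Steps.bwd (nat_lit 3) (Steps.fwd (nat_lit 8192) (Steps.fwd (nat_lit 16384) (Steps.fwd (nat_lit 8192) (Steps.fwd (nat_lit 24576) (Steps.fwd (nat_lit 32768) (Steps.fwd (nat_lit 8192) (Steps.fwd (nat_lit 24576) Steps.nil)))))))))))) (nat_lit 190) (nat_lit 0),
  Rule.mk (nat_lit 15) (nat_lit 179) (Steps.fwd (nat_lit 16384) (Steps.fwd (nat_lit 8192) (Steps.bwd (nat_lit 4) (Steps.fwd (nat_lit 16384) (Steps.fwd (nat_lit 8192) (Steps.fwd (nat_lit 24576) (Steps.bwd (nat_lit 1) (Steps.bwd (nat_lit 2) (Steps.bwd (nat_lit 1) (Steps.fwd (nat_lit 24576) (Steps.fwd (nat_lit 8192) Steps.nil))))))))))) (nat_lit 191) (nat_lit 0),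
  Rule.mk (nat_lit 15) (nat_lit 179) (Steps.fwd (nat_lit 16384) (Steps.fwd (nat_lit 8192) (Steps.bwd (nat_lit 4) (Steps.fwd (nat_lit 16384) (Steps.fwd (nat_lit 8192) (Steps.fwd (nat_lit 24576) (Steps.fwd (nat_lit 8192) (Steps.fwd (nat_lit 24576) (Steps.bwd (nat_lit 1) (Steps.fwd (nat_lit 24576) (Steps.fwd (nat_lit 8192) Steps.nil))))))))))) (nat_lit 191) (nat_lit 0),
  Rule.mk (nat_lit 18) (nat_lit 179) (Steps.bwd (nat_lit 1) (Steps.bwd (nat_lit 3) (Steps.bwd (nat_lit 4) (Steps.fwd (nat_lit 8192) (Steps.bwd (nat_lit 2) (Steps.bwd (nat_lit 1) (Steps.fwd (nat_lit 24576) (Steps.fwd (nat_lit 8192) (Steps.fwd (nat_lit 16384) (Steps.fwd (nat_lit 8192) (Steps.bwd (nat_lit 3) Steps.nil))))))))))) (nat_lit 192) (nat_lit 1),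
  Rule.mk (nat_lit 0) (nat_lit 194) (Steps.bwd (nat_lit 18) (Steps.fwd (nat_lit 8192) (Steps.bwd (nat_lit 3) (Steps.fwd (nat_lit 32768) (Steps.bwd (nat_lit 1) (Steps.bwd (nat_lit 2) (Steps.bwd (nat_lit 1) (Steps.fwd (nat_lit 24576) (Steps.bwd (nat_lit 1) (Steps.bwd (nat_lit 3) (Steps.bwd (nat_lit 1) (Steps.bwd (nat_lit 3) Steps.nil)))))))))))) (nat_lit 192) (nat_lit 0),
  Rule.mk (nat_lit 0) (nat_lit 194) (Steps.bwd (nat_lit 17) (Steps.bwd (nat_lit 2) (Steps.bwd (nat_lit 1) (Steps.fwd (nat_lit 24576) (Steps.fwd (nat_lit 8192) (Steps.fwd (nat_lit 16384) (Steps.fwd (nat_lit 8192) (Steps.bwd (nat_lit 3) (Steps.fwd (nat_lit 8192) (Steps.fwd (nat_lit 32768) (Steps.bwd (nat_lit 2) (Steps.bwd (nat_lit 1) Steps.nil)))))))))))) (nat_lit 193) (nat_lit 11),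
  Rule.mk (nat_lit 0) (nat_lit 194) (Steps.bwd (nat_lit 20) (Steps.fwd (nat_lit 8192) (Steps.bwd (nat_lit 2) (Steps.bwd (nat_lit 1) (Steps.fwd (nat_lit 24576) (Steps.fwd (nat_lit 8192) (Steps.fwd (nat_lit 16384) (Steps.fwd (nat_lit 8192) (Steps.bwd (nat_lit 3) (Steps.fwd (nat_lit 8192) (Steps.fwd (nat_lit 32768) (Steps.bwd (nat_lit 2) Steps.nil)))))))))))) (nat_lit 194) (nat_lit 0),
  Rule.mk (nat_lit 19) (nat_lit 179) (Steps.fwd (nat_lit 16384) (Steps.bwd (nat_lit 4) (Steps.bwd (nat_lit 1) (Steps.fwd (nat_lit 24576) (Steps.fwd (nat_lit 8192) (Steps.fwd (nat_lit 24576) (Steps.fwd (nat_lit 8192) (Steps.bwd (nat_lit 3) (Steps.fwd (nat_lit 8192) (Steps.fwd (nat_lit 16384) (Steps.fwd (nat_lit 8192) Steps.nil))))))))))) (nat_lit 195) (nat_lit 0),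
  Rule.mk (nat_lit 0) (nat_lit 194) (Steps.bwd (nat_lit 20) (Steps.bwd (nat_lit 1) (Steps.fwd (nat_lit 24576) (Steps.bwd (nat_lit 1) (Steps.bwd (nat_lit 2) (Steps.bwd (nat_lit 1) (Steps.bwd (nat_lit 3) (Steps.fwd (nat_lit 8192) (Steps.fwd (nat_lit 16384) (Steps.bwd (nat_lit 1) (Steps.fwd (nat_lit 32768) (Steps.fwd (nat_lit 24576) Steps.nil)))))))))))) (nat_lit 194) (nat_lit 0),
  Rule.mk (nat_lit 19) (nat_lit 179) (Steps.fwd (nat_lit 16384) (Steps.bwd (nat_lit 4) (Steps.fwd (nat_lit 8192) (Steps.fwd (nat_lit 24576) (Steps.bwd (nat_lit 1) (Steps.bwd (nat_lit 2) (Steps.bwd (nat_lit 1) (Steps.bwd (nat_lit 3) (Steps.bwd (nat_lit 1) (Steps.fwd (nat_lit 16384) (Steps.fwd (nat_lit 8192) Steps.nil))))))))))) (nat_lit 195) (nat_lit 0),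
  Rule.mk (nat_lit 11) (nat_lit 104) (Steps.fwd (nat_lit 8192) (Steps.bwd (nat_lit 6) (Steps.fwd (nat_lit 90112) (Steps.bwd (nat_lit 12) (Steps.fwd (nat_lit 114688) (Steps.bwd (nat_lit 1) Steps.nil)))))) (nat_lit 160) (nat_lit 2),
  Rule.mk (nat_lit 14) (nat_lit 104) (Steps.fwd (nat_lit 98304) (Steps.bwd (nat_lit 11) (Steps.fwd (nat_lit 49152) (Steps.bwd (nat_lit 1) (Steps.bwd (nat_lit 11) (Steps.bwd (nat_lit 1) Steps.nil)))))) (nat_lit 161) (nat_lit 1),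
  Rule.mk (nat_lit 5) (nat_lit 164) (Steps.bwd (nat_lit 6) (Steps.bwd (nat_lit 9) (Steps.fwd (nat_lit 81920) (Steps.bwd (nat_lit 11) (Steps.bwd (nat_lit 12) (Steps.fwd (nat_lit 106496) (Steps.bwd (nat_lit 14) (Steps.fwd (nat_lit 8192) (Steps.bwd (nat_lit 7) (Steps.bwd (nat_lit 1) Steps.nil)))))))))) (nat_lit 152) (nat_lit 4),
  Rule.mk (nat_lit 7) (nat_lit 164) (Steps.bwd (nat_lit 1) (Steps.fwd (nat_lit 40960) (Steps.bwd (nat_lit 6) (Steps.bwd (nat_lit 9) (Steps.fwd (nat_lit 81920) (Steps.fwd (nat_lit 90112) (Steps.bwd (nat_lit 12) (Steps.fwd (nat_lit 106496) (Steps.fwd (nat_lit 114688) (Steps.bwd (nat_lit 1) Steps.nil)))))))))) (nat_lit 152) (nat_lit 2),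
  Rule.mk (nat_lit 0) (nat_lit 194) (Steps.bwd (nat_lit 16) (Steps.fwd (nat_lit 8192) (Steps.bwd (nat_lit 3) (Steps.bwd (nat_lit 1) (Steps.fwd (nat_lit 16384) (Steps.bwd (nat_lit 1) (Steps.bwd (nat_lit 3) (Steps.bwd (nat_lit 1) (Steps.bwd (nat_lit 2) (Steps.bwd (nat_lit 4) (Steps.bwd (nat_lit 1) (Steps.fwd (nat_lit 24576) Steps.nil)))))))))))) (nat_lit 190) (nat_lit 0)]
noncomputable def R_98 : List (Rule) := [Rule.mk (nat_lit 15) (nat_lit 179) (Steps.bwd (nat_lit 3) (Steps.fwd (nat_lit 8192) (Steps.fwd (nat_lit 32768) (Steps.bwd (nat_lit 3) (Steps.fwd (nat_lit 8192) (Steps.fwd (nat_lit 24576) (Steps.bwd (nat_lit 1) (Steps.bwd (nat_lit 2) (Steps.bwd (nat_lit 1) (Steps.fwd (nat_lit 24576) (Steps.bwd (nat_lit 1) Steps.nil))))))))))) (nat_lit 191) (nat_lit 0),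
  Rule.mk (nat_lit 15) (nat_lit 179) (Steps.fwd (nat_lit 16384) (Steps.fwd (nat_lit 8192) (Steps.fwd (nat_lit 32768) (Steps.fwd (nat_lit 16384) (Steps.bwd (nat_lit 1) (Steps.bwd (nat_lit 2) (Steps.bwd (nat_lit 1) (Steps.fwd (nat_lit 24576) (Steps.bwd (nat_lit 1) (Steps.bwd (nat_lit 2) (Steps.fwd (nat_lit 8192) Steps.nil))))))))))) (nat_lit 191) (nat_lit 0),
  Rule.mk (nat_lit 15) (nat_lit 179) (Steps.fwd (nat_lit 16384) (Steps.fwd (nat_lit 8192) (Steps.fwd (nat_lit 32768) (Steps.fwd (nat_lit 16384) (Steps.bwd (nat_lit 1) (Steps.fwd (nat_lit 24576) (Steps.bwd (nat_lit 1) (Steps.bwd (nat_lit 2) (Steps.fwd (nat_lit 8192) (Steps.fwd (nat_lit 24576) (Steps.fwd (nat_lit 8192) Steps.nil))))))))))) (nat_lit 191) (nat_lit 0),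
  Rule.mk (nat_lit 15) (nat_lit 179) (Steps.bwd (nat_lit 3) (Steps.fwd (nat_lit 8192) (Steps.fwd (nat_lit 32768) (Steps.bwd (nat_lit 3) (Steps.bwd (nat_lit 1) (Steps.bwd (nat_lit 2) (Steps.fwd (nat_lit 8192) (Steps.fwd (nat_lit 24576) (Steps.fwd (nat_lit 8192) (Steps.bwd (nat_lit 2) (Steps.fwd (nat_lit 8192) Steps.nil))))))))))) (nat_lit 191) (nat_lit 0),
  Rule.mk (nat_lit 15) (nat_lit 179) (Steps.bwd (nat_lit 3) (Steps.bwd (nat_lit 1) (Steps.bwd (nat_lit 4) (Steps.fwd (nat_lit 16384) (Steps.bwd (nat_lit 1) (Steps.bwd (nat_lit 2) (Steps.fwd (nat_lit 8192) (Steps.fwd (nat_lit 24576) (Steps.fwd (nat_lit 8192) (Steps.fwd (nat_lit 24576) (Steps.fwd (nat_lit 8192) Steps.nil))))))))))) (nat_lit 191) (nat_lit 0),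
  Rule.mk (nat_lit 0) (nat_lit 194) (Steps.bwd (nat_lit 17) (Steps.bwd (nat_lit 2) (Steps.fwd (nat_lit 8192) (Steps.bwd (nat_lit 2) (Steps.bwd (nat_lit 1) (Steps.fwd (nat_lit 16384) (Steps.bwd (nat_lit 1) (Steps.bwd (nat_lit 3) (Steps.bwd (nat_lit 1) (Steps.bwd (nat_lit 4) (Steps.fwd (nat_lit 24576) (Steps.bwd (nat_lit 1) Steps.nil)))))))))))) (nat_lit 193) (nat_lit 11),
  Rule.mk (nat_lit 17) (nat_lit 179) (Steps.fwd (nat_lit 24576) (Steps.bwd (nat_lit 1) (Steps.bwd (nat_lit 2) (Steps.fwd (nat_lit 8192) (Steps.bwd (nat_lit 3) (Steps.fwd (nat_lit 8192) (Steps.bwd (nat_lit 3) (Steps.bwd (nat_lit 1) (Steps.fwd (nat_lit 32768) (Steps.bwd (nat_lit 2) (Steps.fwd (nat_lit 8192) Steps.nil))))))))))) (nat_lit 193) (nat_lit 0),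
  Rule.mk (nat_lit 19) (nat_lit 179) (Steps.fwd (nat_lit 16384) (Steps.bwd (nat_lit 4) (Steps.fwd (nat_lit 8192) (Steps.bwd (nat_lit 2) (Steps.fwd (nat_lit 8192) (Steps.bwd (nat_lit 2) (Steps.bwd (nat_lit 1) (Steps.fwd (nat_lit 16384) (Steps.bwd (nat_lit 1) (Steps.bwd (nat_lit 3) (Steps.bwd (nat_lit 1) Steps.nil))))))))))) (nat_lit 195) (nat_lit 0),
  Rule.mk (nat_lit 3) (nat_lit 539) (Steps.fwd (nat_lit 8192) (Steps.fwd (nat_lit 24576) (Steps.fwd (nat_lit 8192) (Steps.fwd (nat_lit 24576) (Steps.fwd (nat_lit 8192) (Steps.bwd (nat_lit 3) (Steps.fwd (nat_lit 8192) (Steps.bwd (nat_lit 2) (Steps.fwd (nat_lit 8192) (Steps.fwd (nat_lit 24576) (Steps.fwd (nat_lit 8192) (Steps.bwd (nat_lit 3) (Steps.fwd (nat_lit 8192) (Steps.bwd (nat_lit 2) (Steps.fwd (nat_lit 8192) (Steps.bwd (nat_lit 2) (Steps.bwd (nat_lit 1) (Steps.fwd (nat_lit 16384) (Steps.bwd (nat_lit 1) (Steps.bwd (nat_lit 2) (Steps.fwd (nat_lit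 8192) (Steps.bwd (nat_lit 3) (Steps.bwd (nat_lit 1) (Steps.bwd (nat_lit 3) (Steps.bwd (nat_lit 1) (Steps.bwd (nat_lit 2) (Steps.fwd (nat_lit 8192) (Steps.fwd (nat_lit 16384) (Steps.bwd (nat_lit 1) (Steps.fwd (nat_lit 16384) (Steps.bwd (nat_lit 1) (Steps.bwd (nat_lit 2) (Steps.bwd (nat_lit 1) (Steps.bwd (nat_lit 3) (Steps.bwd (nat_lit 1) Steps.nil))))))))))))))))))))))))))))))))))) (nat_lit 12) (nat_lit 0),
  Rule.mk (nat_lit 0) (nat_lit 194) (Steps.bwd (nat_lit 15) (Steps.fwd (nat_lit 16384) (Steps.bwd (nat_lit 1) (Steps.bwd (nat_lit 4) (Steps.fwd (nat_lit 16384) (Steps.bwd (nat_lit 1) (Steps.bwd (nat_lit 2) (Steps.fwd (nat_lit 8192) (Steps.bwd (nat_lit 2) (Steps.bwd (nat_lit 1) (Steps.fwd (nat_lit 24576) (Steps.fwd (nat_lit 8192) Steps.nil)))))))))))) (nat_lit 191) (nat_lit 11),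
  Rule.mk (nat_lit 15) (nat_lit 179) (Steps.fwd (nat_lit 16384) (Steps.bwd (nat_lit 1) (Steps.bwd (nat_lit 4) (Steps.bwd (nat_lit 3) (Steps.fwd (nat_lit 8192) (Steps.bwd (nat_lit 2) (Steps.bwd (nat_lit 1) (Steps.fwd (nat_lit 24576) (Steps.fwd (nat_lit 8192) (Steps.fwd (nat_lit 24576) (Steps.fwd (nat_lit 8192) Steps.nil))))))))))) (nat_lit 191) (nat_lit 0),
  Rule.mk (nat_lit 0) (nat_lit 194) (Steps.bwd (nat_lit 15) (Steps.fwd (nat_lit 16384) (Steps.fwd (nat_lit 8192) (Steps.bwd (nat_lit 4) (Steps.bwd (nat_lit 3) (Steps.bwd (nat_lit 1) (Steps.fwd (nat_lit 24576) (Steps.fwd (nat_lit 8192) (Steps.fwd (nat_lit 24576) (Steps.fwd (nat_lit 8192) (Steps.bwd (nat_lit 2) (Steps.fwd (nat_lit 8192) Steps.nil)))))))))))) (nat_lit 191) (nat_lit 11),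
  Rule.mk (nat_lit 0) (nat_lit 194) (Steps.fwd (nat_lit 8192) (Steps.fwd (nat_lit 16384) (Steps.bwd (nat_lit 4) (Steps.bwd (nat_lit 1) (Steps.fwd (nat_lit 24576) (Steps.fwd (nat_lit 8192) (Steps.fwd (nat_lit 24576) (Steps.fwd (nat_lit 8192) (Steps.fwd (nat_lit 16384) (Steps.fwd (nat_lit 8192) (Steps.fwd (nat_lit 16384) (Steps.fwd (nat_lit 139264) Steps.nil)))))))))))) (nat_lit 192) (nat_lit 1),
  Rule.mk (nat_lit 0) (nat_lit 194) (Steps.fwd (nat_lit 8192) (Steps.fwd (nat_lit 16384) (Steps.fwd (nat_lit 32768) (Steps.bwd (nat_lit 1) (Steps.bwd (nat_lit 2) (Steps.bwd (nat_lit 1) (Steps.fwd (nat_lit 24576) (Steps.bwd (nat_lit 1) (Steps.bwd (nat_lit 3) (Steps.fwd (nat_lit 8192) (Steps.fwd (nat_lit 16384) (Steps.fwd (nat_lit 139264) Steps.nil)))))))))))) (nat_lit 192) (nat_lit 1),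
  Rule.mk (nat_lit 17) (nat_lit 179) (Steps.fwd (nat_lit 24576) (Steps.fwd (nat_lit 8192) (Steps.fwd (nat_lit 24576) (Steps.fwd (nat_lit 8192) (Steps.fwd (nat_lit 16384) (Steps.fwd (nat_lit 8192) (Steps.fwd (nat_lit 16384) (Steps.bwd (nat_lit 1) (Steps.bwd (nat_lit 4) (Steps.fwd (nat_lit 24576) (Steps.bwd (nat_lit 1) Steps.nil))))))))))) (nat_lit 193) (nat_lit 0),
  Rule.mk (nat_lit 0) (nat_lit 194) (Steps.fwd (nat_lit 16384) (Steps.fwd (nat_lit 32768) (Steps.bwd (nat_lit 1) (Steps.bwd (nat_lit 2) (Steps.bwd (nat_lit 1) (Steps.fwd (nat_lit 24576) (Steps.bwd (nat_lit 1) (Steps.bwd (nat_lit 3) (Steps.fwd (nat_lit 8192) (Steps.fwd (nat_lit 16384) (Steps.bwd (nat_lit 1) (Steps.fwd (nat_lit 163840) Steps.nil)))))))))))) (nat_lit 195) (nat_lit 0),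
  Rule.mk (nat_lit 0) (nat_lit 194) (Steps.bwd (nat_lit 20) (Steps.bwd (nat_lit 1) (Steps.fwd (nat_lit 24576) (Steps.fwd (nat_lit 8192) (Steps.fwd (nat_lit 24576) (Steps.fwd (nat_lit 8192) (Steps.fwd (nat_lit 16384) (Steps.fwd (nat_lit 8192) (Steps.fwd (nat_lit 16384) (Steps.bwd (nat_lit 1) (Steps.bwd (nat_lit 4) (Steps.fwd (nat_lit 24576) Steps.nil)))))))))))) (nat_lit 194) (nat_lit 0),
  Rule.mk (nat_lit 0) (nat_lit 194) (Steps.bwd (nat_lit 19) (Steps.bwd (nat_lit 3) (Steps.bwd (nat_lit 4) (Steps.fwd (nat_lit 8192) (Steps.bwd (nat_lit 2) (Steps.bwd (nat_lit 1) (Steps.fwd (nat_lit 24576) (Steps.fwd (nat_lit 8192) (Steps.bwd (nat_lit 3) (Steps.fwd (nat_lit 8192) (Steps.fwd (nat_lit 16384) (Steps.fwd (nat_lit 8192) Steps.nil)))))))))))) (nat_lit 195) (nat_lit 11),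
  Rule.mk (nat_lit 19) (nat_lit 179) (Steps.fwd (nat_lit 16384) (Steps.bwd (nat_lit 4) (Steps.bwd (nat_lit 1) (Steps.fwd (nat_lit 24576) (Steps.fwd (nat_lit 8192) (Steps.fwd (nat_lit 24576) (Steps.fwd (nat_lit 8192) (Steps.fwd (nat_lit 16384) (Steps.fwd (nat_lit 8192) (Steps.fwd (nat_lit 16384) (Steps.bwd (nat_lit 1) Steps.nil))))))))))) (nat_lit 195) (nat_lit 0),
  Rule.mk (nat_lit 9) (nat_lit 134) (Steps.bwd (nat_lit 3) (Steps.bwd (nat_lit 14) (Steps.fwd (nat_lit 90112) (Steps.bwd (nat_lit 9) (Steps.bwd (nat_lit 8) (Steps.bwd (nat_lit 5) (Steps.fwd (nat_lit 32768) (Steps.fwd (nat_lit 24576) Steps.nil)))))))) (nat_lit 179) (nat_lit 8),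
  Rule.mk (nat_lit 15) (nat_lit 179) (Steps.bwd (nat_lit 3) (Steps.fwd (nat_lit 8192) (Steps.fwd (nat_lit 32768) (Steps.bwd (nat_lit 3) (Steps.bwd (nat_lit 1) (Steps.fwd (nat_lit 24576) (Steps.bwd (nat_lit 1) (Steps.fwd (nat_lit 24576) (Steps.bwd (nat_lit 1) (Steps.fwd (nat_lit 24576) (Steps.fwd (nat_lit 8192) Steps.nil))))))))))) (nat_lit 191) (nat_lit 0),
  Rule.mk (nat_lit 18) (nat_lit 179) (Steps.bwd (nat_lit 1) (Steps.fwd (nat_lit 16384) (Steps.bwd (nat_lit 4) (Steps.fwd (nat_lit 8192) (Steps.bwd (nat_lit 2) (Steps.bwd (nat_lit 1) (Steps.fwd (nat_lit 24576) (Steps.bwd (nat_lit 1) (Steps.fwd (nat_lit 16384) (Steps.bwd (nat_lit 1) (Steps.fwd (nat_lit 16384) Steps.nil))))))))))) (nat_lit 192) (nat_lit 1),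
  Rule.mk (nat_lit 0) (nat_lit 194) (Steps.fwd (nat_lit 16384) (Steps.bwd (nat_lit 4) (Steps.fwd (nat_lit 8192) (Steps.bwd (nat_lit 2) (Steps.bwd (nat_lit 1) (Steps.fwd (nat_lit 24576) (Steps.bwd (nat_lit 1) (Steps.fwd (nat_lit 16384) (Steps.bwd (nat_lit 1) (Steps.fwd (nat_lit 16384) (Steps.bwd (nat_lit 1) (Steps.fwd (nat_lit 163840) Steps.nil)))))))))))) (nat_lit 195) (nat_lit 0),
  Rule.mk (nat_lit 0) (nat_lit 194) (Steps.bwd (nat_lit 18) (Steps.fwd (nat_lit 8192) (Steps.fwd (nat_lit 16384) (Steps.fwd (nat_lit 32768) (Steps.bwd (nat_lit 1) (Steps.bwd (nat_lit 2) (Steps.fwd (nat_lit 8192) (Steps.bwd (nat_lit 2) (Steps.fwd (nat_lit 8192) (Steps.fwd (nat_lit 16384) (Steps.fwd (nat_lit 8192) (Steps.fwd (nat_lit 16384) Steps.nil)))))))))))) (nat_lit 192) (nat_lit 0),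
  Rule.mk (nat_lit 17) (nat_lit 179) (Steps.bwd (nat_lit 2) (Steps.bwd (nat_lit 1) (Steps.fwd (nat_lit 24576) (Steps.bwd (nat_lit 1) (Steps.bwd (nat_lit 3) (Steps.bwd (nat_lit 1) (Steps.bwd (nat_lit 3) (Steps.fwd (nat_lit 8192) (Steps.fwd (nat_lit 32768) (Steps.bwd (nat_lit 2) (Steps.bwd (nat_lit 1) Steps.nil))))))))))) (nat_lit 193) (nat_lit 0),
  Rule.mk (nat_lit 20) (nat_lit 179) (Steps.fwd (nat_lit 8192) (Steps.bwd (nat_lit 2) (Steps.bwd (nat_lit 1) (Steps.bwd (nat_lit 2) (Steps.bwd (nat_lit 1) (Steps.fwd (nat_lit 16384) (Steps.bwd (nat_lit 1) (Steps.fwd (nat_lit 16384) (Steps.fwd (nat_lit 8192) (Steps.bwd (nat_lit 4) (Steps.bwd (nat_lit 2) Steps.nil))))))))))) (nat_lit 194) (nat_lit 1),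
  Rule.mk (nat_lit 1) (nat_lit 179) (Steps.bwd (nat_lit 17) (Steps.bwd (nat_lit 2) (Steps.bwd (nat_lit 1) (Steps.bwd (nat_lit 2) (Steps.fwd (nat_lit 8192) (Steps.bwd (nat_lit 3) (Steps.fwd (nat_lit 8192) (Steps.bwd (nat_lit 3) (Steps.bwd (nat_lit 1) (Steps.fwd (nat_lit 32768) (Steps.bwd (nat_lit 2) Steps.nil))))))))))) (nat_lit 193) (nat_lit 11),
  Rule.mk (nat_lit 10) (nat_lit 134) (Steps.fwd (nat_lit 8192) (Steps.bwd (nat_lit 4) (Steps.bwd (nat_lit 5) (Steps.bwd (nat_lit 8) (Steps.bwd (nat_lit 9) (Steps.fwd (nat_lit 90112) (Steps.bwd (nat_lit 14) (Steps.bwd (nat_lit 1) Steps.nil)))))))) (nat_lit 158) (nat_lit 2),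
  Rule.mk (nat_lit 7) (nat_lit 164) (Steps.bwd (nat_lit 1) (Steps.bwd (nat_lit 5) (Steps.fwd (nat_lit 49152) (Steps.bwd (nat_lit 9) (Steps.bwd (nat_lit 10) (Steps.bwd (nat_lit 11) (Steps.fwd (nat_lit 98304) (Steps.fwd (nat_lit 106496) (Steps.bwd (nat_lit 14) (Steps.bwd (nat_lit 1) Steps.nil)))))))))) (nat_lit 152) (nat_lit 2),
  Rule.mk (nat_lit 12) (nat_lit 164) (Steps.bwd (nat_lit 1) (Steps.fwd (nat_lit 32768) (Steps.fwd (nat_lit 40960) (Steps.fwd (nat_lit 65536) (Steps.bwd (nat_lit 9) (Steps.bwd (nat_lit 10) (Steps.fwd (nat_lit 90112) (Steps.bwd (nat_lit 12) (Steps.bwd (nat_lit 14) (Steps.bwd (nat_lit 1) Steps.nil)))))))))) (nat_lit 162) (nat_lit 2),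
  Rule.mk (nat_lit 15) (nat_lit 179) (Steps.bwd (nat_lit 3) (Steps.fwd (nat_lit 8192) (Steps.fwd (nat_lit 32768) (Steps.bwd (nat_lit 3) (Steps.fwd (nat_lit 8192) (Steps.bwd (nat_lit 2) (Steps.bwd (nat_lit 1) (Steps.fwd (nat_lit 24576) (Steps.bwd (nat_lit 1) (Steps.bwd (nat_lit 2) (Steps.bwd (nat_lit 1) Steps.nil))))))))))) (nat_lit 191) (nat_lit 0),
  Rule.mk (nat_lit 19) (nat_lit 179) (Steps.bwd (nat_lit 3) (Steps.bwd (nat_lit 4) (Steps.bwd (nat_lit 1) (Steps.fwd (nat_lit 24576) (Steps.fwd (nat_lit 8192) (Steps.fwd (nat_lit 24576) (Steps.bwd (nat_lit 1) (Steps.fwd (nat_lit 16384) (Steps.bwd (nat_lit 1) (Steps.fwd (nat_lit 16384) (Steps.bwd (nat_lit 1) Steps.nil))))))))))) (nat_lit 195) (nat_lit 0),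
  Rule.mk (nat_lit 3) (nat_lit 539) (Steps.fwd (nat_lit 8192) (Steps.bwd (nat_lit 2) (Steps.fwd (nat_lit 8192) (Steps.fwd (nat_lit 16384) (Steps.bwd (nat_lit 1) (Steps.fwd (nat_lit 16384) (Steps.fwd (nat_lit 8192) (Steps.fwd (nat_lit 24576) (Steps.fwd (nat_lit 8192) (Steps.bwd (nat_lit 3) (Steps.fwd (nat_lit 8192) (Steps.bwd (nat_lit 3) (Steps.bwd (nat_lit 1) (Steps.bwd (nat_lit 2) (Steps.fwd (nat_lit 8192) (Steps.fwd (nat_lit 16384) (Steps.bwd (nat_lit 1) (Steps.fwd (nat_lit 16384) (Steps.fwd (nat_lit 8192) (Steps.fwd (nat_lit 24576) (Steps.fwd (nat_lit 8192) (Steps.bwd (nat_lit 2) (Steps.fwd (nat_lit 8192) (Steps.fwd (nat_lit 16384) (Steps.bwd (nat_lit 1) (Steps.bwd (nat_lit 2) (Steps.fwd (nat_lit 8192) (Steps.bwd (nat_lit 2) (Steps.bwd (nat_lit 1) (Steps.fwd (nat_lit 16384) (Steps.bwd (nat_lit 1) (Steps.fwd (nat_lit 24576) (Steps.bwd (nat_lit 1) (Steps.bwd (nat_lit 2) (Steps.bwd (nat_lit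 1) Steps.nil))))))))))))))))))))))))))))))))))) (nat_lit 12) (nat_lit 18),
  Rule.mk (nat_lit 2) (nat_lit 539) (Steps.bwd (nat_lit 1) (Steps.bwd (nat_lit 2) (Steps.fwd (nat_lit 8192) (Steps.bwd (nat_lit 3) (Steps.fwd (nat_lit 8192) (Steps.bwd (nat_lit 2) (Steps.bwd (nat_lit 1) (Steps.fwd (nat_lit 16384) (Steps.fwd (nat_lit 8192) (Steps.bwd (nat_lit 3) (Steps.bwd (nat_lit 1) (Steps.fwd (nat_lit 24576) (Steps.bwd (nat_lit 1) (Steps.bwd (nat_lit 3) (Steps.fwd (nat_lit 8192) (Steps.bwd (nat_lit 3) (Steps.fwd (nat_lit 8192) (Steps.fwd (nat_lit 24576) (Steps.fwd (nat_lit 8192) (Steps.fwd (nat_lit 16384) (Steps.fwd (nat_lit 8192) (Steps.bwd (nat_lit 3) (Steps.bwd (nat_lit 1) (Steps.bwd (nat_lit 2) (Steps.fwd (nat_lit 8192) (Steps.fwd (nat_lit 24576) (Steps.bwd (nat_lit 1) (Steps.bwd (nat_lit 3) (Steps.fwd (nat_lit 8192) (Steps.bwd (nat_lit 2) (Steps.fwd (nat_lit 8192) (Steps.fwd (nat_lit 24576)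 (Steps.bwd (nat_lit 1) (Steps.fwd (nat_lit 16384) (Steps.bwd (nat_lit 1) Steps.nil))))))))))))))))))))))))))))))))))) (nat_lit 12) (nat_lit 14),
  Rule.mk (nat_lit 16) (nat_lit 179) (Steps.bwd (nat_lit 1) (Steps.fwd (nat_lit 16384) (Steps.bwd (nat_lit 1) (Steps.fwd (nat_lit 16384) (Steps.fwd (nat_lit 8192) (Steps.fwd (nat_lit 16384) (Steps.fwd (nat_lit 8192) (Steps.bwd (nat_lit 2) (Steps.fwd (nat_lit 32768) (Steps.fwd (nat_lit 8192) (Steps.fwd (nat_lit 24576) Steps.nil))))))))))) (nat_lit 190) (nat_lit 1),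
  Rule.mk (nat_lit 16) (nat_lit 179) (Steps.fwd (nat_lit 8192) (Steps.fwd (nat_lit 16384) (Steps.fwd (nat_lit 8192) (Steps.fwd (nat_lit 16384) (Steps.fwd (nat_lit 8192) (Steps.bwd (nat_lit 3) (Steps.fwd (nat_lit 8192) (Steps.bwd (nat_lit 2) (Steps.fwd (nat_lit 32768) (Steps.bwd (nat_lit 1) (Steps.bwd (nat_lit 2) Steps.nil))))))))))) (nat_lit 190) (nat_lit 1),
  Rule.mk (nat_lit 15) (nat_lit 179) (Steps.fwd (nat_lit 16384) (Steps.bwd (nat_lit 1) (Steps.bwd (nat_lit 4) (Steps.fwd (nat_lit 16384) (Steps.bwd (nat_lit 1) (Steps.bwd (nat_lit 2) (Steps.fwd (nat_lit 8192) (Steps.bwd (nat_lit 2) (Steps.bwd (nat_lit 1) (Steps.fwd (nat_lit 24576) (Steps.fwd (nat_lit 8192) Steps.nil))))))))))) (nat_lit 191) (nat_lit 0),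
  Rule.mk (nat_lit 15) (nat_lit 179) (Steps.fwd (nat_lit 16384) (Steps.bwd (nat_lit 1) (Steps.bwd (nat_lit 4) (Steps.fwd (nat_lit 16384) (Steps.fwd (nat_lit 8192) (Steps.bwd (nat_lit 2) (Steps.bwd (nat_lit 1) (Steps.fwd (nat_lit 24576) (Steps.fwd (nat_lit 8192) (Steps.bwd (nat_lit 2) (Steps.fwd (nat_lit 8192) Steps.nil))))))))))) (nat_lit 191) (nat_lit 0),
  Rule.mk (nat_lit 15) (nat_lit 179) (Steps.fwd (nat_lit 16384) (Steps.bwd (nat_lit 1) (Steps.fwd (nat_lit 32768) (Steps.fwd (nat_lit 16384) (Steps.bwd (nat_lit 1) (Steps.fwd (nat_lit 24576) (Steps.fwd (nat_lit 8192) (Steps.bwd (nat_lit 2) (Steps.fwd (nat_lit 8192) (Steps.bwd (nat_lit 2) (Steps.fwd (nat_lit 8192) Steps.nil))))))))))) (nat_lit 191) (nat_lit 0),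
  Rule.mk (nat_lit 0) (nat_lit 194) (Steps.bwd (nat_lit 17) (Steps.fwd (nat_lit 24576) (Steps.bwd (nat_lit 1) (Steps.bwd (nat_lit 2) (Steps.bwd (nat_lit 1) (Steps.bwd (nat_lit 3) (Steps.fwd (nat_lit 8192) (Steps.fwd (nat_lit 16384) (Steps.bwd (nat_lit 1) (Steps.bwd (nat_lit 4) (Steps.fwd (nat_lit 24576) (Steps.fwd (nat_lit 8192) Steps.nil)))))))))))) (nat_lit 193) (nat_lit 11),
  Rule.mk (nat_lit 18) (nat_lit 179) (Steps.bwd (nat_lit 1) (Steps.fwd (nat_lit 16384) (Steps.fwd (nat_lit 32768) (Steps.bwd (nat_lit 1) (Steps.fwd (nat_lit 24576) (Steps.fwd (nat_lit 8192) (Steps.bwd (nat_lit 2) (Steps.fwd (nat_lit 8192) (Steps.bwd (nat_lit 3) (Steps.bwd (nat_lit 1) (Steps.fwd (nat_lit 16384) Steps.nil))))))))))) (nat_lit 192) (nat_lit 1),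
  Rule.mk (nat_lit 17) (nat_lit 179) (Steps.bwd (nat_lit 2) (Steps.bwd (nat_lit 1) (Steps.fwd (nat_lit 24576) (Steps.bwd (nat_lit 1) (Steps.fwd (nat_lit 16384) (Steps.fwd (nat_lit 8192) (Steps.fwd (nat_lit 16384) (Steps.fwd (nat_lit 8192) (Steps.bwd (nat_lit 4) (Steps.bwd (nat_lit 2) (Steps.fwd (nat_lit 8192) Steps.nil))))))))))) (nat_lit 193) (nat_lit 0),
  Rule.mk (nat_lit 17) (nat_lit 179) (Steps.bwd (nat_lit 2) (Steps.bwd (nat_lit 1) (Steps.fwd (nat_lit 24576) (Steps.fwd (nat_lit 8192) (Steps.fwd (nat_lit 16384) (Steps.fwd (nat_lit 8192) (Steps.bwd (nat_lit 3) (Steps.fwd (nat_lit 8192) (Steps.fwd (nat_lit 32768) (Steps.fwd (nat_lit 24576) (Steps.bwd (nat_lit 1) Steps.nil))))))))))) (nat_lit 193) (nat_lit 0),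
  Rule.mk (nat_lit 17) (nat_lit 179) (Steps.fwd (nat_lit 24576) (Steps.fwd (nat_lit 8192) (Steps.bwd (nat_lit 2) (Steps.fwd (nat_lit 8192) (Steps.bwd (nat_lit 3) (Steps.bwd (nat_lit 1) (Steps.fwd (nat_lit 16384) (Steps.bwd (nat_lit 1) (Steps.bwd (nat_lit 4) (Steps.bwd (nat_lit 2) (Steps.bwd (nat_lit 1) Steps.nil))))))))))) (nat_lit 193) (nat_lit 0),
  Rule.mk (nat_lit 1) (nat_lit 179) (Steps.bwd (nat_lit 2) (Steps.bwd (nat_lit 1) (Steps.fwd (nat_lit 24576) (Steps.bwd (nat_lit 1) (Steps.fwd (nat_lit 16384) (Steps.fwd (nat_lit 8192) (Steps.fwd (nat_lit 16384) (Steps.fwd (nat_lit 8192) (Steps.bwd (nat_lit 4) (Steps.bwd (nat_lit 2) (Steps.fwd (nat_lit 155648) Steps.nil))))))))))) (nat_lit 194) (nat_lit 2),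
  Rule.mk (nat_lit 0) (nat_lit 194) (Steps.bwd (nat_lit 20) (Steps.bwd (nat_lit 1) (Steps.fwd (nat_lit 24576) (Steps.fwd (nat_lit 8192) (Steps.bwd (nat_lit 2) (Steps.fwd (nat_lit 8192) (Steps.fwd (nat_lit 16384) (Steps.fwd (nat_lit 8192) (Steps.fwd (nat_lit 16384) (Steps.fwd (nat_lit 8192) (Steps.fwd (nat_lit 32768) (Steps.fwd (nat_lit 24576) Steps.nil)))))))))))) (nat_lit 194) (nat_lit 0),
  Rule.mk (nat_lit 20) (nat_lit 179) (Steps.fwd (nat_lit 8192) (Steps.bwd (nat_lit 2) (Steps.bwd (nat_lit 1) (Steps.fwd (nat_lit 24576) (Steps.fwd (nat_lit 8192) (Steps.fwd (nat_lit 16384) (Steps.fwd (nat_lit 8192) (Steps.bwd (nat_lit 3) (Steps.fwd (nat_lit 8192) (Steps.fwd (nat_lit 32768) (Steps.fwd (nat_lit 24576) Steps.nil))))))))))) (nat_lit 194) (nat_lit 1),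
  Rule.mk (nat_lit 0) (nat_lit 194) (Steps.bwd (nat_lit 20) (Steps.bwd (nat_lit 1) (Steps.fwd (nat_lit 24576) (Steps.fwd (nat_lit 8192) (Steps.bwd (nat_lit 2) (Steps.fwd (nat_lit 8192) (Steps.bwd (nat_lit 3) (Steps.bwd (nat_lit 1) (Steps.fwd (nat_lit 16384) (Steps.bwd (nat_lit 1) (Steps.bwd (nat_lit 4) (Steps.bwd (nat_lit 2) Steps.nil)))))))))))) (nat_lit 194) (nat_lit 0),
  Rule.mk (nat_lit 19) (nat_lit 179) (Steps.fwd (nat_lit 16384) (Steps.fwd (nat_lit 32768) (Steps.bwd (nat_lit 1) (Steps.fwd (nat_lit 24576) (Steps.fwd (nat_lit 8192) (Steps.bwd (nat_lit 2) (Steps.fwd (nat_lit 8192) (Steps.fwd (nat_lit 16384) (Steps.fwd (nat_lit 8192) (Steps.fwd (nat_lit 16384) (Steps.fwd (nat_lit 8192) Steps.nil))))))))))) (nat_lit 195) (nat_lit 0),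
  Rule.mk (nat_lit 19) (nat_lit 179) (Steps.bwd (nat_lit 3) (Steps.fwd (nat_lit 32768) (Steps.fwd (nat_lit 8192) (Steps.bwd (nat_lit 2) (Steps.bwd (nat_lit 1) (Steps.fwd (nat_lit 24576) (Steps.fwd (nat_lit 8192) (Steps.fwd (nat_lit 16384) (Steps.fwd (nat_lit 8192) (Steps.bwd (nat_lit 3) (Steps.fwd (nat_lit 8192) Steps.nil))))))))))) (nat_lit 195) (nat_lit 0),
  Rule.mk (nat_lit 19) (nat_lit 179) (Steps.fwd (nat_lit 16384) (Steps.fwd (nat_lit 32768) (Steps.bwd (nat_lit 1) (Steps.fwd (nat_lit 24576) (Steps.fwd (nat_lit 8192) (Steps.bwd (nat_lit 2) (Steps.fwd (nat_lit 8192) (Steps.bwd (nat_lit 3) (Steps.bwd (nat_lit 1) (Steps.fwd (nat_lit 16384) (Steps.bwd (nat_lit 1) Steps.nil))))))))))) (nat_lit 195) (nat_lit 0),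
  Rule.mk (nat_lit 11) (nat_lit 104) (Steps.bwd (nat_lit 1) (Steps.bwd (nat_lit 14) (Steps.fwd (nat_lit 98304) (Steps.bwd (nat_lit 11) (Steps.bwd (nat_lit 6) (Steps.fwd (nat_lit 8192) Steps.nil)))))) (nat_lit 161) (nat_lit 6),
  Rule.mk (nat_lit 7) (nat_lit 164) (Steps.bwd (nat_lit 1) (Steps.fwd (nat_lit 40960) (Steps.bwd (nat_lit 6) (Steps.fwd (nat_lit 73728) (Steps.bwd (nat_lit 10) (Steps.fwd (nat_lit 90112) (Steps.bwd (nat_lit 12) (Steps.fwd (nat_lit 106496) (Steps.fwd (nat_lit 114688) (Steps.fwd (nat_lit 8192) Steps.nil)))))))))) (nat_lit 152) (nat_lit 2),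
  Rule.mk (nat_lit 16) (nat_lit 179) (Steps.bwd (nat_lit 1) (Steps.fwd (nat_lit 16384) (Steps.bwd (nat_lit 1) (Steps.fwd (nat_lit 16384) (Steps.fwd (nat_lit 8192) (Steps.bwd (nat_lit 3) (Steps.bwd (nat_lit 1) (Steps.fwd (nat_lit 24576) (Steps.fwd (nat_lit 32768) (Steps.bwd (nat_lit 1) (Steps.fwd (nat_lit 24576) Steps.nil))))))))))) (nat_lit 190) (nat_lit 1),
  Rule.mk (nat_lit 3) (nat_lit 179) (Steps.bwd (nat_lit 1) (Steps.bwd (nat_lit 4) (Steps.bwd (nat_lit 3) (Steps.fwd (nat_lit 8192) (Steps.bwd (nat_lit 2) (Steps.fwd (nat_lit 8192) (Steps.bwd (nat_lit 2) (Steps.fwd (nat_lit 8192) (Steps.bwd (nat_lit 2) (Steps.fwd (nat_lit 8192) (Steps.fwd (nat_lit 131072) Steps.nil))))))))))) (nat_lit 191) (nat_lit 1),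
  Rule.mk (nat_lit 18) (nat_lit 179) (Steps.bwd (nat_lit 1) (Steps.fwd (nat_lit 16384) (Steps.bwd (nat_lit 4) (Steps.bwd (nat_lit 1) (Steps.bwd (nat_lit 2) (Steps.bwd (nat_lit 1) (Steps.fwd (nat_lit 24576) (Steps.bwd (nat_lit 1) (Steps.fwd (nat_lit 16384) (Steps.fwd (nat_lit 8192) (Steps.fwd (nat_lit 16384) Steps.nil))))))))))) (nat_lit 192) (nat_lit 1),
  Rule.mk (nat_lit 0) (nat_lit 554) (Steps.bwd (nat_lit 3) (Steps.bwd (nat_lit 1) (Steps.fwd (nat_lit 16384) (Steps.bwd (nat_lit 1) (Steps.fwd (nat_lit 24576) (Steps.bwd (nat_lit 1) (Steps.fwd (nat_lit 24576) (Steps.bwd (nat_lit 1) (Steps.bwd (nat_lit 3) (Steps.bwd (nat_lit 1) (Steps.bwd (nat_lit 2) (Steps.fwd (nat_lit 8192) (Steps.fwd (nat_lit 24576) (Steps.fwd (nat_lit 8192) (Steps.bwd (nat_lit 3) (Steps.fwd (nat_lit 8192) (Steps.fwd (nat_lit 24576) (Steps.bwd (nat_lit 1) (Steps.fwd (nat_lit 24576) (Steps.bwd (nat_lit 1) (Steps.bwd (nat_lit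 3) (Steps.bwd (nat_lit 1) (Steps.fwd (nat_lit 24576) (Steps.fwd (nat_lit 8192) (Steps.bwd (nat_lit 3) (Steps.fwd (nat_lit 8192) (Steps.bwd (nat_lit 3) (Steps.bwd (nat_lit 1) (Steps.bwd (nat_lit 2) (Steps.fwd (nat_lit 8192) (Steps.fwd (nat_lit 16384) (Steps.bwd (nat_lit 1) (Steps.fwd (nat_lit 16384) (Steps.bwd (nat_lit 1) (Steps.bwd (nat_lit 2) (Steps.bwd (nat_lit 1) Steps.nil)))))))))))))))))))))))))))))))))))) (nat_lit 12) (nat_lit 33),
  Rule.mk (nat_lit 2) (nat_lit 539) (Steps.bwd (nat_lit 1) (Steps.fwd (nat_lit 16384) (Steps.bwd (nat_lit 1) (Steps.fwd (nat_lit 16384) (Steps.fwd (nat_lit 8192) (Steps.bwd (nat_lit 2) (Steps.fwd (nat_lit 8192) (Steps.bwd (nat_lit 2) (Steps.fwd (nat_lit 8192) (Steps.fwd (nat_lit 16384) (Steps.fwd (nat_lit 8192) (Steps.bwd (nat_lit 2) (Steps.bwd (nat_lit 1) (Steps.bwd (nat_lit 2) (Steps.fwd (nat_lit 8192) (Steps.fwd (nat_lit 16384) (Steps.fwd (nat_lit 8192)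 (Steps.bwd (nat_lit 2) (Steps.fwd (nat_lit 8192) (Steps.fwd (nat_lit 24576) (Steps.fwd (nat_lit 8192) (Steps.bwd (nat_lit 3) (Steps.fwd (nat_lit 8192) (Steps.fwd (nat_lit 24576) (Steps.fwd (nat_lit 8192) (Steps.bwd (nat_lit 3) (Steps.fwd (nat_lit 8192) (Steps.fwd (nat_lit 16384) (Steps.fwd (nat_lit 8192) (Steps.fwd (nat_lit 24576) (Steps.fwd (nat_lit 8192) (Steps.fwd (nat_lit 16384) (Steps.fwd (nat_lit 8192) (Steps.bwd (nat_lit 3) (Steps.bwd (nat_lit 1) Steps.nil))))))))))))))))))))))))))))))))))) (nat_lit 12) (nat_lit 32),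
  Rule.mk (nat_lit 16) (nat_lit 179) (Steps.fwd (nat_lit 8192) (Steps.bwd (nat_lit 3) (Steps.fwd (nat_lit 8192) (Steps.bwd (nat_lit 3) (Steps.fwd (nat_lit 8192) (Steps.fwd (nat_lit 16384) (Steps.fwd (nat_lit 8192) (Steps.bwd (nat_lit 2) (Steps.fwd (nat_lit 32768) (Steps.fwd (nat_lit 8192) (Steps.fwd (nat_lit 24576) Steps.nil))))))))))) (nat_lit 190) (nat_lit 1),
  Rule.mk (nat_lit 16) (nat_lit 179) (Steps.fwd (nat_lit 8192) (Steps.bwd (nat_lit 3) (Steps.fwd (nat_lit 8192) (Steps.fwd (nat_lit 16384) (Steps.fwd (nat_lit 8192) (Steps.fwd (nat_lit 16384) (Steps.fwd (nat_lit 8192) (Steps.fwd (nat_lit 24576) (Steps.fwd (nat_lit 32768) (Steps.fwd (nat_lit 8192) (Steps.bwd (nat_lit 2) Steps.nil))))))))))) (nat_lit 190) (nat_lit 1),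
  Rule.mk (nat_lit 16) (nat_lit 179) (Steps.fwd (nat_lit 8192) (Steps.fwd (nat_lit 16384) (Steps.fwd (nat_lit 8192) (Steps.fwd (nat_lit 16384) (Steps.fwd (nat_lit 8192) (Steps.bwd (nat_lit 3) (Steps.bwd (nat_lit 1) (Steps.bwd (nat_lit 2) (Steps.bwd (nat_lit 4) (Steps.bwd (nat_lit 1) (Steps.fwd (nat_lit 24576) Steps.nil))))))))))) (nat_lit 190) (nat_lit 1),
  Rule.mk (nat_lit 17) (nat_lit 179) (Steps.bwd (nat_lit 2) (Steps.bwd (nat_lit 1) (Steps.bwd (nat_lit 2) (Steps.fwd (nat_lit 8192) (Steps.fwd (nat_lit 16384) (Steps.fwd (nat_lit 8192) (Steps.fwd (nat_lit 16384) (Steps.fwd (nat_lit 8192) (Steps.bwd (nat_lit 4) (Steps.fwd (nat_lit 24576) (Steps.fwd (nat_lit 8192) Steps.nil))))))))))) (nat_lit 193) (nat_lit 0),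
  Rule.mk (nat_lit 17) (nat_lit 179) (Steps.bwd (nat_lit 2) (Steps.fwd (nat_lit 8192) (Steps.bwd (nat_lit 2) (Steps.fwd (nat_lit 8192) (Steps.fwd (nat_lit 16384) (Steps.fwd (nat_lit 8192) (Steps.bwd (nat_lit 3) (Steps.bwd (nat_lit 1) (Steps.fwd (nat_lit 32768) (Steps.fwd (nat_lit 24576) (Steps.bwd (nat_lit 1) Steps.nil))))))))))) (nat_lit 193) (nat_lit 0),
  Rule.mk (nat_lit 0) (nat_lit 194) (Steps.bwd (nat_lit 20) (Steps.fwd (nat_lit 8192) (Steps.bwd (nat_lit 2) (Steps.bwd (nat_lit 1) (Steps.bwd (nat_lit 2) (Steps.fwd (nat_lit 8192) (Steps.fwd (nat_lit 16384) (Steps.fwd (nat_lit 8192) (Steps.fwd (nat_lit 16384) (Steps.fwd (nat_lit 8192) (Steps.bwd (nat_lit 4) (Steps.fwd (nat_lit 24576) Steps.nil)))))))))))) (nat_lit 194) (nat_lit 0)]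
noncomputable def R_99 : List (Rule) := [Rule.mk (nat_lit 20) (nat_lit 179) (Steps.bwd (nat_lit 1) (Steps.bwd (nat_lit 2) (Steps.fwd (nat_lit 8192) (Steps.bwd (nat_lit 2) (Steps.fwd (nat_lit 8192) (Steps.fwd (nat_lit 16384) (Steps.fwd (nat_lit 8192) (Steps.bwd (nat_lit 3) (Steps.bwd (nat_lit 1) (Steps.fwd (nat_lit 32768) (Steps.fwd (nat_lit 24576) Steps.nil))))))))))) (nat_lit 194) (nat_lit 1),
  Rule.mk (nat_lit 0) (nat_lit 194) (Steps.bwd (nat_lit 20) (Steps.bwd (nat_lit 1) (Steps.bwd (nat_lit 2) (Steps.bwd (nat_lit 1) (Steps.bwd (nat_lit 2) (Steps.bwd (nat_lit 1) (Steps.fwd (nat_lit 16384) (Steps.fwd (nat_lit 8192) (Steps.fwd (nat_lit 16384) (Steps.bwd (nat_lit 1) (Steps.fwd (nat_lit 32768) (Steps.bwd (nat_lit 2) Steps.nil)))))))))))) (nat_lit 194) (nat_lit 0),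
  Rule.mk (nat_lit 16) (nat_lit 179) (Steps.bwd (nat_lit 1) (Steps.bwd (nat_lit 3) (Steps.fwd (nat_lit 8192) (Steps.fwd (nat_lit 16384) (Steps.fwd (nat_lit 8192) (Steps.bwd (nat_lit 3) (Steps.bwd (nat_lit 1) (Steps.bwd (nat_lit 2) (Steps.fwd (nat_lit 32768) (Steps.bwd (nat_lit 1) (Steps.bwd (nat_lit 2) Steps.nil))))))))))) (nat_lit 190) (nat_lit 1),
  Rule.mk (nat_lit 17) (nat_lit 179) (Steps.bwd (nat_lit 2) (Steps.bwd (nat_lit 1) (Steps.bwd (nat_lit 2) (Steps.bwd (nat_lit 1) (Steps.fwd (nat_lit 16384) (Steps.bwd (nat_lit 1) (Steps.fwd (nat_lit 16384) (Steps.fwd (nat_lit 8192) (Steps.bwd (nat_lit 4) (Steps.bwd (nat_lit 2) (Steps.fwd (nat_lit 8192) Steps.nil))))))))))) (nat_lit 193) (nat_lit 0),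
  Rule.mk (nat_lit 20) (nat_lit 179) (Steps.bwd (nat_lit 1) (Steps.bwd (nat_lit 2) (Steps.bwd (nat_lit 1) (Steps.bwd (nat_lit 2) (Steps.bwd (nat_lit 1) (Steps.fwd (nat_lit 16384) (Steps.bwd (nat_lit 1) (Steps.fwd (nat_lit 16384) (Steps.fwd (nat_lit 8192) (Steps.bwd (nat_lit 4) (Steps.bwd (nat_lit 2) Steps.nil))))))))))) (nat_lit 194) (nat_lit 1),
  Rule.mk (nat_lit 17) (nat_lit 179) (Steps.fwd (nat_lit 24576) (Steps.fwd (nat_lit 8192) (Steps.fwd (nat_lit 24576) (Steps.bwd (nat_lit 1) (Steps.fwd (nat_lit 16384) (Steps.fwd (nat_lit 8192) (Steps.bwd (nat_lit 3) (Steps.fwd (nat_lit 8192) (Steps.fwd (nat_lit 32768) (Steps.bwd (nat_lit 2) (Steps.bwd (nat_lit 1) Steps.nil))))))))))) (nat_lit 193) (nat_lit 0),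
  Rule.mk (nat_lit 20) (nat_lit 179) (Steps.bwd (nat_lit 1) (Steps.fwd (nat_lit 24576) (Steps.fwd (nat_lit 8192) (Steps.fwd (nat_lit 24576) (Steps.bwd (nat_lit 1) (Steps.fwd (nat_lit 16384) (Steps.fwd (nat_lit 8192) (Steps.bwd (nat_lit 3) (Steps.fwd (nat_lit 8192) (Steps.fwd (nat_lit 32768) (Steps.bwd (nat_lit 2) Steps.nil))))))))))) (nat_lit 194) (nat_lit 1),
  Rule.mk (nat_lit 15) (nat_lit 179) (Steps.bwd (nat_lit 3) (Steps.fwd (nat_lit 8192) (Steps.bwd (nat_lit 4) (Steps.fwd (nat_lit 16384) (Steps.fwd (nat_lit 8192) (Steps.bwd (nat_lit 2) (Steps.bwd (nat_lit 1) (Steps.bwd (nat_lit 2) (Steps.bwd (nat_lit 1) (Steps.fwd (nat_lit 24576) (Steps.bwd (nat_lit 1) Steps.nil))))))))))) (nat_lit 191) (nat_lit 0),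
  Rule.mk (nat_lit 2) (nat_lit 179) (Steps.bwd (nat_lit 20) (Steps.bwd (nat_lit 1) (Steps.fwd (nat_lit 24576) (Steps.bwd (nat_lit 1) (Steps.bwd (nat_lit 2) (Steps.fwd (nat_lit 8192) (Steps.bwd (nat_lit 3) (Steps.bwd (nat_lit 1) (Steps.fwd (nat_lit 16384) (Steps.fwd (nat_lit 8192) (Steps.bwd (nat_lit 4) Steps.nil))))))))))) (nat_lit 194) (nat_lit 0),
  Rule.mk (nat_lit 14) (nat_lit 119) (Steps.bwd (nat_lit 3) (Steps.fwd (nat_lit 40960) (Steps.fwd (nat_lit 49152) (Steps.bwd (nat_lit 7) (Steps.fwd (nat_lit 98304) (Steps.bwd (nat_lit 14) (Steps.bwd (nat_lit 2) Steps.nil))))))) (nat_lit 188) (nat_lit 2),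
  Rule.mk (nat_lit 9) (nat_lit 134) (Steps.fwd (nat_lit 16384) (Steps.fwd (nat_lit 32768) (Steps.bwd (nat_lit 5) (Steps.fwd (nat_lit 65536) (Steps.fwd (nat_lit 73728) (Steps.fwd (nat_lit 90112) (Steps.bwd (nat_lit 14) (Steps.bwd (nat_lit 2) Steps.nil)))))))) (nat_lit 178) (nat_lit 2),
  Rule.mk (nat_lit 13) (nat_lit 134) (Steps.bwd (nat_lit 3) (Steps.bwd (nat_lit 6) (Steps.bwd (nat_lit 10) (Steps.fwd (nat_lit 90112) (Steps.bwd (nat_lit 12) (Steps.fwd (nat_lit 106496) (Steps.bwd (nat_lit 14) (Steps.bwd (nat_lit 2) Steps.nil)))))))) (nat_lit 186) (nat_lit 2),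
  Rule.mk (nat_lit 5) (nat_lit 149) (Steps.bwd (nat_lit 3) (Steps.fwd (nat_lit 32768) (Steps.bwd (nat_lit 5) (Steps.bwd (nat_lit 8) (Steps.fwd (nat_lit 73728) (Steps.bwd (nat_lit 12) (Steps.fwd (nat_lit 106496) (Steps.bwd (nat_lit 14) (Steps.bwd (nat_lit 2) Steps.nil))))))))) (nat_lit 170) (nat_lit 2),
  Rule.mk (nat_lit 11) (nat_lit 164) (Steps.fwd (nat_lit 16384) (Steps.fwd (nat_lit 114688) (Steps.fwd (nat_lit 98304) (Steps.bwd (nat_lit 11) (Steps.fwd (nat_lit 81920) (Steps.fwd (nat_lit 73728) (Steps.bwd (nat_lit 8) (Steps.bwd (nat_lit 5) (Steps.bwd (nat_lit 4) (Steps.bwd (nat_lit 2) Steps.nil)))))))))) (nat_lit 183) (nat_lit 10),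
  Rule.mk (nat_lit 16) (nat_lit 179) (Steps.fwd (nat_lit 8192) (Steps.bwd (nat_lit 3) (Steps.fwd (nat_lit 8192) (Steps.fwd (nat_lit 16384) (Steps.bwd (nat_lit 1) (Steps.bwd (nat_lit 3) (Steps.fwd (nat_lit 8192) (Steps.fwd (nat_lit 24576) (Steps.fwd (nat_lit 32768) (Steps.bwd (nat_lit 1) (Steps.bwd (nat_lit 2) Steps.nil))))))))))) (nat_lit 190) (nat_lit 1),
  Rule.mk (nat_lit 1) (nat_lit 539) (Steps.fwd (nat_lit 16384) (Steps.fwd (nat_lit 8192) (Steps.bwd (nat_lit 2) (Steps.bwd (nat_lit 1) (Steps.fwd (nat_lit 24576) (Steps.fwd (nat_lit 8192) (Steps.bwd (nat_lit 3) (Steps.fwd (nat_lit 8192) (Steps.bwd (nat_lit 2) (Steps.bwd (nat_lit 1) (Steps.fwd (nat_lit 16384) (Steps.bwd (nat_lit 1) (Steps.fwd (nat_lit 16384) (Steps.fwd (nat_lit 8192) (Steps.fwd (nat_lit 24576) (Steps.fwd (nat_lit 8192) (Steps.fwd (nat_lit 16384) (Steps.bwd (nat_lit 1) (Steps.bwd (nat_lit 3) (Steps.bwd (nat_lit 1) (Steps.bwd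 (nat_lit 2) (Steps.fwd (nat_lit 8192) (Steps.bwd (nat_lit 3) (Steps.bwd (nat_lit 1) (Steps.fwd (nat_lit 16384) (Steps.fwd (nat_lit 8192) (Steps.bwd (nat_lit 2) (Steps.fwd (nat_lit 8192) (Steps.bwd (nat_lit 2) (Steps.fwd (nat_lit 8192) (Steps.bwd (nat_lit 3) (Steps.bwd (nat_lit 1) (Steps.bwd (nat_lit 2) (Steps.bwd (nat_lit 1) (Steps.bwd (nat_lit 2) Steps.nil))))))))))))))))))))))))))))))))))) (nat_lit 12) (nat_lit 11),
  Rule.mk (nat_lit 6) (nat_lit 104) (Steps.bwd (nat_lit 1) (Steps.bwd (nat_lit 11) (Steps.bwd (nat_lit 1) (Steps.bwd (nat_lit 14) (Steps.bwd (nat_lit 12) (Steps.fwd (nat_lit 90112) Steps.nil)))))) (nat_lit 161) (nat_lit 4),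
  Rule.mk (nat_lit 16) (nat_lit 179) (Steps.bwd (nat_lit 1) (Steps.bwd (nat_lit 3) (Steps.fwd (nat_lit 8192) (Steps.bwd (nat_lit 3) (Steps.bwd (nat_lit 1) (Steps.fwd (nat_lit 16384) (Steps.fwd (nat_lit 8192) (Steps.bwd (nat_lit 2) (Steps.fwd (nat_lit 32768) (Steps.bwd (nat_lit 1) (Steps.fwd (nat_lit 24576) Steps.nil))))))))))) (nat_lit 190) (nat_lit 1),
  Rule.mk (nat_lit 16) (nat_lit 179) (Steps.fwd (nat_lit 8192) (Steps.bwd (nat_lit 3) (Steps.fwd (nat_lit 8192) (Steps.bwd (nat_lit 3) (Steps.fwd (nat_lit 8192) (Steps.fwd (nat_lit 16384) (Steps.bwd (nat_lit 1) (Steps.fwd (nat_lit 24576) (Steps.fwd (nat_lit 32768) (Steps.bwd (nat_lit 1) (Steps.bwd (nat_lit 2) Steps.nil))))))))))) (nat_lit 190) (nat_lit 1),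
  Rule.mk (nat_lit 0) (nat_lit 194) (Steps.bwd (nat_lit 16) (Steps.fwd (nat_lit 8192) (Steps.bwd (nat_lit 3) (Steps.fwd (nat_lit 8192) (Steps.fwd (nat_lit 16384) (Steps.bwd (nat_lit 1) (Steps.fwd (nat_lit 16384) (Steps.fwd (nat_lit 8192) (Steps.bwd (nat_lit 2) (Steps.fwd (nat_lit 32768) (Steps.bwd (nat_lit 1) (Steps.fwd (nat_lit 24576) Steps.nil)))))))))))) (nat_lit 190) (nat_lit 0),
  Rule.mk (nat_lit 15) (nat_lit 179) (Steps.fwd (nat_lit 16384) (Steps.bwd (nat_lit 1) (Steps.fwd (nat_lit 32768) (Steps.fwd (nat_lit 16384) (Steps.bwd (nat_lit 1) (Steps.fwd (nat_lit 24576) (Steps.bwd (nat_lit 1) (Steps.bwd (nat_lit 2) (Steps.bwd (nat_lit 1) (Steps.bwd (nat_lit 2) (Steps.bwd (nat_lit 1) Steps.nil))))))))))) (nat_lit 191) (nat_lit 0),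
  Rule.mk (nat_lit 0) (nat_lit 194) (Steps.bwd (nat_lit 16) (Steps.fwd (nat_lit 8192) (Steps.bwd (nat_lit 3) (Steps.fwd (nat_lit 8192) (Steps.fwd (nat_lit 16384) (Steps.fwd (nat_lit 8192) (Steps.fwd (nat_lit 16384) (Steps.fwd (nat_lit 8192) (Steps.fwd (nat_lit 24576) (Steps.bwd (nat_lit 4) (Steps.fwd (nat_lit 8192) (Steps.bwd (nat_lit 2) Steps.nil)))))))))))) (nat_lit 190) (nat_lit 0),
  Rule.mk (nat_lit 0) (nat_lit 194) (Steps.bwd (nat_lit 16) (Steps.bwd (nat_lit 1) (Steps.fwd (nat_lit 16384) (Steps.fwd (nat_lit 8192) (Steps.fwd (nat_lit 16384) (Steps.fwd (nat_lit 8192) (Steps.bwd (nat_lit 3) (Steps.fwd (nat_lit 8192) (Steps.bwd (nat_lit 2) (Steps.fwd (nat_lit 32768) (Steps.bwd (nat_lit 1) (Steps.fwd (nat_lit 24576) Steps.nil)))))))))))) (nat_lit 190) (nat_lit 0),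
  Rule.mk (nat_lit 0) (nat_lit 194) (Steps.bwd (nat_lit 16) (Steps.fwd (nat_lit 8192) (Steps.fwd (nat_lit 16384) (Steps.bwd (nat_lit 1) (Steps.bwd (nat_lit 3) (Steps.fwd (nat_lit 8192) (Steps.fwd (nat_lit 16384) (Steps.fwd (nat_lit 8192) (Steps.fwd (nat_lit 24576) (Steps.fwd (nat_lit 32768) (Steps.fwd (nat_lit 8192) (Steps.bwd (nat_lit 2) Steps.nil)))))))))))) (nat_lit 190) (nat_lit 0),
  Rule.mk (nat_lit 0) (nat_lit 194) (Steps.bwd (nat_lit 18) (Steps.bwd (nat_lit 1) (Steps.bwd (nat_lit 3) (Steps.bwd (nat_lit 4) (Steps.fwd (nat_lit 8192) (Steps.fwd (nat_lit 24576) (Steps.bwd (nat_lit 1) (Steps.fwd (nat_lit 24576) (Steps.fwd (nat_lit 8192) (Steps.fwd (nat_lit 16384) (Steps.bwd (nat_lit 1) (Steps.fwd (nat_lit 16384) Steps.nil)))))))))))) (nat_lit 192) (nat_lit 0),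
  Rule.mk (nat_lit 0) (nat_lit 194) (Steps.bwd (nat_lit 18) (Steps.bwd (nat_lit 1) (Steps.fwd (nat_lit 16384) (Steps.fwd (nat_lit 32768) (Steps.bwd (nat_lit 1) (Steps.bwd (nat_lit 2) (Steps.bwd (nat_lit 1) (Steps.bwd (nat_lit 2) (Steps.bwd (nat_lit 1) (Steps.fwd (nat_lit 16384) (Steps.fwd (nat_lit 8192) (Steps.fwd (nat_lit 16384) Steps.nil)))))))))))) (nat_lit 192) (nat_lit 0),
  Rule.mk (nat_lit 0) (nat_lit 194) (Steps.bwd (nat_lit 17) (Steps.bwd (nat_lit 2) (Steps.fwd (nat_lit 8192) (Steps.bwd (nat_lit 2) (Steps.fwd (nat_lit 8192) (Steps.fwd (nat_lit 16384) (Steps.fwd (nat_lit 8192) (Steps.bwd (nat_lit 3) (Steps.fwd (nat_lit 8192) (Steps.bwd (nat_lit 4) (Steps.fwd (nat_lit 24576) (Steps.bwd (nat_lit 1) Steps.nil)))))))))))) (nat_lit 193) (nat_lit 11),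
  Rule.mk (nat_lit 18) (nat_lit 179) (Steps.bwd (nat_lit 1) (Steps.fwd (nat_lit 16384) (Steps.bwd (nat_lit 4) (Steps.bwd (nat_lit 1) (Steps.bwd (nat_lit 2) (Steps.bwd (nat_lit 1) (Steps.fwd (nat_lit 24576) (Steps.fwd (nat_lit 8192) (Steps.fwd (nat_lit 16384) (Steps.fwd (nat_lit 8192) (Steps.bwd (nat_lit 3) Steps.nil))))))))))) (nat_lit 192) (nat_lit 1),
  Rule.mk (nat_lit 17) (nat_lit 179) (Steps.fwd (nat_lit 24576) (Steps.bwd (nat_lit 1) (Steps.bwd (nat_lit 2) (Steps.fwd (nat_lit 8192) (Steps.bwd (nat_lit 3) (Steps.bwd (nat_lit 1) (Steps.fwd (nat_lit 16384) (Steps.fwd (nat_lit 8192) (Steps.bwd (nat_lit 4) (Steps.bwd (nat_lit 2) (Steps.bwd (nat_lit 1) Steps.nil))))))))))) (nat_lit 193) (nat_lit 0),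
  Rule.mk (nat_lit 17) (nat_lit 179) (Steps.bwd (nat_lit 2) (Steps.bwd (nat_lit 1) (Steps.bwd (nat_lit 2) (Steps.bwd (nat_lit 1) (Steps.fwd (nat_lit 16384) (Steps.fwd (nat_lit 8192) (Steps.fwd (nat_lit 16384) (Steps.fwd (nat_lit 8192) (Steps.fwd (nat_lit 32768) (Steps.bwd (nat_lit 2) (Steps.bwd (nat_lit 1) Steps.nil))))))))))) (nat_lit 193) (nat_lit 0),
  Rule.mk (nat_lit 20) (nat_lit 179) (Steps.bwd (nat_lit 1) (Steps.fwd (nat_lit 24576) (Steps.bwd (nat_lit 1) (Steps.fwd (nat_lit 24576) (Steps.fwd (nat_lit 8192) (Steps.bwd (nat_lit 3) (Steps.fwd (nat_lit 8192) (Steps.fwd (nat_lit 16384) (Steps.bwd (nat_lit 1) (Steps.bwd (nat_lit 4) (Steps.bwd (nat_lit 2) Steps.nil))))))))))) (nat_lit 194) (nat_lit 1),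
  Rule.mk (nat_lit 0) (nat_lit 194) (Steps.bwd (nat_lit 20) (Steps.bwd (nat_lit 1) (Steps.bwd (nat_lit 2) (Steps.bwd (nat_lit 1) (Steps.bwd (nat_lit 2) (Steps.bwd (nat_lit 1) (Steps.fwd (nat_lit 16384) (Steps.fwd (nat_lit 8192) (Steps.fwd (nat_lit 16384) (Steps.fwd (nat_lit 8192) (Steps.fwd (nat_lit 32768) (Steps.bwd (nat_lit 2) Steps.nil)))))))))))) (nat_lit 194) (nat_lit 0),
  Rule.mk (nat_lit 20) (nat_lit 179) (Steps.bwd (nat_lit 1) (Steps.fwd (nat_lit 24576) (Steps.bwd (nat_lit 1) (Steps.bwd (nat_lit 2) (Steps.bwd (nat_lit 1) (Steps.fwd (nat_lit 16384) (Steps.bwd (nat_lit 1) (Steps.fwd (nat_lit 16384) (Steps.bwd (nat_lit 1) (Steps.fwd (nat_lit 32768) (Steps.bwd (nat_lit 2) Steps.nil))))))))))) (nat_lit 194) (nat_lit 1),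
  Rule.mk (nat_lit 19) (nat_lit 179) (Steps.bwd (nat_lit 3) (Steps.bwd (nat_lit 4) (Steps.fwd (nat_lit 8192) (Steps.fwd (nat_lit 24576) (Steps.bwd (nat_lit 1) (Steps.fwd (nat_lit 24576) (Steps.fwd (nat_lit 8192) (Steps.fwd (nat_lit 16384) (Steps.bwd (nat_lit 1) (Steps.fwd (nat_lit 16384) (Steps.fwd (nat_lit 8192) Steps.nil))))))))))) (nat_lit 195) (nat_lit 0),
  Rule.mk (nat_lit 19) (nat_lit 179) (Steps.fwd (nat_lit 16384) (Steps.fwd (nat_lit 32768) (Steps.bwd (nat_lit 1) (Steps.bwd (nat_lit 2) (Steps.bwd (nat_lit 1) (Steps.bwd (nat_lit 2) (Steps.bwd (nat_lit 1) (Steps.fwd (nat_lit 16384) (Steps.fwd (nat_lit 8192) (Steps.fwd (nat_lit 16384) (Steps.fwd (nat_lit 8192) Steps.nil))))))))))) (nat_lit 195) (nat_lit 0),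
  Rule.mk (nat_lit 19) (nat_lit 179) (Steps.bwd (nat_lit 3) (Steps.fwd (nat_lit 32768) (Steps.bwd (nat_lit 1) (Steps.fwd (nat_lit 24576) (Steps.bwd (nat_lit 1) (Steps.bwd (nat_lit 2) (Steps.bwd (nat_lit 1) (Steps.fwd (nat_lit 16384) (Steps.bwd (nat_lit 1) (Steps.fwd (nat_lit 16384) (Steps.bwd (nat_lit 1) Steps.nil))))))))))) (nat_lit 195) (nat_lit 0),
  Rule.mk (nat_lit 18) (nat_lit 179) (Steps.fwd (nat_lit 8192) (Steps.fwd (nat_lit 16384) (Steps.bwd (nat_lit 4) (Steps.fwd (nat_lit 8192) (Steps.bwd (nat_lit 2) (Steps.fwd (nat_lit 8192) (Steps.fwd (nat_lit 24576) (Steps.fwd (nat_lit 8192) (Steps.fwd (nat_lit 16384) (Steps.fwd (nat_lit 8192) (Steps.fwd (nat_lit 16384) Steps.nil))))))))))) (nat_lit 192) (nat_lit 1),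
  Rule.mk (nat_lit 19) (nat_lit 179) (Steps.fwd (nat_lit 16384) (Steps.bwd (nat_lit 4) (Steps.fwd (nat_lit 8192) (Steps.bwd (nat_lit 2) (Steps.fwd (nat_lit 8192) (Steps.fwd (nat_lit 24576) (Steps.fwd (nat_lit 8192) (Steps.fwd (nat_lit 16384) (Steps.fwd (nat_lit 8192) (Steps.fwd (nat_lit 16384) (Steps.fwd (nat_lit 8192) Steps.nil))))))))))) (nat_lit 195) (nat_lit 0),
  Rule.mk (nat_lit 17) (nat_lit 179) (Steps.bwd (nat_lit 2) (Steps.bwd (nat_lit 1) (Steps.fwd (nat_lit 24576) (Steps.bwd (nat_lit 1) (Steps.bwd (nat_lit 3) (Steps.fwd (nat_lit 8192) (Steps.bwd (nat_lit 3) (Steps.fwd (nat_lit 8192) (Steps.fwd (nat_lit 32768) (Steps.fwd (nat_lit 24576) (Steps.fwd (nat_lit 8192) Steps.nil))))))))))) (nat_lit 193) (nat_lit 0),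
  Rule.mk (nat_lit 11) (nat_lit 104) (Steps.bwd (nat_lit 1) (Steps.bwd (nat_lit 6) (Steps.bwd (nat_lit 11) (Steps.fwd (nat_lit 98304) (Steps.fwd (nat_lit 114688) (Steps.fwd (nat_lit 8192) Steps.nil)))))) (nat_lit 160) (nat_lit 2),
  Rule.mk (nat_lit 0) (nat_lit 194) (Steps.bwd (nat_lit 15) (Steps.fwd (nat_lit 16384) (Steps.fwd (nat_lit 8192) (Steps.fwd (nat_lit 32768) (Steps.bwd (nat_lit 3) (Steps.bwd (nat_lit 1) (Steps.bwd (nat_lit 2) (Steps.bwd (nat_lit 1) (Steps.bwd (nat_lit 2) (Steps.fwd (nat_lit 8192) (Steps.fwd (nat_lit 24576) (Steps.fwd (nat_lit 8192) Steps.nil)))))))))))) (nat_lit 191) (nat_lit 11),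
  Rule.mk (nat_lit 0) (nat_lit 194) (Steps.bwd (nat_lit 17) (Steps.fwd (nat_lit 24576) (Steps.bwd (nat_lit 1) (Steps.fwd (nat_lit 24576) (Steps.fwd (nat_lit 8192) (Steps.bwd (nat_lit 3) (Steps.fwd (nat_lit 8192) (Steps.fwd (nat_lit 16384) (Steps.fwd (nat_lit 8192) (Steps.fwd (nat_lit 32768) (Steps.bwd (nat_lit 2) (Steps.fwd (nat_lit 8192) Steps.nil)))))))))))) (nat_lit 193) (nat_lit 11),
  Rule.mk (nat_lit 20) (nat_lit 179) (Steps.bwd (nat_lit 1) (Steps.bwd (nat_lit 2) (Steps.bwd (nat_lit 1) (Steps.fwd (nat_lit 24576) (Steps.bwd (nat_lit 1) (Steps.bwd (nat_lit 3) (Steps.fwd (nat_lit 8192) (Steps.bwd (nat_lit 3) (Steps.fwd (nat_lit 8192) (Steps.bwd (nat_lit 4) (Steps.fwd (nat_lit 24576) Steps.nil))))))))))) (nat_lit 194) (nat_lit 1),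
  Rule.mk (nat_lit 0) (nat_lit 194) (Steps.fwd (nat_lit 16384) (Steps.bwd (nat_lit 4) (Steps.bwd (nat_lit 1) (Steps.bwd (nat_lit 2) (Steps.bwd (nat_lit 1) (Steps.fwd (nat_lit 24576) (Steps.bwd (nat_lit 1) (Steps.bwd (nat_lit 3) (Steps.fwd (nat_lit 8192) (Steps.bwd (nat_lit 3) (Steps.fwd (nat_lit 8192) (Steps.fwd (nat_lit 163840) Steps.nil)))))))))))) (nat_lit 195) (nat_lit 0),
  Rule.mk (nat_lit 3) (nat_lit 539) (Steps.bwd (nat_lit 1) (Steps.bwd (nat_lit 3) (Steps.bwd (nat_lit 1) (Steps.fwd (nat_lit 24576) (Steps.bwd (nat_lit 1) (Steps.bwd (nat_lit 2) (Steps.bwd (nat_lit 1) (Steps.bwd (nat_lit 3) (Steps.fwd (nat_lit 8192) (Steps.bwd (nat_lit 2) (Steps.fwd (nat_lit 8192) (Steps.bwd (nat_lit 2) (Steps.fwd (nat_lit 8192) (Steps.bwd (nat_lit 3) (Steps.fwd (nat_lit 8192) (Steps.bwd (nat_lit 2) (Steps.fwd (nat_lit 8192) (Steps.fwd (nat_lit 24576) (Steps.fwd (nat_lit 8192) (Steps.fwd (nat_lit 16384)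 (Steps.fwd (nat_lit 8192) (Steps.bwd (nat_lit 2) (Steps.bwd (nat_lit 1) (Steps.fwd (nat_lit 16384) (Steps.fwd (nat_lit 8192) (Steps.fwd (nat_lit 16384) (Steps.bwd (nat_lit 1) (Steps.fwd (nat_lit 24576) (Steps.bwd (nat_lit 1) (Steps.bwd (nat_lit 3) (Steps.bwd (nat_lit 1) (Steps.fwd (nat_lit 16384) (Steps.fwd (nat_lit 8192) (Steps.fwd (nat_lit 24576) (Steps.fwd (nat_lit 8192) Steps.nil))))))))))))))))))))))))))))))))))) (nat_lit 12) (nat_lit 34),
  Rule.mk (nat_lit 2) (nat_lit 539) (Steps.bwd (nat_lit 1) (Steps.bwd (nat_lit 3) (Steps.bwd (nat_lit 1) (Steps.bwd (nat_lit 3) (Steps.bwd (nat_lit 1) (Steps.bwd (nat_lit 2) (Steps.fwd (nat_lit 8192) (Steps.bwd (nat_lit 3) (Steps.fwd (nat_lit 8192) (Steps.fwd (nat_lit 16384) (Steps.fwd (nat_lit 8192) (Steps.fwd (nat_lit 24576) (Steps.fwd (nat_lit 8192) (Steps.bwd (nat_lit 2) (Steps.bwd (nat_lit 1) (Steps.bwd (nat_lit 3) (Steps.bwd (nat_lit 1) (Steps.bwd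 (nat_lit 2) (Steps.fwd (nat_lit 8192) (Steps.bwd (nat_lit 2) (Steps.bwd (nat_lit 1) (Steps.fwd (nat_lit 16384) (Steps.fwd (nat_lit 8192) (Steps.fwd (nat_lit 24576) (Steps.fwd (nat_lit 8192) (Steps.fwd (nat_lit 24576) (Steps.bwd (nat_lit 1) (Steps.bwd (nat_lit 3) (Steps.bwd (nat_lit 1) (Steps.bwd (nat_lit 2) (Steps.fwd (nat_lit 8192) (Steps.fwd (nat_lit 16384) (Steps.bwd (nat_lit 1) (Steps.fwd (nat_lit 16384) (Steps.bwd (nat_lit 1) Steps.nil))))))))))))))))))))))))))))))))))) (nat_lit 12) (nat_lit 26),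
  Rule.mk (nat_lit 16) (nat_lit 179) (Steps.fwd (nat_lit 8192) (Steps.bwd (nat_lit 3) (Steps.fwd (nat_lit 8192) (Steps.fwd (nat_lit 16384) (Steps.fwd (nat_lit 8192) (Steps.bwd (nat_lit 3) (Steps.bwd (nat_lit 1) (Steps.fwd (nat_lit 24576) (Steps.bwd (nat_lit 4) (Steps.fwd (nat_lit 8192) (Steps.fwd (nat_lit 24576) Steps.nil))))))))))) (nat_lit 190) (nat_lit 1),
  Rule.mk (nat_lit 0) (nat_lit 194) (Steps.bwd (nat_lit 16) (Steps.fwd (nat_lit 8192) (Steps.bwd (nat_lit 3) (Steps.fwd (nat_lit 8192) (Steps.fwd (nat_lit 16384) (Steps.fwd (nat_lit 8192) (Steps.fwd (nat_lit 16384) (Steps.fwd (nat_lit 8192) (Steps.bwd (nat_lit 2) (Steps.fwd (nat_lit 32768) (Steps.bwd (nat_lit 1) (Steps.bwd (nat_lit 2) Steps.nil)))))))))))) (nat_lit 190) (nat_lit 0),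
  Rule.mk (nat_lit 15) (nat_lit 179) (Steps.fwd (nat_lit 16384) (Steps.fwd (nat_lit 8192) (Steps.bwd (nat_lit 4) (Steps.fwd (nat_lit 16384) (Steps.fwd (nat_lit 8192) (Steps.fwd (nat_lit 24576) (Steps.fwd (nat_lit 8192) (Steps.fwd (nat_lit 24576) (Steps.fwd (nat_lit 8192) (Steps.fwd (nat_lit 24576) (Steps.bwd (nat_lit 1) Steps.nil))))))))))) (nat_lit 191) (nat_lit 0),
  Rule.mk (nat_lit 18) (nat_lit 179) (Steps.fwd (nat_lit 8192) (Steps.bwd (nat_lit 3) (Steps.bwd (nat_lit 4) (Steps.bwd (nat_lit 1) (Steps.bwd (nat_lit 2) (Steps.bwd (nat_lit 1) (Steps.fwd (nat_lit 24576) (Steps.fwd (nat_lit 8192) (Steps.fwd (nat_lit 16384) (Steps.fwd (nat_lit 8192) (Steps.fwd (nat_lit 16384) Steps.nil))))))))))) (nat_lit 192) (nat_lit 1),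
  Rule.mk (nat_lit 18) (nat_lit 179) (Steps.fwd (nat_lit 8192) (Steps.bwd (nat_lit 3) (Steps.bwd (nat_lit 4) (Steps.fwd (nat_lit 8192) (Steps.fwd (nat_lit 24576) (Steps.fwd (nat_lit 8192) (Steps.fwd (nat_lit 24576) (Steps.fwd (nat_lit 8192) (Steps.fwd (nat_lit 16384) (Steps.fwd (nat_lit 8192) (Steps.bwd (nat_lit 3) Steps.nil))))))))))) (nat_lit 192) (nat_lit 1),
  Rule.mk (nat_lit 18) (nat_lit 179) (Steps.fwd (nat_lit 8192) (Steps.fwd (nat_lit 16384) (Steps.bwd (nat_lit 4) (Steps.bwd (nat_lit 1) (Steps.bwd (nat_lit 2) (Steps.bwd (nat_lit 1) (Steps.bwd (nat_lit 2) (Steps.fwd (nat_lit 8192) (Steps.fwd (nat_lit 16384) (Steps.fwd (nat_lit 8192) (Steps.bwd (nat_lit 3) Steps.nil))))))))))) (nat_lit 192) (nat_lit 1),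
  Rule.mk (nat_lit 0) (nat_lit 194) (Steps.bwd (nat_lit 17) (Steps.fwd (nat_lit 24576) (Steps.fwd (nat_lit 8192) (Steps.fwd (nat_lit 24576) (Steps.bwd (nat_lit 1) (Steps.bwd (nat_lit 3) (Steps.bwd (nat_lit 1) (Steps.fwd (nat_lit 16384) (Steps.fwd (nat_lit 8192) (Steps.bwd (nat_lit 4) (Steps.bwd (nat_lit 2) (Steps.fwd (nat_lit 8192) Steps.nil)))))))))))) (nat_lit 193) (nat_lit 11),
  Rule.mk (nat_lit 0) (nat_lit 194) (Steps.bwd (nat_lit 19) (Steps.fwd (nat_lit 16384) (Steps.fwd (nat_lit 32768) (Steps.bwd (nat_lit 1) (Steps.bwd (nat_lit 2) (Steps.fwd (nat_lit 8192) (Steps.fwd (nat_lit 24576) (Steps.fwd (nat_lit 8192) (Steps.bwd (nat_lit 3) (Steps.bwd (nat_lit 1) (Steps.bwd (nat_lit 3) (Steps.bwd (nat_lit 1) Steps.nil)))))))))))) (nat_lit 195) (nat_lit 11),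
  Rule.mk (nat_lit 0) (nat_lit 194) (Steps.bwd (nat_lit 19) (Steps.fwd (nat_lit 16384) (Steps.bwd (nat_lit 4) (Steps.bwd (nat_lit 1) (Steps.bwd (nat_lit 2) (Steps.bwd (nat_lit 1) (Steps.fwd (nat_lit 24576) (Steps.bwd (nat_lit 1) (Steps.fwd (nat_lit 16384) (Steps.fwd (nat_lit 8192) (Steps.bwd (nat_lit 3) (Steps.bwd (nat_lit 1) Steps.nil)))))))))))) (nat_lit 195) (nat_lit 11),
  Rule.mk (nat_lit 19) (nat_lit 179) (Steps.bwd (nat_lit 3) (Steps.bwd (nat_lit 4) (Steps.fwd (nat_lit 8192) (Steps.fwd (nat_lit 24576) (Steps.fwd (nat_lit 8192) (Steps.fwd (nat_lit 24576) (Steps.bwd (nat_lit 1) (Steps.bwd (nat_lit 3) (Steps.bwd (nat_lit 1) (Steps.fwd (nat_lit 16384) (Steps.fwd (nat_lit 8192) Steps.nil))))))))))) (nat_lit 195) (nat_lit 0),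
  Rule.mk (nat_lit 20) (nat_lit 179) (Steps.bwd (nat_lit 1) (Steps.fwd (nat_lit 24576) (Steps.bwd (nat_lit 1) (Steps.bwd (nat_lit 2) (Steps.bwd (nat_lit 1) (Steps.fwd (nat_lit 16384) (Steps.fwd (nat_lit 8192) (Steps.fwd (nat_lit 16384) (Steps.fwd (nat_lit 8192) (Steps.fwd (nat_lit 32768) (Steps.bwd (nat_lit 2) Steps.nil))))))))))) (nat_lit 194) (nat_lit 1),
  Rule.mk (nat_lit 18) (nat_lit 179) (Steps.bwd (nat_lit 1) (Steps.fwd (nat_lit 16384) (Steps.bwd (nat_lit 4) (Steps.bwd (nat_lit 1) (Steps.bwd (nat_lit 2) (Steps.bwd (nat_lit 1) (Steps.fwd (nat_lit 24576) (Steps.bwd (nat_lit 1) (Steps.fwd (nat_lit 16384) (Steps.fwd (nat_lit 8192) (Steps.bwd (nat_lit 3) Steps.nil))))))))))) (nat_lit 192) (nat_lit 1),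
  Rule.mk (nat_lit 18) (nat_lit 179) (Steps.fwd (nat_lit 8192) (Steps.bwd (nat_lit 3) (Steps.fwd (nat_lit 32768) (Steps.bwd (nat_lit 1) (Steps.fwd (nat_lit 24576) (Steps.bwd (nat_lit 1) (Steps.bwd (nat_lit 2) (Steps.bwd (nat_lit 1) (Steps.bwd (nat_lit 3) (Steps.fwd (nat_lit 8192) (Steps.fwd (nat_lit 16384) Steps.nil))))))))))) (nat_lit 192) (nat_lit 1),
  Rule.mk (nat_lit 19) (nat_lit 179) (Steps.bwd (nat_lit 3) (Steps.fwd (nat_lit 32768) (Steps.bwd (nat_lit 1) (Steps.fwd (nat_lit 24576) (Steps.bwd (nat_lit 1) (Steps.bwd (nat_lit 2) (Steps.bwd (nat_lit 1) (Steps.bwd (nat_lit 3) (Steps.fwd (nat_lit 8192) (Steps.fwd (nat_lit 16384) (Steps.fwd (nat_lit 8192) Steps.nil))))))))))) (nat_lit 195) (nat_lit 0),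
  Rule.mk (nat_lit 2) (nat_lit 164) (Steps.bwd (nat_lit 11) (Steps.fwd (nat_lit 16384) (Steps.fwd (nat_lit 32768) (Steps.bwd (nat_lit 5) (Steps.bwd (nat_lit 8) (Steps.fwd (nat_lit 73728) (Steps.fwd (nat_lit 81920) (Steps.fwd (nat_lit 90112) (Steps.fwd (nat_lit 98304) (Steps.bwd (nat_lit 14) Steps.nil)))))))))) (nat_lit 182) (nat_lit 1),
  Rule.mk (nat_lit 15) (nat_lit 179) (Steps.bwd (nat_lit 3) (Steps.bwd (nat_lit 1) (Steps.bwd (nat_lit 4) (Steps.fwd (nat_lit 16384) (Steps.fwd (nat_lit 8192) (Steps.bwd (nat_lit 2) (Steps.fwd (nat_lit 8192) (Steps.bwd (nat_lit 2) (Steps.fwd (nat_lit 8192) (Steps.bwd (nat_lit 2) (Steps.bwd (nat_lit 1) Steps.nil))))))))))) (nat_lit 191) (nat_lit 0),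
  Rule.mk (nat_lit 17) (nat_lit 179) (Steps.bwd (nat_lit 2) (Steps.fwd (nat_lit 8192) (Steps.bwd (nat_lit 2) (Steps.fwd (nat_lit 8192) (Steps.bwd (nat_lit 3) (Steps.bwd (nat_lit 1) (Steps.fwd (nat_lit 16384) (Steps.bwd (nat_lit 1) (Steps.bwd (nat_lit 4) (Steps.fwd (nat_lit 24576) (Steps.bwd (nat_lit 1) Steps.nil))))))))))) (nat_lit 193) (nat_lit 0),
  Rule.mk (nat_lit 20) (nat_lit 179) (Steps.fwd (nat_lit 8192) (Steps.bwd (nat_lit 2) (Steps.fwd (nat_lit 8192) (Steps.bwd (nat_lit 2) (Steps.fwd (nat_lit 8192) (Steps.bwd (nat_lit 3) (Steps.bwd (nat_lit 1) (Steps.fwd (nat_lit 16384) (Steps.bwd (nat_lit 1) (Steps.bwd (nat_lit 4) (Steps.fwd (nat_lit 24576) Steps.nil))))))))))) (nat_lit 194) (nat_lit 1)]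
noncomputable def R_100 : List (Rule) := [Rule.mk (nat_lit 17) (nat_lit 179) (Steps.bwd (nat_lit 2) (Steps.bwd (nat_lit 1) (Steps.bwd (nat_lit 2) (Steps.fwd (nat_lit 8192) (Steps.fwd (nat_lit 16384) (Steps.bwd (nat_lit 1) (Steps.fwd (nat_lit 16384) (Steps.bwd (nat_lit 1) (Steps.fwd (nat_lit 32768) (Steps.fwd (nat_lit 24576) (Steps.fwd (nat_lit 8192) Steps.nil))))))))))) (nat_lit 193) (nat_lit 0),
  Rule.mk (nat_lit 20) (nat_lit 179) (Steps.fwd (nat_lit 8192) (Steps.bwd (nat_lit 2) (Steps.bwd (nat_lit 1) (Steps.bwd (nat_lit 2) (Steps.fwd (nat_lit 8192) (Steps.fwd (nat_lit 16384) (Steps.bwd (nat_lit 1) (Steps.fwd (nat_lit 16384) (Steps.bwd (nat_lit 1) (Steps.fwd (nat_lit 32768) (Steps.fwd (nat_lit 24576) Steps.nil))))))))))) (nat_lit 194) (nat_lit 1),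
  Rule.mk (nat_lit 2) (nat_lit 164) (Steps.bwd (nat_lit 11) (Steps.fwd (nat_lit 16384) (Steps.bwd (nat_lit 14) (Steps.fwd (nat_lit 98304) (Steps.bwd (nat_lit 11) (Steps.bwd (nat_lit 10) (Steps.fwd (nat_lit 73728) (Steps.bwd (nat_lit 8) (Steps.fwd (nat_lit 40960) (Steps.bwd (nat_lit 4) Steps.nil)))))))))) (nat_lit 183) (nat_lit 9),
  Rule.mk (nat_lit 16) (nat_lit 179) (Steps.fwd (nat_lit 8192) (Steps.bwd (nat_lit 3) (Steps.bwd (nat_lit 1) (Steps.fwd (nat_lit 16384) (Steps.fwd (nat_lit 8192) (Steps.bwd (nat_lit 3) (Steps.bwd (nat_lit 1) (Steps.bwd (nat_lit 2) (Steps.fwd (nat_lit 32768) (Steps.fwd (nat_lit 8192) (Steps.bwd (nat_lit 2) Steps.nil))))))))))) (nat_lit 190) (nat_lit 1),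
  Rule.mk (nat_lit 0) (nat_lit 194) (Steps.bwd (nat_lit 15) (Steps.fwd (nat_lit 16384) (Steps.bwd (nat_lit 1) (Steps.bwd (nat_lit 4) (Steps.fwd (nat_lit 16384) (Steps.bwd (nat_lit 1) (Steps.fwd (nat_lit 24576) (Steps.bwd (nat_lit 1) (Steps.bwd (nat_lit 2) (Steps.bwd (nat_lit 1) (Steps.fwd (nat_lit 24576) (Steps.bwd (nat_lit 1) Steps.nil)))))))))))) (nat_lit 191) (nat_lit 11),
  Rule.mk (nat_lit 20) (nat_lit 179) (Steps.fwd (nat_lit 8192) (Steps.fwd (nat_lit 24576) (Steps.fwd (nat_lit 8192) (Steps.bwd (nat_lit 2) (Steps.bwd (nat_lit 1) (Steps.bwd (nat_lit 3) (Steps.bwd (nat_lit 1) (Steps.bwd (nat_lit 3) (Steps.fwd (nat_lit 8192) (Steps.bwd (nat_lit 4) (Steps.bwd (nat_lit 2) Steps.nil))))))))))) (nat_lit 194) (nat_lit 1),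
  Rule.mk (nat_lit 20) (nat_lit 179) (Steps.fwd (nat_lit 8192) (Steps.fwd (nat_lit 24576) (Steps.bwd (nat_lit 1) (Steps.fwd (nat_lit 24576) (Steps.fwd (nat_lit 8192) (Steps.fwd (nat_lit 16384) (Steps.bwd (nat_lit 1) (Steps.fwd (nat_lit 16384) (Steps.bwd (nat_lit 1) (Steps.bwd (nat_lit 4) (Steps.bwd (nat_lit 2) Steps.nil))))))))))) (nat_lit 194) (nat_lit 1),
  Rule.mk (nat_lit 2) (nat_lit 164) (Steps.bwd (nat_lit 11) (Steps.bwd (nat_lit 3) (Steps.bwd (nat_lit 4) (Steps.fwd (nat_lit 40960) (Steps.bwd (nat_lit 8) (Steps.fwd (nat_lit 73728) (Steps.fwd (nat_lit 81920) (Steps.bwd (nat_lit 11) (Steps.fwd (nat_lit 98304) (Steps.fwd (nat_lit 114688) Steps.nil)))))))))) (nat_lit 182) (nat_lit 1),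
  Rule.mk (nat_lit 16) (nat_lit 179) (Steps.bwd (nat_lit 1) (Steps.bwd (nat_lit 3) (Steps.fwd (nat_lit 8192) (Steps.bwd (nat_lit 3) (Steps.bwd (nat_lit 1) (Steps.bwd (nat_lit 3) (Steps.bwd (nat_lit 1) (Steps.fwd (nat_lit 24576) (Steps.fwd (nat_lit 32768) (Steps.fwd (nat_lit 8192) (Steps.bwd (nat_lit 2) Steps.nil))))))))))) (nat_lit 190) (nat_lit 1),
  Rule.mk (nat_lit 0) (nat_lit 194) (Steps.bwd (nat_lit 18) (Steps.fwd (nat_lit 8192) (Steps.fwd (nat_lit 16384) (Steps.fwd (nat_lit 32768) (Steps.fwd (nat_lit 8192) (Steps.bwd (nat_lit 2) (Steps.fwd (nat_lit 8192) (Steps.bwd (nat_lit 2) (Steps.fwd (nat_lit 8192) (Steps.fwd (nat_lit 16384) (Steps.fwd (nat_lit 8192) (Steps.fwd (nat_lit 16384) Steps.nil)))))))))))) (nat_lit 192) (nat_lit 0),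
  Rule.mk (nat_lit 0) (nat_lit 194) (Steps.fwd (nat_lit 8192) (Steps.fwd (nat_lit 16384) (Steps.bwd (nat_lit 4) (Steps.fwd (nat_lit 8192) (Steps.bwd (nat_lit 2) (Steps.bwd (nat_lit 1) (Steps.bwd (nat_lit 2) (Steps.fwd (nat_lit 8192) (Steps.fwd (nat_lit 16384) (Steps.bwd (nat_lit 1) (Steps.bwd (nat_lit 3) (Steps.fwd (nat_lit 139264) Steps.nil)))))))))))) (nat_lit 192) (nat_lit 1),
  Rule.mk (nat_lit 0) (nat_lit 194) (Steps.bwd (nat_lit 16) (Steps.bwd (nat_lit 1) (Steps.fwd (nat_lit 16384) (Steps.bwd (nat_lit 1) (Steps.fwd (nat_lit 16384) (Steps.fwd (nat_lit 8192) (Steps.fwd (nat_lit 16384) (Steps.bwd (nat_lit 1) (Steps.bwd (nat_lit 2) (Steps.bwd (nat_lit 4) (Steps.fwd (nat_lit 8192) (Steps.fwd (nat_lit 24576) Steps.nil)))))))))))) (nat_lit 190) (nat_lit 0),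
  Rule.mk (nat_lit 0) (nat_lit 194) (Steps.bwd (nat_lit 16) (Steps.bwd (nat_lit 1) (Steps.fwd (nat_lit 16384) (Steps.fwd (nat_lit 8192) (Steps.bwd (nat_lit 3) (Steps.fwd (nat_lit 8192) (Steps.bwd (nat_lit 3) (Steps.fwd (nat_lit 8192) (Steps.fwd (nat_lit 24576) (Steps.bwd (nat_lit 4) (Steps.fwd (nat_lit 8192) (Steps.fwd (nat_lit 24576) Steps.nil)))))))))))) (nat_lit 190) (nat_lit 0),
  Rule.mk (nat_lit 2) (nat_lit 164) (Steps.bwd (nat_lit 11) (Steps.fwd (nat_lit 16384) (Steps.fwd (nat_lit 32768) (Steps.bwd (nat_lit 5) (Steps.bwd (nat_lit 8) (Steps.bwd (nat_lit 9) (Steps.bwd (nat_lit 10) (Steps.fwd (nat_lit 90112) (Steps.fwd (nat_lit 98304) (Steps.fwd (nat_lit 114688) Steps.nil)))))))))) (nat_lit 182) (nat_lit 1),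
  Rule.mk (nat_lit 16) (nat_lit 179) (Steps.fwd (nat_lit 8192) (Steps.fwd (nat_lit 16384) (Steps.fwd (nat_lit 8192) (Steps.fwd (nat_lit 16384) (Steps.fwd (nat_lit 8192) (Steps.fwd (nat_lit 16384) (Steps.fwd (nat_lit 8192) (Steps.bwd (nat_lit 2) (Steps.fwd (nat_lit 32768) (Steps.bwd (nat_lit 1) (Steps.fwd (nat_lit 24576) Steps.nil))))))))))) (nat_lit 190) (nat_lit 1),
  Rule.mk (nat_lit 0) (nat_lit 194) (Steps.bwd (nat_lit 1) (Steps.fwd (nat_lit 16384) (Steps.bwd (nat_lit 1) (Steps.fwd (nat_lit 16384) (Steps.bwd (nat_lit 1) (Steps.bwd (nat_lit 3) (Steps.fwd (nat_lit 8192) (Steps.bwd (nat_lit 2) (Steps.fwd (nat_lit 32768) (Steps.fwd (nat_lit 8192) (Steps.fwd (nat_lit 24576) (Steps.fwd (nat_lit 122880) Steps.nil)))))))))))) (nat_lit 190) (nat_lit 1),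
  Rule.mk (nat_lit 0) (nat_lit 194) (Steps.bwd (nat_lit 15) (Steps.bwd (nat_lit 3) (Steps.fwd (nat_lit 8192) (Steps.bwd (nat_lit 4) (Steps.bwd (nat_lit 3) (Steps.fwd (nat_lit 8192) (Steps.bwd (nat_lit 2) (Steps.fwd (nat_lit 8192) (Steps.bwd (nat_lit 2) (Steps.bwd (nat_lit 1) (Steps.fwd (nat_lit 24576) (Steps.fwd (nat_lit 8192) Steps.nil)))))))))))) (nat_lit 191) (nat_lit 11),
  Rule.mk (nat_lit 0) (nat_lit 194) (Steps.bwd (nat_lit 15) (Steps.fwd (nat_lit 16384) (Steps.bwd (nat_lit 1) (Steps.fwd (nat_lit 32768) (Steps.fwd (nat_lit 16384) (Steps.fwd (nat_lit 8192) (Steps.bwd (nat_lit 2) (Steps.bwd (nat_lit 1) (Steps.fwd (nat_lit 24576) (Steps.fwd (nat_lit 8192) (Steps.bwd (nat_lit 2) (Steps.fwd (nat_lit 8192) Steps.nil)))))))))))) (nat_lit 191) (nat_lit 11),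
  Rule.mk (nat_lit 0) (nat_lit 194) (Steps.bwd (nat_lit 18) (Steps.fwd (nat_lit 8192) (Steps.bwd (nat_lit 3) (Steps.bwd (nat_lit 4) (Steps.fwd (nat_lit 8192) (Steps.bwd (nat_lit 2) (Steps.fwd (nat_lit 8192) (Steps.bwd (nat_lit 2) (Steps.bwd (nat_lit 1) (Steps.fwd (nat_lit 16384) (Steps.fwd (nat_lit 8192) (Steps.fwd (nat_lit 16384) Steps.nil)))))))))))) (nat_lit 192) (nat_lit 0),
  Rule.mk (nat_lit 18) (nat_lit 179) (Steps.bwd (nat_lit 1) (Steps.bwd (nat_lit 3) (Steps.fwd (nat_lit 32768) (Steps.fwd (nat_lit 8192) (Steps.bwd (nat_lit 2) (Steps.bwd (nat_lit 1) (Steps.fwd (nat_lit 24576) (Steps.fwd (nat_lit 8192) (Steps.fwd (nat_lit 16384) (Steps.bwd (nat_lit 1) (Steps.fwd (nat_lit 16384) Steps.nil))))))))))) (nat_lit 192) (nat_lit 1),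
  Rule.mk (nat_lit 17) (nat_lit 179) (Steps.bwd (nat_lit 2) (Steps.bwd (nat_lit 1) (Steps.fwd (nat_lit 24576) (Steps.fwd (nat_lit 8192) (Steps.fwd (nat_lit 16384) (Steps.bwd (nat_lit 1) (Steps.fwd (nat_lit 16384) (Steps.bwd (nat_lit 1) (Steps.bwd (nat_lit 4) (Steps.fwd (nat_lit 24576) (Steps.fwd (nat_lit 8192) Steps.nil))))))))))) (nat_lit 193) (nat_lit 0),
  Rule.mk (nat_lit 20) (nat_lit 179) (Steps.fwd (nat_lit 8192) (Steps.bwd (nat_lit 2) (Steps.bwd (nat_lit 1) (Steps.fwd (nat_lit 24576) (Steps.fwd (nat_lit 8192) (Steps.fwd (nat_lit 16384) (Steps.bwd (nat_lit 1) (Steps.fwd (nat_lit 16384) (Steps.bwd (nat_lit 1) (Steps.bwd (nat_lit 4) (Steps.fwd (nat_lit 24576) Steps.nil))))))))))) (nat_lit 194) (nat_lit 1),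
  Rule.mk (nat_lit 0) (nat_lit 194) (Steps.bwd (nat_lit 20) (Steps.bwd (nat_lit 1) (Steps.bwd (nat_lit 2) (Steps.bwd (nat_lit 1) (Steps.bwd (nat_lit 2) (Steps.fwd (nat_lit 8192) (Steps.fwd (nat_lit 16384) (Steps.bwd (nat_lit 1) (Steps.fwd (nat_lit 16384) (Steps.bwd (nat_lit 1) (Steps.fwd (nat_lit 32768) (Steps.fwd (nat_lit 24576) Steps.nil)))))))))))) (nat_lit 194) (nat_lit 0),
  Rule.mk (nat_lit 19) (nat_lit 179) (Steps.bwd (nat_lit 3) (Steps.fwd (nat_lit 32768) (Steps.fwd (nat_lit 8192) (Steps.bwd (nat_lit 2) (Steps.bwd (nat_lit 1) (Steps.fwd (nat_lit 24576) (Steps.fwd (nat_lit 8192) (Steps.fwd (nat_lit 16384) (Steps.bwd (nat_lit 1) (Steps.fwd (nat_lit 16384) (Steps.bwd (nat_lit 1) Steps.nil))))))))))) (nat_lit 195) (nat_lit 0),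
  Rule.mk (nat_lit 16) (nat_lit 179) (Steps.bwd (nat_lit 1) (Steps.fwd (nat_lit 16384) (Steps.bwd (nat_lit 1) (Steps.fwd (nat_lit 16384) (Steps.bwd (nat_lit 1) (Steps.fwd (nat_lit 16384) (Steps.bwd (nat_lit 1) (Steps.bwd (nat_lit 2) (Steps.bwd (nat_lit 4) (Steps.fwd (nat_lit 8192) (Steps.bwd (nat_lit 2) Steps.nil))))))))))) (nat_lit 190) (nat_lit 1),
  Rule.mk (nat_lit 18) (nat_lit 179) (Steps.bwd (nat_lit 1) (Steps.bwd (nat_lit 3) (Steps.bwd (nat_lit 4) (Steps.fwd (nat_lit 8192) (Steps.bwd (nat_lit 2) (Steps.bwd (nat_lit 1) (Steps.fwd (nat_lit 24576) (Steps.bwd (nat_lit 1) (Steps.fwd (nat_lit 16384) (Steps.fwd (nat_lit 8192) (Steps.bwd (nat_lit 3) Steps.nil))))))))))) (nat_lit 192) (nat_lit 1),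
  Rule.mk (nat_lit 0) (nat_lit 194) (Steps.bwd (nat_lit 20) (Steps.bwd (nat_lit 1) (Steps.fwd (nat_lit 24576) (Steps.bwd (nat_lit 1) (Steps.bwd (nat_lit 2) (Steps.fwd (nat_lit 8192) (Steps.bwd (nat_lit 3) (Steps.fwd (nat_lit 8192) (Steps.fwd (nat_lit 16384) (Steps.bwd (nat_lit 1) (Steps.fwd (nat_lit 32768) (Steps.fwd (nat_lit 24576) Steps.nil)))))))))))) (nat_lit 194) (nat_lit 0),
  Rule.mk (nat_lit 0) (nat_lit 194) (Steps.bwd (nat_lit 16) (Steps.fwd (nat_lit 8192) (Steps.bwd (nat_lit 3) (Steps.fwd (nat_lit 8192) (Steps.fwd (nat_lit 16384) (Steps.bwd (nat_lit 1) (Steps.bwd (nat_lit 3) (Steps.fwd (nat_lit 8192) (Steps.bwd (nat_lit 2) (Steps.bwd (nat_lit 4) (Steps.bwd (nat_lit 1) (Steps.bwd (nat_lit 2) Steps.nil)))))))))))) (nat_lit 190) (nat_lit 0),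
  Rule.mk (nat_lit 15) (nat_lit 179) (Steps.fwd (nat_lit 16384) (Steps.bwd (nat_lit 1) (Steps.fwd (nat_lit 32768) (Steps.bwd (nat_lit 3) (Steps.fwd (nat_lit 8192) (Steps.bwd (nat_lit 2) (Steps.bwd (nat_lit 1) (Steps.fwd (nat_lit 24576) (Steps.bwd (nat_lit 1) (Steps.fwd (nat_lit 24576) (Steps.bwd (nat_lit 1) Steps.nil))))))))))) (nat_lit 191) (nat_lit 0),
  Rule.mk (nat_lit 0) (nat_lit 194) (Steps.fwd (nat_lit 24576) (Steps.fwd (nat_lit 8192) (Steps.bwd (nat_lit 2) (Steps.fwd (nat_lit 8192) (Steps.fwd (nat_lit 16384) (Steps.bwd (nat_lit 1) (Steps.bwd (nat_lit 3) (Steps.fwd (nat_lit 8192) (Steps.fwd (nat_lit 32768) (Steps.bwd (nat_lit 2) (Steps.bwd (nat_lit 1) (Steps.fwd (nat_lit 147456) Steps.nil)))))))))))) (nat_lit 193) (nat_lit 0),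
  Rule.mk (nat_lit 15) (nat_lit 179) (Steps.fwd (nat_lit 16384) (Steps.bwd (nat_lit 1) (Steps.bwd (nat_lit 4) (Steps.fwd (nat_lit 16384) (Steps.bwd (nat_lit 1) (Steps.fwd (nat_lit 24576) (Steps.bwd (nat_lit 1) (Steps.bwd (nat_lit 2) (Steps.bwd (nat_lit 1) (Steps.bwd (nat_lit 2) (Steps.fwd (nat_lit 8192) Steps.nil))))))))))) (nat_lit 191) (nat_lit 0),
  Rule.mk (nat_lit 0) (nat_lit 194) (Steps.bwd (nat_lit 15) (Steps.fwd (nat_lit 16384) (Steps.fwd (nat_lit 8192) (Steps.fwd (nat_lit 32768) (Steps.fwd (nat_lit 16384) (Steps.bwd (nat_lit 1) (Steps.bwd (nat_lit 2) (Steps.bwd (nat_lit 1) (Steps.bwd (nat_lit 2) (Steps.fwd (nat_lit 8192) (Steps.bwd (nat_lit 2) (Steps.bwd (nat_lit 1) Steps.nil)))))))))))) (nat_lit 191) (nat_lit 11),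
  Rule.mk (nat_lit 15) (nat_lit 179) (Steps.bwd (nat_lit 3) (Steps.bwd (nat_lit 1) (Steps.fwd (nat_lit 32768) (Steps.fwd (nat_lit 16384) (Steps.bwd (nat_lit 1) (Steps.bwd (nat_lit 2) (Steps.fwd (nat_lit 8192) (Steps.bwd (nat_lit 2) (Steps.bwd (nat_lit 1) (Steps.fwd (nat_lit 24576) (Steps.bwd (nat_lit 1) Steps.nil))))))))))) (nat_lit 191) (nat_lit 0),
  Rule.mk (nat_lit 0) (nat_lit 194) (Steps.bwd (nat_lit 18) (Steps.bwd (nat_lit 1) (Steps.fwd (nat_lit 16384) (Steps.bwd (nat_lit 4) (Steps.bwd (nat_lit 1) (Steps.bwd (nat_lit 2) (Steps.fwd (nat_lit 8192) (Steps.bwd (nat_lit 2) (Steps.bwd (nat_lit 1) (Steps.bwd (nat_lit 3) (Steps.fwd (nat_lit 8192) (Steps.fwd (nat_lit 16384) Steps.nil)))))))))))) (nat_lit 192) (nat_lit 0),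
  Rule.mk (nat_lit 17) (nat_lit 179) (Steps.fwd (nat_lit 24576) (Steps.fwd (nat_lit 8192) (Steps.fwd (nat_lit 24576) (Steps.bwd (nat_lit 1) (Steps.fwd (nat_lit 16384) (Steps.bwd (nat_lit 1) (Steps.fwd (nat_lit 16384) (Steps.bwd (nat_lit 1) (Steps.fwd (nat_lit 32768) (Steps.bwd (nat_lit 2) (Steps.fwd (nat_lit 8192) Steps.nil))))))))))) (nat_lit 193) (nat_lit 0),
  Rule.mk (nat_lit 0) (nat_lit 194) (Steps.fwd (nat_lit 16384) (Steps.bwd (nat_lit 4) (Steps.bwd (nat_lit 1) (Steps.bwd (nat_lit 2) (Steps.fwd (nat_lit 8192) (Steps.bwd (nat_lit 2) (Steps.bwd (nat_lit 1) (Steps.bwd (nat_lit 3) (Steps.fwd (nat_lit 8192) (Steps.fwd (nat_lit 16384) (Steps.bwd (nat_lit 1) (Steps.fwd (nat_lit 163840) Steps.nil)))))))))))) (nat_lit 195) (nat_lit 0),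
  Rule.mk (nat_lit 19) (nat_lit 179) (Steps.bwd (nat_lit 3) (Steps.fwd (nat_lit 32768) (Steps.bwd (nat_lit 1) (Steps.fwd (nat_lit 24576) (Steps.bwd (nat_lit 1) (Steps.bwd (nat_lit 2) (Steps.fwd (nat_lit 8192) (Steps.bwd (nat_lit 3) (Steps.fwd (nat_lit 8192) (Steps.fwd (nat_lit 16384) (Steps.bwd (nat_lit 1) Steps.nil))))))))))) (nat_lit 195) (nat_lit 0),
  Rule.mk (nat_lit 0) (nat_lit 194) (Steps.bwd (nat_lit 18) (Steps.fwd (nat_lit 8192) (Steps.fwd (nat_lit 16384) (Steps.fwd (nat_lit 32768) (Steps.bwd (nat_lit 1) (Steps.fwd (nat_lit 24576) (Steps.bwd (nat_lit 1) (Steps.fwd (nat_lit 24576) (Steps.bwd (nat_lit 1) (Steps.fwd (nat_lit 16384) (Steps.bwd (nat_lit 1) (Steps.fwd (nat_lit 16384) Steps.nil)))))))))))) (nat_lit 192) (nat_lit 0),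
  Rule.mk (nat_lit 20) (nat_lit 179) (Steps.bwd (nat_lit 1) (Steps.bwd (nat_lit 2) (Steps.fwd (nat_lit 8192) (Steps.bwd (nat_lit 2) (Steps.fwd (nat_lit 8192) (Steps.bwd (nat_lit 3) (Steps.fwd (nat_lit 8192) (Steps.bwd (nat_lit 3) (Steps.fwd (nat_lit 8192) (Steps.bwd (nat_lit 4) (Steps.bwd (nat_lit 2) Steps.nil))))))))))) (nat_lit 194) (nat_lit 1),
  Rule.mk (nat_lit 9) (nat_lit 134) (Steps.bwd (nat_lit 3) (Steps.fwd (nat_lit 32768) (Steps.fwd (nat_lit 40960) (Steps.fwd (nat_lit 65536) (Steps.fwd (nat_lit 73728) (Steps.bwd (nat_lit 11) (Steps.fwd (nat_lit 114688) (Steps.bwd (nat_lit 2) Steps.nil)))))))) (nat_lit 178) (nat_lit 2),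
  Rule.mk (nat_lit 13) (nat_lit 134) (Steps.bwd (nat_lit 3) (Steps.fwd (nat_lit 49152) (Steps.fwd (nat_lit 81920) (Steps.bwd (nat_lit 11) (Steps.fwd (nat_lit 98304) (Steps.fwd (nat_lit 106496) (Steps.bwd (nat_lit 14) (Steps.bwd (nat_lit 2) Steps.nil)))))))) (nat_lit 186) (nat_lit 2),
  Rule.mk (nat_lit 5) (nat_lit 149) (Steps.bwd (nat_lit 3) (Steps.fwd (nat_lit 32768) (Steps.fwd (nat_lit 40960) (Steps.fwd (nat_lit 65536) (Steps.fwd (nat_lit 73728) (Steps.bwd (nat_lit 12) (Steps.bwd (nat_lit 13) (Steps.fwd (nat_lit 114688) (Steps.bwd (nat_lit 2) Steps.nil))))))))) (nat_lit 170) (nat_lit 2),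
  Rule.mk (nat_lit 15) (nat_lit 179) (Steps.bwd (nat_lit 3) (Steps.fwd (nat_lit 8192) (Steps.fwd (nat_lit 32768) (Steps.bwd (nat_lit 3) (Steps.bwd (nat_lit 1) (Steps.fwd (nat_lit 24576) (Steps.fwd (nat_lit 8192) (Steps.fwd (nat_lit 24576) (Steps.bwd (nat_lit 1) (Steps.fwd (nat_lit 24576) (Steps.bwd (nat_lit 1) Steps.nil))))))))))) (nat_lit 191) (nat_lit 0),
  Rule.mk (nat_lit 1) (nat_lit 539) (Steps.bwd (nat_lit 3) (Steps.fwd (nat_lit 8192) (Steps.bwd (nat_lit 2) (Steps.fwd (nat_lit 8192) (Steps.bwd (nat_lit 3) (Steps.fwd (nat_lit 8192) (Steps.bwd (nat_lit 3) (Steps.bwd (nat_lit 1) (Steps.fwd (nat_lit 24576) (Steps.fwd (nat_lit 8192) (Steps.fwd (nat_lit 16384) (Steps.bwd (nat_lit 1) (Steps.bwd (nat_lit 3) (Steps.fwd (nat_lit 8192) (Steps.bwd (nat_lit 2) (Steps.bwd (nat_lit 1) (Steps.fwd (nat_lit 24576) (Steps.bwd (nat_lit 1) (Steps.fwd (nat_lit 16384) (Steps.fwd (nat_lit 8192) (Steps.fwd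 (nat_lit 24576) (Steps.bwd (nat_lit 1) (Steps.fwd (nat_lit 24576) (Steps.fwd (nat_lit 8192) (Steps.bwd (nat_lit 3) (Steps.bwd (nat_lit 1) (Steps.fwd (nat_lit 24576) (Steps.bwd (nat_lit 1) (Steps.fwd (nat_lit 24576) (Steps.bwd (nat_lit 1) (Steps.bwd (nat_lit 3) (Steps.fwd (nat_lit 8192) (Steps.fwd (nat_lit 24576) (Steps.fwd (nat_lit 8192) (Steps.fwd (nat_lit 16384) Steps.nil))))))))))))))))))))))))))))))))))) (nat_lit 12) (nat_lit 23),
  Rule.mk (nat_lit 16) (nat_lit 179) (Steps.fwd (nat_lit 8192) (Steps.fwd (nat_lit 16384) (Steps.bwd (nat_lit 1) (Steps.bwd (nat_lit 3) (Steps.fwd (nat_lit 8192) (Steps.bwd (nat_lit 3) (Steps.fwd (nat_lit 8192) (Steps.fwd (nat_lit 24576) (Steps.bwd (nat_lit 4) (Steps.fwd (nat_lit 8192) (Steps.fwd (nat_lit 24576) Steps.nil))))))))))) (nat_lit 190) (nat_lit 1),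
  Rule.mk (nat_lit 16) (nat_lit 179) (Steps.bwd (nat_lit 1) (Steps.bwd (nat_lit 3) (Steps.fwd (nat_lit 8192) (Steps.bwd (nat_lit 3) (Steps.fwd (nat_lit 8192) (Steps.bwd (nat_lit 3) (Steps.bwd (nat_lit 1) (Steps.fwd (nat_lit 24576) (Steps.fwd (nat_lit 32768) (Steps.bwd (nat_lit 1) (Steps.bwd (nat_lit 2) Steps.nil))))))))))) (nat_lit 190) (nat_lit 1),
  Rule.mk (nat_lit 15) (nat_lit 179) (Steps.fwd (nat_lit 16384) (Steps.fwd (nat_lit 8192) (Steps.fwd (nat_lit 32768) (Steps.bwd (nat_lit 3) (Steps.fwd (nat_lit 8192) (Steps.fwd (nat_lit 24576) (Steps.fwd (nat_lit 8192) (Steps.bwd (nat_lit 2) (Steps.fwd (nat_lit 8192) (Steps.bwd (nat_lit 2) (Steps.bwd (nat_lit 1) Steps.nil))))))))))) (nat_lit 191) (nat_lit 0),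
  Rule.mk (nat_lit 0) (nat_lit 194) (Steps.bwd (nat_lit 16) (Steps.fwd (nat_lit 8192) (Steps.bwd (nat_lit 3) (Steps.bwd (nat_lit 1) (Steps.fwd (nat_lit 16384) (Steps.bwd (nat_lit 1) (Steps.bwd (nat_lit 3) (Steps.fwd (nat_lit 8192) (Steps.bwd (nat_lit 2) (Steps.bwd (nat_lit 4) (Steps.fwd (nat_lit 8192) (Steps.fwd (nat_lit 24576) Steps.nil)))))))))))) (nat_lit 190) (nat_lit 0),
  Rule.mk (nat_lit 0) (nat_lit 194) (Steps.bwd (nat_lit 16) (Steps.bwd (nat_lit 1) (Steps.fwd (nat_lit 16384) (Steps.bwd (nat_lit 1) (Steps.fwd (nat_lit 16384) (Steps.fwd (nat_lit 8192) (Steps.bwd (nat_lit 3) (Steps.fwd (nat_lit 8192) (Steps.fwd (nat_lit 24576) (Steps.bwd (nat_lit 4) (Steps.fwd (nat_lit 8192) (Steps.bwd (nat_lit 2) Steps.nil)))))))))))) (nat_lit 190) (nat_lit 0),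
  Rule.mk (nat_lit 0) (nat_lit 194) (Steps.bwd (nat_lit 17) (Steps.bwd (nat_lit 2) (Steps.fwd (nat_lit 8192) (Steps.bwd (nat_lit 2) (Steps.bwd (nat_lit 1) (Steps.bwd (nat_lit 3) (Steps.fwd (nat_lit 8192) (Steps.fwd (nat_lit 16384) (Steps.fwd (nat_lit 8192) (Steps.fwd (nat_lit 32768) (Steps.bwd (nat_lit 2) (Steps.fwd (nat_lit 8192) Steps.nil)))))))))))) (nat_lit 193) (nat_lit 11),
  Rule.mk (nat_lit 18) (nat_lit 179) (Steps.bwd (nat_lit 1) (Steps.fwd (nat_lit 16384) (Steps.fwd (nat_lit 32768) (Steps.bwd (nat_lit 1) (Steps.fwd (nat_lit 24576) (Steps.fwd (nat_lit 8192) (Steps.bwd (nat_lit 2) (Steps.fwd (nat_lit 8192) (Steps.fwd (nat_lit 16384) (Steps.bwd (nat_lit 1) (Steps.bwd (nat_lit 3) Steps.nil))))))))))) (nat_lit 192) (nat_lit 1),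
  Rule.mk (nat_lit 18) (nat_lit 179) (Steps.bwd (nat_lit 1) (Steps.bwd (nat_lit 3) (Steps.fwd (nat_lit 32768) (Steps.bwd (nat_lit 1) (Steps.fwd (nat_lit 24576) (Steps.bwd (nat_lit 1) (Steps.bwd (nat_lit 2) (Steps.fwd (nat_lit 8192) (Steps.bwd (nat_lit 3) (Steps.fwd (nat_lit 8192) (Steps.fwd (nat_lit 16384) Steps.nil))))))))))) (nat_lit 192) (nat_lit 1),
  Rule.mk (nat_lit 17) (nat_lit 179) (Steps.bwd (nat_lit 2) (Steps.fwd (nat_lit 8192) (Steps.bwd (nat_lit 2) (Steps.bwd (nat_lit 1) (Steps.fwd (nat_lit 16384) (Steps.fwd (nat_lit 8192) (Steps.fwd (nat_lit 16384) (Steps.bwd (nat_lit 1) (Steps.fwd (nat_lit 32768) (Steps.bwd (nat_lit 2) (Steps.bwd (nat_lit 1) Steps.nil))))))))))) (nat_lit 193) (nat_lit 0),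
  Rule.mk (nat_lit 1) (nat_lit 179) (Steps.bwd (nat_lit 17) (Steps.fwd (nat_lit 24576) (Steps.fwd (nat_lit 8192) (Steps.fwd (nat_lit 24576) (Steps.fwd (nat_lit 8192) (Steps.fwd (nat_lit 16384) (Steps.bwd (nat_lit 1) (Steps.bwd (nat_lit 3) (Steps.fwd (nat_lit 8192) (Steps.fwd (nat_lit 32768) (Steps.fwd (nat_lit 24576) Steps.nil))))))))))) (nat_lit 193) (nat_lit 11),
  Rule.mk (nat_lit 17) (nat_lit 179) (Steps.bwd (nat_lit 2) (Steps.fwd (nat_lit 8192) (Steps.bwd (nat_lit 2) (Steps.bwd (nat_lit 1) (Steps.bwd (nat_lit 3) (Steps.fwd (nat_lit 8192) (Steps.bwd (nat_lit 3) (Steps.fwd (nat_lit 8192) (Steps.fwd (nat_lit 32768) (Steps.bwd (nat_lit 2) (Steps.fwd (nat_lit 8192) Steps.nil))))))))))) (nat_lit 193) (nat_lit 0),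
  Rule.mk (nat_lit 17) (nat_lit 179) (Steps.bwd (nat_lit 2) (Steps.bwd (nat_lit 1) (Steps.fwd (nat_lit 24576) (Steps.fwd (nat_lit 8192) (Steps.fwd (nat_lit 16384) (Steps.bwd (nat_lit 1) (Steps.fwd (nat_lit 16384) (Steps.fwd (nat_lit 8192) (Steps.fwd (nat_lit 32768) (Steps.fwd (nat_lit 24576) (Steps.bwd (nat_lit 1) Steps.nil))))))))))) (nat_lit 193) (nat_lit 0),
  Rule.mk (nat_lit 20) (nat_lit 179) (Steps.fwd (nat_lit 8192) (Steps.bwd (nat_lit 2) (Steps.fwd (nat_lit 8192) (Steps.bwd (nat_lit 2) (Steps.bwd (nat_lit 1) (Steps.fwd (nat_lit 16384) (Steps.fwd (nat_lit 8192) (Steps.fwd (nat_lit 16384) (Steps.bwd (nat_lit 1) (Steps.fwd (nat_lit 32768) (Steps.bwd (nat_lit 2) Steps.nil))))))))))) (nat_lit 194) (nat_lit 1),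
  Rule.mk (nat_lit 20) (nat_lit 179) (Steps.fwd (nat_lit 8192) (Steps.fwd (nat_lit 24576) (Steps.fwd (nat_lit 8192) (Steps.fwd (nat_lit 24576) (Steps.fwd (nat_lit 8192) (Steps.fwd (nat_lit 16384) (Steps.bwd (nat_lit 1) (Steps.bwd (nat_lit 3) (Steps.fwd (nat_lit 8192) (Steps.fwd (nat_lit 32768) (Steps.fwd (nat_lit 24576) Steps.nil))))))))))) (nat_lit 194) (nat_lit 1),
  Rule.mk (nat_lit 0) (nat_lit 194) (Steps.bwd (nat_lit 19) (Steps.fwd (nat_lit 16384) (Steps.bwd (nat_lit 4) (Steps.bwd (nat_lit 1) (Steps.fwd (nat_lit 24576) (Steps.bwd (nat_lit 1) (Steps.fwd (nat_lit 24576) (Steps.fwd (nat_lit 8192) (Steps.fwd (nat_lit 16384) (Steps.fwd (nat_lit 8192) (Steps.fwd (nat_lit 16384) (Steps.bwd (nat_lit 1) Steps.nil)))))))))))) (nat_lit 195) (nat_lit 11),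
  Rule.mk (nat_lit 20) (nat_lit 179) (Steps.fwd (nat_lit 8192) (Steps.bwd (nat_lit 2) (Steps.bwd (nat_lit 1) (Steps.fwd (nat_lit 24576) (Steps.fwd (nat_lit 8192) (Steps.fwd (nat_lit 16384) (Steps.bwd (nat_lit 1) (Steps.fwd (nat_lit 16384) (Steps.fwd (nat_lit 8192) (Steps.fwd (nat_lit 32768) (Steps.fwd (nat_lit 24576) Steps.nil))))))))))) (nat_lit 194) (nat_lit 1),
  Rule.mk (nat_lit 0) (nat_lit 194) (Steps.bwd (nat_lit 19) (Steps.fwd (nat_lit 16384) (Steps.fwd (nat_lit 32768) (Steps.fwd (nat_lit 8192) (Steps.fwd (nat_lit 24576) (Steps.fwd (nat_lit 8192) (Steps.bwd (nat_lit 2) (Steps.bwd (nat_lit 1) (Steps.fwd (nat_lit 16384) (Steps.bwd (nat_lit 1) (Steps.bwd (nat_lit 3) (Steps.fwd (nat_lit 8192) Steps.nil)))))))))))) (nat_lit 195) (nat_lit 11),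
  Rule.mk (nat_lit 0) (nat_lit 194) (Steps.bwd (nat_lit 3) (Steps.fwd (nat_lit 32768) (Steps.fwd (nat_lit 8192) (Steps.bwd (nat_lit 2) (Steps.fwd (nat_lit 8192) (Steps.bwd (nat_lit 2) (Steps.bwd (nat_lit 1) (Steps.bwd (nat_lit 3) (Steps.fwd (nat_lit 8192) (Steps.bwd (nat_lit 3) (Steps.fwd (nat_lit 8192) (Steps.fwd (nat_lit 163840) Steps.nil)))))))))))) (nat_lit 195) (nat_lit 0),
  Rule.mk (nat_lit 0) (nat_lit 194) (Steps.fwd (nat_lit 16384) (Steps.bwd (nat_lit 4) (Steps.fwd (nat_lit 8192) (Steps.bwd (nat_lit 2) (Steps.bwd (nat_lit 1) (Steps.fwd (nat_lit 24576) (Steps.fwd (nat_lit 8192) (Steps.fwd (nat_lit 16384) (Steps.bwd (nat_lit 1) (Steps.fwd (nat_lit 16384) (Steps.fwd (nat_lit 8192) (Steps.fwd (nat_lit 163840) Steps.nil)))))))))))) (nat_lit 195) (nat_lit 0),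
  Rule.mk (nat_lit 19) (nat_lit 179) (Steps.bwd (nat_lit 3) (Steps.fwd (nat_lit 32768) (Steps.bwd (nat_lit 1) (Steps.fwd (nat_lit 24576) (Steps.fwd (nat_lit 8192) (Steps.bwd (nat_lit 2) (Steps.fwd (nat_lit 8192) (Steps.fwd (nat_lit 16384) (Steps.bwd (nat_lit 1) (Steps.bwd (nat_lit 3) (Steps.bwd (nat_lit 1) Steps.nil))))))))))) (nat_lit 195) (nat_lit 0)]
noncomputable def R_101 : List (Rule) := [Rule.mk (nat_lit 7) (nat_lit 164) (Steps.fwd (nat_lit 8192) (Steps.bwd (nat_lit 5) (Steps.fwd (nat_lit 49152) (Steps.bwd (nat_lit 9) (Steps.fwd (nat_lit 81920) (Steps.bwd (nat_lit 11) (Steps.bwd (nat_lit 12) (Steps.bwd (nat_lit 13) (Steps.bwd (nat_lit 14) (Steps.bwd (nat_lit 1) Steps.nil)))))))))) (nat_lit 152) (nat_lit 2),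
  Rule.mk (nat_lit 12) (nat_lit 164) (Steps.bwd (nat_lit 1) (Steps.bwd (nat_lit 14) (Steps.bwd (nat_lit 12) (Steps.bwd (nat_lit 11) (Steps.fwd (nat_lit 81920) (Steps.fwd (nat_lit 73728) (Steps.bwd (nat_lit 8) (Steps.fwd (nat_lit 40960) (Steps.fwd (nat_lit 32768) (Steps.bwd (nat_lit 1) Steps.nil)))))))))) (nat_lit 163) (nat_lit 10),
  Rule.mk (nat_lit 15) (nat_lit 179) (Steps.fwd (nat_lit 16384) (Steps.bwd (nat_lit 1) (Steps.bwd (nat_lit 4) (Steps.bwd (nat_lit 3) (Steps.fwd (nat_lit 8192) (Steps.bwd (nat_lit 2) (Steps.fwd (nat_lit 8192) (Steps.fwd (nat_lit 24576) (Steps.fwd (nat_lit 8192) (Steps.fwd (nat_lit 24576) (Steps.bwd (nat_lit 1) Steps.nil))))))))))) (nat_lit 191) (nat_lit 0),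
  Rule.mk (nat_lit 17) (nat_lit 179) (Steps.fwd (nat_lit 24576) (Steps.bwd (nat_lit 1) (Steps.fwd (nat_lit 24576) (Steps.bwd (nat_lit 1) (Steps.bwd (nat_lit 3) (Steps.fwd (nat_lit 8192) (Steps.fwd (nat_lit 16384) (Steps.bwd (nat_lit 1) (Steps.bwd (nat_lit 4) (Steps.fwd (nat_lit 24576) (Steps.bwd (nat_lit 1) Steps.nil))))))))))) (nat_lit 193) (nat_lit 0),
  Rule.mk (nat_lit 20) (nat_lit 179) (Steps.fwd (nat_lit 8192) (Steps.fwd (nat_lit 24576) (Steps.bwd (nat_lit 1) (Steps.fwd (nat_lit 24576) (Steps.bwd (nat_lit 1) (Steps.bwd (nat_lit 3) (Steps.fwd (nat_lit 8192) (Steps.fwd (nat_lit 16384) (Steps.bwd (nat_lit 1) (Steps.bwd (nat_lit 4) (Steps.fwd (nat_lit 24576) Steps.nil))))))))))) (nat_lit 194) (nat_lit 1),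
  Rule.mk (nat_lit 3) (nat_lit 539) (Steps.bwd (nat_lit 1) (Steps.bwd (nat_lit 2) (Steps.bwd (nat_lit 1) (Steps.fwd (nat_lit 24576) (Steps.fwd (nat_lit 8192) (Steps.fwd (nat_lit 16384) (Steps.bwd (nat_lit 1) (Steps.bwd (nat_lit 2) (Steps.fwd (nat_lit 8192) (Steps.bwd (nat_lit 2) (Steps.fwd (nat_lit 8192) (Steps.fwd (nat_lit 16384) (Steps.fwd (nat_lit 8192) (Steps.fwd (nat_lit 24576) (Steps.bwd (nat_lit 1) (Steps.bwd (nat_lit 2) (Steps.fwd (nat_lit 8192) (Steps.fwd (nat_lit 16384) (Steps.fwd (nat_lit 8192) (Steps.fwd (nat_lit 24576) (Steps.bwd (nat_lit 1) (Steps.fwd (nat_lit 16384) (Steps.bwd (nat_lit 1) (Steps.fwd (nat_lit 16384) (Steps.bwd (nat_lit 1) (Steps.bwd (nat_lit 2) (Steps.fwd (nat_lit 8192) (Steps.bwd (nat_lit 3) (Steps.fwd (nat_lit 8192) (Steps.fwd (nat_lit 16384) (Steps.fwd (nat_lit 8192) (Steps.fwd (nat_lit 24576) (Steps.fwd (nat_lit 8192) (Steps.fwd (nat_lit 16384) (Steps.bwd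 (nat_lit 1) Steps.nil))))))))))))))))))))))))))))))))))) (nat_lit 12) (nat_lit 0),
  Rule.mk (nat_lit 2) (nat_lit 539) (Steps.fwd (nat_lit 8192) (Steps.bwd (nat_lit 3) (Steps.fwd (nat_lit 8192) (Steps.bwd (nat_lit 3) (Steps.bwd (nat_lit 1) (Steps.fwd (nat_lit 24576) (Steps.bwd (nat_lit 1) (Steps.bwd (nat_lit 3) (Steps.bwd (nat_lit 1) (Steps.bwd (nat_lit 3) (Steps.fwd (nat_lit 8192) (Steps.bwd (nat_lit 2) (Steps.bwd (nat_lit 1) (Steps.fwd (nat_lit 24576) (Steps.fwd (nat_lit 8192) (Steps.bwd (nat_lit 3) (Steps.bwd (nat_lit 1) (Steps.bwd (nat_lit 2) (Steps.fwd (nat_lit 8192) (Steps.fwd (nat_lit 24576) (Steps.fwd (nat_lit 8192) (Steps.fwd (nat_lit 16384) (Steps.bwd (nat_lit 1) (Steps.fwd (nat_lit 24576) (Steps.fwd (nat_lit 8192) (Steps.bwd (nat_lit 2) (Steps.fwd (nat_lit 8192) (Steps.fwd (nat_lit 16384) (Steps.bwd (nat_lit 1) (Steps.fwd (nat_lit 24576) (Steps.bwd (nat_lit 1) (Steps.bwd (nat_lit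 3) (Steps.fwd (nat_lit 8192) (Steps.fwd (nat_lit 16384) (Steps.bwd (nat_lit 1) Steps.nil))))))))))))))))))))))))))))))))))) (nat_lit 12) (nat_lit 26),
  Rule.mk (nat_lit 0) (nat_lit 194) (Steps.bwd (nat_lit 16) (Steps.fwd (nat_lit 8192) (Steps.bwd (nat_lit 3) (Steps.bwd (nat_lit 1) (Steps.bwd (nat_lit 3) (Steps.fwd (nat_lit 8192) (Steps.fwd (nat_lit 16384) (Steps.bwd (nat_lit 1) (Steps.bwd (nat_lit 2) (Steps.bwd (nat_lit 4) (Steps.bwd (nat_lit 1) (Steps.fwd (nat_lit 24576) Steps.nil)))))))))))) (nat_lit 190) (nat_lit 0),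
  Rule.mk (nat_lit 15) (nat_lit 179) (Steps.fwd (nat_lit 16384) (Steps.fwd (nat_lit 8192) (Steps.bwd (nat_lit 4) (Steps.fwd (nat_lit 16384) (Steps.bwd (nat_lit 1) (Steps.fwd (nat_lit 24576) (Steps.fwd (nat_lit 8192) (Steps.bwd (nat_lit 2) (Steps.bwd (nat_lit 1) (Steps.bwd (nat_lit 2) (Steps.fwd (nat_lit 8192) Steps.nil))))))))))) (nat_lit 191) (nat_lit 0),
  Rule.mk (nat_lit 0) (nat_lit 194) (Steps.bwd (nat_lit 18) (Steps.bwd (nat_lit 1) (Steps.fwd (nat_lit 16384) (Steps.bwd (nat_lit 4) (Steps.fwd (nat_lit 8192) (Steps.fwd (nat_lit 24576) (Steps.bwd (nat_lit 1) (Steps.fwd (nat_lit 24576) (Steps.bwd (nat_lit 1) (Steps.fwd (nat_lit 16384) (Steps.fwd (nat_lit 8192) (Steps.bwd (nat_lit 3) Steps.nil)))))))))))) (nat_lit 192) (nat_lit 0),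
  Rule.mk (nat_lit 0) (nat_lit 194) (Steps.bwd (nat_lit 17) (Steps.fwd (nat_lit 24576) (Steps.fwd (nat_lit 8192) (Steps.fwd (nat_lit 24576) (Steps.bwd (nat_lit 1) (Steps.bwd (nat_lit 3) (Steps.bwd (nat_lit 1) (Steps.fwd (nat_lit 16384) (Steps.bwd (nat_lit 1) (Steps.bwd (nat_lit 4) (Steps.fwd (nat_lit 24576) (Steps.fwd (nat_lit 8192) Steps.nil)))))))))))) (nat_lit 193) (nat_lit 11),
  Rule.mk (nat_lit 0) (nat_lit 194) (Steps.bwd (nat_lit 18) (Steps.fwd (nat_lit 8192) (Steps.fwd (nat_lit 16384) (Steps.fwd (nat_lit 32768) (Steps.bwd (nat_lit 1) (Steps.fwd (nat_lit 24576) (Steps.bwd (nat_lit 1) (Steps.bwd (nat_lit 2) (Steps.fwd (nat_lit 8192) (Steps.bwd (nat_lit 3) (Steps.fwd (nat_lit 8192) (Steps.bwd (nat_lit 3) Steps.nil)))))))))))) (nat_lit 192) (nat_lit 0),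
  Rule.mk (nat_lit 20) (nat_lit 179) (Steps.fwd (nat_lit 8192) (Steps.fwd (nat_lit 24576) (Steps.bwd (nat_lit 1) (Steps.fwd (nat_lit 24576) (Steps.bwd (nat_lit 1) (Steps.fwd (nat_lit 16384) (Steps.fwd (nat_lit 8192) (Steps.bwd (nat_lit 3) (Steps.fwd (nat_lit 8192) (Steps.bwd (nat_lit 4) (Steps.bwd (nat_lit 2) Steps.nil))))))))))) (nat_lit 194) (nat_lit 1),
  Rule.mk (nat_lit 0) (nat_lit 194) (Steps.bwd (nat_lit 19) (Steps.fwd (nat_lit 16384) (Steps.bwd (nat_lit 4) (Steps.fwd (nat_lit 8192) (Steps.fwd (nat_lit 24576) (Steps.bwd (nat_lit 1) (Steps.fwd (nat_lit 24576) (Steps.bwd (nat_lit 1) (Steps.fwd (nat_lit 16384) (Steps.fwd (nat_lit 8192) (Steps.bwd (nat_lit 3) (Steps.fwd (nat_lit 8192) Steps.nil)))))))))))) (nat_lit 195) (nat_lit 11),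
  Rule.mk (nat_lit 17) (nat_lit 179) (Steps.fwd (nat_lit 24576) (Steps.fwd (nat_lit 8192) (Steps.fwd (nat_lit 24576) (Steps.fwd (nat_lit 8192) (Steps.bwd (nat_lit 3) (Steps.fwd (nat_lit 8192) (Steps.bwd (nat_lit 3) (Steps.fwd (nat_lit 8192) (Steps.fwd (nat_lit 32768) (Steps.bwd (nat_lit 2) (Steps.fwd (nat_lit 8192) Steps.nil))))))))))) (nat_lit 193) (nat_lit 0),
  Rule.mk (nat_lit 20) (nat_lit 179) (Steps.fwd (nat_lit 8192) (Steps.fwd (nat_lit 24576) (Steps.fwd (nat_lit 8192) (Steps.fwd (nat_lit 24576) (Steps.fwd (nat_lit 8192) (Steps.bwd (nat_lit 3) (Steps.fwd (nat_lit 8192) (Steps.bwd (nat_lit 3) (Steps.fwd (nat_lit 8192) (Steps.fwd (nat_lit 32768) (Steps.bwd (nat_lit 2) Steps.nil))))))))))) (nat_lit 194) (nat_lit 1),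
  Rule.mk (nat_lit 15) (nat_lit 179) (Steps.bwd (nat_lit 3) (Steps.fwd (nat_lit 8192) (Steps.fwd (nat_lit 32768) (Steps.bwd (nat_lit 3) (Steps.bwd (nat_lit 1) (Steps.bwd (nat_lit 2) (Steps.bwd (nat_lit 1) (Steps.fwd (nat_lit 24576) (Steps.fwd (nat_lit 8192) (Steps.fwd (nat_lit 24576) (Steps.fwd (nat_lit 8192) Steps.nil))))))))))) (nat_lit 191) (nat_lit 0),
  Rule.mk (nat_lit 19) (nat_lit 179) (Steps.bwd (nat_lit 3) (Steps.fwd (nat_lit 32768) (Steps.fwd (nat_lit 8192) (Steps.bwd (nat_lit 2) (Steps.fwd (nat_lit 8192) (Steps.fwd (nat_lit 24576) (Steps.fwd (nat_lit 8192) (Steps.bwd (nat_lit 3) (Steps.bwd (nat_lit 1) (Steps.bwd (nat_lit 3) (Steps.fwd (nat_lit 8192) Steps.nil))))))))))) (nat_lit 195) (nat_lit 0),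
  Rule.mk (nat_lit 0) (nat_lit 194) (Steps.bwd (nat_lit 17) (Steps.fwd (nat_lit 24576) (Steps.fwd (nat_lit 8192) (Steps.fwd (nat_lit 24576) (Steps.fwd (nat_lit 8192) (Steps.bwd (nat_lit 3) (Steps.fwd (nat_lit 8192) (Steps.bwd (nat_lit 3) (Steps.bwd (nat_lit 1) (Steps.bwd (nat_lit 4) (Steps.fwd (nat_lit 24576) (Steps.fwd (nat_lit 8192) Steps.nil)))))))))))) (nat_lit 193) (nat_lit 11),
  Rule.mk (nat_lit 20) (nat_lit 179) (Steps.bwd (nat_lit 1) (Steps.fwd (nat_lit 24576) (Steps.fwd (nat_lit 8192) (Steps.fwd (nat_lit 24576) (Steps.fwd (nat_lit 8192) (Steps.bwd (nat_lit 3) (Steps.fwd (nat_lit 8192) (Steps.bwd (nat_lit 3) (Steps.bwd (nat_lit 1) (Steps.bwd (nat_lit 4) (Steps.fwd (nat_lit 24576) Steps.nil))))))))))) (nat_lit 194) (nat_lit 1),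
  Rule.mk (nat_lit 18) (nat_lit 179) (Steps.bwd (nat_lit 1) (Steps.fwd (nat_lit 16384) (Steps.fwd (nat_lit 32768) (Steps.fwd (nat_lit 8192) (Steps.fwd (nat_lit 24576) (Steps.fwd (nat_lit 8192) (Steps.bwd (nat_lit 2) (Steps.bwd (nat_lit 1) (Steps.fwd (nat_lit 16384) (Steps.bwd (nat_lit 1) (Steps.bwd (nat_lit 3) Steps.nil))))))))))) (nat_lit 192) (nat_lit 1),
  Rule.mk (nat_lit 2) (nat_lit 164) (Steps.bwd (nat_lit 11) (Steps.bwd (nat_lit 3) (Steps.bwd (nat_lit 4) (Steps.fwd (nat_lit 40960) (Steps.fwd (nat_lit 65536) (Steps.bwd (nat_lit 9) (Steps.fwd (nat_lit 81920) (Steps.bwd (nat_lit 11) (Steps.bwd (nat_lit 12) (Steps.bwd (nat_lit 14) Steps.nil)))))))))) (nat_lit 182) (nat_lit 1),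
  Rule.mk (nat_lit 16) (nat_lit 179) (Steps.fwd (nat_lit 8192) (Steps.fwd (nat_lit 16384) (Steps.bwd (nat_lit 1) (Steps.bwd (nat_lit 3) (Steps.fwd (nat_lit 8192) (Steps.bwd (nat_lit 3) (Steps.fwd (nat_lit 8192) (Steps.bwd (nat_lit 2) (Steps.bwd (nat_lit 4) (Steps.bwd (nat_lit 1) (Steps.bwd (nat_lit 2) Steps.nil))))))))))) (nat_lit 190) (nat_lit 1),
  Rule.mk (nat_lit 0) (nat_lit 194) (Steps.bwd (nat_lit 16) (Steps.fwd (nat_lit 8192) (Steps.fwd (nat_lit 16384) (Steps.bwd (nat_lit 1) (Steps.fwd (nat_lit 16384) (Steps.fwd (nat_lit 8192) (Steps.bwd (nat_lit 3) (Steps.fwd (nat_lit 8192) (Steps.bwd (nat_lit 2) (Steps.bwd (nat_lit 4) (Steps.bwd (nat_lit 1) (Steps.bwd (nat_lit 2) Steps.nil)))))))))))) (nat_lit 190) (nat_lit 0),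
  Rule.mk (nat_lit 15) (nat_lit 179) (Steps.fwd (nat_lit 16384) (Steps.fwd (nat_lit 8192) (Steps.bwd (nat_lit 4) (Steps.fwd (nat_lit 16384) (Steps.bwd (nat_lit 1) (Steps.bwd (nat_lit 2) (Steps.fwd (nat_lit 8192) (Steps.bwd (nat_lit 2) (Steps.bwd (nat_lit 1) (Steps.fwd (nat_lit 24576) (Steps.bwd (nat_lit 1) Steps.nil))))))))))) (nat_lit 191) (nat_lit 0),
  Rule.mk (nat_lit 0) (nat_lit 194) (Steps.fwd (nat_lit 8192) (Steps.fwd (nat_lit 16384) (Steps.bwd (nat_lit 4) (Steps.bwd (nat_lit 1) (Steps.bwd (nat_lit 2) (Steps.fwd (nat_lit 8192) (Steps.bwd (nat_lit 2) (Steps.bwd (nat_lit 1) (Steps.bwd (nat_lit 3) (Steps.fwd (nat_lit 8192) (Steps.fwd (nat_lit 16384) (Steps.fwd (nat_lit 139264) Steps.nil)))))))))))) (nat_lit 192) (nat_lit 1),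
  Rule.mk (nat_lit 17) (nat_lit 179) (Steps.bwd (nat_lit 2) (Steps.fwd (nat_lit 8192) (Steps.bwd (nat_lit 2) (Steps.bwd (nat_lit 1) (Steps.bwd (nat_lit 3) (Steps.fwd (nat_lit 8192) (Steps.fwd (nat_lit 16384) (Steps.fwd (nat_lit 8192) (Steps.bwd (nat_lit 4) (Steps.bwd (nat_lit 2) (Steps.fwd (nat_lit 8192) Steps.nil))))))))))) (nat_lit 193) (nat_lit 0),
  Rule.mk (nat_lit 20) (nat_lit 179) (Steps.bwd (nat_lit 1) (Steps.bwd (nat_lit 2) (Steps.fwd (nat_lit 8192) (Steps.bwd (nat_lit 2) (Steps.bwd (nat_lit 1) (Steps.bwd (nat_lit 3) (Steps.fwd (nat_lit 8192) (Steps.fwd (nat_lit 16384) (Steps.fwd (nat_lit 8192) (Steps.bwd (nat_lit 4) (Steps.bwd (nat_lit 2) Steps.nil))))))))))) (nat_lit 194) (nat_lit 1),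
  Rule.mk (nat_lit 16) (nat_lit 179) (Steps.fwd (nat_lit 8192) (Steps.bwd (nat_lit 3) (Steps.fwd (nat_lit 8192) (Steps.bwd (nat_lit 3) (Steps.fwd (nat_lit 8192) (Steps.fwd (nat_lit 16384) (Steps.bwd (nat_lit 1) (Steps.bwd (nat_lit 2) (Steps.fwd (nat_lit 32768) (Steps.fwd (nat_lit 8192) (Steps.bwd (nat_lit 2) Steps.nil))))))))))) (nat_lit 190) (nat_lit 1),
  Rule.mk (nat_lit 0) (nat_lit 194) (Steps.bwd (nat_lit 3) (Steps.bwd (nat_lit 1) (Steps.bwd (nat_lit 4) (Steps.fwd (nat_lit 16384) (Steps.bwd (nat_lit 1) (Steps.bwd (nat_lit 2) (Steps.fwd (nat_lit 8192) (Steps.bwd (nat_lit 2) (Steps.fwd (nat_lit 8192) (Steps.fwd (nat_lit 24576) (Steps.bwd (nat_lit 1) (Steps.fwd (nat_lit 131072) Steps.nil)))))))))))) (nat_lit 191) (nat_lit 0),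
  Rule.mk (nat_lit 0) (nat_lit 194) (Steps.bwd (nat_lit 18) (Steps.bwd (nat_lit 1) (Steps.bwd (nat_lit 3) (Steps.bwd (nat_lit 4) (Steps.bwd (nat_lit 1) (Steps.bwd (nat_lit 2) (Steps.fwd (nat_lit 8192) (Steps.bwd (nat_lit 2) (Steps.fwd (nat_lit 8192) (Steps.fwd (nat_lit 16384) (Steps.bwd (nat_lit 1) (Steps.bwd (nat_lit 3) Steps.nil)))))))))))) (nat_lit 192) (nat_lit 0),
  Rule.mk (nat_lit 0) (nat_lit 194) (Steps.bwd (nat_lit 2) (Steps.bwd (nat_lit 1) (Steps.bwd (nat_lit 2) (Steps.fwd (nat_lit 8192) (Steps.bwd (nat_lit 3) (Steps.bwd (nat_lit 1) (Steps.bwd (nat_lit 3) (Steps.bwd (nat_lit 1) (Steps.fwd (nat_lit 32768) (Steps.bwd (nat_lit 2) (Steps.fwd (nat_lit 8192) (Steps.fwd (nat_lit 147456) Steps.nil)))))))))))) (nat_lit 193) (nat_lit 0),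
  Rule.mk (nat_lit 17) (nat_lit 179) (Steps.bwd (nat_lit 2) (Steps.fwd (nat_lit 8192) (Steps.bwd (nat_lit 2) (Steps.fwd (nat_lit 8192) (Steps.fwd (nat_lit 16384) (Steps.bwd (nat_lit 1) (Steps.bwd (nat_lit 3) (Steps.fwd (nat_lit 8192) (Steps.fwd (nat_lit 32768) (Steps.bwd (nat_lit 2) (Steps.fwd (nat_lit 8192) Steps.nil))))))))))) (nat_lit 193) (nat_lit 0),
  Rule.mk (nat_lit 1) (nat_lit 179) (Steps.fwd (nat_lit 24576) (Steps.bwd (nat_lit 1) (Steps.bwd (nat_lit 2) (Steps.fwd (nat_lit 8192) (Steps.bwd (nat_lit 3) (Steps.bwd (nat_lit 1) (Steps.bwd (nat_lit 3) (Steps.bwd (nat_lit 1) (Steps.fwd (nat_lit 32768) (Steps.bwd (nat_lit 2) (Steps.fwd (nat_lit 155648) Steps.nil))))))))))) (nat_lit 194) (nat_lit 2),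
  Rule.mk (nat_lit 0) (nat_lit 194) (Steps.bwd (nat_lit 1) (Steps.bwd (nat_lit 2) (Steps.fwd (nat_lit 8192) (Steps.bwd (nat_lit 2) (Steps.fwd (nat_lit 8192) (Steps.fwd (nat_lit 16384) (Steps.bwd (nat_lit 1) (Steps.bwd (nat_lit 3) (Steps.fwd (nat_lit 8192) (Steps.fwd (nat_lit 32768) (Steps.bwd (nat_lit 2) (Steps.fwd (nat_lit 155648) Steps.nil)))))))))))) (nat_lit 194) (nat_lit 1),
  Rule.mk (nat_lit 0) (nat_lit 194) (Steps.bwd (nat_lit 19) (Steps.bwd (nat_lit 3) (Steps.bwd (nat_lit 4) (Steps.fwd (nat_lit 8192) (Steps.bwd (nat_lit 2) (Steps.fwd (nat_lit 8192) (Steps.bwd (nat_lit 2) (Steps.fwd (nat_lit 8192) (Steps.fwd (nat_lit 16384) (Steps.bwd (nat_lit 1) (Steps.bwd (nat_lit 3) (Steps.fwd (nat_lit 8192) Steps.nil)))))))))))) (nat_lit 195) (nat_lit 11),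
  Rule.mk (nat_lit 2) (nat_lit 689) (Steps.bwd (nat_lit 1) (Steps.bwd (nat_lit 2) (Steps.fwd (nat_lit 8192) (Steps.bwd (nat_lit 2) (Steps.fwd (nat_lit 8192) (Steps.bwd (nat_lit 2) (Steps.fwd (nat_lit 8192) (Steps.fwd (nat_lit 24576) (Steps.bwd (nat_lit 1) (Steps.fwd (nat_lit 24576) (Steps.bwd (nat_lit 1) (Steps.fwd (nat_lit 24576) (Steps.bwd (nat_lit 1) (Steps.fwd (nat_lit 24576) (Steps.bwd (nat_lit 1) (Steps.fwd (nat_lit 24576) (Steps.fwd (nat_lit 8192) (Steps.bwd (nat_lit 2) (Steps.bwd (nat_lit 1) (Steps.bwd (nat_lit 2) (Steps.bwd (nat_lit 1) (Steps.bwd (nat_lit 2) (Steps.fwd (nat_lit 8192) (Steps.bwd (nat_lit 2) (Steps.bwd (nat_lit 1) (Steps.fwd (nat_lit 24576) (Steps.bwd (nat_lit 1) (Steps.bwd (nat_lit 2) (Steps.fwd (nat_lit 8192) (Steps.fwd (nat_lit 24576) (Steps.bwd (nat_lit 1) (Steps.fwd (nat_lit 24576) (Steps.bwd (nat_lit 1) (Steps.fwd (nat_lit 24576) (Steps.bwd (nat_lit 1) (Steps.fwd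 (nat_lit 24576) (Steps.bwd (nat_lit 1) (Steps.bwd (nat_lit 2) (Steps.fwd (nat_lit 8192) (Steps.bwd (nat_lit 2) (Steps.bwd (nat_lit 1) (Steps.bwd (nat_lit 2) (Steps.bwd (nat_lit 1) (Steps.fwd (nat_lit 24576) (Steps.bwd (nat_lit 1) Steps.nil))))))))))))))))))))))))))))))))))))))))))))) (nat_lit 4) (nat_lit 0),
  Rule.mk (nat_lit 7) (nat_lit 104) (Steps.fwd (nat_lit 16384) (Steps.bwd (nat_lit 5) (Steps.fwd (nat_lit 57344) (Steps.bwd (nat_lit 13) (Steps.bwd (nat_lit 14) (Steps.bwd (nat_lit 2) Steps.nil)))))) (nat_lit 174) (nat_lit 2),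
  Rule.mk (nat_lit 10) (nat_lit 104) (Steps.bwd (nat_lit 3) (Steps.fwd (nat_lit 49152) (Steps.fwd (nat_lit 90112) (Steps.bwd (nat_lit 12) (Steps.bwd (nat_lit 14) (Steps.bwd (nat_lit 2) Steps.nil)))))) (nat_lit 180) (nat_lit 2),
  Rule.mk (nat_lit 13) (nat_lit 134) (Steps.bwd (nat_lit 3) (Steps.fwd (nat_lit 49152) (Steps.fwd (nat_lit 81920) (Steps.bwd (nat_lit 11) (Steps.bwd (nat_lit 12) (Steps.bwd (nat_lit 13) (Steps.bwd (nat_lit 14) (Steps.bwd (nat_lit 2) Steps.nil)))))))) (nat_lit 186) (nat_lit 2),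
  Rule.mk (nat_lit 6) (nat_lit 164) (Steps.fwd (nat_lit 16384) (Steps.bwd (nat_lit 5) (Steps.bwd (nat_lit 6) (Steps.fwd (nat_lit 73728) (Steps.fwd (nat_lit 81920) (Steps.bwd (nat_lit 11) (Steps.bwd (nat_lit 12) (Steps.bwd (nat_lit 13) (Steps.bwd (nat_lit 14) (Steps.bwd (nat_lit 2) Steps.nil)))))))))) (nat_lit 172) (nat_lit 2),
  Rule.mk (nat_lit 16) (nat_lit 179) (Steps.bwd (nat_lit 1) (Steps.fwd (nat_lit 16384) (Steps.fwd (nat_lit 8192) (Steps.fwd (nat_lit 16384) (Steps.fwd (nat_lit 8192) (Steps.fwd (nat_lit 16384) (Steps.fwd (nat_lit 8192) (Steps.bwd (nat_lit 2) (Steps.bwd (nat_lit 4) (Steps.bwd (nat_lit 1) (Steps.bwd (nat_lit 2) Steps.nil))))))))))) (nat_lit 190) (nat_lit 1),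
  Rule.mk (nat_lit 0) (nat_lit 194) (Steps.bwd (nat_lit 15) (Steps.fwd (nat_lit 16384) (Steps.bwd (nat_lit 1) (Steps.bwd (nat_lit 4) (Steps.bwd (nat_lit 3) (Steps.bwd (nat_lit 1) (Steps.bwd (nat_lit 2) (Steps.bwd (nat_lit 1) (Steps.fwd (nat_lit 24576) (Steps.bwd (nat_lit 1) (Steps.bwd (nat_lit 2) (Steps.bwd (nat_lit 1) Steps.nil)))))))))))) (nat_lit 191) (nat_lit 11),
  Rule.mk (nat_lit 15) (nat_lit 179) (Steps.fwd (nat_lit 16384) (Steps.bwd (nat_lit 1) (Steps.fwd (nat_lit 32768) (Steps.fwd (nat_lit 16384) (Steps.bwd (nat_lit 1) (Steps.fwd (nat_lit 24576) (Steps.bwd (nat_lit 1) (Steps.bwd (nat_lit 2) (Steps.bwd (nat_lit 1) (Steps.bwd (nat_lit 2) (Steps.fwd (nat_lit 8192) Steps.nil))))))))))) (nat_lit 191) (nat_lit 0),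
  Rule.mk (nat_lit 0) (nat_lit 194) (Steps.fwd (nat_lit 16384) (Steps.bwd (nat_lit 1) (Steps.bwd (nat_lit 4) (Steps.fwd (nat_lit 16384) (Steps.bwd (nat_lit 1) (Steps.bwd (nat_lit 2) (Steps.bwd (nat_lit 1) (Steps.bwd (nat_lit 2) (Steps.fwd (nat_lit 8192) (Steps.bwd (nat_lit 2) (Steps.fwd (nat_lit 8192) (Steps.fwd (nat_lit 131072) Steps.nil)))))))))))) (nat_lit 191) (nat_lit 0),
  Rule.mk (nat_lit 18) (nat_lit 179) (Steps.bwd (nat_lit 1) (Steps.fwd (nat_lit 16384) (Steps.bwd (nat_lit 4) (Steps.bwd (nat_lit 1) (Steps.fwd (nat_lit 24576) (Steps.bwd (nat_lit 1) (Steps.bwd (nat_lit 2) (Steps.bwd (nat_lit 1) (Steps.fwd (nat_lit 16384) (Steps.bwd (nat_lit 1) (Steps.bwd (nat_lit 3) Steps.nil))))))))))) (nat_lit 192) (nat_lit 1),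
  Rule.mk (nat_lit 18) (nat_lit 179) (Steps.bwd (nat_lit 1) (Steps.fwd (nat_lit 16384) (Steps.bwd (nat_lit 4) (Steps.bwd (nat_lit 1) (Steps.bwd (nat_lit 2) (Steps.bwd (nat_lit 1) (Steps.bwd (nat_lit 2) (Steps.fwd (nat_lit 8192) (Steps.fwd (nat_lit 16384) (Steps.fwd (nat_lit 8192) (Steps.bwd (nat_lit 3) Steps.nil))))))))))) (nat_lit 192) (nat_lit 1),
  Rule.mk (nat_lit 17) (nat_lit 179) (Steps.bwd (nat_lit 2) (Steps.bwd (nat_lit 1) (Steps.fwd (nat_lit 24576) (Steps.fwd (nat_lit 8192) (Steps.fwd (nat_lit 16384) (Steps.bwd (nat_lit 1) (Steps.fwd (nat_lit 16384) (Steps.bwd (nat_lit 1) (Steps.bwd (nat_lit 4) (Steps.bwd (nat_lit 2) (Steps.bwd (nat_lit 1) Steps.nil))))))))))) (nat_lit 193) (nat_lit 0),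
  Rule.mk (nat_lit 17) (nat_lit 179) (Steps.fwd (nat_lit 24576) (Steps.bwd (nat_lit 1) (Steps.bwd (nat_lit 2) (Steps.bwd (nat_lit 1) (Steps.fwd (nat_lit 16384) (Steps.bwd (nat_lit 1) (Steps.bwd (nat_lit 3) (Steps.fwd (nat_lit 8192) (Steps.fwd (nat_lit 32768) (Steps.fwd (nat_lit 24576) (Steps.bwd (nat_lit 1) Steps.nil))))))))))) (nat_lit 193) (nat_lit 0),
  Rule.mk (nat_lit 17) (nat_lit 179) (Steps.bwd (nat_lit 2) (Steps.bwd (nat_lit 1) (Steps.bwd (nat_lit 2) (Steps.fwd (nat_lit 8192) (Steps.fwd (nat_lit 16384) (Steps.fwd (nat_lit 8192) (Steps.bwd (nat_lit 3) (Steps.fwd (nat_lit 8192) (Steps.bwd (nat_lit 4) (Steps.bwd (nat_lit 2) (Steps.bwd (nat_lit 1) Steps.nil))))))))))) (nat_lit 193) (nat_lit 0),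
  Rule.mk (nat_lit 20) (nat_lit 179) (Steps.fwd (nat_lit 8192) (Steps.bwd (nat_lit 2) (Steps.bwd (nat_lit 1) (Steps.fwd (nat_lit 24576) (Steps.fwd (nat_lit 8192) (Steps.fwd (nat_lit 16384) (Steps.bwd (nat_lit 1) (Steps.fwd (nat_lit 16384) (Steps.bwd (nat_lit 1) (Steps.bwd (nat_lit 4) (Steps.bwd (nat_lit 2) Steps.nil))))))))))) (nat_lit 194) (nat_lit 1),
  Rule.mk (nat_lit 20) (nat_lit 179) (Steps.bwd (nat_lit 1) (Steps.fwd (nat_lit 24576) (Steps.bwd (nat_lit 1) (Steps.bwd (nat_lit 2) (Steps.bwd (nat_lit 1) (Steps.fwd (nat_lit 16384) (Steps.bwd (nat_lit 1) (Steps.bwd (nat_lit 3) (Steps.fwd (nat_lit 8192) (Steps.fwd (nat_lit 32768) (Steps.fwd (nat_lit 24576) Steps.nil))))))))))) (nat_lit 194) (nat_lit 1),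
  Rule.mk (nat_lit 20) (nat_lit 179) (Steps.bwd (nat_lit 1) (Steps.bwd (nat_lit 2) (Steps.bwd (nat_lit 1) (Steps.bwd (nat_lit 2) (Steps.fwd (nat_lit 8192) (Steps.fwd (nat_lit 16384) (Steps.fwd (nat_lit 8192) (Steps.bwd (nat_lit 3) (Steps.fwd (nat_lit 8192) (Steps.bwd (nat_lit 4) (Steps.bwd (nat_lit 2) Steps.nil))))))))))) (nat_lit 194) (nat_lit 1),
  Rule.mk (nat_lit 19) (nat_lit 179) (Steps.fwd (nat_lit 16384) (Steps.bwd (nat_lit 4) (Steps.bwd (nat_lit 1) (Steps.bwd (nat_lit 2) (Steps.bwd (nat_lit 1) (Steps.bwd (nat_lit 2) (Steps.fwd (nat_lit 8192) (Steps.fwd (nat_lit 16384) (Steps.fwd (nat_lit 8192) (Steps.bwd (nat_lit 3) (Steps.fwd (nat_lit 8192) Steps.nil))))))))))) (nat_lit 195) (nat_lit 0),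
  Rule.mk (nat_lit 11) (nat_lit 104) (Steps.bwd (nat_lit 6) (Steps.bwd (nat_lit 1) (Steps.fwd (nat_lit 90112) (Steps.fwd (nat_lit 8192) (Steps.fwd (nat_lit 114688) (Steps.bwd (nat_lit 12) Steps.nil)))))) (nat_lit 161) (nat_lit 3),
  Rule.mk (nat_lit 0) (nat_lit 194) (Steps.bwd (nat_lit 16) (Steps.bwd (nat_lit 1) (Steps.fwd (nat_lit 16384) (Steps.fwd (nat_lit 8192) (Steps.bwd (nat_lit 3) (Steps.bwd (nat_lit 1) (Steps.fwd (nat_lit 16384) (Steps.bwd (nat_lit 1) (Steps.fwd (nat_lit 24576) (Steps.bwd (nat_lit 4) (Steps.fwd (nat_lit 8192) (Steps.bwd (nat_lit 2) Steps.nil)))))))))))) (nat_lit 190) (nat_lit 0),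
  Rule.mk (nat_lit 0) (nat_lit 194) (Steps.bwd (nat_lit 16) (Steps.bwd (nat_lit 1) (Steps.fwd (nat_lit 16384) (Steps.bwd (nat_lit 1) (Steps.fwd (nat_lit 16384) (Steps.bwd (nat_lit 1) (Steps.fwd (nat_lit 16384) (Steps.fwd (nat_lit 8192) (Steps.bwd (nat_lit 2) (Steps.fwd (nat_lit 32768) (Steps.bwd (nat_lit 1) (Steps.bwd (nat_lit 2) Steps.nil)))))))))))) (nat_lit 190) (nat_lit 0),
  Rule.mk (nat_lit 3) (nat_lit 179) (Steps.fwd (nat_lit 8192) (Steps.bwd (nat_lit 4) (Steps.bwd (nat_lit 3) (Steps.bwd (nat_lit 1) (Steps.fwd (nat_lit 24576) (Steps.fwd (nat_lit 8192) (Steps.bwd (nat_lit 2) (Steps.fwd (nat_lit 8192) (Steps.bwd (nat_lit 2) (Steps.fwd (nat_lit 8192) (Steps.fwd (nat_lit 131072) Steps.nil))))))))))) (nat_lit 191) (nat_lit 1),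
  Rule.mk (nat_lit 0) (nat_lit 194) (Steps.fwd (nat_lit 16384) (Steps.fwd (nat_lit 8192) (Steps.bwd (nat_lit 4) (Steps.bwd (nat_lit 3) (Steps.fwd (nat_lit 8192) (Steps.bwd (nat_lit 2) (Steps.fwd (nat_lit 8192) (Steps.bwd (nat_lit 2) (Steps.fwd (nat_lit 8192) (Steps.fwd (nat_lit 24576) (Steps.bwd (nat_lit 1) (Steps.fwd (nat_lit 131072) Steps.nil)))))))))))) (nat_lit 191) (nat_lit 0),
  Rule.mk (nat_lit 3) (nat_lit 179) (Steps.bwd (nat_lit 1) (Steps.bwd (nat_lit 4) (Steps.fwd (nat_lit 16384) (Steps.fwd (nat_lit 8192) (Steps.bwd (nat_lit 2) (Steps.fwd (nat_lit 8192) (Steps.fwd (nat_lit 24576) (Steps.bwd (nat_lit 1) (Steps.fwd (nat_lit 24576) (Steps.fwd (nat_lit 8192) (Steps.fwd (nat_lit 131072) Steps.nil))))))))))) (nat_lit 191) (nat_lit 1),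
  Rule.mk (nat_lit 18) (nat_lit 179) (Steps.fwd (nat_lit 8192) (Steps.bwd (nat_lit 3) (Steps.fwd (nat_lit 32768) (Steps.fwd (nat_lit 8192) (Steps.bwd (nat_lit 2) (Steps.fwd (nat_lit 8192) (Steps.bwd (nat_lit 2) (Steps.fwd (nat_lit 8192) (Steps.bwd (nat_lit 3) (Steps.fwd (nat_lit 8192) (Steps.bwd (nat_lit 3) Steps.nil))))))))))) (nat_lit 192) (nat_lit 1),
  Rule.mk (nat_lit 18) (nat_lit 179) (Steps.bwd (nat_lit 1) (Steps.bwd (nat_lit 3) (Steps.bwd (nat_lit 4) (Steps.fwd (nat_lit 8192) (Steps.bwd (nat_lit 2) (Steps.fwd (nat_lit 8192) (Steps.fwd (nat_lit 24576) (Steps.bwd (nat_lit 1) (Steps.bwd (nat_lit 3) (Steps.bwd (nat_lit 1) (Steps.fwd (nat_lit 16384) Steps.nil))))))))))) (nat_lit 192) (nat_lit 1),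
  Rule.mk (nat_lit 0) (nat_lit 194) (Steps.bwd (nat_lit 17) (Steps.bwd (nat_lit 2) (Steps.fwd (nat_lit 8192) (Steps.bwd (nat_lit 2) (Steps.fwd (nat_lit 8192) (Steps.bwd (nat_lit 3) (Steps.fwd (nat_lit 8192) (Steps.bwd (nat_lit 3) (Steps.fwd (nat_lit 8192) (Steps.fwd (nat_lit 32768) (Steps.bwd (nat_lit 2) (Steps.fwd (nat_lit 8192) Steps.nil)))))))))))) (nat_lit 193) (nat_lit 11),
  Rule.mk (nat_lit 20) (nat_lit 179) (Steps.fwd (nat_lit 8192) (Steps.bwd (nat_lit 2) (Steps.fwd (nat_lit 8192) (Steps.fwd (nat_lit 24576) (Steps.bwd (nat_lit 1) (Steps.bwd (nat_lit 3) (Steps.bwd (nat_lit 1) (Steps.fwd (nat_lit 16384) (Steps.fwd (nat_lit 8192) (Steps.fwd (nat_lit 32768) (Steps.bwd (nat_lit 2) Steps.nil))))))))))) (nat_lit 194) (nat_lit 1)]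
noncomputable def R_102 : List (Rule) := [Rule.mk (nat_lit 0) (nat_lit 194) (Steps.bwd (nat_lit 20) (Steps.bwd (nat_lit 1) (Steps.fwd (nat_lit 24576) (Steps.bwd (nat_lit 1) (Steps.fwd (nat_lit 24576) (Steps.bwd (nat_lit 1) (Steps.fwd (nat_lit 16384) (Steps.bwd (nat_lit 1) (Steps.fwd (nat_lit 16384) (Steps.bwd (nat_lit 1) (Steps.bwd (nat_lit 4) (Steps.fwd (nat_lit 24576) Steps.nil)))))))))))) (nat_lit 194) (nat_lit 0),
  Rule.mk (nat_lit 19) (nat_lit 179) (Steps.bwd (nat_lit 3) (Steps.bwd (nat_lit 4) (Steps.fwd (nat_lit 8192) (Steps.bwd (nat_lit 2) (Steps.fwd (nat_lit 8192) (Steps.fwd (nat_lit 24576) (Steps.bwd (nat_lit 1) (Steps.bwd (nat_lit 3) (Steps.bwd (nat_lit 1) (Steps.fwd (nat_lit 16384) (Steps.fwd (nat_lit 8192) Steps.nil))))))))))) (nat_lit 195) (nat_lit 0),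
  Rule.mk (nat_lit 6) (nat_lit 164) (Steps.bwd (nat_lit 3) (Steps.bwd (nat_lit 5) (Steps.fwd (nat_lit 49152) (Steps.bwd (nat_lit 9) (Steps.bwd (nat_lit 10) (Steps.fwd (nat_lit 90112) (Steps.bwd (nat_lit 12) (Steps.fwd (nat_lit 106496) (Steps.fwd (nat_lit 114688) (Steps.fwd (nat_lit 24576) Steps.nil)))))))))) (nat_lit 172) (nat_lit 2),
  Rule.mk (nat_lit 11) (nat_lit 164) (Steps.bwd (nat_lit 3) (Steps.fwd (nat_lit 32768) (Steps.fwd (nat_lit 40960) (Steps.fwd (nat_lit 65536) (Steps.bwd (nat_lit 9) (Steps.fwd (nat_lit 81920) (Steps.bwd (nat_lit 11) (Steps.bwd (nat_lit 12) (Steps.bwd (nat_lit 14) (Steps.fwd (nat_lit 24576) Steps.nil)))))))))) (nat_lit 182) (nat_lit 2),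
  Rule.mk (nat_lit 15) (nat_lit 179) (Steps.fwd (nat_lit 16384) (Steps.fwd (nat_lit 8192) (Steps.bwd (nat_lit 4) (Steps.bwd (nat_lit 3) (Steps.bwd (nat_lit 1) (Steps.fwd (nat_lit 24576) (Steps.fwd (nat_lit 8192) (Steps.bwd (nat_lit 2) (Steps.fwd (nat_lit 8192) (Steps.fwd (nat_lit 24576) (Steps.bwd (nat_lit 1) Steps.nil))))))))))) (nat_lit 191) (nat_lit 0),
  Rule.mk (nat_lit 16) (nat_lit 179) (Steps.bwd (nat_lit 1) (Steps.bwd (nat_lit 3) (Steps.bwd (nat_lit 1) (Steps.bwd (nat_lit 3) (Steps.bwd (nat_lit 1) (Steps.fwd (nat_lit 16384) (Steps.fwd (nat_lit 8192) (Steps.bwd (nat_lit 2) (Steps.bwd (nat_lit 4) (Steps.fwd (nat_lit 8192) (Steps.fwd (nat_lit 24576) Steps.nil))))))))))) (nat_lit 190) (nat_lit 1),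
  Rule.mk (nat_lit 15) (nat_lit 179) (Steps.bwd (nat_lit 3) (Steps.bwd (nat_lit 1) (Steps.bwd (nat_lit 4) (Steps.fwd (nat_lit 16384) (Steps.bwd (nat_lit 1) (Steps.fwd (nat_lit 24576) (Steps.fwd (nat_lit 8192) (Steps.fwd (nat_lit 24576) (Steps.fwd (nat_lit 8192) (Steps.bwd (nat_lit 2) (Steps.fwd (nat_lit 8192) Steps.nil))))))))))) (nat_lit 191) (nat_lit 0),
  Rule.mk (nat_lit 18) (nat_lit 179) (Steps.bwd (nat_lit 1) (Steps.fwd (nat_lit 16384) (Steps.fwd (nat_lit 32768) (Steps.bwd (nat_lit 1) (Steps.fwd (nat_lit 24576) (Steps.bwd (nat_lit 1) (Steps.bwd (nat_lit 2) (Steps.bwd (nat_lit 1) (Steps.bwd (nat_lit 3) (Steps.bwd (nat_lit 1) (Steps.fwd (nat_lit 16384) Steps.nil))))))))))) (nat_lit 192) (nat_lit 1),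
  Rule.mk (nat_lit 18) (nat_lit 179) (Steps.bwd (nat_lit 1) (Steps.fwd (nat_lit 16384) (Steps.fwd (nat_lit 32768) (Steps.bwd (nat_lit 1) (Steps.fwd (nat_lit 24576) (Steps.fwd (nat_lit 8192) (Steps.fwd (nat_lit 24576) (Steps.fwd (nat_lit 8192) (Steps.fwd (nat_lit 16384) (Steps.bwd (nat_lit 1) (Steps.bwd (nat_lit 3) Steps.nil))))))))))) (nat_lit 192) (nat_lit 1),
  Rule.mk (nat_lit 17) (nat_lit 179) (Steps.fwd (nat_lit 24576) (Steps.bwd (nat_lit 1) (Steps.bwd (nat_lit 2) (Steps.bwd (nat_lit 1) (Steps.bwd (nat_lit 3) (Steps.bwd (nat_lit 1) (Steps.fwd (nat_lit 16384) (Steps.fwd (nat_lit 8192) (Steps.bwd (nat_lit 4) (Steps.fwd (nat_lit 24576) (Steps.fwd (nat_lit 8192) Steps.nil))))))))))) (nat_lit 193) (nat_lit 0),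
  Rule.mk (nat_lit 0) (nat_lit 194) (Steps.bwd (nat_lit 3) (Steps.fwd (nat_lit 32768) (Steps.bwd (nat_lit 1) (Steps.bwd (nat_lit 2) (Steps.fwd (nat_lit 8192) (Steps.fwd (nat_lit 24576) (Steps.fwd (nat_lit 8192) (Steps.fwd (nat_lit 16384) (Steps.fwd (nat_lit 8192) (Steps.bwd (nat_lit 3) (Steps.fwd (nat_lit 8192) (Steps.fwd (nat_lit 163840) Steps.nil)))))))))))) (nat_lit 195) (nat_lit 0),
  Rule.mk (nat_lit 19) (nat_lit 179) (Steps.bwd (nat_lit 3) (Steps.fwd (nat_lit 32768) (Steps.fwd (nat_lit 8192) (Steps.bwd (nat_lit 2) (Steps.fwd (nat_lit 8192) (Steps.bwd (nat_lit 2) (Steps.bwd (nat_lit 1) (Steps.bwd (nat_lit 3) (Steps.bwd (nat_lit 1) (Steps.bwd (nat_lit 3) (Steps.bwd (nat_lit 1) Steps.nil))))))))))) (nat_lit 195) (nat_lit 0),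
  Rule.mk (nat_lit 0) (nat_lit 194) (Steps.bwd (nat_lit 19) (Steps.fwd (nat_lit 16384) (Steps.fwd (nat_lit 32768) (Steps.bwd (nat_lit 1) (Steps.fwd (nat_lit 24576) (Steps.bwd (nat_lit 1) (Steps.bwd (nat_lit 2) (Steps.bwd (nat_lit 1) (Steps.bwd (nat_lit 3) (Steps.bwd (nat_lit 1) (Steps.fwd (nat_lit 16384) (Steps.fwd (nat_lit 8192) Steps.nil)))))))))))) (nat_lit 195) (nat_lit 11),
  Rule.mk (nat_lit 18) (nat_lit 179) (Steps.bwd (nat_lit 1) (Steps.bwd (nat_lit 3) (Steps.fwd (nat_lit 32768) (Steps.fwd (nat_lit 8192) (Steps.bwd (nat_lit 2) (Steps.fwd (nat_lit 8192) (Steps.bwd (nat_lit 2) (Steps.bwd (nat_lit 1) (Steps.bwd (nat_lit 3) (Steps.bwd (nat_lit 1) (Steps.bwd (nat_lit 3) Steps.nil))))))))))) (nat_lit 192) (nat_lit 1),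
  Rule.mk (nat_lit 10) (nat_lit 104) (Steps.bwd (nat_lit 3) (Steps.bwd (nat_lit 6) (Steps.bwd (nat_lit 11) (Steps.bwd (nat_lit 12) (Steps.bwd (nat_lit 14) (Steps.fwd (nat_lit 24576) Steps.nil)))))) (nat_lit 180) (nat_lit 2),
  Rule.mk (nat_lit 14) (nat_lit 119) (Steps.bwd (nat_lit 3) (Steps.bwd (nat_lit 5) (Steps.bwd (nat_lit 6) (Steps.bwd (nat_lit 7) (Steps.bwd (nat_lit 12) (Steps.bwd (nat_lit 14) (Steps.fwd (nat_lit 24576) Steps.nil))))))) (nat_lit 188) (nat_lit 2),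
  Rule.mk (nat_lit 13) (nat_lit 134) (Steps.bwd (nat_lit 3) (Steps.bwd (nat_lit 14) (Steps.fwd (nat_lit 106496) (Steps.bwd (nat_lit 12) (Steps.fwd (nat_lit 90112) (Steps.fwd (nat_lit 81920) (Steps.bwd (nat_lit 6) (Steps.bwd (nat_lit 2) Steps.nil)))))))) (nat_lit 187) (nat_lit 8),
  Rule.mk (nat_lit 6) (nat_lit 164) (Steps.bwd (nat_lit 3) (Steps.bwd (nat_lit 14) (Steps.fwd (nat_lit 106496) (Steps.bwd (nat_lit 12) (Steps.fwd (nat_lit 90112) (Steps.fwd (nat_lit 81920) (Steps.bwd (nat_lit 9) (Steps.bwd (nat_lit 6) (Steps.fwd (nat_lit 40960) (Steps.fwd (nat_lit 24576) Steps.nil)))))))))) (nat_lit 173) (nat_lit 10),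
  Rule.mk (nat_lit 12) (nat_lit 104) (Steps.bwd (nat_lit 11) (Steps.bwd (nat_lit 6) (Steps.bwd (nat_lit 1) (Steps.bwd (nat_lit 11) (Steps.fwd (nat_lit 8192) (Steps.bwd (nat_lit 14) Steps.nil)))))) (nat_lit 161) (nat_lit 2),
  Rule.mk (nat_lit 0) (nat_lit 194) (Steps.bwd (nat_lit 15) (Steps.bwd (nat_lit 3) (Steps.fwd (nat_lit 8192) (Steps.fwd (nat_lit 32768) (Steps.bwd (nat_lit 3) (Steps.bwd (nat_lit 1) (Steps.bwd (nat_lit 2) (Steps.fwd (nat_lit 8192) (Steps.bwd (nat_lit 2) (Steps.fwd (nat_lit 8192) (Steps.bwd (nat_lit 2) (Steps.bwd (nat_lit 1) Steps.nil)))))))))))) (nat_lit 191) (nat_lit 11),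
  Rule.mk (nat_lit 0) (nat_lit 194) (Steps.fwd (nat_lit 24576) (Steps.bwd (nat_lit 1) (Steps.fwd (nat_lit 24576) (Steps.fwd (nat_lit 8192) (Steps.bwd (nat_lit 3) (Steps.fwd (nat_lit 8192) (Steps.bwd (nat_lit 3) (Steps.fwd (nat_lit 8192) (Steps.fwd (nat_lit 32768) (Steps.fwd (nat_lit 24576) (Steps.fwd (nat_lit 8192) (Steps.fwd (nat_lit 147456) Steps.nil)))))))))))) (nat_lit 193) (nat_lit 0),
  Rule.mk (nat_lit 0) (nat_lit 194) (Steps.bwd (nat_lit 20) (Steps.bwd (nat_lit 1) (Steps.fwd (nat_lit 24576) (Steps.bwd (nat_lit 1) (Steps.fwd (nat_lit 24576) (Steps.fwd (nat_lit 8192) (Steps.bwd (nat_lit 3) (Steps.fwd (nat_lit 8192) (Steps.bwd (nat_lit 3) (Steps.fwd (nat_lit 8192) (Steps.fwd (nat_lit 32768) (Steps.fwd (nat_lit 24576) Steps.nil)))))))))))) (nat_lit 194) (nat_lit 0),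
  Rule.mk (nat_lit 16) (nat_lit 179) (Steps.bwd (nat_lit 1) (Steps.fwd (nat_lit 16384) (Steps.bwd (nat_lit 1) (Steps.bwd (nat_lit 3) (Steps.fwd (nat_lit 8192) (Steps.fwd (nat_lit 16384) (Steps.fwd (nat_lit 8192) (Steps.fwd (nat_lit 24576) (Steps.bwd (nat_lit 4) (Steps.fwd (nat_lit 8192) (Steps.fwd (nat_lit 24576) Steps.nil))))))))))) (nat_lit 190) (nat_lit 1),
  Rule.mk (nat_lit 18) (nat_lit 179) (Steps.bwd (nat_lit 1) (Steps.fwd (nat_lit 16384) (Steps.fwd (nat_lit 32768) (Steps.fwd (nat_lit 8192) (Steps.bwd (nat_lit 2) (Steps.fwd (nat_lit 8192) (Steps.fwd (nat_lit 24576) (Steps.bwd (nat_lit 1) (Steps.fwd (nat_lit 16384) (Steps.bwd (nat_lit 1) (Steps.fwd (nat_lit 16384) Steps.nil))))))))))) (nat_lit 192) (nat_lit 1),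
  Rule.mk (nat_lit 2) (nat_lit 164) (Steps.bwd (nat_lit 11) (Steps.bwd (nat_lit 3) (Steps.bwd (nat_lit 4) (Steps.bwd (nat_lit 5) (Steps.fwd (nat_lit 65536) (Steps.fwd (nat_lit 73728) (Steps.bwd (nat_lit 10) (Steps.bwd (nat_lit 11) (Steps.bwd (nat_lit 12) (Steps.bwd (nat_lit 14) Steps.nil)))))))))) (nat_lit 182) (nat_lit 1),
  Rule.mk (nat_lit 17) (nat_lit 179) (Steps.bwd (nat_lit 2) (Steps.fwd (nat_lit 8192) (Steps.fwd (nat_lit 24576) (Steps.bwd (nat_lit 1) (Steps.bwd (nat_lit 3) (Steps.fwd (nat_lit 8192) (Steps.bwd (nat_lit 3) (Steps.bwd (nat_lit 1) (Steps.fwd (nat_lit 32768) (Steps.fwd (nat_lit 24576) (Steps.bwd (nat_lit 1) Steps.nil))))))))))) (nat_lit 193) (nat_lit 0),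
  Rule.mk (nat_lit 1) (nat_lit 179) (Steps.bwd (nat_lit 2) (Steps.fwd (nat_lit 8192) (Steps.fwd (nat_lit 24576) (Steps.bwd (nat_lit 1) (Steps.bwd (nat_lit 3) (Steps.fwd (nat_lit 8192) (Steps.bwd (nat_lit 3) (Steps.bwd (nat_lit 1) (Steps.fwd (nat_lit 32768) (Steps.fwd (nat_lit 24576) (Steps.fwd (nat_lit 155648) Steps.nil))))))))))) (nat_lit 194) (nat_lit 2),
  Rule.mk (nat_lit 3) (nat_lit 599) (Steps.bwd (nat_lit 1) (Steps.bwd (nat_lit 2) (Steps.fwd (nat_lit 8192) (Steps.fwd (nat_lit 24576) (Steps.bwd (nat_lit 1) (Steps.bwd (nat_lit 3) (Steps.fwd (nat_lit 8192) (Steps.bwd (nat_lit 3) (Steps.bwd (nat_lit 1) (Steps.bwd (nat_lit 2) (Steps.fwd (nat_lit 8192) (Steps.fwd (nat_lit 24576) (Steps.bwd (nat_lit 1) (Steps.fwd (nat_lit 16384) (Steps.fwd (nat_lit 8192) (Steps.bwd (nat_lit 3) (Steps.bwd (nat_lit 1) (Steps.fwd (nat_lit 24576) (Steps.bwd (nat_lit 1) (Steps.fwd (nat_lit 24576) (Steps.bwd (nat_lit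 1) (Steps.fwd (nat_lit 16384) (Steps.fwd (nat_lit 8192) (Steps.bwd (nat_lit 3) (Steps.bwd (nat_lit 1) (Steps.bwd (nat_lit 2) (Steps.bwd (nat_lit 1) (Steps.fwd (nat_lit 24576) (Steps.bwd (nat_lit 1) (Steps.fwd (nat_lit 16384) (Steps.fwd (nat_lit 8192) (Steps.fwd (nat_lit 16384) (Steps.bwd (nat_lit 1) (Steps.fwd (nat_lit 24576) (Steps.bwd (nat_lit 1) (Steps.fwd (nat_lit 24576) (Steps.bwd (nat_lit 1) (Steps.bwd (nat_lit 3) (Steps.bwd (nat_lit 1) Steps.nil))))))))))))))))))))))))))))))))))))))) (nat_lit 8) (nat_lit 4),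
  Rule.mk (nat_lit 14) (nat_lit 89) (Steps.fwd (nat_lit 57344) (Steps.bwd (nat_lit 4) (Steps.fwd (nat_lit 24576) (Steps.bwd (nat_lit 8) (Steps.bwd (nat_lit 3) Steps.nil))))) (nat_lit 177) (nat_lit 1),
  Rule.mk (nat_lit 18) (nat_lit 179) (Steps.bwd (nat_lit 1) (Steps.bwd (nat_lit 3) (Steps.fwd (nat_lit 32768) (Steps.bwd (nat_lit 1) (Steps.fwd (nat_lit 24576) (Steps.bwd (nat_lit 1) (Steps.fwd (nat_lit 24576) (Steps.bwd (nat_lit 1) (Steps.bwd (nat_lit 3) (Steps.bwd (nat_lit 1) (Steps.bwd (nat_lit 3) Steps.nil))))))))))) (nat_lit 192) (nat_lit 1),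
  Rule.mk (nat_lit 19) (nat_lit 179) (Steps.bwd (nat_lit 3) (Steps.fwd (nat_lit 32768) (Steps.bwd (nat_lit 1) (Steps.fwd (nat_lit 24576) (Steps.bwd (nat_lit 1) (Steps.fwd (nat_lit 24576) (Steps.bwd (nat_lit 1) (Steps.bwd (nat_lit 3) (Steps.bwd (nat_lit 1) (Steps.bwd (nat_lit 3) (Steps.bwd (nat_lit 1) Steps.nil))))))))))) (nat_lit 195) (nat_lit 0),
  Rule.mk (nat_lit 20) (nat_lit 179) (Steps.fwd (nat_lit 8192) (Steps.fwd (nat_lit 24576) (Steps.bwd (nat_lit 1) (Steps.fwd (nat_lit 24576) (Steps.fwd (nat_lit 8192) (Steps.bwd (nat_lit 3) (Steps.bwd (nat_lit 1) (Steps.fwd (nat_lit 16384) (Steps.fwd (nat_lit 8192) (Steps.bwd (nat_lit 4) (Steps.bwd (nat_lit 2) Steps.nil))))))))))) (nat_lit 194) (nat_lit 1),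
  Rule.mk (nat_lit 16) (nat_lit 179) (Steps.fwd (nat_lit 8192) (Steps.bwd (nat_lit 3) (Steps.bwd (nat_lit 1) (Steps.fwd (nat_lit 16384) (Steps.fwd (nat_lit 8192) (Steps.bwd (nat_lit 3) (Steps.fwd (nat_lit 8192) (Steps.bwd (nat_lit 2) (Steps.bwd (nat_lit 4) (Steps.bwd (nat_lit 1) (Steps.fwd (nat_lit 24576) Steps.nil))))))))))) (nat_lit 190) (nat_lit 1),
  Rule.mk (nat_lit 0) (nat_lit 194) (Steps.bwd (nat_lit 16) (Steps.bwd (nat_lit 1) (Steps.fwd (nat_lit 16384) (Steps.fwd (nat_lit 8192) (Steps.bwd (nat_lit 3) (Steps.fwd (nat_lit 8192) (Steps.fwd (nat_lit 16384) (Steps.fwd (nat_lit 8192) (Steps.fwd (nat_lit 24576) (Steps.fwd (nat_lit 32768) (Steps.bwd (nat_lit 1) (Steps.bwd (nat_lit 2) Steps.nil)))))))))))) (nat_lit 190) (nat_lit 0),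
  Rule.mk (nat_lit 15) (nat_lit 179) (Steps.bwd (nat_lit 3) (Steps.fwd (nat_lit 8192) (Steps.bwd (nat_lit 4) (Steps.fwd (nat_lit 16384) (Steps.bwd (nat_lit 1) (Steps.bwd (nat_lit 2) (Steps.bwd (nat_lit 1) (Steps.fwd (nat_lit 24576) (Steps.fwd (nat_lit 8192) (Steps.bwd (nat_lit 2) (Steps.fwd (nat_lit 8192) Steps.nil))))))))))) (nat_lit 191) (nat_lit 0),
  Rule.mk (nat_lit 0) (nat_lit 194) (Steps.bwd (nat_lit 18) (Steps.fwd (nat_lit 8192) (Steps.bwd (nat_lit 3) (Steps.bwd (nat_lit 4) (Steps.fwd (nat_lit 8192) (Steps.bwd (nat_lit 2) (Steps.bwd (nat_lit 1) (Steps.fwd (nat_lit 24576) (Steps.bwd (nat_lit 1) (Steps.fwd (nat_lit 16384) (Steps.fwd (nat_lit 8192) (Steps.bwd (nat_lit 3) Steps.nil)))))))))))) (nat_lit 192) (nat_lit 0),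
  Rule.mk (nat_lit 17) (nat_lit 179) (Steps.fwd (nat_lit 24576) (Steps.fwd (nat_lit 8192) (Steps.bwd (nat_lit 2) (Steps.fwd (nat_lit 8192) (Steps.bwd (nat_lit 3) (Steps.fwd (nat_lit 8192) (Steps.fwd (nat_lit 16384) (Steps.fwd (nat_lit 8192) (Steps.bwd (nat_lit 4) (Steps.bwd (nat_lit 2) (Steps.bwd (nat_lit 1) Steps.nil))))))))))) (nat_lit 193) (nat_lit 0),
  Rule.mk (nat_lit 0) (nat_lit 194) (Steps.bwd (nat_lit 19) (Steps.bwd (nat_lit 3) (Steps.fwd (nat_lit 32768) (Steps.bwd (nat_lit 1) (Steps.fwd (nat_lit 24576) (Steps.bwd (nat_lit 1) (Steps.bwd (nat_lit 2) (Steps.fwd (nat_lit 8192) (Steps.bwd (nat_lit 3) (Steps.fwd (nat_lit 8192) (Steps.fwd (nat_lit 16384) (Steps.bwd (nat_lit 1) Steps.nil)))))))))))) (nat_lit 195) (nat_lit 11),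
  Rule.mk (nat_lit 20) (nat_lit 179) (Steps.bwd (nat_lit 1) (Steps.fwd (nat_lit 24576) (Steps.fwd (nat_lit 8192) (Steps.bwd (nat_lit 2) (Steps.fwd (nat_lit 8192) (Steps.bwd (nat_lit 3) (Steps.fwd (nat_lit 8192) (Steps.fwd (nat_lit 16384) (Steps.fwd (nat_lit 8192) (Steps.bwd (nat_lit 4) (Steps.bwd (nat_lit 2) Steps.nil))))))))))) (nat_lit 194) (nat_lit 1),
  Rule.mk (nat_lit 19) (nat_lit 179) (Steps.bwd (nat_lit 3) (Steps.bwd (nat_lit 4) (Steps.fwd (nat_lit 8192) (Steps.bwd (nat_lit 2) (Steps.bwd (nat_lit 1) (Steps.fwd (nat_lit 24576) (Steps.bwd (nat_lit 1) (Steps.fwd (nat_lit 16384) (Steps.fwd (nat_lit 8192) (Steps.bwd (nat_lit 3) (Steps.fwd (nat_lit 8192) Steps.nil))))))))))) (nat_lit 195) (nat_lit 0),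
  Rule.mk (nat_lit 19) (nat_lit 179) (Steps.bwd (nat_lit 3) (Steps.bwd (nat_lit 4) (Steps.bwd (nat_lit 1) (Steps.fwd (nat_lit 24576) (Steps.fwd (nat_lit 8192) (Steps.bwd (nat_lit 2) (Steps.fwd (nat_lit 8192) (Steps.bwd (nat_lit 3) (Steps.fwd (nat_lit 8192) (Steps.fwd (nat_lit 16384) (Steps.fwd (nat_lit 8192) Steps.nil))))))))))) (nat_lit 195) (nat_lit 0),
  Rule.mk (nat_lit 16) (nat_lit 179) (Steps.bwd (nat_lit 1) (Steps.fwd (nat_lit 16384) (Steps.bwd (nat_lit 1) (Steps.bwd (nat_lit 3) (Steps.fwd (nat_lit 8192) (Steps.bwd (nat_lit 3) (Steps.fwd (nat_lit 8192) (Steps.fwd (nat_lit 24576) (Steps.fwd (nat_lit 32768) (Steps.bwd (nat_lit 1) (Steps.fwd (nat_lit 24576) Steps.nil))))))))))) (nat_lit 190) (nat_lit 1),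
  Rule.mk (nat_lit 16) (nat_lit 179) (Steps.bwd (nat_lit 1) (Steps.bwd (nat_lit 3) (Steps.bwd (nat_lit 1) (Steps.fwd (nat_lit 16384) (Steps.fwd (nat_lit 8192) (Steps.bwd (nat_lit 3) (Steps.fwd (nat_lit 8192) (Steps.fwd (nat_lit 24576) (Steps.bwd (nat_lit 4) (Steps.bwd (nat_lit 1) (Steps.bwd (nat_lit 2) Steps.nil))))))))))) (nat_lit 190) (nat_lit 1),
  Rule.mk (nat_lit 18) (nat_lit 179) (Steps.bwd (nat_lit 1) (Steps.fwd (nat_lit 16384) (Steps.fwd (nat_lit 32768) (Steps.bwd (nat_lit 1) (Steps.bwd (nat_lit 2) (Steps.fwd (nat_lit 8192) (Steps.fwd (nat_lit 24576) (Steps.bwd (nat_lit 1) (Steps.bwd (nat_lit 3) (Steps.fwd (nat_lit 8192) (Steps.bwd (nat_lit 3) Steps.nil))))))))))) (nat_lit 192) (nat_lit 1),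
  Rule.mk (nat_lit 16) (nat_lit 179) (Steps.fwd (nat_lit 8192) (Steps.bwd (nat_lit 3) (Steps.bwd (nat_lit 1) (Steps.fwd (nat_lit 16384) (Steps.bwd (nat_lit 1) (Steps.bwd (nat_lit 3) (Steps.fwd (nat_lit 8192) (Steps.fwd (nat_lit 24576) (Steps.bwd (nat_lit 4) (Steps.fwd (nat_lit 8192) (Steps.bwd (nat_lit 2) Steps.nil))))))))))) (nat_lit 190) (nat_lit 1),
  Rule.mk (nat_lit 0) (nat_lit 194) (Steps.bwd (nat_lit 17) (Steps.fwd (nat_lit 24576) (Steps.bwd (nat_lit 1) (Steps.fwd (nat_lit 24576) (Steps.bwd (nat_lit 1) (Steps.fwd (nat_lit 16384) (Steps.fwd (nat_lit 8192) (Steps.bwd (nat_lit 3) (Steps.fwd (nat_lit 8192) (Steps.bwd (nat_lit 4) (Steps.fwd (nat_lit 24576) (Steps.bwd (nat_lit 1) Steps.nil)))))))))))) (nat_lit 193) (nat_lit 11),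
  Rule.mk (nat_lit 0) (nat_lit 194) (Steps.bwd (nat_lit 15) (Steps.fwd (nat_lit 16384) (Steps.bwd (nat_lit 1) (Steps.fwd (nat_lit 32768) (Steps.fwd (nat_lit 16384) (Steps.fwd (nat_lit 8192) (Steps.fwd (nat_lit 24576) (Steps.fwd (nat_lit 8192) (Steps.bwd (nat_lit 2) (Steps.fwd (nat_lit 8192) (Steps.fwd (nat_lit 24576) (Steps.fwd (nat_lit 8192) Steps.nil)))))))))))) (nat_lit 191) (nat_lit 11),
  Rule.mk (nat_lit 0) (nat_lit 194) (Steps.bwd (nat_lit 15) (Steps.bwd (nat_lit 3) (Steps.bwd (nat_lit 1) (Steps.fwd (nat_lit 32768) (Steps.fwd (nat_lit 16384) (Steps.fwd (nat_lit 8192) (Steps.bwd (nat_lit 2) (Steps.fwd (nat_lit 8192) (Steps.fwd (nat_lit 24576) (Steps.fwd (nat_lit 8192) (Steps.bwd (nat_lit 2) (Steps.fwd (nat_lit 8192) Steps.nil)))))))))))) (nat_lit 191) (nat_lit 11),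
  Rule.mk (nat_lit 15) (nat_lit 179) (Steps.bwd (nat_lit 3) (Steps.bwd (nat_lit 1) (Steps.bwd (nat_lit 4) (Steps.bwd (nat_lit 3) (Steps.bwd (nat_lit 1) (Steps.bwd (nat_lit 2) (Steps.fwd (nat_lit 8192) (Steps.fwd (nat_lit 24576) (Steps.bwd (nat_lit 1) (Steps.bwd (nat_lit 2) (Steps.fwd (nat_lit 8192) Steps.nil))))))))))) (nat_lit 191) (nat_lit 0),
  Rule.mk (nat_lit 18) (nat_lit 179) (Steps.fwd (nat_lit 8192) (Steps.bwd (nat_lit 3) (Steps.bwd (nat_lit 4) (Steps.bwd (nat_lit 1) (Steps.bwd (nat_lit 2) (Steps.bwd (nat_lit 1) (Steps.bwd (nat_lit 2) (Steps.bwd (nat_lit 1) (Steps.fwd (nat_lit 16384) (Steps.bwd (nat_lit 1) (Steps.bwd (nat_lit 3) Steps.nil))))))))))) (nat_lit 192) (nat_lit 1),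
  Rule.mk (nat_lit 18) (nat_lit 179) (Steps.bwd (nat_lit 1) (Steps.fwd (nat_lit 16384) (Steps.bwd (nat_lit 4) (Steps.fwd (nat_lit 8192) (Steps.bwd (nat_lit 2) (Steps.fwd (nat_lit 8192) (Steps.fwd (nat_lit 24576) (Steps.bwd (nat_lit 1) (Steps.bwd (nat_lit 3) (Steps.bwd (nat_lit 1) (Steps.fwd (nat_lit 16384) Steps.nil))))))))))) (nat_lit 192) (nat_lit 1),
  Rule.mk (nat_lit 18) (nat_lit 179) (Steps.bwd (nat_lit 1) (Steps.bwd (nat_lit 3) (Steps.fwd (nat_lit 32768) (Steps.fwd (nat_lit 8192) (Steps.bwd (nat_lit 2) (Steps.bwd (nat_lit 1) (Steps.fwd (nat_lit 24576) (Steps.fwd (nat_lit 8192) (Steps.bwd (nat_lit 3) (Steps.fwd (nat_lit 8192) (Steps.bwd (nat_lit 3) Steps.nil))))))))))) (nat_lit 192) (nat_lit 1),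
  Rule.mk (nat_lit 0) (nat_lit 194) (Steps.bwd (nat_lit 1) (Steps.fwd (nat_lit 16384) (Steps.fwd (nat_lit 32768) (Steps.fwd (nat_lit 8192) (Steps.fwd (nat_lit 24576) (Steps.fwd (nat_lit 8192) (Steps.bwd (nat_lit 2) (Steps.fwd (nat_lit 8192) (Steps.fwd (nat_lit 16384) (Steps.fwd (nat_lit 8192) (Steps.fwd (nat_lit 16384) (Steps.fwd (nat_lit 139264) Steps.nil)))))))))))) (nat_lit 192) (nat_lit 1),
  Rule.mk (nat_lit 17) (nat_lit 179) (Steps.bwd (nat_lit 2) (Steps.fwd (nat_lit 8192) (Steps.fwd (nat_lit 24576) (Steps.bwd (nat_lit 1) (Steps.bwd (nat_lit 3) (Steps.bwd (nat_lit 1) (Steps.fwd (nat_lit 16384) (Steps.fwd (nat_lit 8192) (Steps.fwd (nat_lit 32768) (Steps.fwd (nat_lit 24576) (Steps.fwd (nat_lit 8192) Steps.nil))))))))))) (nat_lit 193) (nat_lit 0),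
  Rule.mk (nat_lit 0) (nat_lit 194) (Steps.bwd (nat_lit 20) (Steps.bwd (nat_lit 1) (Steps.bwd (nat_lit 2) (Steps.bwd (nat_lit 1) (Steps.bwd (nat_lit 2) (Steps.bwd (nat_lit 1) (Steps.fwd (nat_lit 16384) (Steps.bwd (nat_lit 1) (Steps.bwd (nat_lit 3) (Steps.bwd (nat_lit 1) (Steps.bwd (nat_lit 4) (Steps.bwd (nat_lit 2) Steps.nil)))))))))))) (nat_lit 194) (nat_lit 0),
  Rule.mk (nat_lit 0) (nat_lit 194) (Steps.bwd (nat_lit 20) (Steps.fwd (nat_lit 8192) (Steps.bwd (nat_lit 2) (Steps.fwd (nat_lit 8192) (Steps.fwd (nat_lit 24576) (Steps.bwd (nat_lit 1) (Steps.bwd (nat_lit 3) (Steps.bwd (nat_lit 1) (Steps.fwd (nat_lit 16384) (Steps.fwd (nat_lit 8192) (Steps.fwd (nat_lit 32768) (Steps.fwd (nat_lit 24576) Steps.nil)))))))))))) (nat_lit 194) (nat_lit 0),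
  Rule.mk (nat_lit 19) (nat_lit 179) (Steps.bwd (nat_lit 3) (Steps.bwd (nat_lit 4) (Steps.bwd (nat_lit 1) (Steps.bwd (nat_lit 2) (Steps.bwd (nat_lit 1) (Steps.bwd (nat_lit 2) (Steps.bwd (nat_lit 1) (Steps.fwd (nat_lit 16384) (Steps.bwd (nat_lit 1) (Steps.bwd (nat_lit 3) (Steps.bwd (nat_lit 1) Steps.nil))))))))))) (nat_lit 195) (nat_lit 0),
  Rule.mk (nat_lit 19) (nat_lit 179) (Steps.fwd (nat_lit 16384) (Steps.bwd (nat_lit 4) (Steps.fwd (nat_lit 8192) (Steps.bwd (nat_lit 2) (Steps.fwd (nat_lit 8192) (Steps.fwd (nat_lit 24576) (Steps.bwd (nat_lit 1) (Steps.bwd (nat_lit 3) (Steps.bwd (nat_lit 1) (Steps.fwd (nat_lit 16384) (Steps.fwd (nat_lit 8192) Steps.nil))))))))))) (nat_lit 195) (nat_lit 0),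
  Rule.mk (nat_lit 19) (nat_lit 179) (Steps.bwd (nat_lit 3) (Steps.fwd (nat_lit 32768) (Steps.fwd (nat_lit 8192) (Steps.bwd (nat_lit 2) (Steps.bwd (nat_lit 1) (Steps.fwd (nat_lit 24576) (Steps.fwd (nat_lit 8192) (Steps.bwd (nat_lit 3) (Steps.fwd (nat_lit 8192) (Steps.bwd (nat_lit 3) (Steps.bwd (nat_lit 1) Steps.nil))))))))))) (nat_lit 195) (nat_lit 0),
  Rule.mk (nat_lit 1) (nat_lit 104) (Steps.bwd (nat_lit 11) (Steps.bwd (nat_lit 1) (Steps.bwd (nat_lit 14) (Steps.fwd (nat_lit 98304) (Steps.fwd (nat_lit 90112) (Steps.fwd (nat_lit 49152) Steps.nil)))))) (nat_lit 161) (nat_lit 5),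
  Rule.mk (nat_lit 2) (nat_lit 164) (Steps.bwd (nat_lit 11) (Steps.bwd (nat_lit 3) (Steps.bwd (nat_lit 14) (Steps.bwd (nat_lit 12) (Steps.fwd (nat_lit 90112) (Steps.bwd (nat_lit 10) (Steps.fwd (nat_lit 73728) (Steps.bwd (nat_lit 8) (Steps.bwd (nat_lit 5) (Steps.fwd (nat_lit 32768) Steps.nil)))))))))) (nat_lit 183) (nat_lit 9),
  Rule.mk (nat_lit 16) (nat_lit 179) (Steps.bwd (nat_lit 1) (Steps.fwd (nat_lit 16384) (Steps.bwd (nat_lit 1) (Steps.bwd (nat_lit 3) (Steps.bwd (nat_lit 1) (Steps.bwd (nat_lit 3) (Steps.bwd (nat_lit 1) (Steps.bwd (nat_lit 2) (Steps.bwd (nat_lit 4) (Steps.fwd (nat_lit 8192) (Steps.bwd (nat_lit 2) Steps.nil))))))))))) (nat_lit 190) (nat_lit 1),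
  Rule.mk (nat_lit 15) (nat_lit 179) (Steps.fwd (nat_lit 16384) (Steps.bwd (nat_lit 1) (Steps.fwd (nat_lit 32768) (Steps.fwd (nat_lit 16384) (Steps.fwd (nat_lit 8192) (Steps.fwd (nat_lit 24576) (Steps.fwd (nat_lit 8192) (Steps.fwd (nat_lit 24576) (Steps.fwd (nat_lit 8192) (Steps.bwd (nat_lit 2) (Steps.fwd (nat_lit 8192) Steps.nil))))))))))) (nat_lit 191) (nat_lit 0),
  Rule.mk (nat_lit 15) (nat_lit 179) (Steps.fwd (nat_lit 16384) (Steps.bwd (nat_lit 1) (Steps.fwd (nat_lit 32768) (Steps.bwd (nat_lit 3) (Steps.fwd (nat_lit 8192) (Steps.fwd (nat_lit 24576) (Steps.fwd (nat_lit 8192) (Steps.bwd (nat_lit 2) (Steps.fwd (nat_lit 8192) (Steps.bwd (nat_lit 2) (Steps.fwd (nat_lit 8192) Steps.nil))))))))))) (nat_lit 191) (nat_lit 0)]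
noncomputable def R_103 : List (Rule) := [Rule.mk (nat_lit 0) (nat_lit 194) (Steps.bwd (nat_lit 16) (Steps.fwd (nat_lit 8192) (Steps.bwd (nat_lit 3) (Steps.bwd (nat_lit 1) (Steps.fwd (nat_lit 16384) (Steps.bwd (nat_lit 1) (Steps.fwd (nat_lit 16384) (Steps.bwd (nat_lit 1) (Steps.fwd (nat_lit 24576) (Steps.bwd (nat_lit 4) (Steps.fwd (nat_lit 8192) (Steps.bwd (nat_lit 2) Steps.nil)))))))))))) (nat_lit 190) (nat_lit 0),
  Rule.mk (nat_lit 18) (nat_lit 179) (Steps.bwd (nat_lit 1) (Steps.fwd (nat_lit 16384) (Steps.fwd (nat_lit 32768) (Steps.fwd (nat_lit 8192) (Steps.fwd (nat_lit 24576) (Steps.fwd (nat_lit 8192) (Steps.bwd (nat_lit 2) (Steps.fwd (nat_lit 8192) (Steps.bwd (nat_lit 3) (Steps.fwd (nat_lit 8192) (Steps.bwd (nat_lit 3) Steps.nil))))))))))) (nat_lit 192) (nat_lit 1),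
  Rule.mk (nat_lit 0) (nat_lit 194) (Steps.bwd (nat_lit 18) (Steps.bwd (nat_lit 1) (Steps.fwd (nat_lit 16384) (Steps.bwd (nat_lit 4) (Steps.fwd (nat_lit 8192) (Steps.bwd (nat_lit 2) (Steps.fwd (nat_lit 8192) (Steps.bwd (nat_lit 2) (Steps.fwd (nat_lit 8192) (Steps.bwd (nat_lit 3) (Steps.fwd (nat_lit 8192) (Steps.fwd (nat_lit 16384) Steps.nil)))))))))))) (nat_lit 192) (nat_lit 0),
  Rule.mk (nat_lit 17) (nat_lit 179) (Steps.fwd (nat_lit 24576) (Steps.fwd (nat_lit 8192) (Steps.bwd (nat_lit 2) (Steps.fwd (nat_lit 8192) (Steps.bwd (nat_lit 3) (Steps.fwd (nat_lit 8192) (Steps.bwd (nat_lit 3) (Steps.fwd (nat_lit 8192) (Steps.bwd (nat_lit 4) (Steps.bwd (nat_lit 2) (Steps.bwd (nat_lit 1) Steps.nil))))))))))) (nat_lit 193) (nat_lit 0),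
  Rule.mk (nat_lit 0) (nat_lit 194) (Steps.bwd (nat_lit 18) (Steps.bwd (nat_lit 1) (Steps.fwd (nat_lit 16384) (Steps.bwd (nat_lit 4) (Steps.fwd (nat_lit 8192) (Steps.bwd (nat_lit 2) (Steps.bwd (nat_lit 1) (Steps.fwd (nat_lit 24576) (Steps.bwd (nat_lit 1) (Steps.fwd (nat_lit 16384) (Steps.bwd (nat_lit 1) (Steps.fwd (nat_lit 16384) Steps.nil)))))))))))) (nat_lit 192) (nat_lit 0),
  Rule.mk (nat_lit 20) (nat_lit 179) (Steps.fwd (nat_lit 8192) (Steps.fwd (nat_lit 24576) (Steps.fwd (nat_lit 8192) (Steps.bwd (nat_lit 2) (Steps.fwd (nat_lit 8192) (Steps.bwd (nat_lit 3) (Steps.fwd (nat_lit 8192) (Steps.bwd (nat_lit 3) (Steps.fwd (nat_lit 8192) (Steps.bwd (nat_lit 4) (Steps.bwd (nat_lit 2) Steps.nil))))))))))) (nat_lit 194) (nat_lit 1),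
  Rule.mk (nat_lit 20) (nat_lit 179) (Steps.fwd (nat_lit 8192) (Steps.bwd (nat_lit 2) (Steps.fwd (nat_lit 8192) (Steps.bwd (nat_lit 2) (Steps.fwd (nat_lit 8192) (Steps.bwd (nat_lit 3) (Steps.fwd (nat_lit 8192) (Steps.fwd (nat_lit 16384) (Steps.bwd (nat_lit 1) (Steps.fwd (nat_lit 32768) (Steps.bwd (nat_lit 2) Steps.nil))))))))))) (nat_lit 194) (nat_lit 1),
  Rule.mk (nat_lit 0) (nat_lit 194) (Steps.bwd (nat_lit 19) (Steps.fwd (nat_lit 16384) (Steps.fwd (nat_lit 32768) (Steps.fwd (nat_lit 8192) (Steps.fwd (nat_lit 24576) (Steps.fwd (nat_lit 8192) (Steps.bwd (nat_lit 2) (Steps.fwd (nat_lit 8192) (Steps.bwd (nat_lit 3) (Steps.fwd (nat_lit 8192) (Steps.bwd (nat_lit 3) (Steps.fwd (nat_lit 8192) Steps.nil)))))))))))) (nat_lit 195) (nat_lit 11),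
  Rule.mk (nat_lit 0) (nat_lit 194) (Steps.bwd (nat_lit 19) (Steps.fwd (nat_lit 16384) (Steps.bwd (nat_lit 4) (Steps.fwd (nat_lit 8192) (Steps.bwd (nat_lit 2) (Steps.fwd (nat_lit 8192) (Steps.bwd (nat_lit 2) (Steps.fwd (nat_lit 8192) (Steps.bwd (nat_lit 3) (Steps.fwd (nat_lit 8192) (Steps.fwd (nat_lit 16384) (Steps.bwd (nat_lit 1) Steps.nil)))))))))))) (nat_lit 195) (nat_lit 11),
  Rule.mk (nat_lit 0) (nat_lit 194) (Steps.bwd (nat_lit 15) (Steps.bwd (nat_lit 3) (Steps.fwd (nat_lit 8192) (Steps.bwd (nat_lit 4) (Steps.fwd (nat_lit 16384) (Steps.bwd (nat_lit 1) (Steps.fwd (nat_lit 24576) (Steps.bwd (nat_lit 1) (Steps.fwd (nat_lit 24576) (Steps.bwd (nat_lit 1) (Steps.bwd (nat_lit 2) (Steps.bwd (nat_lit 1) Steps.nil)))))))))))) (nat_lit 191) (nat_lit 11),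
  Rule.mk (nat_lit 15) (nat_lit 179) (Steps.fwd (nat_lit 16384) (Steps.bwd (nat_lit 1) (Steps.bwd (nat_lit 4) (Steps.fwd (nat_lit 16384) (Steps.bwd (nat_lit 1) (Steps.fwd (nat_lit 24576) (Steps.bwd (nat_lit 1) (Steps.bwd (nat_lit 2) (Steps.bwd (nat_lit 1) (Steps.bwd (nat_lit 2) (Steps.bwd (nat_lit 1) Steps.nil))))))))))) (nat_lit 191) (nat_lit 0),
  Rule.mk (nat_lit 0) (nat_lit 194) (Steps.bwd (nat_lit 18) (Steps.bwd (nat_lit 1) (Steps.fwd (nat_lit 16384) (Steps.bwd (nat_lit 4) (Steps.bwd (nat_lit 1) (Steps.fwd (nat_lit 24576) (Steps.bwd (nat_lit 1) (Steps.bwd (nat_lit 2) (Steps.bwd (nat_lit 1) (Steps.fwd (nat_lit 16384) (Steps.fwd (nat_lit 8192) (Steps.bwd (nat_lit 3) Steps.nil)))))))))))) (nat_lit 192) (nat_lit 0),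
  Rule.mk (nat_lit 18) (nat_lit 179) (Steps.fwd (nat_lit 8192) (Steps.fwd (nat_lit 16384) (Steps.fwd (nat_lit 32768) (Steps.bwd (nat_lit 1) (Steps.bwd (nat_lit 2) (Steps.bwd (nat_lit 1) (Steps.bwd (nat_lit 2) (Steps.bwd (nat_lit 1) (Steps.fwd (nat_lit 16384) (Steps.bwd (nat_lit 1) (Steps.fwd (nat_lit 16384) Steps.nil))))))))))) (nat_lit 192) (nat_lit 1),
  Rule.mk (nat_lit 17) (nat_lit 179) (Steps.bwd (nat_lit 2) (Steps.bwd (nat_lit 1) (Steps.bwd (nat_lit 2) (Steps.bwd (nat_lit 1) (Steps.fwd (nat_lit 16384) (Steps.bwd (nat_lit 1) (Steps.fwd (nat_lit 16384) (Steps.fwd (nat_lit 8192) (Steps.bwd (nat_lit 4) (Steps.fwd (nat_lit 24576) (Steps.bwd (nat_lit 1) Steps.nil))))))))))) (nat_lit 193) (nat_lit 0),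
  Rule.mk (nat_lit 20) (nat_lit 179) (Steps.bwd (nat_lit 1) (Steps.bwd (nat_lit 2) (Steps.bwd (nat_lit 1) (Steps.bwd (nat_lit 2) (Steps.bwd (nat_lit 1) (Steps.fwd (nat_lit 16384) (Steps.bwd (nat_lit 1) (Steps.fwd (nat_lit 16384) (Steps.fwd (nat_lit 8192) (Steps.bwd (nat_lit 4) (Steps.fwd (nat_lit 24576) Steps.nil))))))))))) (nat_lit 194) (nat_lit 1),
  Rule.mk (nat_lit 0) (nat_lit 194) (Steps.bwd (nat_lit 20) (Steps.fwd (nat_lit 8192) (Steps.fwd (nat_lit 24576) (Steps.bwd (nat_lit 1) (Steps.bwd (nat_lit 2) (Steps.fwd (nat_lit 8192) (Steps.fwd (nat_lit 16384) (Steps.fwd (nat_lit 8192) (Steps.bwd (nat_lit 3) (Steps.fwd (nat_lit 8192) (Steps.fwd (nat_lit 32768) (Steps.bwd (nat_lit 2) Steps.nil)))))))))))) (nat_lit 194) (nat_lit 0),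
  Rule.mk (nat_lit 0) (nat_lit 194) (Steps.bwd (nat_lit 19) (Steps.fwd (nat_lit 16384) (Steps.fwd (nat_lit 32768) (Steps.bwd (nat_lit 1) (Steps.bwd (nat_lit 2) (Steps.bwd (nat_lit 1) (Steps.bwd (nat_lit 2) (Steps.bwd (nat_lit 1) (Steps.fwd (nat_lit 16384) (Steps.bwd (nat_lit 1) (Steps.fwd (nat_lit 16384) (Steps.fwd (nat_lit 8192) Steps.nil)))))))))))) (nat_lit 195) (nat_lit 11),
  Rule.mk (nat_lit 10) (nat_lit 134) (Steps.bwd (nat_lit 1) (Steps.bwd (nat_lit 4) (Steps.fwd (nat_lit 40960) (Steps.bwd (nat_lit 8) (Steps.fwd (nat_lit 73728) (Steps.fwd (nat_lit 90112) (Steps.bwd (nat_lit 14) (Steps.bwd (nat_lit 1) Steps.nil)))))))) (nat_lit 158) (nat_lit 2),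
  Rule.mk (nat_lit 3) (nat_lit 179) (Steps.bwd (nat_lit 1) (Steps.bwd (nat_lit 4) (Steps.bwd (nat_lit 3) (Steps.fwd (nat_lit 8192) (Steps.bwd (nat_lit 2) (Steps.bwd (nat_lit 1) (Steps.fwd (nat_lit 24576) (Steps.fwd (nat_lit 8192) (Steps.bwd (nat_lit 2) (Steps.bwd (nat_lit 1) (Steps.fwd (nat_lit 131072) Steps.nil))))))))))) (nat_lit 191) (nat_lit 1),
  Rule.mk (nat_lit 18) (nat_lit 179) (Steps.bwd (nat_lit 1) (Steps.fwd (nat_lit 16384) (Steps.fwd (nat_lit 32768) (Steps.fwd (nat_lit 8192) (Steps.bwd (nat_lit 2) (Steps.bwd (nat_lit 1) (Steps.fwd (nat_lit 24576) (Steps.fwd (nat_lit 8192) (Steps.bwd (nat_lit 3) (Steps.fwd (nat_lit 8192) (Steps.fwd (nat_lit 16384) Steps.nil))))))))))) (nat_lit 192) (nat_lit 1),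
  Rule.mk (nat_lit 0) (nat_lit 74) (Steps.bwd (nat_lit 4) (Steps.fwd (nat_lit 16384) (Steps.bwd (nat_lit 4) (Steps.fwd (nat_lit 24576) Steps.nil)))) (nat_lit 168) (nat_lit 1),
  Rule.mk (nat_lit 0) (nat_lit 194) (Steps.bwd (nat_lit 16) (Steps.bwd (nat_lit 1) (Steps.fwd (nat_lit 16384) (Steps.bwd (nat_lit 1) (Steps.fwd (nat_lit 16384) (Steps.bwd (nat_lit 1) (Steps.bwd (nat_lit 3) (Steps.bwd (nat_lit 1) (Steps.fwd (nat_lit 24576) (Steps.bwd (nat_lit 4) (Steps.fwd (nat_lit 8192) (Steps.fwd (nat_lit 24576) Steps.nil)))))))))))) (nat_lit 190) (nat_lit 0),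
  Rule.mk (nat_lit 0) (nat_lit 194) (Steps.bwd (nat_lit 18) (Steps.fwd (nat_lit 8192) (Steps.fwd (nat_lit 16384) (Steps.bwd (nat_lit 4) (Steps.fwd (nat_lit 8192) (Steps.fwd (nat_lit 24576) (Steps.fwd (nat_lit 8192) (Steps.fwd (nat_lit 24576) (Steps.bwd (nat_lit 1) (Steps.bwd (nat_lit 3) (Steps.bwd (nat_lit 1) (Steps.fwd (nat_lit 16384) Steps.nil)))))))))))) (nat_lit 192) (nat_lit 0),
  Rule.mk (nat_lit 0) (nat_lit 194) (Steps.bwd (nat_lit 18) (Steps.bwd (nat_lit 1) (Steps.bwd (nat_lit 3) (Steps.fwd (nat_lit 32768) (Steps.bwd (nat_lit 1) (Steps.bwd (nat_lit 2) (Steps.bwd (nat_lit 1) (Steps.bwd (nat_lit 2) (Steps.bwd (nat_lit 1) (Steps.bwd (nat_lit 3) (Steps.fwd (nat_lit 8192) (Steps.fwd (nat_lit 16384) Steps.nil)))))))))))) (nat_lit 192) (nat_lit 0),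
  Rule.mk (nat_lit 17) (nat_lit 179) (Steps.fwd (nat_lit 24576) (Steps.fwd (nat_lit 8192) (Steps.bwd (nat_lit 2) (Steps.bwd (nat_lit 1) (Steps.fwd (nat_lit 16384) (Steps.bwd (nat_lit 1) (Steps.bwd (nat_lit 3) (Steps.bwd (nat_lit 1) (Steps.bwd (nat_lit 4) (Steps.fwd (nat_lit 24576) (Steps.fwd (nat_lit 8192) Steps.nil))))))))))) (nat_lit 193) (nat_lit 0),
  Rule.mk (nat_lit 0) (nat_lit 194) (Steps.bwd (nat_lit 20) (Steps.bwd (nat_lit 1) (Steps.fwd (nat_lit 24576) (Steps.fwd (nat_lit 8192) (Steps.bwd (nat_lit 2) (Steps.bwd (nat_lit 1) (Steps.fwd (nat_lit 16384) (Steps.bwd (nat_lit 1) (Steps.bwd (nat_lit 3) (Steps.bwd (nat_lit 1) (Steps.bwd (nat_lit 4) (Steps.fwd (nat_lit 24576) Steps.nil)))))))))))) (nat_lit 194) (nat_lit 0),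
  Rule.mk (nat_lit 19) (nat_lit 179) (Steps.fwd (nat_lit 16384) (Steps.fwd (nat_lit 32768) (Steps.bwd (nat_lit 1) (Steps.fwd (nat_lit 24576) (Steps.fwd (nat_lit 8192) (Steps.bwd (nat_lit 2) (Steps.bwd (nat_lit 1) (Steps.fwd (nat_lit 16384) (Steps.bwd (nat_lit 1) (Steps.bwd (nat_lit 3) (Steps.bwd (nat_lit 1) Steps.nil))))))))))) (nat_lit 195) (nat_lit 0),
  Rule.mk (nat_lit 1) (nat_lit 179) (Steps.bwd (nat_lit 19) (Steps.fwd (nat_lit 16384) (Steps.bwd (nat_lit 4) (Steps.fwd (nat_lit 8192) (Steps.fwd (nat_lit 24576) (Steps.fwd (nat_lit 8192) (Steps.fwd (nat_lit 24576) (Steps.bwd (nat_lit 1) (Steps.bwd (nat_lit 3) (Steps.bwd (nat_lit 1) (Steps.fwd (nat_lit 16384) Steps.nil))))))))))) (nat_lit 195) (nat_lit 11),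
  Rule.mk (nat_lit 0) (nat_lit 194) (Steps.bwd (nat_lit 20) (Steps.bwd (nat_lit 1) (Steps.bwd (nat_lit 2) (Steps.bwd (nat_lit 1) (Steps.fwd (nat_lit 24576) (Steps.fwd (nat_lit 8192) (Steps.fwd (nat_lit 16384) (Steps.fwd (nat_lit 8192) (Steps.fwd (nat_lit 16384) (Steps.fwd (nat_lit 8192) (Steps.bwd (nat_lit 4) (Steps.fwd (nat_lit 24576) Steps.nil)))))))))))) (nat_lit 194) (nat_lit 0),
  Rule.mk (nat_lit 3) (nat_lit 539) (Steps.fwd (nat_lit 8192) (Steps.bwd (nat_lit 2) (Steps.fwd (nat_lit 8192) (Steps.fwd (nat_lit 24576) (Steps.fwd (nat_lit 8192) (Steps.bwd (nat_lit 3) (Steps.bwd (nat_lit 1) (Steps.bwd (nat_lit 2) (Steps.fwd (nat_lit 8192) (Steps.bwd (nat_lit 2) (Steps.bwd (nat_lit 1) (Steps.fwd (nat_lit 16384) (Steps.bwd (nat_lit 1) (Steps.fwd (nat_lit 24576) (Steps.fwd (nat_lit 8192) (Steps.bwd (nat_lit 3) (Steps.fwd (nat_lit 8192) (Steps.bwd (nat_lit 3) (Steps.fwd (nat_lit 8192) (Steps.fwd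 (nat_lit 24576) (Steps.bwd (nat_lit 1) (Steps.fwd (nat_lit 16384) (Steps.fwd (nat_lit 8192) (Steps.fwd (nat_lit 16384) (Steps.fwd (nat_lit 8192) (Steps.bwd (nat_lit 2) (Steps.bwd (nat_lit 1) (Steps.fwd (nat_lit 16384) (Steps.bwd (nat_lit 1) (Steps.bwd (nat_lit 3) (Steps.bwd (nat_lit 1) (Steps.fwd (nat_lit 24576) (Steps.fwd (nat_lit 8192) (Steps.fwd (nat_lit 24576) (Steps.bwd (nat_lit 1) Steps.nil))))))))))))))))))))))))))))))))))) (nat_lit 12) (nat_lit 6),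
  Rule.mk (nat_lit 0) (nat_lit 194) (Steps.bwd (nat_lit 16) (Steps.bwd (nat_lit 1) (Steps.bwd (nat_lit 3) (Steps.bwd (nat_lit 1) (Steps.fwd (nat_lit 16384) (Steps.bwd (nat_lit 1) (Steps.bwd (nat_lit 3) (Steps.fwd (nat_lit 8192) (Steps.bwd (nat_lit 2) (Steps.bwd (nat_lit 4) (Steps.fwd (nat_lit 8192) (Steps.bwd (nat_lit 2) Steps.nil)))))))))))) (nat_lit 190) (nat_lit 0),
  Rule.mk (nat_lit 0) (nat_lit 194) (Steps.bwd (nat_lit 1) (Steps.fwd (nat_lit 16384) (Steps.bwd (nat_lit 1) (Steps.bwd (nat_lit 3) (Steps.fwd (nat_lit 8192) (Steps.bwd (nat_lit 3) (Steps.fwd (nat_lit 8192) (Steps.fwd (nat_lit 24576) (Steps.fwd (nat_lit 32768) (Steps.fwd (nat_lit 8192) (Steps.bwd (nat_lit 2) (Steps.fwd (nat_lit 122880) Steps.nil)))))))))))) (nat_lit 190) (nat_lit 1),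
  Rule.mk (nat_lit 16) (nat_lit 179) (Steps.bwd (nat_lit 1) (Steps.bwd (nat_lit 3) (Steps.fwd (nat_lit 8192) (Steps.bwd (nat_lit 3) (Steps.fwd (nat_lit 8192) (Steps.bwd (nat_lit 3) (Steps.bwd (nat_lit 1) (Steps.fwd (nat_lit 24576) (Steps.fwd (nat_lit 32768) (Steps.fwd (nat_lit 8192) (Steps.bwd (nat_lit 2) Steps.nil))))))))))) (nat_lit 190) (nat_lit 1),
  Rule.mk (nat_lit 18) (nat_lit 179) (Steps.bwd (nat_lit 1) (Steps.fwd (nat_lit 16384) (Steps.bwd (nat_lit 4) (Steps.fwd (nat_lit 8192) (Steps.fwd (nat_lit 24576) (Steps.fwd (nat_lit 8192) (Steps.fwd (nat_lit 24576) (Steps.bwd (nat_lit 1) (Steps.bwd (nat_lit 3) (Steps.fwd (nat_lit 8192) (Steps.bwd (nat_lit 3) Steps.nil))))))))))) (nat_lit 192) (nat_lit 1),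
  Rule.mk (nat_lit 17) (nat_lit 179) (Steps.fwd (nat_lit 24576) (Steps.fwd (nat_lit 8192) (Steps.fwd (nat_lit 24576) (Steps.bwd (nat_lit 1) (Steps.bwd (nat_lit 3) (Steps.fwd (nat_lit 8192) (Steps.bwd (nat_lit 3) (Steps.fwd (nat_lit 8192) (Steps.bwd (nat_lit 4) (Steps.bwd (nat_lit 2) (Steps.fwd (nat_lit 8192) Steps.nil))))))))))) (nat_lit 193) (nat_lit 0),
  Rule.mk (nat_lit 20) (nat_lit 179) (Steps.fwd (nat_lit 8192) (Steps.fwd (nat_lit 24576) (Steps.fwd (nat_lit 8192) (Steps.fwd (nat_lit 24576) (Steps.bwd (nat_lit 1) (Steps.bwd (nat_lit 3) (Steps.fwd (nat_lit 8192) (Steps.bwd (nat_lit 3) (Steps.fwd (nat_lit 8192) (Steps.bwd (nat_lit 4) (Steps.bwd (nat_lit 2) Steps.nil))))))))))) (nat_lit 194) (nat_lit 1),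
  Rule.mk (nat_lit 19) (nat_lit 179) (Steps.fwd (nat_lit 16384) (Steps.bwd (nat_lit 4) (Steps.fwd (nat_lit 8192) (Steps.fwd (nat_lit 24576) (Steps.fwd (nat_lit 8192) (Steps.fwd (nat_lit 24576) (Steps.bwd (nat_lit 1) (Steps.bwd (nat_lit 3) (Steps.fwd (nat_lit 8192) (Steps.bwd (nat_lit 3) (Steps.fwd (nat_lit 8192) Steps.nil))))))))))) (nat_lit 195) (nat_lit 0),
  Rule.mk (nat_lit 6) (nat_lit 134) (Steps.bwd (nat_lit 10) (Steps.fwd (nat_lit 90112) (Steps.bwd (nat_lit 12) (Steps.fwd (nat_lit 106496) (Steps.fwd (nat_lit 114688) (Steps.bwd (nat_lit 1) (Steps.fwd (nat_lit 114688) (Steps.bwd (nat_lit 1) Steps.nil)))))))) (nat_lit 166) (nat_lit 4),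
  Rule.mk (nat_lit 0) (nat_lit 194) (Steps.bwd (nat_lit 16) (Steps.bwd (nat_lit 1) (Steps.fwd (nat_lit 16384) (Steps.bwd (nat_lit 1) (Steps.bwd (nat_lit 3) (Steps.fwd (nat_lit 8192) (Steps.fwd (nat_lit 16384) (Steps.bwd (nat_lit 1) (Steps.fwd (nat_lit 24576) (Steps.bwd (nat_lit 4) (Steps.fwd (nat_lit 8192) (Steps.bwd (nat_lit 2) Steps.nil)))))))))))) (nat_lit 190) (nat_lit 0),
  Rule.mk (nat_lit 17) (nat_lit 179) (Steps.fwd (nat_lit 24576) (Steps.fwd (nat_lit 8192) (Steps.fwd (nat_lit 24576) (Steps.bwd (nat_lit 1) (Steps.bwd (nat_lit 3) (Steps.fwd (nat_lit 8192) (Steps.fwd (nat_lit 16384) (Steps.bwd (nat_lit 1) (Steps.bwd (nat_lit 4) (Steps.bwd (nat_lit 2) (Steps.fwd (nat_lit 8192) Steps.nil))))))))))) (nat_lit 193) (nat_lit 0),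
  Rule.mk (nat_lit 0) (nat_lit 194) (Steps.fwd (nat_lit 16384) (Steps.fwd (nat_lit 32768) (Steps.fwd (nat_lit 8192) (Steps.bwd (nat_lit 2) (Steps.bwd (nat_lit 1) (Steps.fwd (nat_lit 24576) (Steps.fwd (nat_lit 8192) (Steps.bwd (nat_lit 3) (Steps.bwd (nat_lit 1) (Steps.bwd (nat_lit 3) (Steps.bwd (nat_lit 1) (Steps.fwd (nat_lit 163840) Steps.nil)))))))))))) (nat_lit 195) (nat_lit 0),
  Rule.mk (nat_lit 2) (nat_lit 164) (Steps.bwd (nat_lit 11) (Steps.fwd (nat_lit 16384) (Steps.fwd (nat_lit 32768) (Steps.bwd (nat_lit 5) (Steps.fwd (nat_lit 65536) (Steps.fwd (nat_lit 73728) (Steps.fwd (nat_lit 81920) (Steps.bwd (nat_lit 11) (Steps.bwd (nat_lit 12) (Steps.fwd (nat_lit 114688) Steps.nil)))))))))) (nat_lit 182) (nat_lit 1),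
  Rule.mk (nat_lit 0) (nat_lit 194) (Steps.bwd (nat_lit 16) (Steps.bwd (nat_lit 1) (Steps.fwd (nat_lit 16384) (Steps.bwd (nat_lit 1) (Steps.fwd (nat_lit 16384) (Steps.bwd (nat_lit 1) (Steps.bwd (nat_lit 3) (Steps.bwd (nat_lit 1) (Steps.bwd (nat_lit 2) (Steps.fwd (nat_lit 32768) (Steps.fwd (nat_lit 8192) (Steps.fwd (nat_lit 24576) Steps.nil)))))))))))) (nat_lit 190) (nat_lit 0),
  Rule.mk (nat_lit 15) (nat_lit 179) (Steps.fwd (nat_lit 16384) (Steps.fwd (nat_lit 8192) (Steps.bwd (nat_lit 4) (Steps.bwd (nat_lit 3) (Steps.bwd (nat_lit 1) (Steps.bwd (nat_lit 2) (Steps.fwd (nat_lit 8192) (Steps.bwd (nat_lit 2) (Steps.bwd (nat_lit 1) (Steps.bwd (nat_lit 2) (Steps.fwd (nat_lit 8192) Steps.nil))))))))))) (nat_lit 191) (nat_lit 0),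
  Rule.mk (nat_lit 15) (nat_lit 179) (Steps.bwd (nat_lit 3) (Steps.bwd (nat_lit 1) (Steps.bwd (nat_lit 4) (Steps.fwd (nat_lit 16384) (Steps.fwd (nat_lit 8192) (Steps.bwd (nat_lit 2) (Steps.bwd (nat_lit 1) (Steps.bwd (nat_lit 2) (Steps.fwd (nat_lit 8192) (Steps.bwd (nat_lit 2) (Steps.bwd (nat_lit 1) Steps.nil))))))))))) (nat_lit 191) (nat_lit 0),
  Rule.mk (nat_lit 18) (nat_lit 179) (Steps.bwd (nat_lit 1) (Steps.fwd (nat_lit 16384) (Steps.fwd (nat_lit 32768) (Steps.bwd (nat_lit 1) (Steps.bwd (nat_lit 2) (Steps.fwd (nat_lit 8192) (Steps.bwd (nat_lit 2) (Steps.bwd (nat_lit 1) (Steps.fwd (nat_lit 16384) (Steps.fwd (nat_lit 8192) (Steps.bwd (nat_lit 3) Steps.nil))))))))))) (nat_lit 192) (nat_lit 1),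
  Rule.mk (nat_lit 19) (nat_lit 179) (Steps.fwd (nat_lit 16384) (Steps.fwd (nat_lit 32768) (Steps.bwd (nat_lit 1) (Steps.bwd (nat_lit 2) (Steps.fwd (nat_lit 8192) (Steps.bwd (nat_lit 2) (Steps.bwd (nat_lit 1) (Steps.fwd (nat_lit 16384) (Steps.fwd (nat_lit 8192) (Steps.bwd (nat_lit 3) (Steps.fwd (nat_lit 8192) Steps.nil))))))))))) (nat_lit 195) (nat_lit 0),
  Rule.mk (nat_lit 14) (nat_lit 119) (Steps.bwd (nat_lit 3) (Steps.fwd (nat_lit 40960) (Steps.fwd (nat_lit 49152) (Steps.bwd (nat_lit 7) (Steps.bwd (nat_lit 12) (Steps.bwd (nat_lit 14) (Steps.bwd (nat_lit 2) Steps.nil))))))) (nat_lit 188) (nat_lit 2),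
  Rule.mk (nat_lit 5) (nat_lit 149) (Steps.fwd (nat_lit 16384) (Steps.fwd (nat_lit 32768) (Steps.fwd (nat_lit 40960) (Steps.bwd (nat_lit 8) (Steps.bwd (nat_lit 9) (Steps.fwd (nat_lit 98304) (Steps.bwd (nat_lit 13) (Steps.bwd (nat_lit 14) (Steps.bwd (nat_lit 2) Steps.nil))))))))) (nat_lit 170) (nat_lit 2),
  Rule.mk (nat_lit 6) (nat_lit 164) (Steps.fwd (nat_lit 16384) (Steps.fwd (nat_lit 40960) (Steps.fwd (nat_lit 49152) (Steps.bwd (nat_lit 9) (Steps.fwd (nat_lit 81920) (Steps.bwd (nat_lit 11) (Steps.fwd (nat_lit 98304) (Steps.bwd (nat_lit 13) (Steps.bwd (nat_lit 14) (Steps.bwd (nat_lit 2) Steps.nil)))))))))) (nat_lit 172) (nat_lit 2),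
  Rule.mk (nat_lit 16) (nat_lit 179) (Steps.fwd (nat_lit 8192) (Steps.bwd (nat_lit 3) (Steps.fwd (nat_lit 8192) (Steps.fwd (nat_lit 16384) (Steps.bwd (nat_lit 1) (Steps.fwd (nat_lit 16384) (Steps.bwd (nat_lit 1) (Steps.fwd (nat_lit 24576) (Steps.bwd (nat_lit 4) (Steps.bwd (nat_lit 1) (Steps.bwd (nat_lit 2) Steps.nil))))))))))) (nat_lit 190) (nat_lit 1),
  Rule.mk (nat_lit 0) (nat_lit 194) (Steps.bwd (nat_lit 16) (Steps.fwd (nat_lit 8192) (Steps.fwd (nat_lit 16384) (Steps.fwd (nat_lit 8192) (Steps.bwd (nat_lit 3) (Steps.fwd (nat_lit 8192) (Steps.fwd (nat_lit 16384) (Steps.bwd (nat_lit 1) (Steps.bwd (nat_lit 2) (Steps.bwd (nat_lit 4) (Steps.bwd (nat_lit 1) (Steps.bwd (nat_lit 2) Steps.nil)))))))))))) (nat_lit 190) (nat_lit 0),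
  Rule.mk (nat_lit 15) (nat_lit 179) (Steps.bwd (nat_lit 3) (Steps.fwd (nat_lit 8192) (Steps.bwd (nat_lit 4) (Steps.fwd (nat_lit 16384) (Steps.bwd (nat_lit 1) (Steps.bwd (nat_lit 2) (Steps.fwd (nat_lit 8192) (Steps.bwd (nat_lit 2) (Steps.fwd (nat_lit 8192) (Steps.fwd (nat_lit 24576) (Steps.fwd (nat_lit 8192) Steps.nil))))))))))) (nat_lit 191) (nat_lit 0),
  Rule.mk (nat_lit 18) (nat_lit 179) (Steps.fwd (nat_lit 8192) (Steps.bwd (nat_lit 3) (Steps.bwd (nat_lit 4) (Steps.bwd (nat_lit 1) (Steps.bwd (nat_lit 2) (Steps.fwd (nat_lit 8192) (Steps.bwd (nat_lit 2) (Steps.fwd (nat_lit 8192) (Steps.fwd (nat_lit 16384) (Steps.bwd (nat_lit 1) (Steps.fwd (nat_lit 16384) Steps.nil))))))))))) (nat_lit 192) (nat_lit 1),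
  Rule.mk (nat_lit 17) (nat_lit 179) (Steps.fwd (nat_lit 24576) (Steps.fwd (nat_lit 8192) (Steps.fwd (nat_lit 24576) (Steps.fwd (nat_lit 8192) (Steps.bwd (nat_lit 3) (Steps.bwd (nat_lit 1) (Steps.bwd (nat_lit 3) (Steps.bwd (nat_lit 1) (Steps.bwd (nat_lit 4) (Steps.bwd (nat_lit 2) (Steps.fwd (nat_lit 8192) Steps.nil))))))))))) (nat_lit 193) (nat_lit 0),
  Rule.mk (nat_lit 17) (nat_lit 179) (Steps.bwd (nat_lit 2) (Steps.bwd (nat_lit 1) (Steps.bwd (nat_lit 2) (Steps.fwd (nat_lit 8192) (Steps.bwd (nat_lit 3) (Steps.fwd (nat_lit 8192) (Steps.bwd (nat_lit 3) (Steps.fwd (nat_lit 8192) (Steps.fwd (nat_lit 32768) (Steps.bwd (nat_lit 2) (Steps.fwd (nat_lit 8192) Steps.nil))))))))))) (nat_lit 193) (nat_lit 0),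
  Rule.mk (nat_lit 20) (nat_lit 179) (Steps.fwd (nat_lit 8192) (Steps.fwd (nat_lit 24576) (Steps.fwd (nat_lit 8192) (Steps.fwd (nat_lit 24576) (Steps.fwd (nat_lit 8192) (Steps.bwd (nat_lit 3) (Steps.bwd (nat_lit 1) (Steps.bwd (nat_lit 3) (Steps.bwd (nat_lit 1) (Steps.bwd (nat_lit 4) (Steps.bwd (nat_lit 2) Steps.nil))))))))))) (nat_lit 194) (nat_lit 1),
  Rule.mk (nat_lit 20) (nat_lit 179) (Steps.bwd (nat_lit 1) (Steps.bwd (nat_lit 2) (Steps.fwd (nat_lit 8192) (Steps.bwd (nat_lit 2) (Steps.fwd (nat_lit 8192) (Steps.fwd (nat_lit 16384) (Steps.bwd (nat_lit 1) (Steps.fwd (nat_lit 16384) (Steps.fwd (nat_lit 8192) (Steps.fwd (nat_lit 32768) (Steps.fwd (nat_lit 24576) Steps.nil))))))))))) (nat_lit 194) (nat_lit 1),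
  Rule.mk (nat_lit 17) (nat_lit 179) (Steps.fwd (nat_lit 24576) (Steps.bwd (nat_lit 1) (Steps.fwd (nat_lit 24576) (Steps.fwd (nat_lit 8192) (Steps.fwd (nat_lit 16384) (Steps.bwd (nat_lit 1) (Steps.fwd (nat_lit 16384) (Steps.bwd (nat_lit 1) (Steps.bwd (nat_lit 4) (Steps.bwd (nat_lit 2) (Steps.bwd (nat_lit 1) Steps.nil))))))))))) (nat_lit 193) (nat_lit 0),
  Rule.mk (nat_lit 17) (nat_lit 179) (Steps.bwd (nat_lit 2) (Steps.bwd (nat_lit 1) (Steps.bwd (nat_lit 2) (Steps.fwd (nat_lit 8192) (Steps.bwd (nat_lit 3) (Steps.fwd (nat_lit 8192) (Steps.fwd (nat_lit 16384) (Steps.bwd (nat_lit 1) (Steps.fwd (nat_lit 32768) (Steps.fwd (nat_lit 24576) (Steps.bwd (nat_lit 1) Steps.nil))))))))))) (nat_lit 193) (nat_lit 0),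
  Rule.mk (nat_lit 3) (nat_lit 179) (Steps.bwd (nat_lit 18) (Steps.bwd (nat_lit 1) (Steps.fwd (nat_lit 16384) (Steps.fwd (nat_lit 32768) (Steps.bwd (nat_lit 1) (Steps.bwd (nat_lit 2) (Steps.bwd (nat_lit 1) (Steps.fwd (nat_lit 24576) (Steps.bwd (nat_lit 1) (Steps.fwd (nat_lit 16384) (Steps.fwd (nat_lit 8192) Steps.nil))))))))))) (nat_lit 192) (nat_lit 0),
  Rule.mk (nat_lit 14) (nat_lit 104) (Steps.fwd (nat_lit 106496) (Steps.bwd (nat_lit 7) (Steps.bwd (nat_lit 5) (Steps.bwd (nat_lit 2) (Steps.fwd (nat_lit 57344) (Steps.bwd (nat_lit 3) Steps.nil)))))) (nat_lit 175) (nat_lit 1),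
  Rule.mk (nat_lit 12) (nat_lit 104) (Steps.bwd (nat_lit 14) (Steps.bwd (nat_lit 1) (Steps.fwd (nat_lit 90112) (Steps.bwd (nat_lit 1) (Steps.fwd (nat_lit 49152) (Steps.bwd (nat_lit 11) Steps.nil)))))) (nat_lit 160) (nat_lit 6),
  Rule.mk (nat_lit 1) (nat_lit 179) (Steps.bwd (nat_lit 3) (Steps.fwd (nat_lit 32768) (Steps.fwd (nat_lit 8192) (Steps.fwd (nat_lit 24576) (Steps.fwd (nat_lit 8192) (Steps.fwd (nat_lit 24576) (Steps.fwd (nat_lit 8192) (Steps.bwd (nat_lit 3) (Steps.fwd (nat_lit 8192) (Steps.bwd (nat_lit 3) (Steps.fwd (nat_lit 139264) Steps.nil))))))))))) (nat_lit 192) (nat_lit 2)]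
noncomputable def R_104 : List (Rule) := [Rule.mk (nat_lit 19) (nat_lit 179) (Steps.bwd (nat_lit 3) (Steps.fwd (nat_lit 32768) (Steps.fwd (nat_lit 8192) (Steps.fwd (nat_lit 24576) (Steps.fwd (nat_lit 8192) (Steps.fwd (nat_lit 24576) (Steps.fwd (nat_lit 8192) (Steps.bwd (nat_lit 3) (Steps.fwd (nat_lit 8192) (Steps.bwd (nat_lit 3) (Steps.fwd (nat_lit 8192) Steps.nil))))))))))) (nat_lit 195) (nat_lit 0),
  Rule.mk (nat_lit 2) (nat_lit 539) (Steps.bwd (nat_lit 1) (Steps.bwd (nat_lit 3) (Steps.bwd (nat_lit 1) (Steps.fwd (nat_lit 16384) (Steps.fwd (nat_lit 8192) (Steps.bwd (nat_lit 2) (Steps.fwd (nat_lit 8192) (Steps.fwd (nat_lit 16384) (Steps.bwd (nat_lit 1) (Steps.bwd (nat_lit 3) (Steps.bwd (nat_lit 1) (Steps.fwd (nat_lit 24576) (Steps.fwd (nat_lit 8192) (Steps.bwd (nat_lit 3) (Steps.fwd (nat_lit 8192) (Steps.bwd (nat_lit 3) (Steps.fwd (nat_lit 8192) (Steps.fwd (nat_lit 24576) (Steps.bwd (nat_lit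 1) (Steps.fwd (nat_lit 24576) (Steps.fwd (nat_lit 8192) (Steps.fwd (nat_lit 16384) (Steps.fwd (nat_lit 8192) (Steps.bwd (nat_lit 2) (Steps.fwd (nat_lit 8192) (Steps.bwd (nat_lit 2) (Steps.fwd (nat_lit 8192) (Steps.fwd (nat_lit 16384) (Steps.fwd (nat_lit 8192) (Steps.bwd (nat_lit 2) (Steps.fwd (nat_lit 8192) (Steps.bwd (nat_lit 2) (Steps.fwd (nat_lit 8192) (Steps.fwd (nat_lit 16384) (Steps.bwd (nat_lit 1) Steps.nil))))))))))))))))))))))))))))))))))) (nat_lit 12) (nat_lit 20),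
  Rule.mk (nat_lit 10) (nat_lit 104) (Steps.bwd (nat_lit 3) (Steps.fwd (nat_lit 114688) (Steps.fwd (nat_lit 98304) (Steps.bwd (nat_lit 11) (Steps.fwd (nat_lit 49152) (Steps.bwd (nat_lit 2) Steps.nil)))))) (nat_lit 181) (nat_lit 6),
  Rule.mk (nat_lit 13) (nat_lit 134) (Steps.fwd (nat_lit 16384) (Steps.fwd (nat_lit 49152) (Steps.fwd (nat_lit 81920) (Steps.bwd (nat_lit 11) (Steps.fwd (nat_lit 98304) (Steps.bwd (nat_lit 13) (Steps.bwd (nat_lit 14) (Steps.bwd (nat_lit 2) Steps.nil)))))))) (nat_lit 186) (nat_lit 2),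
  Rule.mk (nat_lit 5) (nat_lit 149) (Steps.bwd (nat_lit 3) (Steps.fwd (nat_lit 114688) (Steps.fwd (nat_lit 106496) (Steps.fwd (nat_lit 98304) (Steps.bwd (nat_lit 9) (Steps.bwd (nat_lit 8) (Steps.bwd (nat_lit 5) (Steps.fwd (nat_lit 32768) (Steps.bwd (nat_lit 2) Steps.nil))))))))) (nat_lit 171) (nat_lit 9),
  Rule.mk (nat_lit 0) (nat_lit 194) (Steps.bwd (nat_lit 16) (Steps.fwd (nat_lit 8192) (Steps.bwd (nat_lit 3) (Steps.fwd (nat_lit 8192) (Steps.fwd (nat_lit 16384) (Steps.fwd (nat_lit 8192) (Steps.fwd (nat_lit 16384) (Steps.fwd (nat_lit 8192) (Steps.bwd (nat_lit 2) (Steps.bwd (nat_lit 4) (Steps.fwd (nat_lit 8192) (Steps.bwd (nat_lit 2) Steps.nil)))))))))))) (nat_lit 190) (nat_lit 0),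
  Rule.mk (nat_lit 18) (nat_lit 179) (Steps.bwd (nat_lit 1) (Steps.fwd (nat_lit 16384) (Steps.fwd (nat_lit 32768) (Steps.bwd (nat_lit 1) (Steps.bwd (nat_lit 2) (Steps.bwd (nat_lit 1) (Steps.bwd (nat_lit 2) (Steps.bwd (nat_lit 1) (Steps.bwd (nat_lit 3) (Steps.bwd (nat_lit 1) (Steps.fwd (nat_lit 16384) Steps.nil))))))))))) (nat_lit 192) (nat_lit 1),
  Rule.mk (nat_lit 0) (nat_lit 194) (Steps.bwd (nat_lit 1) (Steps.fwd (nat_lit 16384) (Steps.fwd (nat_lit 32768) (Steps.bwd (nat_lit 1) (Steps.bwd (nat_lit 2) (Steps.fwd (nat_lit 8192) (Steps.fwd (nat_lit 24576) (Steps.fwd (nat_lit 8192) (Steps.fwd (nat_lit 16384) (Steps.fwd (nat_lit 8192) (Steps.fwd (nat_lit 16384) (Steps.fwd (nat_lit 139264) Steps.nil)))))))))))) (nat_lit 192) (nat_lit 1),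
  Rule.mk (nat_lit 17) (nat_lit 179) (Steps.bwd (nat_lit 2) (Steps.bwd (nat_lit 1) (Steps.fwd (nat_lit 24576) (Steps.bwd (nat_lit 1) (Steps.fwd (nat_lit 16384) (Steps.bwd (nat_lit 1) (Steps.fwd (nat_lit 16384) (Steps.bwd (nat_lit 1) (Steps.bwd (nat_lit 4) (Steps.fwd (nat_lit 24576) (Steps.bwd (nat_lit 1) Steps.nil))))))))))) (nat_lit 193) (nat_lit 0),
  Rule.mk (nat_lit 20) (nat_lit 179) (Steps.bwd (nat_lit 1) (Steps.bwd (nat_lit 2) (Steps.bwd (nat_lit 1) (Steps.bwd (nat_lit 2) (Steps.bwd (nat_lit 1) (Steps.bwd (nat_lit 3) (Steps.bwd (nat_lit 1) (Steps.fwd (nat_lit 16384) (Steps.fwd (nat_lit 8192) (Steps.bwd (nat_lit 4) (Steps.bwd (nat_lit 2) Steps.nil))))))))))) (nat_lit 194) (nat_lit 1),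
  Rule.mk (nat_lit 0) (nat_lit 194) (Steps.bwd (nat_lit 20) (Steps.bwd (nat_lit 1) (Steps.bwd (nat_lit 2) (Steps.bwd (nat_lit 1) (Steps.fwd (nat_lit 24576) (Steps.bwd (nat_lit 1) (Steps.fwd (nat_lit 16384) (Steps.bwd (nat_lit 1) (Steps.fwd (nat_lit 16384) (Steps.bwd (nat_lit 1) (Steps.bwd (nat_lit 4) (Steps.fwd (nat_lit 24576) Steps.nil)))))))))))) (nat_lit 194) (nat_lit 0),
  Rule.mk (nat_lit 19) (nat_lit 179) (Steps.fwd (nat_lit 16384) (Steps.fwd (nat_lit 32768) (Steps.bwd (nat_lit 1) (Steps.bwd (nat_lit 2) (Steps.bwd (nat_lit 1) (Steps.bwd (nat_lit 2) (Steps.bwd (nat_lit 1) (Steps.bwd (nat_lit 3) (Steps.bwd (nat_lit 1) (Steps.fwd (nat_lit 16384) (Steps.fwd (nat_lit 8192) Steps.nil))))))))))) (nat_lit 195) (nat_lit 0),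
  Rule.mk (nat_lit 19) (nat_lit 179) (Steps.bwd (nat_lit 3) (Steps.fwd (nat_lit 32768) (Steps.bwd (nat_lit 1) (Steps.bwd (nat_lit 2) (Steps.bwd (nat_lit 1) (Steps.fwd (nat_lit 24576) (Steps.bwd (nat_lit 1) (Steps.fwd (nat_lit 16384) (Steps.bwd (nat_lit 1) (Steps.fwd (nat_lit 16384) (Steps.bwd (nat_lit 1) Steps.nil))))))))))) (nat_lit 195) (nat_lit 0),
  Rule.mk (nat_lit 1) (nat_lit 179) (Steps.bwd (nat_lit 15) (Steps.fwd (nat_lit 16384) (Steps.bwd (nat_lit 1) (Steps.bwd (nat_lit 4) (Steps.bwd (nat_lit 3) (Steps.fwd (nat_lit 8192) (Steps.fwd (nat_lit 24576) (Steps.fwd (nat_lit 8192) (Steps.bwd (nat_lit 2) (Steps.fwd (nat_lit 8192) (Steps.fwd (nat_lit 24576) Steps.nil))))))))))) (nat_lit 191) (nat_lit 11),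
  Rule.mk (nat_lit 0) (nat_lit 194) (Steps.bwd (nat_lit 18) (Steps.bwd (nat_lit 1) (Steps.bwd (nat_lit 3) (Steps.fwd (nat_lit 32768) (Steps.fwd (nat_lit 8192) (Steps.fwd (nat_lit 24576) (Steps.fwd (nat_lit 8192) (Steps.bwd (nat_lit 2) (Steps.fwd (nat_lit 8192) (Steps.bwd (nat_lit 3) (Steps.fwd (nat_lit 8192) (Steps.bwd (nat_lit 3) Steps.nil)))))))))))) (nat_lit 192) (nat_lit 0),
  Rule.mk (nat_lit 17) (nat_lit 179) (Steps.fwd (nat_lit 24576) (Steps.fwd (nat_lit 8192) (Steps.bwd (nat_lit 2) (Steps.fwd (nat_lit 8192) (Steps.bwd (nat_lit 3) (Steps.fwd (nat_lit 8192) (Steps.bwd (nat_lit 3) (Steps.fwd (nat_lit 8192) (Steps.bwd (nat_lit 4) (Steps.fwd (nat_lit 24576) (Steps.fwd (nat_lit 8192) Steps.nil))))))))))) (nat_lit 193) (nat_lit 0),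
  Rule.mk (nat_lit 20) (nat_lit 179) (Steps.fwd (nat_lit 8192) (Steps.fwd (nat_lit 24576) (Steps.fwd (nat_lit 8192) (Steps.bwd (nat_lit 2) (Steps.fwd (nat_lit 8192) (Steps.bwd (nat_lit 3) (Steps.fwd (nat_lit 8192) (Steps.bwd (nat_lit 3) (Steps.fwd (nat_lit 8192) (Steps.bwd (nat_lit 4) (Steps.fwd (nat_lit 24576) Steps.nil))))))))))) (nat_lit 194) (nat_lit 1),
  Rule.mk (nat_lit 0) (nat_lit 194) (Steps.bwd (nat_lit 19) (Steps.bwd (nat_lit 3) (Steps.fwd (nat_lit 32768) (Steps.fwd (nat_lit 8192) (Steps.fwd (nat_lit 24576) (Steps.fwd (nat_lit 8192) (Steps.bwd (nat_lit 2) (Steps.fwd (nat_lit 8192) (Steps.bwd (nat_lit 3) (Steps.fwd (nat_lit 8192) (Steps.bwd (nat_lit 3) (Steps.fwd (nat_lit 8192) Steps.nil)))))))))))) (nat_lit 195) (nat_lit 11),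
  Rule.mk (nat_lit 6) (nat_lit 134) (Steps.fwd (nat_lit 81920) (Steps.fwd (nat_lit 90112) (Steps.bwd (nat_lit 12) (Steps.bwd (nat_lit 13) (Steps.fwd (nat_lit 114688) (Steps.bwd (nat_lit 1) (Steps.fwd (nat_lit 114688) (Steps.bwd (nat_lit 1) Steps.nil)))))))) (nat_lit 166) (nat_lit 4),
  Rule.mk (nat_lit 2) (nat_lit 539) (Steps.fwd (nat_lit 8192) (Steps.bwd (nat_lit 3) (Steps.fwd (nat_lit 8192) (Steps.bwd (nat_lit 3) (Steps.fwd (nat_lit 8192) (Steps.fwd (nat_lit 24576) (Steps.bwd (nat_lit 1) (Steps.fwd (nat_lit 16384) (Steps.bwd (nat_lit 1) (Steps.fwd (nat_lit 16384) (Steps.bwd (nat_lit 1) (Steps.bwd (nat_lit 2) (Steps.fwd (nat_lit 8192) (Steps.bwd (nat_lit 3) (Steps.fwd (nat_lit 8192) (Steps.fwd (nat_lit 16384) (Steps.bwd (nat_lit 1) (Steps.bwd (nat_lit 2) (Steps.fwd (nat_lit 8192) (Steps.bwd (nat_lit 2) (Steps.bwd (nat_lit 1) (Steps.bwd (nat_lit 3) (Steps.bwd (nat_lit 1) (Steps.fwd (nat_lit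 24576) (Steps.bwd (nat_lit 1) (Steps.bwd (nat_lit 2) (Steps.fwd (nat_lit 8192) (Steps.fwd (nat_lit 16384) (Steps.fwd (nat_lit 8192) (Steps.bwd (nat_lit 2) (Steps.bwd (nat_lit 1) (Steps.fwd (nat_lit 24576) (Steps.bwd (nat_lit 1) (Steps.bwd (nat_lit 3) (Steps.bwd (nat_lit 1) Steps.nil))))))))))))))))))))))))))))))))))) (nat_lit 12) (nat_lit 20),
  Rule.mk (nat_lit 0) (nat_lit 194) (Steps.fwd (nat_lit 8192) (Steps.bwd (nat_lit 3) (Steps.fwd (nat_lit 8192) (Steps.bwd (nat_lit 3) (Steps.bwd (nat_lit 1) (Steps.fwd (nat_lit 16384) (Steps.fwd (nat_lit 8192) (Steps.fwd (nat_lit 24576) (Steps.bwd (nat_lit 4) (Steps.bwd (nat_lit 1) (Steps.bwd (nat_lit 2) (Steps.fwd (nat_lit 122880) Steps.nil)))))))))))) (nat_lit 190) (nat_lit 1),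
  Rule.mk (nat_lit 0) (nat_lit 194) (Steps.bwd (nat_lit 16) (Steps.fwd (nat_lit 8192) (Steps.bwd (nat_lit 3) (Steps.bwd (nat_lit 1) (Steps.fwd (nat_lit 16384) (Steps.fwd (nat_lit 8192) (Steps.bwd (nat_lit 3) (Steps.bwd (nat_lit 1) (Steps.bwd (nat_lit 2) (Steps.bwd (nat_lit 4) (Steps.fwd (nat_lit 8192) (Steps.fwd (nat_lit 24576) Steps.nil)))))))))))) (nat_lit 190) (nat_lit 0),
  Rule.mk (nat_lit 0) (nat_lit 194) (Steps.bwd (nat_lit 15) (Steps.fwd (nat_lit 16384) (Steps.bwd (nat_lit 1) (Steps.fwd (nat_lit 32768) (Steps.bwd (nat_lit 3) (Steps.fwd (nat_lit 8192) (Steps.bwd (nat_lit 2) (Steps.fwd (nat_lit 8192) (Steps.fwd (nat_lit 24576) (Steps.bwd (nat_lit 1) (Steps.bwd (nat_lit 2) (Steps.fwd (nat_lit 8192) Steps.nil)))))))))))) (nat_lit 191) (nat_lit 11),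
  Rule.mk (nat_lit 0) (nat_lit 194) (Steps.bwd (nat_lit 16) (Steps.fwd (nat_lit 8192) (Steps.fwd (nat_lit 16384) (Steps.bwd (nat_lit 1) (Steps.fwd (nat_lit 16384) (Steps.bwd (nat_lit 1) (Steps.bwd (nat_lit 3) (Steps.bwd (nat_lit 1) (Steps.bwd (nat_lit 2) (Steps.bwd (nat_lit 4) (Steps.fwd (nat_lit 8192) (Steps.fwd (nat_lit 24576) Steps.nil)))))))))))) (nat_lit 190) (nat_lit 0),
  Rule.mk (nat_lit 17) (nat_lit 179) (Steps.bwd (nat_lit 2) (Steps.fwd (nat_lit 8192) (Steps.fwd (nat_lit 24576) (Steps.fwd (nat_lit 8192) (Steps.bwd (nat_lit 3) (Steps.bwd (nat_lit 1) (Steps.fwd (nat_lit 16384) (Steps.fwd (nat_lit 8192) (Steps.fwd (nat_lit 32768) (Steps.fwd (nat_lit 24576) (Steps.bwd (nat_lit 1) Steps.nil))))))))))) (nat_lit 193) (nat_lit 0),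
  Rule.mk (nat_lit 0) (nat_lit 194) (Steps.bwd (nat_lit 18) (Steps.bwd (nat_lit 1) (Steps.fwd (nat_lit 16384) (Steps.bwd (nat_lit 4) (Steps.fwd (nat_lit 8192) (Steps.fwd (nat_lit 24576) (Steps.bwd (nat_lit 1) (Steps.bwd (nat_lit 2) (Steps.fwd (nat_lit 8192) (Steps.bwd (nat_lit 3) (Steps.fwd (nat_lit 8192) (Steps.bwd (nat_lit 3) Steps.nil)))))))))))) (nat_lit 192) (nat_lit 0),
  Rule.mk (nat_lit 20) (nat_lit 179) (Steps.bwd (nat_lit 1) (Steps.fwd (nat_lit 24576) (Steps.bwd (nat_lit 1) (Steps.fwd (nat_lit 24576) (Steps.bwd (nat_lit 1) (Steps.fwd (nat_lit 16384) (Steps.fwd (nat_lit 8192) (Steps.bwd (nat_lit 3) (Steps.bwd (nat_lit 1) (Steps.fwd (nat_lit 32768) (Steps.bwd (nat_lit 2) Steps.nil))))))))))) (nat_lit 194) (nat_lit 1),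
  Rule.mk (nat_lit 16) (nat_lit 179) (Steps.bwd (nat_lit 1) (Steps.bwd (nat_lit 3) (Steps.bwd (nat_lit 1) (Steps.fwd (nat_lit 16384) (Steps.fwd (nat_lit 8192) (Steps.fwd (nat_lit 16384) (Steps.bwd (nat_lit 1) (Steps.fwd (nat_lit 24576) (Steps.bwd (nat_lit 4) (Steps.bwd (nat_lit 1) (Steps.fwd (nat_lit 24576) Steps.nil))))))))))) (nat_lit 190) (nat_lit 1),
  Rule.mk (nat_lit 20) (nat_lit 179) (Steps.bwd (nat_lit 1) (Steps.fwd (nat_lit 24576) (Steps.bwd (nat_lit 1) (Steps.bwd (nat_lit 2) (Steps.fwd (nat_lit 8192) (Steps.bwd (nat_lit 3) (Steps.fwd (nat_lit 8192) (Steps.fwd (nat_lit 16384) (Steps.fwd (nat_lit 8192) (Steps.bwd (nat_lit 4) (Steps.bwd (nat_lit 2) Steps.nil))))))))))) (nat_lit 194) (nat_lit 1),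
  Rule.mk (nat_lit 3) (nat_lit 104) (Steps.bwd (nat_lit 9) (Steps.bwd (nat_lit 8) (Steps.bwd (nat_lit 5) (Steps.bwd (nat_lit 4) (Steps.bwd (nat_lit 2) (Steps.bwd (nat_lit 12) Steps.nil)))))) (nat_lit 185) (nat_lit 0),
  Rule.mk (nat_lit 0) (nat_lit 194) (Steps.bwd (nat_lit 17) (Steps.fwd (nat_lit 24576) (Steps.bwd (nat_lit 1) (Steps.bwd (nat_lit 2) (Steps.bwd (nat_lit 1) (Steps.bwd (nat_lit 3) (Steps.fwd (nat_lit 8192) (Steps.bwd (nat_lit 3) (Steps.fwd (nat_lit 8192) (Steps.bwd (nat_lit 4) (Steps.bwd (nat_lit 2) (Steps.fwd (nat_lit 8192) Steps.nil)))))))))))) (nat_lit 193) (nat_lit 11),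
  Rule.mk (nat_lit 20) (nat_lit 179) (Steps.bwd (nat_lit 1) (Steps.fwd (nat_lit 24576) (Steps.bwd (nat_lit 1) (Steps.bwd (nat_lit 2) (Steps.bwd (nat_lit 1) (Steps.bwd (nat_lit 3) (Steps.fwd (nat_lit 8192) (Steps.bwd (nat_lit 3) (Steps.fwd (nat_lit 8192) (Steps.bwd (nat_lit 4) (Steps.bwd (nat_lit 2) Steps.nil))))))))))) (nat_lit 194) (nat_lit 1),
  Rule.mk (nat_lit 19) (nat_lit 179) (Steps.bwd (nat_lit 3) (Steps.bwd (nat_lit 4) (Steps.bwd (nat_lit 1) (Steps.fwd (nat_lit 24576) (Steps.bwd (nat_lit 1) (Steps.bwd (nat_lit 2) (Steps.bwd (nat_lit 1) (Steps.bwd (nat_lit 3) (Steps.fwd (nat_lit 8192) (Steps.bwd (nat_lit 3) (Steps.fwd (nat_lit 8192) Steps.nil))))))))))) (nat_lit 195) (nat_lit 0),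
  Rule.mk (nat_lit 15) (nat_lit 179) (Steps.fwd (nat_lit 16384) (Steps.bwd (nat_lit 1) (Steps.fwd (nat_lit 32768) (Steps.fwd (nat_lit 16384) (Steps.fwd (nat_lit 8192) (Steps.fwd (nat_lit 24576) (Steps.fwd (nat_lit 8192) (Steps.fwd (nat_lit 24576) (Steps.fwd (nat_lit 8192) (Steps.fwd (nat_lit 24576) (Steps.bwd (nat_lit 1) Steps.nil))))))))))) (nat_lit 191) (nat_lit 0),
  Rule.mk (nat_lit 17) (nat_lit 179) (Steps.fwd (nat_lit 24576) (Steps.bwd (nat_lit 1) (Steps.bwd (nat_lit 2) (Steps.bwd (nat_lit 1) (Steps.bwd (nat_lit 3) (Steps.bwd (nat_lit 1) (Steps.fwd (nat_lit 16384) (Steps.bwd (nat_lit 1) (Steps.fwd (nat_lit 32768) (Steps.bwd (nat_lit 2) (Steps.bwd (nat_lit 1) Steps.nil))))))))))) (nat_lit 193) (nat_lit 0),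
  Rule.mk (nat_lit 0) (nat_lit 194) (Steps.bwd (nat_lit 20) (Steps.bwd (nat_lit 1) (Steps.fwd (nat_lit 24576) (Steps.bwd (nat_lit 1) (Steps.bwd (nat_lit 2) (Steps.bwd (nat_lit 1) (Steps.bwd (nat_lit 3) (Steps.bwd (nat_lit 1) (Steps.fwd (nat_lit 16384) (Steps.bwd (nat_lit 1) (Steps.fwd (nat_lit 32768) (Steps.bwd (nat_lit 2) Steps.nil)))))))))))) (nat_lit 194) (nat_lit 0),
  Rule.mk (nat_lit 19) (nat_lit 179) (Steps.bwd (nat_lit 3) (Steps.fwd (nat_lit 32768) (Steps.bwd (nat_lit 1) (Steps.fwd (nat_lit 24576) (Steps.bwd (nat_lit 1) (Steps.bwd (nat_lit 2) (Steps.bwd (nat_lit 1) (Steps.bwd (nat_lit 3) (Steps.bwd (nat_lit 1) (Steps.fwd (nat_lit 16384) (Steps.bwd (nat_lit 1) Steps.nil))))))))))) (nat_lit 195) (nat_lit 0),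
  Rule.mk (nat_lit 1) (nat_lit 164) (Steps.bwd (nat_lit 7) (Steps.fwd (nat_lit 8192) (Steps.fwd (nat_lit 40960) (Steps.bwd (nat_lit 6) (Steps.bwd (nat_lit 9) (Steps.fwd (nat_lit 81920) (Steps.bwd (nat_lit 11) (Steps.bwd (nat_lit 12) (Steps.bwd (nat_lit 13) (Steps.bwd (nat_lit 14) Steps.nil)))))))))) (nat_lit 152) (nat_lit 1),
  Rule.mk (nat_lit 15) (nat_lit 179) (Steps.bwd (nat_lit 3) (Steps.fwd (nat_lit 8192) (Steps.fwd (nat_lit 32768) (Steps.bwd (nat_lit 3) (Steps.fwd (nat_lit 8192) (Steps.bwd (nat_lit 2) (Steps.bwd (nat_lit 1) (Steps.bwd (nat_lit 2) (Steps.fwd (nat_lit 8192) (Steps.bwd (nat_lit 2) (Steps.bwd (nat_lit 1) Steps.nil))))))))))) (nat_lit 191) (nat_lit 0),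
  Rule.mk (nat_lit 15) (nat_lit 179) (Steps.fwd (nat_lit 16384) (Steps.bwd (nat_lit 1) (Steps.fwd (nat_lit 32768) (Steps.fwd (nat_lit 16384) (Steps.bwd (nat_lit 1) (Steps.fwd (nat_lit 24576) (Steps.bwd (nat_lit 1) (Steps.fwd (nat_lit 24576) (Steps.bwd (nat_lit 1) (Steps.bwd (nat_lit 2) (Steps.bwd (nat_lit 1) Steps.nil))))))))))) (nat_lit 191) (nat_lit 0),
  Rule.mk (nat_lit 0) (nat_lit 194) (Steps.bwd (nat_lit 18) (Steps.fwd (nat_lit 8192) (Steps.fwd (nat_lit 16384) (Steps.bwd (nat_lit 4) (Steps.bwd (nat_lit 1) (Steps.fwd (nat_lit 24576) (Steps.bwd (nat_lit 1) (Steps.bwd (nat_lit 2) (Steps.fwd (nat_lit 8192) (Steps.fwd (nat_lit 16384) (Steps.bwd (nat_lit 1) (Steps.fwd (nat_lit 16384) Steps.nil)))))))))))) (nat_lit 192) (nat_lit 0),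
  Rule.mk (nat_lit 18) (nat_lit 179) (Steps.bwd (nat_lit 1) (Steps.fwd (nat_lit 16384) (Steps.fwd (nat_lit 32768) (Steps.bwd (nat_lit 1) (Steps.fwd (nat_lit 24576) (Steps.bwd (nat_lit 1) (Steps.fwd (nat_lit 24576) (Steps.bwd (nat_lit 1) (Steps.bwd (nat_lit 3) (Steps.fwd (nat_lit 8192) (Steps.bwd (nat_lit 3) Steps.nil))))))))))) (nat_lit 192) (nat_lit 1),
  Rule.mk (nat_lit 17) (nat_lit 179) (Steps.bwd (nat_lit 2) (Steps.fwd (nat_lit 8192) (Steps.bwd (nat_lit 2) (Steps.bwd (nat_lit 1) (Steps.bwd (nat_lit 3) (Steps.fwd (nat_lit 8192) (Steps.bwd (nat_lit 3) (Steps.bwd (nat_lit 1) (Steps.fwd (nat_lit 32768) (Steps.bwd (nat_lit 2) (Steps.bwd (nat_lit 1) Steps.nil))))))))))) (nat_lit 193) (nat_lit 0),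
  Rule.mk (nat_lit 20) (nat_lit 179) (Steps.fwd (nat_lit 8192) (Steps.fwd (nat_lit 24576) (Steps.bwd (nat_lit 1) (Steps.fwd (nat_lit 24576) (Steps.fwd (nat_lit 8192) (Steps.bwd (nat_lit 3) (Steps.fwd (nat_lit 8192) (Steps.bwd (nat_lit 3) (Steps.fwd (nat_lit 8192) (Steps.bwd (nat_lit 4) (Steps.bwd (nat_lit 2) Steps.nil))))))))))) (nat_lit 194) (nat_lit 1),
  Rule.mk (nat_lit 17) (nat_lit 179) (Steps.bwd (nat_lit 2) (Steps.fwd (nat_lit 8192) (Steps.fwd (nat_lit 24576) (Steps.fwd (nat_lit 8192) (Steps.bwd (nat_lit 3) (Steps.fwd (nat_lit 8192) (Steps.fwd (nat_lit 16384) (Steps.bwd (nat_lit 1) (Steps.fwd (nat_lit 32768) (Steps.fwd (nat_lit 24576) (Steps.fwd (nat_lit 8192) Steps.nil))))))))))) (nat_lit 193) (nat_lit 0),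
  Rule.mk (nat_lit 1) (nat_lit 179) (Steps.bwd (nat_lit 2) (Steps.fwd (nat_lit 8192) (Steps.fwd (nat_lit 24576) (Steps.fwd (nat_lit 8192) (Steps.bwd (nat_lit 3) (Steps.fwd (nat_lit 8192) (Steps.fwd (nat_lit 16384) (Steps.bwd (nat_lit 1) (Steps.fwd (nat_lit 32768) (Steps.fwd (nat_lit 24576) (Steps.fwd (nat_lit 155648) Steps.nil))))))))))) (nat_lit 194) (nat_lit 2),
  Rule.mk (nat_lit 3) (nat_lit 539) (Steps.bwd (nat_lit 1) (Steps.bwd (nat_lit 2) (Steps.fwd (nat_lit 8192) (Steps.bwd (nat_lit 3) (Steps.fwd (nat_lit 8192) (Steps.bwd (nat_lit 3) (Steps.fwd (nat_lit 8192) (Steps.fwd (nat_lit 24576) (Steps.bwd (nat_lit 1) (Steps.bwd (nat_lit 2) (Steps.bwd (nat_lit 1) (Steps.fwd (nat_lit 16384) (Steps.fwd (nat_lit 8192) (Steps.bwd (nat_lit 2) (Steps.fwd (nat_lit 8192) (Steps.bwd (nat_lit 2) (Steps.bwd (nat_lit 1) (Steps.fwd (nat_lit 16384) (Steps.fwd (nat_lit 8192) (Steps.fwd (nat_lit 24576) (Steps.fwd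 (nat_lit 8192) (Steps.fwd (nat_lit 24576) (Steps.fwd (nat_lit 8192) (Steps.bwd (nat_lit 3) (Steps.fwd (nat_lit 8192) (Steps.bwd (nat_lit 2) (Steps.fwd (nat_lit 8192) (Steps.fwd (nat_lit 16384) (Steps.fwd (nat_lit 8192) (Steps.bwd (nat_lit 3) (Steps.bwd (nat_lit 1) (Steps.fwd (nat_lit 24576) (Steps.bwd (nat_lit 1) (Steps.bwd (nat_lit 3) (Steps.bwd (nat_lit 1) Steps.nil))))))))))))))))))))))))))))))))))) (nat_lit 12) (nat_lit 30),
  Rule.mk (nat_lit 2) (nat_lit 539) (Steps.bwd (nat_lit 1) (Steps.bwd (nat_lit 2) (Steps.fwd (nat_lit 8192) (Steps.bwd (nat_lit 3) (Steps.fwd (nat_lit 8192) (Steps.bwd (nat_lit 2) (Steps.fwd (nat_lit 8192) (Steps.bwd (nat_lit 2) (Steps.bwd (nat_lit 1) (Steps.bwd (nat_lit 3) (Steps.bwd (nat_lit 1) (Steps.bwd (nat_lit 2) (Steps.bwd (nat_lit 1) (Steps.bwd (nat_lit 3) (Steps.bwd (nat_lit 1) (Steps.fwd (nat_lit 16384) (Steps.fwd (nat_lit 8192) (Steps.fwd (nat_lit 24576)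 (Steps.bwd (nat_lit 1) (Steps.fwd (nat_lit 16384) (Steps.bwd (nat_lit 1) (Steps.bwd (nat_lit 3) (Steps.fwd (nat_lit 8192) (Steps.bwd (nat_lit 2) (Steps.fwd (nat_lit 8192) (Steps.fwd (nat_lit 16384) (Steps.bwd (nat_lit 1) (Steps.fwd (nat_lit 16384) (Steps.fwd (nat_lit 8192) (Steps.fwd (nat_lit 24576) (Steps.fwd (nat_lit 8192) (Steps.bwd (nat_lit 2) (Steps.bwd (nat_lit 1) (Steps.bwd (nat_lit 3) (Steps.fwd (nat_lit 8192) Steps.nil))))))))))))))))))))))))))))))))))) (nat_lit 12) (nat_lit 8),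
  Rule.mk (nat_lit 14) (nat_lit 119) (Steps.fwd (nat_lit 16384) (Steps.bwd (nat_lit 5) (Steps.bwd (nat_lit 6) (Steps.fwd (nat_lit 57344) (Steps.fwd (nat_lit 98304) (Steps.bwd (nat_lit 14) (Steps.bwd (nat_lit 2) Steps.nil))))))) (nat_lit 188) (nat_lit 2),
  Rule.mk (nat_lit 9) (nat_lit 134) (Steps.bwd (nat_lit 3) (Steps.fwd (nat_lit 32768) (Steps.fwd (nat_lit 40960) (Steps.fwd (nat_lit 65536) (Steps.fwd (nat_lit 73728) (Steps.bwd (nat_lit 11) (Steps.bwd (nat_lit 14) (Steps.bwd (nat_lit 2) Steps.nil)))))))) (nat_lit 178) (nat_lit 2),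
  Rule.mk (nat_lit 13) (nat_lit 134) (Steps.bwd (nat_lit 3) (Steps.bwd (nat_lit 6) (Steps.fwd (nat_lit 81920) (Steps.fwd (nat_lit 90112) (Steps.fwd (nat_lit 98304) (Steps.bwd (nat_lit 13) (Steps.bwd (nat_lit 14) (Steps.bwd (nat_lit 2) Steps.nil)))))))) (nat_lit 186) (nat_lit 2),
  Rule.mk (nat_lit 6) (nat_lit 164) (Steps.fwd (nat_lit 16384) (Steps.bwd (nat_lit 5) (Steps.bwd (nat_lit 6) (Steps.bwd (nat_lit 9) (Steps.fwd (nat_lit 81920) (Steps.fwd (nat_lit 90112) (Steps.fwd (nat_lit 98304) (Steps.bwd (nat_lit 13) (Steps.bwd (nat_lit 14) (Steps.bwd (nat_lit 2) Steps.nil)))))))))) (nat_lit 172) (nat_lit 2),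
  Rule.mk (nat_lit 16) (nat_lit 179) (Steps.fwd (nat_lit 8192) (Steps.bwd (nat_lit 3) (Steps.bwd (nat_lit 1) (Steps.fwd (nat_lit 16384) (Steps.bwd (nat_lit 1) (Steps.fwd (nat_lit 16384) (Steps.bwd (nat_lit 1) (Steps.bwd (nat_lit 2) (Steps.fwd (nat_lit 32768) (Steps.fwd (nat_lit 8192) (Steps.bwd (nat_lit 2) Steps.nil))))))))))) (nat_lit 190) (nat_lit 1),
  Rule.mk (nat_lit 0) (nat_lit 194) (Steps.fwd (nat_lit 8192) (Steps.fwd (nat_lit 16384) (Steps.bwd (nat_lit 1) (Steps.bwd (nat_lit 3) (Steps.fwd (nat_lit 8192) (Steps.fwd (nat_lit 16384) (Steps.bwd (nat_lit 1) (Steps.bwd (nat_lit 2) (Steps.fwd (nat_lit 32768) (Steps.fwd (nat_lit 8192) (Steps.fwd (nat_lit 24576) (Steps.fwd (nat_lit 122880) Steps.nil)))))))))))) (nat_lit 190) (nat_lit 1),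
  Rule.mk (nat_lit 0) (nat_lit 194) (Steps.fwd (nat_lit 16384) (Steps.fwd (nat_lit 8192) (Steps.bwd (nat_lit 4) (Steps.bwd (nat_lit 3) (Steps.fwd (nat_lit 8192) (Steps.bwd (nat_lit 2) (Steps.bwd (nat_lit 1) (Steps.fwd (nat_lit 24576) (Steps.fwd (nat_lit 8192) (Steps.fwd (nat_lit 24576) (Steps.fwd (nat_lit 8192) (Steps.fwd (nat_lit 131072) Steps.nil)))))))))))) (nat_lit 191) (nat_lit 0),
  Rule.mk (nat_lit 18) (nat_lit 179) (Steps.fwd (nat_lit 8192) (Steps.fwd (nat_lit 16384) (Steps.fwd (nat_lit 32768) (Steps.fwd (nat_lit 8192) (Steps.bwd (nat_lit 2) (Steps.bwd (nat_lit 1) (Steps.fwd (nat_lit 24576) (Steps.fwd (nat_lit 8192) (Steps.bwd (nat_lit 3) (Steps.fwd (nat_lit 8192) (Steps.bwd (nat_lit 3) Steps.nil))))))))))) (nat_lit 192) (nat_lit 1),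
  Rule.mk (nat_lit 17) (nat_lit 179) (Steps.bwd (nat_lit 2) (Steps.bwd (nat_lit 1) (Steps.fwd (nat_lit 24576) (Steps.fwd (nat_lit 8192) (Steps.bwd (nat_lit 3) (Steps.fwd (nat_lit 8192) (Steps.bwd (nat_lit 3) (Steps.fwd (nat_lit 8192) (Steps.fwd (nat_lit 32768) (Steps.fwd (nat_lit 24576) (Steps.fwd (nat_lit 8192) Steps.nil))))))))))) (nat_lit 193) (nat_lit 0),
  Rule.mk (nat_lit 0) (nat_lit 194) (Steps.bwd (nat_lit 19) (Steps.fwd (nat_lit 16384) (Steps.fwd (nat_lit 32768) (Steps.fwd (nat_lit 8192) (Steps.bwd (nat_lit 2) (Steps.bwd (nat_lit 1) (Steps.fwd (nat_lit 24576) (Steps.fwd (nat_lit 8192) (Steps.bwd (nat_lit 3) (Steps.fwd (nat_lit 8192) (Steps.bwd (nat_lit 3) (Steps.fwd (nat_lit 8192) Steps.nil)))))))))))) (nat_lit 195) (nat_lit 11),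
  Rule.mk (nat_lit 0) (nat_lit 194) (Steps.bwd (nat_lit 18) (Steps.bwd (nat_lit 1) (Steps.fwd (nat_lit 16384) (Steps.bwd (nat_lit 4) (Steps.fwd (nat_lit 8192) (Steps.fwd (nat_lit 24576) (Steps.fwd (nat_lit 8192) (Steps.fwd (nat_lit 24576) (Steps.fwd (nat_lit 8192) (Steps.bwd (nat_lit 3) (Steps.fwd (nat_lit 8192) (Steps.bwd (nat_lit 3) Steps.nil)))))))))))) (nat_lit 192) (nat_lit 0),
  Rule.mk (nat_lit 19) (nat_lit 179) (Steps.fwd (nat_lit 16384) (Steps.bwd (nat_lit 4) (Steps.fwd (nat_lit 8192) (Steps.fwd (nat_lit 24576) (Steps.fwd (nat_lit 8192) (Steps.fwd (nat_lit 24576) (Steps.fwd (nat_lit 8192) (Steps.bwd (nat_lit 3) (Steps.fwd (nat_lit 8192) (Steps.bwd (nat_lit 3) (Steps.bwd (nat_lit 1) Steps.nil))))))))))) (nat_lit 195) (nat_lit 0),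
  Rule.mk (nat_lit 16) (nat_lit 179) (Steps.bwd (nat_lit 1) (Steps.bwd (nat_lit 3) (Steps.bwd (nat_lit 1) (Steps.bwd (nat_lit 3) (Steps.bwd (nat_lit 1) (Steps.bwd (nat_lit 3) (Steps.fwd (nat_lit 8192) (Steps.fwd (nat_lit 24576) (Steps.fwd (nat_lit 32768) (Steps.bwd (nat_lit 1) (Steps.fwd (nat_lit 24576) Steps.nil))))))))))) (nat_lit 190) (nat_lit 1),
  Rule.mk (nat_lit 0) (nat_lit 194) (Steps.bwd (nat_lit 15) (Steps.bwd (nat_lit 3) (Steps.bwd (nat_lit 1) (Steps.bwd (nat_lit 4) (Steps.bwd (nat_lit 3) (Steps.fwd (nat_lit 8192) (Steps.fwd (nat_lit 24576) (Steps.fwd (nat_lit 8192) (Steps.fwd (nat_lit 24576) (Steps.fwd (nat_lit 8192) (Steps.bwd (nat_lit 2) (Steps.bwd (nat_lit 1) Steps.nil)))))))))))) (nat_lit 191) (nat_lit 11),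
  Rule.mk (nat_lit 2) (nat_lit 179) (Steps.bwd (nat_lit 16) (Steps.fwd (nat_lit 8192) (Steps.fwd (nat_lit 16384) (Steps.bwd (nat_lit 1) (Steps.fwd (nat_lit 16384) (Steps.bwd (nat_lit 1) (Steps.bwd (nat_lit 3) (Steps.bwd (nat_lit 1) (Steps.fwd (nat_lit 24576) (Steps.fwd (nat_lit 32768) (Steps.bwd (nat_lit 1) Steps.nil))))))))))) (nat_lit 190) (nat_lit 0),
  Rule.mk (nat_lit 15) (nat_lit 179) (Steps.bwd (nat_lit 3) (Steps.bwd (nat_lit 1) (Steps.fwd (nat_lit 32768) (Steps.fwd (nat_lit 16384) (Steps.fwd (nat_lit 8192) (Steps.bwd (nat_lit 2) (Steps.bwd (nat_lit 1) (Steps.bwd (nat_lit 2) (Steps.bwd (nat_lit 1) (Steps.bwd (nat_lit 2) (Steps.fwd (nat_lit 8192) Steps.nil))))))))))) (nat_lit 191) (nat_lit 0)]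
noncomputable def R_105 : List (Rule) := [Rule.mk (nat_lit 17) (nat_lit 179) (Steps.fwd (nat_lit 24576) (Steps.bwd (nat_lit 1) (Steps.bwd (nat_lit 2) (Steps.bwd (nat_lit 1) (Steps.fwd (nat_lit 16384) (Steps.bwd (nat_lit 1) (Steps.bwd (nat_lit 3) (Steps.bwd (nat_lit 1) (Steps.fwd (nat_lit 32768) (Steps.bwd (nat_lit 2) (Steps.bwd (nat_lit 1) Steps.nil))))))))))) (nat_lit 193) (nat_lit 0),
  Rule.mk (nat_lit 0) (nat_lit 104) (Steps.fwd (nat_lit 16384) (Steps.fwd (nat_lit 114688) (Steps.fwd (nat_lit 57344) (Steps.fwd (nat_lit 32768) (Steps.fwd (nat_lit 24576) (Steps.bwd (nat_lit 8) Steps.nil)))))) (nat_lit 177) (nat_lit 5),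
  Rule.mk (nat_lit 3) (nat_lit 179) (Steps.fwd (nat_lit 8192) (Steps.fwd (nat_lit 32768) (Steps.bwd (nat_lit 3) (Steps.bwd (nat_lit 1) (Steps.bwd (nat_lit 2) (Steps.fwd (nat_lit 8192) (Steps.bwd (nat_lit 2) (Steps.fwd (nat_lit 8192) (Steps.bwd (nat_lit 2) (Steps.bwd (nat_lit 1) (Steps.fwd (nat_lit 131072) Steps.nil))))))))))) (nat_lit 191) (nat_lit 1),
  Rule.mk (nat_lit 0) (nat_lit 194) (Steps.bwd (nat_lit 18) (Steps.bwd (nat_lit 1) (Steps.bwd (nat_lit 3) (Steps.bwd (nat_lit 4) (Steps.bwd (nat_lit 1) (Steps.fwd (nat_lit 24576) (Steps.bwd (nat_lit 1) (Steps.bwd (nat_lit 2) (Steps.bwd (nat_lit 1) (Steps.fwd (nat_lit 16384) (Steps.fwd (nat_lit 8192) (Steps.fwd (nat_lit 16384) Steps.nil)))))))))))) (nat_lit 192) (nat_lit 0),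
  Rule.mk (nat_lit 0) (nat_lit 194) (Steps.bwd (nat_lit 19) (Steps.bwd (nat_lit 3) (Steps.bwd (nat_lit 4) (Steps.bwd (nat_lit 1) (Steps.fwd (nat_lit 24576) (Steps.bwd (nat_lit 1) (Steps.bwd (nat_lit 2) (Steps.bwd (nat_lit 1) (Steps.fwd (nat_lit 16384) (Steps.fwd (nat_lit 8192) (Steps.fwd (nat_lit 16384) (Steps.fwd (nat_lit 8192) Steps.nil)))))))))))) (nat_lit 195) (nat_lit 11),
  Rule.mk (nat_lit 1) (nat_lit 839) (Steps.bwd (nat_lit 3) (Steps.fwd (nat_lit 8192) (Steps.fwd (nat_lit 24576) (Steps.fwd (nat_lit 8192) (Steps.fwd (nat_lit 16384) (Steps.fwd (nat_lit 8192) (Steps.bwd (nat_lit 2) (Steps.fwd (nat_lit 8192) (Steps.bwd (nat_lit 2) (Steps.fwd (nat_lit 8192) (Steps.bwd (nat_lit 3) (Steps.fwd (nat_lit 8192) (Steps.bwd (nat_lit 2) (Steps.fwd (nat_lit 8192) (Steps.fwd (nat_lit 16384) (Steps.bwd (nat_lit 1) (Steps.bwd (nat_lit 2) (Steps.bwd (nat_lit 1) (Steps.fwd (nat_lit 16384) (Steps.fwd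 (nat_lit 8192) (Steps.fwd (nat_lit 24576) (Steps.bwd (nat_lit 1) (Steps.bwd (nat_lit 2) (Steps.fwd (nat_lit 8192) (Steps.bwd (nat_lit 3) (Steps.bwd (nat_lit 1) (Steps.bwd (nat_lit 2) (Steps.fwd (nat_lit 8192) (Steps.fwd (nat_lit 16384) (Steps.fwd (nat_lit 8192) (Steps.bwd (nat_lit 2) (Steps.bwd (nat_lit 1) (Steps.fwd (nat_lit 16384) (Steps.bwd (nat_lit 1) (Steps.fwd (nat_lit 24576) (Steps.bwd (nat_lit 1) (Steps.bwd (nat_lit 2) (Steps.bwd (nat_lit 1) (Steps.fwd (nat_lit 16384) (Steps.bwd (nat_lit 1) (Steps.fwd (nat_lit 24576) (Steps.fwd (nat_lit 8192) (Steps.bwd (nat_lit 3) (Steps.fwd (nat_lit 8192) (Steps.bwd (nat_lit 2) (Steps.fwd (nat_lit 8192) (Steps.fwd (nat_lit 16384) (Steps.bwd (nat_lit 1) (Steps.bwd (nat_lit 2) (Steps.fwd (nat_lit 8192) (Steps.fwd (nat_lit 24576) (Steps.fwd (nat_lit 8192) (Steps.bwd (nat_lit 3) (Steps.bwd (nat_lit 1) (Steps.bwd (nat_lit 2) Steps.nil)))))))))))))))))))))))))))))))))))))))))))))))))))))))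 (nat_lit 10) (nat_lit 9),
  Rule.mk (nat_lit 13) (nat_lit 104) (Steps.fwd (nat_lit 8192) (Steps.bwd (nat_lit 9) (Steps.fwd (nat_lit 65536) (Steps.bwd (nat_lit 5) (Steps.fwd (nat_lit 32768) (Steps.bwd (nat_lit 1) Steps.nil)))))) (nat_lit 165) (nat_lit 6),
  Rule.mk (nat_lit 10) (nat_lit 134) (Steps.fwd (nat_lit 8192) (Steps.bwd (nat_lit 4) (Steps.fwd (nat_lit 40960) (Steps.bwd (nat_lit 8) (Steps.bwd (nat_lit 9) (Steps.fwd (nat_lit 90112) (Steps.fwd (nat_lit 114688) (Steps.bwd (nat_lit 1) Steps.nil)))))))) (nat_lit 158) (nat_lit 2),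
  Rule.mk (nat_lit 7) (nat_lit 164) (Steps.bwd (nat_lit 1) (Steps.bwd (nat_lit 5) (Steps.fwd (nat_lit 49152) (Steps.fwd (nat_lit 73728) (Steps.bwd (nat_lit 10) (Steps.bwd (nat_lit 11) (Steps.bwd (nat_lit 12) (Steps.fwd (nat_lit 106496) (Steps.fwd (nat_lit 114688) (Steps.bwd (nat_lit 1) Steps.nil)))))))))) (nat_lit 152) (nat_lit 2),
  Rule.mk (nat_lit 12) (nat_lit 164) (Steps.fwd (nat_lit 8192) (Steps.fwd (nat_lit 32768) (Steps.bwd (nat_lit 5) (Steps.bwd (nat_lit 8) (Steps.bwd (nat_lit 9) (Steps.fwd (nat_lit 81920) (Steps.fwd (nat_lit 90112) (Steps.bwd (nat_lit 12) (Steps.fwd (nat_lit 114688) (Steps.bwd (nat_lit 1) Steps.nil)))))))))) (nat_lit 162) (nat_lit 2),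
  Rule.mk (nat_lit 16) (nat_lit 179) (Steps.fwd (nat_lit 8192) (Steps.fwd (nat_lit 16384) (Steps.bwd (nat_lit 1) (Steps.bwd (nat_lit 3) (Steps.fwd (nat_lit 8192) (Steps.bwd (nat_lit 3) (Steps.bwd (nat_lit 1) (Steps.fwd (nat_lit 24576) (Steps.bwd (nat_lit 4) (Steps.bwd (nat_lit 1) (Steps.fwd (nat_lit 24576) Steps.nil))))))))))) (nat_lit 190) (nat_lit 1),
  Rule.mk (nat_lit 15) (nat_lit 179) (Steps.bwd (nat_lit 3) (Steps.fwd (nat_lit 8192) (Steps.bwd (nat_lit 4) (Steps.fwd (nat_lit 16384) (Steps.bwd (nat_lit 1) (Steps.bwd (nat_lit 2) (Steps.fwd (nat_lit 8192) (Steps.bwd (nat_lit 2) (Steps.bwd (nat_lit 1) (Steps.bwd (nat_lit 2) (Steps.bwd (nat_lit 1) Steps.nil))))))))))) (nat_lit 191) (nat_lit 0),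
  Rule.mk (nat_lit 18) (nat_lit 179) (Steps.bwd (nat_lit 1) (Steps.bwd (nat_lit 3) (Steps.bwd (nat_lit 4) (Steps.fwd (nat_lit 8192) (Steps.bwd (nat_lit 2) (Steps.bwd (nat_lit 1) (Steps.bwd (nat_lit 2) (Steps.bwd (nat_lit 1) (Steps.bwd (nat_lit 3) (Steps.fwd (nat_lit 8192) (Steps.bwd (nat_lit 3) Steps.nil))))))))))) (nat_lit 192) (nat_lit 1),
  Rule.mk (nat_lit 0) (nat_lit 194) (Steps.bwd (nat_lit 18) (Steps.fwd (nat_lit 8192) (Steps.bwd (nat_lit 3) (Steps.fwd (nat_lit 32768) (Steps.fwd (nat_lit 8192) (Steps.fwd (nat_lit 24576) (Steps.bwd (nat_lit 1) (Steps.fwd (nat_lit 24576) (Steps.fwd (nat_lit 8192) (Steps.fwd (nat_lit 16384) (Steps.fwd (nat_lit 8192) (Steps.fwd (nat_lit 16384) Steps.nil)))))))))))) (nat_lit 192) (nat_lit 0),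
  Rule.mk (nat_lit 20) (nat_lit 179) (Steps.fwd (nat_lit 8192) (Steps.bwd (nat_lit 2) (Steps.fwd (nat_lit 8192) (Steps.bwd (nat_lit 2) (Steps.fwd (nat_lit 8192) (Steps.fwd (nat_lit 16384) (Steps.bwd (nat_lit 1) (Steps.bwd (nat_lit 3) (Steps.fwd (nat_lit 8192) (Steps.fwd (nat_lit 32768) (Steps.bwd (nat_lit 2) Steps.nil))))))))))) (nat_lit 194) (nat_lit 1),
  Rule.mk (nat_lit 0) (nat_lit 194) (Steps.bwd (nat_lit 20) (Steps.fwd (nat_lit 8192) (Steps.bwd (nat_lit 2) (Steps.bwd (nat_lit 1) (Steps.bwd (nat_lit 2) (Steps.bwd (nat_lit 1) (Steps.bwd (nat_lit 3) (Steps.fwd (nat_lit 8192) (Steps.bwd (nat_lit 3) (Steps.bwd (nat_lit 1) (Steps.bwd (nat_lit 4) (Steps.fwd (nat_lit 24576) Steps.nil)))))))))))) (nat_lit 194) (nat_lit 0),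
  Rule.mk (nat_lit 19) (nat_lit 179) (Steps.fwd (nat_lit 16384) (Steps.fwd (nat_lit 32768) (Steps.fwd (nat_lit 8192) (Steps.bwd (nat_lit 2) (Steps.fwd (nat_lit 8192) (Steps.bwd (nat_lit 2) (Steps.fwd (nat_lit 8192) (Steps.fwd (nat_lit 16384) (Steps.bwd (nat_lit 1) (Steps.bwd (nat_lit 3) (Steps.fwd (nat_lit 8192) Steps.nil))))))))))) (nat_lit 195) (nat_lit 0),
  Rule.mk (nat_lit 19) (nat_lit 179) (Steps.bwd (nat_lit 3) (Steps.bwd (nat_lit 4) (Steps.fwd (nat_lit 8192) (Steps.bwd (nat_lit 2) (Steps.bwd (nat_lit 1) (Steps.bwd (nat_lit 2) (Steps.bwd (nat_lit 1) (Steps.bwd (nat_lit 3) (Steps.fwd (nat_lit 8192) (Steps.bwd (nat_lit 3) (Steps.bwd (nat_lit 1) Steps.nil))))))))))) (nat_lit 195) (nat_lit 0),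
  Rule.mk (nat_lit 2) (nat_lit 839) (Steps.fwd (nat_lit 8192) (Steps.fwd (nat_lit 16384) (Steps.bwd (nat_lit 1) (Steps.bwd (nat_lit 2) (Steps.fwd (nat_lit 8192) (Steps.bwd (nat_lit 3) (Steps.bwd (nat_lit 1) (Steps.fwd (nat_lit 24576) (Steps.fwd (nat_lit 8192) (Steps.fwd (nat_lit 16384) (Steps.fwd (nat_lit 8192) (Steps.bwd (nat_lit 3) (Steps.bwd (nat_lit 1) (Steps.bwd (nat_lit 2) (Steps.fwd (nat_lit 8192) (Steps.bwd (nat_lit 3) (Steps.fwd (nat_lit 8192) (Steps.fwd (nat_lit 24576) (Steps.fwd (nat_lit 8192) (Steps.fwd (nat_lit 16384) (Steps.fwd (nat_lit 8192) (Steps.bwd (nat_lit 2) (Steps.bwd (nat_lit 1) (Steps.bwd (nat_lit 3) (Steps.fwd (nat_lit 8192) (Steps.fwd (nat_lit 16384) (Steps.bwd (nat_lit 1) (Steps.fwd (nat_lit 24576) (Steps.bwd (nat_lit 1) (Steps.fwd (nat_lit 16384) (Steps.fwd (nat_lit 8192) (Steps.fwd (nat_lit 24576) (Steps.bwd (nat_lit 1) (Steps.bwd (nat_lit 3) (Steps.fwd (nat_lit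 8192) (Steps.fwd (nat_lit 24576) (Steps.fwd (nat_lit 8192) (Steps.bwd (nat_lit 3) (Steps.bwd (nat_lit 1) (Steps.bwd (nat_lit 3) (Steps.bwd (nat_lit 1) (Steps.bwd (nat_lit 2) (Steps.fwd (nat_lit 8192) (Steps.fwd (nat_lit 16384) (Steps.fwd (nat_lit 8192) (Steps.bwd (nat_lit 2) (Steps.bwd (nat_lit 1) (Steps.fwd (nat_lit 16384) (Steps.bwd (nat_lit 1) (Steps.bwd (nat_lit 2) (Steps.fwd (nat_lit 8192) (Steps.fwd (nat_lit 16384) (Steps.fwd (nat_lit 8192) (Steps.fwd (nat_lit 16384) (Steps.bwd (nat_lit 1) Steps.nil))))))))))))))))))))))))))))))))))))))))))))))))))))))) (nat_lit 11) (nat_lit 1),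
  Rule.mk (nat_lit 0) (nat_lit 194) (Steps.bwd (nat_lit 1) (Steps.fwd (nat_lit 16384) (Steps.fwd (nat_lit 8192) (Steps.fwd (nat_lit 16384) (Steps.bwd (nat_lit 1) (Steps.fwd (nat_lit 16384) (Steps.fwd (nat_lit 8192) (Steps.bwd (nat_lit 2) (Steps.bwd (nat_lit 4) (Steps.fwd (nat_lit 8192) (Steps.fwd (nat_lit 24576) (Steps.fwd (nat_lit 122880) Steps.nil)))))))))))) (nat_lit 190) (nat_lit 1),
  Rule.mk (nat_lit 16) (nat_lit 179) (Steps.fwd (nat_lit 8192) (Steps.fwd (nat_lit 16384) (Steps.bwd (nat_lit 1) (Steps.fwd (nat_lit 16384) (Steps.fwd (nat_lit 8192) (Steps.fwd (nat_lit 16384) (Steps.fwd (nat_lit 8192) (Steps.fwd (nat_lit 24576) (Steps.bwd (nat_lit 4) (Steps.fwd (nat_lit 8192) (Steps.fwd (nat_lit 24576) Steps.nil))))))))))) (nat_lit 190) (nat_lit 1),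
  Rule.mk (nat_lit 16) (nat_lit 179) (Steps.bwd (nat_lit 1) (Steps.fwd (nat_lit 16384) (Steps.fwd (nat_lit 8192) (Steps.fwd (nat_lit 16384) (Steps.fwd (nat_lit 8192) (Steps.fwd (nat_lit 16384) (Steps.bwd (nat_lit 1) (Steps.bwd (nat_lit 2) (Steps.bwd (nat_lit 4) (Steps.fwd (nat_lit 8192) (Steps.fwd (nat_lit 24576) Steps.nil))))))))))) (nat_lit 190) (nat_lit 1),
  Rule.mk (nat_lit 0) (nat_lit 194) (Steps.bwd (nat_lit 15) (Steps.bwd (nat_lit 3) (Steps.fwd (nat_lit 8192) (Steps.bwd (nat_lit 4) (Steps.fwd (nat_lit 16384) (Steps.fwd (nat_lit 8192) (Steps.bwd (nat_lit 2) (Steps.bwd (nat_lit 1) (Steps.bwd (nat_lit 2) (Steps.fwd (nat_lit 8192) (Steps.fwd (nat_lit 24576) (Steps.bwd (nat_lit 1) Steps.nil)))))))))))) (nat_lit 191) (nat_lit 11),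
  Rule.mk (nat_lit 18) (nat_lit 179) (Steps.bwd (nat_lit 1) (Steps.bwd (nat_lit 3) (Steps.fwd (nat_lit 32768) (Steps.bwd (nat_lit 1) (Steps.bwd (nat_lit 2) (Steps.fwd (nat_lit 8192) (Steps.bwd (nat_lit 2) (Steps.bwd (nat_lit 1) (Steps.fwd (nat_lit 16384) (Steps.fwd (nat_lit 8192) (Steps.fwd (nat_lit 16384) Steps.nil))))))))))) (nat_lit 192) (nat_lit 1),
  Rule.mk (nat_lit 17) (nat_lit 179) (Steps.bwd (nat_lit 2) (Steps.fwd (nat_lit 8192) (Steps.bwd (nat_lit 2) (Steps.bwd (nat_lit 1) (Steps.fwd (nat_lit 16384) (Steps.fwd (nat_lit 8192) (Steps.fwd (nat_lit 16384) (Steps.fwd (nat_lit 8192) (Steps.bwd (nat_lit 4) (Steps.bwd (nat_lit 2) (Steps.fwd (nat_lit 8192) Steps.nil))))))))))) (nat_lit 193) (nat_lit 0),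
  Rule.mk (nat_lit 20) (nat_lit 179) (Steps.bwd (nat_lit 1) (Steps.bwd (nat_lit 2) (Steps.bwd (nat_lit 1) (Steps.bwd (nat_lit 2) (Steps.fwd (nat_lit 8192) (Steps.fwd (nat_lit 16384) (Steps.bwd (nat_lit 1) (Steps.fwd (nat_lit 16384) (Steps.fwd (nat_lit 8192) (Steps.bwd (nat_lit 4) (Steps.fwd (nat_lit 24576) Steps.nil))))))))))) (nat_lit 194) (nat_lit 1),
  Rule.mk (nat_lit 20) (nat_lit 179) (Steps.bwd (nat_lit 1) (Steps.bwd (nat_lit 2) (Steps.fwd (nat_lit 8192) (Steps.bwd (nat_lit 2) (Steps.bwd (nat_lit 1) (Steps.fwd (nat_lit 16384) (Steps.fwd (nat_lit 8192) (Steps.fwd (nat_lit 16384) (Steps.fwd (nat_lit 8192) (Steps.bwd (nat_lit 4) (Steps.bwd (nat_lit 2) Steps.nil))))))))))) (nat_lit 194) (nat_lit 1),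
  Rule.mk (nat_lit 2) (nat_lit 179) (Steps.bwd (nat_lit 20) (Steps.fwd (nat_lit 8192) (Steps.bwd (nat_lit 2) (Steps.fwd (nat_lit 8192) (Steps.bwd (nat_lit 2) (Steps.fwd (nat_lit 8192) (Steps.fwd (nat_lit 16384) (Steps.fwd (nat_lit 8192) (Steps.fwd (nat_lit 16384) (Steps.fwd (nat_lit 8192) (Steps.bwd (nat_lit 4) Steps.nil))))))))))) (nat_lit 194) (nat_lit 0),
  Rule.mk (nat_lit 12) (nat_lit 104) (Steps.fwd (nat_lit 16384) (Steps.fwd (nat_lit 32768) (Steps.fwd (nat_lit 40960) (Steps.bwd (nat_lit 8) (Steps.bwd (nat_lit 9) (Steps.bwd (nat_lit 2) Steps.nil)))))) (nat_lit 184) (nat_lit 2),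
  Rule.mk (nat_lit 6) (nat_lit 164) (Steps.fwd (nat_lit 16384) (Steps.fwd (nat_lit 40960) (Steps.fwd (nat_lit 49152) (Steps.bwd (nat_lit 9) (Steps.fwd (nat_lit 81920) (Steps.fwd (nat_lit 90112) (Steps.fwd (nat_lit 98304) (Steps.bwd (nat_lit 13) (Steps.bwd (nat_lit 14) (Steps.bwd (nat_lit 2) Steps.nil)))))))))) (nat_lit 172) (nat_lit 2),
  Rule.mk (nat_lit 11) (nat_lit 164) (Steps.bwd (nat_lit 3) (Steps.bwd (nat_lit 4) (Steps.bwd (nat_lit 5) (Steps.fwd (nat_lit 65536) (Steps.bwd (nat_lit 9) (Steps.bwd (nat_lit 10) (Steps.fwd (nat_lit 90112) (Steps.fwd (nat_lit 98304) (Steps.bwd (nat_lit 14) (Steps.bwd (nat_lit 2) Steps.nil)))))))))) (nat_lit 182) (nat_lit 2),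
  Rule.mk (nat_lit 16) (nat_lit 179) (Steps.bwd (nat_lit 1) (Steps.fwd (nat_lit 16384) (Steps.fwd (nat_lit 8192) (Steps.bwd (nat_lit 3) (Steps.bwd (nat_lit 1) (Steps.fwd (nat_lit 16384) (Steps.bwd (nat_lit 1) (Steps.fwd (nat_lit 24576) (Steps.fwd (nat_lit 32768) (Steps.fwd (nat_lit 8192) (Steps.bwd (nat_lit 2) Steps.nil))))))))))) (nat_lit 190) (nat_lit 1),
  Rule.mk (nat_lit 16) (nat_lit 179) (Steps.bwd (nat_lit 1) (Steps.bwd (nat_lit 3) (Steps.fwd (nat_lit 8192) (Steps.bwd (nat_lit 3) (Steps.fwd (nat_lit 8192) (Steps.fwd (nat_lit 16384) (Steps.fwd (nat_lit 8192) (Steps.bwd (nat_lit 2) (Steps.bwd (nat_lit 4) (Steps.fwd (nat_lit 8192) (Steps.fwd (nat_lit 24576) Steps.nil))))))))))) (nat_lit 190) (nat_lit 1),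
  Rule.mk (nat_lit 1) (nat_lit 539) (Steps.bwd (nat_lit 3) (Steps.fwd (nat_lit 8192) (Steps.bwd (nat_lit 2) (Steps.bwd (nat_lit 1) (Steps.fwd (nat_lit 16384) (Steps.fwd (nat_lit 8192) (Steps.fwd (nat_lit 16384) (Steps.bwd (nat_lit 1) (Steps.fwd (nat_lit 24576) (Steps.bwd (nat_lit 1) (Steps.fwd (nat_lit 16384) (Steps.fwd (nat_lit 8192) (Steps.bwd (nat_lit 3) (Steps.fwd (nat_lit 8192) (Steps.bwd (nat_lit 2) (Steps.bwd (nat_lit 1) (Steps.fwd (nat_lit 16384) (Steps.fwd (nat_lit 8192) (Steps.bwd (nat_lit 3) (Steps.fwd (nat_lit 8192) (Steps.fwd (nat_lit 24576) (Steps.bwd (nat_lit 1) (Steps.fwd (nat_lit 24576) (Steps.fwd (nat_lit 8192) (Steps.fwd (nat_lit 16384) (Steps.bwd (nat_lit 1) (Steps.bwd (nat_lit 2) (Steps.fwd (nat_lit 8192) (Steps.bwd (nat_lit 2) (Steps.fwd (nat_lit 8192) (Steps.bwd (nat_lit 3) (Steps.fwd (nat_lit 8192) (Steps.bwd (nat_lit 2) (Steps.fwd (nat_lit 8192) (Steps.bwd (nat_lit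 2) Steps.nil))))))))))))))))))))))))))))))))))) (nat_lit 12) (nat_lit 17),
  Rule.mk (nat_lit 0) (nat_lit 194) (Steps.bwd (nat_lit 16) (Steps.bwd (nat_lit 1) (Steps.fwd (nat_lit 16384) (Steps.fwd (nat_lit 8192) (Steps.fwd (nat_lit 16384) (Steps.bwd (nat_lit 1) (Steps.bwd (nat_lit 3) (Steps.fwd (nat_lit 8192) (Steps.bwd (nat_lit 2) (Steps.fwd (nat_lit 32768) (Steps.bwd (nat_lit 1) (Steps.bwd (nat_lit 2) Steps.nil)))))))))))) (nat_lit 190) (nat_lit 0),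
  Rule.mk (nat_lit 15) (nat_lit 179) (Steps.fwd (nat_lit 16384) (Steps.bwd (nat_lit 1) (Steps.bwd (nat_lit 4) (Steps.bwd (nat_lit 3) (Steps.fwd (nat_lit 8192) (Steps.fwd (nat_lit 24576) (Steps.fwd (nat_lit 8192) (Steps.fwd (nat_lit 24576) (Steps.bwd (nat_lit 1) (Steps.fwd (nat_lit 24576) (Steps.fwd (nat_lit 8192) Steps.nil))))))))))) (nat_lit 191) (nat_lit 0),
  Rule.mk (nat_lit 18) (nat_lit 179) (Steps.bwd (nat_lit 1) (Steps.fwd (nat_lit 16384) (Steps.fwd (nat_lit 32768) (Steps.bwd (nat_lit 1) (Steps.bwd (nat_lit 2) (Steps.fwd (nat_lit 8192) (Steps.bwd (nat_lit 2) (Steps.fwd (nat_lit 8192) (Steps.fwd (nat_lit 16384) (Steps.bwd (nat_lit 1) (Steps.bwd (nat_lit 3) Steps.nil))))))))))) (nat_lit 192) (nat_lit 1),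
  Rule.mk (nat_lit 17) (nat_lit 179) (Steps.bwd (nat_lit 2) (Steps.fwd (nat_lit 8192) (Steps.bwd (nat_lit 2) (Steps.fwd (nat_lit 8192) (Steps.fwd (nat_lit 16384) (Steps.fwd (nat_lit 8192) (Steps.fwd (nat_lit 16384) (Steps.fwd (nat_lit 8192) (Steps.bwd (nat_lit 4) (Steps.bwd (nat_lit 2) (Steps.bwd (nat_lit 1) Steps.nil))))))))))) (nat_lit 193) (nat_lit 0),
  Rule.mk (nat_lit 0) (nat_lit 194) (Steps.bwd (nat_lit 17) (Steps.bwd (nat_lit 2) (Steps.fwd (nat_lit 8192) (Steps.bwd (nat_lit 2) (Steps.fwd (nat_lit 8192) (Steps.fwd (nat_lit 16384) (Steps.bwd (nat_lit 1) (Steps.bwd (nat_lit 3) (Steps.fwd (nat_lit 8192) (Steps.bwd (nat_lit 4) (Steps.bwd (nat_lit 2) (Steps.bwd (nat_lit 1) Steps.nil)))))))))))) (nat_lit 193) (nat_lit 11),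
  Rule.mk (nat_lit 0) (nat_lit 194) (Steps.bwd (nat_lit 19) (Steps.fwd (nat_lit 16384) (Steps.fwd (nat_lit 32768) (Steps.bwd (nat_lit 1) (Steps.fwd (nat_lit 24576) (Steps.fwd (nat_lit 8192) (Steps.bwd (nat_lit 2) (Steps.bwd (nat_lit 1) (Steps.fwd (nat_lit 16384) (Steps.bwd (nat_lit 1) (Steps.fwd (nat_lit 16384) (Steps.fwd (nat_lit 8192) Steps.nil)))))))))))) (nat_lit 195) (nat_lit 11),
  Rule.mk (nat_lit 19) (nat_lit 179) (Steps.bwd (nat_lit 3) (Steps.fwd (nat_lit 32768) (Steps.bwd (nat_lit 1) (Steps.bwd (nat_lit 2) (Steps.bwd (nat_lit 1) (Steps.fwd (nat_lit 24576) (Steps.bwd (nat_lit 1) (Steps.fwd (nat_lit 16384) (Steps.fwd (nat_lit 8192) (Steps.fwd (nat_lit 16384) (Steps.bwd (nat_lit 1) Steps.nil))))))))))) (nat_lit 195) (nat_lit 0),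
  Rule.mk (nat_lit 17) (nat_lit 179) (Steps.bwd (nat_lit 2) (Steps.bwd (nat_lit 1) (Steps.bwd (nat_lit 2) (Steps.fwd (nat_lit 8192) (Steps.bwd (nat_lit 3) (Steps.fwd (nat_lit 8192) (Steps.fwd (nat_lit 16384) (Steps.fwd (nat_lit 8192) (Steps.bwd (nat_lit 4) (Steps.fwd (nat_lit 24576) (Steps.fwd (nat_lit 8192) Steps.nil))))))))))) (nat_lit 193) (nat_lit 0),
  Rule.mk (nat_lit 2) (nat_lit 104) (Steps.bwd (nat_lit 10) (Steps.fwd (nat_lit 16384) (Steps.bwd (nat_lit 6) (Steps.bwd (nat_lit 11) (Steps.fwd (nat_lit 98304) (Steps.bwd (nat_lit 14) Steps.nil)))))) (nat_lit 180) (nat_lit 1),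
  Rule.mk (nat_lit 0) (nat_lit 194) (Steps.bwd (nat_lit 16) (Steps.bwd (nat_lit 1) (Steps.bwd (nat_lit 3) (Steps.fwd (nat_lit 8192) (Steps.bwd (nat_lit 3) (Steps.bwd (nat_lit 1) (Steps.fwd (nat_lit 16384) (Steps.fwd (nat_lit 8192) (Steps.bwd (nat_lit 2) (Steps.fwd (nat_lit 32768) (Steps.bwd (nat_lit 1) (Steps.bwd (nat_lit 2) Steps.nil)))))))))))) (nat_lit 190) (nat_lit 0),
  Rule.mk (nat_lit 0) (nat_lit 194) (Steps.fwd (nat_lit 8192) (Steps.fwd (nat_lit 16384) (Steps.bwd (nat_lit 1) (Steps.bwd (nat_lit 3) (Steps.fwd (nat_lit 8192) (Steps.fwd (nat_lit 16384) (Steps.bwd (nat_lit 1) (Steps.bwd (nat_lit 2) (Steps.bwd (nat_lit 4) (Steps.fwd (nat_lit 8192) (Steps.fwd (nat_lit 24576) (Steps.fwd (nat_lit 122880) Steps.nil)))))))))))) (nat_lit 190) (nat_lit 1),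
  Rule.mk (nat_lit 0) (nat_lit 194) (Steps.bwd (nat_lit 18) (Steps.bwd (nat_lit 1) (Steps.bwd (nat_lit 3) (Steps.fwd (nat_lit 32768) (Steps.fwd (nat_lit 8192) (Steps.bwd (nat_lit 2) (Steps.bwd (nat_lit 1) (Steps.fwd (nat_lit 24576) (Steps.fwd (nat_lit 8192) (Steps.bwd (nat_lit 3) (Steps.bwd (nat_lit 1) (Steps.fwd (nat_lit 16384) Steps.nil)))))))))))) (nat_lit 192) (nat_lit 0),
  Rule.mk (nat_lit 0) (nat_lit 194) (Steps.bwd (nat_lit 20) (Steps.fwd (nat_lit 8192) (Steps.bwd (nat_lit 2) (Steps.fwd (nat_lit 8192) (Steps.fwd (nat_lit 24576) (Steps.fwd (nat_lit 8192) (Steps.bwd (nat_lit 3) (Steps.fwd (nat_lit 8192) (Steps.bwd (nat_lit 3) (Steps.bwd (nat_lit 1) (Steps.bwd (nat_lit 4) (Steps.bwd (nat_lit 2) Steps.nil)))))))))))) (nat_lit 194) (nat_lit 0),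
  Rule.mk (nat_lit 20) (nat_lit 179) (Steps.fwd (nat_lit 8192) (Steps.bwd (nat_lit 2) (Steps.bwd (nat_lit 1) (Steps.fwd (nat_lit 24576) (Steps.fwd (nat_lit 8192) (Steps.bwd (nat_lit 3) (Steps.bwd (nat_lit 1) (Steps.fwd (nat_lit 16384) (Steps.bwd (nat_lit 1) (Steps.bwd (nat_lit 4) (Steps.fwd (nat_lit 24576) Steps.nil))))))))))) (nat_lit 194) (nat_lit 1),
  Rule.mk (nat_lit 0) (nat_lit 194) (Steps.bwd (nat_lit 3) (Steps.fwd (nat_lit 32768) (Steps.fwd (nat_lit 8192) (Steps.bwd (nat_lit 2) (Steps.bwd (nat_lit 1) (Steps.fwd (nat_lit 24576) (Steps.fwd (nat_lit 8192) (Steps.bwd (nat_lit 3) (Steps.bwd (nat_lit 1) (Steps.fwd (nat_lit 16384) (Steps.bwd (nat_lit 1) (Steps.fwd (nat_lit 163840) Steps.nil)))))))))))) (nat_lit 195) (nat_lit 0),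
  Rule.mk (nat_lit 14) (nat_lit 104) (Steps.bwd (nat_lit 2) (Steps.fwd (nat_lit 57344) (Steps.bwd (nat_lit 3) (Steps.fwd (nat_lit 40960) (Steps.bwd (nat_lit 7) (Steps.fwd (nat_lit 106496) Steps.nil)))))) (nat_lit 174) (nat_lit 0),
  Rule.mk (nat_lit 9) (nat_lit 104) (Steps.bwd (nat_lit 2) (Steps.fwd (nat_lit 98304) (Steps.bwd (nat_lit 3) (Steps.fwd (nat_lit 32768) (Steps.bwd (nat_lit 5) (Steps.fwd (nat_lit 65536) Steps.nil)))))) (nat_lit 184) (nat_lit 0),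
  Rule.mk (nat_lit 17) (nat_lit 179) (Steps.fwd (nat_lit 24576) (Steps.bwd (nat_lit 1) (Steps.bwd (nat_lit 2) (Steps.bwd (nat_lit 1) (Steps.fwd (nat_lit 16384) (Steps.bwd (nat_lit 1) (Steps.bwd (nat_lit 3) (Steps.fwd (nat_lit 8192) (Steps.bwd (nat_lit 4) (Steps.bwd (nat_lit 2) (Steps.bwd (nat_lit 1) Steps.nil))))))))))) (nat_lit 193) (nat_lit 0),
  Rule.mk (nat_lit 17) (nat_lit 179) (Steps.bwd (nat_lit 2) (Steps.bwd (nat_lit 1) (Steps.fwd (nat_lit 24576) (Steps.fwd (nat_lit 8192) (Steps.bwd (nat_lit 3) (Steps.fwd (nat_lit 8192) (Steps.bwd (nat_lit 3) (Steps.fwd (nat_lit 8192) (Steps.fwd (nat_lit 32768) (Steps.bwd (nat_lit 2) (Steps.fwd (nat_lit 8192) Steps.nil))))))))))) (nat_lit 193) (nat_lit 0),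
  Rule.mk (nat_lit 1) (nat_lit 539) (Steps.bwd (nat_lit 2) (Steps.bwd (nat_lit 1) (Steps.bwd (nat_lit 3) (Steps.bwd (nat_lit 1) (Steps.fwd (nat_lit 16384) (Steps.fwd (nat_lit 8192) (Steps.fwd (nat_lit 24576) (Steps.bwd (nat_lit 1) (Steps.fwd (nat_lit 24576) (Steps.fwd (nat_lit 8192) (Steps.bwd (nat_lit 3) (Steps.fwd (nat_lit 8192) (Steps.fwd (nat_lit 24576) (Steps.bwd (nat_lit 1) (Steps.fwd (nat_lit 24576) (Steps.fwd (nat_lit 8192) (Steps.fwd (nat_lit 16384) (Steps.bwd (nat_lit 1) (Steps.bwd (nat_lit 2) (Steps.fwd (nat_lit 8192) (Steps.bwd (nat_lit 2) (Steps.fwd (nat_lit 8192) (Steps.bwd (nat_lit 3) (Steps.fwd (nat_lit 8192) (Steps.bwd (nat_lit 2) (Steps.fwd (nat_lit 8192) (Steps.bwd (nat_lit 3) (Steps.bwd (nat_lit 1) (Steps.fwd (nat_lit 16384) (Steps.bwd (nat_lit 1) (Steps.bwd (nat_lit 2) (Steps.fwd (nat_lit 8192) (Steps.bwd (nat_lit 3) (Steps.fwd (nat_lit 8192) (Steps.bwd (nat_lit 3) Steps.nil)))))))))))))))))))))))))))))))))))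 (nat_lit 12) (nat_lit 31),
  Rule.mk (nat_lit 8) (nat_lit 104) (Steps.fwd (nat_lit 8192) (Steps.fwd (nat_lit 114688) (Steps.bwd (nat_lit 13) (Steps.bwd (nat_lit 7) (Steps.fwd (nat_lit 40960) (Steps.bwd (nat_lit 1) Steps.nil)))))) (nat_lit 155) (nat_lit 6),
  Rule.mk (nat_lit 13) (nat_lit 104) (Steps.bwd (nat_lit 1) (Steps.bwd (nat_lit 9) (Steps.bwd (nat_lit 8) (Steps.fwd (nat_lit 40960) (Steps.bwd (nat_lit 4) (Steps.bwd (nat_lit 1) Steps.nil)))))) (nat_lit 165) (nat_lit 6),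
  Rule.mk (nat_lit 10) (nat_lit 134) (Steps.bwd (nat_lit 1) (Steps.fwd (nat_lit 32768) (Steps.bwd (nat_lit 5) (Steps.bwd (nat_lit 8) (Steps.fwd (nat_lit 73728) (Steps.fwd (nat_lit 90112) (Steps.bwd (nat_lit 14) (Steps.bwd (nat_lit 1) Steps.nil)))))))) (nat_lit 158) (nat_lit 2),
  Rule.mk (nat_lit 7) (nat_lit 164) (Steps.fwd (nat_lit 8192) (Steps.fwd (nat_lit 40960) (Steps.bwd (nat_lit 6) (Steps.fwd (nat_lit 73728) (Steps.bwd (nat_lit 10) (Steps.fwd (nat_lit 90112) (Steps.fwd (nat_lit 98304) (Steps.fwd (nat_lit 106496) (Steps.bwd (nat_lit 14) (Steps.bwd (nat_lit 1) Steps.nil)))))))))) (nat_lit 152) (nat_lit 2),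
  Rule.mk (nat_lit 12) (nat_lit 164) (Steps.bwd (nat_lit 1) (Steps.fwd (nat_lit 32768) (Steps.fwd (nat_lit 40960) (Steps.fwd (nat_lit 65536) (Steps.fwd (nat_lit 73728) (Steps.bwd (nat_lit 10) (Steps.fwd (nat_lit 90112) (Steps.bwd (nat_lit 12) (Steps.bwd (nat_lit 14) (Steps.bwd (nat_lit 1) Steps.nil)))))))))) (nat_lit 162) (nat_lit 2),
  Rule.mk (nat_lit 16) (nat_lit 179) (Steps.bwd (nat_lit 1) (Steps.bwd (nat_lit 3) (Steps.fwd (nat_lit 8192) (Steps.bwd (nat_lit 3) (Steps.fwd (nat_lit 8192) (Steps.bwd (nat_lit 3) (Steps.bwd (nat_lit 1) (Steps.bwd (nat_lit 2) (Steps.fwd (nat_lit 32768) (Steps.fwd (nat_lit 8192) (Steps.bwd (nat_lit 2) Steps.nil))))))))))) (nat_lit 190) (nat_lit 1),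
  Rule.mk (nat_lit 0) (nat_lit 194) (Steps.bwd (nat_lit 16) (Steps.fwd (nat_lit 8192) (Steps.bwd (nat_lit 3) (Steps.fwd (nat_lit 8192) (Steps.bwd (nat_lit 3) (Steps.bwd (nat_lit 1) (Steps.fwd (nat_lit 16384) (Steps.fwd (nat_lit 8192) (Steps.bwd (nat_lit 2) (Steps.fwd (nat_lit 32768) (Steps.bwd (nat_lit 1) (Steps.fwd (nat_lit 24576) Steps.nil)))))))))))) (nat_lit 190) (nat_lit 0),
  Rule.mk (nat_lit 16) (nat_lit 179) (Steps.bwd (nat_lit 1) (Steps.fwd (nat_lit 16384) (Steps.fwd (nat_lit 8192) (Steps.fwd (nat_lit 16384) (Steps.bwd (nat_lit 1) (Steps.bwd (nat_lit 3) (Steps.bwd (nat_lit 1) (Steps.bwd (nat_lit 2) (Steps.bwd (nat_lit 4) (Steps.fwd (nat_lit 8192) (Steps.fwd (nat_lit 24576) Steps.nil))))))))))) (nat_lit 190) (nat_lit 1),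
  Rule.mk (nat_lit 15) (nat_lit 179) (Steps.bwd (nat_lit 3) (Steps.fwd (nat_lit 8192) (Steps.fwd (nat_lit 32768) (Steps.bwd (nat_lit 3) (Steps.bwd (nat_lit 1) (Steps.fwd (nat_lit 24576) (Steps.fwd (nat_lit 8192) (Steps.bwd (nat_lit 2) (Steps.fwd (nat_lit 8192) (Steps.fwd (nat_lit 24576) (Steps.bwd (nat_lit 1) Steps.nil))))))))))) (nat_lit 191) (nat_lit 0),
  Rule.mk (nat_lit 15) (nat_lit 179) (Steps.bwd (nat_lit 3) (Steps.bwd (nat_lit 1) (Steps.bwd (nat_lit 4) (Steps.fwd (nat_lit 16384) (Steps.fwd (nat_lit 8192) (Steps.bwd (nat_lit 2) (Steps.fwd (nat_lit 8192) (Steps.fwd (nat_lit 24576) (Steps.bwd (nat_lit 1) (Steps.bwd (nat_lit 2) (Steps.bwd (nat_lit 1) Steps.nil))))))))))) (nat_lit 191) (nat_lit 0)]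
noncomputable def R_106 : List (Rule) := [Rule.mk (nat_lit 15) (nat_lit 179) (Steps.fwd (nat_lit 16384) (Steps.bwd (nat_lit 1) (Steps.fwd (nat_lit 32768) (Steps.bwd (nat_lit 3) (Steps.bwd (nat_lit 1) (Steps.bwd (nat_lit 2) (Steps.bwd (nat_lit 1) (Steps.fwd (nat_lit 24576) (Steps.fwd (nat_lit 8192) (Steps.fwd (nat_lit 24576) (Steps.fwd (nat_lit 8192) Steps.nil))))))))))) (nat_lit 191) (nat_lit 0),
  Rule.mk (nat_lit 15) (nat_lit 179) (Steps.bwd (nat_lit 3) (Steps.bwd (nat_lit 1) (Steps.fwd (nat_lit 32768) (Steps.bwd (nat_lit 3) (Steps.bwd (nat_lit 1) (Steps.fwd (nat_lit 24576) (Steps.bwd (nat_lit 1) (Steps.fwd (nat_lit 24576) (Steps.fwd (nat_lit 8192) (Steps.fwd (nat_lit 24576) (Steps.bwd (nat_lit 1) Steps.nil))))))))))) (nat_lit 191) (nat_lit 0),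
  Rule.mk (nat_lit 18) (nat_lit 179) (Steps.bwd (nat_lit 1) (Steps.fwd (nat_lit 16384) (Steps.bwd (nat_lit 4) (Steps.fwd (nat_lit 8192) (Steps.bwd (nat_lit 2) (Steps.fwd (nat_lit 8192) (Steps.fwd (nat_lit 24576) (Steps.fwd (nat_lit 8192) (Steps.bwd (nat_lit 3) (Steps.bwd (nat_lit 1) (Steps.fwd (nat_lit 16384) Steps.nil))))))))))) (nat_lit 192) (nat_lit 1),
  Rule.mk (nat_lit 0) (nat_lit 194) (Steps.bwd (nat_lit 18) (Steps.bwd (nat_lit 1) (Steps.fwd (nat_lit 16384) (Steps.bwd (nat_lit 4) (Steps.fwd (nat_lit 8192) (Steps.bwd (nat_lit 2) (Steps.fwd (nat_lit 8192) (Steps.fwd (nat_lit 24576) (Steps.bwd (nat_lit 1) (Steps.fwd (nat_lit 16384) (Steps.fwd (nat_lit 8192) (Steps.fwd (nat_lit 16384) Steps.nil)))))))))))) (nat_lit 192) (nat_lit 0),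
  Rule.mk (nat_lit 0) (nat_lit 194) (Steps.bwd (nat_lit 17) (Steps.fwd (nat_lit 24576) (Steps.bwd (nat_lit 1) (Steps.fwd (nat_lit 24576) (Steps.bwd (nat_lit 1) (Steps.bwd (nat_lit 3) (Steps.fwd (nat_lit 8192) (Steps.fwd (nat_lit 16384) (Steps.fwd (nat_lit 8192) (Steps.fwd (nat_lit 32768) (Steps.bwd (nat_lit 2) (Steps.fwd (nat_lit 8192) Steps.nil)))))))))))) (nat_lit 193) (nat_lit 11),
  Rule.mk (nat_lit 18) (nat_lit 179) (Steps.bwd (nat_lit 1) (Steps.fwd (nat_lit 16384) (Steps.fwd (nat_lit 32768) (Steps.bwd (nat_lit 1) (Steps.fwd (nat_lit 24576) (Steps.bwd (nat_lit 1) (Steps.fwd (nat_lit 24576) (Steps.fwd (nat_lit 8192) (Steps.fwd (nat_lit 16384) (Steps.bwd (nat_lit 1) (Steps.fwd (nat_lit 16384) Steps.nil))))))))))) (nat_lit 192) (nat_lit 1),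
  Rule.mk (nat_lit 17) (nat_lit 179) (Steps.bwd (nat_lit 2) (Steps.fwd (nat_lit 8192) (Steps.fwd (nat_lit 24576) (Steps.bwd (nat_lit 1) (Steps.fwd (nat_lit 16384) (Steps.fwd (nat_lit 8192) (Steps.fwd (nat_lit 16384) (Steps.bwd (nat_lit 1) (Steps.bwd (nat_lit 4) (Steps.bwd (nat_lit 2) (Steps.bwd (nat_lit 1) Steps.nil))))))))))) (nat_lit 193) (nat_lit 0),
  Rule.mk (nat_lit 0) (nat_lit 194) (Steps.bwd (nat_lit 17) (Steps.fwd (nat_lit 24576) (Steps.bwd (nat_lit 1) (Steps.bwd (nat_lit 2) (Steps.bwd (nat_lit 1) (Steps.bwd (nat_lit 3) (Steps.bwd (nat_lit 1) (Steps.fwd (nat_lit 16384) (Steps.fwd (nat_lit 8192) (Steps.fwd (nat_lit 32768) (Steps.bwd (nat_lit 2) (Steps.fwd (nat_lit 8192) Steps.nil)))))))))))) (nat_lit 193) (nat_lit 11),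
  Rule.mk (nat_lit 0) (nat_lit 194) (Steps.bwd (nat_lit 20) (Steps.bwd (nat_lit 1) (Steps.fwd (nat_lit 24576) (Steps.bwd (nat_lit 1) (Steps.bwd (nat_lit 2) (Steps.fwd (nat_lit 8192) (Steps.bwd (nat_lit 3) (Steps.fwd (nat_lit 8192) (Steps.bwd (nat_lit 3) (Steps.bwd (nat_lit 1) (Steps.fwd (nat_lit 32768) (Steps.fwd (nat_lit 24576) Steps.nil)))))))))))) (nat_lit 194) (nat_lit 0),
  Rule.mk (nat_lit 0) (nat_lit 194) (Steps.bwd (nat_lit 3) (Steps.bwd (nat_lit 4) (Steps.fwd (nat_lit 8192) (Steps.bwd (nat_lit 2) (Steps.fwd (nat_lit 8192) (Steps.fwd (nat_lit 24576) (Steps.bwd (nat_lit 1) (Steps.bwd (nat_lit 3) (Steps.fwd (nat_lit 8192) (Steps.fwd (nat_lit 16384) (Steps.bwd (nat_lit 1) (Steps.fwd (nat_lit 163840) Steps.nil)))))))))))) (nat_lit 195) (nat_lit 0),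
  Rule.mk (nat_lit 20) (nat_lit 179) (Steps.fwd (nat_lit 8192) (Steps.bwd (nat_lit 2) (Steps.fwd (nat_lit 8192) (Steps.fwd (nat_lit 24576) (Steps.bwd (nat_lit 1) (Steps.fwd (nat_lit 16384) (Steps.fwd (nat_lit 8192) (Steps.fwd (nat_lit 16384) (Steps.bwd (nat_lit 1) (Steps.bwd (nat_lit 4) (Steps.bwd (nat_lit 2) Steps.nil))))))))))) (nat_lit 194) (nat_lit 1),
  Rule.mk (nat_lit 20) (nat_lit 179) (Steps.fwd (nat_lit 8192) (Steps.fwd (nat_lit 24576) (Steps.bwd (nat_lit 1) (Steps.bwd (nat_lit 2) (Steps.bwd (nat_lit 1) (Steps.bwd (nat_lit 3) (Steps.bwd (nat_lit 1) (Steps.fwd (nat_lit 16384) (Steps.fwd (nat_lit 8192) (Steps.fwd (nat_lit 32768) (Steps.bwd (nat_lit 2) Steps.nil))))))))))) (nat_lit 194) (nat_lit 1),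
  Rule.mk (nat_lit 20) (nat_lit 179) (Steps.bwd (nat_lit 1) (Steps.bwd (nat_lit 2) (Steps.bwd (nat_lit 1) (Steps.fwd (nat_lit 24576) (Steps.fwd (nat_lit 8192) (Steps.bwd (nat_lit 3) (Steps.fwd (nat_lit 8192) (Steps.bwd (nat_lit 3) (Steps.fwd (nat_lit 8192) (Steps.fwd (nat_lit 32768) (Steps.bwd (nat_lit 2) Steps.nil))))))))))) (nat_lit 194) (nat_lit 1),
  Rule.mk (nat_lit 19) (nat_lit 179) (Steps.fwd (nat_lit 16384) (Steps.bwd (nat_lit 4) (Steps.fwd (nat_lit 8192) (Steps.bwd (nat_lit 2) (Steps.fwd (nat_lit 8192) (Steps.fwd (nat_lit 24576) (Steps.fwd (nat_lit 8192) (Steps.bwd (nat_lit 3) (Steps.bwd (nat_lit 1) (Steps.fwd (nat_lit 16384) (Steps.fwd (nat_lit 8192) Steps.nil))))))))))) (nat_lit 195) (nat_lit 0),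
  Rule.mk (nat_lit 19) (nat_lit 179) (Steps.fwd (nat_lit 16384) (Steps.bwd (nat_lit 4) (Steps.fwd (nat_lit 8192) (Steps.bwd (nat_lit 2) (Steps.fwd (nat_lit 8192) (Steps.fwd (nat_lit 24576) (Steps.bwd (nat_lit 1) (Steps.fwd (nat_lit 16384) (Steps.fwd (nat_lit 8192) (Steps.fwd (nat_lit 16384) (Steps.bwd (nat_lit 1) Steps.nil))))))))))) (nat_lit 195) (nat_lit 0),
  Rule.mk (nat_lit 19) (nat_lit 179) (Steps.fwd (nat_lit 16384) (Steps.bwd (nat_lit 4) (Steps.bwd (nat_lit 1) (Steps.bwd (nat_lit 2) (Steps.bwd (nat_lit 1) (Steps.fwd (nat_lit 24576) (Steps.fwd (nat_lit 8192) (Steps.bwd (nat_lit 3) (Steps.fwd (nat_lit 8192) (Steps.bwd (nat_lit 3) (Steps.fwd (nat_lit 8192) Steps.nil))))))))))) (nat_lit 195) (nat_lit 0),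
  Rule.mk (nat_lit 16) (nat_lit 179) (Steps.bwd (nat_lit 1) (Steps.fwd (nat_lit 16384) (Steps.bwd (nat_lit 1) (Steps.bwd (nat_lit 3) (Steps.bwd (nat_lit 1) (Steps.fwd (nat_lit 16384) (Steps.bwd (nat_lit 1) (Steps.fwd (nat_lit 24576) (Steps.bwd (nat_lit 4) (Steps.fwd (nat_lit 8192) (Steps.bwd (nat_lit 2) Steps.nil))))))))))) (nat_lit 190) (nat_lit 1),
  Rule.mk (nat_lit 20) (nat_lit 179) (Steps.fwd (nat_lit 8192) (Steps.bwd (nat_lit 2) (Steps.fwd (nat_lit 8192) (Steps.bwd (nat_lit 2) (Steps.bwd (nat_lit 1) (Steps.bwd (nat_lit 3) (Steps.fwd (nat_lit 8192) (Steps.bwd (nat_lit 3) (Steps.fwd (nat_lit 8192) (Steps.bwd (nat_lit 4) (Steps.bwd (nat_lit 2) Steps.nil))))))))))) (nat_lit 194) (nat_lit 1),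
  Rule.mk (nat_lit 13) (nat_lit 134) (Steps.bwd (nat_lit 3) (Steps.fwd (nat_lit 49152) (Steps.fwd (nat_lit 81920) (Steps.bwd (nat_lit 11) (Steps.bwd (nat_lit 12) (Steps.bwd (nat_lit 13) (Steps.fwd (nat_lit 114688) (Steps.fwd (nat_lit 24576) Steps.nil)))))))) (nat_lit 186) (nat_lit 2),
  Rule.mk (nat_lit 5) (nat_lit 149) (Steps.bwd (nat_lit 3) (Steps.fwd (nat_lit 32768) (Steps.fwd (nat_lit 40960) (Steps.bwd (nat_lit 8) (Steps.fwd (nat_lit 73728) (Steps.fwd (nat_lit 98304) (Steps.bwd (nat_lit 13) (Steps.bwd (nat_lit 14) (Steps.bwd (nat_lit 2) Steps.nil))))))))) (nat_lit 170) (nat_lit 2),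
  Rule.mk (nat_lit 6) (nat_lit 164) (Steps.bwd (nat_lit 3) (Steps.bwd (nat_lit 14) (Steps.fwd (nat_lit 106496) (Steps.fwd (nat_lit 98304) (Steps.fwd (nat_lit 90112) (Steps.bwd (nat_lit 10) (Steps.bwd (nat_lit 9) (Steps.bwd (nat_lit 6) (Steps.fwd (nat_lit 40960) (Steps.fwd (nat_lit 24576) Steps.nil)))))))))) (nat_lit 173) (nat_lit 10),
  Rule.mk (nat_lit 11) (nat_lit 164) (Steps.bwd (nat_lit 3) (Steps.fwd (nat_lit 32768) (Steps.fwd (nat_lit 40960) (Steps.bwd (nat_lit 8) (Steps.fwd (nat_lit 73728) (Steps.bwd (nat_lit 10) (Steps.fwd (nat_lit 90112) (Steps.bwd (nat_lit 12) (Steps.bwd (nat_lit 14) (Steps.fwd (nat_lit 24576) Steps.nil)))))))))) (nat_lit 182) (nat_lit 2),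
  Rule.mk (nat_lit 0) (nat_lit 194) (Steps.bwd (nat_lit 15) (Steps.bwd (nat_lit 3) (Steps.fwd (nat_lit 8192) (Steps.bwd (nat_lit 4) (Steps.bwd (nat_lit 3) (Steps.fwd (nat_lit 8192) (Steps.bwd (nat_lit 2) (Steps.bwd (nat_lit 1) (Steps.bwd (nat_lit 2) (Steps.bwd (nat_lit 1) (Steps.bwd (nat_lit 2) (Steps.bwd (nat_lit 1) Steps.nil)))))))))))) (nat_lit 191) (nat_lit 11),
  Rule.mk (nat_lit 1) (nat_lit 179) (Steps.bwd (nat_lit 3) (Steps.fwd (nat_lit 32768) (Steps.fwd (nat_lit 8192) (Steps.bwd (nat_lit 2) (Steps.bwd (nat_lit 1) (Steps.bwd (nat_lit 2) (Steps.bwd (nat_lit 1) (Steps.fwd (nat_lit 16384) (Steps.bwd (nat_lit 1) (Steps.fwd (nat_lit 16384) (Steps.fwd (nat_lit 139264) Steps.nil))))))))))) (nat_lit 192) (nat_lit 2),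
  Rule.mk (nat_lit 19) (nat_lit 179) (Steps.bwd (nat_lit 3) (Steps.fwd (nat_lit 32768) (Steps.fwd (nat_lit 8192) (Steps.bwd (nat_lit 2) (Steps.bwd (nat_lit 1) (Steps.bwd (nat_lit 2) (Steps.bwd (nat_lit 1) (Steps.fwd (nat_lit 16384) (Steps.bwd (nat_lit 1) (Steps.fwd (nat_lit 16384) (Steps.fwd (nat_lit 8192) Steps.nil))))))))))) (nat_lit 195) (nat_lit 0),
  Rule.mk (nat_lit 0) (nat_lit 554) (Steps.bwd (nat_lit 1) (Steps.bwd (nat_lit 3) (Steps.fwd (nat_lit 8192) (Steps.fwd (nat_lit 16384) (Steps.bwd (nat_lit 1) (Steps.fwd (nat_lit 24576) (Steps.fwd (nat_lit 8192) (Steps.bwd (nat_lit 3) (Steps.fwd (nat_lit 8192) (Steps.bwd (nat_lit 3) (Steps.fwd (nat_lit 8192) (Steps.fwd (nat_lit 24576) (Steps.bwd (nat_lit 1) (Steps.bwd (nat_lit 2) (Steps.fwd (nat_lit 8192) (Steps.fwd (nat_lit 16384) (Steps.fwd (nat_lit 8192) (Steps.bwd (nat_lit 2) (Steps.fwd (nat_lit 8192) (Steps.bwd (nat_lit 2) (Steps.bwd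 (nat_lit 1) (Steps.bwd (nat_lit 3) (Steps.bwd (nat_lit 1) (Steps.fwd (nat_lit 24576) (Steps.fwd (nat_lit 8192) (Steps.fwd (nat_lit 24576) (Steps.fwd (nat_lit 8192) (Steps.fwd (nat_lit 16384) (Steps.bwd (nat_lit 1) (Steps.fwd (nat_lit 24576) (Steps.fwd (nat_lit 8192) (Steps.bwd (nat_lit 3) (Steps.fwd (nat_lit 8192) (Steps.fwd (nat_lit 16384) (Steps.bwd (nat_lit 1) (Steps.fwd (nat_lit 24576) Steps.nil)))))))))))))))))))))))))))))))))))) (nat_lit 12) (nat_lit 26),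
  Rule.mk (nat_lit 16) (nat_lit 179) (Steps.bwd (nat_lit 1) (Steps.bwd (nat_lit 3) (Steps.fwd (nat_lit 8192) (Steps.fwd (nat_lit 16384) (Steps.fwd (nat_lit 8192) (Steps.fwd (nat_lit 16384) (Steps.bwd (nat_lit 1) (Steps.fwd (nat_lit 24576) (Steps.bwd (nat_lit 4) (Steps.bwd (nat_lit 1) (Steps.fwd (nat_lit 24576) Steps.nil))))))))))) (nat_lit 190) (nat_lit 1),
  Rule.mk (nat_lit 0) (nat_lit 194) (Steps.bwd (nat_lit 16) (Steps.fwd (nat_lit 8192) (Steps.bwd (nat_lit 3) (Steps.fwd (nat_lit 8192) (Steps.bwd (nat_lit 3) (Steps.bwd (nat_lit 1) (Steps.bwd (nat_lit 3) (Steps.fwd (nat_lit 8192) (Steps.bwd (nat_lit 2) (Steps.fwd (nat_lit 32768) (Steps.fwd (nat_lit 8192) (Steps.fwd (nat_lit 24576) Steps.nil)))))))))))) (nat_lit 190) (nat_lit 0),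
  Rule.mk (nat_lit 0) (nat_lit 194) (Steps.fwd (nat_lit 16384) (Steps.bwd (nat_lit 1) (Steps.bwd (nat_lit 4) (Steps.bwd (nat_lit 3) (Steps.bwd (nat_lit 1) (Steps.bwd (nat_lit 2) (Steps.bwd (nat_lit 1) (Steps.fwd (nat_lit 24576) (Steps.fwd (nat_lit 8192) (Steps.fwd (nat_lit 24576) (Steps.bwd (nat_lit 1) (Steps.fwd (nat_lit 131072) Steps.nil)))))))))))) (nat_lit 191) (nat_lit 0),
  Rule.mk (nat_lit 16) (nat_lit 179) (Steps.bwd (nat_lit 1) (Steps.bwd (nat_lit 3) (Steps.fwd (nat_lit 8192) (Steps.fwd (nat_lit 16384) (Steps.fwd (nat_lit 8192) (Steps.fwd (nat_lit 16384) (Steps.bwd (nat_lit 1) (Steps.fwd (nat_lit 24576) (Steps.bwd (nat_lit 4) (Steps.fwd (nat_lit 8192) (Steps.bwd (nat_lit 2) Steps.nil))))))))))) (nat_lit 190) (nat_lit 1),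
  Rule.mk (nat_lit 15) (nat_lit 179) (Steps.bwd (nat_lit 3) (Steps.fwd (nat_lit 8192) (Steps.bwd (nat_lit 4) (Steps.bwd (nat_lit 3) (Steps.fwd (nat_lit 8192) (Steps.bwd (nat_lit 2) (Steps.bwd (nat_lit 1) (Steps.fwd (nat_lit 24576) (Steps.bwd (nat_lit 1) (Steps.fwd (nat_lit 24576) (Steps.bwd (nat_lit 1) Steps.nil))))))))))) (nat_lit 191) (nat_lit 0),
  Rule.mk (nat_lit 15) (nat_lit 179) (Steps.bwd (nat_lit 3) (Steps.bwd (nat_lit 1) (Steps.fwd (nat_lit 32768) (Steps.fwd (nat_lit 16384) (Steps.bwd (nat_lit 1) (Steps.fwd (nat_lit 24576) (Steps.bwd (nat_lit 1) (Steps.fwd (nat_lit 24576) (Steps.bwd (nat_lit 1) (Steps.fwd (nat_lit 24576) (Steps.bwd (nat_lit 1) Steps.nil))))))))))) (nat_lit 191) (nat_lit 0),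
  Rule.mk (nat_lit 15) (nat_lit 179) (Steps.bwd (nat_lit 3) (Steps.bwd (nat_lit 1) (Steps.fwd (nat_lit 32768) (Steps.fwd (nat_lit 16384) (Steps.bwd (nat_lit 1) (Steps.bwd (nat_lit 2) (Steps.bwd (nat_lit 1) (Steps.bwd (nat_lit 2) (Steps.fwd (nat_lit 8192) (Steps.bwd (nat_lit 2) (Steps.bwd (nat_lit 1) Steps.nil))))))))))) (nat_lit 191) (nat_lit 0),
  Rule.mk (nat_lit 18) (nat_lit 179) (Steps.fwd (nat_lit 8192) (Steps.fwd (nat_lit 16384) (Steps.bwd (nat_lit 4) (Steps.bwd (nat_lit 1) (Steps.fwd (nat_lit 24576) (Steps.fwd (nat_lit 8192) (Steps.bwd (nat_lit 2) (Steps.fwd (nat_lit 8192) (Steps.bwd (nat_lit 3) (Steps.bwd (nat_lit 1) (Steps.bwd (nat_lit 3) Steps.nil))))))))))) (nat_lit 192) (nat_lit 1),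
  Rule.mk (nat_lit 0) (nat_lit 194) (Steps.bwd (nat_lit 18) (Steps.fwd (nat_lit 8192) (Steps.bwd (nat_lit 3) (Steps.fwd (nat_lit 32768) (Steps.fwd (nat_lit 8192) (Steps.bwd (nat_lit 2) (Steps.bwd (nat_lit 1) (Steps.fwd (nat_lit 24576) (Steps.bwd (nat_lit 1) (Steps.bwd (nat_lit 3) (Steps.fwd (nat_lit 8192) (Steps.fwd (nat_lit 16384) Steps.nil)))))))))))) (nat_lit 192) (nat_lit 0),
  Rule.mk (nat_lit 18) (nat_lit 179) (Steps.bwd (nat_lit 1) (Steps.bwd (nat_lit 3) (Steps.fwd (nat_lit 32768) (Steps.bwd (nat_lit 1) (Steps.bwd (nat_lit 2) (Steps.bwd (nat_lit 1) (Steps.bwd (nat_lit 2) (Steps.fwd (nat_lit 8192) (Steps.fwd (nat_lit 16384) (Steps.bwd (nat_lit 1) (Steps.fwd (nat_lit 16384) Steps.nil))))))))))) (nat_lit 192) (nat_lit 1),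
  Rule.mk (nat_lit 0) (nat_lit 194) (Steps.bwd (nat_lit 1) (Steps.fwd (nat_lit 16384) (Steps.fwd (nat_lit 32768) (Steps.bwd (nat_lit 1) (Steps.bwd (nat_lit 2) (Steps.bwd (nat_lit 1) (Steps.fwd (nat_lit 24576) (Steps.fwd (nat_lit 8192) (Steps.bwd (nat_lit 3) (Steps.fwd (nat_lit 8192) (Steps.fwd (nat_lit 16384) (Steps.fwd (nat_lit 139264) Steps.nil)))))))))))) (nat_lit 192) (nat_lit 1),
  Rule.mk (nat_lit 0) (nat_lit 194) (Steps.bwd (nat_lit 20) (Steps.fwd (nat_lit 8192) (Steps.bwd (nat_lit 2) (Steps.bwd (nat_lit 1) (Steps.fwd (nat_lit 24576) (Steps.bwd (nat_lit 1) (Steps.bwd (nat_lit 3) (Steps.fwd (nat_lit 8192) (Steps.fwd (nat_lit 16384) (Steps.fwd (nat_lit 8192) (Steps.bwd (nat_lit 4) (Steps.bwd (nat_lit 2) Steps.nil)))))))))))) (nat_lit 194) (nat_lit 0),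
  Rule.mk (nat_lit 20) (nat_lit 179) (Steps.bwd (nat_lit 1) (Steps.fwd (nat_lit 24576) (Steps.bwd (nat_lit 1) (Steps.fwd (nat_lit 24576) (Steps.bwd (nat_lit 1) (Steps.fwd (nat_lit 16384) (Steps.fwd (nat_lit 8192) (Steps.fwd (nat_lit 16384) (Steps.bwd (nat_lit 1) (Steps.bwd (nat_lit 4) (Steps.fwd (nat_lit 24576) Steps.nil))))))))))) (nat_lit 194) (nat_lit 1),
  Rule.mk (nat_lit 0) (nat_lit 194) (Steps.bwd (nat_lit 19) (Steps.fwd (nat_lit 16384) (Steps.bwd (nat_lit 4) (Steps.bwd (nat_lit 1) (Steps.fwd (nat_lit 24576) (Steps.fwd (nat_lit 8192) (Steps.bwd (nat_lit 2) (Steps.fwd (nat_lit 8192) (Steps.bwd (nat_lit 3) (Steps.bwd (nat_lit 1) (Steps.bwd (nat_lit 3) (Steps.fwd (nat_lit 8192) Steps.nil)))))))))))) (nat_lit 195) (nat_lit 11),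
  Rule.mk (nat_lit 19) (nat_lit 179) (Steps.bwd (nat_lit 3) (Steps.fwd (nat_lit 32768) (Steps.fwd (nat_lit 8192) (Steps.bwd (nat_lit 2) (Steps.bwd (nat_lit 1) (Steps.fwd (nat_lit 24576) (Steps.bwd (nat_lit 1) (Steps.bwd (nat_lit 3) (Steps.fwd (nat_lit 8192) (Steps.fwd (nat_lit 16384) (Steps.fwd (nat_lit 8192) Steps.nil))))))))))) (nat_lit 195) (nat_lit 0),
  Rule.mk (nat_lit 0) (nat_lit 194) (Steps.bwd (nat_lit 17) (Steps.fwd (nat_lit 24576) (Steps.bwd (nat_lit 1) (Steps.fwd (nat_lit 24576) (Steps.fwd (nat_lit 8192) (Steps.fwd (nat_lit 16384) (Steps.bwd (nat_lit 1) (Steps.bwd (nat_lit 3) (Steps.fwd (nat_lit 8192) (Steps.bwd (nat_lit 4) (Steps.fwd (nat_lit 24576) (Steps.bwd (nat_lit 1) Steps.nil)))))))))))) (nat_lit 193) (nat_lit 11),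
  Rule.mk (nat_lit 2) (nat_lit 179) (Steps.bwd (nat_lit 20) (Steps.bwd (nat_lit 1) (Steps.fwd (nat_lit 24576) (Steps.fwd (nat_lit 8192) (Steps.bwd (nat_lit 2) (Steps.bwd (nat_lit 1) (Steps.bwd (nat_lit 3) (Steps.fwd (nat_lit 8192) (Steps.bwd (nat_lit 3) (Steps.fwd (nat_lit 8192) (Steps.fwd (nat_lit 32768) Steps.nil))))))))))) (nat_lit 194) (nat_lit 0),
  Rule.mk (nat_lit 7) (nat_lit 104) (Steps.fwd (nat_lit 16384) (Steps.bwd (nat_lit 5) (Steps.bwd (nat_lit 7) (Steps.fwd (nat_lit 106496) (Steps.fwd (nat_lit 114688) (Steps.bwd (nat_lit 2) Steps.nil)))))) (nat_lit 174) (nat_lit 2),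
  Rule.mk (nat_lit 14) (nat_lit 119) (Steps.fwd (nat_lit 16384) (Steps.fwd (nat_lit 40960) (Steps.fwd (nat_lit 49152) (Steps.fwd (nat_lit 57344) (Steps.bwd (nat_lit 12) (Steps.fwd (nat_lit 114688) (Steps.bwd (nat_lit 2) Steps.nil))))))) (nat_lit 188) (nat_lit 2),
  Rule.mk (nat_lit 13) (nat_lit 134) (Steps.bwd (nat_lit 3) (Steps.fwd (nat_lit 49152) (Steps.bwd (nat_lit 10) (Steps.bwd (nat_lit 11) (Steps.bwd (nat_lit 12) (Steps.fwd (nat_lit 106496) (Steps.fwd (nat_lit 114688) (Steps.bwd (nat_lit 2) Steps.nil)))))))) (nat_lit 186) (nat_lit 2),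
  Rule.mk (nat_lit 5) (nat_lit 149) (Steps.fwd (nat_lit 16384) (Steps.bwd (nat_lit 4) (Steps.bwd (nat_lit 5) (Steps.bwd (nat_lit 8) (Steps.fwd (nat_lit 73728) (Steps.bwd (nat_lit 12) (Steps.fwd (nat_lit 106496) (Steps.fwd (nat_lit 114688) (Steps.bwd (nat_lit 2) Steps.nil))))))))) (nat_lit 170) (nat_lit 2),
  Rule.mk (nat_lit 6) (nat_lit 164) (Steps.fwd (nat_lit 16384) (Steps.fwd (nat_lit 40960) (Steps.fwd (nat_lit 49152) (Steps.fwd (nat_lit 73728) (Steps.bwd (nat_lit 10) (Steps.bwd (nat_lit 11) (Steps.bwd (nat_lit 12) (Steps.fwd (nat_lit 106496) (Steps.fwd (nat_lit 114688) (Steps.bwd (nat_lit 2) Steps.nil)))))))))) (nat_lit 172) (nat_lit 2),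
  Rule.mk (nat_lit 16) (nat_lit 179) (Steps.bwd (nat_lit 1) (Steps.fwd (nat_lit 16384) (Steps.bwd (nat_lit 1) (Steps.bwd (nat_lit 3) (Steps.fwd (nat_lit 8192) (Steps.bwd (nat_lit 3) (Steps.fwd (nat_lit 8192) (Steps.bwd (nat_lit 2) (Steps.bwd (nat_lit 4) (Steps.bwd (nat_lit 1) (Steps.bwd (nat_lit 2) Steps.nil))))))))))) (nat_lit 190) (nat_lit 1),
  Rule.mk (nat_lit 1) (nat_lit 539) (Steps.bwd (nat_lit 3) (Steps.bwd (nat_lit 1) (Steps.fwd (nat_lit 16384) (Steps.fwd (nat_lit 8192) (Steps.bwd (nat_lit 2) (Steps.bwd (nat_lit 1) (Steps.bwd (nat_lit 3) (Steps.bwd (nat_lit 1) (Steps.fwd (nat_lit 16384) (Steps.bwd (nat_lit 1) (Steps.bwd (nat_lit 2) (Steps.bwd (nat_lit 1) (Steps.bwd (nat_lit 3) (Steps.bwd (nat_lit 1) (Steps.bwd (nat_lit 3) (Steps.bwd (nat_lit 1) (Steps.fwd (nat_lit 24576) (Steps.bwd (nat_lit 1) (Steps.fwd (nat_lit 24576) (Steps.fwd (nat_lit 8192) (Steps.fwd (nat_lit 16384) (Steps.bwd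 (nat_lit 1) (Steps.fwd (nat_lit 24576) (Steps.fwd (nat_lit 8192) (Steps.fwd (nat_lit 24576) (Steps.bwd (nat_lit 1) (Steps.fwd (nat_lit 16384) (Steps.bwd (nat_lit 1) (Steps.fwd (nat_lit 24576) (Steps.fwd (nat_lit 8192) (Steps.bwd (nat_lit 2) (Steps.fwd (nat_lit 8192) (Steps.fwd (nat_lit 16384) (Steps.bwd (nat_lit 1) (Steps.bwd (nat_lit 2) Steps.nil))))))))))))))))))))))))))))))))))) (nat_lit 12) (nat_lit 21),
  Rule.mk (nat_lit 16) (nat_lit 179) (Steps.fwd (nat_lit 8192) (Steps.bwd (nat_lit 3) (Steps.fwd (nat_lit 8192) (Steps.fwd (nat_lit 16384) (Steps.fwd (nat_lit 8192) (Steps.fwd (nat_lit 16384) (Steps.bwd (nat_lit 1) (Steps.fwd (nat_lit 24576) (Steps.bwd (nat_lit 4) (Steps.fwd (nat_lit 8192) (Steps.bwd (nat_lit 2) Steps.nil))))))))))) (nat_lit 190) (nat_lit 1),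
  Rule.mk (nat_lit 0) (nat_lit 194) (Steps.bwd (nat_lit 16) (Steps.fwd (nat_lit 8192) (Steps.fwd (nat_lit 16384) (Steps.fwd (nat_lit 8192) (Steps.fwd (nat_lit 16384) (Steps.bwd (nat_lit 1) (Steps.bwd (nat_lit 3) (Steps.bwd (nat_lit 1) (Steps.fwd (nat_lit 24576) (Steps.fwd (nat_lit 32768) (Steps.bwd (nat_lit 1) (Steps.bwd (nat_lit 2) Steps.nil)))))))))))) (nat_lit 190) (nat_lit 0),
  Rule.mk (nat_lit 16) (nat_lit 179) (Steps.bwd (nat_lit 1) (Steps.bwd (nat_lit 3) (Steps.bwd (nat_lit 1) (Steps.fwd (nat_lit 16384) (Steps.fwd (nat_lit 8192) (Steps.fwd (nat_lit 16384) (Steps.bwd (nat_lit 1) (Steps.fwd (nat_lit 24576) (Steps.fwd (nat_lit 32768) (Steps.fwd (nat_lit 8192) (Steps.bwd (nat_lit 2) Steps.nil))))))))))) (nat_lit 190) (nat_lit 1),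
  Rule.mk (nat_lit 15) (nat_lit 179) (Steps.bwd (nat_lit 3) (Steps.bwd (nat_lit 1) (Steps.fwd (nat_lit 32768) (Steps.bwd (nat_lit 3) (Steps.fwd (nat_lit 8192) (Steps.fwd (nat_lit 24576) (Steps.bwd (nat_lit 1) (Steps.fwd (nat_lit 24576) (Steps.bwd (nat_lit 1) (Steps.bwd (nat_lit 2) (Steps.bwd (nat_lit 1) Steps.nil))))))))))) (nat_lit 191) (nat_lit 0),
  Rule.mk (nat_lit 15) (nat_lit 179) (Steps.bwd (nat_lit 3) (Steps.bwd (nat_lit 1) (Steps.bwd (nat_lit 4) (Steps.fwd (nat_lit 16384) (Steps.bwd (nat_lit 1) (Steps.fwd (nat_lit 24576) (Steps.bwd (nat_lit 1) (Steps.bwd (nat_lit 2) (Steps.bwd (nat_lit 1) (Steps.fwd (nat_lit 24576) (Steps.bwd (nat_lit 1) Steps.nil))))))))))) (nat_lit 191) (nat_lit 0),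
  Rule.mk (nat_lit 0) (nat_lit 194) (Steps.bwd (nat_lit 15) (Steps.fwd (nat_lit 16384) (Steps.fwd (nat_lit 8192) (Steps.fwd (nat_lit 32768) (Steps.fwd (nat_lit 16384) (Steps.bwd (nat_lit 1) (Steps.bwd (nat_lit 2) (Steps.bwd (nat_lit 1) (Steps.fwd (nat_lit 24576) (Steps.bwd (nat_lit 1) (Steps.fwd (nat_lit 24576) (Steps.fwd (nat_lit 8192) Steps.nil)))))))))))) (nat_lit 191) (nat_lit 11),
  Rule.mk (nat_lit 0) (nat_lit 194) (Steps.bwd (nat_lit 15) (Steps.bwd (nat_lit 3) (Steps.fwd (nat_lit 8192) (Steps.fwd (nat_lit 32768) (Steps.fwd (nat_lit 16384) (Steps.bwd (nat_lit 1) (Steps.fwd (nat_lit 24576) (Steps.bwd (nat_lit 1) (Steps.fwd (nat_lit 24576) (Steps.fwd (nat_lit 8192) (Steps.bwd (nat_lit 2) (Steps.bwd (nat_lit 1) Steps.nil)))))))))))) (nat_lit 191) (nat_lit 11),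
  Rule.mk (nat_lit 15) (nat_lit 179) (Steps.fwd (nat_lit 16384) (Steps.bwd (nat_lit 1) (Steps.bwd (nat_lit 4) (Steps.fwd (nat_lit 16384) (Steps.bwd (nat_lit 1) (Steps.bwd (nat_lit 2) (Steps.bwd (nat_lit 1) (Steps.fwd (nat_lit 24576) (Steps.bwd (nat_lit 1) (Steps.bwd (nat_lit 2) (Steps.fwd (nat_lit 8192) Steps.nil))))))))))) (nat_lit 191) (nat_lit 0),
  Rule.mk (nat_lit 0) (nat_lit 194) (Steps.bwd (nat_lit 18) (Steps.fwd (nat_lit 8192) (Steps.fwd (nat_lit 16384) (Steps.bwd (nat_lit 4) (Steps.bwd (nat_lit 1) (Steps.bwd (nat_lit 2) (Steps.bwd (nat_lit 1) (Steps.bwd (nat_lit 2) (Steps.fwd (nat_lit 8192) (Steps.fwd (nat_lit 16384) (Steps.bwd (nat_lit 1) (Steps.bwd (nat_lit 3) Steps.nil)))))))))))) (nat_lit 192) (nat_lit 0),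
  Rule.mk (nat_lit 0) (nat_lit 194) (Steps.bwd (nat_lit 18) (Steps.fwd (nat_lit 8192) (Steps.bwd (nat_lit 3) (Steps.fwd (nat_lit 32768) (Steps.bwd (nat_lit 1) (Steps.fwd (nat_lit 24576) (Steps.bwd (nat_lit 1) (Steps.fwd (nat_lit 24576) (Steps.fwd (nat_lit 8192) (Steps.fwd (nat_lit 16384) (Steps.bwd (nat_lit 1) (Steps.fwd (nat_lit 16384) Steps.nil)))))))))))) (nat_lit 192) (nat_lit 0),
  Rule.mk (nat_lit 18) (nat_lit 179) (Steps.bwd (nat_lit 1) (Steps.bwd (nat_lit 3) (Steps.fwd (nat_lit 32768) (Steps.bwd (nat_lit 1) (Steps.bwd (nat_lit 2) (Steps.bwd (nat_lit 1) (Steps.fwd (nat_lit 24576) (Steps.bwd (nat_lit 1) (Steps.fwd (nat_lit 16384) (Steps.bwd (nat_lit 1) (Steps.fwd (nat_lit 16384) Steps.nil))))))))))) (nat_lit 192) (nat_lit 1),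
  Rule.mk (nat_lit 17) (nat_lit 179) (Steps.fwd (nat_lit 24576) (Steps.fwd (nat_lit 8192) (Steps.bwd (nat_lit 2) (Steps.bwd (nat_lit 1) (Steps.bwd (nat_lit 3) (Steps.fwd (nat_lit 8192) (Steps.bwd (nat_lit 3) (Steps.fwd (nat_lit 8192) (Steps.fwd (nat_lit 32768) (Steps.bwd (nat_lit 2) (Steps.bwd (nat_lit 1) Steps.nil))))))))))) (nat_lit 193) (nat_lit 0),
  Rule.mk (nat_lit 17) (nat_lit 179) (Steps.fwd (nat_lit 24576) (Steps.bwd (nat_lit 1) (Steps.bwd (nat_lit 2) (Steps.fwd (nat_lit 8192) (Steps.fwd (nat_lit 16384) (Steps.fwd (nat_lit 8192) (Steps.fwd (nat_lit 16384) (Steps.bwd (nat_lit 1) (Steps.bwd (nat_lit 4) (Steps.bwd (nat_lit 2) (Steps.fwd (nat_lit 8192) Steps.nil))))))))))) (nat_lit 193) (nat_lit 0),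
  Rule.mk (nat_lit 0) (nat_lit 194) (Steps.fwd (nat_lit 8192) (Steps.bwd (nat_lit 3) (Steps.fwd (nat_lit 32768) (Steps.fwd (nat_lit 8192) (Steps.fwd (nat_lit 24576) (Steps.fwd (nat_lit 8192) (Steps.bwd (nat_lit 2) (Steps.bwd (nat_lit 1) (Steps.fwd (nat_lit 16384) (Steps.fwd (nat_lit 8192) (Steps.fwd (nat_lit 16384) (Steps.fwd (nat_lit 139264) Steps.nil)))))))))))) (nat_lit 192) (nat_lit 1)]
noncomputable def R_107 : List (Rule) := [Rule.mk (nat_lit 17) (nat_lit 179) (Steps.fwd (nat_lit 24576) (Steps.bwd (nat_lit 1) (Steps.bwd (nat_lit 2) (Steps.bwd (nat_lit 1) (Steps.bwd (nat_lit 3) (Steps.bwd (nat_lit 1) (Steps.fwd (nat_lit 16384) (Steps.fwd (nat_lit 8192) (Steps.bwd (nat_lit 4) (Steps.bwd (nat_lit 2) (Steps.fwd (nat_lit 8192) Steps.nil))))))))))) (nat_lit 193) (nat_lit 0),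
  Rule.mk (nat_lit 0) (nat_lit 194) (Steps.bwd (nat_lit 19) (Steps.fwd (nat_lit 16384) (Steps.fwd (nat_lit 32768) (Steps.fwd (nat_lit 8192) (Steps.bwd (nat_lit 2) (Steps.bwd (nat_lit 1) (Steps.bwd (nat_lit 2) (Steps.bwd (nat_lit 1) (Steps.fwd (nat_lit 16384) (Steps.fwd (nat_lit 8192) (Steps.bwd (nat_lit 3) (Steps.fwd (nat_lit 8192) Steps.nil)))))))))))) (nat_lit 195) (nat_lit 11),
  Rule.mk (nat_lit 20) (nat_lit 179) (Steps.bwd (nat_lit 1) (Steps.bwd (nat_lit 2) (Steps.bwd (nat_lit 1) (Steps.bwd (nat_lit 2) (Steps.fwd (nat_lit 8192) (Steps.fwd (nat_lit 16384) (Steps.bwd (nat_lit 1) (Steps.bwd (nat_lit 3) (Steps.bwd (nat_lit 1) (Steps.bwd (nat_lit 4) (Steps.fwd (nat_lit 24576) Steps.nil))))))))))) (nat_lit 194) (nat_lit 1),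
  Rule.mk (nat_lit 20) (nat_lit 179) (Steps.bwd (nat_lit 1) (Steps.fwd (nat_lit 24576) (Steps.bwd (nat_lit 1) (Steps.bwd (nat_lit 2) (Steps.bwd (nat_lit 1) (Steps.bwd (nat_lit 3) (Steps.bwd (nat_lit 1) (Steps.fwd (nat_lit 16384) (Steps.fwd (nat_lit 8192) (Steps.bwd (nat_lit 4) (Steps.bwd (nat_lit 2) Steps.nil))))))))))) (nat_lit 194) (nat_lit 1),
  Rule.mk (nat_lit 0) (nat_lit 194) (Steps.bwd (nat_lit 19) (Steps.fwd (nat_lit 16384) (Steps.bwd (nat_lit 4) (Steps.bwd (nat_lit 1) (Steps.bwd (nat_lit 2) (Steps.bwd (nat_lit 1) (Steps.bwd (nat_lit 2) (Steps.fwd (nat_lit 8192) (Steps.fwd (nat_lit 16384) (Steps.bwd (nat_lit 1) (Steps.bwd (nat_lit 3) (Steps.bwd (nat_lit 1) Steps.nil)))))))))))) (nat_lit 195) (nat_lit 11),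
  Rule.mk (nat_lit 19) (nat_lit 179) (Steps.fwd (nat_lit 16384) (Steps.fwd (nat_lit 32768) (Steps.bwd (nat_lit 1) (Steps.fwd (nat_lit 24576) (Steps.bwd (nat_lit 1) (Steps.bwd (nat_lit 2) (Steps.bwd (nat_lit 1) (Steps.bwd (nat_lit 3) (Steps.bwd (nat_lit 1) (Steps.fwd (nat_lit 16384) (Steps.fwd (nat_lit 8192) Steps.nil))))))))))) (nat_lit 195) (nat_lit 0),
  Rule.mk (nat_lit 19) (nat_lit 179) (Steps.bwd (nat_lit 3) (Steps.fwd (nat_lit 32768) (Steps.bwd (nat_lit 1) (Steps.fwd (nat_lit 24576) (Steps.bwd (nat_lit 1) (Steps.fwd (nat_lit 24576) (Steps.fwd (nat_lit 8192) (Steps.fwd (nat_lit 16384) (Steps.bwd (nat_lit 1) (Steps.fwd (nat_lit 16384) (Steps.bwd (nat_lit 1) Steps.nil))))))))))) (nat_lit 195) (nat_lit 0),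
  Rule.mk (nat_lit 18) (nat_lit 179) (Steps.fwd (nat_lit 8192) (Steps.fwd (nat_lit 16384) (Steps.bwd (nat_lit 4) (Steps.bwd (nat_lit 1) (Steps.fwd (nat_lit 24576) (Steps.bwd (nat_lit 1) (Steps.fwd (nat_lit 24576) (Steps.fwd (nat_lit 8192) (Steps.fwd (nat_lit 16384) (Steps.fwd (nat_lit 8192) (Steps.bwd (nat_lit 3) Steps.nil))))))))))) (nat_lit 192) (nat_lit 1),
  Rule.mk (nat_lit 19) (nat_lit 179) (Steps.fwd (nat_lit 16384) (Steps.bwd (nat_lit 4) (Steps.bwd (nat_lit 1) (Steps.fwd (nat_lit 24576) (Steps.bwd (nat_lit 1) (Steps.fwd (nat_lit 24576) (Steps.fwd (nat_lit 8192) (Steps.fwd (nat_lit 16384) (Steps.fwd (nat_lit 8192) (Steps.bwd (nat_lit 3) (Steps.fwd (nat_lit 8192) Steps.nil))))))))))) (nat_lit 195) (nat_lit 0),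
  Rule.mk (nat_lit 17) (nat_lit 179) (Steps.bwd (nat_lit 2) (Steps.bwd (nat_lit 1) (Steps.bwd (nat_lit 2) (Steps.bwd (nat_lit 1) (Steps.fwd (nat_lit 16384) (Steps.fwd (nat_lit 8192) (Steps.bwd (nat_lit 3) (Steps.fwd (nat_lit 8192) (Steps.fwd (nat_lit 32768) (Steps.fwd (nat_lit 24576) (Steps.fwd (nat_lit 8192) Steps.nil))))))))))) (nat_lit 193) (nat_lit 0),
  Rule.mk (nat_lit 1) (nat_lit 179) (Steps.bwd (nat_lit 19) (Steps.fwd (nat_lit 16384) (Steps.bwd (nat_lit 4) (Steps.bwd (nat_lit 1) (Steps.bwd (nat_lit 2) (Steps.fwd (nat_lit 8192) (Steps.bwd (nat_lit 2) (Steps.bwd (nat_lit 1) (Steps.fwd (nat_lit 16384) (Steps.fwd (nat_lit 8192) (Steps.bwd (nat_lit 3) Steps.nil))))))))))) (nat_lit 195) (nat_lit 11),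
  Rule.mk (nat_lit 14) (nat_lit 89) (Steps.bwd (nat_lit 7) (Steps.fwd (nat_lit 32768) (Steps.fwd (nat_lit 8192) (Steps.bwd (nat_lit 9) (Steps.bwd (nat_lit 1) Steps.nil))))) (nat_lit 157) (nat_lit 1),
  Rule.mk (nat_lit 11) (nat_lit 104) (Steps.fwd (nat_lit 8192) (Steps.fwd (nat_lit 49152) (Steps.fwd (nat_lit 90112) (Steps.bwd (nat_lit 12) (Steps.fwd (nat_lit 114688) (Steps.bwd (nat_lit 1) Steps.nil)))))) (nat_lit 160) (nat_lit 2),
  Rule.mk (nat_lit 10) (nat_lit 134) (Steps.fwd (nat_lit 8192) (Steps.bwd (nat_lit 4) (Steps.fwd (nat_lit 40960) (Steps.fwd (nat_lit 65536) (Steps.bwd (nat_lit 9) (Steps.fwd (nat_lit 90112) (Steps.fwd (nat_lit 114688) (Steps.bwd (nat_lit 1) Steps.nil)))))))) (nat_lit 158) (nat_lit 2),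
  Rule.mk (nat_lit 7) (nat_lit 164) (Steps.fwd (nat_lit 8192) (Steps.fwd (nat_lit 40960) (Steps.fwd (nat_lit 49152) (Steps.bwd (nat_lit 9) (Steps.bwd (nat_lit 10) (Steps.fwd (nat_lit 90112) (Steps.bwd (nat_lit 12) (Steps.bwd (nat_lit 13) (Steps.fwd (nat_lit 114688) (Steps.bwd (nat_lit 1) Steps.nil)))))))))) (nat_lit 152) (nat_lit 2),
  Rule.mk (nat_lit 12) (nat_lit 164) (Steps.bwd (nat_lit 1) (Steps.bwd (nat_lit 4) (Steps.fwd (nat_lit 40960) (Steps.bwd (nat_lit 8) (Steps.fwd (nat_lit 73728) (Steps.bwd (nat_lit 10) (Steps.fwd (nat_lit 90112) (Steps.bwd (nat_lit 12) (Steps.fwd (nat_lit 114688) (Steps.bwd (nat_lit 1) Steps.nil)))))))))) (nat_lit 162) (nat_lit 2),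
  Rule.mk (nat_lit 17) (nat_lit 179) (Steps.bwd (nat_lit 2) (Steps.bwd (nat_lit 1) (Steps.fwd (nat_lit 24576) (Steps.bwd (nat_lit 1) (Steps.fwd (nat_lit 16384) (Steps.fwd (nat_lit 8192) (Steps.fwd (nat_lit 16384) (Steps.bwd (nat_lit 1) (Steps.bwd (nat_lit 4) (Steps.fwd (nat_lit 24576) (Steps.bwd (nat_lit 1) Steps.nil))))))))))) (nat_lit 193) (nat_lit 0),
  Rule.mk (nat_lit 3) (nat_lit 539) (Steps.fwd (nat_lit 8192) (Steps.bwd (nat_lit 3) (Steps.bwd (nat_lit 1) (Steps.fwd (nat_lit 24576) (Steps.bwd (nat_lit 1) (Steps.fwd (nat_lit 24576) (Steps.bwd (nat_lit 1) (Steps.bwd (nat_lit 3) (Steps.bwd (nat_lit 1) (Steps.bwd (nat_lit 2) (Steps.fwd (nat_lit 8192) (Steps.fwd (nat_lit 24576) (Steps.fwd (nat_lit 8192) (Steps.bwd (nat_lit 3) (Steps.fwd (nat_lit 8192) (Steps.bwd (nat_lit 2) (Steps.bwd (nat_lit 1) (Steps.fwd (nat_lit 24576) (Steps.bwd (nat_lit 1) (Steps.bwd (nat_lit 3) (Steps.bwd (nat_lit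 1) (Steps.bwd (nat_lit 2) (Steps.fwd (nat_lit 8192) (Steps.fwd (nat_lit 16384) (Steps.fwd (nat_lit 8192) (Steps.bwd (nat_lit 3) (Steps.fwd (nat_lit 8192) (Steps.fwd (nat_lit 24576) (Steps.fwd (nat_lit 8192) (Steps.bwd (nat_lit 3) (Steps.fwd (nat_lit 8192) (Steps.bwd (nat_lit 3) (Steps.fwd (nat_lit 8192) (Steps.fwd (nat_lit 24576) (Steps.bwd (nat_lit 1) Steps.nil))))))))))))))))))))))))))))))))))) (nat_lit 12) (nat_lit 34),
  Rule.mk (nat_lit 2) (nat_lit 539) (Steps.fwd (nat_lit 8192) (Steps.bwd (nat_lit 3) (Steps.bwd (nat_lit 1) (Steps.fwd (nat_lit 16384) (Steps.fwd (nat_lit 8192) (Steps.bwd (nat_lit 2) (Steps.fwd (nat_lit 8192) (Steps.fwd (nat_lit 24576) (Steps.bwd (nat_lit 1) (Steps.bwd (nat_lit 3) (Steps.bwd (nat_lit 1) (Steps.bwd (nat_lit 2) (Steps.fwd (nat_lit 8192) (Steps.bwd (nat_lit 2) (Steps.bwd (nat_lit 1) (Steps.bwd (nat_lit 3) (Steps.bwd (nat_lit 1) (Steps.bwd (nat_lit 2) (Steps.bwd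 (nat_lit 1) (Steps.fwd (nat_lit 24576) (Steps.fwd (nat_lit 8192) (Steps.fwd (nat_lit 16384) (Steps.bwd (nat_lit 1) (Steps.bwd (nat_lit 2) (Steps.bwd (nat_lit 1) (Steps.bwd (nat_lit 3) (Steps.bwd (nat_lit 1) (Steps.bwd (nat_lit 3) (Steps.fwd (nat_lit 8192) (Steps.bwd (nat_lit 2) (Steps.bwd (nat_lit 1) (Steps.fwd (nat_lit 16384) (Steps.fwd (nat_lit 8192) (Steps.bwd (nat_lit 3) (Steps.bwd (nat_lit 1) Steps.nil))))))))))))))))))))))))))))))))))) (nat_lit 12) (nat_lit 32),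
  Rule.mk (nat_lit 16) (nat_lit 179) (Steps.fwd (nat_lit 8192) (Steps.bwd (nat_lit 3) (Steps.bwd (nat_lit 1) (Steps.fwd (nat_lit 16384) (Steps.fwd (nat_lit 8192) (Steps.bwd (nat_lit 3) (Steps.bwd (nat_lit 1) (Steps.fwd (nat_lit 24576) (Steps.bwd (nat_lit 4) (Steps.fwd (nat_lit 8192) (Steps.bwd (nat_lit 2) Steps.nil))))))))))) (nat_lit 190) (nat_lit 1),
  Rule.mk (nat_lit 15) (nat_lit 179) (Steps.bwd (nat_lit 3) (Steps.fwd (nat_lit 8192) (Steps.bwd (nat_lit 4) (Steps.bwd (nat_lit 3) (Steps.fwd (nat_lit 8192) (Steps.fwd (nat_lit 24576) (Steps.bwd (nat_lit 1) (Steps.fwd (nat_lit 24576) (Steps.fwd (nat_lit 8192) (Steps.fwd (nat_lit 24576) (Steps.bwd (nat_lit 1) Steps.nil))))))))))) (nat_lit 191) (nat_lit 0),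
  Rule.mk (nat_lit 0) (nat_lit 194) (Steps.bwd (nat_lit 15) (Steps.fwd (nat_lit 16384) (Steps.bwd (nat_lit 1) (Steps.fwd (nat_lit 32768) (Steps.bwd (nat_lit 3) (Steps.bwd (nat_lit 1) (Steps.fwd (nat_lit 24576) (Steps.fwd (nat_lit 8192) (Steps.fwd (nat_lit 24576) (Steps.bwd (nat_lit 1) (Steps.bwd (nat_lit 2) (Steps.fwd (nat_lit 8192) Steps.nil)))))))))))) (nat_lit 191) (nat_lit 11),
  Rule.mk (nat_lit 0) (nat_lit 194) (Steps.bwd (nat_lit 15) (Steps.bwd (nat_lit 3) (Steps.fwd (nat_lit 8192) (Steps.bwd (nat_lit 4) (Steps.fwd (nat_lit 16384) (Steps.fwd (nat_lit 8192) (Steps.fwd (nat_lit 24576) (Steps.bwd (nat_lit 1) (Steps.bwd (nat_lit 2) (Steps.fwd (nat_lit 8192) (Steps.bwd (nat_lit 2) (Steps.fwd (nat_lit 8192) Steps.nil)))))))))))) (nat_lit 191) (nat_lit 11),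
  Rule.mk (nat_lit 15) (nat_lit 179) (Steps.fwd (nat_lit 16384) (Steps.fwd (nat_lit 8192) (Steps.fwd (nat_lit 32768) (Steps.bwd (nat_lit 3) (Steps.fwd (nat_lit 8192) (Steps.bwd (nat_lit 2) (Steps.bwd (nat_lit 1) (Steps.bwd (nat_lit 2) (Steps.fwd (nat_lit 8192) (Steps.fwd (nat_lit 24576) (Steps.bwd (nat_lit 1) Steps.nil))))))))))) (nat_lit 191) (nat_lit 0),
  Rule.mk (nat_lit 0) (nat_lit 194) (Steps.bwd (nat_lit 18) (Steps.fwd (nat_lit 8192) (Steps.fwd (nat_lit 16384) (Steps.fwd (nat_lit 32768) (Steps.bwd (nat_lit 1) (Steps.bwd (nat_lit 2) (Steps.fwd (nat_lit 8192) (Steps.fwd (nat_lit 24576) (Steps.bwd (nat_lit 1) (Steps.fwd (nat_lit 16384) (Steps.fwd (nat_lit 8192) (Steps.bwd (nat_lit 3) Steps.nil)))))))))))) (nat_lit 192) (nat_lit 0),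
  Rule.mk (nat_lit 18) (nat_lit 179) (Steps.fwd (nat_lit 8192) (Steps.fwd (nat_lit 16384) (Steps.bwd (nat_lit 4) (Steps.fwd (nat_lit 8192) (Steps.fwd (nat_lit 24576) (Steps.bwd (nat_lit 1) (Steps.fwd (nat_lit 24576) (Steps.fwd (nat_lit 8192) (Steps.bwd (nat_lit 3) (Steps.bwd (nat_lit 1) (Steps.fwd (nat_lit 16384) Steps.nil))))))))))) (nat_lit 192) (nat_lit 1),
  Rule.mk (nat_lit 18) (nat_lit 179) (Steps.bwd (nat_lit 1) (Steps.bwd (nat_lit 3) (Steps.bwd (nat_lit 4) (Steps.bwd (nat_lit 1) (Steps.fwd (nat_lit 24576) (Steps.fwd (nat_lit 8192) (Steps.fwd (nat_lit 24576) (Steps.bwd (nat_lit 1) (Steps.fwd (nat_lit 16384) (Steps.fwd (nat_lit 8192) (Steps.bwd (nat_lit 3) Steps.nil))))))))))) (nat_lit 192) (nat_lit 1),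
  Rule.mk (nat_lit 17) (nat_lit 179) (Steps.fwd (nat_lit 24576) (Steps.fwd (nat_lit 8192) (Steps.fwd (nat_lit 24576) (Steps.bwd (nat_lit 1) (Steps.fwd (nat_lit 16384) (Steps.fwd (nat_lit 8192) (Steps.bwd (nat_lit 3) (Steps.bwd (nat_lit 1) (Steps.bwd (nat_lit 4) (Steps.fwd (nat_lit 24576) (Steps.fwd (nat_lit 8192) Steps.nil))))))))))) (nat_lit 193) (nat_lit 0),
  Rule.mk (nat_lit 20) (nat_lit 179) (Steps.fwd (nat_lit 8192) (Steps.fwd (nat_lit 24576) (Steps.bwd (nat_lit 1) (Steps.bwd (nat_lit 2) (Steps.fwd (nat_lit 8192) (Steps.bwd (nat_lit 3) (Steps.bwd (nat_lit 1) (Steps.fwd (nat_lit 16384) (Steps.fwd (nat_lit 8192) (Steps.fwd (nat_lit 32768) (Steps.bwd (nat_lit 2) Steps.nil))))))))))) (nat_lit 194) (nat_lit 1),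
  Rule.mk (nat_lit 20) (nat_lit 179) (Steps.bwd (nat_lit 1) (Steps.bwd (nat_lit 2) (Steps.fwd (nat_lit 8192) (Steps.fwd (nat_lit 24576) (Steps.bwd (nat_lit 1) (Steps.fwd (nat_lit 16384) (Steps.fwd (nat_lit 8192) (Steps.bwd (nat_lit 3) (Steps.bwd (nat_lit 1) (Steps.fwd (nat_lit 32768) (Steps.fwd (nat_lit 24576) Steps.nil))))))))))) (nat_lit 194) (nat_lit 1),
  Rule.mk (nat_lit 0) (nat_lit 194) (Steps.bwd (nat_lit 20) (Steps.fwd (nat_lit 8192) (Steps.fwd (nat_lit 24576) (Steps.bwd (nat_lit 1) (Steps.fwd (nat_lit 24576) (Steps.fwd (nat_lit 8192) (Steps.bwd (nat_lit 3) (Steps.bwd (nat_lit 1) (Steps.fwd (nat_lit 16384) (Steps.bwd (nat_lit 1) (Steps.bwd (nat_lit 4) (Steps.bwd (nat_lit 2) Steps.nil)))))))))))) (nat_lit 194) (nat_lit 0),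
  Rule.mk (nat_lit 20) (nat_lit 179) (Steps.bwd (nat_lit 1) (Steps.fwd (nat_lit 24576) (Steps.fwd (nat_lit 8192) (Steps.fwd (nat_lit 24576) (Steps.bwd (nat_lit 1) (Steps.fwd (nat_lit 16384) (Steps.fwd (nat_lit 8192) (Steps.bwd (nat_lit 3) (Steps.bwd (nat_lit 1) (Steps.bwd (nat_lit 4) (Steps.fwd (nat_lit 24576) Steps.nil))))))))))) (nat_lit 194) (nat_lit 1),
  Rule.mk (nat_lit 19) (nat_lit 179) (Steps.bwd (nat_lit 3) (Steps.bwd (nat_lit 4) (Steps.fwd (nat_lit 8192) (Steps.fwd (nat_lit 24576) (Steps.bwd (nat_lit 1) (Steps.bwd (nat_lit 2) (Steps.fwd (nat_lit 8192) (Steps.bwd (nat_lit 3) (Steps.bwd (nat_lit 1) (Steps.fwd (nat_lit 16384) (Steps.fwd (nat_lit 8192) Steps.nil))))))))))) (nat_lit 195) (nat_lit 0),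
  Rule.mk (nat_lit 19) (nat_lit 179) (Steps.fwd (nat_lit 16384) (Steps.fwd (nat_lit 32768) (Steps.bwd (nat_lit 1) (Steps.bwd (nat_lit 2) (Steps.fwd (nat_lit 8192) (Steps.fwd (nat_lit 24576) (Steps.bwd (nat_lit 1) (Steps.fwd (nat_lit 16384) (Steps.fwd (nat_lit 8192) (Steps.bwd (nat_lit 3) (Steps.bwd (nat_lit 1) Steps.nil))))))))))) (nat_lit 195) (nat_lit 0),
  Rule.mk (nat_lit 0) (nat_lit 194) (Steps.bwd (nat_lit 20) (Steps.fwd (nat_lit 8192) (Steps.bwd (nat_lit 2) (Steps.fwd (nat_lit 8192) (Steps.fwd (nat_lit 24576) (Steps.bwd (nat_lit 1) (Steps.bwd (nat_lit 3) (Steps.fwd (nat_lit 8192) (Steps.bwd (nat_lit 3) (Steps.bwd (nat_lit 1) (Steps.fwd (nat_lit 32768) (Steps.bwd (nat_lit 2) Steps.nil)))))))))))) (nat_lit 194) (nat_lit 0),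
  Rule.mk (nat_lit 0) (nat_lit 194) (Steps.bwd (nat_lit 19) (Steps.bwd (nat_lit 3) (Steps.bwd (nat_lit 4) (Steps.bwd (nat_lit 1) (Steps.fwd (nat_lit 24576) (Steps.fwd (nat_lit 8192) (Steps.fwd (nat_lit 24576) (Steps.bwd (nat_lit 1) (Steps.fwd (nat_lit 16384) (Steps.fwd (nat_lit 8192) (Steps.bwd (nat_lit 3) (Steps.bwd (nat_lit 1) Steps.nil)))))))))))) (nat_lit 195) (nat_lit 11),
  Rule.mk (nat_lit 1) (nat_lit 179) (Steps.bwd (nat_lit 15) (Steps.bwd (nat_lit 3) (Steps.bwd (nat_lit 1) (Steps.fwd (nat_lit 32768) (Steps.bwd (nat_lit 3) (Steps.bwd (nat_lit 1) (Steps.bwd (nat_lit 2) (Steps.bwd (nat_lit 1) (Steps.bwd (nat_lit 2) (Steps.fwd (nat_lit 8192) (Steps.bwd (nat_lit 2) Steps.nil))))))))))) (nat_lit 191) (nat_lit 11),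
  Rule.mk (nat_lit 17) (nat_lit 179) (Steps.fwd (nat_lit 24576) (Steps.bwd (nat_lit 1) (Steps.fwd (nat_lit 24576) (Steps.bwd (nat_lit 1) (Steps.fwd (nat_lit 16384) (Steps.fwd (nat_lit 8192) (Steps.fwd (nat_lit 16384) (Steps.fwd (nat_lit 8192) (Steps.bwd (nat_lit 4) (Steps.bwd (nat_lit 2) (Steps.bwd (nat_lit 1) Steps.nil))))))))))) (nat_lit 193) (nat_lit 0),
  Rule.mk (nat_lit 20) (nat_lit 179) (Steps.fwd (nat_lit 8192) (Steps.fwd (nat_lit 24576) (Steps.bwd (nat_lit 1) (Steps.fwd (nat_lit 24576) (Steps.bwd (nat_lit 1) (Steps.fwd (nat_lit 16384) (Steps.fwd (nat_lit 8192) (Steps.fwd (nat_lit 16384) (Steps.fwd (nat_lit 8192) (Steps.bwd (nat_lit 4) (Steps.bwd (nat_lit 2) Steps.nil))))))))))) (nat_lit 194) (nat_lit 1),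
  Rule.mk (nat_lit 3) (nat_lit 539) (Steps.bwd (nat_lit 1) (Steps.bwd (nat_lit 3) (Steps.bwd (nat_lit 1) (Steps.fwd (nat_lit 24576) (Steps.bwd (nat_lit 1) (Steps.bwd (nat_lit 2) (Steps.bwd (nat_lit 1) (Steps.fwd (nat_lit 16384) (Steps.bwd (nat_lit 1) (Steps.fwd (nat_lit 24576) (Steps.bwd (nat_lit 1) (Steps.fwd (nat_lit 24576) (Steps.bwd (nat_lit 1) (Steps.fwd (nat_lit 16384) (Steps.fwd (nat_lit 8192) (Steps.bwd (nat_lit 2) (Steps.fwd (nat_lit 8192) (Steps.fwd (nat_lit 24576) (Steps.bwd (nat_lit 1) (Steps.bwd (nat_lit 3) (Steps.bwd (nat_lit 1) (Steps.fwd (nat_lit 24576) (Steps.bwd (nat_lit 1) (Steps.fwd (nat_lit 16384) (Steps.fwd (nat_lit 8192) (Steps.fwd (nat_lit 16384) (Steps.fwd (nat_lit 8192) (Steps.bwd (nat_lit 2) (Steps.fwd (nat_lit 8192) (Steps.fwd (nat_lit 16384) (Steps.bwd (nat_lit 1) (Steps.bwd (nat_lit 3) (Steps.fwd (nat_lit 8192) (Steps.bwd (nat_lit 2) (Steps.bwd (nat_lit 1) Steps.nil)))))))))))))))))))))))))))))))))))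 (nat_lit 12) (nat_lit 34),
  Rule.mk (nat_lit 5) (nat_lit 149) (Steps.bwd (nat_lit 3) (Steps.fwd (nat_lit 32768) (Steps.fwd (nat_lit 40960) (Steps.bwd (nat_lit 8) (Steps.fwd (nat_lit 73728) (Steps.bwd (nat_lit 12) (Steps.fwd (nat_lit 106496) (Steps.fwd (nat_lit 114688) (Steps.fwd (nat_lit 24576) Steps.nil))))))))) (nat_lit 170) (nat_lit 2),
  Rule.mk (nat_lit 6) (nat_lit 164) (Steps.bwd (nat_lit 3) (Steps.bwd (nat_lit 5) (Steps.fwd (nat_lit 49152) (Steps.bwd (nat_lit 9) (Steps.bwd (nat_lit 10) (Steps.bwd (nat_lit 11) (Steps.fwd (nat_lit 98304) (Steps.fwd (nat_lit 106496) (Steps.bwd (nat_lit 14) (Steps.fwd (nat_lit 24576) Steps.nil)))))))))) (nat_lit 172) (nat_lit 2),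
  Rule.mk (nat_lit 11) (nat_lit 164) (Steps.bwd (nat_lit 3) (Steps.fwd (nat_lit 32768) (Steps.fwd (nat_lit 40960) (Steps.bwd (nat_lit 8) (Steps.fwd (nat_lit 73728) (Steps.bwd (nat_lit 10) (Steps.bwd (nat_lit 11) (Steps.bwd (nat_lit 12) (Steps.bwd (nat_lit 14) (Steps.fwd (nat_lit 24576) Steps.nil)))))))))) (nat_lit 182) (nat_lit 2),
  Rule.mk (nat_lit 0) (nat_lit 194) (Steps.bwd (nat_lit 16) (Steps.bwd (nat_lit 1) (Steps.fwd (nat_lit 16384) (Steps.fwd (nat_lit 8192) (Steps.fwd (nat_lit 16384) (Steps.bwd (nat_lit 1) (Steps.bwd (nat_lit 3) (Steps.bwd (nat_lit 1) (Steps.bwd (nat_lit 2) (Steps.bwd (nat_lit 4) (Steps.bwd (nat_lit 1) (Steps.bwd (nat_lit 2) Steps.nil)))))))))))) (nat_lit 190) (nat_lit 0),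
  Rule.mk (nat_lit 16) (nat_lit 179) (Steps.fwd (nat_lit 8192) (Steps.fwd (nat_lit 16384) (Steps.bwd (nat_lit 1) (Steps.bwd (nat_lit 3) (Steps.bwd (nat_lit 1) (Steps.bwd (nat_lit 3) (Steps.bwd (nat_lit 1) (Steps.fwd (nat_lit 24576) (Steps.bwd (nat_lit 4) (Steps.bwd (nat_lit 1) (Steps.fwd (nat_lit 24576) Steps.nil))))))))))) (nat_lit 190) (nat_lit 1),
  Rule.mk (nat_lit 15) (nat_lit 179) (Steps.bwd (nat_lit 3) (Steps.fwd (nat_lit 8192) (Steps.bwd (nat_lit 4) (Steps.bwd (nat_lit 3) (Steps.bwd (nat_lit 1) (Steps.bwd (nat_lit 2) (Steps.fwd (nat_lit 8192) (Steps.fwd (nat_lit 24576) (Steps.bwd (nat_lit 1) (Steps.bwd (nat_lit 2) (Steps.fwd (nat_lit 8192) Steps.nil))))))))))) (nat_lit 191) (nat_lit 0),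
  Rule.mk (nat_lit 15) (nat_lit 179) (Steps.bwd (nat_lit 3) (Steps.bwd (nat_lit 1) (Steps.fwd (nat_lit 32768) (Steps.bwd (nat_lit 3) (Steps.fwd (nat_lit 8192) (Steps.bwd (nat_lit 2) (Steps.bwd (nat_lit 1) (Steps.fwd (nat_lit 24576) (Steps.bwd (nat_lit 1) (Steps.fwd (nat_lit 24576) (Steps.bwd (nat_lit 1) Steps.nil))))))))))) (nat_lit 191) (nat_lit 0),
  Rule.mk (nat_lit 18) (nat_lit 179) (Steps.fwd (nat_lit 8192) (Steps.fwd (nat_lit 16384) (Steps.fwd (nat_lit 32768) (Steps.bwd (nat_lit 1) (Steps.bwd (nat_lit 2) (Steps.fwd (nat_lit 8192) (Steps.bwd (nat_lit 2) (Steps.bwd (nat_lit 1) (Steps.bwd (nat_lit 3) (Steps.bwd (nat_lit 1) (Steps.bwd (nat_lit 3) Steps.nil))))))))))) (nat_lit 192) (nat_lit 1),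
  Rule.mk (nat_lit 0) (nat_lit 194) (Steps.bwd (nat_lit 18) (Steps.fwd (nat_lit 8192) (Steps.fwd (nat_lit 16384) (Steps.bwd (nat_lit 4) (Steps.fwd (nat_lit 8192) (Steps.fwd (nat_lit 24576) (Steps.fwd (nat_lit 8192) (Steps.fwd (nat_lit 24576) (Steps.fwd (nat_lit 8192) (Steps.fwd (nat_lit 16384) (Steps.bwd (nat_lit 1) (Steps.fwd (nat_lit 16384) Steps.nil)))))))))))) (nat_lit 192) (nat_lit 0),
  Rule.mk (nat_lit 20) (nat_lit 179) (Steps.bwd (nat_lit 1) (Steps.bwd (nat_lit 2) (Steps.fwd (nat_lit 8192) (Steps.bwd (nat_lit 2) (Steps.bwd (nat_lit 1) (Steps.bwd (nat_lit 3) (Steps.bwd (nat_lit 1) (Steps.bwd (nat_lit 3) (Steps.bwd (nat_lit 1) (Steps.fwd (nat_lit 32768) (Steps.bwd (nat_lit 2) Steps.nil))))))))))) (nat_lit 194) (nat_lit 1),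
  Rule.mk (nat_lit 0) (nat_lit 194) (Steps.bwd (nat_lit 19) (Steps.fwd (nat_lit 16384) (Steps.fwd (nat_lit 32768) (Steps.bwd (nat_lit 1) (Steps.bwd (nat_lit 2) (Steps.fwd (nat_lit 8192) (Steps.bwd (nat_lit 2) (Steps.bwd (nat_lit 1) (Steps.bwd (nat_lit 3) (Steps.bwd (nat_lit 1) (Steps.bwd (nat_lit 3) (Steps.bwd (nat_lit 1) Steps.nil)))))))))))) (nat_lit 195) (nat_lit 11),
  Rule.mk (nat_lit 0) (nat_lit 194) (Steps.bwd (nat_lit 1) (Steps.fwd (nat_lit 16384) (Steps.bwd (nat_lit 4) (Steps.fwd (nat_lit 8192) (Steps.bwd (nat_lit 2) (Steps.bwd (nat_lit 1) (Steps.bwd (nat_lit 2) (Steps.fwd (nat_lit 8192) (Steps.bwd (nat_lit 3) (Steps.fwd (nat_lit 8192) (Steps.bwd (nat_lit 3) (Steps.fwd (nat_lit 139264) Steps.nil)))))))))))) (nat_lit 192) (nat_lit 1),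
  Rule.mk (nat_lit 0) (nat_lit 194) (Steps.fwd (nat_lit 16384) (Steps.bwd (nat_lit 4) (Steps.fwd (nat_lit 8192) (Steps.bwd (nat_lit 2) (Steps.bwd (nat_lit 1) (Steps.bwd (nat_lit 2) (Steps.fwd (nat_lit 8192) (Steps.bwd (nat_lit 3) (Steps.fwd (nat_lit 8192) (Steps.bwd (nat_lit 3) (Steps.bwd (nat_lit 1) (Steps.fwd (nat_lit 163840) Steps.nil)))))))))))) (nat_lit 195) (nat_lit 0),
  Rule.mk (nat_lit 0) (nat_lit 194) (Steps.fwd (nat_lit 8192) (Steps.bwd (nat_lit 2) (Steps.bwd (nat_lit 1) (Steps.bwd (nat_lit 2) (Steps.fwd (nat_lit 8192) (Steps.bwd (nat_lit 3) (Steps.fwd (nat_lit 8192) (Steps.bwd (nat_lit 3) (Steps.bwd (nat_lit 1) (Steps.bwd (nat_lit 4) (Steps.fwd (nat_lit 24576) (Steps.fwd (nat_lit 155648) Steps.nil)))))))))))) (nat_lit 194) (nat_lit 1),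
  Rule.mk (nat_lit 8) (nat_lit 89) (Steps.fwd (nat_lit 16384) (Steps.bwd (nat_lit 4) (Steps.fwd (nat_lit 57344) (Steps.bwd (nat_lit 14) (Steps.fwd (nat_lit 24576) Steps.nil))))) (nat_lit 176) (nat_lit 2),
  Rule.mk (nat_lit 10) (nat_lit 104) (Steps.fwd (nat_lit 16384) (Steps.bwd (nat_lit 6) (Steps.fwd (nat_lit 90112) (Steps.fwd (nat_lit 98304) (Steps.bwd (nat_lit 14) (Steps.fwd (nat_lit 24576) Steps.nil)))))) (nat_lit 180) (nat_lit 2),
  Rule.mk (nat_lit 14) (nat_lit 119) (Steps.fwd (nat_lit 16384) (Steps.fwd (nat_lit 40960) (Steps.bwd (nat_lit 6) (Steps.bwd (nat_lit 7) (Steps.fwd (nat_lit 98304) (Steps.bwd (nat_lit 14) (Steps.fwd (nat_lit 24576) Steps.nil))))))) (nat_lit 188) (nat_lit 2),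
  Rule.mk (nat_lit 9) (nat_lit 134) (Steps.bwd (nat_lit 3) (Steps.fwd (nat_lit 32768) (Steps.bwd (nat_lit 5) (Steps.bwd (nat_lit 8) (Steps.bwd (nat_lit 9) (Steps.fwd (nat_lit 90112) (Steps.bwd (nat_lit 14) (Steps.fwd (nat_lit 24576) Steps.nil)))))))) (nat_lit 178) (nat_lit 2),
  Rule.mk (nat_lit 13) (nat_lit 134) (Steps.bwd (nat_lit 3) (Steps.fwd (nat_lit 49152) (Steps.bwd (nat_lit 10) (Steps.fwd (nat_lit 90112) (Steps.bwd (nat_lit 12) (Steps.bwd (nat_lit 13) (Steps.bwd (nat_lit 14) (Steps.fwd (nat_lit 24576) Steps.nil)))))))) (nat_lit 186) (nat_lit 2),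
  Rule.mk (nat_lit 6) (nat_lit 164) (Steps.bwd (nat_lit 3) (Steps.bwd (nat_lit 5) (Steps.fwd (nat_lit 49152) (Steps.bwd (nat_lit 9) (Steps.bwd (nat_lit 10) (Steps.fwd (nat_lit 90112) (Steps.bwd (nat_lit 12) (Steps.bwd (nat_lit 13) (Steps.bwd (nat_lit 14) (Steps.fwd (nat_lit 24576) Steps.nil)))))))))) (nat_lit 172) (nat_lit 2),
  Rule.mk (nat_lit 11) (nat_lit 164) (Steps.fwd (nat_lit 16384) (Steps.bwd (nat_lit 4) (Steps.fwd (nat_lit 40960) (Steps.fwd (nat_lit 65536) (Steps.bwd (nat_lit 9) (Steps.bwd (nat_lit 10) (Steps.fwd (nat_lit 90112) (Steps.fwd (nat_lit 98304) (Steps.bwd (nat_lit 14) (Steps.fwd (nat_lit 24576) Steps.nil)))))))))) (nat_lit 182) (nat_lit 2),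
  Rule.mk (nat_lit 18) (nat_lit 179) (Steps.fwd (nat_lit 8192) (Steps.fwd (nat_lit 16384) (Steps.bwd (nat_lit 4) (Steps.fwd (nat_lit 8192) (Steps.bwd (nat_lit 2) (Steps.fwd (nat_lit 8192) (Steps.bwd (nat_lit 2) (Steps.bwd (nat_lit 1) (Steps.fwd (nat_lit 16384) (Steps.fwd (nat_lit 8192) (Steps.bwd (nat_lit 3) Steps.nil))))))))))) (nat_lit 192) (nat_lit 1),
  Rule.mk (nat_lit 16) (nat_lit 179) (Steps.fwd (nat_lit 8192) (Steps.bwd (nat_lit 3) (Steps.bwd (nat_lit 1) (Steps.fwd (nat_lit 16384) (Steps.fwd (nat_lit 8192) (Steps.fwd (nat_lit 16384) (Steps.bwd (nat_lit 1) (Steps.fwd (nat_lit 24576) (Steps.bwd (nat_lit 4) (Steps.fwd (nat_lit 8192) (Steps.fwd (nat_lit 24576) Steps.nil))))))))))) (nat_lit 190) (nat_lit 1),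
  Rule.mk (nat_lit 20) (nat_lit 179) (Steps.fwd (nat_lit 8192) (Steps.bwd (nat_lit 2) (Steps.fwd (nat_lit 8192) (Steps.fwd (nat_lit 24576) (Steps.bwd (nat_lit 1) (Steps.fwd (nat_lit 16384) (Steps.bwd (nat_lit 1) (Steps.bwd (nat_lit 3) (Steps.fwd (nat_lit 8192) (Steps.bwd (nat_lit 4) (Steps.fwd (nat_lit 24576) Steps.nil))))))))))) (nat_lit 194) (nat_lit 1)]
noncomputable def R_108 : List (Rule) := [Rule.mk (nat_lit 1) (nat_lit 104) (Steps.bwd (nat_lit 11) (Steps.bwd (nat_lit 1) (Steps.fwd (nat_lit 49152) (Steps.bwd (nat_lit 11) (Steps.fwd (nat_lit 98304) (Steps.bwd (nat_lit 14) Steps.nil)))))) (nat_lit 160) (nat_lit 1),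
  Rule.mk (nat_lit 15) (nat_lit 179) (Steps.fwd (nat_lit 16384) (Steps.fwd (nat_lit 8192) (Steps.fwd (nat_lit 32768) (Steps.fwd (nat_lit 16384) (Steps.bwd (nat_lit 1) (Steps.bwd (nat_lit 2) (Steps.bwd (nat_lit 1) (Steps.fwd (nat_lit 24576) (Steps.bwd (nat_lit 1) (Steps.bwd (nat_lit 2) (Steps.bwd (nat_lit 1) Steps.nil))))))))))) (nat_lit 191) (nat_lit 0),
  Rule.mk (nat_lit 17) (nat_lit 179) (Steps.fwd (nat_lit 24576) (Steps.bwd (nat_lit 1) (Steps.bwd (nat_lit 2) (Steps.bwd (nat_lit 1) (Steps.fwd (nat_lit 16384) (Steps.fwd (nat_lit 8192) (Steps.bwd (nat_lit 3) (Steps.bwd (nat_lit 1) (Steps.bwd (nat_lit 4) (Steps.bwd (nat_lit 2) (Steps.bwd (nat_lit 1) Steps.nil))))))))))) (nat_lit 193) (nat_lit 0),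
  Rule.mk (nat_lit 20) (nat_lit 179) (Steps.fwd (nat_lit 8192) (Steps.bwd (nat_lit 2) (Steps.fwd (nat_lit 8192) (Steps.fwd (nat_lit 24576) (Steps.fwd (nat_lit 8192) (Steps.bwd (nat_lit 3) (Steps.fwd (nat_lit 8192) (Steps.fwd (nat_lit 16384) (Steps.bwd (nat_lit 1) (Steps.fwd (nat_lit 32768) (Steps.fwd (nat_lit 24576) Steps.nil))))))))))) (nat_lit 194) (nat_lit 1),
  Rule.mk (nat_lit 2) (nat_lit 89) (Steps.bwd (nat_lit 8) (Steps.fwd (nat_lit 16384) (Steps.fwd (nat_lit 32768) (Steps.fwd (nat_lit 57344) (Steps.bwd (nat_lit 14) Steps.nil))))) (nat_lit 176) (nat_lit 1),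
  Rule.mk (nat_lit 16) (nat_lit 179) (Steps.bwd (nat_lit 1) (Steps.fwd (nat_lit 16384) (Steps.bwd (nat_lit 1) (Steps.fwd (nat_lit 16384) (Steps.fwd (nat_lit 8192) (Steps.bwd (nat_lit 3) (Steps.bwd (nat_lit 1) (Steps.fwd (nat_lit 24576) (Steps.bwd (nat_lit 4) (Steps.bwd (nat_lit 1) (Steps.bwd (nat_lit 2) Steps.nil))))))))))) (nat_lit 190) (nat_lit 1),
  Rule.mk (nat_lit 16) (nat_lit 179) (Steps.fwd (nat_lit 8192) (Steps.fwd (nat_lit 16384) (Steps.fwd (nat_lit 8192) (Steps.bwd (nat_lit 3) (Steps.fwd (nat_lit 8192) (Steps.fwd (nat_lit 16384) (Steps.bwd (nat_lit 1) (Steps.bwd (nat_lit 2) (Steps.bwd (nat_lit 4) (Steps.fwd (nat_lit 8192) (Steps.bwd (nat_lit 2) Steps.nil))))))))))) (nat_lit 190) (nat_lit 1),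
  Rule.mk (nat_lit 15) (nat_lit 179) (Steps.fwd (nat_lit 16384) (Steps.bwd (nat_lit 1) (Steps.bwd (nat_lit 4) (Steps.bwd (nat_lit 3) (Steps.bwd (nat_lit 1) (Steps.fwd (nat_lit 24576) (Steps.bwd (nat_lit 1) (Steps.bwd (nat_lit 2) (Steps.bwd (nat_lit 1) (Steps.bwd (nat_lit 2) (Steps.bwd (nat_lit 1) Steps.nil))))))))))) (nat_lit 191) (nat_lit 0),
  Rule.mk (nat_lit 15) (nat_lit 179) (Steps.fwd (nat_lit 16384) (Steps.bwd (nat_lit 1) (Steps.fwd (nat_lit 32768) (Steps.fwd (nat_lit 16384) (Steps.bwd (nat_lit 1) (Steps.bwd (nat_lit 2) (Steps.bwd (nat_lit 1) (Steps.bwd (nat_lit 2) (Steps.bwd (nat_lit 1) (Steps.bwd (nat_lit 2) (Steps.bwd (nat_lit 1) Steps.nil))))))))))) (nat_lit 191) (nat_lit 0),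
  Rule.mk (nat_lit 18) (nat_lit 179) (Steps.bwd (nat_lit 1) (Steps.fwd (nat_lit 16384) (Steps.fwd (nat_lit 32768) (Steps.bwd (nat_lit 1) (Steps.bwd (nat_lit 2) (Steps.bwd (nat_lit 1) (Steps.bwd (nat_lit 2) (Steps.bwd (nat_lit 1) (Steps.fwd (nat_lit 16384) (Steps.bwd (nat_lit 1) (Steps.fwd (nat_lit 16384) Steps.nil))))))))))) (nat_lit 192) (nat_lit 1),
  Rule.mk (nat_lit 17) (nat_lit 179) (Steps.fwd (nat_lit 24576) (Steps.fwd (nat_lit 8192) (Steps.fwd (nat_lit 24576) (Steps.fwd (nat_lit 8192) (Steps.fwd (nat_lit 16384) (Steps.bwd (nat_lit 1) (Steps.fwd (nat_lit 16384) (Steps.bwd (nat_lit 1) (Steps.bwd (nat_lit 4) (Steps.bwd (nat_lit 2) (Steps.bwd (nat_lit 1) Steps.nil))))))))))) (nat_lit 193) (nat_lit 0),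
  Rule.mk (nat_lit 0) (nat_lit 194) (Steps.bwd (nat_lit 17) (Steps.bwd (nat_lit 2) (Steps.bwd (nat_lit 1) (Steps.bwd (nat_lit 2) (Steps.bwd (nat_lit 1) (Steps.fwd (nat_lit 16384) (Steps.bwd (nat_lit 1) (Steps.fwd (nat_lit 16384) (Steps.fwd (nat_lit 8192) (Steps.bwd (nat_lit 4) (Steps.fwd (nat_lit 24576) (Steps.fwd (nat_lit 8192) Steps.nil)))))))))))) (nat_lit 193) (nat_lit 11),
  Rule.mk (nat_lit 20) (nat_lit 179) (Steps.bwd (nat_lit 1) (Steps.fwd (nat_lit 24576) (Steps.fwd (nat_lit 8192) (Steps.fwd (nat_lit 24576) (Steps.fwd (nat_lit 8192) (Steps.fwd (nat_lit 16384) (Steps.bwd (nat_lit 1) (Steps.fwd (nat_lit 16384) (Steps.bwd (nat_lit 1) (Steps.bwd (nat_lit 4) (Steps.bwd (nat_lit 2) Steps.nil))))))))))) (nat_lit 194) (nat_lit 1),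
  Rule.mk (nat_lit 0) (nat_lit 194) (Steps.bwd (nat_lit 20) (Steps.bwd (nat_lit 1) (Steps.bwd (nat_lit 2) (Steps.bwd (nat_lit 1) (Steps.bwd (nat_lit 2) (Steps.bwd (nat_lit 1) (Steps.fwd (nat_lit 16384) (Steps.bwd (nat_lit 1) (Steps.fwd (nat_lit 16384) (Steps.fwd (nat_lit 8192) (Steps.bwd (nat_lit 4) (Steps.fwd (nat_lit 24576) Steps.nil)))))))))))) (nat_lit 194) (nat_lit 0),
  Rule.mk (nat_lit 19) (nat_lit 179) (Steps.fwd (nat_lit 16384) (Steps.fwd (nat_lit 32768) (Steps.bwd (nat_lit 1) (Steps.bwd (nat_lit 2) (Steps.bwd (nat_lit 1) (Steps.bwd (nat_lit 2) (Steps.bwd (nat_lit 1) (Steps.fwd (nat_lit 16384) (Steps.bwd (nat_lit 1) (Steps.fwd (nat_lit 16384) (Steps.fwd (nat_lit 8192) Steps.nil))))))))))) (nat_lit 195) (nat_lit 0),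
  Rule.mk (nat_lit 10) (nat_lit 104) (Steps.bwd (nat_lit 3) (Steps.fwd (nat_lit 49152) (Steps.fwd (nat_lit 90112) (Steps.fwd (nat_lit 98304) (Steps.bwd (nat_lit 14) (Steps.fwd (nat_lit 24576) Steps.nil)))))) (nat_lit 180) (nat_lit 2),
  Rule.mk (nat_lit 13) (nat_lit 134) (Steps.bwd (nat_lit 3) (Steps.fwd (nat_lit 49152) (Steps.bwd (nat_lit 10) (Steps.fwd (nat_lit 90112) (Steps.bwd (nat_lit 12) (Steps.bwd (nat_lit 13) (Steps.fwd (nat_lit 114688) (Steps.fwd (nat_lit 24576) Steps.nil)))))))) (nat_lit 186) (nat_lit 2),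
  Rule.mk (nat_lit 5) (nat_lit 149) (Steps.bwd (nat_lit 3) (Steps.bwd (nat_lit 4) (Steps.fwd (nat_lit 40960) (Steps.bwd (nat_lit 8) (Steps.bwd (nat_lit 9) (Steps.bwd (nat_lit 12) (Steps.fwd (nat_lit 106496) (Steps.fwd (nat_lit 114688) (Steps.fwd (nat_lit 24576) Steps.nil))))))))) (nat_lit 170) (nat_lit 2),
  Rule.mk (nat_lit 6) (nat_lit 164) (Steps.bwd (nat_lit 3) (Steps.fwd (nat_lit 40960) (Steps.bwd (nat_lit 6) (Steps.bwd (nat_lit 9) (Steps.bwd (nat_lit 10) (Steps.fwd (nat_lit 90112) (Steps.fwd (nat_lit 98304) (Steps.bwd (nat_lit 13) (Steps.fwd (nat_lit 114688) (Steps.fwd (nat_lit 24576) Steps.nil)))))))))) (nat_lit 172) (nat_lit 2),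
  Rule.mk (nat_lit 11) (nat_lit 164) (Steps.bwd (nat_lit 3) (Steps.bwd (nat_lit 4) (Steps.fwd (nat_lit 40960) (Steps.bwd (nat_lit 8) (Steps.bwd (nat_lit 9) (Steps.fwd (nat_lit 81920) (Steps.bwd (nat_lit 11) (Steps.fwd (nat_lit 98304) (Steps.bwd (nat_lit 14) (Steps.fwd (nat_lit 24576) Steps.nil)))))))))) (nat_lit 182) (nat_lit 2),
  Rule.mk (nat_lit 15) (nat_lit 179) (Steps.fwd (nat_lit 16384) (Steps.fwd (nat_lit 8192) (Steps.bwd (nat_lit 4) (Steps.bwd (nat_lit 3) (Steps.fwd (nat_lit 8192) (Steps.bwd (nat_lit 2) (Steps.fwd (nat_lit 8192) (Steps.fwd (nat_lit 24576) (Steps.bwd (nat_lit 1) (Steps.bwd (nat_lit 2) (Steps.fwd (nat_lit 8192) Steps.nil))))))))))) (nat_lit 191) (nat_lit 0),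
  Rule.mk (nat_lit 19) (nat_lit 179) (Steps.bwd (nat_lit 3) (Steps.bwd (nat_lit 4) (Steps.bwd (nat_lit 1) (Steps.fwd (nat_lit 24576) (Steps.fwd (nat_lit 8192) (Steps.bwd (nat_lit 2) (Steps.bwd (nat_lit 1) (Steps.bwd (nat_lit 3) (Steps.bwd (nat_lit 1) (Steps.fwd (nat_lit 16384) (Steps.fwd (nat_lit 8192) Steps.nil))))))))))) (nat_lit 195) (nat_lit 0),
  Rule.mk (nat_lit 1) (nat_lit 539) (Steps.bwd (nat_lit 3) (Steps.fwd (nat_lit 8192) (Steps.bwd (nat_lit 2) (Steps.fwd (nat_lit 8192) (Steps.fwd (nat_lit 24576) (Steps.bwd (nat_lit 1) (Steps.fwd (nat_lit 16384) (Steps.fwd (nat_lit 8192) (Steps.fwd (nat_lit 24576) (Steps.fwd (nat_lit 8192) (Steps.fwd (nat_lit 24576) (Steps.fwd (nat_lit 8192) (Steps.fwd (nat_lit 16384) (Steps.fwd (nat_lit 8192) (Steps.fwd (nat_lit 24576) (Steps.fwd (nat_lit 8192) (Steps.bwd (nat_lit 2) (Steps.fwd (nat_lit 8192) (Steps.bwd (nat_lit 3) (Steps.bwd (nat_lit 1) (Steps.fwd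 (nat_lit 24576) (Steps.bwd (nat_lit 1) (Steps.fwd (nat_lit 16384) (Steps.bwd (nat_lit 1) (Steps.fwd (nat_lit 16384) (Steps.fwd (nat_lit 8192) (Steps.fwd (nat_lit 24576) (Steps.bwd (nat_lit 1) (Steps.bwd (nat_lit 3) (Steps.fwd (nat_lit 8192) (Steps.fwd (nat_lit 16384) (Steps.fwd (nat_lit 8192) (Steps.bwd (nat_lit 2) (Steps.fwd (nat_lit 8192) (Steps.bwd (nat_lit 3) Steps.nil))))))))))))))))))))))))))))))))))) (nat_lit 12) (nat_lit 35),
  Rule.mk (nat_lit 16) (nat_lit 179) (Steps.fwd (nat_lit 8192) (Steps.fwd (nat_lit 16384) (Steps.fwd (nat_lit 8192) (Steps.fwd (nat_lit 16384) (Steps.bwd (nat_lit 1) (Steps.fwd (nat_lit 16384) (Steps.fwd (nat_lit 8192) (Steps.fwd (nat_lit 24576) (Steps.bwd (nat_lit 4) (Steps.bwd (nat_lit 1) (Steps.fwd (nat_lit 24576) Steps.nil))))))))))) (nat_lit 190) (nat_lit 1),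
  Rule.mk (nat_lit 0) (nat_lit 194) (Steps.bwd (nat_lit 16) (Steps.fwd (nat_lit 8192) (Steps.bwd (nat_lit 3) (Steps.bwd (nat_lit 1) (Steps.bwd (nat_lit 3) (Steps.fwd (nat_lit 8192) (Steps.bwd (nat_lit 3) (Steps.bwd (nat_lit 1) (Steps.bwd (nat_lit 2) (Steps.bwd (nat_lit 4) (Steps.fwd (nat_lit 8192) (Steps.fwd (nat_lit 24576) Steps.nil)))))))))))) (nat_lit 190) (nat_lit 0),
  Rule.mk (nat_lit 15) (nat_lit 179) (Steps.fwd (nat_lit 16384) (Steps.fwd (nat_lit 8192) (Steps.bwd (nat_lit 4) (Steps.bwd (nat_lit 3) (Steps.bwd (nat_lit 1) (Steps.bwd (nat_lit 2) (Steps.fwd (nat_lit 8192) (Steps.bwd (nat_lit 2) (Steps.bwd (nat_lit 1) (Steps.fwd (nat_lit 24576) (Steps.bwd (nat_lit 1) Steps.nil))))))))))) (nat_lit 191) (nat_lit 0),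
  Rule.mk (nat_lit 15) (nat_lit 179) (Steps.bwd (nat_lit 3) (Steps.fwd (nat_lit 8192) (Steps.bwd (nat_lit 4) (Steps.fwd (nat_lit 16384) (Steps.bwd (nat_lit 1) (Steps.fwd (nat_lit 24576) (Steps.bwd (nat_lit 1) (Steps.fwd (nat_lit 24576) (Steps.fwd (nat_lit 8192) (Steps.bwd (nat_lit 2) (Steps.bwd (nat_lit 1) Steps.nil))))))))))) (nat_lit 191) (nat_lit 0),
  Rule.mk (nat_lit 0) (nat_lit 194) (Steps.bwd (nat_lit 15) (Steps.bwd (nat_lit 3) (Steps.bwd (nat_lit 1) (Steps.fwd (nat_lit 32768) (Steps.fwd (nat_lit 16384) (Steps.bwd (nat_lit 1) (Steps.fwd (nat_lit 24576) (Steps.fwd (nat_lit 8192) (Steps.bwd (nat_lit 2) (Steps.bwd (nat_lit 1) (Steps.fwd (nat_lit 24576) (Steps.bwd (nat_lit 1) Steps.nil)))))))))))) (nat_lit 191) (nat_lit 11),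
  Rule.mk (nat_lit 0) (nat_lit 194) (Steps.bwd (nat_lit 18) (Steps.fwd (nat_lit 8192) (Steps.fwd (nat_lit 16384) (Steps.fwd (nat_lit 32768) (Steps.bwd (nat_lit 1) (Steps.bwd (nat_lit 2) (Steps.fwd (nat_lit 8192) (Steps.bwd (nat_lit 2) (Steps.fwd (nat_lit 8192) (Steps.bwd (nat_lit 3) (Steps.bwd (nat_lit 1) (Steps.bwd (nat_lit 3) Steps.nil)))))))))))) (nat_lit 192) (nat_lit 0),
  Rule.mk (nat_lit 18) (nat_lit 179) (Steps.fwd (nat_lit 8192) (Steps.bwd (nat_lit 3) (Steps.bwd (nat_lit 4) (Steps.bwd (nat_lit 1) (Steps.fwd (nat_lit 24576) (Steps.bwd (nat_lit 1) (Steps.fwd (nat_lit 24576) (Steps.fwd (nat_lit 8192) (Steps.fwd (nat_lit 16384) (Steps.bwd (nat_lit 1) (Steps.bwd (nat_lit 3) Steps.nil))))))))))) (nat_lit 192) (nat_lit 1),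
  Rule.mk (nat_lit 0) (nat_lit 194) (Steps.bwd (nat_lit 18) (Steps.bwd (nat_lit 1) (Steps.fwd (nat_lit 16384) (Steps.bwd (nat_lit 4) (Steps.bwd (nat_lit 1) (Steps.fwd (nat_lit 24576) (Steps.fwd (nat_lit 8192) (Steps.bwd (nat_lit 2) (Steps.bwd (nat_lit 1) (Steps.fwd (nat_lit 16384) (Steps.bwd (nat_lit 1) (Steps.fwd (nat_lit 16384) Steps.nil)))))))))))) (nat_lit 192) (nat_lit 0),
  Rule.mk (nat_lit 18) (nat_lit 179) (Steps.bwd (nat_lit 1) (Steps.bwd (nat_lit 3) (Steps.bwd (nat_lit 4) (Steps.bwd (nat_lit 1) (Steps.fwd (nat_lit 24576) (Steps.fwd (nat_lit 8192) (Steps.bwd (nat_lit 2) (Steps.bwd (nat_lit 1) (Steps.bwd (nat_lit 3) (Steps.bwd (nat_lit 1) (Steps.fwd (nat_lit 16384) Steps.nil))))))))))) (nat_lit 192) (nat_lit 1),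
  Rule.mk (nat_lit 17) (nat_lit 179) (Steps.fwd (nat_lit 24576) (Steps.fwd (nat_lit 8192) (Steps.fwd (nat_lit 24576) (Steps.fwd (nat_lit 8192) (Steps.fwd (nat_lit 16384) (Steps.bwd (nat_lit 1) (Steps.fwd (nat_lit 16384) (Steps.fwd (nat_lit 8192) (Steps.bwd (nat_lit 4) (Steps.fwd (nat_lit 24576) (Steps.bwd (nat_lit 1) Steps.nil))))))))))) (nat_lit 193) (nat_lit 0),
  Rule.mk (nat_lit 0) (nat_lit 194) (Steps.bwd (nat_lit 17) (Steps.bwd (nat_lit 2) (Steps.bwd (nat_lit 1) (Steps.fwd (nat_lit 24576) (Steps.bwd (nat_lit 1) (Steps.bwd (nat_lit 3) (Steps.fwd (nat_lit 8192) (Steps.bwd (nat_lit 3) (Steps.bwd (nat_lit 1) (Steps.bwd (nat_lit 4) (Steps.bwd (nat_lit 2) (Steps.fwd (nat_lit 8192) Steps.nil)))))))))))) (nat_lit 193) (nat_lit 11),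
  Rule.mk (nat_lit 17) (nat_lit 179) (Steps.fwd (nat_lit 24576) (Steps.bwd (nat_lit 1) (Steps.fwd (nat_lit 24576) (Steps.fwd (nat_lit 8192) (Steps.fwd (nat_lit 16384) (Steps.bwd (nat_lit 1) (Steps.bwd (nat_lit 3) (Steps.fwd (nat_lit 8192) (Steps.fwd (nat_lit 32768) (Steps.bwd (nat_lit 2) (Steps.fwd (nat_lit 8192) Steps.nil))))))))))) (nat_lit 193) (nat_lit 0),
  Rule.mk (nat_lit 20) (nat_lit 179) (Steps.bwd (nat_lit 1) (Steps.bwd (nat_lit 2) (Steps.fwd (nat_lit 8192) (Steps.bwd (nat_lit 2) (Steps.fwd (nat_lit 8192) (Steps.bwd (nat_lit 3) (Steps.bwd (nat_lit 1) (Steps.bwd (nat_lit 3) (Steps.fwd (nat_lit 8192) (Steps.fwd (nat_lit 32768) (Steps.fwd (nat_lit 24576) Steps.nil))))))))))) (nat_lit 194) (nat_lit 1),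
  Rule.mk (nat_lit 20) (nat_lit 179) (Steps.fwd (nat_lit 8192) (Steps.bwd (nat_lit 2) (Steps.bwd (nat_lit 1) (Steps.fwd (nat_lit 24576) (Steps.bwd (nat_lit 1) (Steps.bwd (nat_lit 3) (Steps.fwd (nat_lit 8192) (Steps.bwd (nat_lit 3) (Steps.bwd (nat_lit 1) (Steps.bwd (nat_lit 4) (Steps.bwd (nat_lit 2) Steps.nil))))))))))) (nat_lit 194) (nat_lit 1),
  Rule.mk (nat_lit 20) (nat_lit 179) (Steps.bwd (nat_lit 1) (Steps.fwd (nat_lit 24576) (Steps.fwd (nat_lit 8192) (Steps.bwd (nat_lit 2) (Steps.bwd (nat_lit 1) (Steps.fwd (nat_lit 16384) (Steps.bwd (nat_lit 1) (Steps.fwd (nat_lit 16384) (Steps.bwd (nat_lit 1) (Steps.fwd (nat_lit 32768) (Steps.fwd (nat_lit 24576) Steps.nil))))))))))) (nat_lit 194) (nat_lit 1),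
  Rule.mk (nat_lit 0) (nat_lit 194) (Steps.bwd (nat_lit 19) (Steps.fwd (nat_lit 16384) (Steps.fwd (nat_lit 32768) (Steps.bwd (nat_lit 1) (Steps.bwd (nat_lit 2) (Steps.fwd (nat_lit 8192) (Steps.bwd (nat_lit 2) (Steps.fwd (nat_lit 8192) (Steps.bwd (nat_lit 3) (Steps.bwd (nat_lit 1) (Steps.bwd (nat_lit 3) (Steps.fwd (nat_lit 8192) Steps.nil)))))))))))) (nat_lit 195) (nat_lit 11),
  Rule.mk (nat_lit 0) (nat_lit 194) (Steps.bwd (nat_lit 19) (Steps.bwd (nat_lit 3) (Steps.bwd (nat_lit 4) (Steps.bwd (nat_lit 1) (Steps.fwd (nat_lit 24576) (Steps.bwd (nat_lit 1) (Steps.fwd (nat_lit 24576) (Steps.fwd (nat_lit 8192) (Steps.fwd (nat_lit 16384) (Steps.bwd (nat_lit 1) (Steps.bwd (nat_lit 3) (Steps.fwd (nat_lit 8192) Steps.nil)))))))))))) (nat_lit 195) (nat_lit 11),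
  Rule.mk (nat_lit 0) (nat_lit 194) (Steps.fwd (nat_lit 8192) (Steps.bwd (nat_lit 2) (Steps.fwd (nat_lit 8192) (Steps.bwd (nat_lit 2) (Steps.fwd (nat_lit 8192) (Steps.fwd (nat_lit 16384) (Steps.bwd (nat_lit 1) (Steps.bwd (nat_lit 3) (Steps.fwd (nat_lit 8192) (Steps.fwd (nat_lit 32768) (Steps.bwd (nat_lit 2) (Steps.fwd (nat_lit 155648) Steps.nil)))))))))))) (nat_lit 194) (nat_lit 1),
  Rule.mk (nat_lit 18) (nat_lit 179) (Steps.fwd (nat_lit 8192) (Steps.bwd (nat_lit 3) (Steps.bwd (nat_lit 4) (Steps.fwd (nat_lit 8192) (Steps.bwd (nat_lit 2) (Steps.fwd (nat_lit 8192) (Steps.bwd (nat_lit 2) (Steps.fwd (nat_lit 8192) (Steps.fwd (nat_lit 16384) (Steps.bwd (nat_lit 1) (Steps.bwd (nat_lit 3) Steps.nil))))))))))) (nat_lit 192) (nat_lit 1),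
  Rule.mk (nat_lit 17) (nat_lit 179) (Steps.bwd (nat_lit 2) (Steps.bwd (nat_lit 1) (Steps.bwd (nat_lit 2) (Steps.bwd (nat_lit 1) (Steps.fwd (nat_lit 16384) (Steps.bwd (nat_lit 1) (Steps.fwd (nat_lit 16384) (Steps.fwd (nat_lit 8192) (Steps.bwd (nat_lit 4) (Steps.fwd (nat_lit 24576) (Steps.fwd (nat_lit 8192) Steps.nil))))))))))) (nat_lit 193) (nat_lit 0),
  Rule.mk (nat_lit 20) (nat_lit 179) (Steps.fwd (nat_lit 8192) (Steps.bwd (nat_lit 2) (Steps.bwd (nat_lit 1) (Steps.bwd (nat_lit 2) (Steps.bwd (nat_lit 1) (Steps.fwd (nat_lit 16384) (Steps.bwd (nat_lit 1) (Steps.fwd (nat_lit 16384) (Steps.fwd (nat_lit 8192) (Steps.bwd (nat_lit 4) (Steps.fwd (nat_lit 24576) Steps.nil))))))))))) (nat_lit 194) (nat_lit 1),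
  Rule.mk (nat_lit 1) (nat_lit 179) (Steps.bwd (nat_lit 15) (Steps.bwd (nat_lit 3) (Steps.fwd (nat_lit 8192) (Steps.bwd (nat_lit 4) (Steps.fwd (nat_lit 16384) (Steps.fwd (nat_lit 8192) (Steps.fwd (nat_lit 24576) (Steps.bwd (nat_lit 1) (Steps.bwd (nat_lit 2) (Steps.bwd (nat_lit 1) (Steps.fwd (nat_lit 24576) Steps.nil))))))))))) (nat_lit 191) (nat_lit 11),
  Rule.mk (nat_lit 14) (nat_lit 104) (Steps.fwd (nat_lit 106496) (Steps.fwd (nat_lit 57344) (Steps.bwd (nat_lit 5) (Steps.fwd (nat_lit 8192) (Steps.fwd (nat_lit 65536) (Steps.bwd (nat_lit 1) Steps.nil)))))) (nat_lit 155) (nat_lit 1),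
  Rule.mk (nat_lit 10) (nat_lit 134) (Steps.fwd (nat_lit 8192) (Steps.fwd (nat_lit 32768) (Steps.fwd (nat_lit 40960) (Steps.bwd (nat_lit 8) (Steps.bwd (nat_lit 9) (Steps.fwd (nat_lit 90112) (Steps.fwd (nat_lit 114688) (Steps.bwd (nat_lit 1) Steps.nil)))))))) (nat_lit 158) (nat_lit 2),
  Rule.mk (nat_lit 7) (nat_lit 164) (Steps.bwd (nat_lit 1) (Steps.bwd (nat_lit 5) (Steps.bwd (nat_lit 6) (Steps.fwd (nat_lit 73728) (Steps.fwd (nat_lit 81920) (Steps.fwd (nat_lit 90112) (Steps.fwd (nat_lit 98304) (Steps.bwd (nat_lit 13) (Steps.fwd (nat_lit 114688) (Steps.bwd (nat_lit 1) Steps.nil)))))))))) (nat_lit 152) (nat_lit 2),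
  Rule.mk (nat_lit 12) (nat_lit 164) (Steps.bwd (nat_lit 1) (Steps.fwd (nat_lit 32768) (Steps.bwd (nat_lit 5) (Steps.fwd (nat_lit 65536) (Steps.bwd (nat_lit 9) (Steps.bwd (nat_lit 10) (Steps.fwd (nat_lit 90112) (Steps.fwd (nat_lit 98304) (Steps.fwd (nat_lit 114688) (Steps.bwd (nat_lit 1) Steps.nil)))))))))) (nat_lit 162) (nat_lit 2),
  Rule.mk (nat_lit 17) (nat_lit 179) (Steps.bwd (nat_lit 2) (Steps.fwd (nat_lit 8192) (Steps.bwd (nat_lit 2) (Steps.fwd (nat_lit 8192) (Steps.fwd (nat_lit 16384) (Steps.fwd (nat_lit 8192) (Steps.fwd (nat_lit 16384) (Steps.bwd (nat_lit 1) (Steps.fwd (nat_lit 32768) (Steps.fwd (nat_lit 24576) (Steps.bwd (nat_lit 1) Steps.nil))))))))))) (nat_lit 193) (nat_lit 0),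
  Rule.mk (nat_lit 17) (nat_lit 179) (Steps.fwd (nat_lit 24576) (Steps.fwd (nat_lit 8192) (Steps.fwd (nat_lit 24576) (Steps.bwd (nat_lit 1) (Steps.bwd (nat_lit 3) (Steps.bwd (nat_lit 1) (Steps.fwd (nat_lit 16384) (Steps.bwd (nat_lit 1) (Steps.bwd (nat_lit 4) (Steps.fwd (nat_lit 24576) (Steps.bwd (nat_lit 1) Steps.nil))))))))))) (nat_lit 193) (nat_lit 0),
  Rule.mk (nat_lit 20) (nat_lit 179) (Steps.bwd (nat_lit 1) (Steps.fwd (nat_lit 24576) (Steps.fwd (nat_lit 8192) (Steps.fwd (nat_lit 24576) (Steps.bwd (nat_lit 1) (Steps.bwd (nat_lit 3) (Steps.bwd (nat_lit 1) (Steps.fwd (nat_lit 16384) (Steps.bwd (nat_lit 1) (Steps.bwd (nat_lit 4) (Steps.fwd (nat_lit 24576) Steps.nil))))))))))) (nat_lit 194) (nat_lit 1),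
  Rule.mk (nat_lit 3) (nat_lit 539) (Steps.fwd (nat_lit 8192) (Steps.bwd (nat_lit 3) (Steps.bwd (nat_lit 1) (Steps.bwd (nat_lit 2) (Steps.fwd (nat_lit 8192) (Steps.fwd (nat_lit 24576) (Steps.fwd (nat_lit 8192) (Steps.bwd (nat_lit 3) (Steps.bwd (nat_lit 1) (Steps.fwd (nat_lit 24576) (Steps.fwd (nat_lit 8192) (Steps.bwd (nat_lit 2) (Steps.bwd (nat_lit 1) (Steps.bwd (nat_lit 3) (Steps.fwd (nat_lit 8192) (Steps.fwd (nat_lit 24576) (Steps.fwd (nat_lit 8192) (Steps.bwd (nat_lit 2) (Steps.fwd (nat_lit 8192) (Steps.fwd (nat_lit 16384) (Steps.fwd (nat_lit 8192) (Steps.fwd (nat_lit 24576) (Steps.bwd (nat_lit 1) (Steps.fwd (nat_lit 16384) (Steps.bwd (nat_lit 1) (Steps.fwd (nat_lit 16384) (Steps.bwd (nat_lit 1) (Steps.bwd (nat_lit 2) (Steps.fwd (nat_lit 8192) (Steps.bwd (nat_lit 3) (Steps.fwd (nat_lit 8192) (Steps.fwd (nat_lit 16384) (Steps.bwd (nat_lit 1) (Steps.fwd (nat_lit 24576) (Steps.bwd (nat_lit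 1) Steps.nil))))))))))))))))))))))))))))))))))) (nat_lit 12) (nat_lit 34),
  Rule.mk (nat_lit 2) (nat_lit 539) (Steps.bwd (nat_lit 1) (Steps.bwd (nat_lit 3) (Steps.fwd (nat_lit 8192) (Steps.bwd (nat_lit 2) (Steps.fwd (nat_lit 8192) (Steps.fwd (nat_lit 16384) (Steps.bwd (nat_lit 1) (Steps.fwd (nat_lit 16384) (Steps.bwd (nat_lit 1) (Steps.fwd (nat_lit 24576) (Steps.bwd (nat_lit 1) (Steps.fwd (nat_lit 16384) (Steps.bwd (nat_lit 1) (Steps.bwd (nat_lit 3) (Steps.bwd (nat_lit 1) (Steps.fwd (nat_lit 24576) (Steps.fwd (nat_lit 8192) (Steps.fwd (nat_lit 16384) (Steps.bwd (nat_lit 1) (Steps.fwd (nat_lit 16384) (Steps.fwd (nat_lit 8192) (Steps.bwd (nat_lit 2) (Steps.bwd (nat_lit 1) (Steps.bwd (nat_lit 2) (Steps.bwd (nat_lit 1) (Steps.bwd (nat_lit 3) (Steps.bwd (nat_lit 1) (Steps.bwd (nat_lit 2) (Steps.fwd (nat_lit 8192) (Steps.bwd (nat_lit 2) (Steps.fwd (nat_lit 8192) (Steps.fwd (nat_lit 16384) (Steps.bwd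 (nat_lit 1) (Steps.fwd (nat_lit 24576) (Steps.bwd (nat_lit 1) Steps.nil))))))))))))))))))))))))))))))))))) (nat_lit 12) (nat_lit 16),
  Rule.mk (nat_lit 0) (nat_lit 194) (Steps.bwd (nat_lit 16) (Steps.fwd (nat_lit 8192) (Steps.fwd (nat_lit 16384) (Steps.bwd (nat_lit 1) (Steps.bwd (nat_lit 3) (Steps.fwd (nat_lit 8192) (Steps.fwd (nat_lit 16384) (Steps.fwd (nat_lit 8192) (Steps.bwd (nat_lit 2) (Steps.fwd (nat_lit 32768) (Steps.bwd (nat_lit 1) (Steps.bwd (nat_lit 2) Steps.nil)))))))))))) (nat_lit 190) (nat_lit 0),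
  Rule.mk (nat_lit 16) (nat_lit 179) (Steps.bwd (nat_lit 1) (Steps.bwd (nat_lit 3) (Steps.fwd (nat_lit 8192) (Steps.fwd (nat_lit 16384) (Steps.fwd (nat_lit 8192) (Steps.bwd (nat_lit 3) (Steps.fwd (nat_lit 8192) (Steps.bwd (nat_lit 2) (Steps.fwd (nat_lit 32768) (Steps.bwd (nat_lit 1) (Steps.fwd (nat_lit 24576) Steps.nil))))))))))) (nat_lit 190) (nat_lit 1),
  Rule.mk (nat_lit 0) (nat_lit 194) (Steps.bwd (nat_lit 15) (Steps.bwd (nat_lit 3) (Steps.bwd (nat_lit 1) (Steps.fwd (nat_lit 32768) (Steps.bwd (nat_lit 3) (Steps.bwd (nat_lit 1) (Steps.bwd (nat_lit 2) (Steps.bwd (nat_lit 1) (Steps.fwd (nat_lit 24576) (Steps.bwd (nat_lit 1) (Steps.bwd (nat_lit 2) (Steps.bwd (nat_lit 1) Steps.nil)))))))))))) (nat_lit 191) (nat_lit 11),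
  Rule.mk (nat_lit 15) (nat_lit 179) (Steps.fwd (nat_lit 16384) (Steps.fwd (nat_lit 8192) (Steps.fwd (nat_lit 32768) (Steps.fwd (nat_lit 16384) (Steps.bwd (nat_lit 1) (Steps.fwd (nat_lit 24576) (Steps.fwd (nat_lit 8192) (Steps.fwd (nat_lit 24576) (Steps.bwd (nat_lit 1) (Steps.fwd (nat_lit 24576) (Steps.fwd (nat_lit 8192) Steps.nil))))))))))) (nat_lit 191) (nat_lit 0),
  Rule.mk (nat_lit 0) (nat_lit 194) (Steps.bwd (nat_lit 16) (Steps.bwd (nat_lit 1) (Steps.fwd (nat_lit 16384) (Steps.bwd (nat_lit 1) (Steps.bwd (nat_lit 3) (Steps.fwd (nat_lit 8192) (Steps.bwd (nat_lit 3) (Steps.bwd (nat_lit 1) (Steps.bwd (nat_lit 2) (Steps.fwd (nat_lit 32768) (Steps.fwd (nat_lit 8192) (Steps.fwd (nat_lit 24576) Steps.nil)))))))))))) (nat_lit 190) (nat_lit 0),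
  Rule.mk (nat_lit 15) (nat_lit 179) (Steps.fwd (nat_lit 16384) (Steps.fwd (nat_lit 8192) (Steps.bwd (nat_lit 4) (Steps.fwd (nat_lit 16384) (Steps.bwd (nat_lit 1) (Steps.fwd (nat_lit 24576) (Steps.fwd (nat_lit 8192) (Steps.bwd (nat_lit 2) (Steps.fwd (nat_lit 8192) (Steps.fwd (nat_lit 24576) (Steps.fwd (nat_lit 8192) Steps.nil))))))))))) (nat_lit 191) (nat_lit 0),
  Rule.mk (nat_lit 15) (nat_lit 179) (Steps.fwd (nat_lit 16384) (Steps.fwd (nat_lit 8192) (Steps.fwd (nat_lit 32768) (Steps.fwd (nat_lit 16384) (Steps.fwd (nat_lit 8192) (Steps.bwd (nat_lit 2) (Steps.fwd (nat_lit 8192) (Steps.fwd (nat_lit 24576) (Steps.fwd (nat_lit 8192) (Steps.bwd (nat_lit 2) (Steps.bwd (nat_lit 1) Steps.nil))))))))))) (nat_lit 191) (nat_lit 0),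
  Rule.mk (nat_lit 15) (nat_lit 179) (Steps.fwd (nat_lit 16384) (Steps.fwd (nat_lit 8192) (Steps.bwd (nat_lit 4) (Steps.fwd (nat_lit 16384) (Steps.fwd (nat_lit 8192) (Steps.bwd (nat_lit 2) (Steps.bwd (nat_lit 1) (Steps.bwd (nat_lit 2) (Steps.bwd (nat_lit 1) (Steps.bwd (nat_lit 2) (Steps.bwd (nat_lit 1) Steps.nil))))))))))) (nat_lit 191) (nat_lit 0),
  Rule.mk (nat_lit 0) (nat_lit 194) (Steps.bwd (nat_lit 18) (Steps.bwd (nat_lit 1) (Steps.fwd (nat_lit 16384) (Steps.fwd (nat_lit 32768) (Steps.bwd (nat_lit 1) (Steps.bwd (nat_lit 2) (Steps.bwd (nat_lit 1) (Steps.fwd (nat_lit 24576) (Steps.fwd (nat_lit 8192) (Steps.fwd (nat_lit 16384) (Steps.fwd (nat_lit 8192) (Steps.bwd (nat_lit 3) Steps.nil)))))))))))) (nat_lit 192) (nat_lit 0),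
  Rule.mk (nat_lit 0) (nat_lit 194) (Steps.bwd (nat_lit 17) (Steps.bwd (nat_lit 2) (Steps.bwd (nat_lit 1) (Steps.fwd (nat_lit 24576) (Steps.bwd (nat_lit 1) (Steps.bwd (nat_lit 3) (Steps.fwd (nat_lit 8192) (Steps.bwd (nat_lit 3) (Steps.bwd (nat_lit 1) (Steps.bwd (nat_lit 4) (Steps.fwd (nat_lit 24576) (Steps.fwd (nat_lit 8192) Steps.nil)))))))))))) (nat_lit 193) (nat_lit 11)]
noncomputable def R_109 : List (Rule) := [Rule.mk (nat_lit 18) (nat_lit 179) (Steps.fwd (nat_lit 8192) (Steps.bwd (nat_lit 3) (Steps.fwd (nat_lit 32768) (Steps.bwd (nat_lit 1) (Steps.fwd (nat_lit 24576) (Steps.fwd (nat_lit 8192) (Steps.bwd (nat_lit 2) (Steps.fwd (nat_lit 8192) (Steps.bwd (nat_lit 3) (Steps.bwd (nat_lit 1) (Steps.fwd (nat_lit 16384) Steps.nil))))))))))) (nat_lit 192) (nat_lit 1),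
  Rule.mk (nat_lit 17) (nat_lit 179) (Steps.fwd (nat_lit 24576) (Steps.fwd (nat_lit 8192) (Steps.bwd (nat_lit 2) (Steps.bwd (nat_lit 1) (Steps.bwd (nat_lit 3) (Steps.fwd (nat_lit 8192) (Steps.fwd (nat_lit 16384) (Steps.fwd (nat_lit 8192) (Steps.bwd (nat_lit 4) (Steps.bwd (nat_lit 2) (Steps.bwd (nat_lit 1) Steps.nil))))))))))) (nat_lit 193) (nat_lit 0),
  Rule.mk (nat_lit 0) (nat_lit 194) (Steps.bwd (nat_lit 17) (Steps.bwd (nat_lit 2) (Steps.bwd (nat_lit 1) (Steps.fwd (nat_lit 24576) (Steps.fwd (nat_lit 8192) (Steps.fwd (nat_lit 16384) (Steps.fwd (nat_lit 8192) (Steps.bwd (nat_lit 3) (Steps.fwd (nat_lit 8192) (Steps.bwd (nat_lit 4) (Steps.bwd (nat_lit 2) (Steps.bwd (nat_lit 1) Steps.nil)))))))))))) (nat_lit 193) (nat_lit 11),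
  Rule.mk (nat_lit 0) (nat_lit 194) (Steps.bwd (nat_lit 1) (Steps.bwd (nat_lit 3) (Steps.bwd (nat_lit 4) (Steps.bwd (nat_lit 1) (Steps.bwd (nat_lit 2) (Steps.bwd (nat_lit 1) (Steps.fwd (nat_lit 24576) (Steps.bwd (nat_lit 1) (Steps.bwd (nat_lit 3) (Steps.fwd (nat_lit 8192) (Steps.bwd (nat_lit 3) (Steps.fwd (nat_lit 139264) Steps.nil)))))))))))) (nat_lit 192) (nat_lit 1),
  Rule.mk (nat_lit 17) (nat_lit 179) (Steps.fwd (nat_lit 24576) (Steps.fwd (nat_lit 8192) (Steps.bwd (nat_lit 2) (Steps.fwd (nat_lit 8192) (Steps.bwd (nat_lit 3) (Steps.bwd (nat_lit 1) (Steps.fwd (nat_lit 16384) (Steps.fwd (nat_lit 8192) (Steps.fwd (nat_lit 32768) (Steps.fwd (nat_lit 24576) (Steps.bwd (nat_lit 1) Steps.nil))))))))))) (nat_lit 193) (nat_lit 0),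
  Rule.mk (nat_lit 20) (nat_lit 179) (Steps.bwd (nat_lit 1) (Steps.fwd (nat_lit 24576) (Steps.fwd (nat_lit 8192) (Steps.bwd (nat_lit 2) (Steps.bwd (nat_lit 1) (Steps.bwd (nat_lit 3) (Steps.fwd (nat_lit 8192) (Steps.fwd (nat_lit 16384) (Steps.fwd (nat_lit 8192) (Steps.bwd (nat_lit 4) (Steps.bwd (nat_lit 2) Steps.nil))))))))))) (nat_lit 194) (nat_lit 1),
  Rule.mk (nat_lit 0) (nat_lit 194) (Steps.fwd (nat_lit 16384) (Steps.fwd (nat_lit 32768) (Steps.bwd (nat_lit 1) (Steps.fwd (nat_lit 24576) (Steps.bwd (nat_lit 1) (Steps.bwd (nat_lit 2) (Steps.bwd (nat_lit 1) (Steps.bwd (nat_lit 3) (Steps.fwd (nat_lit 8192) (Steps.fwd (nat_lit 16384) (Steps.fwd (nat_lit 8192) (Steps.fwd (nat_lit 163840) Steps.nil)))))))))))) (nat_lit 195) (nat_lit 0),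
  Rule.mk (nat_lit 0) (nat_lit 194) (Steps.bwd (nat_lit 20) (Steps.fwd (nat_lit 8192) (Steps.fwd (nat_lit 24576) (Steps.bwd (nat_lit 1) (Steps.fwd (nat_lit 24576) (Steps.fwd (nat_lit 8192) (Steps.bwd (nat_lit 3) (Steps.fwd (nat_lit 8192) (Steps.fwd (nat_lit 16384) (Steps.fwd (nat_lit 8192) (Steps.fwd (nat_lit 32768) (Steps.fwd (nat_lit 24576) Steps.nil)))))))))))) (nat_lit 194) (nat_lit 0),
  Rule.mk (nat_lit 20) (nat_lit 179) (Steps.bwd (nat_lit 1) (Steps.fwd (nat_lit 24576) (Steps.fwd (nat_lit 8192) (Steps.bwd (nat_lit 2) (Steps.fwd (nat_lit 8192) (Steps.bwd (nat_lit 3) (Steps.bwd (nat_lit 1) (Steps.fwd (nat_lit 16384) (Steps.fwd (nat_lit 8192) (Steps.fwd (nat_lit 32768) (Steps.fwd (nat_lit 24576) Steps.nil))))))))))) (nat_lit 194) (nat_lit 1),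
  Rule.mk (nat_lit 19) (nat_lit 179) (Steps.fwd (nat_lit 16384) (Steps.bwd (nat_lit 4) (Steps.bwd (nat_lit 1) (Steps.fwd (nat_lit 24576) (Steps.fwd (nat_lit 8192) (Steps.bwd (nat_lit 2) (Steps.bwd (nat_lit 1) (Steps.bwd (nat_lit 3) (Steps.fwd (nat_lit 8192) (Steps.fwd (nat_lit 16384) (Steps.fwd (nat_lit 8192) Steps.nil))))))))))) (nat_lit 195) (nat_lit 0),
  Rule.mk (nat_lit 0) (nat_lit 194) (Steps.bwd (nat_lit 19) (Steps.fwd (nat_lit 16384) (Steps.fwd (nat_lit 32768) (Steps.bwd (nat_lit 1) (Steps.bwd (nat_lit 2) (Steps.bwd (nat_lit 1) (Steps.fwd (nat_lit 24576) (Steps.fwd (nat_lit 8192) (Steps.fwd (nat_lit 16384) (Steps.fwd (nat_lit 8192) (Steps.bwd (nat_lit 3) (Steps.fwd (nat_lit 8192) Steps.nil)))))))))))) (nat_lit 195) (nat_lit 11),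
  Rule.mk (nat_lit 0) (nat_lit 194) (Steps.bwd (nat_lit 1) (Steps.bwd (nat_lit 2) (Steps.bwd (nat_lit 1) (Steps.fwd (nat_lit 24576) (Steps.bwd (nat_lit 1) (Steps.bwd (nat_lit 3) (Steps.fwd (nat_lit 8192) (Steps.bwd (nat_lit 3) (Steps.bwd (nat_lit 1) (Steps.bwd (nat_lit 4) (Steps.fwd (nat_lit 24576) (Steps.fwd (nat_lit 155648) Steps.nil)))))))))))) (nat_lit 194) (nat_lit 1),
  Rule.mk (nat_lit 19) (nat_lit 179) (Steps.bwd (nat_lit 3) (Steps.fwd (nat_lit 32768) (Steps.bwd (nat_lit 1) (Steps.fwd (nat_lit 24576) (Steps.fwd (nat_lit 8192) (Steps.bwd (nat_lit 2) (Steps.fwd (nat_lit 8192) (Steps.bwd (nat_lit 3) (Steps.bwd (nat_lit 1) (Steps.fwd (nat_lit 16384) (Steps.fwd (nat_lit 8192) Steps.nil))))))))))) (nat_lit 195) (nat_lit 0),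
  Rule.mk (nat_lit 17) (nat_lit 179) (Steps.fwd (nat_lit 24576) (Steps.bwd (nat_lit 1) (Steps.fwd (nat_lit 24576) (Steps.bwd (nat_lit 1) (Steps.fwd (nat_lit 16384) (Steps.fwd (nat_lit 8192) (Steps.bwd (nat_lit 3) (Steps.bwd (nat_lit 1) (Steps.fwd (nat_lit 32768) (Steps.bwd (nat_lit 2) (Steps.bwd (nat_lit 1) Steps.nil))))))))))) (nat_lit 193) (nat_lit 0),
  Rule.mk (nat_lit 15) (nat_lit 179) (Steps.bwd (nat_lit 3) (Steps.bwd (nat_lit 1) (Steps.fwd (nat_lit 32768) (Steps.bwd (nat_lit 3) (Steps.fwd (nat_lit 8192) (Steps.bwd (nat_lit 2) (Steps.bwd (nat_lit 1) (Steps.fwd (nat_lit 24576) (Steps.bwd (nat_lit 1) (Steps.bwd (nat_lit 2) (Steps.fwd (nat_lit 8192) Steps.nil))))))))))) (nat_lit 191) (nat_lit 0),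
  Rule.mk (nat_lit 15) (nat_lit 179) (Steps.bwd (nat_lit 3) (Steps.fwd (nat_lit 8192) (Steps.bwd (nat_lit 4) (Steps.bwd (nat_lit 3) (Steps.bwd (nat_lit 1) (Steps.fwd (nat_lit 24576) (Steps.fwd (nat_lit 8192) (Steps.bwd (nat_lit 2) (Steps.fwd (nat_lit 8192) (Steps.bwd (nat_lit 2) (Steps.bwd (nat_lit 1) Steps.nil))))))))))) (nat_lit 191) (nat_lit 0),
  Rule.mk (nat_lit 2) (nat_lit 104) (Steps.bwd (nat_lit 10) (Steps.bwd (nat_lit 3) (Steps.bwd (nat_lit 6) (Steps.bwd (nat_lit 11) (Steps.fwd (nat_lit 98304) (Steps.bwd (nat_lit 14) Steps.nil)))))) (nat_lit 180) (nat_lit 1),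
  Rule.mk (nat_lit 11) (nat_lit 164) (Steps.bwd (nat_lit 10) (Steps.bwd (nat_lit 9) (Steps.fwd (nat_lit 65536) (Steps.bwd (nat_lit 5) (Steps.bwd (nat_lit 4) (Steps.bwd (nat_lit 1) (Steps.fwd (nat_lit 98304) (Steps.bwd (nat_lit 1) (Steps.fwd (nat_lit 114688) (Steps.fwd (nat_lit 98304) Steps.nil)))))))))) (nat_lit 163) (nat_lit 3),
  Rule.mk (nat_lit 16) (nat_lit 179) (Steps.bwd (nat_lit 1) (Steps.bwd (nat_lit 3) (Steps.fwd (nat_lit 8192) (Steps.fwd (nat_lit 16384) (Steps.fwd (nat_lit 8192) (Steps.fwd (nat_lit 16384) (Steps.bwd (nat_lit 1) (Steps.fwd (nat_lit 24576) (Steps.bwd (nat_lit 4) (Steps.bwd (nat_lit 1) (Steps.bwd (nat_lit 2) Steps.nil))))))))))) (nat_lit 190) (nat_lit 1),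
  Rule.mk (nat_lit 20) (nat_lit 179) (Steps.fwd (nat_lit 8192) (Steps.fwd (nat_lit 24576) (Steps.bwd (nat_lit 1) (Steps.fwd (nat_lit 24576) (Steps.bwd (nat_lit 1) (Steps.bwd (nat_lit 3) (Steps.bwd (nat_lit 1) (Steps.fwd (nat_lit 16384) (Steps.bwd (nat_lit 1) (Steps.fwd (nat_lit 32768) (Steps.bwd (nat_lit 2) Steps.nil))))))))))) (nat_lit 194) (nat_lit 1),
  Rule.mk (nat_lit 0) (nat_lit 194) (Steps.fwd (nat_lit 16384) (Steps.bwd (nat_lit 1) (Steps.fwd (nat_lit 32768) (Steps.bwd (nat_lit 3) (Steps.bwd (nat_lit 1) (Steps.fwd (nat_lit 24576) (Steps.fwd (nat_lit 8192) (Steps.bwd (nat_lit 2) (Steps.fwd (nat_lit 8192) (Steps.fwd (nat_lit 24576) (Steps.fwd (nat_lit 8192) (Steps.fwd (nat_lit 131072) Steps.nil)))))))))))) (nat_lit 191) (nat_lit 0),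
  Rule.mk (nat_lit 2) (nat_lit 104) (Steps.fwd (nat_lit 57344) (Steps.fwd (nat_lit 16384) (Steps.bwd (nat_lit 5) (Steps.bwd (nat_lit 7) (Steps.bwd (nat_lit 13) (Steps.bwd (nat_lit 14) Steps.nil)))))) (nat_lit 174) (nat_lit 1),
  Rule.mk (nat_lit 16) (nat_lit 179) (Steps.bwd (nat_lit 1) (Steps.bwd (nat_lit 3) (Steps.bwd (nat_lit 1) (Steps.fwd (nat_lit 16384) (Steps.fwd (nat_lit 8192) (Steps.fwd (nat_lit 16384) (Steps.bwd (nat_lit 1) (Steps.fwd (nat_lit 24576) (Steps.bwd (nat_lit 4) (Steps.fwd (nat_lit 8192) (Steps.bwd (nat_lit 2) Steps.nil))))))))))) (nat_lit 190) (nat_lit 1),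
  Rule.mk (nat_lit 1) (nat_lit 179) (Steps.bwd (nat_lit 17) (Steps.fwd (nat_lit 24576) (Steps.fwd (nat_lit 8192) (Steps.bwd (nat_lit 2) (Steps.bwd (nat_lit 1) (Steps.bwd (nat_lit 3) (Steps.bwd (nat_lit 1) (Steps.fwd (nat_lit 16384) (Steps.fwd (nat_lit 8192) (Steps.bwd (nat_lit 4) (Steps.bwd (nat_lit 2) Steps.nil))))))))))) (nat_lit 193) (nat_lit 11),
  Rule.mk (nat_lit 14) (nat_lit 89) (Steps.bwd (nat_lit 7) (Steps.fwd (nat_lit 32768) (Steps.bwd (nat_lit 1) (Steps.bwd (nat_lit 9) (Steps.bwd (nat_lit 1) Steps.nil))))) (nat_lit 157) (nat_lit 1),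
  Rule.mk (nat_lit 7) (nat_lit 164) (Steps.fwd (nat_lit 8192) (Steps.bwd (nat_lit 5) (Steps.bwd (nat_lit 6) (Steps.fwd (nat_lit 73728) (Steps.fwd (nat_lit 81920) (Steps.bwd (nat_lit 11) (Steps.fwd (nat_lit 98304) (Steps.bwd (nat_lit 13) (Steps.bwd (nat_lit 14) (Steps.bwd (nat_lit 1) Steps.nil)))))))))) (nat_lit 152) (nat_lit 2),
  Rule.mk (nat_lit 2) (nat_lit 179) (Steps.bwd (nat_lit 16) (Steps.fwd (nat_lit 8192) (Steps.bwd (nat_lit 3) (Steps.bwd (nat_lit 1) (Steps.bwd (nat_lit 3) (Steps.bwd (nat_lit 1) (Steps.fwd (nat_lit 16384) (Steps.fwd (nat_lit 8192) (Steps.fwd (nat_lit 24576) (Steps.bwd (nat_lit 4) (Steps.bwd (nat_lit 1) Steps.nil))))))))))) (nat_lit 190) (nat_lit 0),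
  Rule.mk (nat_lit 0) (nat_lit 74) (Steps.bwd (nat_lit 4) (Steps.bwd (nat_lit 3) (Steps.fwd (nat_lit 32768) (Steps.bwd (nat_lit 2) Steps.nil)))) (nat_lit 168) (nat_lit 1),
  Rule.mk (nat_lit 3) (nat_lit 179) (Steps.fwd (nat_lit 8192) (Steps.bwd (nat_lit 4) (Steps.fwd (nat_lit 16384) (Steps.bwd (nat_lit 1) (Steps.bwd (nat_lit 2) (Steps.fwd (nat_lit 8192) (Steps.bwd (nat_lit 2) (Steps.bwd (nat_lit 1) (Steps.bwd (nat_lit 2) (Steps.fwd (nat_lit 8192) (Steps.fwd (nat_lit 131072) Steps.nil))))))))))) (nat_lit 191) (nat_lit 1),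
  Rule.mk (nat_lit 15) (nat_lit 179) (Steps.fwd (nat_lit 16384) (Steps.bwd (nat_lit 1) (Steps.bwd (nat_lit 4) (Steps.fwd (nat_lit 16384) (Steps.fwd (nat_lit 8192) (Steps.bwd (nat_lit 2) (Steps.bwd (nat_lit 1) (Steps.bwd (nat_lit 2) (Steps.fwd (nat_lit 8192) (Steps.bwd (nat_lit 2) (Steps.bwd (nat_lit 1) Steps.nil))))))))))) (nat_lit 191) (nat_lit 0),
  Rule.mk (nat_lit 18) (nat_lit 179) (Steps.bwd (nat_lit 1) (Steps.bwd (nat_lit 3) (Steps.bwd (nat_lit 4) (Steps.fwd (nat_lit 8192) (Steps.bwd (nat_lit 2) (Steps.bwd (nat_lit 1) (Steps.bwd (nat_lit 2) (Steps.fwd (nat_lit 8192) (Steps.fwd (nat_lit 16384) (Steps.fwd (nat_lit 8192) (Steps.bwd (nat_lit 3) Steps.nil))))))))))) (nat_lit 192) (nat_lit 1),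
  Rule.mk (nat_lit 0) (nat_lit 194) (Steps.bwd (nat_lit 18) (Steps.bwd (nat_lit 1) (Steps.fwd (nat_lit 16384) (Steps.bwd (nat_lit 4) (Steps.bwd (nat_lit 1) (Steps.fwd (nat_lit 24576) (Steps.bwd (nat_lit 1) (Steps.fwd (nat_lit 24576) (Steps.fwd (nat_lit 8192) (Steps.bwd (nat_lit 3) (Steps.fwd (nat_lit 8192) (Steps.fwd (nat_lit 16384) Steps.nil)))))))))))) (nat_lit 192) (nat_lit 0),
  Rule.mk (nat_lit 17) (nat_lit 179) (Steps.bwd (nat_lit 2) (Steps.bwd (nat_lit 1) (Steps.bwd (nat_lit 2) (Steps.fwd (nat_lit 8192) (Steps.fwd (nat_lit 16384) (Steps.fwd (nat_lit 8192) (Steps.bwd (nat_lit 3) (Steps.fwd (nat_lit 8192) (Steps.bwd (nat_lit 4) (Steps.bwd (nat_lit 2) (Steps.fwd (nat_lit 8192) Steps.nil))))))))))) (nat_lit 193) (nat_lit 0),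
  Rule.mk (nat_lit 20) (nat_lit 179) (Steps.fwd (nat_lit 8192) (Steps.bwd (nat_lit 2) (Steps.bwd (nat_lit 1) (Steps.fwd (nat_lit 24576) (Steps.bwd (nat_lit 1) (Steps.bwd (nat_lit 3) (Steps.fwd (nat_lit 8192) (Steps.bwd (nat_lit 3) (Steps.fwd (nat_lit 8192) (Steps.fwd (nat_lit 32768) (Steps.bwd (nat_lit 2) Steps.nil))))))))))) (nat_lit 194) (nat_lit 1),
  Rule.mk (nat_lit 20) (nat_lit 179) (Steps.fwd (nat_lit 8192) (Steps.bwd (nat_lit 2) (Steps.bwd (nat_lit 1) (Steps.bwd (nat_lit 2) (Steps.fwd (nat_lit 8192) (Steps.fwd (nat_lit 16384) (Steps.fwd (nat_lit 8192) (Steps.bwd (nat_lit 3) (Steps.fwd (nat_lit 8192) (Steps.bwd (nat_lit 4) (Steps.bwd (nat_lit 2) Steps.nil))))))))))) (nat_lit 194) (nat_lit 1),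
  Rule.mk (nat_lit 19) (nat_lit 179) (Steps.bwd (nat_lit 3) (Steps.bwd (nat_lit 4) (Steps.fwd (nat_lit 8192) (Steps.bwd (nat_lit 2) (Steps.bwd (nat_lit 1) (Steps.bwd (nat_lit 2) (Steps.fwd (nat_lit 8192) (Steps.fwd (nat_lit 16384) (Steps.fwd (nat_lit 8192) (Steps.bwd (nat_lit 3) (Steps.fwd (nat_lit 8192) Steps.nil))))))))))) (nat_lit 195) (nat_lit 0),
  Rule.mk (nat_lit 2) (nat_lit 539) (Steps.fwd (nat_lit 8192) (Steps.fwd (nat_lit 16384) (Steps.bwd (nat_lit 1) (Steps.fwd (nat_lit 16384) (Steps.fwd (nat_lit 8192) (Steps.bwd (nat_lit 2) (Steps.bwd (nat_lit 1) (Steps.bwd (nat_lit 2) (Steps.fwd (nat_lit 8192) (Steps.fwd (nat_lit 16384) (Steps.fwd (nat_lit 8192) (Steps.bwd (nat_lit 2) (Steps.fwd (nat_lit 8192) (Steps.bwd (nat_lit 2) (Steps.fwd (nat_lit 8192) (Steps.bwd (nat_lit 3) (Steps.fwd (nat_lit 8192) (Steps.bwd (nat_lit 2) (Steps.bwd (nat_lit 1) (Steps.bwd (nat_lit 2) (Steps.bwd (nat_lit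 1) (Steps.bwd (nat_lit 3) (Steps.fwd (nat_lit 8192) (Steps.bwd (nat_lit 2) (Steps.fwd (nat_lit 8192) (Steps.bwd (nat_lit 3) (Steps.bwd (nat_lit 1) (Steps.fwd (nat_lit 16384) (Steps.bwd (nat_lit 1) (Steps.bwd (nat_lit 2) (Steps.bwd (nat_lit 1) (Steps.fwd (nat_lit 16384) (Steps.bwd (nat_lit 1) (Steps.fwd (nat_lit 16384) (Steps.fwd (nat_lit 8192) Steps.nil))))))))))))))))))))))))))))))))))) (nat_lit 12) (nat_lit 32),
  Rule.mk (nat_lit 0) (nat_lit 194) (Steps.bwd (nat_lit 16) (Steps.fwd (nat_lit 8192) (Steps.bwd (nat_lit 3) (Steps.bwd (nat_lit 1) (Steps.fwd (nat_lit 16384) (Steps.bwd (nat_lit 1) (Steps.fwd (nat_lit 16384) (Steps.fwd (nat_lit 8192) (Steps.bwd (nat_lit 2) (Steps.bwd (nat_lit 4) (Steps.bwd (nat_lit 1) (Steps.fwd (nat_lit 24576) Steps.nil)))))))))))) (nat_lit 190) (nat_lit 0),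
  Rule.mk (nat_lit 0) (nat_lit 194) (Steps.bwd (nat_lit 1) (Steps.fwd (nat_lit 16384) (Steps.bwd (nat_lit 1) (Steps.fwd (nat_lit 16384) (Steps.bwd (nat_lit 1) (Steps.bwd (nat_lit 3) (Steps.bwd (nat_lit 1) (Steps.fwd (nat_lit 24576) (Steps.bwd (nat_lit 4) (Steps.fwd (nat_lit 8192) (Steps.fwd (nat_lit 24576) (Steps.fwd (nat_lit 122880) Steps.nil)))))))))))) (nat_lit 190) (nat_lit 1),
  Rule.mk (nat_lit 0) (nat_lit 194) (Steps.bwd (nat_lit 18) (Steps.bwd (nat_lit 1) (Steps.fwd (nat_lit 16384) (Steps.fwd (nat_lit 32768) (Steps.fwd (nat_lit 8192) (Steps.bwd (nat_lit 2) (Steps.fwd (nat_lit 8192) (Steps.bwd (nat_lit 2) (Steps.bwd (nat_lit 1) (Steps.fwd (nat_lit 16384) (Steps.bwd (nat_lit 1) (Steps.fwd (nat_lit 16384) Steps.nil)))))))))))) (nat_lit 192) (nat_lit 0),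
  Rule.mk (nat_lit 17) (nat_lit 179) (Steps.fwd (nat_lit 24576) (Steps.bwd (nat_lit 1) (Steps.bwd (nat_lit 2) (Steps.fwd (nat_lit 8192) (Steps.bwd (nat_lit 3) (Steps.fwd (nat_lit 8192) (Steps.bwd (nat_lit 3) (Steps.bwd (nat_lit 1) (Steps.bwd (nat_lit 4) (Steps.bwd (nat_lit 2) (Steps.bwd (nat_lit 1) Steps.nil))))))))))) (nat_lit 193) (nat_lit 0),
  Rule.mk (nat_lit 17) (nat_lit 179) (Steps.bwd (nat_lit 2) (Steps.fwd (nat_lit 8192) (Steps.bwd (nat_lit 2) (Steps.bwd (nat_lit 1) (Steps.fwd (nat_lit 16384) (Steps.bwd (nat_lit 1) (Steps.fwd (nat_lit 16384) (Steps.fwd (nat_lit 8192) (Steps.fwd (nat_lit 32768) (Steps.fwd (nat_lit 24576) (Steps.bwd (nat_lit 1) Steps.nil))))))))))) (nat_lit 193) (nat_lit 0),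
  Rule.mk (nat_lit 20) (nat_lit 179) (Steps.bwd (nat_lit 1) (Steps.fwd (nat_lit 24576) (Steps.bwd (nat_lit 1) (Steps.bwd (nat_lit 2) (Steps.fwd (nat_lit 8192) (Steps.bwd (nat_lit 3) (Steps.fwd (nat_lit 8192) (Steps.bwd (nat_lit 3) (Steps.bwd (nat_lit 1) (Steps.bwd (nat_lit 4) (Steps.bwd (nat_lit 2) Steps.nil))))))))))) (nat_lit 194) (nat_lit 1),
  Rule.mk (nat_lit 20) (nat_lit 179) (Steps.fwd (nat_lit 8192) (Steps.bwd (nat_lit 2) (Steps.fwd (nat_lit 8192) (Steps.bwd (nat_lit 2) (Steps.bwd (nat_lit 1) (Steps.fwd (nat_lit 16384) (Steps.bwd (nat_lit 1) (Steps.fwd (nat_lit 16384) (Steps.fwd (nat_lit 8192) (Steps.fwd (nat_lit 32768) (Steps.fwd (nat_lit 24576) Steps.nil))))))))))) (nat_lit 194) (nat_lit 1),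
  Rule.mk (nat_lit 19) (nat_lit 179) (Steps.fwd (nat_lit 16384) (Steps.fwd (nat_lit 32768) (Steps.fwd (nat_lit 8192) (Steps.bwd (nat_lit 2) (Steps.fwd (nat_lit 8192) (Steps.bwd (nat_lit 2) (Steps.bwd (nat_lit 1) (Steps.fwd (nat_lit 16384) (Steps.bwd (nat_lit 1) (Steps.fwd (nat_lit 16384) (Steps.fwd (nat_lit 8192) Steps.nil))))))))))) (nat_lit 195) (nat_lit 0),
  Rule.mk (nat_lit 9) (nat_lit 134) (Steps.bwd (nat_lit 3) (Steps.bwd (nat_lit 4) (Steps.bwd (nat_lit 5) (Steps.fwd (nat_lit 65536) (Steps.bwd (nat_lit 9) (Steps.fwd (nat_lit 90112) (Steps.fwd (nat_lit 114688) (Steps.fwd (nat_lit 24576) Steps.nil)))))))) (nat_lit 178) (nat_lit 2),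
  Rule.mk (nat_lit 13) (nat_lit 134) (Steps.bwd (nat_lit 3) (Steps.fwd (nat_lit 49152) (Steps.fwd (nat_lit 81920) (Steps.fwd (nat_lit 90112) (Steps.fwd (nat_lit 98304) (Steps.bwd (nat_lit 13) (Steps.fwd (nat_lit 114688) (Steps.fwd (nat_lit 24576) Steps.nil)))))))) (nat_lit 186) (nat_lit 2),
  Rule.mk (nat_lit 5) (nat_lit 149) (Steps.bwd (nat_lit 3) (Steps.bwd (nat_lit 4) (Steps.bwd (nat_lit 5) (Steps.fwd (nat_lit 65536) (Steps.bwd (nat_lit 9) (Steps.bwd (nat_lit 12) (Steps.fwd (nat_lit 106496) (Steps.bwd (nat_lit 14) (Steps.bwd (nat_lit 2) Steps.nil))))))))) (nat_lit 170) (nat_lit 2),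
  Rule.mk (nat_lit 6) (nat_lit 164) (Steps.bwd (nat_lit 3) (Steps.fwd (nat_lit 40960) (Steps.bwd (nat_lit 6) (Steps.bwd (nat_lit 9) (Steps.fwd (nat_lit 81920) (Steps.bwd (nat_lit 11) (Steps.fwd (nat_lit 98304) (Steps.bwd (nat_lit 13) (Steps.fwd (nat_lit 114688) (Steps.bwd (nat_lit 2) Steps.nil)))))))))) (nat_lit 172) (nat_lit 2),
  Rule.mk (nat_lit 19) (nat_lit 179) (Steps.bwd (nat_lit 3) (Steps.bwd (nat_lit 4) (Steps.fwd (nat_lit 8192) (Steps.fwd (nat_lit 24576) (Steps.fwd (nat_lit 8192) (Steps.bwd (nat_lit 2) (Steps.bwd (nat_lit 1) (Steps.bwd (nat_lit 3) (Steps.fwd (nat_lit 8192) (Steps.fwd (nat_lit 16384) (Steps.fwd (nat_lit 8192) Steps.nil))))))))))) (nat_lit 195) (nat_lit 0),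
  Rule.mk (nat_lit 1) (nat_lit 539) (Steps.bwd (nat_lit 3) (Steps.fwd (nat_lit 8192) (Steps.fwd (nat_lit 24576) (Steps.bwd (nat_lit 1) (Steps.fwd (nat_lit 16384) (Steps.fwd (nat_lit 8192) (Steps.bwd (nat_lit 3) (Steps.bwd (nat_lit 1) (Steps.bwd (nat_lit 2) (Steps.fwd (nat_lit 8192) (Steps.bwd (nat_lit 3) (Steps.fwd (nat_lit 8192) (Steps.bwd (nat_lit 3) (Steps.fwd (nat_lit 8192) (Steps.fwd (nat_lit 24576) (Steps.fwd (nat_lit 8192) (Steps.bwd (nat_lit 2) (Steps.fwd (nat_lit 8192) (Steps.fwd (nat_lit 16384) (Steps.bwd (nat_lit 1) (Steps.bwd (nat_lit 2) (Steps.fwd (nat_lit 8192) (Steps.bwd (nat_lit 2) (Steps.bwd (nat_lit 1) (Steps.fwd (nat_lit 16384) (Steps.fwd (nat_lit 8192) (Steps.fwd (nat_lit 24576) (Steps.fwd (nat_lit 8192) (Steps.fwd (nat_lit 24576) (Steps.bwd (nat_lit 1) (Steps.fwd (nat_lit 16384) (Steps.fwd (nat_lit 8192) (Steps.bwd (nat_lit 2) (Steps.fwd (nat_lit 8192) (Steps.bwd (nat_lit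 3) Steps.nil))))))))))))))))))))))))))))))))))) (nat_lit 12) (nat_lit 23),
  Rule.mk (nat_lit 16) (nat_lit 179) (Steps.fwd (nat_lit 8192) (Steps.bwd (nat_lit 3) (Steps.fwd (nat_lit 8192) (Steps.fwd (nat_lit 16384) (Steps.bwd (nat_lit 1) (Steps.bwd (nat_lit 3) (Steps.fwd (nat_lit 8192) (Steps.bwd (nat_lit 2) (Steps.bwd (nat_lit 4) (Steps.bwd (nat_lit 1) (Steps.fwd (nat_lit 24576) Steps.nil))))))))))) (nat_lit 190) (nat_lit 1),
  Rule.mk (nat_lit 0) (nat_lit 194) (Steps.bwd (nat_lit 16) (Steps.fwd (nat_lit 8192) (Steps.bwd (nat_lit 3) (Steps.fwd (nat_lit 8192) (Steps.bwd (nat_lit 3) (Steps.fwd (nat_lit 8192) (Steps.bwd (nat_lit 3) (Steps.bwd (nat_lit 1) (Steps.fwd (nat_lit 24576) (Steps.bwd (nat_lit 4) (Steps.bwd (nat_lit 1) (Steps.fwd (nat_lit 24576) Steps.nil)))))))))))) (nat_lit 190) (nat_lit 0),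
  Rule.mk (nat_lit 2) (nat_lit 179) (Steps.bwd (nat_lit 16) (Steps.fwd (nat_lit 8192) (Steps.bwd (nat_lit 3) (Steps.bwd (nat_lit 1) (Steps.bwd (nat_lit 3) (Steps.fwd (nat_lit 8192) (Steps.bwd (nat_lit 3) (Steps.bwd (nat_lit 1) (Steps.bwd (nat_lit 2) (Steps.bwd (nat_lit 4) (Steps.bwd (nat_lit 1) Steps.nil))))))))))) (nat_lit 190) (nat_lit 0),
  Rule.mk (nat_lit 16) (nat_lit 179) (Steps.bwd (nat_lit 1) (Steps.bwd (nat_lit 3) (Steps.fwd (nat_lit 8192) (Steps.bwd (nat_lit 3) (Steps.bwd (nat_lit 1) (Steps.fwd (nat_lit 16384) (Steps.fwd (nat_lit 8192) (Steps.fwd (nat_lit 24576) (Steps.bwd (nat_lit 4) (Steps.fwd (nat_lit 8192) (Steps.fwd (nat_lit 24576) Steps.nil))))))))))) (nat_lit 190) (nat_lit 1),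
  Rule.mk (nat_lit 15) (nat_lit 179) (Steps.bwd (nat_lit 3) (Steps.fwd (nat_lit 8192) (Steps.bwd (nat_lit 4) (Steps.fwd (nat_lit 16384) (Steps.fwd (nat_lit 8192) (Steps.fwd (nat_lit 24576) (Steps.bwd (nat_lit 1) (Steps.fwd (nat_lit 24576) (Steps.fwd (nat_lit 8192) (Steps.fwd (nat_lit 24576) (Steps.bwd (nat_lit 1) Steps.nil))))))))))) (nat_lit 191) (nat_lit 0),
  Rule.mk (nat_lit 15) (nat_lit 179) (Steps.bwd (nat_lit 3) (Steps.bwd (nat_lit 1) (Steps.fwd (nat_lit 32768) (Steps.bwd (nat_lit 3) (Steps.bwd (nat_lit 1) (Steps.fwd (nat_lit 24576) (Steps.fwd (nat_lit 8192) (Steps.fwd (nat_lit 24576) (Steps.bwd (nat_lit 1) (Steps.fwd (nat_lit 24576) (Steps.fwd (nat_lit 8192) Steps.nil))))))))))) (nat_lit 191) (nat_lit 0),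
  Rule.mk (nat_lit 15) (nat_lit 179) (Steps.fwd (nat_lit 16384) (Steps.fwd (nat_lit 8192) (Steps.bwd (nat_lit 4) (Steps.fwd (nat_lit 16384) (Steps.fwd (nat_lit 8192) (Steps.fwd (nat_lit 24576) (Steps.bwd (nat_lit 1) (Steps.fwd (nat_lit 24576) (Steps.fwd (nat_lit 8192) (Steps.fwd (nat_lit 24576) (Steps.fwd (nat_lit 8192) Steps.nil))))))))))) (nat_lit 191) (nat_lit 0),
  Rule.mk (nat_lit 0) (nat_lit 194) (Steps.bwd (nat_lit 15) (Steps.fwd (nat_lit 16384) (Steps.fwd (nat_lit 8192) (Steps.bwd (nat_lit 4) (Steps.bwd (nat_lit 3) (Steps.bwd (nat_lit 1) (Steps.fwd (nat_lit 24576) (Steps.fwd (nat_lit 8192) (Steps.fwd (nat_lit 24576) (Steps.fwd (nat_lit 8192) (Steps.fwd (nat_lit 24576) (Steps.fwd (nat_lit 8192) Steps.nil)))))))))))) (nat_lit 191) (nat_lit 11),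
  Rule.mk (nat_lit 18) (nat_lit 179) (Steps.fwd (nat_lit 8192) (Steps.bwd (nat_lit 3) (Steps.fwd (nat_lit 32768) (Steps.bwd (nat_lit 1) (Steps.fwd (nat_lit 24576) (Steps.fwd (nat_lit 8192) (Steps.bwd (nat_lit 2) (Steps.fwd (nat_lit 8192) (Steps.bwd (nat_lit 3) (Steps.bwd (nat_lit 1) (Steps.bwd (nat_lit 3) Steps.nil))))))))))) (nat_lit 192) (nat_lit 1),
  Rule.mk (nat_lit 18) (nat_lit 179) (Steps.fwd (nat_lit 8192) (Steps.fwd (nat_lit 16384) (Steps.fwd (nat_lit 32768) (Steps.fwd (nat_lit 8192) (Steps.fwd (nat_lit 24576) (Steps.bwd (nat_lit 1) (Steps.fwd (nat_lit 24576) (Steps.fwd (nat_lit 8192) (Steps.bwd (nat_lit 3) (Steps.bwd (nat_lit 1) (Steps.fwd (nat_lit 16384) Steps.nil))))))))))) (nat_lit 192) (nat_lit 1),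
  Rule.mk (nat_lit 0) (nat_lit 194) (Steps.fwd (nat_lit 24576) (Steps.fwd (nat_lit 8192) (Steps.fwd (nat_lit 24576) (Steps.bwd (nat_lit 1) (Steps.bwd (nat_lit 3) (Steps.bwd (nat_lit 1) (Steps.bwd (nat_lit 3) (Steps.fwd (nat_lit 8192) (Steps.fwd (nat_lit 32768) (Steps.bwd (nat_lit 2) (Steps.bwd (nat_lit 1) (Steps.fwd (nat_lit 147456) Steps.nil)))))))))))) (nat_lit 193) (nat_lit 0),
  Rule.mk (nat_lit 18) (nat_lit 179) (Steps.bwd (nat_lit 1) (Steps.bwd (nat_lit 3) (Steps.bwd (nat_lit 4) (Steps.fwd (nat_lit 8192) (Steps.fwd (nat_lit 24576) (Steps.fwd (nat_lit 8192) (Steps.bwd (nat_lit 2) (Steps.bwd (nat_lit 1) (Steps.bwd (nat_lit 3) (Steps.fwd (nat_lit 8192) (Steps.fwd (nat_lit 16384) Steps.nil))))))))))) (nat_lit 192) (nat_lit 1),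
  Rule.mk (nat_lit 17) (nat_lit 179) (Steps.fwd (nat_lit 24576) (Steps.bwd (nat_lit 1) (Steps.fwd (nat_lit 24576) (Steps.fwd (nat_lit 8192) (Steps.fwd (nat_lit 16384) (Steps.bwd (nat_lit 1) (Steps.bwd (nat_lit 3) (Steps.fwd (nat_lit 8192) (Steps.fwd (nat_lit 32768) (Steps.fwd (nat_lit 24576) (Steps.bwd (nat_lit 1) Steps.nil))))))))))) (nat_lit 193) (nat_lit 0)]
noncomputable def R_110 : List (Rule) := [Rule.mk (nat_lit 17) (nat_lit 179) (Steps.fwd (nat_lit 24576) (Steps.fwd (nat_lit 8192) (Steps.fwd (nat_lit 24576) (Steps.bwd (nat_lit 1) (Steps.bwd (nat_lit 3) (Steps.fwd (nat_lit 8192) (Steps.bwd (nat_lit 3) (Steps.bwd (nat_lit 1) (Steps.fwd (nat_lit 32768) (Steps.bwd (nat_lit 2) (Steps.bwd (nat_lit 1) Steps.nil))))))))))) (nat_lit 193) (nat_lit 0),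
  Rule.mk (nat_lit 17) (nat_lit 179) (Steps.fwd (nat_lit 24576) (Steps.bwd (nat_lit 1) (Steps.fwd (nat_lit 24576) (Steps.fwd (nat_lit 8192) (Steps.bwd (nat_lit 3) (Steps.bwd (nat_lit 1) (Steps.fwd (nat_lit 16384) (Steps.fwd (nat_lit 8192) (Steps.fwd (nat_lit 32768) (Steps.bwd (nat_lit 2) (Steps.fwd (nat_lit 8192) Steps.nil))))))))))) (nat_lit 193) (nat_lit 0),
  Rule.mk (nat_lit 2) (nat_lit 179) (Steps.bwd (nat_lit 20) (Steps.bwd (nat_lit 1) (Steps.fwd (nat_lit 24576) (Steps.fwd (nat_lit 8192) (Steps.bwd (nat_lit 2) (Steps.fwd (nat_lit 8192) (Steps.bwd (nat_lit 3) (Steps.bwd (nat_lit 1) (Steps.bwd (nat_lit 3) (Steps.fwd (nat_lit 8192) (Steps.bwd (nat_lit 4) Steps.nil))))))))))) (nat_lit 194) (nat_lit 0),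
  Rule.mk (nat_lit 20) (nat_lit 179) (Steps.bwd (nat_lit 1) (Steps.fwd (nat_lit 24576) (Steps.fwd (nat_lit 8192) (Steps.fwd (nat_lit 24576) (Steps.bwd (nat_lit 1) (Steps.bwd (nat_lit 3) (Steps.fwd (nat_lit 8192) (Steps.bwd (nat_lit 3) (Steps.bwd (nat_lit 1) (Steps.fwd (nat_lit 32768) (Steps.bwd (nat_lit 2) Steps.nil))))))))))) (nat_lit 194) (nat_lit 1),
  Rule.mk (nat_lit 20) (nat_lit 179) (Steps.fwd (nat_lit 8192) (Steps.fwd (nat_lit 24576) (Steps.bwd (nat_lit 1) (Steps.fwd (nat_lit 24576) (Steps.fwd (nat_lit 8192) (Steps.bwd (nat_lit 3) (Steps.bwd (nat_lit 1) (Steps.fwd (nat_lit 16384) (Steps.fwd (nat_lit 8192) (Steps.fwd (nat_lit 32768) (Steps.bwd (nat_lit 2) Steps.nil))))))))))) (nat_lit 194) (nat_lit 1),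
  Rule.mk (nat_lit 20) (nat_lit 179) (Steps.bwd (nat_lit 1) (Steps.fwd (nat_lit 24576) (Steps.fwd (nat_lit 8192) (Steps.fwd (nat_lit 24576) (Steps.fwd (nat_lit 8192) (Steps.bwd (nat_lit 3) (Steps.bwd (nat_lit 1) (Steps.bwd (nat_lit 3) (Steps.fwd (nat_lit 8192) (Steps.fwd (nat_lit 32768) (Steps.fwd (nat_lit 24576) Steps.nil))))))))))) (nat_lit 194) (nat_lit 1),
  Rule.mk (nat_lit 19) (nat_lit 179) (Steps.fwd (nat_lit 16384) (Steps.fwd (nat_lit 32768) (Steps.bwd (nat_lit 1) (Steps.fwd (nat_lit 24576) (Steps.bwd (nat_lit 1) (Steps.bwd (nat_lit 2) (Steps.fwd (nat_lit 8192) (Steps.bwd (nat_lit 3) (Steps.fwd (nat_lit 8192) (Steps.bwd (nat_lit 3) (Steps.bwd (nat_lit 1) Steps.nil))))))))))) (nat_lit 195) (nat_lit 0),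
  Rule.mk (nat_lit 0) (nat_lit 194) (Steps.fwd (nat_lit 8192) (Steps.fwd (nat_lit 24576) (Steps.bwd (nat_lit 1) (Steps.fwd (nat_lit 24576) (Steps.fwd (nat_lit 8192) (Steps.bwd (nat_lit 3) (Steps.bwd (nat_lit 1) (Steps.bwd (nat_lit 3) (Steps.fwd (nat_lit 8192) (Steps.fwd (nat_lit 32768) (Steps.fwd (nat_lit 24576) (Steps.fwd (nat_lit 155648) Steps.nil)))))))))))) (nat_lit 194) (nat_lit 1),
  Rule.mk (nat_lit 19) (nat_lit 179) (Steps.fwd (nat_lit 16384) (Steps.fwd (nat_lit 32768) (Steps.fwd (nat_lit 8192) (Steps.fwd (nat_lit 24576) (Steps.bwd (nat_lit 1) (Steps.fwd (nat_lit 24576) (Steps.fwd (nat_lit 8192) (Steps.bwd (nat_lit 3) (Steps.bwd (nat_lit 1) (Steps.fwd (nat_lit 16384) (Steps.fwd (nat_lit 8192) Steps.nil))))))))))) (nat_lit 195) (nat_lit 0),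
  Rule.mk (nat_lit 19) (nat_lit 179) (Steps.fwd (nat_lit 16384) (Steps.bwd (nat_lit 4) (Steps.bwd (nat_lit 1) (Steps.fwd (nat_lit 24576) (Steps.fwd (nat_lit 8192) (Steps.fwd (nat_lit 24576) (Steps.fwd (nat_lit 8192) (Steps.bwd (nat_lit 3) (Steps.bwd (nat_lit 1) (Steps.bwd (nat_lit 3) (Steps.fwd (nat_lit 8192) Steps.nil))))))))))) (nat_lit 195) (nat_lit 0),
  Rule.mk (nat_lit 1) (nat_lit 179) (Steps.fwd (nat_lit 16384) (Steps.fwd (nat_lit 32768) (Steps.bwd (nat_lit 1) (Steps.fwd (nat_lit 24576) (Steps.fwd (nat_lit 8192) (Steps.fwd (nat_lit 24576) (Steps.bwd (nat_lit 1) (Steps.fwd (nat_lit 16384) (Steps.bwd (nat_lit 1) (Steps.bwd (nat_lit 3) (Steps.fwd (nat_lit 139264) Steps.nil))))))))))) (nat_lit 192) (nat_lit 2),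
  Rule.mk (nat_lit 16) (nat_lit 179) (Steps.bwd (nat_lit 1) (Steps.fwd (nat_lit 16384) (Steps.fwd (nat_lit 8192) (Steps.fwd (nat_lit 16384) (Steps.bwd (nat_lit 1) (Steps.fwd (nat_lit 16384) (Steps.bwd (nat_lit 1) (Steps.bwd (nat_lit 2) (Steps.bwd (nat_lit 4) (Steps.fwd (nat_lit 8192) (Steps.bwd (nat_lit 2) Steps.nil))))))))))) (nat_lit 190) (nat_lit 1),
  Rule.mk (nat_lit 2) (nat_lit 539) (Steps.bwd (nat_lit 1) (Steps.fwd (nat_lit 16384) (Steps.fwd (nat_lit 8192) (Steps.fwd (nat_lit 16384) (Steps.bwd (nat_lit 1) (Steps.bwd (nat_lit 2) (Steps.fwd (nat_lit 8192) (Steps.bwd (nat_lit 3) (Steps.fwd (nat_lit 8192) (Steps.bwd (nat_lit 3) (Steps.fwd (nat_lit 8192) (Steps.bwd (nat_lit 2) (Steps.fwd (nat_lit 8192) (Steps.fwd (nat_lit 16384) (Steps.fwd (nat_lit 8192) (Steps.bwd (nat_lit 3) (Steps.fwd (nat_lit 8192) (Steps.bwd (nat_lit 2) (Steps.bwd (nat_lit 1) (Steps.fwd (nat_lit 24576) (Steps.fwd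 (nat_lit 8192) (Steps.fwd (nat_lit 16384) (Steps.bwd (nat_lit 1) (Steps.bwd (nat_lit 2) (Steps.bwd (nat_lit 1) (Steps.fwd (nat_lit 24576) (Steps.fwd (nat_lit 8192) (Steps.bwd (nat_lit 3) (Steps.fwd (nat_lit 8192) (Steps.bwd (nat_lit 2) (Steps.fwd (nat_lit 8192) (Steps.bwd (nat_lit 2) (Steps.fwd (nat_lit 8192) (Steps.bwd (nat_lit 3) (Steps.bwd (nat_lit 1) Steps.nil))))))))))))))))))))))))))))))))))) (nat_lit 12) (nat_lit 20),
  Rule.mk (nat_lit 2) (nat_lit 539) (Steps.bwd (nat_lit 1) (Steps.fwd (nat_lit 16384) (Steps.fwd (nat_lit 8192) (Steps.bwd (nat_lit 2) (Steps.fwd (nat_lit 8192) (Steps.bwd (nat_lit 2) (Steps.fwd (nat_lit 8192) (Steps.fwd (nat_lit 16384) (Steps.fwd (nat_lit 8192) (Steps.bwd (nat_lit 2) (Steps.fwd (nat_lit 8192) (Steps.fwd (nat_lit 16384) (Steps.bwd (nat_lit 1) (Steps.bwd (nat_lit 3) (Steps.bwd (nat_lit 1) (Steps.bwd (nat_lit 2) (Steps.fwd (nat_lit 8192) (Steps.bwd (nat_lit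 3) (Steps.bwd (nat_lit 1) (Steps.bwd (nat_lit 3) (Steps.fwd (nat_lit 8192) (Steps.fwd (nat_lit 24576) (Steps.fwd (nat_lit 8192) (Steps.bwd (nat_lit 3) (Steps.fwd (nat_lit 8192) (Steps.bwd (nat_lit 3) (Steps.fwd (nat_lit 8192) (Steps.bwd (nat_lit 2) (Steps.fwd (nat_lit 8192) (Steps.bwd (nat_lit 2) (Steps.fwd (nat_lit 8192) (Steps.bwd (nat_lit 3) (Steps.bwd (nat_lit 1) (Steps.bwd (nat_lit 2) (Steps.bwd (nat_lit 1) Steps.nil))))))))))))))))))))))))))))))))))) (nat_lit 12) (nat_lit 10),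
  Rule.mk (nat_lit 16) (nat_lit 179) (Steps.bwd (nat_lit 1) (Steps.fwd (nat_lit 16384) (Steps.fwd (nat_lit 8192) (Steps.fwd (nat_lit 16384) (Steps.fwd (nat_lit 8192) (Steps.fwd (nat_lit 16384) (Steps.fwd (nat_lit 8192) (Steps.fwd (nat_lit 24576) (Steps.fwd (nat_lit 32768) (Steps.bwd (nat_lit 1) (Steps.bwd (nat_lit 2) Steps.nil))))))))))) (nat_lit 190) (nat_lit 1),
  Rule.mk (nat_lit 16) (nat_lit 179) (Steps.fwd (nat_lit 8192) (Steps.fwd (nat_lit 16384) (Steps.fwd (nat_lit 8192) (Steps.fwd (nat_lit 16384) (Steps.fwd (nat_lit 8192) (Steps.bwd (nat_lit 3) (Steps.bwd (nat_lit 1) (Steps.fwd (nat_lit 24576) (Steps.bwd (nat_lit 4) (Steps.bwd (nat_lit 1) (Steps.bwd (nat_lit 2) Steps.nil))))))))))) (nat_lit 190) (nat_lit 1),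
  Rule.mk (nat_lit 0) (nat_lit 194) (Steps.fwd (nat_lit 8192) (Steps.fwd (nat_lit 16384) (Steps.fwd (nat_lit 8192) (Steps.bwd (nat_lit 3) (Steps.bwd (nat_lit 1) (Steps.bwd (nat_lit 3) (Steps.fwd (nat_lit 8192) (Steps.bwd (nat_lit 2) (Steps.fwd (nat_lit 32768) (Steps.fwd (nat_lit 8192) (Steps.bwd (nat_lit 2) (Steps.fwd (nat_lit 122880) Steps.nil)))))))))))) (nat_lit 190) (nat_lit 1),
  Rule.mk (nat_lit 18) (nat_lit 179) (Steps.fwd (nat_lit 8192) (Steps.fwd (nat_lit 16384) (Steps.fwd (nat_lit 32768) (Steps.fwd (nat_lit 8192) (Steps.bwd (nat_lit 2) (Steps.bwd (nat_lit 1) (Steps.fwd (nat_lit 24576) (Steps.bwd (nat_lit 1) (Steps.bwd (nat_lit 3) (Steps.fwd (nat_lit 8192) (Steps.bwd (nat_lit 3) Steps.nil))))))))))) (nat_lit 192) (nat_lit 1),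
  Rule.mk (nat_lit 17) (nat_lit 179) (Steps.fwd (nat_lit 24576) (Steps.bwd (nat_lit 1) (Steps.bwd (nat_lit 2) (Steps.fwd (nat_lit 8192) (Steps.bwd (nat_lit 3) (Steps.fwd (nat_lit 8192) (Steps.fwd (nat_lit 16384) (Steps.fwd (nat_lit 8192) (Steps.fwd (nat_lit 32768) (Steps.bwd (nat_lit 2) (Steps.bwd (nat_lit 1) Steps.nil))))))))))) (nat_lit 193) (nat_lit 0),
  Rule.mk (nat_lit 17) (nat_lit 179) (Steps.bwd (nat_lit 2) (Steps.bwd (nat_lit 1) (Steps.bwd (nat_lit 2) (Steps.fwd (nat_lit 8192) (Steps.fwd (nat_lit 16384) (Steps.fwd (nat_lit 8192) (Steps.bwd (nat_lit 3) (Steps.bwd (nat_lit 1) (Steps.bwd (nat_lit 4) (Steps.fwd (nat_lit 24576) (Steps.bwd (nat_lit 1) Steps.nil))))))))))) (nat_lit 193) (nat_lit 0),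
  Rule.mk (nat_lit 0) (nat_lit 194) (Steps.bwd (nat_lit 19) (Steps.fwd (nat_lit 16384) (Steps.bwd (nat_lit 4) (Steps.bwd (nat_lit 1) (Steps.bwd (nat_lit 2) (Steps.bwd (nat_lit 1) (Steps.fwd (nat_lit 24576) (Steps.bwd (nat_lit 1) (Steps.fwd (nat_lit 16384) (Steps.fwd (nat_lit 8192) (Steps.bwd (nat_lit 3) (Steps.fwd (nat_lit 8192) Steps.nil)))))))))))) (nat_lit 195) (nat_lit 11),
  Rule.mk (nat_lit 20) (nat_lit 179) (Steps.fwd (nat_lit 8192) (Steps.bwd (nat_lit 2) (Steps.bwd (nat_lit 1) (Steps.bwd (nat_lit 2) (Steps.fwd (nat_lit 8192) (Steps.fwd (nat_lit 16384) (Steps.fwd (nat_lit 8192) (Steps.bwd (nat_lit 3) (Steps.bwd (nat_lit 1) (Steps.bwd (nat_lit 4) (Steps.fwd (nat_lit 24576) Steps.nil))))))))))) (nat_lit 194) (nat_lit 1),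
  Rule.mk (nat_lit 14) (nat_lit 104) (Steps.fwd (nat_lit 106496) (Steps.fwd (nat_lit 57344) (Steps.fwd (nat_lit 40960) (Steps.fwd (nat_lit 24576) (Steps.bwd (nat_lit 7) (Steps.bwd (nat_lit 3) Steps.nil)))))) (nat_lit 175) (nat_lit 1),
  Rule.mk (nat_lit 0) (nat_lit 194) (Steps.fwd (nat_lit 8192) (Steps.bwd (nat_lit 3) (Steps.bwd (nat_lit 4) (Steps.bwd (nat_lit 1) (Steps.fwd (nat_lit 24576) (Steps.fwd (nat_lit 8192) (Steps.bwd (nat_lit 2) (Steps.fwd (nat_lit 8192) (Steps.fwd (nat_lit 16384) (Steps.bwd (nat_lit 1) (Steps.bwd (nat_lit 3) (Steps.fwd (nat_lit 139264) Steps.nil)))))))))))) (nat_lit 192) (nat_lit 1),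
  Rule.mk (nat_lit 0) (nat_lit 194) (Steps.bwd (nat_lit 3) (Steps.bwd (nat_lit 4) (Steps.bwd (nat_lit 1) (Steps.fwd (nat_lit 24576) (Steps.fwd (nat_lit 8192) (Steps.bwd (nat_lit 2) (Steps.fwd (nat_lit 8192) (Steps.fwd (nat_lit 16384) (Steps.bwd (nat_lit 1) (Steps.bwd (nat_lit 3) (Steps.fwd (nat_lit 8192) (Steps.fwd (nat_lit 163840) Steps.nil)))))))))))) (nat_lit 195) (nat_lit 0),
  Rule.mk (nat_lit 14) (nat_lit 134) (Steps.bwd (nat_lit 1) (Steps.bwd (nat_lit 10) (Steps.bwd (nat_lit 1) (Steps.fwd (nat_lit 32768) (Steps.fwd (nat_lit 40960) (Steps.fwd (nat_lit 65536) (Steps.bwd (nat_lit 9) (Steps.fwd (nat_lit 90112) Steps.nil)))))))) (nat_lit 158) (nat_lit 0),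
  Rule.mk (nat_lit 16) (nat_lit 179) (Steps.bwd (nat_lit 1) (Steps.bwd (nat_lit 3) (Steps.fwd (nat_lit 8192) (Steps.fwd (nat_lit 16384) (Steps.bwd (nat_lit 1) (Steps.fwd (nat_lit 16384) (Steps.fwd (nat_lit 8192) (Steps.bwd (nat_lit 2) (Steps.bwd (nat_lit 4) (Steps.fwd (nat_lit 8192) (Steps.fwd (nat_lit 24576) Steps.nil))))))))))) (nat_lit 190) (nat_lit 1),
  Rule.mk (nat_lit 20) (nat_lit 179) (Steps.bwd (nat_lit 1) (Steps.bwd (nat_lit 2) (Steps.bwd (nat_lit 1) (Steps.fwd (nat_lit 24576) (Steps.bwd (nat_lit 1) (Steps.fwd (nat_lit 16384) (Steps.fwd (nat_lit 8192) (Steps.bwd (nat_lit 3) (Steps.fwd (nat_lit 8192) (Steps.fwd (nat_lit 32768) (Steps.bwd (nat_lit 2) Steps.nil))))))))))) (nat_lit 194) (nat_lit 1),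
  Rule.mk (nat_lit 17) (nat_lit 179) (Steps.bwd (nat_lit 2) (Steps.bwd (nat_lit 1) (Steps.bwd (nat_lit 2) (Steps.fwd (nat_lit 8192) (Steps.fwd (nat_lit 16384) (Steps.bwd (nat_lit 1) (Steps.fwd (nat_lit 16384) (Steps.fwd (nat_lit 8192) (Steps.bwd (nat_lit 4) (Steps.bwd (nat_lit 2) (Steps.fwd (nat_lit 8192) Steps.nil))))))))))) (nat_lit 193) (nat_lit 0),
  Rule.mk (nat_lit 0) (nat_lit 194) (Steps.bwd (nat_lit 20) (Steps.bwd (nat_lit 1) (Steps.bwd (nat_lit 2) (Steps.bwd (nat_lit 1) (Steps.bwd (nat_lit 2) (Steps.fwd (nat_lit 8192) (Steps.fwd (nat_lit 16384) (Steps.bwd (nat_lit 1) (Steps.fwd (nat_lit 16384) (Steps.fwd (nat_lit 8192) (Steps.bwd (nat_lit 4) (Steps.bwd (nat_lit 2) Steps.nil)))))))))))) (nat_lit 194) (nat_lit 0),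
  Rule.mk (nat_lit 16) (nat_lit 179) (Steps.bwd (nat_lit 1) (Steps.fwd (nat_lit 16384) (Steps.fwd (nat_lit 8192) (Steps.fwd (nat_lit 16384) (Steps.bwd (nat_lit 1) (Steps.fwd (nat_lit 16384) (Steps.bwd (nat_lit 1) (Steps.bwd (nat_lit 2) (Steps.bwd (nat_lit 4) (Steps.bwd (nat_lit 1) (Steps.fwd (nat_lit 24576) Steps.nil))))))))))) (nat_lit 190) (nat_lit 1),
  Rule.mk (nat_lit 16) (nat_lit 179) (Steps.bwd (nat_lit 1) (Steps.bwd (nat_lit 3) (Steps.fwd (nat_lit 8192) (Steps.bwd (nat_lit 3) (Steps.fwd (nat_lit 8192) (Steps.bwd (nat_lit 3) (Steps.bwd (nat_lit 1) (Steps.bwd (nat_lit 2) (Steps.fwd (nat_lit 32768) (Steps.bwd (nat_lit 1) (Steps.bwd (nat_lit 2) Steps.nil))))))))))) (nat_lit 190) (nat_lit 1),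
  Rule.mk (nat_lit 20) (nat_lit 179) (Steps.fwd (nat_lit 8192) (Steps.fwd (nat_lit 24576) (Steps.bwd (nat_lit 1) (Steps.fwd (nat_lit 24576) (Steps.fwd (nat_lit 8192) (Steps.bwd (nat_lit 3) (Steps.fwd (nat_lit 8192) (Steps.fwd (nat_lit 16384) (Steps.bwd (nat_lit 1) (Steps.bwd (nat_lit 4) (Steps.bwd (nat_lit 2) Steps.nil))))))))))) (nat_lit 194) (nat_lit 1),
  Rule.mk (nat_lit 14) (nat_lit 119) (Steps.fwd (nat_lit 16384) (Steps.fwd (nat_lit 40960) (Steps.fwd (nat_lit 49152) (Steps.bwd (nat_lit 7) (Steps.bwd (nat_lit 12) (Steps.bwd (nat_lit 14) (Steps.bwd (nat_lit 2) Steps.nil))))))) (nat_lit 188) (nat_lit 2),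
  Rule.mk (nat_lit 9) (nat_lit 134) (Steps.bwd (nat_lit 3) (Steps.bwd (nat_lit 4) (Steps.fwd (nat_lit 40960) (Steps.bwd (nat_lit 8) (Steps.fwd (nat_lit 73728) (Steps.fwd (nat_lit 90112) (Steps.bwd (nat_lit 14) (Steps.bwd (nat_lit 2) Steps.nil)))))))) (nat_lit 178) (nat_lit 2),
  Rule.mk (nat_lit 5) (nat_lit 149) (Steps.bwd (nat_lit 3) (Steps.bwd (nat_lit 4) (Steps.fwd (nat_lit 40960) (Steps.fwd (nat_lit 65536) (Steps.fwd (nat_lit 73728) (Steps.bwd (nat_lit 12) (Steps.fwd (nat_lit 106496) (Steps.bwd (nat_lit 14) (Steps.bwd (nat_lit 2) Steps.nil))))))))) (nat_lit 170) (nat_lit 2),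
  Rule.mk (nat_lit 6) (nat_lit 164) (Steps.fwd (nat_lit 16384) (Steps.bwd (nat_lit 5) (Steps.bwd (nat_lit 6) (Steps.bwd (nat_lit 9) (Steps.bwd (nat_lit 10) (Steps.bwd (nat_lit 11) (Steps.bwd (nat_lit 12) (Steps.fwd (nat_lit 106496) (Steps.bwd (nat_lit 14) (Steps.bwd (nat_lit 2) Steps.nil)))))))))) (nat_lit 172) (nat_lit 2),
  Rule.mk (nat_lit 11) (nat_lit 164) (Steps.fwd (nat_lit 16384) (Steps.bwd (nat_lit 14) (Steps.fwd (nat_lit 98304) (Steps.bwd (nat_lit 11) (Steps.fwd (nat_lit 81920) (Steps.bwd (nat_lit 9) (Steps.fwd (nat_lit 65536) (Steps.bwd (nat_lit 5) (Steps.bwd (nat_lit 4) (Steps.bwd (nat_lit 2) Steps.nil)))))))))) (nat_lit 183) (nat_lit 10),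
  Rule.mk (nat_lit 0) (nat_lit 194) (Steps.bwd (nat_lit 18) (Steps.bwd (nat_lit 1) (Steps.fwd (nat_lit 16384) (Steps.bwd (nat_lit 4) (Steps.fwd (nat_lit 8192) (Steps.bwd (nat_lit 2) (Steps.fwd (nat_lit 8192) (Steps.bwd (nat_lit 2) (Steps.fwd (nat_lit 8192) (Steps.bwd (nat_lit 3) (Steps.bwd (nat_lit 1) (Steps.fwd (nat_lit 16384) Steps.nil)))))))))))) (nat_lit 192) (nat_lit 0),
  Rule.mk (nat_lit 19) (nat_lit 179) (Steps.fwd (nat_lit 16384) (Steps.bwd (nat_lit 4) (Steps.fwd (nat_lit 8192) (Steps.bwd (nat_lit 2) (Steps.fwd (nat_lit 8192) (Steps.bwd (nat_lit 2) (Steps.fwd (nat_lit 8192) (Steps.bwd (nat_lit 3) (Steps.bwd (nat_lit 1) (Steps.fwd (nat_lit 16384) (Steps.bwd (nat_lit 1) Steps.nil))))))))))) (nat_lit 195) (nat_lit 0),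
  Rule.mk (nat_lit 2) (nat_lit 164) (Steps.bwd (nat_lit 11) (Steps.bwd (nat_lit 3) (Steps.fwd (nat_lit 32768) (Steps.fwd (nat_lit 40960) (Steps.fwd (nat_lit 65536) (Steps.fwd (nat_lit 73728) (Steps.fwd (nat_lit 81920) (Steps.bwd (nat_lit 11) (Steps.bwd (nat_lit 12) (Steps.bwd (nat_lit 14) Steps.nil)))))))))) (nat_lit 182) (nat_lit 1),
  Rule.mk (nat_lit 16) (nat_lit 179) (Steps.bwd (nat_lit 1) (Steps.bwd (nat_lit 3) (Steps.bwd (nat_lit 1) (Steps.fwd (nat_lit 16384) (Steps.bwd (nat_lit 1) (Steps.fwd (nat_lit 16384) (Steps.bwd (nat_lit 1) (Steps.fwd (nat_lit 24576) (Steps.fwd (nat_lit 32768) (Steps.bwd (nat_lit 1) (Steps.bwd (nat_lit 2) Steps.nil))))))))))) (nat_lit 190) (nat_lit 1),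
  Rule.mk (nat_lit 15) (nat_lit 179) (Steps.fwd (nat_lit 16384) (Steps.bwd (nat_lit 1) (Steps.fwd (nat_lit 32768) (Steps.fwd (nat_lit 16384) (Steps.bwd (nat_lit 1) (Steps.fwd (nat_lit 24576) (Steps.bwd (nat_lit 1) (Steps.bwd (nat_lit 2) (Steps.fwd (nat_lit 8192) (Steps.fwd (nat_lit 24576) (Steps.fwd (nat_lit 8192) Steps.nil))))))))))) (nat_lit 191) (nat_lit 0),
  Rule.mk (nat_lit 0) (nat_lit 194) (Steps.bwd (nat_lit 16) (Steps.fwd (nat_lit 8192) (Steps.bwd (nat_lit 3) (Steps.bwd (nat_lit 1) (Steps.bwd (nat_lit 3) (Steps.bwd (nat_lit 1) (Steps.fwd (nat_lit 16384) (Steps.fwd (nat_lit 8192) (Steps.fwd (nat_lit 24576) (Steps.bwd (nat_lit 4) (Steps.fwd (nat_lit 8192) (Steps.fwd (nat_lit 24576) Steps.nil)))))))))))) (nat_lit 190) (nat_lit 0),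
  Rule.mk (nat_lit 18) (nat_lit 179) (Steps.bwd (nat_lit 1) (Steps.fwd (nat_lit 16384) (Steps.fwd (nat_lit 32768) (Steps.bwd (nat_lit 1) (Steps.fwd (nat_lit 24576) (Steps.bwd (nat_lit 1) (Steps.bwd (nat_lit 2) (Steps.fwd (nat_lit 8192) (Steps.bwd (nat_lit 3) (Steps.bwd (nat_lit 1) (Steps.fwd (nat_lit 16384) Steps.nil))))))))))) (nat_lit 192) (nat_lit 1),
  Rule.mk (nat_lit 0) (nat_lit 194) (Steps.bwd (nat_lit 18) (Steps.bwd (nat_lit 1) (Steps.bwd (nat_lit 3) (Steps.fwd (nat_lit 32768) (Steps.bwd (nat_lit 1) (Steps.bwd (nat_lit 2) (Steps.fwd (nat_lit 8192) (Steps.fwd (nat_lit 24576) (Steps.fwd (nat_lit 8192) (Steps.bwd (nat_lit 3) (Steps.bwd (nat_lit 1) (Steps.fwd (nat_lit 16384) Steps.nil)))))))))))) (nat_lit 192) (nat_lit 0),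
  Rule.mk (nat_lit 17) (nat_lit 179) (Steps.fwd (nat_lit 24576) (Steps.bwd (nat_lit 1) (Steps.fwd (nat_lit 24576) (Steps.bwd (nat_lit 1) (Steps.bwd (nat_lit 3) (Steps.bwd (nat_lit 1) (Steps.fwd (nat_lit 16384) (Steps.bwd (nat_lit 1) (Steps.bwd (nat_lit 4) (Steps.bwd (nat_lit 2) (Steps.fwd (nat_lit 8192) Steps.nil))))))))))) (nat_lit 193) (nat_lit 0),
  Rule.mk (nat_lit 17) (nat_lit 179) (Steps.fwd (nat_lit 24576) (Steps.bwd (nat_lit 1) (Steps.bwd (nat_lit 2) (Steps.fwd (nat_lit 8192) (Steps.bwd (nat_lit 3) (Steps.bwd (nat_lit 1) (Steps.fwd (nat_lit 16384) (Steps.bwd (nat_lit 1) (Steps.bwd (nat_lit 4) (Steps.bwd (nat_lit 2) (Steps.fwd (nat_lit 8192) Steps.nil))))))))))) (nat_lit 193) (nat_lit 0),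
  Rule.mk (nat_lit 20) (nat_lit 179) (Steps.bwd (nat_lit 1) (Steps.fwd (nat_lit 24576) (Steps.bwd (nat_lit 1) (Steps.bwd (nat_lit 2) (Steps.fwd (nat_lit 8192) (Steps.bwd (nat_lit 3) (Steps.bwd (nat_lit 1) (Steps.fwd (nat_lit 16384) (Steps.bwd (nat_lit 1) (Steps.bwd (nat_lit 4) (Steps.bwd (nat_lit 2) Steps.nil))))))))))) (nat_lit 194) (nat_lit 1),
  Rule.mk (nat_lit 20) (nat_lit 179) (Steps.bwd (nat_lit 1) (Steps.bwd (nat_lit 2) (Steps.fwd (nat_lit 8192) (Steps.fwd (nat_lit 24576) (Steps.fwd (nat_lit 8192) (Steps.bwd (nat_lit 3) (Steps.bwd (nat_lit 1) (Steps.fwd (nat_lit 16384) (Steps.bwd (nat_lit 1) (Steps.fwd (nat_lit 32768) (Steps.fwd (nat_lit 24576) Steps.nil))))))))))) (nat_lit 194) (nat_lit 1),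
  Rule.mk (nat_lit 19) (nat_lit 179) (Steps.fwd (nat_lit 16384) (Steps.fwd (nat_lit 32768) (Steps.bwd (nat_lit 1) (Steps.fwd (nat_lit 24576) (Steps.bwd (nat_lit 1) (Steps.bwd (nat_lit 2) (Steps.fwd (nat_lit 8192) (Steps.bwd (nat_lit 3) (Steps.bwd (nat_lit 1) (Steps.fwd (nat_lit 16384) (Steps.bwd (nat_lit 1) Steps.nil))))))))))) (nat_lit 195) (nat_lit 0),
  Rule.mk (nat_lit 19) (nat_lit 179) (Steps.bwd (nat_lit 3) (Steps.fwd (nat_lit 32768) (Steps.bwd (nat_lit 1) (Steps.bwd (nat_lit 2) (Steps.fwd (nat_lit 8192) (Steps.fwd (nat_lit 24576) (Steps.fwd (nat_lit 8192) (Steps.bwd (nat_lit 3) (Steps.bwd (nat_lit 1) (Steps.fwd (nat_lit 16384) (Steps.bwd (nat_lit 1) Steps.nil))))))))))) (nat_lit 195) (nat_lit 0),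
  Rule.mk (nat_lit 15) (nat_lit 179) (Steps.bwd (nat_lit 3) (Steps.bwd (nat_lit 1) (Steps.fwd (nat_lit 32768) (Steps.bwd (nat_lit 3) (Steps.fwd (nat_lit 8192) (Steps.bwd (nat_lit 2) (Steps.fwd (nat_lit 8192) (Steps.fwd (nat_lit 24576) (Steps.bwd (nat_lit 1) (Steps.fwd (nat_lit 24576) (Steps.bwd (nat_lit 1) Steps.nil))))))))))) (nat_lit 191) (nat_lit 0),
  Rule.mk (nat_lit 19) (nat_lit 179) (Steps.bwd (nat_lit 3) (Steps.bwd (nat_lit 4) (Steps.fwd (nat_lit 8192) (Steps.fwd (nat_lit 24576) (Steps.fwd (nat_lit 8192) (Steps.fwd (nat_lit 24576) (Steps.fwd (nat_lit 8192) (Steps.fwd (nat_lit 16384) (Steps.fwd (nat_lit 8192) (Steps.bwd (nat_lit 3) (Steps.bwd (nat_lit 1) Steps.nil))))))))))) (nat_lit 195) (nat_lit 0),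
  Rule.mk (nat_lit 1) (nat_lit 179) (Steps.bwd (nat_lit 17) (Steps.fwd (nat_lit 24576) (Steps.fwd (nat_lit 8192) (Steps.fwd (nat_lit 24576) (Steps.bwd (nat_lit 1) (Steps.bwd (nat_lit 3) (Steps.fwd (nat_lit 8192) (Steps.bwd (nat_lit 3) (Steps.fwd (nat_lit 8192) (Steps.fwd (nat_lit 32768) (Steps.bwd (nat_lit 2) Steps.nil))))))))))) (nat_lit 193) (nat_lit 11),
  Rule.mk (nat_lit 4) (nat_lit 89) (Steps.fwd (nat_lit 57344) (Steps.bwd (nat_lit 14) (Steps.fwd (nat_lit 8192) (Steps.bwd (nat_lit 9) (Steps.bwd (nat_lit 1) Steps.nil))))) (nat_lit 156) (nat_lit 4),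
  Rule.mk (nat_lit 2) (nat_lit 179) (Steps.bwd (nat_lit 16) (Steps.fwd (nat_lit 8192) (Steps.bwd (nat_lit 3) (Steps.bwd (nat_lit 1) (Steps.bwd (nat_lit 3) (Steps.fwd (nat_lit 8192) (Steps.bwd (nat_lit 3) (Steps.fwd (nat_lit 8192) (Steps.bwd (nat_lit 2) (Steps.fwd (nat_lit 32768) (Steps.bwd (nat_lit 1) Steps.nil))))))))))) (nat_lit 190) (nat_lit 0),
  Rule.mk (nat_lit 0) (nat_lit 74) (Steps.bwd (nat_lit 4) (Steps.fwd (nat_lit 16384) (Steps.fwd (nat_lit 32768) (Steps.bwd (nat_lit 2) Steps.nil)))) (nat_lit 168) (nat_lit 1),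
  Rule.mk (nat_lit 0) (nat_lit 194) (Steps.fwd (nat_lit 8192) (Steps.fwd (nat_lit 16384) (Steps.bwd (nat_lit 1) (Steps.fwd (nat_lit 16384) (Steps.fwd (nat_lit 8192) (Steps.fwd (nat_lit 16384) (Steps.bwd (nat_lit 1) (Steps.bwd (nat_lit 2) (Steps.fwd (nat_lit 32768) (Steps.bwd (nat_lit 1) (Steps.fwd (nat_lit 24576) (Steps.fwd (nat_lit 122880) Steps.nil)))))))))))) (nat_lit 190) (nat_lit 1),
  Rule.mk (nat_lit 13) (nat_lit 134) (Steps.bwd (nat_lit 3) (Steps.fwd (nat_lit 49152) (Steps.bwd (nat_lit 10) (Steps.bwd (nat_lit 11) (Steps.bwd (nat_lit 12) (Steps.bwd (nat_lit 13) (Steps.bwd (nat_lit 14) (Steps.fwd (nat_lit 24576) Steps.nil)))))))) (nat_lit 186) (nat_lit 2),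
  Rule.mk (nat_lit 16) (nat_lit 179) (Steps.fwd (nat_lit 8192) (Steps.fwd (nat_lit 16384) (Steps.bwd (nat_lit 1) (Steps.bwd (nat_lit 3) (Steps.fwd (nat_lit 8192) (Steps.bwd (nat_lit 3) (Steps.bwd (nat_lit 1) (Steps.fwd (nat_lit 24576) (Steps.bwd (nat_lit 4) (Steps.fwd (nat_lit 8192) (Steps.fwd (nat_lit 24576) Steps.nil))))))))))) (nat_lit 190) (nat_lit 1),
  Rule.mk (nat_lit 0) (nat_lit 194) (Steps.bwd (nat_lit 1) (Steps.bwd (nat_lit 3) (Steps.fwd (nat_lit 8192) (Steps.bwd (nat_lit 3) (Steps.bwd (nat_lit 1) (Steps.fwd (nat_lit 16384) (Steps.bwd (nat_lit 1) (Steps.fwd (nat_lit 24576) (Steps.bwd (nat_lit 4) (Steps.bwd (nat_lit 1) (Steps.fwd (nat_lit 24576) (Steps.fwd (nat_lit 122880) Steps.nil)))))))))))) (nat_lit 190) (nat_lit 1),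
  Rule.mk (nat_lit 15) (nat_lit 179) (Steps.bwd (nat_lit 3) (Steps.fwd (nat_lit 8192) (Steps.bwd (nat_lit 4) (Steps.fwd (nat_lit 16384) (Steps.bwd (nat_lit 1) (Steps.bwd (nat_lit 2) (Steps.bwd (nat_lit 1) (Steps.bwd (nat_lit 2) (Steps.fwd (nat_lit 8192) (Steps.bwd (nat_lit 2) (Steps.fwd (nat_lit 8192) Steps.nil))))))))))) (nat_lit 191) (nat_lit 0),
  Rule.mk (nat_lit 2) (nat_lit 179) (Steps.bwd (nat_lit 20) (Steps.fwd (nat_lit 8192) (Steps.fwd (nat_lit 24576) (Steps.bwd (nat_lit 1) (Steps.fwd (nat_lit 24576) (Steps.bwd (nat_lit 1) (Steps.fwd (nat_lit 16384) (Steps.fwd (nat_lit 8192) (Steps.bwd (nat_lit 3) (Steps.fwd (nat_lit 8192) (Steps.bwd (nat_lit 4) Steps.nil))))))))))) (nat_lit 194) (nat_lit 0)]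
noncomputable def R_111 : List (Rule) := [Rule.mk (nat_lit 19) (nat_lit 179) (Steps.bwd (nat_lit 3) (Steps.fwd (nat_lit 32768) (Steps.bwd (nat_lit 1) (Steps.fwd (nat_lit 24576) (Steps.bwd (nat_lit 1) (Steps.bwd (nat_lit 2) (Steps.bwd (nat_lit 1) (Steps.fwd (nat_lit 16384) (Steps.bwd (nat_lit 1) (Steps.fwd (nat_lit 16384) (Steps.fwd (nat_lit 8192) Steps.nil))))))))))) (nat_lit 195) (nat_lit 0),
  Rule.mk (nat_lit 7) (nat_lit 104) (Steps.fwd (nat_lit 16384) (Steps.fwd (nat_lit 40960) (Steps.fwd (nat_lit 57344) (Steps.fwd (nat_lit 106496) (Steps.bwd (nat_lit 14) (Steps.bwd (nat_lit 2) Steps.nil)))))) (nat_lit 174) (nat_lit 2),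
  Rule.mk (nat_lit 12) (nat_lit 104) (Steps.bwd (nat_lit 3) (Steps.bwd (nat_lit 9) (Steps.bwd (nat_lit 8) (Steps.fwd (nat_lit 40960) (Steps.bwd (nat_lit 4) (Steps.bwd (nat_lit 2) Steps.nil)))))) (nat_lit 185) (nat_lit 6),
  Rule.mk (nat_lit 14) (nat_lit 119) (Steps.fwd (nat_lit 16384) (Steps.fwd (nat_lit 40960) (Steps.bwd (nat_lit 6) (Steps.fwd (nat_lit 57344) (Steps.bwd (nat_lit 12) (Steps.bwd (nat_lit 14) (Steps.bwd (nat_lit 2) Steps.nil))))))) (nat_lit 188) (nat_lit 2),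
  Rule.mk (nat_lit 9) (nat_lit 134) (Steps.bwd (nat_lit 3) (Steps.fwd (nat_lit 32768) (Steps.fwd (nat_lit 40960) (Steps.fwd (nat_lit 65536) (Steps.bwd (nat_lit 9) (Steps.bwd (nat_lit 11) (Steps.bwd (nat_lit 14) (Steps.bwd (nat_lit 2) Steps.nil)))))))) (nat_lit 178) (nat_lit 2),
  Rule.mk (nat_lit 13) (nat_lit 134) (Steps.fwd (nat_lit 16384) (Steps.bwd (nat_lit 14) (Steps.fwd (nat_lit 106496) (Steps.bwd (nat_lit 12) (Steps.fwd (nat_lit 90112) (Steps.fwd (nat_lit 81920) (Steps.bwd (nat_lit 6) (Steps.bwd (nat_lit 2) Steps.nil)))))))) (nat_lit 187) (nat_lit 8),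
  Rule.mk (nat_lit 5) (nat_lit 149) (Steps.fwd (nat_lit 16384) (Steps.fwd (nat_lit 114688) (Steps.bwd (nat_lit 13) (Steps.bwd (nat_lit 12) (Steps.bwd (nat_lit 9) (Steps.bwd (nat_lit 8) (Steps.fwd (nat_lit 40960) (Steps.bwd (nat_lit 4) (Steps.bwd (nat_lit 2) Steps.nil))))))))) (nat_lit 171) (nat_lit 9),
  Rule.mk (nat_lit 6) (nat_lit 164) (Steps.bwd (nat_lit 3) (Steps.bwd (nat_lit 14) (Steps.bwd (nat_lit 13) (Steps.bwd (nat_lit 12) (Steps.fwd (nat_lit 90112) (Steps.bwd (nat_lit 10) (Steps.bwd (nat_lit 9) (Steps.fwd (nat_lit 49152) (Steps.bwd (nat_lit 5) (Steps.bwd (nat_lit 2) Steps.nil)))))))))) (nat_lit 173) (nat_lit 10),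
  Rule.mk (nat_lit 11) (nat_lit 164) (Steps.fwd (nat_lit 16384) (Steps.bwd (nat_lit 4) (Steps.bwd (nat_lit 5) (Steps.fwd (nat_lit 65536) (Steps.fwd (nat_lit 73728) (Steps.bwd (nat_lit 10) (Steps.bwd (nat_lit 11) (Steps.bwd (nat_lit 12) (Steps.bwd (nat_lit 14) (Steps.bwd (nat_lit 2) Steps.nil)))))))))) (nat_lit 182) (nat_lit 2),
  Rule.mk (nat_lit 16) (nat_lit 179) (Steps.bwd (nat_lit 1) (Steps.fwd (nat_lit 16384) (Steps.bwd (nat_lit 1) (Steps.bwd (nat_lit 3) (Steps.bwd (nat_lit 1) (Steps.fwd (nat_lit 16384) (Steps.fwd (nat_lit 8192) (Steps.fwd (nat_lit 24576) (Steps.bwd (nat_lit 4) (Steps.bwd (nat_lit 1) (Steps.bwd (nat_lit 2) Steps.nil))))))))))) (nat_lit 190) (nat_lit 1),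
  Rule.mk (nat_lit 1) (nat_lit 539) (Steps.fwd (nat_lit 16384) (Steps.fwd (nat_lit 8192) (Steps.bwd (nat_lit 2) (Steps.bwd (nat_lit 1) (Steps.bwd (nat_lit 2) (Steps.fwd (nat_lit 8192) (Steps.fwd (nat_lit 16384) (Steps.fwd (nat_lit 8192) (Steps.bwd (nat_lit 2) (Steps.fwd (nat_lit 8192) (Steps.bwd (nat_lit 2) (Steps.fwd (nat_lit 8192) (Steps.fwd (nat_lit 16384) (Steps.bwd (nat_lit 1) (Steps.fwd (nat_lit 24576) (Steps.fwd (nat_lit 8192) (Steps.bwd (nat_lit 3) (Steps.fwd (nat_lit 8192) (Steps.fwd (nat_lit 16384) (Steps.fwd (nat_lit 8192) (Steps.bwd (nat_lit 2) (Steps.bwd (nat_lit 1) (Steps.fwd (nat_lit 16384) (Steps.bwd (nat_lit 1) (Steps.fwd (nat_lit 16384) (Steps.fwd (nat_lit 8192) (Steps.bwd (nat_lit 2) (Steps.fwd (nat_lit 8192) (Steps.fwd (nat_lit 16384) (Steps.bwd (nat_lit 1) (Steps.fwd (nat_lit 16384) (Steps.fwd (nat_lit 8192) (Steps.bwd (nat_lit 2) (Steps.bwd (nat_lit 1) (Steps.bwd (nat_lit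 2) Steps.nil))))))))))))))))))))))))))))))))))) (nat_lit 12) (nat_lit 5),
  Rule.mk (nat_lit 16) (nat_lit 179) (Steps.fwd (nat_lit 8192) (Steps.fwd (nat_lit 16384) (Steps.fwd (nat_lit 8192) (Steps.fwd (nat_lit 16384) (Steps.bwd (nat_lit 1) (Steps.fwd (nat_lit 16384) (Steps.fwd (nat_lit 8192) (Steps.bwd (nat_lit 2) (Steps.bwd (nat_lit 4) (Steps.bwd (nat_lit 1) (Steps.fwd (nat_lit 24576) Steps.nil))))))))))) (nat_lit 190) (nat_lit 1),
  Rule.mk (nat_lit 0) (nat_lit 194) (Steps.bwd (nat_lit 16) (Steps.fwd (nat_lit 8192) (Steps.fwd (nat_lit 16384) (Steps.bwd (nat_lit 1) (Steps.fwd (nat_lit 16384) (Steps.fwd (nat_lit 8192) (Steps.fwd (nat_lit 16384) (Steps.fwd (nat_lit 8192) (Steps.bwd (nat_lit 2) (Steps.fwd (nat_lit 32768) (Steps.fwd (nat_lit 8192) (Steps.fwd (nat_lit 24576) Steps.nil)))))))))))) (nat_lit 190) (nat_lit 0),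
  Rule.mk (nat_lit 16) (nat_lit 179) (Steps.bwd (nat_lit 1) (Steps.fwd (nat_lit 16384) (Steps.fwd (nat_lit 8192) (Steps.fwd (nat_lit 16384) (Steps.fwd (nat_lit 8192) (Steps.bwd (nat_lit 3) (Steps.fwd (nat_lit 8192) (Steps.bwd (nat_lit 2) (Steps.fwd (nat_lit 32768) (Steps.bwd (nat_lit 1) (Steps.fwd (nat_lit 24576) Steps.nil))))))))))) (nat_lit 190) (nat_lit 1),
  Rule.mk (nat_lit 15) (nat_lit 179) (Steps.fwd (nat_lit 16384) (Steps.fwd (nat_lit 8192) (Steps.bwd (nat_lit 4) (Steps.fwd (nat_lit 16384) (Steps.bwd (nat_lit 1) (Steps.fwd (nat_lit 24576) (Steps.fwd (nat_lit 8192) (Steps.bwd (nat_lit 2) (Steps.bwd (nat_lit 1) (Steps.bwd (nat_lit 2) (Steps.bwd (nat_lit 1) Steps.nil))))))))))) (nat_lit 191) (nat_lit 0),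
  Rule.mk (nat_lit 15) (nat_lit 179) (Steps.bwd (nat_lit 3) (Steps.bwd (nat_lit 1) (Steps.fwd (nat_lit 32768) (Steps.fwd (nat_lit 16384) (Steps.bwd (nat_lit 1) (Steps.bwd (nat_lit 2) (Steps.bwd (nat_lit 1) (Steps.bwd (nat_lit 2) (Steps.fwd (nat_lit 8192) (Steps.fwd (nat_lit 24576) (Steps.bwd (nat_lit 1) Steps.nil))))))))))) (nat_lit 191) (nat_lit 0),
  Rule.mk (nat_lit 15) (nat_lit 179) (Steps.bwd (nat_lit 3) (Steps.fwd (nat_lit 8192) (Steps.bwd (nat_lit 4) (Steps.fwd (nat_lit 16384) (Steps.bwd (nat_lit 1) (Steps.bwd (nat_lit 2) (Steps.fwd (nat_lit 8192) (Steps.fwd (nat_lit 24576) (Steps.bwd (nat_lit 1) (Steps.fwd (nat_lit 24576) (Steps.bwd (nat_lit 1) Steps.nil))))))))))) (nat_lit 191) (nat_lit 0),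
  Rule.mk (nat_lit 18) (nat_lit 179) (Steps.bwd (nat_lit 1) (Steps.bwd (nat_lit 3) (Steps.fwd (nat_lit 32768) (Steps.fwd (nat_lit 8192) (Steps.fwd (nat_lit 24576) (Steps.bwd (nat_lit 1) (Steps.fwd (nat_lit 24576) (Steps.fwd (nat_lit 8192) (Steps.fwd (nat_lit 16384) (Steps.bwd (nat_lit 1) (Steps.fwd (nat_lit 16384) Steps.nil))))))))))) (nat_lit 192) (nat_lit 1),
  Rule.mk (nat_lit 18) (nat_lit 179) (Steps.bwd (nat_lit 1) (Steps.fwd (nat_lit 16384) (Steps.bwd (nat_lit 4) (Steps.bwd (nat_lit 1) (Steps.bwd (nat_lit 2) (Steps.fwd (nat_lit 8192) (Steps.bwd (nat_lit 2) (Steps.fwd (nat_lit 8192) (Steps.fwd (nat_lit 16384) (Steps.bwd (nat_lit 1) (Steps.fwd (nat_lit 16384) Steps.nil))))))))))) (nat_lit 192) (nat_lit 1),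
  Rule.mk (nat_lit 17) (nat_lit 179) (Steps.fwd (nat_lit 24576) (Steps.bwd (nat_lit 1) (Steps.fwd (nat_lit 24576) (Steps.bwd (nat_lit 1) (Steps.fwd (nat_lit 16384) (Steps.fwd (nat_lit 8192) (Steps.bwd (nat_lit 3) (Steps.fwd (nat_lit 8192) (Steps.bwd (nat_lit 4) (Steps.bwd (nat_lit 2) (Steps.bwd (nat_lit 1) Steps.nil))))))))))) (nat_lit 193) (nat_lit 0),
  Rule.mk (nat_lit 17) (nat_lit 179) (Steps.fwd (nat_lit 24576) (Steps.bwd (nat_lit 1) (Steps.fwd (nat_lit 24576) (Steps.fwd (nat_lit 8192) (Steps.fwd (nat_lit 16384) (Steps.bwd (nat_lit 1) (Steps.fwd (nat_lit 16384) (Steps.fwd (nat_lit 8192) (Steps.fwd (nat_lit 32768) (Steps.bwd (nat_lit 2) (Steps.bwd (nat_lit 1) Steps.nil))))))))))) (nat_lit 193) (nat_lit 0),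
  Rule.mk (nat_lit 17) (nat_lit 179) (Steps.bwd (nat_lit 2) (Steps.bwd (nat_lit 1) (Steps.bwd (nat_lit 2) (Steps.bwd (nat_lit 1) (Steps.fwd (nat_lit 16384) (Steps.fwd (nat_lit 8192) (Steps.fwd (nat_lit 16384) (Steps.fwd (nat_lit 8192) (Steps.fwd (nat_lit 32768) (Steps.fwd (nat_lit 24576) (Steps.fwd (nat_lit 8192) Steps.nil))))))))))) (nat_lit 193) (nat_lit 0),
  Rule.mk (nat_lit 0) (nat_lit 194) (Steps.bwd (nat_lit 19) (Steps.fwd (nat_lit 16384) (Steps.bwd (nat_lit 4) (Steps.bwd (nat_lit 1) (Steps.bwd (nat_lit 2) (Steps.fwd (nat_lit 8192) (Steps.bwd (nat_lit 2) (Steps.bwd (nat_lit 1) (Steps.bwd (nat_lit 3) (Steps.fwd (nat_lit 8192) (Steps.bwd (nat_lit 3) (Steps.bwd (nat_lit 1) Steps.nil)))))))))))) (nat_lit 195) (nat_lit 11),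
  Rule.mk (nat_lit 20) (nat_lit 179) (Steps.fwd (nat_lit 8192) (Steps.bwd (nat_lit 2) (Steps.bwd (nat_lit 1) (Steps.bwd (nat_lit 2) (Steps.bwd (nat_lit 1) (Steps.fwd (nat_lit 16384) (Steps.fwd (nat_lit 8192) (Steps.fwd (nat_lit 16384) (Steps.fwd (nat_lit 8192) (Steps.fwd (nat_lit 32768) (Steps.fwd (nat_lit 24576) Steps.nil))))))))))) (nat_lit 194) (nat_lit 1),
  Rule.mk (nat_lit 20) (nat_lit 179) (Steps.bwd (nat_lit 1) (Steps.bwd (nat_lit 2) (Steps.fwd (nat_lit 8192) (Steps.fwd (nat_lit 24576) (Steps.bwd (nat_lit 1) (Steps.bwd (nat_lit 3) (Steps.bwd (nat_lit 1) (Steps.fwd (nat_lit 16384) (Steps.bwd (nat_lit 1) (Steps.bwd (nat_lit 4) (Steps.fwd (nat_lit 24576) Steps.nil))))))))))) (nat_lit 194) (nat_lit 1),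
  Rule.mk (nat_lit 19) (nat_lit 179) (Steps.bwd (nat_lit 3) (Steps.bwd (nat_lit 4) (Steps.fwd (nat_lit 8192) (Steps.bwd (nat_lit 2) (Steps.bwd (nat_lit 1) (Steps.bwd (nat_lit 2) (Steps.fwd (nat_lit 8192) (Steps.fwd (nat_lit 16384) (Steps.fwd (nat_lit 8192) (Steps.fwd (nat_lit 16384) (Steps.bwd (nat_lit 1) Steps.nil))))))))))) (nat_lit 195) (nat_lit 0),
  Rule.mk (nat_lit 19) (nat_lit 179) (Steps.bwd (nat_lit 3) (Steps.fwd (nat_lit 32768) (Steps.fwd (nat_lit 8192) (Steps.fwd (nat_lit 24576) (Steps.bwd (nat_lit 1) (Steps.fwd (nat_lit 24576) (Steps.fwd (nat_lit 8192) (Steps.fwd (nat_lit 16384) (Steps.bwd (nat_lit 1) (Steps.fwd (nat_lit 16384) (Steps.fwd (nat_lit 8192) Steps.nil))))))))))) (nat_lit 195) (nat_lit 0),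
  Rule.mk (nat_lit 19) (nat_lit 179) (Steps.bwd (nat_lit 3) (Steps.fwd (nat_lit 32768) (Steps.fwd (nat_lit 8192) (Steps.bwd (nat_lit 2) (Steps.bwd (nat_lit 1) (Steps.bwd (nat_lit 2) (Steps.bwd (nat_lit 1) (Steps.fwd (nat_lit 16384) (Steps.fwd (nat_lit 8192) (Steps.fwd (nat_lit 16384) (Steps.fwd (nat_lit 8192) Steps.nil))))))))))) (nat_lit 195) (nat_lit 0),
  Rule.mk (nat_lit 17) (nat_lit 179) (Steps.bwd (nat_lit 2) (Steps.bwd (nat_lit 1) (Steps.bwd (nat_lit 2) (Steps.bwd (nat_lit 1) (Steps.fwd (nat_lit 16384) (Steps.fwd (nat_lit 8192) (Steps.fwd (nat_lit 16384) (Steps.bwd (nat_lit 1) (Steps.fwd (nat_lit 32768) (Steps.fwd (nat_lit 24576) (Steps.bwd (nat_lit 1) Steps.nil))))))))))) (nat_lit 193) (nat_lit 0),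
  Rule.mk (nat_lit 18) (nat_lit 179) (Steps.fwd (nat_lit 8192) (Steps.fwd (nat_lit 16384) (Steps.bwd (nat_lit 4) (Steps.fwd (nat_lit 8192) (Steps.bwd (nat_lit 2) (Steps.fwd (nat_lit 8192) (Steps.bwd (nat_lit 2) (Steps.bwd (nat_lit 1) (Steps.fwd (nat_lit 16384) (Steps.bwd (nat_lit 1) (Steps.fwd (nat_lit 16384) Steps.nil))))))))))) (nat_lit 192) (nat_lit 1),
  Rule.mk (nat_lit 19) (nat_lit 179) (Steps.fwd (nat_lit 16384) (Steps.bwd (nat_lit 4) (Steps.fwd (nat_lit 8192) (Steps.bwd (nat_lit 2) (Steps.fwd (nat_lit 8192) (Steps.bwd (nat_lit 2) (Steps.bwd (nat_lit 1) (Steps.fwd (nat_lit 16384) (Steps.bwd (nat_lit 1) (Steps.fwd (nat_lit 16384) (Steps.fwd (nat_lit 8192) Steps.nil))))))))))) (nat_lit 195) (nat_lit 0),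
  Rule.mk (nat_lit 18) (nat_lit 179) (Steps.fwd (nat_lit 8192) (Steps.fwd (nat_lit 16384) (Steps.fwd (nat_lit 32768) (Steps.bwd (nat_lit 1) (Steps.bwd (nat_lit 2) (Steps.fwd (nat_lit 8192) (Steps.bwd (nat_lit 2) (Steps.fwd (nat_lit 8192) (Steps.fwd (nat_lit 16384) (Steps.bwd (nat_lit 1) (Steps.fwd (nat_lit 16384) Steps.nil))))))))))) (nat_lit 192) (nat_lit 1),
  Rule.mk (nat_lit 19) (nat_lit 179) (Steps.fwd (nat_lit 16384) (Steps.fwd (nat_lit 32768) (Steps.bwd (nat_lit 1) (Steps.bwd (nat_lit 2) (Steps.fwd (nat_lit 8192) (Steps.bwd (nat_lit 2) (Steps.fwd (nat_lit 8192) (Steps.fwd (nat_lit 16384) (Steps.bwd (nat_lit 1) (Steps.fwd (nat_lit 16384) (Steps.bwd (nat_lit 1) Steps.nil))))))))))) (nat_lit 195) (nat_lit 0),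
  Rule.mk (nat_lit 2) (nat_lit 104) (Steps.bwd (nat_lit 10) (Steps.fwd (nat_lit 16384) (Steps.bwd (nat_lit 6) (Steps.fwd (nat_lit 90112) (Steps.fwd (nat_lit 98304) (Steps.bwd (nat_lit 14) Steps.nil)))))) (nat_lit 180) (nat_lit 1),
  Rule.mk (nat_lit 1) (nat_lit 134) (Steps.bwd (nat_lit 10) (Steps.fwd (nat_lit 8192) (Steps.fwd (nat_lit 32768) (Steps.bwd (nat_lit 5) (Steps.fwd (nat_lit 65536) (Steps.bwd (nat_lit 9) (Steps.fwd (nat_lit 90112) (Steps.bwd (nat_lit 14) Steps.nil)))))))) (nat_lit 158) (nat_lit 1),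
  Rule.mk (nat_lit 11) (nat_lit 134) (Steps.bwd (nat_lit 10) (Steps.bwd (nat_lit 6) (Steps.bwd (nat_lit 1) (Steps.bwd (nat_lit 14) (Steps.fwd (nat_lit 8192) (Steps.bwd (nat_lit 14) (Steps.bwd (nat_lit 13) (Steps.fwd (nat_lit 98304) Steps.nil)))))))) (nat_lit 167) (nat_lit 4),
  Rule.mk (nat_lit 16) (nat_lit 179) (Steps.fwd (nat_lit 8192) (Steps.fwd (nat_lit 16384) (Steps.bwd (nat_lit 1) (Steps.fwd (nat_lit 16384) (Steps.fwd (nat_lit 8192) (Steps.bwd (nat_lit 3) (Steps.bwd (nat_lit 1) (Steps.fwd (nat_lit 24576) (Steps.fwd (nat_lit 32768) (Steps.fwd (nat_lit 8192) (Steps.fwd (nat_lit 24576) Steps.nil))))))))))) (nat_lit 190) (nat_lit 1),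
  Rule.mk (nat_lit 18) (nat_lit 179) (Steps.fwd (nat_lit 8192) (Steps.fwd (nat_lit 16384) (Steps.bwd (nat_lit 4) (Steps.fwd (nat_lit 8192) (Steps.fwd (nat_lit 24576) (Steps.bwd (nat_lit 1) (Steps.bwd (nat_lit 2) (Steps.bwd (nat_lit 1) (Steps.fwd (nat_lit 16384) (Steps.fwd (nat_lit 8192) (Steps.bwd (nat_lit 3) Steps.nil))))))))))) (nat_lit 192) (nat_lit 1),
  Rule.mk (nat_lit 18) (nat_lit 179) (Steps.bwd (nat_lit 1) (Steps.fwd (nat_lit 16384) (Steps.fwd (nat_lit 32768) (Steps.fwd (nat_lit 8192) (Steps.fwd (nat_lit 24576) (Steps.bwd (nat_lit 1) (Steps.fwd (nat_lit 24576) (Steps.fwd (nat_lit 8192) (Steps.fwd (nat_lit 16384) (Steps.bwd (nat_lit 1) (Steps.bwd (nat_lit 3) Steps.nil))))))))))) (nat_lit 192) (nat_lit 1),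
  Rule.mk (nat_lit 17) (nat_lit 179) (Steps.bwd (nat_lit 2) (Steps.bwd (nat_lit 1) (Steps.fwd (nat_lit 24576) (Steps.fwd (nat_lit 8192) (Steps.bwd (nat_lit 3) (Steps.fwd (nat_lit 8192) (Steps.bwd (nat_lit 3) (Steps.bwd (nat_lit 1) (Steps.fwd (nat_lit 32768) (Steps.bwd (nat_lit 2) (Steps.bwd (nat_lit 1) Steps.nil))))))))))) (nat_lit 193) (nat_lit 0),
  Rule.mk (nat_lit 0) (nat_lit 194) (Steps.fwd (nat_lit 8192) (Steps.bwd (nat_lit 3) (Steps.bwd (nat_lit 4) (Steps.fwd (nat_lit 8192) (Steps.bwd (nat_lit 2) (Steps.bwd (nat_lit 1) (Steps.fwd (nat_lit 24576) (Steps.bwd (nat_lit 1) (Steps.bwd (nat_lit 3) (Steps.fwd (nat_lit 8192) (Steps.bwd (nat_lit 3) (Steps.fwd (nat_lit 139264) Steps.nil)))))))))))) (nat_lit 192) (nat_lit 1),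
  Rule.mk (nat_lit 0) (nat_lit 194) (Steps.bwd (nat_lit 17) (Steps.fwd (nat_lit 24576) (Steps.bwd (nat_lit 1) (Steps.bwd (nat_lit 2) (Steps.bwd (nat_lit 1) (Steps.fwd (nat_lit 16384) (Steps.fwd (nat_lit 8192) (Steps.bwd (nat_lit 3) (Steps.bwd (nat_lit 1) (Steps.fwd (nat_lit 32768) (Steps.bwd (nat_lit 2) (Steps.fwd (nat_lit 8192) Steps.nil)))))))))))) (nat_lit 193) (nat_lit 11),
  Rule.mk (nat_lit 0) (nat_lit 194) (Steps.fwd (nat_lit 8192) (Steps.fwd (nat_lit 24576) (Steps.bwd (nat_lit 1) (Steps.bwd (nat_lit 2) (Steps.bwd (nat_lit 1) (Steps.fwd (nat_lit 16384) (Steps.fwd (nat_lit 8192) (Steps.bwd (nat_lit 3) (Steps.bwd (nat_lit 1) (Steps.fwd (nat_lit 32768) (Steps.bwd (nat_lit 2) (Steps.fwd (nat_lit 155648) Steps.nil)))))))))))) (nat_lit 194) (nat_lit 1),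
  Rule.mk (nat_lit 19) (nat_lit 179) (Steps.fwd (nat_lit 16384) (Steps.fwd (nat_lit 32768) (Steps.bwd (nat_lit 1) (Steps.fwd (nat_lit 24576) (Steps.bwd (nat_lit 1) (Steps.fwd (nat_lit 24576) (Steps.fwd (nat_lit 8192) (Steps.bwd (nat_lit 3) (Steps.fwd (nat_lit 8192) (Steps.fwd (nat_lit 16384) (Steps.bwd (nat_lit 1) Steps.nil))))))))))) (nat_lit 195) (nat_lit 0),
  Rule.mk (nat_lit 19) (nat_lit 179) (Steps.bwd (nat_lit 3) (Steps.bwd (nat_lit 4) (Steps.fwd (nat_lit 8192) (Steps.bwd (nat_lit 2) (Steps.fwd (nat_lit 8192) (Steps.bwd (nat_lit 2) (Steps.fwd (nat_lit 8192) (Steps.fwd (nat_lit 16384) (Steps.bwd (nat_lit 1) (Steps.fwd (nat_lit 16384) (Steps.fwd (nat_lit 8192) Steps.nil))))))))))) (nat_lit 195) (nat_lit 0),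
  Rule.mk (nat_lit 0) (nat_lit 194) (Steps.bwd (nat_lit 20) (Steps.fwd (nat_lit 8192) (Steps.fwd (nat_lit 24576) (Steps.bwd (nat_lit 1) (Steps.bwd (nat_lit 2) (Steps.fwd (nat_lit 8192) (Steps.fwd (nat_lit 16384) (Steps.fwd (nat_lit 8192) (Steps.bwd (nat_lit 3) (Steps.bwd (nat_lit 1) (Steps.fwd (nat_lit 32768) (Steps.bwd (nat_lit 2) Steps.nil)))))))))))) (nat_lit 194) (nat_lit 0),
  Rule.mk (nat_lit 16) (nat_lit 179) (Steps.bwd (nat_lit 1) (Steps.fwd (nat_lit 16384) (Steps.fwd (nat_lit 8192) (Steps.fwd (nat_lit 16384) (Steps.bwd (nat_lit 1) (Steps.fwd (nat_lit 16384) (Steps.bwd (nat_lit 1) (Steps.bwd (nat_lit 2) (Steps.fwd (nat_lit 32768) (Steps.fwd (nat_lit 8192) (Steps.bwd (nat_lit 2) Steps.nil))))))))))) (nat_lit 190) (nat_lit 1),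
  Rule.mk (nat_lit 16) (nat_lit 179) (Steps.bwd (nat_lit 1) (Steps.bwd (nat_lit 3) (Steps.fwd (nat_lit 8192) (Steps.bwd (nat_lit 3) (Steps.fwd (nat_lit 8192) (Steps.bwd (nat_lit 3) (Steps.bwd (nat_lit 1) (Steps.fwd (nat_lit 24576) (Steps.bwd (nat_lit 4) (Steps.bwd (nat_lit 1) (Steps.bwd (nat_lit 2) Steps.nil))))))))))) (nat_lit 190) (nat_lit 1),
  Rule.mk (nat_lit 16) (nat_lit 179) (Steps.fwd (nat_lit 8192) (Steps.fwd (nat_lit 16384) (Steps.fwd (nat_lit 8192) (Steps.bwd (nat_lit 3) (Steps.fwd (nat_lit 8192) (Steps.fwd (nat_lit 16384) (Steps.bwd (nat_lit 1) (Steps.bwd (nat_lit 2) (Steps.bwd (nat_lit 4) (Steps.bwd (nat_lit 1) (Steps.fwd (nat_lit 24576) Steps.nil))))))))))) (nat_lit 190) (nat_lit 1),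
  Rule.mk (nat_lit 15) (nat_lit 179) (Steps.bwd (nat_lit 3) (Steps.fwd (nat_lit 8192) (Steps.fwd (nat_lit 32768) (Steps.bwd (nat_lit 3) (Steps.fwd (nat_lit 8192) (Steps.fwd (nat_lit 24576) (Steps.bwd (nat_lit 1) (Steps.bwd (nat_lit 2) (Steps.bwd (nat_lit 1) (Steps.bwd (nat_lit 2) (Steps.bwd (nat_lit 1) Steps.nil))))))))))) (nat_lit 191) (nat_lit 0),
  Rule.mk (nat_lit 15) (nat_lit 179) (Steps.fwd (nat_lit 16384) (Steps.bwd (nat_lit 1) (Steps.fwd (nat_lit 32768) (Steps.bwd (nat_lit 3) (Steps.bwd (nat_lit 1) (Steps.fwd (nat_lit 24576) (Steps.bwd (nat_lit 1) (Steps.fwd (nat_lit 24576) (Steps.bwd (nat_lit 1) (Steps.bwd (nat_lit 2) (Steps.fwd (nat_lit 8192) Steps.nil))))))))))) (nat_lit 191) (nat_lit 0),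
  Rule.mk (nat_lit 3) (nat_lit 179) (Steps.bwd (nat_lit 18) (Steps.bwd (nat_lit 1) (Steps.fwd (nat_lit 16384) (Steps.fwd (nat_lit 32768) (Steps.fwd (nat_lit 8192) (Steps.fwd (nat_lit 24576) (Steps.fwd (nat_lit 8192) (Steps.bwd (nat_lit 2) (Steps.fwd (nat_lit 8192) (Steps.fwd (nat_lit 16384) (Steps.bwd (nat_lit 1) Steps.nil))))))))))) (nat_lit 192) (nat_lit 0),
  Rule.mk (nat_lit 17) (nat_lit 179) (Steps.bwd (nat_lit 2) (Steps.fwd (nat_lit 8192) (Steps.bwd (nat_lit 2) (Steps.bwd (nat_lit 1) (Steps.fwd (nat_lit 16384) (Steps.fwd (nat_lit 8192) (Steps.bwd (nat_lit 3) (Steps.fwd (nat_lit 8192) (Steps.bwd (nat_lit 4) (Steps.bwd (nat_lit 2) (Steps.bwd (nat_lit 1) Steps.nil))))))))))) (nat_lit 193) (nat_lit 0),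
  Rule.mk (nat_lit 0) (nat_lit 194) (Steps.fwd (nat_lit 16384) (Steps.bwd (nat_lit 4) (Steps.fwd (nat_lit 8192) (Steps.bwd (nat_lit 2) (Steps.bwd (nat_lit 1) (Steps.fwd (nat_lit 24576) (Steps.fwd (nat_lit 8192) (Steps.fwd (nat_lit 16384) (Steps.bwd (nat_lit 1) (Steps.bwd (nat_lit 3) (Steps.fwd (nat_lit 8192) (Steps.fwd (nat_lit 163840) Steps.nil)))))))))))) (nat_lit 195) (nat_lit 0),
  Rule.mk (nat_lit 19) (nat_lit 179) (Steps.fwd (nat_lit 16384) (Steps.bwd (nat_lit 4) (Steps.bwd (nat_lit 1) (Steps.fwd (nat_lit 24576) (Steps.fwd (nat_lit 8192) (Steps.bwd (nat_lit 2) (Steps.bwd (nat_lit 1) (Steps.bwd (nat_lit 3) (Steps.fwd (nat_lit 8192) (Steps.fwd (nat_lit 16384) (Steps.bwd (nat_lit 1) Steps.nil))))))))))) (nat_lit 195) (nat_lit 0),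
  Rule.mk (nat_lit 2) (nat_lit 539) (Steps.bwd (nat_lit 1) (Steps.bwd (nat_lit 3) (Steps.bwd (nat_lit 1) (Steps.fwd (nat_lit 16384) (Steps.fwd (nat_lit 8192) (Steps.bwd (nat_lit 2) (Steps.fwd (nat_lit 8192) (Steps.fwd (nat_lit 16384) (Steps.bwd (nat_lit 1) (Steps.fwd (nat_lit 16384) (Steps.fwd (nat_lit 8192) (Steps.fwd (nat_lit 24576) (Steps.fwd (nat_lit 8192) (Steps.bwd (nat_lit 3) (Steps.bwd (nat_lit 1) (Steps.bwd (nat_lit 3) (Steps.fwd (nat_lit 8192) (Steps.fwd (nat_lit 24576) (Steps.fwd (nat_lit 8192) (Steps.fwd (nat_lit 24576) (Steps.fwd (nat_lit 8192) (Steps.bwd (nat_lit 3) (Steps.bwd (nat_lit 1) (Steps.fwd (nat_lit 24576) (Steps.bwd (nat_lit 1) (Steps.bwd (nat_lit 2) (Steps.fwd (nat_lit 8192) (Steps.bwd (nat_lit 3) (Steps.fwd (nat_lit 8192) (Steps.fwd (nat_lit 24576) (Steps.fwd (nat_lit 8192) (Steps.bwd (nat_lit 2) (Steps.fwd (nat_lit 8192) (Steps.fwd (nat_lit 16384) (Steps.bwd (nat_lit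 1) Steps.nil))))))))))))))))))))))))))))))))))) (nat_lit 12) (nat_lit 20),
  Rule.mk (nat_lit 15) (nat_lit 179) (Steps.fwd (nat_lit 16384) (Steps.bwd (nat_lit 1) (Steps.fwd (nat_lit 32768) (Steps.fwd (nat_lit 16384) (Steps.fwd (nat_lit 8192) (Steps.bwd (nat_lit 2) (Steps.bwd (nat_lit 1) (Steps.fwd (nat_lit 24576) (Steps.fwd (nat_lit 8192) (Steps.fwd (nat_lit 24576) (Steps.bwd (nat_lit 1) Steps.nil))))))))))) (nat_lit 191) (nat_lit 0),
  Rule.mk (nat_lit 0) (nat_lit 194) (Steps.bwd (nat_lit 2) (Steps.bwd (nat_lit 1) (Steps.bwd (nat_lit 2) (Steps.bwd (nat_lit 1) (Steps.bwd (nat_lit 3) (Steps.bwd (nat_lit 1) (Steps.fwd (nat_lit 16384) (Steps.fwd (nat_lit 8192) (Steps.fwd (nat_lit 32768) (Steps.fwd (nat_lit 24576) (Steps.fwd (nat_lit 8192) (Steps.fwd (nat_lit 147456) Steps.nil)))))))))))) (nat_lit 193) (nat_lit 0),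
  Rule.mk (nat_lit 1) (nat_lit 179) (Steps.bwd (nat_lit 19) (Steps.bwd (nat_lit 3) (Steps.bwd (nat_lit 4) (Steps.bwd (nat_lit 1) (Steps.bwd (nat_lit 2) (Steps.fwd (nat_lit 8192) (Steps.fwd (nat_lit 24576) (Steps.fwd (nat_lit 8192) (Steps.fwd (nat_lit 16384) (Steps.fwd (nat_lit 8192) (Steps.bwd (nat_lit 3) Steps.nil))))))))))) (nat_lit 195) (nat_lit 11),
  Rule.mk (nat_lit 10) (nat_lit 134) (Steps.bwd (nat_lit 1) (Steps.bwd (nat_lit 14) (Steps.fwd (nat_lit 90112) (Steps.fwd (nat_lit 73728) (Steps.fwd (nat_lit 65536) (Steps.bwd (nat_lit 5) (Steps.bwd (nat_lit 4) (Steps.bwd (nat_lit 1) Steps.nil)))))))) (nat_lit 159) (nat_lit 8),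
  Rule.mk (nat_lit 6) (nat_lit 134) (Steps.fwd (nat_lit 81920) (Steps.bwd (nat_lit 11) (Steps.fwd (nat_lit 98304) (Steps.bwd (nat_lit 13) (Steps.fwd (nat_lit 114688) (Steps.bwd (nat_lit 1) (Steps.bwd (nat_lit 14) (Steps.bwd (nat_lit 1) Steps.nil)))))))) (nat_lit 166) (nat_lit 4),
  Rule.mk (nat_lit 7) (nat_lit 164) (Steps.bwd (nat_lit 1) (Steps.fwd (nat_lit 40960) (Steps.fwd (nat_lit 49152) (Steps.bwd (nat_lit 9) (Steps.fwd (nat_lit 81920) (Steps.bwd (nat_lit 11) (Steps.fwd (nat_lit 98304) (Steps.bwd (nat_lit 13) (Steps.bwd (nat_lit 14) (Steps.bwd (nat_lit 1) Steps.nil)))))))))) (nat_lit 152) (nat_lit 2),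
  Rule.mk (nat_lit 12) (nat_lit 164) (Steps.bwd (nat_lit 1) (Steps.bwd (nat_lit 4) (Steps.bwd (nat_lit 5) (Steps.fwd (nat_lit 65536) (Steps.bwd (nat_lit 9) (Steps.fwd (nat_lit 81920) (Steps.bwd (nat_lit 11) (Steps.bwd (nat_lit 12) (Steps.bwd (nat_lit 14) (Steps.bwd (nat_lit 1) Steps.nil)))))))))) (nat_lit 162) (nat_lit 2),
  Rule.mk (nat_lit 15) (nat_lit 179) (Steps.bwd (nat_lit 3) (Steps.bwd (nat_lit 1) (Steps.bwd (nat_lit 4) (Steps.bwd (nat_lit 3) (Steps.bwd (nat_lit 1) (Steps.fwd (nat_lit 24576) (Steps.fwd (nat_lit 8192) (Steps.fwd (nat_lit 24576) (Steps.bwd (nat_lit 1) (Steps.bwd (nat_lit 2) (Steps.bwd (nat_lit 1) Steps.nil))))))))))) (nat_lit 191) (nat_lit 0)]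
noncomputable def R_112 : List (Rule) := [Rule.mk (nat_lit 0) (nat_lit 194) (Steps.fwd (nat_lit 8192) (Steps.bwd (nat_lit 3) (Steps.fwd (nat_lit 32768) (Steps.fwd (nat_lit 8192) (Steps.fwd (nat_lit 24576) (Steps.bwd (nat_lit 1) (Steps.bwd (nat_lit 2) (Steps.bwd (nat_lit 1) (Steps.bwd (nat_lit 3) (Steps.bwd (nat_lit 1) (Steps.fwd (nat_lit 16384) (Steps.fwd (nat_lit 139264) Steps.nil)))))))))))) (nat_lit 192) (nat_lit 1),
  Rule.mk (nat_lit 0) (nat_lit 194) (Steps.bwd (nat_lit 20) (Steps.bwd (nat_lit 1) (Steps.bwd (nat_lit 2) (Steps.fwd (nat_lit 8192) (Steps.fwd (nat_lit 24576) (Steps.fwd (nat_lit 8192) (Steps.fwd (nat_lit 16384) (Steps.fwd (nat_lit 8192) (Steps.bwd (nat_lit 3) (Steps.bwd (nat_lit 1) (Steps.bwd (nat_lit 4) (Steps.fwd (nat_lit 24576) Steps.nil)))))))))))) (nat_lit 194) (nat_lit 0),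
  Rule.mk (nat_lit 3) (nat_lit 539) (Steps.bwd (nat_lit 1) (Steps.fwd (nat_lit 16384) (Steps.fwd (nat_lit 8192) (Steps.fwd (nat_lit 24576) (Steps.fwd (nat_lit 8192) (Steps.bwd (nat_lit 2) (Steps.fwd (nat_lit 8192) (Steps.bwd (nat_lit 3) (Steps.fwd (nat_lit 8192) (Steps.bwd (nat_lit 2) (Steps.fwd (nat_lit 8192) (Steps.fwd (nat_lit 24576) (Steps.fwd (nat_lit 8192) (Steps.fwd (nat_lit 16384) (Steps.bwd (nat_lit 1) (Steps.fwd (nat_lit 24576) (Steps.bwd (nat_lit 1) (Steps.bwd (nat_lit 2) (Steps.bwd (nat_lit 1) (Steps.bwd (nat_lit 3) (Steps.fwd (nat_lit 8192) (Steps.fwd (nat_lit 24576) (Steps.fwd (nat_lit 8192) (Steps.fwd (nat_lit 16384) (Steps.bwd (nat_lit 1) (Steps.fwd (nat_lit 16384) (Steps.bwd (nat_lit 1) (Steps.fwd (nat_lit 24576) (Steps.fwd (nat_lit 8192) (Steps.bwd (nat_lit 3) (Steps.bwd (nat_lit 1) (Steps.bwd (nat_lit 3) (Steps.fwd (nat_lit 8192) (Steps.bwd (nat_lit 2) (Steps.bwd (nat_lit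 1) Steps.nil))))))))))))))))))))))))))))))))))) (nat_lit 12) (nat_lit 34),
  Rule.mk (nat_lit 15) (nat_lit 179) (Steps.bwd (nat_lit 3) (Steps.bwd (nat_lit 1) (Steps.fwd (nat_lit 32768) (Steps.fwd (nat_lit 16384) (Steps.fwd (nat_lit 8192) (Steps.fwd (nat_lit 24576) (Steps.bwd (nat_lit 1) (Steps.bwd (nat_lit 2) (Steps.fwd (nat_lit 8192) (Steps.fwd (nat_lit 24576) (Steps.fwd (nat_lit 8192) Steps.nil))))))))))) (nat_lit 191) (nat_lit 0),
  Rule.mk (nat_lit 0) (nat_lit 194) (Steps.fwd (nat_lit 8192) (Steps.bwd (nat_lit 3) (Steps.bwd (nat_lit 1) (Steps.bwd (nat_lit 3) (Steps.bwd (nat_lit 1) (Steps.fwd (nat_lit 16384) (Steps.fwd (nat_lit 8192) (Steps.fwd (nat_lit 24576) (Steps.bwd (nat_lit 4) (Steps.fwd (nat_lit 8192) (Steps.bwd (nat_lit 2) (Steps.fwd (nat_lit 122880) Steps.nil)))))))))))) (nat_lit 190) (nat_lit 1),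
  Rule.mk (nat_lit 0) (nat_lit 194) (Steps.bwd (nat_lit 2) (Steps.fwd (nat_lit 8192) (Steps.bwd (nat_lit 2) (Steps.bwd (nat_lit 1) (Steps.bwd (nat_lit 3) (Steps.bwd (nat_lit 1) (Steps.fwd (nat_lit 16384) (Steps.fwd (nat_lit 8192) (Steps.bwd (nat_lit 4) (Steps.fwd (nat_lit 24576) (Steps.fwd (nat_lit 8192) (Steps.fwd (nat_lit 147456) Steps.nil)))))))))))) (nat_lit 193) (nat_lit 0),
  Rule.mk (nat_lit 17) (nat_lit 179) (Steps.fwd (nat_lit 24576) (Steps.bwd (nat_lit 1) (Steps.fwd (nat_lit 24576) (Steps.fwd (nat_lit 8192) (Steps.bwd (nat_lit 3) (Steps.bwd (nat_lit 1) (Steps.bwd (nat_lit 3) (Steps.fwd (nat_lit 8192) (Steps.fwd (nat_lit 32768) (Steps.fwd (nat_lit 24576) (Steps.fwd (nat_lit 8192) Steps.nil))))))))))) (nat_lit 193) (nat_lit 0),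
  Rule.mk (nat_lit 0) (nat_lit 194) (Steps.bwd (nat_lit 17) (Steps.bwd (nat_lit 2) (Steps.fwd (nat_lit 8192) (Steps.fwd (nat_lit 24576) (Steps.fwd (nat_lit 8192) (Steps.fwd (nat_lit 16384) (Steps.bwd (nat_lit 1) (Steps.bwd (nat_lit 3) (Steps.fwd (nat_lit 8192) (Steps.fwd (nat_lit 32768) (Steps.fwd (nat_lit 24576) (Steps.bwd (nat_lit 1) Steps.nil)))))))))))) (nat_lit 193) (nat_lit 11),
  Rule.mk (nat_lit 20) (nat_lit 179) (Steps.bwd (nat_lit 1) (Steps.bwd (nat_lit 2) (Steps.fwd (nat_lit 8192) (Steps.fwd (nat_lit 24576) (Steps.fwd (nat_lit 8192) (Steps.fwd (nat_lit 16384) (Steps.bwd (nat_lit 1) (Steps.bwd (nat_lit 3) (Steps.fwd (nat_lit 8192) (Steps.fwd (nat_lit 32768) (Steps.fwd (nat_lit 24576) Steps.nil))))))))))) (nat_lit 194) (nat_lit 1),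
  Rule.mk (nat_lit 14) (nat_lit 119) (Steps.bwd (nat_lit 12) (Steps.fwd (nat_lit 57344) (Steps.bwd (nat_lit 6) (Steps.fwd (nat_lit 40960) (Steps.bwd (nat_lit 2) (Steps.bwd (nat_lit 14) (Steps.fwd (nat_lit 16384) Steps.nil))))))) (nat_lit 189) (nat_lit 1),
  Rule.mk (nat_lit 6) (nat_lit 164) (Steps.bwd (nat_lit 3) (Steps.bwd (nat_lit 5) (Steps.bwd (nat_lit 6) (Steps.fwd (nat_lit 73728) (Steps.fwd (nat_lit 81920) (Steps.bwd (nat_lit 11) (Steps.fwd (nat_lit 98304) (Steps.bwd (nat_lit 13) (Steps.bwd (nat_lit 14) (Steps.bwd (nat_lit 2) Steps.nil)))))))))) (nat_lit 172) (nat_lit 2),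
  Rule.mk (nat_lit 0) (nat_lit 194) (Steps.bwd (nat_lit 17) (Steps.fwd (nat_lit 24576) (Steps.fwd (nat_lit 8192) (Steps.bwd (nat_lit 2) (Steps.fwd (nat_lit 8192) (Steps.bwd (nat_lit 3) (Steps.fwd (nat_lit 8192) (Steps.bwd (nat_lit 3) (Steps.fwd (nat_lit 8192) (Steps.bwd (nat_lit 4) (Steps.bwd (nat_lit 2) (Steps.fwd (nat_lit 8192) Steps.nil)))))))))))) (nat_lit 193) (nat_lit 11),
  Rule.mk (nat_lit 17) (nat_lit 179) (Steps.fwd (nat_lit 24576) (Steps.bwd (nat_lit 1) (Steps.fwd (nat_lit 24576) (Steps.fwd (nat_lit 8192) (Steps.fwd (nat_lit 16384) (Steps.bwd (nat_lit 1) (Steps.fwd (nat_lit 16384) (Steps.bwd (nat_lit 1) (Steps.bwd (nat_lit 4) (Steps.fwd (nat_lit 24576) (Steps.bwd (nat_lit 1) Steps.nil))))))))))) (nat_lit 193) (nat_lit 0),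
  Rule.mk (nat_lit 20) (nat_lit 179) (Steps.fwd (nat_lit 8192) (Steps.fwd (nat_lit 24576) (Steps.bwd (nat_lit 1) (Steps.fwd (nat_lit 24576) (Steps.fwd (nat_lit 8192) (Steps.fwd (nat_lit 16384) (Steps.bwd (nat_lit 1) (Steps.fwd (nat_lit 16384) (Steps.bwd (nat_lit 1) (Steps.bwd (nat_lit 4) (Steps.fwd (nat_lit 24576) Steps.nil))))))))))) (nat_lit 194) (nat_lit 1),
  Rule.mk (nat_lit 19) (nat_lit 179) (Steps.bwd (nat_lit 3) (Steps.bwd (nat_lit 4) (Steps.bwd (nat_lit 1) (Steps.fwd (nat_lit 24576) (Steps.fwd (nat_lit 8192) (Steps.fwd (nat_lit 24576) (Steps.bwd (nat_lit 1) (Steps.bwd (nat_lit 3) (Steps.fwd (nat_lit 8192) (Steps.bwd (nat_lit 3) (Steps.fwd (nat_lit 8192) Steps.nil))))))))))) (nat_lit 195) (nat_lit 0),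
  Rule.mk (nat_lit 15) (nat_lit 179) (Steps.bwd (nat_lit 3) (Steps.fwd (nat_lit 8192) (Steps.fwd (nat_lit 32768) (Steps.fwd (nat_lit 16384) (Steps.bwd (nat_lit 1) (Steps.bwd (nat_lit 2) (Steps.bwd (nat_lit 1) (Steps.bwd (nat_lit 2) (Steps.bwd (nat_lit 1) (Steps.fwd (nat_lit 24576) (Steps.bwd (nat_lit 1) Steps.nil))))))))))) (nat_lit 191) (nat_lit 0),
  Rule.mk (nat_lit 19) (nat_lit 179) (Steps.bwd (nat_lit 3) (Steps.bwd (nat_lit 4) (Steps.bwd (nat_lit 1) (Steps.fwd (nat_lit 24576) (Steps.bwd (nat_lit 1) (Steps.fwd (nat_lit 24576) (Steps.bwd (nat_lit 1) (Steps.fwd (nat_lit 16384) (Steps.fwd (nat_lit 8192) (Steps.bwd (nat_lit 3) (Steps.bwd (nat_lit 1) Steps.nil))))))))))) (nat_lit 195) (nat_lit 0),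
  Rule.mk (nat_lit 17) (nat_lit 179) (Steps.bwd (nat_lit 2) (Steps.bwd (nat_lit 1) (Steps.fwd (nat_lit 24576) (Steps.fwd (nat_lit 8192) (Steps.bwd (nat_lit 3) (Steps.fwd (nat_lit 8192) (Steps.bwd (nat_lit 3) (Steps.fwd (nat_lit 8192) (Steps.bwd (nat_lit 4) (Steps.fwd (nat_lit 24576) (Steps.bwd (nat_lit 1) Steps.nil))))))))))) (nat_lit 193) (nat_lit 0),
  Rule.mk (nat_lit 1) (nat_lit 839) (Steps.bwd (nat_lit 2) (Steps.bwd (nat_lit 1) (Steps.bwd (nat_lit 3) (Steps.fwd (nat_lit 8192) (Steps.bwd (nat_lit 2) (Steps.fwd (nat_lit 8192) (Steps.bwd (nat_lit 2) (Steps.fwd (nat_lit 8192) (Steps.fwd (nat_lit 16384) (Steps.bwd (nat_lit 1) (Steps.fwd (nat_lit 24576) (Steps.fwd (nat_lit 8192) (Steps.bwd (nat_lit 3) (Steps.fwd (nat_lit 8192) (Steps.bwd (nat_lit 2) (Steps.bwd (nat_lit 1) (Steps.fwd (nat_lit 16384) (Steps.bwd (nat_lit 1) (Steps.fwd (nat_lit 24576) (Steps.bwd (nat_lit 1) (Steps.bwd (nat_lit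 2) (Steps.bwd (nat_lit 1) (Steps.fwd (nat_lit 16384) (Steps.fwd (nat_lit 8192) (Steps.fwd (nat_lit 24576) (Steps.bwd (nat_lit 1) (Steps.bwd (nat_lit 3) (Steps.fwd (nat_lit 8192) (Steps.fwd (nat_lit 24576) (Steps.fwd (nat_lit 8192) (Steps.fwd (nat_lit 16384) (Steps.bwd (nat_lit 1) (Steps.bwd (nat_lit 2) (Steps.bwd (nat_lit 1) (Steps.bwd (nat_lit 2) (Steps.bwd (nat_lit 1) (Steps.fwd (nat_lit 16384) (Steps.bwd (nat_lit 1) (Steps.fwd (nat_lit 24576) (Steps.fwd (nat_lit 8192) (Steps.fwd (nat_lit 16384) (Steps.fwd (nat_lit 8192) (Steps.fwd (nat_lit 24576) (Steps.bwd (nat_lit 1) (Steps.fwd (nat_lit 16384) (Steps.bwd (nat_lit 1) (Steps.bwd (nat_lit 2) (Steps.bwd (nat_lit 1) (Steps.bwd (nat_lit 2) (Steps.bwd (nat_lit 1) (Steps.fwd (nat_lit 16384) (Steps.bwd (nat_lit 1) (Steps.fwd (nat_lit 24576) (Steps.fwd (nat_lit 8192) (Steps.fwd (nat_lit 16384) Steps.nil)))))))))))))))))))))))))))))))))))))))))))))))))))))))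 (nat_lit 10) (nat_lit 11),
  Rule.mk (nat_lit 13) (nat_lit 104) (Steps.fwd (nat_lit 8192) (Steps.bwd (nat_lit 4) (Steps.fwd (nat_lit 40960) (Steps.fwd (nat_lit 65536) (Steps.bwd (nat_lit 9) (Steps.fwd (nat_lit 8192) Steps.nil)))))) (nat_lit 164) (nat_lit 2),
  Rule.mk (nat_lit 7) (nat_lit 164) (Steps.bwd (nat_lit 1) (Steps.fwd (nat_lit 40960) (Steps.fwd (nat_lit 49152) (Steps.fwd (nat_lit 73728) (Steps.bwd (nat_lit 10) (Steps.fwd (nat_lit 90112) (Steps.bwd (nat_lit 12) (Steps.bwd (nat_lit 13) (Steps.bwd (nat_lit 14) (Steps.fwd (nat_lit 8192) Steps.nil)))))))))) (nat_lit 152) (nat_lit 2),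
  Rule.mk (nat_lit 12) (nat_lit 164) (Steps.bwd (nat_lit 1) (Steps.fwd (nat_lit 32768) (Steps.fwd (nat_lit 40960) (Steps.bwd (nat_lit 8) (Steps.bwd (nat_lit 9) (Steps.fwd (nat_lit 81920) (Steps.bwd (nat_lit 11) (Steps.fwd (nat_lit 98304) (Steps.bwd (nat_lit 14) (Steps.fwd (nat_lit 8192) Steps.nil)))))))))) (nat_lit 162) (nat_lit 2),
  Rule.mk (nat_lit 16) (nat_lit 179) (Steps.bwd (nat_lit 1) (Steps.fwd (nat_lit 16384) (Steps.bwd (nat_lit 1) (Steps.bwd (nat_lit 3) (Steps.fwd (nat_lit 8192) (Steps.fwd (nat_lit 16384) (Steps.fwd (nat_lit 8192) (Steps.bwd (nat_lit 2) (Steps.fwd (nat_lit 32768) (Steps.bwd (nat_lit 1) (Steps.fwd (nat_lit 24576) Steps.nil))))))))))) (nat_lit 190) (nat_lit 1),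
  Rule.mk (nat_lit 18) (nat_lit 179) (Steps.fwd (nat_lit 8192) (Steps.fwd (nat_lit 16384) (Steps.bwd (nat_lit 4) (Steps.fwd (nat_lit 8192) (Steps.bwd (nat_lit 2) (Steps.bwd (nat_lit 1) (Steps.fwd (nat_lit 24576) (Steps.fwd (nat_lit 8192) (Steps.bwd (nat_lit 3) (Steps.fwd (nat_lit 8192) (Steps.bwd (nat_lit 3) Steps.nil))))))))))) (nat_lit 192) (nat_lit 1),
  Rule.mk (nat_lit 0) (nat_lit 194) (Steps.bwd (nat_lit 19) (Steps.fwd (nat_lit 16384) (Steps.bwd (nat_lit 4) (Steps.fwd (nat_lit 8192) (Steps.bwd (nat_lit 2) (Steps.bwd (nat_lit 1) (Steps.fwd (nat_lit 24576) (Steps.fwd (nat_lit 8192) (Steps.bwd (nat_lit 3) (Steps.fwd (nat_lit 8192) (Steps.bwd (nat_lit 3) (Steps.fwd (nat_lit 8192) Steps.nil)))))))))))) (nat_lit 195) (nat_lit 11),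
  Rule.mk (nat_lit 20) (nat_lit 179) (Steps.fwd (nat_lit 8192) (Steps.bwd (nat_lit 2) (Steps.bwd (nat_lit 1) (Steps.fwd (nat_lit 24576) (Steps.fwd (nat_lit 8192) (Steps.bwd (nat_lit 3) (Steps.fwd (nat_lit 8192) (Steps.bwd (nat_lit 3) (Steps.fwd (nat_lit 8192) (Steps.bwd (nat_lit 4) (Steps.fwd (nat_lit 24576) Steps.nil))))))))))) (nat_lit 194) (nat_lit 1),
  Rule.mk (nat_lit 9) (nat_lit 134) (Steps.bwd (nat_lit 3) (Steps.fwd (nat_lit 32768) (Steps.fwd (nat_lit 40960) (Steps.fwd (nat_lit 65536) (Steps.fwd (nat_lit 73728) (Steps.bwd (nat_lit 11) (Steps.bwd (nat_lit 14) (Steps.fwd (nat_lit 24576) Steps.nil)))))))) (nat_lit 178) (nat_lit 2),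
  Rule.mk (nat_lit 13) (nat_lit 134) (Steps.bwd (nat_lit 3) (Steps.fwd (nat_lit 49152) (Steps.bwd (nat_lit 10) (Steps.fwd (nat_lit 90112) (Steps.bwd (nat_lit 12) (Steps.fwd (nat_lit 106496) (Steps.fwd (nat_lit 114688) (Steps.bwd (nat_lit 2) Steps.nil)))))))) (nat_lit 186) (nat_lit 2),
  Rule.mk (nat_lit 5) (nat_lit 149) (Steps.bwd (nat_lit 3) (Steps.fwd (nat_lit 32768) (Steps.fwd (nat_lit 40960) (Steps.fwd (nat_lit 65536) (Steps.fwd (nat_lit 73728) (Steps.bwd (nat_lit 12) (Steps.fwd (nat_lit 106496) (Steps.fwd (nat_lit 114688) (Steps.fwd (nat_lit 24576) Steps.nil))))))))) (nat_lit 170) (nat_lit 2),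
  Rule.mk (nat_lit 11) (nat_lit 164) (Steps.bwd (nat_lit 3) (Steps.fwd (nat_lit 32768) (Steps.fwd (nat_lit 40960) (Steps.fwd (nat_lit 65536) (Steps.fwd (nat_lit 73728) (Steps.bwd (nat_lit 10) (Steps.fwd (nat_lit 90112) (Steps.bwd (nat_lit 12) (Steps.bwd (nat_lit 14) (Steps.fwd (nat_lit 24576) Steps.nil)))))))))) (nat_lit 182) (nat_lit 2),
  Rule.mk (nat_lit 0) (nat_lit 194) (Steps.bwd (nat_lit 16) (Steps.fwd (nat_lit 8192) (Steps.bwd (nat_lit 3) (Steps.bwd (nat_lit 1) (Steps.fwd (nat_lit 16384) (Steps.bwd (nat_lit 1) (Steps.bwd (nat_lit 3) (Steps.fwd (nat_lit 8192) (Steps.fwd (nat_lit 24576) (Steps.fwd (nat_lit 32768) (Steps.bwd (nat_lit 1) (Steps.bwd (nat_lit 2) Steps.nil)))))))))))) (nat_lit 190) (nat_lit 0),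
  Rule.mk (nat_lit 15) (nat_lit 179) (Steps.bwd (nat_lit 3) (Steps.bwd (nat_lit 1) (Steps.bwd (nat_lit 4) (Steps.fwd (nat_lit 16384) (Steps.bwd (nat_lit 1) (Steps.fwd (nat_lit 24576) (Steps.bwd (nat_lit 1) (Steps.fwd (nat_lit 24576) (Steps.bwd (nat_lit 1) (Steps.bwd (nat_lit 2) (Steps.bwd (nat_lit 1) Steps.nil))))))))))) (nat_lit 191) (nat_lit 0),
  Rule.mk (nat_lit 19) (nat_lit 179) (Steps.bwd (nat_lit 3) (Steps.fwd (nat_lit 32768) (Steps.bwd (nat_lit 1) (Steps.fwd (nat_lit 24576) (Steps.bwd (nat_lit 1) (Steps.fwd (nat_lit 24576) (Steps.fwd (nat_lit 8192) (Steps.bwd (nat_lit 3) (Steps.fwd (nat_lit 8192) (Steps.bwd (nat_lit 3) (Steps.fwd (nat_lit 8192) Steps.nil))))))))))) (nat_lit 195) (nat_lit 0),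
  Rule.mk (nat_lit 1) (nat_lit 539) (Steps.bwd (nat_lit 3) (Steps.bwd (nat_lit 1) (Steps.fwd (nat_lit 24576) (Steps.fwd (nat_lit 8192) (Steps.bwd (nat_lit 2) (Steps.fwd (nat_lit 8192) (Steps.fwd (nat_lit 16384) (Steps.fwd (nat_lit 8192) (Steps.fwd (nat_lit 24576) (Steps.bwd (nat_lit 1) (Steps.fwd (nat_lit 24576) (Steps.fwd (nat_lit 8192) (Steps.bwd (nat_lit 3) (Steps.fwd (nat_lit 8192) (Steps.bwd (nat_lit 2) (Steps.fwd (nat_lit 8192) (Steps.bwd (nat_lit 2) (Steps.bwd (nat_lit 1) (Steps.bwd (nat_lit 3) (Steps.fwd (nat_lit 8192) (Steps.bwd (nat_lit 2) (Steps.fwd (nat_lit 8192) (Steps.bwd (nat_lit 3) (Steps.fwd (nat_lit 8192) (Steps.bwd (nat_lit 3) (Steps.bwd (nat_lit 1) (Steps.fwd (nat_lit 24576) (Steps.bwd (nat_lit 1) (Steps.bwd (nat_lit 3) (Steps.bwd (nat_lit 1) (Steps.fwd (nat_lit 16384) (Steps.bwd (nat_lit 1) (Steps.fwd (nat_lit 24576) (Steps.bwd (nat_lit 1) (Steps.bwd (nat_lit 3) Steps.nil)))))))))))))))))))))))))))))))))))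 (nat_lit 12) (nat_lit 35),
  Rule.mk (nat_lit 6) (nat_lit 104) (Steps.bwd (nat_lit 11) (Steps.bwd (nat_lit 12) (Steps.fwd (nat_lit 114688) (Steps.fwd (nat_lit 8192) (Steps.fwd (nat_lit 90112) (Steps.bwd (nat_lit 1) Steps.nil)))))) (nat_lit 160) (nat_lit 4),
  Rule.mk (nat_lit 16) (nat_lit 179) (Steps.bwd (nat_lit 1) (Steps.fwd (nat_lit 16384) (Steps.bwd (nat_lit 1) (Steps.fwd (nat_lit 16384) (Steps.fwd (nat_lit 8192) (Steps.bwd (nat_lit 3) (Steps.bwd (nat_lit 1) (Steps.fwd (nat_lit 24576) (Steps.bwd (nat_lit 4) (Steps.bwd (nat_lit 1) (Steps.fwd (nat_lit 24576) Steps.nil))))))))))) (nat_lit 190) (nat_lit 1),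
  Rule.mk (nat_lit 16) (nat_lit 179) (Steps.fwd (nat_lit 8192) (Steps.bwd (nat_lit 3) (Steps.bwd (nat_lit 1) (Steps.bwd (nat_lit 3) (Steps.bwd (nat_lit 1) (Steps.bwd (nat_lit 3) (Steps.bwd (nat_lit 1) (Steps.fwd (nat_lit 24576) (Steps.fwd (nat_lit 32768) (Steps.fwd (nat_lit 8192) (Steps.fwd (nat_lit 24576) Steps.nil))))))))))) (nat_lit 190) (nat_lit 1),
  Rule.mk (nat_lit 16) (nat_lit 179) (Steps.bwd (nat_lit 1) (Steps.bwd (nat_lit 3) (Steps.bwd (nat_lit 1) (Steps.bwd (nat_lit 3) (Steps.fwd (nat_lit 8192) (Steps.fwd (nat_lit 16384) (Steps.bwd (nat_lit 1) (Steps.bwd (nat_lit 2) (Steps.bwd (nat_lit 4) (Steps.fwd (nat_lit 8192) (Steps.fwd (nat_lit 24576) Steps.nil))))))))))) (nat_lit 190) (nat_lit 1),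
  Rule.mk (nat_lit 15) (nat_lit 179) (Steps.fwd (nat_lit 16384) (Steps.bwd (nat_lit 1) (Steps.bwd (nat_lit 4) (Steps.fwd (nat_lit 16384) (Steps.bwd (nat_lit 1) (Steps.fwd (nat_lit 24576) (Steps.bwd (nat_lit 1) (Steps.fwd (nat_lit 24576) (Steps.fwd (nat_lit 8192) (Steps.fwd (nat_lit 24576) (Steps.bwd (nat_lit 1) Steps.nil))))))))))) (nat_lit 191) (nat_lit 0),
  Rule.mk (nat_lit 15) (nat_lit 179) (Steps.fwd (nat_lit 16384) (Steps.bwd (nat_lit 1) (Steps.fwd (nat_lit 32768) (Steps.bwd (nat_lit 3) (Steps.bwd (nat_lit 1) (Steps.fwd (nat_lit 24576) (Steps.fwd (nat_lit 8192) (Steps.fwd (nat_lit 24576) (Steps.bwd (nat_lit 1) (Steps.fwd (nat_lit 24576) (Steps.fwd (nat_lit 8192) Steps.nil))))))))))) (nat_lit 191) (nat_lit 0),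
  Rule.mk (nat_lit 15) (nat_lit 179) (Steps.bwd (nat_lit 3) (Steps.bwd (nat_lit 1) (Steps.bwd (nat_lit 4) (Steps.bwd (nat_lit 3) (Steps.fwd (nat_lit 8192) (Steps.fwd (nat_lit 24576) (Steps.bwd (nat_lit 1) (Steps.fwd (nat_lit 24576) (Steps.fwd (nat_lit 8192) (Steps.bwd (nat_lit 2) (Steps.bwd (nat_lit 1) Steps.nil))))))))))) (nat_lit 191) (nat_lit 0),
  Rule.mk (nat_lit 0) (nat_lit 194) (Steps.bwd (nat_lit 16) (Steps.bwd (nat_lit 1) (Steps.bwd (nat_lit 3) (Steps.fwd (nat_lit 8192) (Steps.fwd (nat_lit 16384) (Steps.fwd (nat_lit 8192) (Steps.bwd (nat_lit 3) (Steps.fwd (nat_lit 8192) (Steps.fwd (nat_lit 24576) (Steps.fwd (nat_lit 32768) (Steps.bwd (nat_lit 1) (Steps.fwd (nat_lit 24576) Steps.nil)))))))))))) (nat_lit 190) (nat_lit 0),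
  Rule.mk (nat_lit 0) (nat_lit 194) (Steps.bwd (nat_lit 18) (Steps.fwd (nat_lit 8192) (Steps.fwd (nat_lit 16384) (Steps.bwd (nat_lit 4) (Steps.bwd (nat_lit 1) (Steps.bwd (nat_lit 2) (Steps.bwd (nat_lit 1) (Steps.fwd (nat_lit 24576) (Steps.bwd (nat_lit 1) (Steps.bwd (nat_lit 3) (Steps.bwd (nat_lit 1) (Steps.bwd (nat_lit 3) Steps.nil)))))))))))) (nat_lit 192) (nat_lit 0),
  Rule.mk (nat_lit 0) (nat_lit 194) (Steps.bwd (nat_lit 18) (Steps.bwd (nat_lit 1) (Steps.fwd (nat_lit 16384) (Steps.fwd (nat_lit 32768) (Steps.bwd (nat_lit 1) (Steps.fwd (nat_lit 24576) (Steps.fwd (nat_lit 8192) (Steps.fwd (nat_lit 24576) (Steps.bwd (nat_lit 1) (Steps.bwd (nat_lit 3) (Steps.bwd (nat_lit 1) (Steps.bwd (nat_lit 3) Steps.nil)))))))))))) (nat_lit 192) (nat_lit 0),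
  Rule.mk (nat_lit 0) (nat_lit 194) (Steps.bwd (nat_lit 17) (Steps.fwd (nat_lit 24576) (Steps.bwd (nat_lit 1) (Steps.fwd (nat_lit 24576) (Steps.fwd (nat_lit 8192) (Steps.bwd (nat_lit 3) (Steps.fwd (nat_lit 8192) (Steps.bwd (nat_lit 3) (Steps.fwd (nat_lit 8192) (Steps.fwd (nat_lit 32768) (Steps.fwd (nat_lit 24576) (Steps.fwd (nat_lit 8192) Steps.nil)))))))))))) (nat_lit 193) (nat_lit 11),
  Rule.mk (nat_lit 0) (nat_lit 194) (Steps.bwd (nat_lit 17) (Steps.bwd (nat_lit 2) (Steps.bwd (nat_lit 1) (Steps.fwd (nat_lit 24576) (Steps.fwd (nat_lit 8192) (Steps.fwd (nat_lit 16384) (Steps.fwd (nat_lit 8192) (Steps.bwd (nat_lit 3) (Steps.fwd (nat_lit 8192) (Steps.fwd (nat_lit 32768) (Steps.fwd (nat_lit 24576) (Steps.bwd (nat_lit 1) Steps.nil)))))))))))) (nat_lit 193) (nat_lit 11),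
  Rule.mk (nat_lit 18) (nat_lit 179) (Steps.bwd (nat_lit 1) (Steps.bwd (nat_lit 3) (Steps.fwd (nat_lit 32768) (Steps.bwd (nat_lit 1) (Steps.fwd (nat_lit 24576) (Steps.bwd (nat_lit 1) (Steps.fwd (nat_lit 24576) (Steps.fwd (nat_lit 8192) (Steps.bwd (nat_lit 3) (Steps.fwd (nat_lit 8192) (Steps.bwd (nat_lit 3) Steps.nil))))))))))) (nat_lit 192) (nat_lit 1),
  Rule.mk (nat_lit 17) (nat_lit 179) (Steps.fwd (nat_lit 24576) (Steps.fwd (nat_lit 8192) (Steps.fwd (nat_lit 24576) (Steps.bwd (nat_lit 1) (Steps.bwd (nat_lit 3) (Steps.bwd (nat_lit 1) (Steps.bwd (nat_lit 3) (Steps.fwd (nat_lit 8192) (Steps.fwd (nat_lit 32768) (Steps.fwd (nat_lit 24576) (Steps.fwd (nat_lit 8192) Steps.nil))))))))))) (nat_lit 193) (nat_lit 0),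
  Rule.mk (nat_lit 0) (nat_lit 194) (Steps.bwd (nat_lit 20) (Steps.bwd (nat_lit 1) (Steps.bwd (nat_lit 2) (Steps.bwd (nat_lit 1) (Steps.fwd (nat_lit 24576) (Steps.bwd (nat_lit 1) (Steps.bwd (nat_lit 3) (Steps.bwd (nat_lit 1) (Steps.bwd (nat_lit 3) (Steps.bwd (nat_lit 1) (Steps.bwd (nat_lit 4) (Steps.fwd (nat_lit 24576) Steps.nil)))))))))))) (nat_lit 194) (nat_lit 0),
  Rule.mk (nat_lit 0) (nat_lit 194) (Steps.bwd (nat_lit 20) (Steps.fwd (nat_lit 8192) (Steps.fwd (nat_lit 24576) (Steps.bwd (nat_lit 1) (Steps.fwd (nat_lit 24576) (Steps.fwd (nat_lit 8192) (Steps.bwd (nat_lit 3) (Steps.fwd (nat_lit 8192) (Steps.bwd (nat_lit 3) (Steps.fwd (nat_lit 8192) (Steps.fwd (nat_lit 32768) (Steps.fwd (nat_lit 24576) Steps.nil)))))))))))) (nat_lit 194) (nat_lit 0),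
  Rule.mk (nat_lit 20) (nat_lit 179) (Steps.bwd (nat_lit 1) (Steps.fwd (nat_lit 24576) (Steps.fwd (nat_lit 8192) (Steps.bwd (nat_lit 2) (Steps.bwd (nat_lit 1) (Steps.bwd (nat_lit 3) (Steps.fwd (nat_lit 8192) (Steps.fwd (nat_lit 16384) (Steps.bwd (nat_lit 1) (Steps.bwd (nat_lit 4) (Steps.fwd (nat_lit 24576) Steps.nil))))))))))) (nat_lit 194) (nat_lit 1),
  Rule.mk (nat_lit 19) (nat_lit 179) (Steps.fwd (nat_lit 16384) (Steps.bwd (nat_lit 4) (Steps.bwd (nat_lit 1) (Steps.bwd (nat_lit 2) (Steps.bwd (nat_lit 1) (Steps.fwd (nat_lit 24576) (Steps.bwd (nat_lit 1) (Steps.bwd (nat_lit 3) (Steps.bwd (nat_lit 1) (Steps.bwd (nat_lit 3) (Steps.bwd (nat_lit 1) Steps.nil))))))))))) (nat_lit 195) (nat_lit 0),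
  Rule.mk (nat_lit 19) (nat_lit 179) (Steps.fwd (nat_lit 16384) (Steps.fwd (nat_lit 32768) (Steps.bwd (nat_lit 1) (Steps.fwd (nat_lit 24576) (Steps.fwd (nat_lit 8192) (Steps.fwd (nat_lit 24576) (Steps.bwd (nat_lit 1) (Steps.bwd (nat_lit 3) (Steps.bwd (nat_lit 1) (Steps.bwd (nat_lit 3) (Steps.fwd (nat_lit 8192) Steps.nil))))))))))) (nat_lit 195) (nat_lit 0),
  Rule.mk (nat_lit 19) (nat_lit 179) (Steps.bwd (nat_lit 3) (Steps.bwd (nat_lit 4) (Steps.bwd (nat_lit 1) (Steps.fwd (nat_lit 24576) (Steps.fwd (nat_lit 8192) (Steps.bwd (nat_lit 2) (Steps.bwd (nat_lit 1) (Steps.bwd (nat_lit 3) (Steps.fwd (nat_lit 8192) (Steps.fwd (nat_lit 16384) (Steps.bwd (nat_lit 1) Steps.nil))))))))))) (nat_lit 195) (nat_lit 0),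
  Rule.mk (nat_lit 17) (nat_lit 179) (Steps.bwd (nat_lit 2) (Steps.fwd (nat_lit 8192) (Steps.fwd (nat_lit 24576) (Steps.bwd (nat_lit 1) (Steps.bwd (nat_lit 3) (Steps.bwd (nat_lit 1) (Steps.fwd (nat_lit 16384) (Steps.fwd (nat_lit 8192) (Steps.bwd (nat_lit 4) (Steps.fwd (nat_lit 24576) (Steps.fwd (nat_lit 8192) Steps.nil))))))))))) (nat_lit 193) (nat_lit 0),
  Rule.mk (nat_lit 0) (nat_lit 194) (Steps.bwd (nat_lit 3) (Steps.fwd (nat_lit 32768) (Steps.bwd (nat_lit 1) (Steps.bwd (nat_lit 2) (Steps.fwd (nat_lit 8192) (Steps.fwd (nat_lit 24576) (Steps.fwd (nat_lit 8192) (Steps.bwd (nat_lit 3) (Steps.bwd (nat_lit 1) (Steps.fwd (nat_lit 16384) (Steps.fwd (nat_lit 8192) (Steps.fwd (nat_lit 163840) Steps.nil)))))))))))) (nat_lit 195) (nat_lit 0),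
  Rule.mk (nat_lit 18) (nat_lit 179) (Steps.bwd (nat_lit 1) (Steps.bwd (nat_lit 3) (Steps.fwd (nat_lit 32768) (Steps.fwd (nat_lit 8192) (Steps.bwd (nat_lit 2) (Steps.bwd (nat_lit 1) (Steps.fwd (nat_lit 24576) (Steps.fwd (nat_lit 8192) (Steps.bwd (nat_lit 3) (Steps.fwd (nat_lit 8192) (Steps.fwd (nat_lit 16384) Steps.nil))))))))))) (nat_lit 192) (nat_lit 1),
  Rule.mk (nat_lit 1) (nat_lit 134) (Steps.bwd (nat_lit 10) (Steps.fwd (nat_lit 8192) (Steps.fwd (nat_lit 32768) (Steps.bwd (nat_lit 5) (Steps.bwd (nat_lit 8) (Steps.bwd (nat_lit 9) (Steps.fwd (nat_lit 90112) (Steps.bwd (nat_lit 14) Steps.nil)))))))) (nat_lit 158) (nat_lit 1),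
  Rule.mk (nat_lit 2) (nat_lit 179) (Steps.bwd (nat_lit 16) (Steps.bwd (nat_lit 1) (Steps.fwd (nat_lit 16384) (Steps.fwd (nat_lit 8192) (Steps.fwd (nat_lit 16384) (Steps.fwd (nat_lit 8192) (Steps.fwd (nat_lit 16384) (Steps.fwd (nat_lit 8192) (Steps.bwd (nat_lit 2) (Steps.bwd (nat_lit 4) (Steps.bwd (nat_lit 1) Steps.nil))))))))))) (nat_lit 190) (nat_lit 0),
  Rule.mk (nat_lit 16) (nat_lit 179) (Steps.fwd (nat_lit 8192) (Steps.bwd (nat_lit 3) (Steps.fwd (nat_lit 8192) (Steps.fwd (nat_lit 16384) (Steps.bwd (nat_lit 1) (Steps.fwd (nat_lit 16384) (Steps.bwd (nat_lit 1) (Steps.fwd (nat_lit 24576) (Steps.bwd (nat_lit 4) (Steps.bwd (nat_lit 1) (Steps.fwd (nat_lit 24576) Steps.nil))))))))))) (nat_lit 190) (nat_lit 1),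
  Rule.mk (nat_lit 16) (nat_lit 179) (Steps.fwd (nat_lit 8192) (Steps.fwd (nat_lit 16384) (Steps.bwd (nat_lit 1) (Steps.fwd (nat_lit 16384) (Steps.bwd (nat_lit 1) (Steps.bwd (nat_lit 3) (Steps.fwd (nat_lit 8192) (Steps.bwd (nat_lit 2) (Steps.bwd (nat_lit 4) (Steps.bwd (nat_lit 1) (Steps.fwd (nat_lit 24576) Steps.nil))))))))))) (nat_lit 190) (nat_lit 1),
  Rule.mk (nat_lit 16) (nat_lit 179) (Steps.bwd (nat_lit 1) (Steps.fwd (nat_lit 16384) (Steps.bwd (nat_lit 1) (Steps.bwd (nat_lit 3) (Steps.fwd (nat_lit 8192) (Steps.bwd (nat_lit 3) (Steps.fwd (nat_lit 8192) (Steps.fwd (nat_lit 24576) (Steps.bwd (nat_lit 4) (Steps.fwd (nat_lit 8192) (Steps.bwd (nat_lit 2) Steps.nil))))))))))) (nat_lit 190) (nat_lit 1),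
  Rule.mk (nat_lit 15) (nat_lit 179) (Steps.fwd (nat_lit 16384) (Steps.fwd (nat_lit 8192) (Steps.bwd (nat_lit 4) (Steps.fwd (nat_lit 16384) (Steps.bwd (nat_lit 1) (Steps.fwd (nat_lit 24576) (Steps.bwd (nat_lit 1) (Steps.fwd (nat_lit 24576) (Steps.fwd (nat_lit 8192) (Steps.fwd (nat_lit 24576) (Steps.bwd (nat_lit 1) Steps.nil))))))))))) (nat_lit 191) (nat_lit 0),
  Rule.mk (nat_lit 0) (nat_lit 194) (Steps.bwd (nat_lit 15) (Steps.fwd (nat_lit 16384) (Steps.bwd (nat_lit 1) (Steps.fwd (nat_lit 32768) (Steps.bwd (nat_lit 3) (Steps.fwd (nat_lit 8192) (Steps.bwd (nat_lit 2) (Steps.fwd (nat_lit 8192) (Steps.fwd (nat_lit 24576) (Steps.fwd (nat_lit 8192) (Steps.bwd (nat_lit 2) (Steps.fwd (nat_lit 8192) Steps.nil)))))))))))) (nat_lit 191) (nat_lit 11)]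
noncomputable def R_113 : List (Rule) := [Rule.mk (nat_lit 18) (nat_lit 179) (Steps.fwd (nat_lit 8192) (Steps.fwd (nat_lit 16384) (Steps.bwd (nat_lit 4) (Steps.bwd (nat_lit 1) (Steps.fwd (nat_lit 24576) (Steps.fwd (nat_lit 8192) (Steps.fwd (nat_lit 24576) (Steps.bwd (nat_lit 1) (Steps.fwd (nat_lit 16384) (Steps.bwd (nat_lit 1) (Steps.bwd (nat_lit 3) Steps.nil))))))))))) (nat_lit 192) (nat_lit 1),
  Rule.mk (nat_lit 17) (nat_lit 179) (Steps.fwd (nat_lit 24576) (Steps.bwd (nat_lit 1) (Steps.bwd (nat_lit 2) (Steps.fwd (nat_lit 8192) (Steps.fwd (nat_lit 16384) (Steps.bwd (nat_lit 1) (Steps.fwd (nat_lit 16384) (Steps.bwd (nat_lit 1) (Steps.bwd (nat_lit 4) (Steps.bwd (nat_lit 2) (Steps.bwd (nat_lit 1) Steps.nil))))))))))) (nat_lit 193) (nat_lit 0),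
  Rule.mk (nat_lit 0) (nat_lit 194) (Steps.bwd (nat_lit 17) (Steps.fwd (nat_lit 24576) (Steps.fwd (nat_lit 8192) (Steps.fwd (nat_lit 24576) (Steps.bwd (nat_lit 1) (Steps.fwd (nat_lit 16384) (Steps.bwd (nat_lit 1) (Steps.bwd (nat_lit 3) (Steps.fwd (nat_lit 8192) (Steps.bwd (nat_lit 4) (Steps.fwd (nat_lit 24576) (Steps.bwd (nat_lit 1) Steps.nil)))))))))))) (nat_lit 193) (nat_lit 11),
  Rule.mk (nat_lit 0) (nat_lit 194) (Steps.bwd (nat_lit 20) (Steps.bwd (nat_lit 1) (Steps.fwd (nat_lit 24576) (Steps.bwd (nat_lit 1) (Steps.bwd (nat_lit 2) (Steps.fwd (nat_lit 8192) (Steps.fwd (nat_lit 16384) (Steps.bwd (nat_lit 1) (Steps.fwd (nat_lit 16384) (Steps.bwd (nat_lit 1) (Steps.bwd (nat_lit 4) (Steps.bwd (nat_lit 2) Steps.nil)))))))))))) (nat_lit 194) (nat_lit 0),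
  Rule.mk (nat_lit 19) (nat_lit 179) (Steps.fwd (nat_lit 16384) (Steps.bwd (nat_lit 4) (Steps.bwd (nat_lit 1) (Steps.fwd (nat_lit 24576) (Steps.bwd (nat_lit 1) (Steps.bwd (nat_lit 2) (Steps.fwd (nat_lit 8192) (Steps.fwd (nat_lit 16384) (Steps.bwd (nat_lit 1) (Steps.fwd (nat_lit 16384) (Steps.bwd (nat_lit 1) Steps.nil))))))))))) (nat_lit 195) (nat_lit 0),
  Rule.mk (nat_lit 0) (nat_lit 194) (Steps.bwd (nat_lit 20) (Steps.bwd (nat_lit 1) (Steps.fwd (nat_lit 24576) (Steps.fwd (nat_lit 8192) (Steps.bwd (nat_lit 2) (Steps.fwd (nat_lit 8192) (Steps.bwd (nat_lit 3) (Steps.bwd (nat_lit 1) (Steps.bwd (nat_lit 3) (Steps.fwd (nat_lit 8192) (Steps.fwd (nat_lit 32768) (Steps.bwd (nat_lit 2) Steps.nil)))))))))))) (nat_lit 194) (nat_lit 0),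
  Rule.mk (nat_lit 0) (nat_lit 554) (Steps.fwd (nat_lit 16384) (Steps.fwd (nat_lit 8192) (Steps.bwd (nat_lit 2) (Steps.bwd (nat_lit 1) (Steps.fwd (nat_lit 24576) (Steps.bwd (nat_lit 1) (Steps.bwd (nat_lit 3) (Steps.fwd (nat_lit 8192) (Steps.fwd (nat_lit 24576) (Steps.fwd (nat_lit 8192) (Steps.bwd (nat_lit 2) (Steps.fwd (nat_lit 8192) (Steps.bwd (nat_lit 3) (Steps.fwd (nat_lit 8192) (Steps.bwd (nat_lit 2) (Steps.fwd (nat_lit 8192) (Steps.fwd (nat_lit 16384) (Steps.bwd (nat_lit 1) (Steps.bwd (nat_lit 3) (Steps.fwd (nat_lit 8192) (Steps.fwd (nat_lit 24576) (Steps.fwd (nat_lit 8192) (Steps.bwd (nat_lit 3) (Steps.fwd (nat_lit 8192) (Steps.bwd (nat_lit 3) (Steps.fwd (nat_lit 8192) (Steps.bwd (nat_lit 2) (Steps.fwd (nat_lit 8192) (Steps.fwd (nat_lit 16384) (Steps.fwd (nat_lit 8192) (Steps.bwd (nat_lit 3) (Steps.fwd (nat_lit 8192) (Steps.fwd (nat_lit 24576) (Steps.fwd (nat_lit 8192) (Steps.bwd (nat_lit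 2) (Steps.fwd (nat_lit 8192) Steps.nil)))))))))))))))))))))))))))))))))))) (nat_lit 12) (nat_lit 5),
  Rule.mk (nat_lit 16) (nat_lit 179) (Steps.bwd (nat_lit 1) (Steps.bwd (nat_lit 3) (Steps.bwd (nat_lit 1) (Steps.fwd (nat_lit 16384) (Steps.fwd (nat_lit 8192) (Steps.fwd (nat_lit 16384) (Steps.fwd (nat_lit 8192) (Steps.bwd (nat_lit 2) (Steps.bwd (nat_lit 4) (Steps.fwd (nat_lit 8192) (Steps.bwd (nat_lit 2) Steps.nil))))))))))) (nat_lit 190) (nat_lit 1),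
  Rule.mk (nat_lit 0) (nat_lit 194) (Steps.bwd (nat_lit 16) (Steps.bwd (nat_lit 1) (Steps.fwd (nat_lit 16384) (Steps.fwd (nat_lit 8192) (Steps.fwd (nat_lit 16384) (Steps.fwd (nat_lit 8192) (Steps.bwd (nat_lit 3) (Steps.bwd (nat_lit 1) (Steps.bwd (nat_lit 2) (Steps.fwd (nat_lit 32768) (Steps.fwd (nat_lit 8192) (Steps.fwd (nat_lit 24576) Steps.nil)))))))))))) (nat_lit 190) (nat_lit 0),
  Rule.mk (nat_lit 16) (nat_lit 179) (Steps.fwd (nat_lit 8192) (Steps.fwd (nat_lit 16384) (Steps.fwd (nat_lit 8192) (Steps.bwd (nat_lit 3) (Steps.bwd (nat_lit 1) (Steps.bwd (nat_lit 3) (Steps.fwd (nat_lit 8192) (Steps.bwd (nat_lit 2) (Steps.bwd (nat_lit 4) (Steps.bwd (nat_lit 1) (Steps.bwd (nat_lit 2) Steps.nil))))))))))) (nat_lit 190) (nat_lit 1),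
  Rule.mk (nat_lit 18) (nat_lit 179) (Steps.fwd (nat_lit 8192) (Steps.bwd (nat_lit 3) (Steps.fwd (nat_lit 32768) (Steps.fwd (nat_lit 8192) (Steps.fwd (nat_lit 24576) (Steps.fwd (nat_lit 8192) (Steps.bwd (nat_lit 2) (Steps.fwd (nat_lit 8192) (Steps.fwd (nat_lit 16384) (Steps.fwd (nat_lit 8192) (Steps.bwd (nat_lit 3) Steps.nil))))))))))) (nat_lit 192) (nat_lit 1),
  Rule.mk (nat_lit 0) (nat_lit 194) (Steps.bwd (nat_lit 1) (Steps.bwd (nat_lit 3) (Steps.bwd (nat_lit 4) (Steps.bwd (nat_lit 1) (Steps.bwd (nat_lit 2) (Steps.bwd (nat_lit 1) (Steps.bwd (nat_lit 2) (Steps.fwd (nat_lit 8192) (Steps.fwd (nat_lit 16384) (Steps.fwd (nat_lit 8192) (Steps.fwd (nat_lit 16384) (Steps.fwd (nat_lit 139264) Steps.nil)))))))))))) (nat_lit 192) (nat_lit 1),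
  Rule.mk (nat_lit 0) (nat_lit 194) (Steps.bwd (nat_lit 17) (Steps.fwd (nat_lit 24576) (Steps.fwd (nat_lit 8192) (Steps.bwd (nat_lit 2) (Steps.fwd (nat_lit 8192) (Steps.fwd (nat_lit 16384) (Steps.fwd (nat_lit 8192) (Steps.bwd (nat_lit 3) (Steps.bwd (nat_lit 1) (Steps.fwd (nat_lit 32768) (Steps.bwd (nat_lit 2) (Steps.fwd (nat_lit 8192) Steps.nil)))))))))))) (nat_lit 193) (nat_lit 11),
  Rule.mk (nat_lit 0) (nat_lit 194) (Steps.bwd (nat_lit 19) (Steps.bwd (nat_lit 3) (Steps.bwd (nat_lit 4) (Steps.bwd (nat_lit 1) (Steps.bwd (nat_lit 2) (Steps.bwd (nat_lit 1) (Steps.bwd (nat_lit 2) (Steps.fwd (nat_lit 8192) (Steps.fwd (nat_lit 16384) (Steps.fwd (nat_lit 8192) (Steps.fwd (nat_lit 16384) (Steps.fwd (nat_lit 8192) Steps.nil)))))))))))) (nat_lit 195) (nat_lit 11),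
  Rule.mk (nat_lit 0) (nat_lit 194) (Steps.bwd (nat_lit 20) (Steps.fwd (nat_lit 8192) (Steps.fwd (nat_lit 24576) (Steps.fwd (nat_lit 8192) (Steps.bwd (nat_lit 2) (Steps.fwd (nat_lit 8192) (Steps.fwd (nat_lit 16384) (Steps.fwd (nat_lit 8192) (Steps.bwd (nat_lit 3) (Steps.bwd (nat_lit 1) (Steps.fwd (nat_lit 32768) (Steps.bwd (nat_lit 2) Steps.nil)))))))))))) (nat_lit 194) (nat_lit 0),
  Rule.mk (nat_lit 0) (nat_lit 194) (Steps.bwd (nat_lit 19) (Steps.bwd (nat_lit 3) (Steps.fwd (nat_lit 32768) (Steps.fwd (nat_lit 8192) (Steps.fwd (nat_lit 24576) (Steps.fwd (nat_lit 8192) (Steps.bwd (nat_lit 2) (Steps.fwd (nat_lit 8192) (Steps.fwd (nat_lit 16384) (Steps.fwd (nat_lit 8192) (Steps.bwd (nat_lit 3) (Steps.bwd (nat_lit 1) Steps.nil)))))))))))) (nat_lit 195) (nat_lit 11),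
  Rule.mk (nat_lit 16) (nat_lit 179) (Steps.bwd (nat_lit 1) (Steps.fwd (nat_lit 16384) (Steps.fwd (nat_lit 8192) (Steps.bwd (nat_lit 3) (Steps.fwd (nat_lit 8192) (Steps.bwd (nat_lit 3) (Steps.fwd (nat_lit 8192) (Steps.bwd (nat_lit 2) (Steps.fwd (nat_lit 32768) (Steps.fwd (nat_lit 8192) (Steps.bwd (nat_lit 2) Steps.nil))))))))))) (nat_lit 190) (nat_lit 1),
  Rule.mk (nat_lit 20) (nat_lit 179) (Steps.fwd (nat_lit 8192) (Steps.bwd (nat_lit 2) (Steps.fwd (nat_lit 8192) (Steps.fwd (nat_lit 24576) (Steps.bwd (nat_lit 1) (Steps.bwd (nat_lit 3) (Steps.bwd (nat_lit 1) (Steps.fwd (nat_lit 16384) (Steps.bwd (nat_lit 1) (Steps.fwd (nat_lit 32768) (Steps.bwd (nat_lit 2) Steps.nil))))))))))) (nat_lit 194) (nat_lit 1),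
  Rule.mk (nat_lit 10) (nat_lit 134) (Steps.bwd (nat_lit 1) (Steps.bwd (nat_lit 4) (Steps.bwd (nat_lit 5) (Steps.fwd (nat_lit 65536) (Steps.bwd (nat_lit 9) (Steps.bwd (nat_lit 11) (Steps.bwd (nat_lit 14) (Steps.bwd (nat_lit 1) Steps.nil)))))))) (nat_lit 158) (nat_lit 2),
  Rule.mk (nat_lit 7) (nat_lit 164) (Steps.bwd (nat_lit 1) (Steps.bwd (nat_lit 5) (Steps.fwd (nat_lit 49152) (Steps.bwd (nat_lit 9) (Steps.fwd (nat_lit 81920) (Steps.bwd (nat_lit 11) (Steps.fwd (nat_lit 98304) (Steps.fwd (nat_lit 106496) (Steps.bwd (nat_lit 14) (Steps.fwd (nat_lit 8192) Steps.nil)))))))))) (nat_lit 152) (nat_lit 2),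
  Rule.mk (nat_lit 12) (nat_lit 164) (Steps.bwd (nat_lit 1) (Steps.bwd (nat_lit 4) (Steps.bwd (nat_lit 5) (Steps.fwd (nat_lit 65536) (Steps.bwd (nat_lit 9) (Steps.bwd (nat_lit 10) (Steps.fwd (nat_lit 90112) (Steps.bwd (nat_lit 12) (Steps.fwd (nat_lit 114688) (Steps.fwd (nat_lit 8192) Steps.nil)))))))))) (nat_lit 162) (nat_lit 2),
  Rule.mk (nat_lit 16) (nat_lit 179) (Steps.fwd (nat_lit 8192) (Steps.fwd (nat_lit 16384) (Steps.fwd (nat_lit 8192) (Steps.bwd (nat_lit 3) (Steps.fwd (nat_lit 8192) (Steps.fwd (nat_lit 16384) (Steps.bwd (nat_lit 1) (Steps.fwd (nat_lit 24576) (Steps.bwd (nat_lit 4) (Steps.bwd (nat_lit 1) (Steps.bwd (nat_lit 2) Steps.nil))))))))))) (nat_lit 190) (nat_lit 1),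
  Rule.mk (nat_lit 0) (nat_lit 194) (Steps.bwd (nat_lit 17) (Steps.bwd (nat_lit 2) (Steps.fwd (nat_lit 8192) (Steps.fwd (nat_lit 24576) (Steps.bwd (nat_lit 1) (Steps.fwd (nat_lit 16384) (Steps.fwd (nat_lit 8192) (Steps.fwd (nat_lit 16384) (Steps.fwd (nat_lit 8192) (Steps.fwd (nat_lit 32768) (Steps.bwd (nat_lit 2) (Steps.fwd (nat_lit 8192) Steps.nil)))))))))))) (nat_lit 193) (nat_lit 11),
  Rule.mk (nat_lit 18) (nat_lit 179) (Steps.bwd (nat_lit 1) (Steps.fwd (nat_lit 16384) (Steps.bwd (nat_lit 4) (Steps.fwd (nat_lit 8192) (Steps.fwd (nat_lit 24576) (Steps.fwd (nat_lit 8192) (Steps.fwd (nat_lit 24576) (Steps.bwd (nat_lit 1) (Steps.fwd (nat_lit 16384) (Steps.fwd (nat_lit 8192) (Steps.fwd (nat_lit 16384) Steps.nil))))))))))) (nat_lit 192) (nat_lit 1),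
  Rule.mk (nat_lit 20) (nat_lit 179) (Steps.bwd (nat_lit 1) (Steps.bwd (nat_lit 2) (Steps.fwd (nat_lit 8192) (Steps.bwd (nat_lit 2) (Steps.fwd (nat_lit 8192) (Steps.bwd (nat_lit 3) (Steps.bwd (nat_lit 1) (Steps.fwd (nat_lit 16384) (Steps.bwd (nat_lit 1) (Steps.fwd (nat_lit 32768) (Steps.fwd (nat_lit 24576) Steps.nil))))))))))) (nat_lit 194) (nat_lit 1),
  Rule.mk (nat_lit 0) (nat_lit 194) (Steps.bwd (nat_lit 19) (Steps.fwd (nat_lit 16384) (Steps.bwd (nat_lit 4) (Steps.bwd (nat_lit 1) (Steps.bwd (nat_lit 2) (Steps.fwd (nat_lit 8192) (Steps.bwd (nat_lit 2) (Steps.fwd (nat_lit 8192) (Steps.bwd (nat_lit 3) (Steps.bwd (nat_lit 1) (Steps.fwd (nat_lit 16384) (Steps.bwd (nat_lit 1) Steps.nil)))))))))))) (nat_lit 195) (nat_lit 11),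
  Rule.mk (nat_lit 3) (nat_lit 539) (Steps.bwd (nat_lit 1) (Steps.fwd (nat_lit 16384) (Steps.fwd (nat_lit 8192) (Steps.fwd (nat_lit 24576) (Steps.fwd (nat_lit 8192) (Steps.bwd (nat_lit 3) (Steps.bwd (nat_lit 1) (Steps.fwd (nat_lit 16384) (Steps.bwd (nat_lit 1) (Steps.fwd (nat_lit 24576) (Steps.bwd (nat_lit 1) (Steps.bwd (nat_lit 2) (Steps.bwd (nat_lit 1) (Steps.fwd (nat_lit 16384) (Steps.bwd (nat_lit 1) (Steps.fwd (nat_lit 24576) (Steps.fwd (nat_lit 8192) (Steps.bwd (nat_lit 2) (Steps.bwd (nat_lit 1) (Steps.bwd (nat_lit 3) (Steps.fwd (nat_lit 8192) (Steps.fwd (nat_lit 24576) (Steps.fwd (nat_lit 8192) (Steps.fwd (nat_lit 24576) (Steps.fwd (nat_lit 8192) (Steps.bwd (nat_lit 3) (Steps.fwd (nat_lit 8192) (Steps.bwd (nat_lit 2) (Steps.bwd (nat_lit 1) (Steps.bwd (nat_lit 3) (Steps.fwd (nat_lit 8192) (Steps.bwd (nat_lit 3) (Steps.fwd (nat_lit 8192) (Steps.bwd (nat_lit 2) (Steps.fwd (nat_lit 8192)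 Steps.nil))))))))))))))))))))))))))))))))))) (nat_lit 12) (nat_lit 28),
  Rule.mk (nat_lit 2) (nat_lit 539) (Steps.bwd (nat_lit 1) (Steps.fwd (nat_lit 16384) (Steps.fwd (nat_lit 8192) (Steps.fwd (nat_lit 24576) (Steps.fwd (nat_lit 8192) (Steps.bwd (nat_lit 3) (Steps.bwd (nat_lit 1) (Steps.fwd (nat_lit 16384) (Steps.bwd (nat_lit 1) (Steps.fwd (nat_lit 24576) (Steps.bwd (nat_lit 1) (Steps.bwd (nat_lit 3) (Steps.bwd (nat_lit 1) (Steps.bwd (nat_lit 3) (Steps.bwd (nat_lit 1) (Steps.fwd (nat_lit 24576) (Steps.fwd (nat_lit 8192) (Steps.fwd (nat_lit 16384) (Steps.fwd (nat_lit 8192) (Steps.bwd (nat_lit 3) (Steps.fwd (nat_lit 8192) (Steps.bwd (nat_lit 2) (Steps.bwd (nat_lit 1) (Steps.fwd (nat_lit 24576) (Steps.fwd (nat_lit 8192) (Steps.bwd (nat_lit 3) (Steps.bwd (nat_lit 1) (Steps.bwd (nat_lit 2) (Steps.bwd (nat_lit 1) (Steps.bwd (nat_lit 2) (Steps.fwd (nat_lit 8192) (Steps.fwd (nat_lit 16384) (Steps.fwd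 (nat_lit 8192) (Steps.fwd (nat_lit 24576) (Steps.fwd (nat_lit 8192) Steps.nil))))))))))))))))))))))))))))))))))) (nat_lit 12) (nat_lit 16),
  Rule.mk (nat_lit 16) (nat_lit 179) (Steps.bwd (nat_lit 1) (Steps.bwd (nat_lit 3) (Steps.fwd (nat_lit 8192) (Steps.bwd (nat_lit 3) (Steps.bwd (nat_lit 1) (Steps.bwd (nat_lit 3) (Steps.bwd (nat_lit 1) (Steps.bwd (nat_lit 2) (Steps.fwd (nat_lit 32768) (Steps.fwd (nat_lit 8192) (Steps.fwd (nat_lit 24576) Steps.nil))))))))))) (nat_lit 190) (nat_lit 1),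
  Rule.mk (nat_lit 16) (nat_lit 179) (Steps.bwd (nat_lit 1) (Steps.bwd (nat_lit 3) (Steps.bwd (nat_lit 1) (Steps.fwd (nat_lit 16384) (Steps.fwd (nat_lit 8192) (Steps.fwd (nat_lit 16384) (Steps.fwd (nat_lit 8192) (Steps.fwd (nat_lit 24576) (Steps.fwd (nat_lit 32768) (Steps.fwd (nat_lit 8192) (Steps.bwd (nat_lit 2) Steps.nil))))))))))) (nat_lit 190) (nat_lit 1),
  Rule.mk (nat_lit 0) (nat_lit 194) (Steps.bwd (nat_lit 15) (Steps.fwd (nat_lit 16384) (Steps.bwd (nat_lit 1) (Steps.bwd (nat_lit 4) (Steps.fwd (nat_lit 16384) (Steps.fwd (nat_lit 8192) (Steps.fwd (nat_lit 24576) (Steps.fwd (nat_lit 8192) (Steps.bwd (nat_lit 2) (Steps.bwd (nat_lit 1) (Steps.bwd (nat_lit 2) (Steps.fwd (nat_lit 8192) Steps.nil)))))))))))) (nat_lit 191) (nat_lit 11),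
  Rule.mk (nat_lit 16) (nat_lit 179) (Steps.fwd (nat_lit 8192) (Steps.fwd (nat_lit 16384) (Steps.bwd (nat_lit 1) (Steps.bwd (nat_lit 3) (Steps.bwd (nat_lit 1) (Steps.fwd (nat_lit 16384) (Steps.fwd (nat_lit 8192) (Steps.fwd (nat_lit 24576) (Steps.fwd (nat_lit 32768) (Steps.bwd (nat_lit 1) (Steps.bwd (nat_lit 2) Steps.nil))))))))))) (nat_lit 190) (nat_lit 1),
  Rule.mk (nat_lit 0) (nat_lit 194) (Steps.fwd (nat_lit 16384) (Steps.bwd (nat_lit 1) (Steps.bwd (nat_lit 4) (Steps.bwd (nat_lit 3) (Steps.bwd (nat_lit 1) (Steps.bwd (nat_lit 2) (Steps.fwd (nat_lit 8192) (Steps.fwd (nat_lit 24576) (Steps.bwd (nat_lit 1) (Steps.fwd (nat_lit 24576) (Steps.fwd (nat_lit 8192) (Steps.fwd (nat_lit 131072) Steps.nil)))))))))))) (nat_lit 191) (nat_lit 0),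
  Rule.mk (nat_lit 15) (nat_lit 179) (Steps.fwd (nat_lit 16384) (Steps.fwd (nat_lit 8192) (Steps.bwd (nat_lit 4) (Steps.fwd (nat_lit 16384) (Steps.fwd (nat_lit 8192) (Steps.fwd (nat_lit 24576) (Steps.bwd (nat_lit 1) (Steps.fwd (nat_lit 24576) (Steps.fwd (nat_lit 8192) (Steps.bwd (nat_lit 2) (Steps.fwd (nat_lit 8192) Steps.nil))))))))))) (nat_lit 191) (nat_lit 0),
  Rule.mk (nat_lit 18) (nat_lit 179) (Steps.bwd (nat_lit 1) (Steps.bwd (nat_lit 3) (Steps.bwd (nat_lit 4) (Steps.bwd (nat_lit 1) (Steps.bwd (nat_lit 2) (Steps.fwd (nat_lit 8192) (Steps.fwd (nat_lit 24576) (Steps.bwd (nat_lit 1) (Steps.fwd (nat_lit 16384) (Steps.bwd (nat_lit 1) (Steps.fwd (nat_lit 16384) Steps.nil))))))))))) (nat_lit 192) (nat_lit 1),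
  Rule.mk (nat_lit 18) (nat_lit 179) (Steps.fwd (nat_lit 8192) (Steps.bwd (nat_lit 3) (Steps.fwd (nat_lit 32768) (Steps.fwd (nat_lit 8192) (Steps.fwd (nat_lit 24576) (Steps.bwd (nat_lit 1) (Steps.fwd (nat_lit 24576) (Steps.fwd (nat_lit 8192) (Steps.fwd (nat_lit 16384) (Steps.fwd (nat_lit 8192) (Steps.fwd (nat_lit 16384) Steps.nil))))))))))) (nat_lit 192) (nat_lit 1),
  Rule.mk (nat_lit 18) (nat_lit 179) (Steps.fwd (nat_lit 8192) (Steps.fwd (nat_lit 16384) (Steps.bwd (nat_lit 4) (Steps.fwd (nat_lit 8192) (Steps.bwd (nat_lit 2) (Steps.bwd (nat_lit 1) (Steps.fwd (nat_lit 24576) (Steps.bwd (nat_lit 1) (Steps.fwd (nat_lit 16384) (Steps.fwd (nat_lit 8192) (Steps.bwd (nat_lit 3) Steps.nil))))))))))) (nat_lit 192) (nat_lit 1),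
  Rule.mk (nat_lit 0) (nat_lit 194) (Steps.bwd (nat_lit 17) (Steps.bwd (nat_lit 2) (Steps.fwd (nat_lit 8192) (Steps.fwd (nat_lit 24576) (Steps.bwd (nat_lit 1) (Steps.fwd (nat_lit 16384) (Steps.bwd (nat_lit 1) (Steps.fwd (nat_lit 16384) (Steps.bwd (nat_lit 1) (Steps.fwd (nat_lit 32768) (Steps.bwd (nat_lit 2) (Steps.bwd (nat_lit 1) Steps.nil)))))))))))) (nat_lit 193) (nat_lit 11),
  Rule.mk (nat_lit 20) (nat_lit 179) (Steps.fwd (nat_lit 8192) (Steps.fwd (nat_lit 24576) (Steps.bwd (nat_lit 1) (Steps.bwd (nat_lit 2) (Steps.fwd (nat_lit 8192) (Steps.fwd (nat_lit 16384) (Steps.bwd (nat_lit 1) (Steps.bwd (nat_lit 3) (Steps.bwd (nat_lit 1) (Steps.bwd (nat_lit 4) (Steps.bwd (nat_lit 2) Steps.nil))))))))))) (nat_lit 194) (nat_lit 1),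
  Rule.mk (nat_lit 20) (nat_lit 179) (Steps.bwd (nat_lit 1) (Steps.bwd (nat_lit 2) (Steps.fwd (nat_lit 8192) (Steps.fwd (nat_lit 24576) (Steps.bwd (nat_lit 1) (Steps.fwd (nat_lit 16384) (Steps.bwd (nat_lit 1) (Steps.fwd (nat_lit 16384) (Steps.bwd (nat_lit 1) (Steps.fwd (nat_lit 32768) (Steps.bwd (nat_lit 2) Steps.nil))))))))))) (nat_lit 194) (nat_lit 1),
  Rule.mk (nat_lit 0) (nat_lit 194) (Steps.bwd (nat_lit 19) (Steps.bwd (nat_lit 3) (Steps.bwd (nat_lit 4) (Steps.bwd (nat_lit 1) (Steps.bwd (nat_lit 2) (Steps.bwd (nat_lit 1) (Steps.bwd (nat_lit 2) (Steps.bwd (nat_lit 1) (Steps.bwd (nat_lit 3) (Steps.fwd (nat_lit 8192) (Steps.bwd (nat_lit 3) (Steps.bwd (nat_lit 1) Steps.nil)))))))))))) (nat_lit 195) (nat_lit 11),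
  Rule.mk (nat_lit 0) (nat_lit 194) (Steps.bwd (nat_lit 20) (Steps.fwd (nat_lit 8192) (Steps.bwd (nat_lit 2) (Steps.fwd (nat_lit 8192) (Steps.bwd (nat_lit 2) (Steps.fwd (nat_lit 8192) (Steps.bwd (nat_lit 3) (Steps.bwd (nat_lit 1) (Steps.fwd (nat_lit 16384) (Steps.fwd (nat_lit 8192) (Steps.fwd (nat_lit 32768) (Steps.fwd (nat_lit 24576) Steps.nil)))))))))))) (nat_lit 194) (nat_lit 0),
  Rule.mk (nat_lit 0) (nat_lit 194) (Steps.bwd (nat_lit 3) (Steps.fwd (nat_lit 32768) (Steps.fwd (nat_lit 8192) (Steps.fwd (nat_lit 24576) (Steps.bwd (nat_lit 1) (Steps.fwd (nat_lit 24576) (Steps.fwd (nat_lit 8192) (Steps.fwd (nat_lit 16384) (Steps.fwd (nat_lit 8192) (Steps.fwd (nat_lit 16384) (Steps.fwd (nat_lit 8192) (Steps.fwd (nat_lit 163840) Steps.nil)))))))))))) (nat_lit 195) (nat_lit 0),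
  Rule.mk (nat_lit 16) (nat_lit 179) (Steps.bwd (nat_lit 1) (Steps.bwd (nat_lit 3) (Steps.fwd (nat_lit 8192) (Steps.fwd (nat_lit 16384) (Steps.bwd (nat_lit 1) (Steps.fwd (nat_lit 16384) (Steps.bwd (nat_lit 1) (Steps.fwd (nat_lit 24576) (Steps.bwd (nat_lit 4) (Steps.fwd (nat_lit 8192) (Steps.bwd (nat_lit 2) Steps.nil))))))))))) (nat_lit 190) (nat_lit 1),
  Rule.mk (nat_lit 16) (nat_lit 179) (Steps.bwd (nat_lit 1) (Steps.fwd (nat_lit 16384) (Steps.fwd (nat_lit 8192) (Steps.fwd (nat_lit 16384) (Steps.bwd (nat_lit 1) (Steps.fwd (nat_lit 16384) (Steps.fwd (nat_lit 8192) (Steps.bwd (nat_lit 2) (Steps.fwd (nat_lit 32768) (Steps.bwd (nat_lit 1) (Steps.bwd (nat_lit 2) Steps.nil))))))))))) (nat_lit 190) (nat_lit 1),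
  Rule.mk (nat_lit 20) (nat_lit 179) (Steps.bwd (nat_lit 1) (Steps.fwd (nat_lit 24576) (Steps.bwd (nat_lit 1) (Steps.bwd (nat_lit 2) (Steps.fwd (nat_lit 8192) (Steps.bwd (nat_lit 3) (Steps.fwd (nat_lit 8192) (Steps.fwd (nat_lit 16384) (Steps.bwd (nat_lit 1) (Steps.fwd (nat_lit 32768) (Steps.bwd (nat_lit 2) Steps.nil))))))))))) (nat_lit 194) (nat_lit 1),
  Rule.mk (nat_lit 18) (nat_lit 179) (Steps.bwd (nat_lit 1) (Steps.bwd (nat_lit 3) (Steps.bwd (nat_lit 4) (Steps.bwd (nat_lit 1) (Steps.bwd (nat_lit 2) (Steps.bwd (nat_lit 1) (Steps.bwd (nat_lit 2) (Steps.bwd (nat_lit 1) (Steps.bwd (nat_lit 3) (Steps.fwd (nat_lit 8192) (Steps.bwd (nat_lit 3) Steps.nil))))))))))) (nat_lit 192) (nat_lit 1),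
  Rule.mk (nat_lit 0) (nat_lit 194) (Steps.bwd (nat_lit 18) (Steps.fwd (nat_lit 8192) (Steps.bwd (nat_lit 3) (Steps.fwd (nat_lit 32768) (Steps.bwd (nat_lit 1) (Steps.bwd (nat_lit 2) (Steps.fwd (nat_lit 8192) (Steps.fwd (nat_lit 24576) (Steps.bwd (nat_lit 1) (Steps.bwd (nat_lit 3) (Steps.fwd (nat_lit 8192) (Steps.fwd (nat_lit 16384) Steps.nil)))))))))))) (nat_lit 192) (nat_lit 0),
  Rule.mk (nat_lit 19) (nat_lit 179) (Steps.bwd (nat_lit 3) (Steps.fwd (nat_lit 32768) (Steps.bwd (nat_lit 1) (Steps.bwd (nat_lit 2) (Steps.fwd (nat_lit 8192) (Steps.fwd (nat_lit 24576) (Steps.bwd (nat_lit 1) (Steps.bwd (nat_lit 3) (Steps.fwd (nat_lit 8192) (Steps.fwd (nat_lit 16384) (Steps.bwd (nat_lit 1) Steps.nil))))))))))) (nat_lit 195) (nat_lit 0),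
  Rule.mk (nat_lit 2) (nat_lit 104) (Steps.bwd (nat_lit 7) (Steps.fwd (nat_lit 16384) (Steps.bwd (nat_lit 5) (Steps.bwd (nat_lit 7) (Steps.fwd (nat_lit 106496) (Steps.bwd (nat_lit 14) Steps.nil)))))) (nat_lit 174) (nat_lit 1),
  Rule.mk (nat_lit 20) (nat_lit 179) (Steps.fwd (nat_lit 8192) (Steps.fwd (nat_lit 24576) (Steps.fwd (nat_lit 8192) (Steps.fwd (nat_lit 24576) (Steps.bwd (nat_lit 1) (Steps.fwd (nat_lit 16384) (Steps.bwd (nat_lit 1) (Steps.bwd (nat_lit 3) (Steps.bwd (nat_lit 1) (Steps.bwd (nat_lit 4) (Steps.bwd (nat_lit 2) Steps.nil))))))))))) (nat_lit 194) (nat_lit 1),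
  Rule.mk (nat_lit 17) (nat_lit 179) (Steps.bwd (nat_lit 2) (Steps.fwd (nat_lit 8192) (Steps.bwd (nat_lit 2) (Steps.fwd (nat_lit 8192) (Steps.bwd (nat_lit 3) (Steps.bwd (nat_lit 1) (Steps.bwd (nat_lit 3) (Steps.fwd (nat_lit 8192) (Steps.fwd (nat_lit 32768) (Steps.bwd (nat_lit 2) (Steps.fwd (nat_lit 8192) Steps.nil))))))))))) (nat_lit 193) (nat_lit 0),
  Rule.mk (nat_lit 2) (nat_lit 164) (Steps.bwd (nat_lit 11) (Steps.fwd (nat_lit 16384) (Steps.fwd (nat_lit 32768) (Steps.fwd (nat_lit 40960) (Steps.fwd (nat_lit 65536) (Steps.fwd (nat_lit 73728) (Steps.fwd (nat_lit 81920) (Steps.fwd (nat_lit 90112) (Steps.bwd (nat_lit 12) (Steps.bwd (nat_lit 14) Steps.nil)))))))))) (nat_lit 182) (nat_lit 1),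
  Rule.mk (nat_lit 16) (nat_lit 179) (Steps.fwd (nat_lit 8192) (Steps.bwd (nat_lit 3) (Steps.fwd (nat_lit 8192) (Steps.bwd (nat_lit 3) (Steps.fwd (nat_lit 8192) (Steps.bwd (nat_lit 3) (Steps.bwd (nat_lit 1) (Steps.bwd (nat_lit 2) (Steps.bwd (nat_lit 4) (Steps.bwd (nat_lit 1) (Steps.bwd (nat_lit 2) Steps.nil))))))))))) (nat_lit 190) (nat_lit 1),
  Rule.mk (nat_lit 16) (nat_lit 179) (Steps.fwd (nat_lit 8192) (Steps.bwd (nat_lit 3) (Steps.fwd (nat_lit 8192) (Steps.bwd (nat_lit 3) (Steps.bwd (nat_lit 1) (Steps.bwd (nat_lit 3) (Steps.bwd (nat_lit 1) (Steps.bwd (nat_lit 2) (Steps.fwd (nat_lit 32768) (Steps.bwd (nat_lit 1) (Steps.bwd (nat_lit 2) Steps.nil))))))))))) (nat_lit 190) (nat_lit 1),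
  Rule.mk (nat_lit 0) (nat_lit 194) (Steps.bwd (nat_lit 15) (Steps.fwd (nat_lit 16384) (Steps.fwd (nat_lit 8192) (Steps.bwd (nat_lit 4) (Steps.bwd (nat_lit 3) (Steps.bwd (nat_lit 1) (Steps.bwd (nat_lit 2) (Steps.bwd (nat_lit 1) (Steps.bwd (nat_lit 2) (Steps.fwd (nat_lit 8192) (Steps.bwd (nat_lit 2) (Steps.bwd (nat_lit 1) Steps.nil)))))))))))) (nat_lit 191) (nat_lit 11),
  Rule.mk (nat_lit 0) (nat_lit 194) (Steps.fwd (nat_lit 16384) (Steps.fwd (nat_lit 8192) (Steps.bwd (nat_lit 4) (Steps.bwd (nat_lit 3) (Steps.bwd (nat_lit 1) (Steps.bwd (nat_lit 2) (Steps.fwd (nat_lit 8192) (Steps.bwd (nat_lit 2) (Steps.bwd (nat_lit 1) (Steps.fwd (nat_lit 24576) (Steps.fwd (nat_lit 8192) (Steps.fwd (nat_lit 131072) Steps.nil)))))))))))) (nat_lit 191) (nat_lit 0),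
  Rule.mk (nat_lit 18) (nat_lit 179) (Steps.fwd (nat_lit 8192) (Steps.fwd (nat_lit 16384) (Steps.fwd (nat_lit 32768) (Steps.bwd (nat_lit 1) (Steps.bwd (nat_lit 2) (Steps.bwd (nat_lit 1) (Steps.bwd (nat_lit 2) (Steps.fwd (nat_lit 8192) (Steps.bwd (nat_lit 3) (Steps.bwd (nat_lit 1) (Steps.fwd (nat_lit 16384) Steps.nil))))))))))) (nat_lit 192) (nat_lit 1),
  Rule.mk (nat_lit 0) (nat_lit 194) (Steps.bwd (nat_lit 17) (Steps.fwd (nat_lit 24576) (Steps.bwd (nat_lit 1) (Steps.bwd (nat_lit 2) (Steps.fwd (nat_lit 8192) (Steps.fwd (nat_lit 16384) (Steps.bwd (nat_lit 1) (Steps.fwd (nat_lit 16384) (Steps.fwd (nat_lit 8192) (Steps.fwd (nat_lit 32768) (Steps.bwd (nat_lit 2) (Steps.bwd (nat_lit 1) Steps.nil)))))))))))) (nat_lit 193) (nat_lit 11),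
  Rule.mk (nat_lit 0) (nat_lit 194) (Steps.bwd (nat_lit 18) (Steps.fwd (nat_lit 8192) (Steps.bwd (nat_lit 3) (Steps.bwd (nat_lit 4) (Steps.fwd (nat_lit 8192) (Steps.bwd (nat_lit 2) (Steps.fwd (nat_lit 8192) (Steps.fwd (nat_lit 24576) (Steps.bwd (nat_lit 1) (Steps.fwd (nat_lit 16384) (Steps.fwd (nat_lit 8192) (Steps.fwd (nat_lit 16384) Steps.nil)))))))))))) (nat_lit 192) (nat_lit 0),
  Rule.mk (nat_lit 20) (nat_lit 179) (Steps.bwd (nat_lit 1) (Steps.bwd (nat_lit 2) (Steps.bwd (nat_lit 1) (Steps.bwd (nat_lit 2) (Steps.fwd (nat_lit 8192) (Steps.bwd (nat_lit 3) (Steps.bwd (nat_lit 1) (Steps.fwd (nat_lit 16384) (Steps.bwd (nat_lit 1) (Steps.fwd (nat_lit 32768) (Steps.fwd (nat_lit 24576) Steps.nil))))))))))) (nat_lit 194) (nat_lit 1),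
  Rule.mk (nat_lit 0) (nat_lit 194) (Steps.bwd (nat_lit 19) (Steps.fwd (nat_lit 16384) (Steps.bwd (nat_lit 4) (Steps.bwd (nat_lit 1) (Steps.fwd (nat_lit 24576) (Steps.bwd (nat_lit 1) (Steps.bwd (nat_lit 2) (Steps.fwd (nat_lit 8192) (Steps.fwd (nat_lit 16384) (Steps.bwd (nat_lit 1) (Steps.fwd (nat_lit 16384) (Steps.fwd (nat_lit 8192) Steps.nil)))))))))))) (nat_lit 195) (nat_lit 11),
  Rule.mk (nat_lit 0) (nat_lit 194) (Steps.bwd (nat_lit 19) (Steps.fwd (nat_lit 16384) (Steps.fwd (nat_lit 32768) (Steps.bwd (nat_lit 1) (Steps.bwd (nat_lit 2) (Steps.bwd (nat_lit 1) (Steps.bwd (nat_lit 2) (Steps.fwd (nat_lit 8192) (Steps.bwd (nat_lit 3) (Steps.bwd (nat_lit 1) (Steps.fwd (nat_lit 16384) (Steps.bwd (nat_lit 1) Steps.nil)))))))))))) (nat_lit 195) (nat_lit 11),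
  Rule.mk (nat_lit 0) (nat_lit 194) (Steps.bwd (nat_lit 15) (Steps.fwd (nat_lit 16384) (Steps.fwd (nat_lit 8192) (Steps.bwd (nat_lit 4) (Steps.bwd (nat_lit 3) (Steps.fwd (nat_lit 8192) (Steps.bwd (nat_lit 2) (Steps.fwd (nat_lit 8192) (Steps.fwd (nat_lit 24576) (Steps.bwd (nat_lit 1) (Steps.bwd (nat_lit 2) (Steps.bwd (nat_lit 1) Steps.nil)))))))))))) (nat_lit 191) (nat_lit 11)]
noncomputable def R_114 : List (Rule) := [Rule.mk (nat_lit 15) (nat_lit 179) (Steps.fwd (nat_lit 16384) (Steps.bwd (nat_lit 1) (Steps.bwd (nat_lit 4) (Steps.bwd (nat_lit 3) (Steps.fwd (nat_lit 8192) (Steps.fwd (nat_lit 24576) (Steps.bwd (nat_lit 1) (Steps.bwd (nat_lit 2) (Steps.bwd (nat_lit 1) (Steps.bwd (nat_lit 2) (Steps.fwd (nat_lit 8192) Steps.nil))))))))))) (nat_lit 191) (nat_lit 0),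
  Rule.mk (nat_lit 15) (nat_lit 179) (Steps.fwd (nat_lit 16384) (Steps.bwd (nat_lit 1) (Steps.fwd (nat_lit 32768) (Steps.fwd (nat_lit 16384) (Steps.bwd (nat_lit 1) (Steps.bwd (nat_lit 2) (Steps.bwd (nat_lit 1) (Steps.bwd (nat_lit 2) (Steps.fwd (nat_lit 8192) (Steps.fwd (nat_lit 24576) (Steps.fwd (nat_lit 8192) Steps.nil))))))))))) (nat_lit 191) (nat_lit 0),
  Rule.mk (nat_lit 18) (nat_lit 179) (Steps.bwd (nat_lit 1) (Steps.fwd (nat_lit 16384) (Steps.bwd (nat_lit 4) (Steps.fwd (nat_lit 8192) (Steps.fwd (nat_lit 24576) (Steps.bwd (nat_lit 1) (Steps.bwd (nat_lit 2) (Steps.bwd (nat_lit 1) (Steps.fwd (nat_lit 16384) (Steps.fwd (nat_lit 8192) (Steps.fwd (nat_lit 16384) Steps.nil))))))))))) (nat_lit 192) (nat_lit 1),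
  Rule.mk (nat_lit 17) (nat_lit 179) (Steps.fwd (nat_lit 24576) (Steps.bwd (nat_lit 1) (Steps.bwd (nat_lit 2) (Steps.bwd (nat_lit 1) (Steps.bwd (nat_lit 3) (Steps.bwd (nat_lit 1) (Steps.fwd (nat_lit 16384) (Steps.fwd (nat_lit 8192) (Steps.bwd (nat_lit 4) (Steps.bwd (nat_lit 2) (Steps.bwd (nat_lit 1) Steps.nil))))))))))) (nat_lit 193) (nat_lit 0),
  Rule.mk (nat_lit 20) (nat_lit 179) (Steps.fwd (nat_lit 8192) (Steps.fwd (nat_lit 24576) (Steps.bwd (nat_lit 1) (Steps.bwd (nat_lit 2) (Steps.bwd (nat_lit 1) (Steps.bwd (nat_lit 3) (Steps.bwd (nat_lit 1) (Steps.fwd (nat_lit 16384) (Steps.fwd (nat_lit 8192) (Steps.bwd (nat_lit 4) (Steps.bwd (nat_lit 2) Steps.nil))))))))))) (nat_lit 194) (nat_lit 1),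
  Rule.mk (nat_lit 20) (nat_lit 179) (Steps.fwd (nat_lit 8192) (Steps.fwd (nat_lit 24576) (Steps.bwd (nat_lit 1) (Steps.bwd (nat_lit 2) (Steps.bwd (nat_lit 1) (Steps.fwd (nat_lit 16384) (Steps.fwd (nat_lit 8192) (Steps.fwd (nat_lit 16384) (Steps.fwd (nat_lit 8192) (Steps.fwd (nat_lit 32768) (Steps.bwd (nat_lit 2) Steps.nil))))))))))) (nat_lit 194) (nat_lit 1),
  Rule.mk (nat_lit 20) (nat_lit 179) (Steps.bwd (nat_lit 1) (Steps.bwd (nat_lit 2) (Steps.bwd (nat_lit 1) (Steps.bwd (nat_lit 2) (Steps.fwd (nat_lit 8192) (Steps.fwd (nat_lit 16384) (Steps.fwd (nat_lit 8192) (Steps.bwd (nat_lit 3) (Steps.bwd (nat_lit 1) (Steps.fwd (nat_lit 32768) (Steps.bwd (nat_lit 2) Steps.nil))))))))))) (nat_lit 194) (nat_lit 1),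
  Rule.mk (nat_lit 10) (nat_lit 134) (Steps.bwd (nat_lit 1) (Steps.fwd (nat_lit 32768) (Steps.bwd (nat_lit 5) (Steps.bwd (nat_lit 8) (Steps.bwd (nat_lit 9) (Steps.bwd (nat_lit 11) (Steps.fwd (nat_lit 114688) (Steps.fwd (nat_lit 8192) Steps.nil)))))))) (nat_lit 158) (nat_lit 2),
  Rule.mk (nat_lit 7) (nat_lit 164) (Steps.bwd (nat_lit 1) (Steps.bwd (nat_lit 5) (Steps.fwd (nat_lit 49152) (Steps.bwd (nat_lit 9) (Steps.fwd (nat_lit 81920) (Steps.fwd (nat_lit 90112) (Steps.fwd (nat_lit 98304) (Steps.fwd (nat_lit 106496) (Steps.bwd (nat_lit 14) (Steps.fwd (nat_lit 8192) Steps.nil)))))))))) (nat_lit 152) (nat_lit 2),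
  Rule.mk (nat_lit 12) (nat_lit 164) (Steps.bwd (nat_lit 1) (Steps.fwd (nat_lit 32768) (Steps.bwd (nat_lit 5) (Steps.bwd (nat_lit 8) (Steps.bwd (nat_lit 9) (Steps.fwd (nat_lit 81920) (Steps.bwd (nat_lit 11) (Steps.fwd (nat_lit 98304) (Steps.fwd (nat_lit 114688) (Steps.fwd (nat_lit 8192) Steps.nil)))))))))) (nat_lit 162) (nat_lit 2),
  Rule.mk (nat_lit 0) (nat_lit 194) (Steps.bwd (nat_lit 18) (Steps.fwd (nat_lit 8192) (Steps.bwd (nat_lit 3) (Steps.bwd (nat_lit 4) (Steps.bwd (nat_lit 1) (Steps.bwd (nat_lit 2) (Steps.bwd (nat_lit 1) (Steps.bwd (nat_lit 2) (Steps.fwd (nat_lit 8192) (Steps.bwd (nat_lit 3) (Steps.bwd (nat_lit 1) (Steps.bwd (nat_lit 3) Steps.nil)))))))))))) (nat_lit 192) (nat_lit 0),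
  Rule.mk (nat_lit 20) (nat_lit 179) (Steps.bwd (nat_lit 1) (Steps.bwd (nat_lit 2) (Steps.bwd (nat_lit 1) (Steps.bwd (nat_lit 2) (Steps.fwd (nat_lit 8192) (Steps.bwd (nat_lit 3) (Steps.bwd (nat_lit 1) (Steps.bwd (nat_lit 3) (Steps.bwd (nat_lit 1) (Steps.fwd (nat_lit 32768) (Steps.fwd (nat_lit 24576) Steps.nil))))))))))) (nat_lit 194) (nat_lit 1),
  Rule.mk (nat_lit 19) (nat_lit 179) (Steps.bwd (nat_lit 3) (Steps.bwd (nat_lit 4) (Steps.bwd (nat_lit 1) (Steps.bwd (nat_lit 2) (Steps.bwd (nat_lit 1) (Steps.bwd (nat_lit 2) (Steps.fwd (nat_lit 8192) (Steps.bwd (nat_lit 3) (Steps.bwd (nat_lit 1) (Steps.bwd (nat_lit 3) (Steps.bwd (nat_lit 1) Steps.nil))))))))))) (nat_lit 195) (nat_lit 0),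
  Rule.mk (nat_lit 3) (nat_lit 539) (Steps.bwd (nat_lit 1) (Steps.bwd (nat_lit 2) (Steps.bwd (nat_lit 1) (Steps.fwd (nat_lit 16384) (Steps.bwd (nat_lit 1) (Steps.bwd (nat_lit 3) (Steps.bwd (nat_lit 1) (Steps.fwd (nat_lit 24576) (Steps.fwd (nat_lit 8192) (Steps.fwd (nat_lit 24576) (Steps.fwd (nat_lit 8192) (Steps.bwd (nat_lit 3) (Steps.fwd (nat_lit 8192) (Steps.fwd (nat_lit 24576) (Steps.bwd (nat_lit 1) (Steps.bwd (nat_lit 2) (Steps.fwd (nat_lit 8192) (Steps.fwd (nat_lit 16384) (Steps.bwd (nat_lit 1) (Steps.fwd (nat_lit 24576) (Steps.bwd (nat_lit 1) (Steps.fwd (nat_lit 24576) (Steps.fwd (nat_lit 8192) (Steps.bwd (nat_lit 3) (Steps.fwd (nat_lit 8192) (Steps.bwd (nat_lit 2) (Steps.fwd (nat_lit 8192) (Steps.fwd (nat_lit 16384) (Steps.bwd (nat_lit 1) (Steps.fwd (nat_lit 16384) (Steps.fwd (nat_lit 8192) (Steps.fwd (nat_lit 24576) (Steps.fwd (nat_lit 8192) (Steps.bwd (nat_lit 3) (Steps.fwd (nat_lit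 8192) Steps.nil))))))))))))))))))))))))))))))))))) (nat_lit 12) (nat_lit 30),
  Rule.mk (nat_lit 16) (nat_lit 179) (Steps.fwd (nat_lit 8192) (Steps.bwd (nat_lit 3) (Steps.bwd (nat_lit 1) (Steps.bwd (nat_lit 3) (Steps.fwd (nat_lit 8192) (Steps.bwd (nat_lit 3) (Steps.bwd (nat_lit 1) (Steps.fwd (nat_lit 24576) (Steps.bwd (nat_lit 4) (Steps.fwd (nat_lit 8192) (Steps.fwd (nat_lit 24576) Steps.nil))))))))))) (nat_lit 190) (nat_lit 1),
  Rule.mk (nat_lit 0) (nat_lit 194) (Steps.bwd (nat_lit 16) (Steps.bwd (nat_lit 1) (Steps.fwd (nat_lit 16384) (Steps.bwd (nat_lit 1) (Steps.fwd (nat_lit 16384) (Steps.fwd (nat_lit 8192) (Steps.fwd (nat_lit 16384) (Steps.fwd (nat_lit 8192) (Steps.fwd (nat_lit 24576) (Steps.bwd (nat_lit 4) (Steps.bwd (nat_lit 1) (Steps.bwd (nat_lit 2) Steps.nil)))))))))))) (nat_lit 190) (nat_lit 0),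
  Rule.mk (nat_lit 3) (nat_lit 179) (Steps.bwd (nat_lit 1) (Steps.fwd (nat_lit 32768) (Steps.bwd (nat_lit 3) (Steps.bwd (nat_lit 1) (Steps.fwd (nat_lit 24576) (Steps.fwd (nat_lit 8192) (Steps.fwd (nat_lit 24576) (Steps.fwd (nat_lit 8192) (Steps.fwd (nat_lit 24576) (Steps.bwd (nat_lit 1) (Steps.fwd (nat_lit 131072) Steps.nil))))))))))) (nat_lit 191) (nat_lit 1),
  Rule.mk (nat_lit 0) (nat_lit 194) (Steps.bwd (nat_lit 16) (Steps.fwd (nat_lit 8192) (Steps.bwd (nat_lit 3) (Steps.fwd (nat_lit 8192) (Steps.bwd (nat_lit 3) (Steps.bwd (nat_lit 1) (Steps.bwd (nat_lit 3) (Steps.bwd (nat_lit 1) (Steps.bwd (nat_lit 2) (Steps.fwd (nat_lit 32768) (Steps.bwd (nat_lit 1) (Steps.bwd (nat_lit 2) Steps.nil)))))))))))) (nat_lit 190) (nat_lit 0),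
  Rule.mk (nat_lit 15) (nat_lit 179) (Steps.bwd (nat_lit 3) (Steps.bwd (nat_lit 1) (Steps.fwd (nat_lit 32768) (Steps.fwd (nat_lit 16384) (Steps.fwd (nat_lit 8192) (Steps.fwd (nat_lit 24576) (Steps.bwd (nat_lit 1) (Steps.fwd (nat_lit 24576) (Steps.bwd (nat_lit 1) (Steps.bwd (nat_lit 2) (Steps.fwd (nat_lit 8192) Steps.nil))))))))))) (nat_lit 191) (nat_lit 0),
  Rule.mk (nat_lit 0) (nat_lit 194) (Steps.bwd (nat_lit 18) (Steps.fwd (nat_lit 8192) (Steps.bwd (nat_lit 3) (Steps.bwd (nat_lit 4) (Steps.fwd (nat_lit 8192) (Steps.fwd (nat_lit 24576) (Steps.fwd (nat_lit 8192) (Steps.fwd (nat_lit 24576) (Steps.bwd (nat_lit 1) (Steps.fwd (nat_lit 16384) (Steps.fwd (nat_lit 8192) (Steps.bwd (nat_lit 3) Steps.nil)))))))))))) (nat_lit 192) (nat_lit 0),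
  Rule.mk (nat_lit 0) (nat_lit 194) (Steps.bwd (nat_lit 18) (Steps.bwd (nat_lit 1) (Steps.bwd (nat_lit 3) (Steps.bwd (nat_lit 4) (Steps.fwd (nat_lit 8192) (Steps.fwd (nat_lit 24576) (Steps.bwd (nat_lit 1) (Steps.fwd (nat_lit 24576) (Steps.bwd (nat_lit 1) (Steps.bwd (nat_lit 3) (Steps.bwd (nat_lit 1) (Steps.fwd (nat_lit 16384) Steps.nil)))))))))))) (nat_lit 192) (nat_lit 0),
  Rule.mk (nat_lit 0) (nat_lit 194) (Steps.bwd (nat_lit 17) (Steps.fwd (nat_lit 24576) (Steps.fwd (nat_lit 8192) (Steps.fwd (nat_lit 24576) (Steps.bwd (nat_lit 1) (Steps.fwd (nat_lit 16384) (Steps.fwd (nat_lit 8192) (Steps.bwd (nat_lit 3) (Steps.bwd (nat_lit 1) (Steps.fwd (nat_lit 32768) (Steps.bwd (nat_lit 2) (Steps.fwd (nat_lit 8192) Steps.nil)))))))))))) (nat_lit 193) (nat_lit 11),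
  Rule.mk (nat_lit 0) (nat_lit 194) (Steps.bwd (nat_lit 20) (Steps.fwd (nat_lit 8192) (Steps.fwd (nat_lit 24576) (Steps.fwd (nat_lit 8192) (Steps.fwd (nat_lit 24576) (Steps.bwd (nat_lit 1) (Steps.fwd (nat_lit 16384) (Steps.fwd (nat_lit 8192) (Steps.bwd (nat_lit 3) (Steps.bwd (nat_lit 1) (Steps.fwd (nat_lit 32768) (Steps.bwd (nat_lit 2) Steps.nil)))))))))))) (nat_lit 194) (nat_lit 0),
  Rule.mk (nat_lit 0) (nat_lit 194) (Steps.bwd (nat_lit 19) (Steps.bwd (nat_lit 3) (Steps.bwd (nat_lit 4) (Steps.fwd (nat_lit 8192) (Steps.fwd (nat_lit 24576) (Steps.fwd (nat_lit 8192) (Steps.fwd (nat_lit 24576) (Steps.bwd (nat_lit 1) (Steps.fwd (nat_lit 16384) (Steps.fwd (nat_lit 8192) (Steps.bwd (nat_lit 3) (Steps.bwd (nat_lit 1) Steps.nil)))))))))))) (nat_lit 195) (nat_lit 11),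
  Rule.mk (nat_lit 19) (nat_lit 179) (Steps.bwd (nat_lit 3) (Steps.bwd (nat_lit 4) (Steps.fwd (nat_lit 8192) (Steps.fwd (nat_lit 24576) (Steps.bwd (nat_lit 1) (Steps.fwd (nat_lit 24576) (Steps.bwd (nat_lit 1) (Steps.bwd (nat_lit 3) (Steps.bwd (nat_lit 1) (Steps.fwd (nat_lit 16384) (Steps.bwd (nat_lit 1) Steps.nil))))))))))) (nat_lit 195) (nat_lit 0),
  Rule.mk (nat_lit 10) (nat_lit 104) (Steps.bwd (nat_lit 3) (Steps.bwd (nat_lit 6) (Steps.fwd (nat_lit 90112) (Steps.fwd (nat_lit 98304) (Steps.bwd (nat_lit 14) (Steps.fwd (nat_lit 24576) Steps.nil)))))) (nat_lit 180) (nat_lit 2),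
  Rule.mk (nat_lit 14) (nat_lit 119) (Steps.bwd (nat_lit 3) (Steps.bwd (nat_lit 5) (Steps.fwd (nat_lit 49152) (Steps.fwd (nat_lit 57344) (Steps.fwd (nat_lit 98304) (Steps.bwd (nat_lit 14) (Steps.fwd (nat_lit 24576) Steps.nil))))))) (nat_lit 188) (nat_lit 2),
  Rule.mk (nat_lit 9) (nat_lit 134) (Steps.bwd (nat_lit 3) (Steps.bwd (nat_lit 4) (Steps.fwd (nat_lit 40960) (Steps.fwd (nat_lit 65536) (Steps.fwd (nat_lit 73728) (Steps.bwd (nat_lit 11) (Steps.fwd (nat_lit 114688) (Steps.bwd (nat_lit 2) Steps.nil)))))))) (nat_lit 178) (nat_lit 2),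
  Rule.mk (nat_lit 5) (nat_lit 149) (Steps.bwd (nat_lit 3) (Steps.bwd (nat_lit 4) (Steps.fwd (nat_lit 40960) (Steps.fwd (nat_lit 65536) (Steps.fwd (nat_lit 73728) (Steps.bwd (nat_lit 12) (Steps.bwd (nat_lit 13) (Steps.fwd (nat_lit 114688) (Steps.bwd (nat_lit 2) Steps.nil))))))))) (nat_lit 170) (nat_lit 2),
  Rule.mk (nat_lit 6) (nat_lit 164) (Steps.bwd (nat_lit 3) (Steps.bwd (nat_lit 5) (Steps.fwd (nat_lit 49152) (Steps.fwd (nat_lit 73728) (Steps.fwd (nat_lit 81920) (Steps.fwd (nat_lit 90112) (Steps.fwd (nat_lit 98304) (Steps.fwd (nat_lit 106496) (Steps.fwd (nat_lit 114688) (Steps.fwd (nat_lit 24576) Steps.nil)))))))))) (nat_lit 172) (nat_lit 2),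
  Rule.mk (nat_lit 11) (nat_lit 164) (Steps.bwd (nat_lit 3) (Steps.bwd (nat_lit 4) (Steps.fwd (nat_lit 40960) (Steps.fwd (nat_lit 65536) (Steps.fwd (nat_lit 73728) (Steps.bwd (nat_lit 10) (Steps.fwd (nat_lit 90112) (Steps.bwd (nat_lit 12) (Steps.fwd (nat_lit 114688) (Steps.bwd (nat_lit 2) Steps.nil)))))))))) (nat_lit 182) (nat_lit 2),
  Rule.mk (nat_lit 1) (nat_lit 179) (Steps.bwd (nat_lit 3) (Steps.bwd (nat_lit 1) (Steps.bwd (nat_lit 3) (Steps.fwd (nat_lit 8192) (Steps.fwd (nat_lit 16384) (Steps.bwd (nat_lit 1) (Steps.fwd (nat_lit 24576) (Steps.fwd (nat_lit 32768) (Steps.bwd (nat_lit 1) (Steps.fwd (nat_lit 24576) (Steps.fwd (nat_lit 122880) Steps.nil))))))))))) (nat_lit 190) (nat_lit 2),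
  Rule.mk (nat_lit 15) (nat_lit 179) (Steps.fwd (nat_lit 16384) (Steps.fwd (nat_lit 8192) (Steps.bwd (nat_lit 4) (Steps.bwd (nat_lit 3) (Steps.bwd (nat_lit 1) (Steps.fwd (nat_lit 24576) (Steps.bwd (nat_lit 1) (Steps.bwd (nat_lit 2) (Steps.fwd (nat_lit 8192) (Steps.bwd (nat_lit 2) (Steps.fwd (nat_lit 8192) Steps.nil))))))))))) (nat_lit 191) (nat_lit 0),
  Rule.mk (nat_lit 0) (nat_lit 194) (Steps.bwd (nat_lit 1) (Steps.bwd (nat_lit 3) (Steps.bwd (nat_lit 4) (Steps.fwd (nat_lit 8192) (Steps.bwd (nat_lit 2) (Steps.bwd (nat_lit 1) (Steps.bwd (nat_lit 2) (Steps.bwd (nat_lit 1) (Steps.fwd (nat_lit 16384) (Steps.bwd (nat_lit 1) (Steps.fwd (nat_lit 16384) (Steps.fwd (nat_lit 139264) Steps.nil)))))))))))) (nat_lit 192) (nat_lit 1),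
  Rule.mk (nat_lit 19) (nat_lit 179) (Steps.bwd (nat_lit 3) (Steps.bwd (nat_lit 4) (Steps.fwd (nat_lit 8192) (Steps.bwd (nat_lit 2) (Steps.bwd (nat_lit 1) (Steps.bwd (nat_lit 2) (Steps.bwd (nat_lit 1) (Steps.fwd (nat_lit 16384) (Steps.bwd (nat_lit 1) (Steps.fwd (nat_lit 16384) (Steps.fwd (nat_lit 8192) Steps.nil))))))))))) (nat_lit 195) (nat_lit 0),
  Rule.mk (nat_lit 0) (nat_lit 854) (Steps.fwd (nat_lit 8192) (Steps.bwd (nat_lit 3) (Steps.bwd (nat_lit 1) (Steps.fwd (nat_lit 24576) (Steps.bwd (nat_lit 1) (Steps.fwd (nat_lit 16384) (Steps.fwd (nat_lit 8192) (Steps.bwd (nat_lit 2) (Steps.fwd (nat_lit 8192) (Steps.fwd (nat_lit 16384) (Steps.bwd (nat_lit 1) (Steps.fwd (nat_lit 24576) (Steps.fwd (nat_lit 8192) (Steps.bwd (nat_lit 3) (Steps.bwd (nat_lit 1) (Steps.fwd (nat_lit 16384) (Steps.bwd (nat_lit 1) (Steps.fwd (nat_lit 24576) (Steps.fwd (nat_lit 8192) (Steps.bwd (nat_lit 3) (Steps.bwd (nat_lit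 1) (Steps.bwd (nat_lit 2) (Steps.bwd (nat_lit 1) (Steps.fwd (nat_lit 16384) (Steps.fwd (nat_lit 8192) (Steps.bwd (nat_lit 2) (Steps.fwd (nat_lit 8192) (Steps.bwd (nat_lit 3) (Steps.bwd (nat_lit 1) (Steps.fwd (nat_lit 16384) (Steps.bwd (nat_lit 1) (Steps.bwd (nat_lit 2) (Steps.fwd (nat_lit 8192) (Steps.fwd (nat_lit 16384) (Steps.fwd (nat_lit 8192) (Steps.bwd (nat_lit 2) (Steps.fwd (nat_lit 8192) (Steps.fwd (nat_lit 16384) (Steps.bwd (nat_lit 1) (Steps.bwd (nat_lit 2) (Steps.fwd (nat_lit 8192) (Steps.fwd (nat_lit 16384) (Steps.bwd (nat_lit 1) (Steps.fwd (nat_lit 16384) (Steps.bwd (nat_lit 1) (Steps.bwd (nat_lit 2) (Steps.fwd (nat_lit 8192) (Steps.fwd (nat_lit 16384) (Steps.fwd (nat_lit 8192) (Steps.fwd (nat_lit 24576) (Steps.bwd (nat_lit 1) (Steps.bwd (nat_lit 3) (Steps.fwd (nat_lit 8192) (Steps.bwd (nat_lit 2) (Steps.fwd (nat_lit 8192) (Steps.bwd (nat_lit 3) Steps.nil))))))))))))))))))))))))))))))))))))))))))))))))))))))))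 (nat_lit 11) (nat_lit 11),
  Rule.mk (nat_lit 16) (nat_lit 179) (Steps.fwd (nat_lit 8192) (Steps.fwd (nat_lit 16384) (Steps.fwd (nat_lit 8192) (Steps.fwd (nat_lit 16384) (Steps.fwd (nat_lit 8192) (Steps.fwd (nat_lit 16384) (Steps.bwd (nat_lit 1) (Steps.bwd (nat_lit 2) (Steps.bwd (nat_lit 4) (Steps.fwd (nat_lit 8192) (Steps.fwd (nat_lit 24576) Steps.nil))))))))))) (nat_lit 190) (nat_lit 1),
  Rule.mk (nat_lit 16) (nat_lit 179) (Steps.bwd (nat_lit 1) (Steps.bwd (nat_lit 3) (Steps.fwd (nat_lit 8192) (Steps.bwd (nat_lit 3) (Steps.fwd (nat_lit 8192) (Steps.bwd (nat_lit 3) (Steps.fwd (nat_lit 8192) (Steps.fwd (nat_lit 24576) (Steps.bwd (nat_lit 4) (Steps.bwd (nat_lit 1) (Steps.bwd (nat_lit 2) Steps.nil))))))))))) (nat_lit 190) (nat_lit 1),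
  Rule.mk (nat_lit 0) (nat_lit 194) (Steps.bwd (nat_lit 16) (Steps.fwd (nat_lit 8192) (Steps.bwd (nat_lit 3) (Steps.fwd (nat_lit 8192) (Steps.bwd (nat_lit 3) (Steps.fwd (nat_lit 8192) (Steps.bwd (nat_lit 3) (Steps.bwd (nat_lit 1) (Steps.fwd (nat_lit 24576) (Steps.bwd (nat_lit 4) (Steps.bwd (nat_lit 1) (Steps.bwd (nat_lit 2) Steps.nil)))))))))))) (nat_lit 190) (nat_lit 0),
  Rule.mk (nat_lit 0) (nat_lit 194) (Steps.bwd (nat_lit 16) (Steps.fwd (nat_lit 8192) (Steps.bwd (nat_lit 3) (Steps.fwd (nat_lit 8192) (Steps.bwd (nat_lit 3) (Steps.bwd (nat_lit 1) (Steps.bwd (nat_lit 3) (Steps.fwd (nat_lit 8192) (Steps.bwd (nat_lit 2) (Steps.fwd (nat_lit 32768) (Steps.bwd (nat_lit 1) (Steps.bwd (nat_lit 2) Steps.nil)))))))))))) (nat_lit 190) (nat_lit 0),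
  Rule.mk (nat_lit 18) (nat_lit 179) (Steps.fwd (nat_lit 8192) (Steps.fwd (nat_lit 16384) (Steps.fwd (nat_lit 32768) (Steps.fwd (nat_lit 8192) (Steps.bwd (nat_lit 2) (Steps.fwd (nat_lit 8192) (Steps.bwd (nat_lit 2) (Steps.fwd (nat_lit 8192) (Steps.bwd (nat_lit 3) (Steps.fwd (nat_lit 8192) (Steps.bwd (nat_lit 3) Steps.nil))))))))))) (nat_lit 192) (nat_lit 1),
  Rule.mk (nat_lit 0) (nat_lit 194) (Steps.bwd (nat_lit 18) (Steps.fwd (nat_lit 8192) (Steps.bwd (nat_lit 3) (Steps.bwd (nat_lit 4) (Steps.bwd (nat_lit 1) (Steps.fwd (nat_lit 24576) (Steps.fwd (nat_lit 8192) (Steps.fwd (nat_lit 24576) (Steps.fwd (nat_lit 8192) (Steps.bwd (nat_lit 3) (Steps.bwd (nat_lit 1) (Steps.bwd (nat_lit 3) Steps.nil)))))))))))) (nat_lit 192) (nat_lit 0),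
  Rule.mk (nat_lit 18) (nat_lit 179) (Steps.fwd (nat_lit 8192) (Steps.bwd (nat_lit 3) (Steps.bwd (nat_lit 4) (Steps.fwd (nat_lit 8192) (Steps.fwd (nat_lit 24576) (Steps.fwd (nat_lit 8192) (Steps.fwd (nat_lit 24576) (Steps.bwd (nat_lit 1) (Steps.fwd (nat_lit 16384) (Steps.bwd (nat_lit 1) (Steps.fwd (nat_lit 16384) Steps.nil))))))))))) (nat_lit 192) (nat_lit 1),
  Rule.mk (nat_lit 0) (nat_lit 194) (Steps.bwd (nat_lit 2) (Steps.fwd (nat_lit 8192) (Steps.bwd (nat_lit 2) (Steps.fwd (nat_lit 8192) (Steps.bwd (nat_lit 3) (Steps.fwd (nat_lit 8192) (Steps.bwd (nat_lit 3) (Steps.fwd (nat_lit 8192) (Steps.fwd (nat_lit 32768) (Steps.bwd (nat_lit 2) (Steps.bwd (nat_lit 1) (Steps.fwd (nat_lit 147456) Steps.nil)))))))))))) (nat_lit 193) (nat_lit 0),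
  Rule.mk (nat_lit 20) (nat_lit 179) (Steps.bwd (nat_lit 1) (Steps.fwd (nat_lit 24576) (Steps.fwd (nat_lit 8192) (Steps.bwd (nat_lit 2) (Steps.fwd (nat_lit 8192) (Steps.bwd (nat_lit 3) (Steps.fwd (nat_lit 8192) (Steps.bwd (nat_lit 3) (Steps.fwd (nat_lit 8192) (Steps.fwd (nat_lit 32768) (Steps.bwd (nat_lit 2) Steps.nil))))))))))) (nat_lit 194) (nat_lit 1),
  Rule.mk (nat_lit 20) (nat_lit 179) (Steps.fwd (nat_lit 8192) (Steps.bwd (nat_lit 2) (Steps.fwd (nat_lit 8192) (Steps.bwd (nat_lit 2) (Steps.fwd (nat_lit 8192) (Steps.bwd (nat_lit 3) (Steps.fwd (nat_lit 8192) (Steps.bwd (nat_lit 3) (Steps.bwd (nat_lit 1) (Steps.fwd (nat_lit 32768) (Steps.fwd (nat_lit 24576) Steps.nil))))))))))) (nat_lit 194) (nat_lit 1),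
  Rule.mk (nat_lit 20) (nat_lit 179) (Steps.fwd (nat_lit 8192) (Steps.fwd (nat_lit 24576) (Steps.bwd (nat_lit 1) (Steps.fwd (nat_lit 24576) (Steps.bwd (nat_lit 1) (Steps.fwd (nat_lit 16384) (Steps.bwd (nat_lit 1) (Steps.bwd (nat_lit 3) (Steps.fwd (nat_lit 8192) (Steps.bwd (nat_lit 4) (Steps.bwd (nat_lit 2) Steps.nil))))))))))) (nat_lit 194) (nat_lit 1),
  Rule.mk (nat_lit 17) (nat_lit 179) (Steps.fwd (nat_lit 24576) (Steps.bwd (nat_lit 1) (Steps.fwd (nat_lit 24576) (Steps.bwd (nat_lit 1) (Steps.fwd (nat_lit 16384) (Steps.bwd (nat_lit 1) (Steps.bwd (nat_lit 3) (Steps.fwd (nat_lit 8192) (Steps.bwd (nat_lit 4) (Steps.bwd (nat_lit 2) (Steps.fwd (nat_lit 8192) Steps.nil))))))))))) (nat_lit 193) (nat_lit 0),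
  Rule.mk (nat_lit 18) (nat_lit 179) (Steps.bwd (nat_lit 1) (Steps.bwd (nat_lit 3) (Steps.fwd (nat_lit 32768) (Steps.fwd (nat_lit 8192) (Steps.fwd (nat_lit 24576) (Steps.fwd (nat_lit 8192) (Steps.bwd (nat_lit 2) (Steps.fwd (nat_lit 8192) (Steps.fwd (nat_lit 16384) (Steps.fwd (nat_lit 8192) (Steps.bwd (nat_lit 3) Steps.nil))))))))))) (nat_lit 192) (nat_lit 1),
  Rule.mk (nat_lit 19) (nat_lit 179) (Steps.bwd (nat_lit 3) (Steps.fwd (nat_lit 32768) (Steps.fwd (nat_lit 8192) (Steps.bwd (nat_lit 2) (Steps.fwd (nat_lit 8192) (Steps.bwd (nat_lit 2) (Steps.bwd (nat_lit 1) (Steps.bwd (nat_lit 3) (Steps.fwd (nat_lit 8192) (Steps.bwd (nat_lit 3) (Steps.fwd (nat_lit 8192) Steps.nil))))))))))) (nat_lit 195) (nat_lit 0),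
  Rule.mk (nat_lit 0) (nat_lit 194) (Steps.bwd (nat_lit 17) (Steps.bwd (nat_lit 2) (Steps.fwd (nat_lit 8192) (Steps.fwd (nat_lit 24576) (Steps.fwd (nat_lit 8192) (Steps.bwd (nat_lit 3) (Steps.bwd (nat_lit 1) (Steps.fwd (nat_lit 16384) (Steps.fwd (nat_lit 8192) (Steps.bwd (nat_lit 4) (Steps.fwd (nat_lit 24576) (Steps.bwd (nat_lit 1) Steps.nil)))))))))))) (nat_lit 193) (nat_lit 11),
  Rule.mk (nat_lit 0) (nat_lit 194) (Steps.bwd (nat_lit 20) (Steps.fwd (nat_lit 8192) (Steps.bwd (nat_lit 2) (Steps.fwd (nat_lit 8192) (Steps.fwd (nat_lit 24576) (Steps.fwd (nat_lit 8192) (Steps.bwd (nat_lit 3) (Steps.bwd (nat_lit 1) (Steps.fwd (nat_lit 16384) (Steps.fwd (nat_lit 8192) (Steps.bwd (nat_lit 4) (Steps.fwd (nat_lit 24576) Steps.nil)))))))))))) (nat_lit 194) (nat_lit 0),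
  Rule.mk (nat_lit 0) (nat_lit 194) (Steps.bwd (nat_lit 18) (Steps.fwd (nat_lit 8192) (Steps.bwd (nat_lit 3) (Steps.fwd (nat_lit 32768) (Steps.bwd (nat_lit 1) (Steps.fwd (nat_lit 24576) (Steps.fwd (nat_lit 8192) (Steps.bwd (nat_lit 2) (Steps.bwd (nat_lit 1) (Steps.bwd (nat_lit 3) (Steps.fwd (nat_lit 8192) (Steps.bwd (nat_lit 3) Steps.nil)))))))))))) (nat_lit 192) (nat_lit 0),
  Rule.mk (nat_lit 19) (nat_lit 179) (Steps.bwd (nat_lit 3) (Steps.fwd (nat_lit 32768) (Steps.bwd (nat_lit 1) (Steps.fwd (nat_lit 24576) (Steps.fwd (nat_lit 8192) (Steps.bwd (nat_lit 2) (Steps.bwd (nat_lit 1) (Steps.bwd (nat_lit 3) (Steps.fwd (nat_lit 8192) (Steps.bwd (nat_lit 3) (Steps.bwd (nat_lit 1) Steps.nil))))))))))) (nat_lit 195) (nat_lit 0),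
  Rule.mk (nat_lit 15) (nat_lit 179) (Steps.fwd (nat_lit 16384) (Steps.bwd (nat_lit 1) (Steps.fwd (nat_lit 32768) (Steps.fwd (nat_lit 16384) (Steps.bwd (nat_lit 1) (Steps.fwd (nat_lit 24576) (Steps.fwd (nat_lit 8192) (Steps.bwd (nat_lit 2) (Steps.fwd (nat_lit 8192) (Steps.fwd (nat_lit 24576) (Steps.bwd (nat_lit 1) Steps.nil))))))))))) (nat_lit 191) (nat_lit 0),
  Rule.mk (nat_lit 17) (nat_lit 179) (Steps.bwd (nat_lit 2) (Steps.fwd (nat_lit 8192) (Steps.fwd (nat_lit 24576) (Steps.bwd (nat_lit 1) (Steps.bwd (nat_lit 3) (Steps.fwd (nat_lit 8192) (Steps.fwd (nat_lit 16384) (Steps.bwd (nat_lit 1) (Steps.fwd (nat_lit 32768) (Steps.fwd (nat_lit 24576) (Steps.fwd (nat_lit 8192) Steps.nil))))))))))) (nat_lit 193) (nat_lit 0),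
  Rule.mk (nat_lit 0) (nat_lit 194) (Steps.bwd (nat_lit 20) (Steps.fwd (nat_lit 8192) (Steps.bwd (nat_lit 2) (Steps.fwd (nat_lit 8192) (Steps.fwd (nat_lit 24576) (Steps.bwd (nat_lit 1) (Steps.bwd (nat_lit 3) (Steps.fwd (nat_lit 8192) (Steps.fwd (nat_lit 16384) (Steps.bwd (nat_lit 1) (Steps.fwd (nat_lit 32768) (Steps.fwd (nat_lit 24576) Steps.nil)))))))))))) (nat_lit 194) (nat_lit 0),
  Rule.mk (nat_lit 19) (nat_lit 179) (Steps.bwd (nat_lit 3) (Steps.fwd (nat_lit 32768) (Steps.fwd (nat_lit 8192) (Steps.bwd (nat_lit 2) (Steps.fwd (nat_lit 8192) (Steps.fwd (nat_lit 24576) (Steps.bwd (nat_lit 1) (Steps.bwd (nat_lit 3) (Steps.fwd (nat_lit 8192) (Steps.fwd (nat_lit 16384) (Steps.bwd (nat_lit 1) Steps.nil))))))))))) (nat_lit 195) (nat_lit 0),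
  Rule.mk (nat_lit 2) (nat_lit 164) (Steps.bwd (nat_lit 11) (Steps.fwd (nat_lit 16384) (Steps.fwd (nat_lit 32768) (Steps.fwd (nat_lit 40960) (Steps.bwd (nat_lit 8) (Steps.fwd (nat_lit 73728) (Steps.fwd (nat_lit 81920) (Steps.bwd (nat_lit 11) (Steps.bwd (nat_lit 12) (Steps.bwd (nat_lit 14) Steps.nil)))))))))) (nat_lit 182) (nat_lit 1),
  Rule.mk (nat_lit 0) (nat_lit 194) (Steps.bwd (nat_lit 18) (Steps.bwd (nat_lit 1) (Steps.fwd (nat_lit 16384) (Steps.bwd (nat_lit 4) (Steps.bwd (nat_lit 1) (Steps.bwd (nat_lit 2) (Steps.bwd (nat_lit 1) (Steps.bwd (nat_lit 2) (Steps.fwd (nat_lit 8192) (Steps.fwd (nat_lit 16384) (Steps.fwd (nat_lit 8192) (Steps.bwd (nat_lit 3) Steps.nil)))))))))))) (nat_lit 192) (nat_lit 0),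
  Rule.mk (nat_lit 17) (nat_lit 179) (Steps.bwd (nat_lit 2) (Steps.bwd (nat_lit 1) (Steps.bwd (nat_lit 2) (Steps.fwd (nat_lit 8192) (Steps.fwd (nat_lit 16384) (Steps.fwd (nat_lit 8192) (Steps.bwd (nat_lit 3) (Steps.fwd (nat_lit 8192) (Steps.fwd (nat_lit 32768) (Steps.bwd (nat_lit 2) (Steps.fwd (nat_lit 8192) Steps.nil))))))))))) (nat_lit 193) (nat_lit 0),
  Rule.mk (nat_lit 20) (nat_lit 179) (Steps.bwd (nat_lit 1) (Steps.bwd (nat_lit 2) (Steps.bwd (nat_lit 1) (Steps.bwd (nat_lit 2) (Steps.fwd (nat_lit 8192) (Steps.fwd (nat_lit 16384) (Steps.fwd (nat_lit 8192) (Steps.bwd (nat_lit 3) (Steps.fwd (nat_lit 8192) (Steps.fwd (nat_lit 32768) (Steps.bwd (nat_lit 2) Steps.nil))))))))))) (nat_lit 194) (nat_lit 1),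
  Rule.mk (nat_lit 15) (nat_lit 179) (Steps.bwd (nat_lit 3) (Steps.bwd (nat_lit 1) (Steps.bwd (nat_lit 4) (Steps.fwd (nat_lit 16384) (Steps.fwd (nat_lit 8192) (Steps.bwd (nat_lit 2) (Steps.bwd (nat_lit 1) (Steps.fwd (nat_lit 24576) (Steps.bwd (nat_lit 1) (Steps.bwd (nat_lit 2) (Steps.bwd (nat_lit 1) Steps.nil))))))))))) (nat_lit 191) (nat_lit 0),
  Rule.mk (nat_lit 1) (nat_lit 179) (Steps.bwd (nat_lit 19) (Steps.fwd (nat_lit 16384) (Steps.fwd (nat_lit 32768) (Steps.bwd (nat_lit 1) (Steps.fwd (nat_lit 24576) (Steps.fwd (nat_lit 8192) (Steps.bwd (nat_lit 2) (Steps.fwd (nat_lit 8192) (Steps.fwd (nat_lit 16384) (Steps.fwd (nat_lit 8192) (Steps.bwd (nat_lit 3) Steps.nil))))))))))) (nat_lit 195) (nat_lit 11)]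
noncomputable def R_115 : List (Rule) := [Rule.mk (nat_lit 14) (nat_lit 104) (Steps.fwd (nat_lit 106496) (Steps.fwd (nat_lit 57344) (Steps.bwd (nat_lit 5) (Steps.fwd (nat_lit 8192) (Steps.bwd (nat_lit 8) (Steps.bwd (nat_lit 1) Steps.nil)))))) (nat_lit 155) (nat_lit 1),
  Rule.mk (nat_lit 10) (nat_lit 134) (Steps.bwd (nat_lit 1) (Steps.fwd (nat_lit 32768) (Steps.fwd (nat_lit 40960) (Steps.fwd (nat_lit 65536) (Steps.bwd (nat_lit 9) (Steps.fwd (nat_lit 90112) (Steps.fwd (nat_lit 114688) (Steps.bwd (nat_lit 1) Steps.nil)))))))) (nat_lit 158) (nat_lit 2),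
  Rule.mk (nat_lit 7) (nat_lit 164) (Steps.bwd (nat_lit 1) (Steps.bwd (nat_lit 5) (Steps.bwd (nat_lit 6) (Steps.fwd (nat_lit 73728) (Steps.bwd (nat_lit 10) (Steps.fwd (nat_lit 90112) (Steps.bwd (nat_lit 12) (Steps.bwd (nat_lit 13) (Steps.fwd (nat_lit 114688) (Steps.bwd (nat_lit 1) Steps.nil)))))))))) (nat_lit 152) (nat_lit 2),
  Rule.mk (nat_lit 12) (nat_lit 164) (Steps.bwd (nat_lit 1) (Steps.bwd (nat_lit 4) (Steps.fwd (nat_lit 40960) (Steps.fwd (nat_lit 65536) (Steps.bwd (nat_lit 9) (Steps.bwd (nat_lit 10) (Steps.bwd (nat_lit 11) (Steps.bwd (nat_lit 12) (Steps.fwd (nat_lit 114688) (Steps.bwd (nat_lit 1) Steps.nil)))))))))) (nat_lit 162) (nat_lit 2),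
  Rule.mk (nat_lit 2) (nat_lit 179) (Steps.bwd (nat_lit 16) (Steps.bwd (nat_lit 1) (Steps.fwd (nat_lit 16384) (Steps.bwd (nat_lit 1) (Steps.fwd (nat_lit 16384) (Steps.bwd (nat_lit 1) (Steps.fwd (nat_lit 16384) (Steps.bwd (nat_lit 1) (Steps.fwd (nat_lit 24576) (Steps.fwd (nat_lit 32768) (Steps.bwd (nat_lit 1) Steps.nil))))))))))) (nat_lit 190) (nat_lit 0),
  Rule.mk (nat_lit 15) (nat_lit 179) (Steps.fwd (nat_lit 16384) (Steps.fwd (nat_lit 8192) (Steps.bwd (nat_lit 4) (Steps.fwd (nat_lit 16384) (Steps.bwd (nat_lit 1) (Steps.fwd (nat_lit 24576) (Steps.fwd (nat_lit 8192) (Steps.bwd (nat_lit 2) (Steps.fwd (nat_lit 8192) (Steps.fwd (nat_lit 24576) (Steps.bwd (nat_lit 1) Steps.nil))))))))))) (nat_lit 191) (nat_lit 0),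
  Rule.mk (nat_lit 17) (nat_lit 179) (Steps.bwd (nat_lit 2) (Steps.fwd (nat_lit 8192) (Steps.bwd (nat_lit 2) (Steps.bwd (nat_lit 1) (Steps.fwd (nat_lit 16384) (Steps.bwd (nat_lit 1) (Steps.fwd (nat_lit 16384) (Steps.bwd (nat_lit 1) (Steps.fwd (nat_lit 32768) (Steps.fwd (nat_lit 24576) (Steps.bwd (nat_lit 1) Steps.nil))))))))))) (nat_lit 193) (nat_lit 0),
  Rule.mk (nat_lit 3) (nat_lit 539) (Steps.fwd (nat_lit 8192) (Steps.fwd (nat_lit 16384) (Steps.bwd (nat_lit 1) (Steps.bwd (nat_lit 2) (Steps.bwd (nat_lit 1) (Steps.fwd (nat_lit 24576) (Steps.bwd (nat_lit 1) (Steps.fwd (nat_lit 16384) (Steps.fwd (nat_lit 8192) (Steps.bwd (nat_lit 2) (Steps.fwd (nat_lit 8192) (Steps.bwd (nat_lit 2) (Steps.fwd (nat_lit 8192) (Steps.fwd (nat_lit 16384) (Steps.bwd (nat_lit 1) (Steps.bwd (nat_lit 2) (Steps.fwd (nat_lit 8192) (Steps.bwd (nat_lit 2) (Steps.bwd (nat_lit 1) (Steps.fwd (nat_lit 16384) (Steps.fwd (nat_lit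 8192) (Steps.bwd (nat_lit 2) (Steps.fwd (nat_lit 8192) (Steps.fwd (nat_lit 16384) (Steps.fwd (nat_lit 8192) (Steps.fwd (nat_lit 16384) (Steps.bwd (nat_lit 1) (Steps.bwd (nat_lit 2) (Steps.fwd (nat_lit 8192) (Steps.bwd (nat_lit 3) (Steps.fwd (nat_lit 8192) (Steps.bwd (nat_lit 3) (Steps.fwd (nat_lit 8192) (Steps.fwd (nat_lit 24576) (Steps.bwd (nat_lit 1) Steps.nil))))))))))))))))))))))))))))))))))) (nat_lit 12) (nat_lit 34),
  Rule.mk (nat_lit 0) (nat_lit 554) (Steps.fwd (nat_lit 16384) (Steps.fwd (nat_lit 8192) (Steps.fwd (nat_lit 24576) (Steps.fwd (nat_lit 8192) (Steps.bwd (nat_lit 3) (Steps.bwd (nat_lit 1) (Steps.bwd (nat_lit 3) (Steps.fwd (nat_lit 8192) (Steps.fwd (nat_lit 24576) (Steps.fwd (nat_lit 8192) (Steps.bwd (nat_lit 3) (Steps.bwd (nat_lit 1) (Steps.bwd (nat_lit 3) (Steps.fwd (nat_lit 8192) (Steps.bwd (nat_lit 2) (Steps.fwd (nat_lit 8192) (Steps.fwd (nat_lit 24576) (Steps.bwd (nat_lit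 1) (Steps.fwd (nat_lit 16384) (Steps.fwd (nat_lit 8192) (Steps.fwd (nat_lit 24576) (Steps.bwd (nat_lit 1) (Steps.bwd (nat_lit 2) (Steps.bwd (nat_lit 1) (Steps.bwd (nat_lit 3) (Steps.bwd (nat_lit 1) (Steps.fwd (nat_lit 24576) (Steps.bwd (nat_lit 1) (Steps.bwd (nat_lit 2) (Steps.bwd (nat_lit 1) (Steps.bwd (nat_lit 3) (Steps.fwd (nat_lit 8192) (Steps.bwd (nat_lit 2) (Steps.fwd (nat_lit 8192) (Steps.bwd (nat_lit 3) (Steps.bwd (nat_lit 1) Steps.nil)))))))))))))))))))))))))))))))))))) (nat_lit 12) (nat_lit 23),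
  Rule.mk (nat_lit 0) (nat_lit 194) (Steps.bwd (nat_lit 15) (Steps.fwd (nat_lit 16384) (Steps.bwd (nat_lit 1) (Steps.bwd (nat_lit 4) (Steps.bwd (nat_lit 3) (Steps.fwd (nat_lit 8192) (Steps.fwd (nat_lit 24576) (Steps.bwd (nat_lit 1) (Steps.bwd (nat_lit 2) (Steps.fwd (nat_lit 8192) (Steps.fwd (nat_lit 24576) (Steps.bwd (nat_lit 1) Steps.nil)))))))))))) (nat_lit 191) (nat_lit 11),
  Rule.mk (nat_lit 16) (nat_lit 179) (Steps.bwd (nat_lit 1) (Steps.fwd (nat_lit 16384) (Steps.fwd (nat_lit 8192) (Steps.bwd (nat_lit 3) (Steps.bwd (nat_lit 1) (Steps.fwd (nat_lit 16384) (Steps.bwd (nat_lit 1) (Steps.fwd (nat_lit 24576) (Steps.fwd (nat_lit 32768) (Steps.fwd (nat_lit 8192) (Steps.fwd (nat_lit 24576) Steps.nil))))))))))) (nat_lit 190) (nat_lit 1),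
  Rule.mk (nat_lit 0) (nat_lit 194) (Steps.bwd (nat_lit 1) (Steps.bwd (nat_lit 3) (Steps.fwd (nat_lit 8192) (Steps.fwd (nat_lit 16384) (Steps.bwd (nat_lit 1) (Steps.fwd (nat_lit 16384) (Steps.fwd (nat_lit 8192) (Steps.fwd (nat_lit 24576) (Steps.fwd (nat_lit 32768) (Steps.bwd (nat_lit 1) (Steps.bwd (nat_lit 2) (Steps.fwd (nat_lit 122880) Steps.nil)))))))))))) (nat_lit 190) (nat_lit 1),
  Rule.mk (nat_lit 0) (nat_lit 194) (Steps.bwd (nat_lit 17) (Steps.bwd (nat_lit 2) (Steps.fwd (nat_lit 8192) (Steps.bwd (nat_lit 2) (Steps.fwd (nat_lit 8192) (Steps.bwd (nat_lit 3) (Steps.bwd (nat_lit 1) (Steps.fwd (nat_lit 16384) (Steps.bwd (nat_lit 1) (Steps.fwd (nat_lit 32768) (Steps.bwd (nat_lit 2) (Steps.fwd (nat_lit 8192) Steps.nil)))))))))))) (nat_lit 193) (nat_lit 11),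
  Rule.mk (nat_lit 19) (nat_lit 179) (Steps.fwd (nat_lit 16384) (Steps.bwd (nat_lit 4) (Steps.fwd (nat_lit 8192) (Steps.bwd (nat_lit 2) (Steps.fwd (nat_lit 8192) (Steps.fwd (nat_lit 24576) (Steps.bwd (nat_lit 1) (Steps.fwd (nat_lit 16384) (Steps.bwd (nat_lit 1) (Steps.fwd (nat_lit 16384) (Steps.bwd (nat_lit 1) Steps.nil))))))))))) (nat_lit 195) (nat_lit 0),
  Rule.mk (nat_lit 0) (nat_lit 194) (Steps.bwd (nat_lit 16) (Steps.fwd (nat_lit 8192) (Steps.fwd (nat_lit 16384) (Steps.fwd (nat_lit 8192) (Steps.bwd (nat_lit 3) (Steps.fwd (nat_lit 8192) (Steps.bwd (nat_lit 3) (Steps.fwd (nat_lit 8192) (Steps.fwd (nat_lit 24576) (Steps.fwd (nat_lit 32768) (Steps.bwd (nat_lit 1) (Steps.bwd (nat_lit 2) Steps.nil)))))))))))) (nat_lit 190) (nat_lit 0),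
  Rule.mk (nat_lit 16) (nat_lit 179) (Steps.fwd (nat_lit 8192) (Steps.bwd (nat_lit 3) (Steps.fwd (nat_lit 8192) (Steps.bwd (nat_lit 3) (Steps.fwd (nat_lit 8192) (Steps.fwd (nat_lit 16384) (Steps.bwd (nat_lit 1) (Steps.bwd (nat_lit 2) (Steps.fwd (nat_lit 32768) (Steps.bwd (nat_lit 1) (Steps.bwd (nat_lit 2) Steps.nil))))))))))) (nat_lit 190) (nat_lit 1),
  Rule.mk (nat_lit 0) (nat_lit 194) (Steps.bwd (nat_lit 18) (Steps.fwd (nat_lit 8192) (Steps.bwd (nat_lit 3) (Steps.fwd (nat_lit 32768) (Steps.bwd (nat_lit 1) (Steps.fwd (nat_lit 24576) (Steps.bwd (nat_lit 1) (Steps.fwd (nat_lit 24576) (Steps.fwd (nat_lit 8192) (Steps.bwd (nat_lit 3) (Steps.fwd (nat_lit 8192) (Steps.bwd (nat_lit 3) Steps.nil)))))))))))) (nat_lit 192) (nat_lit 0),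
  Rule.mk (nat_lit 0) (nat_lit 194) (Steps.bwd (nat_lit 19) (Steps.bwd (nat_lit 3) (Steps.fwd (nat_lit 32768) (Steps.bwd (nat_lit 1) (Steps.fwd (nat_lit 24576) (Steps.bwd (nat_lit 1) (Steps.fwd (nat_lit 24576) (Steps.fwd (nat_lit 8192) (Steps.bwd (nat_lit 3) (Steps.fwd (nat_lit 8192) (Steps.bwd (nat_lit 3) (Steps.fwd (nat_lit 8192) Steps.nil)))))))))))) (nat_lit 195) (nat_lit 11),
  Rule.mk (nat_lit 0) (nat_lit 194) (Steps.bwd (nat_lit 17) (Steps.bwd (nat_lit 2) (Steps.bwd (nat_lit 1) (Steps.fwd (nat_lit 24576) (Steps.bwd (nat_lit 1) (Steps.fwd (nat_lit 16384) (Steps.bwd (nat_lit 1) (Steps.fwd (nat_lit 16384) (Steps.bwd (nat_lit 1) (Steps.fwd (nat_lit 32768) (Steps.fwd (nat_lit 24576) (Steps.fwd (nat_lit 8192) Steps.nil)))))))))))) (nat_lit 193) (nat_lit 11),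
  Rule.mk (nat_lit 18) (nat_lit 179) (Steps.bwd (nat_lit 1) (Steps.bwd (nat_lit 3) (Steps.fwd (nat_lit 32768) (Steps.fwd (nat_lit 8192) (Steps.bwd (nat_lit 2) (Steps.fwd (nat_lit 8192) (Steps.bwd (nat_lit 2) (Steps.fwd (nat_lit 8192) (Steps.bwd (nat_lit 3) (Steps.fwd (nat_lit 8192) (Steps.bwd (nat_lit 3) Steps.nil))))))))))) (nat_lit 192) (nat_lit 1),
  Rule.mk (nat_lit 17) (nat_lit 179) (Steps.bwd (nat_lit 2) (Steps.fwd (nat_lit 8192) (Steps.bwd (nat_lit 2) (Steps.fwd (nat_lit 8192) (Steps.bwd (nat_lit 3) (Steps.fwd (nat_lit 8192) (Steps.fwd (nat_lit 16384) (Steps.bwd (nat_lit 1) (Steps.fwd (nat_lit 32768) (Steps.fwd (nat_lit 24576) (Steps.bwd (nat_lit 1) Steps.nil))))))))))) (nat_lit 193) (nat_lit 0),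
  Rule.mk (nat_lit 17) (nat_lit 179) (Steps.bwd (nat_lit 2) (Steps.fwd (nat_lit 8192) (Steps.bwd (nat_lit 2) (Steps.fwd (nat_lit 8192) (Steps.bwd (nat_lit 3) (Steps.fwd (nat_lit 8192) (Steps.bwd (nat_lit 3) (Steps.fwd (nat_lit 8192) (Steps.fwd (nat_lit 32768) (Steps.fwd (nat_lit 24576) (Steps.bwd (nat_lit 1) Steps.nil))))))))))) (nat_lit 193) (nat_lit 0),
  Rule.mk (nat_lit 0) (nat_lit 194) (Steps.bwd (nat_lit 19) (Steps.bwd (nat_lit 3) (Steps.bwd (nat_lit 4) (Steps.fwd (nat_lit 8192) (Steps.bwd (nat_lit 2) (Steps.bwd (nat_lit 1) (Steps.fwd (nat_lit 24576) (Steps.bwd (nat_lit 1) (Steps.fwd (nat_lit 16384) (Steps.bwd (nat_lit 1) (Steps.fwd (nat_lit 16384) (Steps.bwd (nat_lit 1) Steps.nil)))))))))))) (nat_lit 195) (nat_lit 11),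
  Rule.mk (nat_lit 0) (nat_lit 194) (Steps.bwd (nat_lit 20) (Steps.fwd (nat_lit 8192) (Steps.bwd (nat_lit 2) (Steps.fwd (nat_lit 8192) (Steps.bwd (nat_lit 2) (Steps.fwd (nat_lit 8192) (Steps.bwd (nat_lit 3) (Steps.fwd (nat_lit 8192) (Steps.bwd (nat_lit 3) (Steps.fwd (nat_lit 8192) (Steps.fwd (nat_lit 32768) (Steps.fwd (nat_lit 24576) Steps.nil)))))))))))) (nat_lit 194) (nat_lit 0),
  Rule.mk (nat_lit 19) (nat_lit 179) (Steps.bwd (nat_lit 3) (Steps.bwd (nat_lit 4) (Steps.fwd (nat_lit 8192) (Steps.bwd (nat_lit 2) (Steps.fwd (nat_lit 8192) (Steps.bwd (nat_lit 2) (Steps.fwd (nat_lit 8192) (Steps.bwd (nat_lit 3) (Steps.fwd (nat_lit 8192) (Steps.fwd (nat_lit 16384) (Steps.bwd (nat_lit 1) Steps.nil))))))))))) (nat_lit 195) (nat_lit 0),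
  Rule.mk (nat_lit 0) (nat_lit 194) (Steps.bwd (nat_lit 19) (Steps.bwd (nat_lit 3) (Steps.fwd (nat_lit 32768) (Steps.fwd (nat_lit 8192) (Steps.bwd (nat_lit 2) (Steps.fwd (nat_lit 8192) (Steps.bwd (nat_lit 2) (Steps.fwd (nat_lit 8192) (Steps.bwd (nat_lit 3) (Steps.fwd (nat_lit 8192) (Steps.bwd (nat_lit 3) (Steps.fwd (nat_lit 8192) Steps.nil)))))))))))) (nat_lit 195) (nat_lit 11),
  Rule.mk (nat_lit 17) (nat_lit 179) (Steps.fwd (nat_lit 24576) (Steps.bwd (nat_lit 1) (Steps.fwd (nat_lit 24576) (Steps.fwd (nat_lit 8192) (Steps.fwd (nat_lit 16384) (Steps.fwd (nat_lit 8192) (Steps.fwd (nat_lit 16384) (Steps.fwd (nat_lit 8192) (Steps.fwd (nat_lit 32768) (Steps.bwd (nat_lit 2) (Steps.fwd (nat_lit 8192) Steps.nil))))))))))) (nat_lit 193) (nat_lit 0),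
  Rule.mk (nat_lit 17) (nat_lit 179) (Steps.bwd (nat_lit 2) (Steps.fwd (nat_lit 8192) (Steps.fwd (nat_lit 24576) (Steps.bwd (nat_lit 1) (Steps.fwd (nat_lit 16384) (Steps.bwd (nat_lit 1) (Steps.fwd (nat_lit 16384) (Steps.bwd (nat_lit 1) (Steps.fwd (nat_lit 32768) (Steps.fwd (nat_lit 24576) (Steps.fwd (nat_lit 8192) Steps.nil))))))))))) (nat_lit 193) (nat_lit 0),
  Rule.mk (nat_lit 20) (nat_lit 179) (Steps.bwd (nat_lit 1) (Steps.fwd (nat_lit 24576) (Steps.bwd (nat_lit 1) (Steps.fwd (nat_lit 24576) (Steps.fwd (nat_lit 8192) (Steps.fwd (nat_lit 16384) (Steps.fwd (nat_lit 8192) (Steps.fwd (nat_lit 16384) (Steps.fwd (nat_lit 8192) (Steps.fwd (nat_lit 32768) (Steps.bwd (nat_lit 2) Steps.nil))))))))))) (nat_lit 194) (nat_lit 1),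
  Rule.mk (nat_lit 0) (nat_lit 194) (Steps.bwd (nat_lit 15) (Steps.fwd (nat_lit 16384) (Steps.fwd (nat_lit 8192) (Steps.fwd (nat_lit 32768) (Steps.bwd (nat_lit 3) (Steps.fwd (nat_lit 8192) (Steps.fwd (nat_lit 24576) (Steps.fwd (nat_lit 8192) (Steps.bwd (nat_lit 2) (Steps.bwd (nat_lit 1) (Steps.fwd (nat_lit 24576) (Steps.bwd (nat_lit 1) Steps.nil)))))))))))) (nat_lit 191) (nat_lit 11),
  Rule.mk (nat_lit 2) (nat_lit 179) (Steps.bwd (nat_lit 20) (Steps.bwd (nat_lit 1) (Steps.fwd (nat_lit 24576) (Steps.bwd (nat_lit 1) (Steps.bwd (nat_lit 2) (Steps.bwd (nat_lit 1) (Steps.bwd (nat_lit 3) (Steps.fwd (nat_lit 8192) (Steps.fwd (nat_lit 16384) (Steps.fwd (nat_lit 8192) (Steps.bwd (nat_lit 4) Steps.nil))))))))))) (nat_lit 194) (nat_lit 0),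
  Rule.mk (nat_lit 12) (nat_lit 104) (Steps.fwd (nat_lit 16384) (Steps.bwd (nat_lit 4) (Steps.fwd (nat_lit 40960) (Steps.fwd (nat_lit 65536) (Steps.fwd (nat_lit 73728) (Steps.bwd (nat_lit 2) Steps.nil)))))) (nat_lit 184) (nat_lit 2),
  Rule.mk (nat_lit 9) (nat_lit 134) (Steps.bwd (nat_lit 3) (Steps.bwd (nat_lit 4) (Steps.fwd (nat_lit 40960) (Steps.fwd (nat_lit 65536) (Steps.bwd (nat_lit 9) (Steps.bwd (nat_lit 11) (Steps.bwd (nat_lit 14) (Steps.bwd (nat_lit 2) Steps.nil)))))))) (nat_lit 178) (nat_lit 2),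
  Rule.mk (nat_lit 13) (nat_lit 134) (Steps.fwd (nat_lit 16384) (Steps.fwd (nat_lit 49152) (Steps.fwd (nat_lit 81920) (Steps.bwd (nat_lit 11) (Steps.bwd (nat_lit 12) (Steps.fwd (nat_lit 106496) (Steps.bwd (nat_lit 14) (Steps.bwd (nat_lit 2) Steps.nil)))))))) (nat_lit 186) (nat_lit 2),
  Rule.mk (nat_lit 6) (nat_lit 164) (Steps.fwd (nat_lit 16384) (Steps.fwd (nat_lit 40960) (Steps.fwd (nat_lit 49152) (Steps.fwd (nat_lit 73728) (Steps.fwd (nat_lit 81920) (Steps.bwd (nat_lit 11) (Steps.bwd (nat_lit 12) (Steps.fwd (nat_lit 106496) (Steps.bwd (nat_lit 14) (Steps.bwd (nat_lit 2) Steps.nil)))))))))) (nat_lit 172) (nat_lit 2),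
  Rule.mk (nat_lit 11) (nat_lit 164) (Steps.bwd (nat_lit 3) (Steps.bwd (nat_lit 4) (Steps.fwd (nat_lit 40960) (Steps.bwd (nat_lit 8) (Steps.bwd (nat_lit 9) (Steps.fwd (nat_lit 81920) (Steps.bwd (nat_lit 11) (Steps.fwd (nat_lit 98304) (Steps.bwd (nat_lit 14) (Steps.bwd (nat_lit 2) Steps.nil)))))))))) (nat_lit 182) (nat_lit 2),
  Rule.mk (nat_lit 1) (nat_lit 179) (Steps.bwd (nat_lit 15) (Steps.bwd (nat_lit 3) (Steps.fwd (nat_lit 8192) (Steps.bwd (nat_lit 4) (Steps.fwd (nat_lit 16384) (Steps.bwd (nat_lit 1) (Steps.fwd (nat_lit 24576) (Steps.fwd (nat_lit 8192) (Steps.fwd (nat_lit 24576) (Steps.bwd (nat_lit 1) (Steps.bwd (nat_lit 2) Steps.nil))))))))))) (nat_lit 191) (nat_lit 11),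
  Rule.mk (nat_lit 17) (nat_lit 179) (Steps.fwd (nat_lit 24576) (Steps.bwd (nat_lit 1) (Steps.bwd (nat_lit 2) (Steps.bwd (nat_lit 1) (Steps.bwd (nat_lit 3) (Steps.fwd (nat_lit 8192) (Steps.fwd (nat_lit 16384) (Steps.fwd (nat_lit 8192) (Steps.bwd (nat_lit 4) (Steps.bwd (nat_lit 2) (Steps.bwd (nat_lit 1) Steps.nil))))))))))) (nat_lit 193) (nat_lit 0),
  Rule.mk (nat_lit 0) (nat_lit 554) (Steps.fwd (nat_lit 8192) (Steps.fwd (nat_lit 16384) (Steps.fwd (nat_lit 8192) (Steps.bwd (nat_lit 3) (Steps.bwd (nat_lit 1) (Steps.bwd (nat_lit 2) (Steps.fwd (nat_lit 8192) (Steps.bwd (nat_lit 3) (Steps.bwd (nat_lit 1) (Steps.bwd (nat_lit 3) (Steps.bwd (nat_lit 1) (Steps.bwd (nat_lit 2) (Steps.fwd (nat_lit 8192) (Steps.fwd (nat_lit 16384) (Steps.bwd (nat_lit 1) (Steps.bwd (nat_lit 3) (Steps.bwd (nat_lit 1) (Steps.fwd (nat_lit 24576) (Steps.bwd (nat_lit 1) (Steps.bwd (nat_lit 2) (Steps.fwd (nat_lit 8192) (Steps.bwd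 (nat_lit 3) (Steps.fwd (nat_lit 8192) (Steps.fwd (nat_lit 24576) (Steps.bwd (nat_lit 1) (Steps.fwd (nat_lit 24576) (Steps.bwd (nat_lit 1) (Steps.fwd (nat_lit 16384) (Steps.fwd (nat_lit 8192) (Steps.fwd (nat_lit 24576) (Steps.fwd (nat_lit 8192) (Steps.bwd (nat_lit 2) (Steps.fwd (nat_lit 8192) (Steps.fwd (nat_lit 16384) (Steps.bwd (nat_lit 1) (Steps.fwd (nat_lit 24576) Steps.nil)))))))))))))))))))))))))))))))))))) (nat_lit 12) (nat_lit 20),
  Rule.mk (nat_lit 16) (nat_lit 179) (Steps.fwd (nat_lit 8192) (Steps.fwd (nat_lit 16384) (Steps.bwd (nat_lit 1) (Steps.fwd (nat_lit 16384) (Steps.bwd (nat_lit 1) (Steps.fwd (nat_lit 16384) (Steps.bwd (nat_lit 1) (Steps.fwd (nat_lit 24576) (Steps.fwd (nat_lit 32768) (Steps.fwd (nat_lit 8192) (Steps.bwd (nat_lit 2) Steps.nil))))))))))) (nat_lit 190) (nat_lit 1),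
  Rule.mk (nat_lit 16) (nat_lit 179) (Steps.bwd (nat_lit 1) (Steps.fwd (nat_lit 16384) (Steps.bwd (nat_lit 1) (Steps.fwd (nat_lit 16384) (Steps.bwd (nat_lit 1) (Steps.bwd (nat_lit 3) (Steps.fwd (nat_lit 8192) (Steps.bwd (nat_lit 2) (Steps.bwd (nat_lit 4) (Steps.bwd (nat_lit 1) (Steps.bwd (nat_lit 2) Steps.nil))))))))))) (nat_lit 190) (nat_lit 1),
  Rule.mk (nat_lit 16) (nat_lit 179) (Steps.bwd (nat_lit 1) (Steps.bwd (nat_lit 3) (Steps.fwd (nat_lit 8192) (Steps.fwd (nat_lit 16384) (Steps.fwd (nat_lit 8192) (Steps.bwd (nat_lit 3) (Steps.bwd (nat_lit 1) (Steps.fwd (nat_lit 24576) (Steps.fwd (nat_lit 32768) (Steps.fwd (nat_lit 8192) (Steps.bwd (nat_lit 2) Steps.nil))))))))))) (nat_lit 190) (nat_lit 1),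
  Rule.mk (nat_lit 15) (nat_lit 179) (Steps.bwd (nat_lit 3) (Steps.fwd (nat_lit 8192) (Steps.bwd (nat_lit 4) (Steps.fwd (nat_lit 16384) (Steps.fwd (nat_lit 8192) (Steps.fwd (nat_lit 24576) (Steps.bwd (nat_lit 1) (Steps.bwd (nat_lit 2) (Steps.bwd (nat_lit 1) (Steps.fwd (nat_lit 24576) (Steps.bwd (nat_lit 1) Steps.nil))))))))))) (nat_lit 191) (nat_lit 0),
  Rule.mk (nat_lit 15) (nat_lit 179) (Steps.fwd (nat_lit 16384) (Steps.bwd (nat_lit 1) (Steps.bwd (nat_lit 4) (Steps.fwd (nat_lit 16384) (Steps.fwd (nat_lit 8192) (Steps.bwd (nat_lit 2) (Steps.fwd (nat_lit 8192) (Steps.fwd (nat_lit 24576) (Steps.bwd (nat_lit 1) (Steps.bwd (nat_lit 2) (Steps.fwd (nat_lit 8192) Steps.nil))))))))))) (nat_lit 191) (nat_lit 0),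
  Rule.mk (nat_lit 0) (nat_lit 194) (Steps.bwd (nat_lit 1) (Steps.bwd (nat_lit 3) (Steps.bwd (nat_lit 4) (Steps.fwd (nat_lit 8192) (Steps.fwd (nat_lit 24576) (Steps.fwd (nat_lit 8192) (Steps.fwd (nat_lit 24576) (Steps.bwd (nat_lit 1) (Steps.fwd (nat_lit 16384) (Steps.bwd (nat_lit 1) (Steps.bwd (nat_lit 3) (Steps.fwd (nat_lit 139264) Steps.nil)))))))))))) (nat_lit 192) (nat_lit 1),
  Rule.mk (nat_lit 0) (nat_lit 194) (Steps.bwd (nat_lit 17) (Steps.bwd (nat_lit 2) (Steps.bwd (nat_lit 1) (Steps.fwd (nat_lit 24576) (Steps.fwd (nat_lit 8192) (Steps.fwd (nat_lit 16384) (Steps.fwd (nat_lit 8192) (Steps.bwd (nat_lit 3) (Steps.bwd (nat_lit 1) (Steps.bwd (nat_lit 4) (Steps.fwd (nat_lit 24576) (Steps.bwd (nat_lit 1) Steps.nil)))))))))))) (nat_lit 193) (nat_lit 11),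
  Rule.mk (nat_lit 18) (nat_lit 179) (Steps.bwd (nat_lit 1) (Steps.bwd (nat_lit 3) (Steps.fwd (nat_lit 32768) (Steps.fwd (nat_lit 8192) (Steps.bwd (nat_lit 2) (Steps.fwd (nat_lit 8192) (Steps.fwd (nat_lit 24576) (Steps.bwd (nat_lit 1) (Steps.bwd (nat_lit 3) (Steps.fwd (nat_lit 8192) (Steps.fwd (nat_lit 16384) Steps.nil))))))))))) (nat_lit 192) (nat_lit 1),
  Rule.mk (nat_lit 0) (nat_lit 194) (Steps.bwd (nat_lit 17) (Steps.fwd (nat_lit 24576) (Steps.bwd (nat_lit 1) (Steps.bwd (nat_lit 2) (Steps.bwd (nat_lit 1) (Steps.fwd (nat_lit 16384) (Steps.bwd (nat_lit 1) (Steps.fwd (nat_lit 16384) (Steps.bwd (nat_lit 1) (Steps.bwd (nat_lit 4) (Steps.fwd (nat_lit 24576) (Steps.fwd (nat_lit 8192) Steps.nil)))))))))))) (nat_lit 193) (nat_lit 11),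
  Rule.mk (nat_lit 0) (nat_lit 194) (Steps.bwd (nat_lit 17) (Steps.fwd (nat_lit 24576) (Steps.fwd (nat_lit 8192) (Steps.fwd (nat_lit 24576) (Steps.bwd (nat_lit 1) (Steps.fwd (nat_lit 16384) (Steps.bwd (nat_lit 1) (Steps.bwd (nat_lit 3) (Steps.fwd (nat_lit 8192) (Steps.fwd (nat_lit 32768) (Steps.fwd (nat_lit 24576) (Steps.bwd (nat_lit 1) Steps.nil)))))))))))) (nat_lit 193) (nat_lit 11),
  Rule.mk (nat_lit 0) (nat_lit 194) (Steps.bwd (nat_lit 18) (Steps.fwd (nat_lit 8192) (Steps.bwd (nat_lit 3) (Steps.fwd (nat_lit 32768) (Steps.fwd (nat_lit 8192) (Steps.bwd (nat_lit 2) (Steps.bwd (nat_lit 1) (Steps.fwd (nat_lit 24576) (Steps.fwd (nat_lit 8192) (Steps.fwd (nat_lit 16384) (Steps.fwd (nat_lit 8192) (Steps.bwd (nat_lit 3) Steps.nil)))))))))))) (nat_lit 192) (nat_lit 0),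
  Rule.mk (nat_lit 17) (nat_lit 179) (Steps.bwd (nat_lit 2) (Steps.bwd (nat_lit 1) (Steps.fwd (nat_lit 24576) (Steps.bwd (nat_lit 1) (Steps.fwd (nat_lit 16384) (Steps.fwd (nat_lit 8192) (Steps.fwd (nat_lit 16384) (Steps.bwd (nat_lit 1) (Steps.bwd (nat_lit 4) (Steps.bwd (nat_lit 2) (Steps.fwd (nat_lit 8192) Steps.nil))))))))))) (nat_lit 193) (nat_lit 0),
  Rule.mk (nat_lit 0) (nat_lit 194) (Steps.bwd (nat_lit 19) (Steps.bwd (nat_lit 3) (Steps.bwd (nat_lit 4) (Steps.bwd (nat_lit 1) (Steps.fwd (nat_lit 24576) (Steps.fwd (nat_lit 8192) (Steps.bwd (nat_lit 2) (Steps.fwd (nat_lit 8192) (Steps.bwd (nat_lit 3) (Steps.bwd (nat_lit 1) (Steps.bwd (nat_lit 3) (Steps.bwd (nat_lit 1) Steps.nil)))))))))))) (nat_lit 195) (nat_lit 11),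
  Rule.mk (nat_lit 20) (nat_lit 179) (Steps.fwd (nat_lit 8192) (Steps.fwd (nat_lit 24576) (Steps.bwd (nat_lit 1) (Steps.bwd (nat_lit 2) (Steps.bwd (nat_lit 1) (Steps.bwd (nat_lit 3) (Steps.fwd (nat_lit 8192) (Steps.fwd (nat_lit 16384) (Steps.fwd (nat_lit 8192) (Steps.bwd (nat_lit 4) (Steps.fwd (nat_lit 24576) Steps.nil))))))))))) (nat_lit 194) (nat_lit 1),
  Rule.mk (nat_lit 20) (nat_lit 179) (Steps.bwd (nat_lit 1) (Steps.bwd (nat_lit 2) (Steps.bwd (nat_lit 1) (Steps.fwd (nat_lit 24576) (Steps.bwd (nat_lit 1) (Steps.fwd (nat_lit 16384) (Steps.fwd (nat_lit 8192) (Steps.fwd (nat_lit 16384) (Steps.bwd (nat_lit 1) (Steps.bwd (nat_lit 4) (Steps.bwd (nat_lit 2) Steps.nil))))))))))) (nat_lit 194) (nat_lit 1),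
  Rule.mk (nat_lit 0) (nat_lit 194) (Steps.bwd (nat_lit 19) (Steps.bwd (nat_lit 3) (Steps.bwd (nat_lit 4) (Steps.bwd (nat_lit 1) (Steps.fwd (nat_lit 24576) (Steps.bwd (nat_lit 1) (Steps.bwd (nat_lit 2) (Steps.bwd (nat_lit 1) (Steps.fwd (nat_lit 16384) (Steps.bwd (nat_lit 1) (Steps.fwd (nat_lit 16384) (Steps.bwd (nat_lit 1) Steps.nil)))))))))))) (nat_lit 195) (nat_lit 11),
  Rule.mk (nat_lit 19) (nat_lit 179) (Steps.bwd (nat_lit 3) (Steps.bwd (nat_lit 4) (Steps.fwd (nat_lit 8192) (Steps.fwd (nat_lit 24576) (Steps.fwd (nat_lit 8192) (Steps.fwd (nat_lit 24576) (Steps.bwd (nat_lit 1) (Steps.fwd (nat_lit 16384) (Steps.bwd (nat_lit 1) (Steps.bwd (nat_lit 3) (Steps.fwd (nat_lit 8192) Steps.nil))))))))))) (nat_lit 195) (nat_lit 0),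
  Rule.mk (nat_lit 0) (nat_lit 194) (Steps.bwd (nat_lit 20) (Steps.fwd (nat_lit 8192) (Steps.bwd (nat_lit 2) (Steps.bwd (nat_lit 1) (Steps.fwd (nat_lit 24576) (Steps.fwd (nat_lit 8192) (Steps.fwd (nat_lit 16384) (Steps.fwd (nat_lit 8192) (Steps.bwd (nat_lit 3) (Steps.bwd (nat_lit 1) (Steps.bwd (nat_lit 4) (Steps.fwd (nat_lit 24576) Steps.nil)))))))))))) (nat_lit 194) (nat_lit 0),
  Rule.mk (nat_lit 17) (nat_lit 179) (Steps.bwd (nat_lit 2) (Steps.fwd (nat_lit 8192) (Steps.bwd (nat_lit 2) (Steps.fwd (nat_lit 8192) (Steps.fwd (nat_lit 16384) (Steps.fwd (nat_lit 8192) (Steps.bwd (nat_lit 3) (Steps.fwd (nat_lit 8192) (Steps.fwd (nat_lit 32768) (Steps.fwd (nat_lit 24576) (Steps.fwd (nat_lit 8192) Steps.nil))))))))))) (nat_lit 193) (nat_lit 0),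
  Rule.mk (nat_lit 2) (nat_lit 164) (Steps.bwd (nat_lit 6) (Steps.bwd (nat_lit 3) (Steps.fwd (nat_lit 40960) (Steps.fwd (nat_lit 49152) (Steps.fwd (nat_lit 73728) (Steps.bwd (nat_lit 10) (Steps.bwd (nat_lit 11) (Steps.bwd (nat_lit 12) (Steps.fwd (nat_lit 106496) (Steps.fwd (nat_lit 114688) Steps.nil)))))))))) (nat_lit 172) (nat_lit 1),
  Rule.mk (nat_lit 16) (nat_lit 179) (Steps.bwd (nat_lit 1) (Steps.bwd (nat_lit 3) (Steps.bwd (nat_lit 1) (Steps.fwd (nat_lit 16384) (Steps.fwd (nat_lit 8192) (Steps.bwd (nat_lit 3) (Steps.bwd (nat_lit 1) (Steps.bwd (nat_lit 2) (Steps.bwd (nat_lit 4) (Steps.fwd (nat_lit 8192) (Steps.bwd (nat_lit 2) Steps.nil))))))))))) (nat_lit 190) (nat_lit 1),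
  Rule.mk (nat_lit 0) (nat_lit 194) (Steps.bwd (nat_lit 15) (Steps.fwd (nat_lit 16384) (Steps.bwd (nat_lit 1) (Steps.fwd (nat_lit 32768) (Steps.bwd (nat_lit 3) (Steps.fwd (nat_lit 8192) (Steps.fwd (nat_lit 24576) (Steps.bwd (nat_lit 1) (Steps.fwd (nat_lit 24576) (Steps.fwd (nat_lit 8192) (Steps.bwd (nat_lit 2) (Steps.fwd (nat_lit 8192) Steps.nil)))))))))))) (nat_lit 191) (nat_lit 11),
  Rule.mk (nat_lit 0) (nat_lit 194) (Steps.bwd (nat_lit 3) (Steps.fwd (nat_lit 8192) (Steps.bwd (nat_lit 4) (Steps.fwd (nat_lit 16384) (Steps.bwd (nat_lit 1) (Steps.fwd (nat_lit 24576) (Steps.fwd (nat_lit 8192) (Steps.bwd (nat_lit 2) (Steps.fwd (nat_lit 8192) (Steps.bwd (nat_lit 2) (Steps.fwd (nat_lit 8192) (Steps.fwd (nat_lit 131072) Steps.nil)))))))))))) (nat_lit 191) (nat_lit 0),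
  Rule.mk (nat_lit 0) (nat_lit 194) (Steps.bwd (nat_lit 16) (Steps.fwd (nat_lit 8192) (Steps.bwd (nat_lit 3) (Steps.bwd (nat_lit 1) (Steps.fwd (nat_lit 16384) (Steps.bwd (nat_lit 1) (Steps.fwd (nat_lit 16384) (Steps.bwd (nat_lit 1) (Steps.bwd (nat_lit 2) (Steps.bwd (nat_lit 4) (Steps.fwd (nat_lit 8192) (Steps.bwd (nat_lit 2) Steps.nil)))))))))))) (nat_lit 190) (nat_lit 0),
  Rule.mk (nat_lit 0) (nat_lit 194) (Steps.bwd (nat_lit 18) (Steps.fwd (nat_lit 8192) (Steps.bwd (nat_lit 3) (Steps.bwd (nat_lit 4) (Steps.bwd (nat_lit 1) (Steps.fwd (nat_lit 24576) (Steps.fwd (nat_lit 8192) (Steps.bwd (nat_lit 2) (Steps.fwd (nat_lit 8192) (Steps.fwd (nat_lit 16384) (Steps.bwd (nat_lit 1) (Steps.bwd (nat_lit 3) Steps.nil)))))))))))) (nat_lit 192) (nat_lit 0)]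
noncomputable def R_116 : List (Rule) := [Rule.mk (nat_lit 0) (nat_lit 194) (Steps.bwd (nat_lit 1) (Steps.bwd (nat_lit 3) (Steps.bwd (nat_lit 4) (Steps.fwd (nat_lit 8192) (Steps.bwd (nat_lit 2) (Steps.fwd (nat_lit 8192) (Steps.bwd (nat_lit 2) (Steps.fwd (nat_lit 8192) (Steps.bwd (nat_lit 3) (Steps.fwd (nat_lit 8192) (Steps.bwd (nat_lit 3) (Steps.fwd (nat_lit 139264) Steps.nil)))))))))))) (nat_lit 192) (nat_lit 1),
  Rule.mk (nat_lit 0) (nat_lit 194) (Steps.bwd (nat_lit 1) (Steps.fwd (nat_lit 16384) (Steps.fwd (nat_lit 32768) (Steps.fwd (nat_lit 8192) (Steps.fwd (nat_lit 24576) (Steps.fwd (nat_lit 8192) (Steps.fwd (nat_lit 24576) (Steps.bwd (nat_lit 1) (Steps.fwd (nat_lit 16384) (Steps.fwd (nat_lit 8192) (Steps.fwd (nat_lit 16384) (Steps.fwd (nat_lit 139264) Steps.nil)))))))))))) (nat_lit 192) (nat_lit 1),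
  Rule.mk (nat_lit 17) (nat_lit 179) (Steps.fwd (nat_lit 24576) (Steps.fwd (nat_lit 8192) (Steps.bwd (nat_lit 2) (Steps.bwd (nat_lit 1) (Steps.fwd (nat_lit 16384) (Steps.bwd (nat_lit 1) (Steps.bwd (nat_lit 3) (Steps.fwd (nat_lit 8192) (Steps.fwd (nat_lit 32768) (Steps.bwd (nat_lit 2) (Steps.bwd (nat_lit 1) Steps.nil))))))))))) (nat_lit 193) (nat_lit 0),
  Rule.mk (nat_lit 17) (nat_lit 179) (Steps.bwd (nat_lit 2) (Steps.bwd (nat_lit 1) (Steps.fwd (nat_lit 24576) (Steps.fwd (nat_lit 8192) (Steps.bwd (nat_lit 3) (Steps.fwd (nat_lit 8192) (Steps.bwd (nat_lit 3) (Steps.bwd (nat_lit 1) (Steps.bwd (nat_lit 4) (Steps.bwd (nat_lit 2) (Steps.fwd (nat_lit 8192) Steps.nil))))))))))) (nat_lit 193) (nat_lit 0),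
  Rule.mk (nat_lit 20) (nat_lit 179) (Steps.bwd (nat_lit 1) (Steps.bwd (nat_lit 2) (Steps.bwd (nat_lit 1) (Steps.bwd (nat_lit 2) (Steps.fwd (nat_lit 8192) (Steps.bwd (nat_lit 3) (Steps.bwd (nat_lit 1) (Steps.bwd (nat_lit 3) (Steps.bwd (nat_lit 1) (Steps.bwd (nat_lit 4) (Steps.bwd (nat_lit 2) Steps.nil))))))))))) (nat_lit 194) (nat_lit 1),
  Rule.mk (nat_lit 0) (nat_lit 194) (Steps.bwd (nat_lit 20) (Steps.bwd (nat_lit 1) (Steps.fwd (nat_lit 24576) (Steps.fwd (nat_lit 8192) (Steps.bwd (nat_lit 2) (Steps.bwd (nat_lit 1) (Steps.fwd (nat_lit 16384) (Steps.bwd (nat_lit 1) (Steps.bwd (nat_lit 3) (Steps.fwd (nat_lit 8192) (Steps.fwd (nat_lit 32768) (Steps.bwd (nat_lit 2) Steps.nil)))))))))))) (nat_lit 194) (nat_lit 0),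
  Rule.mk (nat_lit 0) (nat_lit 194) (Steps.bwd (nat_lit 3) (Steps.bwd (nat_lit 4) (Steps.bwd (nat_lit 1) (Steps.fwd (nat_lit 24576) (Steps.fwd (nat_lit 8192) (Steps.bwd (nat_lit 2) (Steps.bwd (nat_lit 1) (Steps.fwd (nat_lit 16384) (Steps.bwd (nat_lit 1) (Steps.bwd (nat_lit 3) (Steps.fwd (nat_lit 8192) (Steps.fwd (nat_lit 163840) Steps.nil)))))))))))) (nat_lit 195) (nat_lit 0),
  Rule.mk (nat_lit 0) (nat_lit 194) (Steps.bwd (nat_lit 3) (Steps.bwd (nat_lit 4) (Steps.fwd (nat_lit 8192) (Steps.bwd (nat_lit 2) (Steps.bwd (nat_lit 1) (Steps.fwd (nat_lit 24576) (Steps.fwd (nat_lit 8192) (Steps.bwd (nat_lit 3) (Steps.fwd (nat_lit 8192) (Steps.bwd (nat_lit 3) (Steps.bwd (nat_lit 1) (Steps.fwd (nat_lit 163840) Steps.nil)))))))))))) (nat_lit 195) (nat_lit 0),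
  Rule.mk (nat_lit 0) (nat_lit 194) (Steps.bwd (nat_lit 16) (Steps.bwd (nat_lit 1) (Steps.fwd (nat_lit 16384) (Steps.bwd (nat_lit 1) (Steps.fwd (nat_lit 16384) (Steps.fwd (nat_lit 8192) (Steps.bwd (nat_lit 3) (Steps.fwd (nat_lit 8192) (Steps.bwd (nat_lit 2) (Steps.bwd (nat_lit 4) (Steps.fwd (nat_lit 8192) (Steps.fwd (nat_lit 24576) Steps.nil)))))))))))) (nat_lit 190) (nat_lit 0),
  Rule.mk (nat_lit 0) (nat_lit 194) (Steps.bwd (nat_lit 18) (Steps.bwd (nat_lit 1) (Steps.fwd (nat_lit 16384) (Steps.bwd (nat_lit 4) (Steps.fwd (nat_lit 8192) (Steps.fwd (nat_lit 24576) (Steps.bwd (nat_lit 1) (Steps.fwd (nat_lit 24576) (Steps.bwd (nat_lit 1) (Steps.fwd (nat_lit 16384) (Steps.fwd (nat_lit 8192) (Steps.fwd (nat_lit 16384) Steps.nil)))))))))))) (nat_lit 192) (nat_lit 0),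
  Rule.mk (nat_lit 19) (nat_lit 179) (Steps.fwd (nat_lit 16384) (Steps.bwd (nat_lit 4) (Steps.fwd (nat_lit 8192) (Steps.fwd (nat_lit 24576) (Steps.bwd (nat_lit 1) (Steps.fwd (nat_lit 24576) (Steps.bwd (nat_lit 1) (Steps.fwd (nat_lit 16384) (Steps.fwd (nat_lit 8192) (Steps.fwd (nat_lit 16384) (Steps.bwd (nat_lit 1) Steps.nil))))))))))) (nat_lit 195) (nat_lit 0),
  Rule.mk (nat_lit 0) (nat_lit 194) (Steps.bwd (nat_lit 3) (Steps.bwd (nat_lit 1) (Steps.fwd (nat_lit 32768) (Steps.bwd (nat_lit 3) (Steps.bwd (nat_lit 1) (Steps.fwd (nat_lit 24576) (Steps.fwd (nat_lit 8192) (Steps.fwd (nat_lit 24576) (Steps.bwd (nat_lit 1) (Steps.bwd (nat_lit 2) (Steps.fwd (nat_lit 8192) (Steps.fwd (nat_lit 131072) Steps.nil)))))))))))) (nat_lit 191) (nat_lit 0),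
  Rule.mk (nat_lit 0) (nat_lit 194) (Steps.bwd (nat_lit 15) (Steps.fwd (nat_lit 16384) (Steps.bwd (nat_lit 1) (Steps.bwd (nat_lit 4) (Steps.bwd (nat_lit 3) (Steps.fwd (nat_lit 8192) (Steps.fwd (nat_lit 24576) (Steps.bwd (nat_lit 1) (Steps.fwd (nat_lit 24576) (Steps.bwd (nat_lit 1) (Steps.bwd (nat_lit 2) (Steps.fwd (nat_lit 8192) Steps.nil)))))))))))) (nat_lit 191) (nat_lit 11),
  Rule.mk (nat_lit 15) (nat_lit 179) (Steps.bwd (nat_lit 3) (Steps.fwd (nat_lit 8192) (Steps.fwd (nat_lit 32768) (Steps.bwd (nat_lit 3) (Steps.fwd (nat_lit 8192) (Steps.fwd (nat_lit 24576) (Steps.fwd (nat_lit 8192) (Steps.fwd (nat_lit 24576) (Steps.bwd (nat_lit 1) (Steps.bwd (nat_lit 2) (Steps.fwd (nat_lit 8192) Steps.nil))))))))))) (nat_lit 191) (nat_lit 0),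
  Rule.mk (nat_lit 15) (nat_lit 179) (Steps.fwd (nat_lit 16384) (Steps.bwd (nat_lit 1) (Steps.fwd (nat_lit 32768) (Steps.fwd (nat_lit 16384) (Steps.fwd (nat_lit 8192) (Steps.fwd (nat_lit 24576) (Steps.bwd (nat_lit 1) (Steps.fwd (nat_lit 24576) (Steps.fwd (nat_lit 8192) (Steps.bwd (nat_lit 2) (Steps.fwd (nat_lit 8192) Steps.nil))))))))))) (nat_lit 191) (nat_lit 0),
  Rule.mk (nat_lit 15) (nat_lit 179) (Steps.bwd (nat_lit 3) (Steps.fwd (nat_lit 8192) (Steps.bwd (nat_lit 4) (Steps.fwd (nat_lit 16384) (Steps.bwd (nat_lit 1) (Steps.fwd (nat_lit 24576) (Steps.fwd (nat_lit 8192) (Steps.bwd (nat_lit 2) (Steps.fwd (nat_lit 8192) (Steps.fwd (nat_lit 24576) (Steps.bwd (nat_lit 1) Steps.nil))))))))))) (nat_lit 191) (nat_lit 0),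
  Rule.mk (nat_lit 0) (nat_lit 194) (Steps.bwd (nat_lit 16) (Steps.fwd (nat_lit 8192) (Steps.bwd (nat_lit 3) (Steps.fwd (nat_lit 8192) (Steps.bwd (nat_lit 3) (Steps.bwd (nat_lit 1) (Steps.fwd (nat_lit 16384) (Steps.bwd (nat_lit 1) (Steps.fwd (nat_lit 24576) (Steps.bwd (nat_lit 4) (Steps.fwd (nat_lit 8192) (Steps.bwd (nat_lit 2) Steps.nil)))))))))))) (nat_lit 190) (nat_lit 0),
  Rule.mk (nat_lit 0) (nat_lit 194) (Steps.bwd (nat_lit 17) (Steps.bwd (nat_lit 2) (Steps.bwd (nat_lit 1) (Steps.fwd (nat_lit 24576) (Steps.fwd (nat_lit 8192) (Steps.bwd (nat_lit 3) (Steps.bwd (nat_lit 1) (Steps.fwd (nat_lit 16384) (Steps.bwd (nat_lit 1) (Steps.fwd (nat_lit 32768) (Steps.bwd (nat_lit 2) (Steps.fwd (nat_lit 8192) Steps.nil)))))))))))) (nat_lit 193) (nat_lit 11),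
  Rule.mk (nat_lit 0) (nat_lit 194) (Steps.bwd (nat_lit 17) (Steps.bwd (nat_lit 2) (Steps.fwd (nat_lit 8192) (Steps.fwd (nat_lit 24576) (Steps.bwd (nat_lit 1) (Steps.bwd (nat_lit 3) (Steps.fwd (nat_lit 8192) (Steps.fwd (nat_lit 16384) (Steps.bwd (nat_lit 1) (Steps.fwd (nat_lit 32768) (Steps.bwd (nat_lit 2) (Steps.bwd (nat_lit 1) Steps.nil)))))))))))) (nat_lit 193) (nat_lit 11),
  Rule.mk (nat_lit 20) (nat_lit 179) (Steps.fwd (nat_lit 8192) (Steps.bwd (nat_lit 2) (Steps.fwd (nat_lit 8192) (Steps.fwd (nat_lit 24576) (Steps.bwd (nat_lit 1) (Steps.bwd (nat_lit 3) (Steps.fwd (nat_lit 8192) (Steps.fwd (nat_lit 16384) (Steps.bwd (nat_lit 1) (Steps.fwd (nat_lit 32768) (Steps.bwd (nat_lit 2) Steps.nil))))))))))) (nat_lit 194) (nat_lit 1),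
  Rule.mk (nat_lit 19) (nat_lit 179) (Steps.fwd (nat_lit 16384) (Steps.bwd (nat_lit 4) (Steps.fwd (nat_lit 8192) (Steps.bwd (nat_lit 2) (Steps.fwd (nat_lit 8192) (Steps.fwd (nat_lit 24576) (Steps.bwd (nat_lit 1) (Steps.bwd (nat_lit 3) (Steps.fwd (nat_lit 8192) (Steps.fwd (nat_lit 16384) (Steps.bwd (nat_lit 1) Steps.nil))))))))))) (nat_lit 195) (nat_lit 0),
  Rule.mk (nat_lit 0) (nat_lit 194) (Steps.bwd (nat_lit 19) (Steps.fwd (nat_lit 16384) (Steps.bwd (nat_lit 4) (Steps.fwd (nat_lit 8192) (Steps.bwd (nat_lit 2) (Steps.bwd (nat_lit 1) (Steps.bwd (nat_lit 2) (Steps.fwd (nat_lit 8192) (Steps.bwd (nat_lit 3) (Steps.fwd (nat_lit 8192) (Steps.bwd (nat_lit 3) (Steps.bwd (nat_lit 1) Steps.nil)))))))))))) (nat_lit 195) (nat_lit 11),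
  Rule.mk (nat_lit 18) (nat_lit 179) (Steps.bwd (nat_lit 1) (Steps.fwd (nat_lit 16384) (Steps.bwd (nat_lit 4) (Steps.fwd (nat_lit 8192) (Steps.bwd (nat_lit 2) (Steps.bwd (nat_lit 1) (Steps.bwd (nat_lit 2) (Steps.fwd (nat_lit 8192) (Steps.bwd (nat_lit 3) (Steps.fwd (nat_lit 8192) (Steps.bwd (nat_lit 3) Steps.nil))))))))))) (nat_lit 192) (nat_lit 1),
  Rule.mk (nat_lit 18) (nat_lit 179) (Steps.fwd (nat_lit 8192) (Steps.bwd (nat_lit 3) (Steps.fwd (nat_lit 32768) (Steps.fwd (nat_lit 8192) (Steps.fwd (nat_lit 24576) (Steps.bwd (nat_lit 1) (Steps.bwd (nat_lit 2) (Steps.fwd (nat_lit 8192) (Steps.fwd (nat_lit 16384) (Steps.bwd (nat_lit 1) (Steps.fwd (nat_lit 16384) Steps.nil))))))))))) (nat_lit 192) (nat_lit 1),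
  Rule.mk (nat_lit 19) (nat_lit 179) (Steps.bwd (nat_lit 3) (Steps.fwd (nat_lit 32768) (Steps.fwd (nat_lit 8192) (Steps.fwd (nat_lit 24576) (Steps.bwd (nat_lit 1) (Steps.bwd (nat_lit 2) (Steps.fwd (nat_lit 8192) (Steps.fwd (nat_lit 16384) (Steps.bwd (nat_lit 1) (Steps.fwd (nat_lit 16384) (Steps.fwd (nat_lit 8192) Steps.nil))))))))))) (nat_lit 195) (nat_lit 0),
  Rule.mk (nat_lit 1) (nat_lit 179) (Steps.bwd (nat_lit 19) (Steps.bwd (nat_lit 3) (Steps.bwd (nat_lit 4) (Steps.fwd (nat_lit 8192) (Steps.bwd (nat_lit 2) (Steps.bwd (nat_lit 1) (Steps.fwd (nat_lit 24576) (Steps.fwd (nat_lit 8192) (Steps.bwd (nat_lit 3) (Steps.fwd (nat_lit 8192) (Steps.fwd (nat_lit 16384) Steps.nil))))))))))) (nat_lit 195) (nat_lit 11),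
  Rule.mk (nat_lit 9) (nat_lit 89) (Steps.fwd (nat_lit 8192) (Steps.fwd (nat_lit 114688) (Steps.bwd (nat_lit 7) (Steps.fwd (nat_lit 32768) (Steps.bwd (nat_lit 1) Steps.nil))))) (nat_lit 157) (nat_lit 5),
  Rule.mk (nat_lit 6) (nat_lit 104) (Steps.fwd (nat_lit 90112) (Steps.bwd (nat_lit 12) (Steps.bwd (nat_lit 14) (Steps.bwd (nat_lit 1) (Steps.bwd (nat_lit 11) (Steps.bwd (nat_lit 1) Steps.nil)))))) (nat_lit 160) (nat_lit 4),
  Rule.mk (nat_lit 10) (nat_lit 134) (Steps.bwd (nat_lit 1) (Steps.bwd (nat_lit 4) (Steps.bwd (nat_lit 5) (Steps.fwd (nat_lit 65536) (Steps.bwd (nat_lit 9) (Steps.bwd (nat_lit 11) (Steps.fwd (nat_lit 114688) (Steps.bwd (nat_lit 1) Steps.nil)))))))) (nat_lit 158) (nat_lit 2),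
  Rule.mk (nat_lit 7) (nat_lit 164) (Steps.bwd (nat_lit 1) (Steps.bwd (nat_lit 5) (Steps.fwd (nat_lit 49152) (Steps.bwd (nat_lit 9) (Steps.fwd (nat_lit 81920) (Steps.fwd (nat_lit 90112) (Steps.bwd (nat_lit 12) (Steps.bwd (nat_lit 13) (Steps.fwd (nat_lit 114688) (Steps.bwd (nat_lit 1) Steps.nil)))))))))) (nat_lit 152) (nat_lit 2),
  Rule.mk (nat_lit 12) (nat_lit 164) (Steps.fwd (nat_lit 8192) (Steps.fwd (nat_lit 32768) (Steps.bwd (nat_lit 5) (Steps.fwd (nat_lit 65536) (Steps.fwd (nat_lit 73728) (Steps.bwd (nat_lit 10) (Steps.bwd (nat_lit 11) (Steps.bwd (nat_lit 12) (Steps.fwd (nat_lit 114688) (Steps.bwd (nat_lit 1) Steps.nil)))))))))) (nat_lit 162) (nat_lit 2),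
  Rule.mk (nat_lit 3) (nat_lit 179) (Steps.bwd (nat_lit 18) (Steps.fwd (nat_lit 8192) (Steps.bwd (nat_lit 3) (Steps.bwd (nat_lit 4) (Steps.fwd (nat_lit 8192) (Steps.fwd (nat_lit 24576) (Steps.bwd (nat_lit 1) (Steps.fwd (nat_lit 24576) (Steps.fwd (nat_lit 8192) (Steps.fwd (nat_lit 16384) (Steps.bwd (nat_lit 1) Steps.nil))))))))))) (nat_lit 192) (nat_lit 0),
  Rule.mk (nat_lit 0) (nat_lit 554) (Steps.fwd (nat_lit 8192) (Steps.fwd (nat_lit 16384) (Steps.fwd (nat_lit 8192) (Steps.bwd (nat_lit 2) (Steps.fwd (nat_lit 8192) (Steps.bwd (nat_lit 2) (Steps.fwd (nat_lit 8192) (Steps.bwd (nat_lit 3) (Steps.bwd (nat_lit 1) (Steps.fwd (nat_lit 24576) (Steps.bwd (nat_lit 1) (Steps.fwd (nat_lit 24576) (Steps.fwd (nat_lit 8192) (Steps.fwd (nat_lit 16384) (Steps.fwd (nat_lit 8192) (Steps.bwd (nat_lit 2) (Steps.bwd (nat_lit 1) (Steps.bwd (nat_lit 2) (Steps.fwd (nat_lit 8192) (Steps.fwd (nat_lit 16384) (Steps.bwd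 (nat_lit 1) (Steps.bwd (nat_lit 2) (Steps.bwd (nat_lit 1) (Steps.bwd (nat_lit 3) (Steps.fwd (nat_lit 8192) (Steps.bwd (nat_lit 3) (Steps.fwd (nat_lit 8192) (Steps.fwd (nat_lit 24576) (Steps.bwd (nat_lit 1) (Steps.fwd (nat_lit 16384) (Steps.bwd (nat_lit 1) (Steps.fwd (nat_lit 16384) (Steps.bwd (nat_lit 1) (Steps.bwd (nat_lit 2) (Steps.bwd (nat_lit 1) (Steps.bwd (nat_lit 3) Steps.nil)))))))))))))))))))))))))))))))))))) (nat_lit 12) (nat_lit 34),
  Rule.mk (nat_lit 16) (nat_lit 179) (Steps.fwd (nat_lit 8192) (Steps.bwd (nat_lit 3) (Steps.fwd (nat_lit 8192) (Steps.bwd (nat_lit 3) (Steps.bwd (nat_lit 1) (Steps.bwd (nat_lit 3) (Steps.bwd (nat_lit 1) (Steps.fwd (nat_lit 24576) (Steps.fwd (nat_lit 32768) (Steps.bwd (nat_lit 1) (Steps.bwd (nat_lit 2) Steps.nil))))))))))) (nat_lit 190) (nat_lit 1),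
  Rule.mk (nat_lit 0) (nat_lit 194) (Steps.bwd (nat_lit 15) (Steps.bwd (nat_lit 3) (Steps.fwd (nat_lit 8192) (Steps.bwd (nat_lit 4) (Steps.fwd (nat_lit 16384) (Steps.fwd (nat_lit 8192) (Steps.bwd (nat_lit 2) (Steps.bwd (nat_lit 1) (Steps.bwd (nat_lit 2) (Steps.bwd (nat_lit 1) (Steps.bwd (nat_lit 2) (Steps.fwd (nat_lit 8192) Steps.nil)))))))))))) (nat_lit 191) (nat_lit 11),
  Rule.mk (nat_lit 0) (nat_lit 194) (Steps.bwd (nat_lit 15) (Steps.bwd (nat_lit 3) (Steps.bwd (nat_lit 1) (Steps.bwd (nat_lit 4) (Steps.fwd (nat_lit 16384) (Steps.bwd (nat_lit 1) (Steps.bwd (nat_lit 2) (Steps.bwd (nat_lit 1) (Steps.bwd (nat_lit 2) (Steps.fwd (nat_lit 8192) (Steps.bwd (nat_lit 2) (Steps.bwd (nat_lit 1) Steps.nil)))))))))))) (nat_lit 191) (nat_lit 11),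
  Rule.mk (nat_lit 0) (nat_lit 194) (Steps.bwd (nat_lit 15) (Steps.bwd (nat_lit 3) (Steps.bwd (nat_lit 1) (Steps.fwd (nat_lit 32768) (Steps.fwd (nat_lit 16384) (Steps.bwd (nat_lit 1) (Steps.bwd (nat_lit 2) (Steps.fwd (nat_lit 8192) (Steps.bwd (nat_lit 2) (Steps.bwd (nat_lit 1) (Steps.fwd (nat_lit 24576) (Steps.bwd (nat_lit 1) Steps.nil)))))))))))) (nat_lit 191) (nat_lit 11),
  Rule.mk (nat_lit 0) (nat_lit 194) (Steps.bwd (nat_lit 17) (Steps.bwd (nat_lit 2) (Steps.bwd (nat_lit 1) (Steps.bwd (nat_lit 2) (Steps.bwd (nat_lit 1) (Steps.fwd (nat_lit 16384) (Steps.fwd (nat_lit 8192) (Steps.fwd (nat_lit 16384) (Steps.fwd (nat_lit 8192) (Steps.fwd (nat_lit 32768) (Steps.bwd (nat_lit 2) (Steps.fwd (nat_lit 8192) Steps.nil)))))))))))) (nat_lit 193) (nat_lit 11),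
  Rule.mk (nat_lit 18) (nat_lit 179) (Steps.bwd (nat_lit 1) (Steps.fwd (nat_lit 16384) (Steps.fwd (nat_lit 32768) (Steps.bwd (nat_lit 1) (Steps.bwd (nat_lit 2) (Steps.fwd (nat_lit 8192) (Steps.bwd (nat_lit 2) (Steps.bwd (nat_lit 1) (Steps.bwd (nat_lit 3) (Steps.fwd (nat_lit 8192) (Steps.bwd (nat_lit 3) Steps.nil))))))))))) (nat_lit 192) (nat_lit 1),
  Rule.mk (nat_lit 0) (nat_lit 194) (Steps.bwd (nat_lit 17) (Steps.bwd (nat_lit 2) (Steps.bwd (nat_lit 1) (Steps.bwd (nat_lit 2) (Steps.fwd (nat_lit 8192) (Steps.fwd (nat_lit 16384) (Steps.fwd (nat_lit 8192) (Steps.fwd (nat_lit 16384) (Steps.bwd (nat_lit 1) (Steps.bwd (nat_lit 4) (Steps.bwd (nat_lit 2) (Steps.fwd (nat_lit 8192) Steps.nil)))))))))))) (nat_lit 193) (nat_lit 11),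
  Rule.mk (nat_lit 20) (nat_lit 179) (Steps.bwd (nat_lit 1) (Steps.bwd (nat_lit 2) (Steps.bwd (nat_lit 1) (Steps.bwd (nat_lit 2) (Steps.fwd (nat_lit 8192) (Steps.fwd (nat_lit 16384) (Steps.fwd (nat_lit 8192) (Steps.fwd (nat_lit 16384) (Steps.bwd (nat_lit 1) (Steps.bwd (nat_lit 4) (Steps.bwd (nat_lit 2) Steps.nil))))))))))) (nat_lit 194) (nat_lit 1),
  Rule.mk (nat_lit 20) (nat_lit 179) (Steps.bwd (nat_lit 1) (Steps.bwd (nat_lit 2) (Steps.fwd (nat_lit 8192) (Steps.bwd (nat_lit 2) (Steps.bwd (nat_lit 1) (Steps.bwd (nat_lit 3) (Steps.fwd (nat_lit 8192) (Steps.bwd (nat_lit 3) (Steps.bwd (nat_lit 1) (Steps.fwd (nat_lit 32768) (Steps.fwd (nat_lit 24576) Steps.nil))))))))))) (nat_lit 194) (nat_lit 1),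
  Rule.mk (nat_lit 0) (nat_lit 194) (Steps.fwd (nat_lit 8192) (Steps.bwd (nat_lit 2) (Steps.bwd (nat_lit 1) (Steps.bwd (nat_lit 2) (Steps.bwd (nat_lit 1) (Steps.fwd (nat_lit 16384) (Steps.fwd (nat_lit 8192) (Steps.fwd (nat_lit 16384) (Steps.fwd (nat_lit 8192) (Steps.fwd (nat_lit 32768) (Steps.bwd (nat_lit 2) (Steps.fwd (nat_lit 155648) Steps.nil)))))))))))) (nat_lit 194) (nat_lit 1),
  Rule.mk (nat_lit 0) (nat_lit 194) (Steps.bwd (nat_lit 19) (Steps.fwd (nat_lit 16384) (Steps.fwd (nat_lit 32768) (Steps.bwd (nat_lit 1) (Steps.bwd (nat_lit 2) (Steps.fwd (nat_lit 8192) (Steps.bwd (nat_lit 2) (Steps.bwd (nat_lit 1) (Steps.bwd (nat_lit 3) (Steps.fwd (nat_lit 8192) (Steps.bwd (nat_lit 3) (Steps.bwd (nat_lit 1) Steps.nil)))))))))))) (nat_lit 195) (nat_lit 11),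
  Rule.mk (nat_lit 2) (nat_lit 179) (Steps.bwd (nat_lit 20) (Steps.bwd (nat_lit 1) (Steps.fwd (nat_lit 24576) (Steps.fwd (nat_lit 8192) (Steps.bwd (nat_lit 2) (Steps.bwd (nat_lit 1) (Steps.bwd (nat_lit 3) (Steps.bwd (nat_lit 1) (Steps.bwd (nat_lit 3) (Steps.bwd (nat_lit 1) (Steps.fwd (nat_lit 32768) Steps.nil))))))))))) (nat_lit 194) (nat_lit 0),
  Rule.mk (nat_lit 10) (nat_lit 104) (Steps.fwd (nat_lit 16384) (Steps.fwd (nat_lit 49152) (Steps.fwd (nat_lit 90112) (Steps.fwd (nat_lit 98304) (Steps.bwd (nat_lit 14) (Steps.bwd (nat_lit 2) Steps.nil)))))) (nat_lit 180) (nat_lit 2),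
  Rule.mk (nat_lit 13) (nat_lit 134) (Steps.fwd (nat_lit 16384) (Steps.bwd (nat_lit 6) (Steps.bwd (nat_lit 10) (Steps.fwd (nat_lit 90112) (Steps.bwd (nat_lit 12) (Steps.fwd (nat_lit 106496) (Steps.bwd (nat_lit 14) (Steps.bwd (nat_lit 2) Steps.nil)))))))) (nat_lit 186) (nat_lit 2),
  Rule.mk (nat_lit 6) (nat_lit 164) (Steps.bwd (nat_lit 3) (Steps.bwd (nat_lit 5) (Steps.fwd (nat_lit 49152) (Steps.bwd (nat_lit 9) (Steps.bwd (nat_lit 10) (Steps.fwd (nat_lit 90112) (Steps.bwd (nat_lit 12) (Steps.fwd (nat_lit 106496) (Steps.bwd (nat_lit 14) (Steps.bwd (nat_lit 2) Steps.nil)))))))))) (nat_lit 172) (nat_lit 2),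
  Rule.mk (nat_lit 11) (nat_lit 164) (Steps.bwd (nat_lit 3) (Steps.fwd (nat_lit 32768) (Steps.bwd (nat_lit 5) (Steps.fwd (nat_lit 65536) (Steps.bwd (nat_lit 9) (Steps.fwd (nat_lit 81920) (Steps.fwd (nat_lit 90112) (Steps.fwd (nat_lit 98304) (Steps.bwd (nat_lit 14) (Steps.bwd (nat_lit 2) Steps.nil)))))))))) (nat_lit 182) (nat_lit 2),
  Rule.mk (nat_lit 16) (nat_lit 179) (Steps.fwd (nat_lit 8192) (Steps.fwd (nat_lit 16384) (Steps.fwd (nat_lit 8192) (Steps.fwd (nat_lit 16384) (Steps.bwd (nat_lit 1) (Steps.fwd (nat_lit 16384) (Steps.fwd (nat_lit 8192) (Steps.bwd (nat_lit 2) (Steps.fwd (nat_lit 32768) (Steps.bwd (nat_lit 1) (Steps.bwd (nat_lit 2) Steps.nil))))))))))) (nat_lit 190) (nat_lit 1),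
  Rule.mk (nat_lit 1) (nat_lit 179) (Steps.bwd (nat_lit 17) (Steps.fwd (nat_lit 24576) (Steps.fwd (nat_lit 8192) (Steps.bwd (nat_lit 2) (Steps.bwd (nat_lit 1) (Steps.bwd (nat_lit 3) (Steps.bwd (nat_lit 1) (Steps.bwd (nat_lit 3) (Steps.bwd (nat_lit 1) (Steps.fwd (nat_lit 32768) (Steps.bwd (nat_lit 2) Steps.nil))))))))))) (nat_lit 193) (nat_lit 11),
  Rule.mk (nat_lit 0) (nat_lit 554) (Steps.fwd (nat_lit 16384) (Steps.fwd (nat_lit 8192) (Steps.fwd (nat_lit 24576) (Steps.bwd (nat_lit 1) (Steps.fwd (nat_lit 24576) (Steps.fwd (nat_lit 8192) (Steps.fwd (nat_lit 16384) (Steps.bwd (nat_lit 1) (Steps.fwd (nat_lit 24576) (Steps.fwd (nat_lit 8192) (Steps.bwd (nat_lit 2) (Steps.fwd (nat_lit 8192) (Steps.fwd (nat_lit 16384) (Steps.fwd (nat_lit 8192) (Steps.fwd (nat_lit 24576) (Steps.fwd (nat_lit 8192) (Steps.bwd (nat_lit 3) (Steps.bwd (nat_lit 1) (Steps.fwd (nat_lit 16384) (Steps.bwd (nat_lit 1) (Steps.bwd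 (nat_lit 2) (Steps.fwd (nat_lit 8192) (Steps.fwd (nat_lit 16384) (Steps.fwd (nat_lit 8192) (Steps.bwd (nat_lit 3) (Steps.fwd (nat_lit 8192) (Steps.bwd (nat_lit 2) (Steps.fwd (nat_lit 8192) (Steps.fwd (nat_lit 16384) (Steps.fwd (nat_lit 8192) (Steps.fwd (nat_lit 16384) (Steps.bwd (nat_lit 1) (Steps.fwd (nat_lit 24576) (Steps.bwd (nat_lit 1) (Steps.bwd (nat_lit 2) (Steps.bwd (nat_lit 1) Steps.nil)))))))))))))))))))))))))))))))))))) (nat_lit 12) (nat_lit 5),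
  Rule.mk (nat_lit 16) (nat_lit 179) (Steps.bwd (nat_lit 1) (Steps.bwd (nat_lit 3) (Steps.fwd (nat_lit 8192) (Steps.fwd (nat_lit 16384) (Steps.bwd (nat_lit 1) (Steps.bwd (nat_lit 3) (Steps.fwd (nat_lit 8192) (Steps.fwd (nat_lit 24576) (Steps.bwd (nat_lit 4) (Steps.fwd (nat_lit 8192) (Steps.fwd (nat_lit 24576) Steps.nil))))))))))) (nat_lit 190) (nat_lit 1),
  Rule.mk (nat_lit 0) (nat_lit 194) (Steps.fwd (nat_lit 8192) (Steps.fwd (nat_lit 16384) (Steps.bwd (nat_lit 1) (Steps.bwd (nat_lit 3) (Steps.fwd (nat_lit 8192) (Steps.fwd (nat_lit 16384) (Steps.fwd (nat_lit 8192) (Steps.fwd (nat_lit 24576) (Steps.bwd (nat_lit 4) (Steps.bwd (nat_lit 1) (Steps.bwd (nat_lit 2) (Steps.fwd (nat_lit 122880) Steps.nil)))))))))))) (nat_lit 190) (nat_lit 1),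
  Rule.mk (nat_lit 18) (nat_lit 179) (Steps.bwd (nat_lit 1) (Steps.fwd (nat_lit 16384) (Steps.fwd (nat_lit 32768) (Steps.bwd (nat_lit 1) (Steps.bwd (nat_lit 2) (Steps.bwd (nat_lit 1) (Steps.bwd (nat_lit 2) (Steps.fwd (nat_lit 8192) (Steps.fwd (nat_lit 16384) (Steps.bwd (nat_lit 1) (Steps.bwd (nat_lit 3) Steps.nil))))))))))) (nat_lit 192) (nat_lit 1),
  Rule.mk (nat_lit 0) (nat_lit 194) (Steps.bwd (nat_lit 18) (Steps.fwd (nat_lit 8192) (Steps.fwd (nat_lit 16384) (Steps.bwd (nat_lit 4) (Steps.fwd (nat_lit 8192) (Steps.bwd (nat_lit 2) (Steps.fwd (nat_lit 8192) (Steps.bwd (nat_lit 2) (Steps.bwd (nat_lit 1) (Steps.bwd (nat_lit 3) (Steps.fwd (nat_lit 8192) (Steps.fwd (nat_lit 16384) Steps.nil)))))))))))) (nat_lit 192) (nat_lit 0),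
  Rule.mk (nat_lit 17) (nat_lit 179) (Steps.bwd (nat_lit 2) (Steps.fwd (nat_lit 8192) (Steps.bwd (nat_lit 2) (Steps.bwd (nat_lit 1) (Steps.bwd (nat_lit 3) (Steps.fwd (nat_lit 8192) (Steps.fwd (nat_lit 16384) (Steps.fwd (nat_lit 8192) (Steps.bwd (nat_lit 4) (Steps.fwd (nat_lit 24576) (Steps.bwd (nat_lit 1) Steps.nil))))))))))) (nat_lit 193) (nat_lit 0),
  Rule.mk (nat_lit 0) (nat_lit 194) (Steps.bwd (nat_lit 20) (Steps.fwd (nat_lit 8192) (Steps.bwd (nat_lit 2) (Steps.fwd (nat_lit 8192) (Steps.bwd (nat_lit 2) (Steps.bwd (nat_lit 1) (Steps.bwd (nat_lit 3) (Steps.fwd (nat_lit 8192) (Steps.fwd (nat_lit 16384) (Steps.fwd (nat_lit 8192) (Steps.bwd (nat_lit 4) (Steps.fwd (nat_lit 24576) Steps.nil)))))))))))) (nat_lit 194) (nat_lit 0),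
  Rule.mk (nat_lit 19) (nat_lit 179) (Steps.fwd (nat_lit 16384) (Steps.fwd (nat_lit 32768) (Steps.bwd (nat_lit 1) (Steps.bwd (nat_lit 2) (Steps.bwd (nat_lit 1) (Steps.bwd (nat_lit 2) (Steps.fwd (nat_lit 8192) (Steps.fwd (nat_lit 16384) (Steps.bwd (nat_lit 1) (Steps.bwd (nat_lit 3) (Steps.fwd (nat_lit 8192) Steps.nil))))))))))) (nat_lit 195) (nat_lit 0),
  Rule.mk (nat_lit 0) (nat_lit 194) (Steps.bwd (nat_lit 19) (Steps.fwd (nat_lit 16384) (Steps.bwd (nat_lit 4) (Steps.fwd (nat_lit 8192) (Steps.bwd (nat_lit 2) (Steps.fwd (nat_lit 8192) (Steps.bwd (nat_lit 2) (Steps.bwd (nat_lit 1) (Steps.bwd (nat_lit 3) (Steps.fwd (nat_lit 8192) (Steps.fwd (nat_lit 16384) (Steps.fwd (nat_lit 8192) Steps.nil)))))))))))) (nat_lit 195) (nat_lit 11),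
  Rule.mk (nat_lit 0) (nat_lit 194) (Steps.fwd (nat_lit 24576) (Steps.bwd (nat_lit 1) (Steps.bwd (nat_lit 2) (Steps.fwd (nat_lit 8192) (Steps.fwd (nat_lit 16384) (Steps.fwd (nat_lit 8192) (Steps.bwd (nat_lit 3) (Steps.fwd (nat_lit 8192) (Steps.fwd (nat_lit 32768) (Steps.bwd (nat_lit 2) (Steps.bwd (nat_lit 1) (Steps.fwd (nat_lit 147456) Steps.nil)))))))))))) (nat_lit 193) (nat_lit 0),
  Rule.mk (nat_lit 7) (nat_lit 164) (Steps.bwd (nat_lit 1) (Steps.fwd (nat_lit 40960) (Steps.bwd (nat_lit 6) (Steps.bwd (nat_lit 9) (Steps.bwd (nat_lit 10) (Steps.bwd (nat_lit 11) (Steps.fwd (nat_lit 98304) (Steps.bwd (nat_lit 13) (Steps.bwd (nat_lit 14) (Steps.fwd (nat_lit 8192) Steps.nil)))))))))) (nat_lit 152) (nat_lit 2),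
  Rule.mk (nat_lit 12) (nat_lit 164) (Steps.bwd (nat_lit 1) (Steps.fwd (nat_lit 32768) (Steps.fwd (nat_lit 40960) (Steps.bwd (nat_lit 8) (Steps.fwd (nat_lit 73728) (Steps.bwd (nat_lit 10) (Steps.bwd (nat_lit 11) (Steps.fwd (nat_lit 98304) (Steps.bwd (nat_lit 14) (Steps.fwd (nat_lit 8192) Steps.nil)))))))))) (nat_lit 162) (nat_lit 2),
  Rule.mk (nat_lit 0) (nat_lit 194) (Steps.fwd (nat_lit 16384) (Steps.fwd (nat_lit 8192) (Steps.fwd (nat_lit 32768) (Steps.bwd (nat_lit 3) (Steps.fwd (nat_lit 8192) (Steps.fwd (nat_lit 24576) (Steps.fwd (nat_lit 8192) (Steps.bwd (nat_lit 2) (Steps.bwd (nat_lit 1) (Steps.fwd (nat_lit 24576) (Steps.bwd (nat_lit 1) (Steps.fwd (nat_lit 131072) Steps.nil)))))))))))) (nat_lit 191) (nat_lit 0)]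
noncomputable def R_117 : List (Rule) := [Rule.mk (nat_lit 16) (nat_lit 179) (Steps.bwd (nat_lit 1) (Steps.bwd (nat_lit 3) (Steps.fwd (nat_lit 8192) (Steps.fwd (nat_lit 16384) (Steps.bwd (nat_lit 1) (Steps.bwd (nat_lit 3) (Steps.fwd (nat_lit 8192) (Steps.fwd (nat_lit 24576) (Steps.bwd (nat_lit 4) (Steps.fwd (nat_lit 8192) (Steps.bwd (nat_lit 2) Steps.nil))))))))))) (nat_lit 190) (nat_lit 1),
  Rule.mk (nat_lit 18) (nat_lit 179) (Steps.bwd (nat_lit 1) (Steps.bwd (nat_lit 3) (Steps.bwd (nat_lit 4) (Steps.bwd (nat_lit 1) (Steps.bwd (nat_lit 2) (Steps.fwd (nat_lit 8192) (Steps.bwd (nat_lit 2) (Steps.fwd (nat_lit 8192) (Steps.bwd (nat_lit 3) (Steps.fwd (nat_lit 8192) (Steps.fwd (nat_lit 16384) Steps.nil))))))))))) (nat_lit 192) (nat_lit 1),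
  Rule.mk (nat_lit 20) (nat_lit 179) (Steps.bwd (nat_lit 1) (Steps.bwd (nat_lit 2) (Steps.fwd (nat_lit 8192) (Steps.bwd (nat_lit 2) (Steps.fwd (nat_lit 8192) (Steps.bwd (nat_lit 3) (Steps.fwd (nat_lit 8192) (Steps.fwd (nat_lit 16384) (Steps.bwd (nat_lit 1) (Steps.fwd (nat_lit 32768) (Steps.fwd (nat_lit 24576) Steps.nil))))))))))) (nat_lit 194) (nat_lit 1),
  Rule.mk (nat_lit 19) (nat_lit 179) (Steps.bwd (nat_lit 3) (Steps.bwd (nat_lit 4) (Steps.bwd (nat_lit 1) (Steps.bwd (nat_lit 2) (Steps.fwd (nat_lit 8192) (Steps.bwd (nat_lit 2) (Steps.fwd (nat_lit 8192) (Steps.bwd (nat_lit 3) (Steps.fwd (nat_lit 8192) (Steps.fwd (nat_lit 16384) (Steps.bwd (nat_lit 1) Steps.nil))))))))))) (nat_lit 195) (nat_lit 0),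
  Rule.mk (nat_lit 2) (nat_lit 539) (Steps.bwd (nat_lit 1) (Steps.bwd (nat_lit 3) (Steps.fwd (nat_lit 8192) (Steps.fwd (nat_lit 16384) (Steps.bwd (nat_lit 1) (Steps.fwd (nat_lit 24576) (Steps.bwd (nat_lit 1) (Steps.bwd (nat_lit 2) (Steps.bwd (nat_lit 1) (Steps.fwd (nat_lit 16384) (Steps.fwd (nat_lit 8192) (Steps.fwd (nat_lit 24576) (Steps.bwd (nat_lit 1) (Steps.fwd (nat_lit 24576) (Steps.fwd (nat_lit 8192) (Steps.fwd (nat_lit 16384) (Steps.bwd (nat_lit 1) (Steps.bwd (nat_lit 2) (Steps.fwd (nat_lit 8192) (Steps.fwd (nat_lit 24576) (Steps.bwd (nat_lit 1) (Steps.bwd (nat_lit 3) (Steps.bwd (nat_lit 1) (Steps.fwd (nat_lit 24576) (Steps.bwd (nat_lit 1) (Steps.bwd (nat_lit 3) (Steps.fwd (nat_lit 8192) (Steps.bwd (nat_lit 3) (Steps.bwd (nat_lit 1) (Steps.fwd (nat_lit 24576) (Steps.fwd (nat_lit 8192) (Steps.fwd (nat_lit 16384) (Steps.bwd (nat_lit 1) (Steps.fwd (nat_lit 16384) (Steps.bwd (nat_lit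 1) Steps.nil))))))))))))))))))))))))))))))))))) (nat_lit 12) (nat_lit 32),
  Rule.mk (nat_lit 3) (nat_lit 689) (Steps.bwd (nat_lit 1) (Steps.bwd (nat_lit 3) (Steps.fwd (nat_lit 8192) (Steps.fwd (nat_lit 16384) (Steps.bwd (nat_lit 1) (Steps.bwd (nat_lit 3) (Steps.fwd (nat_lit 8192) (Steps.bwd (nat_lit 3) (Steps.fwd (nat_lit 8192) (Steps.fwd (nat_lit 16384) (Steps.bwd (nat_lit 1) (Steps.bwd (nat_lit 3) (Steps.fwd (nat_lit 8192) (Steps.bwd (nat_lit 3) (Steps.fwd (nat_lit 8192) (Steps.fwd (nat_lit 16384) (Steps.bwd (nat_lit 1) (Steps.fwd (nat_lit 16384) (Steps.bwd (nat_lit 1) (Steps.bwd (nat_lit 3) (Steps.bwd (nat_lit 1) (Steps.fwd (nat_lit 16384) (Steps.fwd (nat_lit 8192) (Steps.bwd (nat_lit 3) (Steps.fwd (nat_lit 8192) (Steps.bwd (nat_lit 3) (Steps.bwd (nat_lit 1) (Steps.fwd (nat_lit 16384) (Steps.fwd (nat_lit 8192) (Steps.fwd (nat_lit 16384) (Steps.bwd (nat_lit 1) (Steps.bwd (nat_lit 3) (Steps.bwd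 (nat_lit 1) (Steps.fwd (nat_lit 16384) (Steps.bwd (nat_lit 1) (Steps.fwd (nat_lit 16384) (Steps.bwd (nat_lit 1) (Steps.fwd (nat_lit 16384) (Steps.fwd (nat_lit 8192) (Steps.fwd (nat_lit 16384) (Steps.bwd (nat_lit 1) (Steps.fwd (nat_lit 16384) (Steps.bwd (nat_lit 1) (Steps.fwd (nat_lit 16384) (Steps.fwd (nat_lit 8192) Steps.nil))))))))))))))))))))))))))))))))))))))))))))) (nat_lit 5) (nat_lit 1),
  Rule.mk (nat_lit 0) (nat_lit 194) (Steps.bwd (nat_lit 16) (Steps.bwd (nat_lit 1) (Steps.bwd (nat_lit 3) (Steps.bwd (nat_lit 1) (Steps.fwd (nat_lit 16384) (Steps.bwd (nat_lit 1) (Steps.fwd (nat_lit 16384) (Steps.fwd (nat_lit 8192) (Steps.fwd (nat_lit 24576) (Steps.fwd (nat_lit 32768) (Steps.fwd (nat_lit 8192) (Steps.bwd (nat_lit 2) Steps.nil)))))))))))) (nat_lit 190) (nat_lit 0),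
  Rule.mk (nat_lit 16) (nat_lit 179) (Steps.bwd (nat_lit 1) (Steps.fwd (nat_lit 16384) (Steps.bwd (nat_lit 1) (Steps.fwd (nat_lit 16384) (Steps.fwd (nat_lit 8192) (Steps.fwd (nat_lit 16384) (Steps.fwd (nat_lit 8192) (Steps.bwd (nat_lit 2) (Steps.fwd (nat_lit 32768) (Steps.bwd (nat_lit 1) (Steps.fwd (nat_lit 24576) Steps.nil))))))))))) (nat_lit 190) (nat_lit 1),
  Rule.mk (nat_lit 16) (nat_lit 179) (Steps.bwd (nat_lit 1) (Steps.fwd (nat_lit 16384) (Steps.fwd (nat_lit 8192) (Steps.fwd (nat_lit 16384) (Steps.fwd (nat_lit 8192) (Steps.fwd (nat_lit 16384) (Steps.fwd (nat_lit 8192) (Steps.fwd (nat_lit 24576) (Steps.fwd (nat_lit 32768) (Steps.bwd (nat_lit 1) (Steps.fwd (nat_lit 24576) Steps.nil))))))))))) (nat_lit 190) (nat_lit 1),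
  Rule.mk (nat_lit 0) (nat_lit 194) (Steps.bwd (nat_lit 15) (Steps.bwd (nat_lit 3) (Steps.fwd (nat_lit 8192) (Steps.fwd (nat_lit 32768) (Steps.bwd (nat_lit 3) (Steps.fwd (nat_lit 8192) (Steps.fwd (nat_lit 24576) (Steps.bwd (nat_lit 1) (Steps.bwd (nat_lit 2) (Steps.bwd (nat_lit 1) (Steps.bwd (nat_lit 2) (Steps.bwd (nat_lit 1) Steps.nil)))))))))))) (nat_lit 191) (nat_lit 11),
  Rule.mk (nat_lit 0) (nat_lit 194) (Steps.bwd (nat_lit 15) (Steps.bwd (nat_lit 3) (Steps.bwd (nat_lit 1) (Steps.fwd (nat_lit 32768) (Steps.bwd (nat_lit 3) (Steps.fwd (nat_lit 8192) (Steps.bwd (nat_lit 2) (Steps.bwd (nat_lit 1) (Steps.fwd (nat_lit 24576) (Steps.fwd (nat_lit 8192) (Steps.fwd (nat_lit 24576) (Steps.fwd (nat_lit 8192) Steps.nil)))))))))))) (nat_lit 191) (nat_lit 11),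
  Rule.mk (nat_lit 0) (nat_lit 194) (Steps.bwd (nat_lit 15) (Steps.bwd (nat_lit 3) (Steps.bwd (nat_lit 1) (Steps.bwd (nat_lit 4) (Steps.fwd (nat_lit 16384) (Steps.bwd (nat_lit 1) (Steps.fwd (nat_lit 24576) (Steps.fwd (nat_lit 8192) (Steps.fwd (nat_lit 24576) (Steps.fwd (nat_lit 8192) (Steps.bwd (nat_lit 2) (Steps.fwd (nat_lit 8192) Steps.nil)))))))))))) (nat_lit 191) (nat_lit 11),
  Rule.mk (nat_lit 15) (nat_lit 179) (Steps.bwd (nat_lit 3) (Steps.fwd (nat_lit 8192) (Steps.bwd (nat_lit 4) (Steps.fwd (nat_lit 16384) (Steps.fwd (nat_lit 8192) (Steps.fwd (nat_lit 24576) (Steps.fwd (nat_lit 8192) (Steps.bwd (nat_lit 2) (Steps.fwd (nat_lit 8192) (Steps.bwd (nat_lit 2) (Steps.fwd (nat_lit 8192) Steps.nil))))))))))) (nat_lit 191) (nat_lit 0),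
  Rule.mk (nat_lit 18) (nat_lit 179) (Steps.bwd (nat_lit 1) (Steps.bwd (nat_lit 3) (Steps.fwd (nat_lit 32768) (Steps.bwd (nat_lit 1) (Steps.fwd (nat_lit 24576) (Steps.fwd (nat_lit 8192) (Steps.bwd (nat_lit 2) (Steps.bwd (nat_lit 1) (Steps.fwd (nat_lit 16384) (Steps.fwd (nat_lit 8192) (Steps.fwd (nat_lit 16384) Steps.nil))))))))))) (nat_lit 192) (nat_lit 1),
  Rule.mk (nat_lit 18) (nat_lit 179) (Steps.bwd (nat_lit 1) (Steps.bwd (nat_lit 3) (Steps.fwd (nat_lit 32768) (Steps.fwd (nat_lit 8192) (Steps.bwd (nat_lit 2) (Steps.bwd (nat_lit 1) (Steps.fwd (nat_lit 24576) (Steps.fwd (nat_lit 8192) (Steps.fwd (nat_lit 16384) (Steps.fwd (nat_lit 8192) (Steps.fwd (nat_lit 16384) Steps.nil))))))))))) (nat_lit 192) (nat_lit 1),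
  Rule.mk (nat_lit 0) (nat_lit 194) (Steps.bwd (nat_lit 17) (Steps.fwd (nat_lit 24576) (Steps.fwd (nat_lit 8192) (Steps.fwd (nat_lit 24576) (Steps.fwd (nat_lit 8192) (Steps.bwd (nat_lit 3) (Steps.bwd (nat_lit 1) (Steps.bwd (nat_lit 3) (Steps.fwd (nat_lit 8192) (Steps.fwd (nat_lit 32768) (Steps.bwd (nat_lit 2) (Steps.fwd (nat_lit 8192) Steps.nil)))))))))))) (nat_lit 193) (nat_lit 11),
  Rule.mk (nat_lit 0) (nat_lit 194) (Steps.bwd (nat_lit 17) (Steps.fwd (nat_lit 24576) (Steps.bwd (nat_lit 1) (Steps.bwd (nat_lit 2) (Steps.bwd (nat_lit 1) (Steps.fwd (nat_lit 16384) (Steps.fwd (nat_lit 8192) (Steps.bwd (nat_lit 3) (Steps.bwd (nat_lit 1) (Steps.fwd (nat_lit 32768) (Steps.bwd (nat_lit 2) (Steps.bwd (nat_lit 1) Steps.nil)))))))))))) (nat_lit 193) (nat_lit 11),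
  Rule.mk (nat_lit 18) (nat_lit 179) (Steps.fwd (nat_lit 8192) (Steps.fwd (nat_lit 16384) (Steps.fwd (nat_lit 32768) (Steps.fwd (nat_lit 8192) (Steps.fwd (nat_lit 24576) (Steps.fwd (nat_lit 8192) (Steps.bwd (nat_lit 2) (Steps.bwd (nat_lit 1) (Steps.bwd (nat_lit 3) (Steps.bwd (nat_lit 1) (Steps.bwd (nat_lit 3) Steps.nil))))))))))) (nat_lit 192) (nat_lit 1),
  Rule.mk (nat_lit 17) (nat_lit 179) (Steps.fwd (nat_lit 24576) (Steps.fwd (nat_lit 8192) (Steps.bwd (nat_lit 2) (Steps.bwd (nat_lit 1) (Steps.fwd (nat_lit 16384) (Steps.fwd (nat_lit 8192) (Steps.fwd (nat_lit 16384) (Steps.fwd (nat_lit 8192) (Steps.bwd (nat_lit 4) (Steps.bwd (nat_lit 2) (Steps.bwd (nat_lit 1) Steps.nil))))))))))) (nat_lit 193) (nat_lit 0),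
  Rule.mk (nat_lit 17) (nat_lit 179) (Steps.bwd (nat_lit 2) (Steps.bwd (nat_lit 1) (Steps.fwd (nat_lit 24576) (Steps.fwd (nat_lit 8192) (Steps.fwd (nat_lit 16384) (Steps.fwd (nat_lit 8192) (Steps.fwd (nat_lit 16384) (Steps.fwd (nat_lit 8192) (Steps.bwd (nat_lit 4) (Steps.fwd (nat_lit 24576) (Steps.bwd (nat_lit 1) Steps.nil))))))))))) (nat_lit 193) (nat_lit 0),
  Rule.mk (nat_lit 20) (nat_lit 179) (Steps.bwd (nat_lit 1) (Steps.fwd (nat_lit 24576) (Steps.fwd (nat_lit 8192) (Steps.bwd (nat_lit 2) (Steps.bwd (nat_lit 1) (Steps.fwd (nat_lit 16384) (Steps.fwd (nat_lit 8192) (Steps.fwd (nat_lit 16384) (Steps.fwd (nat_lit 8192) (Steps.bwd (nat_lit 4) (Steps.bwd (nat_lit 2) Steps.nil))))))))))) (nat_lit 194) (nat_lit 1),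
  Rule.mk (nat_lit 20) (nat_lit 179) (Steps.fwd (nat_lit 8192) (Steps.bwd (nat_lit 2) (Steps.bwd (nat_lit 1) (Steps.fwd (nat_lit 24576) (Steps.fwd (nat_lit 8192) (Steps.fwd (nat_lit 16384) (Steps.fwd (nat_lit 8192) (Steps.fwd (nat_lit 16384) (Steps.fwd (nat_lit 8192) (Steps.bwd (nat_lit 4) (Steps.fwd (nat_lit 24576) Steps.nil))))))))))) (nat_lit 194) (nat_lit 1),
  Rule.mk (nat_lit 20) (nat_lit 179) (Steps.bwd (nat_lit 1) (Steps.fwd (nat_lit 24576) (Steps.fwd (nat_lit 8192) (Steps.fwd (nat_lit 24576) (Steps.fwd (nat_lit 8192) (Steps.bwd (nat_lit 3) (Steps.bwd (nat_lit 1) (Steps.bwd (nat_lit 3) (Steps.fwd (nat_lit 8192) (Steps.fwd (nat_lit 32768) (Steps.bwd (nat_lit 2) Steps.nil))))))))))) (nat_lit 194) (nat_lit 1),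
  Rule.mk (nat_lit 20) (nat_lit 179) (Steps.fwd (nat_lit 8192) (Steps.fwd (nat_lit 24576) (Steps.fwd (nat_lit 8192) (Steps.bwd (nat_lit 2) (Steps.fwd (nat_lit 8192) (Steps.fwd (nat_lit 16384) (Steps.fwd (nat_lit 8192) (Steps.bwd (nat_lit 3) (Steps.fwd (nat_lit 8192) (Steps.fwd (nat_lit 32768) (Steps.bwd (nat_lit 2) Steps.nil))))))))))) (nat_lit 194) (nat_lit 1),
  Rule.mk (nat_lit 19) (nat_lit 179) (Steps.bwd (nat_lit 3) (Steps.fwd (nat_lit 32768) (Steps.bwd (nat_lit 1) (Steps.fwd (nat_lit 24576) (Steps.fwd (nat_lit 8192) (Steps.bwd (nat_lit 2) (Steps.bwd (nat_lit 1) (Steps.fwd (nat_lit 16384) (Steps.fwd (nat_lit 8192) (Steps.fwd (nat_lit 16384) (Steps.fwd (nat_lit 8192) Steps.nil))))))))))) (nat_lit 195) (nat_lit 0),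
  Rule.mk (nat_lit 19) (nat_lit 179) (Steps.bwd (nat_lit 3) (Steps.fwd (nat_lit 32768) (Steps.fwd (nat_lit 8192) (Steps.bwd (nat_lit 2) (Steps.bwd (nat_lit 1) (Steps.fwd (nat_lit 24576) (Steps.fwd (nat_lit 8192) (Steps.fwd (nat_lit 16384) (Steps.fwd (nat_lit 8192) (Steps.fwd (nat_lit 16384) (Steps.fwd (nat_lit 8192) Steps.nil))))))))))) (nat_lit 195) (nat_lit 0),
  Rule.mk (nat_lit 0) (nat_lit 194) (Steps.fwd (nat_lit 16384) (Steps.bwd (nat_lit 4) (Steps.fwd (nat_lit 8192) (Steps.fwd (nat_lit 24576) (Steps.fwd (nat_lit 8192) (Steps.bwd (nat_lit 2) (Steps.fwd (nat_lit 8192) (Steps.fwd (nat_lit 16384) (Steps.fwd (nat_lit 8192) (Steps.bwd (nat_lit 3) (Steps.fwd (nat_lit 8192) (Steps.fwd (nat_lit 163840) Steps.nil)))))))))))) (nat_lit 195) (nat_lit 0),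
  Rule.mk (nat_lit 18) (nat_lit 179) (Steps.fwd (nat_lit 8192) (Steps.bwd (nat_lit 3) (Steps.fwd (nat_lit 32768) (Steps.fwd (nat_lit 8192) (Steps.bwd (nat_lit 2) (Steps.bwd (nat_lit 1) (Steps.fwd (nat_lit 24576) (Steps.bwd (nat_lit 1) (Steps.fwd (nat_lit 16384) (Steps.bwd (nat_lit 1) (Steps.bwd (nat_lit 3) Steps.nil))))))))))) (nat_lit 192) (nat_lit 1),
  Rule.mk (nat_lit 0) (nat_lit 194) (Steps.bwd (nat_lit 20) (Steps.fwd (nat_lit 8192) (Steps.fwd (nat_lit 24576) (Steps.fwd (nat_lit 8192) (Steps.bwd (nat_lit 2) (Steps.fwd (nat_lit 8192) (Steps.bwd (nat_lit 3) (Steps.fwd (nat_lit 8192) (Steps.fwd (nat_lit 16384) (Steps.bwd (nat_lit 1) (Steps.bwd (nat_lit 4) (Steps.fwd (nat_lit 24576) Steps.nil)))))))))))) (nat_lit 194) (nat_lit 0),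
  Rule.mk (nat_lit 16) (nat_lit 179) (Steps.bwd (nat_lit 1) (Steps.fwd (nat_lit 16384) (Steps.bwd (nat_lit 1) (Steps.bwd (nat_lit 3) (Steps.bwd (nat_lit 1) (Steps.fwd (nat_lit 16384) (Steps.fwd (nat_lit 8192) (Steps.bwd (nat_lit 2) (Steps.fwd (nat_lit 32768) (Steps.bwd (nat_lit 1) (Steps.bwd (nat_lit 2) Steps.nil))))))))))) (nat_lit 190) (nat_lit 1),
  Rule.mk (nat_lit 0) (nat_lit 194) (Steps.bwd (nat_lit 16) (Steps.bwd (nat_lit 1) (Steps.fwd (nat_lit 16384) (Steps.fwd (nat_lit 8192) (Steps.fwd (nat_lit 16384) (Steps.bwd (nat_lit 1) (Steps.fwd (nat_lit 16384) (Steps.bwd (nat_lit 1) (Steps.bwd (nat_lit 2) (Steps.fwd (nat_lit 32768) (Steps.fwd (nat_lit 8192) (Steps.bwd (nat_lit 2) Steps.nil)))))))))))) (nat_lit 190) (nat_lit 0),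
  Rule.mk (nat_lit 20) (nat_lit 179) (Steps.bwd (nat_lit 1) (Steps.fwd (nat_lit 24576) (Steps.fwd (nat_lit 8192) (Steps.fwd (nat_lit 24576) (Steps.fwd (nat_lit 8192) (Steps.fwd (nat_lit 16384) (Steps.bwd (nat_lit 1) (Steps.bwd (nat_lit 3) (Steps.fwd (nat_lit 8192) (Steps.bwd (nat_lit 4) (Steps.bwd (nat_lit 2) Steps.nil))))))))))) (nat_lit 194) (nat_lit 1),
  Rule.mk (nat_lit 2) (nat_lit 104) (Steps.bwd (nat_lit 12) (Steps.fwd (nat_lit 16384) (Steps.fwd (nat_lit 32768) (Steps.fwd (nat_lit 40960) (Steps.fwd (nat_lit 65536) (Steps.bwd (nat_lit 9) Steps.nil)))))) (nat_lit 184) (nat_lit 1),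
  Rule.mk (nat_lit 20) (nat_lit 179) (Steps.fwd (nat_lit 8192) (Steps.bwd (nat_lit 2) (Steps.fwd (nat_lit 8192) (Steps.bwd (nat_lit 2) (Steps.bwd (nat_lit 1) (Steps.bwd (nat_lit 3) (Steps.bwd (nat_lit 1) (Steps.bwd (nat_lit 3) (Steps.fwd (nat_lit 8192) (Steps.bwd (nat_lit 4) (Steps.bwd (nat_lit 2) Steps.nil))))))))))) (nat_lit 194) (nat_lit 1),
  Rule.mk (nat_lit 17) (nat_lit 179) (Steps.bwd (nat_lit 2) (Steps.bwd (nat_lit 1) (Steps.bwd (nat_lit 2) (Steps.fwd (nat_lit 8192) (Steps.fwd (nat_lit 16384) (Steps.fwd (nat_lit 8192) (Steps.fwd (nat_lit 16384) (Steps.bwd (nat_lit 1) (Steps.bwd (nat_lit 4) (Steps.bwd (nat_lit 2) (Steps.bwd (nat_lit 1) Steps.nil))))))))))) (nat_lit 193) (nat_lit 0),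
  Rule.mk (nat_lit 17) (nat_lit 179) (Steps.bwd (nat_lit 2) (Steps.bwd (nat_lit 1) (Steps.fwd (nat_lit 24576) (Steps.fwd (nat_lit 8192) (Steps.bwd (nat_lit 3) (Steps.bwd (nat_lit 1) (Steps.fwd (nat_lit 16384) (Steps.bwd (nat_lit 1) (Steps.fwd (nat_lit 32768) (Steps.bwd (nat_lit 2) (Steps.bwd (nat_lit 1) Steps.nil))))))))))) (nat_lit 193) (nat_lit 0),
  Rule.mk (nat_lit 20) (nat_lit 179) (Steps.fwd (nat_lit 8192) (Steps.bwd (nat_lit 2) (Steps.bwd (nat_lit 1) (Steps.bwd (nat_lit 2) (Steps.fwd (nat_lit 8192) (Steps.fwd (nat_lit 16384) (Steps.fwd (nat_lit 8192) (Steps.fwd (nat_lit 16384) (Steps.bwd (nat_lit 1) (Steps.bwd (nat_lit 4) (Steps.bwd (nat_lit 2) Steps.nil))))))))))) (nat_lit 194) (nat_lit 1),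
  Rule.mk (nat_lit 1) (nat_lit 179) (Steps.bwd (nat_lit 15) (Steps.fwd (nat_lit 16384) (Steps.bwd (nat_lit 1) (Steps.bwd (nat_lit 4) (Steps.fwd (nat_lit 16384) (Steps.fwd (nat_lit 8192) (Steps.fwd (nat_lit 24576) (Steps.fwd (nat_lit 8192) (Steps.fwd (nat_lit 24576) (Steps.bwd (nat_lit 1) (Steps.bwd (nat_lit 2) Steps.nil))))))))))) (nat_lit 191) (nat_lit 11),
  Rule.mk (nat_lit 11) (nat_lit 104) (Steps.fwd (nat_lit 8192) (Steps.bwd (nat_lit 6) (Steps.bwd (nat_lit 11) (Steps.bwd (nat_lit 12) (Steps.fwd (nat_lit 114688) (Steps.bwd (nat_lit 1) Steps.nil)))))) (nat_lit 160) (nat_lit 2),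
  Rule.mk (nat_lit 7) (nat_lit 164) (Steps.bwd (nat_lit 1) (Steps.bwd (nat_lit 5) (Steps.bwd (nat_lit 6) (Steps.bwd (nat_lit 9) (Steps.bwd (nat_lit 10) (Steps.fwd (nat_lit 90112) (Steps.fwd (nat_lit 98304) (Steps.fwd (nat_lit 106496) (Steps.fwd (nat_lit 114688) (Steps.bwd (nat_lit 1) Steps.nil)))))))))) (nat_lit 152) (nat_lit 2),
  Rule.mk (nat_lit 17) (nat_lit 179) (Steps.fwd (nat_lit 24576) (Steps.bwd (nat_lit 1) (Steps.bwd (nat_lit 2) (Steps.fwd (nat_lit 8192) (Steps.fwd (nat_lit 16384) (Steps.bwd (nat_lit 1) (Steps.bwd (nat_lit 3) (Steps.fwd (nat_lit 8192) (Steps.bwd (nat_lit 4) (Steps.bwd (nat_lit 2) (Steps.bwd (nat_lit 1) Steps.nil))))))))))) (nat_lit 193) (nat_lit 0),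
  Rule.mk (nat_lit 3) (nat_lit 539) (Steps.bwd (nat_lit 1) (Steps.bwd (nat_lit 3) (Steps.fwd (nat_lit 8192) (Steps.fwd (nat_lit 24576) (Steps.fwd (nat_lit 8192) (Steps.fwd (nat_lit 24576) (Steps.fwd (nat_lit 8192) (Steps.bwd (nat_lit 3) (Steps.fwd (nat_lit 8192) (Steps.fwd (nat_lit 24576) (Steps.bwd (nat_lit 1) (Steps.fwd (nat_lit 24576) (Steps.fwd (nat_lit 8192) (Steps.bwd (nat_lit 3) (Steps.fwd (nat_lit 8192) (Steps.fwd (nat_lit 24576) (Steps.fwd (nat_lit 8192) (Steps.bwd (nat_lit 2) (Steps.bwd (nat_lit 1) (Steps.fwd (nat_lit 16384) (Steps.fwd (nat_lit 8192) (Steps.fwd (nat_lit 24576) (Steps.fwd (nat_lit 8192) (Steps.bwd (nat_lit 3) (Steps.fwd (nat_lit 8192) (Steps.bwd (nat_lit 3) (Steps.fwd (nat_lit 8192) (Steps.bwd (nat_lit 2) (Steps.fwd (nat_lit 8192) (Steps.fwd (nat_lit 16384) (Steps.fwd (nat_lit 8192) (Steps.bwd (nat_lit 3) (Steps.bwd (nat_lit 1) (Steps.bwd (nat_lit 2) (Steps.bwd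 (nat_lit 1) Steps.nil))))))))))))))))))))))))))))))))))) (nat_lit 12) (nat_lit 34),
  Rule.mk (nat_lit 15) (nat_lit 179) (Steps.fwd (nat_lit 16384) (Steps.fwd (nat_lit 8192) (Steps.bwd (nat_lit 4) (Steps.bwd (nat_lit 3) (Steps.bwd (nat_lit 1) (Steps.bwd (nat_lit 2) (Steps.bwd (nat_lit 1) (Steps.fwd (nat_lit 24576) (Steps.fwd (nat_lit 8192) (Steps.fwd (nat_lit 24576) (Steps.fwd (nat_lit 8192) Steps.nil))))))))))) (nat_lit 191) (nat_lit 0),
  Rule.mk (nat_lit 0) (nat_lit 194) (Steps.bwd (nat_lit 17) (Steps.fwd (nat_lit 24576) (Steps.bwd (nat_lit 1) (Steps.bwd (nat_lit 2) (Steps.bwd (nat_lit 1) (Steps.bwd (nat_lit 3) (Steps.bwd (nat_lit 1) (Steps.bwd (nat_lit 3) (Steps.fwd (nat_lit 8192) (Steps.bwd (nat_lit 4) (Steps.bwd (nat_lit 2) (Steps.fwd (nat_lit 8192) Steps.nil)))))))))))) (nat_lit 193) (nat_lit 11),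
  Rule.mk (nat_lit 0) (nat_lit 194) (Steps.bwd (nat_lit 18) (Steps.bwd (nat_lit 1) (Steps.fwd (nat_lit 16384) (Steps.fwd (nat_lit 32768) (Steps.fwd (nat_lit 8192) (Steps.fwd (nat_lit 24576) (Steps.bwd (nat_lit 1) (Steps.bwd (nat_lit 2) (Steps.bwd (nat_lit 1) (Steps.bwd (nat_lit 3) (Steps.bwd (nat_lit 1) (Steps.bwd (nat_lit 3) Steps.nil)))))))))))) (nat_lit 192) (nat_lit 0),
  Rule.mk (nat_lit 0) (nat_lit 194) (Steps.bwd (nat_lit 20) (Steps.bwd (nat_lit 1) (Steps.fwd (nat_lit 24576) (Steps.fwd (nat_lit 8192) (Steps.fwd (nat_lit 24576) (Steps.fwd (nat_lit 8192) (Steps.fwd (nat_lit 16384) (Steps.fwd (nat_lit 8192) (Steps.bwd (nat_lit 3) (Steps.bwd (nat_lit 1) (Steps.bwd (nat_lit 4) (Steps.bwd (nat_lit 2) Steps.nil)))))))))))) (nat_lit 194) (nat_lit 0),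
  Rule.mk (nat_lit 0) (nat_lit 194) (Steps.bwd (nat_lit 19) (Steps.fwd (nat_lit 16384) (Steps.fwd (nat_lit 32768) (Steps.bwd (nat_lit 1) (Steps.fwd (nat_lit 24576) (Steps.fwd (nat_lit 8192) (Steps.fwd (nat_lit 24576) (Steps.fwd (nat_lit 8192) (Steps.fwd (nat_lit 16384) (Steps.fwd (nat_lit 8192) (Steps.bwd (nat_lit 3) (Steps.bwd (nat_lit 1) Steps.nil)))))))))))) (nat_lit 195) (nat_lit 11),
  Rule.mk (nat_lit 15) (nat_lit 179) (Steps.bwd (nat_lit 3) (Steps.fwd (nat_lit 8192) (Steps.fwd (nat_lit 32768) (Steps.bwd (nat_lit 3) (Steps.bwd (nat_lit 1) (Steps.bwd (nat_lit 2) (Steps.fwd (nat_lit 8192) (Steps.bwd (nat_lit 2) (Steps.fwd (nat_lit 8192) (Steps.bwd (nat_lit 2) (Steps.bwd (nat_lit 1) Steps.nil))))))))))) (nat_lit 191) (nat_lit 0),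
  Rule.mk (nat_lit 15) (nat_lit 179) (Steps.bwd (nat_lit 3) (Steps.bwd (nat_lit 1) (Steps.fwd (nat_lit 32768) (Steps.fwd (nat_lit 16384) (Steps.bwd (nat_lit 1) (Steps.fwd (nat_lit 24576) (Steps.bwd (nat_lit 1) (Steps.bwd (nat_lit 2) (Steps.bwd (nat_lit 1) (Steps.bwd (nat_lit 2) (Steps.fwd (nat_lit 8192) Steps.nil))))))))))) (nat_lit 191) (nat_lit 0),
  Rule.mk (nat_lit 16) (nat_lit 179) (Steps.bwd (nat_lit 1) (Steps.bwd (nat_lit 3) (Steps.bwd (nat_lit 1) (Steps.bwd (nat_lit 3) (Steps.fwd (nat_lit 8192) (Steps.fwd (nat_lit 16384) (Steps.fwd (nat_lit 8192) (Steps.fwd (nat_lit 24576) (Steps.bwd (nat_lit 4) (Steps.bwd (nat_lit 1) (Steps.bwd (nat_lit 2) Steps.nil))))))))))) (nat_lit 190) (nat_lit 1),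
  Rule.mk (nat_lit 0) (nat_lit 194) (Steps.bwd (nat_lit 1) (Steps.bwd (nat_lit 3) (Steps.fwd (nat_lit 8192) (Steps.fwd (nat_lit 16384) (Steps.fwd (nat_lit 8192) (Steps.bwd (nat_lit 3) (Steps.bwd (nat_lit 1) (Steps.bwd (nat_lit 2) (Steps.bwd (nat_lit 4) (Steps.fwd (nat_lit 8192) (Steps.bwd (nat_lit 2) (Steps.fwd (nat_lit 122880) Steps.nil)))))))))))) (nat_lit 190) (nat_lit 1),
  Rule.mk (nat_lit 15) (nat_lit 179) (Steps.bwd (nat_lit 3) (Steps.fwd (nat_lit 8192) (Steps.bwd (nat_lit 4) (Steps.bwd (nat_lit 3) (Steps.bwd (nat_lit 1) (Steps.fwd (nat_lit 24576) (Steps.fwd (nat_lit 8192) (Steps.bwd (nat_lit 2) (Steps.bwd (nat_lit 1) (Steps.bwd (nat_lit 2) (Steps.fwd (nat_lit 8192) Steps.nil))))))))))) (nat_lit 191) (nat_lit 0),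
  Rule.mk (nat_lit 18) (nat_lit 179) (Steps.bwd (nat_lit 1) (Steps.bwd (nat_lit 3) (Steps.fwd (nat_lit 32768) (Steps.bwd (nat_lit 1) (Steps.bwd (nat_lit 2) (Steps.bwd (nat_lit 1) (Steps.fwd (nat_lit 24576) (Steps.bwd (nat_lit 1) (Steps.bwd (nat_lit 3) (Steps.fwd (nat_lit 8192) (Steps.bwd (nat_lit 3) Steps.nil))))))))))) (nat_lit 192) (nat_lit 1),
  Rule.mk (nat_lit 0) (nat_lit 194) (Steps.bwd (nat_lit 19) (Steps.bwd (nat_lit 3) (Steps.fwd (nat_lit 32768) (Steps.bwd (nat_lit 1) (Steps.bwd (nat_lit 2) (Steps.bwd (nat_lit 1) (Steps.fwd (nat_lit 24576) (Steps.bwd (nat_lit 1) (Steps.bwd (nat_lit 3) (Steps.fwd (nat_lit 8192) (Steps.bwd (nat_lit 3) (Steps.fwd (nat_lit 8192) Steps.nil)))))))))))) (nat_lit 195) (nat_lit 11),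
  Rule.mk (nat_lit 19) (nat_lit 179) (Steps.bwd (nat_lit 3) (Steps.bwd (nat_lit 4) (Steps.bwd (nat_lit 1) (Steps.fwd (nat_lit 24576) (Steps.bwd (nat_lit 1) (Steps.bwd (nat_lit 2) (Steps.fwd (nat_lit 8192) (Steps.fwd (nat_lit 16384) (Steps.fwd (nat_lit 8192) (Steps.bwd (nat_lit 3) (Steps.fwd (nat_lit 8192) Steps.nil))))))))))) (nat_lit 195) (nat_lit 0),
  Rule.mk (nat_lit 1) (nat_lit 164) (Steps.bwd (nat_lit 7) (Steps.bwd (nat_lit 1) (Steps.bwd (nat_lit 14) (Steps.fwd (nat_lit 106496) (Steps.bwd (nat_lit 12) (Steps.fwd (nat_lit 90112) (Steps.bwd (nat_lit 10) (Steps.fwd (nat_lit 73728) (Steps.bwd (nat_lit 6) (Steps.fwd (nat_lit 40960) Steps.nil)))))))))) (nat_lit 153) (nat_lit 9),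
  Rule.mk (nat_lit 16) (nat_lit 179) (Steps.bwd (nat_lit 1) (Steps.fwd (nat_lit 16384) (Steps.bwd (nat_lit 1) (Steps.fwd (nat_lit 16384) (Steps.bwd (nat_lit 1) (Steps.fwd (nat_lit 16384) (Steps.fwd (nat_lit 8192) (Steps.bwd (nat_lit 2) (Steps.fwd (nat_lit 32768) (Steps.bwd (nat_lit 1) (Steps.fwd (nat_lit 24576) Steps.nil))))))))))) (nat_lit 190) (nat_lit 1),
  Rule.mk (nat_lit 16) (nat_lit 179) (Steps.bwd (nat_lit 1) (Steps.fwd (nat_lit 16384) (Steps.bwd (nat_lit 1) (Steps.fwd (nat_lit 16384) (Steps.fwd (nat_lit 8192) (Steps.fwd (nat_lit 16384) (Steps.bwd (nat_lit 1) (Steps.bwd (nat_lit 2) (Steps.bwd (nat_lit 4) (Steps.bwd (nat_lit 1) (Steps.bwd (nat_lit 2) Steps.nil))))))))))) (nat_lit 190) (nat_lit 1),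
  Rule.mk (nat_lit 0) (nat_lit 194) (Steps.bwd (nat_lit 18) (Steps.bwd (nat_lit 1) (Steps.fwd (nat_lit 16384) (Steps.fwd (nat_lit 32768) (Steps.fwd (nat_lit 8192) (Steps.fwd (nat_lit 24576) (Steps.bwd (nat_lit 1) (Steps.fwd (nat_lit 24576) (Steps.bwd (nat_lit 1) (Steps.fwd (nat_lit 16384) (Steps.bwd (nat_lit 1) (Steps.fwd (nat_lit 16384) Steps.nil)))))))))))) (nat_lit 192) (nat_lit 0),
  Rule.mk (nat_lit 18) (nat_lit 179) (Steps.fwd (nat_lit 8192) (Steps.bwd (nat_lit 3) (Steps.fwd (nat_lit 32768) (Steps.fwd (nat_lit 8192) (Steps.fwd (nat_lit 24576) (Steps.bwd (nat_lit 1) (Steps.fwd (nat_lit 24576) (Steps.bwd (nat_lit 1) (Steps.fwd (nat_lit 16384) (Steps.bwd (nat_lit 1) (Steps.fwd (nat_lit 16384) Steps.nil))))))))))) (nat_lit 192) (nat_lit 1),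
  Rule.mk (nat_lit 17) (nat_lit 179) (Steps.fwd (nat_lit 24576) (Steps.bwd (nat_lit 1) (Steps.fwd (nat_lit 24576) (Steps.bwd (nat_lit 1) (Steps.fwd (nat_lit 16384) (Steps.bwd (nat_lit 1) (Steps.fwd (nat_lit 16384) (Steps.bwd (nat_lit 1) (Steps.fwd (nat_lit 32768) (Steps.bwd (nat_lit 2) (Steps.bwd (nat_lit 1) Steps.nil))))))))))) (nat_lit 193) (nat_lit 0),
  Rule.mk (nat_lit 17) (nat_lit 179) (Steps.fwd (nat_lit 24576) (Steps.bwd (nat_lit 1) (Steps.fwd (nat_lit 24576) (Steps.bwd (nat_lit 1) (Steps.fwd (nat_lit 16384) (Steps.bwd (nat_lit 1) (Steps.fwd (nat_lit 16384) (Steps.fwd (nat_lit 8192) (Steps.fwd (nat_lit 32768) (Steps.bwd (nat_lit 2) (Steps.bwd (nat_lit 1) Steps.nil))))))))))) (nat_lit 193) (nat_lit 0),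
  Rule.mk (nat_lit 20) (nat_lit 179) (Steps.fwd (nat_lit 8192) (Steps.fwd (nat_lit 24576) (Steps.fwd (nat_lit 8192) (Steps.bwd (nat_lit 2) (Steps.fwd (nat_lit 8192) (Steps.bwd (nat_lit 3) (Steps.bwd (nat_lit 1) (Steps.fwd (nat_lit 16384) (Steps.bwd (nat_lit 1) (Steps.fwd (nat_lit 32768) (Steps.bwd (nat_lit 2) Steps.nil))))))))))) (nat_lit 194) (nat_lit 1),
  Rule.mk (nat_lit 20) (nat_lit 179) (Steps.fwd (nat_lit 8192) (Steps.fwd (nat_lit 24576) (Steps.bwd (nat_lit 1) (Steps.fwd (nat_lit 24576) (Steps.bwd (nat_lit 1) (Steps.fwd (nat_lit 16384) (Steps.bwd (nat_lit 1) (Steps.fwd (nat_lit 16384) (Steps.bwd (nat_lit 1) (Steps.fwd (nat_lit 32768) (Steps.bwd (nat_lit 2) Steps.nil))))))))))) (nat_lit 194) (nat_lit 1)]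
noncomputable def R_118 : List (Rule) := [Rule.mk (nat_lit 20) (nat_lit 179) (Steps.fwd (nat_lit 8192) (Steps.fwd (nat_lit 24576) (Steps.bwd (nat_lit 1) (Steps.fwd (nat_lit 24576) (Steps.bwd (nat_lit 1) (Steps.fwd (nat_lit 16384) (Steps.bwd (nat_lit 1) (Steps.fwd (nat_lit 16384) (Steps.fwd (nat_lit 8192) (Steps.fwd (nat_lit 32768) (Steps.bwd (nat_lit 2) Steps.nil))))))))))) (nat_lit 194) (nat_lit 1),
  Rule.mk (nat_lit 19) (nat_lit 179) (Steps.fwd (nat_lit 16384) (Steps.fwd (nat_lit 32768) (Steps.fwd (nat_lit 8192) (Steps.fwd (nat_lit 24576) (Steps.bwd (nat_lit 1) (Steps.fwd (nat_lit 24576) (Steps.bwd (nat_lit 1) (Steps.fwd (nat_lit 16384) (Steps.bwd (nat_lit 1) (Steps.fwd (nat_lit 16384) (Steps.bwd (nat_lit 1) Steps.nil))))))))))) (nat_lit 195) (nat_lit 0),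
  Rule.mk (nat_lit 19) (nat_lit 179) (Steps.bwd (nat_lit 3) (Steps.fwd (nat_lit 32768) (Steps.fwd (nat_lit 8192) (Steps.fwd (nat_lit 24576) (Steps.bwd (nat_lit 1) (Steps.fwd (nat_lit 24576) (Steps.bwd (nat_lit 1) (Steps.fwd (nat_lit 16384) (Steps.bwd (nat_lit 1) (Steps.fwd (nat_lit 16384) (Steps.fwd (nat_lit 8192) Steps.nil))))))))))) (nat_lit 195) (nat_lit 0),
  Rule.mk (nat_lit 2) (nat_lit 539) (Steps.bwd (nat_lit 1) (Steps.bwd (nat_lit 3) (Steps.fwd (nat_lit 8192) (Steps.fwd (nat_lit 16384) (Steps.fwd (nat_lit 8192) (Steps.bwd (nat_lit 2) (Steps.bwd (nat_lit 1) (Steps.fwd (nat_lit 16384) (Steps.fwd (nat_lit 8192) (Steps.fwd (nat_lit 16384) (Steps.fwd (nat_lit 8192) (Steps.bwd (nat_lit 2) (Steps.bwd (nat_lit 1) (Steps.fwd (nat_lit 24576) (Steps.fwd (nat_lit 8192) (Steps.fwd (nat_lit 16384) (Steps.fwd (nat_lit 8192) (Steps.fwd (nat_lit 24576) (Steps.fwd (nat_lit 8192) (Steps.bwd (nat_lit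 2) (Steps.bwd (nat_lit 1) (Steps.bwd (nat_lit 3) (Steps.bwd (nat_lit 1) (Steps.bwd (nat_lit 2) (Steps.bwd (nat_lit 1) (Steps.fwd (nat_lit 24576) (Steps.bwd (nat_lit 1) (Steps.fwd (nat_lit 16384) (Steps.fwd (nat_lit 8192) (Steps.bwd (nat_lit 2) (Steps.fwd (nat_lit 8192) (Steps.bwd (nat_lit 3) (Steps.bwd (nat_lit 1) (Steps.fwd (nat_lit 16384) (Steps.bwd (nat_lit 1) Steps.nil))))))))))))))))))))))))))))))))))) (nat_lit 12) (nat_lit 26),
  Rule.mk (nat_lit 16) (nat_lit 179) (Steps.fwd (nat_lit 8192) (Steps.bwd (nat_lit 3) (Steps.fwd (nat_lit 8192) (Steps.fwd (nat_lit 16384) (Steps.fwd (nat_lit 8192) (Steps.bwd (nat_lit 3) (Steps.fwd (nat_lit 8192) (Steps.fwd (nat_lit 24576) (Steps.bwd (nat_lit 4) (Steps.fwd (nat_lit 8192) (Steps.fwd (nat_lit 24576) Steps.nil))))))))))) (nat_lit 190) (nat_lit 1),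
  Rule.mk (nat_lit 16) (nat_lit 179) (Steps.fwd (nat_lit 8192) (Steps.fwd (nat_lit 16384) (Steps.fwd (nat_lit 8192) (Steps.bwd (nat_lit 3) (Steps.fwd (nat_lit 8192) (Steps.bwd (nat_lit 3) (Steps.bwd (nat_lit 1) (Steps.fwd (nat_lit 24576) (Steps.fwd (nat_lit 32768) (Steps.bwd (nat_lit 1) (Steps.bwd (nat_lit 2) Steps.nil))))))))))) (nat_lit 190) (nat_lit 1),
  Rule.mk (nat_lit 0) (nat_lit 194) (Steps.bwd (nat_lit 16) (Steps.fwd (nat_lit 8192) (Steps.fwd (nat_lit 16384) (Steps.fwd (nat_lit 8192) (Steps.bwd (nat_lit 3) (Steps.bwd (nat_lit 1) (Steps.fwd (nat_lit 16384) (Steps.bwd (nat_lit 1) (Steps.bwd (nat_lit 2) (Steps.bwd (nat_lit 4) (Steps.bwd (nat_lit 1) (Steps.bwd (nat_lit 2) Steps.nil)))))))))))) (nat_lit 190) (nat_lit 0),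
  Rule.mk (nat_lit 0) (nat_lit 194) (Steps.bwd (nat_lit 17) (Steps.bwd (nat_lit 2) (Steps.bwd (nat_lit 1) (Steps.bwd (nat_lit 2) (Steps.fwd (nat_lit 8192) (Steps.bwd (nat_lit 3) (Steps.fwd (nat_lit 8192) (Steps.fwd (nat_lit 16384) (Steps.fwd (nat_lit 8192) (Steps.bwd (nat_lit 4) (Steps.fwd (nat_lit 24576) (Steps.fwd (nat_lit 8192) Steps.nil)))))))))))) (nat_lit 193) (nat_lit 11),
  Rule.mk (nat_lit 17) (nat_lit 179) (Steps.bwd (nat_lit 2) (Steps.bwd (nat_lit 1) (Steps.fwd (nat_lit 24576) (Steps.fwd (nat_lit 8192) (Steps.fwd (nat_lit 16384) (Steps.fwd (nat_lit 8192) (Steps.bwd (nat_lit 3) (Steps.fwd (nat_lit 8192) (Steps.bwd (nat_lit 4) (Steps.fwd (nat_lit 24576) (Steps.fwd (nat_lit 8192) Steps.nil))))))))))) (nat_lit 193) (nat_lit 0),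
  Rule.mk (nat_lit 0) (nat_lit 194) (Steps.bwd (nat_lit 3) (Steps.fwd (nat_lit 32768) (Steps.bwd (nat_lit 1) (Steps.bwd (nat_lit 2) (Steps.bwd (nat_lit 1) (Steps.fwd (nat_lit 24576) (Steps.bwd (nat_lit 1) (Steps.fwd (nat_lit 16384) (Steps.fwd (nat_lit 8192) (Steps.fwd (nat_lit 16384) (Steps.bwd (nat_lit 1) (Steps.fwd (nat_lit 163840) Steps.nil)))))))))))) (nat_lit 195) (nat_lit 0),
  Rule.mk (nat_lit 0) (nat_lit 194) (Steps.bwd (nat_lit 19) (Steps.bwd (nat_lit 3) (Steps.fwd (nat_lit 32768) (Steps.bwd (nat_lit 1) (Steps.fwd (nat_lit 24576) (Steps.bwd (nat_lit 1) (Steps.bwd (nat_lit 2) (Steps.bwd (nat_lit 1) (Steps.bwd (nat_lit 3) (Steps.fwd (nat_lit 8192) (Steps.fwd (nat_lit 16384) (Steps.fwd (nat_lit 8192) Steps.nil)))))))))))) (nat_lit 195) (nat_lit 11),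
  Rule.mk (nat_lit 19) (nat_lit 179) (Steps.fwd (nat_lit 16384) (Steps.fwd (nat_lit 32768) (Steps.bwd (nat_lit 1) (Steps.bwd (nat_lit 2) (Steps.bwd (nat_lit 1) (Steps.fwd (nat_lit 24576) (Steps.fwd (nat_lit 8192) (Steps.fwd (nat_lit 16384) (Steps.fwd (nat_lit 8192) (Steps.bwd (nat_lit 3) (Steps.fwd (nat_lit 8192) Steps.nil))))))))))) (nat_lit 195) (nat_lit 0),
  Rule.mk (nat_lit 17) (nat_lit 179) (Steps.bwd (nat_lit 2) (Steps.bwd (nat_lit 1) (Steps.fwd (nat_lit 24576) (Steps.fwd (nat_lit 8192) (Steps.fwd (nat_lit 16384) (Steps.bwd (nat_lit 1) (Steps.bwd (nat_lit 3) (Steps.fwd (nat_lit 8192) (Steps.bwd (nat_lit 4) (Steps.bwd (nat_lit 2) (Steps.bwd (nat_lit 1) Steps.nil))))))))))) (nat_lit 193) (nat_lit 0),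
  Rule.mk (nat_lit 20) (nat_lit 179) (Steps.bwd (nat_lit 1) (Steps.bwd (nat_lit 2) (Steps.bwd (nat_lit 1) (Steps.fwd (nat_lit 24576) (Steps.fwd (nat_lit 8192) (Steps.fwd (nat_lit 16384) (Steps.bwd (nat_lit 1) (Steps.bwd (nat_lit 3) (Steps.fwd (nat_lit 8192) (Steps.bwd (nat_lit 4) (Steps.bwd (nat_lit 2) Steps.nil))))))))))) (nat_lit 194) (nat_lit 1),
  Rule.mk (nat_lit 0) (nat_lit 194) (Steps.bwd (nat_lit 3) (Steps.fwd (nat_lit 8192) (Steps.bwd (nat_lit 4) (Steps.fwd (nat_lit 16384) (Steps.bwd (nat_lit 1) (Steps.fwd (nat_lit 24576) (Steps.bwd (nat_lit 1) (Steps.bwd (nat_lit 2) (Steps.fwd (nat_lit 8192) (Steps.fwd (nat_lit 24576) (Steps.bwd (nat_lit 1) (Steps.fwd (nat_lit 131072) Steps.nil)))))))))))) (nat_lit 191) (nat_lit 0),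
  Rule.mk (nat_lit 7) (nat_lit 104) (Steps.fwd (nat_lit 16384) (Steps.fwd (nat_lit 40960) (Steps.fwd (nat_lit 57344) (Steps.bwd (nat_lit 13) (Steps.fwd (nat_lit 114688) (Steps.bwd (nat_lit 2) Steps.nil)))))) (nat_lit 174) (nat_lit 2),
  Rule.mk (nat_lit 10) (nat_lit 104) (Steps.fwd (nat_lit 16384) (Steps.bwd (nat_lit 6) (Steps.fwd (nat_lit 90112) (Steps.bwd (nat_lit 12) (Steps.fwd (nat_lit 114688) (Steps.bwd (nat_lit 2) Steps.nil)))))) (nat_lit 180) (nat_lit 2),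
  Rule.mk (nat_lit 14) (nat_lit 119) (Steps.fwd (nat_lit 16384) (Steps.bwd (nat_lit 5) (Steps.fwd (nat_lit 49152) (Steps.fwd (nat_lit 57344) (Steps.bwd (nat_lit 12) (Steps.fwd (nat_lit 114688) (Steps.bwd (nat_lit 2) Steps.nil))))))) (nat_lit 188) (nat_lit 2),
  Rule.mk (nat_lit 5) (nat_lit 149) (Steps.fwd (nat_lit 16384) (Steps.bwd (nat_lit 4) (Steps.fwd (nat_lit 40960) (Steps.fwd (nat_lit 65536) (Steps.fwd (nat_lit 73728) (Steps.fwd (nat_lit 98304) (Steps.bwd (nat_lit 13) (Steps.fwd (nat_lit 114688) (Steps.bwd (nat_lit 2) Steps.nil))))))))) (nat_lit 170) (nat_lit 2),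
  Rule.mk (nat_lit 6) (nat_lit 164) (Steps.fwd (nat_lit 16384) (Steps.fwd (nat_lit 40960) (Steps.bwd (nat_lit 6) (Steps.bwd (nat_lit 9) (Steps.fwd (nat_lit 81920) (Steps.fwd (nat_lit 90112) (Steps.fwd (nat_lit 98304) (Steps.bwd (nat_lit 13) (Steps.fwd (nat_lit 114688) (Steps.bwd (nat_lit 2) Steps.nil)))))))))) (nat_lit 172) (nat_lit 2),
  Rule.mk (nat_lit 11) (nat_lit 164) (Steps.fwd (nat_lit 16384) (Steps.bwd (nat_lit 4) (Steps.bwd (nat_lit 5) (Steps.fwd (nat_lit 65536) (Steps.bwd (nat_lit 9) (Steps.fwd (nat_lit 81920) (Steps.fwd (nat_lit 90112) (Steps.bwd (nat_lit 12) (Steps.fwd (nat_lit 114688) (Steps.bwd (nat_lit 2) Steps.nil)))))))))) (nat_lit 182) (nat_lit 2),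
  Rule.mk (nat_lit 16) (nat_lit 179) (Steps.fwd (nat_lit 8192) (Steps.bwd (nat_lit 3) (Steps.fwd (nat_lit 8192) (Steps.fwd (nat_lit 16384) (Steps.bwd (nat_lit 1) (Steps.fwd (nat_lit 16384) (Steps.bwd (nat_lit 1) (Steps.bwd (nat_lit 2) (Steps.bwd (nat_lit 4) (Steps.fwd (nat_lit 8192) (Steps.bwd (nat_lit 2) Steps.nil))))))))))) (nat_lit 190) (nat_lit 1),
  Rule.mk (nat_lit 1) (nat_lit 539) (Steps.fwd (nat_lit 16384) (Steps.fwd (nat_lit 8192) (Steps.bwd (nat_lit 3) (Steps.fwd (nat_lit 8192) (Steps.bwd (nat_lit 2) (Steps.fwd (nat_lit 8192) (Steps.bwd (nat_lit 3) (Steps.fwd (nat_lit 8192) (Steps.fwd (nat_lit 16384) (Steps.bwd (nat_lit 1) (Steps.bwd (nat_lit 2) (Steps.bwd (nat_lit 1) (Steps.bwd (nat_lit 2) (Steps.bwd (nat_lit 1) (Steps.fwd (nat_lit 16384) (Steps.bwd (nat_lit 1) (Steps.bwd (nat_lit 2) (Steps.fwd (nat_lit 8192) (Steps.fwd (nat_lit 24576) (Steps.bwd (nat_lit 1) (Steps.fwd (nat_lit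 16384) (Steps.fwd (nat_lit 8192) (Steps.bwd (nat_lit 2) (Steps.fwd (nat_lit 8192) (Steps.bwd (nat_lit 2) (Steps.bwd (nat_lit 1) (Steps.bwd (nat_lit 3) (Steps.fwd (nat_lit 8192) (Steps.bwd (nat_lit 2) (Steps.fwd (nat_lit 8192) (Steps.bwd (nat_lit 3) (Steps.bwd (nat_lit 1) (Steps.bwd (nat_lit 3) (Steps.fwd (nat_lit 8192) (Steps.bwd (nat_lit 2) Steps.nil))))))))))))))))))))))))))))))))))) (nat_lit 12) (nat_lit 27),
  Rule.mk (nat_lit 16) (nat_lit 179) (Steps.bwd (nat_lit 1) (Steps.fwd (nat_lit 16384) (Steps.fwd (nat_lit 8192) (Steps.bwd (nat_lit 3) (Steps.fwd (nat_lit 8192) (Steps.fwd (nat_lit 16384) (Steps.bwd (nat_lit 1) (Steps.bwd (nat_lit 2) (Steps.fwd (nat_lit 32768) (Steps.fwd (nat_lit 8192) (Steps.fwd (nat_lit 24576) Steps.nil))))))))))) (nat_lit 190) (nat_lit 1),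
  Rule.mk (nat_lit 0) (nat_lit 194) (Steps.bwd (nat_lit 16) (Steps.fwd (nat_lit 8192) (Steps.bwd (nat_lit 3) (Steps.fwd (nat_lit 8192) (Steps.fwd (nat_lit 16384) (Steps.bwd (nat_lit 1) (Steps.fwd (nat_lit 16384) (Steps.fwd (nat_lit 8192) (Steps.bwd (nat_lit 2) (Steps.fwd (nat_lit 32768) (Steps.fwd (nat_lit 8192) (Steps.bwd (nat_lit 2) Steps.nil)))))))))))) (nat_lit 190) (nat_lit 0),
  Rule.mk (nat_lit 16) (nat_lit 179) (Steps.fwd (nat_lit 8192) (Steps.fwd (nat_lit 16384) (Steps.bwd (nat_lit 1) (Steps.fwd (nat_lit 16384) (Steps.fwd (nat_lit 8192) (Steps.bwd (nat_lit 3) (Steps.fwd (nat_lit 8192) (Steps.bwd (nat_lit 2) (Steps.bwd (nat_lit 4) (Steps.fwd (nat_lit 8192) (Steps.bwd (nat_lit 2) Steps.nil))))))))))) (nat_lit 190) (nat_lit 1),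
  Rule.mk (nat_lit 16) (nat_lit 179) (Steps.bwd (nat_lit 1) (Steps.fwd (nat_lit 16384) (Steps.fwd (nat_lit 8192) (Steps.bwd (nat_lit 3) (Steps.fwd (nat_lit 8192) (Steps.fwd (nat_lit 16384) (Steps.fwd (nat_lit 8192) (Steps.fwd (nat_lit 24576) (Steps.fwd (nat_lit 32768) (Steps.bwd (nat_lit 1) (Steps.fwd (nat_lit 24576) Steps.nil))))))))))) (nat_lit 190) (nat_lit 1),
  Rule.mk (nat_lit 0) (nat_lit 194) (Steps.bwd (nat_lit 16) (Steps.bwd (nat_lit 1) (Steps.bwd (nat_lit 3) (Steps.bwd (nat_lit 1) (Steps.fwd (nat_lit 16384) (Steps.fwd (nat_lit 8192) (Steps.fwd (nat_lit 16384) (Steps.bwd (nat_lit 1) (Steps.fwd (nat_lit 24576) (Steps.bwd (nat_lit 4) (Steps.fwd (nat_lit 8192) (Steps.fwd (nat_lit 24576) Steps.nil)))))))))))) (nat_lit 190) (nat_lit 0),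
  Rule.mk (nat_lit 15) (nat_lit 179) (Steps.bwd (nat_lit 3) (Steps.fwd (nat_lit 8192) (Steps.bwd (nat_lit 4) (Steps.fwd (nat_lit 16384) (Steps.bwd (nat_lit 1) (Steps.bwd (nat_lit 2) (Steps.fwd (nat_lit 8192) (Steps.fwd (nat_lit 24576) (Steps.fwd (nat_lit 8192) (Steps.fwd (nat_lit 24576) (Steps.fwd (nat_lit 8192) Steps.nil))))))))))) (nat_lit 191) (nat_lit 0),
  Rule.mk (nat_lit 0) (nat_lit 194) (Steps.bwd (nat_lit 16) (Steps.bwd (nat_lit 1) (Steps.fwd (nat_lit 16384) (Steps.bwd (nat_lit 1) (Steps.bwd (nat_lit 3) (Steps.bwd (nat_lit 1) (Steps.fwd (nat_lit 16384) (Steps.fwd (nat_lit 8192) (Steps.bwd (nat_lit 2) (Steps.fwd (nat_lit 32768) (Steps.fwd (nat_lit 8192) (Steps.bwd (nat_lit 2) Steps.nil)))))))))))) (nat_lit 190) (nat_lit 0),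
  Rule.mk (nat_lit 18) (nat_lit 179) (Steps.bwd (nat_lit 1) (Steps.fwd (nat_lit 16384) (Steps.bwd (nat_lit 4) (Steps.bwd (nat_lit 1) (Steps.fwd (nat_lit 24576) (Steps.fwd (nat_lit 8192) (Steps.bwd (nat_lit 2) (Steps.fwd (nat_lit 8192) (Steps.fwd (nat_lit 16384) (Steps.bwd (nat_lit 1) (Steps.fwd (nat_lit 16384) Steps.nil))))))))))) (nat_lit 192) (nat_lit 1),
  Rule.mk (nat_lit 18) (nat_lit 179) (Steps.fwd (nat_lit 8192) (Steps.bwd (nat_lit 3) (Steps.bwd (nat_lit 4) (Steps.fwd (nat_lit 8192) (Steps.bwd (nat_lit 2) (Steps.fwd (nat_lit 8192) (Steps.bwd (nat_lit 2) (Steps.bwd (nat_lit 1) (Steps.fwd (nat_lit 16384) (Steps.fwd (nat_lit 8192) (Steps.bwd (nat_lit 3) Steps.nil))))))))))) (nat_lit 192) (nat_lit 1),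
  Rule.mk (nat_lit 0) (nat_lit 194) (Steps.bwd (nat_lit 2) (Steps.fwd (nat_lit 8192) (Steps.fwd (nat_lit 24576) (Steps.bwd (nat_lit 1) (Steps.fwd (nat_lit 16384) (Steps.fwd (nat_lit 8192) (Steps.fwd (nat_lit 16384) (Steps.bwd (nat_lit 1) (Steps.fwd (nat_lit 32768) (Steps.bwd (nat_lit 2) (Steps.fwd (nat_lit 8192) (Steps.fwd (nat_lit 147456) Steps.nil)))))))))))) (nat_lit 193) (nat_lit 0),
  Rule.mk (nat_lit 17) (nat_lit 179) (Steps.fwd (nat_lit 24576) (Steps.bwd (nat_lit 1) (Steps.fwd (nat_lit 24576) (Steps.fwd (nat_lit 8192) (Steps.bwd (nat_lit 3) (Steps.fwd (nat_lit 8192) (Steps.fwd (nat_lit 16384) (Steps.bwd (nat_lit 1) (Steps.bwd (nat_lit 4) (Steps.fwd (nat_lit 24576) (Steps.fwd (nat_lit 8192) Steps.nil))))))))))) (nat_lit 193) (nat_lit 0),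
  Rule.mk (nat_lit 17) (nat_lit 179) (Steps.fwd (nat_lit 24576) (Steps.fwd (nat_lit 8192) (Steps.bwd (nat_lit 2) (Steps.fwd (nat_lit 8192) (Steps.fwd (nat_lit 16384) (Steps.bwd (nat_lit 1) (Steps.fwd (nat_lit 16384) (Steps.fwd (nat_lit 8192) (Steps.fwd (nat_lit 32768) (Steps.bwd (nat_lit 2) (Steps.fwd (nat_lit 8192) Steps.nil))))))))))) (nat_lit 193) (nat_lit 0),
  Rule.mk (nat_lit 0) (nat_lit 194) (Steps.bwd (nat_lit 17) (Steps.bwd (nat_lit 2) (Steps.fwd (nat_lit 8192) (Steps.bwd (nat_lit 2) (Steps.bwd (nat_lit 1) (Steps.fwd (nat_lit 16384) (Steps.fwd (nat_lit 8192) (Steps.bwd (nat_lit 3) (Steps.fwd (nat_lit 8192) (Steps.bwd (nat_lit 4) (Steps.bwd (nat_lit 2) (Steps.fwd (nat_lit 8192) Steps.nil)))))))))))) (nat_lit 193) (nat_lit 11),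
  Rule.mk (nat_lit 17) (nat_lit 179) (Steps.bwd (nat_lit 2) (Steps.bwd (nat_lit 1) (Steps.bwd (nat_lit 2) (Steps.fwd (nat_lit 8192) (Steps.bwd (nat_lit 3) (Steps.bwd (nat_lit 1) (Steps.bwd (nat_lit 3) (Steps.fwd (nat_lit 8192) (Steps.fwd (nat_lit 32768) (Steps.bwd (nat_lit 2) (Steps.fwd (nat_lit 8192) Steps.nil))))))))))) (nat_lit 193) (nat_lit 0),
  Rule.mk (nat_lit 0) (nat_lit 194) (Steps.bwd (nat_lit 20) (Steps.bwd (nat_lit 1) (Steps.fwd (nat_lit 24576) (Steps.bwd (nat_lit 1) (Steps.fwd (nat_lit 24576) (Steps.fwd (nat_lit 8192) (Steps.bwd (nat_lit 3) (Steps.fwd (nat_lit 8192) (Steps.fwd (nat_lit 16384) (Steps.bwd (nat_lit 1) (Steps.bwd (nat_lit 4) (Steps.fwd (nat_lit 24576) Steps.nil)))))))))))) (nat_lit 194) (nat_lit 0),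
  Rule.mk (nat_lit 20) (nat_lit 179) (Steps.bwd (nat_lit 1) (Steps.fwd (nat_lit 24576) (Steps.fwd (nat_lit 8192) (Steps.bwd (nat_lit 2) (Steps.fwd (nat_lit 8192) (Steps.fwd (nat_lit 16384) (Steps.bwd (nat_lit 1) (Steps.fwd (nat_lit 16384) (Steps.fwd (nat_lit 8192) (Steps.fwd (nat_lit 32768) (Steps.bwd (nat_lit 2) Steps.nil))))))))))) (nat_lit 194) (nat_lit 1),
  Rule.mk (nat_lit 20) (nat_lit 179) (Steps.fwd (nat_lit 8192) (Steps.bwd (nat_lit 2) (Steps.fwd (nat_lit 8192) (Steps.bwd (nat_lit 2) (Steps.bwd (nat_lit 1) (Steps.fwd (nat_lit 16384) (Steps.fwd (nat_lit 8192) (Steps.bwd (nat_lit 3) (Steps.fwd (nat_lit 8192) (Steps.bwd (nat_lit 4) (Steps.bwd (nat_lit 2) Steps.nil))))))))))) (nat_lit 194) (nat_lit 1),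
  Rule.mk (nat_lit 0) (nat_lit 194) (Steps.fwd (nat_lit 8192) (Steps.bwd (nat_lit 2) (Steps.bwd (nat_lit 1) (Steps.bwd (nat_lit 2) (Steps.fwd (nat_lit 8192) (Steps.bwd (nat_lit 3) (Steps.bwd (nat_lit 1) (Steps.bwd (nat_lit 3) (Steps.fwd (nat_lit 8192) (Steps.fwd (nat_lit 32768) (Steps.bwd (nat_lit 2) (Steps.fwd (nat_lit 155648) Steps.nil)))))))))))) (nat_lit 194) (nat_lit 1),
  Rule.mk (nat_lit 19) (nat_lit 179) (Steps.fwd (nat_lit 16384) (Steps.bwd (nat_lit 4) (Steps.bwd (nat_lit 1) (Steps.fwd (nat_lit 24576) (Steps.fwd (nat_lit 8192) (Steps.bwd (nat_lit 2) (Steps.fwd (nat_lit 8192) (Steps.fwd (nat_lit 16384) (Steps.bwd (nat_lit 1) (Steps.fwd (nat_lit 16384) (Steps.fwd (nat_lit 8192) Steps.nil))))))))))) (nat_lit 195) (nat_lit 0),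
  Rule.mk (nat_lit 19) (nat_lit 179) (Steps.bwd (nat_lit 3) (Steps.bwd (nat_lit 4) (Steps.fwd (nat_lit 8192) (Steps.bwd (nat_lit 2) (Steps.fwd (nat_lit 8192) (Steps.bwd (nat_lit 2) (Steps.bwd (nat_lit 1) (Steps.fwd (nat_lit 16384) (Steps.fwd (nat_lit 8192) (Steps.bwd (nat_lit 3) (Steps.fwd (nat_lit 8192) Steps.nil))))))))))) (nat_lit 195) (nat_lit 0),
  Rule.mk (nat_lit 0) (nat_lit 194) (Steps.bwd (nat_lit 19) (Steps.fwd (nat_lit 16384) (Steps.bwd (nat_lit 4) (Steps.fwd (nat_lit 8192) (Steps.bwd (nat_lit 2) (Steps.bwd (nat_lit 1) (Steps.bwd (nat_lit 2) (Steps.fwd (nat_lit 8192) (Steps.bwd (nat_lit 3) (Steps.bwd (nat_lit 1) (Steps.bwd (nat_lit 3) (Steps.fwd (nat_lit 8192) Steps.nil)))))))))))) (nat_lit 195) (nat_lit 11),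
  Rule.mk (nat_lit 17) (nat_lit 179) (Steps.bwd (nat_lit 2) (Steps.bwd (nat_lit 1) (Steps.fwd (nat_lit 24576) (Steps.bwd (nat_lit 1) (Steps.bwd (nat_lit 3) (Steps.fwd (nat_lit 8192) (Steps.bwd (nat_lit 3) (Steps.fwd (nat_lit 8192) (Steps.fwd (nat_lit 32768) (Steps.fwd (nat_lit 24576) (Steps.bwd (nat_lit 1) Steps.nil))))))))))) (nat_lit 193) (nat_lit 0),
  Rule.mk (nat_lit 10) (nat_lit 134) (Steps.bwd (nat_lit 1) (Steps.bwd (nat_lit 4) (Steps.fwd (nat_lit 40960) (Steps.bwd (nat_lit 8) (Steps.fwd (nat_lit 73728) (Steps.fwd (nat_lit 90112) (Steps.bwd (nat_lit 14) (Steps.fwd (nat_lit 8192) Steps.nil)))))))) (nat_lit 158) (nat_lit 2),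
  Rule.mk (nat_lit 16) (nat_lit 179) (Steps.bwd (nat_lit 1) (Steps.fwd (nat_lit 16384) (Steps.fwd (nat_lit 8192) (Steps.bwd (nat_lit 3) (Steps.bwd (nat_lit 1) (Steps.bwd (nat_lit 3) (Steps.bwd (nat_lit 1) (Steps.bwd (nat_lit 2) (Steps.fwd (nat_lit 32768) (Steps.bwd (nat_lit 1) (Steps.bwd (nat_lit 2) Steps.nil))))))))))) (nat_lit 190) (nat_lit 1),
  Rule.mk (nat_lit 3) (nat_lit 179) (Steps.bwd (nat_lit 1) (Steps.bwd (nat_lit 4) (Steps.fwd (nat_lit 16384) (Steps.fwd (nat_lit 8192) (Steps.bwd (nat_lit 2) (Steps.bwd (nat_lit 1) (Steps.bwd (nat_lit 2) (Steps.fwd (nat_lit 8192) (Steps.bwd (nat_lit 2) (Steps.bwd (nat_lit 1) (Steps.fwd (nat_lit 131072) Steps.nil))))))))))) (nat_lit 191) (nat_lit 1),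
  Rule.mk (nat_lit 18) (nat_lit 179) (Steps.bwd (nat_lit 1) (Steps.fwd (nat_lit 16384) (Steps.bwd (nat_lit 4) (Steps.bwd (nat_lit 1) (Steps.fwd (nat_lit 24576) (Steps.bwd (nat_lit 1) (Steps.bwd (nat_lit 2) (Steps.fwd (nat_lit 8192) (Steps.bwd (nat_lit 3) (Steps.bwd (nat_lit 1) (Steps.fwd (nat_lit 16384) Steps.nil))))))))))) (nat_lit 192) (nat_lit 1),
  Rule.mk (nat_lit 20) (nat_lit 179) (Steps.bwd (nat_lit 1) (Steps.fwd (nat_lit 24576) (Steps.bwd (nat_lit 1) (Steps.bwd (nat_lit 2) (Steps.fwd (nat_lit 8192) (Steps.bwd (nat_lit 3) (Steps.bwd (nat_lit 1) (Steps.fwd (nat_lit 16384) (Steps.fwd (nat_lit 8192) (Steps.fwd (nat_lit 32768) (Steps.fwd (nat_lit 24576) Steps.nil))))))))))) (nat_lit 194) (nat_lit 1),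
  Rule.mk (nat_lit 0) (nat_lit 194) (Steps.bwd (nat_lit 20) (Steps.bwd (nat_lit 1) (Steps.bwd (nat_lit 2) (Steps.fwd (nat_lit 8192) (Steps.fwd (nat_lit 24576) (Steps.bwd (nat_lit 1) (Steps.fwd (nat_lit 16384) (Steps.fwd (nat_lit 8192) (Steps.bwd (nat_lit 3) (Steps.fwd (nat_lit 8192) (Steps.fwd (nat_lit 32768) (Steps.bwd (nat_lit 2) Steps.nil)))))))))))) (nat_lit 194) (nat_lit 0),
  Rule.mk (nat_lit 0) (nat_lit 554) (Steps.fwd (nat_lit 8192) (Steps.fwd (nat_lit 16384) (Steps.fwd (nat_lit 8192) (Steps.bwd (nat_lit 2) (Steps.bwd (nat_lit 1) (Steps.fwd (nat_lit 24576) (Steps.fwd (nat_lit 8192) (Steps.bwd (nat_lit 3) (Steps.fwd (nat_lit 8192) (Steps.bwd (nat_lit 2) (Steps.fwd (nat_lit 8192) (Steps.fwd (nat_lit 16384) (Steps.bwd (nat_lit 1) (Steps.fwd (nat_lit 16384) (Steps.bwd (nat_lit 1) (Steps.fwd (nat_lit 24576) (Steps.fwd (nat_lit 8192) (Steps.fwd (nat_lit 16384) (Steps.fwd (nat_lit 8192)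 (Steps.bwd (nat_lit 3) (Steps.bwd (nat_lit 1) (Steps.fwd (nat_lit 24576) (Steps.bwd (nat_lit 1) (Steps.fwd (nat_lit 16384) (Steps.bwd (nat_lit 1) (Steps.fwd (nat_lit 16384) (Steps.fwd (nat_lit 8192) (Steps.bwd (nat_lit 2) (Steps.fwd (nat_lit 8192) (Steps.fwd (nat_lit 24576) (Steps.fwd (nat_lit 8192) (Steps.bwd (nat_lit 3) (Steps.bwd (nat_lit 1) (Steps.bwd (nat_lit 2) (Steps.fwd (nat_lit 8192) (Steps.fwd (nat_lit 24576) Steps.nil)))))))))))))))))))))))))))))))))))) (nat_lit 12) (nat_lit 10),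
  Rule.mk (nat_lit 2) (nat_lit 539) (Steps.bwd (nat_lit 1) (Steps.fwd (nat_lit 24576) (Steps.bwd (nat_lit 1) (Steps.fwd (nat_lit 16384) (Steps.bwd (nat_lit 1) (Steps.bwd (nat_lit 2) (Steps.fwd (nat_lit 8192) (Steps.bwd (nat_lit 2) (Steps.fwd (nat_lit 8192) (Steps.bwd (nat_lit 3) (Steps.fwd (nat_lit 8192) (Steps.fwd (nat_lit 24576) (Steps.bwd (nat_lit 1) (Steps.bwd (nat_lit 2) (Steps.bwd (nat_lit 1) (Steps.bwd (nat_lit 3) (Steps.fwd (nat_lit 8192) (Steps.bwd (nat_lit 2) (Steps.fwd (nat_lit 8192) (Steps.fwd (nat_lit 16384) (Steps.fwd (nat_lit 8192) (Steps.fwd (nat_lit 16384) (Steps.bwd (nat_lit 1) (Steps.fwd (nat_lit 24576) (Steps.fwd (nat_lit 8192) (Steps.bwd (nat_lit 3) (Steps.fwd (nat_lit 8192) (Steps.fwd (nat_lit 16384) (Steps.bwd (nat_lit 1) (Steps.bwd (nat_lit 2) (Steps.bwd (nat_lit 1) (Steps.bwd (nat_lit 3) (Steps.fwd (nat_lit 8192) (Steps.fwd (nat_lit 16384) (Steps.fwd (nat_lit 8192)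 Steps.nil))))))))))))))))))))))))))))))))))) (nat_lit 12) (nat_lit 2),
  Rule.mk (nat_lit 16) (nat_lit 179) (Steps.bwd (nat_lit 1) (Steps.bwd (nat_lit 3) (Steps.bwd (nat_lit 1) (Steps.fwd (nat_lit 16384) (Steps.fwd (nat_lit 8192) (Steps.bwd (nat_lit 3) (Steps.fwd (nat_lit 8192) (Steps.fwd (nat_lit 24576) (Steps.fwd (nat_lit 32768) (Steps.fwd (nat_lit 8192) (Steps.bwd (nat_lit 2) Steps.nil))))))))))) (nat_lit 190) (nat_lit 1),
  Rule.mk (nat_lit 0) (nat_lit 194) (Steps.bwd (nat_lit 16) (Steps.bwd (nat_lit 1) (Steps.fwd (nat_lit 16384) (Steps.fwd (nat_lit 8192) (Steps.bwd (nat_lit 3) (Steps.fwd (nat_lit 8192) (Steps.fwd (nat_lit 16384) (Steps.bwd (nat_lit 1) (Steps.bwd (nat_lit 2) (Steps.bwd (nat_lit 4) (Steps.bwd (nat_lit 1) (Steps.fwd (nat_lit 24576) Steps.nil)))))))))))) (nat_lit 190) (nat_lit 0),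
  Rule.mk (nat_lit 16) (nat_lit 179) (Steps.fwd (nat_lit 8192) (Steps.fwd (nat_lit 16384) (Steps.bwd (nat_lit 1) (Steps.fwd (nat_lit 16384) (Steps.bwd (nat_lit 1) (Steps.fwd (nat_lit 16384) (Steps.fwd (nat_lit 8192) (Steps.bwd (nat_lit 2) (Steps.bwd (nat_lit 4) (Steps.fwd (nat_lit 8192) (Steps.fwd (nat_lit 24576) Steps.nil))))))))))) (nat_lit 190) (nat_lit 1),
  Rule.mk (nat_lit 0) (nat_lit 194) (Steps.bwd (nat_lit 16) (Steps.bwd (nat_lit 1) (Steps.bwd (nat_lit 3) (Steps.bwd (nat_lit 1) (Steps.fwd (nat_lit 16384) (Steps.fwd (nat_lit 8192) (Steps.bwd (nat_lit 3) (Steps.bwd (nat_lit 1) (Steps.bwd (nat_lit 2) (Steps.bwd (nat_lit 4) (Steps.bwd (nat_lit 1) (Steps.fwd (nat_lit 24576) Steps.nil)))))))))))) (nat_lit 190) (nat_lit 0),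
  Rule.mk (nat_lit 15) (nat_lit 179) (Steps.bwd (nat_lit 3) (Steps.bwd (nat_lit 1) (Steps.fwd (nat_lit 32768) (Steps.bwd (nat_lit 3) (Steps.bwd (nat_lit 1) (Steps.bwd (nat_lit 2) (Steps.fwd (nat_lit 8192) (Steps.fwd (nat_lit 24576) (Steps.fwd (nat_lit 8192) (Steps.bwd (nat_lit 2) (Steps.bwd (nat_lit 1) Steps.nil))))))))))) (nat_lit 191) (nat_lit 0),
  Rule.mk (nat_lit 18) (nat_lit 179) (Steps.fwd (nat_lit 8192) (Steps.fwd (nat_lit 16384) (Steps.fwd (nat_lit 32768) (Steps.fwd (nat_lit 8192) (Steps.fwd (nat_lit 24576) (Steps.bwd (nat_lit 1) (Steps.bwd (nat_lit 2) (Steps.fwd (nat_lit 8192) (Steps.fwd (nat_lit 16384) (Steps.bwd (nat_lit 1) (Steps.fwd (nat_lit 16384) Steps.nil))))))))))) (nat_lit 192) (nat_lit 1),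
  Rule.mk (nat_lit 18) (nat_lit 179) (Steps.bwd (nat_lit 1) (Steps.fwd (nat_lit 16384) (Steps.fwd (nat_lit 32768) (Steps.bwd (nat_lit 1) (Steps.bwd (nat_lit 2) (Steps.fwd (nat_lit 8192) (Steps.fwd (nat_lit 24576) (Steps.fwd (nat_lit 8192) (Steps.fwd (nat_lit 16384) (Steps.fwd (nat_lit 8192) (Steps.bwd (nat_lit 3) Steps.nil))))))))))) (nat_lit 192) (nat_lit 1),
  Rule.mk (nat_lit 17) (nat_lit 179) (Steps.bwd (nat_lit 2) (Steps.fwd (nat_lit 8192) (Steps.bwd (nat_lit 2) (Steps.fwd (nat_lit 8192) (Steps.bwd (nat_lit 3) (Steps.fwd (nat_lit 8192) (Steps.fwd (nat_lit 16384) (Steps.bwd (nat_lit 1) (Steps.bwd (nat_lit 4) (Steps.fwd (nat_lit 24576) (Steps.bwd (nat_lit 1) Steps.nil))))))))))) (nat_lit 193) (nat_lit 0),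
  Rule.mk (nat_lit 17) (nat_lit 179) (Steps.fwd (nat_lit 24576) (Steps.bwd (nat_lit 1) (Steps.bwd (nat_lit 2) (Steps.fwd (nat_lit 8192) (Steps.fwd (nat_lit 16384) (Steps.bwd (nat_lit 1) (Steps.fwd (nat_lit 16384) (Steps.bwd (nat_lit 1) (Steps.bwd (nat_lit 4) (Steps.bwd (nat_lit 2) (Steps.fwd (nat_lit 8192) Steps.nil))))))))))) (nat_lit 193) (nat_lit 0),
  Rule.mk (nat_lit 0) (nat_lit 194) (Steps.bwd (nat_lit 17) (Steps.bwd (nat_lit 2) (Steps.fwd (nat_lit 8192) (Steps.fwd (nat_lit 24576) (Steps.fwd (nat_lit 8192) (Steps.fwd (nat_lit 16384) (Steps.fwd (nat_lit 8192) (Steps.bwd (nat_lit 3) (Steps.fwd (nat_lit 8192) (Steps.fwd (nat_lit 32768) (Steps.fwd (nat_lit 24576) (Steps.fwd (nat_lit 8192) Steps.nil)))))))))))) (nat_lit 193) (nat_lit 11),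
  Rule.mk (nat_lit 0) (nat_lit 194) (Steps.fwd (nat_lit 16384) (Steps.fwd (nat_lit 32768) (Steps.fwd (nat_lit 8192) (Steps.bwd (nat_lit 2) (Steps.fwd (nat_lit 8192) (Steps.bwd (nat_lit 2) (Steps.bwd (nat_lit 1) (Steps.fwd (nat_lit 16384) (Steps.fwd (nat_lit 8192) (Steps.bwd (nat_lit 3) (Steps.bwd (nat_lit 1) (Steps.fwd (nat_lit 163840) Steps.nil)))))))))))) (nat_lit 195) (nat_lit 0)]
noncomputable def R_119 : List (Rule) := [Rule.mk (nat_lit 20) (nat_lit 179) (Steps.bwd (nat_lit 1) (Steps.bwd (nat_lit 2) (Steps.fwd (nat_lit 8192) (Steps.fwd (nat_lit 24576) (Steps.fwd (nat_lit 8192) (Steps.fwd (nat_lit 16384) (Steps.fwd (nat_lit 8192) (Steps.bwd (nat_lit 3) (Steps.fwd (nat_lit 8192) (Steps.fwd (nat_lit 32768) (Steps.fwd (nat_lit 24576) Steps.nil))))))))))) (nat_lit 194) (nat_lit 1),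
  Rule.mk (nat_lit 19) (nat_lit 179) (Steps.fwd (nat_lit 16384) (Steps.fwd (nat_lit 32768) (Steps.fwd (nat_lit 8192) (Steps.fwd (nat_lit 24576) (Steps.bwd (nat_lit 1) (Steps.bwd (nat_lit 2) (Steps.fwd (nat_lit 8192) (Steps.fwd (nat_lit 16384) (Steps.bwd (nat_lit 1) (Steps.fwd (nat_lit 16384) (Steps.bwd (nat_lit 1) Steps.nil))))))))))) (nat_lit 195) (nat_lit 0),
  Rule.mk (nat_lit 19) (nat_lit 179) (Steps.fwd (nat_lit 16384) (Steps.fwd (nat_lit 32768) (Steps.bwd (nat_lit 1) (Steps.bwd (nat_lit 2) (Steps.fwd (nat_lit 8192) (Steps.fwd (nat_lit 24576) (Steps.fwd (nat_lit 8192) (Steps.fwd (nat_lit 16384) (Steps.fwd (nat_lit 8192) (Steps.bwd (nat_lit 3) (Steps.fwd (nat_lit 8192) Steps.nil))))))))))) (nat_lit 195) (nat_lit 0),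
  Rule.mk (nat_lit 16) (nat_lit 179) (Steps.fwd (nat_lit 8192) (Steps.fwd (nat_lit 16384) (Steps.fwd (nat_lit 8192) (Steps.fwd (nat_lit 16384) (Steps.bwd (nat_lit 1) (Steps.bwd (nat_lit 3) (Steps.bwd (nat_lit 1) (Steps.fwd (nat_lit 24576) (Steps.fwd (nat_lit 32768) (Steps.fwd (nat_lit 8192) (Steps.bwd (nat_lit 2) Steps.nil))))))))))) (nat_lit 190) (nat_lit 1),
  Rule.mk (nat_lit 0) (nat_lit 194) (Steps.bwd (nat_lit 15) (Steps.bwd (nat_lit 3) (Steps.fwd (nat_lit 8192) (Steps.bwd (nat_lit 4) (Steps.fwd (nat_lit 16384) (Steps.bwd (nat_lit 1) (Steps.bwd (nat_lit 2) (Steps.bwd (nat_lit 1) (Steps.fwd (nat_lit 24576) (Steps.fwd (nat_lit 8192) (Steps.bwd (nat_lit 2) (Steps.fwd (nat_lit 8192) Steps.nil)))))))))))) (nat_lit 191) (nat_lit 11),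
  Rule.mk (nat_lit 0) (nat_lit 194) (Steps.bwd (nat_lit 18) (Steps.bwd (nat_lit 1) (Steps.bwd (nat_lit 3) (Steps.fwd (nat_lit 32768) (Steps.bwd (nat_lit 1) (Steps.fwd (nat_lit 24576) (Steps.bwd (nat_lit 1) (Steps.bwd (nat_lit 2) (Steps.fwd (nat_lit 8192) (Steps.fwd (nat_lit 16384) (Steps.fwd (nat_lit 8192) (Steps.bwd (nat_lit 3) Steps.nil)))))))))))) (nat_lit 192) (nat_lit 0),
  Rule.mk (nat_lit 19) (nat_lit 179) (Steps.bwd (nat_lit 3) (Steps.fwd (nat_lit 32768) (Steps.bwd (nat_lit 1) (Steps.fwd (nat_lit 24576) (Steps.bwd (nat_lit 1) (Steps.bwd (nat_lit 2) (Steps.fwd (nat_lit 8192) (Steps.fwd (nat_lit 16384) (Steps.fwd (nat_lit 8192) (Steps.bwd (nat_lit 3) (Steps.fwd (nat_lit 8192) Steps.nil))))))))))) (nat_lit 195) (nat_lit 0),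
  Rule.mk (nat_lit 12) (nat_lit 104) (Steps.bwd (nat_lit 3) (Steps.bwd (nat_lit 4) (Steps.fwd (nat_lit 40960) (Steps.fwd (nat_lit 65536) (Steps.fwd (nat_lit 73728) (Steps.bwd (nat_lit 2) Steps.nil)))))) (nat_lit 184) (nat_lit 2),
  Rule.mk (nat_lit 14) (nat_lit 119) (Steps.bwd (nat_lit 3) (Steps.bwd (nat_lit 5) (Steps.fwd (nat_lit 49152) (Steps.fwd (nat_lit 57344) (Steps.fwd (nat_lit 98304) (Steps.fwd (nat_lit 114688) (Steps.bwd (nat_lit 2) Steps.nil))))))) (nat_lit 188) (nat_lit 2),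
  Rule.mk (nat_lit 13) (nat_lit 134) (Steps.bwd (nat_lit 3) (Steps.bwd (nat_lit 14) (Steps.bwd (nat_lit 13) (Steps.fwd (nat_lit 98304) (Steps.fwd (nat_lit 90112) (Steps.bwd (nat_lit 10) (Steps.fwd (nat_lit 49152) (Steps.bwd (nat_lit 2) Steps.nil)))))))) (nat_lit 187) (nat_lit 8),
  Rule.mk (nat_lit 0) (nat_lit 194) (Steps.bwd (nat_lit 3) (Steps.bwd (nat_lit 1) (Steps.bwd (nat_lit 4) (Steps.bwd (nat_lit 3) (Steps.fwd (nat_lit 8192) (Steps.fwd (nat_lit 24576) (Steps.bwd (nat_lit 1) (Steps.fwd (nat_lit 24576) (Steps.bwd (nat_lit 1) (Steps.fwd (nat_lit 24576) (Steps.bwd (nat_lit 1) (Steps.fwd (nat_lit 131072) Steps.nil)))))))))))) (nat_lit 191) (nat_lit 0),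
  Rule.mk (nat_lit 0) (nat_lit 554) (Steps.fwd (nat_lit 16384) (Steps.bwd (nat_lit 1) (Steps.bwd (nat_lit 3) (Steps.bwd (nat_lit 1) (Steps.bwd (nat_lit 2) (Steps.fwd (nat_lit 8192) (Steps.bwd (nat_lit 3) (Steps.bwd (nat_lit 1) (Steps.bwd (nat_lit 3) (Steps.fwd (nat_lit 8192) (Steps.fwd (nat_lit 24576) (Steps.bwd (nat_lit 1) (Steps.fwd (nat_lit 24576) (Steps.bwd (nat_lit 1) (Steps.fwd (nat_lit 16384) (Steps.fwd (nat_lit 8192) (Steps.bwd (nat_lit 2) (Steps.bwd (nat_lit 1) (Steps.fwd (nat_lit 24576) (Steps.bwd (nat_lit 1) (Steps.fwd (nat_lit 16384) (Steps.bwd (nat_lit 1) (Steps.fwd (nat_lit 24576) (Steps.bwd (nat_lit 1) (Steps.bwd (nat_lit 2) (Steps.fwd (nat_lit 8192) (Steps.bwd (nat_lit 3) (Steps.fwd (nat_lit 8192) (Steps.fwd (nat_lit 24576) (Steps.fwd (nat_lit 8192) (Steps.bwd (nat_lit 3) (Steps.fwd (nat_lit 8192) (Steps.bwd (nat_lit 3) (Steps.bwd (nat_lit 1) (Steps.fwd (nat_lit 24576) (Steps.fwd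 (nat_lit 8192) Steps.nil)))))))))))))))))))))))))))))))))))) (nat_lit 12) (nat_lit 27),
  Rule.mk (nat_lit 16) (nat_lit 179) (Steps.fwd (nat_lit 8192) (Steps.fwd (nat_lit 16384) (Steps.fwd (nat_lit 8192) (Steps.bwd (nat_lit 3) (Steps.fwd (nat_lit 8192) (Steps.fwd (nat_lit 16384) (Steps.bwd (nat_lit 1) (Steps.fwd (nat_lit 24576) (Steps.bwd (nat_lit 4) (Steps.bwd (nat_lit 1) (Steps.fwd (nat_lit 24576) Steps.nil))))))))))) (nat_lit 190) (nat_lit 1),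
  Rule.mk (nat_lit 16) (nat_lit 179) (Steps.bwd (nat_lit 1) (Steps.bwd (nat_lit 3) (Steps.fwd (nat_lit 8192) (Steps.fwd (nat_lit 16384) (Steps.bwd (nat_lit 1) (Steps.bwd (nat_lit 3) (Steps.bwd (nat_lit 1) (Steps.fwd (nat_lit 24576) (Steps.bwd (nat_lit 4) (Steps.fwd (nat_lit 8192) (Steps.bwd (nat_lit 2) Steps.nil))))))))))) (nat_lit 190) (nat_lit 1),
  Rule.mk (nat_lit 16) (nat_lit 179) (Steps.fwd (nat_lit 8192) (Steps.fwd (nat_lit 16384) (Steps.bwd (nat_lit 1) (Steps.bwd (nat_lit 3) (Steps.bwd (nat_lit 1) (Steps.bwd (nat_lit 3) (Steps.fwd (nat_lit 8192) (Steps.fwd (nat_lit 24576) (Steps.bwd (nat_lit 4) (Steps.bwd (nat_lit 1) (Steps.fwd (nat_lit 24576) Steps.nil))))))))))) (nat_lit 190) (nat_lit 1),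
  Rule.mk (nat_lit 16) (nat_lit 179) (Steps.bwd (nat_lit 1) (Steps.bwd (nat_lit 3) (Steps.bwd (nat_lit 1) (Steps.bwd (nat_lit 3) (Steps.fwd (nat_lit 8192) (Steps.fwd (nat_lit 16384) (Steps.bwd (nat_lit 1) (Steps.fwd (nat_lit 24576) (Steps.bwd (nat_lit 4) (Steps.fwd (nat_lit 8192) (Steps.fwd (nat_lit 24576) Steps.nil))))))))))) (nat_lit 190) (nat_lit 1),
  Rule.mk (nat_lit 0) (nat_lit 194) (Steps.bwd (nat_lit 15) (Steps.fwd (nat_lit 16384) (Steps.bwd (nat_lit 1) (Steps.bwd (nat_lit 4) (Steps.bwd (nat_lit 3) (Steps.bwd (nat_lit 1) (Steps.fwd (nat_lit 24576) (Steps.fwd (nat_lit 8192) (Steps.bwd (nat_lit 2) (Steps.bwd (nat_lit 1) (Steps.fwd (nat_lit 24576) (Steps.fwd (nat_lit 8192) Steps.nil)))))))))))) (nat_lit 191) (nat_lit 11),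
  Rule.mk (nat_lit 15) (nat_lit 179) (Steps.bwd (nat_lit 3) (Steps.bwd (nat_lit 1) (Steps.fwd (nat_lit 32768) (Steps.fwd (nat_lit 16384) (Steps.fwd (nat_lit 8192) (Steps.fwd (nat_lit 24576) (Steps.bwd (nat_lit 1) (Steps.bwd (nat_lit 2) (Steps.bwd (nat_lit 1) (Steps.fwd (nat_lit 24576) (Steps.fwd (nat_lit 8192) Steps.nil))))))))))) (nat_lit 191) (nat_lit 0),
  Rule.mk (nat_lit 18) (nat_lit 179) (Steps.fwd (nat_lit 8192) (Steps.fwd (nat_lit 16384) (Steps.fwd (nat_lit 32768) (Steps.fwd (nat_lit 8192) (Steps.fwd (nat_lit 24576) (Steps.fwd (nat_lit 8192) (Steps.fwd (nat_lit 24576) (Steps.bwd (nat_lit 1) (Steps.bwd (nat_lit 3) (Steps.bwd (nat_lit 1) (Steps.bwd (nat_lit 3) Steps.nil))))))))))) (nat_lit 192) (nat_lit 1),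
  Rule.mk (nat_lit 17) (nat_lit 179) (Steps.fwd (nat_lit 24576) (Steps.bwd (nat_lit 1) (Steps.fwd (nat_lit 24576) (Steps.fwd (nat_lit 8192) (Steps.fwd (nat_lit 16384) (Steps.bwd (nat_lit 1) (Steps.bwd (nat_lit 3) (Steps.bwd (nat_lit 1) (Steps.fwd (nat_lit 32768) (Steps.fwd (nat_lit 24576) (Steps.fwd (nat_lit 8192) Steps.nil))))))))))) (nat_lit 193) (nat_lit 0),
  Rule.mk (nat_lit 17) (nat_lit 179) (Steps.fwd (nat_lit 24576) (Steps.fwd (nat_lit 8192) (Steps.fwd (nat_lit 24576) (Steps.bwd (nat_lit 1) (Steps.bwd (nat_lit 3) (Steps.bwd (nat_lit 1) (Steps.bwd (nat_lit 3) (Steps.fwd (nat_lit 8192) (Steps.bwd (nat_lit 4) (Steps.fwd (nat_lit 24576) (Steps.bwd (nat_lit 1) Steps.nil))))))))))) (nat_lit 193) (nat_lit 0),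
  Rule.mk (nat_lit 0) (nat_lit 194) (Steps.bwd (nat_lit 20) (Steps.fwd (nat_lit 8192) (Steps.fwd (nat_lit 24576) (Steps.bwd (nat_lit 1) (Steps.fwd (nat_lit 24576) (Steps.fwd (nat_lit 8192) (Steps.fwd (nat_lit 16384) (Steps.bwd (nat_lit 1) (Steps.bwd (nat_lit 3) (Steps.bwd (nat_lit 1) (Steps.fwd (nat_lit 32768) (Steps.fwd (nat_lit 24576) Steps.nil)))))))))))) (nat_lit 194) (nat_lit 0),
  Rule.mk (nat_lit 0) (nat_lit 194) (Steps.bwd (nat_lit 20) (Steps.fwd (nat_lit 8192) (Steps.fwd (nat_lit 24576) (Steps.fwd (nat_lit 8192) (Steps.fwd (nat_lit 24576) (Steps.bwd (nat_lit 1) (Steps.bwd (nat_lit 3) (Steps.bwd (nat_lit 1) (Steps.bwd (nat_lit 3) (Steps.fwd (nat_lit 8192) (Steps.bwd (nat_lit 4) (Steps.fwd (nat_lit 24576) Steps.nil)))))))))))) (nat_lit 194) (nat_lit 0),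
  Rule.mk (nat_lit 19) (nat_lit 179) (Steps.fwd (nat_lit 16384) (Steps.fwd (nat_lit 32768) (Steps.fwd (nat_lit 8192) (Steps.fwd (nat_lit 24576) (Steps.bwd (nat_lit 1) (Steps.fwd (nat_lit 24576) (Steps.fwd (nat_lit 8192) (Steps.fwd (nat_lit 16384) (Steps.bwd (nat_lit 1) (Steps.bwd (nat_lit 3) (Steps.bwd (nat_lit 1) Steps.nil))))))))))) (nat_lit 195) (nat_lit 0),
  Rule.mk (nat_lit 0) (nat_lit 194) (Steps.fwd (nat_lit 16384) (Steps.fwd (nat_lit 32768) (Steps.fwd (nat_lit 8192) (Steps.fwd (nat_lit 24576) (Steps.fwd (nat_lit 8192) (Steps.fwd (nat_lit 24576) (Steps.bwd (nat_lit 1) (Steps.bwd (nat_lit 3) (Steps.bwd (nat_lit 1) (Steps.bwd (nat_lit 3) (Steps.fwd (nat_lit 8192) (Steps.fwd (nat_lit 163840) Steps.nil)))))))))))) (nat_lit 195) (nat_lit 0),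
  Rule.mk (nat_lit 15) (nat_lit 179) (Steps.fwd (nat_lit 16384) (Steps.bwd (nat_lit 1) (Steps.bwd (nat_lit 4) (Steps.fwd (nat_lit 16384) (Steps.bwd (nat_lit 1) (Steps.bwd (nat_lit 2) (Steps.fwd (nat_lit 8192) (Steps.fwd (nat_lit 24576) (Steps.fwd (nat_lit 8192) (Steps.bwd (nat_lit 2) (Steps.bwd (nat_lit 1) Steps.nil))))))))))) (nat_lit 191) (nat_lit 0),
  Rule.mk (nat_lit 0) (nat_lit 194) (Steps.bwd (nat_lit 15) (Steps.fwd (nat_lit 16384) (Steps.fwd (nat_lit 8192) (Steps.bwd (nat_lit 4) (Steps.fwd (nat_lit 16384) (Steps.fwd (nat_lit 8192) (Steps.fwd (nat_lit 24576) (Steps.fwd (nat_lit 8192) (Steps.bwd (nat_lit 2) (Steps.bwd (nat_lit 1) (Steps.fwd (nat_lit 24576) (Steps.fwd (nat_lit 8192) Steps.nil)))))))))))) (nat_lit 191) (nat_lit 11),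
  Rule.mk (nat_lit 0) (nat_lit 194) (Steps.bwd (nat_lit 18) (Steps.fwd (nat_lit 8192) (Steps.fwd (nat_lit 16384) (Steps.bwd (nat_lit 4) (Steps.fwd (nat_lit 8192) (Steps.fwd (nat_lit 24576) (Steps.fwd (nat_lit 8192) (Steps.bwd (nat_lit 2) (Steps.bwd (nat_lit 1) (Steps.bwd (nat_lit 3) (Steps.fwd (nat_lit 8192) (Steps.fwd (nat_lit 16384) Steps.nil)))))))))))) (nat_lit 192) (nat_lit 0),
  Rule.mk (nat_lit 18) (nat_lit 179) (Steps.fwd (nat_lit 8192) (Steps.fwd (nat_lit 16384) (Steps.bwd (nat_lit 4) (Steps.fwd (nat_lit 8192) (Steps.bwd (nat_lit 2) (Steps.bwd (nat_lit 1) (Steps.fwd (nat_lit 24576) (Steps.fwd (nat_lit 8192) (Steps.bwd (nat_lit 3) (Steps.fwd (nat_lit 8192) (Steps.fwd (nat_lit 16384) Steps.nil))))))))))) (nat_lit 192) (nat_lit 1),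
  Rule.mk (nat_lit 20) (nat_lit 179) (Steps.fwd (nat_lit 8192) (Steps.bwd (nat_lit 2) (Steps.bwd (nat_lit 1) (Steps.fwd (nat_lit 24576) (Steps.fwd (nat_lit 8192) (Steps.bwd (nat_lit 3) (Steps.fwd (nat_lit 8192) (Steps.fwd (nat_lit 16384) (Steps.bwd (nat_lit 1) (Steps.bwd (nat_lit 4) (Steps.fwd (nat_lit 24576) Steps.nil))))))))))) (nat_lit 194) (nat_lit 1),
  Rule.mk (nat_lit 0) (nat_lit 194) (Steps.fwd (nat_lit 8192) (Steps.bwd (nat_lit 2) (Steps.bwd (nat_lit 1) (Steps.fwd (nat_lit 24576) (Steps.fwd (nat_lit 8192) (Steps.fwd (nat_lit 16384) (Steps.bwd (nat_lit 1) (Steps.bwd (nat_lit 3) (Steps.bwd (nat_lit 1) (Steps.fwd (nat_lit 32768) (Steps.bwd (nat_lit 2) (Steps.fwd (nat_lit 155648) Steps.nil)))))))))))) (nat_lit 194) (nat_lit 1),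
  Rule.mk (nat_lit 19) (nat_lit 179) (Steps.fwd (nat_lit 16384) (Steps.bwd (nat_lit 4) (Steps.fwd (nat_lit 8192) (Steps.bwd (nat_lit 2) (Steps.bwd (nat_lit 1) (Steps.fwd (nat_lit 24576) (Steps.fwd (nat_lit 8192) (Steps.bwd (nat_lit 3) (Steps.fwd (nat_lit 8192) (Steps.fwd (nat_lit 16384) (Steps.bwd (nat_lit 1) Steps.nil))))))))))) (nat_lit 195) (nat_lit 0),
  Rule.mk (nat_lit 20) (nat_lit 179) (Steps.bwd (nat_lit 1) (Steps.fwd (nat_lit 24576) (Steps.fwd (nat_lit 8192) (Steps.bwd (nat_lit 2) (Steps.bwd (nat_lit 1) (Steps.fwd (nat_lit 16384) (Steps.bwd (nat_lit 1) (Steps.bwd (nat_lit 3) (Steps.bwd (nat_lit 1) (Steps.fwd (nat_lit 32768) (Steps.fwd (nat_lit 24576) Steps.nil))))))))))) (nat_lit 194) (nat_lit 1),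
  Rule.mk (nat_lit 0) (nat_lit 194) (Steps.bwd (nat_lit 20) (Steps.fwd (nat_lit 8192) (Steps.fwd (nat_lit 24576) (Steps.fwd (nat_lit 8192) (Steps.fwd (nat_lit 24576) (Steps.bwd (nat_lit 1) (Steps.bwd (nat_lit 3) (Steps.bwd (nat_lit 1) (Steps.fwd (nat_lit 16384) (Steps.bwd (nat_lit 1) (Steps.bwd (nat_lit 4) (Steps.fwd (nat_lit 24576) Steps.nil)))))))))))) (nat_lit 194) (nat_lit 0),
  Rule.mk (nat_lit 18) (nat_lit 179) (Steps.bwd (nat_lit 1) (Steps.bwd (nat_lit 3) (Steps.bwd (nat_lit 4) (Steps.fwd (nat_lit 8192) (Steps.fwd (nat_lit 24576) (Steps.fwd (nat_lit 8192) (Steps.bwd (nat_lit 2) (Steps.fwd (nat_lit 8192) (Steps.fwd (nat_lit 16384) (Steps.bwd (nat_lit 1) (Steps.bwd (nat_lit 3) Steps.nil))))))))))) (nat_lit 192) (nat_lit 1),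
  Rule.mk (nat_lit 1) (nat_lit 134) (Steps.bwd (nat_lit 10) (Steps.fwd (nat_lit 8192) (Steps.bwd (nat_lit 4) (Steps.bwd (nat_lit 5) (Steps.fwd (nat_lit 65536) (Steps.bwd (nat_lit 9) (Steps.bwd (nat_lit 11) (Steps.fwd (nat_lit 114688) Steps.nil)))))))) (nat_lit 158) (nat_lit 1),
  Rule.mk (nat_lit 1) (nat_lit 179) (Steps.fwd (nat_lit 16384) (Steps.bwd (nat_lit 1) (Steps.fwd (nat_lit 16384) (Steps.fwd (nat_lit 8192) (Steps.bwd (nat_lit 3) (Steps.fwd (nat_lit 8192) (Steps.bwd (nat_lit 2) (Steps.fwd (nat_lit 32768) (Steps.bwd (nat_lit 1) (Steps.bwd (nat_lit 2) (Steps.fwd (nat_lit 122880) Steps.nil))))))))))) (nat_lit 190) (nat_lit 2),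
  Rule.mk (nat_lit 15) (nat_lit 179) (Steps.bwd (nat_lit 3) (Steps.fwd (nat_lit 8192) (Steps.bwd (nat_lit 4) (Steps.fwd (nat_lit 16384) (Steps.bwd (nat_lit 1) (Steps.fwd (nat_lit 24576) (Steps.bwd (nat_lit 1) (Steps.bwd (nat_lit 2) (Steps.fwd (nat_lit 8192) (Steps.bwd (nat_lit 2) (Steps.bwd (nat_lit 1) Steps.nil))))))))))) (nat_lit 191) (nat_lit 0),
  Rule.mk (nat_lit 0) (nat_lit 194) (Steps.fwd (nat_lit 8192) (Steps.bwd (nat_lit 3) (Steps.fwd (nat_lit 32768) (Steps.bwd (nat_lit 1) (Steps.bwd (nat_lit 2) (Steps.fwd (nat_lit 8192) (Steps.bwd (nat_lit 2) (Steps.bwd (nat_lit 1) (Steps.fwd (nat_lit 16384) (Steps.fwd (nat_lit 8192) (Steps.bwd (nat_lit 3) (Steps.fwd (nat_lit 139264) Steps.nil)))))))))))) (nat_lit 192) (nat_lit 1),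
  Rule.mk (nat_lit 17) (nat_lit 179) (Steps.fwd (nat_lit 24576) (Steps.fwd (nat_lit 8192) (Steps.bwd (nat_lit 2) (Steps.fwd (nat_lit 8192) (Steps.fwd (nat_lit 16384) (Steps.fwd (nat_lit 8192) (Steps.fwd (nat_lit 16384) (Steps.bwd (nat_lit 1) (Steps.fwd (nat_lit 32768) (Steps.bwd (nat_lit 2) (Steps.bwd (nat_lit 1) Steps.nil))))))))))) (nat_lit 193) (nat_lit 0),
  Rule.mk (nat_lit 0) (nat_lit 194) (Steps.fwd (nat_lit 8192) (Steps.fwd (nat_lit 16384) (Steps.bwd (nat_lit 4) (Steps.bwd (nat_lit 1) (Steps.fwd (nat_lit 24576) (Steps.bwd (nat_lit 1) (Steps.bwd (nat_lit 2) (Steps.fwd (nat_lit 8192) (Steps.fwd (nat_lit 16384) (Steps.bwd (nat_lit 1) (Steps.fwd (nat_lit 16384) (Steps.fwd (nat_lit 139264) Steps.nil)))))))))))) (nat_lit 192) (nat_lit 1),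
  Rule.mk (nat_lit 20) (nat_lit 179) (Steps.bwd (nat_lit 1) (Steps.bwd (nat_lit 2) (Steps.fwd (nat_lit 8192) (Steps.bwd (nat_lit 2) (Steps.bwd (nat_lit 1) (Steps.fwd (nat_lit 16384) (Steps.fwd (nat_lit 8192) (Steps.bwd (nat_lit 3) (Steps.fwd (nat_lit 8192) (Steps.fwd (nat_lit 32768) (Steps.bwd (nat_lit 2) Steps.nil))))))))))) (nat_lit 194) (nat_lit 1),
  Rule.mk (nat_lit 19) (nat_lit 179) (Steps.bwd (nat_lit 3) (Steps.fwd (nat_lit 32768) (Steps.bwd (nat_lit 1) (Steps.bwd (nat_lit 2) (Steps.fwd (nat_lit 8192) (Steps.bwd (nat_lit 2) (Steps.bwd (nat_lit 1) (Steps.fwd (nat_lit 16384) (Steps.fwd (nat_lit 8192) (Steps.bwd (nat_lit 3) (Steps.fwd (nat_lit 8192) Steps.nil))))))))))) (nat_lit 195) (nat_lit 0),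
  Rule.mk (nat_lit 2) (nat_lit 539) (Steps.bwd (nat_lit 1) (Steps.fwd (nat_lit 16384) (Steps.bwd (nat_lit 1) (Steps.fwd (nat_lit 16384) (Steps.fwd (nat_lit 8192) (Steps.fwd (nat_lit 24576) (Steps.bwd (nat_lit 1) (Steps.fwd (nat_lit 24576) (Steps.bwd (nat_lit 1) (Steps.fwd (nat_lit 16384) (Steps.fwd (nat_lit 8192) (Steps.fwd (nat_lit 24576) (Steps.fwd (nat_lit 8192) (Steps.fwd (nat_lit 24576) (Steps.fwd (nat_lit 8192) (Steps.bwd (nat_lit 3) (Steps.bwd (nat_lit 1) (Steps.fwd (nat_lit 24576) (Steps.bwd (nat_lit 1) (Steps.fwd (nat_lit 24576) (Steps.fwd (nat_lit 8192) (Steps.fwd (nat_lit 16384) (Steps.fwd (nat_lit 8192) (Steps.fwd (nat_lit 24576) (Steps.fwd (nat_lit 8192) (Steps.fwd (nat_lit 16384) (Steps.bwd (nat_lit 1) (Steps.fwd (nat_lit 16384) (Steps.bwd (nat_lit 1) (Steps.fwd (nat_lit 24576) (Steps.fwd (nat_lit 8192) (Steps.bwd (nat_lit 3) (Steps.bwd (nat_lit 1) (Steps.fwd (nat_lit 16384)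 (Steps.bwd (nat_lit 1) Steps.nil))))))))))))))))))))))))))))))))))) (nat_lit 12) (nat_lit 32),
  Rule.mk (nat_lit 2) (nat_lit 539) (Steps.fwd (nat_lit 8192) (Steps.bwd (nat_lit 3) (Steps.bwd (nat_lit 1) (Steps.fwd (nat_lit 16384) (Steps.bwd (nat_lit 1) (Steps.fwd (nat_lit 24576) (Steps.bwd (nat_lit 1) (Steps.fwd (nat_lit 16384) (Steps.bwd (nat_lit 1) (Steps.fwd (nat_lit 16384) (Steps.bwd (nat_lit 1) (Steps.bwd (nat_lit 2) (Steps.bwd (nat_lit 1) (Steps.fwd (nat_lit 16384) (Steps.fwd (nat_lit 8192) (Steps.fwd (nat_lit 16384) (Steps.bwd (nat_lit 1) (Steps.bwd (nat_lit 2) (Steps.bwd (nat_lit 1) (Steps.fwd (nat_lit 24576) (Steps.bwd (nat_lit 1) (Steps.bwd (nat_lit 3) (Steps.fwd (nat_lit 8192) (Steps.bwd (nat_lit 2) (Steps.bwd (nat_lit 1) (Steps.bwd (nat_lit 2) (Steps.bwd (nat_lit 1) (Steps.bwd (nat_lit 3) (Steps.fwd (nat_lit 8192) (Steps.bwd (nat_lit 2) (Steps.bwd (nat_lit 1) (Steps.bwd (nat_lit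 2) (Steps.bwd (nat_lit 1) (Steps.fwd (nat_lit 16384) (Steps.bwd (nat_lit 1) Steps.nil))))))))))))))))))))))))))))))))))) (nat_lit 12) (nat_lit 20),
  Rule.mk (nat_lit 3) (nat_lit 539) (Steps.bwd (nat_lit 1) (Steps.fwd (nat_lit 16384) (Steps.bwd (nat_lit 1) (Steps.bwd (nat_lit 2) (Steps.fwd (nat_lit 8192) (Steps.fwd (nat_lit 24576) (Steps.fwd (nat_lit 8192) (Steps.bwd (nat_lit 3) (Steps.fwd (nat_lit 8192) (Steps.bwd (nat_lit 2) (Steps.fwd (nat_lit 8192) (Steps.bwd (nat_lit 2) (Steps.bwd (nat_lit 1) (Steps.fwd (nat_lit 16384) (Steps.bwd (nat_lit 1) (Steps.fwd (nat_lit 24576) (Steps.bwd (nat_lit 1) (Steps.bwd (nat_lit 2) (Steps.bwd (nat_lit 1) (Steps.fwd (nat_lit 16384) (Steps.fwd (nat_lit 8192) (Steps.fwd (nat_lit 24576) (Steps.bwd (nat_lit 1) (Steps.bwd (nat_lit 3) (Steps.fwd (nat_lit 8192) (Steps.fwd (nat_lit 16384) (Steps.bwd (nat_lit 1) (Steps.bwd (nat_lit 2) (Steps.fwd (nat_lit 8192)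 (Steps.fwd (nat_lit 16384) (Steps.bwd (nat_lit 1) (Steps.fwd (nat_lit 16384) (Steps.fwd (nat_lit 8192) (Steps.fwd (nat_lit 24576) (Steps.fwd (nat_lit 8192) Steps.nil))))))))))))))))))))))))))))))))))) (nat_lit 12) (nat_lit 34),
  Rule.mk (nat_lit 16) (nat_lit 179) (Steps.bwd (nat_lit 1) (Steps.fwd (nat_lit 16384) (Steps.bwd (nat_lit 1) (Steps.bwd (nat_lit 3) (Steps.bwd (nat_lit 1) (Steps.fwd (nat_lit 16384) (Steps.fwd (nat_lit 8192) (Steps.bwd (nat_lit 2) (Steps.fwd (nat_lit 32768) (Steps.fwd (nat_lit 8192) (Steps.bwd (nat_lit 2) Steps.nil))))))))))) (nat_lit 190) (nat_lit 1),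
  Rule.mk (nat_lit 0) (nat_lit 194) (Steps.bwd (nat_lit 15) (Steps.bwd (nat_lit 3) (Steps.bwd (nat_lit 1) (Steps.fwd (nat_lit 32768) (Steps.bwd (nat_lit 3) (Steps.fwd (nat_lit 8192) (Steps.bwd (nat_lit 2) (Steps.bwd (nat_lit 1) (Steps.bwd (nat_lit 2) (Steps.fwd (nat_lit 8192) (Steps.fwd (nat_lit 24576) (Steps.fwd (nat_lit 8192) Steps.nil)))))))))))) (nat_lit 191) (nat_lit 11),
  Rule.mk (nat_lit 15) (nat_lit 179) (Steps.bwd (nat_lit 3) (Steps.fwd (nat_lit 8192) (Steps.bwd (nat_lit 4) (Steps.bwd (nat_lit 3) (Steps.bwd (nat_lit 1) (Steps.bwd (nat_lit 2) (Steps.fwd (nat_lit 8192) (Steps.bwd (nat_lit 2) (Steps.fwd (nat_lit 8192) (Steps.fwd (nat_lit 24576) (Steps.bwd (nat_lit 1) Steps.nil))))))))))) (nat_lit 191) (nat_lit 0),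
  Rule.mk (nat_lit 15) (nat_lit 179) (Steps.fwd (nat_lit 16384) (Steps.fwd (nat_lit 8192) (Steps.fwd (nat_lit 32768) (Steps.fwd (nat_lit 16384) (Steps.fwd (nat_lit 8192) (Steps.bwd (nat_lit 2) (Steps.bwd (nat_lit 1) (Steps.bwd (nat_lit 2) (Steps.bwd (nat_lit 1) (Steps.fwd (nat_lit 24576) (Steps.fwd (nat_lit 8192) Steps.nil))))))))))) (nat_lit 191) (nat_lit 0),
  Rule.mk (nat_lit 0) (nat_lit 194) (Steps.bwd (nat_lit 18) (Steps.fwd (nat_lit 8192) (Steps.bwd (nat_lit 3) (Steps.bwd (nat_lit 4) (Steps.bwd (nat_lit 1) (Steps.bwd (nat_lit 2) (Steps.fwd (nat_lit 8192) (Steps.bwd (nat_lit 2) (Steps.fwd (nat_lit 8192) (Steps.fwd (nat_lit 16384) (Steps.fwd (nat_lit 8192) (Steps.fwd (nat_lit 16384) Steps.nil)))))))))))) (nat_lit 192) (nat_lit 0),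
  Rule.mk (nat_lit 17) (nat_lit 179) (Steps.bwd (nat_lit 2) (Steps.bwd (nat_lit 1) (Steps.fwd (nat_lit 24576) (Steps.bwd (nat_lit 1) (Steps.bwd (nat_lit 3) (Steps.bwd (nat_lit 1) (Steps.fwd (nat_lit 16384) (Steps.fwd (nat_lit 8192) (Steps.fwd (nat_lit 32768) (Steps.fwd (nat_lit 24576) (Steps.fwd (nat_lit 8192) Steps.nil))))))))))) (nat_lit 193) (nat_lit 0),
  Rule.mk (nat_lit 0) (nat_lit 194) (Steps.bwd (nat_lit 18) (Steps.bwd (nat_lit 1) (Steps.fwd (nat_lit 16384) (Steps.fwd (nat_lit 32768) (Steps.fwd (nat_lit 8192) (Steps.bwd (nat_lit 2) (Steps.bwd (nat_lit 1) (Steps.bwd (nat_lit 2) (Steps.fwd (nat_lit 8192) (Steps.bwd (nat_lit 3) (Steps.bwd (nat_lit 1) (Steps.fwd (nat_lit 16384) Steps.nil)))))))))))) (nat_lit 192) (nat_lit 0),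
  Rule.mk (nat_lit 0) (nat_lit 194) (Steps.bwd (nat_lit 18) (Steps.fwd (nat_lit 8192) (Steps.fwd (nat_lit 16384) (Steps.fwd (nat_lit 32768) (Steps.fwd (nat_lit 8192) (Steps.bwd (nat_lit 2) (Steps.bwd (nat_lit 1) (Steps.bwd (nat_lit 2) (Steps.bwd (nat_lit 1) (Steps.fwd (nat_lit 16384) (Steps.bwd (nat_lit 1) (Steps.fwd (nat_lit 16384) Steps.nil)))))))))))) (nat_lit 192) (nat_lit 0),
  Rule.mk (nat_lit 20) (nat_lit 179) (Steps.fwd (nat_lit 8192) (Steps.bwd (nat_lit 2) (Steps.bwd (nat_lit 1) (Steps.fwd (nat_lit 24576) (Steps.bwd (nat_lit 1) (Steps.bwd (nat_lit 3) (Steps.bwd (nat_lit 1) (Steps.fwd (nat_lit 16384) (Steps.fwd (nat_lit 8192) (Steps.fwd (nat_lit 32768) (Steps.fwd (nat_lit 24576) Steps.nil))))))))))) (nat_lit 194) (nat_lit 1),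
  Rule.mk (nat_lit 0) (nat_lit 194) (Steps.fwd (nat_lit 8192) (Steps.bwd (nat_lit 2) (Steps.fwd (nat_lit 8192) (Steps.fwd (nat_lit 24576) (Steps.bwd (nat_lit 1) (Steps.fwd (nat_lit 16384) (Steps.fwd (nat_lit 8192) (Steps.fwd (nat_lit 16384) (Steps.bwd (nat_lit 1) (Steps.bwd (nat_lit 4) (Steps.bwd (nat_lit 2) (Steps.fwd (nat_lit 155648) Steps.nil)))))))))))) (nat_lit 194) (nat_lit 1),
  Rule.mk (nat_lit 0) (nat_lit 194) (Steps.bwd (nat_lit 1) (Steps.bwd (nat_lit 2) (Steps.fwd (nat_lit 8192) (Steps.bwd (nat_lit 2) (Steps.fwd (nat_lit 8192) (Steps.fwd (nat_lit 16384) (Steps.fwd (nat_lit 8192) (Steps.fwd (nat_lit 16384) (Steps.bwd (nat_lit 1) (Steps.bwd (nat_lit 4) (Steps.bwd (nat_lit 2) (Steps.fwd (nat_lit 155648) Steps.nil)))))))))))) (nat_lit 194) (nat_lit 1),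
  Rule.mk (nat_lit 20) (nat_lit 179) (Steps.fwd (nat_lit 8192) (Steps.bwd (nat_lit 2) (Steps.fwd (nat_lit 8192) (Steps.fwd (nat_lit 24576) (Steps.bwd (nat_lit 1) (Steps.bwd (nat_lit 3) (Steps.bwd (nat_lit 1) (Steps.fwd (nat_lit 16384) (Steps.fwd (nat_lit 8192) (Steps.bwd (nat_lit 4) (Steps.bwd (nat_lit 2) Steps.nil))))))))))) (nat_lit 194) (nat_lit 1),
  Rule.mk (nat_lit 19) (nat_lit 179) (Steps.fwd (nat_lit 16384) (Steps.fwd (nat_lit 32768) (Steps.fwd (nat_lit 8192) (Steps.bwd (nat_lit 2) (Steps.bwd (nat_lit 1) (Steps.fwd (nat_lit 24576) (Steps.bwd (nat_lit 1) (Steps.bwd (nat_lit 3) (Steps.bwd (nat_lit 1) (Steps.fwd (nat_lit 16384) (Steps.fwd (nat_lit 8192) Steps.nil))))))))))) (nat_lit 195) (nat_lit 0),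
  Rule.mk (nat_lit 16) (nat_lit 179) (Steps.bwd (nat_lit 1) (Steps.fwd (nat_lit 16384) (Steps.bwd (nat_lit 1) (Steps.bwd (nat_lit 3) (Steps.fwd (nat_lit 8192) (Steps.fwd (nat_lit 16384) (Steps.bwd (nat_lit 1) (Steps.fwd (nat_lit 24576) (Steps.bwd (nat_lit 4) (Steps.fwd (nat_lit 8192) (Steps.bwd (nat_lit 2) Steps.nil))))))))))) (nat_lit 190) (nat_lit 1),
  Rule.mk (nat_lit 16) (nat_lit 179) (Steps.bwd (nat_lit 1) (Steps.bwd (nat_lit 3) (Steps.fwd (nat_lit 8192) (Steps.bwd (nat_lit 3) (Steps.fwd (nat_lit 8192) (Steps.bwd (nat_lit 3) (Steps.fwd (nat_lit 8192) (Steps.bwd (nat_lit 2) (Steps.fwd (nat_lit 32768) (Steps.bwd (nat_lit 1) (Steps.bwd (nat_lit 2) Steps.nil))))))))))) (nat_lit 190) (nat_lit 1),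
  Rule.mk (nat_lit 14) (nat_lit 89) (Steps.bwd (nat_lit 7) (Steps.fwd (nat_lit 32768) (Steps.bwd (nat_lit 2) (Steps.fwd (nat_lit 65536) (Steps.bwd (nat_lit 3) Steps.nil))))) (nat_lit 177) (nat_lit 1),
  Rule.mk (nat_lit 5) (nat_lit 104) (Steps.fwd (nat_lit 57344) (Steps.bwd (nat_lit 13) (Steps.bwd (nat_lit 14) (Steps.bwd (nat_lit 2) (Steps.fwd (nat_lit 57344) (Steps.bwd (nat_lit 3) Steps.nil)))))) (nat_lit 174) (nat_lit 4),
  Rule.mk (nat_lit 9) (nat_lit 104) (Steps.bwd (nat_lit 8) (Steps.bwd (nat_lit 5) (Steps.fwd (nat_lit 32768) (Steps.fwd (nat_lit 24576) (Steps.fwd (nat_lit 98304) (Steps.bwd (nat_lit 3) Steps.nil)))))) (nat_lit 185) (nat_lit 1)]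
noncomputable def R_120 : List (Rule) := [Rule.mk (nat_lit 16) (nat_lit 179) (Steps.bwd (nat_lit 1) (Steps.fwd (nat_lit 16384) (Steps.fwd (nat_lit 8192) (Steps.fwd (nat_lit 16384) (Steps.fwd (nat_lit 8192) (Steps.bwd (nat_lit 3) (Steps.bwd (nat_lit 1) (Steps.bwd (nat_lit 2) (Steps.bwd (nat_lit 4) (Steps.fwd (nat_lit 8192) (Steps.bwd (nat_lit 2) Steps.nil))))))))))) (nat_lit 190) (nat_lit 1),
  Rule.mk (nat_lit 15) (nat_lit 179) (Steps.bwd (nat_lit 3) (Steps.bwd (nat_lit 1) (Steps.fwd (nat_lit 32768) (Steps.bwd (nat_lit 3) (Steps.bwd (nat_lit 1) (Steps.fwd (nat_lit 24576) (Steps.fwd (nat_lit 8192) (Steps.fwd (nat_lit 24576) (Steps.fwd (nat_lit 8192) (Steps.bwd (nat_lit 2) (Steps.fwd (nat_lit 8192) Steps.nil))))))))))) (nat_lit 191) (nat_lit 0),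
  Rule.mk (nat_lit 18) (nat_lit 179) (Steps.fwd (nat_lit 8192) (Steps.fwd (nat_lit 16384) (Steps.fwd (nat_lit 32768) (Steps.fwd (nat_lit 8192) (Steps.bwd (nat_lit 2) (Steps.bwd (nat_lit 1) (Steps.bwd (nat_lit 2) (Steps.fwd (nat_lit 8192) (Steps.fwd (nat_lit 16384) (Steps.fwd (nat_lit 8192) (Steps.bwd (nat_lit 3) Steps.nil))))))))))) (nat_lit 192) (nat_lit 1),
  Rule.mk (nat_lit 18) (nat_lit 179) (Steps.bwd (nat_lit 1) (Steps.fwd (nat_lit 16384) (Steps.fwd (nat_lit 32768) (Steps.bwd (nat_lit 1) (Steps.bwd (nat_lit 2) (Steps.fwd (nat_lit 8192) (Steps.fwd (nat_lit 24576) (Steps.fwd (nat_lit 8192) (Steps.bwd (nat_lit 3) (Steps.bwd (nat_lit 1) (Steps.fwd (nat_lit 16384) Steps.nil))))))))))) (nat_lit 192) (nat_lit 1),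
  Rule.mk (nat_lit 0) (nat_lit 194) (Steps.bwd (nat_lit 17) (Steps.fwd (nat_lit 24576) (Steps.bwd (nat_lit 1) (Steps.fwd (nat_lit 24576) (Steps.bwd (nat_lit 1) (Steps.fwd (nat_lit 16384) (Steps.fwd (nat_lit 8192) (Steps.bwd (nat_lit 3) (Steps.fwd (nat_lit 8192) (Steps.fwd (nat_lit 32768) (Steps.fwd (nat_lit 24576) (Steps.bwd (nat_lit 1) Steps.nil)))))))))))) (nat_lit 193) (nat_lit 11),
  Rule.mk (nat_lit 17) (nat_lit 179) (Steps.bwd (nat_lit 2) (Steps.bwd (nat_lit 1) (Steps.bwd (nat_lit 2) (Steps.fwd (nat_lit 8192) (Steps.fwd (nat_lit 16384) (Steps.fwd (nat_lit 8192) (Steps.bwd (nat_lit 3) (Steps.bwd (nat_lit 1) (Steps.fwd (nat_lit 32768) (Steps.bwd (nat_lit 2) (Steps.fwd (nat_lit 8192) Steps.nil))))))))))) (nat_lit 193) (nat_lit 0),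
  Rule.mk (nat_lit 19) (nat_lit 179) (Steps.fwd (nat_lit 16384) (Steps.fwd (nat_lit 32768) (Steps.fwd (nat_lit 8192) (Steps.bwd (nat_lit 2) (Steps.bwd (nat_lit 1) (Steps.bwd (nat_lit 2) (Steps.fwd (nat_lit 8192) (Steps.fwd (nat_lit 16384) (Steps.fwd (nat_lit 8192) (Steps.bwd (nat_lit 3) (Steps.bwd (nat_lit 1) Steps.nil))))))))))) (nat_lit 195) (nat_lit 0),
  Rule.mk (nat_lit 0) (nat_lit 194) (Steps.bwd (nat_lit 20) (Steps.fwd (nat_lit 8192) (Steps.fwd (nat_lit 24576) (Steps.bwd (nat_lit 1) (Steps.fwd (nat_lit 24576) (Steps.bwd (nat_lit 1) (Steps.fwd (nat_lit 16384) (Steps.fwd (nat_lit 8192) (Steps.bwd (nat_lit 3) (Steps.fwd (nat_lit 8192) (Steps.fwd (nat_lit 32768) (Steps.fwd (nat_lit 24576) Steps.nil)))))))))))) (nat_lit 194) (nat_lit 0),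
  Rule.mk (nat_lit 0) (nat_lit 194) (Steps.bwd (nat_lit 16) (Steps.fwd (nat_lit 8192) (Steps.bwd (nat_lit 3) (Steps.fwd (nat_lit 8192) (Steps.bwd (nat_lit 3) (Steps.bwd (nat_lit 1) (Steps.fwd (nat_lit 16384) (Steps.bwd (nat_lit 1) (Steps.bwd (nat_lit 2) (Steps.bwd (nat_lit 4) (Steps.bwd (nat_lit 1) (Steps.fwd (nat_lit 24576) Steps.nil)))))))))))) (nat_lit 190) (nat_lit 0),
  Rule.mk (nat_lit 0) (nat_lit 194) (Steps.bwd (nat_lit 16) (Steps.fwd (nat_lit 8192) (Steps.fwd (nat_lit 16384) (Steps.bwd (nat_lit 1) (Steps.bwd (nat_lit 3) (Steps.fwd (nat_lit 8192) (Steps.fwd (nat_lit 16384) (Steps.bwd (nat_lit 1) (Steps.bwd (nat_lit 2) (Steps.fwd (nat_lit 32768) (Steps.bwd (nat_lit 1) (Steps.bwd (nat_lit 2) Steps.nil)))))))))))) (nat_lit 190) (nat_lit 0),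
  Rule.mk (nat_lit 17) (nat_lit 179) (Steps.bwd (nat_lit 2) (Steps.fwd (nat_lit 8192) (Steps.fwd (nat_lit 24576) (Steps.bwd (nat_lit 1) (Steps.bwd (nat_lit 3) (Steps.fwd (nat_lit 8192) (Steps.fwd (nat_lit 16384) (Steps.fwd (nat_lit 8192) (Steps.bwd (nat_lit 4) (Steps.bwd (nat_lit 2) (Steps.fwd (nat_lit 8192) Steps.nil))))))))))) (nat_lit 193) (nat_lit 0),
  Rule.mk (nat_lit 20) (nat_lit 179) (Steps.fwd (nat_lit 8192) (Steps.bwd (nat_lit 2) (Steps.fwd (nat_lit 8192) (Steps.fwd (nat_lit 24576) (Steps.bwd (nat_lit 1) (Steps.bwd (nat_lit 3) (Steps.fwd (nat_lit 8192) (Steps.fwd (nat_lit 16384) (Steps.fwd (nat_lit 8192) (Steps.bwd (nat_lit 4) (Steps.bwd (nat_lit 2) Steps.nil))))))))))) (nat_lit 194) (nat_lit 1),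
  Rule.mk (nat_lit 17) (nat_lit 179) (Steps.bwd (nat_lit 2) (Steps.fwd (nat_lit 8192) (Steps.fwd (nat_lit 24576) (Steps.fwd (nat_lit 8192) (Steps.bwd (nat_lit 3) (Steps.fwd (nat_lit 8192) (Steps.fwd (nat_lit 16384) (Steps.fwd (nat_lit 8192) (Steps.bwd (nat_lit 4) (Steps.bwd (nat_lit 2) (Steps.bwd (nat_lit 1) Steps.nil))))))))))) (nat_lit 193) (nat_lit 0),
  Rule.mk (nat_lit 16) (nat_lit 179) (Steps.fwd (nat_lit 8192) (Steps.fwd (nat_lit 16384) (Steps.fwd (nat_lit 8192) (Steps.bwd (nat_lit 3) (Steps.bwd (nat_lit 1) (Steps.bwd (nat_lit 3) (Steps.fwd (nat_lit 8192) (Steps.fwd (nat_lit 24576) (Steps.fwd (nat_lit 32768) (Steps.bwd (nat_lit 1) (Steps.bwd (nat_lit 2) Steps.nil))))))))))) (nat_lit 190) (nat_lit 1),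
  Rule.mk (nat_lit 15) (nat_lit 179) (Steps.bwd (nat_lit 3) (Steps.bwd (nat_lit 1) (Steps.fwd (nat_lit 32768) (Steps.fwd (nat_lit 16384) (Steps.bwd (nat_lit 1) (Steps.fwd (nat_lit 24576) (Steps.fwd (nat_lit 8192) (Steps.bwd (nat_lit 2) (Steps.bwd (nat_lit 1) (Steps.bwd (nat_lit 2) (Steps.bwd (nat_lit 1) Steps.nil))))))))))) (nat_lit 191) (nat_lit 0),
  Rule.mk (nat_lit 0) (nat_lit 194) (Steps.bwd (nat_lit 15) (Steps.fwd (nat_lit 16384) (Steps.fwd (nat_lit 8192) (Steps.fwd (nat_lit 32768) (Steps.bwd (nat_lit 3) (Steps.fwd (nat_lit 8192) (Steps.bwd (nat_lit 2) (Steps.bwd (nat_lit 1) (Steps.bwd (nat_lit 2) (Steps.bwd (nat_lit 1) (Steps.bwd (nat_lit 2) (Steps.bwd (nat_lit 1) Steps.nil)))))))))))) (nat_lit 191) (nat_lit 11),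
  Rule.mk (nat_lit 0) (nat_lit 194) (Steps.bwd (nat_lit 16) (Steps.bwd (nat_lit 1) (Steps.bwd (nat_lit 3) (Steps.fwd (nat_lit 8192) (Steps.fwd (nat_lit 16384) (Steps.fwd (nat_lit 8192) (Steps.fwd (nat_lit 16384) (Steps.fwd (nat_lit 8192) (Steps.bwd (nat_lit 2) (Steps.fwd (nat_lit 32768) (Steps.bwd (nat_lit 1) (Steps.fwd (nat_lit 24576) Steps.nil)))))))))))) (nat_lit 190) (nat_lit 0),
  Rule.mk (nat_lit 0) (nat_lit 194) (Steps.bwd (nat_lit 18) (Steps.fwd (nat_lit 8192) (Steps.bwd (nat_lit 3) (Steps.fwd (nat_lit 32768) (Steps.bwd (nat_lit 1) (Steps.bwd (nat_lit 2) (Steps.bwd (nat_lit 1) (Steps.bwd (nat_lit 2) (Steps.bwd (nat_lit 1) (Steps.fwd (nat_lit 16384) (Steps.fwd (nat_lit 8192) (Steps.bwd (nat_lit 3) Steps.nil)))))))))))) (nat_lit 192) (nat_lit 0),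
  Rule.mk (nat_lit 0) (nat_lit 194) (Steps.fwd (nat_lit 8192) (Steps.fwd (nat_lit 16384) (Steps.fwd (nat_lit 32768) (Steps.fwd (nat_lit 8192) (Steps.bwd (nat_lit 2) (Steps.bwd (nat_lit 1) (Steps.fwd (nat_lit 24576) (Steps.fwd (nat_lit 8192) (Steps.bwd (nat_lit 3) (Steps.fwd (nat_lit 8192) (Steps.fwd (nat_lit 16384) (Steps.fwd (nat_lit 139264) Steps.nil)))))))))))) (nat_lit 192) (nat_lit 1),
  Rule.mk (nat_lit 17) (nat_lit 179) (Steps.bwd (nat_lit 2) (Steps.bwd (nat_lit 1) (Steps.fwd (nat_lit 24576) (Steps.bwd (nat_lit 1) (Steps.fwd (nat_lit 16384) (Steps.fwd (nat_lit 8192) (Steps.bwd (nat_lit 3) (Steps.fwd (nat_lit 8192) (Steps.bwd (nat_lit 4) (Steps.bwd (nat_lit 2) (Steps.fwd (nat_lit 8192) Steps.nil))))))))))) (nat_lit 193) (nat_lit 0),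
  Rule.mk (nat_lit 20) (nat_lit 179) (Steps.bwd (nat_lit 1) (Steps.bwd (nat_lit 2) (Steps.bwd (nat_lit 1) (Steps.fwd (nat_lit 24576) (Steps.bwd (nat_lit 1) (Steps.bwd (nat_lit 3) (Steps.fwd (nat_lit 8192) (Steps.fwd (nat_lit 16384) (Steps.bwd (nat_lit 1) (Steps.bwd (nat_lit 4) (Steps.bwd (nat_lit 2) Steps.nil))))))))))) (nat_lit 194) (nat_lit 1),
  Rule.mk (nat_lit 0) (nat_lit 194) (Steps.fwd (nat_lit 16384) (Steps.fwd (nat_lit 32768) (Steps.bwd (nat_lit 1) (Steps.fwd (nat_lit 24576) (Steps.bwd (nat_lit 1) (Steps.bwd (nat_lit 2) (Steps.fwd (nat_lit 8192) (Steps.bwd (nat_lit 3) (Steps.fwd (nat_lit 8192) (Steps.fwd (nat_lit 16384) (Steps.fwd (nat_lit 8192) (Steps.fwd (nat_lit 163840) Steps.nil)))))))))))) (nat_lit 195) (nat_lit 0),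
  Rule.mk (nat_lit 0) (nat_lit 194) (Steps.bwd (nat_lit 1) (Steps.fwd (nat_lit 24576) (Steps.bwd (nat_lit 1) (Steps.bwd (nat_lit 2) (Steps.fwd (nat_lit 8192) (Steps.bwd (nat_lit 3) (Steps.fwd (nat_lit 8192) (Steps.fwd (nat_lit 16384) (Steps.fwd (nat_lit 8192) (Steps.bwd (nat_lit 4) (Steps.fwd (nat_lit 24576) (Steps.fwd (nat_lit 155648) Steps.nil)))))))))))) (nat_lit 194) (nat_lit 1),
  Rule.mk (nat_lit 17) (nat_lit 179) (Steps.bwd (nat_lit 2) (Steps.fwd (nat_lit 8192) (Steps.bwd (nat_lit 2) (Steps.bwd (nat_lit 1) (Steps.bwd (nat_lit 3) (Steps.bwd (nat_lit 1) (Steps.bwd (nat_lit 3) (Steps.fwd (nat_lit 8192) (Steps.bwd (nat_lit 4) (Steps.bwd (nat_lit 2) (Steps.fwd (nat_lit 8192) Steps.nil))))))))))) (nat_lit 193) (nat_lit 0),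
  Rule.mk (nat_lit 1) (nat_lit 104) (Steps.bwd (nat_lit 11) (Steps.bwd (nat_lit 1) (Steps.bwd (nat_lit 14) (Steps.bwd (nat_lit 12) (Steps.fwd (nat_lit 90112) (Steps.bwd (nat_lit 6) Steps.nil)))))) (nat_lit 161) (nat_lit 5),
  Rule.mk (nat_lit 2) (nat_lit 164) (Steps.bwd (nat_lit 11) (Steps.fwd (nat_lit 16384) (Steps.fwd (nat_lit 32768) (Steps.bwd (nat_lit 5) (Steps.bwd (nat_lit 8) (Steps.bwd (nat_lit 9) (Steps.fwd (nat_lit 81920) (Steps.bwd (nat_lit 11) (Steps.fwd (nat_lit 98304) (Steps.fwd (nat_lit 114688) Steps.nil)))))))))) (nat_lit 182) (nat_lit 1),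
  Rule.mk (nat_lit 16) (nat_lit 179) (Steps.bwd (nat_lit 1) (Steps.bwd (nat_lit 3) (Steps.bwd (nat_lit 1) (Steps.bwd (nat_lit 3) (Steps.bwd (nat_lit 1) (Steps.bwd (nat_lit 3) (Steps.fwd (nat_lit 8192) (Steps.bwd (nat_lit 2) (Steps.fwd (nat_lit 32768) (Steps.fwd (nat_lit 8192) (Steps.bwd (nat_lit 2) Steps.nil))))))))))) (nat_lit 190) (nat_lit 1),
  Rule.mk (nat_lit 15) (nat_lit 179) (Steps.fwd (nat_lit 16384) (Steps.bwd (nat_lit 1) (Steps.fwd (nat_lit 32768) (Steps.fwd (nat_lit 16384) (Steps.bwd (nat_lit 1) (Steps.fwd (nat_lit 24576) (Steps.bwd (nat_lit 1) (Steps.fwd (nat_lit 24576) (Steps.fwd (nat_lit 8192) (Steps.bwd (nat_lit 2) (Steps.fwd (nat_lit 8192) Steps.nil))))))))))) (nat_lit 191) (nat_lit 0),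
  Rule.mk (nat_lit 0) (nat_lit 194) (Steps.bwd (nat_lit 15) (Steps.fwd (nat_lit 16384) (Steps.fwd (nat_lit 8192) (Steps.bwd (nat_lit 4) (Steps.fwd (nat_lit 16384) (Steps.bwd (nat_lit 1) (Steps.fwd (nat_lit 24576) (Steps.fwd (nat_lit 8192) (Steps.bwd (nat_lit 2) (Steps.fwd (nat_lit 8192) (Steps.bwd (nat_lit 2) (Steps.fwd (nat_lit 8192) Steps.nil)))))))))))) (nat_lit 191) (nat_lit 11),
  Rule.mk (nat_lit 0) (nat_lit 194) (Steps.bwd (nat_lit 16) (Steps.bwd (nat_lit 1) (Steps.fwd (nat_lit 16384) (Steps.bwd (nat_lit 1) (Steps.fwd (nat_lit 16384) (Steps.bwd (nat_lit 1) (Steps.fwd (nat_lit 16384) (Steps.bwd (nat_lit 1) (Steps.bwd (nat_lit 2) (Steps.fwd (nat_lit 32768) (Steps.bwd (nat_lit 1) (Steps.bwd (nat_lit 2) Steps.nil)))))))))))) (nat_lit 190) (nat_lit 0),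
  Rule.mk (nat_lit 18) (nat_lit 179) (Steps.fwd (nat_lit 8192) (Steps.fwd (nat_lit 16384) (Steps.bwd (nat_lit 4) (Steps.bwd (nat_lit 1) (Steps.fwd (nat_lit 24576) (Steps.fwd (nat_lit 8192) (Steps.bwd (nat_lit 2) (Steps.fwd (nat_lit 8192) (Steps.fwd (nat_lit 16384) (Steps.fwd (nat_lit 8192) (Steps.bwd (nat_lit 3) Steps.nil))))))))))) (nat_lit 192) (nat_lit 1),
  Rule.mk (nat_lit 0) (nat_lit 194) (Steps.bwd (nat_lit 17) (Steps.fwd (nat_lit 24576) (Steps.bwd (nat_lit 1) (Steps.fwd (nat_lit 24576) (Steps.bwd (nat_lit 1) (Steps.fwd (nat_lit 16384) (Steps.bwd (nat_lit 1) (Steps.fwd (nat_lit 16384) (Steps.bwd (nat_lit 1) (Steps.bwd (nat_lit 4) (Steps.fwd (nat_lit 24576) (Steps.bwd (nat_lit 1) Steps.nil)))))))))))) (nat_lit 193) (nat_lit 11),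
  Rule.mk (nat_lit 17) (nat_lit 179) (Steps.fwd (nat_lit 24576) (Steps.fwd (nat_lit 8192) (Steps.bwd (nat_lit 2) (Steps.fwd (nat_lit 8192) (Steps.fwd (nat_lit 16384) (Steps.fwd (nat_lit 8192) (Steps.bwd (nat_lit 3) (Steps.fwd (nat_lit 8192) (Steps.bwd (nat_lit 4) (Steps.bwd (nat_lit 2) (Steps.fwd (nat_lit 8192) Steps.nil))))))))))) (nat_lit 193) (nat_lit 0),
  Rule.mk (nat_lit 0) (nat_lit 194) (Steps.bwd (nat_lit 18) (Steps.bwd (nat_lit 1) (Steps.fwd (nat_lit 16384) (Steps.bwd (nat_lit 4) (Steps.fwd (nat_lit 8192) (Steps.fwd (nat_lit 24576) (Steps.bwd (nat_lit 1) (Steps.bwd (nat_lit 2) (Steps.bwd (nat_lit 1) (Steps.fwd (nat_lit 16384) (Steps.bwd (nat_lit 1) (Steps.bwd (nat_lit 3) Steps.nil)))))))))))) (nat_lit 192) (nat_lit 0),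
  Rule.mk (nat_lit 17) (nat_lit 179) (Steps.bwd (nat_lit 2) (Steps.fwd (nat_lit 8192) (Steps.bwd (nat_lit 2) (Steps.fwd (nat_lit 8192) (Steps.bwd (nat_lit 3) (Steps.fwd (nat_lit 8192) (Steps.bwd (nat_lit 3) (Steps.bwd (nat_lit 1) (Steps.bwd (nat_lit 4) (Steps.fwd (nat_lit 24576) (Steps.bwd (nat_lit 1) Steps.nil))))))))))) (nat_lit 193) (nat_lit 0),
  Rule.mk (nat_lit 0) (nat_lit 194) (Steps.fwd (nat_lit 16384) (Steps.bwd (nat_lit 4) (Steps.fwd (nat_lit 8192) (Steps.fwd (nat_lit 24576) (Steps.bwd (nat_lit 1) (Steps.bwd (nat_lit 2) (Steps.bwd (nat_lit 1) (Steps.fwd (nat_lit 16384) (Steps.bwd (nat_lit 1) (Steps.bwd (nat_lit 3) (Steps.fwd (nat_lit 8192) (Steps.fwd (nat_lit 163840) Steps.nil)))))))))))) (nat_lit 195) (nat_lit 0),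
  Rule.mk (nat_lit 20) (nat_lit 179) (Steps.fwd (nat_lit 8192) (Steps.bwd (nat_lit 2) (Steps.fwd (nat_lit 8192) (Steps.bwd (nat_lit 2) (Steps.fwd (nat_lit 8192) (Steps.bwd (nat_lit 3) (Steps.fwd (nat_lit 8192) (Steps.bwd (nat_lit 3) (Steps.bwd (nat_lit 1) (Steps.bwd (nat_lit 4) (Steps.fwd (nat_lit 24576) Steps.nil))))))))))) (nat_lit 194) (nat_lit 1),
  Rule.mk (nat_lit 19) (nat_lit 179) (Steps.fwd (nat_lit 16384) (Steps.bwd (nat_lit 4) (Steps.bwd (nat_lit 1) (Steps.fwd (nat_lit 24576) (Steps.fwd (nat_lit 8192) (Steps.bwd (nat_lit 2) (Steps.fwd (nat_lit 8192) (Steps.fwd (nat_lit 16384) (Steps.fwd (nat_lit 8192) (Steps.bwd (nat_lit 3) (Steps.bwd (nat_lit 1) Steps.nil))))))))))) (nat_lit 195) (nat_lit 0),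
  Rule.mk (nat_lit 0) (nat_lit 194) (Steps.bwd (nat_lit 19) (Steps.bwd (nat_lit 3) (Steps.fwd (nat_lit 32768) (Steps.fwd (nat_lit 8192) (Steps.bwd (nat_lit 2) (Steps.fwd (nat_lit 8192) (Steps.bwd (nat_lit 2) (Steps.fwd (nat_lit 8192) (Steps.bwd (nat_lit 3) (Steps.fwd (nat_lit 8192) (Steps.bwd (nat_lit 3) (Steps.bwd (nat_lit 1) Steps.nil)))))))))))) (nat_lit 195) (nat_lit 11),
  Rule.mk (nat_lit 15) (nat_lit 179) (Steps.fwd (nat_lit 16384) (Steps.fwd (nat_lit 8192) (Steps.fwd (nat_lit 32768) (Steps.fwd (nat_lit 16384) (Steps.fwd (nat_lit 8192) (Steps.bwd (nat_lit 2) (Steps.fwd (nat_lit 8192) (Steps.fwd (nat_lit 24576) (Steps.bwd (nat_lit 1) (Steps.bwd (nat_lit 2) (Steps.bwd (nat_lit 1) Steps.nil))))))))))) (nat_lit 191) (nat_lit 0),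
  Rule.mk (nat_lit 15) (nat_lit 179) (Steps.fwd (nat_lit 16384) (Steps.bwd (nat_lit 1) (Steps.fwd (nat_lit 32768) (Steps.fwd (nat_lit 16384) (Steps.bwd (nat_lit 1) (Steps.fwd (nat_lit 24576) (Steps.fwd (nat_lit 8192) (Steps.bwd (nat_lit 2) (Steps.bwd (nat_lit 1) (Steps.fwd (nat_lit 24576) (Steps.bwd (nat_lit 1) Steps.nil))))))))))) (nat_lit 191) (nat_lit 0),
  Rule.mk (nat_lit 17) (nat_lit 179) (Steps.fwd (nat_lit 24576) (Steps.bwd (nat_lit 1) (Steps.fwd (nat_lit 24576) (Steps.bwd (nat_lit 1) (Steps.bwd (nat_lit 3) (Steps.bwd (nat_lit 1) (Steps.fwd (nat_lit 16384) (Steps.bwd (nat_lit 1) (Steps.fwd (nat_lit 32768) (Steps.bwd (nat_lit 2) (Steps.bwd (nat_lit 1) Steps.nil))))))))))) (nat_lit 193) (nat_lit 0),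
  Rule.mk (nat_lit 17) (nat_lit 179) (Steps.bwd (nat_lit 2) (Steps.bwd (nat_lit 1) (Steps.fwd (nat_lit 24576) (Steps.bwd (nat_lit 1) (Steps.fwd (nat_lit 16384) (Steps.bwd (nat_lit 1) (Steps.fwd (nat_lit 16384) (Steps.bwd (nat_lit 1) (Steps.fwd (nat_lit 32768) (Steps.fwd (nat_lit 24576) (Steps.fwd (nat_lit 8192) Steps.nil))))))))))) (nat_lit 193) (nat_lit 0),
  Rule.mk (nat_lit 20) (nat_lit 179) (Steps.fwd (nat_lit 8192) (Steps.bwd (nat_lit 2) (Steps.bwd (nat_lit 1) (Steps.fwd (nat_lit 24576) (Steps.bwd (nat_lit 1) (Steps.fwd (nat_lit 16384) (Steps.bwd (nat_lit 1) (Steps.fwd (nat_lit 16384) (Steps.bwd (nat_lit 1) (Steps.fwd (nat_lit 32768) (Steps.fwd (nat_lit 24576) Steps.nil))))))))))) (nat_lit 194) (nat_lit 1),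
  Rule.mk (nat_lit 2) (nat_lit 179) (Steps.bwd (nat_lit 20) (Steps.fwd (nat_lit 8192) (Steps.fwd (nat_lit 24576) (Steps.bwd (nat_lit 1) (Steps.bwd (nat_lit 2) (Steps.fwd (nat_lit 8192) (Steps.fwd (nat_lit 16384) (Steps.fwd (nat_lit 8192) (Steps.bwd (nat_lit 3) (Steps.bwd (nat_lit 1) (Steps.bwd (nat_lit 4) Steps.nil))))))))))) (nat_lit 194) (nat_lit 0),
  Rule.mk (nat_lit 4) (nat_lit 59) (Steps.fwd (nat_lit 16384) (Steps.fwd (nat_lit 32768) (Steps.fwd (nat_lit 24576) Steps.nil))) (nat_lit 168) (nat_lit 2),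
  Rule.mk (nat_lit 8) (nat_lit 89) (Steps.fwd (nat_lit 16384) (Steps.fwd (nat_lit 32768) (Steps.bwd (nat_lit 7) (Steps.bwd (nat_lit 14) (Steps.fwd (nat_lit 24576) Steps.nil))))) (nat_lit 176) (nat_lit 2),
  Rule.mk (nat_lit 1) (nat_lit 179) (Steps.fwd (nat_lit 16384) (Steps.fwd (nat_lit 32768) (Steps.fwd (nat_lit 8192) (Steps.fwd (nat_lit 24576) (Steps.bwd (nat_lit 1) (Steps.bwd (nat_lit 2) (Steps.bwd (nat_lit 1) (Steps.fwd (nat_lit 16384) (Steps.fwd (nat_lit 8192) (Steps.bwd (nat_lit 3) (Steps.fwd (nat_lit 139264) Steps.nil))))))))))) (nat_lit 192) (nat_lit 2),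
  Rule.mk (nat_lit 14) (nat_lit 89) (Steps.fwd (nat_lit 57344) (Steps.fwd (nat_lit 32768) (Steps.fwd (nat_lit 8192) (Steps.bwd (nat_lit 9) (Steps.fwd (nat_lit 8192) Steps.nil))))) (nat_lit 157) (nat_lit 1),
  Rule.mk (nat_lit 6) (nat_lit 104) (Steps.bwd (nat_lit 11) (Steps.fwd (nat_lit 98304) (Steps.fwd (nat_lit 114688) (Steps.bwd (nat_lit 1) (Steps.bwd (nat_lit 11) (Steps.fwd (nat_lit 8192) Steps.nil)))))) (nat_lit 160) (nat_lit 4),
  Rule.mk (nat_lit 13) (nat_lit 104) (Steps.fwd (nat_lit 8192) (Steps.fwd (nat_lit 32768) (Steps.bwd (nat_lit 5) (Steps.bwd (nat_lit 8) (Steps.bwd (nat_lit 9) (Steps.fwd (nat_lit 8192) Steps.nil)))))) (nat_lit 164) (nat_lit 2),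
  Rule.mk (nat_lit 10) (nat_lit 134) (Steps.fwd (nat_lit 8192) (Steps.fwd (nat_lit 114688) (Steps.fwd (nat_lit 90112) (Steps.fwd (nat_lit 73728) (Steps.fwd (nat_lit 65536) (Steps.bwd (nat_lit 5) (Steps.bwd (nat_lit 4) (Steps.fwd (nat_lit 8192) Steps.nil)))))))) (nat_lit 159) (nat_lit 8),
  Rule.mk (nat_lit 7) (nat_lit 164) (Steps.bwd (nat_lit 1) (Steps.bwd (nat_lit 5) (Steps.fwd (nat_lit 49152) (Steps.fwd (nat_lit 73728) (Steps.bwd (nat_lit 10) (Steps.fwd (nat_lit 90112) (Steps.bwd (nat_lit 12) (Steps.fwd (nat_lit 106496) (Steps.bwd (nat_lit 14) (Steps.fwd (nat_lit 8192) Steps.nil)))))))))) (nat_lit 152) (nat_lit 2),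
  Rule.mk (nat_lit 16) (nat_lit 179) (Steps.fwd (nat_lit 8192) (Steps.fwd (nat_lit 16384) (Steps.fwd (nat_lit 8192) (Steps.fwd (nat_lit 16384) (Steps.fwd (nat_lit 8192) (Steps.bwd (nat_lit 3) (Steps.bwd (nat_lit 1) (Steps.fwd (nat_lit 24576) (Steps.bwd (nat_lit 4) (Steps.fwd (nat_lit 8192) (Steps.bwd (nat_lit 2) Steps.nil))))))))))) (nat_lit 190) (nat_lit 1),
  Rule.mk (nat_lit 15) (nat_lit 179) (Steps.fwd (nat_lit 16384) (Steps.fwd (nat_lit 8192) (Steps.bwd (nat_lit 4) (Steps.bwd (nat_lit 3) (Steps.bwd (nat_lit 1) (Steps.bwd (nat_lit 2) (Steps.bwd (nat_lit 1) (Steps.bwd (nat_lit 2) (Steps.bwd (nat_lit 1) (Steps.bwd (nat_lit 2) (Steps.fwd (nat_lit 8192) Steps.nil))))))))))) (nat_lit 191) (nat_lit 0),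
  Rule.mk (nat_lit 15) (nat_lit 179) (Steps.fwd (nat_lit 16384) (Steps.fwd (nat_lit 8192) (Steps.fwd (nat_lit 32768) (Steps.bwd (nat_lit 3) (Steps.fwd (nat_lit 8192) (Steps.fwd (nat_lit 24576) (Steps.bwd (nat_lit 1) (Steps.bwd (nat_lit 2) (Steps.bwd (nat_lit 1) (Steps.bwd (nat_lit 2) (Steps.fwd (nat_lit 8192) Steps.nil))))))))))) (nat_lit 191) (nat_lit 0),
  Rule.mk (nat_lit 18) (nat_lit 179) (Steps.bwd (nat_lit 1) (Steps.bwd (nat_lit 3) (Steps.bwd (nat_lit 4) (Steps.bwd (nat_lit 1) (Steps.bwd (nat_lit 2) (Steps.bwd (nat_lit 1) (Steps.bwd (nat_lit 2) (Steps.fwd (nat_lit 8192) (Steps.fwd (nat_lit 16384) (Steps.fwd (nat_lit 8192) (Steps.fwd (nat_lit 16384) Steps.nil))))))))))) (nat_lit 192) (nat_lit 1),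
  Rule.mk (nat_lit 2) (nat_lit 539) (Steps.bwd (nat_lit 1) (Steps.bwd (nat_lit 3) (Steps.fwd (nat_lit 8192) (Steps.bwd (nat_lit 2) (Steps.bwd (nat_lit 1) (Steps.bwd (nat_lit 3) (Steps.bwd (nat_lit 1) (Steps.fwd (nat_lit 16384) (Steps.fwd (nat_lit 8192) (Steps.bwd (nat_lit 2) (Steps.fwd (nat_lit 8192) (Steps.bwd (nat_lit 3) (Steps.fwd (nat_lit 8192) (Steps.bwd (nat_lit 3) (Steps.bwd (nat_lit 1) (Steps.fwd (nat_lit 24576) (Steps.bwd (nat_lit 1) (Steps.fwd (nat_lit 16384) (Steps.fwd (nat_lit 8192) (Steps.bwd (nat_lit 3) (Steps.fwd (nat_lit 8192) (Steps.bwd (nat_lit 2) (Steps.bwd (nat_lit 1) (Steps.bwd (nat_lit 2) (Steps.fwd (nat_lit 8192) (Steps.bwd (nat_lit 3) (Steps.bwd (nat_lit 1) (Steps.fwd (nat_lit 24576) (Steps.fwd (nat_lit 8192) (Steps.fwd (nat_lit 24576) (Steps.bwd (nat_lit 1) (Steps.fwd (nat_lit 16384) (Steps.bwd (nat_lit 1) (Steps.bwd (nat_lit 2) (Steps.fwd (nat_lit 8192) Steps.nil)))))))))))))))))))))))))))))))))))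 (nat_lit 12) (nat_lit 16),
  Rule.mk (nat_lit 16) (nat_lit 179) (Steps.fwd (nat_lit 8192) (Steps.fwd (nat_lit 16384) (Steps.fwd (nat_lit 8192) (Steps.fwd (nat_lit 16384) (Steps.fwd (nat_lit 8192) (Steps.fwd (nat_lit 16384) (Steps.bwd (nat_lit 1) (Steps.bwd (nat_lit 2) (Steps.fwd (nat_lit 32768) (Steps.bwd (nat_lit 1) (Steps.fwd (nat_lit 24576) Steps.nil))))))))))) (nat_lit 190) (nat_lit 1),
  Rule.mk (nat_lit 0) (nat_lit 194) (Steps.bwd (nat_lit 15) (Steps.bwd (nat_lit 3) (Steps.bwd (nat_lit 1) (Steps.bwd (nat_lit 4) (Steps.fwd (nat_lit 16384) (Steps.bwd (nat_lit 1) (Steps.bwd (nat_lit 2) (Steps.fwd (nat_lit 8192) (Steps.bwd (nat_lit 2) (Steps.bwd (nat_lit 1) (Steps.bwd (nat_lit 2) (Steps.bwd (nat_lit 1) Steps.nil)))))))))))) (nat_lit 191) (nat_lit 11),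
  Rule.mk (nat_lit 18) (nat_lit 179) (Steps.bwd (nat_lit 1) (Steps.fwd (nat_lit 16384) (Steps.bwd (nat_lit 4) (Steps.bwd (nat_lit 1) (Steps.fwd (nat_lit 24576) (Steps.bwd (nat_lit 1) (Steps.fwd (nat_lit 24576) (Steps.fwd (nat_lit 8192) (Steps.fwd (nat_lit 16384) (Steps.bwd (nat_lit 1) (Steps.fwd (nat_lit 16384) Steps.nil))))))))))) (nat_lit 192) (nat_lit 1),
  Rule.mk (nat_lit 17) (nat_lit 179) (Steps.fwd (nat_lit 24576) (Steps.fwd (nat_lit 8192) (Steps.fwd (nat_lit 24576) (Steps.fwd (nat_lit 8192) (Steps.fwd (nat_lit 16384) (Steps.fwd (nat_lit 8192) (Steps.fwd (nat_lit 16384) (Steps.bwd (nat_lit 1) (Steps.fwd (nat_lit 32768) (Steps.bwd (nat_lit 2) (Steps.bwd (nat_lit 1) Steps.nil))))))))))) (nat_lit 193) (nat_lit 0),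
  Rule.mk (nat_lit 0) (nat_lit 194) (Steps.bwd (nat_lit 17) (Steps.fwd (nat_lit 24576) (Steps.bwd (nat_lit 1) (Steps.fwd (nat_lit 24576) (Steps.fwd (nat_lit 8192) (Steps.fwd (nat_lit 16384) (Steps.bwd (nat_lit 1) (Steps.fwd (nat_lit 16384) (Steps.fwd (nat_lit 8192) (Steps.bwd (nat_lit 4) (Steps.fwd (nat_lit 24576) (Steps.fwd (nat_lit 8192) Steps.nil)))))))))))) (nat_lit 193) (nat_lit 11),
  Rule.mk (nat_lit 20) (nat_lit 179) (Steps.bwd (nat_lit 1) (Steps.fwd (nat_lit 24576) (Steps.fwd (nat_lit 8192) (Steps.fwd (nat_lit 24576) (Steps.fwd (nat_lit 8192) (Steps.fwd (nat_lit 16384) (Steps.fwd (nat_lit 8192) (Steps.fwd (nat_lit 16384) (Steps.bwd (nat_lit 1) (Steps.fwd (nat_lit 32768) (Steps.bwd (nat_lit 2) Steps.nil))))))))))) (nat_lit 194) (nat_lit 1)]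
noncomputable def R_121 : List (Rule) := [Rule.mk (nat_lit 0) (nat_lit 194) (Steps.bwd (nat_lit 20) (Steps.bwd (nat_lit 1) (Steps.fwd (nat_lit 24576) (Steps.bwd (nat_lit 1) (Steps.fwd (nat_lit 24576) (Steps.fwd (nat_lit 8192) (Steps.fwd (nat_lit 16384) (Steps.bwd (nat_lit 1) (Steps.fwd (nat_lit 16384) (Steps.fwd (nat_lit 8192) (Steps.bwd (nat_lit 4) (Steps.fwd (nat_lit 24576) Steps.nil)))))))))))) (nat_lit 194) (nat_lit 0),
  Rule.mk (nat_lit 19) (nat_lit 179) (Steps.bwd (nat_lit 3) (Steps.fwd (nat_lit 32768) (Steps.bwd (nat_lit 1) (Steps.fwd (nat_lit 24576) (Steps.fwd (nat_lit 8192) (Steps.fwd (nat_lit 24576) (Steps.fwd (nat_lit 8192) (Steps.fwd (nat_lit 16384) (Steps.fwd (nat_lit 8192) (Steps.fwd (nat_lit 16384) (Steps.bwd (nat_lit 1) Steps.nil))))))))))) (nat_lit 195) (nat_lit 0),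
  Rule.mk (nat_lit 19) (nat_lit 179) (Steps.fwd (nat_lit 16384) (Steps.bwd (nat_lit 4) (Steps.bwd (nat_lit 1) (Steps.fwd (nat_lit 24576) (Steps.bwd (nat_lit 1) (Steps.fwd (nat_lit 24576) (Steps.fwd (nat_lit 8192) (Steps.fwd (nat_lit 16384) (Steps.bwd (nat_lit 1) (Steps.fwd (nat_lit 16384) (Steps.fwd (nat_lit 8192) Steps.nil))))))))))) (nat_lit 195) (nat_lit 0),
  Rule.mk (nat_lit 17) (nat_lit 179) (Steps.fwd (nat_lit 24576) (Steps.fwd (nat_lit 8192) (Steps.bwd (nat_lit 2) (Steps.fwd (nat_lit 8192) (Steps.fwd (nat_lit 16384) (Steps.bwd (nat_lit 1) (Steps.bwd (nat_lit 3) (Steps.bwd (nat_lit 1) (Steps.bwd (nat_lit 4) (Steps.bwd (nat_lit 2) (Steps.bwd (nat_lit 1) Steps.nil))))))))))) (nat_lit 193) (nat_lit 0),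
  Rule.mk (nat_lit 17) (nat_lit 179) (Steps.bwd (nat_lit 2) (Steps.bwd (nat_lit 1) (Steps.bwd (nat_lit 2) (Steps.bwd (nat_lit 1) (Steps.bwd (nat_lit 3) (Steps.bwd (nat_lit 1) (Steps.bwd (nat_lit 3) (Steps.fwd (nat_lit 8192) (Steps.bwd (nat_lit 4) (Steps.fwd (nat_lit 24576) (Steps.fwd (nat_lit 8192) Steps.nil))))))))))) (nat_lit 193) (nat_lit 0),
  Rule.mk (nat_lit 0) (nat_lit 194) (Steps.bwd (nat_lit 15) (Steps.bwd (nat_lit 3) (Steps.bwd (nat_lit 1) (Steps.bwd (nat_lit 4) (Steps.fwd (nat_lit 16384) (Steps.fwd (nat_lit 8192) (Steps.bwd (nat_lit 2) (Steps.fwd (nat_lit 8192) (Steps.bwd (nat_lit 2) (Steps.fwd (nat_lit 8192) (Steps.fwd (nat_lit 24576) (Steps.fwd (nat_lit 8192) Steps.nil)))))))))))) (nat_lit 191) (nat_lit 11),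
  Rule.mk (nat_lit 16) (nat_lit 179) (Steps.fwd (nat_lit 8192) (Steps.fwd (nat_lit 16384) (Steps.bwd (nat_lit 1) (Steps.bwd (nat_lit 3) (Steps.bwd (nat_lit 1) (Steps.fwd (nat_lit 16384) (Steps.bwd (nat_lit 1) (Steps.bwd (nat_lit 2) (Steps.bwd (nat_lit 4) (Steps.bwd (nat_lit 1) (Steps.bwd (nat_lit 2) Steps.nil))))))))))) (nat_lit 190) (nat_lit 1),
  Rule.mk (nat_lit 1) (nat_lit 179) (Steps.bwd (nat_lit 15) (Steps.fwd (nat_lit 16384) (Steps.fwd (nat_lit 8192) (Steps.fwd (nat_lit 32768) (Steps.bwd (nat_lit 3) (Steps.bwd (nat_lit 1) (Steps.fwd (nat_lit 24576) (Steps.bwd (nat_lit 1) (Steps.bwd (nat_lit 2) (Steps.fwd (nat_lit 8192) (Steps.fwd (nat_lit 24576) Steps.nil))))))))))) (nat_lit 191) (nat_lit 11),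
  Rule.mk (nat_lit 6) (nat_lit 104) (Steps.bwd (nat_lit 11) (Steps.bwd (nat_lit 12) (Steps.fwd (nat_lit 114688) (Steps.bwd (nat_lit 1) (Steps.fwd (nat_lit 90112) (Steps.bwd (nat_lit 1) Steps.nil)))))) (nat_lit 160) (nat_lit 4),
  Rule.mk (nat_lit 7) (nat_lit 164) (Steps.fwd (nat_lit 8192) (Steps.bwd (nat_lit 5) (Steps.bwd (nat_lit 6) (Steps.bwd (nat_lit 9) (Steps.fwd (nat_lit 81920) (Steps.fwd (nat_lit 90112) (Steps.bwd (nat_lit 12) (Steps.fwd (nat_lit 106496) (Steps.fwd (nat_lit 114688) (Steps.bwd (nat_lit 1) Steps.nil)))))))))) (nat_lit 152) (nat_lit 2),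
  Rule.mk (nat_lit 12) (nat_lit 164) (Steps.bwd (nat_lit 1) (Steps.bwd (nat_lit 4) (Steps.bwd (nat_lit 5) (Steps.bwd (nat_lit 8) (Steps.fwd (nat_lit 73728) (Steps.bwd (nat_lit 10) (Steps.bwd (nat_lit 11) (Steps.fwd (nat_lit 98304) (Steps.fwd (nat_lit 114688) (Steps.bwd (nat_lit 1) Steps.nil)))))))))) (nat_lit 162) (nat_lit 2),
  Rule.mk (nat_lit 15) (nat_lit 179) (Steps.bwd (nat_lit 3) (Steps.bwd (nat_lit 1) (Steps.bwd (nat_lit 4) (Steps.bwd (nat_lit 3) (Steps.bwd (nat_lit 1) (Steps.fwd (nat_lit 24576) (Steps.bwd (nat_lit 1) (Steps.fwd (nat_lit 24576) (Steps.fwd (nat_lit 8192) (Steps.bwd (nat_lit 2) (Steps.fwd (nat_lit 8192) Steps.nil))))))))))) (nat_lit 191) (nat_lit 0),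
  Rule.mk (nat_lit 3) (nat_lit 179) (Steps.bwd (nat_lit 18) (Steps.bwd (nat_lit 1) (Steps.bwd (nat_lit 3) (Steps.bwd (nat_lit 4) (Steps.bwd (nat_lit 1) (Steps.fwd (nat_lit 24576) (Steps.fwd (nat_lit 8192) (Steps.fwd (nat_lit 24576) (Steps.bwd (nat_lit 1) (Steps.bwd (nat_lit 3) (Steps.bwd (nat_lit 1) Steps.nil))))))))))) (nat_lit 192) (nat_lit 0),
  Rule.mk (nat_lit 17) (nat_lit 179) (Steps.fwd (nat_lit 24576) (Steps.bwd (nat_lit 1) (Steps.bwd (nat_lit 2) (Steps.bwd (nat_lit 1) (Steps.fwd (nat_lit 16384) (Steps.bwd (nat_lit 1) (Steps.bwd (nat_lit 3) (Steps.bwd (nat_lit 1) (Steps.bwd (nat_lit 4) (Steps.fwd (nat_lit 24576) (Steps.fwd (nat_lit 8192) Steps.nil))))))))))) (nat_lit 193) (nat_lit 0),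
  Rule.mk (nat_lit 0) (nat_lit 194) (Steps.bwd (nat_lit 20) (Steps.bwd (nat_lit 1) (Steps.fwd (nat_lit 24576) (Steps.bwd (nat_lit 1) (Steps.bwd (nat_lit 2) (Steps.bwd (nat_lit 1) (Steps.fwd (nat_lit 16384) (Steps.bwd (nat_lit 1) (Steps.bwd (nat_lit 3) (Steps.bwd (nat_lit 1) (Steps.bwd (nat_lit 4) (Steps.fwd (nat_lit 24576) Steps.nil)))))))))))) (nat_lit 194) (nat_lit 0),
  Rule.mk (nat_lit 19) (nat_lit 179) (Steps.fwd (nat_lit 16384) (Steps.fwd (nat_lit 32768) (Steps.bwd (nat_lit 1) (Steps.fwd (nat_lit 24576) (Steps.bwd (nat_lit 1) (Steps.bwd (nat_lit 2) (Steps.bwd (nat_lit 1) (Steps.fwd (nat_lit 16384) (Steps.bwd (nat_lit 1) (Steps.bwd (nat_lit 3) (Steps.bwd (nat_lit 1) Steps.nil))))))))))) (nat_lit 195) (nat_lit 0),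
  Rule.mk (nat_lit 1) (nat_lit 179) (Steps.bwd (nat_lit 19) (Steps.bwd (nat_lit 3) (Steps.bwd (nat_lit 4) (Steps.bwd (nat_lit 1) (Steps.fwd (nat_lit 24576) (Steps.fwd (nat_lit 8192) (Steps.fwd (nat_lit 24576) (Steps.bwd (nat_lit 1) (Steps.bwd (nat_lit 3) (Steps.bwd (nat_lit 1) (Steps.bwd (nat_lit 3) Steps.nil))))))))))) (nat_lit 195) (nat_lit 11),
  Rule.mk (nat_lit 2) (nat_lit 539) (Steps.bwd (nat_lit 1) (Steps.bwd (nat_lit 3) (Steps.bwd (nat_lit 1) (Steps.fwd (nat_lit 16384) (Steps.bwd (nat_lit 1) (Steps.fwd (nat_lit 24576) (Steps.bwd (nat_lit 1) (Steps.fwd (nat_lit 24576) (Steps.fwd (nat_lit 8192) (Steps.bwd (nat_lit 3) (Steps.fwd (nat_lit 8192) (Steps.bwd (nat_lit 2) (Steps.fwd (nat_lit 8192) (Steps.fwd (nat_lit 24576) (Steps.fwd (nat_lit 8192) (Steps.fwd (nat_lit 16384) (Steps.bwd (nat_lit 1) (Steps.fwd (nat_lit 24576) (Steps.bwd (nat_lit 1) (Steps.bwd (nat_lit 2) (Steps.bwd (nat_lit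 1) (Steps.fwd (nat_lit 16384) (Steps.bwd (nat_lit 1) (Steps.bwd (nat_lit 2) (Steps.bwd (nat_lit 1) (Steps.fwd (nat_lit 16384) (Steps.fwd (nat_lit 8192) (Steps.fwd (nat_lit 16384) (Steps.bwd (nat_lit 1) (Steps.bwd (nat_lit 2) (Steps.bwd (nat_lit 1) (Steps.fwd (nat_lit 16384) (Steps.bwd (nat_lit 1) (Steps.bwd (nat_lit 3) (Steps.bwd (nat_lit 1) Steps.nil))))))))))))))))))))))))))))))))))) (nat_lit 12) (nat_lit 32),
  Rule.mk (nat_lit 0) (nat_lit 554) (Steps.fwd (nat_lit 24576) (Steps.fwd (nat_lit 8192) (Steps.fwd (nat_lit 24576) (Steps.fwd (nat_lit 8192) (Steps.bwd (nat_lit 3) (Steps.bwd (nat_lit 1) (Steps.fwd (nat_lit 24576) (Steps.bwd (nat_lit 1) (Steps.fwd (nat_lit 24576) (Steps.fwd (nat_lit 8192) (Steps.fwd (nat_lit 16384) (Steps.bwd (nat_lit 1) (Steps.bwd (nat_lit 2) (Steps.bwd (nat_lit 1) (Steps.bwd (nat_lit 3) (Steps.fwd (nat_lit 8192) (Steps.fwd (nat_lit 16384) (Steps.fwd (nat_lit 8192)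 (Steps.bwd (nat_lit 2) (Steps.fwd (nat_lit 8192) (Steps.fwd (nat_lit 16384) (Steps.bwd (nat_lit 1) (Steps.bwd (nat_lit 3) (Steps.fwd (nat_lit 8192) (Steps.fwd (nat_lit 24576) (Steps.bwd (nat_lit 1) (Steps.fwd (nat_lit 16384) (Steps.bwd (nat_lit 1) (Steps.bwd (nat_lit 3) (Steps.bwd (nat_lit 1) (Steps.fwd (nat_lit 24576) (Steps.fwd (nat_lit 8192) (Steps.fwd (nat_lit 24576) (Steps.bwd (nat_lit 1) (Steps.bwd (nat_lit 3) (Steps.bwd (nat_lit 1) Steps.nil)))))))))))))))))))))))))))))))))))) (nat_lit 12) (nat_lit 7),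
  Rule.mk (nat_lit 16) (nat_lit 179) (Steps.fwd (nat_lit 8192) (Steps.fwd (nat_lit 16384) (Steps.bwd (nat_lit 1) (Steps.bwd (nat_lit 3) (Steps.fwd (nat_lit 8192) (Steps.fwd (nat_lit 16384) (Steps.fwd (nat_lit 8192) (Steps.fwd (nat_lit 24576) (Steps.bwd (nat_lit 4) (Steps.fwd (nat_lit 8192) (Steps.bwd (nat_lit 2) Steps.nil))))))))))) (nat_lit 190) (nat_lit 1),
  Rule.mk (nat_lit 0) (nat_lit 194) (Steps.bwd (nat_lit 16) (Steps.bwd (nat_lit 1) (Steps.bwd (nat_lit 3) (Steps.fwd (nat_lit 8192) (Steps.fwd (nat_lit 16384) (Steps.fwd (nat_lit 8192) (Steps.bwd (nat_lit 3) (Steps.bwd (nat_lit 1) (Steps.bwd (nat_lit 2) (Steps.fwd (nat_lit 32768) (Steps.fwd (nat_lit 8192) (Steps.bwd (nat_lit 2) Steps.nil)))))))))))) (nat_lit 190) (nat_lit 0),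
  Rule.mk (nat_lit 0) (nat_lit 194) (Steps.fwd (nat_lit 8192) (Steps.fwd (nat_lit 16384) (Steps.fwd (nat_lit 8192) (Steps.bwd (nat_lit 3) (Steps.bwd (nat_lit 1) (Steps.fwd (nat_lit 16384) (Steps.fwd (nat_lit 8192) (Steps.bwd (nat_lit 2) (Steps.fwd (nat_lit 32768) (Steps.fwd (nat_lit 8192) (Steps.fwd (nat_lit 24576) (Steps.fwd (nat_lit 122880) Steps.nil)))))))))))) (nat_lit 190) (nat_lit 1),
  Rule.mk (nat_lit 15) (nat_lit 179) (Steps.fwd (nat_lit 16384) (Steps.bwd (nat_lit 1) (Steps.fwd (nat_lit 32768) (Steps.bwd (nat_lit 3) (Steps.fwd (nat_lit 8192) (Steps.fwd (nat_lit 24576) (Steps.fwd (nat_lit 8192) (Steps.bwd (nat_lit 2) (Steps.fwd (nat_lit 8192) (Steps.fwd (nat_lit 24576) (Steps.fwd (nat_lit 8192) Steps.nil))))))))))) (nat_lit 191) (nat_lit 0),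
  Rule.mk (nat_lit 15) (nat_lit 179) (Steps.bwd (nat_lit 3) (Steps.fwd (nat_lit 8192) (Steps.fwd (nat_lit 32768) (Steps.fwd (nat_lit 16384) (Steps.fwd (nat_lit 8192) (Steps.bwd (nat_lit 2) (Steps.fwd (nat_lit 8192) (Steps.fwd (nat_lit 24576) (Steps.fwd (nat_lit 8192) (Steps.fwd (nat_lit 24576) (Steps.fwd (nat_lit 8192) Steps.nil))))))))))) (nat_lit 191) (nat_lit 0),
  Rule.mk (nat_lit 0) (nat_lit 194) (Steps.bwd (nat_lit 16) (Steps.bwd (nat_lit 1) (Steps.fwd (nat_lit 16384) (Steps.bwd (nat_lit 1) (Steps.bwd (nat_lit 3) (Steps.bwd (nat_lit 1) (Steps.bwd (nat_lit 3) (Steps.bwd (nat_lit 1) (Steps.fwd (nat_lit 24576) (Steps.bwd (nat_lit 4) (Steps.bwd (nat_lit 1) (Steps.fwd (nat_lit 24576) Steps.nil)))))))))))) (nat_lit 190) (nat_lit 0),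
  Rule.mk (nat_lit 0) (nat_lit 194) (Steps.bwd (nat_lit 15) (Steps.bwd (nat_lit 3) (Steps.bwd (nat_lit 1) (Steps.bwd (nat_lit 4) (Steps.fwd (nat_lit 16384) (Steps.fwd (nat_lit 8192) (Steps.fwd (nat_lit 24576) (Steps.fwd (nat_lit 8192) (Steps.bwd (nat_lit 2) (Steps.fwd (nat_lit 8192) (Steps.bwd (nat_lit 2) (Steps.fwd (nat_lit 8192) Steps.nil)))))))))))) (nat_lit 191) (nat_lit 11),
  Rule.mk (nat_lit 15) (nat_lit 179) (Steps.fwd (nat_lit 16384) (Steps.fwd (nat_lit 8192) (Steps.fwd (nat_lit 32768) (Steps.fwd (nat_lit 16384) (Steps.fwd (nat_lit 8192) (Steps.bwd (nat_lit 2) (Steps.bwd (nat_lit 1) (Steps.bwd (nat_lit 2) (Steps.bwd (nat_lit 1) (Steps.bwd (nat_lit 2) (Steps.fwd (nat_lit 8192) Steps.nil))))))))))) (nat_lit 191) (nat_lit 0),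
  Rule.mk (nat_lit 18) (nat_lit 179) (Steps.fwd (nat_lit 8192) (Steps.bwd (nat_lit 3) (Steps.bwd (nat_lit 4) (Steps.fwd (nat_lit 8192) (Steps.bwd (nat_lit 2) (Steps.fwd (nat_lit 8192) (Steps.bwd (nat_lit 2) (Steps.fwd (nat_lit 8192) (Steps.fwd (nat_lit 16384) (Steps.fwd (nat_lit 8192) (Steps.bwd (nat_lit 3) Steps.nil))))))))))) (nat_lit 192) (nat_lit 1),
  Rule.mk (nat_lit 0) (nat_lit 194) (Steps.bwd (nat_lit 2) (Steps.fwd (nat_lit 8192) (Steps.fwd (nat_lit 24576) (Steps.bwd (nat_lit 1) (Steps.bwd (nat_lit 3) (Steps.bwd (nat_lit 1) (Steps.fwd (nat_lit 16384) (Steps.bwd (nat_lit 1) (Steps.fwd (nat_lit 32768) (Steps.bwd (nat_lit 2) (Steps.bwd (nat_lit 1) (Steps.fwd (nat_lit 147456) Steps.nil)))))))))))) (nat_lit 193) (nat_lit 0),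
  Rule.mk (nat_lit 0) (nat_lit 194) (Steps.bwd (nat_lit 17) (Steps.fwd (nat_lit 24576) (Steps.fwd (nat_lit 8192) (Steps.fwd (nat_lit 24576) (Steps.bwd (nat_lit 1) (Steps.bwd (nat_lit 3) (Steps.bwd (nat_lit 1) (Steps.bwd (nat_lit 3) (Steps.bwd (nat_lit 1) (Steps.fwd (nat_lit 32768) (Steps.fwd (nat_lit 24576) (Steps.bwd (nat_lit 1) Steps.nil)))))))))))) (nat_lit 193) (nat_lit 11),
  Rule.mk (nat_lit 17) (nat_lit 179) (Steps.fwd (nat_lit 24576) (Steps.fwd (nat_lit 8192) (Steps.bwd (nat_lit 2) (Steps.bwd (nat_lit 1) (Steps.bwd (nat_lit 3) (Steps.fwd (nat_lit 8192) (Steps.bwd (nat_lit 3) (Steps.fwd (nat_lit 8192) (Steps.bwd (nat_lit 4) (Steps.fwd (nat_lit 24576) (Steps.fwd (nat_lit 8192) Steps.nil))))))))))) (nat_lit 193) (nat_lit 0),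
  Rule.mk (nat_lit 17) (nat_lit 179) (Steps.bwd (nat_lit 2) (Steps.fwd (nat_lit 8192) (Steps.bwd (nat_lit 2) (Steps.fwd (nat_lit 8192) (Steps.fwd (nat_lit 16384) (Steps.fwd (nat_lit 8192) (Steps.bwd (nat_lit 3) (Steps.bwd (nat_lit 1) (Steps.bwd (nat_lit 4) (Steps.bwd (nat_lit 2) (Steps.fwd (nat_lit 8192) Steps.nil))))))))))) (nat_lit 193) (nat_lit 0),
  Rule.mk (nat_lit 0) (nat_lit 194) (Steps.bwd (nat_lit 18) (Steps.bwd (nat_lit 1) (Steps.fwd (nat_lit 16384) (Steps.fwd (nat_lit 32768) (Steps.bwd (nat_lit 1) (Steps.fwd (nat_lit 24576) (Steps.fwd (nat_lit 8192) (Steps.fwd (nat_lit 24576) (Steps.bwd (nat_lit 1) (Steps.bwd (nat_lit 3) (Steps.bwd (nat_lit 1) (Steps.fwd (nat_lit 16384) Steps.nil)))))))))))) (nat_lit 192) (nat_lit 0),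
  Rule.mk (nat_lit 20) (nat_lit 179) (Steps.fwd (nat_lit 8192) (Steps.bwd (nat_lit 2) (Steps.fwd (nat_lit 8192) (Steps.fwd (nat_lit 24576) (Steps.bwd (nat_lit 1) (Steps.bwd (nat_lit 3) (Steps.fwd (nat_lit 8192) (Steps.fwd (nat_lit 16384) (Steps.fwd (nat_lit 8192) (Steps.fwd (nat_lit 32768) (Steps.bwd (nat_lit 2) Steps.nil))))))))))) (nat_lit 194) (nat_lit 1),
  Rule.mk (nat_lit 0) (nat_lit 194) (Steps.bwd (nat_lit 20) (Steps.fwd (nat_lit 8192) (Steps.bwd (nat_lit 2) (Steps.fwd (nat_lit 8192) (Steps.bwd (nat_lit 2) (Steps.fwd (nat_lit 8192) (Steps.fwd (nat_lit 16384) (Steps.fwd (nat_lit 8192) (Steps.bwd (nat_lit 3) (Steps.bwd (nat_lit 1) (Steps.bwd (nat_lit 4) (Steps.bwd (nat_lit 2) Steps.nil)))))))))))) (nat_lit 194) (nat_lit 0),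
  Rule.mk (nat_lit 20) (nat_lit 179) (Steps.fwd (nat_lit 8192) (Steps.bwd (nat_lit 2) (Steps.fwd (nat_lit 8192) (Steps.fwd (nat_lit 24576) (Steps.fwd (nat_lit 8192) (Steps.bwd (nat_lit 3) (Steps.bwd (nat_lit 1) (Steps.bwd (nat_lit 3) (Steps.fwd (nat_lit 8192) (Steps.bwd (nat_lit 4) (Steps.bwd (nat_lit 2) Steps.nil))))))))))) (nat_lit 194) (nat_lit 1),
  Rule.mk (nat_lit 19) (nat_lit 179) (Steps.bwd (nat_lit 3) (Steps.fwd (nat_lit 32768) (Steps.fwd (nat_lit 8192) (Steps.bwd (nat_lit 2) (Steps.fwd (nat_lit 8192) (Steps.fwd (nat_lit 24576) (Steps.bwd (nat_lit 1) (Steps.bwd (nat_lit 3) (Steps.fwd (nat_lit 8192) (Steps.fwd (nat_lit 16384) (Steps.fwd (nat_lit 8192) Steps.nil))))))))))) (nat_lit 195) (nat_lit 0),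
  Rule.mk (nat_lit 19) (nat_lit 179) (Steps.bwd (nat_lit 3) (Steps.bwd (nat_lit 4) (Steps.fwd (nat_lit 8192) (Steps.bwd (nat_lit 2) (Steps.fwd (nat_lit 8192) (Steps.bwd (nat_lit 2) (Steps.fwd (nat_lit 8192) (Steps.fwd (nat_lit 16384) (Steps.fwd (nat_lit 8192) (Steps.bwd (nat_lit 3) (Steps.bwd (nat_lit 1) Steps.nil))))))))))) (nat_lit 195) (nat_lit 0),
  Rule.mk (nat_lit 0) (nat_lit 194) (Steps.bwd (nat_lit 19) (Steps.fwd (nat_lit 16384) (Steps.bwd (nat_lit 4) (Steps.fwd (nat_lit 8192) (Steps.bwd (nat_lit 2) (Steps.fwd (nat_lit 8192) (Steps.fwd (nat_lit 24576) (Steps.fwd (nat_lit 8192) (Steps.bwd (nat_lit 3) (Steps.bwd (nat_lit 1) (Steps.bwd (nat_lit 3) (Steps.fwd (nat_lit 8192) Steps.nil)))))))))))) (nat_lit 195) (nat_lit 11),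
  Rule.mk (nat_lit 19) (nat_lit 179) (Steps.bwd (nat_lit 3) (Steps.bwd (nat_lit 4) (Steps.fwd (nat_lit 8192) (Steps.fwd (nat_lit 24576) (Steps.fwd (nat_lit 8192) (Steps.fwd (nat_lit 24576) (Steps.fwd (nat_lit 8192) (Steps.bwd (nat_lit 3) (Steps.bwd (nat_lit 1) (Steps.bwd (nat_lit 3) (Steps.fwd (nat_lit 8192) Steps.nil))))))))))) (nat_lit 195) (nat_lit 0),
  Rule.mk (nat_lit 17) (nat_lit 179) (Steps.fwd (nat_lit 24576) (Steps.bwd (nat_lit 1) (Steps.bwd (nat_lit 2) (Steps.fwd (nat_lit 8192) (Steps.bwd (nat_lit 3) (Steps.fwd (nat_lit 8192) (Steps.bwd (nat_lit 3) (Steps.bwd (nat_lit 1) (Steps.fwd (nat_lit 32768) (Steps.bwd (nat_lit 2) (Steps.bwd (nat_lit 1) Steps.nil))))))))))) (nat_lit 193) (nat_lit 0),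
  Rule.mk (nat_lit 16) (nat_lit 179) (Steps.fwd (nat_lit 8192) (Steps.fwd (nat_lit 16384) (Steps.fwd (nat_lit 8192) (Steps.fwd (nat_lit 16384) (Steps.bwd (nat_lit 1) (Steps.bwd (nat_lit 3) (Steps.fwd (nat_lit 8192) (Steps.fwd (nat_lit 24576) (Steps.bwd (nat_lit 4) (Steps.fwd (nat_lit 8192) (Steps.fwd (nat_lit 24576) Steps.nil))))))))))) (nat_lit 190) (nat_lit 1),
  Rule.mk (nat_lit 19) (nat_lit 179) (Steps.bwd (nat_lit 3) (Steps.fwd (nat_lit 32768) (Steps.bwd (nat_lit 1) (Steps.fwd (nat_lit 24576) (Steps.bwd (nat_lit 1) (Steps.fwd (nat_lit 24576) (Steps.fwd (nat_lit 8192) (Steps.fwd (nat_lit 16384) (Steps.bwd (nat_lit 1) (Steps.bwd (nat_lit 3) (Steps.bwd (nat_lit 1) Steps.nil))))))))))) (nat_lit 195) (nat_lit 0),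
  Rule.mk (nat_lit 2) (nat_lit 179) (Steps.bwd (nat_lit 16) (Steps.bwd (nat_lit 1) (Steps.bwd (nat_lit 3) (Steps.bwd (nat_lit 1) (Steps.fwd (nat_lit 16384) (Steps.fwd (nat_lit 8192) (Steps.bwd (nat_lit 3) (Steps.bwd (nat_lit 1) (Steps.bwd (nat_lit 2) (Steps.fwd (nat_lit 32768) (Steps.fwd (nat_lit 8192) Steps.nil))))))))))) (nat_lit 190) (nat_lit 0),
  Rule.mk (nat_lit 13) (nat_lit 134) (Steps.bwd (nat_lit 3) (Steps.bwd (nat_lit 6) (Steps.bwd (nat_lit 10) (Steps.bwd (nat_lit 11) (Steps.bwd (nat_lit 12) (Steps.fwd (nat_lit 106496) (Steps.fwd (nat_lit 114688) (Steps.bwd (nat_lit 2) Steps.nil)))))))) (nat_lit 186) (nat_lit 2),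
  Rule.mk (nat_lit 5) (nat_lit 149) (Steps.fwd (nat_lit 16384) (Steps.fwd (nat_lit 32768) (Steps.bwd (nat_lit 5) (Steps.bwd (nat_lit 8) (Steps.fwd (nat_lit 73728) (Steps.bwd (nat_lit 12) (Steps.fwd (nat_lit 106496) (Steps.fwd (nat_lit 114688) (Steps.bwd (nat_lit 2) Steps.nil))))))))) (nat_lit 170) (nat_lit 2),
  Rule.mk (nat_lit 3) (nat_lit 179) (Steps.bwd (nat_lit 18) (Steps.bwd (nat_lit 1) (Steps.bwd (nat_lit 3) (Steps.bwd (nat_lit 4) (Steps.bwd (nat_lit 1) (Steps.fwd (nat_lit 24576) (Steps.bwd (nat_lit 1) (Steps.bwd (nat_lit 2) (Steps.bwd (nat_lit 1) (Steps.bwd (nat_lit 3) (Steps.bwd (nat_lit 1) Steps.nil))))))))))) (nat_lit 192) (nat_lit 0),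
  Rule.mk (nat_lit 5) (nat_lit 104) (Steps.bwd (nat_lit 7) (Steps.bwd (nat_lit 13) (Steps.fwd (nat_lit 114688) (Steps.bwd (nat_lit 2) (Steps.bwd (nat_lit 7) (Steps.bwd (nat_lit 3) Steps.nil)))))) (nat_lit 174) (nat_lit 4),
  Rule.mk (nat_lit 6) (nat_lit 104) (Steps.fwd (nat_lit 90112) (Steps.fwd (nat_lit 98304) (Steps.bwd (nat_lit 14) (Steps.bwd (nat_lit 2) (Steps.bwd (nat_lit 10) (Steps.bwd (nat_lit 3) Steps.nil)))))) (nat_lit 180) (nat_lit 4),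
  Rule.mk (nat_lit 18) (nat_lit 179) (Steps.bwd (nat_lit 1) (Steps.bwd (nat_lit 3) (Steps.bwd (nat_lit 4) (Steps.fwd (nat_lit 8192) (Steps.fwd (nat_lit 24576) (Steps.fwd (nat_lit 8192) (Steps.bwd (nat_lit 2) (Steps.bwd (nat_lit 1) (Steps.fwd (nat_lit 16384) (Steps.fwd (nat_lit 8192) (Steps.fwd (nat_lit 16384) Steps.nil))))))))))) (nat_lit 192) (nat_lit 1),
  Rule.mk (nat_lit 19) (nat_lit 179) (Steps.bwd (nat_lit 3) (Steps.bwd (nat_lit 4) (Steps.fwd (nat_lit 8192) (Steps.fwd (nat_lit 24576) (Steps.fwd (nat_lit 8192) (Steps.bwd (nat_lit 2) (Steps.bwd (nat_lit 1) (Steps.fwd (nat_lit 16384) (Steps.fwd (nat_lit 8192) (Steps.fwd (nat_lit 16384) (Steps.fwd (nat_lit 8192) Steps.nil))))))))))) (nat_lit 195) (nat_lit 0),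
  Rule.mk (nat_lit 16) (nat_lit 179) (Steps.fwd (nat_lit 8192) (Steps.fwd (nat_lit 16384) (Steps.bwd (nat_lit 1) (Steps.bwd (nat_lit 3) (Steps.bwd (nat_lit 1) (Steps.bwd (nat_lit 3) (Steps.bwd (nat_lit 1) (Steps.fwd (nat_lit 24576) (Steps.bwd (nat_lit 4) (Steps.fwd (nat_lit 8192) (Steps.fwd (nat_lit 24576) Steps.nil))))))))))) (nat_lit 190) (nat_lit 1),
  Rule.mk (nat_lit 15) (nat_lit 179) (Steps.bwd (nat_lit 3) (Steps.fwd (nat_lit 8192) (Steps.bwd (nat_lit 4) (Steps.bwd (nat_lit 3) (Steps.bwd (nat_lit 1) (Steps.bwd (nat_lit 2) (Steps.bwd (nat_lit 1) (Steps.bwd (nat_lit 2) (Steps.fwd (nat_lit 8192) (Steps.fwd (nat_lit 24576) (Steps.bwd (nat_lit 1) Steps.nil))))))))))) (nat_lit 191) (nat_lit 0),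
  Rule.mk (nat_lit 19) (nat_lit 179) (Steps.bwd (nat_lit 3) (Steps.fwd (nat_lit 32768) (Steps.fwd (nat_lit 8192) (Steps.fwd (nat_lit 24576) (Steps.bwd (nat_lit 1) (Steps.fwd (nat_lit 24576) (Steps.fwd (nat_lit 8192) (Steps.fwd (nat_lit 16384) (Steps.bwd (nat_lit 1) (Steps.fwd (nat_lit 16384) (Steps.bwd (nat_lit 1) Steps.nil))))))))))) (nat_lit 195) (nat_lit 0),
  Rule.mk (nat_lit 2) (nat_lit 179) (Steps.bwd (nat_lit 20) (Steps.fwd (nat_lit 8192) (Steps.fwd (nat_lit 24576) (Steps.bwd (nat_lit 1) (Steps.bwd (nat_lit 2) (Steps.fwd (nat_lit 8192) (Steps.fwd (nat_lit 16384) (Steps.fwd (nat_lit 8192) (Steps.fwd (nat_lit 16384) (Steps.fwd (nat_lit 8192) (Steps.fwd (nat_lit 32768) Steps.nil))))))))))) (nat_lit 194) (nat_lit 0),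
  Rule.mk (nat_lit 8) (nat_lit 89) (Steps.fwd (nat_lit 16384) (Steps.bwd (nat_lit 4) (Steps.bwd (nat_lit 7) (Steps.fwd (nat_lit 114688) (Steps.bwd (nat_lit 2) Steps.nil))))) (nat_lit 176) (nat_lit 2),
  Rule.mk (nat_lit 12) (nat_lit 104) (Steps.fwd (nat_lit 16384) (Steps.bwd (nat_lit 4) (Steps.fwd (nat_lit 40960) (Steps.bwd (nat_lit 8) (Steps.bwd (nat_lit 9) (Steps.bwd (nat_lit 2) Steps.nil)))))) (nat_lit 184) (nat_lit 2),
  Rule.mk (nat_lit 9) (nat_lit 134) (Steps.fwd (nat_lit 16384) (Steps.fwd (nat_lit 32768) (Steps.bwd (nat_lit 5) (Steps.bwd (nat_lit 8) (Steps.bwd (nat_lit 9) (Steps.bwd (nat_lit 11) (Steps.fwd (nat_lit 114688) (Steps.bwd (nat_lit 2) Steps.nil)))))))) (nat_lit 178) (nat_lit 2),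
  Rule.mk (nat_lit 13) (nat_lit 134) (Steps.fwd (nat_lit 16384) (Steps.fwd (nat_lit 49152) (Steps.bwd (nat_lit 10) (Steps.fwd (nat_lit 90112) (Steps.bwd (nat_lit 12) (Steps.bwd (nat_lit 13) (Steps.fwd (nat_lit 114688) (Steps.bwd (nat_lit 2) Steps.nil)))))))) (nat_lit 186) (nat_lit 2),
  Rule.mk (nat_lit 5) (nat_lit 149) (Steps.bwd (nat_lit 3) (Steps.fwd (nat_lit 32768) (Steps.bwd (nat_lit 5) (Steps.bwd (nat_lit 8) (Steps.bwd (nat_lit 9) (Steps.bwd (nat_lit 12) (Steps.bwd (nat_lit 13) (Steps.fwd (nat_lit 114688) (Steps.bwd (nat_lit 2) Steps.nil))))))))) (nat_lit 170) (nat_lit 2),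
  Rule.mk (nat_lit 11) (nat_lit 164) (Steps.fwd (nat_lit 16384) (Steps.bwd (nat_lit 4) (Steps.fwd (nat_lit 40960) (Steps.bwd (nat_lit 8) (Steps.fwd (nat_lit 73728) (Steps.bwd (nat_lit 10) (Steps.bwd (nat_lit 11) (Steps.bwd (nat_lit 12) (Steps.fwd (nat_lit 114688) (Steps.bwd (nat_lit 2) Steps.nil)))))))))) (nat_lit 182) (nat_lit 2),
  Rule.mk (nat_lit 16) (nat_lit 179) (Steps.fwd (nat_lit 8192) (Steps.bwd (nat_lit 3) (Steps.bwd (nat_lit 1) (Steps.fwd (nat_lit 16384) (Steps.bwd (nat_lit 1) (Steps.fwd (nat_lit 16384) (Steps.fwd (nat_lit 8192) (Steps.bwd (nat_lit 2) (Steps.fwd (nat_lit 32768) (Steps.fwd (nat_lit 8192) (Steps.bwd (nat_lit 2) Steps.nil))))))))))) (nat_lit 190) (nat_lit 1),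
  Rule.mk (nat_lit 1) (nat_lit 599) (Steps.fwd (nat_lit 16384) (Steps.bwd (nat_lit 1) (Steps.fwd (nat_lit 16384) (Steps.bwd (nat_lit 1) (Steps.bwd (nat_lit 2) (Steps.bwd (nat_lit 1) (Steps.bwd (nat_lit 2) (Steps.bwd (nat_lit 1) (Steps.fwd (nat_lit 16384) (Steps.fwd (nat_lit 8192) (Steps.fwd (nat_lit 16384) (Steps.fwd (nat_lit 8192) (Steps.bwd (nat_lit 2) (Steps.bwd (nat_lit 1) (Steps.fwd (nat_lit 24576) (Steps.bwd (nat_lit 1) (Steps.bwd (nat_lit 3) (Steps.fwd (nat_lit 8192) (Steps.bwd (nat_lit 3) (Steps.fwd (nat_lit 8192) (Steps.fwd (nat_lit 24576) (Steps.bwd (nat_lit 1) (Steps.fwd (nat_lit 24576) (Steps.bwd (nat_lit 1) (Steps.fwd (nat_lit 16384) (Steps.fwd (nat_lit 8192) (Steps.bwd (nat_lit 3) (Steps.fwd (nat_lit 8192) (Steps.fwd (nat_lit 24576) (Steps.fwd (nat_lit 8192) (Steps.fwd (nat_lit 24576) (Steps.bwd (nat_lit 1) (Steps.fwd (nat_lit 16384) (Steps.bwd (nat_lit 1) (Steps.fwd (nat_lit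 16384) (Steps.bwd (nat_lit 1) (Steps.bwd (nat_lit 2) (Steps.fwd (nat_lit 8192) (Steps.bwd (nat_lit 2) Steps.nil))))))))))))))))))))))))))))))))))))))) (nat_lit 8) (nat_lit 1),
  Rule.mk (nat_lit 16) (nat_lit 179) (Steps.bwd (nat_lit 1) (Steps.fwd (nat_lit 16384) (Steps.bwd (nat_lit 1) (Steps.fwd (nat_lit 16384) (Steps.bwd (nat_lit 1) (Steps.fwd (nat_lit 16384) (Steps.bwd (nat_lit 1) (Steps.bwd (nat_lit 2) (Steps.bwd (nat_lit 4) (Steps.bwd (nat_lit 1) (Steps.bwd (nat_lit 2) Steps.nil))))))))))) (nat_lit 190) (nat_lit 1)]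
noncomputable def R_122 : List (Rule) := [Rule.mk (nat_lit 16) (nat_lit 179) (Steps.bwd (nat_lit 1) (Steps.fwd (nat_lit 16384) (Steps.bwd (nat_lit 1) (Steps.fwd (nat_lit 16384) (Steps.bwd (nat_lit 1) (Steps.fwd (nat_lit 16384) (Steps.bwd (nat_lit 1) (Steps.fwd (nat_lit 24576) (Steps.bwd (nat_lit 4) (Steps.fwd (nat_lit 8192) (Steps.bwd (nat_lit 2) Steps.nil))))))))))) (nat_lit 190) (nat_lit 1),
  Rule.mk (nat_lit 16) (nat_lit 179) (Steps.bwd (nat_lit 1) (Steps.fwd (nat_lit 16384) (Steps.bwd (nat_lit 1) (Steps.fwd (nat_lit 16384) (Steps.bwd (nat_lit 1) (Steps.fwd (nat_lit 16384) (Steps.bwd (nat_lit 1) (Steps.bwd (nat_lit 2) (Steps.fwd (nat_lit 32768) (Steps.fwd (nat_lit 8192) (Steps.bwd (nat_lit 2) Steps.nil))))))))))) (nat_lit 190) (nat_lit 1),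
  Rule.mk (nat_lit 0) (nat_lit 194) (Steps.bwd (nat_lit 15) (Steps.fwd (nat_lit 16384) (Steps.fwd (nat_lit 8192) (Steps.fwd (nat_lit 32768) (Steps.fwd (nat_lit 16384) (Steps.bwd (nat_lit 1) (Steps.bwd (nat_lit 2) (Steps.fwd (nat_lit 8192) (Steps.fwd (nat_lit 24576) (Steps.bwd (nat_lit 1) (Steps.bwd (nat_lit 2) (Steps.bwd (nat_lit 1) Steps.nil)))))))))))) (nat_lit 191) (nat_lit 11),
  Rule.mk (nat_lit 18) (nat_lit 179) (Steps.bwd (nat_lit 1) (Steps.bwd (nat_lit 3) (Steps.fwd (nat_lit 32768) (Steps.fwd (nat_lit 8192) (Steps.fwd (nat_lit 24576) (Steps.bwd (nat_lit 1) (Steps.fwd (nat_lit 24576) (Steps.bwd (nat_lit 1) (Steps.fwd (nat_lit 16384) (Steps.bwd (nat_lit 1) (Steps.fwd (nat_lit 16384) Steps.nil))))))))))) (nat_lit 192) (nat_lit 1),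
  Rule.mk (nat_lit 18) (nat_lit 179) (Steps.fwd (nat_lit 8192) (Steps.fwd (nat_lit 16384) (Steps.fwd (nat_lit 32768) (Steps.bwd (nat_lit 1) (Steps.bwd (nat_lit 2) (Steps.fwd (nat_lit 8192) (Steps.bwd (nat_lit 2) (Steps.bwd (nat_lit 1) (Steps.fwd (nat_lit 16384) (Steps.bwd (nat_lit 1) (Steps.fwd (nat_lit 16384) Steps.nil))))))))))) (nat_lit 192) (nat_lit 1),
  Rule.mk (nat_lit 17) (nat_lit 179) (Steps.fwd (nat_lit 24576) (Steps.bwd (nat_lit 1) (Steps.bwd (nat_lit 2) (Steps.fwd (nat_lit 8192) (Steps.fwd (nat_lit 16384) (Steps.fwd (nat_lit 8192) (Steps.fwd (nat_lit 16384) (Steps.fwd (nat_lit 8192) (Steps.fwd (nat_lit 32768) (Steps.bwd (nat_lit 2) (Steps.bwd (nat_lit 1) Steps.nil))))))))))) (nat_lit 193) (nat_lit 0),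
  Rule.mk (nat_lit 0) (nat_lit 194) (Steps.bwd (nat_lit 17) (Steps.fwd (nat_lit 24576) (Steps.bwd (nat_lit 1) (Steps.fwd (nat_lit 24576) (Steps.bwd (nat_lit 1) (Steps.fwd (nat_lit 16384) (Steps.bwd (nat_lit 1) (Steps.fwd (nat_lit 16384) (Steps.bwd (nat_lit 1) (Steps.fwd (nat_lit 32768) (Steps.fwd (nat_lit 24576) (Steps.fwd (nat_lit 8192) Steps.nil)))))))))))) (nat_lit 193) (nat_lit 11),
  Rule.mk (nat_lit 17) (nat_lit 179) (Steps.bwd (nat_lit 2) (Steps.fwd (nat_lit 8192) (Steps.bwd (nat_lit 2) (Steps.bwd (nat_lit 1) (Steps.fwd (nat_lit 16384) (Steps.bwd (nat_lit 1) (Steps.fwd (nat_lit 16384) (Steps.bwd (nat_lit 1) (Steps.bwd (nat_lit 4) (Steps.bwd (nat_lit 2) (Steps.fwd (nat_lit 8192) Steps.nil))))))))))) (nat_lit 193) (nat_lit 0),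
  Rule.mk (nat_lit 17) (nat_lit 179) (Steps.bwd (nat_lit 2) (Steps.bwd (nat_lit 1) (Steps.bwd (nat_lit 2) (Steps.fwd (nat_lit 8192) (Steps.bwd (nat_lit 3) (Steps.fwd (nat_lit 8192) (Steps.bwd (nat_lit 3) (Steps.bwd (nat_lit 1) (Steps.fwd (nat_lit 32768) (Steps.bwd (nat_lit 2) (Steps.bwd (nat_lit 1) Steps.nil))))))))))) (nat_lit 193) (nat_lit 0),
  Rule.mk (nat_lit 20) (nat_lit 179) (Steps.fwd (nat_lit 8192) (Steps.bwd (nat_lit 2) (Steps.fwd (nat_lit 8192) (Steps.bwd (nat_lit 2) (Steps.bwd (nat_lit 1) (Steps.fwd (nat_lit 16384) (Steps.bwd (nat_lit 1) (Steps.fwd (nat_lit 16384) (Steps.bwd (nat_lit 1) (Steps.fwd (nat_lit 32768) (Steps.fwd (nat_lit 24576) Steps.nil))))))))))) (nat_lit 194) (nat_lit 1),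
  Rule.mk (nat_lit 0) (nat_lit 194) (Steps.bwd (nat_lit 20) (Steps.fwd (nat_lit 8192) (Steps.fwd (nat_lit 24576) (Steps.bwd (nat_lit 1) (Steps.fwd (nat_lit 24576) (Steps.bwd (nat_lit 1) (Steps.fwd (nat_lit 16384) (Steps.bwd (nat_lit 1) (Steps.fwd (nat_lit 16384) (Steps.bwd (nat_lit 1) (Steps.fwd (nat_lit 32768) (Steps.fwd (nat_lit 24576) Steps.nil)))))))))))) (nat_lit 194) (nat_lit 0),
  Rule.mk (nat_lit 20) (nat_lit 179) (Steps.bwd (nat_lit 1) (Steps.bwd (nat_lit 2) (Steps.fwd (nat_lit 8192) (Steps.bwd (nat_lit 2) (Steps.bwd (nat_lit 1) (Steps.fwd (nat_lit 16384) (Steps.bwd (nat_lit 1) (Steps.fwd (nat_lit 16384) (Steps.bwd (nat_lit 1) (Steps.bwd (nat_lit 4) (Steps.bwd (nat_lit 2) Steps.nil))))))))))) (nat_lit 194) (nat_lit 1),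
  Rule.mk (nat_lit 20) (nat_lit 179) (Steps.fwd (nat_lit 8192) (Steps.bwd (nat_lit 2) (Steps.bwd (nat_lit 1) (Steps.bwd (nat_lit 2) (Steps.fwd (nat_lit 8192) (Steps.bwd (nat_lit 3) (Steps.fwd (nat_lit 8192) (Steps.bwd (nat_lit 3) (Steps.bwd (nat_lit 1) (Steps.fwd (nat_lit 32768) (Steps.bwd (nat_lit 2) Steps.nil))))))))))) (nat_lit 194) (nat_lit 1),
  Rule.mk (nat_lit 20) (nat_lit 179) (Steps.bwd (nat_lit 1) (Steps.bwd (nat_lit 2) (Steps.fwd (nat_lit 8192) (Steps.fwd (nat_lit 24576) (Steps.bwd (nat_lit 1) (Steps.bwd (nat_lit 3) (Steps.fwd (nat_lit 8192) (Steps.fwd (nat_lit 16384) (Steps.fwd (nat_lit 8192) (Steps.bwd (nat_lit 4) (Steps.fwd (nat_lit 24576) Steps.nil))))))))))) (nat_lit 194) (nat_lit 1),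
  Rule.mk (nat_lit 19) (nat_lit 179) (Steps.bwd (nat_lit 3) (Steps.fwd (nat_lit 32768) (Steps.fwd (nat_lit 8192) (Steps.fwd (nat_lit 24576) (Steps.bwd (nat_lit 1) (Steps.fwd (nat_lit 24576) (Steps.bwd (nat_lit 1) (Steps.fwd (nat_lit 16384) (Steps.bwd (nat_lit 1) (Steps.fwd (nat_lit 16384) (Steps.bwd (nat_lit 1) Steps.nil))))))))))) (nat_lit 195) (nat_lit 0),
  Rule.mk (nat_lit 0) (nat_lit 194) (Steps.fwd (nat_lit 8192) (Steps.bwd (nat_lit 2) (Steps.fwd (nat_lit 8192) (Steps.bwd (nat_lit 2) (Steps.fwd (nat_lit 8192) (Steps.fwd (nat_lit 16384) (Steps.fwd (nat_lit 8192) (Steps.fwd (nat_lit 16384) (Steps.fwd (nat_lit 8192) (Steps.bwd (nat_lit 4) (Steps.bwd (nat_lit 2) (Steps.fwd (nat_lit 155648) Steps.nil)))))))))))) (nat_lit 194) (nat_lit 1),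
  Rule.mk (nat_lit 2) (nat_lit 104) (Steps.bwd (nat_lit 10) (Steps.fwd (nat_lit 16384) (Steps.bwd (nat_lit 6) (Steps.bwd (nat_lit 11) (Steps.bwd (nat_lit 12) (Steps.fwd (nat_lit 114688) Steps.nil)))))) (nat_lit 180) (nat_lit 1),
  Rule.mk (nat_lit 16) (nat_lit 179) (Steps.bwd (nat_lit 1) (Steps.bwd (nat_lit 3) (Steps.fwd (nat_lit 8192) (Steps.fwd (nat_lit 16384) (Steps.fwd (nat_lit 8192) (Steps.fwd (nat_lit 16384) (Steps.fwd (nat_lit 8192) (Steps.bwd (nat_lit 2) (Steps.fwd (nat_lit 32768) (Steps.bwd (nat_lit 1) (Steps.bwd (nat_lit 2) Steps.nil))))))))))) (nat_lit 190) (nat_lit 1),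
  Rule.mk (nat_lit 20) (nat_lit 179) (Steps.bwd (nat_lit 1) (Steps.fwd (nat_lit 24576) (Steps.bwd (nat_lit 1) (Steps.bwd (nat_lit 2) (Steps.fwd (nat_lit 8192) (Steps.fwd (nat_lit 16384) (Steps.fwd (nat_lit 8192) (Steps.bwd (nat_lit 3) (Steps.fwd (nat_lit 8192) (Steps.bwd (nat_lit 4) (Steps.bwd (nat_lit 2) Steps.nil))))))))))) (nat_lit 194) (nat_lit 1),
  Rule.mk (nat_lit 1) (nat_lit 539) (Steps.bwd (nat_lit 3) (Steps.fwd (nat_lit 8192) (Steps.bwd (nat_lit 3) (Steps.fwd (nat_lit 8192) (Steps.bwd (nat_lit 2) (Steps.fwd (nat_lit 8192) (Steps.fwd (nat_lit 24576) (Steps.bwd (nat_lit 1) (Steps.fwd (nat_lit 16384) (Steps.fwd (nat_lit 8192) (Steps.fwd (nat_lit 24576) (Steps.bwd (nat_lit 1) (Steps.fwd (nat_lit 24576) (Steps.fwd (nat_lit 8192) (Steps.bwd (nat_lit 3) (Steps.fwd (nat_lit 8192) (Steps.bwd (nat_lit 2) (Steps.fwd (nat_lit 8192) (Steps.bwd (nat_lit 2) (Steps.fwd (nat_lit 8192) (Steps.fwd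 (nat_lit 16384) (Steps.fwd (nat_lit 8192) (Steps.fwd (nat_lit 24576) (Steps.bwd (nat_lit 1) (Steps.fwd (nat_lit 16384) (Steps.bwd (nat_lit 1) (Steps.bwd (nat_lit 3) (Steps.bwd (nat_lit 1) (Steps.fwd (nat_lit 24576) (Steps.bwd (nat_lit 1) (Steps.fwd (nat_lit 16384) (Steps.bwd (nat_lit 1) (Steps.bwd (nat_lit 3) (Steps.bwd (nat_lit 1) (Steps.bwd (nat_lit 2) Steps.nil))))))))))))))))))))))))))))))))))) (nat_lit 12) (nat_lit 33),
  Rule.mk (nat_lit 16) (nat_lit 179) (Steps.bwd (nat_lit 1) (Steps.bwd (nat_lit 3) (Steps.bwd (nat_lit 1) (Steps.fwd (nat_lit 16384) (Steps.fwd (nat_lit 8192) (Steps.fwd (nat_lit 16384) (Steps.bwd (nat_lit 1) (Steps.bwd (nat_lit 2) (Steps.fwd (nat_lit 32768) (Steps.bwd (nat_lit 1) (Steps.fwd (nat_lit 24576) Steps.nil))))))))))) (nat_lit 190) (nat_lit 1),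
  Rule.mk (nat_lit 16) (nat_lit 179) (Steps.bwd (nat_lit 1) (Steps.fwd (nat_lit 16384) (Steps.fwd (nat_lit 8192) (Steps.fwd (nat_lit 16384) (Steps.bwd (nat_lit 1) (Steps.bwd (nat_lit 3) (Steps.fwd (nat_lit 8192) (Steps.fwd (nat_lit 24576) (Steps.bwd (nat_lit 4) (Steps.fwd (nat_lit 8192) (Steps.bwd (nat_lit 2) Steps.nil))))))))))) (nat_lit 190) (nat_lit 1),
  Rule.mk (nat_lit 0) (nat_lit 194) (Steps.bwd (nat_lit 15) (Steps.bwd (nat_lit 3) (Steps.fwd (nat_lit 8192) (Steps.bwd (nat_lit 4) (Steps.fwd (nat_lit 16384) (Steps.bwd (nat_lit 1) (Steps.fwd (nat_lit 24576) (Steps.bwd (nat_lit 1) (Steps.fwd (nat_lit 24576) (Steps.fwd (nat_lit 8192) (Steps.bwd (nat_lit 2) (Steps.fwd (nat_lit 8192) Steps.nil)))))))))))) (nat_lit 191) (nat_lit 11),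
  Rule.mk (nat_lit 15) (nat_lit 179) (Steps.fwd (nat_lit 16384) (Steps.bwd (nat_lit 1) (Steps.fwd (nat_lit 32768) (Steps.fwd (nat_lit 16384) (Steps.fwd (nat_lit 8192) (Steps.fwd (nat_lit 24576) (Steps.bwd (nat_lit 1) (Steps.bwd (nat_lit 2) (Steps.bwd (nat_lit 1) (Steps.bwd (nat_lit 2) (Steps.bwd (nat_lit 1) Steps.nil))))))))))) (nat_lit 191) (nat_lit 0),
  Rule.mk (nat_lit 0) (nat_lit 194) (Steps.bwd (nat_lit 16) (Steps.bwd (nat_lit 1) (Steps.fwd (nat_lit 16384) (Steps.bwd (nat_lit 1) (Steps.bwd (nat_lit 3) (Steps.fwd (nat_lit 8192) (Steps.fwd (nat_lit 16384) (Steps.fwd (nat_lit 8192) (Steps.bwd (nat_lit 2) (Steps.fwd (nat_lit 32768) (Steps.bwd (nat_lit 1) (Steps.bwd (nat_lit 2) Steps.nil)))))))))))) (nat_lit 190) (nat_lit 0),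
  Rule.mk (nat_lit 15) (nat_lit 179) (Steps.fwd (nat_lit 16384) (Steps.bwd (nat_lit 1) (Steps.fwd (nat_lit 32768) (Steps.bwd (nat_lit 3) (Steps.fwd (nat_lit 8192) (Steps.bwd (nat_lit 2) (Steps.bwd (nat_lit 1) (Steps.fwd (nat_lit 24576) (Steps.fwd (nat_lit 8192) (Steps.bwd (nat_lit 2) (Steps.bwd (nat_lit 1) Steps.nil))))))))))) (nat_lit 191) (nat_lit 0),
  Rule.mk (nat_lit 18) (nat_lit 179) (Steps.bwd (nat_lit 1) (Steps.fwd (nat_lit 16384) (Steps.bwd (nat_lit 4) (Steps.bwd (nat_lit 1) (Steps.fwd (nat_lit 24576) (Steps.fwd (nat_lit 8192) (Steps.bwd (nat_lit 2) (Steps.fwd (nat_lit 8192) (Steps.fwd (nat_lit 16384) (Steps.bwd (nat_lit 1) (Steps.bwd (nat_lit 3) Steps.nil))))))))))) (nat_lit 192) (nat_lit 1),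
  Rule.mk (nat_lit 18) (nat_lit 179) (Steps.bwd (nat_lit 1) (Steps.fwd (nat_lit 16384) (Steps.bwd (nat_lit 4) (Steps.fwd (nat_lit 8192) (Steps.fwd (nat_lit 24576) (Steps.bwd (nat_lit 1) (Steps.bwd (nat_lit 2) (Steps.bwd (nat_lit 1) (Steps.bwd (nat_lit 3) (Steps.fwd (nat_lit 8192) (Steps.bwd (nat_lit 3) Steps.nil))))))))))) (nat_lit 192) (nat_lit 1),
  Rule.mk (nat_lit 0) (nat_lit 194) (Steps.bwd (nat_lit 17) (Steps.bwd (nat_lit 2) (Steps.fwd (nat_lit 8192) (Steps.fwd (nat_lit 24576) (Steps.fwd (nat_lit 8192) (Steps.fwd (nat_lit 16384) (Steps.fwd (nat_lit 8192) (Steps.fwd (nat_lit 16384) (Steps.fwd (nat_lit 8192) (Steps.bwd (nat_lit 4) (Steps.fwd (nat_lit 24576) (Steps.fwd (nat_lit 8192) Steps.nil)))))))))))) (nat_lit 193) (nat_lit 11),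
  Rule.mk (nat_lit 17) (nat_lit 179) (Steps.fwd (nat_lit 24576) (Steps.bwd (nat_lit 1) (Steps.bwd (nat_lit 2) (Steps.fwd (nat_lit 8192) (Steps.fwd (nat_lit 16384) (Steps.fwd (nat_lit 8192) (Steps.bwd (nat_lit 3) (Steps.fwd (nat_lit 8192) (Steps.bwd (nat_lit 4) (Steps.bwd (nat_lit 2) (Steps.bwd (nat_lit 1) Steps.nil))))))))))) (nat_lit 193) (nat_lit 0),
  Rule.mk (nat_lit 17) (nat_lit 179) (Steps.fwd (nat_lit 24576) (Steps.bwd (nat_lit 1) (Steps.bwd (nat_lit 2) (Steps.bwd (nat_lit 1) (Steps.bwd (nat_lit 3) (Steps.fwd (nat_lit 8192) (Steps.bwd (nat_lit 3) (Steps.fwd (nat_lit 8192) (Steps.fwd (nat_lit 32768) (Steps.fwd (nat_lit 24576) (Steps.bwd (nat_lit 1) Steps.nil))))))))))) (nat_lit 193) (nat_lit 0),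
  Rule.mk (nat_lit 17) (nat_lit 179) (Steps.bwd (nat_lit 2) (Steps.bwd (nat_lit 1) (Steps.bwd (nat_lit 2) (Steps.bwd (nat_lit 1) (Steps.bwd (nat_lit 3) (Steps.bwd (nat_lit 1) (Steps.fwd (nat_lit 16384) (Steps.fwd (nat_lit 8192) (Steps.fwd (nat_lit 32768) (Steps.fwd (nat_lit 24576) (Steps.fwd (nat_lit 8192) Steps.nil))))))))))) (nat_lit 193) (nat_lit 0),
  Rule.mk (nat_lit 20) (nat_lit 179) (Steps.fwd (nat_lit 8192) (Steps.fwd (nat_lit 24576) (Steps.bwd (nat_lit 1) (Steps.bwd (nat_lit 2) (Steps.bwd (nat_lit 1) (Steps.bwd (nat_lit 3) (Steps.fwd (nat_lit 8192) (Steps.bwd (nat_lit 3) (Steps.fwd (nat_lit 8192) (Steps.fwd (nat_lit 32768) (Steps.fwd (nat_lit 24576) Steps.nil))))))))))) (nat_lit 194) (nat_lit 1),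
  Rule.mk (nat_lit 20) (nat_lit 179) (Steps.bwd (nat_lit 1) (Steps.bwd (nat_lit 2) (Steps.bwd (nat_lit 1) (Steps.bwd (nat_lit 2) (Steps.bwd (nat_lit 1) (Steps.bwd (nat_lit 3) (Steps.bwd (nat_lit 1) (Steps.fwd (nat_lit 16384) (Steps.fwd (nat_lit 8192) (Steps.fwd (nat_lit 32768) (Steps.fwd (nat_lit 24576) Steps.nil))))))))))) (nat_lit 194) (nat_lit 1),
  Rule.mk (nat_lit 20) (nat_lit 179) (Steps.bwd (nat_lit 1) (Steps.bwd (nat_lit 2) (Steps.bwd (nat_lit 1) (Steps.fwd (nat_lit 24576) (Steps.fwd (nat_lit 8192) (Steps.fwd (nat_lit 16384) (Steps.bwd (nat_lit 1) (Steps.bwd (nat_lit 3) (Steps.bwd (nat_lit 1) (Steps.bwd (nat_lit 4) (Steps.fwd (nat_lit 24576) Steps.nil))))))))))) (nat_lit 194) (nat_lit 1),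
  Rule.mk (nat_lit 19) (nat_lit 179) (Steps.fwd (nat_lit 16384) (Steps.bwd (nat_lit 4) (Steps.fwd (nat_lit 8192) (Steps.fwd (nat_lit 24576) (Steps.bwd (nat_lit 1) (Steps.bwd (nat_lit 2) (Steps.bwd (nat_lit 1) (Steps.bwd (nat_lit 3) (Steps.fwd (nat_lit 8192) (Steps.bwd (nat_lit 3) (Steps.fwd (nat_lit 8192) Steps.nil))))))))))) (nat_lit 195) (nat_lit 0),
  Rule.mk (nat_lit 0) (nat_lit 194) (Steps.bwd (nat_lit 19) (Steps.bwd (nat_lit 3) (Steps.fwd (nat_lit 32768) (Steps.bwd (nat_lit 1) (Steps.bwd (nat_lit 2) (Steps.bwd (nat_lit 1) (Steps.bwd (nat_lit 2) (Steps.bwd (nat_lit 1) (Steps.bwd (nat_lit 3) (Steps.bwd (nat_lit 1) (Steps.fwd (nat_lit 16384) (Steps.fwd (nat_lit 8192) Steps.nil)))))))))))) (nat_lit 195) (nat_lit 11),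
  Rule.mk (nat_lit 2) (nat_lit 104) (Steps.bwd (nat_lit 10) (Steps.bwd (nat_lit 3) (Steps.bwd (nat_lit 6) (Steps.fwd (nat_lit 90112) (Steps.bwd (nat_lit 12) (Steps.fwd (nat_lit 114688) Steps.nil)))))) (nat_lit 180) (nat_lit 1),
  Rule.mk (nat_lit 1) (nat_lit 134) (Steps.bwd (nat_lit 10) (Steps.bwd (nat_lit 1) (Steps.bwd (nat_lit 4) (Steps.bwd (nat_lit 5) (Steps.bwd (nat_lit 8) (Steps.bwd (nat_lit 9) (Steps.bwd (nat_lit 11) (Steps.fwd (nat_lit 114688) Steps.nil)))))))) (nat_lit 158) (nat_lit 1),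
  Rule.mk (nat_lit 16) (nat_lit 179) (Steps.fwd (nat_lit 8192) (Steps.fwd (nat_lit 16384) (Steps.bwd (nat_lit 1) (Steps.fwd (nat_lit 16384) (Steps.bwd (nat_lit 1) (Steps.fwd (nat_lit 16384) (Steps.bwd (nat_lit 1) (Steps.bwd (nat_lit 2) (Steps.fwd (nat_lit 32768) (Steps.fwd (nat_lit 8192) (Steps.fwd (nat_lit 24576) Steps.nil))))))))))) (nat_lit 190) (nat_lit 1),
  Rule.mk (nat_lit 18) (nat_lit 179) (Steps.fwd (nat_lit 8192) (Steps.bwd (nat_lit 3) (Steps.fwd (nat_lit 32768) (Steps.bwd (nat_lit 1) (Steps.bwd (nat_lit 2) (Steps.bwd (nat_lit 1) (Steps.fwd (nat_lit 24576) (Steps.bwd (nat_lit 1) (Steps.fwd (nat_lit 16384) (Steps.bwd (nat_lit 1) (Steps.fwd (nat_lit 16384) Steps.nil))))))))))) (nat_lit 192) (nat_lit 1),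
  Rule.mk (nat_lit 3) (nat_lit 179) (Steps.bwd (nat_lit 18) (Steps.bwd (nat_lit 1) (Steps.bwd (nat_lit 3) (Steps.bwd (nat_lit 4) (Steps.bwd (nat_lit 1) (Steps.fwd (nat_lit 24576) (Steps.bwd (nat_lit 1) (Steps.fwd (nat_lit 24576) (Steps.bwd (nat_lit 1) (Steps.fwd (nat_lit 16384) (Steps.bwd (nat_lit 1) Steps.nil))))))))))) (nat_lit 192) (nat_lit 0),
  Rule.mk (nat_lit 17) (nat_lit 179) (Steps.fwd (nat_lit 24576) (Steps.bwd (nat_lit 1) (Steps.fwd (nat_lit 24576) (Steps.fwd (nat_lit 8192) (Steps.fwd (nat_lit 16384) (Steps.bwd (nat_lit 1) (Steps.bwd (nat_lit 3) (Steps.bwd (nat_lit 1) (Steps.bwd (nat_lit 4) (Steps.fwd (nat_lit 24576) (Steps.bwd (nat_lit 1) Steps.nil))))))))))) (nat_lit 193) (nat_lit 0),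
  Rule.mk (nat_lit 17) (nat_lit 179) (Steps.bwd (nat_lit 2) (Steps.bwd (nat_lit 1) (Steps.fwd (nat_lit 24576) (Steps.fwd (nat_lit 8192) (Steps.fwd (nat_lit 16384) (Steps.bwd (nat_lit 1) (Steps.fwd (nat_lit 16384) (Steps.bwd (nat_lit 1) (Steps.fwd (nat_lit 32768) (Steps.bwd (nat_lit 2) (Steps.fwd (nat_lit 8192) Steps.nil))))))))))) (nat_lit 193) (nat_lit 0),
  Rule.mk (nat_lit 17) (nat_lit 179) (Steps.bwd (nat_lit 2) (Steps.bwd (nat_lit 1) (Steps.fwd (nat_lit 24576) (Steps.bwd (nat_lit 1) (Steps.fwd (nat_lit 16384) (Steps.bwd (nat_lit 1) (Steps.fwd (nat_lit 16384) (Steps.bwd (nat_lit 1) (Steps.fwd (nat_lit 32768) (Steps.bwd (nat_lit 2) (Steps.fwd (nat_lit 8192) Steps.nil))))))))))) (nat_lit 193) (nat_lit 0),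
  Rule.mk (nat_lit 20) (nat_lit 179) (Steps.bwd (nat_lit 1) (Steps.bwd (nat_lit 2) (Steps.bwd (nat_lit 1) (Steps.fwd (nat_lit 24576) (Steps.fwd (nat_lit 8192) (Steps.fwd (nat_lit 16384) (Steps.bwd (nat_lit 1) (Steps.fwd (nat_lit 16384) (Steps.bwd (nat_lit 1) (Steps.fwd (nat_lit 32768) (Steps.bwd (nat_lit 2) Steps.nil))))))))))) (nat_lit 194) (nat_lit 1),
  Rule.mk (nat_lit 20) (nat_lit 179) (Steps.bwd (nat_lit 1) (Steps.bwd (nat_lit 2) (Steps.bwd (nat_lit 1) (Steps.fwd (nat_lit 24576) (Steps.bwd (nat_lit 1) (Steps.fwd (nat_lit 16384) (Steps.bwd (nat_lit 1) (Steps.fwd (nat_lit 16384) (Steps.bwd (nat_lit 1) (Steps.fwd (nat_lit 32768) (Steps.bwd (nat_lit 2) Steps.nil))))))))))) (nat_lit 194) (nat_lit 1),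
  Rule.mk (nat_lit 19) (nat_lit 179) (Steps.bwd (nat_lit 3) (Steps.bwd (nat_lit 4) (Steps.bwd (nat_lit 1) (Steps.bwd (nat_lit 2) (Steps.bwd (nat_lit 1) (Steps.fwd (nat_lit 24576) (Steps.fwd (nat_lit 8192) (Steps.fwd (nat_lit 16384) (Steps.bwd (nat_lit 1) (Steps.fwd (nat_lit 16384) (Steps.bwd (nat_lit 1) Steps.nil))))))))))) (nat_lit 195) (nat_lit 0),
  Rule.mk (nat_lit 0) (nat_lit 194) (Steps.bwd (nat_lit 19) (Steps.bwd (nat_lit 3) (Steps.fwd (nat_lit 32768) (Steps.bwd (nat_lit 1) (Steps.bwd (nat_lit 2) (Steps.bwd (nat_lit 1) (Steps.fwd (nat_lit 24576) (Steps.bwd (nat_lit 1) (Steps.fwd (nat_lit 16384) (Steps.bwd (nat_lit 1) (Steps.fwd (nat_lit 16384) (Steps.bwd (nat_lit 1) Steps.nil)))))))))))) (nat_lit 195) (nat_lit 11),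
  Rule.mk (nat_lit 2) (nat_lit 539) (Steps.fwd (nat_lit 8192) (Steps.bwd (nat_lit 3) (Steps.bwd (nat_lit 1) (Steps.fwd (nat_lit 16384) (Steps.fwd (nat_lit 8192) (Steps.fwd (nat_lit 24576) (Steps.bwd (nat_lit 1) (Steps.bwd (nat_lit 2) (Steps.bwd (nat_lit 1) (Steps.bwd (nat_lit 3) (Steps.bwd (nat_lit 1) (Steps.bwd (nat_lit 2) (Steps.bwd (nat_lit 1) (Steps.fwd (nat_lit 24576) (Steps.fwd (nat_lit 8192) (Steps.bwd (nat_lit 3) (Steps.bwd (nat_lit 1) (Steps.fwd (nat_lit 24576) (Steps.bwd (nat_lit 1) (Steps.bwd (nat_lit 2) (Steps.fwd (nat_lit 8192) (Steps.bwd (nat_lit 3) (Steps.bwd (nat_lit 1) (Steps.fwd (nat_lit 24576) (Steps.bwd (nat_lit 1) (Steps.bwd (nat_lit 3) (Steps.bwd (nat_lit 1) (Steps.bwd (nat_lit 3) (Steps.bwd (nat_lit 1) (Steps.fwd (nat_lit 24576) (Steps.fwd (nat_lit 8192) (Steps.fwd (nat_lit 16384) (Steps.bwd (nat_lit 1) (Steps.fwd (nat_lit 16384) (Steps.bwd (nat_lit 1) Steps.nil)))))))))))))))))))))))))))))))))))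 (nat_lit 12) (nat_lit 32),
  Rule.mk (nat_lit 1) (nat_lit 539) (Steps.fwd (nat_lit 24576) (Steps.bwd (nat_lit 1) (Steps.fwd (nat_lit 16384) (Steps.fwd (nat_lit 8192) (Steps.bwd (nat_lit 3) (Steps.bwd (nat_lit 1) (Steps.bwd (nat_lit 2) (Steps.bwd (nat_lit 1) (Steps.bwd (nat_lit 2) (Steps.fwd (nat_lit 8192) (Steps.bwd (nat_lit 3) (Steps.fwd (nat_lit 8192) (Steps.fwd (nat_lit 24576) (Steps.bwd (nat_lit 1) (Steps.bwd (nat_lit 2) (Steps.bwd (nat_lit 1) (Steps.bwd (nat_lit 3) (Steps.fwd (nat_lit 8192) (Steps.fwd (nat_lit 24576) (Steps.fwd (nat_lit 8192) (Steps.fwd (nat_lit 24576) (Steps.fwd (nat_lit 8192) (Steps.fwd (nat_lit 16384) (Steps.bwd (nat_lit 1) (Steps.fwd (nat_lit 24576) (Steps.fwd (nat_lit 8192) (Steps.bwd (nat_lit 3) (Steps.fwd (nat_lit 8192) (Steps.fwd (nat_lit 16384) (Steps.bwd (nat_lit 1) (Steps.fwd (nat_lit 24576) (Steps.bwd (nat_lit 1) (Steps.fwd (nat_lit 16384) (Steps.bwd (nat_lit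 1) (Steps.bwd (nat_lit 3) Steps.nil))))))))))))))))))))))))))))))))))) (nat_lit 12) (nat_lit 31),
  Rule.mk (nat_lit 0) (nat_lit 194) (Steps.bwd (nat_lit 15) (Steps.fwd (nat_lit 16384) (Steps.bwd (nat_lit 1) (Steps.bwd (nat_lit 4) (Steps.bwd (nat_lit 3) (Steps.bwd (nat_lit 1) (Steps.fwd (nat_lit 24576) (Steps.bwd (nat_lit 1) (Steps.fwd (nat_lit 24576) (Steps.bwd (nat_lit 1) (Steps.bwd (nat_lit 2) (Steps.fwd (nat_lit 8192) Steps.nil)))))))))))) (nat_lit 191) (nat_lit 11),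
  Rule.mk (nat_lit 0) (nat_lit 194) (Steps.bwd (nat_lit 15) (Steps.fwd (nat_lit 16384) (Steps.bwd (nat_lit 1) (Steps.fwd (nat_lit 32768) (Steps.bwd (nat_lit 3) (Steps.bwd (nat_lit 1) (Steps.fwd (nat_lit 24576) (Steps.fwd (nat_lit 8192) (Steps.fwd (nat_lit 24576) (Steps.fwd (nat_lit 8192) (Steps.bwd (nat_lit 2) (Steps.fwd (nat_lit 8192) Steps.nil)))))))))))) (nat_lit 191) (nat_lit 11),
  Rule.mk (nat_lit 0) (nat_lit 194) (Steps.bwd (nat_lit 15) (Steps.fwd (nat_lit 16384) (Steps.bwd (nat_lit 1) (Steps.fwd (nat_lit 32768) (Steps.fwd (nat_lit 16384) (Steps.fwd (nat_lit 8192) (Steps.bwd (nat_lit 2) (Steps.fwd (nat_lit 8192) (Steps.bwd (nat_lit 2) (Steps.bwd (nat_lit 1) (Steps.bwd (nat_lit 2) (Steps.fwd (nat_lit 8192) Steps.nil)))))))))))) (nat_lit 191) (nat_lit 11),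
  Rule.mk (nat_lit 15) (nat_lit 179) (Steps.fwd (nat_lit 16384) (Steps.fwd (nat_lit 8192) (Steps.bwd (nat_lit 4) (Steps.bwd (nat_lit 3) (Steps.fwd (nat_lit 8192) (Steps.fwd (nat_lit 24576) (Steps.fwd (nat_lit 8192) (Steps.bwd (nat_lit 2) (Steps.bwd (nat_lit 1) (Steps.bwd (nat_lit 2) (Steps.bwd (nat_lit 1) Steps.nil))))))))))) (nat_lit 191) (nat_lit 0),
  Rule.mk (nat_lit 0) (nat_lit 194) (Steps.fwd (nat_lit 24576) (Steps.bwd (nat_lit 1) (Steps.bwd (nat_lit 2) (Steps.fwd (nat_lit 8192) (Steps.bwd (nat_lit 3) (Steps.bwd (nat_lit 1) (Steps.fwd (nat_lit 16384) (Steps.fwd (nat_lit 8192) (Steps.fwd (nat_lit 32768) (Steps.fwd (nat_lit 24576) (Steps.bwd (nat_lit 1) (Steps.fwd (nat_lit 147456) Steps.nil)))))))))))) (nat_lit 193) (nat_lit 0),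
  Rule.mk (nat_lit 0) (nat_lit 194) (Steps.bwd (nat_lit 18) (Steps.fwd (nat_lit 8192) (Steps.bwd (nat_lit 3) (Steps.bwd (nat_lit 4) (Steps.fwd (nat_lit 8192) (Steps.fwd (nat_lit 24576) (Steps.fwd (nat_lit 8192) (Steps.bwd (nat_lit 2) (Steps.fwd (nat_lit 8192) (Steps.bwd (nat_lit 3) (Steps.fwd (nat_lit 8192) (Steps.bwd (nat_lit 3) Steps.nil)))))))))))) (nat_lit 192) (nat_lit 0),
  Rule.mk (nat_lit 0) (nat_lit 194) (Steps.bwd (nat_lit 17) (Steps.bwd (nat_lit 2) (Steps.bwd (nat_lit 1) (Steps.fwd (nat_lit 24576) (Steps.bwd (nat_lit 1) (Steps.bwd (nat_lit 3) (Steps.bwd (nat_lit 1) (Steps.fwd (nat_lit 16384) (Steps.fwd (nat_lit 8192) (Steps.bwd (nat_lit 4) (Steps.bwd (nat_lit 2) (Steps.fwd (nat_lit 8192) Steps.nil)))))))))))) (nat_lit 193) (nat_lit 11),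
  Rule.mk (nat_lit 0) (nat_lit 194) (Steps.fwd (nat_lit 16384) (Steps.fwd (nat_lit 32768) (Steps.bwd (nat_lit 1) (Steps.bwd (nat_lit 2) (Steps.fwd (nat_lit 8192) (Steps.fwd (nat_lit 24576) (Steps.fwd (nat_lit 8192) (Steps.bwd (nat_lit 3) (Steps.fwd (nat_lit 8192) (Steps.fwd (nat_lit 16384) (Steps.bwd (nat_lit 1) (Steps.fwd (nat_lit 163840) Steps.nil)))))))))))) (nat_lit 195) (nat_lit 0),
  Rule.mk (nat_lit 20) (nat_lit 179) (Steps.fwd (nat_lit 8192) (Steps.fwd (nat_lit 24576) (Steps.fwd (nat_lit 8192) (Steps.bwd (nat_lit 2) (Steps.fwd (nat_lit 8192) (Steps.bwd (nat_lit 3) (Steps.fwd (nat_lit 8192) (Steps.bwd (nat_lit 3) (Steps.fwd (nat_lit 8192) (Steps.fwd (nat_lit 32768) (Steps.fwd (nat_lit 24576) Steps.nil))))))))))) (nat_lit 194) (nat_lit 1),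
  Rule.mk (nat_lit 19) (nat_lit 179) (Steps.fwd (nat_lit 16384) (Steps.fwd (nat_lit 32768) (Steps.fwd (nat_lit 8192) (Steps.bwd (nat_lit 2) (Steps.bwd (nat_lit 1) (Steps.fwd (nat_lit 24576) (Steps.bwd (nat_lit 1) (Steps.bwd (nat_lit 3) (Steps.bwd (nat_lit 1) (Steps.bwd (nat_lit 3) (Steps.fwd (nat_lit 8192) Steps.nil))))))))))) (nat_lit 195) (nat_lit 0),
  Rule.mk (nat_lit 19) (nat_lit 179) (Steps.bwd (nat_lit 3) (Steps.bwd (nat_lit 4) (Steps.fwd (nat_lit 8192) (Steps.fwd (nat_lit 24576) (Steps.fwd (nat_lit 8192) (Steps.bwd (nat_lit 2) (Steps.fwd (nat_lit 8192) (Steps.bwd (nat_lit 3) (Steps.fwd (nat_lit 8192) (Steps.bwd (nat_lit 3) (Steps.fwd (nat_lit 8192) Steps.nil))))))))))) (nat_lit 195) (nat_lit 0),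
  Rule.mk (nat_lit 7) (nat_lit 164) (Steps.fwd (nat_lit 8192) (Steps.fwd (nat_lit 114688) (Steps.fwd (nat_lit 106496) (Steps.bwd (nat_lit 12) (Steps.bwd (nat_lit 11) (Steps.fwd (nat_lit 81920) (Steps.bwd (nat_lit 9) (Steps.fwd (nat_lit 49152) (Steps.bwd (nat_lit 5) (Steps.fwd (nat_lit 8192) Steps.nil)))))))))) (nat_lit 153) (nat_lit 10),
  Rule.mk (nat_lit 16) (nat_lit 179) (Steps.fwd (nat_lit 8192) (Steps.fwd (nat_lit 16384) (Steps.bwd (nat_lit 1) (Steps.bwd (nat_lit 3) (Steps.bwd (nat_lit 1) (Steps.fwd (nat_lit 16384) (Steps.bwd (nat_lit 1) (Steps.fwd (nat_lit 24576) (Steps.bwd (nat_lit 4) (Steps.bwd (nat_lit 1) (Steps.bwd (nat_lit 2) Steps.nil))))))))))) (nat_lit 190) (nat_lit 1)]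
noncomputable def R_123 : List (Rule) := [Rule.mk (nat_lit 0) (nat_lit 194) (Steps.bwd (nat_lit 1) (Steps.bwd (nat_lit 3) (Steps.bwd (nat_lit 1) (Steps.bwd (nat_lit 3) (Steps.fwd (nat_lit 8192) (Steps.fwd (nat_lit 16384) (Steps.bwd (nat_lit 1) (Steps.bwd (nat_lit 2) (Steps.fwd (nat_lit 32768) (Steps.fwd (nat_lit 8192) (Steps.fwd (nat_lit 24576) (Steps.fwd (nat_lit 122880) Steps.nil)))))))))))) (nat_lit 190) (nat_lit 1),
  Rule.mk (nat_lit 0) (nat_lit 194) (Steps.bwd (nat_lit 16) (Steps.fwd (nat_lit 8192) (Steps.bwd (nat_lit 3) (Steps.fwd (nat_lit 8192) (Steps.fwd (nat_lit 16384) (Steps.fwd (nat_lit 8192) (Steps.fwd (nat_lit 16384) (Steps.fwd (nat_lit 8192) (Steps.fwd (nat_lit 24576) (Steps.bwd (nat_lit 4) (Steps.fwd (nat_lit 8192) (Steps.fwd (nat_lit 24576) Steps.nil)))))))))))) (nat_lit 190) (nat_lit 0),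
  Rule.mk (nat_lit 17) (nat_lit 179) (Steps.fwd (nat_lit 24576) (Steps.fwd (nat_lit 8192) (Steps.fwd (nat_lit 24576) (Steps.fwd (nat_lit 8192) (Steps.fwd (nat_lit 16384) (Steps.fwd (nat_lit 8192) (Steps.bwd (nat_lit 3) (Steps.bwd (nat_lit 1) (Steps.bwd (nat_lit 4) (Steps.bwd (nat_lit 2) (Steps.bwd (nat_lit 1) Steps.nil))))))))))) (nat_lit 193) (nat_lit 0),
  Rule.mk (nat_lit 17) (nat_lit 179) (Steps.bwd (nat_lit 2) (Steps.bwd (nat_lit 1) (Steps.bwd (nat_lit 2) (Steps.bwd (nat_lit 1) (Steps.bwd (nat_lit 3) (Steps.fwd (nat_lit 8192) (Steps.fwd (nat_lit 16384) (Steps.bwd (nat_lit 1) (Steps.bwd (nat_lit 4) (Steps.fwd (nat_lit 24576) (Steps.bwd (nat_lit 1) Steps.nil))))))))))) (nat_lit 193) (nat_lit 0),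
  Rule.mk (nat_lit 17) (nat_lit 179) (Steps.bwd (nat_lit 2) (Steps.bwd (nat_lit 1) (Steps.fwd (nat_lit 24576) (Steps.bwd (nat_lit 1) (Steps.fwd (nat_lit 16384) (Steps.fwd (nat_lit 8192) (Steps.bwd (nat_lit 3) (Steps.bwd (nat_lit 1) (Steps.bwd (nat_lit 4) (Steps.bwd (nat_lit 2) (Steps.fwd (nat_lit 8192) Steps.nil))))))))))) (nat_lit 193) (nat_lit 0),
  Rule.mk (nat_lit 20) (nat_lit 179) (Steps.fwd (nat_lit 8192) (Steps.fwd (nat_lit 24576) (Steps.fwd (nat_lit 8192) (Steps.fwd (nat_lit 24576) (Steps.fwd (nat_lit 8192) (Steps.fwd (nat_lit 16384) (Steps.fwd (nat_lit 8192) (Steps.bwd (nat_lit 3) (Steps.bwd (nat_lit 1) (Steps.bwd (nat_lit 4) (Steps.bwd (nat_lit 2) Steps.nil))))))))))) (nat_lit 194) (nat_lit 1),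
  Rule.mk (nat_lit 0) (nat_lit 194) (Steps.bwd (nat_lit 20) (Steps.bwd (nat_lit 1) (Steps.bwd (nat_lit 2) (Steps.bwd (nat_lit 1) (Steps.bwd (nat_lit 2) (Steps.bwd (nat_lit 1) (Steps.bwd (nat_lit 3) (Steps.fwd (nat_lit 8192) (Steps.fwd (nat_lit 16384) (Steps.bwd (nat_lit 1) (Steps.bwd (nat_lit 4) (Steps.fwd (nat_lit 24576) Steps.nil)))))))))))) (nat_lit 194) (nat_lit 0),
  Rule.mk (nat_lit 0) (nat_lit 194) (Steps.bwd (nat_lit 1) (Steps.bwd (nat_lit 2) (Steps.bwd (nat_lit 1) (Steps.fwd (nat_lit 24576) (Steps.bwd (nat_lit 1) (Steps.fwd (nat_lit 16384) (Steps.fwd (nat_lit 8192) (Steps.bwd (nat_lit 3) (Steps.bwd (nat_lit 1) (Steps.bwd (nat_lit 4) (Steps.bwd (nat_lit 2) (Steps.fwd (nat_lit 155648) Steps.nil)))))))))))) (nat_lit 194) (nat_lit 1),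
  Rule.mk (nat_lit 19) (nat_lit 179) (Steps.fwd (nat_lit 16384) (Steps.fwd (nat_lit 32768) (Steps.bwd (nat_lit 1) (Steps.bwd (nat_lit 2) (Steps.fwd (nat_lit 8192) (Steps.bwd (nat_lit 2) (Steps.bwd (nat_lit 1) (Steps.bwd (nat_lit 3) (Steps.fwd (nat_lit 8192) (Steps.fwd (nat_lit 16384) (Steps.bwd (nat_lit 1) Steps.nil))))))))))) (nat_lit 195) (nat_lit 0),
  Rule.mk (nat_lit 0) (nat_lit 194) (Steps.bwd (nat_lit 17) (Steps.bwd (nat_lit 2) (Steps.bwd (nat_lit 1) (Steps.fwd (nat_lit 24576) (Steps.fwd (nat_lit 8192) (Steps.bwd (nat_lit 3) (Steps.bwd (nat_lit 1) (Steps.bwd (nat_lit 3) (Steps.bwd (nat_lit 1) (Steps.bwd (nat_lit 4) (Steps.fwd (nat_lit 24576) (Steps.fwd (nat_lit 8192) Steps.nil)))))))))))) (nat_lit 193) (nat_lit 11),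
  Rule.mk (nat_lit 20) (nat_lit 179) (Steps.bwd (nat_lit 1) (Steps.bwd (nat_lit 2) (Steps.bwd (nat_lit 1) (Steps.fwd (nat_lit 24576) (Steps.fwd (nat_lit 8192) (Steps.bwd (nat_lit 3) (Steps.bwd (nat_lit 1) (Steps.bwd (nat_lit 3) (Steps.bwd (nat_lit 1) (Steps.bwd (nat_lit 4) (Steps.fwd (nat_lit 24576) Steps.nil))))))))))) (nat_lit 194) (nat_lit 1),
  Rule.mk (nat_lit 0) (nat_lit 194) (Steps.bwd (nat_lit 17) (Steps.bwd (nat_lit 2) (Steps.fwd (nat_lit 8192) (Steps.bwd (nat_lit 2) (Steps.bwd (nat_lit 1) (Steps.fwd (nat_lit 16384) (Steps.fwd (nat_lit 8192) (Steps.fwd (nat_lit 16384) (Steps.bwd (nat_lit 1) (Steps.bwd (nat_lit 4) (Steps.fwd (nat_lit 24576) (Steps.fwd (nat_lit 8192) Steps.nil)))))))))))) (nat_lit 193) (nat_lit 11),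
  Rule.mk (nat_lit 20) (nat_lit 179) (Steps.bwd (nat_lit 1) (Steps.bwd (nat_lit 2) (Steps.fwd (nat_lit 8192) (Steps.bwd (nat_lit 2) (Steps.bwd (nat_lit 1) (Steps.fwd (nat_lit 16384) (Steps.fwd (nat_lit 8192) (Steps.fwd (nat_lit 16384) (Steps.bwd (nat_lit 1) (Steps.bwd (nat_lit 4) (Steps.fwd (nat_lit 24576) Steps.nil))))))))))) (nat_lit 194) (nat_lit 1),
  Rule.mk (nat_lit 18) (nat_lit 179) (Steps.fwd (nat_lit 8192) (Steps.fwd (nat_lit 16384) (Steps.fwd (nat_lit 32768) (Steps.fwd (nat_lit 8192) (Steps.bwd (nat_lit 2) (Steps.bwd (nat_lit 1) (Steps.fwd (nat_lit 24576) (Steps.bwd (nat_lit 1) (Steps.bwd (nat_lit 3) (Steps.bwd (nat_lit 1) (Steps.bwd (nat_lit 3) Steps.nil))))))))))) (nat_lit 192) (nat_lit 1),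
  Rule.mk (nat_lit 16) (nat_lit 179) (Steps.bwd (nat_lit 1) (Steps.fwd (nat_lit 16384) (Steps.fwd (nat_lit 8192) (Steps.bwd (nat_lit 3) (Steps.bwd (nat_lit 1) (Steps.bwd (nat_lit 3) (Steps.bwd (nat_lit 1) (Steps.fwd (nat_lit 24576) (Steps.bwd (nat_lit 4) (Steps.fwd (nat_lit 8192) (Steps.bwd (nat_lit 2) Steps.nil))))))))))) (nat_lit 190) (nat_lit 1),
  Rule.mk (nat_lit 16) (nat_lit 179) (Steps.bwd (nat_lit 1) (Steps.bwd (nat_lit 3) (Steps.bwd (nat_lit 1) (Steps.bwd (nat_lit 3) (Steps.fwd (nat_lit 8192) (Steps.fwd (nat_lit 16384) (Steps.bwd (nat_lit 1) (Steps.fwd (nat_lit 24576) (Steps.bwd (nat_lit 4) (Steps.bwd (nat_lit 1) (Steps.bwd (nat_lit 2) Steps.nil))))))))))) (nat_lit 190) (nat_lit 1),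
  Rule.mk (nat_lit 16) (nat_lit 179) (Steps.bwd (nat_lit 1) (Steps.bwd (nat_lit 3) (Steps.fwd (nat_lit 8192) (Steps.fwd (nat_lit 16384) (Steps.bwd (nat_lit 1) (Steps.bwd (nat_lit 3) (Steps.fwd (nat_lit 8192) (Steps.bwd (nat_lit 2) (Steps.bwd (nat_lit 4) (Steps.bwd (nat_lit 1) (Steps.fwd (nat_lit 24576) Steps.nil))))))))))) (nat_lit 190) (nat_lit 1),
  Rule.mk (nat_lit 15) (nat_lit 179) (Steps.bwd (nat_lit 3) (Steps.bwd (nat_lit 1) (Steps.fwd (nat_lit 32768) (Steps.bwd (nat_lit 3) (Steps.bwd (nat_lit 1) (Steps.fwd (nat_lit 24576) (Steps.bwd (nat_lit 1) (Steps.bwd (nat_lit 2) (Steps.fwd (nat_lit 8192) (Steps.bwd (nat_lit 2) (Steps.fwd (nat_lit 8192) Steps.nil))))))))))) (nat_lit 191) (nat_lit 0),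
  Rule.mk (nat_lit 0) (nat_lit 194) (Steps.bwd (nat_lit 18) (Steps.fwd (nat_lit 8192) (Steps.bwd (nat_lit 3) (Steps.fwd (nat_lit 32768) (Steps.fwd (nat_lit 8192) (Steps.fwd (nat_lit 24576) (Steps.bwd (nat_lit 1) (Steps.fwd (nat_lit 24576) (Steps.bwd (nat_lit 1) (Steps.bwd (nat_lit 3) (Steps.bwd (nat_lit 1) (Steps.bwd (nat_lit 3) Steps.nil)))))))))))) (nat_lit 192) (nat_lit 0),
  Rule.mk (nat_lit 18) (nat_lit 179) (Steps.bwd (nat_lit 1) (Steps.bwd (nat_lit 3) (Steps.bwd (nat_lit 4) (Steps.bwd (nat_lit 1) (Steps.fwd (nat_lit 24576) (Steps.bwd (nat_lit 1) (Steps.bwd (nat_lit 2) (Steps.fwd (nat_lit 8192) (Steps.fwd (nat_lit 16384) (Steps.fwd (nat_lit 8192) (Steps.bwd (nat_lit 3) Steps.nil))))))))))) (nat_lit 192) (nat_lit 1),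
  Rule.mk (nat_lit 17) (nat_lit 179) (Steps.fwd (nat_lit 24576) (Steps.bwd (nat_lit 1) (Steps.fwd (nat_lit 24576) (Steps.bwd (nat_lit 1) (Steps.bwd (nat_lit 3) (Steps.bwd (nat_lit 1) (Steps.bwd (nat_lit 3) (Steps.fwd (nat_lit 8192) (Steps.fwd (nat_lit 32768) (Steps.bwd (nat_lit 2) (Steps.fwd (nat_lit 8192) Steps.nil))))))))))) (nat_lit 193) (nat_lit 0),
  Rule.mk (nat_lit 20) (nat_lit 179) (Steps.fwd (nat_lit 8192) (Steps.fwd (nat_lit 24576) (Steps.bwd (nat_lit 1) (Steps.fwd (nat_lit 24576) (Steps.bwd (nat_lit 1) (Steps.bwd (nat_lit 3) (Steps.bwd (nat_lit 1) (Steps.bwd (nat_lit 3) (Steps.fwd (nat_lit 8192) (Steps.fwd (nat_lit 32768) (Steps.bwd (nat_lit 2) Steps.nil))))))))))) (nat_lit 194) (nat_lit 1),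
  Rule.mk (nat_lit 0) (nat_lit 194) (Steps.bwd (nat_lit 19) (Steps.bwd (nat_lit 3) (Steps.fwd (nat_lit 32768) (Steps.fwd (nat_lit 8192) (Steps.fwd (nat_lit 24576) (Steps.bwd (nat_lit 1) (Steps.fwd (nat_lit 24576) (Steps.bwd (nat_lit 1) (Steps.bwd (nat_lit 3) (Steps.bwd (nat_lit 1) (Steps.bwd (nat_lit 3) (Steps.fwd (nat_lit 8192) Steps.nil)))))))))))) (nat_lit 195) (nat_lit 11),
  Rule.mk (nat_lit 2) (nat_lit 164) (Steps.bwd (nat_lit 11) (Steps.fwd (nat_lit 16384) (Steps.fwd (nat_lit 32768) (Steps.bwd (nat_lit 5) (Steps.bwd (nat_lit 8) (Steps.fwd (nat_lit 73728) (Steps.bwd (nat_lit 10) (Steps.bwd (nat_lit 11) (Steps.bwd (nat_lit 12) (Steps.fwd (nat_lit 114688) Steps.nil)))))))))) (nat_lit 182) (nat_lit 1),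
  Rule.mk (nat_lit 0) (nat_lit 194) (Steps.fwd (nat_lit 8192) (Steps.fwd (nat_lit 16384) (Steps.fwd (nat_lit 8192) (Steps.fwd (nat_lit 16384) (Steps.fwd (nat_lit 8192) (Steps.bwd (nat_lit 3) (Steps.fwd (nat_lit 8192) (Steps.fwd (nat_lit 24576) (Steps.bwd (nat_lit 4) (Steps.fwd (nat_lit 8192) (Steps.fwd (nat_lit 24576) (Steps.fwd (nat_lit 122880) Steps.nil)))))))))))) (nat_lit 190) (nat_lit 1),
  Rule.mk (nat_lit 0) (nat_lit 194) (Steps.bwd (nat_lit 18) (Steps.bwd (nat_lit 1) (Steps.fwd (nat_lit 16384) (Steps.bwd (nat_lit 4) (Steps.fwd (nat_lit 8192) (Steps.fwd (nat_lit 24576) (Steps.fwd (nat_lit 8192) (Steps.bwd (nat_lit 2) (Steps.fwd (nat_lit 8192) (Steps.fwd (nat_lit 16384) (Steps.bwd (nat_lit 1) (Steps.fwd (nat_lit 16384) Steps.nil)))))))))))) (nat_lit 192) (nat_lit 0),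
  Rule.mk (nat_lit 0) (nat_lit 194) (Steps.bwd (nat_lit 17) (Steps.fwd (nat_lit 24576) (Steps.bwd (nat_lit 1) (Steps.bwd (nat_lit 2) (Steps.fwd (nat_lit 8192) (Steps.bwd (nat_lit 3) (Steps.bwd (nat_lit 1) (Steps.bwd (nat_lit 3) (Steps.fwd (nat_lit 8192) (Steps.bwd (nat_lit 4) (Steps.fwd (nat_lit 24576) (Steps.fwd (nat_lit 8192) Steps.nil)))))))))))) (nat_lit 193) (nat_lit 11),
  Rule.mk (nat_lit 20) (nat_lit 179) (Steps.bwd (nat_lit 1) (Steps.fwd (nat_lit 24576) (Steps.bwd (nat_lit 1) (Steps.bwd (nat_lit 2) (Steps.fwd (nat_lit 8192) (Steps.bwd (nat_lit 3) (Steps.bwd (nat_lit 1) (Steps.bwd (nat_lit 3) (Steps.fwd (nat_lit 8192) (Steps.bwd (nat_lit 4) (Steps.fwd (nat_lit 24576) Steps.nil))))))))))) (nat_lit 194) (nat_lit 1),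
  Rule.mk (nat_lit 19) (nat_lit 179) (Steps.fwd (nat_lit 16384) (Steps.bwd (nat_lit 4) (Steps.fwd (nat_lit 8192) (Steps.fwd (nat_lit 24576) (Steps.fwd (nat_lit 8192) (Steps.bwd (nat_lit 2) (Steps.fwd (nat_lit 8192) (Steps.fwd (nat_lit 16384) (Steps.bwd (nat_lit 1) (Steps.fwd (nat_lit 16384) (Steps.bwd (nat_lit 1) Steps.nil))))))))))) (nat_lit 195) (nat_lit 0),
  Rule.mk (nat_lit 0) (nat_lit 194) (Steps.bwd (nat_lit 15) (Steps.fwd (nat_lit 16384) (Steps.fwd (nat_lit 8192) (Steps.bwd (nat_lit 4) (Steps.bwd (nat_lit 3) (Steps.bwd (nat_lit 1) (Steps.bwd (nat_lit 2) (Steps.bwd (nat_lit 1) (Steps.bwd (nat_lit 2) (Steps.fwd (nat_lit 8192) (Steps.fwd (nat_lit 24576) (Steps.fwd (nat_lit 8192) Steps.nil)))))))))))) (nat_lit 191) (nat_lit 11),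
  Rule.mk (nat_lit 18) (nat_lit 179) (Steps.fwd (nat_lit 8192) (Steps.bwd (nat_lit 3) (Steps.fwd (nat_lit 32768) (Steps.fwd (nat_lit 8192) (Steps.bwd (nat_lit 2) (Steps.fwd (nat_lit 8192) (Steps.bwd (nat_lit 2) (Steps.bwd (nat_lit 1) (Steps.fwd (nat_lit 16384) (Steps.bwd (nat_lit 1) (Steps.bwd (nat_lit 3) Steps.nil))))))))))) (nat_lit 192) (nat_lit 1),
  Rule.mk (nat_lit 19) (nat_lit 179) (Steps.bwd (nat_lit 3) (Steps.fwd (nat_lit 32768) (Steps.fwd (nat_lit 8192) (Steps.bwd (nat_lit 2) (Steps.fwd (nat_lit 8192) (Steps.bwd (nat_lit 2) (Steps.bwd (nat_lit 1) (Steps.fwd (nat_lit 16384) (Steps.bwd (nat_lit 1) (Steps.bwd (nat_lit 3) (Steps.fwd (nat_lit 8192) Steps.nil))))))))))) (nat_lit 195) (nat_lit 0),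
  Rule.mk (nat_lit 0) (nat_lit 194) (Steps.bwd (nat_lit 1) (Steps.bwd (nat_lit 2) (Steps.fwd (nat_lit 8192) (Steps.fwd (nat_lit 24576) (Steps.fwd (nat_lit 8192) (Steps.bwd (nat_lit 3) (Steps.fwd (nat_lit 8192) (Steps.bwd (nat_lit 3) (Steps.bwd (nat_lit 1) (Steps.fwd (nat_lit 32768) (Steps.bwd (nat_lit 2) (Steps.fwd (nat_lit 155648) Steps.nil)))))))))))) (nat_lit 194) (nat_lit 1),
  Rule.mk (nat_lit 0) (nat_lit 194) (Steps.fwd (nat_lit 8192) (Steps.fwd (nat_lit 16384) (Steps.bwd (nat_lit 4) (Steps.fwd (nat_lit 8192) (Steps.bwd (nat_lit 2) (Steps.bwd (nat_lit 1) (Steps.fwd (nat_lit 24576) (Steps.bwd (nat_lit 1) (Steps.fwd (nat_lit 16384) (Steps.fwd (nat_lit 8192) (Steps.bwd (nat_lit 3) (Steps.fwd (nat_lit 139264) Steps.nil)))))))))))) (nat_lit 192) (nat_lit 1),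
  Rule.mk (nat_lit 20) (nat_lit 179) (Steps.fwd (nat_lit 8192) (Steps.fwd (nat_lit 24576) (Steps.bwd (nat_lit 1) (Steps.bwd (nat_lit 2) (Steps.fwd (nat_lit 8192) (Steps.bwd (nat_lit 3) (Steps.fwd (nat_lit 8192) (Steps.fwd (nat_lit 16384) (Steps.bwd (nat_lit 1) (Steps.fwd (nat_lit 32768) (Steps.bwd (nat_lit 2) Steps.nil))))))))))) (nat_lit 194) (nat_lit 1),
  Rule.mk (nat_lit 2) (nat_lit 179) (Steps.bwd (nat_lit 16) (Steps.fwd (nat_lit 8192) (Steps.bwd (nat_lit 3) (Steps.fwd (nat_lit 8192) (Steps.fwd (nat_lit 16384) (Steps.bwd (nat_lit 1) (Steps.fwd (nat_lit 16384) (Steps.bwd (nat_lit 1) (Steps.bwd (nat_lit 2) (Steps.bwd (nat_lit 4) (Steps.fwd (nat_lit 8192) Steps.nil))))))))))) (nat_lit 190) (nat_lit 0),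
  Rule.mk (nat_lit 10) (nat_lit 104) (Steps.fwd (nat_lit 16384) (Steps.fwd (nat_lit 49152) (Steps.bwd (nat_lit 11) (Steps.fwd (nat_lit 98304) (Steps.fwd (nat_lit 114688) (Steps.bwd (nat_lit 2) Steps.nil)))))) (nat_lit 180) (nat_lit 2),
  Rule.mk (nat_lit 9) (nat_lit 134) (Steps.fwd (nat_lit 16384) (Steps.bwd (nat_lit 14) (Steps.bwd (nat_lit 11) (Steps.bwd (nat_lit 9) (Steps.bwd (nat_lit 8) (Steps.bwd (nat_lit 5) (Steps.fwd (nat_lit 32768) (Steps.bwd (nat_lit 2) Steps.nil)))))))) (nat_lit 179) (nat_lit 8),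
  Rule.mk (nat_lit 13) (nat_lit 134) (Steps.fwd (nat_lit 16384) (Steps.fwd (nat_lit 49152) (Steps.bwd (nat_lit 10) (Steps.fwd (nat_lit 90112) (Steps.fwd (nat_lit 98304) (Steps.bwd (nat_lit 13) (Steps.fwd (nat_lit 114688) (Steps.bwd (nat_lit 2) Steps.nil)))))))) (nat_lit 186) (nat_lit 2),
  Rule.mk (nat_lit 5) (nat_lit 149) (Steps.fwd (nat_lit 16384) (Steps.bwd (nat_lit 4) (Steps.fwd (nat_lit 40960) (Steps.fwd (nat_lit 65536) (Steps.bwd (nat_lit 9) (Steps.fwd (nat_lit 98304) (Steps.bwd (nat_lit 13) (Steps.fwd (nat_lit 114688) (Steps.bwd (nat_lit 2) Steps.nil))))))))) (nat_lit 170) (nat_lit 2),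
  Rule.mk (nat_lit 6) (nat_lit 164) (Steps.bwd (nat_lit 3) (Steps.bwd (nat_lit 5) (Steps.fwd (nat_lit 49152) (Steps.bwd (nat_lit 9) (Steps.bwd (nat_lit 10) (Steps.fwd (nat_lit 90112) (Steps.fwd (nat_lit 98304) (Steps.bwd (nat_lit 13) (Steps.fwd (nat_lit 114688) (Steps.bwd (nat_lit 2) Steps.nil)))))))))) (nat_lit 172) (nat_lit 2),
  Rule.mk (nat_lit 11) (nat_lit 164) (Steps.bwd (nat_lit 3) (Steps.fwd (nat_lit 32768) (Steps.bwd (nat_lit 5) (Steps.bwd (nat_lit 8) (Steps.fwd (nat_lit 73728) (Steps.fwd (nat_lit 81920) (Steps.bwd (nat_lit 11) (Steps.fwd (nat_lit 98304) (Steps.fwd (nat_lit 114688) (Steps.bwd (nat_lit 2) Steps.nil)))))))))) (nat_lit 182) (nat_lit 2),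
  Rule.mk (nat_lit 0) (nat_lit 554) (Steps.fwd (nat_lit 8192) (Steps.fwd (nat_lit 16384) (Steps.bwd (nat_lit 1) (Steps.bwd (nat_lit 2) (Steps.fwd (nat_lit 8192) (Steps.fwd (nat_lit 16384) (Steps.fwd (nat_lit 8192) (Steps.bwd (nat_lit 3) (Steps.fwd (nat_lit 8192) (Steps.bwd (nat_lit 2) (Steps.fwd (nat_lit 8192) (Steps.bwd (nat_lit 3) (Steps.fwd (nat_lit 8192) (Steps.bwd (nat_lit 3) (Steps.fwd (nat_lit 8192) (Steps.bwd (nat_lit 2) (Steps.bwd (nat_lit 1) (Steps.bwd (nat_lit 3) (Steps.bwd (nat_lit 1) (Steps.fwd (nat_lit 16384) (Steps.bwd (nat_lit 1) (Steps.fwd (nat_lit 24576) (Steps.bwd (nat_lit 1) (Steps.fwd (nat_lit 24576) (Steps.bwd (nat_lit 1) (Steps.fwd (nat_lit 16384) (Steps.bwd (nat_lit 1) (Steps.fwd (nat_lit 24576) (Steps.fwd (nat_lit 8192) (Steps.bwd (nat_lit 2) (Steps.bwd (nat_lit 1) (Steps.fwd (nat_lit 16384) (Steps.bwd (nat_lit 1) (Steps.fwd (nat_lit 24576) (Steps.fwd (nat_lit 8192)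 (Steps.fwd (nat_lit 24576) Steps.nil)))))))))))))))))))))))))))))))))))) (nat_lit 12) (nat_lit 16),
  Rule.mk (nat_lit 16) (nat_lit 179) (Steps.fwd (nat_lit 8192) (Steps.fwd (nat_lit 16384) (Steps.fwd (nat_lit 8192) (Steps.bwd (nat_lit 3) (Steps.bwd (nat_lit 1) (Steps.fwd (nat_lit 16384) (Steps.bwd (nat_lit 1) (Steps.bwd (nat_lit 2) (Steps.fwd (nat_lit 32768) (Steps.bwd (nat_lit 1) (Steps.fwd (nat_lit 24576) Steps.nil))))))))))) (nat_lit 190) (nat_lit 1),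
  Rule.mk (nat_lit 16) (nat_lit 179) (Steps.fwd (nat_lit 8192) (Steps.bwd (nat_lit 3) (Steps.bwd (nat_lit 1) (Steps.fwd (nat_lit 16384) (Steps.bwd (nat_lit 1) (Steps.bwd (nat_lit 3) (Steps.bwd (nat_lit 1) (Steps.bwd (nat_lit 2) (Steps.bwd (nat_lit 4) (Steps.bwd (nat_lit 1) (Steps.fwd (nat_lit 24576) Steps.nil))))))))))) (nat_lit 190) (nat_lit 1),
  Rule.mk (nat_lit 16) (nat_lit 179) (Steps.bwd (nat_lit 1) (Steps.bwd (nat_lit 3) (Steps.bwd (nat_lit 1) (Steps.bwd (nat_lit 3) (Steps.fwd (nat_lit 8192) (Steps.bwd (nat_lit 3) (Steps.bwd (nat_lit 1) (Steps.fwd (nat_lit 24576) (Steps.fwd (nat_lit 32768) (Steps.fwd (nat_lit 8192) (Steps.bwd (nat_lit 2) Steps.nil))))))))))) (nat_lit 190) (nat_lit 1),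
  Rule.mk (nat_lit 0) (nat_lit 194) (Steps.bwd (nat_lit 15) (Steps.bwd (nat_lit 3) (Steps.bwd (nat_lit 1) (Steps.fwd (nat_lit 32768) (Steps.fwd (nat_lit 16384) (Steps.bwd (nat_lit 1) (Steps.bwd (nat_lit 2) (Steps.fwd (nat_lit 8192) (Steps.bwd (nat_lit 2) (Steps.bwd (nat_lit 1) (Steps.fwd (nat_lit 24576) (Steps.fwd (nat_lit 8192) Steps.nil)))))))))))) (nat_lit 191) (nat_lit 11),
  Rule.mk (nat_lit 0) (nat_lit 194) (Steps.bwd (nat_lit 16) (Steps.bwd (nat_lit 1) (Steps.fwd (nat_lit 16384) (Steps.bwd (nat_lit 1) (Steps.bwd (nat_lit 3) (Steps.fwd (nat_lit 8192) (Steps.fwd (nat_lit 16384) (Steps.bwd (nat_lit 1) (Steps.bwd (nat_lit 2) (Steps.fwd (nat_lit 32768) (Steps.fwd (nat_lit 8192) (Steps.bwd (nat_lit 2) Steps.nil)))))))))))) (nat_lit 190) (nat_lit 0),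
  Rule.mk (nat_lit 15) (nat_lit 179) (Steps.fwd (nat_lit 16384) (Steps.bwd (nat_lit 1) (Steps.fwd (nat_lit 32768) (Steps.fwd (nat_lit 16384) (Steps.fwd (nat_lit 8192) (Steps.bwd (nat_lit 2) (Steps.bwd (nat_lit 1) (Steps.fwd (nat_lit 24576) (Steps.bwd (nat_lit 1) (Steps.bwd (nat_lit 2) (Steps.fwd (nat_lit 8192) Steps.nil))))))))))) (nat_lit 191) (nat_lit 0),
  Rule.mk (nat_lit 18) (nat_lit 179) (Steps.bwd (nat_lit 1) (Steps.fwd (nat_lit 16384) (Steps.fwd (nat_lit 32768) (Steps.fwd (nat_lit 8192) (Steps.bwd (nat_lit 2) (Steps.bwd (nat_lit 1) (Steps.fwd (nat_lit 24576) (Steps.bwd (nat_lit 1) (Steps.fwd (nat_lit 16384) (Steps.bwd (nat_lit 1) (Steps.bwd (nat_lit 3) Steps.nil))))))))))) (nat_lit 192) (nat_lit 1),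
  Rule.mk (nat_lit 0) (nat_lit 194) (Steps.bwd (nat_lit 18) (Steps.bwd (nat_lit 1) (Steps.fwd (nat_lit 16384) (Steps.fwd (nat_lit 32768) (Steps.bwd (nat_lit 1) (Steps.bwd (nat_lit 2) (Steps.fwd (nat_lit 8192) (Steps.bwd (nat_lit 2) (Steps.bwd (nat_lit 1) (Steps.bwd (nat_lit 3) (Steps.bwd (nat_lit 1) (Steps.bwd (nat_lit 3) Steps.nil)))))))))))) (nat_lit 192) (nat_lit 0),
  Rule.mk (nat_lit 18) (nat_lit 179) (Steps.bwd (nat_lit 1) (Steps.fwd (nat_lit 16384) (Steps.bwd (nat_lit 4) (Steps.fwd (nat_lit 8192) (Steps.bwd (nat_lit 2) (Steps.bwd (nat_lit 1) (Steps.fwd (nat_lit 24576) (Steps.fwd (nat_lit 8192) (Steps.bwd (nat_lit 3) (Steps.bwd (nat_lit 1) (Steps.bwd (nat_lit 3) Steps.nil))))))))))) (nat_lit 192) (nat_lit 1),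
  Rule.mk (nat_lit 17) (nat_lit 179) (Steps.bwd (nat_lit 2) (Steps.bwd (nat_lit 1) (Steps.fwd (nat_lit 24576) (Steps.bwd (nat_lit 1) (Steps.fwd (nat_lit 16384) (Steps.bwd (nat_lit 1) (Steps.bwd (nat_lit 3) (Steps.bwd (nat_lit 1) (Steps.fwd (nat_lit 32768) (Steps.fwd (nat_lit 24576) (Steps.bwd (nat_lit 1) Steps.nil))))))))))) (nat_lit 193) (nat_lit 0),
  Rule.mk (nat_lit 17) (nat_lit 179) (Steps.bwd (nat_lit 2) (Steps.fwd (nat_lit 8192) (Steps.bwd (nat_lit 2) (Steps.bwd (nat_lit 1) (Steps.bwd (nat_lit 3) (Steps.bwd (nat_lit 1) (Steps.bwd (nat_lit 3) (Steps.fwd (nat_lit 8192) (Steps.bwd (nat_lit 4) (Steps.bwd (nat_lit 2) (Steps.bwd (nat_lit 1) Steps.nil))))))))))) (nat_lit 193) (nat_lit 0),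
  Rule.mk (nat_lit 0) (nat_lit 194) (Steps.fwd (nat_lit 8192) (Steps.bwd (nat_lit 2) (Steps.fwd (nat_lit 8192) (Steps.bwd (nat_lit 2) (Steps.fwd (nat_lit 8192) (Steps.bwd (nat_lit 3) (Steps.bwd (nat_lit 1) (Steps.fwd (nat_lit 16384) (Steps.bwd (nat_lit 1) (Steps.fwd (nat_lit 32768) (Steps.fwd (nat_lit 24576) (Steps.fwd (nat_lit 155648) Steps.nil)))))))))))) (nat_lit 194) (nat_lit 1),
  Rule.mk (nat_lit 20) (nat_lit 179) (Steps.fwd (nat_lit 8192) (Steps.bwd (nat_lit 2) (Steps.bwd (nat_lit 1) (Steps.fwd (nat_lit 24576) (Steps.bwd (nat_lit 1) (Steps.fwd (nat_lit 16384) (Steps.bwd (nat_lit 1) (Steps.bwd (nat_lit 3) (Steps.bwd (nat_lit 1) (Steps.fwd (nat_lit 32768) (Steps.fwd (nat_lit 24576) Steps.nil))))))))))) (nat_lit 194) (nat_lit 1),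
  Rule.mk (nat_lit 0) (nat_lit 194) (Steps.bwd (nat_lit 1) (Steps.bwd (nat_lit 2) (Steps.fwd (nat_lit 8192) (Steps.bwd (nat_lit 2) (Steps.bwd (nat_lit 1) (Steps.bwd (nat_lit 3) (Steps.bwd (nat_lit 1) (Steps.bwd (nat_lit 3) (Steps.fwd (nat_lit 8192) (Steps.bwd (nat_lit 4) (Steps.bwd (nat_lit 2) (Steps.fwd (nat_lit 155648) Steps.nil)))))))))))) (nat_lit 194) (nat_lit 1),
  Rule.mk (nat_lit 20) (nat_lit 179) (Steps.bwd (nat_lit 1) (Steps.fwd (nat_lit 24576) (Steps.bwd (nat_lit 1) (Steps.fwd (nat_lit 24576) (Steps.fwd (nat_lit 8192) (Steps.bwd (nat_lit 3) (Steps.bwd (nat_lit 1) (Steps.bwd (nat_lit 3) (Steps.bwd (nat_lit 1) (Steps.fwd (nat_lit 32768) (Steps.bwd (nat_lit 2) Steps.nil))))))))))) (nat_lit 194) (nat_lit 1),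
  Rule.mk (nat_lit 20) (nat_lit 179) (Steps.bwd (nat_lit 1) (Steps.fwd (nat_lit 24576) (Steps.fwd (nat_lit 8192) (Steps.bwd (nat_lit 2) (Steps.fwd (nat_lit 8192) (Steps.fwd (nat_lit 16384) (Steps.fwd (nat_lit 8192) (Steps.bwd (nat_lit 3) (Steps.bwd (nat_lit 1) (Steps.fwd (nat_lit 32768) (Steps.bwd (nat_lit 2) Steps.nil))))))))))) (nat_lit 194) (nat_lit 1),
  Rule.mk (nat_lit 19) (nat_lit 179) (Steps.fwd (nat_lit 16384) (Steps.fwd (nat_lit 32768) (Steps.fwd (nat_lit 8192) (Steps.bwd (nat_lit 2) (Steps.bwd (nat_lit 1) (Steps.fwd (nat_lit 24576) (Steps.bwd (nat_lit 1) (Steps.fwd (nat_lit 16384) (Steps.bwd (nat_lit 1) (Steps.bwd (nat_lit 3) (Steps.bwd (nat_lit 1) Steps.nil))))))))))) (nat_lit 195) (nat_lit 0),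
  Rule.mk (nat_lit 19) (nat_lit 179) (Steps.fwd (nat_lit 16384) (Steps.bwd (nat_lit 4) (Steps.fwd (nat_lit 8192) (Steps.bwd (nat_lit 2) (Steps.bwd (nat_lit 1) (Steps.fwd (nat_lit 24576) (Steps.bwd (nat_lit 1) (Steps.bwd (nat_lit 3) (Steps.bwd (nat_lit 1) (Steps.bwd (nat_lit 3) (Steps.fwd (nat_lit 8192) Steps.nil))))))))))) (nat_lit 195) (nat_lit 0),
  Rule.mk (nat_lit 19) (nat_lit 179) (Steps.fwd (nat_lit 16384) (Steps.bwd (nat_lit 4) (Steps.bwd (nat_lit 1) (Steps.fwd (nat_lit 24576) (Steps.bwd (nat_lit 1) (Steps.fwd (nat_lit 24576) (Steps.fwd (nat_lit 8192) (Steps.bwd (nat_lit 3) (Steps.bwd (nat_lit 1) (Steps.bwd (nat_lit 3) (Steps.bwd (nat_lit 1) Steps.nil))))))))))) (nat_lit 195) (nat_lit 0),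
  Rule.mk (nat_lit 19) (nat_lit 179) (Steps.fwd (nat_lit 16384) (Steps.fwd (nat_lit 32768) (Steps.bwd (nat_lit 1) (Steps.fwd (nat_lit 24576) (Steps.fwd (nat_lit 8192) (Steps.bwd (nat_lit 2) (Steps.fwd (nat_lit 8192) (Steps.fwd (nat_lit 16384) (Steps.fwd (nat_lit 8192) (Steps.bwd (nat_lit 3) (Steps.bwd (nat_lit 1) Steps.nil))))))))))) (nat_lit 195) (nat_lit 0),
  Rule.mk (nat_lit 18) (nat_lit 179) (Steps.fwd (nat_lit 8192) (Steps.fwd (nat_lit 16384) (Steps.bwd (nat_lit 4) (Steps.fwd (nat_lit 8192) (Steps.bwd (nat_lit 2) (Steps.fwd (nat_lit 8192) (Steps.bwd (nat_lit 2) (Steps.fwd (nat_lit 8192) (Steps.bwd (nat_lit 3) (Steps.bwd (nat_lit 1) (Steps.fwd (nat_lit 16384) Steps.nil))))))))))) (nat_lit 192) (nat_lit 1)]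
noncomputable def R_124 : List (Rule) := [Rule.mk (nat_lit 18) (nat_lit 179) (Steps.bwd (nat_lit 1) (Steps.fwd (nat_lit 16384) (Steps.bwd (nat_lit 4) (Steps.fwd (nat_lit 8192) (Steps.fwd (nat_lit 24576) (Steps.fwd (nat_lit 8192) (Steps.bwd (nat_lit 2) (Steps.fwd (nat_lit 8192) (Steps.bwd (nat_lit 3) (Steps.fwd (nat_lit 8192) (Steps.bwd (nat_lit 3) Steps.nil))))))))))) (nat_lit 192) (nat_lit 1),
  Rule.mk (nat_lit 19) (nat_lit 179) (Steps.fwd (nat_lit 16384) (Steps.bwd (nat_lit 4) (Steps.fwd (nat_lit 8192) (Steps.fwd (nat_lit 24576) (Steps.fwd (nat_lit 8192) (Steps.bwd (nat_lit 2) (Steps.fwd (nat_lit 8192) (Steps.bwd (nat_lit 3) (Steps.fwd (nat_lit 8192) (Steps.bwd (nat_lit 3) (Steps.fwd (nat_lit 8192) Steps.nil))))))))))) (nat_lit 195) (nat_lit 0),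
  Rule.mk (nat_lit 1) (nat_lit 164) (Steps.bwd (nat_lit 12) (Steps.bwd (nat_lit 1) (Steps.fwd (nat_lit 32768) (Steps.bwd (nat_lit 5) (Steps.fwd (nat_lit 65536) (Steps.bwd (nat_lit 9) (Steps.fwd (nat_lit 81920) (Steps.bwd (nat_lit 11) (Steps.bwd (nat_lit 12) (Steps.bwd (nat_lit 14) Steps.nil)))))))))) (nat_lit 162) (nat_lit 1),
  Rule.mk (nat_lit 15) (nat_lit 179) (Steps.fwd (nat_lit 16384) (Steps.bwd (nat_lit 1) (Steps.fwd (nat_lit 32768) (Steps.fwd (nat_lit 16384) (Steps.bwd (nat_lit 1) (Steps.bwd (nat_lit 2) (Steps.fwd (nat_lit 8192) (Steps.bwd (nat_lit 2) (Steps.fwd (nat_lit 8192) (Steps.bwd (nat_lit 2) (Steps.bwd (nat_lit 1) Steps.nil))))))))))) (nat_lit 191) (nat_lit 0),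
  Rule.mk (nat_lit 0) (nat_lit 194) (Steps.bwd (nat_lit 17) (Steps.bwd (nat_lit 2) (Steps.bwd (nat_lit 1) (Steps.bwd (nat_lit 2) (Steps.fwd (nat_lit 8192) (Steps.fwd (nat_lit 16384) (Steps.bwd (nat_lit 1) (Steps.fwd (nat_lit 16384) (Steps.bwd (nat_lit 1) (Steps.fwd (nat_lit 32768) (Steps.fwd (nat_lit 24576) (Steps.fwd (nat_lit 8192) Steps.nil)))))))))))) (nat_lit 193) (nat_lit 11),
  Rule.mk (nat_lit 18) (nat_lit 179) (Steps.bwd (nat_lit 1) (Steps.fwd (nat_lit 16384) (Steps.fwd (nat_lit 32768) (Steps.bwd (nat_lit 1) (Steps.bwd (nat_lit 2) (Steps.fwd (nat_lit 8192) (Steps.bwd (nat_lit 2) (Steps.fwd (nat_lit 8192) (Steps.fwd (nat_lit 16384) (Steps.bwd (nat_lit 1) (Steps.fwd (nat_lit 16384) Steps.nil))))))))))) (nat_lit 192) (nat_lit 1),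
  Rule.mk (nat_lit 17) (nat_lit 179) (Steps.bwd (nat_lit 2) (Steps.bwd (nat_lit 1) (Steps.bwd (nat_lit 2) (Steps.fwd (nat_lit 8192) (Steps.bwd (nat_lit 3) (Steps.fwd (nat_lit 8192) (Steps.fwd (nat_lit 16384) (Steps.bwd (nat_lit 1) (Steps.bwd (nat_lit 4) (Steps.bwd (nat_lit 2) (Steps.bwd (nat_lit 1) Steps.nil))))))))))) (nat_lit 193) (nat_lit 0),
  Rule.mk (nat_lit 0) (nat_lit 194) (Steps.bwd (nat_lit 18) (Steps.bwd (nat_lit 1) (Steps.fwd (nat_lit 16384) (Steps.bwd (nat_lit 4) (Steps.fwd (nat_lit 8192) (Steps.bwd (nat_lit 2) (Steps.bwd (nat_lit 1) (Steps.bwd (nat_lit 2) (Steps.fwd (nat_lit 8192) (Steps.fwd (nat_lit 16384) (Steps.bwd (nat_lit 1) (Steps.fwd (nat_lit 16384) Steps.nil)))))))))))) (nat_lit 192) (nat_lit 0),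
  Rule.mk (nat_lit 19) (nat_lit 179) (Steps.bwd (nat_lit 3) (Steps.bwd (nat_lit 4) (Steps.fwd (nat_lit 8192) (Steps.bwd (nat_lit 2) (Steps.fwd (nat_lit 8192) (Steps.bwd (nat_lit 2) (Steps.bwd (nat_lit 1) (Steps.fwd (nat_lit 16384) (Steps.fwd (nat_lit 8192) (Steps.fwd (nat_lit 16384) (Steps.bwd (nat_lit 1) Steps.nil))))))))))) (nat_lit 195) (nat_lit 0),
  Rule.mk (nat_lit 2) (nat_lit 539) (Steps.bwd (nat_lit 1) (Steps.bwd (nat_lit 3) (Steps.bwd (nat_lit 1) (Steps.fwd (nat_lit 24576) (Steps.fwd (nat_lit 8192) (Steps.bwd (nat_lit 3) (Steps.fwd (nat_lit 8192) (Steps.fwd (nat_lit 16384) (Steps.bwd (nat_lit 1) (Steps.bwd (nat_lit 2) (Steps.fwd (nat_lit 8192) (Steps.fwd (nat_lit 16384) (Steps.bwd (nat_lit 1) (Steps.fwd (nat_lit 16384) (Steps.fwd (nat_lit 8192) (Steps.bwd (nat_lit 2) (Steps.bwd (nat_lit 1) (Steps.fwd (nat_lit 16384) (Steps.bwd (nat_lit 1) (Steps.bwd (nat_lit 3) (Steps.fwd (nat_lit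 8192) (Steps.bwd (nat_lit 2) (Steps.fwd (nat_lit 8192) (Steps.fwd (nat_lit 24576) (Steps.fwd (nat_lit 8192) (Steps.bwd (nat_lit 3) (Steps.fwd (nat_lit 8192) (Steps.fwd (nat_lit 24576) (Steps.bwd (nat_lit 1) (Steps.fwd (nat_lit 24576) (Steps.bwd (nat_lit 1) (Steps.bwd (nat_lit 3) (Steps.fwd (nat_lit 8192) (Steps.bwd (nat_lit 2) (Steps.bwd (nat_lit 1) Steps.nil))))))))))))))))))))))))))))))))))) (nat_lit 12) (nat_lit 16),
  Rule.mk (nat_lit 16) (nat_lit 179) (Steps.bwd (nat_lit 1) (Steps.fwd (nat_lit 16384) (Steps.fwd (nat_lit 8192) (Steps.fwd (nat_lit 16384) (Steps.fwd (nat_lit 8192) (Steps.fwd (nat_lit 16384) (Steps.bwd (nat_lit 1) (Steps.fwd (nat_lit 24576) (Steps.bwd (nat_lit 4) (Steps.fwd (nat_lit 8192) (Steps.bwd (nat_lit 2) Steps.nil))))))))))) (nat_lit 190) (nat_lit 1),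
  Rule.mk (nat_lit 16) (nat_lit 179) (Steps.fwd (nat_lit 8192) (Steps.fwd (nat_lit 16384) (Steps.fwd (nat_lit 8192) (Steps.fwd (nat_lit 16384) (Steps.bwd (nat_lit 1) (Steps.fwd (nat_lit 16384) (Steps.bwd (nat_lit 1) (Steps.fwd (nat_lit 24576) (Steps.fwd (nat_lit 32768) (Steps.fwd (nat_lit 8192) (Steps.bwd (nat_lit 2) Steps.nil))))))))))) (nat_lit 190) (nat_lit 1),
  Rule.mk (nat_lit 15) (nat_lit 179) (Steps.fwd (nat_lit 16384) (Steps.fwd (nat_lit 8192) (Steps.fwd (nat_lit 32768) (Steps.fwd (nat_lit 16384) (Steps.fwd (nat_lit 8192) (Steps.bwd (nat_lit 2) (Steps.bwd (nat_lit 1) (Steps.fwd (nat_lit 24576) (Steps.bwd (nat_lit 1) (Steps.fwd (nat_lit 24576) (Steps.bwd (nat_lit 1) Steps.nil))))))))))) (nat_lit 191) (nat_lit 0),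
  Rule.mk (nat_lit 18) (nat_lit 179) (Steps.fwd (nat_lit 8192) (Steps.bwd (nat_lit 3) (Steps.bwd (nat_lit 4) (Steps.fwd (nat_lit 8192) (Steps.bwd (nat_lit 2) (Steps.fwd (nat_lit 8192) (Steps.fwd (nat_lit 24576) (Steps.fwd (nat_lit 8192) (Steps.fwd (nat_lit 16384) (Steps.fwd (nat_lit 8192) (Steps.fwd (nat_lit 16384) Steps.nil))))))))))) (nat_lit 192) (nat_lit 1),
  Rule.mk (nat_lit 17) (nat_lit 179) (Steps.bwd (nat_lit 2) (Steps.fwd (nat_lit 8192) (Steps.fwd (nat_lit 24576) (Steps.fwd (nat_lit 8192) (Steps.fwd (nat_lit 16384) (Steps.fwd (nat_lit 8192) (Steps.fwd (nat_lit 16384) (Steps.bwd (nat_lit 1) (Steps.bwd (nat_lit 4) (Steps.bwd (nat_lit 2) (Steps.fwd (nat_lit 8192) Steps.nil))))))))))) (nat_lit 193) (nat_lit 0),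
  Rule.mk (nat_lit 0) (nat_lit 194) (Steps.bwd (nat_lit 19) (Steps.fwd (nat_lit 16384) (Steps.bwd (nat_lit 4) (Steps.bwd (nat_lit 1) (Steps.bwd (nat_lit 2) (Steps.bwd (nat_lit 1) (Steps.fwd (nat_lit 24576) (Steps.bwd (nat_lit 1) (Steps.fwd (nat_lit 16384) (Steps.fwd (nat_lit 8192) (Steps.fwd (nat_lit 16384) (Steps.fwd (nat_lit 8192) Steps.nil)))))))))))) (nat_lit 195) (nat_lit 11),
  Rule.mk (nat_lit 0) (nat_lit 194) (Steps.bwd (nat_lit 20) (Steps.fwd (nat_lit 8192) (Steps.bwd (nat_lit 2) (Steps.bwd (nat_lit 1) (Steps.bwd (nat_lit 2) (Steps.bwd (nat_lit 1) (Steps.bwd (nat_lit 3) (Steps.bwd (nat_lit 1) (Steps.fwd (nat_lit 16384) (Steps.bwd (nat_lit 1) (Steps.fwd (nat_lit 32768) (Steps.fwd (nat_lit 24576) Steps.nil)))))))))))) (nat_lit 194) (nat_lit 0),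
  Rule.mk (nat_lit 0) (nat_lit 194) (Steps.bwd (nat_lit 17) (Steps.fwd (nat_lit 24576) (Steps.bwd (nat_lit 1) (Steps.fwd (nat_lit 24576) (Steps.bwd (nat_lit 1) (Steps.fwd (nat_lit 16384) (Steps.fwd (nat_lit 8192) (Steps.fwd (nat_lit 16384) (Steps.bwd (nat_lit 1) (Steps.bwd (nat_lit 4) (Steps.bwd (nat_lit 2) (Steps.bwd (nat_lit 1) Steps.nil)))))))))))) (nat_lit 193) (nat_lit 11),
  Rule.mk (nat_lit 20) (nat_lit 179) (Steps.fwd (nat_lit 8192) (Steps.fwd (nat_lit 24576) (Steps.bwd (nat_lit 1) (Steps.fwd (nat_lit 24576) (Steps.bwd (nat_lit 1) (Steps.fwd (nat_lit 16384) (Steps.fwd (nat_lit 8192) (Steps.fwd (nat_lit 16384) (Steps.bwd (nat_lit 1) (Steps.bwd (nat_lit 4) (Steps.bwd (nat_lit 2) Steps.nil))))))))))) (nat_lit 194) (nat_lit 1),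
  Rule.mk (nat_lit 16) (nat_lit 179) (Steps.bwd (nat_lit 1) (Steps.fwd (nat_lit 16384) (Steps.bwd (nat_lit 1) (Steps.fwd (nat_lit 16384) (Steps.bwd (nat_lit 1) (Steps.bwd (nat_lit 3) (Steps.fwd (nat_lit 8192) (Steps.fwd (nat_lit 24576) (Steps.fwd (nat_lit 32768) (Steps.bwd (nat_lit 1) (Steps.bwd (nat_lit 2) Steps.nil))))))))))) (nat_lit 190) (nat_lit 1),
  Rule.mk (nat_lit 16) (nat_lit 179) (Steps.bwd (nat_lit 1) (Steps.bwd (nat_lit 3) (Steps.fwd (nat_lit 8192) (Steps.bwd (nat_lit 3) (Steps.bwd (nat_lit 1) (Steps.bwd (nat_lit 3) (Steps.bwd (nat_lit 1) (Steps.bwd (nat_lit 2) (Steps.fwd (nat_lit 32768) (Steps.fwd (nat_lit 8192) (Steps.bwd (nat_lit 2) Steps.nil))))))))))) (nat_lit 190) (nat_lit 1),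
  Rule.mk (nat_lit 20) (nat_lit 179) (Steps.fwd (nat_lit 8192) (Steps.bwd (nat_lit 2) (Steps.fwd (nat_lit 8192) (Steps.bwd (nat_lit 2) (Steps.bwd (nat_lit 1) (Steps.fwd (nat_lit 16384) (Steps.bwd (nat_lit 1) (Steps.fwd (nat_lit 16384) (Steps.fwd (nat_lit 8192) (Steps.bwd (nat_lit 4) (Steps.bwd (nat_lit 2) Steps.nil))))))))))) (nat_lit 194) (nat_lit 1),
  Rule.mk (nat_lit 15) (nat_lit 179) (Steps.fwd (nat_lit 16384) (Steps.bwd (nat_lit 1) (Steps.fwd (nat_lit 32768) (Steps.bwd (nat_lit 3) (Steps.bwd (nat_lit 1) (Steps.fwd (nat_lit 24576) (Steps.fwd (nat_lit 8192) (Steps.fwd (nat_lit 24576) (Steps.fwd (nat_lit 8192) (Steps.bwd (nat_lit 2) (Steps.fwd (nat_lit 8192) Steps.nil))))))))))) (nat_lit 191) (nat_lit 0),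
  Rule.mk (nat_lit 0) (nat_lit 194) (Steps.fwd (nat_lit 16384) (Steps.bwd (nat_lit 1) (Steps.fwd (nat_lit 32768) (Steps.bwd (nat_lit 3) (Steps.fwd (nat_lit 8192) (Steps.bwd (nat_lit 2) (Steps.fwd (nat_lit 8192) (Steps.fwd (nat_lit 24576) (Steps.bwd (nat_lit 1) (Steps.bwd (nat_lit 2) (Steps.fwd (nat_lit 8192) (Steps.fwd (nat_lit 131072) Steps.nil)))))))))))) (nat_lit 191) (nat_lit 0),
  Rule.mk (nat_lit 18) (nat_lit 179) (Steps.bwd (nat_lit 1) (Steps.fwd (nat_lit 16384) (Steps.fwd (nat_lit 32768) (Steps.fwd (nat_lit 8192) (Steps.bwd (nat_lit 2) (Steps.fwd (nat_lit 8192) (Steps.fwd (nat_lit 24576) (Steps.bwd (nat_lit 1) (Steps.bwd (nat_lit 3) (Steps.bwd (nat_lit 1) (Steps.fwd (nat_lit 16384) Steps.nil))))))))))) (nat_lit 192) (nat_lit 1),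
  Rule.mk (nat_lit 17) (nat_lit 179) (Steps.fwd (nat_lit 24576) (Steps.bwd (nat_lit 1) (Steps.bwd (nat_lit 2) (Steps.fwd (nat_lit 8192) (Steps.fwd (nat_lit 16384) (Steps.fwd (nat_lit 8192) (Steps.bwd (nat_lit 3) (Steps.fwd (nat_lit 8192) (Steps.fwd (nat_lit 32768) (Steps.bwd (nat_lit 2) (Steps.fwd (nat_lit 8192) Steps.nil))))))))))) (nat_lit 193) (nat_lit 0),
  Rule.mk (nat_lit 0) (nat_lit 194) (Steps.bwd (nat_lit 17) (Steps.fwd (nat_lit 24576) (Steps.fwd (nat_lit 8192) (Steps.bwd (nat_lit 2) (Steps.fwd (nat_lit 8192) (Steps.bwd (nat_lit 3) (Steps.fwd (nat_lit 8192) (Steps.fwd (nat_lit 16384) (Steps.bwd (nat_lit 1) (Steps.fwd (nat_lit 32768) (Steps.fwd (nat_lit 24576) (Steps.bwd (nat_lit 1) Steps.nil)))))))))))) (nat_lit 193) (nat_lit 11),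
  Rule.mk (nat_lit 17) (nat_lit 179) (Steps.bwd (nat_lit 2) (Steps.fwd (nat_lit 8192) (Steps.fwd (nat_lit 24576) (Steps.bwd (nat_lit 1) (Steps.bwd (nat_lit 3) (Steps.bwd (nat_lit 1) (Steps.fwd (nat_lit 16384) (Steps.fwd (nat_lit 8192) (Steps.bwd (nat_lit 4) (Steps.bwd (nat_lit 2) (Steps.bwd (nat_lit 1) Steps.nil))))))))))) (nat_lit 193) (nat_lit 0),
  Rule.mk (nat_lit 0) (nat_lit 194) (Steps.fwd (nat_lit 16384) (Steps.fwd (nat_lit 32768) (Steps.fwd (nat_lit 8192) (Steps.bwd (nat_lit 2) (Steps.fwd (nat_lit 8192) (Steps.fwd (nat_lit 24576) (Steps.bwd (nat_lit 1) (Steps.bwd (nat_lit 3) (Steps.bwd (nat_lit 1) (Steps.fwd (nat_lit 16384) (Steps.fwd (nat_lit 8192) (Steps.fwd (nat_lit 163840) Steps.nil)))))))))))) (nat_lit 195) (nat_lit 0),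
  Rule.mk (nat_lit 16) (nat_lit 179) (Steps.bwd (nat_lit 1) (Steps.fwd (nat_lit 16384) (Steps.bwd (nat_lit 1) (Steps.fwd (nat_lit 16384) (Steps.bwd (nat_lit 1) (Steps.bwd (nat_lit 3) (Steps.fwd (nat_lit 8192) (Steps.bwd (nat_lit 2) (Steps.fwd (nat_lit 32768) (Steps.bwd (nat_lit 1) (Steps.bwd (nat_lit 2) Steps.nil))))))))))) (nat_lit 190) (nat_lit 1),
  Rule.mk (nat_lit 16) (nat_lit 179) (Steps.fwd (nat_lit 8192) (Steps.bwd (nat_lit 3) (Steps.bwd (nat_lit 1) (Steps.fwd (nat_lit 16384) (Steps.fwd (nat_lit 8192) (Steps.bwd (nat_lit 3) (Steps.bwd (nat_lit 1) (Steps.bwd (nat_lit 2) (Steps.fwd (nat_lit 32768) (Steps.bwd (nat_lit 1) (Steps.fwd (nat_lit 24576) Steps.nil))))))))))) (nat_lit 190) (nat_lit 1),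
  Rule.mk (nat_lit 15) (nat_lit 179) (Steps.fwd (nat_lit 16384) (Steps.fwd (nat_lit 8192) (Steps.fwd (nat_lit 32768) (Steps.bwd (nat_lit 3) (Steps.fwd (nat_lit 8192) (Steps.bwd (nat_lit 2) (Steps.bwd (nat_lit 1) (Steps.fwd (nat_lit 24576) (Steps.bwd (nat_lit 1) (Steps.bwd (nat_lit 2) (Steps.fwd (nat_lit 8192) Steps.nil))))))))))) (nat_lit 191) (nat_lit 0),
  Rule.mk (nat_lit 0) (nat_lit 194) (Steps.bwd (nat_lit 15) (Steps.bwd (nat_lit 3) (Steps.bwd (nat_lit 1) (Steps.bwd (nat_lit 4) (Steps.fwd (nat_lit 16384) (Steps.bwd (nat_lit 1) (Steps.fwd (nat_lit 24576) (Steps.bwd (nat_lit 1) (Steps.bwd (nat_lit 2) (Steps.fwd (nat_lit 8192) (Steps.fwd (nat_lit 24576) (Steps.bwd (nat_lit 1) Steps.nil)))))))))))) (nat_lit 191) (nat_lit 11),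
  Rule.mk (nat_lit 0) (nat_lit 194) (Steps.bwd (nat_lit 15) (Steps.fwd (nat_lit 16384) (Steps.fwd (nat_lit 8192) (Steps.bwd (nat_lit 4) (Steps.bwd (nat_lit 3) (Steps.bwd (nat_lit 1) (Steps.bwd (nat_lit 2) (Steps.fwd (nat_lit 8192) (Steps.fwd (nat_lit 24576) (Steps.bwd (nat_lit 1) (Steps.bwd (nat_lit 2) (Steps.bwd (nat_lit 1) Steps.nil)))))))))))) (nat_lit 191) (nat_lit 11),
  Rule.mk (nat_lit 18) (nat_lit 179) (Steps.bwd (nat_lit 1) (Steps.bwd (nat_lit 3) (Steps.bwd (nat_lit 4) (Steps.bwd (nat_lit 1) (Steps.fwd (nat_lit 24576) (Steps.bwd (nat_lit 1) (Steps.bwd (nat_lit 2) (Steps.fwd (nat_lit 8192) (Steps.bwd (nat_lit 3) (Steps.bwd (nat_lit 1) (Steps.bwd (nat_lit 3) Steps.nil))))))))))) (nat_lit 192) (nat_lit 1),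
  Rule.mk (nat_lit 0) (nat_lit 194) (Steps.bwd (nat_lit 18) (Steps.fwd (nat_lit 8192) (Steps.bwd (nat_lit 3) (Steps.fwd (nat_lit 32768) (Steps.bwd (nat_lit 1) (Steps.bwd (nat_lit 2) (Steps.fwd (nat_lit 8192) (Steps.fwd (nat_lit 24576) (Steps.bwd (nat_lit 1) (Steps.fwd (nat_lit 16384) (Steps.fwd (nat_lit 8192) (Steps.fwd (nat_lit 16384) Steps.nil)))))))))))) (nat_lit 192) (nat_lit 0),
  Rule.mk (nat_lit 17) (nat_lit 179) (Steps.fwd (nat_lit 24576) (Steps.bwd (nat_lit 1) (Steps.bwd (nat_lit 2) (Steps.fwd (nat_lit 8192) (Steps.bwd (nat_lit 3) (Steps.bwd (nat_lit 1) (Steps.bwd (nat_lit 3) (Steps.bwd (nat_lit 1) (Steps.bwd (nat_lit 4) (Steps.bwd (nat_lit 2) (Steps.fwd (nat_lit 8192) Steps.nil))))))))))) (nat_lit 193) (nat_lit 0),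
  Rule.mk (nat_lit 17) (nat_lit 179) (Steps.bwd (nat_lit 2) (Steps.fwd (nat_lit 8192) (Steps.fwd (nat_lit 24576) (Steps.bwd (nat_lit 1) (Steps.fwd (nat_lit 16384) (Steps.fwd (nat_lit 8192) (Steps.fwd (nat_lit 16384) (Steps.fwd (nat_lit 8192) (Steps.fwd (nat_lit 32768) (Steps.fwd (nat_lit 24576) (Steps.bwd (nat_lit 1) Steps.nil))))))))))) (nat_lit 193) (nat_lit 0),
  Rule.mk (nat_lit 20) (nat_lit 179) (Steps.bwd (nat_lit 1) (Steps.fwd (nat_lit 24576) (Steps.bwd (nat_lit 1) (Steps.bwd (nat_lit 2) (Steps.fwd (nat_lit 8192) (Steps.bwd (nat_lit 3) (Steps.bwd (nat_lit 1) (Steps.bwd (nat_lit 3) (Steps.bwd (nat_lit 1) (Steps.bwd (nat_lit 4) (Steps.bwd (nat_lit 2) Steps.nil))))))))))) (nat_lit 194) (nat_lit 1),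
  Rule.mk (nat_lit 20) (nat_lit 179) (Steps.bwd (nat_lit 1) (Steps.bwd (nat_lit 2) (Steps.fwd (nat_lit 8192) (Steps.fwd (nat_lit 24576) (Steps.bwd (nat_lit 1) (Steps.fwd (nat_lit 16384) (Steps.fwd (nat_lit 8192) (Steps.fwd (nat_lit 16384) (Steps.fwd (nat_lit 8192) (Steps.fwd (nat_lit 32768) (Steps.fwd (nat_lit 24576) Steps.nil))))))))))) (nat_lit 194) (nat_lit 1),
  Rule.mk (nat_lit 0) (nat_lit 194) (Steps.bwd (nat_lit 20) (Steps.fwd (nat_lit 8192) (Steps.fwd (nat_lit 24576) (Steps.fwd (nat_lit 8192) (Steps.fwd (nat_lit 24576) (Steps.bwd (nat_lit 1) (Steps.fwd (nat_lit 16384) (Steps.fwd (nat_lit 8192) (Steps.bwd (nat_lit 3) (Steps.fwd (nat_lit 8192) (Steps.fwd (nat_lit 32768) (Steps.fwd (nat_lit 24576) Steps.nil)))))))))))) (nat_lit 194) (nat_lit 0),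
  Rule.mk (nat_lit 0) (nat_lit 194) (Steps.bwd (nat_lit 19) (Steps.bwd (nat_lit 3) (Steps.fwd (nat_lit 32768) (Steps.bwd (nat_lit 1) (Steps.bwd (nat_lit 2) (Steps.fwd (nat_lit 8192) (Steps.fwd (nat_lit 24576) (Steps.bwd (nat_lit 1) (Steps.fwd (nat_lit 16384) (Steps.fwd (nat_lit 8192) (Steps.fwd (nat_lit 16384) (Steps.fwd (nat_lit 8192) Steps.nil)))))))))))) (nat_lit 195) (nat_lit 11),
  Rule.mk (nat_lit 15) (nat_lit 179) (Steps.bwd (nat_lit 3) (Steps.fwd (nat_lit 8192) (Steps.fwd (nat_lit 32768) (Steps.fwd (nat_lit 16384) (Steps.bwd (nat_lit 1) (Steps.bwd (nat_lit 2) (Steps.fwd (nat_lit 8192) (Steps.bwd (nat_lit 2) (Steps.bwd (nat_lit 1) (Steps.fwd (nat_lit 24576) (Steps.bwd (nat_lit 1) Steps.nil))))))))))) (nat_lit 191) (nat_lit 0),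
  Rule.mk (nat_lit 17) (nat_lit 179) (Steps.bwd (nat_lit 2) (Steps.fwd (nat_lit 8192) (Steps.fwd (nat_lit 24576) (Steps.bwd (nat_lit 1) (Steps.fwd (nat_lit 16384) (Steps.bwd (nat_lit 1) (Steps.bwd (nat_lit 3) (Steps.fwd (nat_lit 8192) (Steps.bwd (nat_lit 4) (Steps.fwd (nat_lit 24576) (Steps.bwd (nat_lit 1) Steps.nil))))))))))) (nat_lit 193) (nat_lit 0),
  Rule.mk (nat_lit 19) (nat_lit 179) (Steps.fwd (nat_lit 16384) (Steps.bwd (nat_lit 4) (Steps.fwd (nat_lit 8192) (Steps.bwd (nat_lit 2) (Steps.fwd (nat_lit 8192) (Steps.bwd (nat_lit 2) (Steps.bwd (nat_lit 1) (Steps.fwd (nat_lit 16384) (Steps.fwd (nat_lit 8192) (Steps.bwd (nat_lit 3) (Steps.bwd (nat_lit 1) Steps.nil))))))))))) (nat_lit 195) (nat_lit 0),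
  Rule.mk (nat_lit 1) (nat_lit 179) (Steps.bwd (nat_lit 15) (Steps.fwd (nat_lit 16384) (Steps.bwd (nat_lit 1) (Steps.bwd (nat_lit 4) (Steps.fwd (nat_lit 16384) (Steps.fwd (nat_lit 8192) (Steps.bwd (nat_lit 2) (Steps.fwd (nat_lit 8192) (Steps.fwd (nat_lit 24576) (Steps.fwd (nat_lit 8192) (Steps.fwd (nat_lit 24576) Steps.nil))))))))))) (nat_lit 191) (nat_lit 11),
  Rule.mk (nat_lit 8) (nat_lit 104) (Steps.bwd (nat_lit 1) (Steps.fwd (nat_lit 114688) (Steps.bwd (nat_lit 13) (Steps.fwd (nat_lit 57344) (Steps.bwd (nat_lit 5) (Steps.bwd (nat_lit 1) Steps.nil)))))) (nat_lit 155) (nat_lit 6),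
  Rule.mk (nat_lit 9) (nat_lit 104) (Steps.fwd (nat_lit 65536) (Steps.bwd (nat_lit 5) (Steps.bwd (nat_lit 4) (Steps.fwd (nat_lit 8192) (Steps.bwd (nat_lit 13) (Steps.bwd (nat_lit 1) Steps.nil)))))) (nat_lit 165) (nat_lit 1),
  Rule.mk (nat_lit 5) (nat_lit 164) (Steps.fwd (nat_lit 49152) (Steps.fwd (nat_lit 73728) (Steps.fwd (nat_lit 81920) (Steps.fwd (nat_lit 90112) (Steps.bwd (nat_lit 12) (Steps.fwd (nat_lit 106496) (Steps.fwd (nat_lit 114688) (Steps.bwd (nat_lit 1) (Steps.bwd (nat_lit 7) (Steps.bwd (nat_lit 1) Steps.nil)))))))))) (nat_lit 152) (nat_lit 4),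
  Rule.mk (nat_lit 7) (nat_lit 164) (Steps.bwd (nat_lit 1) (Steps.fwd (nat_lit 40960) (Steps.fwd (nat_lit 49152) (Steps.fwd (nat_lit 73728) (Steps.fwd (nat_lit 81920) (Steps.fwd (nat_lit 90112) (Steps.bwd (nat_lit 12) (Steps.bwd (nat_lit 13) (Steps.fwd (nat_lit 114688) (Steps.bwd (nat_lit 1) Steps.nil)))))))))) (nat_lit 152) (nat_lit 2),
  Rule.mk (nat_lit 12) (nat_lit 164) (Steps.bwd (nat_lit 1) (Steps.fwd (nat_lit 32768) (Steps.bwd (nat_lit 5) (Steps.fwd (nat_lit 65536) (Steps.bwd (nat_lit 9) (Steps.fwd (nat_lit 81920) (Steps.fwd (nat_lit 90112) (Steps.fwd (nat_lit 98304) (Steps.fwd (nat_lit 114688) (Steps.bwd (nat_lit 1) Steps.nil)))))))))) (nat_lit 162) (nat_lit 2),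
  Rule.mk (nat_lit 15) (nat_lit 179) (Steps.bwd (nat_lit 3) (Steps.bwd (nat_lit 1) (Steps.bwd (nat_lit 4) (Steps.fwd (nat_lit 16384) (Steps.bwd (nat_lit 1) (Steps.fwd (nat_lit 24576) (Steps.fwd (nat_lit 8192) (Steps.bwd (nat_lit 2) (Steps.bwd (nat_lit 1) (Steps.bwd (nat_lit 2) (Steps.fwd (nat_lit 8192) Steps.nil))))))))))) (nat_lit 191) (nat_lit 0),
  Rule.mk (nat_lit 17) (nat_lit 179) (Steps.fwd (nat_lit 24576) (Steps.bwd (nat_lit 1) (Steps.bwd (nat_lit 2) (Steps.fwd (nat_lit 8192) (Steps.fwd (nat_lit 16384) (Steps.fwd (nat_lit 8192) (Steps.fwd (nat_lit 16384) (Steps.bwd (nat_lit 1) (Steps.fwd (nat_lit 32768) (Steps.fwd (nat_lit 24576) (Steps.bwd (nat_lit 1) Steps.nil))))))))))) (nat_lit 193) (nat_lit 0),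
  Rule.mk (nat_lit 17) (nat_lit 179) (Steps.bwd (nat_lit 2) (Steps.fwd (nat_lit 8192) (Steps.fwd (nat_lit 24576) (Steps.fwd (nat_lit 8192) (Steps.fwd (nat_lit 16384) (Steps.bwd (nat_lit 1) (Steps.bwd (nat_lit 3) (Steps.bwd (nat_lit 1) (Steps.bwd (nat_lit 4) (Steps.fwd (nat_lit 24576) (Steps.bwd (nat_lit 1) Steps.nil))))))))))) (nat_lit 193) (nat_lit 0),
  Rule.mk (nat_lit 20) (nat_lit 179) (Steps.fwd (nat_lit 8192) (Steps.bwd (nat_lit 2) (Steps.fwd (nat_lit 8192) (Steps.fwd (nat_lit 24576) (Steps.fwd (nat_lit 8192) (Steps.fwd (nat_lit 16384) (Steps.bwd (nat_lit 1) (Steps.bwd (nat_lit 3) (Steps.bwd (nat_lit 1) (Steps.bwd (nat_lit 4) (Steps.fwd (nat_lit 24576) Steps.nil))))))))))) (nat_lit 194) (nat_lit 1),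
  Rule.mk (nat_lit 19) (nat_lit 179) (Steps.bwd (nat_lit 3) (Steps.fwd (nat_lit 32768) (Steps.fwd (nat_lit 8192) (Steps.bwd (nat_lit 2) (Steps.fwd (nat_lit 8192) (Steps.fwd (nat_lit 24576) (Steps.fwd (nat_lit 8192) (Steps.fwd (nat_lit 16384) (Steps.bwd (nat_lit 1) (Steps.bwd (nat_lit 3) (Steps.bwd (nat_lit 1) Steps.nil))))))))))) (nat_lit 195) (nat_lit 0),
  Rule.mk (nat_lit 3) (nat_lit 539) (Steps.fwd (nat_lit 8192) (Steps.bwd (nat_lit 3) (Steps.fwd (nat_lit 8192) (Steps.fwd (nat_lit 24576) (Steps.bwd (nat_lit 1) (Steps.bwd (nat_lit 2) (Steps.fwd (nat_lit 8192) (Steps.fwd (nat_lit 16384) (Steps.fwd (nat_lit 8192) (Steps.fwd (nat_lit 24576) (Steps.bwd (nat_lit 1) (Steps.fwd (nat_lit 24576) (Steps.bwd (nat_lit 1) (Steps.fwd (nat_lit 16384) (Steps.fwd (nat_lit 8192) (Steps.bwd (nat_lit 2) (Steps.fwd (nat_lit 8192) (Steps.fwd (nat_lit 24576) (Steps.bwd (nat_lit 1) (Steps.bwd (nat_lit 3) (Steps.fwd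 (nat_lit 8192) (Steps.fwd (nat_lit 24576) (Steps.fwd (nat_lit 8192) (Steps.bwd (nat_lit 3) (Steps.bwd (nat_lit 1) (Steps.bwd (nat_lit 3) (Steps.fwd (nat_lit 8192) (Steps.fwd (nat_lit 24576) (Steps.bwd (nat_lit 1) (Steps.fwd (nat_lit 16384) (Steps.fwd (nat_lit 8192) (Steps.fwd (nat_lit 16384) (Steps.fwd (nat_lit 8192) (Steps.fwd (nat_lit 24576) (Steps.bwd (nat_lit 1) Steps.nil))))))))))))))))))))))))))))))))))) (nat_lit 12) (nat_lit 34),
  Rule.mk (nat_lit 2) (nat_lit 539) (Steps.fwd (nat_lit 8192) (Steps.fwd (nat_lit 24576) (Steps.fwd (nat_lit 8192) (Steps.bwd (nat_lit 3) (Steps.fwd (nat_lit 8192) (Steps.fwd (nat_lit 24576) (Steps.bwd (nat_lit 1) (Steps.bwd (nat_lit 3) (Steps.fwd (nat_lit 8192) (Steps.bwd (nat_lit 3) (Steps.fwd (nat_lit 8192) (Steps.bwd (nat_lit 2) (Steps.bwd (nat_lit 1) (Steps.fwd (nat_lit 16384) (Steps.bwd (nat_lit 1) (Steps.bwd (nat_lit 3) (Steps.bwd (nat_lit 1) (Steps.fwd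 (nat_lit 24576) (Steps.fwd (nat_lit 8192) (Steps.bwd (nat_lit 3) (Steps.bwd (nat_lit 1) (Steps.fwd (nat_lit 16384) (Steps.bwd (nat_lit 1) (Steps.fwd (nat_lit 24576) (Steps.fwd (nat_lit 8192) (Steps.fwd (nat_lit 24576) (Steps.fwd (nat_lit 8192) (Steps.fwd (nat_lit 16384) (Steps.bwd (nat_lit 1) (Steps.fwd (nat_lit 24576) (Steps.fwd (nat_lit 8192) (Steps.bwd (nat_lit 2) (Steps.bwd (nat_lit 1) (Steps.bwd (nat_lit 3) (Steps.bwd (nat_lit 1) Steps.nil))))))))))))))))))))))))))))))))))) (nat_lit 12) (nat_lit 14),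
  Rule.mk (nat_lit 0) (nat_lit 194) (Steps.bwd (nat_lit 1) (Steps.fwd (nat_lit 16384) (Steps.bwd (nat_lit 1) (Steps.bwd (nat_lit 3) (Steps.fwd (nat_lit 8192) (Steps.fwd (nat_lit 16384) (Steps.fwd (nat_lit 8192) (Steps.fwd (nat_lit 24576) (Steps.fwd (nat_lit 32768) (Steps.fwd (nat_lit 8192) (Steps.fwd (nat_lit 24576) (Steps.fwd (nat_lit 122880) Steps.nil)))))))))))) (nat_lit 190) (nat_lit 1),
  Rule.mk (nat_lit 0) (nat_lit 194) (Steps.bwd (nat_lit 1) (Steps.bwd (nat_lit 3) (Steps.fwd (nat_lit 8192) (Steps.fwd (nat_lit 16384) (Steps.fwd (nat_lit 8192) (Steps.bwd (nat_lit 3) (Steps.bwd (nat_lit 1) (Steps.bwd (nat_lit 2) (Steps.bwd (nat_lit 4) (Steps.fwd (nat_lit 8192) (Steps.fwd (nat_lit 24576) (Steps.fwd (nat_lit 122880) Steps.nil)))))))))))) (nat_lit 190) (nat_lit 1),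
  Rule.mk (nat_lit 0) (nat_lit 194) (Steps.bwd (nat_lit 15) (Steps.bwd (nat_lit 3) (Steps.bwd (nat_lit 1) (Steps.fwd (nat_lit 32768) (Steps.fwd (nat_lit 16384) (Steps.fwd (nat_lit 8192) (Steps.fwd (nat_lit 24576) (Steps.fwd (nat_lit 8192) (Steps.fwd (nat_lit 24576) (Steps.bwd (nat_lit 1) (Steps.bwd (nat_lit 2) (Steps.fwd (nat_lit 8192) Steps.nil)))))))))))) (nat_lit 191) (nat_lit 11),
  Rule.mk (nat_lit 15) (nat_lit 179) (Steps.fwd (nat_lit 16384) (Steps.fwd (nat_lit 8192) (Steps.fwd (nat_lit 32768) (Steps.bwd (nat_lit 3) (Steps.bwd (nat_lit 1) (Steps.bwd (nat_lit 2) (Steps.fwd (nat_lit 8192) (Steps.fwd (nat_lit 24576) (Steps.fwd (nat_lit 8192) (Steps.fwd (nat_lit 24576) (Steps.fwd (nat_lit 8192) Steps.nil))))))))))) (nat_lit 191) (nat_lit 0),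
  Rule.mk (nat_lit 0) (nat_lit 194) (Steps.bwd (nat_lit 15) (Steps.bwd (nat_lit 3) (Steps.fwd (nat_lit 8192) (Steps.bwd (nat_lit 4) (Steps.bwd (nat_lit 3) (Steps.fwd (nat_lit 8192) (Steps.fwd (nat_lit 24576) (Steps.fwd (nat_lit 8192) (Steps.fwd (nat_lit 24576) (Steps.fwd (nat_lit 8192) (Steps.bwd (nat_lit 2) (Steps.bwd (nat_lit 1) Steps.nil)))))))))))) (nat_lit 191) (nat_lit 11),
  Rule.mk (nat_lit 0) (nat_lit 194) (Steps.bwd (nat_lit 18) (Steps.bwd (nat_lit 1) (Steps.fwd (nat_lit 16384) (Steps.fwd (nat_lit 32768) (Steps.fwd (nat_lit 8192) (Steps.fwd (nat_lit 24576) (Steps.bwd (nat_lit 1) (Steps.bwd (nat_lit 2) (Steps.fwd (nat_lit 8192) (Steps.fwd (nat_lit 16384) (Steps.fwd (nat_lit 8192) (Steps.bwd (nat_lit 3) Steps.nil)))))))))))) (nat_lit 192) (nat_lit 0)]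
noncomputable def R_125 : List (Rule) := [Rule.mk (nat_lit 18) (nat_lit 179) (Steps.fwd (nat_lit 8192) (Steps.bwd (nat_lit 3) (Steps.fwd (nat_lit 32768) (Steps.bwd (nat_lit 1) (Steps.bwd (nat_lit 2) (Steps.fwd (nat_lit 8192) (Steps.fwd (nat_lit 24576) (Steps.fwd (nat_lit 8192) (Steps.bwd (nat_lit 3) (Steps.bwd (nat_lit 1) (Steps.bwd (nat_lit 3) Steps.nil))))))))))) (nat_lit 192) (nat_lit 1),
  Rule.mk (nat_lit 18) (nat_lit 179) (Steps.fwd (nat_lit 8192) (Steps.bwd (nat_lit 3) (Steps.bwd (nat_lit 4) (Steps.fwd (nat_lit 8192) (Steps.fwd (nat_lit 24576) (Steps.fwd (nat_lit 8192) (Steps.fwd (nat_lit 24576) (Steps.fwd (nat_lit 8192) (Steps.fwd (nat_lit 16384) (Steps.bwd (nat_lit 1) (Steps.bwd (nat_lit 3) Steps.nil))))))))))) (nat_lit 192) (nat_lit 1),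
  Rule.mk (nat_lit 17) (nat_lit 179) (Steps.fwd (nat_lit 24576) (Steps.fwd (nat_lit 8192) (Steps.bwd (nat_lit 2) (Steps.fwd (nat_lit 8192) (Steps.fwd (nat_lit 16384) (Steps.bwd (nat_lit 1) (Steps.bwd (nat_lit 3) (Steps.fwd (nat_lit 8192) (Steps.bwd (nat_lit 4) (Steps.fwd (nat_lit 24576) (Steps.fwd (nat_lit 8192) Steps.nil))))))))))) (nat_lit 193) (nat_lit 0),
  Rule.mk (nat_lit 17) (nat_lit 179) (Steps.bwd (nat_lit 2) (Steps.fwd (nat_lit 8192) (Steps.fwd (nat_lit 24576) (Steps.fwd (nat_lit 8192) (Steps.bwd (nat_lit 3) (Steps.bwd (nat_lit 1) (Steps.bwd (nat_lit 3) (Steps.bwd (nat_lit 1) (Steps.fwd (nat_lit 32768) (Steps.bwd (nat_lit 2) (Steps.fwd (nat_lit 8192) Steps.nil))))))))))) (nat_lit 193) (nat_lit 0),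
  Rule.mk (nat_lit 17) (nat_lit 179) (Steps.fwd (nat_lit 24576) (Steps.fwd (nat_lit 8192) (Steps.fwd (nat_lit 24576) (Steps.fwd (nat_lit 8192) (Steps.fwd (nat_lit 16384) (Steps.bwd (nat_lit 1) (Steps.bwd (nat_lit 3) (Steps.fwd (nat_lit 8192) (Steps.bwd (nat_lit 4) (Steps.bwd (nat_lit 2) (Steps.bwd (nat_lit 1) Steps.nil))))))))))) (nat_lit 193) (nat_lit 0),
  Rule.mk (nat_lit 0) (nat_lit 194) (Steps.bwd (nat_lit 19) (Steps.fwd (nat_lit 16384) (Steps.fwd (nat_lit 32768) (Steps.fwd (nat_lit 8192) (Steps.fwd (nat_lit 24576) (Steps.bwd (nat_lit 1) (Steps.bwd (nat_lit 2) (Steps.fwd (nat_lit 8192) (Steps.fwd (nat_lit 16384) (Steps.fwd (nat_lit 8192) (Steps.bwd (nat_lit 3) (Steps.bwd (nat_lit 1) Steps.nil)))))))))))) (nat_lit 195) (nat_lit 11),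
  Rule.mk (nat_lit 0) (nat_lit 194) (Steps.bwd (nat_lit 20) (Steps.bwd (nat_lit 1) (Steps.bwd (nat_lit 2) (Steps.fwd (nat_lit 8192) (Steps.fwd (nat_lit 24576) (Steps.fwd (nat_lit 8192) (Steps.bwd (nat_lit 3) (Steps.bwd (nat_lit 1) (Steps.bwd (nat_lit 3) (Steps.bwd (nat_lit 1) (Steps.fwd (nat_lit 32768) (Steps.bwd (nat_lit 2) Steps.nil)))))))))))) (nat_lit 194) (nat_lit 0),
  Rule.mk (nat_lit 20) (nat_lit 179) (Steps.fwd (nat_lit 8192) (Steps.fwd (nat_lit 24576) (Steps.fwd (nat_lit 8192) (Steps.fwd (nat_lit 24576) (Steps.fwd (nat_lit 8192) (Steps.fwd (nat_lit 16384) (Steps.bwd (nat_lit 1) (Steps.bwd (nat_lit 3) (Steps.fwd (nat_lit 8192) (Steps.bwd (nat_lit 4) (Steps.bwd (nat_lit 2) Steps.nil))))))))))) (nat_lit 194) (nat_lit 1),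
  Rule.mk (nat_lit 19) (nat_lit 179) (Steps.bwd (nat_lit 3) (Steps.bwd (nat_lit 4) (Steps.fwd (nat_lit 8192) (Steps.bwd (nat_lit 2) (Steps.bwd (nat_lit 1) (Steps.bwd (nat_lit 2) (Steps.fwd (nat_lit 8192) (Steps.bwd (nat_lit 3) (Steps.fwd (nat_lit 8192) (Steps.fwd (nat_lit 16384) (Steps.fwd (nat_lit 8192) Steps.nil))))))))))) (nat_lit 195) (nat_lit 0),
  Rule.mk (nat_lit 0) (nat_lit 194) (Steps.bwd (nat_lit 20) (Steps.fwd (nat_lit 8192) (Steps.fwd (nat_lit 24576) (Steps.fwd (nat_lit 8192) (Steps.fwd (nat_lit 24576) (Steps.bwd (nat_lit 1) (Steps.bwd (nat_lit 3) (Steps.bwd (nat_lit 1) (Steps.fwd (nat_lit 16384) (Steps.fwd (nat_lit 8192) (Steps.bwd (nat_lit 4) (Steps.fwd (nat_lit 24576) Steps.nil)))))))))))) (nat_lit 194) (nat_lit 0),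
  Rule.mk (nat_lit 0) (nat_lit 194) (Steps.bwd (nat_lit 20) (Steps.bwd (nat_lit 1) (Steps.fwd (nat_lit 24576) (Steps.fwd (nat_lit 8192) (Steps.bwd (nat_lit 2) (Steps.bwd (nat_lit 1) (Steps.bwd (nat_lit 3) (Steps.bwd (nat_lit 1) (Steps.bwd (nat_lit 3) (Steps.bwd (nat_lit 1) (Steps.fwd (nat_lit 32768) (Steps.fwd (nat_lit 24576) Steps.nil)))))))))))) (nat_lit 194) (nat_lit 0),
  Rule.mk (nat_lit 16) (nat_lit 179) (Steps.bwd (nat_lit 1) (Steps.fwd (nat_lit 16384) (Steps.bwd (nat_lit 1) (Steps.bwd (nat_lit 3) (Steps.fwd (nat_lit 8192) (Steps.bwd (nat_lit 3) (Steps.fwd (nat_lit 8192) (Steps.bwd (nat_lit 2) (Steps.bwd (nat_lit 4) (Steps.fwd (nat_lit 8192) (Steps.fwd (nat_lit 24576) Steps.nil))))))))))) (nat_lit 190) (nat_lit 1),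
  Rule.mk (nat_lit 0) (nat_lit 194) (Steps.bwd (nat_lit 15) (Steps.fwd (nat_lit 16384) (Steps.bwd (nat_lit 1) (Steps.fwd (nat_lit 32768) (Steps.bwd (nat_lit 3) (Steps.bwd (nat_lit 1) (Steps.fwd (nat_lit 24576) (Steps.bwd (nat_lit 1) (Steps.fwd (nat_lit 24576) (Steps.bwd (nat_lit 1) (Steps.fwd (nat_lit 24576) (Steps.fwd (nat_lit 8192) Steps.nil)))))))))))) (nat_lit 191) (nat_lit 11),
  Rule.mk (nat_lit 18) (nat_lit 179) (Steps.bwd (nat_lit 1) (Steps.bwd (nat_lit 3) (Steps.bwd (nat_lit 4) (Steps.fwd (nat_lit 8192) (Steps.bwd (nat_lit 2) (Steps.bwd (nat_lit 1) (Steps.bwd (nat_lit 2) (Steps.fwd (nat_lit 8192) (Steps.bwd (nat_lit 3) (Steps.fwd (nat_lit 8192) (Steps.fwd (nat_lit 16384) Steps.nil))))))))))) (nat_lit 192) (nat_lit 1),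
  Rule.mk (nat_lit 17) (nat_lit 179) (Steps.fwd (nat_lit 24576) (Steps.fwd (nat_lit 8192) (Steps.bwd (nat_lit 2) (Steps.bwd (nat_lit 1) (Steps.bwd (nat_lit 3) (Steps.fwd (nat_lit 8192) (Steps.fwd (nat_lit 16384) (Steps.bwd (nat_lit 1) (Steps.fwd (nat_lit 32768) (Steps.bwd (nat_lit 2) (Steps.fwd (nat_lit 8192) Steps.nil))))))))))) (nat_lit 193) (nat_lit 0),
  Rule.mk (nat_lit 19) (nat_lit 179) (Steps.bwd (nat_lit 3) (Steps.fwd (nat_lit 32768) (Steps.bwd (nat_lit 1) (Steps.fwd (nat_lit 24576) (Steps.fwd (nat_lit 8192) (Steps.bwd (nat_lit 2) (Steps.bwd (nat_lit 1) (Steps.fwd (nat_lit 16384) (Steps.bwd (nat_lit 1) (Steps.bwd (nat_lit 3) (Steps.bwd (nat_lit 1) Steps.nil))))))))))) (nat_lit 195) (nat_lit 0),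
  Rule.mk (nat_lit 1) (nat_lit 179) (Steps.bwd (nat_lit 17) (Steps.bwd (nat_lit 2) (Steps.bwd (nat_lit 1) (Steps.fwd (nat_lit 24576) (Steps.bwd (nat_lit 1) (Steps.fwd (nat_lit 16384) (Steps.bwd (nat_lit 1) (Steps.fwd (nat_lit 16384) (Steps.fwd (nat_lit 8192) (Steps.fwd (nat_lit 32768) (Steps.bwd (nat_lit 2) Steps.nil))))))))))) (nat_lit 193) (nat_lit 11),
  Rule.mk (nat_lit 10) (nat_lit 134) (Steps.fwd (nat_lit 8192) (Steps.fwd (nat_lit 32768) (Steps.bwd (nat_lit 5) (Steps.fwd (nat_lit 65536) (Steps.fwd (nat_lit 73728) (Steps.bwd (nat_lit 11) (Steps.bwd (nat_lit 14) (Steps.bwd (nat_lit 1) Steps.nil)))))))) (nat_lit 158) (nat_lit 2),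
  Rule.mk (nat_lit 6) (nat_lit 134) (Steps.fwd (nat_lit 81920) (Steps.fwd (nat_lit 90112) (Steps.fwd (nat_lit 98304) (Steps.fwd (nat_lit 106496) (Steps.bwd (nat_lit 14) (Steps.fwd (nat_lit 8192) (Steps.bwd (nat_lit 14) (Steps.bwd (nat_lit 1) Steps.nil)))))))) (nat_lit 166) (nat_lit 4),
  Rule.mk (nat_lit 7) (nat_lit 164) (Steps.bwd (nat_lit 1) (Steps.fwd (nat_lit 40960) (Steps.bwd (nat_lit 6) (Steps.fwd (nat_lit 73728) (Steps.fwd (nat_lit 81920) (Steps.fwd (nat_lit 90112) (Steps.fwd (nat_lit 98304) (Steps.fwd (nat_lit 106496) (Steps.bwd (nat_lit 14) (Steps.bwd (nat_lit 1) Steps.nil)))))))))) (nat_lit 152) (nat_lit 2),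
  Rule.mk (nat_lit 12) (nat_lit 164) (Steps.fwd (nat_lit 8192) (Steps.fwd (nat_lit 32768) (Steps.bwd (nat_lit 5) (Steps.fwd (nat_lit 65536) (Steps.fwd (nat_lit 73728) (Steps.fwd (nat_lit 81920) (Steps.bwd (nat_lit 11) (Steps.bwd (nat_lit 12) (Steps.bwd (nat_lit 14) (Steps.bwd (nat_lit 1) Steps.nil)))))))))) (nat_lit 162) (nat_lit 2),
  Rule.mk (nat_lit 2) (nat_lit 179) (Steps.bwd (nat_lit 16) (Steps.fwd (nat_lit 8192) (Steps.bwd (nat_lit 3) (Steps.bwd (nat_lit 1) (Steps.fwd (nat_lit 16384) (Steps.bwd (nat_lit 1) (Steps.fwd (nat_lit 16384) (Steps.fwd (nat_lit 8192) (Steps.fwd (nat_lit 24576) (Steps.bwd (nat_lit 4) (Steps.bwd (nat_lit 1) Steps.nil))))))))))) (nat_lit 190) (nat_lit 0),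
  Rule.mk (nat_lit 15) (nat_lit 179) (Steps.fwd (nat_lit 16384) (Steps.bwd (nat_lit 1) (Steps.bwd (nat_lit 4) (Steps.bwd (nat_lit 3) (Steps.fwd (nat_lit 8192) (Steps.fwd (nat_lit 24576) (Steps.bwd (nat_lit 1) (Steps.bwd (nat_lit 2) (Steps.fwd (nat_lit 8192) (Steps.bwd (nat_lit 2) (Steps.bwd (nat_lit 1) Steps.nil))))))))))) (nat_lit 191) (nat_lit 0),
  Rule.mk (nat_lit 15) (nat_lit 179) (Steps.bwd (nat_lit 3) (Steps.bwd (nat_lit 1) (Steps.bwd (nat_lit 4) (Steps.fwd (nat_lit 16384) (Steps.bwd (nat_lit 1) (Steps.bwd (nat_lit 2) (Steps.fwd (nat_lit 8192) (Steps.bwd (nat_lit 2) (Steps.bwd (nat_lit 1) (Steps.fwd (nat_lit 24576) (Steps.bwd (nat_lit 1) Steps.nil))))))))))) (nat_lit 191) (nat_lit 0),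
  Rule.mk (nat_lit 0) (nat_lit 194) (Steps.bwd (nat_lit 18) (Steps.fwd (nat_lit 8192) (Steps.fwd (nat_lit 16384) (Steps.fwd (nat_lit 32768) (Steps.fwd (nat_lit 8192) (Steps.fwd (nat_lit 24576) (Steps.bwd (nat_lit 1) (Steps.bwd (nat_lit 2) (Steps.bwd (nat_lit 1) (Steps.fwd (nat_lit 16384) (Steps.bwd (nat_lit 1) (Steps.bwd (nat_lit 3) Steps.nil)))))))))))) (nat_lit 192) (nat_lit 0),
  Rule.mk (nat_lit 0) (nat_lit 194) (Steps.fwd (nat_lit 16384) (Steps.fwd (nat_lit 32768) (Steps.fwd (nat_lit 8192) (Steps.fwd (nat_lit 24576) (Steps.bwd (nat_lit 1) (Steps.bwd (nat_lit 2) (Steps.bwd (nat_lit 1) (Steps.fwd (nat_lit 16384) (Steps.bwd (nat_lit 1) (Steps.bwd (nat_lit 3) (Steps.bwd (nat_lit 1) (Steps.fwd (nat_lit 163840) Steps.nil)))))))))))) (nat_lit 195) (nat_lit 0),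
  Rule.mk (nat_lit 19) (nat_lit 179) (Steps.bwd (nat_lit 3) (Steps.fwd (nat_lit 32768) (Steps.fwd (nat_lit 8192) (Steps.fwd (nat_lit 24576) (Steps.fwd (nat_lit 8192) (Steps.bwd (nat_lit 2) (Steps.fwd (nat_lit 8192) (Steps.fwd (nat_lit 16384) (Steps.fwd (nat_lit 8192) (Steps.bwd (nat_lit 3) (Steps.bwd (nat_lit 1) Steps.nil))))))))))) (nat_lit 195) (nat_lit 0),
  Rule.mk (nat_lit 3) (nat_lit 539) (Steps.bwd (nat_lit 1) (Steps.fwd (nat_lit 16384) (Steps.fwd (nat_lit 8192) (Steps.fwd (nat_lit 24576) (Steps.fwd (nat_lit 8192) (Steps.fwd (nat_lit 24576) (Steps.bwd (nat_lit 1) (Steps.fwd (nat_lit 16384) (Steps.fwd (nat_lit 8192) (Steps.bwd (nat_lit 2) (Steps.fwd (nat_lit 8192) (Steps.bwd (nat_lit 2) (Steps.fwd (nat_lit 8192) (Steps.fwd (nat_lit 16384) (Steps.bwd (nat_lit 1) (Steps.fwd (nat_lit 24576) (Steps.bwd (nat_lit 1) (Steps.fwd (nat_lit 24576) (Steps.fwd (nat_lit 8192) (Steps.fwd (nat_lit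 16384) (Steps.bwd (nat_lit 1) (Steps.fwd (nat_lit 24576) (Steps.fwd (nat_lit 8192) (Steps.bwd (nat_lit 3) (Steps.fwd (nat_lit 8192) (Steps.fwd (nat_lit 16384) (Steps.fwd (nat_lit 8192) (Steps.bwd (nat_lit 2) (Steps.bwd (nat_lit 1) (Steps.fwd (nat_lit 16384) (Steps.fwd (nat_lit 8192) (Steps.bwd (nat_lit 3) (Steps.fwd (nat_lit 8192) (Steps.bwd (nat_lit 2) (Steps.bwd (nat_lit 1) Steps.nil))))))))))))))))))))))))))))))))))) (nat_lit 12) (nat_lit 34),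
  Rule.mk (nat_lit 15) (nat_lit 179) (Steps.bwd (nat_lit 3) (Steps.bwd (nat_lit 1) (Steps.bwd (nat_lit 4) (Steps.fwd (nat_lit 16384) (Steps.fwd (nat_lit 8192) (Steps.bwd (nat_lit 2) (Steps.bwd (nat_lit 1) (Steps.bwd (nat_lit 2) (Steps.fwd (nat_lit 8192) (Steps.fwd (nat_lit 24576) (Steps.fwd (nat_lit 8192) Steps.nil))))))))))) (nat_lit 191) (nat_lit 0),
  Rule.mk (nat_lit 15) (nat_lit 179) (Steps.fwd (nat_lit 16384) (Steps.fwd (nat_lit 8192) (Steps.fwd (nat_lit 32768) (Steps.bwd (nat_lit 3) (Steps.bwd (nat_lit 1) (Steps.bwd (nat_lit 2) (Steps.fwd (nat_lit 8192) (Steps.fwd (nat_lit 24576) (Steps.fwd (nat_lit 8192) (Steps.fwd (nat_lit 24576) (Steps.bwd (nat_lit 1) Steps.nil))))))))))) (nat_lit 191) (nat_lit 0),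
  Rule.mk (nat_lit 0) (nat_lit 194) (Steps.bwd (nat_lit 16) (Steps.fwd (nat_lit 8192) (Steps.fwd (nat_lit 16384) (Steps.fwd (nat_lit 8192) (Steps.bwd (nat_lit 3) (Steps.bwd (nat_lit 1) (Steps.bwd (nat_lit 3) (Steps.bwd (nat_lit 1) (Steps.fwd (nat_lit 24576) (Steps.bwd (nat_lit 4) (Steps.fwd (nat_lit 8192) (Steps.fwd (nat_lit 24576) Steps.nil)))))))))))) (nat_lit 190) (nat_lit 0),
  Rule.mk (nat_lit 18) (nat_lit 179) (Steps.fwd (nat_lit 8192) (Steps.fwd (nat_lit 16384) (Steps.fwd (nat_lit 32768) (Steps.bwd (nat_lit 1) (Steps.bwd (nat_lit 2) (Steps.fwd (nat_lit 8192) (Steps.fwd (nat_lit 24576) (Steps.fwd (nat_lit 8192) (Steps.fwd (nat_lit 16384) (Steps.bwd (nat_lit 1) (Steps.fwd (nat_lit 16384) Steps.nil))))))))))) (nat_lit 192) (nat_lit 1),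
  Rule.mk (nat_lit 0) (nat_lit 194) (Steps.bwd (nat_lit 18) (Steps.bwd (nat_lit 1) (Steps.fwd (nat_lit 16384) (Steps.bwd (nat_lit 4) (Steps.fwd (nat_lit 8192) (Steps.fwd (nat_lit 24576) (Steps.fwd (nat_lit 8192) (Steps.fwd (nat_lit 24576) (Steps.bwd (nat_lit 1) (Steps.bwd (nat_lit 3) (Steps.bwd (nat_lit 1) (Steps.bwd (nat_lit 3) Steps.nil)))))))))))) (nat_lit 192) (nat_lit 0),
  Rule.mk (nat_lit 0) (nat_lit 194) (Steps.bwd (nat_lit 17) (Steps.bwd (nat_lit 2) (Steps.fwd (nat_lit 8192) (Steps.bwd (nat_lit 2) (Steps.fwd (nat_lit 8192) (Steps.fwd (nat_lit 16384) (Steps.bwd (nat_lit 1) (Steps.fwd (nat_lit 16384) (Steps.fwd (nat_lit 8192) (Steps.bwd (nat_lit 4) (Steps.fwd (nat_lit 24576) (Steps.fwd (nat_lit 8192) Steps.nil)))))))))))) (nat_lit 193) (nat_lit 11),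
  Rule.mk (nat_lit 17) (nat_lit 179) (Steps.bwd (nat_lit 2) (Steps.fwd (nat_lit 8192) (Steps.fwd (nat_lit 24576) (Steps.fwd (nat_lit 8192) (Steps.fwd (nat_lit 16384) (Steps.bwd (nat_lit 1) (Steps.fwd (nat_lit 16384) (Steps.fwd (nat_lit 8192) (Steps.bwd (nat_lit 4) (Steps.fwd (nat_lit 24576) (Steps.fwd (nat_lit 8192) Steps.nil))))))))))) (nat_lit 193) (nat_lit 0),
  Rule.mk (nat_lit 17) (nat_lit 179) (Steps.fwd (nat_lit 24576) (Steps.fwd (nat_lit 8192) (Steps.fwd (nat_lit 24576) (Steps.bwd (nat_lit 1) (Steps.bwd (nat_lit 3) (Steps.bwd (nat_lit 1) (Steps.bwd (nat_lit 3) (Steps.fwd (nat_lit 8192) (Steps.bwd (nat_lit 4) (Steps.fwd (nat_lit 24576) (Steps.fwd (nat_lit 8192) Steps.nil))))))))))) (nat_lit 193) (nat_lit 0),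
  Rule.mk (nat_lit 20) (nat_lit 179) (Steps.fwd (nat_lit 8192) (Steps.fwd (nat_lit 24576) (Steps.fwd (nat_lit 8192) (Steps.fwd (nat_lit 24576) (Steps.bwd (nat_lit 1) (Steps.bwd (nat_lit 3) (Steps.bwd (nat_lit 1) (Steps.bwd (nat_lit 3) (Steps.fwd (nat_lit 8192) (Steps.bwd (nat_lit 4) (Steps.fwd (nat_lit 24576) Steps.nil))))))))))) (nat_lit 194) (nat_lit 1),
  Rule.mk (nat_lit 19) (nat_lit 179) (Steps.fwd (nat_lit 16384) (Steps.fwd (nat_lit 32768) (Steps.bwd (nat_lit 1) (Steps.bwd (nat_lit 2) (Steps.fwd (nat_lit 8192) (Steps.fwd (nat_lit 24576) (Steps.fwd (nat_lit 8192) (Steps.fwd (nat_lit 16384) (Steps.bwd (nat_lit 1) (Steps.fwd (nat_lit 16384) (Steps.fwd (nat_lit 8192) Steps.nil))))))))))) (nat_lit 195) (nat_lit 0),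
  Rule.mk (nat_lit 0) (nat_lit 194) (Steps.bwd (nat_lit 19) (Steps.fwd (nat_lit 16384) (Steps.bwd (nat_lit 4) (Steps.fwd (nat_lit 8192) (Steps.fwd (nat_lit 24576) (Steps.fwd (nat_lit 8192) (Steps.fwd (nat_lit 24576) (Steps.bwd (nat_lit 1) (Steps.bwd (nat_lit 3) (Steps.bwd (nat_lit 1) (Steps.bwd (nat_lit 3) (Steps.fwd (nat_lit 8192) Steps.nil)))))))))))) (nat_lit 195) (nat_lit 11),
  Rule.mk (nat_lit 0) (nat_lit 194) (Steps.fwd (nat_lit 16384) (Steps.bwd (nat_lit 1) (Steps.fwd (nat_lit 32768) (Steps.bwd (nat_lit 3) (Steps.bwd (nat_lit 1) (Steps.fwd (nat_lit 24576) (Steps.fwd (nat_lit 8192) (Steps.bwd (nat_lit 2) (Steps.bwd (nat_lit 1) (Steps.fwd (nat_lit 24576) (Steps.fwd (nat_lit 8192) (Steps.fwd (nat_lit 131072) Steps.nil)))))))))))) (nat_lit 191) (nat_lit 0),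
  Rule.mk (nat_lit 19) (nat_lit 179) (Steps.bwd (nat_lit 3) (Steps.fwd (nat_lit 32768) (Steps.bwd (nat_lit 1) (Steps.bwd (nat_lit 2) (Steps.fwd (nat_lit 8192) (Steps.bwd (nat_lit 2) (Steps.bwd (nat_lit 1) (Steps.fwd (nat_lit 16384) (Steps.bwd (nat_lit 1) (Steps.fwd (nat_lit 16384) (Steps.bwd (nat_lit 1) Steps.nil))))))))))) (nat_lit 195) (nat_lit 0),
  Rule.mk (nat_lit 1) (nat_lit 179) (Steps.fwd (nat_lit 16384) (Steps.bwd (nat_lit 4) (Steps.fwd (nat_lit 8192) (Steps.bwd (nat_lit 2) (Steps.fwd (nat_lit 8192) (Steps.bwd (nat_lit 2) (Steps.bwd (nat_lit 1) (Steps.fwd (nat_lit 16384) (Steps.bwd (nat_lit 1) (Steps.fwd (nat_lit 16384) (Steps.fwd (nat_lit 139264) Steps.nil))))))))))) (nat_lit 192) (nat_lit 2),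
  Rule.mk (nat_lit 16) (nat_lit 179) (Steps.bwd (nat_lit 1) (Steps.fwd (nat_lit 16384) (Steps.fwd (nat_lit 8192) (Steps.fwd (nat_lit 16384) (Steps.bwd (nat_lit 1) (Steps.fwd (nat_lit 16384) (Steps.fwd (nat_lit 8192) (Steps.fwd (nat_lit 24576) (Steps.fwd (nat_lit 32768) (Steps.fwd (nat_lit 8192) (Steps.bwd (nat_lit 2) Steps.nil))))))))))) (nat_lit 190) (nat_lit 1),
  Rule.mk (nat_lit 2) (nat_lit 179) (Steps.bwd (nat_lit 1) (Steps.fwd (nat_lit 24576) (Steps.bwd (nat_lit 1) (Steps.fwd (nat_lit 16384) (Steps.fwd (nat_lit 8192) (Steps.fwd (nat_lit 16384) (Steps.bwd (nat_lit 1) (Steps.bwd (nat_lit 4) (Steps.fwd (nat_lit 24576) (Steps.fwd (nat_lit 8192) (Steps.fwd (nat_lit 147456) Steps.nil))))))))))) (nat_lit 193) (nat_lit 1),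
  Rule.mk (nat_lit 1) (nat_lit 179) (Steps.bwd (nat_lit 2) (Steps.bwd (nat_lit 1) (Steps.fwd (nat_lit 24576) (Steps.bwd (nat_lit 1) (Steps.fwd (nat_lit 16384) (Steps.fwd (nat_lit 8192) (Steps.fwd (nat_lit 16384) (Steps.bwd (nat_lit 1) (Steps.bwd (nat_lit 4) (Steps.fwd (nat_lit 24576) (Steps.fwd (nat_lit 155648) Steps.nil))))))))))) (nat_lit 194) (nat_lit 2),
  Rule.mk (nat_lit 0) (nat_lit 554) (Steps.bwd (nat_lit 1) (Steps.fwd (nat_lit 16384) (Steps.fwd (nat_lit 8192) (Steps.fwd (nat_lit 24576) (Steps.bwd (nat_lit 1) (Steps.bwd (nat_lit 2) (Steps.bwd (nat_lit 1) (Steps.fwd (nat_lit 16384) (Steps.bwd (nat_lit 1) (Steps.bwd (nat_lit 2) (Steps.fwd (nat_lit 8192) (Steps.fwd (nat_lit 24576) (Steps.fwd (nat_lit 8192) (Steps.bwd (nat_lit 3) (Steps.fwd (nat_lit 8192) (Steps.bwd (nat_lit 2) (Steps.fwd (nat_lit 8192) (Steps.fwd (nat_lit 24576) (Steps.bwd (nat_lit 1) (Steps.fwd (nat_lit 16384) (Steps.bwd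 (nat_lit 1) (Steps.fwd (nat_lit 24576) (Steps.bwd (nat_lit 1) (Steps.bwd (nat_lit 3) (Steps.bwd (nat_lit 1) (Steps.fwd (nat_lit 16384) (Steps.fwd (nat_lit 8192) (Steps.bwd (nat_lit 2) (Steps.fwd (nat_lit 8192) (Steps.fwd (nat_lit 16384) (Steps.fwd (nat_lit 8192) (Steps.bwd (nat_lit 3) (Steps.bwd (nat_lit 1) (Steps.bwd (nat_lit 2) (Steps.fwd (nat_lit 8192) (Steps.fwd (nat_lit 16384) Steps.nil)))))))))))))))))))))))))))))))))))) (nat_lit 12) (nat_lit 34),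
  Rule.mk (nat_lit 14) (nat_lit 89) (Steps.fwd (nat_lit 57344) (Steps.bwd (nat_lit 4) (Steps.bwd (nat_lit 2) (Steps.fwd (nat_lit 65536) (Steps.bwd (nat_lit 3) Steps.nil))))) (nat_lit 177) (nat_lit 1),
  Rule.mk (nat_lit 6) (nat_lit 104) (Steps.fwd (nat_lit 90112) (Steps.fwd (nat_lit 98304) (Steps.fwd (nat_lit 114688) (Steps.bwd (nat_lit 2) (Steps.bwd (nat_lit 10) (Steps.bwd (nat_lit 3) Steps.nil)))))) (nat_lit 180) (nat_lit 4),
  Rule.mk (nat_lit 0) (nat_lit 194) (Steps.fwd (nat_lit 16384) (Steps.fwd (nat_lit 8192) (Steps.bwd (nat_lit 4) (Steps.bwd (nat_lit 3) (Steps.bwd (nat_lit 1) (Steps.bwd (nat_lit 2) (Steps.fwd (nat_lit 8192) (Steps.fwd (nat_lit 24576) (Steps.bwd (nat_lit 1) (Steps.fwd (nat_lit 24576) (Steps.fwd (nat_lit 8192) (Steps.fwd (nat_lit 131072) Steps.nil)))))))))))) (nat_lit 191) (nat_lit 0),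
  Rule.mk (nat_lit 16) (nat_lit 179) (Steps.fwd (nat_lit 8192) (Steps.bwd (nat_lit 3) (Steps.bwd (nat_lit 1) (Steps.fwd (nat_lit 16384) (Steps.fwd (nat_lit 8192) (Steps.fwd (nat_lit 16384) (Steps.fwd (nat_lit 8192) (Steps.fwd (nat_lit 24576) (Steps.fwd (nat_lit 32768) (Steps.bwd (nat_lit 1) (Steps.fwd (nat_lit 24576) Steps.nil))))))))))) (nat_lit 190) (nat_lit 1),
  Rule.mk (nat_lit 18) (nat_lit 179) (Steps.bwd (nat_lit 1) (Steps.fwd (nat_lit 16384) (Steps.fwd (nat_lit 32768) (Steps.fwd (nat_lit 8192) (Steps.bwd (nat_lit 2) (Steps.fwd (nat_lit 8192) (Steps.fwd (nat_lit 24576) (Steps.bwd (nat_lit 1) (Steps.bwd (nat_lit 3) (Steps.fwd (nat_lit 8192) (Steps.bwd (nat_lit 3) Steps.nil))))))))))) (nat_lit 192) (nat_lit 1),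
  Rule.mk (nat_lit 0) (nat_lit 194) (Steps.fwd (nat_lit 8192) (Steps.bwd (nat_lit 3) (Steps.bwd (nat_lit 4) (Steps.fwd (nat_lit 8192) (Steps.fwd (nat_lit 24576) (Steps.fwd (nat_lit 8192) (Steps.fwd (nat_lit 24576) (Steps.fwd (nat_lit 8192) (Steps.bwd (nat_lit 3) (Steps.fwd (nat_lit 8192) (Steps.bwd (nat_lit 3) (Steps.fwd (nat_lit 139264) Steps.nil)))))))))))) (nat_lit 192) (nat_lit 1),
  Rule.mk (nat_lit 17) (nat_lit 179) (Steps.bwd (nat_lit 2) (Steps.bwd (nat_lit 1) (Steps.bwd (nat_lit 2) (Steps.fwd (nat_lit 8192) (Steps.bwd (nat_lit 3) (Steps.bwd (nat_lit 1) (Steps.fwd (nat_lit 16384) (Steps.fwd (nat_lit 8192) (Steps.bwd (nat_lit 4) (Steps.fwd (nat_lit 24576) (Steps.bwd (nat_lit 1) Steps.nil))))))))))) (nat_lit 193) (nat_lit 0),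
  Rule.mk (nat_lit 0) (nat_lit 194) (Steps.bwd (nat_lit 19) (Steps.bwd (nat_lit 3) (Steps.fwd (nat_lit 32768) (Steps.bwd (nat_lit 1) (Steps.bwd (nat_lit 2) (Steps.fwd (nat_lit 8192) (Steps.fwd (nat_lit 24576) (Steps.bwd (nat_lit 1) (Steps.fwd (nat_lit 16384) (Steps.fwd (nat_lit 8192) (Steps.fwd (nat_lit 16384) (Steps.bwd (nat_lit 1) Steps.nil)))))))))))) (nat_lit 195) (nat_lit 11),
  Rule.mk (nat_lit 0) (nat_lit 194) (Steps.bwd (nat_lit 20) (Steps.bwd (nat_lit 1) (Steps.fwd (nat_lit 24576) (Steps.bwd (nat_lit 1) (Steps.fwd (nat_lit 24576) (Steps.bwd (nat_lit 1) (Steps.bwd (nat_lit 3) (Steps.bwd (nat_lit 1) (Steps.bwd (nat_lit 3) (Steps.bwd (nat_lit 1) (Steps.fwd (nat_lit 32768) (Steps.fwd (nat_lit 24576) Steps.nil)))))))))))) (nat_lit 194) (nat_lit 0),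
  Rule.mk (nat_lit 0) (nat_lit 119) (Steps.fwd (nat_lit 8192) (Steps.fwd (nat_lit 90112) (Steps.fwd (nat_lit 8192) (Steps.fwd (nat_lit 114688) (Steps.bwd (nat_lit 12) (Steps.bwd (nat_lit 11) (Steps.bwd (nat_lit 6) Steps.nil))))))) (nat_lit 161) (nat_lit 4),
  Rule.mk (nat_lit 0) (nat_lit 194) (Steps.bwd (nat_lit 3) (Steps.fwd (nat_lit 8192) (Steps.bwd (nat_lit 4) (Steps.fwd (nat_lit 16384) (Steps.fwd (nat_lit 8192) (Steps.bwd (nat_lit 2) (Steps.fwd (nat_lit 8192) (Steps.bwd (nat_lit 2) (Steps.bwd (nat_lit 1) (Steps.fwd (nat_lit 24576) (Steps.bwd (nat_lit 1) (Steps.fwd (nat_lit 131072) Steps.nil)))))))))))) (nat_lit 191) (nat_lit 0),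
  Rule.mk (nat_lit 16) (nat_lit 179) (Steps.fwd (nat_lit 8192) (Steps.bwd (nat_lit 3) (Steps.bwd (nat_lit 1) (Steps.fwd (nat_lit 16384) (Steps.fwd (nat_lit 8192) (Steps.bwd (nat_lit 3) (Steps.fwd (nat_lit 8192) (Steps.fwd (nat_lit 24576) (Steps.bwd (nat_lit 4) (Steps.fwd (nat_lit 8192) (Steps.fwd (nat_lit 24576) Steps.nil))))))))))) (nat_lit 190) (nat_lit 1),
  Rule.mk (nat_lit 0) (nat_lit 194) (Steps.bwd (nat_lit 15) (Steps.bwd (nat_lit 3) (Steps.fwd (nat_lit 8192) (Steps.bwd (nat_lit 4) (Steps.fwd (nat_lit 16384) (Steps.fwd (nat_lit 8192) (Steps.fwd (nat_lit 24576) (Steps.bwd (nat_lit 1) (Steps.fwd (nat_lit 24576) (Steps.fwd (nat_lit 8192) (Steps.bwd (nat_lit 2) (Steps.bwd (nat_lit 1) Steps.nil)))))))))))) (nat_lit 191) (nat_lit 11),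
  Rule.mk (nat_lit 18) (nat_lit 179) (Steps.fwd (nat_lit 8192) (Steps.bwd (nat_lit 3) (Steps.bwd (nat_lit 4) (Steps.fwd (nat_lit 8192) (Steps.fwd (nat_lit 24576) (Steps.bwd (nat_lit 1) (Steps.fwd (nat_lit 24576) (Steps.fwd (nat_lit 8192) (Steps.bwd (nat_lit 3) (Steps.bwd (nat_lit 1) (Steps.fwd (nat_lit 16384) Steps.nil))))))))))) (nat_lit 192) (nat_lit 1),
  Rule.mk (nat_lit 19) (nat_lit 179) (Steps.bwd (nat_lit 3) (Steps.bwd (nat_lit 4) (Steps.fwd (nat_lit 8192) (Steps.fwd (nat_lit 24576) (Steps.bwd (nat_lit 1) (Steps.fwd (nat_lit 24576) (Steps.fwd (nat_lit 8192) (Steps.bwd (nat_lit 3) (Steps.bwd (nat_lit 1) (Steps.fwd (nat_lit 16384) (Steps.bwd (nat_lit 1) Steps.nil))))))))))) (nat_lit 195) (nat_lit 0),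
  Rule.mk (nat_lit 0) (nat_lit 194) (Steps.bwd (nat_lit 15) (Steps.bwd (nat_lit 3) (Steps.bwd (nat_lit 1) (Steps.bwd (nat_lit 4) (Steps.bwd (nat_lit 3) (Steps.fwd (nat_lit 8192) (Steps.bwd (nat_lit 2) (Steps.bwd (nat_lit 1) (Steps.bwd (nat_lit 2) (Steps.bwd (nat_lit 1) (Steps.bwd (nat_lit 2) (Steps.fwd (nat_lit 8192) Steps.nil)))))))))))) (nat_lit 191) (nat_lit 11),
  Rule.mk (nat_lit 0) (nat_lit 194) (Steps.bwd (nat_lit 2) (Steps.bwd (nat_lit 1) (Steps.bwd (nat_lit 2) (Steps.fwd (nat_lit 8192) (Steps.fwd (nat_lit 16384) (Steps.fwd (nat_lit 8192) (Steps.fwd (nat_lit 16384) (Steps.bwd (nat_lit 1) (Steps.fwd (nat_lit 32768) (Steps.fwd (nat_lit 24576) (Steps.fwd (nat_lit 8192) (Steps.fwd (nat_lit 147456) Steps.nil)))))))))))) (nat_lit 193) (nat_lit 0),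
  Rule.mk (nat_lit 20) (nat_lit 179) (Steps.bwd (nat_lit 1) (Steps.fwd (nat_lit 24576) (Steps.bwd (nat_lit 1) (Steps.bwd (nat_lit 2) (Steps.fwd (nat_lit 8192) (Steps.bwd (nat_lit 3) (Steps.fwd (nat_lit 8192) (Steps.fwd (nat_lit 16384) (Steps.bwd (nat_lit 1) (Steps.fwd (nat_lit 32768) (Steps.fwd (nat_lit 24576) Steps.nil))))))))))) (nat_lit 194) (nat_lit 1)]
noncomputable def R_126 : List (Rule) := [Rule.mk (nat_lit 0) (nat_lit 194) (Steps.bwd (nat_lit 20) (Steps.fwd (nat_lit 8192) (Steps.bwd (nat_lit 2) (Steps.bwd (nat_lit 1) (Steps.fwd (nat_lit 24576) (Steps.bwd (nat_lit 1) (Steps.fwd (nat_lit 16384) (Steps.fwd (nat_lit 8192) (Steps.bwd (nat_lit 3) (Steps.fwd (nat_lit 8192) (Steps.fwd (nat_lit 32768) (Steps.fwd (nat_lit 24576) Steps.nil)))))))))))) (nat_lit 194) (nat_lit 0),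
  Rule.mk (nat_lit 0) (nat_lit 194) (Steps.bwd (nat_lit 15) (Steps.bwd (nat_lit 3) (Steps.bwd (nat_lit 1) (Steps.fwd (nat_lit 32768) (Steps.bwd (nat_lit 3) (Steps.fwd (nat_lit 8192) (Steps.fwd (nat_lit 24576) (Steps.bwd (nat_lit 1) (Steps.bwd (nat_lit 2) (Steps.bwd (nat_lit 1) (Steps.bwd (nat_lit 2) (Steps.fwd (nat_lit 8192) Steps.nil)))))))))))) (nat_lit 191) (nat_lit 11),
  Rule.mk (nat_lit 3) (nat_lit 179) (Steps.bwd (nat_lit 18) (Steps.fwd (nat_lit 8192) (Steps.bwd (nat_lit 3) (Steps.fwd (nat_lit 32768) (Steps.bwd (nat_lit 1) (Steps.bwd (nat_lit 2) (Steps.bwd (nat_lit 1) (Steps.fwd (nat_lit 24576) (Steps.bwd (nat_lit 1) (Steps.fwd (nat_lit 16384) (Steps.bwd (nat_lit 1) Steps.nil))))))))))) (nat_lit 192) (nat_lit 0),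
  Rule.mk (nat_lit 5) (nat_lit 104) (Steps.bwd (nat_lit 7) (Steps.fwd (nat_lit 106496) (Steps.fwd (nat_lit 114688) (Steps.fwd (nat_lit 24576) (Steps.bwd (nat_lit 7) (Steps.bwd (nat_lit 3) Steps.nil)))))) (nat_lit 174) (nat_lit 4),
  Rule.mk (nat_lit 19) (nat_lit 179) (Steps.bwd (nat_lit 3) (Steps.bwd (nat_lit 4) (Steps.fwd (nat_lit 8192) (Steps.bwd (nat_lit 2) (Steps.bwd (nat_lit 1) (Steps.bwd (nat_lit 2) (Steps.fwd (nat_lit 8192) (Steps.bwd (nat_lit 3) (Steps.fwd (nat_lit 8192) (Steps.fwd (nat_lit 16384) (Steps.bwd (nat_lit 1) Steps.nil))))))))))) (nat_lit 195) (nat_lit 0),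
  Rule.mk (nat_lit 1) (nat_lit 539) (Steps.bwd (nat_lit 2) (Steps.fwd (nat_lit 8192) (Steps.bwd (nat_lit 2) (Steps.fwd (nat_lit 8192) (Steps.bwd (nat_lit 3) (Steps.fwd (nat_lit 8192) (Steps.fwd (nat_lit 24576) (Steps.fwd (nat_lit 8192) (Steps.fwd (nat_lit 24576) (Steps.fwd (nat_lit 8192) (Steps.bwd (nat_lit 3) (Steps.fwd (nat_lit 8192) (Steps.fwd (nat_lit 24576) (Steps.bwd (nat_lit 1) (Steps.fwd (nat_lit 24576) (Steps.bwd (nat_lit 1) (Steps.fwd (nat_lit 16384) (Steps.bwd (nat_lit 1) (Steps.fwd (nat_lit 24576) (Steps.fwd (nat_lit 8192) (Steps.bwd (nat_lit 3) (Steps.fwd (nat_lit 8192) (Steps.fwd (nat_lit 16384) (Steps.bwd (nat_lit 1) (Steps.fwd (nat_lit 24576) (Steps.bwd (nat_lit 1) (Steps.bwd (nat_lit 3) (Steps.fwd (nat_lit 8192) (Steps.bwd (nat_lit 3) (Steps.bwd (nat_lit 1) (Steps.fwd (nat_lit 24576) (Steps.bwd (nat_lit 1) (Steps.fwd (nat_lit 16384) (Steps.bwd (nat_lit 1) (Steps.bwd (nat_lit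 3) Steps.nil))))))))))))))))))))))))))))))))))) (nat_lit 12) (nat_lit 1),
  Rule.mk (nat_lit 10) (nat_lit 134) (Steps.bwd (nat_lit 1) (Steps.fwd (nat_lit 32768) (Steps.bwd (nat_lit 5) (Steps.bwd (nat_lit 8) (Steps.bwd (nat_lit 9) (Steps.fwd (nat_lit 90112) (Steps.fwd (nat_lit 114688) (Steps.fwd (nat_lit 8192) Steps.nil)))))))) (nat_lit 158) (nat_lit 2),
  Rule.mk (nat_lit 7) (nat_lit 164) (Steps.bwd (nat_lit 1) (Steps.fwd (nat_lit 40960) (Steps.bwd (nat_lit 6) (Steps.bwd (nat_lit 9) (Steps.fwd (nat_lit 81920) (Steps.fwd (nat_lit 90112) (Steps.fwd (nat_lit 98304) (Steps.bwd (nat_lit 13) (Steps.bwd (nat_lit 14) (Steps.bwd (nat_lit 1) Steps.nil)))))))))) (nat_lit 152) (nat_lit 2),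
  Rule.mk (nat_lit 16) (nat_lit 179) (Steps.bwd (nat_lit 1) (Steps.fwd (nat_lit 16384) (Steps.fwd (nat_lit 8192) (Steps.fwd (nat_lit 16384) (Steps.fwd (nat_lit 8192) (Steps.fwd (nat_lit 16384) (Steps.bwd (nat_lit 1) (Steps.bwd (nat_lit 2) (Steps.fwd (nat_lit 32768) (Steps.bwd (nat_lit 1) (Steps.bwd (nat_lit 2) Steps.nil))))))))))) (nat_lit 190) (nat_lit 1),
  Rule.mk (nat_lit 0) (nat_lit 194) (Steps.bwd (nat_lit 16) (Steps.bwd (nat_lit 1) (Steps.fwd (nat_lit 16384) (Steps.bwd (nat_lit 1) (Steps.bwd (nat_lit 3) (Steps.bwd (nat_lit 1) (Steps.fwd (nat_lit 16384) (Steps.fwd (nat_lit 8192) (Steps.bwd (nat_lit 2) (Steps.fwd (nat_lit 32768) (Steps.bwd (nat_lit 1) (Steps.fwd (nat_lit 24576) Steps.nil)))))))))))) (nat_lit 190) (nat_lit 0),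
  Rule.mk (nat_lit 16) (nat_lit 179) (Steps.bwd (nat_lit 1) (Steps.bwd (nat_lit 3) (Steps.bwd (nat_lit 1) (Steps.fwd (nat_lit 16384) (Steps.fwd (nat_lit 8192) (Steps.fwd (nat_lit 16384) (Steps.fwd (nat_lit 8192) (Steps.bwd (nat_lit 2) (Steps.bwd (nat_lit 4) (Steps.bwd (nat_lit 1) (Steps.fwd (nat_lit 24576) Steps.nil))))))))))) (nat_lit 190) (nat_lit 1),
  Rule.mk (nat_lit 15) (nat_lit 179) (Steps.bwd (nat_lit 3) (Steps.fwd (nat_lit 8192) (Steps.bwd (nat_lit 4) (Steps.fwd (nat_lit 16384) (Steps.fwd (nat_lit 8192) (Steps.fwd (nat_lit 24576) (Steps.fwd (nat_lit 8192) (Steps.fwd (nat_lit 24576) (Steps.bwd (nat_lit 1) (Steps.bwd (nat_lit 2) (Steps.fwd (nat_lit 8192) Steps.nil))))))))))) (nat_lit 191) (nat_lit 0),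
  Rule.mk (nat_lit 0) (nat_lit 194) (Steps.bwd (nat_lit 15) (Steps.fwd (nat_lit 16384) (Steps.bwd (nat_lit 1) (Steps.bwd (nat_lit 4) (Steps.fwd (nat_lit 16384) (Steps.fwd (nat_lit 8192) (Steps.fwd (nat_lit 24576) (Steps.bwd (nat_lit 1) (Steps.bwd (nat_lit 2) (Steps.fwd (nat_lit 8192) (Steps.bwd (nat_lit 2) (Steps.fwd (nat_lit 8192) Steps.nil)))))))))))) (nat_lit 191) (nat_lit 11),
  Rule.mk (nat_lit 15) (nat_lit 179) (Steps.fwd (nat_lit 16384) (Steps.fwd (nat_lit 8192) (Steps.fwd (nat_lit 32768) (Steps.bwd (nat_lit 3) (Steps.bwd (nat_lit 1) (Steps.bwd (nat_lit 2) (Steps.fwd (nat_lit 8192) (Steps.bwd (nat_lit 2) (Steps.fwd (nat_lit 8192) (Steps.bwd (nat_lit 2) (Steps.fwd (nat_lit 8192) Steps.nil))))))))))) (nat_lit 191) (nat_lit 0),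
  Rule.mk (nat_lit 15) (nat_lit 179) (Steps.bwd (nat_lit 3) (Steps.bwd (nat_lit 1) (Steps.fwd (nat_lit 32768) (Steps.fwd (nat_lit 16384) (Steps.fwd (nat_lit 8192) (Steps.fwd (nat_lit 24576) (Steps.fwd (nat_lit 8192) (Steps.bwd (nat_lit 2) (Steps.fwd (nat_lit 8192) (Steps.fwd (nat_lit 24576) (Steps.bwd (nat_lit 1) Steps.nil))))))))))) (nat_lit 191) (nat_lit 0),
  Rule.mk (nat_lit 0) (nat_lit 194) (Steps.bwd (nat_lit 18) (Steps.bwd (nat_lit 1) (Steps.fwd (nat_lit 16384) (Steps.fwd (nat_lit 32768) (Steps.fwd (nat_lit 8192) (Steps.fwd (nat_lit 24576) (Steps.fwd (nat_lit 8192) (Steps.bwd (nat_lit 2) (Steps.bwd (nat_lit 1) (Steps.bwd (nat_lit 3) (Steps.bwd (nat_lit 1) (Steps.fwd (nat_lit 16384) Steps.nil)))))))))))) (nat_lit 192) (nat_lit 0),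
  Rule.mk (nat_lit 0) (nat_lit 194) (Steps.bwd (nat_lit 2) (Steps.bwd (nat_lit 1) (Steps.bwd (nat_lit 2) (Steps.fwd (nat_lit 8192) (Steps.bwd (nat_lit 3) (Steps.bwd (nat_lit 1) (Steps.bwd (nat_lit 3) (Steps.bwd (nat_lit 1) (Steps.bwd (nat_lit 4) (Steps.bwd (nat_lit 2) (Steps.bwd (nat_lit 1) (Steps.fwd (nat_lit 147456) Steps.nil)))))))))))) (nat_lit 193) (nat_lit 0),
  Rule.mk (nat_lit 0) (nat_lit 194) (Steps.bwd (nat_lit 17) (Steps.bwd (nat_lit 2) (Steps.bwd (nat_lit 1) (Steps.fwd (nat_lit 24576) (Steps.bwd (nat_lit 1) (Steps.fwd (nat_lit 16384) (Steps.fwd (nat_lit 8192) (Steps.bwd (nat_lit 3) (Steps.bwd (nat_lit 1) (Steps.bwd (nat_lit 4) (Steps.fwd (nat_lit 24576) (Steps.fwd (nat_lit 8192) Steps.nil)))))))))))) (nat_lit 193) (nat_lit 11),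
  Rule.mk (nat_lit 0) (nat_lit 194) (Steps.fwd (nat_lit 8192) (Steps.bwd (nat_lit 3) (Steps.fwd (nat_lit 32768) (Steps.bwd (nat_lit 1) (Steps.bwd (nat_lit 2) (Steps.fwd (nat_lit 8192) (Steps.bwd (nat_lit 2) (Steps.fwd (nat_lit 8192) (Steps.bwd (nat_lit 3) (Steps.fwd (nat_lit 8192) (Steps.bwd (nat_lit 3) (Steps.fwd (nat_lit 139264) Steps.nil)))))))))))) (nat_lit 192) (nat_lit 1),
  Rule.mk (nat_lit 18) (nat_lit 179) (Steps.bwd (nat_lit 1) (Steps.fwd (nat_lit 16384) (Steps.fwd (nat_lit 32768) (Steps.fwd (nat_lit 8192) (Steps.fwd (nat_lit 24576) (Steps.fwd (nat_lit 8192) (Steps.bwd (nat_lit 2) (Steps.fwd (nat_lit 8192) (Steps.bwd (nat_lit 3) (Steps.bwd (nat_lit 1) (Steps.bwd (nat_lit 3) Steps.nil))))))))))) (nat_lit 192) (nat_lit 1),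
  Rule.mk (nat_lit 17) (nat_lit 179) (Steps.bwd (nat_lit 2) (Steps.bwd (nat_lit 1) (Steps.fwd (nat_lit 24576) (Steps.bwd (nat_lit 1) (Steps.fwd (nat_lit 16384) (Steps.bwd (nat_lit 1) (Steps.bwd (nat_lit 3) (Steps.bwd (nat_lit 1) (Steps.fwd (nat_lit 32768) (Steps.bwd (nat_lit 2) (Steps.fwd (nat_lit 8192) Steps.nil))))))))))) (nat_lit 193) (nat_lit 0),
  Rule.mk (nat_lit 17) (nat_lit 179) (Steps.fwd (nat_lit 24576) (Steps.fwd (nat_lit 8192) (Steps.bwd (nat_lit 2) (Steps.bwd (nat_lit 1) (Steps.bwd (nat_lit 3) (Steps.bwd (nat_lit 1) (Steps.fwd (nat_lit 16384) (Steps.fwd (nat_lit 8192) (Steps.fwd (nat_lit 32768) (Steps.fwd (nat_lit 24576) (Steps.bwd (nat_lit 1) Steps.nil))))))))))) (nat_lit 193) (nat_lit 0),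
  Rule.mk (nat_lit 17) (nat_lit 179) (Steps.fwd (nat_lit 24576) (Steps.fwd (nat_lit 8192) (Steps.fwd (nat_lit 24576) (Steps.bwd (nat_lit 1) (Steps.fwd (nat_lit 16384) (Steps.fwd (nat_lit 8192) (Steps.bwd (nat_lit 3) (Steps.fwd (nat_lit 8192) (Steps.fwd (nat_lit 32768) (Steps.fwd (nat_lit 24576) (Steps.bwd (nat_lit 1) Steps.nil))))))))))) (nat_lit 193) (nat_lit 0),
  Rule.mk (nat_lit 20) (nat_lit 179) (Steps.bwd (nat_lit 1) (Steps.bwd (nat_lit 2) (Steps.bwd (nat_lit 1) (Steps.fwd (nat_lit 24576) (Steps.bwd (nat_lit 1) (Steps.fwd (nat_lit 16384) (Steps.bwd (nat_lit 1) (Steps.bwd (nat_lit 3) (Steps.bwd (nat_lit 1) (Steps.fwd (nat_lit 32768) (Steps.bwd (nat_lit 2) Steps.nil))))))))))) (nat_lit 194) (nat_lit 1),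
  Rule.mk (nat_lit 0) (nat_lit 194) (Steps.bwd (nat_lit 20) (Steps.fwd (nat_lit 8192) (Steps.fwd (nat_lit 24576) (Steps.fwd (nat_lit 8192) (Steps.bwd (nat_lit 2) (Steps.bwd (nat_lit 1) (Steps.bwd (nat_lit 3) (Steps.bwd (nat_lit 1) (Steps.fwd (nat_lit 16384) (Steps.fwd (nat_lit 8192) (Steps.fwd (nat_lit 32768) (Steps.fwd (nat_lit 24576) Steps.nil)))))))))))) (nat_lit 194) (nat_lit 0),
  Rule.mk (nat_lit 20) (nat_lit 179) (Steps.fwd (nat_lit 8192) (Steps.fwd (nat_lit 24576) (Steps.fwd (nat_lit 8192) (Steps.fwd (nat_lit 24576) (Steps.bwd (nat_lit 1) (Steps.fwd (nat_lit 16384) (Steps.fwd (nat_lit 8192) (Steps.bwd (nat_lit 3) (Steps.fwd (nat_lit 8192) (Steps.fwd (nat_lit 32768) (Steps.fwd (nat_lit 24576) Steps.nil))))))))))) (nat_lit 194) (nat_lit 1),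
  Rule.mk (nat_lit 0) (nat_lit 194) (Steps.bwd (nat_lit 19) (Steps.bwd (nat_lit 3) (Steps.bwd (nat_lit 4) (Steps.bwd (nat_lit 1) (Steps.bwd (nat_lit 2) (Steps.bwd (nat_lit 1) (Steps.fwd (nat_lit 24576) (Steps.bwd (nat_lit 1) (Steps.fwd (nat_lit 16384) (Steps.fwd (nat_lit 8192) (Steps.bwd (nat_lit 3) (Steps.bwd (nat_lit 1) Steps.nil)))))))))))) (nat_lit 195) (nat_lit 11),
  Rule.mk (nat_lit 20) (nat_lit 179) (Steps.bwd (nat_lit 1) (Steps.bwd (nat_lit 2) (Steps.fwd (nat_lit 8192) (Steps.bwd (nat_lit 2) (Steps.fwd (nat_lit 8192) (Steps.bwd (nat_lit 3) (Steps.fwd (nat_lit 8192) (Steps.bwd (nat_lit 3) (Steps.fwd (nat_lit 8192) (Steps.fwd (nat_lit 32768) (Steps.bwd (nat_lit 2) Steps.nil))))))))))) (nat_lit 194) (nat_lit 1),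
  Rule.mk (nat_lit 19) (nat_lit 179) (Steps.bwd (nat_lit 3) (Steps.fwd (nat_lit 32768) (Steps.bwd (nat_lit 1) (Steps.bwd (nat_lit 2) (Steps.bwd (nat_lit 1) (Steps.fwd (nat_lit 24576) (Steps.bwd (nat_lit 1) (Steps.fwd (nat_lit 16384) (Steps.bwd (nat_lit 1) (Steps.bwd (nat_lit 3) (Steps.bwd (nat_lit 1) Steps.nil))))))))))) (nat_lit 195) (nat_lit 0),
  Rule.mk (nat_lit 0) (nat_lit 194) (Steps.bwd (nat_lit 1) (Steps.bwd (nat_lit 2) (Steps.fwd (nat_lit 8192) (Steps.fwd (nat_lit 24576) (Steps.fwd (nat_lit 8192) (Steps.fwd (nat_lit 16384) (Steps.bwd (nat_lit 1) (Steps.bwd (nat_lit 3) (Steps.bwd (nat_lit 1) (Steps.bwd (nat_lit 4) (Steps.bwd (nat_lit 2) (Steps.fwd (nat_lit 155648) Steps.nil)))))))))))) (nat_lit 194) (nat_lit 1),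
  Rule.mk (nat_lit 19) (nat_lit 179) (Steps.fwd (nat_lit 16384) (Steps.fwd (nat_lit 32768) (Steps.fwd (nat_lit 8192) (Steps.fwd (nat_lit 24576) (Steps.fwd (nat_lit 8192) (Steps.fwd (nat_lit 24576) (Steps.bwd (nat_lit 1) (Steps.fwd (nat_lit 16384) (Steps.bwd (nat_lit 1) (Steps.fwd (nat_lit 16384) (Steps.fwd (nat_lit 8192) Steps.nil))))))))))) (nat_lit 195) (nat_lit 0),
  Rule.mk (nat_lit 0) (nat_lit 194) (Steps.bwd (nat_lit 20) (Steps.bwd (nat_lit 1) (Steps.bwd (nat_lit 2) (Steps.bwd (nat_lit 1) (Steps.fwd (nat_lit 24576) (Steps.bwd (nat_lit 1) (Steps.fwd (nat_lit 16384) (Steps.fwd (nat_lit 8192) (Steps.bwd (nat_lit 3) (Steps.bwd (nat_lit 1) (Steps.bwd (nat_lit 4) (Steps.fwd (nat_lit 24576) Steps.nil)))))))))))) (nat_lit 194) (nat_lit 0),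
  Rule.mk (nat_lit 19) (nat_lit 179) (Steps.bwd (nat_lit 3) (Steps.fwd (nat_lit 32768) (Steps.bwd (nat_lit 1) (Steps.bwd (nat_lit 2) (Steps.fwd (nat_lit 8192) (Steps.bwd (nat_lit 2) (Steps.fwd (nat_lit 8192) (Steps.bwd (nat_lit 3) (Steps.fwd (nat_lit 8192) (Steps.bwd (nat_lit 3) (Steps.fwd (nat_lit 8192) Steps.nil))))))))))) (nat_lit 195) (nat_lit 0),
  Rule.mk (nat_lit 16) (nat_lit 179) (Steps.fwd (nat_lit 8192) (Steps.bwd (nat_lit 3) (Steps.bwd (nat_lit 1) (Steps.bwd (nat_lit 3) (Steps.fwd (nat_lit 8192) (Steps.fwd (nat_lit 16384) (Steps.fwd (nat_lit 8192) (Steps.fwd (nat_lit 24576) (Steps.bwd (nat_lit 4) (Steps.fwd (nat_lit 8192) (Steps.bwd (nat_lit 2) Steps.nil))))))))))) (nat_lit 190) (nat_lit 1),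
  Rule.mk (nat_lit 15) (nat_lit 179) (Steps.bwd (nat_lit 3) (Steps.bwd (nat_lit 1) (Steps.bwd (nat_lit 4) (Steps.fwd (nat_lit 16384) (Steps.fwd (nat_lit 8192) (Steps.bwd (nat_lit 2) (Steps.fwd (nat_lit 8192) (Steps.bwd (nat_lit 2) (Steps.fwd (nat_lit 8192) (Steps.fwd (nat_lit 24576) (Steps.fwd (nat_lit 8192) Steps.nil))))))))))) (nat_lit 191) (nat_lit 0),
  Rule.mk (nat_lit 3) (nat_lit 104) (Steps.bwd (nat_lit 9) (Steps.bwd (nat_lit 8) (Steps.bwd (nat_lit 5) (Steps.bwd (nat_lit 4) (Steps.fwd (nat_lit 24576) (Steps.bwd (nat_lit 12) Steps.nil)))))) (nat_lit 185) (nat_lit 0),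
  Rule.mk (nat_lit 2) (nat_lit 134) (Steps.bwd (nat_lit 9) (Steps.bwd (nat_lit 3) (Steps.bwd (nat_lit 4) (Steps.fwd (nat_lit 40960) (Steps.fwd (nat_lit 65536) (Steps.bwd (nat_lit 9) (Steps.bwd (nat_lit 11) (Steps.bwd (nat_lit 14) Steps.nil)))))))) (nat_lit 178) (nat_lit 1),
  Rule.mk (nat_lit 0) (nat_lit 194) (Steps.bwd (nat_lit 15) (Steps.fwd (nat_lit 16384) (Steps.bwd (nat_lit 1) (Steps.bwd (nat_lit 4) (Steps.fwd (nat_lit 16384) (Steps.bwd (nat_lit 1) (Steps.fwd (nat_lit 24576) (Steps.fwd (nat_lit 8192) (Steps.bwd (nat_lit 2) (Steps.bwd (nat_lit 1) (Steps.fwd (nat_lit 24576) (Steps.fwd (nat_lit 8192) Steps.nil)))))))))))) (nat_lit 191) (nat_lit 11),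
  Rule.mk (nat_lit 0) (nat_lit 194) (Steps.bwd (nat_lit 15) (Steps.fwd (nat_lit 16384) (Steps.fwd (nat_lit 8192) (Steps.bwd (nat_lit 4) (Steps.fwd (nat_lit 16384) (Steps.bwd (nat_lit 1) (Steps.bwd (nat_lit 2) (Steps.fwd (nat_lit 8192) (Steps.fwd (nat_lit 24576) (Steps.fwd (nat_lit 8192) (Steps.bwd (nat_lit 2) (Steps.fwd (nat_lit 8192) Steps.nil)))))))))))) (nat_lit 191) (nat_lit 11),
  Rule.mk (nat_lit 0) (nat_lit 194) (Steps.bwd (nat_lit 15) (Steps.fwd (nat_lit 16384) (Steps.fwd (nat_lit 8192) (Steps.bwd (nat_lit 4) (Steps.fwd (nat_lit 16384) (Steps.fwd (nat_lit 8192) (Steps.fwd (nat_lit 24576) (Steps.fwd (nat_lit 8192) (Steps.bwd (nat_lit 2) (Steps.fwd (nat_lit 8192) (Steps.fwd (nat_lit 24576) (Steps.fwd (nat_lit 8192) Steps.nil)))))))))))) (nat_lit 191) (nat_lit 11),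
  Rule.mk (nat_lit 0) (nat_lit 194) (Steps.bwd (nat_lit 15) (Steps.fwd (nat_lit 16384) (Steps.bwd (nat_lit 1) (Steps.fwd (nat_lit 32768) (Steps.bwd (nat_lit 3) (Steps.fwd (nat_lit 8192) (Steps.bwd (nat_lit 2) (Steps.fwd (nat_lit 8192) (Steps.fwd (nat_lit 24576) (Steps.fwd (nat_lit 8192) (Steps.bwd (nat_lit 2) (Steps.bwd (nat_lit 1) Steps.nil)))))))))))) (nat_lit 191) (nat_lit 11),
  Rule.mk (nat_lit 0) (nat_lit 194) (Steps.bwd (nat_lit 18) (Steps.fwd (nat_lit 8192) (Steps.fwd (nat_lit 16384) (Steps.bwd (nat_lit 4) (Steps.fwd (nat_lit 8192) (Steps.fwd (nat_lit 24576) (Steps.fwd (nat_lit 8192) (Steps.bwd (nat_lit 2) (Steps.fwd (nat_lit 8192) (Steps.fwd (nat_lit 16384) (Steps.fwd (nat_lit 8192) (Steps.bwd (nat_lit 3) Steps.nil)))))))))))) (nat_lit 192) (nat_lit 0),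
  Rule.mk (nat_lit 0) (nat_lit 194) (Steps.bwd (nat_lit 18) (Steps.bwd (nat_lit 1) (Steps.fwd (nat_lit 16384) (Steps.fwd (nat_lit 32768) (Steps.fwd (nat_lit 8192) (Steps.bwd (nat_lit 2) (Steps.fwd (nat_lit 8192) (Steps.fwd (nat_lit 24576) (Steps.fwd (nat_lit 8192) (Steps.fwd (nat_lit 16384) (Steps.bwd (nat_lit 1) (Steps.fwd (nat_lit 16384) Steps.nil)))))))))))) (nat_lit 192) (nat_lit 0),
  Rule.mk (nat_lit 17) (nat_lit 179) (Steps.fwd (nat_lit 24576) (Steps.fwd (nat_lit 8192) (Steps.bwd (nat_lit 2) (Steps.fwd (nat_lit 8192) (Steps.fwd (nat_lit 16384) (Steps.fwd (nat_lit 8192) (Steps.bwd (nat_lit 3) (Steps.fwd (nat_lit 8192) (Steps.bwd (nat_lit 4) (Steps.fwd (nat_lit 24576) (Steps.fwd (nat_lit 8192) Steps.nil))))))))))) (nat_lit 193) (nat_lit 0),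
  Rule.mk (nat_lit 0) (nat_lit 194) (Steps.bwd (nat_lit 18) (Steps.fwd (nat_lit 8192) (Steps.bwd (nat_lit 3) (Steps.fwd (nat_lit 32768) (Steps.bwd (nat_lit 1) (Steps.bwd (nat_lit 2) (Steps.fwd (nat_lit 8192) (Steps.bwd (nat_lit 2) (Steps.bwd (nat_lit 1) (Steps.bwd (nat_lit 3) (Steps.bwd (nat_lit 1) (Steps.fwd (nat_lit 16384) Steps.nil)))))))))))) (nat_lit 192) (nat_lit 0),
  Rule.mk (nat_lit 20) (nat_lit 179) (Steps.fwd (nat_lit 8192) (Steps.fwd (nat_lit 24576) (Steps.fwd (nat_lit 8192) (Steps.bwd (nat_lit 2) (Steps.fwd (nat_lit 8192) (Steps.fwd (nat_lit 16384) (Steps.fwd (nat_lit 8192) (Steps.bwd (nat_lit 3) (Steps.fwd (nat_lit 8192) (Steps.bwd (nat_lit 4) (Steps.fwd (nat_lit 24576) Steps.nil))))))))))) (nat_lit 194) (nat_lit 1),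
  Rule.mk (nat_lit 0) (nat_lit 194) (Steps.bwd (nat_lit 20) (Steps.fwd (nat_lit 8192) (Steps.bwd (nat_lit 2) (Steps.fwd (nat_lit 8192) (Steps.fwd (nat_lit 24576) (Steps.fwd (nat_lit 8192) (Steps.fwd (nat_lit 16384) (Steps.bwd (nat_lit 1) (Steps.fwd (nat_lit 16384) (Steps.fwd (nat_lit 8192) (Steps.bwd (nat_lit 4) (Steps.fwd (nat_lit 24576) Steps.nil)))))))))))) (nat_lit 194) (nat_lit 0),
  Rule.mk (nat_lit 0) (nat_lit 194) (Steps.bwd (nat_lit 19) (Steps.fwd (nat_lit 16384) (Steps.bwd (nat_lit 4) (Steps.fwd (nat_lit 8192) (Steps.fwd (nat_lit 24576) (Steps.fwd (nat_lit 8192) (Steps.bwd (nat_lit 2) (Steps.fwd (nat_lit 8192) (Steps.fwd (nat_lit 16384) (Steps.fwd (nat_lit 8192) (Steps.bwd (nat_lit 3) (Steps.fwd (nat_lit 8192) Steps.nil)))))))))))) (nat_lit 195) (nat_lit 11),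
  Rule.mk (nat_lit 19) (nat_lit 179) (Steps.fwd (nat_lit 16384) (Steps.fwd (nat_lit 32768) (Steps.fwd (nat_lit 8192) (Steps.bwd (nat_lit 2) (Steps.fwd (nat_lit 8192) (Steps.fwd (nat_lit 24576) (Steps.fwd (nat_lit 8192) (Steps.fwd (nat_lit 16384) (Steps.bwd (nat_lit 1) (Steps.fwd (nat_lit 16384) (Steps.fwd (nat_lit 8192) Steps.nil))))))))))) (nat_lit 195) (nat_lit 0),
  Rule.mk (nat_lit 0) (nat_lit 194) (Steps.bwd (nat_lit 16) (Steps.fwd (nat_lit 8192) (Steps.fwd (nat_lit 16384) (Steps.fwd (nat_lit 8192) (Steps.fwd (nat_lit 16384) (Steps.bwd (nat_lit 1) (Steps.bwd (nat_lit 3) (Steps.fwd (nat_lit 8192) (Steps.fwd (nat_lit 24576) (Steps.fwd (nat_lit 32768) (Steps.fwd (nat_lit 8192) (Steps.fwd (nat_lit 24576) Steps.nil)))))))))))) (nat_lit 190) (nat_lit 0),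
  Rule.mk (nat_lit 0) (nat_lit 194) (Steps.bwd (nat_lit 3) (Steps.bwd (nat_lit 1) (Steps.bwd (nat_lit 4) (Steps.fwd (nat_lit 16384) (Steps.bwd (nat_lit 1) (Steps.bwd (nat_lit 2) (Steps.bwd (nat_lit 1) (Steps.fwd (nat_lit 24576) (Steps.fwd (nat_lit 8192) (Steps.bwd (nat_lit 2) (Steps.bwd (nat_lit 1) (Steps.fwd (nat_lit 131072) Steps.nil)))))))))))) (nat_lit 191) (nat_lit 0),
  Rule.mk (nat_lit 16) (nat_lit 179) (Steps.bwd (nat_lit 1) (Steps.bwd (nat_lit 3) (Steps.fwd (nat_lit 8192) (Steps.fwd (nat_lit 16384) (Steps.fwd (nat_lit 8192) (Steps.bwd (nat_lit 3) (Steps.fwd (nat_lit 8192) (Steps.bwd (nat_lit 2) (Steps.fwd (nat_lit 32768) (Steps.fwd (nat_lit 8192) (Steps.bwd (nat_lit 2) Steps.nil))))))))))) (nat_lit 190) (nat_lit 1),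
  Rule.mk (nat_lit 15) (nat_lit 179) (Steps.bwd (nat_lit 3) (Steps.fwd (nat_lit 8192) (Steps.fwd (nat_lit 32768) (Steps.bwd (nat_lit 3) (Steps.bwd (nat_lit 1) (Steps.fwd (nat_lit 24576) (Steps.bwd (nat_lit 1) (Steps.fwd (nat_lit 24576) (Steps.fwd (nat_lit 8192) (Steps.bwd (nat_lit 2) (Steps.bwd (nat_lit 1) Steps.nil))))))))))) (nat_lit 191) (nat_lit 0),
  Rule.mk (nat_lit 18) (nat_lit 179) (Steps.bwd (nat_lit 1) (Steps.fwd (nat_lit 16384) (Steps.fwd (nat_lit 32768) (Steps.fwd (nat_lit 8192) (Steps.bwd (nat_lit 2) (Steps.fwd (nat_lit 8192) (Steps.fwd (nat_lit 24576) (Steps.fwd (nat_lit 8192) (Steps.fwd (nat_lit 16384) (Steps.bwd (nat_lit 1) (Steps.bwd (nat_lit 3) Steps.nil))))))))))) (nat_lit 192) (nat_lit 1),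
  Rule.mk (nat_lit 18) (nat_lit 179) (Steps.fwd (nat_lit 8192) (Steps.fwd (nat_lit 16384) (Steps.bwd (nat_lit 4) (Steps.fwd (nat_lit 8192) (Steps.bwd (nat_lit 2) (Steps.fwd (nat_lit 8192) (Steps.bwd (nat_lit 2) (Steps.bwd (nat_lit 1) (Steps.bwd (nat_lit 3) (Steps.fwd (nat_lit 8192) (Steps.fwd (nat_lit 16384) Steps.nil))))))))))) (nat_lit 192) (nat_lit 1),
  Rule.mk (nat_lit 17) (nat_lit 179) (Steps.bwd (nat_lit 2) (Steps.fwd (nat_lit 8192) (Steps.fwd (nat_lit 24576) (Steps.fwd (nat_lit 8192) (Steps.fwd (nat_lit 16384) (Steps.bwd (nat_lit 1) (Steps.bwd (nat_lit 3) (Steps.fwd (nat_lit 8192) (Steps.fwd (nat_lit 32768) (Steps.fwd (nat_lit 24576) (Steps.fwd (nat_lit 8192) Steps.nil))))))))))) (nat_lit 193) (nat_lit 0),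
  Rule.mk (nat_lit 17) (nat_lit 179) (Steps.bwd (nat_lit 2) (Steps.fwd (nat_lit 8192) (Steps.bwd (nat_lit 2) (Steps.bwd (nat_lit 1) (Steps.bwd (nat_lit 3) (Steps.fwd (nat_lit 8192) (Steps.fwd (nat_lit 16384) (Steps.fwd (nat_lit 8192) (Steps.fwd (nat_lit 32768) (Steps.fwd (nat_lit 24576) (Steps.fwd (nat_lit 8192) Steps.nil))))))))))) (nat_lit 193) (nat_lit 0),
  Rule.mk (nat_lit 0) (nat_lit 194) (Steps.bwd (nat_lit 20) (Steps.fwd (nat_lit 8192) (Steps.bwd (nat_lit 2) (Steps.fwd (nat_lit 8192) (Steps.fwd (nat_lit 24576) (Steps.fwd (nat_lit 8192) (Steps.fwd (nat_lit 16384) (Steps.bwd (nat_lit 1) (Steps.bwd (nat_lit 3) (Steps.fwd (nat_lit 8192) (Steps.fwd (nat_lit 32768) (Steps.fwd (nat_lit 24576) Steps.nil)))))))))))) (nat_lit 194) (nat_lit 0),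
  Rule.mk (nat_lit 20) (nat_lit 179) (Steps.fwd (nat_lit 8192) (Steps.bwd (nat_lit 2) (Steps.fwd (nat_lit 8192) (Steps.bwd (nat_lit 2) (Steps.bwd (nat_lit 1) (Steps.bwd (nat_lit 3) (Steps.fwd (nat_lit 8192) (Steps.fwd (nat_lit 16384) (Steps.fwd (nat_lit 8192) (Steps.fwd (nat_lit 32768) (Steps.fwd (nat_lit 24576) Steps.nil))))))))))) (nat_lit 194) (nat_lit 1),
  Rule.mk (nat_lit 19) (nat_lit 179) (Steps.fwd (nat_lit 16384) (Steps.fwd (nat_lit 32768) (Steps.fwd (nat_lit 8192) (Steps.bwd (nat_lit 2) (Steps.fwd (nat_lit 8192) (Steps.fwd (nat_lit 24576) (Steps.fwd (nat_lit 8192) (Steps.fwd (nat_lit 16384) (Steps.bwd (nat_lit 1) (Steps.bwd (nat_lit 3) (Steps.fwd (nat_lit 8192) Steps.nil))))))))))) (nat_lit 195) (nat_lit 0),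
  Rule.mk (nat_lit 19) (nat_lit 179) (Steps.bwd (nat_lit 3) (Steps.fwd (nat_lit 32768) (Steps.fwd (nat_lit 8192) (Steps.bwd (nat_lit 2) (Steps.fwd (nat_lit 8192) (Steps.bwd (nat_lit 2) (Steps.bwd (nat_lit 1) (Steps.fwd (nat_lit 16384) (Steps.bwd (nat_lit 1) (Steps.fwd (nat_lit 16384) (Steps.bwd (nat_lit 1) Steps.nil))))))))))) (nat_lit 195) (nat_lit 0),
  Rule.mk (nat_lit 0) (nat_lit 194) (Steps.bwd (nat_lit 15) (Steps.bwd (nat_lit 3) (Steps.bwd (nat_lit 1) (Steps.fwd (nat_lit 32768) (Steps.bwd (nat_lit 3) (Steps.fwd (nat_lit 8192) (Steps.fwd (nat_lit 24576) (Steps.bwd (nat_lit 1) (Steps.bwd (nat_lit 2) (Steps.fwd (nat_lit 8192) (Steps.bwd (nat_lit 2) (Steps.fwd (nat_lit 8192) Steps.nil)))))))))))) (nat_lit 191) (nat_lit 11),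
  Rule.mk (nat_lit 19) (nat_lit 179) (Steps.fwd (nat_lit 16384) (Steps.bwd (nat_lit 4) (Steps.bwd (nat_lit 1) (Steps.fwd (nat_lit 24576) (Steps.fwd (nat_lit 8192) (Steps.fwd (nat_lit 24576) (Steps.fwd (nat_lit 8192) (Steps.fwd (nat_lit 16384) (Steps.bwd (nat_lit 1) (Steps.bwd (nat_lit 3) (Steps.bwd (nat_lit 1) Steps.nil))))))))))) (nat_lit 195) (nat_lit 0),
  Rule.mk (nat_lit 1) (nat_lit 104) (Steps.bwd (nat_lit 11) (Steps.bwd (nat_lit 1) (Steps.fwd (nat_lit 49152) (Steps.fwd (nat_lit 90112) (Steps.fwd (nat_lit 98304) (Steps.fwd (nat_lit 114688) Steps.nil)))))) (nat_lit 160) (nat_lit 1)]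
noncomputable def R_127 : List (Rule) := [Rule.mk (nat_lit 2) (nat_lit 164) (Steps.bwd (nat_lit 11) (Steps.bwd (nat_lit 3) (Steps.bwd (nat_lit 4) (Steps.bwd (nat_lit 5) (Steps.bwd (nat_lit 8) (Steps.bwd (nat_lit 9) (Steps.bwd (nat_lit 10) (Steps.fwd (nat_lit 90112) (Steps.bwd (nat_lit 12) (Steps.fwd (nat_lit 114688) Steps.nil)))))))))) (nat_lit 182) (nat_lit 1),
  Rule.mk (nat_lit 0) (nat_lit 194) (Steps.bwd (nat_lit 15) (Steps.fwd (nat_lit 16384) (Steps.bwd (nat_lit 1) (Steps.bwd (nat_lit 4) (Steps.fwd (nat_lit 16384) (Steps.bwd (nat_lit 1) (Steps.bwd (nat_lit 2) (Steps.fwd (nat_lit 8192) (Steps.fwd (nat_lit 24576) (Steps.bwd (nat_lit 1) (Steps.fwd (nat_lit 24576) (Steps.fwd (nat_lit 8192) Steps.nil)))))))))))) (nat_lit 191) (nat_lit 11),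
  Rule.mk (nat_lit 15) (nat_lit 179) (Steps.fwd (nat_lit 16384) (Steps.bwd (nat_lit 1) (Steps.fwd (nat_lit 32768) (Steps.bwd (nat_lit 3) (Steps.fwd (nat_lit 8192) (Steps.fwd (nat_lit 24576) (Steps.bwd (nat_lit 1) (Steps.bwd (nat_lit 2) (Steps.fwd (nat_lit 8192) (Steps.bwd (nat_lit 2) (Steps.fwd (nat_lit 8192) Steps.nil))))))))))) (nat_lit 191) (nat_lit 0),
  Rule.mk (nat_lit 0) (nat_lit 194) (Steps.bwd (nat_lit 15) (Steps.bwd (nat_lit 3) (Steps.bwd (nat_lit 1) (Steps.bwd (nat_lit 4) (Steps.bwd (nat_lit 3) (Steps.bwd (nat_lit 1) (Steps.bwd (nat_lit 2) (Steps.fwd (nat_lit 8192) (Steps.bwd (nat_lit 2) (Steps.fwd (nat_lit 8192) (Steps.fwd (nat_lit 24576) (Steps.bwd (nat_lit 1) Steps.nil)))))))))))) (nat_lit 191) (nat_lit 11),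
  Rule.mk (nat_lit 15) (nat_lit 179) (Steps.bwd (nat_lit 3) (Steps.fwd (nat_lit 8192) (Steps.fwd (nat_lit 32768) (Steps.fwd (nat_lit 16384) (Steps.fwd (nat_lit 8192) (Steps.bwd (nat_lit 2) (Steps.fwd (nat_lit 8192) (Steps.fwd (nat_lit 24576) (Steps.bwd (nat_lit 1) (Steps.fwd (nat_lit 24576) (Steps.bwd (nat_lit 1) Steps.nil))))))))))) (nat_lit 191) (nat_lit 0),
  Rule.mk (nat_lit 18) (nat_lit 179) (Steps.bwd (nat_lit 1) (Steps.bwd (nat_lit 3) (Steps.bwd (nat_lit 4) (Steps.bwd (nat_lit 1) (Steps.bwd (nat_lit 2) (Steps.fwd (nat_lit 8192) (Steps.bwd (nat_lit 2) (Steps.fwd (nat_lit 8192) (Steps.bwd (nat_lit 3) (Steps.bwd (nat_lit 1) (Steps.bwd (nat_lit 3) Steps.nil))))))))))) (nat_lit 192) (nat_lit 1),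
  Rule.mk (nat_lit 0) (nat_lit 194) (Steps.bwd (nat_lit 17) (Steps.fwd (nat_lit 24576) (Steps.bwd (nat_lit 1) (Steps.fwd (nat_lit 24576) (Steps.fwd (nat_lit 8192) (Steps.bwd (nat_lit 3) (Steps.bwd (nat_lit 1) (Steps.fwd (nat_lit 16384) (Steps.bwd (nat_lit 1) (Steps.fwd (nat_lit 32768) (Steps.fwd (nat_lit 24576) (Steps.bwd (nat_lit 1) Steps.nil)))))))))))) (nat_lit 193) (nat_lit 11),
  Rule.mk (nat_lit 0) (nat_lit 194) (Steps.bwd (nat_lit 18) (Steps.bwd (nat_lit 1) (Steps.fwd (nat_lit 16384) (Steps.bwd (nat_lit 4) (Steps.fwd (nat_lit 8192) (Steps.fwd (nat_lit 24576) (Steps.bwd (nat_lit 1) (Steps.fwd (nat_lit 24576) (Steps.fwd (nat_lit 8192) (Steps.bwd (nat_lit 3) (Steps.bwd (nat_lit 1) (Steps.fwd (nat_lit 16384) Steps.nil)))))))))))) (nat_lit 192) (nat_lit 0),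
  Rule.mk (nat_lit 20) (nat_lit 179) (Steps.fwd (nat_lit 8192) (Steps.bwd (nat_lit 2) (Steps.fwd (nat_lit 8192) (Steps.fwd (nat_lit 24576) (Steps.bwd (nat_lit 1) (Steps.bwd (nat_lit 3) (Steps.fwd (nat_lit 8192) (Steps.bwd (nat_lit 3) (Steps.bwd (nat_lit 1) (Steps.fwd (nat_lit 32768) (Steps.bwd (nat_lit 2) Steps.nil))))))))))) (nat_lit 194) (nat_lit 1),
  Rule.mk (nat_lit 0) (nat_lit 194) (Steps.fwd (nat_lit 8192) (Steps.fwd (nat_lit 24576) (Steps.fwd (nat_lit 8192) (Steps.fwd (nat_lit 24576) (Steps.bwd (nat_lit 1) (Steps.fwd (nat_lit 16384) (Steps.bwd (nat_lit 1) (Steps.fwd (nat_lit 16384) (Steps.fwd (nat_lit 8192) (Steps.fwd (nat_lit 32768) (Steps.fwd (nat_lit 24576) (Steps.fwd (nat_lit 155648) Steps.nil)))))))))))) (nat_lit 194) (nat_lit 1),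
  Rule.mk (nat_lit 19) (nat_lit 179) (Steps.bwd (nat_lit 3) (Steps.bwd (nat_lit 4) (Steps.fwd (nat_lit 8192) (Steps.bwd (nat_lit 2) (Steps.fwd (nat_lit 8192) (Steps.fwd (nat_lit 24576) (Steps.bwd (nat_lit 1) (Steps.bwd (nat_lit 3) (Steps.fwd (nat_lit 8192) (Steps.bwd (nat_lit 3) (Steps.bwd (nat_lit 1) Steps.nil))))))))))) (nat_lit 195) (nat_lit 0),
  Rule.mk (nat_lit 15) (nat_lit 179) (Steps.bwd (nat_lit 3) (Steps.bwd (nat_lit 1) (Steps.fwd (nat_lit 32768) (Steps.fwd (nat_lit 16384) (Steps.fwd (nat_lit 8192) (Steps.bwd (nat_lit 2) (Steps.fwd (nat_lit 8192) (Steps.fwd (nat_lit 24576) (Steps.fwd (nat_lit 8192) (Steps.fwd (nat_lit 24576) (Steps.bwd (nat_lit 1) Steps.nil))))))))))) (nat_lit 191) (nat_lit 0),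
  Rule.mk (nat_lit 0) (nat_lit 194) (Steps.bwd (nat_lit 15) (Steps.bwd (nat_lit 3) (Steps.bwd (nat_lit 1) (Steps.fwd (nat_lit 32768) (Steps.fwd (nat_lit 16384) (Steps.fwd (nat_lit 8192) (Steps.fwd (nat_lit 24576) (Steps.bwd (nat_lit 1) (Steps.fwd (nat_lit 24576) (Steps.bwd (nat_lit 1) (Steps.bwd (nat_lit 2) (Steps.bwd (nat_lit 1) Steps.nil)))))))))))) (nat_lit 191) (nat_lit 11),
  Rule.mk (nat_lit 15) (nat_lit 179) (Steps.fwd (nat_lit 16384) (Steps.bwd (nat_lit 1) (Steps.fwd (nat_lit 32768) (Steps.fwd (nat_lit 16384) (Steps.fwd (nat_lit 8192) (Steps.fwd (nat_lit 24576) (Steps.bwd (nat_lit 1) (Steps.bwd (nat_lit 2) (Steps.bwd (nat_lit 1) (Steps.fwd (nat_lit 24576) (Steps.bwd (nat_lit 1) Steps.nil))))))))))) (nat_lit 191) (nat_lit 0),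
  Rule.mk (nat_lit 0) (nat_lit 194) (Steps.bwd (nat_lit 17) (Steps.fwd (nat_lit 24576) (Steps.fwd (nat_lit 8192) (Steps.bwd (nat_lit 2) (Steps.fwd (nat_lit 8192) (Steps.fwd (nat_lit 16384) (Steps.fwd (nat_lit 8192) (Steps.bwd (nat_lit 3) (Steps.bwd (nat_lit 1) (Steps.bwd (nat_lit 4) (Steps.fwd (nat_lit 24576) (Steps.fwd (nat_lit 8192) Steps.nil)))))))))))) (nat_lit 193) (nat_lit 11),
  Rule.mk (nat_lit 0) (nat_lit 194) (Steps.bwd (nat_lit 18) (Steps.fwd (nat_lit 8192) (Steps.fwd (nat_lit 16384) (Steps.fwd (nat_lit 32768) (Steps.bwd (nat_lit 1) (Steps.bwd (nat_lit 2) (Steps.bwd (nat_lit 1) (Steps.fwd (nat_lit 24576) (Steps.bwd (nat_lit 1) (Steps.fwd (nat_lit 16384) (Steps.fwd (nat_lit 8192) (Steps.bwd (nat_lit 3) Steps.nil)))))))))))) (nat_lit 192) (nat_lit 0),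
  Rule.mk (nat_lit 0) (nat_lit 194) (Steps.bwd (nat_lit 18) (Steps.fwd (nat_lit 8192) (Steps.fwd (nat_lit 16384) (Steps.fwd (nat_lit 32768) (Steps.fwd (nat_lit 8192) (Steps.bwd (nat_lit 2) (Steps.fwd (nat_lit 8192) (Steps.bwd (nat_lit 2) (Steps.bwd (nat_lit 1) (Steps.bwd (nat_lit 3) (Steps.bwd (nat_lit 1) (Steps.fwd (nat_lit 16384) Steps.nil)))))))))))) (nat_lit 192) (nat_lit 0),
  Rule.mk (nat_lit 17) (nat_lit 179) (Steps.bwd (nat_lit 2) (Steps.bwd (nat_lit 1) (Steps.fwd (nat_lit 24576) (Steps.bwd (nat_lit 1) (Steps.fwd (nat_lit 16384) (Steps.fwd (nat_lit 8192) (Steps.bwd (nat_lit 3) (Steps.bwd (nat_lit 1) (Steps.fwd (nat_lit 32768) (Steps.fwd (nat_lit 24576) (Steps.fwd (nat_lit 8192) Steps.nil))))))))))) (nat_lit 193) (nat_lit 0),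
  Rule.mk (nat_lit 0) (nat_lit 194) (Steps.bwd (nat_lit 20) (Steps.fwd (nat_lit 8192) (Steps.fwd (nat_lit 24576) (Steps.bwd (nat_lit 1) (Steps.bwd (nat_lit 2) (Steps.bwd (nat_lit 1) (Steps.fwd (nat_lit 16384) (Steps.bwd (nat_lit 1) (Steps.bwd (nat_lit 3) (Steps.fwd (nat_lit 8192) (Steps.bwd (nat_lit 4) (Steps.bwd (nat_lit 2) Steps.nil)))))))))))) (nat_lit 194) (nat_lit 0),
  Rule.mk (nat_lit 20) (nat_lit 179) (Steps.bwd (nat_lit 1) (Steps.bwd (nat_lit 2) (Steps.bwd (nat_lit 1) (Steps.fwd (nat_lit 24576) (Steps.bwd (nat_lit 1) (Steps.fwd (nat_lit 16384) (Steps.fwd (nat_lit 8192) (Steps.bwd (nat_lit 3) (Steps.bwd (nat_lit 1) (Steps.fwd (nat_lit 32768) (Steps.fwd (nat_lit 24576) Steps.nil))))))))))) (nat_lit 194) (nat_lit 1),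
  Rule.mk (nat_lit 0) (nat_lit 194) (Steps.bwd (nat_lit 20) (Steps.bwd (nat_lit 1) (Steps.fwd (nat_lit 24576) (Steps.fwd (nat_lit 8192) (Steps.bwd (nat_lit 2) (Steps.fwd (nat_lit 8192) (Steps.fwd (nat_lit 16384) (Steps.fwd (nat_lit 8192) (Steps.bwd (nat_lit 3) (Steps.bwd (nat_lit 1) (Steps.bwd (nat_lit 4) (Steps.fwd (nat_lit 24576) Steps.nil)))))))))))) (nat_lit 194) (nat_lit 0),
  Rule.mk (nat_lit 0) (nat_lit 194) (Steps.bwd (nat_lit 19) (Steps.fwd (nat_lit 16384) (Steps.fwd (nat_lit 32768) (Steps.bwd (nat_lit 1) (Steps.bwd (nat_lit 2) (Steps.bwd (nat_lit 1) (Steps.fwd (nat_lit 24576) (Steps.bwd (nat_lit 1) (Steps.fwd (nat_lit 16384) (Steps.fwd (nat_lit 8192) (Steps.bwd (nat_lit 3) (Steps.bwd (nat_lit 1) Steps.nil)))))))))))) (nat_lit 195) (nat_lit 11),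
  Rule.mk (nat_lit 0) (nat_lit 194) (Steps.bwd (nat_lit 15) (Steps.bwd (nat_lit 3) (Steps.bwd (nat_lit 1) (Steps.fwd (nat_lit 32768) (Steps.fwd (nat_lit 16384) (Steps.fwd (nat_lit 8192) (Steps.fwd (nat_lit 24576) (Steps.fwd (nat_lit 8192) (Steps.bwd (nat_lit 2) (Steps.fwd (nat_lit 8192) (Steps.fwd (nat_lit 24576) (Steps.bwd (nat_lit 1) Steps.nil)))))))))))) (nat_lit 191) (nat_lit 11),
  Rule.mk (nat_lit 17) (nat_lit 179) (Steps.bwd (nat_lit 2) (Steps.bwd (nat_lit 1) (Steps.bwd (nat_lit 2) (Steps.bwd (nat_lit 1) (Steps.bwd (nat_lit 3) (Steps.bwd (nat_lit 1) (Steps.fwd (nat_lit 16384) (Steps.fwd (nat_lit 8192) (Steps.fwd (nat_lit 32768) (Steps.fwd (nat_lit 24576) (Steps.bwd (nat_lit 1) Steps.nil))))))))))) (nat_lit 193) (nat_lit 0),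
  Rule.mk (nat_lit 0) (nat_lit 194) (Steps.bwd (nat_lit 17) (Steps.fwd (nat_lit 24576) (Steps.bwd (nat_lit 1) (Steps.bwd (nat_lit 2) (Steps.fwd (nat_lit 8192) (Steps.bwd (nat_lit 3) (Steps.fwd (nat_lit 8192) (Steps.bwd (nat_lit 3) (Steps.bwd (nat_lit 1) (Steps.fwd (nat_lit 32768) (Steps.fwd (nat_lit 24576) (Steps.fwd (nat_lit 8192) Steps.nil)))))))))))) (nat_lit 193) (nat_lit 11),
  Rule.mk (nat_lit 0) (nat_lit 194) (Steps.bwd (nat_lit 20) (Steps.fwd (nat_lit 8192) (Steps.fwd (nat_lit 24576) (Steps.bwd (nat_lit 1) (Steps.bwd (nat_lit 2) (Steps.fwd (nat_lit 8192) (Steps.bwd (nat_lit 3) (Steps.fwd (nat_lit 8192) (Steps.bwd (nat_lit 3) (Steps.bwd (nat_lit 1) (Steps.fwd (nat_lit 32768) (Steps.fwd (nat_lit 24576) Steps.nil)))))))))))) (nat_lit 194) (nat_lit 0),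
  Rule.mk (nat_lit 19) (nat_lit 179) (Steps.fwd (nat_lit 16384) (Steps.bwd (nat_lit 4) (Steps.fwd (nat_lit 8192) (Steps.fwd (nat_lit 24576) (Steps.bwd (nat_lit 1) (Steps.bwd (nat_lit 2) (Steps.fwd (nat_lit 8192) (Steps.bwd (nat_lit 3) (Steps.fwd (nat_lit 8192) (Steps.bwd (nat_lit 3) (Steps.bwd (nat_lit 1) Steps.nil))))))))))) (nat_lit 195) (nat_lit 0),
  Rule.mk (nat_lit 2) (nat_lit 179) (Steps.bwd (nat_lit 16) (Steps.fwd (nat_lit 8192) (Steps.bwd (nat_lit 3) (Steps.fwd (nat_lit 8192) (Steps.fwd (nat_lit 16384) (Steps.fwd (nat_lit 8192) (Steps.fwd (nat_lit 16384) (Steps.fwd (nat_lit 8192) (Steps.fwd (nat_lit 24576) (Steps.bwd (nat_lit 4) (Steps.fwd (nat_lit 8192) Steps.nil))))))))))) (nat_lit 190) (nat_lit 0),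
  Rule.mk (nat_lit 10) (nat_lit 104) (Steps.fwd (nat_lit 16384) (Steps.fwd (nat_lit 49152) (Steps.bwd (nat_lit 11) (Steps.bwd (nat_lit 12) (Steps.fwd (nat_lit 114688) (Steps.bwd (nat_lit 2) Steps.nil)))))) (nat_lit 180) (nat_lit 2),
  Rule.mk (nat_lit 9) (nat_lit 134) (Steps.bwd (nat_lit 3) (Steps.bwd (nat_lit 4) (Steps.fwd (nat_lit 40960) (Steps.bwd (nat_lit 8) (Steps.bwd (nat_lit 9) (Steps.fwd (nat_lit 90112) (Steps.fwd (nat_lit 114688) (Steps.bwd (nat_lit 2) Steps.nil)))))))) (nat_lit 178) (nat_lit 2),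
  Rule.mk (nat_lit 5) (nat_lit 149) (Steps.bwd (nat_lit 3) (Steps.fwd (nat_lit 32768) (Steps.bwd (nat_lit 5) (Steps.fwd (nat_lit 65536) (Steps.fwd (nat_lit 73728) (Steps.fwd (nat_lit 98304) (Steps.fwd (nat_lit 106496) (Steps.fwd (nat_lit 114688) (Steps.bwd (nat_lit 2) Steps.nil))))))))) (nat_lit 170) (nat_lit 2),
  Rule.mk (nat_lit 6) (nat_lit 164) (Steps.bwd (nat_lit 3) (Steps.fwd (nat_lit 40960) (Steps.bwd (nat_lit 6) (Steps.bwd (nat_lit 9) (Steps.fwd (nat_lit 81920) (Steps.bwd (nat_lit 11) (Steps.fwd (nat_lit 98304) (Steps.fwd (nat_lit 106496) (Steps.fwd (nat_lit 114688) (Steps.bwd (nat_lit 2) Steps.nil)))))))))) (nat_lit 172) (nat_lit 2),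
  Rule.mk (nat_lit 11) (nat_lit 164) (Steps.bwd (nat_lit 3) (Steps.bwd (nat_lit 14) (Steps.bwd (nat_lit 12) (Steps.fwd (nat_lit 90112) (Steps.fwd (nat_lit 81920) (Steps.fwd (nat_lit 73728) (Steps.bwd (nat_lit 8) (Steps.bwd (nat_lit 5) (Steps.fwd (nat_lit 32768) (Steps.bwd (nat_lit 2) Steps.nil)))))))))) (nat_lit 183) (nat_lit 10),
  Rule.mk (nat_lit 1) (nat_lit 539) (Steps.fwd (nat_lit 16384) (Steps.bwd (nat_lit 1) (Steps.bwd (nat_lit 3) (Steps.fwd (nat_lit 8192) (Steps.bwd (nat_lit 2) (Steps.fwd (nat_lit 8192) (Steps.bwd (nat_lit 3) (Steps.fwd (nat_lit 8192) (Steps.fwd (nat_lit 16384) (Steps.fwd (nat_lit 8192) (Steps.bwd (nat_lit 2) (Steps.fwd (nat_lit 8192) (Steps.bwd (nat_lit 2) (Steps.fwd (nat_lit 8192) (Steps.bwd (nat_lit 3) (Steps.fwd (nat_lit 8192) (Steps.bwd (nat_lit 2) (Steps.fwd (nat_lit 8192) (Steps.fwd (nat_lit 24576) (Steps.bwd (nat_lit 1) (Steps.bwd (nat_lit 3) (Steps.bwd (nat_lit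 1) (Steps.fwd (nat_lit 24576) (Steps.bwd (nat_lit 1) (Steps.bwd (nat_lit 2) (Steps.bwd (nat_lit 1) (Steps.fwd (nat_lit 16384) (Steps.bwd (nat_lit 1) (Steps.fwd (nat_lit 24576) (Steps.bwd (nat_lit 1) (Steps.fwd (nat_lit 16384) (Steps.fwd (nat_lit 8192) (Steps.bwd (nat_lit 3) (Steps.fwd (nat_lit 8192) (Steps.bwd (nat_lit 2) Steps.nil))))))))))))))))))))))))))))))))))) (nat_lit 12) (nat_lit 27),
  Rule.mk (nat_lit 16) (nat_lit 179) (Steps.fwd (nat_lit 8192) (Steps.bwd (nat_lit 3) (Steps.fwd (nat_lit 8192) (Steps.fwd (nat_lit 16384) (Steps.bwd (nat_lit 1) (Steps.fwd (nat_lit 16384) (Steps.bwd (nat_lit 1) (Steps.bwd (nat_lit 2) (Steps.bwd (nat_lit 4) (Steps.fwd (nat_lit 8192) (Steps.fwd (nat_lit 24576) Steps.nil))))))))))) (nat_lit 190) (nat_lit 1),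
  Rule.mk (nat_lit 0) (nat_lit 194) (Steps.bwd (nat_lit 15) (Steps.fwd (nat_lit 16384) (Steps.fwd (nat_lit 8192) (Steps.bwd (nat_lit 4) (Steps.bwd (nat_lit 3) (Steps.fwd (nat_lit 8192) (Steps.bwd (nat_lit 2) (Steps.fwd (nat_lit 8192) (Steps.bwd (nat_lit 2) (Steps.fwd (nat_lit 8192) (Steps.bwd (nat_lit 2) (Steps.bwd (nat_lit 1) Steps.nil)))))))))))) (nat_lit 191) (nat_lit 11),
  Rule.mk (nat_lit 0) (nat_lit 194) (Steps.bwd (nat_lit 16) (Steps.bwd (nat_lit 1) (Steps.fwd (nat_lit 16384) (Steps.bwd (nat_lit 1) (Steps.fwd (nat_lit 16384) (Steps.bwd (nat_lit 1) (Steps.bwd (nat_lit 3) (Steps.fwd (nat_lit 8192) (Steps.bwd (nat_lit 2) (Steps.fwd (nat_lit 32768) (Steps.fwd (nat_lit 8192) (Steps.bwd (nat_lit 2) Steps.nil)))))))))))) (nat_lit 190) (nat_lit 0),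
  Rule.mk (nat_lit 16) (nat_lit 179) (Steps.bwd (nat_lit 1) (Steps.fwd (nat_lit 16384) (Steps.bwd (nat_lit 1) (Steps.bwd (nat_lit 3) (Steps.fwd (nat_lit 8192) (Steps.fwd (nat_lit 16384) (Steps.fwd (nat_lit 8192) (Steps.fwd (nat_lit 24576) (Steps.bwd (nat_lit 4) (Steps.bwd (nat_lit 1) (Steps.fwd (nat_lit 24576) Steps.nil))))))))))) (nat_lit 190) (nat_lit 1),
  Rule.mk (nat_lit 15) (nat_lit 179) (Steps.fwd (nat_lit 16384) (Steps.fwd (nat_lit 8192) (Steps.fwd (nat_lit 32768) (Steps.bwd (nat_lit 3) (Steps.fwd (nat_lit 8192) (Steps.bwd (nat_lit 2) (Steps.fwd (nat_lit 8192) (Steps.bwd (nat_lit 2) (Steps.fwd (nat_lit 8192) (Steps.bwd (nat_lit 2) (Steps.bwd (nat_lit 1) Steps.nil))))))))))) (nat_lit 191) (nat_lit 0),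
  Rule.mk (nat_lit 0) (nat_lit 194) (Steps.bwd (nat_lit 16) (Steps.bwd (nat_lit 1) (Steps.fwd (nat_lit 16384) (Steps.fwd (nat_lit 8192) (Steps.fwd (nat_lit 16384) (Steps.bwd (nat_lit 1) (Steps.fwd (nat_lit 16384) (Steps.bwd (nat_lit 1) (Steps.bwd (nat_lit 2) (Steps.bwd (nat_lit 4) (Steps.fwd (nat_lit 8192) (Steps.bwd (nat_lit 2) Steps.nil)))))))))))) (nat_lit 190) (nat_lit 0),
  Rule.mk (nat_lit 0) (nat_lit 194) (Steps.bwd (nat_lit 15) (Steps.bwd (nat_lit 3) (Steps.bwd (nat_lit 1) (Steps.fwd (nat_lit 32768) (Steps.bwd (nat_lit 3) (Steps.fwd (nat_lit 8192) (Steps.bwd (nat_lit 2) (Steps.bwd (nat_lit 1) (Steps.bwd (nat_lit 2) (Steps.fwd (nat_lit 8192) (Steps.bwd (nat_lit 2) (Steps.bwd (nat_lit 1) Steps.nil)))))))))))) (nat_lit 191) (nat_lit 11),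
  Rule.mk (nat_lit 0) (nat_lit 194) (Steps.bwd (nat_lit 16) (Steps.fwd (nat_lit 8192) (Steps.fwd (nat_lit 16384) (Steps.fwd (nat_lit 8192) (Steps.fwd (nat_lit 16384) (Steps.bwd (nat_lit 1) (Steps.fwd (nat_lit 16384) (Steps.fwd (nat_lit 8192) (Steps.bwd (nat_lit 2) (Steps.fwd (nat_lit 32768) (Steps.fwd (nat_lit 8192) (Steps.bwd (nat_lit 2) Steps.nil)))))))))))) (nat_lit 190) (nat_lit 0),
  Rule.mk (nat_lit 18) (nat_lit 179) (Steps.fwd (nat_lit 8192) (Steps.bwd (nat_lit 3) (Steps.bwd (nat_lit 4) (Steps.bwd (nat_lit 1) (Steps.bwd (nat_lit 2) (Steps.bwd (nat_lit 1) (Steps.fwd (nat_lit 24576) (Steps.bwd (nat_lit 1) (Steps.fwd (nat_lit 16384) (Steps.bwd (nat_lit 1) (Steps.fwd (nat_lit 16384) Steps.nil))))))))))) (nat_lit 192) (nat_lit 1),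
  Rule.mk (nat_lit 0) (nat_lit 194) (Steps.bwd (nat_lit 18) (Steps.bwd (nat_lit 1) (Steps.fwd (nat_lit 16384) (Steps.bwd (nat_lit 4) (Steps.fwd (nat_lit 8192) (Steps.bwd (nat_lit 2) (Steps.bwd (nat_lit 1) (Steps.bwd (nat_lit 2) (Steps.fwd (nat_lit 8192) (Steps.fwd (nat_lit 16384) (Steps.bwd (nat_lit 1) (Steps.bwd (nat_lit 3) Steps.nil)))))))))))) (nat_lit 192) (nat_lit 0),
  Rule.mk (nat_lit 0) (nat_lit 194) (Steps.bwd (nat_lit 18) (Steps.bwd (nat_lit 1) (Steps.fwd (nat_lit 16384) (Steps.fwd (nat_lit 32768) (Steps.bwd (nat_lit 1) (Steps.bwd (nat_lit 2) (Steps.fwd (nat_lit 8192) (Steps.bwd (nat_lit 2) (Steps.bwd (nat_lit 1) (Steps.fwd (nat_lit 16384) (Steps.bwd (nat_lit 1) (Steps.bwd (nat_lit 3) Steps.nil)))))))))))) (nat_lit 192) (nat_lit 0),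
  Rule.mk (nat_lit 0) (nat_lit 194) (Steps.bwd (nat_lit 18) (Steps.fwd (nat_lit 8192) (Steps.fwd (nat_lit 16384) (Steps.fwd (nat_lit 32768) (Steps.fwd (nat_lit 8192) (Steps.bwd (nat_lit 2) (Steps.fwd (nat_lit 8192) (Steps.bwd (nat_lit 2) (Steps.bwd (nat_lit 1) (Steps.fwd (nat_lit 16384) (Steps.fwd (nat_lit 8192) (Steps.fwd (nat_lit 16384) Steps.nil)))))))))))) (nat_lit 192) (nat_lit 0),
  Rule.mk (nat_lit 17) (nat_lit 179) (Steps.bwd (nat_lit 2) (Steps.fwd (nat_lit 8192) (Steps.bwd (nat_lit 2) (Steps.bwd (nat_lit 1) (Steps.fwd (nat_lit 16384) (Steps.bwd (nat_lit 1) (Steps.bwd (nat_lit 3) (Steps.fwd (nat_lit 8192) (Steps.fwd (nat_lit 32768) (Steps.bwd (nat_lit 2) (Steps.fwd (nat_lit 8192) Steps.nil))))))))))) (nat_lit 193) (nat_lit 0),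
  Rule.mk (nat_lit 0) (nat_lit 194) (Steps.bwd (nat_lit 19) (Steps.fwd (nat_lit 16384) (Steps.fwd (nat_lit 32768) (Steps.fwd (nat_lit 8192) (Steps.bwd (nat_lit 2) (Steps.fwd (nat_lit 8192) (Steps.bwd (nat_lit 2) (Steps.bwd (nat_lit 1) (Steps.fwd (nat_lit 16384) (Steps.fwd (nat_lit 8192) (Steps.fwd (nat_lit 16384) (Steps.bwd (nat_lit 1) Steps.nil)))))))))))) (nat_lit 195) (nat_lit 11),
  Rule.mk (nat_lit 20) (nat_lit 179) (Steps.fwd (nat_lit 8192) (Steps.bwd (nat_lit 2) (Steps.fwd (nat_lit 8192) (Steps.bwd (nat_lit 2) (Steps.bwd (nat_lit 1) (Steps.fwd (nat_lit 16384) (Steps.bwd (nat_lit 1) (Steps.bwd (nat_lit 3) (Steps.fwd (nat_lit 8192) (Steps.fwd (nat_lit 32768) (Steps.bwd (nat_lit 2) Steps.nil))))))))))) (nat_lit 194) (nat_lit 1),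
  Rule.mk (nat_lit 20) (nat_lit 179) (Steps.bwd (nat_lit 1) (Steps.bwd (nat_lit 2) (Steps.fwd (nat_lit 8192) (Steps.bwd (nat_lit 2) (Steps.bwd (nat_lit 1) (Steps.fwd (nat_lit 16384) (Steps.bwd (nat_lit 1) (Steps.bwd (nat_lit 3) (Steps.bwd (nat_lit 1) (Steps.fwd (nat_lit 32768) (Steps.fwd (nat_lit 24576) Steps.nil))))))))))) (nat_lit 194) (nat_lit 1),
  Rule.mk (nat_lit 19) (nat_lit 179) (Steps.fwd (nat_lit 16384) (Steps.fwd (nat_lit 32768) (Steps.fwd (nat_lit 8192) (Steps.bwd (nat_lit 2) (Steps.bwd (nat_lit 1) (Steps.bwd (nat_lit 2) (Steps.fwd (nat_lit 8192) (Steps.fwd (nat_lit 16384) (Steps.bwd (nat_lit 1) (Steps.fwd (nat_lit 16384) (Steps.bwd (nat_lit 1) Steps.nil))))))))))) (nat_lit 195) (nat_lit 0),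
  Rule.mk (nat_lit 0) (nat_lit 194) (Steps.bwd (nat_lit 3) (Steps.bwd (nat_lit 4) (Steps.bwd (nat_lit 1) (Steps.bwd (nat_lit 2) (Steps.bwd (nat_lit 1) (Steps.fwd (nat_lit 24576) (Steps.bwd (nat_lit 1) (Steps.fwd (nat_lit 16384) (Steps.bwd (nat_lit 1) (Steps.fwd (nat_lit 16384) (Steps.bwd (nat_lit 1) (Steps.fwd (nat_lit 163840) Steps.nil)))))))))))) (nat_lit 195) (nat_lit 0),
  Rule.mk (nat_lit 19) (nat_lit 179) (Steps.fwd (nat_lit 16384) (Steps.fwd (nat_lit 32768) (Steps.bwd (nat_lit 1) (Steps.bwd (nat_lit 2) (Steps.fwd (nat_lit 8192) (Steps.bwd (nat_lit 2) (Steps.bwd (nat_lit 1) (Steps.fwd (nat_lit 16384) (Steps.bwd (nat_lit 1) (Steps.bwd (nat_lit 3) (Steps.bwd (nat_lit 1) Steps.nil))))))))))) (nat_lit 195) (nat_lit 0),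
  Rule.mk (nat_lit 0) (nat_lit 194) (Steps.bwd (nat_lit 18) (Steps.bwd (nat_lit 1) (Steps.fwd (nat_lit 16384) (Steps.bwd (nat_lit 4) (Steps.fwd (nat_lit 8192) (Steps.fwd (nat_lit 24576) (Steps.bwd (nat_lit 1) (Steps.fwd (nat_lit 24576) (Steps.bwd (nat_lit 1) (Steps.bwd (nat_lit 3) (Steps.fwd (nat_lit 8192) (Steps.fwd (nat_lit 16384) Steps.nil)))))))))))) (nat_lit 192) (nat_lit 0),
  Rule.mk (nat_lit 19) (nat_lit 179) (Steps.fwd (nat_lit 16384) (Steps.bwd (nat_lit 4) (Steps.fwd (nat_lit 8192) (Steps.fwd (nat_lit 24576) (Steps.bwd (nat_lit 1) (Steps.fwd (nat_lit 24576) (Steps.bwd (nat_lit 1) (Steps.bwd (nat_lit 3) (Steps.fwd (nat_lit 8192) (Steps.fwd (nat_lit 16384) (Steps.bwd (nat_lit 1) Steps.nil))))))))))) (nat_lit 195) (nat_lit 0),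
  Rule.mk (nat_lit 2) (nat_lit 164) (Steps.bwd (nat_lit 11) (Steps.bwd (nat_lit 3) (Steps.bwd (nat_lit 4) (Steps.fwd (nat_lit 40960) (Steps.fwd (nat_lit 65536) (Steps.bwd (nat_lit 9) (Steps.bwd (nat_lit 10) (Steps.fwd (nat_lit 90112) (Steps.fwd (nat_lit 98304) (Steps.bwd (nat_lit 14) Steps.nil)))))))))) (nat_lit 182) (nat_lit 1),
  Rule.mk (nat_lit 16) (nat_lit 179) (Steps.fwd (nat_lit 8192) (Steps.bwd (nat_lit 3) (Steps.fwd (nat_lit 8192) (Steps.fwd (nat_lit 16384) (Steps.bwd (nat_lit 1) (Steps.bwd (nat_lit 3) (Steps.fwd (nat_lit 8192) (Steps.bwd (nat_lit 2) (Steps.bwd (nat_lit 4) (Steps.bwd (nat_lit 1) (Steps.bwd (nat_lit 2) Steps.nil))))))))))) (nat_lit 190) (nat_lit 1),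
  Rule.mk (nat_lit 0) (nat_lit 194) (Steps.bwd (nat_lit 16) (Steps.fwd (nat_lit 8192) (Steps.fwd (nat_lit 16384) (Steps.bwd (nat_lit 1) (Steps.bwd (nat_lit 3) (Steps.bwd (nat_lit 1) (Steps.fwd (nat_lit 16384) (Steps.bwd (nat_lit 1) (Steps.bwd (nat_lit 2) (Steps.fwd (nat_lit 32768) (Steps.fwd (nat_lit 8192) (Steps.bwd (nat_lit 2) Steps.nil)))))))))))) (nat_lit 190) (nat_lit 0),
  Rule.mk (nat_lit 15) (nat_lit 179) (Steps.bwd (nat_lit 3) (Steps.fwd (nat_lit 8192) (Steps.bwd (nat_lit 4) (Steps.bwd (nat_lit 3) (Steps.bwd (nat_lit 1) (Steps.bwd (nat_lit 2) (Steps.bwd (nat_lit 1) (Steps.bwd (nat_lit 2) (Steps.bwd (nat_lit 1) (Steps.bwd (nat_lit 2) (Steps.fwd (nat_lit 8192) Steps.nil))))))))))) (nat_lit 191) (nat_lit 0),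
  Rule.mk (nat_lit 0) (nat_lit 194) (Steps.bwd (nat_lit 15) (Steps.bwd (nat_lit 3) (Steps.bwd (nat_lit 1) (Steps.fwd (nat_lit 32768) (Steps.fwd (nat_lit 16384) (Steps.bwd (nat_lit 1) (Steps.bwd (nat_lit 2) (Steps.bwd (nat_lit 1) (Steps.bwd (nat_lit 2) (Steps.fwd (nat_lit 8192) (Steps.bwd (nat_lit 2) (Steps.bwd (nat_lit 1) Steps.nil)))))))))))) (nat_lit 191) (nat_lit 11),
  Rule.mk (nat_lit 0) (nat_lit 194) (Steps.bwd (nat_lit 15) (Steps.bwd (nat_lit 3) (Steps.fwd (nat_lit 8192) (Steps.bwd (nat_lit 4) (Steps.fwd (nat_lit 16384) (Steps.bwd (nat_lit 1) (Steps.bwd (nat_lit 2) (Steps.fwd (nat_lit 8192) (Steps.bwd (nat_lit 2) (Steps.bwd (nat_lit 1) (Steps.fwd (nat_lit 24576) (Steps.bwd (nat_lit 1) Steps.nil)))))))))))) (nat_lit 191) (nat_lit 11),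
  Rule.mk (nat_lit 0) (nat_lit 194) (Steps.bwd (nat_lit 18) (Steps.bwd (nat_lit 1) (Steps.bwd (nat_lit 3) (Steps.fwd (nat_lit 32768) (Steps.bwd (nat_lit 1) (Steps.bwd (nat_lit 2) (Steps.bwd (nat_lit 1) (Steps.bwd (nat_lit 2) (Steps.fwd (nat_lit 8192) (Steps.fwd (nat_lit 16384) (Steps.fwd (nat_lit 8192) (Steps.fwd (nat_lit 16384) Steps.nil)))))))))))) (nat_lit 192) (nat_lit 0),
  Rule.mk (nat_lit 0) (nat_lit 194) (Steps.bwd (nat_lit 18) (Steps.fwd (nat_lit 8192) (Steps.fwd (nat_lit 16384) (Steps.bwd (nat_lit 4) (Steps.bwd (nat_lit 1) (Steps.bwd (nat_lit 2) (Steps.fwd (nat_lit 8192) (Steps.bwd (nat_lit 2) (Steps.bwd (nat_lit 1) (Steps.bwd (nat_lit 3) (Steps.bwd (nat_lit 1) (Steps.bwd (nat_lit 3) Steps.nil)))))))))))) (nat_lit 192) (nat_lit 0),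
  Rule.mk (nat_lit 17) (nat_lit 179) (Steps.fwd (nat_lit 24576) (Steps.bwd (nat_lit 1) (Steps.bwd (nat_lit 2) (Steps.bwd (nat_lit 1) (Steps.fwd (nat_lit 16384) (Steps.bwd (nat_lit 1) (Steps.bwd (nat_lit 3) (Steps.fwd (nat_lit 8192) (Steps.fwd (nat_lit 32768) (Steps.bwd (nat_lit 2) (Steps.fwd (nat_lit 8192) Steps.nil))))))))))) (nat_lit 193) (nat_lit 0)]
noncomputable def R_128 : List (Rule) := [Rule.mk (nat_lit 0) (nat_lit 194) (Steps.bwd (nat_lit 18) (Steps.fwd (nat_lit 8192) (Steps.bwd (nat_lit 3) (Steps.bwd (nat_lit 4) (Steps.bwd (nat_lit 1) (Steps.fwd (nat_lit 24576) (Steps.fwd (nat_lit 8192) (Steps.fwd (nat_lit 24576) (Steps.fwd (nat_lit 8192) (Steps.fwd (nat_lit 16384) (Steps.fwd (nat_lit 8192) (Steps.fwd (nat_lit 16384) Steps.nil)))))))))))) (nat_lit 192) (nat_lit 0),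
  Rule.mk (nat_lit 20) (nat_lit 179) (Steps.bwd (nat_lit 1) (Steps.fwd (nat_lit 24576) (Steps.bwd (nat_lit 1) (Steps.bwd (nat_lit 2) (Steps.bwd (nat_lit 1) (Steps.fwd (nat_lit 16384) (Steps.bwd (nat_lit 1) (Steps.bwd (nat_lit 3) (Steps.fwd (nat_lit 8192) (Steps.fwd (nat_lit 32768) (Steps.bwd (nat_lit 2) Steps.nil))))))))))) (nat_lit 194) (nat_lit 1),
  Rule.mk (nat_lit 0) (nat_lit 194) (Steps.bwd (nat_lit 20) (Steps.bwd (nat_lit 1) (Steps.bwd (nat_lit 2) (Steps.bwd (nat_lit 1) (Steps.bwd (nat_lit 2) (Steps.fwd (nat_lit 8192) (Steps.fwd (nat_lit 16384) (Steps.fwd (nat_lit 8192) (Steps.fwd (nat_lit 16384) (Steps.fwd (nat_lit 8192) (Steps.bwd (nat_lit 4) (Steps.fwd (nat_lit 24576) Steps.nil)))))))))))) (nat_lit 194) (nat_lit 0),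
  Rule.mk (nat_lit 0) (nat_lit 194) (Steps.bwd (nat_lit 19) (Steps.fwd (nat_lit 16384) (Steps.bwd (nat_lit 4) (Steps.bwd (nat_lit 1) (Steps.bwd (nat_lit 2) (Steps.fwd (nat_lit 8192) (Steps.bwd (nat_lit 2) (Steps.bwd (nat_lit 1) (Steps.bwd (nat_lit 3) (Steps.bwd (nat_lit 1) (Steps.bwd (nat_lit 3) (Steps.fwd (nat_lit 8192) Steps.nil)))))))))))) (nat_lit 195) (nat_lit 11),
  Rule.mk (nat_lit 16) (nat_lit 179) (Steps.bwd (nat_lit 1) (Steps.fwd (nat_lit 16384) (Steps.bwd (nat_lit 1) (Steps.fwd (nat_lit 16384) (Steps.bwd (nat_lit 1) (Steps.bwd (nat_lit 3) (Steps.fwd (nat_lit 8192) (Steps.bwd (nat_lit 2) (Steps.bwd (nat_lit 4) (Steps.fwd (nat_lit 8192) (Steps.bwd (nat_lit 2) Steps.nil))))))))))) (nat_lit 190) (nat_lit 1),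
  Rule.mk (nat_lit 0) (nat_lit 194) (Steps.bwd (nat_lit 16) (Steps.fwd (nat_lit 8192) (Steps.fwd (nat_lit 16384) (Steps.fwd (nat_lit 8192) (Steps.bwd (nat_lit 3) (Steps.fwd (nat_lit 8192) (Steps.fwd (nat_lit 16384) (Steps.fwd (nat_lit 8192) (Steps.bwd (nat_lit 2) (Steps.fwd (nat_lit 32768) (Steps.bwd (nat_lit 1) (Steps.bwd (nat_lit 2) Steps.nil)))))))))))) (nat_lit 190) (nat_lit 0),
  Rule.mk (nat_lit 0) (nat_lit 194) (Steps.bwd (nat_lit 17) (Steps.fwd (nat_lit 24576) (Steps.bwd (nat_lit 1) (Steps.fwd (nat_lit 24576) (Steps.fwd (nat_lit 8192) (Steps.bwd (nat_lit 3) (Steps.fwd (nat_lit 8192) (Steps.fwd (nat_lit 16384) (Steps.fwd (nat_lit 8192) (Steps.fwd (nat_lit 32768) (Steps.bwd (nat_lit 2) (Steps.bwd (nat_lit 1) Steps.nil)))))))))))) (nat_lit 193) (nat_lit 11),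
  Rule.mk (nat_lit 17) (nat_lit 179) (Steps.bwd (nat_lit 2) (Steps.bwd (nat_lit 1) (Steps.bwd (nat_lit 2) (Steps.fwd (nat_lit 8192) (Steps.fwd (nat_lit 16384) (Steps.bwd (nat_lit 1) (Steps.fwd (nat_lit 16384) (Steps.bwd (nat_lit 1) (Steps.bwd (nat_lit 4) (Steps.bwd (nat_lit 2) (Steps.bwd (nat_lit 1) Steps.nil))))))))))) (nat_lit 193) (nat_lit 0),
  Rule.mk (nat_lit 17) (nat_lit 179) (Steps.bwd (nat_lit 2) (Steps.bwd (nat_lit 1) (Steps.fwd (nat_lit 24576) (Steps.bwd (nat_lit 1) (Steps.bwd (nat_lit 3) (Steps.fwd (nat_lit 8192) (Steps.bwd (nat_lit 3) (Steps.bwd (nat_lit 1) (Steps.bwd (nat_lit 4) (Steps.fwd (nat_lit 24576) (Steps.fwd (nat_lit 8192) Steps.nil))))))))))) (nat_lit 193) (nat_lit 0),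
  Rule.mk (nat_lit 20) (nat_lit 179) (Steps.fwd (nat_lit 8192) (Steps.bwd (nat_lit 2) (Steps.bwd (nat_lit 1) (Steps.bwd (nat_lit 2) (Steps.fwd (nat_lit 8192) (Steps.fwd (nat_lit 16384) (Steps.bwd (nat_lit 1) (Steps.fwd (nat_lit 16384) (Steps.bwd (nat_lit 1) (Steps.bwd (nat_lit 4) (Steps.bwd (nat_lit 2) Steps.nil))))))))))) (nat_lit 194) (nat_lit 1),
  Rule.mk (nat_lit 0) (nat_lit 194) (Steps.fwd (nat_lit 8192) (Steps.bwd (nat_lit 2) (Steps.bwd (nat_lit 1) (Steps.fwd (nat_lit 24576) (Steps.bwd (nat_lit 1) (Steps.bwd (nat_lit 3) (Steps.fwd (nat_lit 8192) (Steps.bwd (nat_lit 3) (Steps.bwd (nat_lit 1) (Steps.bwd (nat_lit 4) (Steps.fwd (nat_lit 24576) (Steps.fwd (nat_lit 155648) Steps.nil)))))))))))) (nat_lit 194) (nat_lit 1),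
  Rule.mk (nat_lit 0) (nat_lit 194) (Steps.bwd (nat_lit 20) (Steps.fwd (nat_lit 8192) (Steps.fwd (nat_lit 24576) (Steps.bwd (nat_lit 1) (Steps.fwd (nat_lit 24576) (Steps.fwd (nat_lit 8192) (Steps.bwd (nat_lit 3) (Steps.fwd (nat_lit 8192) (Steps.bwd (nat_lit 3) (Steps.fwd (nat_lit 8192) (Steps.fwd (nat_lit 32768) (Steps.bwd (nat_lit 2) Steps.nil)))))))))))) (nat_lit 194) (nat_lit 0),
  Rule.mk (nat_lit 1) (nat_lit 179) (Steps.bwd (nat_lit 15) (Steps.bwd (nat_lit 3) (Steps.bwd (nat_lit 1) (Steps.fwd (nat_lit 32768) (Steps.bwd (nat_lit 3) (Steps.bwd (nat_lit 1) (Steps.fwd (nat_lit 24576) (Steps.bwd (nat_lit 1) (Steps.fwd (nat_lit 24576) (Steps.bwd (nat_lit 1) (Steps.fwd (nat_lit 24576) Steps.nil))))))))))) (nat_lit 191) (nat_lit 11),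
  Rule.mk (nat_lit 14) (nat_lit 89) (Steps.bwd (nat_lit 7) (Steps.bwd (nat_lit 4) (Steps.fwd (nat_lit 8192) (Steps.bwd (nat_lit 9) (Steps.bwd (nat_lit 1) Steps.nil))))) (nat_lit 157) (nat_lit 1),
  Rule.mk (nat_lit 6) (nat_lit 104) (Steps.fwd (nat_lit 90112) (Steps.fwd (nat_lit 98304) (Steps.bwd (nat_lit 14) (Steps.fwd (nat_lit 8192) (Steps.bwd (nat_lit 11) (Steps.bwd (nat_lit 1) Steps.nil)))))) (nat_lit 160) (nat_lit 4),
  Rule.mk (nat_lit 11) (nat_lit 104) (Steps.fwd (nat_lit 8192) (Steps.fwd (nat_lit 114688) (Steps.bwd (nat_lit 12) (Steps.bwd (nat_lit 11) (Steps.fwd (nat_lit 49152) (Steps.bwd (nat_lit 1) Steps.nil)))))) (nat_lit 161) (nat_lit 6),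
  Rule.mk (nat_lit 7) (nat_lit 164) (Steps.bwd (nat_lit 1) (Steps.fwd (nat_lit 40960) (Steps.fwd (nat_lit 49152) (Steps.bwd (nat_lit 9) (Steps.bwd (nat_lit 10) (Steps.fwd (nat_lit 90112) (Steps.bwd (nat_lit 12) (Steps.fwd (nat_lit 106496) (Steps.fwd (nat_lit 114688) (Steps.bwd (nat_lit 1) Steps.nil)))))))))) (nat_lit 152) (nat_lit 2),
  Rule.mk (nat_lit 17) (nat_lit 179) (Steps.bwd (nat_lit 2) (Steps.fwd (nat_lit 8192) (Steps.bwd (nat_lit 2) (Steps.bwd (nat_lit 1) (Steps.bwd (nat_lit 3) (Steps.fwd (nat_lit 8192) (Steps.bwd (nat_lit 3) (Steps.bwd (nat_lit 1) (Steps.bwd (nat_lit 4) (Steps.fwd (nat_lit 24576) (Steps.bwd (nat_lit 1) Steps.nil))))))))))) (nat_lit 193) (nat_lit 0),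
  Rule.mk (nat_lit 0) (nat_lit 194) (Steps.bwd (nat_lit 18) (Steps.fwd (nat_lit 8192) (Steps.bwd (nat_lit 3) (Steps.fwd (nat_lit 32768) (Steps.fwd (nat_lit 8192) (Steps.fwd (nat_lit 24576) (Steps.fwd (nat_lit 8192) (Steps.fwd (nat_lit 24576) (Steps.fwd (nat_lit 8192) (Steps.fwd (nat_lit 16384) (Steps.fwd (nat_lit 8192) (Steps.bwd (nat_lit 3) Steps.nil)))))))))))) (nat_lit 192) (nat_lit 0),
  Rule.mk (nat_lit 20) (nat_lit 179) (Steps.bwd (nat_lit 1) (Steps.fwd (nat_lit 24576) (Steps.bwd (nat_lit 1) (Steps.bwd (nat_lit 2) (Steps.bwd (nat_lit 1) (Steps.bwd (nat_lit 3) (Steps.bwd (nat_lit 1) (Steps.bwd (nat_lit 3) (Steps.bwd (nat_lit 1) (Steps.bwd (nat_lit 4) (Steps.fwd (nat_lit 24576) Steps.nil))))))))))) (nat_lit 194) (nat_lit 1),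
  Rule.mk (nat_lit 19) (nat_lit 179) (Steps.bwd (nat_lit 3) (Steps.bwd (nat_lit 4) (Steps.bwd (nat_lit 1) (Steps.fwd (nat_lit 24576) (Steps.bwd (nat_lit 1) (Steps.bwd (nat_lit 2) (Steps.bwd (nat_lit 1) (Steps.bwd (nat_lit 3) (Steps.bwd (nat_lit 1) (Steps.bwd (nat_lit 3) (Steps.bwd (nat_lit 1) Steps.nil))))))))))) (nat_lit 195) (nat_lit 0),
  Rule.mk (nat_lit 3) (nat_lit 539) (Steps.bwd (nat_lit 1) (Steps.bwd (nat_lit 3) (Steps.fwd (nat_lit 8192) (Steps.fwd (nat_lit 24576) (Steps.bwd (nat_lit 1) (Steps.fwd (nat_lit 24576) (Steps.bwd (nat_lit 1) (Steps.bwd (nat_lit 3) (Steps.bwd (nat_lit 1) (Steps.fwd (nat_lit 24576) (Steps.fwd (nat_lit 8192) (Steps.bwd (nat_lit 2) (Steps.bwd (nat_lit 1) (Steps.bwd (nat_lit 3) (Steps.fwd (nat_lit 8192) (Steps.bwd (nat_lit 2) (Steps.bwd (nat_lit 1) (Steps.fwd (nat_lit 24576) (Steps.bwd (nat_lit 1) (Steps.bwd (nat_lit 3) (Steps.fwd (nat_lit 8192) (Steps.bwd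 (nat_lit 2) (Steps.bwd (nat_lit 1) (Steps.fwd (nat_lit 16384) (Steps.bwd (nat_lit 1) (Steps.bwd (nat_lit 3) (Steps.fwd (nat_lit 8192) (Steps.bwd (nat_lit 2) (Steps.bwd (nat_lit 1) (Steps.bwd (nat_lit 3) (Steps.bwd (nat_lit 1) (Steps.bwd (nat_lit 3) (Steps.bwd (nat_lit 1) (Steps.fwd (nat_lit 24576) (Steps.bwd (nat_lit 1) Steps.nil))))))))))))))))))))))))))))))))))) (nat_lit 12) (nat_lit 34),
  Rule.mk (nat_lit 2) (nat_lit 539) (Steps.fwd (nat_lit 8192) (Steps.bwd (nat_lit 3) (Steps.fwd (nat_lit 8192) (Steps.fwd (nat_lit 16384) (Steps.fwd (nat_lit 8192) (Steps.fwd (nat_lit 24576) (Steps.fwd (nat_lit 8192) (Steps.fwd (nat_lit 16384) (Steps.bwd (nat_lit 1) (Steps.fwd (nat_lit 16384) (Steps.bwd (nat_lit 1) (Steps.fwd (nat_lit 24576) (Steps.bwd (nat_lit 1) (Steps.fwd (nat_lit 24576) (Steps.bwd (nat_lit 1) (Steps.bwd (nat_lit 3) (Steps.bwd (nat_lit 1) (Steps.fwd (nat_lit 24576) (Steps.bwd (nat_lit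 1) (Steps.bwd (nat_lit 2) (Steps.bwd (nat_lit 1) (Steps.fwd (nat_lit 16384) (Steps.fwd (nat_lit 8192) (Steps.bwd (nat_lit 2) (Steps.fwd (nat_lit 8192) (Steps.fwd (nat_lit 24576) (Steps.fwd (nat_lit 8192) (Steps.bwd (nat_lit 3) (Steps.bwd (nat_lit 1) (Steps.bwd (nat_lit 2) (Steps.bwd (nat_lit 1) (Steps.bwd (nat_lit 3) (Steps.bwd (nat_lit 1) (Steps.bwd (nat_lit 3) (Steps.bwd (nat_lit 1) Steps.nil))))))))))))))))))))))))))))))))))) (nat_lit 12) (nat_lit 26),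
  Rule.mk (nat_lit 16) (nat_lit 179) (Steps.fwd (nat_lit 8192) (Steps.fwd (nat_lit 16384) (Steps.fwd (nat_lit 8192) (Steps.bwd (nat_lit 3) (Steps.bwd (nat_lit 1) (Steps.fwd (nat_lit 16384) (Steps.fwd (nat_lit 8192) (Steps.fwd (nat_lit 24576) (Steps.fwd (nat_lit 32768) (Steps.fwd (nat_lit 8192) (Steps.bwd (nat_lit 2) Steps.nil))))))))))) (nat_lit 190) (nat_lit 1),
  Rule.mk (nat_lit 0) (nat_lit 194) (Steps.bwd (nat_lit 16) (Steps.fwd (nat_lit 8192) (Steps.bwd (nat_lit 3) (Steps.bwd (nat_lit 1) (Steps.fwd (nat_lit 16384) (Steps.fwd (nat_lit 8192) (Steps.bwd (nat_lit 3) (Steps.fwd (nat_lit 8192) (Steps.fwd (nat_lit 24576) (Steps.bwd (nat_lit 4) (Steps.bwd (nat_lit 1) (Steps.bwd (nat_lit 2) Steps.nil)))))))))))) (nat_lit 190) (nat_lit 0),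
  Rule.mk (nat_lit 0) (nat_lit 194) (Steps.bwd (nat_lit 15) (Steps.bwd (nat_lit 3) (Steps.bwd (nat_lit 1) (Steps.fwd (nat_lit 32768) (Steps.fwd (nat_lit 16384) (Steps.bwd (nat_lit 1) (Steps.fwd (nat_lit 24576) (Steps.bwd (nat_lit 1) (Steps.fwd (nat_lit 24576) (Steps.bwd (nat_lit 1) (Steps.bwd (nat_lit 2) (Steps.fwd (nat_lit 8192) Steps.nil)))))))))))) (nat_lit 191) (nat_lit 11),
  Rule.mk (nat_lit 0) (nat_lit 194) (Steps.bwd (nat_lit 1) (Steps.bwd (nat_lit 3) (Steps.bwd (nat_lit 1) (Steps.bwd (nat_lit 3) (Steps.fwd (nat_lit 8192) (Steps.fwd (nat_lit 16384) (Steps.bwd (nat_lit 1) (Steps.bwd (nat_lit 2) (Steps.bwd (nat_lit 4) (Steps.fwd (nat_lit 8192) (Steps.bwd (nat_lit 2) (Steps.fwd (nat_lit 122880) Steps.nil)))))))))))) (nat_lit 190) (nat_lit 1),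
  Rule.mk (nat_lit 16) (nat_lit 179) (Steps.fwd (nat_lit 8192) (Steps.fwd (nat_lit 16384) (Steps.bwd (nat_lit 1) (Steps.bwd (nat_lit 3) (Steps.fwd (nat_lit 8192) (Steps.bwd (nat_lit 3) (Steps.bwd (nat_lit 1) (Steps.bwd (nat_lit 2) (Steps.bwd (nat_lit 4) (Steps.fwd (nat_lit 8192) (Steps.bwd (nat_lit 2) Steps.nil))))))))))) (nat_lit 190) (nat_lit 1),
  Rule.mk (nat_lit 0) (nat_lit 194) (Steps.bwd (nat_lit 1) (Steps.bwd (nat_lit 3) (Steps.bwd (nat_lit 4) (Steps.fwd (nat_lit 8192) (Steps.bwd (nat_lit 2) (Steps.fwd (nat_lit 8192) (Steps.fwd (nat_lit 24576) (Steps.bwd (nat_lit 1) (Steps.fwd (nat_lit 16384) (Steps.fwd (nat_lit 8192) (Steps.bwd (nat_lit 3) (Steps.fwd (nat_lit 139264) Steps.nil)))))))))))) (nat_lit 192) (nat_lit 1),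
  Rule.mk (nat_lit 19) (nat_lit 179) (Steps.bwd (nat_lit 3) (Steps.bwd (nat_lit 4) (Steps.fwd (nat_lit 8192) (Steps.bwd (nat_lit 2) (Steps.fwd (nat_lit 8192) (Steps.fwd (nat_lit 24576) (Steps.bwd (nat_lit 1) (Steps.fwd (nat_lit 16384) (Steps.fwd (nat_lit 8192) (Steps.bwd (nat_lit 3) (Steps.fwd (nat_lit 8192) Steps.nil))))))))))) (nat_lit 195) (nat_lit 0),
  Rule.mk (nat_lit 0) (nat_lit 194) (Steps.bwd (nat_lit 16) (Steps.bwd (nat_lit 1) (Steps.fwd (nat_lit 16384) (Steps.bwd (nat_lit 1) (Steps.bwd (nat_lit 3) (Steps.bwd (nat_lit 1) (Steps.bwd (nat_lit 3) (Steps.fwd (nat_lit 8192) (Steps.bwd (nat_lit 2) (Steps.fwd (nat_lit 32768) (Steps.bwd (nat_lit 1) (Steps.bwd (nat_lit 2) Steps.nil)))))))))))) (nat_lit 190) (nat_lit 0),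
  Rule.mk (nat_lit 16) (nat_lit 179) (Steps.bwd (nat_lit 1) (Steps.bwd (nat_lit 3) (Steps.bwd (nat_lit 1) (Steps.bwd (nat_lit 3) (Steps.fwd (nat_lit 8192) (Steps.bwd (nat_lit 3) (Steps.bwd (nat_lit 1) (Steps.fwd (nat_lit 24576) (Steps.bwd (nat_lit 4) (Steps.bwd (nat_lit 1) (Steps.bwd (nat_lit 2) Steps.nil))))))))))) (nat_lit 190) (nat_lit 1),
  Rule.mk (nat_lit 16) (nat_lit 179) (Steps.bwd (nat_lit 1) (Steps.bwd (nat_lit 3) (Steps.fwd (nat_lit 8192) (Steps.bwd (nat_lit 3) (Steps.bwd (nat_lit 1) (Steps.bwd (nat_lit 3) (Steps.fwd (nat_lit 8192) (Steps.fwd (nat_lit 24576) (Steps.fwd (nat_lit 32768) (Steps.bwd (nat_lit 1) (Steps.fwd (nat_lit 24576) Steps.nil))))))))))) (nat_lit 190) (nat_lit 1),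
  Rule.mk (nat_lit 18) (nat_lit 179) (Steps.fwd (nat_lit 8192) (Steps.bwd (nat_lit 3) (Steps.fwd (nat_lit 32768) (Steps.bwd (nat_lit 1) (Steps.fwd (nat_lit 24576) (Steps.fwd (nat_lit 8192) (Steps.bwd (nat_lit 2) (Steps.bwd (nat_lit 1) (Steps.bwd (nat_lit 3) (Steps.fwd (nat_lit 8192) (Steps.bwd (nat_lit 3) Steps.nil))))))))))) (nat_lit 192) (nat_lit 1),
  Rule.mk (nat_lit 0) (nat_lit 194) (Steps.bwd (nat_lit 20) (Steps.fwd (nat_lit 8192) (Steps.fwd (nat_lit 24576) (Steps.bwd (nat_lit 1) (Steps.fwd (nat_lit 24576) (Steps.fwd (nat_lit 8192) (Steps.fwd (nat_lit 16384) (Steps.bwd (nat_lit 1) (Steps.bwd (nat_lit 3) (Steps.fwd (nat_lit 8192) (Steps.bwd (nat_lit 4) (Steps.fwd (nat_lit 24576) Steps.nil)))))))))))) (nat_lit 194) (nat_lit 0),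
  Rule.mk (nat_lit 0) (nat_lit 194) (Steps.bwd (nat_lit 18) (Steps.fwd (nat_lit 8192) (Steps.bwd (nat_lit 3) (Steps.fwd (nat_lit 32768) (Steps.bwd (nat_lit 1) (Steps.bwd (nat_lit 2) (Steps.fwd (nat_lit 8192) (Steps.bwd (nat_lit 2) (Steps.fwd (nat_lit 8192) (Steps.bwd (nat_lit 3) (Steps.fwd (nat_lit 8192) (Steps.fwd (nat_lit 16384) Steps.nil)))))))))))) (nat_lit 192) (nat_lit 0),
  Rule.mk (nat_lit 0) (nat_lit 194) (Steps.bwd (nat_lit 17) (Steps.fwd (nat_lit 24576) (Steps.bwd (nat_lit 1) (Steps.bwd (nat_lit 2) (Steps.fwd (nat_lit 8192) (Steps.bwd (nat_lit 3) (Steps.bwd (nat_lit 1) (Steps.bwd (nat_lit 3) (Steps.fwd (nat_lit 8192) (Steps.bwd (nat_lit 4) (Steps.bwd (nat_lit 2) (Steps.bwd (nat_lit 1) Steps.nil)))))))))))) (nat_lit 193) (nat_lit 11),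
  Rule.mk (nat_lit 0) (nat_lit 194) (Steps.bwd (nat_lit 2) (Steps.fwd (nat_lit 8192) (Steps.bwd (nat_lit 2) (Steps.fwd (nat_lit 8192) (Steps.bwd (nat_lit 3) (Steps.fwd (nat_lit 8192) (Steps.fwd (nat_lit 16384) (Steps.fwd (nat_lit 8192) (Steps.fwd (nat_lit 32768) (Steps.fwd (nat_lit 24576) (Steps.fwd (nat_lit 8192) (Steps.fwd (nat_lit 147456) Steps.nil)))))))))))) (nat_lit 193) (nat_lit 0),
  Rule.mk (nat_lit 0) (nat_lit 194) (Steps.bwd (nat_lit 19) (Steps.fwd (nat_lit 16384) (Steps.fwd (nat_lit 32768) (Steps.bwd (nat_lit 1) (Steps.fwd (nat_lit 24576) (Steps.fwd (nat_lit 8192) (Steps.fwd (nat_lit 24576) (Steps.bwd (nat_lit 1) (Steps.bwd (nat_lit 3) (Steps.fwd (nat_lit 8192) (Steps.bwd (nat_lit 3) (Steps.fwd (nat_lit 8192) Steps.nil)))))))))))) (nat_lit 195) (nat_lit 11),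
  Rule.mk (nat_lit 0) (nat_lit 194) (Steps.bwd (nat_lit 20) (Steps.bwd (nat_lit 1) (Steps.fwd (nat_lit 24576) (Steps.fwd (nat_lit 8192) (Steps.bwd (nat_lit 2) (Steps.fwd (nat_lit 8192) (Steps.bwd (nat_lit 3) (Steps.fwd (nat_lit 8192) (Steps.fwd (nat_lit 16384) (Steps.fwd (nat_lit 8192) (Steps.fwd (nat_lit 32768) (Steps.fwd (nat_lit 24576) Steps.nil)))))))))))) (nat_lit 194) (nat_lit 0),
  Rule.mk (nat_lit 0) (nat_lit 194) (Steps.bwd (nat_lit 19) (Steps.fwd (nat_lit 16384) (Steps.bwd (nat_lit 4) (Steps.bwd (nat_lit 1) (Steps.fwd (nat_lit 24576) (Steps.bwd (nat_lit 1) (Steps.fwd (nat_lit 24576) (Steps.fwd (nat_lit 8192) (Steps.bwd (nat_lit 3) (Steps.bwd (nat_lit 1) (Steps.bwd (nat_lit 3) (Steps.fwd (nat_lit 8192) Steps.nil)))))))))))) (nat_lit 195) (nat_lit 11),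
  Rule.mk (nat_lit 0) (nat_lit 194) (Steps.bwd (nat_lit 1) (Steps.bwd (nat_lit 2) (Steps.bwd (nat_lit 1) (Steps.fwd (nat_lit 24576) (Steps.bwd (nat_lit 1) (Steps.fwd (nat_lit 16384) (Steps.bwd (nat_lit 1) (Steps.bwd (nat_lit 3) (Steps.fwd (nat_lit 8192) (Steps.bwd (nat_lit 4) (Steps.fwd (nat_lit 24576) (Steps.fwd (nat_lit 155648) Steps.nil)))))))))))) (nat_lit 194) (nat_lit 1),
  Rule.mk (nat_lit 19) (nat_lit 179) (Steps.bwd (nat_lit 3) (Steps.fwd (nat_lit 32768) (Steps.bwd (nat_lit 1) (Steps.fwd (nat_lit 24576) (Steps.bwd (nat_lit 1) (Steps.bwd (nat_lit 2) (Steps.fwd (nat_lit 8192) (Steps.bwd (nat_lit 3) (Steps.bwd (nat_lit 1) (Steps.fwd (nat_lit 16384) (Steps.bwd (nat_lit 1) Steps.nil))))))))))) (nat_lit 195) (nat_lit 0),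
  Rule.mk (nat_lit 0) (nat_lit 194) (Steps.bwd (nat_lit 17) (Steps.bwd (nat_lit 2) (Steps.fwd (nat_lit 8192) (Steps.fwd (nat_lit 24576) (Steps.bwd (nat_lit 1) (Steps.fwd (nat_lit 16384) (Steps.fwd (nat_lit 8192) (Steps.bwd (nat_lit 3) (Steps.fwd (nat_lit 8192) (Steps.fwd (nat_lit 32768) (Steps.bwd (nat_lit 2) (Steps.fwd (nat_lit 8192) Steps.nil)))))))))))) (nat_lit 193) (nat_lit 11),
  Rule.mk (nat_lit 17) (nat_lit 179) (Steps.bwd (nat_lit 2) (Steps.fwd (nat_lit 8192) (Steps.fwd (nat_lit 24576) (Steps.bwd (nat_lit 1) (Steps.fwd (nat_lit 16384) (Steps.fwd (nat_lit 8192) (Steps.bwd (nat_lit 3) (Steps.fwd (nat_lit 8192) (Steps.bwd (nat_lit 4) (Steps.fwd (nat_lit 24576) (Steps.fwd (nat_lit 8192) Steps.nil))))))))))) (nat_lit 193) (nat_lit 0),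
  Rule.mk (nat_lit 0) (nat_lit 194) (Steps.fwd (nat_lit 16384) (Steps.bwd (nat_lit 4) (Steps.fwd (nat_lit 8192) (Steps.fwd (nat_lit 24576) (Steps.bwd (nat_lit 1) (Steps.bwd (nat_lit 2) (Steps.fwd (nat_lit 8192) (Steps.bwd (nat_lit 3) (Steps.bwd (nat_lit 1) (Steps.fwd (nat_lit 16384) (Steps.fwd (nat_lit 8192) (Steps.fwd (nat_lit 163840) Steps.nil)))))))))))) (nat_lit 195) (nat_lit 0),
  Rule.mk (nat_lit 13) (nat_lit 134) (Steps.bwd (nat_lit 3) (Steps.fwd (nat_lit 49152) (Steps.fwd (nat_lit 81920) (Steps.bwd (nat_lit 11) (Steps.bwd (nat_lit 12) (Steps.bwd (nat_lit 13) (Steps.bwd (nat_lit 14) (Steps.fwd (nat_lit 24576) Steps.nil)))))))) (nat_lit 186) (nat_lit 2),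
  Rule.mk (nat_lit 15) (nat_lit 179) (Steps.bwd (nat_lit 3) (Steps.bwd (nat_lit 1) (Steps.fwd (nat_lit 32768) (Steps.bwd (nat_lit 3) (Steps.bwd (nat_lit 1) (Steps.bwd (nat_lit 2) (Steps.bwd (nat_lit 1) (Steps.fwd (nat_lit 24576) (Steps.bwd (nat_lit 1) (Steps.fwd (nat_lit 24576) (Steps.fwd (nat_lit 8192) Steps.nil))))))))))) (nat_lit 191) (nat_lit 0),
  Rule.mk (nat_lit 2) (nat_lit 179) (Steps.bwd (nat_lit 20) (Steps.bwd (nat_lit 1) (Steps.fwd (nat_lit 24576) (Steps.bwd (nat_lit 1) (Steps.bwd (nat_lit 2) (Steps.fwd (nat_lit 8192) (Steps.fwd (nat_lit 16384) (Steps.fwd (nat_lit 8192) (Steps.fwd (nat_lit 16384) (Steps.fwd (nat_lit 8192) (Steps.fwd (nat_lit 32768) Steps.nil))))))))))) (nat_lit 194) (nat_lit 0),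
  Rule.mk (nat_lit 14) (nat_lit 119) (Steps.bwd (nat_lit 3) (Steps.fwd (nat_lit 114688) (Steps.bwd (nat_lit 12) (Steps.fwd (nat_lit 57344) (Steps.bwd (nat_lit 6) (Steps.fwd (nat_lit 40960) (Steps.bwd (nat_lit 2) Steps.nil))))))) (nat_lit 189) (nat_lit 7),
  Rule.mk (nat_lit 13) (nat_lit 134) (Steps.bwd (nat_lit 3) (Steps.bwd (nat_lit 14) (Steps.bwd (nat_lit 13) (Steps.fwd (nat_lit 98304) (Steps.bwd (nat_lit 11) (Steps.fwd (nat_lit 81920) (Steps.fwd (nat_lit 49152) (Steps.bwd (nat_lit 2) Steps.nil)))))))) (nat_lit 187) (nat_lit 8),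
  Rule.mk (nat_lit 5) (nat_lit 149) (Steps.fwd (nat_lit 16384) (Steps.bwd (nat_lit 14) (Steps.bwd (nat_lit 13) (Steps.fwd (nat_lit 98304) (Steps.fwd (nat_lit 73728) (Steps.bwd (nat_lit 8) (Steps.bwd (nat_lit 5) (Steps.fwd (nat_lit 32768) (Steps.bwd (nat_lit 2) Steps.nil))))))))) (nat_lit 171) (nat_lit 9),
  Rule.mk (nat_lit 6) (nat_lit 164) (Steps.bwd (nat_lit 3) (Steps.bwd (nat_lit 14) (Steps.bwd (nat_lit 13) (Steps.bwd (nat_lit 12) (Steps.fwd (nat_lit 90112) (Steps.fwd (nat_lit 81920) (Steps.bwd (nat_lit 9) (Steps.bwd (nat_lit 6) (Steps.fwd (nat_lit 40960) (Steps.bwd (nat_lit 2) Steps.nil)))))))))) (nat_lit 173) (nat_lit 10),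
  Rule.mk (nat_lit 11) (nat_lit 164) (Steps.bwd (nat_lit 3) (Steps.bwd (nat_lit 4) (Steps.fwd (nat_lit 40960) (Steps.bwd (nat_lit 8) (Steps.bwd (nat_lit 9) (Steps.fwd (nat_lit 81920) (Steps.bwd (nat_lit 11) (Steps.fwd (nat_lit 98304) (Steps.fwd (nat_lit 114688) (Steps.bwd (nat_lit 2) Steps.nil)))))))))) (nat_lit 182) (nat_lit 2),
  Rule.mk (nat_lit 16) (nat_lit 179) (Steps.bwd (nat_lit 1) (Steps.fwd (nat_lit 16384) (Steps.fwd (nat_lit 8192) (Steps.fwd (nat_lit 16384) (Steps.fwd (nat_lit 8192) (Steps.bwd (nat_lit 3) (Steps.bwd (nat_lit 1) (Steps.fwd (nat_lit 24576) (Steps.fwd (nat_lit 32768) (Steps.bwd (nat_lit 1) (Steps.bwd (nat_lit 2) Steps.nil))))))))))) (nat_lit 190) (nat_lit 1),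
  Rule.mk (nat_lit 1) (nat_lit 539) (Steps.fwd (nat_lit 16384) (Steps.fwd (nat_lit 8192) (Steps.fwd (nat_lit 16384) (Steps.bwd (nat_lit 1) (Steps.fwd (nat_lit 24576) (Steps.bwd (nat_lit 1) (Steps.fwd (nat_lit 16384) (Steps.fwd (nat_lit 8192) (Steps.fwd (nat_lit 16384) (Steps.bwd (nat_lit 1) (Steps.fwd (nat_lit 24576) (Steps.bwd (nat_lit 1) (Steps.fwd (nat_lit 16384) (Steps.bwd (nat_lit 1) (Steps.fwd (nat_lit 16384) (Steps.fwd (nat_lit 8192) (Steps.bwd (nat_lit 2) (Steps.bwd (nat_lit 1) (Steps.fwd (nat_lit 24576) (Steps.bwd (nat_lit 1) (Steps.fwd (nat_lit 16384) (Steps.fwd (nat_lit 8192) (Steps.bwd (nat_lit 2) (Steps.bwd (nat_lit 1) (Steps.fwd (nat_lit 24576) (Steps.fwd (nat_lit 8192) (Steps.fwd (nat_lit 16384) (Steps.fwd (nat_lit 8192) (Steps.bwd (nat_lit 2) (Steps.bwd (nat_lit 1) (Steps.bwd (nat_lit 2) (Steps.bwd (nat_lit 1) (Steps.fwd (nat_lit 16384) (Steps.bwd (nat_lit 1) (Steps.bwd (nat_lit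 2) Steps.nil))))))))))))))))))))))))))))))))))) (nat_lit 12) (nat_lit 21),
  Rule.mk (nat_lit 7) (nat_lit 164) (Steps.bwd (nat_lit 1) (Steps.bwd (nat_lit 5) (Steps.bwd (nat_lit 6) (Steps.fwd (nat_lit 73728) (Steps.bwd (nat_lit 10) (Steps.bwd (nat_lit 11) (Steps.fwd (nat_lit 98304) (Steps.bwd (nat_lit 13) (Steps.bwd (nat_lit 14) (Steps.bwd (nat_lit 1) Steps.nil)))))))))) (nat_lit 152) (nat_lit 2),
  Rule.mk (nat_lit 16) (nat_lit 179) (Steps.bwd (nat_lit 1) (Steps.fwd (nat_lit 16384) (Steps.bwd (nat_lit 1) (Steps.fwd (nat_lit 16384) (Steps.fwd (nat_lit 8192) (Steps.fwd (nat_lit 16384) (Steps.bwd (nat_lit 1) (Steps.bwd (nat_lit 2) (Steps.bwd (nat_lit 4) (Steps.fwd (nat_lit 8192) (Steps.fwd (nat_lit 24576) Steps.nil))))))))))) (nat_lit 190) (nat_lit 1),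
  Rule.mk (nat_lit 16) (nat_lit 179) (Steps.bwd (nat_lit 1) (Steps.fwd (nat_lit 16384) (Steps.fwd (nat_lit 8192) (Steps.fwd (nat_lit 16384) (Steps.bwd (nat_lit 1) (Steps.fwd (nat_lit 16384) (Steps.fwd (nat_lit 8192) (Steps.bwd (nat_lit 2) (Steps.fwd (nat_lit 32768) (Steps.fwd (nat_lit 8192) (Steps.fwd (nat_lit 24576) Steps.nil))))))))))) (nat_lit 190) (nat_lit 1),
  Rule.mk (nat_lit 16) (nat_lit 179) (Steps.fwd (nat_lit 8192) (Steps.fwd (nat_lit 16384) (Steps.bwd (nat_lit 1) (Steps.fwd (nat_lit 16384) (Steps.fwd (nat_lit 8192) (Steps.fwd (nat_lit 16384) (Steps.bwd (nat_lit 1) (Steps.fwd (nat_lit 24576) (Steps.fwd (nat_lit 32768) (Steps.bwd (nat_lit 1) (Steps.bwd (nat_lit 2) Steps.nil))))))))))) (nat_lit 190) (nat_lit 1),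
  Rule.mk (nat_lit 16) (nat_lit 179) (Steps.bwd (nat_lit 1) (Steps.fwd (nat_lit 16384) (Steps.fwd (nat_lit 8192) (Steps.fwd (nat_lit 16384) (Steps.bwd (nat_lit 1) (Steps.bwd (nat_lit 3) (Steps.fwd (nat_lit 8192) (Steps.bwd (nat_lit 2) (Steps.bwd (nat_lit 4) (Steps.bwd (nat_lit 1) (Steps.fwd (nat_lit 24576) Steps.nil))))))))))) (nat_lit 190) (nat_lit 1),
  Rule.mk (nat_lit 0) (nat_lit 194) (Steps.bwd (nat_lit 15) (Steps.fwd (nat_lit 16384) (Steps.fwd (nat_lit 8192) (Steps.fwd (nat_lit 32768) (Steps.fwd (nat_lit 16384) (Steps.fwd (nat_lit 8192) (Steps.fwd (nat_lit 24576) (Steps.bwd (nat_lit 1) (Steps.bwd (nat_lit 2) (Steps.bwd (nat_lit 1) (Steps.bwd (nat_lit 2) (Steps.fwd (nat_lit 8192) Steps.nil)))))))))))) (nat_lit 191) (nat_lit 11),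
  Rule.mk (nat_lit 0) (nat_lit 194) (Steps.bwd (nat_lit 16) (Steps.bwd (nat_lit 1) (Steps.fwd (nat_lit 16384) (Steps.bwd (nat_lit 1) (Steps.fwd (nat_lit 16384) (Steps.fwd (nat_lit 8192) (Steps.fwd (nat_lit 16384) (Steps.fwd (nat_lit 8192) (Steps.bwd (nat_lit 2) (Steps.bwd (nat_lit 4) (Steps.bwd (nat_lit 1) (Steps.bwd (nat_lit 2) Steps.nil)))))))))))) (nat_lit 190) (nat_lit 0),
  Rule.mk (nat_lit 0) (nat_lit 194) (Steps.bwd (nat_lit 16) (Steps.fwd (nat_lit 8192) (Steps.bwd (nat_lit 3) (Steps.bwd (nat_lit 1) (Steps.fwd (nat_lit 16384) (Steps.bwd (nat_lit 1) (Steps.fwd (nat_lit 16384) (Steps.fwd (nat_lit 8192) (Steps.bwd (nat_lit 2) (Steps.bwd (nat_lit 4) (Steps.fwd (nat_lit 8192) (Steps.fwd (nat_lit 24576) Steps.nil)))))))))))) (nat_lit 190) (nat_lit 0)]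
noncomputable def R_129 : List (Rule) := [Rule.mk (nat_lit 15) (nat_lit 179) (Steps.fwd (nat_lit 16384) (Steps.bwd (nat_lit 1) (Steps.bwd (nat_lit 4) (Steps.fwd (nat_lit 16384) (Steps.bwd (nat_lit 1) (Steps.fwd (nat_lit 24576) (Steps.bwd (nat_lit 1) (Steps.bwd (nat_lit 2) (Steps.bwd (nat_lit 1) (Steps.fwd (nat_lit 24576) (Steps.bwd (nat_lit 1) Steps.nil))))))))))) (nat_lit 191) (nat_lit 0),
  Rule.mk (nat_lit 0) (nat_lit 194) (Steps.bwd (nat_lit 18) (Steps.bwd (nat_lit 1) (Steps.bwd (nat_lit 3) (Steps.fwd (nat_lit 32768) (Steps.fwd (nat_lit 8192) (Steps.bwd (nat_lit 2) (Steps.bwd (nat_lit 1) (Steps.bwd (nat_lit 2) (Steps.fwd (nat_lit 8192) (Steps.fwd (nat_lit 16384) (Steps.bwd (nat_lit 1) (Steps.fwd (nat_lit 16384) Steps.nil)))))))))))) (nat_lit 192) (nat_lit 0),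
  Rule.mk (nat_lit 0) (nat_lit 194) (Steps.bwd (nat_lit 18) (Steps.fwd (nat_lit 8192) (Steps.bwd (nat_lit 3) (Steps.bwd (nat_lit 4) (Steps.fwd (nat_lit 8192) (Steps.fwd (nat_lit 24576) (Steps.bwd (nat_lit 1) (Steps.bwd (nat_lit 2) (Steps.bwd (nat_lit 1) (Steps.fwd (nat_lit 16384) (Steps.fwd (nat_lit 8192) (Steps.fwd (nat_lit 16384) Steps.nil)))))))))))) (nat_lit 192) (nat_lit 0),
  Rule.mk (nat_lit 0) (nat_lit 194) (Steps.bwd (nat_lit 18) (Steps.fwd (nat_lit 8192) (Steps.fwd (nat_lit 16384) (Steps.fwd (nat_lit 32768) (Steps.bwd (nat_lit 1) (Steps.bwd (nat_lit 2) (Steps.bwd (nat_lit 1) (Steps.bwd (nat_lit 2) (Steps.fwd (nat_lit 8192) (Steps.bwd (nat_lit 3) (Steps.bwd (nat_lit 1) (Steps.bwd (nat_lit 3) Steps.nil)))))))))))) (nat_lit 192) (nat_lit 0),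
  Rule.mk (nat_lit 0) (nat_lit 194) (Steps.bwd (nat_lit 17) (Steps.fwd (nat_lit 24576) (Steps.bwd (nat_lit 1) (Steps.bwd (nat_lit 2) (Steps.bwd (nat_lit 1) (Steps.fwd (nat_lit 16384) (Steps.fwd (nat_lit 8192) (Steps.fwd (nat_lit 16384) (Steps.bwd (nat_lit 1) (Steps.bwd (nat_lit 4) (Steps.bwd (nat_lit 2) (Steps.bwd (nat_lit 1) Steps.nil)))))))))))) (nat_lit 193) (nat_lit 11),
  Rule.mk (nat_lit 17) (nat_lit 179) (Steps.bwd (nat_lit 2) (Steps.bwd (nat_lit 1) (Steps.bwd (nat_lit 2) (Steps.fwd (nat_lit 8192) (Steps.bwd (nat_lit 3) (Steps.bwd (nat_lit 1) (Steps.bwd (nat_lit 3) (Steps.bwd (nat_lit 1) (Steps.fwd (nat_lit 32768) (Steps.fwd (nat_lit 24576) (Steps.fwd (nat_lit 8192) Steps.nil))))))))))) (nat_lit 193) (nat_lit 0),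
  Rule.mk (nat_lit 20) (nat_lit 179) (Steps.fwd (nat_lit 8192) (Steps.bwd (nat_lit 2) (Steps.bwd (nat_lit 1) (Steps.bwd (nat_lit 2) (Steps.fwd (nat_lit 8192) (Steps.fwd (nat_lit 16384) (Steps.bwd (nat_lit 1) (Steps.fwd (nat_lit 16384) (Steps.fwd (nat_lit 8192) (Steps.fwd (nat_lit 32768) (Steps.fwd (nat_lit 24576) Steps.nil))))))))))) (nat_lit 194) (nat_lit 1),
  Rule.mk (nat_lit 20) (nat_lit 179) (Steps.fwd (nat_lit 8192) (Steps.fwd (nat_lit 24576) (Steps.bwd (nat_lit 1) (Steps.bwd (nat_lit 2) (Steps.bwd (nat_lit 1) (Steps.fwd (nat_lit 16384) (Steps.fwd (nat_lit 8192) (Steps.fwd (nat_lit 16384) (Steps.bwd (nat_lit 1) (Steps.bwd (nat_lit 4) (Steps.bwd (nat_lit 2) Steps.nil))))))))))) (nat_lit 194) (nat_lit 1),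
  Rule.mk (nat_lit 0) (nat_lit 194) (Steps.bwd (nat_lit 19) (Steps.bwd (nat_lit 3) (Steps.bwd (nat_lit 4) (Steps.fwd (nat_lit 8192) (Steps.fwd (nat_lit 24576) (Steps.bwd (nat_lit 1) (Steps.bwd (nat_lit 2) (Steps.bwd (nat_lit 1) (Steps.fwd (nat_lit 16384) (Steps.fwd (nat_lit 8192) (Steps.fwd (nat_lit 16384) (Steps.bwd (nat_lit 1) Steps.nil)))))))))))) (nat_lit 195) (nat_lit 11),
  Rule.mk (nat_lit 2) (nat_lit 164) (Steps.bwd (nat_lit 11) (Steps.bwd (nat_lit 3) (Steps.bwd (nat_lit 4) (Steps.bwd (nat_lit 5) (Steps.fwd (nat_lit 65536) (Steps.fwd (nat_lit 73728) (Steps.bwd (nat_lit 10) (Steps.fwd (nat_lit 90112) (Steps.fwd (nat_lit 98304) (Steps.bwd (nat_lit 14) Steps.nil)))))))))) (nat_lit 182) (nat_lit 1),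
  Rule.mk (nat_lit 1) (nat_lit 179) (Steps.bwd (nat_lit 17) (Steps.bwd (nat_lit 2) (Steps.bwd (nat_lit 1) (Steps.fwd (nat_lit 24576) (Steps.fwd (nat_lit 8192) (Steps.bwd (nat_lit 3) (Steps.fwd (nat_lit 8192) (Steps.bwd (nat_lit 3) (Steps.fwd (nat_lit 8192) (Steps.bwd (nat_lit 4) (Steps.bwd (nat_lit 2) Steps.nil))))))))))) (nat_lit 193) (nat_lit 11),
  Rule.mk (nat_lit 0) (nat_lit 194) (Steps.fwd (nat_lit 16384) (Steps.fwd (nat_lit 32768) (Steps.bwd (nat_lit 1) (Steps.fwd (nat_lit 24576) (Steps.bwd (nat_lit 1) (Steps.fwd (nat_lit 24576) (Steps.bwd (nat_lit 1) (Steps.bwd (nat_lit 3) (Steps.fwd (nat_lit 8192) (Steps.fwd (nat_lit 16384) (Steps.bwd (nat_lit 1) (Steps.fwd (nat_lit 163840) Steps.nil)))))))))))) (nat_lit 195) (nat_lit 0),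
  Rule.mk (nat_lit 10) (nat_lit 134) (Steps.bwd (nat_lit 1) (Steps.fwd (nat_lit 32768) (Steps.fwd (nat_lit 40960) (Steps.bwd (nat_lit 8) (Steps.fwd (nat_lit 73728) (Steps.bwd (nat_lit 11) (Steps.bwd (nat_lit 14) (Steps.fwd (nat_lit 8192) Steps.nil)))))))) (nat_lit 158) (nat_lit 2),
  Rule.mk (nat_lit 14) (nat_lit 134) (Steps.fwd (nat_lit 8192) (Steps.bwd (nat_lit 6) (Steps.bwd (nat_lit 10) (Steps.fwd (nat_lit 90112) (Steps.fwd (nat_lit 98304) (Steps.fwd (nat_lit 106496) (Steps.bwd (nat_lit 14) (Steps.fwd (nat_lit 8192) Steps.nil)))))))) (nat_lit 166) (nat_lit 2),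
  Rule.mk (nat_lit 6) (nat_lit 134) (Steps.fwd (nat_lit 81920) (Steps.bwd (nat_lit 11) (Steps.bwd (nat_lit 12) (Steps.bwd (nat_lit 13) (Steps.bwd (nat_lit 14) (Steps.bwd (nat_lit 1) (Steps.bwd (nat_lit 14) (Steps.fwd (nat_lit 8192) Steps.nil)))))))) (nat_lit 166) (nat_lit 4),
  Rule.mk (nat_lit 7) (nat_lit 164) (Steps.fwd (nat_lit 8192) (Steps.bwd (nat_lit 5) (Steps.bwd (nat_lit 6) (Steps.bwd (nat_lit 9) (Steps.bwd (nat_lit 10) (Steps.fwd (nat_lit 90112) (Steps.fwd (nat_lit 98304) (Steps.fwd (nat_lit 106496) (Steps.bwd (nat_lit 14) (Steps.fwd (nat_lit 8192) Steps.nil)))))))))) (nat_lit 152) (nat_lit 2),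
  Rule.mk (nat_lit 12) (nat_lit 164) (Steps.fwd (nat_lit 8192) (Steps.bwd (nat_lit 4) (Steps.bwd (nat_lit 5) (Steps.fwd (nat_lit 65536) (Steps.fwd (nat_lit 73728) (Steps.bwd (nat_lit 10) (Steps.fwd (nat_lit 90112) (Steps.fwd (nat_lit 98304) (Steps.bwd (nat_lit 14) (Steps.fwd (nat_lit 8192) Steps.nil)))))))))) (nat_lit 162) (nat_lit 2),
  Rule.mk (nat_lit 2) (nat_lit 104) (Steps.bwd (nat_lit 12) (Steps.fwd (nat_lit 16384) (Steps.bwd (nat_lit 4) (Steps.fwd (nat_lit 40960) (Steps.fwd (nat_lit 65536) (Steps.fwd (nat_lit 73728) Steps.nil)))))) (nat_lit 184) (nat_lit 1),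
  Rule.mk (nat_lit 16) (nat_lit 179) (Steps.fwd (nat_lit 8192) (Steps.fwd (nat_lit 16384) (Steps.bwd (nat_lit 1) (Steps.bwd (nat_lit 3) (Steps.fwd (nat_lit 8192) (Steps.fwd (nat_lit 16384) (Steps.bwd (nat_lit 1) (Steps.bwd (nat_lit 2) (Steps.fwd (nat_lit 32768) (Steps.bwd (nat_lit 1) (Steps.fwd (nat_lit 24576) Steps.nil))))))))))) (nat_lit 190) (nat_lit 1),
  Rule.mk (nat_lit 15) (nat_lit 179) (Steps.bwd (nat_lit 3) (Steps.fwd (nat_lit 8192) (Steps.bwd (nat_lit 4) (Steps.bwd (nat_lit 3) (Steps.fwd (nat_lit 8192) (Steps.fwd (nat_lit 24576) (Steps.bwd (nat_lit 1) (Steps.fwd (nat_lit 24576) (Steps.bwd (nat_lit 1) (Steps.bwd (nat_lit 2) (Steps.bwd (nat_lit 1) Steps.nil))))))))))) (nat_lit 191) (nat_lit 0),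
  Rule.mk (nat_lit 15) (nat_lit 179) (Steps.fwd (nat_lit 16384) (Steps.fwd (nat_lit 8192) (Steps.fwd (nat_lit 32768) (Steps.fwd (nat_lit 16384) (Steps.bwd (nat_lit 1) (Steps.fwd (nat_lit 24576) (Steps.bwd (nat_lit 1) (Steps.bwd (nat_lit 2) (Steps.bwd (nat_lit 1) (Steps.bwd (nat_lit 2) (Steps.fwd (nat_lit 8192) Steps.nil))))))))))) (nat_lit 191) (nat_lit 0),
  Rule.mk (nat_lit 0) (nat_lit 194) (Steps.bwd (nat_lit 16) (Steps.fwd (nat_lit 8192) (Steps.fwd (nat_lit 16384) (Steps.bwd (nat_lit 1) (Steps.fwd (nat_lit 16384) (Steps.fwd (nat_lit 8192) (Steps.fwd (nat_lit 16384) (Steps.fwd (nat_lit 8192) (Steps.bwd (nat_lit 2) (Steps.fwd (nat_lit 32768) (Steps.bwd (nat_lit 1) (Steps.fwd (nat_lit 24576) Steps.nil)))))))))))) (nat_lit 190) (nat_lit 0),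
  Rule.mk (nat_lit 18) (nat_lit 179) (Steps.fwd (nat_lit 8192) (Steps.fwd (nat_lit 16384) (Steps.fwd (nat_lit 32768) (Steps.bwd (nat_lit 1) (Steps.fwd (nat_lit 24576) (Steps.bwd (nat_lit 1) (Steps.bwd (nat_lit 2) (Steps.bwd (nat_lit 1) (Steps.fwd (nat_lit 16384) (Steps.fwd (nat_lit 8192) (Steps.fwd (nat_lit 16384) Steps.nil))))))))))) (nat_lit 192) (nat_lit 1),
  Rule.mk (nat_lit 18) (nat_lit 179) (Steps.fwd (nat_lit 8192) (Steps.bwd (nat_lit 3) (Steps.fwd (nat_lit 32768) (Steps.bwd (nat_lit 1) (Steps.bwd (nat_lit 2) (Steps.bwd (nat_lit 1) (Steps.bwd (nat_lit 2) (Steps.fwd (nat_lit 8192) (Steps.fwd (nat_lit 16384) (Steps.fwd (nat_lit 8192) (Steps.bwd (nat_lit 3) Steps.nil))))))))))) (nat_lit 192) (nat_lit 1),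
  Rule.mk (nat_lit 20) (nat_lit 179) (Steps.bwd (nat_lit 1) (Steps.fwd (nat_lit 24576) (Steps.bwd (nat_lit 1) (Steps.bwd (nat_lit 2) (Steps.bwd (nat_lit 1) (Steps.fwd (nat_lit 16384) (Steps.fwd (nat_lit 8192) (Steps.fwd (nat_lit 16384) (Steps.fwd (nat_lit 8192) (Steps.bwd (nat_lit 4) (Steps.fwd (nat_lit 24576) Steps.nil))))))))))) (nat_lit 194) (nat_lit 1),
  Rule.mk (nat_lit 16) (nat_lit 179) (Steps.fwd (nat_lit 8192) (Steps.fwd (nat_lit 16384) (Steps.fwd (nat_lit 8192) (Steps.bwd (nat_lit 3) (Steps.fwd (nat_lit 8192) (Steps.bwd (nat_lit 3) (Steps.fwd (nat_lit 8192) (Steps.bwd (nat_lit 2) (Steps.bwd (nat_lit 4) (Steps.fwd (nat_lit 8192) (Steps.bwd (nat_lit 2) Steps.nil))))))))))) (nat_lit 190) (nat_lit 1),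
  Rule.mk (nat_lit 0) (nat_lit 194) (Steps.bwd (nat_lit 15) (Steps.bwd (nat_lit 3) (Steps.fwd (nat_lit 8192) (Steps.bwd (nat_lit 4) (Steps.fwd (nat_lit 16384) (Steps.fwd (nat_lit 8192) (Steps.bwd (nat_lit 2) (Steps.bwd (nat_lit 1) (Steps.bwd (nat_lit 2) (Steps.fwd (nat_lit 8192) (Steps.fwd (nat_lit 24576) (Steps.fwd (nat_lit 8192) Steps.nil)))))))))))) (nat_lit 191) (nat_lit 11),
  Rule.mk (nat_lit 0) (nat_lit 194) (Steps.bwd (nat_lit 18) (Steps.bwd (nat_lit 1) (Steps.bwd (nat_lit 3) (Steps.bwd (nat_lit 4) (Steps.bwd (nat_lit 1) (Steps.bwd (nat_lit 2) (Steps.fwd (nat_lit 8192) (Steps.bwd (nat_lit 2) (Steps.bwd (nat_lit 1) (Steps.fwd (nat_lit 16384) (Steps.fwd (nat_lit 8192) (Steps.bwd (nat_lit 3) Steps.nil)))))))))))) (nat_lit 192) (nat_lit 0),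
  Rule.mk (nat_lit 18) (nat_lit 179) (Steps.fwd (nat_lit 8192) (Steps.fwd (nat_lit 16384) (Steps.bwd (nat_lit 4) (Steps.fwd (nat_lit 8192) (Steps.bwd (nat_lit 2) (Steps.bwd (nat_lit 1) (Steps.bwd (nat_lit 2) (Steps.fwd (nat_lit 8192) (Steps.bwd (nat_lit 3) (Steps.bwd (nat_lit 1) (Steps.bwd (nat_lit 3) Steps.nil))))))))))) (nat_lit 192) (nat_lit 1),
  Rule.mk (nat_lit 0) (nat_lit 194) (Steps.bwd (nat_lit 17) (Steps.bwd (nat_lit 2) (Steps.bwd (nat_lit 1) (Steps.fwd (nat_lit 24576) (Steps.bwd (nat_lit 1) (Steps.bwd (nat_lit 3) (Steps.bwd (nat_lit 1) (Steps.bwd (nat_lit 3) (Steps.fwd (nat_lit 8192) (Steps.bwd (nat_lit 4) (Steps.bwd (nat_lit 2) (Steps.bwd (nat_lit 1) Steps.nil)))))))))))) (nat_lit 193) (nat_lit 11),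
  Rule.mk (nat_lit 0) (nat_lit 194) (Steps.bwd (nat_lit 2) (Steps.fwd (nat_lit 8192) (Steps.bwd (nat_lit 2) (Steps.bwd (nat_lit 1) (Steps.fwd (nat_lit 16384) (Steps.fwd (nat_lit 8192) (Steps.bwd (nat_lit 3) (Steps.bwd (nat_lit 1) (Steps.bwd (nat_lit 4) (Steps.bwd (nat_lit 2) (Steps.bwd (nat_lit 1) (Steps.fwd (nat_lit 147456) Steps.nil)))))))))))) (nat_lit 193) (nat_lit 0),
  Rule.mk (nat_lit 20) (nat_lit 179) (Steps.bwd (nat_lit 1) (Steps.bwd (nat_lit 2) (Steps.bwd (nat_lit 1) (Steps.fwd (nat_lit 24576) (Steps.bwd (nat_lit 1) (Steps.bwd (nat_lit 3) (Steps.bwd (nat_lit 1) (Steps.bwd (nat_lit 3) (Steps.fwd (nat_lit 8192) (Steps.bwd (nat_lit 4) (Steps.bwd (nat_lit 2) Steps.nil))))))))))) (nat_lit 194) (nat_lit 1),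
  Rule.mk (nat_lit 20) (nat_lit 179) (Steps.bwd (nat_lit 1) (Steps.bwd (nat_lit 2) (Steps.fwd (nat_lit 8192) (Steps.bwd (nat_lit 2) (Steps.bwd (nat_lit 1) (Steps.fwd (nat_lit 16384) (Steps.fwd (nat_lit 8192) (Steps.bwd (nat_lit 3) (Steps.bwd (nat_lit 1) (Steps.bwd (nat_lit 4) (Steps.bwd (nat_lit 2) Steps.nil))))))))))) (nat_lit 194) (nat_lit 1),
  Rule.mk (nat_lit 20) (nat_lit 179) (Steps.fwd (nat_lit 8192) (Steps.bwd (nat_lit 2) (Steps.bwd (nat_lit 1) (Steps.bwd (nat_lit 2) (Steps.fwd (nat_lit 8192) (Steps.bwd (nat_lit 3) (Steps.bwd (nat_lit 1) (Steps.bwd (nat_lit 3) (Steps.fwd (nat_lit 8192) (Steps.fwd (nat_lit 32768) (Steps.bwd (nat_lit 2) Steps.nil))))))))))) (nat_lit 194) (nat_lit 1),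
  Rule.mk (nat_lit 0) (nat_lit 194) (Steps.bwd (nat_lit 19) (Steps.bwd (nat_lit 3) (Steps.bwd (nat_lit 4) (Steps.bwd (nat_lit 1) (Steps.bwd (nat_lit 2) (Steps.fwd (nat_lit 8192) (Steps.bwd (nat_lit 2) (Steps.bwd (nat_lit 1) (Steps.fwd (nat_lit 16384) (Steps.fwd (nat_lit 8192) (Steps.bwd (nat_lit 3) (Steps.bwd (nat_lit 1) Steps.nil)))))))))))) (nat_lit 195) (nat_lit 11),
  Rule.mk (nat_lit 19) (nat_lit 179) (Steps.fwd (nat_lit 16384) (Steps.bwd (nat_lit 4) (Steps.fwd (nat_lit 8192) (Steps.bwd (nat_lit 2) (Steps.bwd (nat_lit 1) (Steps.bwd (nat_lit 2) (Steps.fwd (nat_lit 8192) (Steps.bwd (nat_lit 3) (Steps.bwd (nat_lit 1) (Steps.bwd (nat_lit 3) (Steps.fwd (nat_lit 8192) Steps.nil))))))))))) (nat_lit 195) (nat_lit 0),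
  Rule.mk (nat_lit 2) (nat_lit 179) (Steps.bwd (nat_lit 16) (Steps.bwd (nat_lit 1) (Steps.bwd (nat_lit 3) (Steps.bwd (nat_lit 1) (Steps.bwd (nat_lit 3) (Steps.fwd (nat_lit 8192) (Steps.bwd (nat_lit 3) (Steps.fwd (nat_lit 8192) (Steps.bwd (nat_lit 2) (Steps.bwd (nat_lit 4) (Steps.fwd (nat_lit 8192) Steps.nil))))))))))) (nat_lit 190) (nat_lit 0),
  Rule.mk (nat_lit 9) (nat_lit 134) (Steps.bwd (nat_lit 3) (Steps.fwd (nat_lit 32768) (Steps.fwd (nat_lit 40960) (Steps.bwd (nat_lit 8) (Steps.fwd (nat_lit 73728) (Steps.fwd (nat_lit 90112) (Steps.fwd (nat_lit 114688) (Steps.bwd (nat_lit 2) Steps.nil)))))))) (nat_lit 178) (nat_lit 2),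
  Rule.mk (nat_lit 13) (nat_lit 134) (Steps.bwd (nat_lit 3) (Steps.bwd (nat_lit 6) (Steps.bwd (nat_lit 10) (Steps.bwd (nat_lit 11) (Steps.fwd (nat_lit 98304) (Steps.fwd (nat_lit 106496) (Steps.fwd (nat_lit 114688) (Steps.bwd (nat_lit 2) Steps.nil)))))))) (nat_lit 186) (nat_lit 2),
  Rule.mk (nat_lit 5) (nat_lit 149) (Steps.fwd (nat_lit 16384) (Steps.bwd (nat_lit 4) (Steps.fwd (nat_lit 40960) (Steps.bwd (nat_lit 8) (Steps.bwd (nat_lit 9) (Steps.fwd (nat_lit 98304) (Steps.fwd (nat_lit 106496) (Steps.fwd (nat_lit 114688) (Steps.bwd (nat_lit 2) Steps.nil))))))))) (nat_lit 170) (nat_lit 2),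
  Rule.mk (nat_lit 6) (nat_lit 164) (Steps.bwd (nat_lit 3) (Steps.bwd (nat_lit 5) (Steps.bwd (nat_lit 6) (Steps.bwd (nat_lit 9) (Steps.bwd (nat_lit 10) (Steps.bwd (nat_lit 11) (Steps.fwd (nat_lit 98304) (Steps.fwd (nat_lit 106496) (Steps.fwd (nat_lit 114688) (Steps.bwd (nat_lit 2) Steps.nil)))))))))) (nat_lit 172) (nat_lit 2),
  Rule.mk (nat_lit 0) (nat_lit 194) (Steps.bwd (nat_lit 15) (Steps.fwd (nat_lit 16384) (Steps.bwd (nat_lit 1) (Steps.fwd (nat_lit 32768) (Steps.fwd (nat_lit 16384) (Steps.bwd (nat_lit 1) (Steps.bwd (nat_lit 2) (Steps.bwd (nat_lit 1) (Steps.fwd (nat_lit 24576) (Steps.bwd (nat_lit 1) (Steps.bwd (nat_lit 2) (Steps.bwd (nat_lit 1) Steps.nil)))))))))))) (nat_lit 191) (nat_lit 11),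
  Rule.mk (nat_lit 1) (nat_lit 539) (Steps.bwd (nat_lit 3) (Steps.fwd (nat_lit 8192) (Steps.bwd (nat_lit 3) (Steps.bwd (nat_lit 1) (Steps.fwd (nat_lit 24576) (Steps.fwd (nat_lit 8192) (Steps.bwd (nat_lit 2) (Steps.bwd (nat_lit 1) (Steps.fwd (nat_lit 16384) (Steps.bwd (nat_lit 1) (Steps.bwd (nat_lit 2) (Steps.fwd (nat_lit 8192) (Steps.bwd (nat_lit 2) (Steps.fwd (nat_lit 8192) (Steps.bwd (nat_lit 3) (Steps.bwd (nat_lit 1) (Steps.fwd (nat_lit 24576) (Steps.fwd (nat_lit 8192) (Steps.fwd (nat_lit 24576) (Steps.bwd (nat_lit 1) (Steps.bwd (nat_lit 3) (Steps.fwd (nat_lit 8192) (Steps.fwd (nat_lit 24576) (Steps.fwd (nat_lit 8192) (Steps.bwd (nat_lit 3) (Steps.fwd (nat_lit 8192) (Steps.fwd (nat_lit 16384) (Steps.bwd (nat_lit 1) (Steps.bwd (nat_lit 2) (Steps.fwd (nat_lit 8192) (Steps.bwd (nat_lit 3) (Steps.fwd (nat_lit 8192) (Steps.fwd (nat_lit 16384) (Steps.fwd (nat_lit 8192) (Steps.bwd (nat_lit 2)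 Steps.nil))))))))))))))))))))))))))))))))))) (nat_lit 12) (nat_lit 33),
  Rule.mk (nat_lit 14) (nat_lit 89) (Steps.bwd (nat_lit 1) (Steps.bwd (nat_lit 9) (Steps.bwd (nat_lit 1) (Steps.fwd (nat_lit 32768) (Steps.bwd (nat_lit 7) Steps.nil))))) (nat_lit 156) (nat_lit 0),
  Rule.mk (nat_lit 0) (nat_lit 194) (Steps.bwd (nat_lit 15) (Steps.bwd (nat_lit 3) (Steps.fwd (nat_lit 8192) (Steps.fwd (nat_lit 32768) (Steps.bwd (nat_lit 3) (Steps.fwd (nat_lit 8192) (Steps.bwd (nat_lit 2) (Steps.fwd (nat_lit 8192) (Steps.fwd (nat_lit 24576) (Steps.bwd (nat_lit 1) (Steps.fwd (nat_lit 24576) (Steps.bwd (nat_lit 1) Steps.nil)))))))))))) (nat_lit 191) (nat_lit 11),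
  Rule.mk (nat_lit 0) (nat_lit 194) (Steps.bwd (nat_lit 16) (Steps.fwd (nat_lit 8192) (Steps.bwd (nat_lit 3) (Steps.bwd (nat_lit 1) (Steps.fwd (nat_lit 16384) (Steps.bwd (nat_lit 1) (Steps.bwd (nat_lit 3) (Steps.fwd (nat_lit 8192) (Steps.bwd (nat_lit 2) (Steps.fwd (nat_lit 32768) (Steps.bwd (nat_lit 1) (Steps.bwd (nat_lit 2) Steps.nil)))))))))))) (nat_lit 190) (nat_lit 0),
  Rule.mk (nat_lit 0) (nat_lit 194) (Steps.bwd (nat_lit 16) (Steps.bwd (nat_lit 1) (Steps.fwd (nat_lit 16384) (Steps.bwd (nat_lit 1) (Steps.bwd (nat_lit 3) (Steps.fwd (nat_lit 8192) (Steps.bwd (nat_lit 3) (Steps.bwd (nat_lit 1) (Steps.fwd (nat_lit 24576) (Steps.bwd (nat_lit 4) (Steps.bwd (nat_lit 1) (Steps.fwd (nat_lit 24576) Steps.nil)))))))))))) (nat_lit 190) (nat_lit 0),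
  Rule.mk (nat_lit 16) (nat_lit 179) (Steps.bwd (nat_lit 1) (Steps.bwd (nat_lit 3) (Steps.fwd (nat_lit 8192) (Steps.bwd (nat_lit 3) (Steps.bwd (nat_lit 1) (Steps.bwd (nat_lit 3) (Steps.fwd (nat_lit 8192) (Steps.bwd (nat_lit 2) (Steps.fwd (nat_lit 32768) (Steps.bwd (nat_lit 1) (Steps.bwd (nat_lit 2) Steps.nil))))))))))) (nat_lit 190) (nat_lit 1),
  Rule.mk (nat_lit 15) (nat_lit 179) (Steps.bwd (nat_lit 3) (Steps.fwd (nat_lit 8192) (Steps.fwd (nat_lit 32768) (Steps.bwd (nat_lit 3) (Steps.fwd (nat_lit 8192) (Steps.fwd (nat_lit 24576) (Steps.fwd (nat_lit 8192) (Steps.bwd (nat_lit 2) (Steps.fwd (nat_lit 8192) (Steps.bwd (nat_lit 2) (Steps.bwd (nat_lit 1) Steps.nil))))))))))) (nat_lit 191) (nat_lit 0),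
  Rule.mk (nat_lit 0) (nat_lit 194) (Steps.fwd (nat_lit 8192) (Steps.bwd (nat_lit 3) (Steps.fwd (nat_lit 8192) (Steps.fwd (nat_lit 16384) (Steps.bwd (nat_lit 1) (Steps.fwd (nat_lit 16384) (Steps.bwd (nat_lit 1) (Steps.fwd (nat_lit 24576) (Steps.fwd (nat_lit 32768) (Steps.fwd (nat_lit 8192) (Steps.fwd (nat_lit 24576) (Steps.fwd (nat_lit 122880) Steps.nil)))))))))))) (nat_lit 190) (nat_lit 1),
  Rule.mk (nat_lit 0) (nat_lit 194) (Steps.bwd (nat_lit 15) (Steps.fwd (nat_lit 16384) (Steps.bwd (nat_lit 1) (Steps.fwd (nat_lit 32768) (Steps.fwd (nat_lit 16384) (Steps.fwd (nat_lit 8192) (Steps.bwd (nat_lit 2) (Steps.bwd (nat_lit 1) (Steps.fwd (nat_lit 24576) (Steps.bwd (nat_lit 1) (Steps.fwd (nat_lit 24576) (Steps.bwd (nat_lit 1) Steps.nil)))))))))))) (nat_lit 191) (nat_lit 11),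
  Rule.mk (nat_lit 0) (nat_lit 194) (Steps.bwd (nat_lit 15) (Steps.bwd (nat_lit 3) (Steps.fwd (nat_lit 8192) (Steps.fwd (nat_lit 32768) (Steps.fwd (nat_lit 16384) (Steps.bwd (nat_lit 1) (Steps.fwd (nat_lit 24576) (Steps.bwd (nat_lit 1) (Steps.fwd (nat_lit 24576) (Steps.bwd (nat_lit 1) (Steps.fwd (nat_lit 24576) (Steps.fwd (nat_lit 8192) Steps.nil)))))))))))) (nat_lit 191) (nat_lit 11),
  Rule.mk (nat_lit 0) (nat_lit 194) (Steps.bwd (nat_lit 16) (Steps.bwd (nat_lit 1) (Steps.fwd (nat_lit 16384) (Steps.fwd (nat_lit 8192) (Steps.bwd (nat_lit 3) (Steps.fwd (nat_lit 8192) (Steps.bwd (nat_lit 3) (Steps.fwd (nat_lit 8192) (Steps.bwd (nat_lit 2) (Steps.bwd (nat_lit 4) (Steps.fwd (nat_lit 8192) (Steps.bwd (nat_lit 2) Steps.nil)))))))))))) (nat_lit 190) (nat_lit 0),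
  Rule.mk (nat_lit 0) (nat_lit 194) (Steps.fwd (nat_lit 8192) (Steps.fwd (nat_lit 16384) (Steps.bwd (nat_lit 4) (Steps.fwd (nat_lit 8192) (Steps.bwd (nat_lit 2) (Steps.bwd (nat_lit 1) (Steps.fwd (nat_lit 24576) (Steps.bwd (nat_lit 1) (Steps.fwd (nat_lit 16384) (Steps.bwd (nat_lit 1) (Steps.bwd (nat_lit 3) (Steps.fwd (nat_lit 139264) Steps.nil)))))))))))) (nat_lit 192) (nat_lit 1),
  Rule.mk (nat_lit 0) (nat_lit 194) (Steps.bwd (nat_lit 18) (Steps.bwd (nat_lit 1) (Steps.fwd (nat_lit 16384) (Steps.fwd (nat_lit 32768) (Steps.fwd (nat_lit 8192) (Steps.bwd (nat_lit 2) (Steps.fwd (nat_lit 8192) (Steps.bwd (nat_lit 2) (Steps.bwd (nat_lit 1) (Steps.bwd (nat_lit 3) (Steps.fwd (nat_lit 8192) (Steps.bwd (nat_lit 3) Steps.nil)))))))))))) (nat_lit 192) (nat_lit 0),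
  Rule.mk (nat_lit 0) (nat_lit 194) (Steps.bwd (nat_lit 17) (Steps.fwd (nat_lit 24576) (Steps.bwd (nat_lit 1) (Steps.bwd (nat_lit 2) (Steps.fwd (nat_lit 8192) (Steps.bwd (nat_lit 3) (Steps.fwd (nat_lit 8192) (Steps.fwd (nat_lit 16384) (Steps.bwd (nat_lit 1) (Steps.fwd (nat_lit 32768) (Steps.bwd (nat_lit 2) (Steps.fwd (nat_lit 8192) Steps.nil)))))))))))) (nat_lit 193) (nat_lit 11),
  Rule.mk (nat_lit 0) (nat_lit 194) (Steps.bwd (nat_lit 18) (Steps.fwd (nat_lit 8192) (Steps.bwd (nat_lit 3) (Steps.fwd (nat_lit 32768) (Steps.bwd (nat_lit 1) (Steps.fwd (nat_lit 24576) (Steps.bwd (nat_lit 1) (Steps.fwd (nat_lit 24576) (Steps.bwd (nat_lit 1) (Steps.fwd (nat_lit 16384) (Steps.bwd (nat_lit 1) (Steps.fwd (nat_lit 16384) Steps.nil)))))))))))) (nat_lit 192) (nat_lit 0),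
  Rule.mk (nat_lit 0) (nat_lit 194) (Steps.bwd (nat_lit 17) (Steps.bwd (nat_lit 2) (Steps.fwd (nat_lit 8192) (Steps.bwd (nat_lit 2) (Steps.fwd (nat_lit 8192) (Steps.bwd (nat_lit 3) (Steps.bwd (nat_lit 1) (Steps.fwd (nat_lit 16384) (Steps.bwd (nat_lit 1) (Steps.fwd (nat_lit 32768) (Steps.bwd (nat_lit 2) (Steps.bwd (nat_lit 1) Steps.nil)))))))))))) (nat_lit 193) (nat_lit 11),
  Rule.mk (nat_lit 17) (nat_lit 179) (Steps.bwd (nat_lit 2) (Steps.bwd (nat_lit 1) (Steps.fwd (nat_lit 24576) (Steps.bwd (nat_lit 1) (Steps.fwd (nat_lit 16384) (Steps.bwd (nat_lit 1) (Steps.bwd (nat_lit 3) (Steps.fwd (nat_lit 8192) (Steps.bwd (nat_lit 4) (Steps.fwd (nat_lit 24576) (Steps.bwd (nat_lit 1) Steps.nil))))))))))) (nat_lit 193) (nat_lit 0),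
  Rule.mk (nat_lit 0) (nat_lit 194) (Steps.bwd (nat_lit 18) (Steps.fwd (nat_lit 8192) (Steps.fwd (nat_lit 16384) (Steps.bwd (nat_lit 4) (Steps.bwd (nat_lit 1) (Steps.fwd (nat_lit 24576) (Steps.bwd (nat_lit 1) (Steps.bwd (nat_lit 2) (Steps.fwd (nat_lit 8192) (Steps.bwd (nat_lit 3) (Steps.fwd (nat_lit 8192) (Steps.fwd (nat_lit 16384) Steps.nil)))))))))))) (nat_lit 192) (nat_lit 0),
  Rule.mk (nat_lit 0) (nat_lit 194) (Steps.bwd (nat_lit 19) (Steps.fwd (nat_lit 16384) (Steps.bwd (nat_lit 4) (Steps.fwd (nat_lit 8192) (Steps.bwd (nat_lit 2) (Steps.fwd (nat_lit 8192) (Steps.fwd (nat_lit 24576) (Steps.bwd (nat_lit 1) (Steps.fwd (nat_lit 16384) (Steps.bwd (nat_lit 1) (Steps.fwd (nat_lit 16384) (Steps.bwd (nat_lit 1) Steps.nil)))))))))))) (nat_lit 195) (nat_lit 11),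
  Rule.mk (nat_lit 20) (nat_lit 179) (Steps.fwd (nat_lit 8192) (Steps.bwd (nat_lit 2) (Steps.bwd (nat_lit 1) (Steps.fwd (nat_lit 24576) (Steps.bwd (nat_lit 1) (Steps.fwd (nat_lit 16384) (Steps.bwd (nat_lit 1) (Steps.bwd (nat_lit 3) (Steps.fwd (nat_lit 8192) (Steps.bwd (nat_lit 4) (Steps.fwd (nat_lit 24576) Steps.nil))))))))))) (nat_lit 194) (nat_lit 1),
  Rule.mk (nat_lit 0) (nat_lit 194) (Steps.bwd (nat_lit 19) (Steps.fwd (nat_lit 16384) (Steps.bwd (nat_lit 4) (Steps.fwd (nat_lit 8192) (Steps.fwd (nat_lit 24576) (Steps.bwd (nat_lit 1) (Steps.fwd (nat_lit 24576) (Steps.fwd (nat_lit 8192) (Steps.fwd (nat_lit 16384) (Steps.bwd (nat_lit 1) (Steps.fwd (nat_lit 16384) (Steps.bwd (nat_lit 1) Steps.nil)))))))))))) (nat_lit 195) (nat_lit 11),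
  Rule.mk (nat_lit 20) (nat_lit 179) (Steps.bwd (nat_lit 1) (Steps.fwd (nat_lit 24576) (Steps.bwd (nat_lit 1) (Steps.fwd (nat_lit 24576) (Steps.bwd (nat_lit 1) (Steps.fwd (nat_lit 16384) (Steps.bwd (nat_lit 1) (Steps.fwd (nat_lit 16384) (Steps.bwd (nat_lit 1) (Steps.fwd (nat_lit 32768) (Steps.bwd (nat_lit 2) Steps.nil))))))))))) (nat_lit 194) (nat_lit 1)]
noncomputable def R_130 : List (Rule) := [Rule.mk (nat_lit 0) (nat_lit 194) (Steps.fwd (nat_lit 16384) (Steps.bwd (nat_lit 4) (Steps.fwd (nat_lit 8192) (Steps.bwd (nat_lit 2) (Steps.bwd (nat_lit 1) (Steps.fwd (nat_lit 24576) (Steps.bwd (nat_lit 1) (Steps.fwd (nat_lit 16384) (Steps.bwd (nat_lit 1) (Steps.bwd (nat_lit 3) (Steps.fwd (nat_lit 8192) (Steps.fwd (nat_lit 163840) Steps.nil)))))))))))) (nat_lit 195) (nat_lit 0),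
  Rule.mk (nat_lit 0) (nat_lit 194) (Steps.fwd (nat_lit 8192) (Steps.fwd (nat_lit 24576) (Steps.bwd (nat_lit 1) (Steps.fwd (nat_lit 24576) (Steps.fwd (nat_lit 8192) (Steps.fwd (nat_lit 16384) (Steps.bwd (nat_lit 1) (Steps.fwd (nat_lit 16384) (Steps.bwd (nat_lit 1) (Steps.bwd (nat_lit 4) (Steps.bwd (nat_lit 2) (Steps.fwd (nat_lit 155648) Steps.nil)))))))))))) (nat_lit 194) (nat_lit 1),
  Rule.mk (nat_lit 0) (nat_lit 194) (Steps.bwd (nat_lit 20) (Steps.bwd (nat_lit 1) (Steps.fwd (nat_lit 24576) (Steps.bwd (nat_lit 1) (Steps.bwd (nat_lit 2) (Steps.fwd (nat_lit 8192) (Steps.bwd (nat_lit 3) (Steps.fwd (nat_lit 8192) (Steps.fwd (nat_lit 16384) (Steps.bwd (nat_lit 1) (Steps.fwd (nat_lit 32768) (Steps.bwd (nat_lit 2) Steps.nil)))))))))))) (nat_lit 194) (nat_lit 0),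
  Rule.mk (nat_lit 19) (nat_lit 179) (Steps.bwd (nat_lit 3) (Steps.fwd (nat_lit 32768) (Steps.bwd (nat_lit 1) (Steps.fwd (nat_lit 24576) (Steps.bwd (nat_lit 1) (Steps.fwd (nat_lit 24576) (Steps.bwd (nat_lit 1) (Steps.fwd (nat_lit 16384) (Steps.bwd (nat_lit 1) (Steps.fwd (nat_lit 16384) (Steps.bwd (nat_lit 1) Steps.nil))))))))))) (nat_lit 195) (nat_lit 0),
  Rule.mk (nat_lit 0) (nat_lit 194) (Steps.bwd (nat_lit 18) (Steps.bwd (nat_lit 1) (Steps.fwd (nat_lit 16384) (Steps.bwd (nat_lit 4) (Steps.fwd (nat_lit 8192) (Steps.bwd (nat_lit 2) (Steps.fwd (nat_lit 8192) (Steps.bwd (nat_lit 2) (Steps.bwd (nat_lit 1) (Steps.bwd (nat_lit 3) (Steps.bwd (nat_lit 1) (Steps.fwd (nat_lit 16384) Steps.nil)))))))))))) (nat_lit 192) (nat_lit 0),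
  Rule.mk (nat_lit 19) (nat_lit 179) (Steps.fwd (nat_lit 16384) (Steps.bwd (nat_lit 4) (Steps.fwd (nat_lit 8192) (Steps.bwd (nat_lit 2) (Steps.fwd (nat_lit 8192) (Steps.bwd (nat_lit 2) (Steps.bwd (nat_lit 1) (Steps.bwd (nat_lit 3) (Steps.bwd (nat_lit 1) (Steps.fwd (nat_lit 16384) (Steps.fwd (nat_lit 8192) Steps.nil))))))))))) (nat_lit 195) (nat_lit 0),
  Rule.mk (nat_lit 5) (nat_lit 104) (Steps.bwd (nat_lit 2) (Steps.fwd (nat_lit 57344) (Steps.fwd (nat_lit 16384) (Steps.fwd (nat_lit 114688) (Steps.fwd (nat_lit 106496) (Steps.bwd (nat_lit 7) Steps.nil)))))) (nat_lit 175) (nat_lit 4),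
  Rule.mk (nat_lit 6) (nat_lit 104) (Steps.bwd (nat_lit 2) (Steps.bwd (nat_lit 10) (Steps.fwd (nat_lit 16384) (Steps.bwd (nat_lit 14) (Steps.bwd (nat_lit 12) (Steps.fwd (nat_lit 90112) Steps.nil)))))) (nat_lit 181) (nat_lit 4),
  Rule.mk (nat_lit 9) (nat_lit 104) (Steps.bwd (nat_lit 2) (Steps.fwd (nat_lit 98304) (Steps.fwd (nat_lit 16384) (Steps.fwd (nat_lit 32768) (Steps.bwd (nat_lit 5) (Steps.bwd (nat_lit 8) Steps.nil)))))) (nat_lit 184) (nat_lit 0),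
  Rule.mk (nat_lit 17) (nat_lit 179) (Steps.fwd (nat_lit 24576) (Steps.fwd (nat_lit 8192) (Steps.fwd (nat_lit 24576) (Steps.bwd (nat_lit 1) (Steps.bwd (nat_lit 3) (Steps.bwd (nat_lit 1) (Steps.fwd (nat_lit 16384) (Steps.fwd (nat_lit 8192) (Steps.bwd (nat_lit 4) (Steps.bwd (nat_lit 2) (Steps.bwd (nat_lit 1) Steps.nil))))))))))) (nat_lit 193) (nat_lit 0),
  Rule.mk (nat_lit 0) (nat_lit 194) (Steps.bwd (nat_lit 20) (Steps.bwd (nat_lit 1) (Steps.fwd (nat_lit 24576) (Steps.fwd (nat_lit 8192) (Steps.fwd (nat_lit 24576) (Steps.bwd (nat_lit 1) (Steps.bwd (nat_lit 3) (Steps.bwd (nat_lit 1) (Steps.fwd (nat_lit 16384) (Steps.fwd (nat_lit 8192) (Steps.bwd (nat_lit 4) (Steps.bwd (nat_lit 2) Steps.nil)))))))))))) (nat_lit 194) (nat_lit 0),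
  Rule.mk (nat_lit 1) (nat_lit 179) (Steps.bwd (nat_lit 2) (Steps.bwd (nat_lit 1) (Steps.fwd (nat_lit 24576) (Steps.bwd (nat_lit 1) (Steps.bwd (nat_lit 3) (Steps.fwd (nat_lit 8192) (Steps.bwd (nat_lit 3) (Steps.bwd (nat_lit 1) (Steps.fwd (nat_lit 32768) (Steps.fwd (nat_lit 24576) (Steps.fwd (nat_lit 155648) Steps.nil))))))))))) (nat_lit 194) (nat_lit 2),
  Rule.mk (nat_lit 0) (nat_lit 554) (Steps.bwd (nat_lit 2) (Steps.bwd (nat_lit 1) (Steps.fwd (nat_lit 24576) (Steps.bwd (nat_lit 1) (Steps.bwd (nat_lit 3) (Steps.fwd (nat_lit 8192) (Steps.fwd (nat_lit 24576) (Steps.bwd (nat_lit 1) (Steps.bwd (nat_lit 2) (Steps.fwd (nat_lit 8192) (Steps.bwd (nat_lit 3) (Steps.bwd (nat_lit 1) (Steps.fwd (nat_lit 24576) (Steps.fwd (nat_lit 8192) (Steps.fwd (nat_lit 16384) (Steps.bwd (nat_lit 1) (Steps.bwd (nat_lit 3) (Steps.fwd (nat_lit 8192) (Steps.fwd (nat_lit 24576) (Steps.bwd (nat_lit 1) (Steps.fwd (nat_lit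 16384) (Steps.bwd (nat_lit 1) (Steps.fwd (nat_lit 16384) (Steps.bwd (nat_lit 1) (Steps.fwd (nat_lit 24576) (Steps.bwd (nat_lit 1) (Steps.bwd (nat_lit 3) (Steps.bwd (nat_lit 1) (Steps.fwd (nat_lit 16384) (Steps.bwd (nat_lit 1) (Steps.fwd (nat_lit 24576) (Steps.fwd (nat_lit 8192) (Steps.bwd (nat_lit 2) (Steps.fwd (nat_lit 8192) (Steps.fwd (nat_lit 16384) (Steps.fwd (nat_lit 8192) Steps.nil)))))))))))))))))))))))))))))))))))) (nat_lit 12) (nat_lit 7),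
  Rule.mk (nat_lit 16) (nat_lit 179) (Steps.fwd (nat_lit 8192) (Steps.bwd (nat_lit 3) (Steps.fwd (nat_lit 8192) (Steps.bwd (nat_lit 3) (Steps.bwd (nat_lit 1) (Steps.bwd (nat_lit 3) (Steps.fwd (nat_lit 8192) (Steps.bwd (nat_lit 2) (Steps.bwd (nat_lit 4) (Steps.fwd (nat_lit 8192) (Steps.fwd (nat_lit 24576) Steps.nil))))))))))) (nat_lit 190) (nat_lit 1),
  Rule.mk (nat_lit 15) (nat_lit 179) (Steps.fwd (nat_lit 16384) (Steps.fwd (nat_lit 8192) (Steps.bwd (nat_lit 4) (Steps.fwd (nat_lit 16384) (Steps.bwd (nat_lit 1) (Steps.fwd (nat_lit 24576) (Steps.fwd (nat_lit 8192) (Steps.bwd (nat_lit 2) (Steps.fwd (nat_lit 8192) (Steps.bwd (nat_lit 2) (Steps.fwd (nat_lit 8192) Steps.nil))))))))))) (nat_lit 191) (nat_lit 0),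
  Rule.mk (nat_lit 19) (nat_lit 179) (Steps.fwd (nat_lit 16384) (Steps.bwd (nat_lit 4) (Steps.fwd (nat_lit 8192) (Steps.fwd (nat_lit 24576) (Steps.bwd (nat_lit 1) (Steps.fwd (nat_lit 24576) (Steps.bwd (nat_lit 1) (Steps.bwd (nat_lit 3) (Steps.fwd (nat_lit 8192) (Steps.bwd (nat_lit 3) (Steps.bwd (nat_lit 1) Steps.nil))))))))))) (nat_lit 195) (nat_lit 0),
  Rule.mk (nat_lit 0) (nat_lit 194) (Steps.bwd (nat_lit 15) (Steps.fwd (nat_lit 16384) (Steps.fwd (nat_lit 8192) (Steps.fwd (nat_lit 32768) (Steps.bwd (nat_lit 3) (Steps.fwd (nat_lit 8192) (Steps.bwd (nat_lit 2) (Steps.fwd (nat_lit 8192) (Steps.fwd (nat_lit 24576) (Steps.bwd (nat_lit 1) (Steps.fwd (nat_lit 24576) (Steps.bwd (nat_lit 1) Steps.nil)))))))))))) (nat_lit 191) (nat_lit 11),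
  Rule.mk (nat_lit 0) (nat_lit 194) (Steps.bwd (nat_lit 15) (Steps.bwd (nat_lit 3) (Steps.fwd (nat_lit 8192) (Steps.bwd (nat_lit 4) (Steps.fwd (nat_lit 16384) (Steps.fwd (nat_lit 8192) (Steps.bwd (nat_lit 2) (Steps.fwd (nat_lit 8192) (Steps.bwd (nat_lit 2) (Steps.fwd (nat_lit 8192) (Steps.fwd (nat_lit 24576) (Steps.bwd (nat_lit 1) Steps.nil)))))))))))) (nat_lit 191) (nat_lit 11),
  Rule.mk (nat_lit 18) (nat_lit 179) (Steps.bwd (nat_lit 1) (Steps.bwd (nat_lit 3) (Steps.bwd (nat_lit 4) (Steps.bwd (nat_lit 1) (Steps.fwd (nat_lit 24576) (Steps.fwd (nat_lit 8192) (Steps.bwd (nat_lit 2) (Steps.fwd (nat_lit 8192) (Steps.bwd (nat_lit 3) (Steps.fwd (nat_lit 8192) (Steps.fwd (nat_lit 16384) Steps.nil))))))))))) (nat_lit 192) (nat_lit 1),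
  Rule.mk (nat_lit 0) (nat_lit 194) (Steps.bwd (nat_lit 20) (Steps.bwd (nat_lit 1) (Steps.fwd (nat_lit 24576) (Steps.fwd (nat_lit 8192) (Steps.bwd (nat_lit 2) (Steps.fwd (nat_lit 8192) (Steps.bwd (nat_lit 3) (Steps.fwd (nat_lit 8192) (Steps.fwd (nat_lit 16384) (Steps.bwd (nat_lit 1) (Steps.fwd (nat_lit 32768) (Steps.fwd (nat_lit 24576) Steps.nil)))))))))))) (nat_lit 194) (nat_lit 0),
  Rule.mk (nat_lit 19) (nat_lit 179) (Steps.bwd (nat_lit 3) (Steps.bwd (nat_lit 4) (Steps.bwd (nat_lit 1) (Steps.fwd (nat_lit 24576) (Steps.fwd (nat_lit 8192) (Steps.bwd (nat_lit 2) (Steps.fwd (nat_lit 8192) (Steps.bwd (nat_lit 3) (Steps.fwd (nat_lit 8192) (Steps.fwd (nat_lit 16384) (Steps.bwd (nat_lit 1) Steps.nil))))))))))) (nat_lit 195) (nat_lit 0),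
  Rule.mk (nat_lit 20) (nat_lit 179) (Steps.fwd (nat_lit 8192) (Steps.bwd (nat_lit 2) (Steps.fwd (nat_lit 8192) (Steps.bwd (nat_lit 2) (Steps.fwd (nat_lit 8192) (Steps.bwd (nat_lit 3) (Steps.bwd (nat_lit 1) (Steps.bwd (nat_lit 3) (Steps.fwd (nat_lit 8192) (Steps.bwd (nat_lit 4) (Steps.bwd (nat_lit 2) Steps.nil))))))))))) (nat_lit 194) (nat_lit 1),
  Rule.mk (nat_lit 0) (nat_lit 194) (Steps.bwd (nat_lit 20) (Steps.fwd (nat_lit 8192) (Steps.bwd (nat_lit 2) (Steps.fwd (nat_lit 8192) (Steps.bwd (nat_lit 2) (Steps.fwd (nat_lit 8192) (Steps.fwd (nat_lit 16384) (Steps.bwd (nat_lit 1) (Steps.fwd (nat_lit 16384) (Steps.bwd (nat_lit 1) (Steps.fwd (nat_lit 32768) (Steps.fwd (nat_lit 24576) Steps.nil)))))))))))) (nat_lit 194) (nat_lit 0),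
  Rule.mk (nat_lit 2) (nat_lit 134) (Steps.bwd (nat_lit 13) (Steps.bwd (nat_lit 3) (Steps.fwd (nat_lit 49152) (Steps.bwd (nat_lit 10) (Steps.fwd (nat_lit 90112) (Steps.bwd (nat_lit 12) (Steps.bwd (nat_lit 13) (Steps.fwd (nat_lit 114688) Steps.nil)))))))) (nat_lit 186) (nat_lit 1),
  Rule.mk (nat_lit 16) (nat_lit 179) (Steps.fwd (nat_lit 8192) (Steps.bwd (nat_lit 3) (Steps.bwd (nat_lit 1) (Steps.bwd (nat_lit 3) (Steps.fwd (nat_lit 8192) (Steps.bwd (nat_lit 3) (Steps.fwd (nat_lit 8192) (Steps.bwd (nat_lit 2) (Steps.bwd (nat_lit 4) (Steps.bwd (nat_lit 1) (Steps.bwd (nat_lit 2) Steps.nil))))))))))) (nat_lit 190) (nat_lit 1),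
  Rule.mk (nat_lit 0) (nat_lit 194) (Steps.bwd (nat_lit 15) (Steps.bwd (nat_lit 3) (Steps.fwd (nat_lit 8192) (Steps.fwd (nat_lit 32768) (Steps.bwd (nat_lit 3) (Steps.fwd (nat_lit 8192) (Steps.bwd (nat_lit 2) (Steps.fwd (nat_lit 8192) (Steps.bwd (nat_lit 2) (Steps.bwd (nat_lit 1) (Steps.bwd (nat_lit 2) (Steps.fwd (nat_lit 8192) Steps.nil)))))))))))) (nat_lit 191) (nat_lit 11),
  Rule.mk (nat_lit 17) (nat_lit 179) (Steps.fwd (nat_lit 24576) (Steps.fwd (nat_lit 8192) (Steps.bwd (nat_lit 2) (Steps.fwd (nat_lit 8192) (Steps.fwd (nat_lit 16384) (Steps.bwd (nat_lit 1) (Steps.bwd (nat_lit 3) (Steps.bwd (nat_lit 1) (Steps.bwd (nat_lit 4) (Steps.bwd (nat_lit 2) (Steps.fwd (nat_lit 8192) Steps.nil))))))))))) (nat_lit 193) (nat_lit 0),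
  Rule.mk (nat_lit 17) (nat_lit 179) (Steps.bwd (nat_lit 2) (Steps.bwd (nat_lit 1) (Steps.bwd (nat_lit 2) (Steps.fwd (nat_lit 8192) (Steps.bwd (nat_lit 3) (Steps.bwd (nat_lit 1) (Steps.fwd (nat_lit 16384) (Steps.fwd (nat_lit 8192) (Steps.bwd (nat_lit 4) (Steps.bwd (nat_lit 2) (Steps.bwd (nat_lit 1) Steps.nil))))))))))) (nat_lit 193) (nat_lit 0),
  Rule.mk (nat_lit 20) (nat_lit 179) (Steps.fwd (nat_lit 8192) (Steps.bwd (nat_lit 2) (Steps.bwd (nat_lit 1) (Steps.bwd (nat_lit 2) (Steps.fwd (nat_lit 8192) (Steps.bwd (nat_lit 3) (Steps.bwd (nat_lit 1) (Steps.fwd (nat_lit 16384) (Steps.fwd (nat_lit 8192) (Steps.bwd (nat_lit 4) (Steps.bwd (nat_lit 2) Steps.nil))))))))))) (nat_lit 194) (nat_lit 1),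
  Rule.mk (nat_lit 19) (nat_lit 179) (Steps.fwd (nat_lit 16384) (Steps.bwd (nat_lit 4) (Steps.fwd (nat_lit 8192) (Steps.bwd (nat_lit 2) (Steps.bwd (nat_lit 1) (Steps.bwd (nat_lit 2) (Steps.fwd (nat_lit 8192) (Steps.bwd (nat_lit 3) (Steps.bwd (nat_lit 1) (Steps.fwd (nat_lit 16384) (Steps.fwd (nat_lit 8192) Steps.nil))))))))))) (nat_lit 195) (nat_lit 0),
  Rule.mk (nat_lit 0) (nat_lit 194) (Steps.bwd (nat_lit 16) (Steps.bwd (nat_lit 1) (Steps.bwd (nat_lit 3) (Steps.fwd (nat_lit 8192) (Steps.fwd (nat_lit 16384) (Steps.bwd (nat_lit 1) (Steps.fwd (nat_lit 16384) (Steps.bwd (nat_lit 1) (Steps.bwd (nat_lit 2) (Steps.fwd (nat_lit 32768) (Steps.bwd (nat_lit 1) (Steps.bwd (nat_lit 2) Steps.nil)))))))))))) (nat_lit 190) (nat_lit 0),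
  Rule.mk (nat_lit 0) (nat_lit 194) (Steps.bwd (nat_lit 16) (Steps.fwd (nat_lit 8192) (Steps.bwd (nat_lit 3) (Steps.fwd (nat_lit 8192) (Steps.fwd (nat_lit 16384) (Steps.fwd (nat_lit 8192) (Steps.bwd (nat_lit 3) (Steps.bwd (nat_lit 1) (Steps.fwd (nat_lit 24576) (Steps.bwd (nat_lit 4) (Steps.fwd (nat_lit 8192) (Steps.fwd (nat_lit 24576) Steps.nil)))))))))))) (nat_lit 190) (nat_lit 0),
  Rule.mk (nat_lit 18) (nat_lit 179) (Steps.bwd (nat_lit 1) (Steps.fwd (nat_lit 16384) (Steps.bwd (nat_lit 4) (Steps.fwd (nat_lit 8192) (Steps.fwd (nat_lit 24576) (Steps.bwd (nat_lit 1) (Steps.bwd (nat_lit 2) (Steps.bwd (nat_lit 1) (Steps.fwd (nat_lit 16384) (Steps.fwd (nat_lit 8192) (Steps.bwd (nat_lit 3) Steps.nil))))))))))) (nat_lit 192) (nat_lit 1),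
  Rule.mk (nat_lit 17) (nat_lit 179) (Steps.bwd (nat_lit 2) (Steps.fwd (nat_lit 8192) (Steps.bwd (nat_lit 2) (Steps.fwd (nat_lit 8192) (Steps.bwd (nat_lit 3) (Steps.bwd (nat_lit 1) (Steps.bwd (nat_lit 3) (Steps.bwd (nat_lit 1) (Steps.bwd (nat_lit 4) (Steps.bwd (nat_lit 2) (Steps.bwd (nat_lit 1) Steps.nil))))))))))) (nat_lit 193) (nat_lit 0),
  Rule.mk (nat_lit 0) (nat_lit 194) (Steps.bwd (nat_lit 18) (Steps.fwd (nat_lit 8192) (Steps.bwd (nat_lit 3) (Steps.fwd (nat_lit 32768) (Steps.bwd (nat_lit 1) (Steps.fwd (nat_lit 24576) (Steps.bwd (nat_lit 1) (Steps.bwd (nat_lit 2) (Steps.fwd (nat_lit 8192) (Steps.fwd (nat_lit 16384) (Steps.fwd (nat_lit 8192) (Steps.bwd (nat_lit 3) Steps.nil)))))))))))) (nat_lit 192) (nat_lit 0),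
  Rule.mk (nat_lit 17) (nat_lit 179) (Steps.bwd (nat_lit 2) (Steps.bwd (nat_lit 1) (Steps.fwd (nat_lit 24576) (Steps.bwd (nat_lit 1) (Steps.bwd (nat_lit 3) (Steps.fwd (nat_lit 8192) (Steps.fwd (nat_lit 16384) (Steps.bwd (nat_lit 1) (Steps.bwd (nat_lit 4) (Steps.bwd (nat_lit 2) (Steps.fwd (nat_lit 8192) Steps.nil))))))))))) (nat_lit 193) (nat_lit 0),
  Rule.mk (nat_lit 0) (nat_lit 194) (Steps.bwd (nat_lit 20) (Steps.fwd (nat_lit 8192) (Steps.bwd (nat_lit 2) (Steps.fwd (nat_lit 8192) (Steps.bwd (nat_lit 2) (Steps.fwd (nat_lit 8192) (Steps.bwd (nat_lit 3) (Steps.bwd (nat_lit 1) (Steps.bwd (nat_lit 3) (Steps.bwd (nat_lit 1) (Steps.bwd (nat_lit 4) (Steps.bwd (nat_lit 2) Steps.nil)))))))))))) (nat_lit 194) (nat_lit 0),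
  Rule.mk (nat_lit 0) (nat_lit 194) (Steps.bwd (nat_lit 20) (Steps.fwd (nat_lit 8192) (Steps.fwd (nat_lit 24576) (Steps.bwd (nat_lit 1) (Steps.bwd (nat_lit 2) (Steps.bwd (nat_lit 1) (Steps.fwd (nat_lit 16384) (Steps.fwd (nat_lit 8192) (Steps.bwd (nat_lit 3) (Steps.fwd (nat_lit 8192) (Steps.bwd (nat_lit 4) (Steps.fwd (nat_lit 24576) Steps.nil)))))))))))) (nat_lit 194) (nat_lit 0),
  Rule.mk (nat_lit 0) (nat_lit 194) (Steps.bwd (nat_lit 19) (Steps.fwd (nat_lit 16384) (Steps.fwd (nat_lit 32768) (Steps.fwd (nat_lit 8192) (Steps.bwd (nat_lit 2) (Steps.fwd (nat_lit 8192) (Steps.fwd (nat_lit 24576) (Steps.fwd (nat_lit 8192) (Steps.bwd (nat_lit 3) (Steps.fwd (nat_lit 8192) (Steps.fwd (nat_lit 16384) (Steps.fwd (nat_lit 8192) Steps.nil)))))))))))) (nat_lit 195) (nat_lit 11),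
  Rule.mk (nat_lit 0) (nat_lit 194) (Steps.bwd (nat_lit 20) (Steps.fwd (nat_lit 8192) (Steps.bwd (nat_lit 2) (Steps.fwd (nat_lit 8192) (Steps.fwd (nat_lit 24576) (Steps.fwd (nat_lit 8192) (Steps.bwd (nat_lit 3) (Steps.fwd (nat_lit 8192) (Steps.fwd (nat_lit 16384) (Steps.fwd (nat_lit 8192) (Steps.bwd (nat_lit 4) (Steps.bwd (nat_lit 2) Steps.nil)))))))))))) (nat_lit 194) (nat_lit 0),
  Rule.mk (nat_lit 15) (nat_lit 179) (Steps.fwd (nat_lit 16384) (Steps.bwd (nat_lit 1) (Steps.bwd (nat_lit 4) (Steps.fwd (nat_lit 16384) (Steps.fwd (nat_lit 8192) (Steps.fwd (nat_lit 24576) (Steps.bwd (nat_lit 1) (Steps.bwd (nat_lit 2) (Steps.fwd (nat_lit 8192) (Steps.fwd (nat_lit 24576) (Steps.bwd (nat_lit 1) Steps.nil))))))))))) (nat_lit 191) (nat_lit 0),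
  Rule.mk (nat_lit 17) (nat_lit 179) (Steps.fwd (nat_lit 24576) (Steps.fwd (nat_lit 8192) (Steps.fwd (nat_lit 24576) (Steps.fwd (nat_lit 8192) (Steps.fwd (nat_lit 16384) (Steps.bwd (nat_lit 1) (Steps.fwd (nat_lit 16384) (Steps.bwd (nat_lit 1) (Steps.fwd (nat_lit 32768) (Steps.fwd (nat_lit 24576) (Steps.bwd (nat_lit 1) Steps.nil))))))))))) (nat_lit 193) (nat_lit 0),
  Rule.mk (nat_lit 2) (nat_lit 164) (Steps.bwd (nat_lit 11) (Steps.bwd (nat_lit 3) (Steps.fwd (nat_lit 32768) (Steps.bwd (nat_lit 5) (Steps.fwd (nat_lit 65536) (Steps.bwd (nat_lit 9) (Steps.bwd (nat_lit 10) (Steps.bwd (nat_lit 11) (Steps.fwd (nat_lit 98304) (Steps.bwd (nat_lit 14) Steps.nil)))))))))) (nat_lit 182) (nat_lit 1),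
  Rule.mk (nat_lit 0) (nat_lit 194) (Steps.fwd (nat_lit 16384) (Steps.fwd (nat_lit 8192) (Steps.bwd (nat_lit 4) (Steps.fwd (nat_lit 16384) (Steps.bwd (nat_lit 1) (Steps.fwd (nat_lit 24576) (Steps.bwd (nat_lit 1) (Steps.bwd (nat_lit 2) (Steps.fwd (nat_lit 8192) (Steps.bwd (nat_lit 2) (Steps.fwd (nat_lit 8192) (Steps.fwd (nat_lit 131072) Steps.nil)))))))))))) (nat_lit 191) (nat_lit 0),
  Rule.mk (nat_lit 0) (nat_lit 194) (Steps.bwd (nat_lit 16) (Steps.fwd (nat_lit 8192) (Steps.bwd (nat_lit 3) (Steps.bwd (nat_lit 1) (Steps.fwd (nat_lit 16384) (Steps.bwd (nat_lit 1) (Steps.fwd (nat_lit 16384) (Steps.fwd (nat_lit 8192) (Steps.fwd (nat_lit 24576) (Steps.bwd (nat_lit 4) (Steps.bwd (nat_lit 1) (Steps.fwd (nat_lit 24576) Steps.nil)))))))))))) (nat_lit 190) (nat_lit 0),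
  Rule.mk (nat_lit 0) (nat_lit 194) (Steps.bwd (nat_lit 18) (Steps.fwd (nat_lit 8192) (Steps.fwd (nat_lit 16384) (Steps.bwd (nat_lit 4) (Steps.bwd (nat_lit 1) (Steps.fwd (nat_lit 24576) (Steps.bwd (nat_lit 1) (Steps.bwd (nat_lit 2) (Steps.fwd (nat_lit 8192) (Steps.fwd (nat_lit 16384) (Steps.fwd (nat_lit 8192) (Steps.fwd (nat_lit 16384) Steps.nil)))))))))))) (nat_lit 192) (nat_lit 0),
  Rule.mk (nat_lit 17) (nat_lit 179) (Steps.fwd (nat_lit 24576) (Steps.bwd (nat_lit 1) (Steps.bwd (nat_lit 2) (Steps.bwd (nat_lit 1) (Steps.fwd (nat_lit 16384) (Steps.bwd (nat_lit 1) (Steps.fwd (nat_lit 16384) (Steps.fwd (nat_lit 8192) (Steps.fwd (nat_lit 32768) (Steps.bwd (nat_lit 2) (Steps.fwd (nat_lit 8192) Steps.nil))))))))))) (nat_lit 193) (nat_lit 0),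
  Rule.mk (nat_lit 0) (nat_lit 194) (Steps.bwd (nat_lit 18) (Steps.bwd (nat_lit 1) (Steps.bwd (nat_lit 3) (Steps.bwd (nat_lit 4) (Steps.bwd (nat_lit 1) (Steps.bwd (nat_lit 2) (Steps.bwd (nat_lit 1) (Steps.bwd (nat_lit 2) (Steps.bwd (nat_lit 1) (Steps.fwd (nat_lit 16384) (Steps.fwd (nat_lit 8192) (Steps.bwd (nat_lit 3) Steps.nil)))))))))))) (nat_lit 192) (nat_lit 0),
  Rule.mk (nat_lit 17) (nat_lit 179) (Steps.bwd (nat_lit 2) (Steps.fwd (nat_lit 8192) (Steps.bwd (nat_lit 2) (Steps.fwd (nat_lit 8192) (Steps.fwd (nat_lit 16384) (Steps.fwd (nat_lit 8192) (Steps.fwd (nat_lit 16384) (Steps.bwd (nat_lit 1) (Steps.fwd (nat_lit 32768) (Steps.bwd (nat_lit 2) (Steps.bwd (nat_lit 1) Steps.nil))))))))))) (nat_lit 193) (nat_lit 0),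
  Rule.mk (nat_lit 20) (nat_lit 179) (Steps.fwd (nat_lit 8192) (Steps.fwd (nat_lit 24576) (Steps.bwd (nat_lit 1) (Steps.bwd (nat_lit 2) (Steps.bwd (nat_lit 1) (Steps.fwd (nat_lit 16384) (Steps.bwd (nat_lit 1) (Steps.fwd (nat_lit 16384) (Steps.fwd (nat_lit 8192) (Steps.fwd (nat_lit 32768) (Steps.bwd (nat_lit 2) Steps.nil))))))))))) (nat_lit 194) (nat_lit 1),
  Rule.mk (nat_lit 20) (nat_lit 179) (Steps.bwd (nat_lit 1) (Steps.fwd (nat_lit 24576) (Steps.bwd (nat_lit 1) (Steps.bwd (nat_lit 2) (Steps.fwd (nat_lit 8192) (Steps.fwd (nat_lit 16384) (Steps.fwd (nat_lit 8192) (Steps.fwd (nat_lit 16384) (Steps.fwd (nat_lit 8192) (Steps.fwd (nat_lit 32768) (Steps.fwd (nat_lit 24576) Steps.nil))))))))))) (nat_lit 194) (nat_lit 1),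
  Rule.mk (nat_lit 20) (nat_lit 179) (Steps.bwd (nat_lit 1) (Steps.bwd (nat_lit 2) (Steps.fwd (nat_lit 8192) (Steps.bwd (nat_lit 2) (Steps.fwd (nat_lit 8192) (Steps.fwd (nat_lit 16384) (Steps.fwd (nat_lit 8192) (Steps.fwd (nat_lit 16384) (Steps.bwd (nat_lit 1) (Steps.fwd (nat_lit 32768) (Steps.bwd (nat_lit 2) Steps.nil))))))))))) (nat_lit 194) (nat_lit 1),
  Rule.mk (nat_lit 0) (nat_lit 194) (Steps.bwd (nat_lit 19) (Steps.fwd (nat_lit 16384) (Steps.bwd (nat_lit 4) (Steps.bwd (nat_lit 1) (Steps.fwd (nat_lit 24576) (Steps.bwd (nat_lit 1) (Steps.bwd (nat_lit 2) (Steps.fwd (nat_lit 8192) (Steps.fwd (nat_lit 16384) (Steps.fwd (nat_lit 8192) (Steps.fwd (nat_lit 16384) (Steps.fwd (nat_lit 8192) Steps.nil)))))))))))) (nat_lit 195) (nat_lit 11),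
  Rule.mk (nat_lit 19) (nat_lit 179) (Steps.fwd (nat_lit 16384) (Steps.fwd (nat_lit 32768) (Steps.bwd (nat_lit 1) (Steps.bwd (nat_lit 2) (Steps.fwd (nat_lit 8192) (Steps.bwd (nat_lit 2) (Steps.fwd (nat_lit 8192) (Steps.fwd (nat_lit 16384) (Steps.fwd (nat_lit 8192) (Steps.fwd (nat_lit 16384) (Steps.bwd (nat_lit 1) Steps.nil))))))))))) (nat_lit 195) (nat_lit 0),
  Rule.mk (nat_lit 0) (nat_lit 194) (Steps.bwd (nat_lit 1) (Steps.fwd (nat_lit 16384) (Steps.fwd (nat_lit 8192) (Steps.bwd (nat_lit 3) (Steps.bwd (nat_lit 1) (Steps.fwd (nat_lit 16384) (Steps.bwd (nat_lit 1) (Steps.bwd (nat_lit 2) (Steps.bwd (nat_lit 4) (Steps.bwd (nat_lit 1) (Steps.fwd (nat_lit 24576) (Steps.fwd (nat_lit 122880) Steps.nil)))))))))))) (nat_lit 190) (nat_lit 1),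
  Rule.mk (nat_lit 0) (nat_lit 194) (Steps.bwd (nat_lit 15) (Steps.bwd (nat_lit 3) (Steps.bwd (nat_lit 1) (Steps.bwd (nat_lit 4) (Steps.fwd (nat_lit 16384) (Steps.bwd (nat_lit 1) (Steps.bwd (nat_lit 2) (Steps.bwd (nat_lit 1) (Steps.bwd (nat_lit 2) (Steps.bwd (nat_lit 1) (Steps.bwd (nat_lit 2) (Steps.fwd (nat_lit 8192) Steps.nil)))))))))))) (nat_lit 191) (nat_lit 11),
  Rule.mk (nat_lit 0) (nat_lit 194) (Steps.bwd (nat_lit 15) (Steps.fwd (nat_lit 16384) (Steps.fwd (nat_lit 8192) (Steps.fwd (nat_lit 32768) (Steps.bwd (nat_lit 3) (Steps.bwd (nat_lit 1) (Steps.bwd (nat_lit 2) (Steps.bwd (nat_lit 1) (Steps.bwd (nat_lit 2) (Steps.fwd (nat_lit 8192) (Steps.fwd (nat_lit 24576) (Steps.bwd (nat_lit 1) Steps.nil)))))))))))) (nat_lit 191) (nat_lit 11),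
  Rule.mk (nat_lit 0) (nat_lit 194) (Steps.fwd (nat_lit 16384) (Steps.bwd (nat_lit 1) (Steps.fwd (nat_lit 32768) (Steps.fwd (nat_lit 16384) (Steps.bwd (nat_lit 1) (Steps.bwd (nat_lit 2) (Steps.fwd (nat_lit 8192) (Steps.fwd (nat_lit 24576) (Steps.bwd (nat_lit 1) (Steps.bwd (nat_lit 2) (Steps.fwd (nat_lit 8192) (Steps.fwd (nat_lit 131072) Steps.nil)))))))))))) (nat_lit 191) (nat_lit 0),
  Rule.mk (nat_lit 0) (nat_lit 194) (Steps.bwd (nat_lit 18) (Steps.bwd (nat_lit 1) (Steps.fwd (nat_lit 16384) (Steps.fwd (nat_lit 32768) (Steps.bwd (nat_lit 1) (Steps.bwd (nat_lit 2) (Steps.fwd (nat_lit 8192) (Steps.fwd (nat_lit 24576) (Steps.bwd (nat_lit 1) (Steps.fwd (nat_lit 16384) (Steps.bwd (nat_lit 1) (Steps.bwd (nat_lit 3) Steps.nil)))))))))))) (nat_lit 192) (nat_lit 0),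
  Rule.mk (nat_lit 0) (nat_lit 194) (Steps.bwd (nat_lit 17) (Steps.bwd (nat_lit 2) (Steps.bwd (nat_lit 1) (Steps.bwd (nat_lit 2) (Steps.fwd (nat_lit 8192) (Steps.bwd (nat_lit 3) (Steps.bwd (nat_lit 1) (Steps.bwd (nat_lit 3) (Steps.fwd (nat_lit 8192) (Steps.fwd (nat_lit 32768) (Steps.bwd (nat_lit 2) (Steps.fwd (nat_lit 8192) Steps.nil)))))))))))) (nat_lit 193) (nat_lit 11),
  Rule.mk (nat_lit 17) (nat_lit 179) (Steps.bwd (nat_lit 2) (Steps.fwd (nat_lit 8192) (Steps.fwd (nat_lit 24576) (Steps.bwd (nat_lit 1) (Steps.fwd (nat_lit 16384) (Steps.bwd (nat_lit 1) (Steps.bwd (nat_lit 3) (Steps.fwd (nat_lit 8192) (Steps.fwd (nat_lit 32768) (Steps.bwd (nat_lit 2) (Steps.fwd (nat_lit 8192) Steps.nil))))))))))) (nat_lit 193) (nat_lit 0),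
  Rule.mk (nat_lit 20) (nat_lit 179) (Steps.fwd (nat_lit 8192) (Steps.bwd (nat_lit 2) (Steps.fwd (nat_lit 8192) (Steps.fwd (nat_lit 24576) (Steps.bwd (nat_lit 1) (Steps.fwd (nat_lit 16384) (Steps.bwd (nat_lit 1) (Steps.fwd (nat_lit 16384) (Steps.bwd (nat_lit 1) (Steps.bwd (nat_lit 4) (Steps.bwd (nat_lit 2) Steps.nil))))))))))) (nat_lit 194) (nat_lit 1),
  Rule.mk (nat_lit 0) (nat_lit 194) (Steps.bwd (nat_lit 19) (Steps.fwd (nat_lit 16384) (Steps.bwd (nat_lit 4) (Steps.bwd (nat_lit 1) (Steps.fwd (nat_lit 24576) (Steps.fwd (nat_lit 8192) (Steps.fwd (nat_lit 24576) (Steps.bwd (nat_lit 1) (Steps.fwd (nat_lit 16384) (Steps.fwd (nat_lit 8192) (Steps.fwd (nat_lit 16384) (Steps.fwd (nat_lit 8192) Steps.nil)))))))))))) (nat_lit 195) (nat_lit 11),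
  Rule.mk (nat_lit 20) (nat_lit 179) (Steps.bwd (nat_lit 1) (Steps.bwd (nat_lit 2) (Steps.fwd (nat_lit 8192) (Steps.fwd (nat_lit 24576) (Steps.bwd (nat_lit 1) (Steps.fwd (nat_lit 16384) (Steps.bwd (nat_lit 1) (Steps.bwd (nat_lit 3) (Steps.fwd (nat_lit 8192) (Steps.fwd (nat_lit 32768) (Steps.bwd (nat_lit 2) Steps.nil))))))))))) (nat_lit 194) (nat_lit 1)]
noncomputable def R_131 : List (Rule) := [Rule.mk (nat_lit 0) (nat_lit 194) (Steps.bwd (nat_lit 20) (Steps.bwd (nat_lit 1) (Steps.fwd (nat_lit 24576) (Steps.fwd (nat_lit 8192) (Steps.fwd (nat_lit 24576) (Steps.bwd (nat_lit 1) (Steps.fwd (nat_lit 16384) (Steps.fwd (nat_lit 8192) (Steps.fwd (nat_lit 16384) (Steps.fwd (nat_lit 8192) (Steps.fwd (nat_lit 32768) (Steps.fwd (nat_lit 24576) Steps.nil)))))))))))) (nat_lit 194) (nat_lit 0),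
  Rule.mk (nat_lit 0) (nat_lit 194) (Steps.bwd (nat_lit 19) (Steps.fwd (nat_lit 16384) (Steps.fwd (nat_lit 32768) (Steps.bwd (nat_lit 1) (Steps.bwd (nat_lit 2) (Steps.fwd (nat_lit 8192) (Steps.fwd (nat_lit 24576) (Steps.bwd (nat_lit 1) (Steps.fwd (nat_lit 16384) (Steps.bwd (nat_lit 1) (Steps.bwd (nat_lit 3) (Steps.fwd (nat_lit 8192) Steps.nil)))))))))))) (nat_lit 195) (nat_lit 11),
  Rule.mk (nat_lit 15) (nat_lit 179) (Steps.fwd (nat_lit 16384) (Steps.fwd (nat_lit 8192) (Steps.bwd (nat_lit 4) (Steps.bwd (nat_lit 3) (Steps.fwd (nat_lit 8192) (Steps.fwd (nat_lit 24576) (Steps.bwd (nat_lit 1) (Steps.bwd (nat_lit 2) (Steps.bwd (nat_lit 1) (Steps.bwd (nat_lit 2) (Steps.bwd (nat_lit 1) Steps.nil))))))))))) (nat_lit 191) (nat_lit 0),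
  Rule.mk (nat_lit 0) (nat_lit 194) (Steps.bwd (nat_lit 15) (Steps.fwd (nat_lit 16384) (Steps.bwd (nat_lit 1) (Steps.fwd (nat_lit 32768) (Steps.fwd (nat_lit 16384) (Steps.bwd (nat_lit 1) (Steps.bwd (nat_lit 2) (Steps.fwd (nat_lit 8192) (Steps.bwd (nat_lit 2) (Steps.fwd (nat_lit 8192) (Steps.bwd (nat_lit 2) (Steps.fwd (nat_lit 8192) Steps.nil)))))))))))) (nat_lit 191) (nat_lit 11),
  Rule.mk (nat_lit 0) (nat_lit 194) (Steps.bwd (nat_lit 20) (Steps.fwd (nat_lit 8192) (Steps.fwd (nat_lit 24576) (Steps.bwd (nat_lit 1) (Steps.fwd (nat_lit 24576) (Steps.fwd (nat_lit 8192) (Steps.bwd (nat_lit 3) (Steps.bwd (nat_lit 1) (Steps.fwd (nat_lit 16384) (Steps.bwd (nat_lit 1) (Steps.fwd (nat_lit 32768) (Steps.fwd (nat_lit 24576) Steps.nil)))))))))))) (nat_lit 194) (nat_lit 0),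
  Rule.mk (nat_lit 10) (nat_lit 134) (Steps.bwd (nat_lit 1) (Steps.fwd (nat_lit 32768) (Steps.fwd (nat_lit 40960) (Steps.fwd (nat_lit 65536) (Steps.fwd (nat_lit 73728) (Steps.bwd (nat_lit 11) (Steps.fwd (nat_lit 114688) (Steps.fwd (nat_lit 8192) Steps.nil)))))))) (nat_lit 158) (nat_lit 2),
  Rule.mk (nat_lit 7) (nat_lit 164) (Steps.bwd (nat_lit 1) (Steps.fwd (nat_lit 40960) (Steps.fwd (nat_lit 49152) (Steps.fwd (nat_lit 73728) (Steps.bwd (nat_lit 10) (Steps.bwd (nat_lit 11) (Steps.bwd (nat_lit 12) (Steps.fwd (nat_lit 106496) (Steps.fwd (nat_lit 114688) (Steps.fwd (nat_lit 8192) Steps.nil)))))))))) (nat_lit 152) (nat_lit 2),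
  Rule.mk (nat_lit 12) (nat_lit 164) (Steps.bwd (nat_lit 1) (Steps.fwd (nat_lit 32768) (Steps.fwd (nat_lit 40960) (Steps.fwd (nat_lit 65536) (Steps.fwd (nat_lit 73728) (Steps.bwd (nat_lit 10) (Steps.fwd (nat_lit 90112) (Steps.bwd (nat_lit 12) (Steps.fwd (nat_lit 114688) (Steps.bwd (nat_lit 1) Steps.nil)))))))))) (nat_lit 162) (nat_lit 2),
  Rule.mk (nat_lit 18) (nat_lit 179) (Steps.bwd (nat_lit 1) (Steps.bwd (nat_lit 3) (Steps.fwd (nat_lit 32768) (Steps.fwd (nat_lit 8192) (Steps.bwd (nat_lit 2) (Steps.bwd (nat_lit 1) (Steps.fwd (nat_lit 24576) (Steps.bwd (nat_lit 1) (Steps.fwd (nat_lit 16384) (Steps.bwd (nat_lit 1) (Steps.fwd (nat_lit 16384) Steps.nil))))))))))) (nat_lit 192) (nat_lit 1),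
  Rule.mk (nat_lit 2) (nat_lit 179) (Steps.bwd (nat_lit 1) (Steps.fwd (nat_lit 24576) (Steps.fwd (nat_lit 8192) (Steps.bwd (nat_lit 3) (Steps.bwd (nat_lit 1) (Steps.fwd (nat_lit 16384) (Steps.bwd (nat_lit 1) (Steps.fwd (nat_lit 32768) (Steps.bwd (nat_lit 2) (Steps.bwd (nat_lit 1) (Steps.fwd (nat_lit 147456) Steps.nil))))))))))) (nat_lit 193) (nat_lit 1),
  Rule.mk (nat_lit 0) (nat_lit 194) (Steps.bwd (nat_lit 20) (Steps.fwd (nat_lit 8192) (Steps.bwd (nat_lit 2) (Steps.fwd (nat_lit 8192) (Steps.bwd (nat_lit 2) (Steps.fwd (nat_lit 8192) (Steps.bwd (nat_lit 3) (Steps.bwd (nat_lit 1) (Steps.bwd (nat_lit 3) (Steps.fwd (nat_lit 8192) (Steps.fwd (nat_lit 32768) (Steps.bwd (nat_lit 2) Steps.nil)))))))))))) (nat_lit 194) (nat_lit 0),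
  Rule.mk (nat_lit 3) (nat_lit 539) (Steps.bwd (nat_lit 1) (Steps.bwd (nat_lit 3) (Steps.fwd (nat_lit 8192) (Steps.fwd (nat_lit 24576) (Steps.fwd (nat_lit 8192) (Steps.fwd (nat_lit 24576) (Steps.bwd (nat_lit 1) (Steps.fwd (nat_lit 16384) (Steps.bwd (nat_lit 1) (Steps.fwd (nat_lit 24576) (Steps.bwd (nat_lit 1) (Steps.bwd (nat_lit 2) (Steps.fwd (nat_lit 8192) (Steps.fwd (nat_lit 16384) (Steps.fwd (nat_lit 8192) (Steps.bwd (nat_lit 2) (Steps.fwd (nat_lit 8192) (Steps.bwd (nat_lit 2) (Steps.bwd (nat_lit 1) (Steps.fwd (nat_lit 16384) (Steps.bwd (nat_lit 1) (Steps.bwd (nat_lit 2) (Steps.fwd (nat_lit 8192) (Steps.fwd (nat_lit 16384) (Steps.fwd (nat_lit 8192) (Steps.bwd (nat_lit 3) (Steps.bwd (nat_lit 1) (Steps.fwd (nat_lit 24576) (Steps.bwd (nat_lit 1) (Steps.bwd (nat_lit 3) (Steps.bwd (nat_lit 1) (Steps.bwd (nat_lit 3) (Steps.bwd (nat_lit 1) (Steps.bwd (nat_lit 2) (Steps.fwd (nat_lit 8192) Steps.nil)))))))))))))))))))))))))))))))))))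 (nat_lit 12) (nat_lit 34),
  Rule.mk (nat_lit 0) (nat_lit 554) (Steps.bwd (nat_lit 2) (Steps.bwd (nat_lit 1) (Steps.bwd (nat_lit 3) (Steps.fwd (nat_lit 8192) (Steps.bwd (nat_lit 3) (Steps.bwd (nat_lit 1) (Steps.bwd (nat_lit 2) (Steps.bwd (nat_lit 1) (Steps.fwd (nat_lit 24576) (Steps.bwd (nat_lit 1) (Steps.fwd (nat_lit 16384) (Steps.bwd (nat_lit 1) (Steps.fwd (nat_lit 24576) (Steps.bwd (nat_lit 1) (Steps.bwd (nat_lit 2) (Steps.bwd (nat_lit 1) (Steps.fwd (nat_lit 16384) (Steps.bwd (nat_lit 1) (Steps.fwd (nat_lit 24576) (Steps.fwd (nat_lit 8192) (Steps.bwd (nat_lit 2) (Steps.bwd (nat_lit 1) (Steps.bwd (nat_lit 3) (Steps.fwd (nat_lit 8192) (Steps.fwd (nat_lit 24576) (Steps.fwd (nat_lit 8192) (Steps.bwd (nat_lit 3) (Steps.bwd (nat_lit 1) (Steps.fwd (nat_lit 16384) (Steps.bwd (nat_lit 1) (Steps.fwd (nat_lit 24576) (Steps.bwd (nat_lit 1) (Steps.fwd (nat_lit 16384) (Steps.fwd (nat_lit 8192) (Steps.bwd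 (nat_lit 3) (Steps.fwd (nat_lit 8192) Steps.nil)))))))))))))))))))))))))))))))))))) (nat_lit 12) (nat_lit 31),
  Rule.mk (nat_lit 16) (nat_lit 179) (Steps.bwd (nat_lit 1) (Steps.bwd (nat_lit 3) (Steps.fwd (nat_lit 8192) (Steps.bwd (nat_lit 3) (Steps.fwd (nat_lit 8192) (Steps.fwd (nat_lit 16384) (Steps.bwd (nat_lit 1) (Steps.fwd (nat_lit 24576) (Steps.bwd (nat_lit 4) (Steps.fwd (nat_lit 8192) (Steps.fwd (nat_lit 24576) Steps.nil))))))))))) (nat_lit 190) (nat_lit 1),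
  Rule.mk (nat_lit 0) (nat_lit 194) (Steps.bwd (nat_lit 16) (Steps.fwd (nat_lit 8192) (Steps.bwd (nat_lit 3) (Steps.fwd (nat_lit 8192) (Steps.bwd (nat_lit 3) (Steps.bwd (nat_lit 1) (Steps.bwd (nat_lit 3) (Steps.fwd (nat_lit 8192) (Steps.fwd (nat_lit 24576) (Steps.fwd (nat_lit 32768) (Steps.bwd (nat_lit 1) (Steps.bwd (nat_lit 2) Steps.nil)))))))))))) (nat_lit 190) (nat_lit 0),
  Rule.mk (nat_lit 16) (nat_lit 179) (Steps.fwd (nat_lit 8192) (Steps.bwd (nat_lit 3) (Steps.bwd (nat_lit 1) (Steps.bwd (nat_lit 3) (Steps.fwd (nat_lit 8192) (Steps.bwd (nat_lit 3) (Steps.bwd (nat_lit 1) (Steps.fwd (nat_lit 24576) (Steps.fwd (nat_lit 32768) (Steps.bwd (nat_lit 1) (Steps.fwd (nat_lit 24576) Steps.nil))))))))))) (nat_lit 190) (nat_lit 1),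
  Rule.mk (nat_lit 15) (nat_lit 179) (Steps.bwd (nat_lit 3) (Steps.fwd (nat_lit 8192) (Steps.fwd (nat_lit 32768) (Steps.fwd (nat_lit 16384) (Steps.fwd (nat_lit 8192) (Steps.fwd (nat_lit 24576) (Steps.bwd (nat_lit 1) (Steps.fwd (nat_lit 24576) (Steps.fwd (nat_lit 8192) (Steps.fwd (nat_lit 24576) (Steps.bwd (nat_lit 1) Steps.nil))))))))))) (nat_lit 191) (nat_lit 0),
  Rule.mk (nat_lit 0) (nat_lit 194) (Steps.bwd (nat_lit 15) (Steps.bwd (nat_lit 3) (Steps.fwd (nat_lit 8192) (Steps.bwd (nat_lit 4) (Steps.bwd (nat_lit 3) (Steps.bwd (nat_lit 1) (Steps.fwd (nat_lit 24576) (Steps.fwd (nat_lit 8192) (Steps.fwd (nat_lit 24576) (Steps.bwd (nat_lit 1) (Steps.bwd (nat_lit 2) (Steps.bwd (nat_lit 1) Steps.nil)))))))))))) (nat_lit 191) (nat_lit 11),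
  Rule.mk (nat_lit 0) (nat_lit 194) (Steps.bwd (nat_lit 15) (Steps.fwd (nat_lit 16384) (Steps.fwd (nat_lit 8192) (Steps.bwd (nat_lit 4) (Steps.bwd (nat_lit 3) (Steps.fwd (nat_lit 8192) (Steps.fwd (nat_lit 24576) (Steps.bwd (nat_lit 1) (Steps.bwd (nat_lit 2) (Steps.bwd (nat_lit 1) (Steps.fwd (nat_lit 24576) (Steps.fwd (nat_lit 8192) Steps.nil)))))))))))) (nat_lit 191) (nat_lit 11),
  Rule.mk (nat_lit 0) (nat_lit 194) (Steps.bwd (nat_lit 18) (Steps.fwd (nat_lit 8192) (Steps.bwd (nat_lit 3) (Steps.fwd (nat_lit 32768) (Steps.fwd (nat_lit 8192) (Steps.fwd (nat_lit 24576) (Steps.bwd (nat_lit 1) (Steps.fwd (nat_lit 24576) (Steps.fwd (nat_lit 8192) (Steps.bwd (nat_lit 3) (Steps.bwd (nat_lit 1) (Steps.fwd (nat_lit 16384) Steps.nil)))))))))))) (nat_lit 192) (nat_lit 0),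
  Rule.mk (nat_lit 0) (nat_lit 194) (Steps.bwd (nat_lit 18) (Steps.fwd (nat_lit 8192) (Steps.bwd (nat_lit 3) (Steps.bwd (nat_lit 4) (Steps.bwd (nat_lit 1) (Steps.fwd (nat_lit 24576) (Steps.fwd (nat_lit 8192) (Steps.fwd (nat_lit 24576) (Steps.bwd (nat_lit 1) (Steps.fwd (nat_lit 16384) (Steps.fwd (nat_lit 8192) (Steps.bwd (nat_lit 3) Steps.nil)))))))))))) (nat_lit 192) (nat_lit 0),
  Rule.mk (nat_lit 18) (nat_lit 179) (Steps.fwd (nat_lit 8192) (Steps.bwd (nat_lit 3) (Steps.fwd (nat_lit 32768) (Steps.bwd (nat_lit 1) (Steps.bwd (nat_lit 2) (Steps.bwd (nat_lit 1) (Steps.fwd (nat_lit 24576) (Steps.bwd (nat_lit 1) (Steps.fwd (nat_lit 16384) (Steps.fwd (nat_lit 8192) (Steps.fwd (nat_lit 16384) Steps.nil))))))))))) (nat_lit 192) (nat_lit 1),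
  Rule.mk (nat_lit 0) (nat_lit 194) (Steps.fwd (nat_lit 8192) (Steps.bwd (nat_lit 3) (Steps.bwd (nat_lit 4) (Steps.fwd (nat_lit 8192) (Steps.fwd (nat_lit 24576) (Steps.bwd (nat_lit 1) (Steps.fwd (nat_lit 24576) (Steps.fwd (nat_lit 8192) (Steps.bwd (nat_lit 3) (Steps.bwd (nat_lit 1) (Steps.fwd (nat_lit 16384) (Steps.fwd (nat_lit 139264) Steps.nil)))))))))))) (nat_lit 192) (nat_lit 1),
  Rule.mk (nat_lit 0) (nat_lit 194) (Steps.bwd (nat_lit 17) (Steps.fwd (nat_lit 24576) (Steps.bwd (nat_lit 1) (Steps.fwd (nat_lit 24576) (Steps.fwd (nat_lit 8192) (Steps.bwd (nat_lit 3) (Steps.bwd (nat_lit 1) (Steps.fwd (nat_lit 16384) (Steps.fwd (nat_lit 8192) (Steps.bwd (nat_lit 4) (Steps.fwd (nat_lit 24576) (Steps.bwd (nat_lit 1) Steps.nil)))))))))))) (nat_lit 193) (nat_lit 11),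
  Rule.mk (nat_lit 17) (nat_lit 179) (Steps.fwd (nat_lit 24576) (Steps.fwd (nat_lit 8192) (Steps.fwd (nat_lit 24576) (Steps.bwd (nat_lit 1) (Steps.fwd (nat_lit 16384) (Steps.fwd (nat_lit 8192) (Steps.bwd (nat_lit 3) (Steps.fwd (nat_lit 8192) (Steps.bwd (nat_lit 4) (Steps.bwd (nat_lit 2) (Steps.fwd (nat_lit 8192) Steps.nil))))))))))) (nat_lit 193) (nat_lit 0),
  Rule.mk (nat_lit 20) (nat_lit 179) (Steps.fwd (nat_lit 8192) (Steps.bwd (nat_lit 2) (Steps.fwd (nat_lit 8192) (Steps.fwd (nat_lit 24576) (Steps.bwd (nat_lit 1) (Steps.bwd (nat_lit 3) (Steps.fwd (nat_lit 8192) (Steps.bwd (nat_lit 3) (Steps.bwd (nat_lit 1) (Steps.fwd (nat_lit 32768) (Steps.fwd (nat_lit 24576) Steps.nil))))))))))) (nat_lit 194) (nat_lit 1),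
  Rule.mk (nat_lit 20) (nat_lit 179) (Steps.fwd (nat_lit 8192) (Steps.fwd (nat_lit 24576) (Steps.bwd (nat_lit 1) (Steps.fwd (nat_lit 24576) (Steps.fwd (nat_lit 8192) (Steps.bwd (nat_lit 3) (Steps.bwd (nat_lit 1) (Steps.fwd (nat_lit 16384) (Steps.fwd (nat_lit 8192) (Steps.bwd (nat_lit 4) (Steps.fwd (nat_lit 24576) Steps.nil))))))))))) (nat_lit 194) (nat_lit 1),
  Rule.mk (nat_lit 0) (nat_lit 194) (Steps.bwd (nat_lit 20) (Steps.bwd (nat_lit 1) (Steps.fwd (nat_lit 24576) (Steps.fwd (nat_lit 8192) (Steps.fwd (nat_lit 24576) (Steps.bwd (nat_lit 1) (Steps.fwd (nat_lit 16384) (Steps.fwd (nat_lit 8192) (Steps.bwd (nat_lit 3) (Steps.fwd (nat_lit 8192) (Steps.bwd (nat_lit 4) (Steps.bwd (nat_lit 2) Steps.nil)))))))))))) (nat_lit 194) (nat_lit 0),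
  Rule.mk (nat_lit 20) (nat_lit 179) (Steps.fwd (nat_lit 8192) (Steps.fwd (nat_lit 24576) (Steps.bwd (nat_lit 1) (Steps.bwd (nat_lit 2) (Steps.bwd (nat_lit 1) (Steps.bwd (nat_lit 3) (Steps.fwd (nat_lit 8192) (Steps.fwd (nat_lit 16384) (Steps.bwd (nat_lit 1) (Steps.fwd (nat_lit 32768) (Steps.bwd (nat_lit 2) Steps.nil))))))))))) (nat_lit 194) (nat_lit 1),
  Rule.mk (nat_lit 19) (nat_lit 179) (Steps.fwd (nat_lit 16384) (Steps.bwd (nat_lit 4) (Steps.fwd (nat_lit 8192) (Steps.bwd (nat_lit 2) (Steps.fwd (nat_lit 8192) (Steps.fwd (nat_lit 24576) (Steps.bwd (nat_lit 1) (Steps.bwd (nat_lit 3) (Steps.fwd (nat_lit 8192) (Steps.bwd (nat_lit 3) (Steps.bwd (nat_lit 1) Steps.nil))))))))))) (nat_lit 195) (nat_lit 0),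
  Rule.mk (nat_lit 19) (nat_lit 179) (Steps.bwd (nat_lit 3) (Steps.fwd (nat_lit 32768) (Steps.fwd (nat_lit 8192) (Steps.fwd (nat_lit 24576) (Steps.bwd (nat_lit 1) (Steps.fwd (nat_lit 24576) (Steps.fwd (nat_lit 8192) (Steps.bwd (nat_lit 3) (Steps.bwd (nat_lit 1) (Steps.fwd (nat_lit 16384) (Steps.fwd (nat_lit 8192) Steps.nil))))))))))) (nat_lit 195) (nat_lit 0),
  Rule.mk (nat_lit 0) (nat_lit 194) (Steps.bwd (nat_lit 19) (Steps.bwd (nat_lit 3) (Steps.bwd (nat_lit 4) (Steps.bwd (nat_lit 1) (Steps.fwd (nat_lit 24576) (Steps.fwd (nat_lit 8192) (Steps.fwd (nat_lit 24576) (Steps.bwd (nat_lit 1) (Steps.fwd (nat_lit 16384) (Steps.fwd (nat_lit 8192) (Steps.bwd (nat_lit 3) (Steps.fwd (nat_lit 8192) Steps.nil)))))))))))) (nat_lit 195) (nat_lit 11),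
  Rule.mk (nat_lit 0) (nat_lit 194) (Steps.fwd (nat_lit 16384) (Steps.bwd (nat_lit 4) (Steps.fwd (nat_lit 8192) (Steps.fwd (nat_lit 24576) (Steps.bwd (nat_lit 1) (Steps.bwd (nat_lit 2) (Steps.bwd (nat_lit 1) (Steps.bwd (nat_lit 3) (Steps.fwd (nat_lit 8192) (Steps.fwd (nat_lit 16384) (Steps.bwd (nat_lit 1) (Steps.fwd (nat_lit 163840) Steps.nil)))))))))))) (nat_lit 195) (nat_lit 0),
  Rule.mk (nat_lit 15) (nat_lit 179) (Steps.fwd (nat_lit 16384) (Steps.fwd (nat_lit 8192) (Steps.bwd (nat_lit 4) (Steps.bwd (nat_lit 3) (Steps.bwd (nat_lit 1) (Steps.fwd (nat_lit 24576) (Steps.bwd (nat_lit 1) (Steps.bwd (nat_lit 2) (Steps.fwd (nat_lit 8192) (Steps.fwd (nat_lit 24576) (Steps.fwd (nat_lit 8192) Steps.nil))))))))))) (nat_lit 191) (nat_lit 0),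
  Rule.mk (nat_lit 18) (nat_lit 179) (Steps.bwd (nat_lit 1) (Steps.fwd (nat_lit 16384) (Steps.bwd (nat_lit 4) (Steps.fwd (nat_lit 8192) (Steps.bwd (nat_lit 2) (Steps.bwd (nat_lit 1) (Steps.fwd (nat_lit 24576) (Steps.fwd (nat_lit 8192) (Steps.fwd (nat_lit 16384) (Steps.fwd (nat_lit 8192) (Steps.bwd (nat_lit 3) Steps.nil))))))))))) (nat_lit 192) (nat_lit 1),
  Rule.mk (nat_lit 2) (nat_lit 134) (Steps.bwd (nat_lit 13) (Steps.bwd (nat_lit 3) (Steps.fwd (nat_lit 49152) (Steps.fwd (nat_lit 81920) (Steps.bwd (nat_lit 11) (Steps.bwd (nat_lit 12) (Steps.bwd (nat_lit 13) (Steps.fwd (nat_lit 114688) Steps.nil)))))))) (nat_lit 186) (nat_lit 1),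
  Rule.mk (nat_lit 5) (nat_lit 149) (Steps.bwd (nat_lit 3) (Steps.bwd (nat_lit 4) (Steps.fwd (nat_lit 40960) (Steps.bwd (nat_lit 8) (Steps.fwd (nat_lit 73728) (Steps.bwd (nat_lit 12) (Steps.bwd (nat_lit 13) (Steps.fwd (nat_lit 114688) (Steps.bwd (nat_lit 2) Steps.nil))))))))) (nat_lit 170) (nat_lit 2),
  Rule.mk (nat_lit 16) (nat_lit 179) (Steps.bwd (nat_lit 1) (Steps.bwd (nat_lit 3) (Steps.bwd (nat_lit 1) (Steps.fwd (nat_lit 16384) (Steps.bwd (nat_lit 1) (Steps.bwd (nat_lit 3) (Steps.bwd (nat_lit 1) (Steps.fwd (nat_lit 24576) (Steps.fwd (nat_lit 32768) (Steps.bwd (nat_lit 1) (Steps.bwd (nat_lit 2) Steps.nil))))))))))) (nat_lit 190) (nat_lit 1),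
  Rule.mk (nat_lit 16) (nat_lit 179) (Steps.bwd (nat_lit 1) (Steps.fwd (nat_lit 16384) (Steps.fwd (nat_lit 8192) (Steps.fwd (nat_lit 16384) (Steps.bwd (nat_lit 1) (Steps.fwd (nat_lit 16384) (Steps.bwd (nat_lit 1) (Steps.bwd (nat_lit 2) (Steps.fwd (nat_lit 32768) (Steps.bwd (nat_lit 1) (Steps.bwd (nat_lit 2) Steps.nil))))))))))) (nat_lit 190) (nat_lit 1),
  Rule.mk (nat_lit 15) (nat_lit 179) (Steps.fwd (nat_lit 16384) (Steps.bwd (nat_lit 1) (Steps.fwd (nat_lit 32768) (Steps.bwd (nat_lit 3) (Steps.fwd (nat_lit 8192) (Steps.fwd (nat_lit 24576) (Steps.bwd (nat_lit 1) (Steps.bwd (nat_lit 2) (Steps.bwd (nat_lit 1) (Steps.bwd (nat_lit 2) (Steps.fwd (nat_lit 8192) Steps.nil))))))))))) (nat_lit 191) (nat_lit 0),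
  Rule.mk (nat_lit 0) (nat_lit 194) (Steps.bwd (nat_lit 15) (Steps.fwd (nat_lit 16384) (Steps.bwd (nat_lit 1) (Steps.bwd (nat_lit 4) (Steps.bwd (nat_lit 3) (Steps.bwd (nat_lit 1) (Steps.bwd (nat_lit 2) (Steps.bwd (nat_lit 1) (Steps.bwd (nat_lit 2) (Steps.fwd (nat_lit 8192) (Steps.fwd (nat_lit 24576) (Steps.bwd (nat_lit 1) Steps.nil)))))))))))) (nat_lit 191) (nat_lit 11),
  Rule.mk (nat_lit 0) (nat_lit 194) (Steps.bwd (nat_lit 15) (Steps.fwd (nat_lit 16384) (Steps.fwd (nat_lit 8192) (Steps.bwd (nat_lit 4) (Steps.fwd (nat_lit 16384) (Steps.bwd (nat_lit 1) (Steps.bwd (nat_lit 2) (Steps.fwd (nat_lit 8192) (Steps.fwd (nat_lit 24576) (Steps.bwd (nat_lit 1) (Steps.bwd (nat_lit 2) (Steps.fwd (nat_lit 8192) Steps.nil)))))))))))) (nat_lit 191) (nat_lit 11),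
  Rule.mk (nat_lit 0) (nat_lit 194) (Steps.bwd (nat_lit 18) (Steps.bwd (nat_lit 1) (Steps.fwd (nat_lit 16384) (Steps.bwd (nat_lit 4) (Steps.bwd (nat_lit 1) (Steps.bwd (nat_lit 2) (Steps.bwd (nat_lit 1) (Steps.bwd (nat_lit 2) (Steps.fwd (nat_lit 8192) (Steps.bwd (nat_lit 3) (Steps.bwd (nat_lit 1) (Steps.fwd (nat_lit 16384) Steps.nil)))))))))))) (nat_lit 192) (nat_lit 0),
  Rule.mk (nat_lit 18) (nat_lit 179) (Steps.fwd (nat_lit 8192) (Steps.bwd (nat_lit 3) (Steps.fwd (nat_lit 32768) (Steps.bwd (nat_lit 1) (Steps.bwd (nat_lit 2) (Steps.fwd (nat_lit 8192) (Steps.fwd (nat_lit 24576) (Steps.bwd (nat_lit 1) (Steps.fwd (nat_lit 16384) (Steps.bwd (nat_lit 1) (Steps.bwd (nat_lit 3) Steps.nil))))))))))) (nat_lit 192) (nat_lit 1),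
  Rule.mk (nat_lit 0) (nat_lit 194) (Steps.bwd (nat_lit 17) (Steps.bwd (nat_lit 2) (Steps.bwd (nat_lit 1) (Steps.bwd (nat_lit 2) (Steps.fwd (nat_lit 8192) (Steps.fwd (nat_lit 16384) (Steps.bwd (nat_lit 1) (Steps.fwd (nat_lit 16384) (Steps.bwd (nat_lit 1) (Steps.fwd (nat_lit 32768) (Steps.bwd (nat_lit 2) (Steps.fwd (nat_lit 8192) Steps.nil)))))))))))) (nat_lit 193) (nat_lit 11),
  Rule.mk (nat_lit 17) (nat_lit 179) (Steps.bwd (nat_lit 2) (Steps.bwd (nat_lit 1) (Steps.bwd (nat_lit 2) (Steps.fwd (nat_lit 8192) (Steps.bwd (nat_lit 3) (Steps.bwd (nat_lit 1) (Steps.fwd (nat_lit 16384) (Steps.fwd (nat_lit 8192) (Steps.fwd (nat_lit 32768) (Steps.fwd (nat_lit 24576) (Steps.fwd (nat_lit 8192) Steps.nil))))))))))) (nat_lit 193) (nat_lit 0),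
  Rule.mk (nat_lit 17) (nat_lit 179) (Steps.bwd (nat_lit 2) (Steps.fwd (nat_lit 8192) (Steps.fwd (nat_lit 24576) (Steps.bwd (nat_lit 1) (Steps.fwd (nat_lit 16384) (Steps.bwd (nat_lit 1) (Steps.bwd (nat_lit 3) (Steps.fwd (nat_lit 8192) (Steps.fwd (nat_lit 32768) (Steps.bwd (nat_lit 2) (Steps.bwd (nat_lit 1) Steps.nil))))))))))) (nat_lit 193) (nat_lit 0),
  Rule.mk (nat_lit 20) (nat_lit 179) (Steps.fwd (nat_lit 8192) (Steps.bwd (nat_lit 2) (Steps.bwd (nat_lit 1) (Steps.bwd (nat_lit 2) (Steps.fwd (nat_lit 8192) (Steps.fwd (nat_lit 16384) (Steps.bwd (nat_lit 1) (Steps.fwd (nat_lit 16384) (Steps.bwd (nat_lit 1) (Steps.fwd (nat_lit 32768) (Steps.bwd (nat_lit 2) Steps.nil))))))))))) (nat_lit 194) (nat_lit 1),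
  Rule.mk (nat_lit 20) (nat_lit 179) (Steps.bwd (nat_lit 1) (Steps.bwd (nat_lit 2) (Steps.bwd (nat_lit 1) (Steps.bwd (nat_lit 2) (Steps.fwd (nat_lit 8192) (Steps.bwd (nat_lit 3) (Steps.bwd (nat_lit 1) (Steps.fwd (nat_lit 16384) (Steps.fwd (nat_lit 8192) (Steps.fwd (nat_lit 32768) (Steps.fwd (nat_lit 24576) Steps.nil))))))))))) (nat_lit 194) (nat_lit 1),
  Rule.mk (nat_lit 0) (nat_lit 194) (Steps.bwd (nat_lit 20) (Steps.bwd (nat_lit 1) (Steps.bwd (nat_lit 2) (Steps.fwd (nat_lit 8192) (Steps.fwd (nat_lit 24576) (Steps.bwd (nat_lit 1) (Steps.fwd (nat_lit 16384) (Steps.bwd (nat_lit 1) (Steps.bwd (nat_lit 3) (Steps.fwd (nat_lit 8192) (Steps.fwd (nat_lit 32768) (Steps.bwd (nat_lit 2) Steps.nil)))))))))))) (nat_lit 194) (nat_lit 0),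
  Rule.mk (nat_lit 19) (nat_lit 179) (Steps.fwd (nat_lit 16384) (Steps.bwd (nat_lit 4) (Steps.bwd (nat_lit 1) (Steps.bwd (nat_lit 2) (Steps.bwd (nat_lit 1) (Steps.bwd (nat_lit 2) (Steps.fwd (nat_lit 8192) (Steps.bwd (nat_lit 3) (Steps.bwd (nat_lit 1) (Steps.fwd (nat_lit 16384) (Steps.fwd (nat_lit 8192) Steps.nil))))))))))) (nat_lit 195) (nat_lit 0),
  Rule.mk (nat_lit 0) (nat_lit 194) (Steps.bwd (nat_lit 16) (Steps.fwd (nat_lit 8192) (Steps.bwd (nat_lit 3) (Steps.bwd (nat_lit 1) (Steps.bwd (nat_lit 3) (Steps.bwd (nat_lit 1) (Steps.fwd (nat_lit 16384) (Steps.fwd (nat_lit 8192) (Steps.fwd (nat_lit 24576) (Steps.bwd (nat_lit 4) (Steps.bwd (nat_lit 1) (Steps.bwd (nat_lit 2) Steps.nil)))))))))))) (nat_lit 190) (nat_lit 0),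
  Rule.mk (nat_lit 0) (nat_lit 194) (Steps.bwd (nat_lit 15) (Steps.bwd (nat_lit 3) (Steps.bwd (nat_lit 1) (Steps.fwd (nat_lit 32768) (Steps.fwd (nat_lit 16384) (Steps.fwd (nat_lit 8192) (Steps.fwd (nat_lit 24576) (Steps.bwd (nat_lit 1) (Steps.bwd (nat_lit 2) (Steps.fwd (nat_lit 8192) (Steps.bwd (nat_lit 2) (Steps.bwd (nat_lit 1) Steps.nil)))))))))))) (nat_lit 191) (nat_lit 11),
  Rule.mk (nat_lit 0) (nat_lit 194) (Steps.fwd (nat_lit 16384) (Steps.bwd (nat_lit 1) (Steps.bwd (nat_lit 4) (Steps.bwd (nat_lit 3) (Steps.bwd (nat_lit 1) (Steps.bwd (nat_lit 2) (Steps.fwd (nat_lit 8192) (Steps.fwd (nat_lit 24576) (Steps.bwd (nat_lit 1) (Steps.bwd (nat_lit 2) (Steps.bwd (nat_lit 1) (Steps.fwd (nat_lit 131072) Steps.nil)))))))))))) (nat_lit 191) (nat_lit 0),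
  Rule.mk (nat_lit 0) (nat_lit 194) (Steps.bwd (nat_lit 15) (Steps.bwd (nat_lit 3) (Steps.fwd (nat_lit 8192) (Steps.fwd (nat_lit 32768) (Steps.bwd (nat_lit 3) (Steps.bwd (nat_lit 1) (Steps.bwd (nat_lit 2) (Steps.bwd (nat_lit 1) (Steps.bwd (nat_lit 2) (Steps.bwd (nat_lit 1) (Steps.bwd (nat_lit 2) (Steps.bwd (nat_lit 1) Steps.nil)))))))))))) (nat_lit 191) (nat_lit 11),
  Rule.mk (nat_lit 0) (nat_lit 194) (Steps.fwd (nat_lit 8192) (Steps.fwd (nat_lit 16384) (Steps.bwd (nat_lit 4) (Steps.fwd (nat_lit 8192) (Steps.fwd (nat_lit 24576) (Steps.bwd (nat_lit 1) (Steps.bwd (nat_lit 2) (Steps.bwd (nat_lit 1) (Steps.fwd (nat_lit 16384) (Steps.bwd (nat_lit 1) (Steps.fwd (nat_lit 16384) (Steps.fwd (nat_lit 139264) Steps.nil)))))))))))) (nat_lit 192) (nat_lit 1),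
  Rule.mk (nat_lit 0) (nat_lit 194) (Steps.bwd (nat_lit 18) (Steps.fwd (nat_lit 8192) (Steps.fwd (nat_lit 16384) (Steps.bwd (nat_lit 4) (Steps.bwd (nat_lit 1) (Steps.bwd (nat_lit 2) (Steps.bwd (nat_lit 1) (Steps.bwd (nat_lit 2) (Steps.bwd (nat_lit 1) (Steps.fwd (nat_lit 16384) (Steps.fwd (nat_lit 8192) (Steps.bwd (nat_lit 3) Steps.nil)))))))))))) (nat_lit 192) (nat_lit 0),
  Rule.mk (nat_lit 0) (nat_lit 194) (Steps.bwd (nat_lit 1) (Steps.fwd (nat_lit 16384) (Steps.fwd (nat_lit 32768) (Steps.fwd (nat_lit 8192) (Steps.bwd (nat_lit 2) (Steps.fwd (nat_lit 8192) (Steps.bwd (nat_lit 2) (Steps.fwd (nat_lit 8192) (Steps.fwd (nat_lit 16384) (Steps.fwd (nat_lit 8192) (Steps.bwd (nat_lit 3) (Steps.fwd (nat_lit 139264) Steps.nil)))))))))))) (nat_lit 192) (nat_lit 1),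
  Rule.mk (nat_lit 20) (nat_lit 179) (Steps.fwd (nat_lit 8192) (Steps.fwd (nat_lit 24576) (Steps.fwd (nat_lit 8192) (Steps.fwd (nat_lit 24576) (Steps.bwd (nat_lit 1) (Steps.fwd (nat_lit 16384) (Steps.bwd (nat_lit 1) (Steps.fwd (nat_lit 16384) (Steps.fwd (nat_lit 8192) (Steps.bwd (nat_lit 4) (Steps.bwd (nat_lit 2) Steps.nil))))))))))) (nat_lit 194) (nat_lit 1),
  Rule.mk (nat_lit 0) (nat_lit 194) (Steps.bwd (nat_lit 20) (Steps.fwd (nat_lit 8192) (Steps.fwd (nat_lit 24576) (Steps.bwd (nat_lit 1) (Steps.bwd (nat_lit 2) (Steps.bwd (nat_lit 1) (Steps.fwd (nat_lit 16384) (Steps.bwd (nat_lit 1) (Steps.fwd (nat_lit 16384) (Steps.bwd (nat_lit 1) (Steps.bwd (nat_lit 4) (Steps.bwd (nat_lit 2) Steps.nil)))))))))))) (nat_lit 194) (nat_lit 0),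
  Rule.mk (nat_lit 20) (nat_lit 179) (Steps.bwd (nat_lit 1) (Steps.bwd (nat_lit 2) (Steps.bwd (nat_lit 1) (Steps.bwd (nat_lit 2) (Steps.bwd (nat_lit 1) (Steps.fwd (nat_lit 16384) (Steps.fwd (nat_lit 8192) (Steps.bwd (nat_lit 3) (Steps.fwd (nat_lit 8192) (Steps.bwd (nat_lit 4) (Steps.fwd (nat_lit 24576) Steps.nil))))))))))) (nat_lit 194) (nat_lit 1),
  Rule.mk (nat_lit 19) (nat_lit 179) (Steps.fwd (nat_lit 16384) (Steps.bwd (nat_lit 4) (Steps.bwd (nat_lit 1) (Steps.bwd (nat_lit 2) (Steps.bwd (nat_lit 1) (Steps.bwd (nat_lit 2) (Steps.bwd (nat_lit 1) (Steps.fwd (nat_lit 16384) (Steps.fwd (nat_lit 8192) (Steps.bwd (nat_lit 3) (Steps.fwd (nat_lit 8192) Steps.nil))))))))))) (nat_lit 195) (nat_lit 0),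
  Rule.mk (nat_lit 15) (nat_lit 179) (Steps.fwd (nat_lit 16384) (Steps.fwd (nat_lit 8192) (Steps.bwd (nat_lit 4) (Steps.fwd (nat_lit 16384) (Steps.bwd (nat_lit 1) (Steps.bwd (nat_lit 2) (Steps.bwd (nat_lit 1) (Steps.bwd (nat_lit 2) (Steps.fwd (nat_lit 8192) (Steps.fwd (nat_lit 24576) (Steps.bwd (nat_lit 1) Steps.nil))))))))))) (nat_lit 191) (nat_lit 0),
  Rule.mk (nat_lit 15) (nat_lit 179) (Steps.bwd (nat_lit 3) (Steps.bwd (nat_lit 1) (Steps.fwd (nat_lit 32768) (Steps.fwd (nat_lit 16384) (Steps.fwd (nat_lit 8192) (Steps.bwd (nat_lit 2) (Steps.fwd (nat_lit 8192) (Steps.bwd (nat_lit 2) (Steps.bwd (nat_lit 1) (Steps.bwd (nat_lit 2) (Steps.bwd (nat_lit 1) Steps.nil))))))))))) (nat_lit 191) (nat_lit 0)]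
noncomputable def R_132 : List (Rule) := [Rule.mk (nat_lit 17) (nat_lit 179) (Steps.fwd (nat_lit 24576) (Steps.fwd (nat_lit 8192) (Steps.fwd (nat_lit 24576) (Steps.bwd (nat_lit 1) (Steps.bwd (nat_lit 3) (Steps.bwd (nat_lit 1) (Steps.fwd (nat_lit 16384) (Steps.fwd (nat_lit 8192) (Steps.bwd (nat_lit 4) (Steps.fwd (nat_lit 24576) (Steps.bwd (nat_lit 1) Steps.nil))))))))))) (nat_lit 193) (nat_lit 0),
  Rule.mk (nat_lit 0) (nat_lit 194) (Steps.bwd (nat_lit 18) (Steps.bwd (nat_lit 1) (Steps.fwd (nat_lit 16384) (Steps.bwd (nat_lit 4) (Steps.fwd (nat_lit 8192) (Steps.fwd (nat_lit 24576) (Steps.bwd (nat_lit 1) (Steps.bwd (nat_lit 2) (Steps.fwd (nat_lit 8192) (Steps.fwd (nat_lit 16384) (Steps.fwd (nat_lit 8192) (Steps.bwd (nat_lit 3) Steps.nil)))))))))))) (nat_lit 192) (nat_lit 0),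
  Rule.mk (nat_lit 1) (nat_lit 134) (Steps.bwd (nat_lit 10) (Steps.fwd (nat_lit 8192) (Steps.fwd (nat_lit 32768) (Steps.fwd (nat_lit 40960) (Steps.fwd (nat_lit 65536) (Steps.bwd (nat_lit 9) (Steps.bwd (nat_lit 11) (Steps.bwd (nat_lit 14) Steps.nil)))))))) (nat_lit 158) (nat_lit 1),
  Rule.mk (nat_lit 15) (nat_lit 179) (Steps.fwd (nat_lit 16384) (Steps.bwd (nat_lit 1) (Steps.fwd (nat_lit 32768) (Steps.fwd (nat_lit 16384) (Steps.fwd (nat_lit 8192) (Steps.fwd (nat_lit 24576) (Steps.bwd (nat_lit 1) (Steps.bwd (nat_lit 2) (Steps.fwd (nat_lit 8192) (Steps.fwd (nat_lit 24576) (Steps.bwd (nat_lit 1) Steps.nil))))))))))) (nat_lit 191) (nat_lit 0),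
  Rule.mk (nat_lit 0) (nat_lit 194) (Steps.bwd (nat_lit 16) (Steps.fwd (nat_lit 8192) (Steps.fwd (nat_lit 16384) (Steps.fwd (nat_lit 8192) (Steps.bwd (nat_lit 3) (Steps.bwd (nat_lit 1) (Steps.bwd (nat_lit 3) (Steps.bwd (nat_lit 1) (Steps.fwd (nat_lit 24576) (Steps.bwd (nat_lit 4) (Steps.fwd (nat_lit 8192) (Steps.bwd (nat_lit 2) Steps.nil)))))))))))) (nat_lit 190) (nat_lit 0),
  Rule.mk (nat_lit 3) (nat_lit 179) (Steps.bwd (nat_lit 18) (Steps.bwd (nat_lit 1) (Steps.bwd (nat_lit 3) (Steps.bwd (nat_lit 4) (Steps.bwd (nat_lit 1) (Steps.fwd (nat_lit 24576) (Steps.bwd (nat_lit 1) (Steps.bwd (nat_lit 2) (Steps.bwd (nat_lit 1) (Steps.fwd (nat_lit 16384) (Steps.bwd (nat_lit 1) Steps.nil))))))))))) (nat_lit 192) (nat_lit 0),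
  Rule.mk (nat_lit 1) (nat_lit 539) (Steps.bwd (nat_lit 3) (Steps.fwd (nat_lit 8192) (Steps.fwd (nat_lit 24576) (Steps.fwd (nat_lit 8192) (Steps.fwd (nat_lit 24576) (Steps.bwd (nat_lit 1) (Steps.bwd (nat_lit 3) (Steps.bwd (nat_lit 1) (Steps.fwd (nat_lit 24576) (Steps.fwd (nat_lit 8192) (Steps.bwd (nat_lit 2) (Steps.bwd (nat_lit 1) (Steps.fwd (nat_lit 16384) (Steps.bwd (nat_lit 1) (Steps.bwd (nat_lit 2) (Steps.fwd (nat_lit 8192) (Steps.fwd (nat_lit 24576) (Steps.fwd (nat_lit 8192) (Steps.bwd (nat_lit 3) (Steps.fwd (nat_lit 8192) (Steps.fwd (nat_lit 24576) (Steps.bwd (nat_lit 1) (Steps.fwd (nat_lit 16384) (Steps.bwd (nat_lit 1) (Steps.fwd (nat_lit 16384) (Steps.bwd (nat_lit 1) (Steps.bwd (nat_lit 2) (Steps.bwd (nat_lit 1) (Steps.fwd (nat_lit 16384) (Steps.fwd (nat_lit 8192) (Steps.fwd (nat_lit 16384) (Steps.fwd (nat_lit 8192) (Steps.fwd (nat_lit 24576) (Steps.bwd (nat_lit 1) (Steps.bwd (nat_lit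 3) Steps.nil))))))))))))))))))))))))))))))))))) (nat_lit 12) (nat_lit 35),
  Rule.mk (nat_lit 0) (nat_lit 194) (Steps.bwd (nat_lit 15) (Steps.bwd (nat_lit 3) (Steps.fwd (nat_lit 8192) (Steps.bwd (nat_lit 4) (Steps.bwd (nat_lit 3) (Steps.bwd (nat_lit 1) (Steps.fwd (nat_lit 24576) (Steps.bwd (nat_lit 1) (Steps.fwd (nat_lit 24576) (Steps.fwd (nat_lit 8192) (Steps.fwd (nat_lit 24576) (Steps.fwd (nat_lit 8192) Steps.nil)))))))))))) (nat_lit 191) (nat_lit 11),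
  Rule.mk (nat_lit 0) (nat_lit 194) (Steps.bwd (nat_lit 16) (Steps.bwd (nat_lit 1) (Steps.fwd (nat_lit 16384) (Steps.bwd (nat_lit 1) (Steps.bwd (nat_lit 3) (Steps.bwd (nat_lit 1) (Steps.bwd (nat_lit 3) (Steps.fwd (nat_lit 8192) (Steps.fwd (nat_lit 24576) (Steps.bwd (nat_lit 4) (Steps.bwd (nat_lit 1) (Steps.fwd (nat_lit 24576) Steps.nil)))))))))))) (nat_lit 190) (nat_lit 0),
  Rule.mk (nat_lit 18) (nat_lit 179) (Steps.fwd (nat_lit 8192) (Steps.bwd (nat_lit 3) (Steps.fwd (nat_lit 32768) (Steps.bwd (nat_lit 1) (Steps.fwd (nat_lit 24576) (Steps.fwd (nat_lit 8192) (Steps.fwd (nat_lit 24576) (Steps.fwd (nat_lit 8192) (Steps.bwd (nat_lit 3) (Steps.bwd (nat_lit 1) (Steps.fwd (nat_lit 16384) Steps.nil))))))))))) (nat_lit 192) (nat_lit 1),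
  Rule.mk (nat_lit 0) (nat_lit 194) (Steps.bwd (nat_lit 17) (Steps.fwd (nat_lit 24576) (Steps.bwd (nat_lit 1) (Steps.bwd (nat_lit 2) (Steps.bwd (nat_lit 1) (Steps.fwd (nat_lit 16384) (Steps.bwd (nat_lit 1) (Steps.bwd (nat_lit 3) (Steps.bwd (nat_lit 1) (Steps.bwd (nat_lit 4) (Steps.fwd (nat_lit 24576) (Steps.bwd (nat_lit 1) Steps.nil)))))))))))) (nat_lit 193) (nat_lit 11),
  Rule.mk (nat_lit 0) (nat_lit 194) (Steps.bwd (nat_lit 17) (Steps.fwd (nat_lit 24576) (Steps.fwd (nat_lit 8192) (Steps.fwd (nat_lit 24576) (Steps.fwd (nat_lit 8192) (Steps.bwd (nat_lit 3) (Steps.bwd (nat_lit 1) (Steps.fwd (nat_lit 16384) (Steps.fwd (nat_lit 8192) (Steps.bwd (nat_lit 4) (Steps.fwd (nat_lit 24576) (Steps.bwd (nat_lit 1) Steps.nil)))))))))))) (nat_lit 193) (nat_lit 11),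
  Rule.mk (nat_lit 0) (nat_lit 194) (Steps.bwd (nat_lit 19) (Steps.bwd (nat_lit 3) (Steps.fwd (nat_lit 32768) (Steps.bwd (nat_lit 1) (Steps.bwd (nat_lit 2) (Steps.fwd (nat_lit 8192) (Steps.fwd (nat_lit 24576) (Steps.bwd (nat_lit 1) (Steps.bwd (nat_lit 3) (Steps.bwd (nat_lit 1) (Steps.bwd (nat_lit 3) (Steps.fwd (nat_lit 8192) Steps.nil)))))))))))) (nat_lit 195) (nat_lit 11),
  Rule.mk (nat_lit 20) (nat_lit 179) (Steps.fwd (nat_lit 8192) (Steps.fwd (nat_lit 24576) (Steps.fwd (nat_lit 8192) (Steps.bwd (nat_lit 2) (Steps.fwd (nat_lit 8192) (Steps.fwd (nat_lit 16384) (Steps.fwd (nat_lit 8192) (Steps.bwd (nat_lit 3) (Steps.fwd (nat_lit 8192) (Steps.fwd (nat_lit 32768) (Steps.fwd (nat_lit 24576) Steps.nil))))))))))) (nat_lit 194) (nat_lit 1),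
  Rule.mk (nat_lit 19) (nat_lit 179) (Steps.bwd (nat_lit 3) (Steps.fwd (nat_lit 32768) (Steps.bwd (nat_lit 1) (Steps.fwd (nat_lit 24576) (Steps.fwd (nat_lit 8192) (Steps.fwd (nat_lit 24576) (Steps.fwd (nat_lit 8192) (Steps.bwd (nat_lit 3) (Steps.bwd (nat_lit 1) (Steps.fwd (nat_lit 16384) (Steps.fwd (nat_lit 8192) Steps.nil))))))))))) (nat_lit 195) (nat_lit 0),
  Rule.mk (nat_lit 0) (nat_lit 194) (Steps.bwd (nat_lit 19) (Steps.bwd (nat_lit 3) (Steps.fwd (nat_lit 32768) (Steps.fwd (nat_lit 8192) (Steps.fwd (nat_lit 24576) (Steps.fwd (nat_lit 8192) (Steps.bwd (nat_lit 2) (Steps.fwd (nat_lit 8192) (Steps.fwd (nat_lit 16384) (Steps.fwd (nat_lit 8192) (Steps.bwd (nat_lit 3) (Steps.fwd (nat_lit 8192) Steps.nil)))))))))))) (nat_lit 195) (nat_lit 11),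
  Rule.mk (nat_lit 14) (nat_lit 89) (Steps.bwd (nat_lit 1) (Steps.bwd (nat_lit 9) (Steps.fwd (nat_lit 8192) (Steps.bwd (nat_lit 4) (Steps.bwd (nat_lit 7) Steps.nil))))) (nat_lit 156) (nat_lit 0),
  Rule.mk (nat_lit 10) (nat_lit 134) (Steps.bwd (nat_lit 1) (Steps.bwd (nat_lit 4) (Steps.bwd (nat_lit 5) (Steps.bwd (nat_lit 8) (Steps.fwd (nat_lit 73728) (Steps.bwd (nat_lit 11) (Steps.bwd (nat_lit 14) (Steps.bwd (nat_lit 1) Steps.nil)))))))) (nat_lit 158) (nat_lit 2),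
  Rule.mk (nat_lit 7) (nat_lit 164) (Steps.bwd (nat_lit 1) (Steps.bwd (nat_lit 5) (Steps.fwd (nat_lit 49152) (Steps.fwd (nat_lit 73728) (Steps.bwd (nat_lit 10) (Steps.fwd (nat_lit 90112) (Steps.fwd (nat_lit 98304) (Steps.bwd (nat_lit 13) (Steps.bwd (nat_lit 14) (Steps.bwd (nat_lit 1) Steps.nil)))))))))) (nat_lit 152) (nat_lit 2),
  Rule.mk (nat_lit 12) (nat_lit 164) (Steps.bwd (nat_lit 1) (Steps.bwd (nat_lit 4) (Steps.bwd (nat_lit 5) (Steps.bwd (nat_lit 8) (Steps.fwd (nat_lit 73728) (Steps.bwd (nat_lit 10) (Steps.fwd (nat_lit 90112) (Steps.fwd (nat_lit 98304) (Steps.fwd (nat_lit 114688) (Steps.fwd (nat_lit 8192) Steps.nil)))))))))) (nat_lit 162) (nat_lit 2),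
  Rule.mk (nat_lit 0) (nat_lit 194) (Steps.bwd (nat_lit 3) (Steps.bwd (nat_lit 1) (Steps.bwd (nat_lit 4) (Steps.fwd (nat_lit 16384) (Steps.fwd (nat_lit 8192) (Steps.bwd (nat_lit 2) (Steps.bwd (nat_lit 1) (Steps.fwd (nat_lit 24576) (Steps.fwd (nat_lit 8192) (Steps.bwd (nat_lit 2) (Steps.bwd (nat_lit 1) (Steps.fwd (nat_lit 131072) Steps.nil)))))))))))) (nat_lit 191) (nat_lit 0),
  Rule.mk (nat_lit 0) (nat_lit 194) (Steps.bwd (nat_lit 1) (Steps.bwd (nat_lit 3) (Steps.bwd (nat_lit 4) (Steps.bwd (nat_lit 1) (Steps.bwd (nat_lit 2) (Steps.fwd (nat_lit 8192) (Steps.fwd (nat_lit 24576) (Steps.fwd (nat_lit 8192) (Steps.fwd (nat_lit 16384) (Steps.bwd (nat_lit 1) (Steps.fwd (nat_lit 16384) (Steps.fwd (nat_lit 139264) Steps.nil)))))))))))) (nat_lit 192) (nat_lit 1),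
  Rule.mk (nat_lit 18) (nat_lit 179) (Steps.bwd (nat_lit 1) (Steps.bwd (nat_lit 3) (Steps.bwd (nat_lit 4) (Steps.fwd (nat_lit 8192) (Steps.bwd (nat_lit 2) (Steps.bwd (nat_lit 1) (Steps.fwd (nat_lit 24576) (Steps.fwd (nat_lit 8192) (Steps.bwd (nat_lit 3) (Steps.bwd (nat_lit 1) (Steps.bwd (nat_lit 3) Steps.nil))))))))))) (nat_lit 192) (nat_lit 1),
  Rule.mk (nat_lit 17) (nat_lit 179) (Steps.bwd (nat_lit 2) (Steps.fwd (nat_lit 8192) (Steps.bwd (nat_lit 2) (Steps.fwd (nat_lit 8192) (Steps.bwd (nat_lit 3) (Steps.bwd (nat_lit 1) (Steps.bwd (nat_lit 3) (Steps.bwd (nat_lit 1) (Steps.bwd (nat_lit 4) (Steps.bwd (nat_lit 2) (Steps.fwd (nat_lit 8192) Steps.nil))))))))))) (nat_lit 193) (nat_lit 0),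
  Rule.mk (nat_lit 20) (nat_lit 179) (Steps.bwd (nat_lit 1) (Steps.bwd (nat_lit 2) (Steps.fwd (nat_lit 8192) (Steps.bwd (nat_lit 2) (Steps.fwd (nat_lit 8192) (Steps.bwd (nat_lit 3) (Steps.bwd (nat_lit 1) (Steps.bwd (nat_lit 3) (Steps.bwd (nat_lit 1) (Steps.bwd (nat_lit 4) (Steps.bwd (nat_lit 2) Steps.nil))))))))))) (nat_lit 194) (nat_lit 1),
  Rule.mk (nat_lit 14) (nat_lit 104) (Steps.bwd (nat_lit 1) (Steps.fwd (nat_lit 65536) (Steps.fwd (nat_lit 8192) (Steps.bwd (nat_lit 5) (Steps.bwd (nat_lit 7) (Steps.bwd (nat_lit 13) Steps.nil)))))) (nat_lit 154) (nat_lit 0),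
  Rule.mk (nat_lit 11) (nat_lit 104) (Steps.bwd (nat_lit 1) (Steps.bwd (nat_lit 6) (Steps.bwd (nat_lit 11) (Steps.fwd (nat_lit 98304) (Steps.bwd (nat_lit 14) (Steps.bwd (nat_lit 1) Steps.nil)))))) (nat_lit 160) (nat_lit 2),
  Rule.mk (nat_lit 6) (nat_lit 104) (Steps.bwd (nat_lit 1) (Steps.bwd (nat_lit 11) (Steps.bwd (nat_lit 1) (Steps.bwd (nat_lit 14) (Steps.bwd (nat_lit 12) (Steps.bwd (nat_lit 11) Steps.nil)))))) (nat_lit 161) (nat_lit 4),
  Rule.mk (nat_lit 10) (nat_lit 134) (Steps.bwd (nat_lit 1) (Steps.fwd (nat_lit 114688) (Steps.bwd (nat_lit 11) (Steps.fwd (nat_lit 73728) (Steps.bwd (nat_lit 8) (Steps.fwd (nat_lit 40960) (Steps.bwd (nat_lit 4) (Steps.fwd (nat_lit 8192) Steps.nil)))))))) (nat_lit 159) (nat_lit 8),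
  Rule.mk (nat_lit 7) (nat_lit 164) (Steps.bwd (nat_lit 1) (Steps.fwd (nat_lit 40960) (Steps.bwd (nat_lit 6) (Steps.bwd (nat_lit 9) (Steps.fwd (nat_lit 81920) (Steps.bwd (nat_lit 11) (Steps.bwd (nat_lit 12) (Steps.bwd (nat_lit 13) (Steps.bwd (nat_lit 14) (Steps.fwd (nat_lit 8192) Steps.nil)))))))))) (nat_lit 152) (nat_lit 2),
  Rule.mk (nat_lit 12) (nat_lit 164) (Steps.bwd (nat_lit 1) (Steps.fwd (nat_lit 114688) (Steps.bwd (nat_lit 12) (Steps.bwd (nat_lit 11) (Steps.fwd (nat_lit 81920) (Steps.bwd (nat_lit 9) (Steps.fwd (nat_lit 65536) (Steps.fwd (nat_lit 40960) (Steps.fwd (nat_lit 32768) (Steps.fwd (nat_lit 8192) Steps.nil)))))))))) (nat_lit 163) (nat_lit 10),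
  Rule.mk (nat_lit 16) (nat_lit 179) (Steps.bwd (nat_lit 1) (Steps.fwd (nat_lit 16384) (Steps.fwd (nat_lit 8192) (Steps.bwd (nat_lit 3) (Steps.bwd (nat_lit 1) (Steps.fwd (nat_lit 16384) (Steps.bwd (nat_lit 1) (Steps.bwd (nat_lit 2) (Steps.bwd (nat_lit 4) (Steps.bwd (nat_lit 1) (Steps.fwd (nat_lit 24576) Steps.nil))))))))))) (nat_lit 190) (nat_lit 1),
  Rule.mk (nat_lit 16) (nat_lit 179) (Steps.bwd (nat_lit 1) (Steps.bwd (nat_lit 3) (Steps.bwd (nat_lit 1) (Steps.fwd (nat_lit 16384) (Steps.bwd (nat_lit 1) (Steps.fwd (nat_lit 16384) (Steps.bwd (nat_lit 1) (Steps.bwd (nat_lit 2) (Steps.fwd (nat_lit 32768) (Steps.bwd (nat_lit 1) (Steps.fwd (nat_lit 24576) Steps.nil))))))))))) (nat_lit 190) (nat_lit 1),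
  Rule.mk (nat_lit 18) (nat_lit 179) (Steps.fwd (nat_lit 8192) (Steps.fwd (nat_lit 16384) (Steps.bwd (nat_lit 4) (Steps.bwd (nat_lit 1) (Steps.fwd (nat_lit 24576) (Steps.fwd (nat_lit 8192) (Steps.fwd (nat_lit 24576) (Steps.fwd (nat_lit 8192) (Steps.fwd (nat_lit 16384) (Steps.bwd (nat_lit 1) (Steps.fwd (nat_lit 16384) Steps.nil))))))))))) (nat_lit 192) (nat_lit 1),
  Rule.mk (nat_lit 2) (nat_lit 179) (Steps.bwd (nat_lit 1) (Steps.fwd (nat_lit 24576) (Steps.fwd (nat_lit 8192) (Steps.bwd (nat_lit 3) (Steps.fwd (nat_lit 8192) (Steps.bwd (nat_lit 3) (Steps.fwd (nat_lit 8192) (Steps.fwd (nat_lit 32768) (Steps.bwd (nat_lit 2) (Steps.fwd (nat_lit 8192) (Steps.fwd (nat_lit 147456) Steps.nil))))))))))) (nat_lit 193) (nat_lit 1),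
  Rule.mk (nat_lit 20) (nat_lit 179) (Steps.bwd (nat_lit 1) (Steps.fwd (nat_lit 24576) (Steps.fwd (nat_lit 8192) (Steps.fwd (nat_lit 24576) (Steps.fwd (nat_lit 8192) (Steps.fwd (nat_lit 16384) (Steps.bwd (nat_lit 1) (Steps.fwd (nat_lit 16384) (Steps.bwd (nat_lit 1) (Steps.fwd (nat_lit 32768) (Steps.fwd (nat_lit 24576) Steps.nil))))))))))) (nat_lit 194) (nat_lit 1),
  Rule.mk (nat_lit 19) (nat_lit 179) (Steps.fwd (nat_lit 16384) (Steps.bwd (nat_lit 4) (Steps.bwd (nat_lit 1) (Steps.fwd (nat_lit 24576) (Steps.fwd (nat_lit 8192) (Steps.fwd (nat_lit 24576) (Steps.fwd (nat_lit 8192) (Steps.fwd (nat_lit 16384) (Steps.bwd (nat_lit 1) (Steps.fwd (nat_lit 16384) (Steps.bwd (nat_lit 1) Steps.nil))))))))))) (nat_lit 195) (nat_lit 0),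
  Rule.mk (nat_lit 3) (nat_lit 539) (Steps.bwd (nat_lit 1) (Steps.bwd (nat_lit 3) (Steps.bwd (nat_lit 1) (Steps.fwd (nat_lit 24576) (Steps.bwd (nat_lit 1) (Steps.bwd (nat_lit 2) (Steps.bwd (nat_lit 1) (Steps.fwd (nat_lit 16384) (Steps.fwd (nat_lit 8192) (Steps.fwd (nat_lit 24576) (Steps.bwd (nat_lit 1) (Steps.bwd (nat_lit 2) (Steps.bwd (nat_lit 1) (Steps.bwd (nat_lit 3) (Steps.bwd (nat_lit 1) (Steps.fwd (nat_lit 24576) (Steps.fwd (nat_lit 8192) (Steps.bwd (nat_lit 2) (Steps.bwd (nat_lit 1) (Steps.fwd (nat_lit 16384) (Steps.bwd (nat_lit 1) (Steps.bwd (nat_lit 2) (Steps.fwd (nat_lit 8192) (Steps.bwd (nat_lit 3) (Steps.fwd (nat_lit 8192) (Steps.fwd (nat_lit 16384) (Steps.fwd (nat_lit 8192) (Steps.fwd (nat_lit 24576) (Steps.fwd (nat_lit 8192) (Steps.bwd (nat_lit 3) (Steps.bwd (nat_lit 1) (Steps.bwd (nat_lit 3) (Steps.fwd (nat_lit 8192) (Steps.bwd (nat_lit 2) (Steps.bwd (nat_lit 1) Steps.nil)))))))))))))))))))))))))))))))))))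 (nat_lit 12) (nat_lit 34),
  Rule.mk (nat_lit 0) (nat_lit 554) (Steps.bwd (nat_lit 1) (Steps.bwd (nat_lit 3) (Steps.bwd (nat_lit 1) (Steps.fwd (nat_lit 24576) (Steps.bwd (nat_lit 1) (Steps.bwd (nat_lit 3) (Steps.bwd (nat_lit 1) (Steps.fwd (nat_lit 16384) (Steps.bwd (nat_lit 1) (Steps.bwd (nat_lit 2) (Steps.fwd (nat_lit 8192) (Steps.fwd (nat_lit 16384) (Steps.fwd (nat_lit 8192) (Steps.fwd (nat_lit 16384) (Steps.bwd (nat_lit 1) (Steps.bwd (nat_lit 2) (Steps.bwd (nat_lit 1) (Steps.fwd (nat_lit 24576) (Steps.fwd (nat_lit 8192) (Steps.fwd (nat_lit 16384) (Steps.bwd (nat_lit 1) (Steps.bwd (nat_lit 2) (Steps.bwd (nat_lit 1) (Steps.fwd (nat_lit 24576) (Steps.fwd (nat_lit 8192) (Steps.fwd (nat_lit 16384) (Steps.fwd (nat_lit 8192) (Steps.fwd (nat_lit 24576) (Steps.bwd (nat_lit 1) (Steps.bwd (nat_lit 2) (Steps.fwd (nat_lit 8192) (Steps.bwd (nat_lit 3) (Steps.fwd (nat_lit 8192) (Steps.fwd (nat_lit 24576)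 (Steps.fwd (nat_lit 8192) (Steps.fwd (nat_lit 16384) Steps.nil)))))))))))))))))))))))))))))))))))) (nat_lit 12) (nat_lit 22),
  Rule.mk (nat_lit 16) (nat_lit 179) (Steps.bwd (nat_lit 1) (Steps.fwd (nat_lit 16384) (Steps.bwd (nat_lit 1) (Steps.fwd (nat_lit 16384) (Steps.fwd (nat_lit 8192) (Steps.bwd (nat_lit 3) (Steps.bwd (nat_lit 1) (Steps.fwd (nat_lit 24576) (Steps.bwd (nat_lit 4) (Steps.fwd (nat_lit 8192) (Steps.fwd (nat_lit 24576) Steps.nil))))))))))) (nat_lit 190) (nat_lit 1),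
  Rule.mk (nat_lit 0) (nat_lit 194) (Steps.bwd (nat_lit 16) (Steps.bwd (nat_lit 1) (Steps.bwd (nat_lit 3) (Steps.bwd (nat_lit 1) (Steps.bwd (nat_lit 3) (Steps.bwd (nat_lit 1) (Steps.bwd (nat_lit 3) (Steps.fwd (nat_lit 8192) (Steps.fwd (nat_lit 24576) (Steps.fwd (nat_lit 32768) (Steps.bwd (nat_lit 1) (Steps.bwd (nat_lit 2) Steps.nil)))))))))))) (nat_lit 190) (nat_lit 0),
  Rule.mk (nat_lit 16) (nat_lit 179) (Steps.bwd (nat_lit 1) (Steps.bwd (nat_lit 3) (Steps.bwd (nat_lit 1) (Steps.bwd (nat_lit 3) (Steps.fwd (nat_lit 8192) (Steps.fwd (nat_lit 16384) (Steps.fwd (nat_lit 8192) (Steps.bwd (nat_lit 2) (Steps.fwd (nat_lit 32768) (Steps.bwd (nat_lit 1) (Steps.bwd (nat_lit 2) Steps.nil))))))))))) (nat_lit 190) (nat_lit 1),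
  Rule.mk (nat_lit 0) (nat_lit 194) (Steps.bwd (nat_lit 15) (Steps.fwd (nat_lit 16384) (Steps.bwd (nat_lit 1) (Steps.fwd (nat_lit 32768) (Steps.bwd (nat_lit 3) (Steps.fwd (nat_lit 8192) (Steps.fwd (nat_lit 24576) (Steps.bwd (nat_lit 1) (Steps.bwd (nat_lit 2) (Steps.bwd (nat_lit 1) (Steps.fwd (nat_lit 24576) (Steps.fwd (nat_lit 8192) Steps.nil)))))))))))) (nat_lit 191) (nat_lit 11),
  Rule.mk (nat_lit 16) (nat_lit 179) (Steps.fwd (nat_lit 8192) (Steps.fwd (nat_lit 16384) (Steps.fwd (nat_lit 8192) (Steps.bwd (nat_lit 3) (Steps.bwd (nat_lit 1) (Steps.fwd (nat_lit 16384) (Steps.fwd (nat_lit 8192) (Steps.fwd (nat_lit 24576) (Steps.bwd (nat_lit 4) (Steps.fwd (nat_lit 8192) (Steps.bwd (nat_lit 2) Steps.nil))))))))))) (nat_lit 190) (nat_lit 1),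
  Rule.mk (nat_lit 15) (nat_lit 179) (Steps.fwd (nat_lit 16384) (Steps.fwd (nat_lit 8192) (Steps.bwd (nat_lit 4) (Steps.bwd (nat_lit 3) (Steps.fwd (nat_lit 8192) (Steps.fwd (nat_lit 24576) (Steps.fwd (nat_lit 8192) (Steps.fwd (nat_lit 24576) (Steps.bwd (nat_lit 1) (Steps.bwd (nat_lit 2) (Steps.fwd (nat_lit 8192) Steps.nil))))))))))) (nat_lit 191) (nat_lit 0),
  Rule.mk (nat_lit 0) (nat_lit 194) (Steps.bwd (nat_lit 17) (Steps.fwd (nat_lit 24576) (Steps.bwd (nat_lit 1) (Steps.bwd (nat_lit 2) (Steps.bwd (nat_lit 1) (Steps.bwd (nat_lit 3) (Steps.bwd (nat_lit 1) (Steps.fwd (nat_lit 16384) (Steps.bwd (nat_lit 1) (Steps.fwd (nat_lit 32768) (Steps.bwd (nat_lit 2) (Steps.bwd (nat_lit 1) Steps.nil)))))))))))) (nat_lit 193) (nat_lit 11),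
  Rule.mk (nat_lit 0) (nat_lit 194) (Steps.bwd (nat_lit 1) (Steps.bwd (nat_lit 3) (Steps.fwd (nat_lit 32768) (Steps.fwd (nat_lit 8192) (Steps.fwd (nat_lit 24576) (Steps.fwd (nat_lit 8192) (Steps.fwd (nat_lit 24576) (Steps.fwd (nat_lit 8192) (Steps.fwd (nat_lit 16384) (Steps.bwd (nat_lit 1) (Steps.fwd (nat_lit 16384) (Steps.fwd (nat_lit 139264) Steps.nil)))))))))))) (nat_lit 192) (nat_lit 1),
  Rule.mk (nat_lit 0) (nat_lit 194) (Steps.fwd (nat_lit 8192) (Steps.bwd (nat_lit 3) (Steps.bwd (nat_lit 4) (Steps.fwd (nat_lit 8192) (Steps.fwd (nat_lit 24576) (Steps.fwd (nat_lit 8192) (Steps.fwd (nat_lit 24576) (Steps.bwd (nat_lit 1) (Steps.bwd (nat_lit 3) (Steps.bwd (nat_lit 1) (Steps.bwd (nat_lit 3) (Steps.fwd (nat_lit 139264) Steps.nil)))))))))))) (nat_lit 192) (nat_lit 1),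
  Rule.mk (nat_lit 17) (nat_lit 179) (Steps.fwd (nat_lit 24576) (Steps.bwd (nat_lit 1) (Steps.fwd (nat_lit 24576) (Steps.bwd (nat_lit 1) (Steps.bwd (nat_lit 3) (Steps.fwd (nat_lit 8192) (Steps.fwd (nat_lit 16384) (Steps.fwd (nat_lit 8192) (Steps.bwd (nat_lit 4) (Steps.bwd (nat_lit 2) (Steps.bwd (nat_lit 1) Steps.nil))))))))))) (nat_lit 193) (nat_lit 0),
  Rule.mk (nat_lit 0) (nat_lit 194) (Steps.bwd (nat_lit 18) (Steps.bwd (nat_lit 1) (Steps.fwd (nat_lit 16384) (Steps.bwd (nat_lit 4) (Steps.fwd (nat_lit 8192) (Steps.fwd (nat_lit 24576) (Steps.bwd (nat_lit 1) (Steps.bwd (nat_lit 2) (Steps.bwd (nat_lit 1) (Steps.bwd (nat_lit 3) (Steps.bwd (nat_lit 1) (Steps.fwd (nat_lit 16384) Steps.nil)))))))))))) (nat_lit 192) (nat_lit 0),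
  Rule.mk (nat_lit 0) (nat_lit 194) (Steps.bwd (nat_lit 17) (Steps.fwd (nat_lit 24576) (Steps.fwd (nat_lit 8192) (Steps.fwd (nat_lit 24576) (Steps.fwd (nat_lit 8192) (Steps.fwd (nat_lit 16384) (Steps.bwd (nat_lit 1) (Steps.fwd (nat_lit 16384) (Steps.fwd (nat_lit 8192) (Steps.fwd (nat_lit 32768) (Steps.bwd (nat_lit 2) (Steps.bwd (nat_lit 1) Steps.nil)))))))))))) (nat_lit 193) (nat_lit 11),
  Rule.mk (nat_lit 20) (nat_lit 179) (Steps.bwd (nat_lit 1) (Steps.fwd (nat_lit 24576) (Steps.bwd (nat_lit 1) (Steps.fwd (nat_lit 24576) (Steps.bwd (nat_lit 1) (Steps.bwd (nat_lit 3) (Steps.fwd (nat_lit 8192) (Steps.fwd (nat_lit 16384) (Steps.fwd (nat_lit 8192) (Steps.bwd (nat_lit 4) (Steps.bwd (nat_lit 2) Steps.nil))))))))))) (nat_lit 194) (nat_lit 1),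
  Rule.mk (nat_lit 20) (nat_lit 179) (Steps.fwd (nat_lit 8192) (Steps.bwd (nat_lit 2) (Steps.fwd (nat_lit 8192) (Steps.fwd (nat_lit 24576) (Steps.fwd (nat_lit 8192) (Steps.fwd (nat_lit 16384) (Steps.fwd (nat_lit 8192) (Steps.bwd (nat_lit 3) (Steps.bwd (nat_lit 1) (Steps.fwd (nat_lit 32768) (Steps.bwd (nat_lit 2) Steps.nil))))))))))) (nat_lit 194) (nat_lit 1),
  Rule.mk (nat_lit 0) (nat_lit 194) (Steps.bwd (nat_lit 19) (Steps.fwd (nat_lit 16384) (Steps.bwd (nat_lit 4) (Steps.bwd (nat_lit 1) (Steps.bwd (nat_lit 2) (Steps.fwd (nat_lit 8192) (Steps.bwd (nat_lit 2) (Steps.bwd (nat_lit 1) (Steps.bwd (nat_lit 3) (Steps.bwd (nat_lit 1) (Steps.bwd (nat_lit 3) (Steps.bwd (nat_lit 1) Steps.nil)))))))))))) (nat_lit 195) (nat_lit 11),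
  Rule.mk (nat_lit 0) (nat_lit 194) (Steps.fwd (nat_lit 8192) (Steps.fwd (nat_lit 24576) (Steps.fwd (nat_lit 8192) (Steps.fwd (nat_lit 24576) (Steps.bwd (nat_lit 1) (Steps.bwd (nat_lit 3) (Steps.bwd (nat_lit 1) (Steps.bwd (nat_lit 3) (Steps.bwd (nat_lit 1) (Steps.bwd (nat_lit 4) (Steps.fwd (nat_lit 24576) (Steps.fwd (nat_lit 155648) Steps.nil)))))))))))) (nat_lit 194) (nat_lit 1),
  Rule.mk (nat_lit 0) (nat_lit 194) (Steps.bwd (nat_lit 20) (Steps.bwd (nat_lit 1) (Steps.bwd (nat_lit 2) (Steps.bwd (nat_lit 1) (Steps.fwd (nat_lit 24576) (Steps.fwd (nat_lit 8192) (Steps.bwd (nat_lit 3) (Steps.fwd (nat_lit 8192) (Steps.bwd (nat_lit 3) (Steps.fwd (nat_lit 8192) (Steps.fwd (nat_lit 32768) (Steps.bwd (nat_lit 2) Steps.nil)))))))))))) (nat_lit 194) (nat_lit 0),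
  Rule.mk (nat_lit 19) (nat_lit 179) (Steps.bwd (nat_lit 3) (Steps.fwd (nat_lit 32768) (Steps.fwd (nat_lit 8192) (Steps.bwd (nat_lit 2) (Steps.fwd (nat_lit 8192) (Steps.fwd (nat_lit 24576) (Steps.fwd (nat_lit 8192) (Steps.fwd (nat_lit 16384) (Steps.bwd (nat_lit 1) (Steps.fwd (nat_lit 16384) (Steps.fwd (nat_lit 8192) Steps.nil))))))))))) (nat_lit 195) (nat_lit 0),
  Rule.mk (nat_lit 0) (nat_lit 194) (Steps.bwd (nat_lit 3) (Steps.bwd (nat_lit 4) (Steps.fwd (nat_lit 8192) (Steps.fwd (nat_lit 24576) (Steps.fwd (nat_lit 8192) (Steps.fwd (nat_lit 24576) (Steps.bwd (nat_lit 1) (Steps.bwd (nat_lit 3) (Steps.bwd (nat_lit 1) (Steps.bwd (nat_lit 3) (Steps.bwd (nat_lit 1) (Steps.fwd (nat_lit 163840) Steps.nil)))))))))))) (nat_lit 195) (nat_lit 0),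
  Rule.mk (nat_lit 16) (nat_lit 179) (Steps.fwd (nat_lit 8192) (Steps.fwd (nat_lit 16384) (Steps.fwd (nat_lit 8192) (Steps.bwd (nat_lit 3) (Steps.bwd (nat_lit 1) (Steps.fwd (nat_lit 16384) (Steps.bwd (nat_lit 1) (Steps.fwd (nat_lit 24576) (Steps.fwd (nat_lit 32768) (Steps.bwd (nat_lit 1) (Steps.bwd (nat_lit 2) Steps.nil))))))))))) (nat_lit 190) (nat_lit 1),
  Rule.mk (nat_lit 0) (nat_lit 194) (Steps.bwd (nat_lit 16) (Steps.fwd (nat_lit 8192) (Steps.bwd (nat_lit 3) (Steps.fwd (nat_lit 8192) (Steps.fwd (nat_lit 16384) (Steps.fwd (nat_lit 8192) (Steps.fwd (nat_lit 16384) (Steps.bwd (nat_lit 1) (Steps.bwd (nat_lit 2) (Steps.fwd (nat_lit 32768) (Steps.bwd (nat_lit 1) (Steps.bwd (nat_lit 2) Steps.nil)))))))))))) (nat_lit 190) (nat_lit 0),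
  Rule.mk (nat_lit 18) (nat_lit 179) (Steps.bwd (nat_lit 1) (Steps.bwd (nat_lit 3) (Steps.fwd (nat_lit 32768) (Steps.fwd (nat_lit 8192) (Steps.fwd (nat_lit 24576) (Steps.fwd (nat_lit 8192) (Steps.fwd (nat_lit 24576) (Steps.fwd (nat_lit 8192) (Steps.bwd (nat_lit 3) (Steps.bwd (nat_lit 1) (Steps.bwd (nat_lit 3) Steps.nil))))))))))) (nat_lit 192) (nat_lit 1),
  Rule.mk (nat_lit 2) (nat_lit 134) (Steps.bwd (nat_lit 9) (Steps.fwd (nat_lit 16384) (Steps.bwd (nat_lit 4) (Steps.bwd (nat_lit 5) (Steps.fwd (nat_lit 65536) (Steps.fwd (nat_lit 73728) (Steps.bwd (nat_lit 11) (Steps.bwd (nat_lit 14) Steps.nil)))))))) (nat_lit 178) (nat_lit 1),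
  Rule.mk (nat_lit 16) (nat_lit 179) (Steps.fwd (nat_lit 8192) (Steps.bwd (nat_lit 3) (Steps.fwd (nat_lit 8192) (Steps.fwd (nat_lit 16384) (Steps.bwd (nat_lit 1) (Steps.fwd (nat_lit 16384) (Steps.fwd (nat_lit 8192) (Steps.fwd (nat_lit 24576) (Steps.bwd (nat_lit 4) (Steps.fwd (nat_lit 8192) (Steps.bwd (nat_lit 2) Steps.nil))))))))))) (nat_lit 190) (nat_lit 1),
  Rule.mk (nat_lit 0) (nat_lit 194) (Steps.bwd (nat_lit 16) (Steps.bwd (nat_lit 1) (Steps.bwd (nat_lit 3) (Steps.fwd (nat_lit 8192) (Steps.fwd (nat_lit 16384) (Steps.bwd (nat_lit 1) (Steps.bwd (nat_lit 3) (Steps.fwd (nat_lit 8192) (Steps.bwd (nat_lit 2) (Steps.fwd (nat_lit 32768) (Steps.bwd (nat_lit 1) (Steps.fwd (nat_lit 24576) Steps.nil)))))))))))) (nat_lit 190) (nat_lit 0)]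
noncomputable def R_133 : List (Rule) := [Rule.mk (nat_lit 0) (nat_lit 194) (Steps.fwd (nat_lit 8192) (Steps.fwd (nat_lit 16384) (Steps.bwd (nat_lit 1) (Steps.fwd (nat_lit 16384) (Steps.fwd (nat_lit 8192) (Steps.fwd (nat_lit 16384) (Steps.bwd (nat_lit 1) (Steps.bwd (nat_lit 2) (Steps.bwd (nat_lit 4) (Steps.bwd (nat_lit 1) (Steps.fwd (nat_lit 24576) (Steps.fwd (nat_lit 122880) Steps.nil)))))))))))) (nat_lit 190) (nat_lit 1),
  Rule.mk (nat_lit 16) (nat_lit 179) (Steps.bwd (nat_lit 1) (Steps.bwd (nat_lit 3) (Steps.fwd (nat_lit 8192) (Steps.bwd (nat_lit 3) (Steps.fwd (nat_lit 8192) (Steps.bwd (nat_lit 3) (Steps.bwd (nat_lit 1) (Steps.fwd (nat_lit 24576) (Steps.bwd (nat_lit 4) (Steps.fwd (nat_lit 8192) (Steps.fwd (nat_lit 24576) Steps.nil))))))))))) (nat_lit 190) (nat_lit 1),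
  Rule.mk (nat_lit 18) (nat_lit 179) (Steps.bwd (nat_lit 1) (Steps.bwd (nat_lit 3) (Steps.bwd (nat_lit 4) (Steps.fwd (nat_lit 8192) (Steps.fwd (nat_lit 24576) (Steps.bwd (nat_lit 1) (Steps.bwd (nat_lit 2) (Steps.bwd (nat_lit 1) (Steps.fwd (nat_lit 16384) (Steps.fwd (nat_lit 8192) (Steps.bwd (nat_lit 3) Steps.nil))))))))))) (nat_lit 192) (nat_lit 1),
  Rule.mk (nat_lit 0) (nat_lit 194) (Steps.fwd (nat_lit 8192) (Steps.bwd (nat_lit 3) (Steps.fwd (nat_lit 32768) (Steps.bwd (nat_lit 1) (Steps.fwd (nat_lit 24576) (Steps.bwd (nat_lit 1) (Steps.fwd (nat_lit 24576) (Steps.bwd (nat_lit 1) (Steps.bwd (nat_lit 3) (Steps.bwd (nat_lit 1) (Steps.fwd (nat_lit 16384) (Steps.fwd (nat_lit 139264) Steps.nil)))))))))))) (nat_lit 192) (nat_lit 1),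
  Rule.mk (nat_lit 0) (nat_lit 194) (Steps.bwd (nat_lit 20) (Steps.fwd (nat_lit 8192) (Steps.bwd (nat_lit 2) (Steps.fwd (nat_lit 8192) (Steps.fwd (nat_lit 24576) (Steps.fwd (nat_lit 8192) (Steps.bwd (nat_lit 3) (Steps.fwd (nat_lit 8192) (Steps.bwd (nat_lit 3) (Steps.fwd (nat_lit 8192) (Steps.bwd (nat_lit 4) (Steps.fwd (nat_lit 24576) Steps.nil)))))))))))) (nat_lit 194) (nat_lit 0),
  Rule.mk (nat_lit 19) (nat_lit 179) (Steps.bwd (nat_lit 3) (Steps.bwd (nat_lit 4) (Steps.fwd (nat_lit 8192) (Steps.fwd (nat_lit 24576) (Steps.bwd (nat_lit 1) (Steps.fwd (nat_lit 24576) (Steps.bwd (nat_lit 1) (Steps.fwd (nat_lit 16384) (Steps.fwd (nat_lit 8192) (Steps.bwd (nat_lit 3) (Steps.fwd (nat_lit 8192) Steps.nil))))))))))) (nat_lit 195) (nat_lit 0),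
  Rule.mk (nat_lit 16) (nat_lit 179) (Steps.bwd (nat_lit 1) (Steps.fwd (nat_lit 16384) (Steps.fwd (nat_lit 8192) (Steps.bwd (nat_lit 3) (Steps.fwd (nat_lit 8192) (Steps.bwd (nat_lit 3) (Steps.fwd (nat_lit 8192) (Steps.fwd (nat_lit 24576) (Steps.bwd (nat_lit 4) (Steps.fwd (nat_lit 8192) (Steps.bwd (nat_lit 2) Steps.nil))))))))))) (nat_lit 190) (nat_lit 1),
  Rule.mk (nat_lit 0) (nat_lit 194) (Steps.bwd (nat_lit 16) (Steps.fwd (nat_lit 8192) (Steps.bwd (nat_lit 3) (Steps.fwd (nat_lit 8192) (Steps.bwd (nat_lit 3) (Steps.fwd (nat_lit 8192) (Steps.fwd (nat_lit 16384) (Steps.bwd (nat_lit 1) (Steps.fwd (nat_lit 24576) (Steps.bwd (nat_lit 4) (Steps.bwd (nat_lit 1) (Steps.bwd (nat_lit 2) Steps.nil)))))))))))) (nat_lit 190) (nat_lit 0),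
  Rule.mk (nat_lit 18) (nat_lit 179) (Steps.bwd (nat_lit 1) (Steps.bwd (nat_lit 3) (Steps.fwd (nat_lit 32768) (Steps.bwd (nat_lit 1) (Steps.fwd (nat_lit 24576) (Steps.bwd (nat_lit 1) (Steps.bwd (nat_lit 2) (Steps.fwd (nat_lit 8192) (Steps.bwd (nat_lit 3) (Steps.fwd (nat_lit 8192) (Steps.bwd (nat_lit 3) Steps.nil))))))))))) (nat_lit 192) (nat_lit 1),
  Rule.mk (nat_lit 18) (nat_lit 179) (Steps.bwd (nat_lit 1) (Steps.bwd (nat_lit 3) (Steps.fwd (nat_lit 32768) (Steps.fwd (nat_lit 8192) (Steps.bwd (nat_lit 2) (Steps.bwd (nat_lit 1) (Steps.bwd (nat_lit 2) (Steps.fwd (nat_lit 8192) (Steps.bwd (nat_lit 3) (Steps.fwd (nat_lit 8192) (Steps.fwd (nat_lit 16384) Steps.nil))))))))))) (nat_lit 192) (nat_lit 1),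
  Rule.mk (nat_lit 19) (nat_lit 179) (Steps.bwd (nat_lit 3) (Steps.fwd (nat_lit 32768) (Steps.fwd (nat_lit 8192) (Steps.bwd (nat_lit 2) (Steps.bwd (nat_lit 1) (Steps.bwd (nat_lit 2) (Steps.fwd (nat_lit 8192) (Steps.bwd (nat_lit 3) (Steps.fwd (nat_lit 8192) (Steps.fwd (nat_lit 16384) (Steps.bwd (nat_lit 1) Steps.nil))))))))))) (nat_lit 195) (nat_lit 0),
  Rule.mk (nat_lit 15) (nat_lit 179) (Steps.fwd (nat_lit 16384) (Steps.fwd (nat_lit 8192) (Steps.bwd (nat_lit 4) (Steps.bwd (nat_lit 3) (Steps.bwd (nat_lit 1) (Steps.bwd (nat_lit 2) (Steps.fwd (nat_lit 8192) (Steps.bwd (nat_lit 2) (Steps.fwd (nat_lit 8192) (Steps.fwd (nat_lit 24576) (Steps.bwd (nat_lit 1) Steps.nil))))))))))) (nat_lit 191) (nat_lit 0),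
  Rule.mk (nat_lit 0) (nat_lit 194) (Steps.fwd (nat_lit 8192) (Steps.bwd (nat_lit 3) (Steps.fwd (nat_lit 32768) (Steps.bwd (nat_lit 1) (Steps.bwd (nat_lit 2) (Steps.fwd (nat_lit 8192) (Steps.bwd (nat_lit 2) (Steps.fwd (nat_lit 8192) (Steps.fwd (nat_lit 16384) (Steps.bwd (nat_lit 1) (Steps.fwd (nat_lit 16384) (Steps.fwd (nat_lit 139264) Steps.nil)))))))))))) (nat_lit 192) (nat_lit 1),
  Rule.mk (nat_lit 20) (nat_lit 179) (Steps.fwd (nat_lit 8192) (Steps.bwd (nat_lit 2) (Steps.fwd (nat_lit 8192) (Steps.fwd (nat_lit 24576) (Steps.fwd (nat_lit 8192) (Steps.bwd (nat_lit 3) (Steps.fwd (nat_lit 8192) (Steps.bwd (nat_lit 3) (Steps.bwd (nat_lit 1) (Steps.fwd (nat_lit 32768) (Steps.bwd (nat_lit 2) Steps.nil))))))))))) (nat_lit 194) (nat_lit 1),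
  Rule.mk (nat_lit 14) (nat_lit 89) (Steps.bwd (nat_lit 2) (Steps.bwd (nat_lit 8) (Steps.bwd (nat_lit 3) (Steps.bwd (nat_lit 4) (Steps.fwd (nat_lit 57344) Steps.nil))))) (nat_lit 176) (nat_lit 0),
  Rule.mk (nat_lit 5) (nat_lit 104) (Steps.bwd (nat_lit 2) (Steps.bwd (nat_lit 7) (Steps.fwd (nat_lit 16384) (Steps.bwd (nat_lit 14) (Steps.bwd (nat_lit 13) (Steps.bwd (nat_lit 7) Steps.nil)))))) (nat_lit 175) (nat_lit 4),
  Rule.mk (nat_lit 0) (nat_lit 194) (Steps.bwd (nat_lit 2) (Steps.bwd (nat_lit 1) (Steps.fwd (nat_lit 24576) (Steps.bwd (nat_lit 1) (Steps.bwd (nat_lit 3) (Steps.bwd (nat_lit 1) (Steps.bwd (nat_lit 3) (Steps.fwd (nat_lit 8192) (Steps.bwd (nat_lit 4) (Steps.bwd (nat_lit 2) (Steps.bwd (nat_lit 1) (Steps.fwd (nat_lit 147456) Steps.nil)))))))))))) (nat_lit 193) (nat_lit 0),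
  Rule.mk (nat_lit 17) (nat_lit 179) (Steps.bwd (nat_lit 2) (Steps.bwd (nat_lit 1) (Steps.fwd (nat_lit 24576) (Steps.bwd (nat_lit 1) (Steps.bwd (nat_lit 3) (Steps.fwd (nat_lit 8192) (Steps.fwd (nat_lit 16384) (Steps.bwd (nat_lit 1) (Steps.bwd (nat_lit 4) (Steps.fwd (nat_lit 24576) (Steps.bwd (nat_lit 1) Steps.nil))))))))))) (nat_lit 193) (nat_lit 0),
  Rule.mk (nat_lit 0) (nat_lit 194) (Steps.bwd (nat_lit 20) (Steps.bwd (nat_lit 1) (Steps.fwd (nat_lit 24576) (Steps.bwd (nat_lit 1) (Steps.fwd (nat_lit 24576) (Steps.bwd (nat_lit 1) (Steps.bwd (nat_lit 3) (Steps.bwd (nat_lit 1) (Steps.bwd (nat_lit 3) (Steps.fwd (nat_lit 8192) (Steps.bwd (nat_lit 4) (Steps.bwd (nat_lit 2) Steps.nil)))))))))))) (nat_lit 194) (nat_lit 0),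
  Rule.mk (nat_lit 0) (nat_lit 194) (Steps.bwd (nat_lit 16) (Steps.fwd (nat_lit 8192) (Steps.bwd (nat_lit 3) (Steps.fwd (nat_lit 8192) (Steps.bwd (nat_lit 3) (Steps.fwd (nat_lit 8192) (Steps.fwd (nat_lit 16384) (Steps.fwd (nat_lit 8192) (Steps.bwd (nat_lit 2) (Steps.fwd (nat_lit 32768) (Steps.bwd (nat_lit 1) (Steps.fwd (nat_lit 24576) Steps.nil)))))))))))) (nat_lit 190) (nat_lit 0),
  Rule.mk (nat_lit 16) (nat_lit 179) (Steps.bwd (nat_lit 1) (Steps.fwd (nat_lit 16384) (Steps.fwd (nat_lit 8192) (Steps.fwd (nat_lit 16384) (Steps.bwd (nat_lit 1) (Steps.bwd (nat_lit 3) (Steps.bwd (nat_lit 1) (Steps.bwd (nat_lit 2) (Steps.bwd (nat_lit 4) (Steps.fwd (nat_lit 8192) (Steps.bwd (nat_lit 2) Steps.nil))))))))))) (nat_lit 190) (nat_lit 1),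
  Rule.mk (nat_lit 6) (nat_lit 104) (Steps.bwd (nat_lit 1) (Steps.bwd (nat_lit 11) (Steps.fwd (nat_lit 8192) (Steps.fwd (nat_lit 114688) (Steps.bwd (nat_lit 12) (Steps.bwd (nat_lit 11) Steps.nil)))))) (nat_lit 161) (nat_lit 4),
  Rule.mk (nat_lit 12) (nat_lit 164) (Steps.bwd (nat_lit 1) (Steps.fwd (nat_lit 32768) (Steps.bwd (nat_lit 5) (Steps.fwd (nat_lit 65536) (Steps.bwd (nat_lit 9) (Steps.fwd (nat_lit 81920) (Steps.bwd (nat_lit 11) (Steps.fwd (nat_lit 98304) (Steps.fwd (nat_lit 114688) (Steps.bwd (nat_lit 1) Steps.nil)))))))))) (nat_lit 162) (nat_lit 2),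
  Rule.mk (nat_lit 0) (nat_lit 194) (Steps.bwd (nat_lit 16) (Steps.bwd (nat_lit 1) (Steps.bwd (nat_lit 3) (Steps.fwd (nat_lit 8192) (Steps.fwd (nat_lit 16384) (Steps.fwd (nat_lit 8192) (Steps.bwd (nat_lit 3) (Steps.fwd (nat_lit 8192) (Steps.fwd (nat_lit 24576) (Steps.bwd (nat_lit 4) (Steps.bwd (nat_lit 1) (Steps.bwd (nat_lit 2) Steps.nil)))))))))))) (nat_lit 190) (nat_lit 0),
  Rule.mk (nat_lit 16) (nat_lit 179) (Steps.bwd (nat_lit 1) (Steps.fwd (nat_lit 16384) (Steps.bwd (nat_lit 1) (Steps.fwd (nat_lit 16384) (Steps.fwd (nat_lit 8192) (Steps.fwd (nat_lit 16384) (Steps.bwd (nat_lit 1) (Steps.bwd (nat_lit 2) (Steps.fwd (nat_lit 32768) (Steps.fwd (nat_lit 8192) (Steps.fwd (nat_lit 24576) Steps.nil))))))))))) (nat_lit 190) (nat_lit 1),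
  Rule.mk (nat_lit 3) (nat_lit 179) (Steps.bwd (nat_lit 1) (Steps.fwd (nat_lit 32768) (Steps.fwd (nat_lit 16384) (Steps.bwd (nat_lit 1) (Steps.fwd (nat_lit 24576) (Steps.fwd (nat_lit 8192) (Steps.fwd (nat_lit 24576) (Steps.fwd (nat_lit 8192) (Steps.fwd (nat_lit 24576) (Steps.bwd (nat_lit 1) (Steps.fwd (nat_lit 131072) Steps.nil))))))))))) (nat_lit 191) (nat_lit 1),
  Rule.mk (nat_lit 18) (nat_lit 179) (Steps.fwd (nat_lit 8192) (Steps.bwd (nat_lit 3) (Steps.bwd (nat_lit 4) (Steps.bwd (nat_lit 1) (Steps.bwd (nat_lit 2) (Steps.bwd (nat_lit 1) (Steps.fwd (nat_lit 24576) (Steps.bwd (nat_lit 1) (Steps.bwd (nat_lit 3) (Steps.fwd (nat_lit 8192) (Steps.fwd (nat_lit 16384) Steps.nil))))))))))) (nat_lit 192) (nat_lit 1),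
  Rule.mk (nat_lit 18) (nat_lit 179) (Steps.bwd (nat_lit 1) (Steps.fwd (nat_lit 16384) (Steps.bwd (nat_lit 4) (Steps.bwd (nat_lit 1) (Steps.fwd (nat_lit 24576) (Steps.fwd (nat_lit 8192) (Steps.fwd (nat_lit 24576) (Steps.fwd (nat_lit 8192) (Steps.bwd (nat_lit 3) (Steps.bwd (nat_lit 1) (Steps.bwd (nat_lit 3) Steps.nil))))))))))) (nat_lit 192) (nat_lit 1),
  Rule.mk (nat_lit 20) (nat_lit 179) (Steps.bwd (nat_lit 1) (Steps.bwd (nat_lit 2) (Steps.bwd (nat_lit 1) (Steps.fwd (nat_lit 24576) (Steps.bwd (nat_lit 1) (Steps.bwd (nat_lit 3) (Steps.fwd (nat_lit 8192) (Steps.fwd (nat_lit 16384) (Steps.bwd (nat_lit 1) (Steps.bwd (nat_lit 4) (Steps.fwd (nat_lit 24576) Steps.nil))))))))))) (nat_lit 194) (nat_lit 1),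
  Rule.mk (nat_lit 0) (nat_lit 194) (Steps.bwd (nat_lit 19) (Steps.bwd (nat_lit 3) (Steps.bwd (nat_lit 4) (Steps.bwd (nat_lit 1) (Steps.bwd (nat_lit 2) (Steps.bwd (nat_lit 1) (Steps.fwd (nat_lit 24576) (Steps.bwd (nat_lit 1) (Steps.bwd (nat_lit 3) (Steps.fwd (nat_lit 8192) (Steps.fwd (nat_lit 16384) (Steps.bwd (nat_lit 1) Steps.nil)))))))))))) (nat_lit 195) (nat_lit 11),
  Rule.mk (nat_lit 0) (nat_lit 554) (Steps.bwd (nat_lit 3) (Steps.bwd (nat_lit 1) (Steps.fwd (nat_lit 16384) (Steps.bwd (nat_lit 1) (Steps.bwd (nat_lit 2) (Steps.bwd (nat_lit 1) (Steps.fwd (nat_lit 24576) (Steps.bwd (nat_lit 1) (Steps.bwd (nat_lit 3) (Steps.fwd (nat_lit 8192) (Steps.fwd (nat_lit 24576) (Steps.fwd (nat_lit 8192) (Steps.fwd (nat_lit 24576) (Steps.fwd (nat_lit 8192) (Steps.bwd (nat_lit 3) (Steps.fwd (nat_lit 8192) (Steps.bwd (nat_lit 2) (Steps.fwd (nat_lit 8192) (Steps.fwd (nat_lit 24576) (Steps.bwd (nat_lit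 1) (Steps.fwd (nat_lit 16384) (Steps.fwd (nat_lit 8192) (Steps.bwd (nat_lit 2) (Steps.fwd (nat_lit 8192) (Steps.fwd (nat_lit 16384) (Steps.fwd (nat_lit 8192) (Steps.bwd (nat_lit 3) (Steps.fwd (nat_lit 8192) (Steps.fwd (nat_lit 24576) (Steps.bwd (nat_lit 1) (Steps.fwd (nat_lit 16384) (Steps.bwd (nat_lit 1) (Steps.fwd (nat_lit 16384) (Steps.fwd (nat_lit 8192) (Steps.bwd (nat_lit 2) (Steps.fwd (nat_lit 8192) Steps.nil)))))))))))))))))))))))))))))))))))) (nat_lit 12) (nat_lit 33),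
  Rule.mk (nat_lit 2) (nat_lit 539) (Steps.bwd (nat_lit 1) (Steps.fwd (nat_lit 16384) (Steps.bwd (nat_lit 1) (Steps.fwd (nat_lit 16384) (Steps.fwd (nat_lit 8192) (Steps.bwd (nat_lit 2) (Steps.bwd (nat_lit 1) (Steps.bwd (nat_lit 2) (Steps.fwd (nat_lit 8192) (Steps.bwd (nat_lit 3) (Steps.bwd (nat_lit 1) (Steps.fwd (nat_lit 24576) (Steps.bwd (nat_lit 1) (Steps.fwd (nat_lit 24576) (Steps.fwd (nat_lit 8192) (Steps.fwd (nat_lit 16384) (Steps.bwd (nat_lit 1) (Steps.fwd (nat_lit 24576) (Steps.bwd (nat_lit 1) (Steps.bwd (nat_lit 2) (Steps.bwd (nat_lit 1) (Steps.fwd (nat_lit 16384) (Steps.bwd (nat_lit 1) (Steps.fwd (nat_lit 24576) (Steps.bwd (nat_lit 1) (Steps.bwd (nat_lit 3) (Steps.fwd (nat_lit 8192) (Steps.fwd (nat_lit 16384) (Steps.fwd (nat_lit 8192) (Steps.bwd (nat_lit 2) (Steps.fwd (nat_lit 8192) (Steps.fwd (nat_lit 16384) (Steps.fwd (nat_lit 8192) (Steps.bwd (nat_lit 3) (Steps.bwd (nat_lit 1)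 Steps.nil))))))))))))))))))))))))))))))))))) (nat_lit 12) (nat_lit 32),
  Rule.mk (nat_lit 16) (nat_lit 179) (Steps.bwd (nat_lit 1) (Steps.bwd (nat_lit 3) (Steps.fwd (nat_lit 8192) (Steps.bwd (nat_lit 3) (Steps.fwd (nat_lit 8192) (Steps.fwd (nat_lit 16384) (Steps.fwd (nat_lit 8192) (Steps.bwd (nat_lit 2) (Steps.fwd (nat_lit 32768) (Steps.bwd (nat_lit 1) (Steps.fwd (nat_lit 24576) Steps.nil))))))))))) (nat_lit 190) (nat_lit 1),
  Rule.mk (nat_lit 16) (nat_lit 179) (Steps.fwd (nat_lit 8192) (Steps.bwd (nat_lit 3) (Steps.fwd (nat_lit 8192) (Steps.fwd (nat_lit 16384) (Steps.fwd (nat_lit 8192) (Steps.fwd (nat_lit 16384) (Steps.fwd (nat_lit 8192) (Steps.fwd (nat_lit 24576) (Steps.fwd (nat_lit 32768) (Steps.bwd (nat_lit 1) (Steps.bwd (nat_lit 2) Steps.nil))))))))))) (nat_lit 190) (nat_lit 1),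
  Rule.mk (nat_lit 0) (nat_lit 194) (Steps.bwd (nat_lit 16) (Steps.fwd (nat_lit 8192) (Steps.fwd (nat_lit 16384) (Steps.fwd (nat_lit 8192) (Steps.fwd (nat_lit 16384) (Steps.fwd (nat_lit 8192) (Steps.bwd (nat_lit 3) (Steps.bwd (nat_lit 1) (Steps.fwd (nat_lit 24576) (Steps.fwd (nat_lit 32768) (Steps.bwd (nat_lit 1) (Steps.fwd (nat_lit 24576) Steps.nil)))))))))))) (nat_lit 190) (nat_lit 0),
  Rule.mk (nat_lit 0) (nat_lit 194) (Steps.fwd (nat_lit 8192) (Steps.fwd (nat_lit 16384) (Steps.fwd (nat_lit 8192) (Steps.bwd (nat_lit 3) (Steps.bwd (nat_lit 1) (Steps.fwd (nat_lit 16384) (Steps.bwd (nat_lit 1) (Steps.bwd (nat_lit 2) (Steps.bwd (nat_lit 4) (Steps.fwd (nat_lit 8192) (Steps.fwd (nat_lit 24576) (Steps.fwd (nat_lit 122880) Steps.nil)))))))))))) (nat_lit 190) (nat_lit 1),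
  Rule.mk (nat_lit 15) (nat_lit 179) (Steps.bwd (nat_lit 3) (Steps.fwd (nat_lit 8192) (Steps.bwd (nat_lit 4) (Steps.fwd (nat_lit 16384) (Steps.bwd (nat_lit 1) (Steps.bwd (nat_lit 2) (Steps.fwd (nat_lit 8192) (Steps.bwd (nat_lit 2) (Steps.fwd (nat_lit 8192) (Steps.bwd (nat_lit 2) (Steps.bwd (nat_lit 1) Steps.nil))))))))))) (nat_lit 191) (nat_lit 0),
  Rule.mk (nat_lit 18) (nat_lit 179) (Steps.bwd (nat_lit 1) (Steps.bwd (nat_lit 3) (Steps.fwd (nat_lit 32768) (Steps.fwd (nat_lit 8192) (Steps.fwd (nat_lit 24576) (Steps.bwd (nat_lit 1) (Steps.bwd (nat_lit 2) (Steps.fwd (nat_lit 8192) (Steps.bwd (nat_lit 3) (Steps.fwd (nat_lit 8192) (Steps.fwd (nat_lit 16384) Steps.nil))))))))))) (nat_lit 192) (nat_lit 1),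
  Rule.mk (nat_lit 0) (nat_lit 194) (Steps.fwd (nat_lit 8192) (Steps.fwd (nat_lit 16384) (Steps.bwd (nat_lit 4) (Steps.bwd (nat_lit 1) (Steps.bwd (nat_lit 2) (Steps.fwd (nat_lit 8192) (Steps.bwd (nat_lit 2) (Steps.fwd (nat_lit 8192) (Steps.fwd (nat_lit 16384) (Steps.fwd (nat_lit 8192) (Steps.bwd (nat_lit 3) (Steps.fwd (nat_lit 139264) Steps.nil)))))))))))) (nat_lit 192) (nat_lit 1),
  Rule.mk (nat_lit 18) (nat_lit 179) (Steps.fwd (nat_lit 8192) (Steps.bwd (nat_lit 3) (Steps.bwd (nat_lit 4) (Steps.fwd (nat_lit 8192) (Steps.bwd (nat_lit 2) (Steps.fwd (nat_lit 8192) (Steps.bwd (nat_lit 2) (Steps.bwd (nat_lit 1) (Steps.fwd (nat_lit 16384) (Steps.fwd (nat_lit 8192) (Steps.fwd (nat_lit 16384) Steps.nil))))))))))) (nat_lit 192) (nat_lit 1),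
  Rule.mk (nat_lit 0) (nat_lit 194) (Steps.bwd (nat_lit 17) (Steps.bwd (nat_lit 2) (Steps.bwd (nat_lit 1) (Steps.bwd (nat_lit 2) (Steps.bwd (nat_lit 1) (Steps.bwd (nat_lit 3) (Steps.fwd (nat_lit 8192) (Steps.fwd (nat_lit 16384) (Steps.bwd (nat_lit 1) (Steps.fwd (nat_lit 32768) (Steps.fwd (nat_lit 24576) (Steps.fwd (nat_lit 8192) Steps.nil)))))))))))) (nat_lit 193) (nat_lit 11),
  Rule.mk (nat_lit 0) (nat_lit 194) (Steps.bwd (nat_lit 17) (Steps.bwd (nat_lit 2) (Steps.fwd (nat_lit 8192) (Steps.bwd (nat_lit 2) (Steps.fwd (nat_lit 8192) (Steps.fwd (nat_lit 16384) (Steps.fwd (nat_lit 8192) (Steps.bwd (nat_lit 3) (Steps.fwd (nat_lit 8192) (Steps.bwd (nat_lit 4) (Steps.bwd (nat_lit 2) (Steps.bwd (nat_lit 1) Steps.nil)))))))))))) (nat_lit 193) (nat_lit 11),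
  Rule.mk (nat_lit 0) (nat_lit 194) (Steps.bwd (nat_lit 2) (Steps.fwd (nat_lit 8192) (Steps.bwd (nat_lit 2) (Steps.fwd (nat_lit 8192) (Steps.fwd (nat_lit 16384) (Steps.fwd (nat_lit 8192) (Steps.bwd (nat_lit 3) (Steps.bwd (nat_lit 1) (Steps.bwd (nat_lit 4) (Steps.bwd (nat_lit 2) (Steps.bwd (nat_lit 1) (Steps.fwd (nat_lit 147456) Steps.nil)))))))))))) (nat_lit 193) (nat_lit 0),
  Rule.mk (nat_lit 17) (nat_lit 179) (Steps.bwd (nat_lit 2) (Steps.fwd (nat_lit 8192) (Steps.bwd (nat_lit 2) (Steps.bwd (nat_lit 1) (Steps.fwd (nat_lit 16384) (Steps.fwd (nat_lit 8192) (Steps.fwd (nat_lit 16384) (Steps.fwd (nat_lit 8192) (Steps.fwd (nat_lit 32768) (Steps.bwd (nat_lit 2) (Steps.fwd (nat_lit 8192) Steps.nil))))))))))) (nat_lit 193) (nat_lit 0),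
  Rule.mk (nat_lit 0) (nat_lit 194) (Steps.bwd (nat_lit 20) (Steps.fwd (nat_lit 8192) (Steps.fwd (nat_lit 24576) (Steps.bwd (nat_lit 1) (Steps.bwd (nat_lit 2) (Steps.fwd (nat_lit 8192) (Steps.bwd (nat_lit 3) (Steps.fwd (nat_lit 8192) (Steps.fwd (nat_lit 16384) (Steps.fwd (nat_lit 8192) (Steps.fwd (nat_lit 32768) (Steps.fwd (nat_lit 24576) Steps.nil)))))))))))) (nat_lit 194) (nat_lit 0),
  Rule.mk (nat_lit 0) (nat_lit 194) (Steps.bwd (nat_lit 19) (Steps.fwd (nat_lit 16384) (Steps.fwd (nat_lit 32768) (Steps.fwd (nat_lit 8192) (Steps.fwd (nat_lit 24576) (Steps.bwd (nat_lit 1) (Steps.bwd (nat_lit 2) (Steps.bwd (nat_lit 1) (Steps.fwd (nat_lit 16384) (Steps.bwd (nat_lit 1) (Steps.bwd (nat_lit 3) (Steps.fwd (nat_lit 8192) Steps.nil)))))))))))) (nat_lit 195) (nat_lit 11),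
  Rule.mk (nat_lit 0) (nat_lit 194) (Steps.fwd (nat_lit 8192) (Steps.bwd (nat_lit 2) (Steps.fwd (nat_lit 8192) (Steps.bwd (nat_lit 2) (Steps.bwd (nat_lit 1) (Steps.fwd (nat_lit 16384) (Steps.fwd (nat_lit 8192) (Steps.fwd (nat_lit 16384) (Steps.fwd (nat_lit 8192) (Steps.fwd (nat_lit 32768) (Steps.bwd (nat_lit 2) (Steps.fwd (nat_lit 155648) Steps.nil)))))))))))) (nat_lit 194) (nat_lit 1),
  Rule.mk (nat_lit 20) (nat_lit 179) (Steps.fwd (nat_lit 8192) (Steps.bwd (nat_lit 2) (Steps.bwd (nat_lit 1) (Steps.fwd (nat_lit 24576) (Steps.fwd (nat_lit 8192) (Steps.fwd (nat_lit 16384) (Steps.fwd (nat_lit 8192) (Steps.fwd (nat_lit 16384) (Steps.bwd (nat_lit 1) (Steps.fwd (nat_lit 32768) (Steps.fwd (nat_lit 24576) Steps.nil))))))))))) (nat_lit 194) (nat_lit 1),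
  Rule.mk (nat_lit 0) (nat_lit 194) (Steps.bwd (nat_lit 1) (Steps.bwd (nat_lit 2) (Steps.bwd (nat_lit 1) (Steps.fwd (nat_lit 24576) (Steps.bwd (nat_lit 1) (Steps.fwd (nat_lit 16384) (Steps.fwd (nat_lit 8192) (Steps.bwd (nat_lit 3) (Steps.bwd (nat_lit 1) (Steps.bwd (nat_lit 4) (Steps.fwd (nat_lit 24576) (Steps.fwd (nat_lit 155648) Steps.nil)))))))))))) (nat_lit 194) (nat_lit 1),
  Rule.mk (nat_lit 0) (nat_lit 194) (Steps.bwd (nat_lit 19) (Steps.fwd (nat_lit 16384) (Steps.bwd (nat_lit 4) (Steps.bwd (nat_lit 1) (Steps.bwd (nat_lit 2) (Steps.fwd (nat_lit 8192) (Steps.bwd (nat_lit 2) (Steps.fwd (nat_lit 8192) (Steps.fwd (nat_lit 16384) (Steps.bwd (nat_lit 1) (Steps.fwd (nat_lit 16384) (Steps.bwd (nat_lit 1) Steps.nil)))))))))))) (nat_lit 195) (nat_lit 11),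
  Rule.mk (nat_lit 19) (nat_lit 179) (Steps.bwd (nat_lit 3) (Steps.bwd (nat_lit 4) (Steps.fwd (nat_lit 8192) (Steps.bwd (nat_lit 2) (Steps.fwd (nat_lit 8192) (Steps.bwd (nat_lit 2) (Steps.bwd (nat_lit 1) (Steps.fwd (nat_lit 16384) (Steps.fwd (nat_lit 8192) (Steps.fwd (nat_lit 16384) (Steps.fwd (nat_lit 8192) Steps.nil))))))))))) (nat_lit 195) (nat_lit 0),
  Rule.mk (nat_lit 19) (nat_lit 179) (Steps.bwd (nat_lit 3) (Steps.bwd (nat_lit 4) (Steps.fwd (nat_lit 8192) (Steps.bwd (nat_lit 2) (Steps.bwd (nat_lit 1) (Steps.fwd (nat_lit 24576) (Steps.fwd (nat_lit 8192) (Steps.fwd (nat_lit 16384) (Steps.fwd (nat_lit 8192) (Steps.fwd (nat_lit 16384) (Steps.bwd (nat_lit 1) Steps.nil))))))))))) (nat_lit 195) (nat_lit 0),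
  Rule.mk (nat_lit 0) (nat_lit 194) (Steps.bwd (nat_lit 16) (Steps.fwd (nat_lit 8192) (Steps.bwd (nat_lit 3) (Steps.fwd (nat_lit 8192) (Steps.fwd (nat_lit 16384) (Steps.fwd (nat_lit 8192) (Steps.bwd (nat_lit 3) (Steps.fwd (nat_lit 8192) (Steps.bwd (nat_lit 2) (Steps.fwd (nat_lit 32768) (Steps.bwd (nat_lit 1) (Steps.fwd (nat_lit 24576) Steps.nil)))))))))))) (nat_lit 190) (nat_lit 0),
  Rule.mk (nat_lit 17) (nat_lit 179) (Steps.bwd (nat_lit 2) (Steps.bwd (nat_lit 1) (Steps.fwd (nat_lit 24576) (Steps.fwd (nat_lit 8192) (Steps.fwd (nat_lit 16384) (Steps.fwd (nat_lit 8192) (Steps.fwd (nat_lit 16384) (Steps.bwd (nat_lit 1) (Steps.fwd (nat_lit 32768) (Steps.fwd (nat_lit 24576) (Steps.bwd (nat_lit 1) Steps.nil))))))))))) (nat_lit 193) (nat_lit 0),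
  Rule.mk (nat_lit 3) (nat_lit 104) (Steps.bwd (nat_lit 9) (Steps.fwd (nat_lit 65536) (Steps.bwd (nat_lit 5) (Steps.bwd (nat_lit 4) (Steps.bwd (nat_lit 2) (Steps.fwd (nat_lit 98304) Steps.nil)))))) (nat_lit 185) (nat_lit 0),
  Rule.mk (nat_lit 2) (nat_lit 134) (Steps.bwd (nat_lit 9) (Steps.fwd (nat_lit 16384) (Steps.fwd (nat_lit 32768) (Steps.bwd (nat_lit 5) (Steps.fwd (nat_lit 65536) (Steps.bwd (nat_lit 9) (Steps.fwd (nat_lit 90112) (Steps.fwd (nat_lit 114688) Steps.nil)))))))) (nat_lit 178) (nat_lit 1),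
  Rule.mk (nat_lit 16) (nat_lit 179) (Steps.fwd (nat_lit 8192) (Steps.bwd (nat_lit 3) (Steps.bwd (nat_lit 1) (Steps.bwd (nat_lit 3) (Steps.bwd (nat_lit 1) (Steps.bwd (nat_lit 3) (Steps.bwd (nat_lit 1) (Steps.bwd (nat_lit 2) (Steps.fwd (nat_lit 32768) (Steps.fwd (nat_lit 8192) (Steps.bwd (nat_lit 2) Steps.nil))))))))))) (nat_lit 190) (nat_lit 1),
  Rule.mk (nat_lit 15) (nat_lit 179) (Steps.bwd (nat_lit 3) (Steps.bwd (nat_lit 1) (Steps.bwd (nat_lit 4) (Steps.bwd (nat_lit 3) (Steps.bwd (nat_lit 1) (Steps.fwd (nat_lit 24576) (Steps.fwd (nat_lit 8192) (Steps.fwd (nat_lit 24576) (Steps.bwd (nat_lit 1) (Steps.bwd (nat_lit 2) (Steps.fwd (nat_lit 8192) Steps.nil))))))))))) (nat_lit 191) (nat_lit 0),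
  Rule.mk (nat_lit 0) (nat_lit 194) (Steps.fwd (nat_lit 16384) (Steps.bwd (nat_lit 1) (Steps.fwd (nat_lit 32768) (Steps.bwd (nat_lit 3) (Steps.bwd (nat_lit 1) (Steps.bwd (nat_lit 2) (Steps.fwd (nat_lit 8192) (Steps.fwd (nat_lit 24576) (Steps.bwd (nat_lit 1) (Steps.bwd (nat_lit 2) (Steps.bwd (nat_lit 1) (Steps.fwd (nat_lit 131072) Steps.nil)))))))))))) (nat_lit 191) (nat_lit 0),
  Rule.mk (nat_lit 18) (nat_lit 179) (Steps.bwd (nat_lit 1) (Steps.fwd (nat_lit 16384) (Steps.fwd (nat_lit 32768) (Steps.bwd (nat_lit 1) (Steps.bwd (nat_lit 2) (Steps.fwd (nat_lit 8192) (Steps.fwd (nat_lit 24576) (Steps.bwd (nat_lit 1) (Steps.bwd (nat_lit 3) (Steps.bwd (nat_lit 1) (Steps.fwd (nat_lit 16384) Steps.nil))))))))))) (nat_lit 192) (nat_lit 1),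
  Rule.mk (nat_lit 17) (nat_lit 179) (Steps.fwd (nat_lit 24576) (Steps.bwd (nat_lit 1) (Steps.fwd (nat_lit 24576) (Steps.bwd (nat_lit 1) (Steps.bwd (nat_lit 3) (Steps.fwd (nat_lit 8192) (Steps.bwd (nat_lit 3) (Steps.fwd (nat_lit 8192) (Steps.fwd (nat_lit 32768) (Steps.bwd (nat_lit 2) (Steps.fwd (nat_lit 8192) Steps.nil))))))))))) (nat_lit 193) (nat_lit 0),
  Rule.mk (nat_lit 20) (nat_lit 179) (Steps.bwd (nat_lit 1) (Steps.fwd (nat_lit 24576) (Steps.bwd (nat_lit 1) (Steps.fwd (nat_lit 24576) (Steps.bwd (nat_lit 1) (Steps.bwd (nat_lit 3) (Steps.fwd (nat_lit 8192) (Steps.bwd (nat_lit 3) (Steps.fwd (nat_lit 8192) (Steps.fwd (nat_lit 32768) (Steps.bwd (nat_lit 2) Steps.nil))))))))))) (nat_lit 194) (nat_lit 1),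
  Rule.mk (nat_lit 0) (nat_lit 194) (Steps.bwd (nat_lit 1) (Steps.bwd (nat_lit 2) (Steps.fwd (nat_lit 8192) (Steps.fwd (nat_lit 24576) (Steps.bwd (nat_lit 1) (Steps.bwd (nat_lit 3) (Steps.bwd (nat_lit 1) (Steps.fwd (nat_lit 16384) (Steps.fwd (nat_lit 8192) (Steps.fwd (nat_lit 32768) (Steps.fwd (nat_lit 24576) (Steps.fwd (nat_lit 155648) Steps.nil)))))))))))) (nat_lit 194) (nat_lit 1),
  Rule.mk (nat_lit 0) (nat_lit 194) (Steps.bwd (nat_lit 16) (Steps.fwd (nat_lit 8192) (Steps.bwd (nat_lit 3) (Steps.bwd (nat_lit 1) (Steps.fwd (nat_lit 16384) (Steps.bwd (nat_lit 1) (Steps.bwd (nat_lit 3) (Steps.fwd (nat_lit 8192) (Steps.fwd (nat_lit 24576) (Steps.fwd (nat_lit 32768) (Steps.fwd (nat_lit 8192) (Steps.bwd (nat_lit 2) Steps.nil)))))))))))) (nat_lit 190) (nat_lit 0)]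
noncomputable def R_134 : List (Rule) := [Rule.mk (nat_lit 16) (nat_lit 179) (Steps.bwd (nat_lit 1) (Steps.fwd (nat_lit 16384) (Steps.bwd (nat_lit 1) (Steps.bwd (nat_lit 3) (Steps.fwd (nat_lit 8192) (Steps.bwd (nat_lit 3) (Steps.bwd (nat_lit 1) (Steps.fwd (nat_lit 24576) (Steps.bwd (nat_lit 4) (Steps.bwd (nat_lit 1) (Steps.fwd (nat_lit 24576) Steps.nil))))))))))) (nat_lit 190) (nat_lit 1),
  Rule.mk (nat_lit 0) (nat_lit 194) (Steps.bwd (nat_lit 15) (Steps.fwd (nat_lit 16384) (Steps.bwd (nat_lit 1) (Steps.fwd (nat_lit 32768) (Steps.bwd (nat_lit 3) (Steps.fwd (nat_lit 8192) (Steps.fwd (nat_lit 24576) (Steps.bwd (nat_lit 1) (Steps.bwd (nat_lit 2) (Steps.bwd (nat_lit 1) (Steps.bwd (nat_lit 2) (Steps.bwd (nat_lit 1) Steps.nil)))))))))))) (nat_lit 191) (nat_lit 11),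
  Rule.mk (nat_lit 0) (nat_lit 194) (Steps.bwd (nat_lit 16) (Steps.fwd (nat_lit 8192) (Steps.fwd (nat_lit 16384) (Steps.fwd (nat_lit 8192) (Steps.bwd (nat_lit 3) (Steps.bwd (nat_lit 1) (Steps.fwd (nat_lit 16384) (Steps.bwd (nat_lit 1) (Steps.bwd (nat_lit 2) (Steps.fwd (nat_lit 32768) (Steps.bwd (nat_lit 1) (Steps.fwd (nat_lit 24576) Steps.nil)))))))))))) (nat_lit 190) (nat_lit 0),
  Rule.mk (nat_lit 18) (nat_lit 179) (Steps.bwd (nat_lit 1) (Steps.fwd (nat_lit 16384) (Steps.bwd (nat_lit 4) (Steps.fwd (nat_lit 8192) (Steps.bwd (nat_lit 2) (Steps.fwd (nat_lit 8192) (Steps.fwd (nat_lit 24576) (Steps.bwd (nat_lit 1) (Steps.fwd (nat_lit 16384) (Steps.bwd (nat_lit 1) (Steps.bwd (nat_lit 3) Steps.nil))))))))))) (nat_lit 192) (nat_lit 1),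
  Rule.mk (nat_lit 0) (nat_lit 194) (Steps.bwd (nat_lit 18) (Steps.bwd (nat_lit 1) (Steps.fwd (nat_lit 16384) (Steps.fwd (nat_lit 32768) (Steps.bwd (nat_lit 1) (Steps.fwd (nat_lit 24576) (Steps.fwd (nat_lit 8192) (Steps.bwd (nat_lit 2) (Steps.bwd (nat_lit 1) (Steps.bwd (nat_lit 3) (Steps.fwd (nat_lit 8192) (Steps.bwd (nat_lit 3) Steps.nil)))))))))))) (nat_lit 192) (nat_lit 0),
  Rule.mk (nat_lit 0) (nat_lit 194) (Steps.bwd (nat_lit 18) (Steps.bwd (nat_lit 1) (Steps.bwd (nat_lit 3) (Steps.fwd (nat_lit 32768) (Steps.fwd (nat_lit 8192) (Steps.bwd (nat_lit 2) (Steps.fwd (nat_lit 8192) (Steps.fwd (nat_lit 24576) (Steps.bwd (nat_lit 1) (Steps.fwd (nat_lit 16384) (Steps.fwd (nat_lit 8192) (Steps.fwd (nat_lit 16384) Steps.nil)))))))))))) (nat_lit 192) (nat_lit 0),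
  Rule.mk (nat_lit 0) (nat_lit 194) (Steps.bwd (nat_lit 17) (Steps.bwd (nat_lit 2) (Steps.fwd (nat_lit 8192) (Steps.fwd (nat_lit 24576) (Steps.bwd (nat_lit 1) (Steps.fwd (nat_lit 16384) (Steps.bwd (nat_lit 1) (Steps.bwd (nat_lit 3) (Steps.fwd (nat_lit 8192) (Steps.bwd (nat_lit 4) (Steps.fwd (nat_lit 24576) (Steps.fwd (nat_lit 8192) Steps.nil)))))))))))) (nat_lit 193) (nat_lit 11),
  Rule.mk (nat_lit 17) (nat_lit 179) (Steps.fwd (nat_lit 24576) (Steps.fwd (nat_lit 8192) (Steps.bwd (nat_lit 2) (Steps.bwd (nat_lit 1) (Steps.bwd (nat_lit 3) (Steps.fwd (nat_lit 8192) (Steps.bwd (nat_lit 3) (Steps.bwd (nat_lit 1) (Steps.bwd (nat_lit 4) (Steps.fwd (nat_lit 24576) (Steps.bwd (nat_lit 1) Steps.nil))))))))))) (nat_lit 193) (nat_lit 0),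
  Rule.mk (nat_lit 0) (nat_lit 194) (Steps.bwd (nat_lit 3) (Steps.fwd (nat_lit 32768) (Steps.bwd (nat_lit 1) (Steps.fwd (nat_lit 24576) (Steps.fwd (nat_lit 8192) (Steps.bwd (nat_lit 2) (Steps.fwd (nat_lit 8192) (Steps.bwd (nat_lit 3) (Steps.fwd (nat_lit 8192) (Steps.fwd (nat_lit 16384) (Steps.bwd (nat_lit 1) (Steps.fwd (nat_lit 163840) Steps.nil)))))))))))) (nat_lit 195) (nat_lit 0),
  Rule.mk (nat_lit 0) (nat_lit 194) (Steps.bwd (nat_lit 19) (Steps.bwd (nat_lit 3) (Steps.fwd (nat_lit 32768) (Steps.fwd (nat_lit 8192) (Steps.fwd (nat_lit 24576) (Steps.bwd (nat_lit 1) (Steps.fwd (nat_lit 24576) (Steps.fwd (nat_lit 8192) (Steps.fwd (nat_lit 16384) (Steps.bwd (nat_lit 1) (Steps.bwd (nat_lit 3) (Steps.fwd (nat_lit 8192) Steps.nil)))))))))))) (nat_lit 195) (nat_lit 11),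
  Rule.mk (nat_lit 0) (nat_lit 194) (Steps.bwd (nat_lit 1) (Steps.fwd (nat_lit 24576) (Steps.fwd (nat_lit 8192) (Steps.bwd (nat_lit 2) (Steps.fwd (nat_lit 8192) (Steps.bwd (nat_lit 3) (Steps.fwd (nat_lit 8192) (Steps.fwd (nat_lit 16384) (Steps.bwd (nat_lit 1) (Steps.fwd (nat_lit 32768) (Steps.bwd (nat_lit 2) (Steps.fwd (nat_lit 155648) Steps.nil)))))))))))) (nat_lit 194) (nat_lit 1),
  Rule.mk (nat_lit 19) (nat_lit 179) (Steps.fwd (nat_lit 16384) (Steps.fwd (nat_lit 32768) (Steps.bwd (nat_lit 1) (Steps.fwd (nat_lit 24576) (Steps.fwd (nat_lit 8192) (Steps.bwd (nat_lit 2) (Steps.bwd (nat_lit 1) (Steps.bwd (nat_lit 3) (Steps.bwd (nat_lit 1) (Steps.fwd (nat_lit 16384) (Steps.bwd (nat_lit 1) Steps.nil))))))))))) (nat_lit 195) (nat_lit 0),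
  Rule.mk (nat_lit 19) (nat_lit 179) (Steps.bwd (nat_lit 3) (Steps.fwd (nat_lit 32768) (Steps.fwd (nat_lit 8192) (Steps.bwd (nat_lit 2) (Steps.fwd (nat_lit 8192) (Steps.fwd (nat_lit 24576) (Steps.bwd (nat_lit 1) (Steps.fwd (nat_lit 16384) (Steps.fwd (nat_lit 8192) (Steps.fwd (nat_lit 16384) (Steps.bwd (nat_lit 1) Steps.nil))))))))))) (nat_lit 195) (nat_lit 0),
  Rule.mk (nat_lit 0) (nat_lit 194) (Steps.bwd (nat_lit 3) (Steps.fwd (nat_lit 8192) (Steps.fwd (nat_lit 32768) (Steps.fwd (nat_lit 16384) (Steps.bwd (nat_lit 1) (Steps.fwd (nat_lit 24576) (Steps.bwd (nat_lit 1) (Steps.fwd (nat_lit 24576) (Steps.fwd (nat_lit 8192) (Steps.bwd (nat_lit 2) (Steps.fwd (nat_lit 8192) (Steps.fwd (nat_lit 131072) Steps.nil)))))))))))) (nat_lit 191) (nat_lit 0),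
  Rule.mk (nat_lit 0) (nat_lit 194) (Steps.bwd (nat_lit 17) (Steps.bwd (nat_lit 2) (Steps.fwd (nat_lit 8192) (Steps.bwd (nat_lit 2) (Steps.fwd (nat_lit 8192) (Steps.fwd (nat_lit 16384) (Steps.bwd (nat_lit 1) (Steps.fwd (nat_lit 16384) (Steps.fwd (nat_lit 8192) (Steps.fwd (nat_lit 32768) (Steps.bwd (nat_lit 2) (Steps.fwd (nat_lit 8192) Steps.nil)))))))))))) (nat_lit 193) (nat_lit 11),
  Rule.mk (nat_lit 20) (nat_lit 179) (Steps.fwd (nat_lit 8192) (Steps.bwd (nat_lit 2) (Steps.fwd (nat_lit 8192) (Steps.bwd (nat_lit 2) (Steps.fwd (nat_lit 8192) (Steps.fwd (nat_lit 16384) (Steps.bwd (nat_lit 1) (Steps.fwd (nat_lit 16384) (Steps.fwd (nat_lit 8192) (Steps.fwd (nat_lit 32768) (Steps.bwd (nat_lit 2) Steps.nil))))))))))) (nat_lit 194) (nat_lit 1),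
  Rule.mk (nat_lit 3) (nat_lit 179) (Steps.bwd (nat_lit 18) (Steps.fwd (nat_lit 8192) (Steps.fwd (nat_lit 16384) (Steps.fwd (nat_lit 32768) (Steps.fwd (nat_lit 8192) (Steps.bwd (nat_lit 2) (Steps.fwd (nat_lit 8192) (Steps.bwd (nat_lit 2) (Steps.bwd (nat_lit 1) (Steps.fwd (nat_lit 16384) (Steps.bwd (nat_lit 1) Steps.nil))))))))))) (nat_lit 192) (nat_lit 0),
  Rule.mk (nat_lit 5) (nat_lit 104) (Steps.bwd (nat_lit 7) (Steps.fwd (nat_lit 106496) (Steps.bwd (nat_lit 14) (Steps.fwd (nat_lit 24576) (Steps.bwd (nat_lit 7) (Steps.bwd (nat_lit 3) Steps.nil)))))) (nat_lit 174) (nat_lit 4),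
  Rule.mk (nat_lit 6) (nat_lit 104) (Steps.fwd (nat_lit 90112) (Steps.bwd (nat_lit 12) (Steps.fwd (nat_lit 114688) (Steps.fwd (nat_lit 24576) (Steps.bwd (nat_lit 10) (Steps.bwd (nat_lit 3) Steps.nil)))))) (nat_lit 180) (nat_lit 4),
  Rule.mk (nat_lit 9) (nat_lit 104) (Steps.bwd (nat_lit 8) (Steps.bwd (nat_lit 5) (Steps.fwd (nat_lit 32768) (Steps.fwd (nat_lit 24576) (Steps.bwd (nat_lit 12) (Steps.bwd (nat_lit 3) Steps.nil)))))) (nat_lit 185) (nat_lit 1),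
  Rule.mk (nat_lit 18) (nat_lit 179) (Steps.bwd (nat_lit 1) (Steps.bwd (nat_lit 3) (Steps.bwd (nat_lit 4) (Steps.bwd (nat_lit 1) (Steps.fwd (nat_lit 24576) (Steps.fwd (nat_lit 8192) (Steps.bwd (nat_lit 2) (Steps.bwd (nat_lit 1) (Steps.bwd (nat_lit 3) (Steps.fwd (nat_lit 8192) (Steps.fwd (nat_lit 16384) Steps.nil))))))))))) (nat_lit 192) (nat_lit 1),
  Rule.mk (nat_lit 19) (nat_lit 179) (Steps.bwd (nat_lit 3) (Steps.bwd (nat_lit 4) (Steps.bwd (nat_lit 1) (Steps.fwd (nat_lit 24576) (Steps.fwd (nat_lit 8192) (Steps.bwd (nat_lit 2) (Steps.bwd (nat_lit 1) (Steps.fwd (nat_lit 16384) (Steps.fwd (nat_lit 8192) (Steps.bwd (nat_lit 3) (Steps.fwd (nat_lit 8192) Steps.nil))))))))))) (nat_lit 195) (nat_lit 0),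
  Rule.mk (nat_lit 6) (nat_lit 134) (Steps.bwd (nat_lit 2) (Steps.bwd (nat_lit 13) (Steps.fwd (nat_lit 16384) (Steps.bwd (nat_lit 14) (Steps.bwd (nat_lit 13) (Steps.bwd (nat_lit 12) (Steps.bwd (nat_lit 11) (Steps.fwd (nat_lit 81920) Steps.nil)))))))) (nat_lit 187) (nat_lit 6),
  Rule.mk (nat_lit 1) (nat_lit 179) (Steps.bwd (nat_lit 2) (Steps.bwd (nat_lit 1) (Steps.bwd (nat_lit 2) (Steps.fwd (nat_lit 8192) (Steps.fwd (nat_lit 16384) (Steps.fwd (nat_lit 8192) (Steps.fwd (nat_lit 16384) (Steps.fwd (nat_lit 8192) (Steps.fwd (nat_lit 32768) (Steps.fwd (nat_lit 24576) (Steps.fwd (nat_lit 155648) Steps.nil))))))))))) (nat_lit 194) (nat_lit 2),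
  Rule.mk (nat_lit 3) (nat_lit 539) (Steps.bwd (nat_lit 1) (Steps.bwd (nat_lit 2) (Steps.bwd (nat_lit 1) (Steps.fwd (nat_lit 16384) (Steps.fwd (nat_lit 8192) (Steps.fwd (nat_lit 16384) (Steps.bwd (nat_lit 1) (Steps.bwd (nat_lit 2) (Steps.bwd (nat_lit 1) (Steps.fwd (nat_lit 24576) (Steps.bwd (nat_lit 1) (Steps.fwd (nat_lit 16384) (Steps.fwd (nat_lit 8192) (Steps.bwd (nat_lit 2) (Steps.fwd (nat_lit 8192) (Steps.bwd (nat_lit 2) (Steps.fwd (nat_lit 8192) (Steps.bwd (nat_lit 3) (Steps.fwd (nat_lit 8192) (Steps.fwd (nat_lit 24576) (Steps.bwd (nat_lit 1) (Steps.bwd (nat_lit 2) (Steps.bwd (nat_lit 1) (Steps.fwd (nat_lit 16384) (Steps.bwd (nat_lit 1) (Steps.bwd (nat_lit 2) (Steps.fwd (nat_lit 8192) (Steps.bwd (nat_lit 3) (Steps.bwd (nat_lit 1) (Steps.bwd (nat_lit 3) (Steps.fwd (nat_lit 8192) (Steps.fwd (nat_lit 24576) (Steps.fwd (nat_lit 8192) (Steps.fwd (nat_lit 16384) (Steps.bwd (nat_lit 1) Steps.nil)))))))))))))))))))))))))))))))))))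 (nat_lit 12) (nat_lit 30),
  Rule.mk (nat_lit 6) (nat_lit 134) (Steps.bwd (nat_lit 10) (Steps.bwd (nat_lit 11) (Steps.fwd (nat_lit 98304) (Steps.bwd (nat_lit 13) (Steps.bwd (nat_lit 14) (Steps.bwd (nat_lit 2) (Steps.fwd (nat_lit 106496) (Steps.bwd (nat_lit 3) Steps.nil)))))))) (nat_lit 186) (nat_lit 4),
  Rule.mk (nat_lit 0) (nat_lit 194) (Steps.bwd (nat_lit 16) (Steps.fwd (nat_lit 8192) (Steps.bwd (nat_lit 3) (Steps.fwd (nat_lit 8192) (Steps.fwd (nat_lit 16384) (Steps.bwd (nat_lit 1) (Steps.bwd (nat_lit 3) (Steps.bwd (nat_lit 1) (Steps.bwd (nat_lit 2) (Steps.bwd (nat_lit 4) (Steps.fwd (nat_lit 8192) (Steps.fwd (nat_lit 24576) Steps.nil)))))))))))) (nat_lit 190) (nat_lit 0),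
  Rule.mk (nat_lit 15) (nat_lit 179) (Steps.bwd (nat_lit 3) (Steps.bwd (nat_lit 1) (Steps.fwd (nat_lit 32768) (Steps.bwd (nat_lit 3) (Steps.fwd (nat_lit 8192) (Steps.bwd (nat_lit 2) (Steps.fwd (nat_lit 8192) (Steps.fwd (nat_lit 24576) (Steps.fwd (nat_lit 8192) (Steps.bwd (nat_lit 2) (Steps.fwd (nat_lit 8192) Steps.nil))))))))))) (nat_lit 191) (nat_lit 0),
  Rule.mk (nat_lit 18) (nat_lit 179) (Steps.bwd (nat_lit 1) (Steps.bwd (nat_lit 3) (Steps.fwd (nat_lit 32768) (Steps.fwd (nat_lit 8192) (Steps.fwd (nat_lit 24576) (Steps.fwd (nat_lit 8192) (Steps.fwd (nat_lit 24576) (Steps.fwd (nat_lit 8192) (Steps.fwd (nat_lit 16384) (Steps.bwd (nat_lit 1) (Steps.bwd (nat_lit 3) Steps.nil))))))))))) (nat_lit 192) (nat_lit 1),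
  Rule.mk (nat_lit 0) (nat_lit 194) (Steps.bwd (nat_lit 1) (Steps.fwd (nat_lit 16384) (Steps.bwd (nat_lit 4) (Steps.fwd (nat_lit 8192) (Steps.fwd (nat_lit 24576) (Steps.fwd (nat_lit 8192) (Steps.bwd (nat_lit 2) (Steps.bwd (nat_lit 1) (Steps.bwd (nat_lit 3) (Steps.fwd (nat_lit 8192) (Steps.bwd (nat_lit 3) (Steps.fwd (nat_lit 139264) Steps.nil)))))))))))) (nat_lit 192) (nat_lit 1),
  Rule.mk (nat_lit 0) (nat_lit 194) (Steps.fwd (nat_lit 16384) (Steps.bwd (nat_lit 4) (Steps.fwd (nat_lit 8192) (Steps.fwd (nat_lit 24576) (Steps.fwd (nat_lit 8192) (Steps.bwd (nat_lit 2) (Steps.bwd (nat_lit 1) (Steps.bwd (nat_lit 3) (Steps.fwd (nat_lit 8192) (Steps.bwd (nat_lit 3) (Steps.bwd (nat_lit 1) (Steps.fwd (nat_lit 163840) Steps.nil)))))))))))) (nat_lit 195) (nat_lit 0),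
  Rule.mk (nat_lit 19) (nat_lit 179) (Steps.bwd (nat_lit 3) (Steps.fwd (nat_lit 32768) (Steps.fwd (nat_lit 8192) (Steps.fwd (nat_lit 24576) (Steps.fwd (nat_lit 8192) (Steps.fwd (nat_lit 24576) (Steps.fwd (nat_lit 8192) (Steps.fwd (nat_lit 16384) (Steps.bwd (nat_lit 1) (Steps.bwd (nat_lit 3) (Steps.bwd (nat_lit 1) Steps.nil))))))))))) (nat_lit 195) (nat_lit 0),
  Rule.mk (nat_lit 7) (nat_lit 89) (Steps.bwd (nat_lit 14) (Steps.fwd (nat_lit 24576) (Steps.bwd (nat_lit 8) (Steps.fwd (nat_lit 16384) (Steps.bwd (nat_lit 4) Steps.nil))))) (nat_lit 176) (nat_lit 5),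
  Rule.mk (nat_lit 0) (nat_lit 194) (Steps.bwd (nat_lit 18) (Steps.fwd (nat_lit 8192) (Steps.fwd (nat_lit 16384) (Steps.bwd (nat_lit 4) (Steps.fwd (nat_lit 8192) (Steps.bwd (nat_lit 2) (Steps.bwd (nat_lit 1) (Steps.bwd (nat_lit 2) (Steps.fwd (nat_lit 8192) (Steps.fwd (nat_lit 16384) (Steps.fwd (nat_lit 8192) (Steps.bwd (nat_lit 3) Steps.nil)))))))))))) (nat_lit 192) (nat_lit 0),
  Rule.mk (nat_lit 5) (nat_lit 104) (Steps.bwd (nat_lit 2) (Steps.bwd (nat_lit 7) (Steps.fwd (nat_lit 16384) (Steps.bwd (nat_lit 14) (Steps.fwd (nat_lit 106496) (Steps.bwd (nat_lit 7) Steps.nil)))))) (nat_lit 175) (nat_lit 4),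
  Rule.mk (nat_lit 17) (nat_lit 179) (Steps.fwd (nat_lit 24576) (Steps.bwd (nat_lit 1) (Steps.fwd (nat_lit 24576) (Steps.bwd (nat_lit 1) (Steps.bwd (nat_lit 3) (Steps.fwd (nat_lit 8192) (Steps.fwd (nat_lit 16384) (Steps.bwd (nat_lit 1) (Steps.bwd (nat_lit 4) (Steps.bwd (nat_lit 2) (Steps.fwd (nat_lit 8192) Steps.nil))))))))))) (nat_lit 193) (nat_lit 0),
  Rule.mk (nat_lit 17) (nat_lit 179) (Steps.bwd (nat_lit 2) (Steps.fwd (nat_lit 8192) (Steps.fwd (nat_lit 24576) (Steps.fwd (nat_lit 8192) (Steps.bwd (nat_lit 3) (Steps.bwd (nat_lit 1) (Steps.fwd (nat_lit 16384) (Steps.fwd (nat_lit 8192) (Steps.bwd (nat_lit 4) (Steps.bwd (nat_lit 2) (Steps.fwd (nat_lit 8192) Steps.nil))))))))))) (nat_lit 193) (nat_lit 0),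
  Rule.mk (nat_lit 0) (nat_lit 194) (Steps.fwd (nat_lit 16384) (Steps.fwd (nat_lit 32768) (Steps.fwd (nat_lit 8192) (Steps.bwd (nat_lit 2) (Steps.fwd (nat_lit 8192) (Steps.fwd (nat_lit 24576) (Steps.fwd (nat_lit 8192) (Steps.bwd (nat_lit 3) (Steps.fwd (nat_lit 8192) (Steps.bwd (nat_lit 3) (Steps.bwd (nat_lit 1) (Steps.fwd (nat_lit 163840) Steps.nil)))))))))))) (nat_lit 195) (nat_lit 0),
  Rule.mk (nat_lit 1) (nat_lit 539) (Steps.bwd (nat_lit 2) (Steps.fwd (nat_lit 8192) (Steps.fwd (nat_lit 24576) (Steps.fwd (nat_lit 8192) (Steps.bwd (nat_lit 3) (Steps.bwd (nat_lit 1) (Steps.bwd (nat_lit 2) (Steps.bwd (nat_lit 1) (Steps.fwd (nat_lit 24576) (Steps.bwd (nat_lit 1) (Steps.fwd (nat_lit 16384) (Steps.fwd (nat_lit 8192) (Steps.bwd (nat_lit 2) (Steps.fwd (nat_lit 8192) (Steps.fwd (nat_lit 16384) (Steps.bwd (nat_lit 1) (Steps.bwd (nat_lit 3) (Steps.fwd (nat_lit 8192) (Steps.bwd (nat_lit 2) (Steps.fwd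 (nat_lit 8192) (Steps.fwd (nat_lit 16384) (Steps.bwd (nat_lit 1) (Steps.fwd (nat_lit 16384) (Steps.fwd (nat_lit 8192) (Steps.fwd (nat_lit 24576) (Steps.bwd (nat_lit 1) (Steps.bwd (nat_lit 3) (Steps.fwd (nat_lit 8192) (Steps.fwd (nat_lit 16384) (Steps.bwd (nat_lit 1) (Steps.fwd (nat_lit 24576) (Steps.fwd (nat_lit 8192) (Steps.bwd (nat_lit 2) (Steps.bwd (nat_lit 1) (Steps.bwd (nat_lit 3) Steps.nil))))))))))))))))))))))))))))))))))) (nat_lit 12) (nat_lit 7),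
  Rule.mk (nat_lit 13) (nat_lit 104) (Steps.fwd (nat_lit 8192) (Steps.fwd (nat_lit 32768) (Steps.fwd (nat_lit 40960) (Steps.fwd (nat_lit 65536) (Steps.bwd (nat_lit 9) (Steps.bwd (nat_lit 1) Steps.nil)))))) (nat_lit 164) (nat_lit 2),
  Rule.mk (nat_lit 7) (nat_lit 164) (Steps.fwd (nat_lit 8192) (Steps.bwd (nat_lit 5) (Steps.fwd (nat_lit 49152) (Steps.fwd (nat_lit 73728) (Steps.bwd (nat_lit 10) (Steps.bwd (nat_lit 11) (Steps.fwd (nat_lit 98304) (Steps.fwd (nat_lit 106496) (Steps.bwd (nat_lit 14) (Steps.bwd (nat_lit 1) Steps.nil)))))))))) (nat_lit 152) (nat_lit 2),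
  Rule.mk (nat_lit 12) (nat_lit 164) (Steps.fwd (nat_lit 8192) (Steps.bwd (nat_lit 4) (Steps.fwd (nat_lit 40960) (Steps.fwd (nat_lit 65536) (Steps.fwd (nat_lit 73728) (Steps.bwd (nat_lit 10) (Steps.bwd (nat_lit 11) (Steps.fwd (nat_lit 98304) (Steps.bwd (nat_lit 14) (Steps.bwd (nat_lit 1) Steps.nil)))))))))) (nat_lit 162) (nat_lit 2),
  Rule.mk (nat_lit 16) (nat_lit 179) (Steps.fwd (nat_lit 8192) (Steps.bwd (nat_lit 3) (Steps.bwd (nat_lit 1) (Steps.bwd (nat_lit 3) (Steps.bwd (nat_lit 1) (Steps.fwd (nat_lit 16384) (Steps.bwd (nat_lit 1) (Steps.bwd (nat_lit 2) (Steps.fwd (nat_lit 32768) (Steps.bwd (nat_lit 1) (Steps.fwd (nat_lit 24576) Steps.nil))))))))))) (nat_lit 190) (nat_lit 1),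
  Rule.mk (nat_lit 0) (nat_lit 194) (Steps.bwd (nat_lit 16) (Steps.bwd (nat_lit 1) (Steps.bwd (nat_lit 3) (Steps.bwd (nat_lit 1) (Steps.fwd (nat_lit 16384) (Steps.bwd (nat_lit 1) (Steps.fwd (nat_lit 16384) (Steps.fwd (nat_lit 8192) (Steps.bwd (nat_lit 2) (Steps.bwd (nat_lit 4) (Steps.bwd (nat_lit 1) (Steps.bwd (nat_lit 2) Steps.nil)))))))))))) (nat_lit 190) (nat_lit 0),
  Rule.mk (nat_lit 0) (nat_lit 194) (Steps.bwd (nat_lit 1) (Steps.fwd (nat_lit 16384) (Steps.bwd (nat_lit 1) (Steps.fwd (nat_lit 16384) (Steps.fwd (nat_lit 8192) (Steps.fwd (nat_lit 16384) (Steps.bwd (nat_lit 1) (Steps.bwd (nat_lit 2) (Steps.bwd (nat_lit 4) (Steps.bwd (nat_lit 1) (Steps.fwd (nat_lit 24576) (Steps.fwd (nat_lit 122880) Steps.nil)))))))))))) (nat_lit 190) (nat_lit 1),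
  Rule.mk (nat_lit 15) (nat_lit 179) (Steps.fwd (nat_lit 16384) (Steps.fwd (nat_lit 8192) (Steps.fwd (nat_lit 32768) (Steps.bwd (nat_lit 3) (Steps.fwd (nat_lit 8192) (Steps.fwd (nat_lit 24576) (Steps.fwd (nat_lit 8192) (Steps.fwd (nat_lit 24576) (Steps.bwd (nat_lit 1) (Steps.bwd (nat_lit 2) (Steps.fwd (nat_lit 8192) Steps.nil))))))))))) (nat_lit 191) (nat_lit 0),
  Rule.mk (nat_lit 15) (nat_lit 179) (Steps.fwd (nat_lit 16384) (Steps.fwd (nat_lit 8192) (Steps.fwd (nat_lit 32768) (Steps.fwd (nat_lit 16384) (Steps.fwd (nat_lit 8192) (Steps.fwd (nat_lit 24576) (Steps.bwd (nat_lit 1) (Steps.bwd (nat_lit 2) (Steps.fwd (nat_lit 8192) (Steps.bwd (nat_lit 2) (Steps.fwd (nat_lit 8192) Steps.nil))))))))))) (nat_lit 191) (nat_lit 0),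
  Rule.mk (nat_lit 0) (nat_lit 194) (Steps.bwd (nat_lit 15) (Steps.bwd (nat_lit 3) (Steps.fwd (nat_lit 8192) (Steps.fwd (nat_lit 32768) (Steps.fwd (nat_lit 16384) (Steps.bwd (nat_lit 1) (Steps.bwd (nat_lit 2) (Steps.fwd (nat_lit 8192) (Steps.bwd (nat_lit 2) (Steps.fwd (nat_lit 8192) (Steps.fwd (nat_lit 24576) (Steps.fwd (nat_lit 8192) Steps.nil)))))))))))) (nat_lit 191) (nat_lit 11),
  Rule.mk (nat_lit 0) (nat_lit 194) (Steps.fwd (nat_lit 16384) (Steps.fwd (nat_lit 8192) (Steps.bwd (nat_lit 4) (Steps.bwd (nat_lit 3) (Steps.fwd (nat_lit 8192) (Steps.bwd (nat_lit 2) (Steps.fwd (nat_lit 8192) (Steps.fwd (nat_lit 24576) (Steps.fwd (nat_lit 8192) (Steps.bwd (nat_lit 2) (Steps.bwd (nat_lit 1) (Steps.fwd (nat_lit 131072) Steps.nil)))))))))))) (nat_lit 191) (nat_lit 0),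
  Rule.mk (nat_lit 15) (nat_lit 179) (Steps.bwd (nat_lit 3) (Steps.fwd (nat_lit 8192) (Steps.fwd (nat_lit 32768) (Steps.bwd (nat_lit 3) (Steps.fwd (nat_lit 8192) (Steps.fwd (nat_lit 24576) (Steps.fwd (nat_lit 8192) (Steps.bwd (nat_lit 2) (Steps.fwd (nat_lit 8192) (Steps.fwd (nat_lit 24576) (Steps.fwd (nat_lit 8192) Steps.nil))))))))))) (nat_lit 191) (nat_lit 0),
  Rule.mk (nat_lit 18) (nat_lit 179) (Steps.fwd (nat_lit 8192) (Steps.bwd (nat_lit 3) (Steps.bwd (nat_lit 4) (Steps.fwd (nat_lit 8192) (Steps.bwd (nat_lit 2) (Steps.fwd (nat_lit 8192) (Steps.fwd (nat_lit 24576) (Steps.fwd (nat_lit 8192) (Steps.bwd (nat_lit 3) (Steps.bwd (nat_lit 1) (Steps.fwd (nat_lit 16384) Steps.nil))))))))))) (nat_lit 192) (nat_lit 1),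
  Rule.mk (nat_lit 18) (nat_lit 179) (Steps.fwd (nat_lit 8192) (Steps.fwd (nat_lit 16384) (Steps.bwd (nat_lit 4) (Steps.fwd (nat_lit 8192) (Steps.fwd (nat_lit 24576) (Steps.fwd (nat_lit 8192) (Steps.bwd (nat_lit 2) (Steps.fwd (nat_lit 8192) (Steps.bwd (nat_lit 3) (Steps.fwd (nat_lit 8192) (Steps.bwd (nat_lit 3) Steps.nil))))))))))) (nat_lit 192) (nat_lit 1),
  Rule.mk (nat_lit 0) (nat_lit 194) (Steps.fwd (nat_lit 24576) (Steps.fwd (nat_lit 8192) (Steps.bwd (nat_lit 2) (Steps.bwd (nat_lit 1) (Steps.bwd (nat_lit 3) (Steps.fwd (nat_lit 8192) (Steps.fwd (nat_lit 16384) (Steps.bwd (nat_lit 1) (Steps.bwd (nat_lit 4) (Steps.bwd (nat_lit 2) (Steps.bwd (nat_lit 1) (Steps.fwd (nat_lit 147456) Steps.nil)))))))))))) (nat_lit 193) (nat_lit 0),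
  Rule.mk (nat_lit 0) (nat_lit 194) (Steps.bwd (nat_lit 17) (Steps.fwd (nat_lit 24576) (Steps.bwd (nat_lit 1) (Steps.bwd (nat_lit 2) (Steps.fwd (nat_lit 8192) (Steps.fwd (nat_lit 16384) (Steps.bwd (nat_lit 1) (Steps.fwd (nat_lit 16384) (Steps.fwd (nat_lit 8192) (Steps.bwd (nat_lit 4) (Steps.fwd (nat_lit 24576) (Steps.bwd (nat_lit 1) Steps.nil)))))))))))) (nat_lit 193) (nat_lit 11),
  Rule.mk (nat_lit 20) (nat_lit 179) (Steps.fwd (nat_lit 8192) (Steps.fwd (nat_lit 24576) (Steps.bwd (nat_lit 1) (Steps.bwd (nat_lit 2) (Steps.fwd (nat_lit 8192) (Steps.fwd (nat_lit 16384) (Steps.bwd (nat_lit 1) (Steps.fwd (nat_lit 16384) (Steps.fwd (nat_lit 8192) (Steps.bwd (nat_lit 4) (Steps.fwd (nat_lit 24576) Steps.nil))))))))))) (nat_lit 194) (nat_lit 1),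
  Rule.mk (nat_lit 20) (nat_lit 179) (Steps.fwd (nat_lit 8192) (Steps.bwd (nat_lit 2) (Steps.fwd (nat_lit 8192) (Steps.fwd (nat_lit 24576) (Steps.fwd (nat_lit 8192) (Steps.bwd (nat_lit 3) (Steps.bwd (nat_lit 1) (Steps.fwd (nat_lit 16384) (Steps.fwd (nat_lit 8192) (Steps.bwd (nat_lit 4) (Steps.bwd (nat_lit 2) Steps.nil))))))))))) (nat_lit 194) (nat_lit 1),
  Rule.mk (nat_lit 0) (nat_lit 194) (Steps.bwd (nat_lit 19) (Steps.bwd (nat_lit 3) (Steps.bwd (nat_lit 4) (Steps.bwd (nat_lit 1) (Steps.bwd (nat_lit 2) (Steps.fwd (nat_lit 8192) (Steps.bwd (nat_lit 2) (Steps.bwd (nat_lit 1) (Steps.bwd (nat_lit 3) (Steps.fwd (nat_lit 8192) (Steps.fwd (nat_lit 16384) (Steps.bwd (nat_lit 1) Steps.nil)))))))))))) (nat_lit 195) (nat_lit 11),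
  Rule.mk (nat_lit 19) (nat_lit 179) (Steps.bwd (nat_lit 3) (Steps.bwd (nat_lit 4) (Steps.fwd (nat_lit 8192) (Steps.bwd (nat_lit 2) (Steps.fwd (nat_lit 8192) (Steps.fwd (nat_lit 24576) (Steps.fwd (nat_lit 8192) (Steps.bwd (nat_lit 3) (Steps.bwd (nat_lit 1) (Steps.fwd (nat_lit 16384) (Steps.fwd (nat_lit 8192) Steps.nil))))))))))) (nat_lit 195) (nat_lit 0),
  Rule.mk (nat_lit 15) (nat_lit 179) (Steps.fwd (nat_lit 16384) (Steps.bwd (nat_lit 1) (Steps.bwd (nat_lit 4) (Steps.fwd (nat_lit 16384) (Steps.bwd (nat_lit 1) (Steps.bwd (nat_lit 2) (Steps.fwd (nat_lit 8192) (Steps.fwd (nat_lit 24576) (Steps.fwd (nat_lit 8192) (Steps.fwd (nat_lit 24576) (Steps.fwd (nat_lit 8192) Steps.nil))))))))))) (nat_lit 191) (nat_lit 0),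
  Rule.mk (nat_lit 16) (nat_lit 179) (Steps.bwd (nat_lit 1) (Steps.fwd (nat_lit 16384) (Steps.fwd (nat_lit 8192) (Steps.bwd (nat_lit 3) (Steps.bwd (nat_lit 1) (Steps.fwd (nat_lit 16384) (Steps.fwd (nat_lit 8192) (Steps.fwd (nat_lit 24576) (Steps.fwd (nat_lit 32768) (Steps.fwd (nat_lit 8192) (Steps.bwd (nat_lit 2) Steps.nil))))))))))) (nat_lit 190) (nat_lit 1),
  Rule.mk (nat_lit 20) (nat_lit 179) (Steps.fwd (nat_lit 8192) (Steps.fwd (nat_lit 24576) (Steps.bwd (nat_lit 1) (Steps.fwd (nat_lit 24576) (Steps.bwd (nat_lit 1) (Steps.fwd (nat_lit 16384) (Steps.fwd (nat_lit 8192) (Steps.bwd (nat_lit 3) (Steps.bwd (nat_lit 1) (Steps.fwd (nat_lit 32768) (Steps.bwd (nat_lit 2) Steps.nil))))))))))) (nat_lit 194) (nat_lit 1),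
  Rule.mk (nat_lit 11) (nat_lit 134) (Steps.bwd (nat_lit 9) (Steps.bwd (nat_lit 8) (Steps.fwd (nat_lit 40960) (Steps.bwd (nat_lit 4) (Steps.fwd (nat_lit 8192) (Steps.fwd (nat_lit 81920) (Steps.bwd (nat_lit 1) (Steps.fwd (nat_lit 114688) Steps.nil)))))))) (nat_lit 159) (nat_lit 2),
  Rule.mk (nat_lit 2) (nat_lit 134) (Steps.bwd (nat_lit 9) (Steps.fwd (nat_lit 16384) (Steps.fwd (nat_lit 32768) (Steps.bwd (nat_lit 5) (Steps.bwd (nat_lit 8) (Steps.bwd (nat_lit 9) (Steps.fwd (nat_lit 90112) (Steps.fwd (nat_lit 114688) Steps.nil)))))))) (nat_lit 178) (nat_lit 1),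
  Rule.mk (nat_lit 16) (nat_lit 179) (Steps.fwd (nat_lit 8192) (Steps.fwd (nat_lit 16384) (Steps.fwd (nat_lit 8192) (Steps.bwd (nat_lit 3) (Steps.bwd (nat_lit 1) (Steps.bwd (nat_lit 3) (Steps.bwd (nat_lit 1) (Steps.bwd (nat_lit 2) (Steps.fwd (nat_lit 32768) (Steps.fwd (nat_lit 8192) (Steps.bwd (nat_lit 2) Steps.nil))))))))))) (nat_lit 190) (nat_lit 1)]
noncomputable def R_135 : List (Rule) := [Rule.mk (nat_lit 16) (nat_lit 179) (Steps.fwd (nat_lit 8192) (Steps.fwd (nat_lit 16384) (Steps.bwd (nat_lit 1) (Steps.fwd (nat_lit 16384) (Steps.fwd (nat_lit 8192) (Steps.bwd (nat_lit 3) (Steps.fwd (nat_lit 8192) (Steps.bwd (nat_lit 2) (Steps.fwd (nat_lit 32768) (Steps.bwd (nat_lit 1) (Steps.fwd (nat_lit 24576) Steps.nil))))))))))) (nat_lit 190) (nat_lit 1),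
  Rule.mk (nat_lit 0) (nat_lit 194) (Steps.fwd (nat_lit 8192) (Steps.fwd (nat_lit 16384) (Steps.bwd (nat_lit 1) (Steps.bwd (nat_lit 3) (Steps.bwd (nat_lit 1) (Steps.bwd (nat_lit 3) (Steps.fwd (nat_lit 8192) (Steps.fwd (nat_lit 24576) (Steps.bwd (nat_lit 4) (Steps.fwd (nat_lit 8192) (Steps.bwd (nat_lit 2) (Steps.fwd (nat_lit 122880) Steps.nil)))))))))))) (nat_lit 190) (nat_lit 1),
  Rule.mk (nat_lit 0) (nat_lit 194) (Steps.bwd (nat_lit 16) (Steps.bwd (nat_lit 1) (Steps.bwd (nat_lit 3) (Steps.bwd (nat_lit 1) (Steps.fwd (nat_lit 16384) (Steps.bwd (nat_lit 1) (Steps.bwd (nat_lit 3) (Steps.bwd (nat_lit 1) (Steps.bwd (nat_lit 2) (Steps.bwd (nat_lit 4) (Steps.fwd (nat_lit 8192) (Steps.fwd (nat_lit 24576) Steps.nil)))))))))))) (nat_lit 190) (nat_lit 0),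
  Rule.mk (nat_lit 18) (nat_lit 179) (Steps.fwd (nat_lit 8192) (Steps.fwd (nat_lit 16384) (Steps.bwd (nat_lit 4) (Steps.fwd (nat_lit 8192) (Steps.fwd (nat_lit 24576) (Steps.bwd (nat_lit 1) (Steps.bwd (nat_lit 2) (Steps.fwd (nat_lit 8192) (Steps.fwd (nat_lit 16384) (Steps.bwd (nat_lit 1) (Steps.fwd (nat_lit 16384) Steps.nil))))))))))) (nat_lit 192) (nat_lit 1),
  Rule.mk (nat_lit 0) (nat_lit 194) (Steps.bwd (nat_lit 18) (Steps.fwd (nat_lit 8192) (Steps.bwd (nat_lit 3) (Steps.fwd (nat_lit 32768) (Steps.bwd (nat_lit 1) (Steps.fwd (nat_lit 24576) (Steps.bwd (nat_lit 1) (Steps.fwd (nat_lit 24576) (Steps.fwd (nat_lit 8192) (Steps.fwd (nat_lit 16384) (Steps.bwd (nat_lit 1) (Steps.bwd (nat_lit 3) Steps.nil)))))))))))) (nat_lit 192) (nat_lit 0),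
  Rule.mk (nat_lit 20) (nat_lit 179) (Steps.fwd (nat_lit 8192) (Steps.fwd (nat_lit 24576) (Steps.fwd (nat_lit 8192) (Steps.bwd (nat_lit 2) (Steps.bwd (nat_lit 1) (Steps.bwd (nat_lit 3) (Steps.fwd (nat_lit 8192) (Steps.bwd (nat_lit 3) (Steps.fwd (nat_lit 8192) (Steps.bwd (nat_lit 4) (Steps.fwd (nat_lit 24576) Steps.nil))))))))))) (nat_lit 194) (nat_lit 1),
  Rule.mk (nat_lit 19) (nat_lit 179) (Steps.fwd (nat_lit 16384) (Steps.bwd (nat_lit 4) (Steps.fwd (nat_lit 8192) (Steps.fwd (nat_lit 24576) (Steps.bwd (nat_lit 1) (Steps.bwd (nat_lit 2) (Steps.fwd (nat_lit 8192) (Steps.fwd (nat_lit 16384) (Steps.bwd (nat_lit 1) (Steps.fwd (nat_lit 16384) (Steps.bwd (nat_lit 1) Steps.nil))))))))))) (nat_lit 195) (nat_lit 0),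
  Rule.mk (nat_lit 0) (nat_lit 194) (Steps.bwd (nat_lit 16) (Steps.fwd (nat_lit 8192) (Steps.fwd (nat_lit 16384) (Steps.bwd (nat_lit 1) (Steps.fwd (nat_lit 16384) (Steps.fwd (nat_lit 8192) (Steps.bwd (nat_lit 3) (Steps.fwd (nat_lit 8192) (Steps.fwd (nat_lit 24576) (Steps.bwd (nat_lit 4) (Steps.fwd (nat_lit 8192) (Steps.bwd (nat_lit 2) Steps.nil)))))))))))) (nat_lit 190) (nat_lit 0),
  Rule.mk (nat_lit 0) (nat_lit 194) (Steps.bwd (nat_lit 16) (Steps.bwd (nat_lit 1) (Steps.fwd (nat_lit 16384) (Steps.fwd (nat_lit 8192) (Steps.bwd (nat_lit 3) (Steps.fwd (nat_lit 8192) (Steps.fwd (nat_lit 16384) (Steps.bwd (nat_lit 1) (Steps.fwd (nat_lit 24576) (Steps.bwd (nat_lit 4) (Steps.bwd (nat_lit 1) (Steps.fwd (nat_lit 24576) Steps.nil)))))))))))) (nat_lit 190) (nat_lit 0),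
  Rule.mk (nat_lit 0) (nat_lit 194) (Steps.bwd (nat_lit 16) (Steps.fwd (nat_lit 8192) (Steps.bwd (nat_lit 3) (Steps.fwd (nat_lit 8192) (Steps.fwd (nat_lit 16384) (Steps.bwd (nat_lit 1) (Steps.bwd (nat_lit 3) (Steps.bwd (nat_lit 1) (Steps.bwd (nat_lit 2) (Steps.fwd (nat_lit 32768) (Steps.fwd (nat_lit 8192) (Steps.bwd (nat_lit 2) Steps.nil)))))))))))) (nat_lit 190) (nat_lit 0),
  Rule.mk (nat_lit 0) (nat_lit 194) (Steps.bwd (nat_lit 17) (Steps.bwd (nat_lit 2) (Steps.fwd (nat_lit 8192) (Steps.fwd (nat_lit 24576) (Steps.fwd (nat_lit 8192) (Steps.bwd (nat_lit 3) (Steps.fwd (nat_lit 8192) (Steps.fwd (nat_lit 16384) (Steps.bwd (nat_lit 1) (Steps.bwd (nat_lit 4) (Steps.bwd (nat_lit 2) (Steps.bwd (nat_lit 1) Steps.nil)))))))))))) (nat_lit 193) (nat_lit 11),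
  Rule.mk (nat_lit 0) (nat_lit 194) (Steps.bwd (nat_lit 19) (Steps.fwd (nat_lit 16384) (Steps.fwd (nat_lit 32768) (Steps.fwd (nat_lit 8192) (Steps.bwd (nat_lit 2) (Steps.fwd (nat_lit 8192) (Steps.fwd (nat_lit 24576) (Steps.bwd (nat_lit 1) (Steps.bwd (nat_lit 3) (Steps.bwd (nat_lit 1) (Steps.fwd (nat_lit 16384) (Steps.fwd (nat_lit 8192) Steps.nil)))))))))))) (nat_lit 195) (nat_lit 11),
  Rule.mk (nat_lit 19) (nat_lit 179) (Steps.fwd (nat_lit 16384) (Steps.bwd (nat_lit 4) (Steps.fwd (nat_lit 8192) (Steps.bwd (nat_lit 2) (Steps.fwd (nat_lit 8192) (Steps.bwd (nat_lit 2) (Steps.bwd (nat_lit 1) (Steps.fwd (nat_lit 16384) (Steps.fwd (nat_lit 8192) (Steps.bwd (nat_lit 3) (Steps.fwd (nat_lit 8192) Steps.nil))))))))))) (nat_lit 195) (nat_lit 0),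
  Rule.mk (nat_lit 19) (nat_lit 179) (Steps.fwd (nat_lit 16384) (Steps.fwd (nat_lit 32768) (Steps.bwd (nat_lit 1) (Steps.bwd (nat_lit 2) (Steps.fwd (nat_lit 8192) (Steps.fwd (nat_lit 24576) (Steps.fwd (nat_lit 8192) (Steps.bwd (nat_lit 3) (Steps.fwd (nat_lit 8192) (Steps.fwd (nat_lit 16384) (Steps.bwd (nat_lit 1) Steps.nil))))))))))) (nat_lit 195) (nat_lit 0),
  Rule.mk (nat_lit 17) (nat_lit 179) (Steps.fwd (nat_lit 24576) (Steps.bwd (nat_lit 1) (Steps.fwd (nat_lit 24576) (Steps.bwd (nat_lit 1) (Steps.fwd (nat_lit 16384) (Steps.bwd (nat_lit 1) (Steps.bwd (nat_lit 3) (Steps.bwd (nat_lit 1) (Steps.fwd (nat_lit 32768) (Steps.bwd (nat_lit 2) (Steps.fwd (nat_lit 8192) Steps.nil))))))))))) (nat_lit 193) (nat_lit 0),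
  Rule.mk (nat_lit 20) (nat_lit 179) (Steps.bwd (nat_lit 1) (Steps.fwd (nat_lit 24576) (Steps.bwd (nat_lit 1) (Steps.fwd (nat_lit 24576) (Steps.bwd (nat_lit 1) (Steps.fwd (nat_lit 16384) (Steps.bwd (nat_lit 1) (Steps.bwd (nat_lit 3) (Steps.bwd (nat_lit 1) (Steps.fwd (nat_lit 32768) (Steps.bwd (nat_lit 2) Steps.nil))))))))))) (nat_lit 194) (nat_lit 1),
  Rule.mk (nat_lit 20) (nat_lit 179) (Steps.fwd (nat_lit 8192) (Steps.fwd (nat_lit 24576) (Steps.fwd (nat_lit 8192) (Steps.bwd (nat_lit 2) (Steps.fwd (nat_lit 8192) (Steps.fwd (nat_lit 16384) (Steps.bwd (nat_lit 1) (Steps.bwd (nat_lit 3) (Steps.bwd (nat_lit 1) (Steps.bwd (nat_lit 4) (Steps.fwd (nat_lit 24576) Steps.nil))))))))))) (nat_lit 194) (nat_lit 1),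
  Rule.mk (nat_lit 7) (nat_lit 89) (Steps.bwd (nat_lit 14) (Steps.fwd (nat_lit 8192) (Steps.fwd (nat_lit 73728) (Steps.bwd (nat_lit 1) (Steps.fwd (nat_lit 32768) Steps.nil))))) (nat_lit 156) (nat_lit 5),
  Rule.mk (nat_lit 1) (nat_lit 104) (Steps.bwd (nat_lit 14) (Steps.fwd (nat_lit 106496) (Steps.fwd (nat_lit 57344) (Steps.bwd (nat_lit 5) (Steps.fwd (nat_lit 8192) (Steps.bwd (nat_lit 8) Steps.nil)))))) (nat_lit 155) (nat_lit 0),
  Rule.mk (nat_lit 2) (nat_lit 119) (Steps.bwd (nat_lit 14) (Steps.bwd (nat_lit 3) (Steps.fwd (nat_lit 40960) (Steps.fwd (nat_lit 49152) (Steps.fwd (nat_lit 57344) (Steps.bwd (nat_lit 12) (Steps.bwd (nat_lit 14) Steps.nil))))))) (nat_lit 188) (nat_lit 1),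
  Rule.mk (nat_lit 5) (nat_lit 149) (Steps.fwd (nat_lit 16384) (Steps.bwd (nat_lit 14) (Steps.fwd (nat_lit 106496) (Steps.fwd (nat_lit 98304) (Steps.bwd (nat_lit 9) (Steps.bwd (nat_lit 8) (Steps.fwd (nat_lit 40960) (Steps.bwd (nat_lit 4) (Steps.bwd (nat_lit 2) Steps.nil))))))))) (nat_lit 171) (nat_lit 9),
  Rule.mk (nat_lit 16) (nat_lit 179) (Steps.fwd (nat_lit 8192) (Steps.bwd (nat_lit 3) (Steps.fwd (nat_lit 8192) (Steps.fwd (nat_lit 16384) (Steps.fwd (nat_lit 8192) (Steps.bwd (nat_lit 3) (Steps.fwd (nat_lit 8192) (Steps.bwd (nat_lit 2) (Steps.fwd (nat_lit 32768) (Steps.fwd (nat_lit 8192) (Steps.fwd (nat_lit 24576) Steps.nil))))))))))) (nat_lit 190) (nat_lit 1),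
  Rule.mk (nat_lit 15) (nat_lit 179) (Steps.fwd (nat_lit 16384) (Steps.bwd (nat_lit 1) (Steps.bwd (nat_lit 4) (Steps.fwd (nat_lit 16384) (Steps.fwd (nat_lit 8192) (Steps.bwd (nat_lit 2) (Steps.fwd (nat_lit 8192) (Steps.fwd (nat_lit 24576) (Steps.fwd (nat_lit 8192) (Steps.bwd (nat_lit 2) (Steps.fwd (nat_lit 8192) Steps.nil))))))))))) (nat_lit 191) (nat_lit 0),
  Rule.mk (nat_lit 15) (nat_lit 179) (Steps.bwd (nat_lit 3) (Steps.bwd (nat_lit 1) (Steps.fwd (nat_lit 32768) (Steps.bwd (nat_lit 3) (Steps.fwd (nat_lit 8192) (Steps.fwd (nat_lit 24576) (Steps.fwd (nat_lit 8192) (Steps.bwd (nat_lit 2) (Steps.fwd (nat_lit 8192) (Steps.fwd (nat_lit 24576) (Steps.fwd (nat_lit 8192) Steps.nil))))))))))) (nat_lit 191) (nat_lit 0),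
  Rule.mk (nat_lit 18) (nat_lit 179) (Steps.bwd (nat_lit 1) (Steps.bwd (nat_lit 3) (Steps.bwd (nat_lit 4) (Steps.fwd (nat_lit 8192) (Steps.fwd (nat_lit 24576) (Steps.fwd (nat_lit 8192) (Steps.bwd (nat_lit 2) (Steps.fwd (nat_lit 8192) (Steps.bwd (nat_lit 3) (Steps.bwd (nat_lit 1) (Steps.fwd (nat_lit 16384) Steps.nil))))))))))) (nat_lit 192) (nat_lit 1),
  Rule.mk (nat_lit 17) (nat_lit 179) (Steps.fwd (nat_lit 24576) (Steps.bwd (nat_lit 1) (Steps.fwd (nat_lit 24576) (Steps.bwd (nat_lit 1) (Steps.fwd (nat_lit 16384) (Steps.fwd (nat_lit 8192) (Steps.bwd (nat_lit 3) (Steps.fwd (nat_lit 8192) (Steps.bwd (nat_lit 4) (Steps.bwd (nat_lit 2) (Steps.fwd (nat_lit 8192) Steps.nil))))))))))) (nat_lit 193) (nat_lit 0),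
  Rule.mk (nat_lit 0) (nat_lit 194) (Steps.bwd (nat_lit 1) (Steps.fwd (nat_lit 16384) (Steps.fwd (nat_lit 32768) (Steps.fwd (nat_lit 8192) (Steps.bwd (nat_lit 2) (Steps.fwd (nat_lit 8192) (Steps.fwd (nat_lit 24576) (Steps.bwd (nat_lit 1) (Steps.fwd (nat_lit 16384) (Steps.bwd (nat_lit 1) (Steps.bwd (nat_lit 3) (Steps.fwd (nat_lit 139264) Steps.nil)))))))))))) (nat_lit 192) (nat_lit 1),
  Rule.mk (nat_lit 0) (nat_lit 194) (Steps.bwd (nat_lit 2) (Steps.fwd (nat_lit 8192) (Steps.fwd (nat_lit 24576) (Steps.fwd (nat_lit 8192) (Steps.bwd (nat_lit 3) (Steps.fwd (nat_lit 8192) (Steps.bwd (nat_lit 3) (Steps.bwd (nat_lit 1) (Steps.fwd (nat_lit 32768) (Steps.fwd (nat_lit 24576) (Steps.bwd (nat_lit 1) (Steps.fwd (nat_lit 147456) Steps.nil)))))))))))) (nat_lit 193) (nat_lit 0),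
  Rule.mk (nat_lit 20) (nat_lit 179) (Steps.bwd (nat_lit 1) (Steps.fwd (nat_lit 24576) (Steps.bwd (nat_lit 1) (Steps.fwd (nat_lit 24576) (Steps.bwd (nat_lit 1) (Steps.fwd (nat_lit 16384) (Steps.fwd (nat_lit 8192) (Steps.bwd (nat_lit 3) (Steps.fwd (nat_lit 8192) (Steps.bwd (nat_lit 4) (Steps.fwd (nat_lit 24576) Steps.nil))))))))))) (nat_lit 194) (nat_lit 1),
  Rule.mk (nat_lit 20) (nat_lit 179) (Steps.bwd (nat_lit 1) (Steps.fwd (nat_lit 24576) (Steps.fwd (nat_lit 8192) (Steps.fwd (nat_lit 24576) (Steps.fwd (nat_lit 8192) (Steps.bwd (nat_lit 3) (Steps.fwd (nat_lit 8192) (Steps.bwd (nat_lit 3) (Steps.bwd (nat_lit 1) (Steps.fwd (nat_lit 32768) (Steps.fwd (nat_lit 24576) Steps.nil))))))))))) (nat_lit 194) (nat_lit 1),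
  Rule.mk (nat_lit 19) (nat_lit 179) (Steps.bwd (nat_lit 3) (Steps.fwd (nat_lit 32768) (Steps.bwd (nat_lit 1) (Steps.fwd (nat_lit 24576) (Steps.fwd (nat_lit 8192) (Steps.fwd (nat_lit 24576) (Steps.fwd (nat_lit 8192) (Steps.bwd (nat_lit 3) (Steps.fwd (nat_lit 8192) (Steps.bwd (nat_lit 3) (Steps.bwd (nat_lit 1) Steps.nil))))))))))) (nat_lit 195) (nat_lit 0),
  Rule.mk (nat_lit 15) (nat_lit 179) (Steps.bwd (nat_lit 3) (Steps.fwd (nat_lit 8192) (Steps.bwd (nat_lit 4) (Steps.bwd (nat_lit 3) (Steps.fwd (nat_lit 8192) (Steps.bwd (nat_lit 2) (Steps.fwd (nat_lit 8192) (Steps.fwd (nat_lit 24576) (Steps.bwd (nat_lit 1) (Steps.fwd (nat_lit 24576) (Steps.bwd (nat_lit 1) Steps.nil))))))))))) (nat_lit 191) (nat_lit 0),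
  Rule.mk (nat_lit 16) (nat_lit 179) (Steps.bwd (nat_lit 1) (Steps.bwd (nat_lit 3) (Steps.fwd (nat_lit 8192) (Steps.bwd (nat_lit 3) (Steps.fwd (nat_lit 8192) (Steps.bwd (nat_lit 3) (Steps.bwd (nat_lit 1) (Steps.fwd (nat_lit 24576) (Steps.bwd (nat_lit 4) (Steps.bwd (nat_lit 1) (Steps.fwd (nat_lit 24576) Steps.nil))))))))))) (nat_lit 190) (nat_lit 1),
  Rule.mk (nat_lit 0) (nat_lit 194) (Steps.bwd (nat_lit 15) (Steps.bwd (nat_lit 3) (Steps.bwd (nat_lit 1) (Steps.fwd (nat_lit 32768) (Steps.bwd (nat_lit 3) (Steps.fwd (nat_lit 8192) (Steps.fwd (nat_lit 24576) (Steps.fwd (nat_lit 8192) (Steps.bwd (nat_lit 2) (Steps.fwd (nat_lit 8192) (Steps.fwd (nat_lit 24576) (Steps.fwd (nat_lit 8192) Steps.nil)))))))))))) (nat_lit 191) (nat_lit 11),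
  Rule.mk (nat_lit 18) (nat_lit 179) (Steps.fwd (nat_lit 8192) (Steps.bwd (nat_lit 3) (Steps.fwd (nat_lit 32768) (Steps.bwd (nat_lit 1) (Steps.fwd (nat_lit 24576) (Steps.bwd (nat_lit 1) (Steps.bwd (nat_lit 2) (Steps.bwd (nat_lit 1) (Steps.bwd (nat_lit 3) (Steps.fwd (nat_lit 8192) (Steps.bwd (nat_lit 3) Steps.nil))))))))))) (nat_lit 192) (nat_lit 1),
  Rule.mk (nat_lit 18) (nat_lit 179) (Steps.bwd (nat_lit 1) (Steps.fwd (nat_lit 16384) (Steps.bwd (nat_lit 4) (Steps.bwd (nat_lit 1) (Steps.bwd (nat_lit 2) (Steps.bwd (nat_lit 1) (Steps.bwd (nat_lit 2) (Steps.fwd (nat_lit 8192) (Steps.bwd (nat_lit 3) (Steps.fwd (nat_lit 8192) (Steps.bwd (nat_lit 3) Steps.nil))))))))))) (nat_lit 192) (nat_lit 1),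
  Rule.mk (nat_lit 0) (nat_lit 194) (Steps.bwd (nat_lit 17) (Steps.bwd (nat_lit 2) (Steps.fwd (nat_lit 8192) (Steps.bwd (nat_lit 2) (Steps.bwd (nat_lit 1) (Steps.fwd (nat_lit 16384) (Steps.fwd (nat_lit 8192) (Steps.bwd (nat_lit 3) (Steps.bwd (nat_lit 1) (Steps.bwd (nat_lit 4) (Steps.fwd (nat_lit 24576) (Steps.bwd (nat_lit 1) Steps.nil)))))))))))) (nat_lit 193) (nat_lit 11),
  Rule.mk (nat_lit 0) (nat_lit 194) (Steps.bwd (nat_lit 1) (Steps.bwd (nat_lit 3) (Steps.fwd (nat_lit 32768) (Steps.bwd (nat_lit 1) (Steps.fwd (nat_lit 24576) (Steps.bwd (nat_lit 1) (Steps.fwd (nat_lit 24576) (Steps.fwd (nat_lit 8192) (Steps.fwd (nat_lit 16384) (Steps.fwd (nat_lit 8192) (Steps.bwd (nat_lit 3) (Steps.fwd (nat_lit 139264) Steps.nil)))))))))))) (nat_lit 192) (nat_lit 1),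
  Rule.mk (nat_lit 17) (nat_lit 179) (Steps.bwd (nat_lit 2) (Steps.bwd (nat_lit 1) (Steps.bwd (nat_lit 2) (Steps.fwd (nat_lit 8192) (Steps.bwd (nat_lit 3) (Steps.fwd (nat_lit 8192) (Steps.bwd (nat_lit 3) (Steps.bwd (nat_lit 1) (Steps.bwd (nat_lit 4) (Steps.bwd (nat_lit 2) (Steps.bwd (nat_lit 1) Steps.nil))))))))))) (nat_lit 193) (nat_lit 0),
  Rule.mk (nat_lit 20) (nat_lit 179) (Steps.bwd (nat_lit 1) (Steps.fwd (nat_lit 24576) (Steps.bwd (nat_lit 1) (Steps.bwd (nat_lit 2) (Steps.bwd (nat_lit 1) (Steps.bwd (nat_lit 3) (Steps.fwd (nat_lit 8192) (Steps.bwd (nat_lit 3) (Steps.fwd (nat_lit 8192) (Steps.bwd (nat_lit 4) (Steps.fwd (nat_lit 24576) Steps.nil))))))))))) (nat_lit 194) (nat_lit 1),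
  Rule.mk (nat_lit 20) (nat_lit 179) (Steps.bwd (nat_lit 1) (Steps.bwd (nat_lit 2) (Steps.bwd (nat_lit 1) (Steps.bwd (nat_lit 2) (Steps.fwd (nat_lit 8192) (Steps.bwd (nat_lit 3) (Steps.fwd (nat_lit 8192) (Steps.bwd (nat_lit 3) (Steps.bwd (nat_lit 1) (Steps.bwd (nat_lit 4) (Steps.bwd (nat_lit 2) Steps.nil))))))))))) (nat_lit 194) (nat_lit 1),
  Rule.mk (nat_lit 19) (nat_lit 179) (Steps.bwd (nat_lit 3) (Steps.fwd (nat_lit 32768) (Steps.bwd (nat_lit 1) (Steps.fwd (nat_lit 24576) (Steps.bwd (nat_lit 1) (Steps.bwd (nat_lit 2) (Steps.bwd (nat_lit 1) (Steps.bwd (nat_lit 3) (Steps.fwd (nat_lit 8192) (Steps.bwd (nat_lit 3) (Steps.fwd (nat_lit 8192) Steps.nil))))))))))) (nat_lit 195) (nat_lit 0),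
  Rule.mk (nat_lit 19) (nat_lit 179) (Steps.fwd (nat_lit 16384) (Steps.bwd (nat_lit 4) (Steps.bwd (nat_lit 1) (Steps.bwd (nat_lit 2) (Steps.bwd (nat_lit 1) (Steps.bwd (nat_lit 2) (Steps.fwd (nat_lit 8192) (Steps.bwd (nat_lit 3) (Steps.fwd (nat_lit 8192) (Steps.bwd (nat_lit 3) (Steps.bwd (nat_lit 1) Steps.nil))))))))))) (nat_lit 195) (nat_lit 0),
  Rule.mk (nat_lit 0) (nat_lit 194) (Steps.bwd (nat_lit 20) (Steps.fwd (nat_lit 8192) (Steps.bwd (nat_lit 2) (Steps.fwd (nat_lit 8192) (Steps.bwd (nat_lit 2) (Steps.bwd (nat_lit 1) (Steps.fwd (nat_lit 16384) (Steps.fwd (nat_lit 8192) (Steps.bwd (nat_lit 3) (Steps.bwd (nat_lit 1) (Steps.bwd (nat_lit 4) (Steps.fwd (nat_lit 24576) Steps.nil)))))))))))) (nat_lit 194) (nat_lit 0),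
  Rule.mk (nat_lit 15) (nat_lit 179) (Steps.bwd (nat_lit 3) (Steps.bwd (nat_lit 1) (Steps.fwd (nat_lit 32768) (Steps.fwd (nat_lit 16384) (Steps.bwd (nat_lit 1) (Steps.fwd (nat_lit 24576) (Steps.bwd (nat_lit 1) (Steps.bwd (nat_lit 2) (Steps.fwd (nat_lit 8192) (Steps.bwd (nat_lit 2) (Steps.bwd (nat_lit 1) Steps.nil))))))))))) (nat_lit 191) (nat_lit 0),
  Rule.mk (nat_lit 17) (nat_lit 179) (Steps.fwd (nat_lit 24576) (Steps.bwd (nat_lit 1) (Steps.bwd (nat_lit 2) (Steps.fwd (nat_lit 8192) (Steps.fwd (nat_lit 16384) (Steps.fwd (nat_lit 8192) (Steps.bwd (nat_lit 3) (Steps.fwd (nat_lit 8192) (Steps.fwd (nat_lit 32768) (Steps.fwd (nat_lit 24576) (Steps.bwd (nat_lit 1) Steps.nil))))))))))) (nat_lit 193) (nat_lit 0),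
  Rule.mk (nat_lit 17) (nat_lit 179) (Steps.bwd (nat_lit 2) (Steps.fwd (nat_lit 8192) (Steps.bwd (nat_lit 2) (Steps.bwd (nat_lit 1) (Steps.fwd (nat_lit 16384) (Steps.bwd (nat_lit 1) (Steps.bwd (nat_lit 3) (Steps.bwd (nat_lit 1) (Steps.fwd (nat_lit 32768) (Steps.bwd (nat_lit 2) (Steps.fwd (nat_lit 8192) Steps.nil))))))))))) (nat_lit 193) (nat_lit 0),
  Rule.mk (nat_lit 20) (nat_lit 179) (Steps.fwd (nat_lit 8192) (Steps.bwd (nat_lit 2) (Steps.fwd (nat_lit 8192) (Steps.bwd (nat_lit 2) (Steps.bwd (nat_lit 1) (Steps.fwd (nat_lit 16384) (Steps.bwd (nat_lit 1) (Steps.bwd (nat_lit 3) (Steps.bwd (nat_lit 1) (Steps.fwd (nat_lit 32768) (Steps.bwd (nat_lit 2) Steps.nil))))))))))) (nat_lit 194) (nat_lit 1),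
  Rule.mk (nat_lit 19) (nat_lit 179) (Steps.fwd (nat_lit 16384) (Steps.fwd (nat_lit 32768) (Steps.fwd (nat_lit 8192) (Steps.bwd (nat_lit 2) (Steps.fwd (nat_lit 8192) (Steps.bwd (nat_lit 2) (Steps.bwd (nat_lit 1) (Steps.fwd (nat_lit 16384) (Steps.bwd (nat_lit 1) (Steps.bwd (nat_lit 3) (Steps.bwd (nat_lit 1) Steps.nil))))))))))) (nat_lit 195) (nat_lit 0),
  Rule.mk (nat_lit 0) (nat_lit 194) (Steps.fwd (nat_lit 8192) (Steps.fwd (nat_lit 16384) (Steps.fwd (nat_lit 8192) (Steps.bwd (nat_lit 3) (Steps.bwd (nat_lit 1) (Steps.fwd (nat_lit 16384) (Steps.fwd (nat_lit 8192) (Steps.bwd (nat_lit 2) (Steps.bwd (nat_lit 4) (Steps.bwd (nat_lit 1) (Steps.bwd (nat_lit 2) (Steps.fwd (nat_lit 122880) Steps.nil)))))))))))) (nat_lit 190) (nat_lit 1),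
  Rule.mk (nat_lit 0) (nat_lit 194) (Steps.bwd (nat_lit 16) (Steps.bwd (nat_lit 1) (Steps.bwd (nat_lit 3) (Steps.bwd (nat_lit 1) (Steps.fwd (nat_lit 16384) (Steps.fwd (nat_lit 8192) (Steps.fwd (nat_lit 16384) (Steps.fwd (nat_lit 8192) (Steps.bwd (nat_lit 2) (Steps.fwd (nat_lit 32768) (Steps.fwd (nat_lit 8192) (Steps.fwd (nat_lit 24576) Steps.nil)))))))))))) (nat_lit 190) (nat_lit 0),
  Rule.mk (nat_lit 15) (nat_lit 179) (Steps.fwd (nat_lit 16384) (Steps.fwd (nat_lit 8192) (Steps.bwd (nat_lit 4) (Steps.fwd (nat_lit 16384) (Steps.fwd (nat_lit 8192) (Steps.fwd (nat_lit 24576) (Steps.bwd (nat_lit 1) (Steps.bwd (nat_lit 2) (Steps.fwd (nat_lit 8192) (Steps.bwd (nat_lit 2) (Steps.bwd (nat_lit 1) Steps.nil))))))))))) (nat_lit 191) (nat_lit 0),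
  Rule.mk (nat_lit 15) (nat_lit 179) (Steps.fwd (nat_lit 16384) (Steps.fwd (nat_lit 8192) (Steps.fwd (nat_lit 32768) (Steps.fwd (nat_lit 16384) (Steps.bwd (nat_lit 1) (Steps.bwd (nat_lit 2) (Steps.fwd (nat_lit 8192) (Steps.bwd (nat_lit 2) (Steps.bwd (nat_lit 1) (Steps.bwd (nat_lit 2) (Steps.fwd (nat_lit 8192) Steps.nil))))))))))) (nat_lit 191) (nat_lit 0),
  Rule.mk (nat_lit 18) (nat_lit 179) (Steps.bwd (nat_lit 1) (Steps.fwd (nat_lit 16384) (Steps.bwd (nat_lit 4) (Steps.fwd (nat_lit 8192) (Steps.bwd (nat_lit 2) (Steps.bwd (nat_lit 1) (Steps.bwd (nat_lit 2) (Steps.fwd (nat_lit 8192) (Steps.bwd (nat_lit 3) (Steps.bwd (nat_lit 1) (Steps.fwd (nat_lit 16384) Steps.nil))))))))))) (nat_lit 192) (nat_lit 1),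
  Rule.mk (nat_lit 17) (nat_lit 179) (Steps.bwd (nat_lit 2) (Steps.fwd (nat_lit 8192) (Steps.bwd (nat_lit 2) (Steps.bwd (nat_lit 1) (Steps.bwd (nat_lit 3) (Steps.fwd (nat_lit 8192) (Steps.bwd (nat_lit 3) (Steps.fwd (nat_lit 8192) (Steps.fwd (nat_lit 32768) (Steps.fwd (nat_lit 24576) (Steps.bwd (nat_lit 1) Steps.nil))))))))))) (nat_lit 193) (nat_lit 0),
  Rule.mk (nat_lit 0) (nat_lit 194) (Steps.fwd (nat_lit 16384) (Steps.fwd (nat_lit 32768) (Steps.bwd (nat_lit 1) (Steps.bwd (nat_lit 2) (Steps.fwd (nat_lit 8192) (Steps.fwd (nat_lit 24576) (Steps.bwd (nat_lit 1) (Steps.fwd (nat_lit 16384) (Steps.bwd (nat_lit 1) (Steps.fwd (nat_lit 16384) (Steps.bwd (nat_lit 1) (Steps.fwd (nat_lit 163840) Steps.nil)))))))))))) (nat_lit 195) (nat_lit 0),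
  Rule.mk (nat_lit 20) (nat_lit 179) (Steps.fwd (nat_lit 8192) (Steps.bwd (nat_lit 2) (Steps.fwd (nat_lit 8192) (Steps.bwd (nat_lit 2) (Steps.fwd (nat_lit 8192) (Steps.bwd (nat_lit 3) (Steps.bwd (nat_lit 1) (Steps.fwd (nat_lit 16384) (Steps.bwd (nat_lit 1) (Steps.bwd (nat_lit 4) (Steps.bwd (nat_lit 2) Steps.nil))))))))))) (nat_lit 194) (nat_lit 1),
  Rule.mk (nat_lit 15) (nat_lit 179) (Steps.fwd (nat_lit 16384) (Steps.fwd (nat_lit 8192) (Steps.bwd (nat_lit 4) (Steps.fwd (nat_lit 16384) (Steps.fwd (nat_lit 8192) (Steps.bwd (nat_lit 2) (Steps.fwd (nat_lit 8192) (Steps.bwd (nat_lit 2) (Steps.fwd (nat_lit 8192) (Steps.fwd (nat_lit 24576) (Steps.fwd (nat_lit 8192) Steps.nil))))))))))) (nat_lit 191) (nat_lit 0),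
  Rule.mk (nat_lit 18) (nat_lit 179) (Steps.fwd (nat_lit 8192) (Steps.bwd (nat_lit 3) (Steps.bwd (nat_lit 4) (Steps.fwd (nat_lit 8192) (Steps.fwd (nat_lit 24576) (Steps.bwd (nat_lit 1) (Steps.bwd (nat_lit 2) (Steps.fwd (nat_lit 8192) (Steps.fwd (nat_lit 16384) (Steps.fwd (nat_lit 8192) (Steps.bwd (nat_lit 3) Steps.nil))))))))))) (nat_lit 192) (nat_lit 1),
  Rule.mk (nat_lit 20) (nat_lit 179) (Steps.bwd (nat_lit 1) (Steps.fwd (nat_lit 24576) (Steps.fwd (nat_lit 8192) (Steps.fwd (nat_lit 24576) (Steps.bwd (nat_lit 1) (Steps.fwd (nat_lit 16384) (Steps.bwd (nat_lit 1) (Steps.bwd (nat_lit 3) (Steps.fwd (nat_lit 8192) (Steps.bwd (nat_lit 4) (Steps.bwd (nat_lit 2) Steps.nil))))))))))) (nat_lit 194) (nat_lit 1),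
  Rule.mk (nat_lit 20) (nat_lit 179) (Steps.fwd (nat_lit 8192) (Steps.fwd (nat_lit 24576) (Steps.bwd (nat_lit 1) (Steps.bwd (nat_lit 2) (Steps.fwd (nat_lit 8192) (Steps.fwd (nat_lit 16384) (Steps.fwd (nat_lit 8192) (Steps.bwd (nat_lit 3) (Steps.bwd (nat_lit 1) (Steps.fwd (nat_lit 32768) (Steps.fwd (nat_lit 24576) Steps.nil))))))))))) (nat_lit 194) (nat_lit 1),
  Rule.mk (nat_lit 1) (nat_lit 104) (Steps.bwd (nat_lit 6) (Steps.fwd (nat_lit 90112) (Steps.fwd (nat_lit 98304) (Steps.fwd (nat_lit 114688) (Steps.bwd (nat_lit 1) (Steps.fwd (nat_lit 90112) Steps.nil)))))) (nat_lit 160) (nat_lit 3),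
  Rule.mk (nat_lit 3) (nat_lit 104) (Steps.bwd (nat_lit 6) (Steps.fwd (nat_lit 90112) (Steps.fwd (nat_lit 98304) (Steps.fwd (nat_lit 114688) (Steps.bwd (nat_lit 2) (Steps.fwd (nat_lit 81920) Steps.nil)))))) (nat_lit 180) (nat_lit 3),
  Rule.mk (nat_lit 2) (nat_lit 164) (Steps.bwd (nat_lit 6) (Steps.bwd (nat_lit 3) (Steps.fwd (nat_lit 40960) (Steps.fwd (nat_lit 49152) (Steps.bwd (nat_lit 9) (Steps.fwd (nat_lit 81920) (Steps.bwd (nat_lit 11) (Steps.fwd (nat_lit 98304) (Steps.fwd (nat_lit 106496) (Steps.bwd (nat_lit 14) Steps.nil)))))))))) (nat_lit 172) (nat_lit 1)]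
noncomputable def R_136 : List (Rule) := [Rule.mk (nat_lit 16) (nat_lit 179) (Steps.bwd (nat_lit 1) (Steps.fwd (nat_lit 16384) (Steps.fwd (nat_lit 8192) (Steps.fwd (nat_lit 16384) (Steps.bwd (nat_lit 1) (Steps.fwd (nat_lit 16384) (Steps.bwd (nat_lit 1) (Steps.fwd (nat_lit 24576) (Steps.bwd (nat_lit 4) (Steps.fwd (nat_lit 8192) (Steps.bwd (nat_lit 2) Steps.nil))))))))))) (nat_lit 190) (nat_lit 1),
  Rule.mk (nat_lit 15) (nat_lit 179) (Steps.fwd (nat_lit 16384) (Steps.bwd (nat_lit 1) (Steps.fwd (nat_lit 32768) (Steps.bwd (nat_lit 3) (Steps.bwd (nat_lit 1) (Steps.fwd (nat_lit 24576) (Steps.bwd (nat_lit 1) (Steps.bwd (nat_lit 2) (Steps.fwd (nat_lit 8192) (Steps.bwd (nat_lit 2) (Steps.fwd (nat_lit 8192) Steps.nil))))))))))) (nat_lit 191) (nat_lit 0),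
  Rule.mk (nat_lit 0) (nat_lit 194) (Steps.bwd (nat_lit 18) (Steps.bwd (nat_lit 1) (Steps.bwd (nat_lit 3) (Steps.bwd (nat_lit 4) (Steps.fwd (nat_lit 8192) (Steps.bwd (nat_lit 2) (Steps.fwd (nat_lit 8192) (Steps.fwd (nat_lit 24576) (Steps.fwd (nat_lit 8192) (Steps.bwd (nat_lit 3) (Steps.fwd (nat_lit 8192) (Steps.fwd (nat_lit 16384) Steps.nil)))))))))))) (nat_lit 192) (nat_lit 0),
  Rule.mk (nat_lit 17) (nat_lit 179) (Steps.bwd (nat_lit 2) (Steps.fwd (nat_lit 8192) (Steps.fwd (nat_lit 24576) (Steps.fwd (nat_lit 8192) (Steps.fwd (nat_lit 16384) (Steps.bwd (nat_lit 1) (Steps.bwd (nat_lit 3) (Steps.fwd (nat_lit 8192) (Steps.bwd (nat_lit 4) (Steps.bwd (nat_lit 2) (Steps.fwd (nat_lit 8192) Steps.nil))))))))))) (nat_lit 193) (nat_lit 0),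
  Rule.mk (nat_lit 17) (nat_lit 179) (Steps.bwd (nat_lit 2) (Steps.fwd (nat_lit 8192) (Steps.bwd (nat_lit 2) (Steps.fwd (nat_lit 8192) (Steps.bwd (nat_lit 3) (Steps.fwd (nat_lit 8192) (Steps.fwd (nat_lit 16384) (Steps.fwd (nat_lit 8192) (Steps.fwd (nat_lit 32768) (Steps.bwd (nat_lit 2) (Steps.bwd (nat_lit 1) Steps.nil))))))))))) (nat_lit 193) (nat_lit 0),
  Rule.mk (nat_lit 17) (nat_lit 179) (Steps.bwd (nat_lit 2) (Steps.fwd (nat_lit 8192) (Steps.fwd (nat_lit 24576) (Steps.fwd (nat_lit 8192) (Steps.bwd (nat_lit 3) (Steps.fwd (nat_lit 8192) (Steps.fwd (nat_lit 16384) (Steps.fwd (nat_lit 8192) (Steps.bwd (nat_lit 4) (Steps.fwd (nat_lit 24576) (Steps.bwd (nat_lit 1) Steps.nil))))))))))) (nat_lit 193) (nat_lit 0),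
  Rule.mk (nat_lit 20) (nat_lit 179) (Steps.bwd (nat_lit 1) (Steps.bwd (nat_lit 2) (Steps.fwd (nat_lit 8192) (Steps.bwd (nat_lit 2) (Steps.fwd (nat_lit 8192) (Steps.bwd (nat_lit 3) (Steps.fwd (nat_lit 8192) (Steps.fwd (nat_lit 16384) (Steps.fwd (nat_lit 8192) (Steps.fwd (nat_lit 32768) (Steps.bwd (nat_lit 2) Steps.nil))))))))))) (nat_lit 194) (nat_lit 1),
  Rule.mk (nat_lit 20) (nat_lit 179) (Steps.fwd (nat_lit 8192) (Steps.bwd (nat_lit 2) (Steps.fwd (nat_lit 8192) (Steps.fwd (nat_lit 24576) (Steps.fwd (nat_lit 8192) (Steps.bwd (nat_lit 3) (Steps.fwd (nat_lit 8192) (Steps.fwd (nat_lit 16384) (Steps.fwd (nat_lit 8192) (Steps.bwd (nat_lit 4) (Steps.fwd (nat_lit 24576) Steps.nil))))))))))) (nat_lit 194) (nat_lit 1),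
  Rule.mk (nat_lit 19) (nat_lit 179) (Steps.bwd (nat_lit 3) (Steps.bwd (nat_lit 4) (Steps.bwd (nat_lit 1) (Steps.bwd (nat_lit 2) (Steps.fwd (nat_lit 8192) (Steps.bwd (nat_lit 2) (Steps.fwd (nat_lit 8192) (Steps.bwd (nat_lit 3) (Steps.fwd (nat_lit 8192) (Steps.fwd (nat_lit 16384) (Steps.fwd (nat_lit 8192) Steps.nil))))))))))) (nat_lit 195) (nat_lit 0),
  Rule.mk (nat_lit 19) (nat_lit 179) (Steps.bwd (nat_lit 3) (Steps.bwd (nat_lit 4) (Steps.fwd (nat_lit 8192) (Steps.bwd (nat_lit 2) (Steps.fwd (nat_lit 8192) (Steps.fwd (nat_lit 24576) (Steps.fwd (nat_lit 8192) (Steps.bwd (nat_lit 3) (Steps.fwd (nat_lit 8192) (Steps.fwd (nat_lit 16384) (Steps.fwd (nat_lit 8192) Steps.nil))))))))))) (nat_lit 195) (nat_lit 0),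
  Rule.mk (nat_lit 0) (nat_lit 194) (Steps.bwd (nat_lit 16) (Steps.bwd (nat_lit 1) (Steps.fwd (nat_lit 16384) (Steps.fwd (nat_lit 8192) (Steps.bwd (nat_lit 3) (Steps.bwd (nat_lit 1) (Steps.bwd (nat_lit 3) (Steps.fwd (nat_lit 8192) (Steps.fwd (nat_lit 24576) (Steps.bwd (nat_lit 4) (Steps.fwd (nat_lit 8192) (Steps.bwd (nat_lit 2) Steps.nil)))))))))))) (nat_lit 190) (nat_lit 0),
  Rule.mk (nat_lit 0) (nat_lit 194) (Steps.bwd (nat_lit 15) (Steps.fwd (nat_lit 16384) (Steps.bwd (nat_lit 1) (Steps.bwd (nat_lit 4) (Steps.fwd (nat_lit 16384) (Steps.bwd (nat_lit 1) (Steps.fwd (nat_lit 24576) (Steps.bwd (nat_lit 1) (Steps.fwd (nat_lit 24576) (Steps.fwd (nat_lit 8192) (Steps.fwd (nat_lit 24576) (Steps.bwd (nat_lit 1) Steps.nil)))))))))))) (nat_lit 191) (nat_lit 11),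
  Rule.mk (nat_lit 0) (nat_lit 194) (Steps.bwd (nat_lit 15) (Steps.fwd (nat_lit 16384) (Steps.fwd (nat_lit 8192) (Steps.bwd (nat_lit 4) (Steps.bwd (nat_lit 3) (Steps.bwd (nat_lit 1) (Steps.bwd (nat_lit 2) (Steps.bwd (nat_lit 1) (Steps.fwd (nat_lit 24576) (Steps.bwd (nat_lit 1) (Steps.fwd (nat_lit 24576) (Steps.fwd (nat_lit 8192) Steps.nil)))))))))))) (nat_lit 191) (nat_lit 11),
  Rule.mk (nat_lit 15) (nat_lit 179) (Steps.fwd (nat_lit 16384) (Steps.bwd (nat_lit 1) (Steps.bwd (nat_lit 4) (Steps.bwd (nat_lit 3) (Steps.fwd (nat_lit 8192) (Steps.fwd (nat_lit 24576) (Steps.fwd (nat_lit 8192) (Steps.bwd (nat_lit 2) (Steps.fwd (nat_lit 8192) (Steps.fwd (nat_lit 24576) (Steps.fwd (nat_lit 8192) Steps.nil))))))))))) (nat_lit 191) (nat_lit 0),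
  Rule.mk (nat_lit 15) (nat_lit 179) (Steps.bwd (nat_lit 3) (Steps.fwd (nat_lit 8192) (Steps.bwd (nat_lit 4) (Steps.fwd (nat_lit 16384) (Steps.bwd (nat_lit 1) (Steps.fwd (nat_lit 24576) (Steps.bwd (nat_lit 1) (Steps.fwd (nat_lit 24576) (Steps.bwd (nat_lit 1) (Steps.bwd (nat_lit 2) (Steps.fwd (nat_lit 8192) Steps.nil))))))))))) (nat_lit 191) (nat_lit 0),
  Rule.mk (nat_lit 18) (nat_lit 179) (Steps.bwd (nat_lit 1) (Steps.fwd (nat_lit 16384) (Steps.fwd (nat_lit 32768) (Steps.bwd (nat_lit 1) (Steps.fwd (nat_lit 24576) (Steps.bwd (nat_lit 1) (Steps.bwd (nat_lit 2) (Steps.fwd (nat_lit 8192) (Steps.bwd (nat_lit 3) (Steps.bwd (nat_lit 1) (Steps.bwd (nat_lit 3) Steps.nil))))))))))) (nat_lit 192) (nat_lit 1),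
  Rule.mk (nat_lit 0) (nat_lit 194) (Steps.bwd (nat_lit 17) (Steps.fwd (nat_lit 24576) (Steps.bwd (nat_lit 1) (Steps.fwd (nat_lit 24576) (Steps.fwd (nat_lit 8192) (Steps.bwd (nat_lit 3) (Steps.bwd (nat_lit 1) (Steps.bwd (nat_lit 3) (Steps.fwd (nat_lit 8192) (Steps.fwd (nat_lit 32768) (Steps.bwd (nat_lit 2) (Steps.fwd (nat_lit 8192) Steps.nil)))))))))))) (nat_lit 193) (nat_lit 11),
  Rule.mk (nat_lit 18) (nat_lit 179) (Steps.bwd (nat_lit 1) (Steps.bwd (nat_lit 3) (Steps.fwd (nat_lit 32768) (Steps.fwd (nat_lit 8192) (Steps.bwd (nat_lit 2) (Steps.bwd (nat_lit 1) (Steps.fwd (nat_lit 24576) (Steps.bwd (nat_lit 1) (Steps.fwd (nat_lit 16384) (Steps.fwd (nat_lit 8192) (Steps.bwd (nat_lit 3) Steps.nil))))))))))) (nat_lit 192) (nat_lit 1),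
  Rule.mk (nat_lit 17) (nat_lit 179) (Steps.fwd (nat_lit 24576) (Steps.bwd (nat_lit 1) (Steps.bwd (nat_lit 2) (Steps.fwd (nat_lit 8192) (Steps.bwd (nat_lit 3) (Steps.bwd (nat_lit 1) (Steps.bwd (nat_lit 3) (Steps.fwd (nat_lit 8192) (Steps.bwd (nat_lit 4) (Steps.bwd (nat_lit 2) (Steps.fwd (nat_lit 8192) Steps.nil))))))))))) (nat_lit 193) (nat_lit 0),
  Rule.mk (nat_lit 17) (nat_lit 179) (Steps.fwd (nat_lit 24576) (Steps.fwd (nat_lit 8192) (Steps.fwd (nat_lit 24576) (Steps.bwd (nat_lit 1) (Steps.bwd (nat_lit 3) (Steps.fwd (nat_lit 8192) (Steps.bwd (nat_lit 3) (Steps.fwd (nat_lit 8192) (Steps.bwd (nat_lit 4) (Steps.fwd (nat_lit 24576) (Steps.fwd (nat_lit 8192) Steps.nil))))))))))) (nat_lit 193) (nat_lit 0),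
  Rule.mk (nat_lit 0) (nat_lit 194) (Steps.bwd (nat_lit 20) (Steps.bwd (nat_lit 1) (Steps.fwd (nat_lit 24576) (Steps.bwd (nat_lit 1) (Steps.bwd (nat_lit 2) (Steps.fwd (nat_lit 8192) (Steps.bwd (nat_lit 3) (Steps.bwd (nat_lit 1) (Steps.bwd (nat_lit 3) (Steps.fwd (nat_lit 8192) (Steps.bwd (nat_lit 4) (Steps.bwd (nat_lit 2) Steps.nil)))))))))))) (nat_lit 194) (nat_lit 0),
  Rule.mk (nat_lit 20) (nat_lit 179) (Steps.bwd (nat_lit 1) (Steps.fwd (nat_lit 24576) (Steps.fwd (nat_lit 8192) (Steps.fwd (nat_lit 24576) (Steps.bwd (nat_lit 1) (Steps.bwd (nat_lit 3) (Steps.fwd (nat_lit 8192) (Steps.bwd (nat_lit 3) (Steps.fwd (nat_lit 8192) (Steps.bwd (nat_lit 4) (Steps.fwd (nat_lit 24576) Steps.nil))))))))))) (nat_lit 194) (nat_lit 1),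
  Rule.mk (nat_lit 19) (nat_lit 179) (Steps.fwd (nat_lit 16384) (Steps.fwd (nat_lit 32768) (Steps.bwd (nat_lit 1) (Steps.fwd (nat_lit 24576) (Steps.bwd (nat_lit 1) (Steps.bwd (nat_lit 2) (Steps.fwd (nat_lit 8192) (Steps.bwd (nat_lit 3) (Steps.bwd (nat_lit 1) (Steps.bwd (nat_lit 3) (Steps.fwd (nat_lit 8192) Steps.nil))))))))))) (nat_lit 195) (nat_lit 0),
  Rule.mk (nat_lit 0) (nat_lit 194) (Steps.bwd (nat_lit 20) (Steps.bwd (nat_lit 1) (Steps.fwd (nat_lit 24576) (Steps.bwd (nat_lit 1) (Steps.fwd (nat_lit 24576) (Steps.fwd (nat_lit 8192) (Steps.bwd (nat_lit 3) (Steps.bwd (nat_lit 1) (Steps.bwd (nat_lit 3) (Steps.fwd (nat_lit 8192) (Steps.fwd (nat_lit 32768) (Steps.bwd (nat_lit 2) Steps.nil)))))))))))) (nat_lit 194) (nat_lit 0),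
  Rule.mk (nat_lit 0) (nat_lit 194) (Steps.bwd (nat_lit 3) (Steps.fwd (nat_lit 32768) (Steps.fwd (nat_lit 8192) (Steps.bwd (nat_lit 2) (Steps.bwd (nat_lit 1) (Steps.fwd (nat_lit 24576) (Steps.bwd (nat_lit 1) (Steps.fwd (nat_lit 16384) (Steps.fwd (nat_lit 8192) (Steps.bwd (nat_lit 3) (Steps.bwd (nat_lit 1) (Steps.fwd (nat_lit 163840) Steps.nil)))))))))))) (nat_lit 195) (nat_lit 0),
  Rule.mk (nat_lit 15) (nat_lit 179) (Steps.fwd (nat_lit 16384) (Steps.bwd (nat_lit 1) (Steps.bwd (nat_lit 4) (Steps.fwd (nat_lit 16384) (Steps.fwd (nat_lit 8192) (Steps.fwd (nat_lit 24576) (Steps.bwd (nat_lit 1) (Steps.bwd (nat_lit 2) (Steps.bwd (nat_lit 1) (Steps.fwd (nat_lit 24576) (Steps.bwd (nat_lit 1) Steps.nil))))))))))) (nat_lit 191) (nat_lit 0),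
  Rule.mk (nat_lit 15) (nat_lit 179) (Steps.bwd (nat_lit 3) (Steps.bwd (nat_lit 1) (Steps.fwd (nat_lit 32768) (Steps.bwd (nat_lit 3) (Steps.bwd (nat_lit 1) (Steps.fwd (nat_lit 24576) (Steps.fwd (nat_lit 8192) (Steps.bwd (nat_lit 2) (Steps.bwd (nat_lit 1) (Steps.fwd (nat_lit 24576) (Steps.fwd (nat_lit 8192) Steps.nil))))))))))) (nat_lit 191) (nat_lit 0),
  Rule.mk (nat_lit 17) (nat_lit 179) (Steps.fwd (nat_lit 24576) (Steps.fwd (nat_lit 8192) (Steps.bwd (nat_lit 2) (Steps.fwd (nat_lit 8192) (Steps.bwd (nat_lit 3) (Steps.fwd (nat_lit 8192) (Steps.bwd (nat_lit 3) (Steps.fwd (nat_lit 8192) (Steps.fwd (nat_lit 32768) (Steps.fwd (nat_lit 24576) (Steps.bwd (nat_lit 1) Steps.nil))))))))))) (nat_lit 193) (nat_lit 0),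
  Rule.mk (nat_lit 17) (nat_lit 179) (Steps.bwd (nat_lit 2) (Steps.bwd (nat_lit 1) (Steps.bwd (nat_lit 2) (Steps.bwd (nat_lit 1) (Steps.fwd (nat_lit 16384) (Steps.bwd (nat_lit 1) (Steps.bwd (nat_lit 3) (Steps.bwd (nat_lit 1) (Steps.fwd (nat_lit 32768) (Steps.fwd (nat_lit 24576) (Steps.fwd (nat_lit 8192) Steps.nil))))))))))) (nat_lit 193) (nat_lit 0),
  Rule.mk (nat_lit 20) (nat_lit 179) (Steps.fwd (nat_lit 8192) (Steps.bwd (nat_lit 2) (Steps.bwd (nat_lit 1) (Steps.bwd (nat_lit 2) (Steps.bwd (nat_lit 1) (Steps.fwd (nat_lit 16384) (Steps.bwd (nat_lit 1) (Steps.bwd (nat_lit 3) (Steps.bwd (nat_lit 1) (Steps.fwd (nat_lit 32768) (Steps.fwd (nat_lit 24576) Steps.nil))))))))))) (nat_lit 194) (nat_lit 1),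
  Rule.mk (nat_lit 19) (nat_lit 179) (Steps.fwd (nat_lit 16384) (Steps.bwd (nat_lit 4) (Steps.fwd (nat_lit 8192) (Steps.bwd (nat_lit 2) (Steps.bwd (nat_lit 1) (Steps.bwd (nat_lit 2) (Steps.bwd (nat_lit 1) (Steps.fwd (nat_lit 16384) (Steps.bwd (nat_lit 1) (Steps.bwd (nat_lit 3) (Steps.bwd (nat_lit 1) Steps.nil))))))))))) (nat_lit 195) (nat_lit 0),
  Rule.mk (nat_lit 1) (nat_lit 89) (Steps.bwd (nat_lit 14) (Steps.fwd (nat_lit 57344) (Steps.bwd (nat_lit 4) (Steps.bwd (nat_lit 1) (Steps.fwd (nat_lit 73728) Steps.nil))))) (nat_lit 157) (nat_lit 0),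
  Rule.mk (nat_lit 16) (nat_lit 179) (Steps.bwd (nat_lit 1) (Steps.bwd (nat_lit 3) (Steps.bwd (nat_lit 1) (Steps.bwd (nat_lit 3) (Steps.fwd (nat_lit 8192) (Steps.bwd (nat_lit 3) (Steps.fwd (nat_lit 8192) (Steps.bwd (nat_lit 2) (Steps.fwd (nat_lit 32768) (Steps.bwd (nat_lit 1) (Steps.bwd (nat_lit 2) Steps.nil))))))))))) (nat_lit 190) (nat_lit 1),
  Rule.mk (nat_lit 0) (nat_lit 194) (Steps.bwd (nat_lit 16) (Steps.bwd (nat_lit 1) (Steps.bwd (nat_lit 3) (Steps.fwd (nat_lit 8192) (Steps.fwd (nat_lit 16384) (Steps.bwd (nat_lit 1) (Steps.fwd (nat_lit 16384) (Steps.bwd (nat_lit 1) (Steps.bwd (nat_lit 2) (Steps.fwd (nat_lit 32768) (Steps.fwd (nat_lit 8192) (Steps.bwd (nat_lit 2) Steps.nil)))))))))))) (nat_lit 190) (nat_lit 0),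
  Rule.mk (nat_lit 15) (nat_lit 179) (Steps.fwd (nat_lit 16384) (Steps.bwd (nat_lit 1) (Steps.fwd (nat_lit 32768) (Steps.fwd (nat_lit 16384) (Steps.bwd (nat_lit 1) (Steps.bwd (nat_lit 2) (Steps.bwd (nat_lit 1) (Steps.bwd (nat_lit 2) (Steps.fwd (nat_lit 8192) (Steps.bwd (nat_lit 2) (Steps.fwd (nat_lit 8192) Steps.nil))))))))))) (nat_lit 191) (nat_lit 0),
  Rule.mk (nat_lit 0) (nat_lit 194) (Steps.bwd (nat_lit 15) (Steps.fwd (nat_lit 16384) (Steps.bwd (nat_lit 1) (Steps.fwd (nat_lit 32768) (Steps.fwd (nat_lit 16384) (Steps.bwd (nat_lit 1) (Steps.bwd (nat_lit 2) (Steps.fwd (nat_lit 8192) (Steps.bwd (nat_lit 2) (Steps.fwd (nat_lit 8192) (Steps.fwd (nat_lit 24576) (Steps.fwd (nat_lit 8192) Steps.nil)))))))))))) (nat_lit 191) (nat_lit 11),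
  Rule.mk (nat_lit 0) (nat_lit 194) (Steps.bwd (nat_lit 18) (Steps.bwd (nat_lit 1) (Steps.bwd (nat_lit 3) (Steps.fwd (nat_lit 32768) (Steps.bwd (nat_lit 1) (Steps.bwd (nat_lit 2) (Steps.bwd (nat_lit 1) (Steps.bwd (nat_lit 2) (Steps.fwd (nat_lit 8192) (Steps.bwd (nat_lit 3) (Steps.fwd (nat_lit 8192) (Steps.bwd (nat_lit 3) Steps.nil)))))))))))) (nat_lit 192) (nat_lit 0),
  Rule.mk (nat_lit 0) (nat_lit 194) (Steps.bwd (nat_lit 18) (Steps.bwd (nat_lit 1) (Steps.bwd (nat_lit 3) (Steps.fwd (nat_lit 32768) (Steps.bwd (nat_lit 1) (Steps.bwd (nat_lit 2) (Steps.fwd (nat_lit 8192) (Steps.bwd (nat_lit 2) (Steps.fwd (nat_lit 8192) (Steps.fwd (nat_lit 16384) (Steps.fwd (nat_lit 8192) (Steps.bwd (nat_lit 3) Steps.nil)))))))))))) (nat_lit 192) (nat_lit 0),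
  Rule.mk (nat_lit 17) (nat_lit 179) (Steps.fwd (nat_lit 24576) (Steps.fwd (nat_lit 8192) (Steps.fwd (nat_lit 24576) (Steps.fwd (nat_lit 8192) (Steps.fwd (nat_lit 16384) (Steps.bwd (nat_lit 1) (Steps.bwd (nat_lit 3) (Steps.bwd (nat_lit 1) (Steps.fwd (nat_lit 32768) (Steps.bwd (nat_lit 2) (Steps.fwd (nat_lit 8192) Steps.nil))))))))))) (nat_lit 193) (nat_lit 0),
  Rule.mk (nat_lit 17) (nat_lit 179) (Steps.bwd (nat_lit 2) (Steps.fwd (nat_lit 8192) (Steps.bwd (nat_lit 2) (Steps.fwd (nat_lit 8192) (Steps.fwd (nat_lit 16384) (Steps.fwd (nat_lit 8192) (Steps.bwd (nat_lit 3) (Steps.fwd (nat_lit 8192) (Steps.fwd (nat_lit 32768) (Steps.bwd (nat_lit 2) (Steps.bwd (nat_lit 1) Steps.nil))))))))))) (nat_lit 193) (nat_lit 0),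
  Rule.mk (nat_lit 20) (nat_lit 179) (Steps.bwd (nat_lit 1) (Steps.fwd (nat_lit 24576) (Steps.fwd (nat_lit 8192) (Steps.fwd (nat_lit 24576) (Steps.fwd (nat_lit 8192) (Steps.fwd (nat_lit 16384) (Steps.bwd (nat_lit 1) (Steps.bwd (nat_lit 3) (Steps.bwd (nat_lit 1) (Steps.fwd (nat_lit 32768) (Steps.bwd (nat_lit 2) Steps.nil))))))))))) (nat_lit 194) (nat_lit 1),
  Rule.mk (nat_lit 20) (nat_lit 179) (Steps.bwd (nat_lit 1) (Steps.bwd (nat_lit 2) (Steps.bwd (nat_lit 1) (Steps.bwd (nat_lit 2) (Steps.fwd (nat_lit 8192) (Steps.bwd (nat_lit 3) (Steps.fwd (nat_lit 8192) (Steps.bwd (nat_lit 3) (Steps.fwd (nat_lit 8192) (Steps.fwd (nat_lit 32768) (Steps.bwd (nat_lit 2) Steps.nil))))))))))) (nat_lit 194) (nat_lit 1),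
  Rule.mk (nat_lit 20) (nat_lit 179) (Steps.bwd (nat_lit 1) (Steps.bwd (nat_lit 2) (Steps.fwd (nat_lit 8192) (Steps.bwd (nat_lit 2) (Steps.fwd (nat_lit 8192) (Steps.fwd (nat_lit 16384) (Steps.fwd (nat_lit 8192) (Steps.bwd (nat_lit 3) (Steps.fwd (nat_lit 8192) (Steps.fwd (nat_lit 32768) (Steps.bwd (nat_lit 2) Steps.nil))))))))))) (nat_lit 194) (nat_lit 1),
  Rule.mk (nat_lit 19) (nat_lit 179) (Steps.bwd (nat_lit 3) (Steps.fwd (nat_lit 32768) (Steps.bwd (nat_lit 1) (Steps.bwd (nat_lit 2) (Steps.bwd (nat_lit 1) (Steps.bwd (nat_lit 2) (Steps.fwd (nat_lit 8192) (Steps.bwd (nat_lit 3) (Steps.fwd (nat_lit 8192) (Steps.bwd (nat_lit 3) (Steps.fwd (nat_lit 8192) Steps.nil))))))))))) (nat_lit 195) (nat_lit 0),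
  Rule.mk (nat_lit 0) (nat_lit 194) (Steps.bwd (nat_lit 19) (Steps.bwd (nat_lit 3) (Steps.fwd (nat_lit 32768) (Steps.bwd (nat_lit 1) (Steps.bwd (nat_lit 2) (Steps.fwd (nat_lit 8192) (Steps.bwd (nat_lit 2) (Steps.fwd (nat_lit 8192) (Steps.fwd (nat_lit 16384) (Steps.fwd (nat_lit 8192) (Steps.bwd (nat_lit 3) (Steps.fwd (nat_lit 8192) Steps.nil)))))))))))) (nat_lit 195) (nat_lit 11),
  Rule.mk (nat_lit 16) (nat_lit 179) (Steps.bwd (nat_lit 1) (Steps.fwd (nat_lit 16384) (Steps.fwd (nat_lit 8192) (Steps.bwd (nat_lit 3) (Steps.bwd (nat_lit 1) (Steps.bwd (nat_lit 3) (Steps.fwd (nat_lit 8192) (Steps.bwd (nat_lit 2) (Steps.fwd (nat_lit 32768) (Steps.bwd (nat_lit 1) (Steps.bwd (nat_lit 2) Steps.nil))))))))))) (nat_lit 190) (nat_lit 1),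
  Rule.mk (nat_lit 0) (nat_lit 194) (Steps.bwd (nat_lit 15) (Steps.bwd (nat_lit 3) (Steps.fwd (nat_lit 8192) (Steps.bwd (nat_lit 4) (Steps.fwd (nat_lit 16384) (Steps.bwd (nat_lit 1) (Steps.fwd (nat_lit 24576) (Steps.bwd (nat_lit 1) (Steps.fwd (nat_lit 24576) (Steps.fwd (nat_lit 8192) (Steps.fwd (nat_lit 24576) (Steps.bwd (nat_lit 1) Steps.nil)))))))))))) (nat_lit 191) (nat_lit 11),
  Rule.mk (nat_lit 16) (nat_lit 179) (Steps.bwd (nat_lit 1) (Steps.bwd (nat_lit 3) (Steps.fwd (nat_lit 8192) (Steps.bwd (nat_lit 3) (Steps.fwd (nat_lit 8192) (Steps.bwd (nat_lit 3) (Steps.fwd (nat_lit 8192) (Steps.bwd (nat_lit 2) (Steps.bwd (nat_lit 4) (Steps.fwd (nat_lit 8192) (Steps.bwd (nat_lit 2) Steps.nil))))))))))) (nat_lit 190) (nat_lit 1),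
  Rule.mk (nat_lit 0) (nat_lit 194) (Steps.bwd (nat_lit 1) (Steps.fwd (nat_lit 16384) (Steps.fwd (nat_lit 8192) (Steps.bwd (nat_lit 3) (Steps.bwd (nat_lit 1) (Steps.fwd (nat_lit 16384) (Steps.bwd (nat_lit 1) (Steps.fwd (nat_lit 24576) (Steps.fwd (nat_lit 32768) (Steps.bwd (nat_lit 1) (Steps.fwd (nat_lit 24576) (Steps.fwd (nat_lit 122880) Steps.nil)))))))))))) (nat_lit 190) (nat_lit 1),
  Rule.mk (nat_lit 15) (nat_lit 179) (Steps.bwd (nat_lit 3) (Steps.fwd (nat_lit 8192) (Steps.bwd (nat_lit 4) (Steps.fwd (nat_lit 16384) (Steps.bwd (nat_lit 1) (Steps.fwd (nat_lit 24576) (Steps.fwd (nat_lit 8192) (Steps.fwd (nat_lit 24576) (Steps.fwd (nat_lit 8192) (Steps.fwd (nat_lit 24576) (Steps.bwd (nat_lit 1) Steps.nil))))))))))) (nat_lit 191) (nat_lit 0),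
  Rule.mk (nat_lit 18) (nat_lit 179) (Steps.bwd (nat_lit 1) (Steps.fwd (nat_lit 16384) (Steps.bwd (nat_lit 4) (Steps.fwd (nat_lit 8192) (Steps.fwd (nat_lit 24576) (Steps.bwd (nat_lit 1) (Steps.bwd (nat_lit 2) (Steps.fwd (nat_lit 8192) (Steps.bwd (nat_lit 3) (Steps.bwd (nat_lit 1) (Steps.bwd (nat_lit 3) Steps.nil))))))))))) (nat_lit 192) (nat_lit 1),
  Rule.mk (nat_lit 18) (nat_lit 179) (Steps.fwd (nat_lit 8192) (Steps.fwd (nat_lit 16384) (Steps.bwd (nat_lit 4) (Steps.bwd (nat_lit 1) (Steps.fwd (nat_lit 24576) (Steps.bwd (nat_lit 1) (Steps.bwd (nat_lit 2) (Steps.bwd (nat_lit 1) (Steps.bwd (nat_lit 3) (Steps.fwd (nat_lit 8192) (Steps.bwd (nat_lit 3) Steps.nil))))))))))) (nat_lit 192) (nat_lit 1),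
  Rule.mk (nat_lit 18) (nat_lit 179) (Steps.bwd (nat_lit 1) (Steps.bwd (nat_lit 3) (Steps.fwd (nat_lit 32768) (Steps.fwd (nat_lit 8192) (Steps.bwd (nat_lit 2) (Steps.bwd (nat_lit 1) (Steps.bwd (nat_lit 2) (Steps.bwd (nat_lit 1) (Steps.bwd (nat_lit 3) (Steps.fwd (nat_lit 8192) (Steps.bwd (nat_lit 3) Steps.nil))))))))))) (nat_lit 192) (nat_lit 1),
  Rule.mk (nat_lit 17) (nat_lit 179) (Steps.fwd (nat_lit 24576) (Steps.bwd (nat_lit 1) (Steps.bwd (nat_lit 2) (Steps.fwd (nat_lit 8192) (Steps.bwd (nat_lit 3) (Steps.bwd (nat_lit 1) (Steps.bwd (nat_lit 3) (Steps.fwd (nat_lit 8192) (Steps.bwd (nat_lit 4) (Steps.fwd (nat_lit 24576) (Steps.bwd (nat_lit 1) Steps.nil))))))))))) (nat_lit 193) (nat_lit 0),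
  Rule.mk (nat_lit 17) (nat_lit 179) (Steps.fwd (nat_lit 24576) (Steps.bwd (nat_lit 1) (Steps.bwd (nat_lit 2) (Steps.bwd (nat_lit 1) (Steps.bwd (nat_lit 3) (Steps.fwd (nat_lit 8192) (Steps.bwd (nat_lit 3) (Steps.fwd (nat_lit 8192) (Steps.bwd (nat_lit 4) (Steps.fwd (nat_lit 24576) (Steps.bwd (nat_lit 1) Steps.nil))))))))))) (nat_lit 193) (nat_lit 0),
  Rule.mk (nat_lit 20) (nat_lit 179) (Steps.fwd (nat_lit 8192) (Steps.fwd (nat_lit 24576) (Steps.bwd (nat_lit 1) (Steps.bwd (nat_lit 2) (Steps.fwd (nat_lit 8192) (Steps.bwd (nat_lit 3) (Steps.bwd (nat_lit 1) (Steps.bwd (nat_lit 3) (Steps.fwd (nat_lit 8192) (Steps.bwd (nat_lit 4) (Steps.fwd (nat_lit 24576) Steps.nil))))))))))) (nat_lit 194) (nat_lit 1),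
  Rule.mk (nat_lit 0) (nat_lit 194) (Steps.bwd (nat_lit 20) (Steps.bwd (nat_lit 1) (Steps.fwd (nat_lit 24576) (Steps.bwd (nat_lit 1) (Steps.bwd (nat_lit 2) (Steps.bwd (nat_lit 1) (Steps.bwd (nat_lit 3) (Steps.fwd (nat_lit 8192) (Steps.bwd (nat_lit 3) (Steps.fwd (nat_lit 8192) (Steps.bwd (nat_lit 4) (Steps.fwd (nat_lit 24576) Steps.nil)))))))))))) (nat_lit 194) (nat_lit 0),
  Rule.mk (nat_lit 19) (nat_lit 179) (Steps.fwd (nat_lit 16384) (Steps.bwd (nat_lit 4) (Steps.fwd (nat_lit 8192) (Steps.fwd (nat_lit 24576) (Steps.bwd (nat_lit 1) (Steps.bwd (nat_lit 2) (Steps.fwd (nat_lit 8192) (Steps.bwd (nat_lit 3) (Steps.bwd (nat_lit 1) (Steps.bwd (nat_lit 3) (Steps.fwd (nat_lit 8192) Steps.nil))))))))))) (nat_lit 195) (nat_lit 0),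
  Rule.mk (nat_lit 19) (nat_lit 179) (Steps.fwd (nat_lit 16384) (Steps.bwd (nat_lit 4) (Steps.bwd (nat_lit 1) (Steps.fwd (nat_lit 24576) (Steps.bwd (nat_lit 1) (Steps.bwd (nat_lit 2) (Steps.bwd (nat_lit 1) (Steps.bwd (nat_lit 3) (Steps.fwd (nat_lit 8192) (Steps.bwd (nat_lit 3) (Steps.fwd (nat_lit 8192) Steps.nil))))))))))) (nat_lit 195) (nat_lit 0),
  Rule.mk (nat_lit 19) (nat_lit 179) (Steps.bwd (nat_lit 3) (Steps.fwd (nat_lit 32768) (Steps.fwd (nat_lit 8192) (Steps.bwd (nat_lit 2) (Steps.bwd (nat_lit 1) (Steps.bwd (nat_lit 2) (Steps.bwd (nat_lit 1) (Steps.bwd (nat_lit 3) (Steps.fwd (nat_lit 8192) (Steps.bwd (nat_lit 3) (Steps.bwd (nat_lit 1) Steps.nil))))))))))) (nat_lit 195) (nat_lit 0),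
  Rule.mk (nat_lit 15) (nat_lit 179) (Steps.fwd (nat_lit 16384) (Steps.bwd (nat_lit 1) (Steps.fwd (nat_lit 32768) (Steps.bwd (nat_lit 3) (Steps.fwd (nat_lit 8192) (Steps.fwd (nat_lit 24576) (Steps.fwd (nat_lit 8192) (Steps.bwd (nat_lit 2) (Steps.bwd (nat_lit 1) (Steps.fwd (nat_lit 24576) (Steps.bwd (nat_lit 1) Steps.nil))))))))))) (nat_lit 191) (nat_lit 0),
  Rule.mk (nat_lit 0) (nat_lit 194) (Steps.bwd (nat_lit 18) (Steps.fwd (nat_lit 8192) (Steps.fwd (nat_lit 16384) (Steps.bwd (nat_lit 4) (Steps.fwd (nat_lit 8192) (Steps.bwd (nat_lit 2) (Steps.fwd (nat_lit 8192) (Steps.fwd (nat_lit 24576) (Steps.fwd (nat_lit 8192) (Steps.bwd (nat_lit 3) (Steps.bwd (nat_lit 1) (Steps.fwd (nat_lit 16384) Steps.nil)))))))))))) (nat_lit 192) (nat_lit 0),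
  Rule.mk (nat_lit 3) (nat_lit 104) (Steps.bwd (nat_lit 9) (Steps.bwd (nat_lit 8) (Steps.fwd (nat_lit 40960) (Steps.fwd (nat_lit 32768) (Steps.fwd (nat_lit 24576) (Steps.bwd (nat_lit 12) Steps.nil)))))) (nat_lit 185) (nat_lit 0),
  Rule.mk (nat_lit 2) (nat_lit 134) (Steps.bwd (nat_lit 9) (Steps.fwd (nat_lit 16384) (Steps.bwd (nat_lit 4) (Steps.fwd (nat_lit 40960) (Steps.bwd (nat_lit 8) (Steps.fwd (nat_lit 73728) (Steps.bwd (nat_lit 11) (Steps.fwd (nat_lit 114688) Steps.nil)))))))) (nat_lit 178) (nat_lit 1)]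
noncomputable def R_137 : List (Rule) := [Rule.mk (nat_lit 16) (nat_lit 179) (Steps.fwd (nat_lit 8192) (Steps.bwd (nat_lit 3) (Steps.bwd (nat_lit 1) (Steps.bwd (nat_lit 3) (Steps.fwd (nat_lit 8192) (Steps.bwd (nat_lit 3) (Steps.fwd (nat_lit 8192) (Steps.fwd (nat_lit 24576) (Steps.fwd (nat_lit 32768) (Steps.fwd (nat_lit 8192) (Steps.bwd (nat_lit 2) Steps.nil))))))))))) (nat_lit 190) (nat_lit 1),
  Rule.mk (nat_lit 0) (nat_lit 194) (Steps.bwd (nat_lit 15) (Steps.bwd (nat_lit 3) (Steps.fwd (nat_lit 8192) (Steps.bwd (nat_lit 4) (Steps.fwd (nat_lit 16384) (Steps.bwd (nat_lit 1) (Steps.fwd (nat_lit 24576) (Steps.fwd (nat_lit 8192) (Steps.bwd (nat_lit 2) (Steps.bwd (nat_lit 1) (Steps.fwd (nat_lit 24576) (Steps.fwd (nat_lit 8192) Steps.nil)))))))))))) (nat_lit 191) (nat_lit 11),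
  Rule.mk (nat_lit 0) (nat_lit 194) (Steps.bwd (nat_lit 15) (Steps.bwd (nat_lit 3) (Steps.bwd (nat_lit 1) (Steps.bwd (nat_lit 4) (Steps.fwd (nat_lit 16384) (Steps.bwd (nat_lit 1) (Steps.bwd (nat_lit 2) (Steps.fwd (nat_lit 8192) (Steps.bwd (nat_lit 2) (Steps.fwd (nat_lit 8192) (Steps.bwd (nat_lit 2) (Steps.fwd (nat_lit 8192) Steps.nil)))))))))))) (nat_lit 191) (nat_lit 11),
  Rule.mk (nat_lit 15) (nat_lit 179) (Steps.fwd (nat_lit 16384) (Steps.bwd (nat_lit 1) (Steps.fwd (nat_lit 32768) (Steps.bwd (nat_lit 3) (Steps.fwd (nat_lit 8192) (Steps.bwd (nat_lit 2) (Steps.fwd (nat_lit 8192) (Steps.bwd (nat_lit 2) (Steps.fwd (nat_lit 8192) (Steps.bwd (nat_lit 2) (Steps.fwd (nat_lit 8192) Steps.nil))))))))))) (nat_lit 191) (nat_lit 0),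
  Rule.mk (nat_lit 0) (nat_lit 194) (Steps.fwd (nat_lit 8192) (Steps.fwd (nat_lit 16384) (Steps.bwd (nat_lit 1) (Steps.fwd (nat_lit 16384) (Steps.bwd (nat_lit 1) (Steps.fwd (nat_lit 16384) (Steps.bwd (nat_lit 1) (Steps.fwd (nat_lit 24576) (Steps.bwd (nat_lit 4) (Steps.fwd (nat_lit 8192) (Steps.bwd (nat_lit 2) (Steps.fwd (nat_lit 122880) Steps.nil)))))))))))) (nat_lit 190) (nat_lit 1),
  Rule.mk (nat_lit 0) (nat_lit 194) (Steps.bwd (nat_lit 18) (Steps.bwd (nat_lit 1) (Steps.fwd (nat_lit 16384) (Steps.fwd (nat_lit 32768) (Steps.fwd (nat_lit 8192) (Steps.bwd (nat_lit 2) (Steps.fwd (nat_lit 8192) (Steps.bwd (nat_lit 2) (Steps.fwd (nat_lit 8192) (Steps.fwd (nat_lit 16384) (Steps.bwd (nat_lit 1) (Steps.fwd (nat_lit 16384) Steps.nil)))))))))))) (nat_lit 192) (nat_lit 0),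
  Rule.mk (nat_lit 17) (nat_lit 179) (Steps.bwd (nat_lit 2) (Steps.fwd (nat_lit 8192) (Steps.bwd (nat_lit 2) (Steps.fwd (nat_lit 8192) (Steps.fwd (nat_lit 16384) (Steps.bwd (nat_lit 1) (Steps.fwd (nat_lit 16384) (Steps.fwd (nat_lit 8192) (Steps.bwd (nat_lit 4) (Steps.bwd (nat_lit 2) (Steps.bwd (nat_lit 1) Steps.nil))))))))))) (nat_lit 193) (nat_lit 0),
  Rule.mk (nat_lit 20) (nat_lit 179) (Steps.fwd (nat_lit 8192) (Steps.bwd (nat_lit 2) (Steps.bwd (nat_lit 1) (Steps.bwd (nat_lit 2) (Steps.fwd (nat_lit 8192) (Steps.bwd (nat_lit 3) (Steps.fwd (nat_lit 8192) (Steps.bwd (nat_lit 3) (Steps.fwd (nat_lit 8192) (Steps.fwd (nat_lit 32768) (Steps.bwd (nat_lit 2) Steps.nil))))))))))) (nat_lit 194) (nat_lit 1),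
  Rule.mk (nat_lit 0) (nat_lit 194) (Steps.bwd (nat_lit 20) (Steps.bwd (nat_lit 1) (Steps.bwd (nat_lit 2) (Steps.fwd (nat_lit 8192) (Steps.bwd (nat_lit 2) (Steps.bwd (nat_lit 1) (Steps.fwd (nat_lit 16384) (Steps.bwd (nat_lit 1) (Steps.fwd (nat_lit 16384) (Steps.bwd (nat_lit 1) (Steps.bwd (nat_lit 4) (Steps.bwd (nat_lit 2) Steps.nil)))))))))))) (nat_lit 194) (nat_lit 0),
  Rule.mk (nat_lit 0) (nat_lit 194) (Steps.bwd (nat_lit 15) (Steps.bwd (nat_lit 3) (Steps.fwd (nat_lit 8192) (Steps.fwd (nat_lit 32768) (Steps.bwd (nat_lit 3) (Steps.fwd (nat_lit 8192) (Steps.bwd (nat_lit 2) (Steps.fwd (nat_lit 8192) (Steps.bwd (nat_lit 2) (Steps.bwd (nat_lit 1) (Steps.fwd (nat_lit 24576) (Steps.fwd (nat_lit 8192) Steps.nil)))))))))))) (nat_lit 191) (nat_lit 11),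
  Rule.mk (nat_lit 0) (nat_lit 194) (Steps.bwd (nat_lit 20) (Steps.bwd (nat_lit 1) (Steps.bwd (nat_lit 2) (Steps.fwd (nat_lit 8192) (Steps.bwd (nat_lit 2) (Steps.fwd (nat_lit 8192) (Steps.fwd (nat_lit 16384) (Steps.bwd (nat_lit 1) (Steps.fwd (nat_lit 16384) (Steps.bwd (nat_lit 1) (Steps.fwd (nat_lit 32768) (Steps.bwd (nat_lit 2) Steps.nil)))))))))))) (nat_lit 194) (nat_lit 0),
  Rule.mk (nat_lit 19) (nat_lit 179) (Steps.fwd (nat_lit 16384) (Steps.bwd (nat_lit 4) (Steps.bwd (nat_lit 1) (Steps.bwd (nat_lit 2) (Steps.fwd (nat_lit 8192) (Steps.bwd (nat_lit 2) (Steps.fwd (nat_lit 8192) (Steps.fwd (nat_lit 16384) (Steps.bwd (nat_lit 1) (Steps.fwd (nat_lit 16384) (Steps.bwd (nat_lit 1) Steps.nil))))))))))) (nat_lit 195) (nat_lit 0),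
  Rule.mk (nat_lit 0) (nat_lit 194) (Steps.bwd (nat_lit 16) (Steps.fwd (nat_lit 8192) (Steps.bwd (nat_lit 3) (Steps.fwd (nat_lit 8192) (Steps.fwd (nat_lit 16384) (Steps.bwd (nat_lit 1) (Steps.bwd (nat_lit 3) (Steps.fwd (nat_lit 8192) (Steps.bwd (nat_lit 2) (Steps.fwd (nat_lit 32768) (Steps.fwd (nat_lit 8192) (Steps.fwd (nat_lit 24576) Steps.nil)))))))))))) (nat_lit 190) (nat_lit 0),
  Rule.mk (nat_lit 0) (nat_lit 194) (Steps.bwd (nat_lit 16) (Steps.bwd (nat_lit 1) (Steps.bwd (nat_lit 3) (Steps.bwd (nat_lit 1) (Steps.bwd (nat_lit 3) (Steps.fwd (nat_lit 8192) (Steps.bwd (nat_lit 3) (Steps.fwd (nat_lit 8192) (Steps.bwd (nat_lit 2) (Steps.bwd (nat_lit 4) (Steps.bwd (nat_lit 1) (Steps.fwd (nat_lit 24576) Steps.nil)))))))))))) (nat_lit 190) (nat_lit 0),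
  Rule.mk (nat_lit 18) (nat_lit 179) (Steps.bwd (nat_lit 1) (Steps.fwd (nat_lit 16384) (Steps.bwd (nat_lit 4) (Steps.bwd (nat_lit 1) (Steps.bwd (nat_lit 2) (Steps.bwd (nat_lit 1) (Steps.bwd (nat_lit 2) (Steps.fwd (nat_lit 8192) (Steps.fwd (nat_lit 16384) (Steps.bwd (nat_lit 1) (Steps.bwd (nat_lit 3) Steps.nil))))))))))) (nat_lit 192) (nat_lit 1),
  Rule.mk (nat_lit 0) (nat_lit 194) (Steps.bwd (nat_lit 17) (Steps.bwd (nat_lit 2) (Steps.bwd (nat_lit 1) (Steps.bwd (nat_lit 2) (Steps.fwd (nat_lit 8192) (Steps.fwd (nat_lit 16384) (Steps.bwd (nat_lit 1) (Steps.bwd (nat_lit 3) (Steps.fwd (nat_lit 8192) (Steps.fwd (nat_lit 32768) (Steps.bwd (nat_lit 2) (Steps.fwd (nat_lit 8192) Steps.nil)))))))))))) (nat_lit 193) (nat_lit 11),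
  Rule.mk (nat_lit 0) (nat_lit 194) (Steps.bwd (nat_lit 20) (Steps.bwd (nat_lit 1) (Steps.bwd (nat_lit 2) (Steps.bwd (nat_lit 1) (Steps.bwd (nat_lit 2) (Steps.fwd (nat_lit 8192) (Steps.fwd (nat_lit 16384) (Steps.bwd (nat_lit 1) (Steps.bwd (nat_lit 3) (Steps.fwd (nat_lit 8192) (Steps.fwd (nat_lit 32768) (Steps.bwd (nat_lit 2) Steps.nil)))))))))))) (nat_lit 194) (nat_lit 0),
  Rule.mk (nat_lit 19) (nat_lit 179) (Steps.fwd (nat_lit 16384) (Steps.bwd (nat_lit 4) (Steps.bwd (nat_lit 1) (Steps.bwd (nat_lit 2) (Steps.bwd (nat_lit 1) (Steps.bwd (nat_lit 2) (Steps.fwd (nat_lit 8192) (Steps.fwd (nat_lit 16384) (Steps.bwd (nat_lit 1) (Steps.bwd (nat_lit 3) (Steps.fwd (nat_lit 8192) Steps.nil))))))))))) (nat_lit 195) (nat_lit 0),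
  Rule.mk (nat_lit 15) (nat_lit 179) (Steps.fwd (nat_lit 16384) (Steps.bwd (nat_lit 1) (Steps.fwd (nat_lit 32768) (Steps.bwd (nat_lit 3) (Steps.bwd (nat_lit 1) (Steps.fwd (nat_lit 24576) (Steps.bwd (nat_lit 1) (Steps.fwd (nat_lit 24576) (Steps.bwd (nat_lit 1) (Steps.fwd (nat_lit 24576) (Steps.bwd (nat_lit 1) Steps.nil))))))))))) (nat_lit 191) (nat_lit 0),
  Rule.mk (nat_lit 14) (nat_lit 89) (Steps.bwd (nat_lit 1) (Steps.bwd (nat_lit 9) (Steps.fwd (nat_lit 8192) (Steps.bwd (nat_lit 4) (Steps.fwd (nat_lit 57344) Steps.nil))))) (nat_lit 156) (nat_lit 0),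
  Rule.mk (nat_lit 12) (nat_lit 164) (Steps.bwd (nat_lit 1) (Steps.bwd (nat_lit 4) (Steps.fwd (nat_lit 40960) (Steps.bwd (nat_lit 8) (Steps.bwd (nat_lit 9) (Steps.bwd (nat_lit 10) (Steps.fwd (nat_lit 90112) (Steps.fwd (nat_lit 98304) (Steps.fwd (nat_lit 114688) (Steps.bwd (nat_lit 1) Steps.nil)))))))))) (nat_lit 162) (nat_lit 2),
  Rule.mk (nat_lit 0) (nat_lit 194) (Steps.bwd (nat_lit 16) (Steps.fwd (nat_lit 8192) (Steps.bwd (nat_lit 3) (Steps.bwd (nat_lit 1) (Steps.fwd (nat_lit 16384) (Steps.fwd (nat_lit 8192) (Steps.bwd (nat_lit 3) (Steps.bwd (nat_lit 1) (Steps.fwd (nat_lit 24576) (Steps.bwd (nat_lit 4) (Steps.bwd (nat_lit 1) (Steps.fwd (nat_lit 24576) Steps.nil)))))))))))) (nat_lit 190) (nat_lit 0),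
  Rule.mk (nat_lit 3) (nat_lit 179) (Steps.bwd (nat_lit 1) (Steps.bwd (nat_lit 4) (Steps.bwd (nat_lit 3) (Steps.fwd (nat_lit 8192) (Steps.fwd (nat_lit 24576) (Steps.bwd (nat_lit 1) (Steps.bwd (nat_lit 2) (Steps.bwd (nat_lit 1) (Steps.fwd (nat_lit 24576) (Steps.fwd (nat_lit 8192) (Steps.fwd (nat_lit 131072) Steps.nil))))))))))) (nat_lit 191) (nat_lit 1),
  Rule.mk (nat_lit 18) (nat_lit 179) (Steps.bwd (nat_lit 1) (Steps.fwd (nat_lit 16384) (Steps.fwd (nat_lit 32768) (Steps.fwd (nat_lit 8192) (Steps.fwd (nat_lit 24576) (Steps.bwd (nat_lit 1) (Steps.bwd (nat_lit 2) (Steps.bwd (nat_lit 1) (Steps.bwd (nat_lit 3) (Steps.fwd (nat_lit 8192) (Steps.fwd (nat_lit 16384) Steps.nil))))))))))) (nat_lit 192) (nat_lit 1),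
  Rule.mk (nat_lit 2) (nat_lit 179) (Steps.bwd (nat_lit 1) (Steps.fwd (nat_lit 24576) (Steps.fwd (nat_lit 8192) (Steps.bwd (nat_lit 3) (Steps.bwd (nat_lit 1) (Steps.fwd (nat_lit 16384) (Steps.bwd (nat_lit 1) (Steps.bwd (nat_lit 4) (Steps.bwd (nat_lit 2) (Steps.fwd (nat_lit 8192) (Steps.fwd (nat_lit 147456) Steps.nil))))))))))) (nat_lit 193) (nat_lit 1),
  Rule.mk (nat_lit 20) (nat_lit 179) (Steps.bwd (nat_lit 1) (Steps.fwd (nat_lit 24576) (Steps.fwd (nat_lit 8192) (Steps.bwd (nat_lit 2) (Steps.bwd (nat_lit 1) (Steps.fwd (nat_lit 16384) (Steps.bwd (nat_lit 1) (Steps.fwd (nat_lit 16384) (Steps.bwd (nat_lit 1) (Steps.fwd (nat_lit 32768) (Steps.bwd (nat_lit 2) Steps.nil))))))))))) (nat_lit 194) (nat_lit 1),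
  Rule.mk (nat_lit 0) (nat_lit 554) (Steps.bwd (nat_lit 3) (Steps.bwd (nat_lit 1) (Steps.fwd (nat_lit 16384) (Steps.bwd (nat_lit 1) (Steps.bwd (nat_lit 2) (Steps.bwd (nat_lit 1) (Steps.fwd (nat_lit 24576) (Steps.bwd (nat_lit 1) (Steps.bwd (nat_lit 3) (Steps.bwd (nat_lit 1) (Steps.fwd (nat_lit 24576) (Steps.fwd (nat_lit 8192) (Steps.bwd (nat_lit 2) (Steps.fwd (nat_lit 8192) (Steps.fwd (nat_lit 16384) (Steps.fwd (nat_lit 8192) (Steps.bwd (nat_lit 2) (Steps.bwd (nat_lit 1) (Steps.bwd (nat_lit 2) (Steps.bwd (nat_lit 1) (Steps.fwd (nat_lit 16384) (Steps.fwd (nat_lit 8192) (Steps.fwd (nat_lit 24576) (Steps.bwd (nat_lit 1) (Steps.bwd (nat_lit 3) (Steps.fwd (nat_lit 8192) (Steps.bwd (nat_lit 3) (Steps.bwd (nat_lit 1) (Steps.fwd (nat_lit 24576) (Steps.fwd (nat_lit 8192) (Steps.fwd (nat_lit 16384) (Steps.bwd (nat_lit 1) (Steps.bwd (nat_lit 3) (Steps.fwd (nat_lit 8192) (Steps.bwd (nat_lit 2) (Steps.fwd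 (nat_lit 8192) Steps.nil)))))))))))))))))))))))))))))))))))) (nat_lit 12) (nat_lit 33),
  Rule.mk (nat_lit 0) (nat_lit 554) (Steps.fwd (nat_lit 8192) (Steps.bwd (nat_lit 2) (Steps.bwd (nat_lit 1) (Steps.fwd (nat_lit 24576) (Steps.fwd (nat_lit 8192) (Steps.fwd (nat_lit 16384) (Steps.fwd (nat_lit 8192) (Steps.bwd (nat_lit 2) (Steps.fwd (nat_lit 8192) (Steps.bwd (nat_lit 2) (Steps.bwd (nat_lit 1) (Steps.fwd (nat_lit 16384) (Steps.bwd (nat_lit 1) (Steps.bwd (nat_lit 2) (Steps.bwd (nat_lit 1) (Steps.bwd (nat_lit 3) (Steps.bwd (nat_lit 1) (Steps.fwd (nat_lit 16384) (Steps.fwd (nat_lit 8192) (Steps.fwd (nat_lit 24576) (Steps.fwd (nat_lit 8192) (Steps.fwd (nat_lit 16384) (Steps.bwd (nat_lit 1) (Steps.bwd (nat_lit 3) (Steps.bwd (nat_lit 1) (Steps.fwd (nat_lit 24576) (Steps.fwd (nat_lit 8192) (Steps.bwd (nat_lit 3) (Steps.bwd (nat_lit 1) (Steps.fwd (nat_lit 16384) (Steps.fwd (nat_lit 8192) (Steps.fwd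 (nat_lit 24576) (Steps.fwd (nat_lit 8192) (Steps.bwd (nat_lit 2) (Steps.fwd (nat_lit 8192) (Steps.fwd (nat_lit 16384) Steps.nil)))))))))))))))))))))))))))))))))))) (nat_lit 12) (nat_lit 6),
  Rule.mk (nat_lit 0) (nat_lit 194) (Steps.bwd (nat_lit 16) (Steps.fwd (nat_lit 8192) (Steps.bwd (nat_lit 3) (Steps.fwd (nat_lit 8192) (Steps.fwd (nat_lit 16384) (Steps.bwd (nat_lit 1) (Steps.bwd (nat_lit 3) (Steps.fwd (nat_lit 8192) (Steps.bwd (nat_lit 2) (Steps.fwd (nat_lit 32768) (Steps.bwd (nat_lit 1) (Steps.fwd (nat_lit 24576) Steps.nil)))))))))))) (nat_lit 190) (nat_lit 0),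
  Rule.mk (nat_lit 0) (nat_lit 194) (Steps.bwd (nat_lit 16) (Steps.fwd (nat_lit 8192) (Steps.fwd (nat_lit 16384) (Steps.bwd (nat_lit 1) (Steps.bwd (nat_lit 3) (Steps.fwd (nat_lit 8192) (Steps.fwd (nat_lit 16384) (Steps.fwd (nat_lit 8192) (Steps.bwd (nat_lit 2) (Steps.fwd (nat_lit 32768) (Steps.fwd (nat_lit 8192) (Steps.bwd (nat_lit 2) Steps.nil)))))))))))) (nat_lit 190) (nat_lit 0),
  Rule.mk (nat_lit 16) (nat_lit 179) (Steps.bwd (nat_lit 1) (Steps.bwd (nat_lit 3) (Steps.fwd (nat_lit 8192) (Steps.fwd (nat_lit 16384) (Steps.fwd (nat_lit 8192) (Steps.fwd (nat_lit 16384) (Steps.bwd (nat_lit 1) (Steps.bwd (nat_lit 2) (Steps.bwd (nat_lit 4) (Steps.bwd (nat_lit 1) (Steps.bwd (nat_lit 2) Steps.nil))))))))))) (nat_lit 190) (nat_lit 1),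
  Rule.mk (nat_lit 15) (nat_lit 179) (Steps.fwd (nat_lit 16384) (Steps.fwd (nat_lit 8192) (Steps.bwd (nat_lit 4) (Steps.fwd (nat_lit 16384) (Steps.fwd (nat_lit 8192) (Steps.fwd (nat_lit 24576) (Steps.fwd (nat_lit 8192) (Steps.bwd (nat_lit 2) (Steps.fwd (nat_lit 8192) (Steps.bwd (nat_lit 2) (Steps.bwd (nat_lit 1) Steps.nil))))))))))) (nat_lit 191) (nat_lit 0),
  Rule.mk (nat_lit 0) (nat_lit 194) (Steps.bwd (nat_lit 18) (Steps.fwd (nat_lit 8192) (Steps.bwd (nat_lit 3) (Steps.fwd (nat_lit 32768) (Steps.fwd (nat_lit 8192) (Steps.fwd (nat_lit 24576) (Steps.fwd (nat_lit 8192) (Steps.bwd (nat_lit 2) (Steps.fwd (nat_lit 8192) (Steps.fwd (nat_lit 16384) (Steps.fwd (nat_lit 8192) (Steps.fwd (nat_lit 16384) Steps.nil)))))))))))) (nat_lit 192) (nat_lit 0),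
  Rule.mk (nat_lit 0) (nat_lit 194) (Steps.bwd (nat_lit 17) (Steps.bwd (nat_lit 2) (Steps.fwd (nat_lit 8192) (Steps.bwd (nat_lit 2) (Steps.bwd (nat_lit 1) (Steps.bwd (nat_lit 3) (Steps.fwd (nat_lit 8192) (Steps.fwd (nat_lit 16384) (Steps.bwd (nat_lit 1) (Steps.bwd (nat_lit 4) (Steps.bwd (nat_lit 2) (Steps.fwd (nat_lit 8192) Steps.nil)))))))))))) (nat_lit 193) (nat_lit 11),
  Rule.mk (nat_lit 18) (nat_lit 179) (Steps.fwd (nat_lit 8192) (Steps.fwd (nat_lit 16384) (Steps.fwd (nat_lit 32768) (Steps.fwd (nat_lit 8192) (Steps.fwd (nat_lit 24576) (Steps.bwd (nat_lit 1) (Steps.bwd (nat_lit 2) (Steps.fwd (nat_lit 8192) (Steps.fwd (nat_lit 16384) (Steps.bwd (nat_lit 1) (Steps.bwd (nat_lit 3) Steps.nil))))))))))) (nat_lit 192) (nat_lit 1),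
  Rule.mk (nat_lit 17) (nat_lit 179) (Steps.bwd (nat_lit 2) (Steps.fwd (nat_lit 8192) (Steps.fwd (nat_lit 24576) (Steps.bwd (nat_lit 1) (Steps.bwd (nat_lit 3) (Steps.fwd (nat_lit 8192) (Steps.fwd (nat_lit 16384) (Steps.fwd (nat_lit 8192) (Steps.bwd (nat_lit 4) (Steps.fwd (nat_lit 24576) (Steps.fwd (nat_lit 8192) Steps.nil))))))))))) (nat_lit 193) (nat_lit 0),
  Rule.mk (nat_lit 17) (nat_lit 179) (Steps.fwd (nat_lit 24576) (Steps.fwd (nat_lit 8192) (Steps.bwd (nat_lit 2) (Steps.fwd (nat_lit 8192) (Steps.fwd (nat_lit 16384) (Steps.fwd (nat_lit 8192) (Steps.fwd (nat_lit 16384) (Steps.bwd (nat_lit 1) (Steps.bwd (nat_lit 4) (Steps.bwd (nat_lit 2) (Steps.bwd (nat_lit 1) Steps.nil))))))))))) (nat_lit 193) (nat_lit 0),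
  Rule.mk (nat_lit 20) (nat_lit 179) (Steps.fwd (nat_lit 8192) (Steps.bwd (nat_lit 2) (Steps.fwd (nat_lit 8192) (Steps.fwd (nat_lit 24576) (Steps.bwd (nat_lit 1) (Steps.bwd (nat_lit 3) (Steps.fwd (nat_lit 8192) (Steps.fwd (nat_lit 16384) (Steps.fwd (nat_lit 8192) (Steps.bwd (nat_lit 4) (Steps.fwd (nat_lit 24576) Steps.nil))))))))))) (nat_lit 194) (nat_lit 1),
  Rule.mk (nat_lit 20) (nat_lit 179) (Steps.fwd (nat_lit 8192) (Steps.fwd (nat_lit 24576) (Steps.fwd (nat_lit 8192) (Steps.bwd (nat_lit 2) (Steps.fwd (nat_lit 8192) (Steps.fwd (nat_lit 16384) (Steps.fwd (nat_lit 8192) (Steps.fwd (nat_lit 16384) (Steps.bwd (nat_lit 1) (Steps.bwd (nat_lit 4) (Steps.bwd (nat_lit 2) Steps.nil))))))))))) (nat_lit 194) (nat_lit 1),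
  Rule.mk (nat_lit 19) (nat_lit 179) (Steps.fwd (nat_lit 16384) (Steps.fwd (nat_lit 32768) (Steps.fwd (nat_lit 8192) (Steps.bwd (nat_lit 2) (Steps.fwd (nat_lit 8192) (Steps.fwd (nat_lit 24576) (Steps.bwd (nat_lit 1) (Steps.bwd (nat_lit 3) (Steps.fwd (nat_lit 8192) (Steps.fwd (nat_lit 16384) (Steps.fwd (nat_lit 8192) Steps.nil))))))))))) (nat_lit 195) (nat_lit 0),
  Rule.mk (nat_lit 19) (nat_lit 179) (Steps.bwd (nat_lit 3) (Steps.fwd (nat_lit 32768) (Steps.fwd (nat_lit 8192) (Steps.fwd (nat_lit 24576) (Steps.fwd (nat_lit 8192) (Steps.bwd (nat_lit 2) (Steps.fwd (nat_lit 8192) (Steps.fwd (nat_lit 16384) (Steps.fwd (nat_lit 8192) (Steps.fwd (nat_lit 16384) (Steps.bwd (nat_lit 1) Steps.nil))))))))))) (nat_lit 195) (nat_lit 0),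
  Rule.mk (nat_lit 19) (nat_lit 179) (Steps.fwd (nat_lit 16384) (Steps.bwd (nat_lit 4) (Steps.fwd (nat_lit 8192) (Steps.bwd (nat_lit 2) (Steps.fwd (nat_lit 8192) (Steps.bwd (nat_lit 2) (Steps.bwd (nat_lit 1) (Steps.fwd (nat_lit 16384) (Steps.bwd (nat_lit 1) (Steps.bwd (nat_lit 3) (Steps.fwd (nat_lit 8192) Steps.nil))))))))))) (nat_lit 195) (nat_lit 0),
  Rule.mk (nat_lit 19) (nat_lit 179) (Steps.fwd (nat_lit 16384) (Steps.fwd (nat_lit 32768) (Steps.fwd (nat_lit 8192) (Steps.bwd (nat_lit 2) (Steps.bwd (nat_lit 1) (Steps.fwd (nat_lit 24576) (Steps.fwd (nat_lit 8192) (Steps.fwd (nat_lit 16384) (Steps.bwd (nat_lit 1) (Steps.fwd (nat_lit 16384) (Steps.fwd (nat_lit 8192) Steps.nil))))))))))) (nat_lit 195) (nat_lit 0),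
  Rule.mk (nat_lit 20) (nat_lit 179) (Steps.fwd (nat_lit 8192) (Steps.fwd (nat_lit 24576) (Steps.fwd (nat_lit 8192) (Steps.bwd (nat_lit 2) (Steps.bwd (nat_lit 1) (Steps.fwd (nat_lit 16384) (Steps.fwd (nat_lit 8192) (Steps.bwd (nat_lit 3) (Steps.bwd (nat_lit 1) (Steps.bwd (nat_lit 4) (Steps.bwd (nat_lit 2) Steps.nil))))))))))) (nat_lit 194) (nat_lit 1),
  Rule.mk (nat_lit 16) (nat_lit 179) (Steps.bwd (nat_lit 1) (Steps.fwd (nat_lit 16384) (Steps.bwd (nat_lit 1) (Steps.bwd (nat_lit 3) (Steps.fwd (nat_lit 8192) (Steps.bwd (nat_lit 3) (Steps.bwd (nat_lit 1) (Steps.bwd (nat_lit 2) (Steps.fwd (nat_lit 32768) (Steps.bwd (nat_lit 1) (Steps.bwd (nat_lit 2) Steps.nil))))))))))) (nat_lit 190) (nat_lit 1),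
  Rule.mk (nat_lit 0) (nat_lit 194) (Steps.bwd (nat_lit 16) (Steps.bwd (nat_lit 1) (Steps.fwd (nat_lit 16384) (Steps.bwd (nat_lit 1) (Steps.bwd (nat_lit 3) (Steps.fwd (nat_lit 8192) (Steps.fwd (nat_lit 16384) (Steps.bwd (nat_lit 1) (Steps.bwd (nat_lit 2) (Steps.fwd (nat_lit 32768) (Steps.bwd (nat_lit 1) (Steps.fwd (nat_lit 24576) Steps.nil)))))))))))) (nat_lit 190) (nat_lit 0),
  Rule.mk (nat_lit 0) (nat_lit 194) (Steps.fwd (nat_lit 8192) (Steps.fwd (nat_lit 16384) (Steps.fwd (nat_lit 32768) (Steps.bwd (nat_lit 1) (Steps.fwd (nat_lit 24576) (Steps.bwd (nat_lit 1) (Steps.fwd (nat_lit 24576) (Steps.fwd (nat_lit 8192) (Steps.bwd (nat_lit 3) (Steps.bwd (nat_lit 1) (Steps.fwd (nat_lit 16384) (Steps.fwd (nat_lit 139264) Steps.nil)))))))))))) (nat_lit 192) (nat_lit 1),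
  Rule.mk (nat_lit 17) (nat_lit 179) (Steps.bwd (nat_lit 2) (Steps.bwd (nat_lit 1) (Steps.fwd (nat_lit 24576) (Steps.fwd (nat_lit 8192) (Steps.fwd (nat_lit 16384) (Steps.bwd (nat_lit 1) (Steps.fwd (nat_lit 16384) (Steps.fwd (nat_lit 8192) (Steps.fwd (nat_lit 32768) (Steps.bwd (nat_lit 2) (Steps.fwd (nat_lit 8192) Steps.nil))))))))))) (nat_lit 193) (nat_lit 0),
  Rule.mk (nat_lit 7) (nat_lit 164) (Steps.bwd (nat_lit 1) (Steps.bwd (nat_lit 5) (Steps.fwd (nat_lit 49152) (Steps.bwd (nat_lit 9) (Steps.fwd (nat_lit 81920) (Steps.bwd (nat_lit 11) (Steps.fwd (nat_lit 98304) (Steps.bwd (nat_lit 13) (Steps.bwd (nat_lit 14) (Steps.bwd (nat_lit 1) Steps.nil)))))))))) (nat_lit 152) (nat_lit 2),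
  Rule.mk (nat_lit 12) (nat_lit 164) (Steps.bwd (nat_lit 1) (Steps.bwd (nat_lit 4) (Steps.fwd (nat_lit 40960) (Steps.bwd (nat_lit 8) (Steps.bwd (nat_lit 9) (Steps.bwd (nat_lit 10) (Steps.fwd (nat_lit 90112) (Steps.bwd (nat_lit 12) (Steps.bwd (nat_lit 14) (Steps.bwd (nat_lit 1) Steps.nil)))))))))) (nat_lit 162) (nat_lit 2),
  Rule.mk (nat_lit 18) (nat_lit 179) (Steps.bwd (nat_lit 1) (Steps.bwd (nat_lit 3) (Steps.bwd (nat_lit 4) (Steps.bwd (nat_lit 1) (Steps.bwd (nat_lit 2) (Steps.fwd (nat_lit 8192) (Steps.fwd (nat_lit 24576) (Steps.fwd (nat_lit 8192) (Steps.bwd (nat_lit 3) (Steps.bwd (nat_lit 1) (Steps.fwd (nat_lit 16384) Steps.nil))))))))))) (nat_lit 192) (nat_lit 1),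
  Rule.mk (nat_lit 20) (nat_lit 179) (Steps.bwd (nat_lit 1) (Steps.bwd (nat_lit 2) (Steps.fwd (nat_lit 8192) (Steps.fwd (nat_lit 24576) (Steps.fwd (nat_lit 8192) (Steps.bwd (nat_lit 3) (Steps.bwd (nat_lit 1) (Steps.fwd (nat_lit 16384) (Steps.bwd (nat_lit 1) (Steps.bwd (nat_lit 4) (Steps.bwd (nat_lit 2) Steps.nil))))))))))) (nat_lit 194) (nat_lit 1),
  Rule.mk (nat_lit 19) (nat_lit 179) (Steps.bwd (nat_lit 3) (Steps.bwd (nat_lit 4) (Steps.bwd (nat_lit 1) (Steps.bwd (nat_lit 2) (Steps.fwd (nat_lit 8192) (Steps.fwd (nat_lit 24576) (Steps.fwd (nat_lit 8192) (Steps.bwd (nat_lit 3) (Steps.bwd (nat_lit 1) (Steps.fwd (nat_lit 16384) (Steps.bwd (nat_lit 1) Steps.nil))))))))))) (nat_lit 195) (nat_lit 0),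
  Rule.mk (nat_lit 3) (nat_lit 539) (Steps.bwd (nat_lit 1) (Steps.fwd (nat_lit 16384) (Steps.fwd (nat_lit 8192) (Steps.bwd (nat_lit 2) (Steps.bwd (nat_lit 1) (Steps.fwd (nat_lit 24576) (Steps.fwd (nat_lit 8192) (Steps.fwd (nat_lit 16384) (Steps.bwd (nat_lit 1) (Steps.fwd (nat_lit 24576) (Steps.bwd (nat_lit 1) (Steps.bwd (nat_lit 2) (Steps.fwd (nat_lit 8192) (Steps.bwd (nat_lit 3) (Steps.fwd (nat_lit 8192) (Steps.fwd (nat_lit 24576) (Steps.bwd (nat_lit 1) (Steps.bwd (nat_lit 2) (Steps.bwd (nat_lit 1) (Steps.fwd (nat_lit 16384) (Steps.fwd (nat_lit 8192) (Steps.fwd (nat_lit 24576) (Steps.fwd (nat_lit 8192) (Steps.fwd (nat_lit 16384) (Steps.fwd (nat_lit 8192) (Steps.bwd (nat_lit 3) (Steps.bwd (nat_lit 1) (Steps.fwd (nat_lit 24576) (Steps.bwd (nat_lit 1) (Steps.fwd (nat_lit 16384) (Steps.fwd (nat_lit 8192) (Steps.bwd (nat_lit 3) (Steps.fwd (nat_lit 8192) (Steps.bwd (nat_lit 2) (Steps.fwd (nat_lit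 8192) Steps.nil))))))))))))))))))))))))))))))))))) (nat_lit 12) (nat_lit 34),
  Rule.mk (nat_lit 2) (nat_lit 539) (Steps.bwd (nat_lit 1) (Steps.fwd (nat_lit 16384) (Steps.fwd (nat_lit 8192) (Steps.bwd (nat_lit 3) (Steps.bwd (nat_lit 1) (Steps.bwd (nat_lit 2) (Steps.fwd (nat_lit 8192) (Steps.fwd (nat_lit 24576) (Steps.fwd (nat_lit 8192) (Steps.fwd (nat_lit 16384) (Steps.bwd (nat_lit 1) (Steps.fwd (nat_lit 24576) (Steps.fwd (nat_lit 8192) (Steps.bwd (nat_lit 2) (Steps.fwd (nat_lit 8192) (Steps.bwd (nat_lit 3) (Steps.bwd (nat_lit 1) (Steps.bwd (nat_lit 2) (Steps.fwd (nat_lit 8192) (Steps.bwd (nat_lit 2) (Steps.fwd (nat_lit 8192) (Steps.bwd (nat_lit 3) (Steps.bwd (nat_lit 1) (Steps.bwd (nat_lit 2) (Steps.bwd (nat_lit 1) (Steps.fwd (nat_lit 16384) (Steps.bwd (nat_lit 1) (Steps.bwd (nat_lit 3) (Steps.bwd (nat_lit 1) (Steps.fwd (nat_lit 24576) (Steps.bwd (nat_lit 1) (Steps.fwd (nat_lit 16384) (Steps.fwd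 (nat_lit 8192) (Steps.fwd (nat_lit 16384) (Steps.fwd (nat_lit 8192) Steps.nil))))))))))))))))))))))))))))))))))) (nat_lit 12) (nat_lit 32),
  Rule.mk (nat_lit 16) (nat_lit 179) (Steps.bwd (nat_lit 1) (Steps.fwd (nat_lit 16384) (Steps.bwd (nat_lit 1) (Steps.bwd (nat_lit 3) (Steps.bwd (nat_lit 1) (Steps.fwd (nat_lit 16384) (Steps.fwd (nat_lit 8192) (Steps.bwd (nat_lit 2) (Steps.fwd (nat_lit 32768) (Steps.fwd (nat_lit 8192) (Steps.fwd (nat_lit 24576) Steps.nil))))))))))) (nat_lit 190) (nat_lit 1),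
  Rule.mk (nat_lit 0) (nat_lit 194) (Steps.bwd (nat_lit 16) (Steps.fwd (nat_lit 8192) (Steps.bwd (nat_lit 3) (Steps.bwd (nat_lit 1) (Steps.bwd (nat_lit 3) (Steps.bwd (nat_lit 1) (Steps.fwd (nat_lit 16384) (Steps.fwd (nat_lit 8192) (Steps.fwd (nat_lit 24576) (Steps.fwd (nat_lit 32768) (Steps.fwd (nat_lit 8192) (Steps.bwd (nat_lit 2) Steps.nil)))))))))))) (nat_lit 190) (nat_lit 0),
  Rule.mk (nat_lit 0) (nat_lit 194) (Steps.bwd (nat_lit 1) (Steps.bwd (nat_lit 3) (Steps.bwd (nat_lit 1) (Steps.fwd (nat_lit 16384) (Steps.fwd (nat_lit 8192) (Steps.fwd (nat_lit 16384) (Steps.bwd (nat_lit 1) (Steps.bwd (nat_lit 2) (Steps.bwd (nat_lit 4) (Steps.fwd (nat_lit 8192) (Steps.bwd (nat_lit 2) (Steps.fwd (nat_lit 122880) Steps.nil)))))))))))) (nat_lit 190) (nat_lit 1),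
  Rule.mk (nat_lit 0) (nat_lit 194) (Steps.bwd (nat_lit 16) (Steps.bwd (nat_lit 1) (Steps.fwd (nat_lit 16384) (Steps.fwd (nat_lit 8192) (Steps.fwd (nat_lit 16384) (Steps.bwd (nat_lit 1) (Steps.fwd (nat_lit 16384) (Steps.fwd (nat_lit 8192) (Steps.fwd (nat_lit 24576) (Steps.fwd (nat_lit 32768) (Steps.bwd (nat_lit 1) (Steps.fwd (nat_lit 24576) Steps.nil)))))))))))) (nat_lit 190) (nat_lit 0),
  Rule.mk (nat_lit 0) (nat_lit 194) (Steps.bwd (nat_lit 15) (Steps.fwd (nat_lit 16384) (Steps.bwd (nat_lit 1) (Steps.fwd (nat_lit 32768) (Steps.bwd (nat_lit 3) (Steps.fwd (nat_lit 8192) (Steps.bwd (nat_lit 2) (Steps.bwd (nat_lit 1) (Steps.bwd (nat_lit 2) (Steps.fwd (nat_lit 8192) (Steps.bwd (nat_lit 2) (Steps.bwd (nat_lit 1) Steps.nil)))))))))))) (nat_lit 191) (nat_lit 11),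
  Rule.mk (nat_lit 0) (nat_lit 194) (Steps.bwd (nat_lit 16) (Steps.fwd (nat_lit 8192) (Steps.bwd (nat_lit 3) (Steps.bwd (nat_lit 1) (Steps.fwd (nat_lit 16384) (Steps.fwd (nat_lit 8192) (Steps.bwd (nat_lit 3) (Steps.bwd (nat_lit 1) (Steps.bwd (nat_lit 2) (Steps.fwd (nat_lit 32768) (Steps.bwd (nat_lit 1) (Steps.fwd (nat_lit 24576) Steps.nil)))))))))))) (nat_lit 190) (nat_lit 0),
  Rule.mk (nat_lit 15) (nat_lit 179) (Steps.fwd (nat_lit 16384) (Steps.fwd (nat_lit 8192) (Steps.fwd (nat_lit 32768) (Steps.fwd (nat_lit 16384) (Steps.fwd (nat_lit 8192) (Steps.fwd (nat_lit 24576) (Steps.bwd (nat_lit 1) (Steps.fwd (nat_lit 24576) (Steps.fwd (nat_lit 8192) (Steps.fwd (nat_lit 24576) (Steps.fwd (nat_lit 8192) Steps.nil))))))))))) (nat_lit 191) (nat_lit 0),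
  Rule.mk (nat_lit 18) (nat_lit 179) (Steps.fwd (nat_lit 8192) (Steps.bwd (nat_lit 3) (Steps.bwd (nat_lit 4) (Steps.fwd (nat_lit 8192) (Steps.bwd (nat_lit 2) (Steps.fwd (nat_lit 8192) (Steps.fwd (nat_lit 24576) (Steps.bwd (nat_lit 1) (Steps.fwd (nat_lit 16384) (Steps.fwd (nat_lit 8192) (Steps.fwd (nat_lit 16384) Steps.nil))))))))))) (nat_lit 192) (nat_lit 1),
  Rule.mk (nat_lit 0) (nat_lit 194) (Steps.bwd (nat_lit 18) (Steps.fwd (nat_lit 8192) (Steps.bwd (nat_lit 3) (Steps.bwd (nat_lit 4) (Steps.bwd (nat_lit 1) (Steps.bwd (nat_lit 2) (Steps.fwd (nat_lit 8192) (Steps.fwd (nat_lit 24576) (Steps.bwd (nat_lit 1) (Steps.fwd (nat_lit 16384) (Steps.bwd (nat_lit 1) (Steps.fwd (nat_lit 16384) Steps.nil)))))))))))) (nat_lit 192) (nat_lit 0)]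
noncomputable def R_138 : List (Rule) := [Rule.mk (nat_lit 0) (nat_lit 194) (Steps.bwd (nat_lit 18) (Steps.fwd (nat_lit 8192) (Steps.fwd (nat_lit 16384) (Steps.fwd (nat_lit 32768) (Steps.fwd (nat_lit 8192) (Steps.fwd (nat_lit 24576) (Steps.bwd (nat_lit 1) (Steps.fwd (nat_lit 24576) (Steps.fwd (nat_lit 8192) (Steps.bwd (nat_lit 3) (Steps.fwd (nat_lit 8192) (Steps.bwd (nat_lit 3) Steps.nil)))))))))))) (nat_lit 192) (nat_lit 0),
  Rule.mk (nat_lit 17) (nat_lit 179) (Steps.bwd (nat_lit 2) (Steps.fwd (nat_lit 8192) (Steps.fwd (nat_lit 24576) (Steps.bwd (nat_lit 1) (Steps.fwd (nat_lit 16384) (Steps.fwd (nat_lit 8192) (Steps.fwd (nat_lit 16384) (Steps.bwd (nat_lit 1) (Steps.fwd (nat_lit 32768) (Steps.bwd (nat_lit 2) (Steps.fwd (nat_lit 8192) Steps.nil))))))))))) (nat_lit 193) (nat_lit 0),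
  Rule.mk (nat_lit 17) (nat_lit 179) (Steps.fwd (nat_lit 24576) (Steps.bwd (nat_lit 1) (Steps.bwd (nat_lit 2) (Steps.fwd (nat_lit 8192) (Steps.fwd (nat_lit 16384) (Steps.bwd (nat_lit 1) (Steps.fwd (nat_lit 16384) (Steps.fwd (nat_lit 8192) (Steps.bwd (nat_lit 4) (Steps.fwd (nat_lit 24576) (Steps.bwd (nat_lit 1) Steps.nil))))))))))) (nat_lit 193) (nat_lit 0),
  Rule.mk (nat_lit 0) (nat_lit 194) (Steps.bwd (nat_lit 18) (Steps.bwd (nat_lit 1) (Steps.fwd (nat_lit 16384) (Steps.fwd (nat_lit 32768) (Steps.bwd (nat_lit 1) (Steps.bwd (nat_lit 2) (Steps.fwd (nat_lit 8192) (Steps.bwd (nat_lit 2) (Steps.fwd (nat_lit 8192) (Steps.bwd (nat_lit 3) (Steps.bwd (nat_lit 1) (Steps.fwd (nat_lit 16384) Steps.nil)))))))))))) (nat_lit 192) (nat_lit 0),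
  Rule.mk (nat_lit 0) (nat_lit 194) (Steps.bwd (nat_lit 20) (Steps.fwd (nat_lit 8192) (Steps.bwd (nat_lit 2) (Steps.fwd (nat_lit 8192) (Steps.fwd (nat_lit 24576) (Steps.bwd (nat_lit 1) (Steps.fwd (nat_lit 16384) (Steps.fwd (nat_lit 8192) (Steps.fwd (nat_lit 16384) (Steps.bwd (nat_lit 1) (Steps.fwd (nat_lit 32768) (Steps.bwd (nat_lit 2) Steps.nil)))))))))))) (nat_lit 194) (nat_lit 0),
  Rule.mk (nat_lit 20) (nat_lit 179) (Steps.bwd (nat_lit 1) (Steps.bwd (nat_lit 2) (Steps.fwd (nat_lit 8192) (Steps.fwd (nat_lit 24576) (Steps.bwd (nat_lit 1) (Steps.fwd (nat_lit 16384) (Steps.bwd (nat_lit 1) (Steps.fwd (nat_lit 16384) (Steps.fwd (nat_lit 8192) (Steps.bwd (nat_lit 4) (Steps.bwd (nat_lit 2) Steps.nil))))))))))) (nat_lit 194) (nat_lit 1),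
  Rule.mk (nat_lit 0) (nat_lit 194) (Steps.fwd (nat_lit 8192) (Steps.fwd (nat_lit 24576) (Steps.bwd (nat_lit 1) (Steps.fwd (nat_lit 24576) (Steps.fwd (nat_lit 8192) (Steps.bwd (nat_lit 3) (Steps.fwd (nat_lit 8192) (Steps.bwd (nat_lit 3) (Steps.bwd (nat_lit 1) (Steps.fwd (nat_lit 32768) (Steps.bwd (nat_lit 2) (Steps.fwd (nat_lit 155648) Steps.nil)))))))))))) (nat_lit 194) (nat_lit 1),
  Rule.mk (nat_lit 0) (nat_lit 194) (Steps.fwd (nat_lit 8192) (Steps.bwd (nat_lit 2) (Steps.bwd (nat_lit 1) (Steps.fwd (nat_lit 24576) (Steps.fwd (nat_lit 8192) (Steps.bwd (nat_lit 3) (Steps.bwd (nat_lit 1) (Steps.fwd (nat_lit 16384) (Steps.bwd (nat_lit 1) (Steps.fwd (nat_lit 32768) (Steps.fwd (nat_lit 24576) (Steps.fwd (nat_lit 155648) Steps.nil)))))))))))) (nat_lit 194) (nat_lit 1),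
  Rule.mk (nat_lit 0) (nat_lit 194) (Steps.bwd (nat_lit 19) (Steps.bwd (nat_lit 3) (Steps.bwd (nat_lit 4) (Steps.bwd (nat_lit 1) (Steps.bwd (nat_lit 2) (Steps.fwd (nat_lit 8192) (Steps.fwd (nat_lit 24576) (Steps.bwd (nat_lit 1) (Steps.fwd (nat_lit 16384) (Steps.bwd (nat_lit 1) (Steps.fwd (nat_lit 16384) (Steps.fwd (nat_lit 8192) Steps.nil)))))))))))) (nat_lit 195) (nat_lit 11),
  Rule.mk (nat_lit 16) (nat_lit 179) (Steps.fwd (nat_lit 8192) (Steps.bwd (nat_lit 3) (Steps.bwd (nat_lit 1) (Steps.fwd (nat_lit 16384) (Steps.fwd (nat_lit 8192) (Steps.bwd (nat_lit 3) (Steps.fwd (nat_lit 8192) (Steps.bwd (nat_lit 2) (Steps.fwd (nat_lit 32768) (Steps.bwd (nat_lit 1) (Steps.fwd (nat_lit 24576) Steps.nil))))))))))) (nat_lit 190) (nat_lit 1),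
  Rule.mk (nat_lit 18) (nat_lit 179) (Steps.fwd (nat_lit 8192) (Steps.fwd (nat_lit 16384) (Steps.bwd (nat_lit 4) (Steps.fwd (nat_lit 8192) (Steps.fwd (nat_lit 24576) (Steps.bwd (nat_lit 1) (Steps.fwd (nat_lit 24576) (Steps.bwd (nat_lit 1) (Steps.bwd (nat_lit 3) (Steps.fwd (nat_lit 8192) (Steps.bwd (nat_lit 3) Steps.nil))))))))))) (nat_lit 192) (nat_lit 1),
  Rule.mk (nat_lit 0) (nat_lit 194) (Steps.bwd (nat_lit 18) (Steps.fwd (nat_lit 8192) (Steps.bwd (nat_lit 3) (Steps.fwd (nat_lit 32768) (Steps.bwd (nat_lit 1) (Steps.fwd (nat_lit 24576) (Steps.bwd (nat_lit 1) (Steps.bwd (nat_lit 2) (Steps.fwd (nat_lit 8192) (Steps.fwd (nat_lit 16384) (Steps.fwd (nat_lit 8192) (Steps.fwd (nat_lit 16384) Steps.nil)))))))))))) (nat_lit 192) (nat_lit 0),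
  Rule.mk (nat_lit 19) (nat_lit 179) (Steps.bwd (nat_lit 3) (Steps.fwd (nat_lit 32768) (Steps.bwd (nat_lit 1) (Steps.fwd (nat_lit 24576) (Steps.bwd (nat_lit 1) (Steps.bwd (nat_lit 2) (Steps.fwd (nat_lit 8192) (Steps.fwd (nat_lit 16384) (Steps.fwd (nat_lit 8192) (Steps.fwd (nat_lit 16384) (Steps.fwd (nat_lit 8192) Steps.nil))))))))))) (nat_lit 195) (nat_lit 0),
  Rule.mk (nat_lit 1) (nat_lit 104) (Steps.bwd (nat_lit 6) (Steps.fwd (nat_lit 90112) (Steps.bwd (nat_lit 12) (Steps.fwd (nat_lit 114688) (Steps.bwd (nat_lit 1) (Steps.fwd (nat_lit 90112) Steps.nil)))))) (nat_lit 160) (nat_lit 3),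
  Rule.mk (nat_lit 3) (nat_lit 104) (Steps.bwd (nat_lit 6) (Steps.fwd (nat_lit 90112) (Steps.bwd (nat_lit 12) (Steps.fwd (nat_lit 114688) (Steps.bwd (nat_lit 2) (Steps.fwd (nat_lit 81920) Steps.nil)))))) (nat_lit 180) (nat_lit 3),
  Rule.mk (nat_lit 2) (nat_lit 164) (Steps.bwd (nat_lit 6) (Steps.bwd (nat_lit 3) (Steps.fwd (nat_lit 40960) (Steps.bwd (nat_lit 6) (Steps.fwd (nat_lit 73728) (Steps.bwd (nat_lit 10) (Steps.fwd (nat_lit 90112) (Steps.bwd (nat_lit 12) (Steps.fwd (nat_lit 106496) (Steps.bwd (nat_lit 14) Steps.nil)))))))))) (nat_lit 172) (nat_lit 1),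
  Rule.mk (nat_lit 16) (nat_lit 179) (Steps.fwd (nat_lit 8192) (Steps.bwd (nat_lit 3) (Steps.fwd (nat_lit 8192) (Steps.fwd (nat_lit 16384) (Steps.fwd (nat_lit 8192) (Steps.fwd (nat_lit 16384) (Steps.fwd (nat_lit 8192) (Steps.bwd (nat_lit 2) (Steps.fwd (nat_lit 32768) (Steps.bwd (nat_lit 1) (Steps.bwd (nat_lit 2) Steps.nil))))))))))) (nat_lit 190) (nat_lit 1),
  Rule.mk (nat_lit 0) (nat_lit 194) (Steps.bwd (nat_lit 1) (Steps.fwd (nat_lit 16384) (Steps.bwd (nat_lit 1) (Steps.bwd (nat_lit 3) (Steps.fwd (nat_lit 8192) (Steps.bwd (nat_lit 3) (Steps.fwd (nat_lit 8192) (Steps.bwd (nat_lit 2) (Steps.fwd (nat_lit 32768) (Steps.bwd (nat_lit 1) (Steps.fwd (nat_lit 24576) (Steps.fwd (nat_lit 122880) Steps.nil)))))))))))) (nat_lit 190) (nat_lit 1),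
  Rule.mk (nat_lit 0) (nat_lit 194) (Steps.fwd (nat_lit 16384) (Steps.bwd (nat_lit 1) (Steps.fwd (nat_lit 32768) (Steps.fwd (nat_lit 16384) (Steps.fwd (nat_lit 8192) (Steps.bwd (nat_lit 2) (Steps.bwd (nat_lit 1) (Steps.fwd (nat_lit 24576) (Steps.bwd (nat_lit 1) (Steps.bwd (nat_lit 2) (Steps.bwd (nat_lit 1) (Steps.fwd (nat_lit 131072) Steps.nil)))))))))))) (nat_lit 191) (nat_lit 0),
  Rule.mk (nat_lit 18) (nat_lit 179) (Steps.fwd (nat_lit 8192) (Steps.fwd (nat_lit 16384) (Steps.bwd (nat_lit 4) (Steps.bwd (nat_lit 1) (Steps.fwd (nat_lit 24576) (Steps.fwd (nat_lit 8192) (Steps.bwd (nat_lit 2) (Steps.bwd (nat_lit 1) (Steps.fwd (nat_lit 16384) (Steps.fwd (nat_lit 8192) (Steps.fwd (nat_lit 16384) Steps.nil))))))))))) (nat_lit 192) (nat_lit 1),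
  Rule.mk (nat_lit 0) (nat_lit 194) (Steps.bwd (nat_lit 17) (Steps.bwd (nat_lit 2) (Steps.fwd (nat_lit 8192) (Steps.bwd (nat_lit 2) (Steps.fwd (nat_lit 8192) (Steps.bwd (nat_lit 3) (Steps.fwd (nat_lit 8192) (Steps.fwd (nat_lit 16384) (Steps.bwd (nat_lit 1) (Steps.fwd (nat_lit 32768) (Steps.bwd (nat_lit 2) (Steps.fwd (nat_lit 8192) Steps.nil)))))))))))) (nat_lit 193) (nat_lit 11),
  Rule.mk (nat_lit 0) (nat_lit 194) (Steps.bwd (nat_lit 18) (Steps.bwd (nat_lit 1) (Steps.bwd (nat_lit 3) (Steps.bwd (nat_lit 4) (Steps.fwd (nat_lit 8192) (Steps.bwd (nat_lit 2) (Steps.bwd (nat_lit 1) (Steps.bwd (nat_lit 2) (Steps.fwd (nat_lit 8192) (Steps.fwd (nat_lit 16384) (Steps.bwd (nat_lit 1) (Steps.bwd (nat_lit 3) Steps.nil)))))))))))) (nat_lit 192) (nat_lit 0),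
  Rule.mk (nat_lit 17) (nat_lit 179) (Steps.bwd (nat_lit 2) (Steps.bwd (nat_lit 1) (Steps.fwd (nat_lit 24576) (Steps.bwd (nat_lit 1) (Steps.fwd (nat_lit 16384) (Steps.bwd (nat_lit 1) (Steps.fwd (nat_lit 16384) (Steps.bwd (nat_lit 1) (Steps.fwd (nat_lit 32768) (Steps.fwd (nat_lit 24576) (Steps.bwd (nat_lit 1) Steps.nil))))))))))) (nat_lit 193) (nat_lit 0),
  Rule.mk (nat_lit 19) (nat_lit 179) (Steps.fwd (nat_lit 16384) (Steps.bwd (nat_lit 4) (Steps.bwd (nat_lit 1) (Steps.fwd (nat_lit 24576) (Steps.fwd (nat_lit 8192) (Steps.bwd (nat_lit 2) (Steps.bwd (nat_lit 1) (Steps.fwd (nat_lit 16384) (Steps.fwd (nat_lit 8192) (Steps.fwd (nat_lit 16384) (Steps.bwd (nat_lit 1) Steps.nil))))))))))) (nat_lit 195) (nat_lit 0),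
  Rule.mk (nat_lit 19) (nat_lit 179) (Steps.fwd (nat_lit 16384) (Steps.bwd (nat_lit 4) (Steps.fwd (nat_lit 8192) (Steps.bwd (nat_lit 2) (Steps.bwd (nat_lit 1) (Steps.fwd (nat_lit 24576) (Steps.bwd (nat_lit 1) (Steps.fwd (nat_lit 16384) (Steps.bwd (nat_lit 1) (Steps.fwd (nat_lit 16384) (Steps.bwd (nat_lit 1) Steps.nil))))))))))) (nat_lit 195) (nat_lit 0),
  Rule.mk (nat_lit 0) (nat_lit 194) (Steps.bwd (nat_lit 18) (Steps.fwd (nat_lit 8192) (Steps.fwd (nat_lit 16384) (Steps.bwd (nat_lit 4) (Steps.fwd (nat_lit 8192) (Steps.fwd (nat_lit 24576) (Steps.bwd (nat_lit 1) (Steps.bwd (nat_lit 2) (Steps.fwd (nat_lit 8192) (Steps.bwd (nat_lit 3) (Steps.bwd (nat_lit 1) (Steps.bwd (nat_lit 3) Steps.nil)))))))))))) (nat_lit 192) (nat_lit 0),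
  Rule.mk (nat_lit 0) (nat_lit 194) (Steps.bwd (nat_lit 19) (Steps.fwd (nat_lit 16384) (Steps.bwd (nat_lit 4) (Steps.fwd (nat_lit 8192) (Steps.fwd (nat_lit 24576) (Steps.bwd (nat_lit 1) (Steps.bwd (nat_lit 2) (Steps.fwd (nat_lit 8192) (Steps.bwd (nat_lit 3) (Steps.bwd (nat_lit 1) (Steps.bwd (nat_lit 3) (Steps.bwd (nat_lit 1) Steps.nil)))))))))))) (nat_lit 195) (nat_lit 11),
  Rule.mk (nat_lit 0) (nat_lit 194) (Steps.bwd (nat_lit 16) (Steps.fwd (nat_lit 8192) (Steps.fwd (nat_lit 16384) (Steps.fwd (nat_lit 8192) (Steps.fwd (nat_lit 16384) (Steps.fwd (nat_lit 8192) (Steps.bwd (nat_lit 3) (Steps.fwd (nat_lit 8192) (Steps.fwd (nat_lit 24576) (Steps.fwd (nat_lit 32768) (Steps.fwd (nat_lit 8192) (Steps.bwd (nat_lit 2) Steps.nil)))))))))))) (nat_lit 190) (nat_lit 0),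
  Rule.mk (nat_lit 0) (nat_lit 194) (Steps.bwd (nat_lit 15) (Steps.bwd (nat_lit 3) (Steps.fwd (nat_lit 8192) (Steps.bwd (nat_lit 4) (Steps.bwd (nat_lit 3) (Steps.fwd (nat_lit 8192) (Steps.fwd (nat_lit 24576) (Steps.bwd (nat_lit 1) (Steps.bwd (nat_lit 2) (Steps.fwd (nat_lit 8192) (Steps.bwd (nat_lit 2) (Steps.fwd (nat_lit 8192) Steps.nil)))))))))))) (nat_lit 191) (nat_lit 11),
  Rule.mk (nat_lit 0) (nat_lit 194) (Steps.bwd (nat_lit 15) (Steps.bwd (nat_lit 3) (Steps.fwd (nat_lit 8192) (Steps.fwd (nat_lit 32768) (Steps.fwd (nat_lit 16384) (Steps.fwd (nat_lit 8192) (Steps.bwd (nat_lit 2) (Steps.bwd (nat_lit 1) (Steps.bwd (nat_lit 2) (Steps.fwd (nat_lit 8192) (Steps.fwd (nat_lit 24576) (Steps.bwd (nat_lit 1) Steps.nil)))))))))))) (nat_lit 191) (nat_lit 11),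
  Rule.mk (nat_lit 17) (nat_lit 179) (Steps.fwd (nat_lit 24576) (Steps.bwd (nat_lit 1) (Steps.fwd (nat_lit 24576) (Steps.fwd (nat_lit 8192) (Steps.fwd (nat_lit 16384) (Steps.fwd (nat_lit 8192) (Steps.bwd (nat_lit 3) (Steps.fwd (nat_lit 8192) (Steps.fwd (nat_lit 32768) (Steps.bwd (nat_lit 2) (Steps.fwd (nat_lit 8192) Steps.nil))))))))))) (nat_lit 193) (nat_lit 0),
  Rule.mk (nat_lit 15) (nat_lit 179) (Steps.bwd (nat_lit 3) (Steps.fwd (nat_lit 8192) (Steps.bwd (nat_lit 4) (Steps.bwd (nat_lit 3) (Steps.fwd (nat_lit 8192) (Steps.bwd (nat_lit 2) (Steps.fwd (nat_lit 8192) (Steps.bwd (nat_lit 2) (Steps.bwd (nat_lit 1) (Steps.bwd (nat_lit 2) (Steps.fwd (nat_lit 8192) Steps.nil))))))))))) (nat_lit 191) (nat_lit 0),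
  Rule.mk (nat_lit 0) (nat_lit 194) (Steps.bwd (nat_lit 15) (Steps.fwd (nat_lit 16384) (Steps.bwd (nat_lit 1) (Steps.fwd (nat_lit 32768) (Steps.fwd (nat_lit 16384) (Steps.fwd (nat_lit 8192) (Steps.bwd (nat_lit 2) (Steps.bwd (nat_lit 1) (Steps.bwd (nat_lit 2) (Steps.fwd (nat_lit 8192) (Steps.fwd (nat_lit 24576) (Steps.bwd (nat_lit 1) Steps.nil)))))))))))) (nat_lit 191) (nat_lit 11),
  Rule.mk (nat_lit 0) (nat_lit 194) (Steps.bwd (nat_lit 16) (Steps.bwd (nat_lit 1) (Steps.fwd (nat_lit 16384) (Steps.fwd (nat_lit 8192) (Steps.bwd (nat_lit 3) (Steps.bwd (nat_lit 1) (Steps.fwd (nat_lit 16384) (Steps.fwd (nat_lit 8192) (Steps.bwd (nat_lit 2) (Steps.fwd (nat_lit 32768) (Steps.bwd (nat_lit 1) (Steps.bwd (nat_lit 2) Steps.nil)))))))))))) (nat_lit 190) (nat_lit 0),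
  Rule.mk (nat_lit 18) (nat_lit 179) (Steps.fwd (nat_lit 8192) (Steps.bwd (nat_lit 3) (Steps.fwd (nat_lit 32768) (Steps.bwd (nat_lit 1) (Steps.bwd (nat_lit 2) (Steps.fwd (nat_lit 8192) (Steps.fwd (nat_lit 24576) (Steps.bwd (nat_lit 1) (Steps.bwd (nat_lit 3) (Steps.fwd (nat_lit 8192) (Steps.bwd (nat_lit 3) Steps.nil))))))))))) (nat_lit 192) (nat_lit 1),
  Rule.mk (nat_lit 17) (nat_lit 179) (Steps.fwd (nat_lit 24576) (Steps.bwd (nat_lit 1) (Steps.fwd (nat_lit 24576) (Steps.bwd (nat_lit 1) (Steps.bwd (nat_lit 3) (Steps.bwd (nat_lit 1) (Steps.bwd (nat_lit 3) (Steps.fwd (nat_lit 8192) (Steps.bwd (nat_lit 4) (Steps.bwd (nat_lit 2) (Steps.fwd (nat_lit 8192) Steps.nil))))))))))) (nat_lit 193) (nat_lit 0),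
  Rule.mk (nat_lit 17) (nat_lit 179) (Steps.bwd (nat_lit 2) (Steps.fwd (nat_lit 8192) (Steps.fwd (nat_lit 24576) (Steps.bwd (nat_lit 1) (Steps.bwd (nat_lit 3) (Steps.fwd (nat_lit 8192) (Steps.bwd (nat_lit 3) (Steps.fwd (nat_lit 8192) (Steps.fwd (nat_lit 32768) (Steps.fwd (nat_lit 24576) (Steps.bwd (nat_lit 1) Steps.nil))))))))))) (nat_lit 193) (nat_lit 0),
  Rule.mk (nat_lit 0) (nat_lit 194) (Steps.bwd (nat_lit 19) (Steps.bwd (nat_lit 3) (Steps.bwd (nat_lit 4) (Steps.bwd (nat_lit 1) (Steps.fwd (nat_lit 24576) (Steps.bwd (nat_lit 1) (Steps.fwd (nat_lit 24576) (Steps.fwd (nat_lit 8192) (Steps.bwd (nat_lit 3) (Steps.bwd (nat_lit 1) (Steps.fwd (nat_lit 16384) (Steps.fwd (nat_lit 8192) Steps.nil)))))))))))) (nat_lit 195) (nat_lit 11),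
  Rule.mk (nat_lit 0) (nat_lit 194) (Steps.bwd (nat_lit 3) (Steps.fwd (nat_lit 32768) (Steps.bwd (nat_lit 1) (Steps.bwd (nat_lit 2) (Steps.fwd (nat_lit 8192) (Steps.fwd (nat_lit 24576) (Steps.bwd (nat_lit 1) (Steps.bwd (nat_lit 3) (Steps.fwd (nat_lit 8192) (Steps.bwd (nat_lit 3) (Steps.fwd (nat_lit 8192) (Steps.fwd (nat_lit 163840) Steps.nil)))))))))))) (nat_lit 195) (nat_lit 0),
  Rule.mk (nat_lit 19) (nat_lit 179) (Steps.fwd (nat_lit 16384) (Steps.fwd (nat_lit 32768) (Steps.fwd (nat_lit 8192) (Steps.fwd (nat_lit 24576) (Steps.fwd (nat_lit 8192) (Steps.fwd (nat_lit 24576) (Steps.bwd (nat_lit 1) (Steps.fwd (nat_lit 16384) (Steps.fwd (nat_lit 8192) (Steps.bwd (nat_lit 3) (Steps.bwd (nat_lit 1) Steps.nil))))))))))) (nat_lit 195) (nat_lit 0),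
  Rule.mk (nat_lit 18) (nat_lit 179) (Steps.bwd (nat_lit 1) (Steps.fwd (nat_lit 16384) (Steps.fwd (nat_lit 32768) (Steps.fwd (nat_lit 8192) (Steps.fwd (nat_lit 24576) (Steps.fwd (nat_lit 8192) (Steps.fwd (nat_lit 24576) (Steps.bwd (nat_lit 1) (Steps.fwd (nat_lit 16384) (Steps.fwd (nat_lit 8192) (Steps.bwd (nat_lit 3) Steps.nil))))))))))) (nat_lit 192) (nat_lit 1),
  Rule.mk (nat_lit 0) (nat_lit 194) (Steps.bwd (nat_lit 17) (Steps.bwd (nat_lit 2) (Steps.bwd (nat_lit 1) (Steps.fwd (nat_lit 24576) (Steps.fwd (nat_lit 8192) (Steps.bwd (nat_lit 3) (Steps.bwd (nat_lit 1) (Steps.fwd (nat_lit 16384) (Steps.fwd (nat_lit 8192) (Steps.bwd (nat_lit 4) (Steps.fwd (nat_lit 24576) (Steps.bwd (nat_lit 1) Steps.nil)))))))))))) (nat_lit 193) (nat_lit 11),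
  Rule.mk (nat_lit 14) (nat_lit 89) (Steps.bwd (nat_lit 2) (Steps.bwd (nat_lit 8) (Steps.fwd (nat_lit 16384) (Steps.bwd (nat_lit 4) (Steps.fwd (nat_lit 57344) Steps.nil))))) (nat_lit 176) (nat_lit 0),
  Rule.mk (nat_lit 5) (nat_lit 104) (Steps.bwd (nat_lit 2) (Steps.bwd (nat_lit 7) (Steps.bwd (nat_lit 3) (Steps.fwd (nat_lit 114688) (Steps.bwd (nat_lit 13) (Steps.fwd (nat_lit 57344) Steps.nil)))))) (nat_lit 175) (nat_lit 4),
  Rule.mk (nat_lit 9) (nat_lit 104) (Steps.bwd (nat_lit 2) (Steps.bwd (nat_lit 12) (Steps.fwd (nat_lit 16384) (Steps.bwd (nat_lit 4) (Steps.fwd (nat_lit 40960) (Steps.bwd (nat_lit 8) Steps.nil)))))) (nat_lit 184) (nat_lit 0),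
  Rule.mk (nat_lit 17) (nat_lit 179) (Steps.bwd (nat_lit 2) (Steps.bwd (nat_lit 1) (Steps.fwd (nat_lit 24576) (Steps.fwd (nat_lit 8192) (Steps.bwd (nat_lit 3) (Steps.bwd (nat_lit 1) (Steps.bwd (nat_lit 3) (Steps.bwd (nat_lit 1) (Steps.fwd (nat_lit 32768) (Steps.fwd (nat_lit 24576) (Steps.bwd (nat_lit 1) Steps.nil))))))))))) (nat_lit 193) (nat_lit 0),
  Rule.mk (nat_lit 0) (nat_lit 194) (Steps.bwd (nat_lit 20) (Steps.bwd (nat_lit 1) (Steps.fwd (nat_lit 24576) (Steps.fwd (nat_lit 8192) (Steps.bwd (nat_lit 2) (Steps.bwd (nat_lit 1) (Steps.bwd (nat_lit 3) (Steps.fwd (nat_lit 8192) (Steps.bwd (nat_lit 3) (Steps.fwd (nat_lit 8192) (Steps.bwd (nat_lit 4) (Steps.bwd (nat_lit 2) Steps.nil)))))))))))) (nat_lit 194) (nat_lit 0),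
  Rule.mk (nat_lit 1) (nat_lit 539) (Steps.bwd (nat_lit 2) (Steps.bwd (nat_lit 1) (Steps.fwd (nat_lit 16384) (Steps.fwd (nat_lit 8192) (Steps.bwd (nat_lit 3) (Steps.bwd (nat_lit 1) (Steps.bwd (nat_lit 2) (Steps.fwd (nat_lit 8192) (Steps.bwd (nat_lit 2) (Steps.bwd (nat_lit 1) (Steps.bwd (nat_lit 3) (Steps.fwd (nat_lit 8192) (Steps.fwd (nat_lit 24576) (Steps.bwd (nat_lit 1) (Steps.fwd (nat_lit 24576) (Steps.bwd (nat_lit 1) (Steps.bwd (nat_lit 3) (Steps.bwd (nat_lit 1) (Steps.bwd (nat_lit 2) (Steps.fwd (nat_lit 8192) (Steps.fwd (nat_lit 24576) (Steps.fwd (nat_lit 8192) (Steps.bwd (nat_lit 3) (Steps.bwd (nat_lit 1) (Steps.fwd (nat_lit 24576) (Steps.fwd (nat_lit 8192) (Steps.bwd (nat_lit 3) (Steps.bwd (nat_lit 1) (Steps.fwd (nat_lit 16384) (Steps.bwd (nat_lit 1) (Steps.fwd (nat_lit 24576) (Steps.fwd (nat_lit 8192) (Steps.bwd (nat_lit 3) (Steps.fwd (nat_lit 8192) (Steps.bwd (nat_lit 3) Steps.nil)))))))))))))))))))))))))))))))))))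 (nat_lit 12) (nat_lit 31),
  Rule.mk (nat_lit 7) (nat_lit 164) (Steps.fwd (nat_lit 8192) (Steps.fwd (nat_lit 40960) (Steps.bwd (nat_lit 6) (Steps.bwd (nat_lit 9) (Steps.fwd (nat_lit 81920) (Steps.fwd (nat_lit 90112) (Steps.fwd (nat_lit 98304) (Steps.bwd (nat_lit 13) (Steps.bwd (nat_lit 14) (Steps.bwd (nat_lit 1) Steps.nil)))))))))) (nat_lit 152) (nat_lit 2),
  Rule.mk (nat_lit 12) (nat_lit 164) (Steps.fwd (nat_lit 8192) (Steps.fwd (nat_lit 32768) (Steps.bwd (nat_lit 5) (Steps.bwd (nat_lit 8) (Steps.fwd (nat_lit 73728) (Steps.bwd (nat_lit 10) (Steps.bwd (nat_lit 11) (Steps.fwd (nat_lit 98304) (Steps.bwd (nat_lit 14) (Steps.bwd (nat_lit 1) Steps.nil)))))))))) (nat_lit 162) (nat_lit 2),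
  Rule.mk (nat_lit 16) (nat_lit 179) (Steps.fwd (nat_lit 8192) (Steps.bwd (nat_lit 3) (Steps.bwd (nat_lit 1) (Steps.fwd (nat_lit 16384) (Steps.bwd (nat_lit 1) (Steps.bwd (nat_lit 3) (Steps.bwd (nat_lit 1) (Steps.bwd (nat_lit 2) (Steps.fwd (nat_lit 32768) (Steps.bwd (nat_lit 1) (Steps.bwd (nat_lit 2) Steps.nil))))))))))) (nat_lit 190) (nat_lit 1),
  Rule.mk (nat_lit 16) (nat_lit 179) (Steps.fwd (nat_lit 8192) (Steps.fwd (nat_lit 16384) (Steps.fwd (nat_lit 8192) (Steps.bwd (nat_lit 3) (Steps.fwd (nat_lit 8192) (Steps.bwd (nat_lit 3) (Steps.bwd (nat_lit 1) (Steps.bwd (nat_lit 2) (Steps.bwd (nat_lit 4) (Steps.bwd (nat_lit 1) (Steps.fwd (nat_lit 24576) Steps.nil))))))))))) (nat_lit 190) (nat_lit 1),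
  Rule.mk (nat_lit 0) (nat_lit 194) (Steps.bwd (nat_lit 16) (Steps.fwd (nat_lit 8192) (Steps.bwd (nat_lit 3) (Steps.fwd (nat_lit 8192) (Steps.bwd (nat_lit 3) (Steps.bwd (nat_lit 1) (Steps.fwd (nat_lit 16384) (Steps.fwd (nat_lit 8192) (Steps.fwd (nat_lit 24576) (Steps.bwd (nat_lit 4) (Steps.bwd (nat_lit 1) (Steps.bwd (nat_lit 2) Steps.nil)))))))))))) (nat_lit 190) (nat_lit 0),
  Rule.mk (nat_lit 15) (nat_lit 179) (Steps.fwd (nat_lit 16384) (Steps.fwd (nat_lit 8192) (Steps.bwd (nat_lit 4) (Steps.fwd (nat_lit 16384) (Steps.fwd (nat_lit 8192) (Steps.bwd (nat_lit 2) (Steps.fwd (nat_lit 8192) (Steps.fwd (nat_lit 24576) (Steps.bwd (nat_lit 1) (Steps.fwd (nat_lit 24576) (Steps.bwd (nat_lit 1) Steps.nil))))))))))) (nat_lit 191) (nat_lit 0),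
  Rule.mk (nat_lit 0) (nat_lit 194) (Steps.bwd (nat_lit 15) (Steps.fwd (nat_lit 16384) (Steps.fwd (nat_lit 8192) (Steps.bwd (nat_lit 4) (Steps.bwd (nat_lit 3) (Steps.fwd (nat_lit 8192) (Steps.fwd (nat_lit 24576) (Steps.bwd (nat_lit 1) (Steps.fwd (nat_lit 24576) (Steps.bwd (nat_lit 1) (Steps.bwd (nat_lit 2) (Steps.bwd (nat_lit 1) Steps.nil)))))))))))) (nat_lit 191) (nat_lit 11),
  Rule.mk (nat_lit 0) (nat_lit 194) (Steps.bwd (nat_lit 15) (Steps.bwd (nat_lit 3) (Steps.fwd (nat_lit 8192) (Steps.bwd (nat_lit 4) (Steps.fwd (nat_lit 16384) (Steps.bwd (nat_lit 1) (Steps.fwd (nat_lit 24576) (Steps.bwd (nat_lit 1) (Steps.bwd (nat_lit 2) (Steps.bwd (nat_lit 1) (Steps.fwd (nat_lit 24576) (Steps.fwd (nat_lit 8192) Steps.nil)))))))))))) (nat_lit 191) (nat_lit 11),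
  Rule.mk (nat_lit 0) (nat_lit 194) (Steps.bwd (nat_lit 16) (Steps.fwd (nat_lit 8192) (Steps.bwd (nat_lit 3) (Steps.bwd (nat_lit 1) (Steps.bwd (nat_lit 3) (Steps.fwd (nat_lit 8192) (Steps.fwd (nat_lit 16384) (Steps.fwd (nat_lit 8192) (Steps.fwd (nat_lit 24576) (Steps.bwd (nat_lit 4) (Steps.fwd (nat_lit 8192) (Steps.bwd (nat_lit 2) Steps.nil)))))))))))) (nat_lit 190) (nat_lit 0),
  Rule.mk (nat_lit 0) (nat_lit 194) (Steps.bwd (nat_lit 15) (Steps.bwd (nat_lit 3) (Steps.bwd (nat_lit 1) (Steps.fwd (nat_lit 32768) (Steps.bwd (nat_lit 3) (Steps.fwd (nat_lit 8192) (Steps.bwd (nat_lit 2) (Steps.fwd (nat_lit 8192) (Steps.fwd (nat_lit 24576) (Steps.fwd (nat_lit 8192) (Steps.fwd (nat_lit 24576) (Steps.fwd (nat_lit 8192) Steps.nil)))))))))))) (nat_lit 191) (nat_lit 11),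
  Rule.mk (nat_lit 0) (nat_lit 194) (Steps.fwd (nat_lit 8192) (Steps.bwd (nat_lit 3) (Steps.fwd (nat_lit 32768) (Steps.fwd (nat_lit 8192) (Steps.fwd (nat_lit 24576) (Steps.bwd (nat_lit 1) (Steps.fwd (nat_lit 24576) (Steps.bwd (nat_lit 1) (Steps.fwd (nat_lit 16384) (Steps.fwd (nat_lit 8192) (Steps.fwd (nat_lit 16384) (Steps.fwd (nat_lit 139264) Steps.nil)))))))))))) (nat_lit 192) (nat_lit 1),
  Rule.mk (nat_lit 0) (nat_lit 194) (Steps.bwd (nat_lit 17) (Steps.fwd (nat_lit 24576) (Steps.bwd (nat_lit 1) (Steps.bwd (nat_lit 2) (Steps.fwd (nat_lit 8192) (Steps.fwd (nat_lit 16384) (Steps.fwd (nat_lit 8192) (Steps.bwd (nat_lit 3) (Steps.fwd (nat_lit 8192) (Steps.fwd (nat_lit 32768) (Steps.bwd (nat_lit 2) (Steps.bwd (nat_lit 1) Steps.nil)))))))))))) (nat_lit 193) (nat_lit 11),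
  Rule.mk (nat_lit 0) (nat_lit 194) (Steps.bwd (nat_lit 17) (Steps.fwd (nat_lit 24576) (Steps.fwd (nat_lit 8192) (Steps.fwd (nat_lit 24576) (Steps.bwd (nat_lit 1) (Steps.bwd (nat_lit 3) (Steps.fwd (nat_lit 8192) (Steps.fwd (nat_lit 16384) (Steps.fwd (nat_lit 8192) (Steps.bwd (nat_lit 4) (Steps.fwd (nat_lit 24576) (Steps.fwd (nat_lit 8192) Steps.nil)))))))))))) (nat_lit 193) (nat_lit 11),
  Rule.mk (nat_lit 18) (nat_lit 179) (Steps.bwd (nat_lit 1) (Steps.fwd (nat_lit 16384) (Steps.fwd (nat_lit 32768) (Steps.fwd (nat_lit 8192) (Steps.bwd (nat_lit 2) (Steps.fwd (nat_lit 8192) (Steps.fwd (nat_lit 24576) (Steps.fwd (nat_lit 8192) (Steps.bwd (nat_lit 3) (Steps.fwd (nat_lit 8192) (Steps.bwd (nat_lit 3) Steps.nil))))))))))) (nat_lit 192) (nat_lit 1),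
  Rule.mk (nat_lit 17) (nat_lit 179) (Steps.fwd (nat_lit 24576) (Steps.fwd (nat_lit 8192) (Steps.bwd (nat_lit 2) (Steps.bwd (nat_lit 1) (Steps.fwd (nat_lit 16384) (Steps.bwd (nat_lit 1) (Steps.bwd (nat_lit 3) (Steps.bwd (nat_lit 1) (Steps.bwd (nat_lit 4) (Steps.fwd (nat_lit 24576) (Steps.bwd (nat_lit 1) Steps.nil))))))))))) (nat_lit 193) (nat_lit 0),
  Rule.mk (nat_lit 17) (nat_lit 179) (Steps.fwd (nat_lit 24576) (Steps.bwd (nat_lit 1) (Steps.fwd (nat_lit 24576) (Steps.fwd (nat_lit 8192) (Steps.bwd (nat_lit 3) (Steps.fwd (nat_lit 8192) (Steps.bwd (nat_lit 3) (Steps.bwd (nat_lit 1) (Steps.fwd (nat_lit 32768) (Steps.fwd (nat_lit 24576) (Steps.bwd (nat_lit 1) Steps.nil))))))))))) (nat_lit 193) (nat_lit 0)]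
noncomputable def R_139 : List (Rule) := [Rule.mk (nat_lit 17) (nat_lit 179) (Steps.fwd (nat_lit 24576) (Steps.bwd (nat_lit 1) (Steps.fwd (nat_lit 24576) (Steps.bwd (nat_lit 1) (Steps.fwd (nat_lit 16384) (Steps.fwd (nat_lit 8192) (Steps.fwd (nat_lit 16384) (Steps.fwd (nat_lit 8192) (Steps.fwd (nat_lit 32768) (Steps.fwd (nat_lit 24576) (Steps.bwd (nat_lit 1) Steps.nil))))))))))) (nat_lit 193) (nat_lit 0),
  Rule.mk (nat_lit 0) (nat_lit 194) (Steps.bwd (nat_lit 17) (Steps.fwd (nat_lit 24576) (Steps.bwd (nat_lit 1) (Steps.bwd (nat_lit 2) (Steps.bwd (nat_lit 1) (Steps.fwd (nat_lit 16384) (Steps.fwd (nat_lit 8192) (Steps.bwd (nat_lit 3) (Steps.bwd (nat_lit 1) (Steps.bwd (nat_lit 4) (Steps.fwd (nat_lit 24576) (Steps.bwd (nat_lit 1) Steps.nil)))))))))))) (nat_lit 193) (nat_lit 11),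
  Rule.mk (nat_lit 0) (nat_lit 194) (Steps.bwd (nat_lit 20) (Steps.fwd (nat_lit 8192) (Steps.fwd (nat_lit 24576) (Steps.bwd (nat_lit 1) (Steps.fwd (nat_lit 24576) (Steps.bwd (nat_lit 1) (Steps.fwd (nat_lit 16384) (Steps.fwd (nat_lit 8192) (Steps.fwd (nat_lit 16384) (Steps.fwd (nat_lit 8192) (Steps.fwd (nat_lit 32768) (Steps.fwd (nat_lit 24576) Steps.nil)))))))))))) (nat_lit 194) (nat_lit 0),
  Rule.mk (nat_lit 20) (nat_lit 179) (Steps.bwd (nat_lit 1) (Steps.bwd (nat_lit 2) (Steps.bwd (nat_lit 1) (Steps.fwd (nat_lit 24576) (Steps.fwd (nat_lit 8192) (Steps.bwd (nat_lit 3) (Steps.bwd (nat_lit 1) (Steps.bwd (nat_lit 3) (Steps.bwd (nat_lit 1) (Steps.fwd (nat_lit 32768) (Steps.fwd (nat_lit 24576) Steps.nil))))))))))) (nat_lit 194) (nat_lit 1),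
  Rule.mk (nat_lit 19) (nat_lit 179) (Steps.bwd (nat_lit 3) (Steps.fwd (nat_lit 32768) (Steps.bwd (nat_lit 1) (Steps.fwd (nat_lit 24576) (Steps.bwd (nat_lit 1) (Steps.fwd (nat_lit 24576) (Steps.fwd (nat_lit 8192) (Steps.bwd (nat_lit 3) (Steps.fwd (nat_lit 8192) (Steps.bwd (nat_lit 3) (Steps.bwd (nat_lit 1) Steps.nil))))))))))) (nat_lit 195) (nat_lit 0),
  Rule.mk (nat_lit 0) (nat_lit 194) (Steps.bwd (nat_lit 20) (Steps.bwd (nat_lit 1) (Steps.bwd (nat_lit 2) (Steps.fwd (nat_lit 8192) (Steps.fwd (nat_lit 24576) (Steps.bwd (nat_lit 1) (Steps.bwd (nat_lit 3) (Steps.bwd (nat_lit 1) (Steps.fwd (nat_lit 16384) (Steps.fwd (nat_lit 8192) (Steps.bwd (nat_lit 4) (Steps.fwd (nat_lit 24576) Steps.nil)))))))))))) (nat_lit 194) (nat_lit 0),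
  Rule.mk (nat_lit 0) (nat_lit 194) (Steps.bwd (nat_lit 19) (Steps.bwd (nat_lit 3) (Steps.fwd (nat_lit 32768) (Steps.fwd (nat_lit 8192) (Steps.fwd (nat_lit 24576) (Steps.bwd (nat_lit 1) (Steps.fwd (nat_lit 24576) (Steps.bwd (nat_lit 1) (Steps.fwd (nat_lit 16384) (Steps.fwd (nat_lit 8192) (Steps.fwd (nat_lit 16384) (Steps.fwd (nat_lit 8192) Steps.nil)))))))))))) (nat_lit 195) (nat_lit 11),
  Rule.mk (nat_lit 19) (nat_lit 179) (Steps.fwd (nat_lit 16384) (Steps.bwd (nat_lit 4) (Steps.bwd (nat_lit 1) (Steps.fwd (nat_lit 24576) (Steps.bwd (nat_lit 1) (Steps.bwd (nat_lit 2) (Steps.bwd (nat_lit 1) (Steps.fwd (nat_lit 16384) (Steps.fwd (nat_lit 8192) (Steps.bwd (nat_lit 3) (Steps.bwd (nat_lit 1) Steps.nil))))))))))) (nat_lit 195) (nat_lit 0),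
  Rule.mk (nat_lit 19) (nat_lit 179) (Steps.bwd (nat_lit 3) (Steps.fwd (nat_lit 32768) (Steps.bwd (nat_lit 1) (Steps.bwd (nat_lit 2) (Steps.bwd (nat_lit 1) (Steps.fwd (nat_lit 24576) (Steps.fwd (nat_lit 8192) (Steps.bwd (nat_lit 3) (Steps.bwd (nat_lit 1) (Steps.bwd (nat_lit 3) (Steps.bwd (nat_lit 1) Steps.nil))))))))))) (nat_lit 195) (nat_lit 0),
  Rule.mk (nat_lit 20) (nat_lit 179) (Steps.bwd (nat_lit 1) (Steps.bwd (nat_lit 2) (Steps.fwd (nat_lit 8192) (Steps.fwd (nat_lit 24576) (Steps.fwd (nat_lit 8192) (Steps.fwd (nat_lit 16384) (Steps.fwd (nat_lit 8192) (Steps.bwd (nat_lit 3) (Steps.bwd (nat_lit 1) (Steps.fwd (nat_lit 32768) (Steps.bwd (nat_lit 2) Steps.nil))))))))))) (nat_lit 194) (nat_lit 1),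
  Rule.mk (nat_lit 14) (nat_lit 119) (Steps.fwd (nat_lit 16384) (Steps.bwd (nat_lit 5) (Steps.bwd (nat_lit 6) (Steps.bwd (nat_lit 7) (Steps.fwd (nat_lit 98304) (Steps.fwd (nat_lit 114688) (Steps.bwd (nat_lit 2) Steps.nil))))))) (nat_lit 188) (nat_lit 2),
  Rule.mk (nat_lit 9) (nat_lit 134) (Steps.fwd (nat_lit 16384) (Steps.bwd (nat_lit 4) (Steps.fwd (nat_lit 40960) (Steps.bwd (nat_lit 8) (Steps.fwd (nat_lit 73728) (Steps.fwd (nat_lit 90112) (Steps.fwd (nat_lit 114688) (Steps.bwd (nat_lit 2) Steps.nil)))))))) (nat_lit 178) (nat_lit 2),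
  Rule.mk (nat_lit 13) (nat_lit 134) (Steps.bwd (nat_lit 3) (Steps.bwd (nat_lit 6) (Steps.fwd (nat_lit 81920) (Steps.bwd (nat_lit 11) (Steps.bwd (nat_lit 12) (Steps.bwd (nat_lit 13) (Steps.fwd (nat_lit 114688) (Steps.bwd (nat_lit 2) Steps.nil)))))))) (nat_lit 186) (nat_lit 2),
  Rule.mk (nat_lit 5) (nat_lit 149) (Steps.fwd (nat_lit 16384) (Steps.bwd (nat_lit 4) (Steps.fwd (nat_lit 40960) (Steps.bwd (nat_lit 8) (Steps.fwd (nat_lit 73728) (Steps.bwd (nat_lit 12) (Steps.bwd (nat_lit 13) (Steps.fwd (nat_lit 114688) (Steps.bwd (nat_lit 2) Steps.nil))))))))) (nat_lit 170) (nat_lit 2),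
  Rule.mk (nat_lit 6) (nat_lit 164) (Steps.fwd (nat_lit 16384) (Steps.bwd (nat_lit 5) (Steps.fwd (nat_lit 49152) (Steps.bwd (nat_lit 9) (Steps.fwd (nat_lit 81920) (Steps.bwd (nat_lit 11) (Steps.bwd (nat_lit 12) (Steps.bwd (nat_lit 13) (Steps.fwd (nat_lit 114688) (Steps.bwd (nat_lit 2) Steps.nil)))))))))) (nat_lit 172) (nat_lit 2),
  Rule.mk (nat_lit 11) (nat_lit 164) (Steps.fwd (nat_lit 16384) (Steps.bwd (nat_lit 4) (Steps.fwd (nat_lit 40960) (Steps.fwd (nat_lit 65536) (Steps.bwd (nat_lit 9) (Steps.fwd (nat_lit 81920) (Steps.bwd (nat_lit 11) (Steps.fwd (nat_lit 98304) (Steps.fwd (nat_lit 114688) (Steps.bwd (nat_lit 2) Steps.nil)))))))))) (nat_lit 182) (nat_lit 2),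
  Rule.mk (nat_lit 1) (nat_lit 539) (Steps.fwd (nat_lit 16384) (Steps.fwd (nat_lit 8192) (Steps.bwd (nat_lit 3) (Steps.bwd (nat_lit 1) (Steps.bwd (nat_lit 2) (Steps.bwd (nat_lit 1) (Steps.fwd (nat_lit 24576) (Steps.fwd (nat_lit 8192) (Steps.bwd (nat_lit 3) (Steps.fwd (nat_lit 8192) (Steps.bwd (nat_lit 2) (Steps.fwd (nat_lit 8192) (Steps.bwd (nat_lit 2) (Steps.fwd (nat_lit 8192) (Steps.fwd (nat_lit 16384) (Steps.bwd (nat_lit 1) (Steps.bwd (nat_lit 2) (Steps.fwd (nat_lit 8192) (Steps.fwd (nat_lit 24576) (Steps.bwd (nat_lit 1) (Steps.fwd (nat_lit 16384) (Steps.fwd (nat_lit 8192) (Steps.bwd (nat_lit 2) (Steps.bwd (nat_lit 1) (Steps.bwd (nat_lit 3) (Steps.fwd (nat_lit 8192) (Steps.fwd (nat_lit 16384) (Steps.fwd (nat_lit 8192) (Steps.bwd (nat_lit 2) (Steps.fwd (nat_lit 8192) (Steps.bwd (nat_lit 3) (Steps.fwd (nat_lit 8192) (Steps.bwd (nat_lit 3) (Steps.bwd (nat_lit 1) (Steps.bwd (nat_lit 2) Steps.nil)))))))))))))))))))))))))))))))))))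 (nat_lit 12) (nat_lit 33),
  Rule.mk (nat_lit 16) (nat_lit 179) (Steps.fwd (nat_lit 8192) (Steps.fwd (nat_lit 16384) (Steps.bwd (nat_lit 1) (Steps.fwd (nat_lit 16384) (Steps.bwd (nat_lit 1) (Steps.fwd (nat_lit 16384) (Steps.fwd (nat_lit 8192) (Steps.bwd (nat_lit 2) (Steps.fwd (nat_lit 32768) (Steps.bwd (nat_lit 1) (Steps.bwd (nat_lit 2) Steps.nil))))))))))) (nat_lit 190) (nat_lit 1),
  Rule.mk (nat_lit 16) (nat_lit 179) (Steps.bwd (nat_lit 1) (Steps.fwd (nat_lit 16384) (Steps.bwd (nat_lit 1) (Steps.fwd (nat_lit 16384) (Steps.fwd (nat_lit 8192) (Steps.fwd (nat_lit 16384) (Steps.fwd (nat_lit 8192) (Steps.fwd (nat_lit 24576) (Steps.bwd (nat_lit 4) (Steps.bwd (nat_lit 1) (Steps.bwd (nat_lit 2) Steps.nil))))))))))) (nat_lit 190) (nat_lit 1),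
  Rule.mk (nat_lit 0) (nat_lit 194) (Steps.bwd (nat_lit 16) (Steps.bwd (nat_lit 1) (Steps.fwd (nat_lit 16384) (Steps.fwd (nat_lit 8192) (Steps.fwd (nat_lit 16384) (Steps.fwd (nat_lit 8192) (Steps.bwd (nat_lit 3) (Steps.bwd (nat_lit 1) (Steps.bwd (nat_lit 2) (Steps.fwd (nat_lit 32768) (Steps.bwd (nat_lit 1) (Steps.fwd (nat_lit 24576) Steps.nil)))))))))))) (nat_lit 190) (nat_lit 0),
  Rule.mk (nat_lit 16) (nat_lit 179) (Steps.fwd (nat_lit 8192) (Steps.fwd (nat_lit 16384) (Steps.fwd (nat_lit 8192) (Steps.bwd (nat_lit 3) (Steps.bwd (nat_lit 1) (Steps.bwd (nat_lit 3) (Steps.bwd (nat_lit 1) (Steps.bwd (nat_lit 2) (Steps.fwd (nat_lit 32768) (Steps.bwd (nat_lit 1) (Steps.bwd (nat_lit 2) Steps.nil))))))))))) (nat_lit 190) (nat_lit 1),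
  Rule.mk (nat_lit 18) (nat_lit 179) (Steps.fwd (nat_lit 8192) (Steps.fwd (nat_lit 16384) (Steps.bwd (nat_lit 4) (Steps.fwd (nat_lit 8192) (Steps.bwd (nat_lit 2) (Steps.bwd (nat_lit 1) (Steps.bwd (nat_lit 2) (Steps.bwd (nat_lit 1) (Steps.fwd (nat_lit 16384) (Steps.fwd (nat_lit 8192) (Steps.fwd (nat_lit 16384) Steps.nil))))))))))) (nat_lit 192) (nat_lit 1),
  Rule.mk (nat_lit 0) (nat_lit 194) (Steps.bwd (nat_lit 20) (Steps.fwd (nat_lit 8192) (Steps.bwd (nat_lit 2) (Steps.bwd (nat_lit 1) (Steps.bwd (nat_lit 2) (Steps.bwd (nat_lit 1) (Steps.fwd (nat_lit 16384) (Steps.fwd (nat_lit 8192) (Steps.fwd (nat_lit 16384) (Steps.fwd (nat_lit 8192) (Steps.bwd (nat_lit 4) (Steps.bwd (nat_lit 2) Steps.nil)))))))))))) (nat_lit 194) (nat_lit 0),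
  Rule.mk (nat_lit 0) (nat_lit 194) (Steps.bwd (nat_lit 20) (Steps.fwd (nat_lit 8192) (Steps.fwd (nat_lit 24576) (Steps.bwd (nat_lit 1) (Steps.bwd (nat_lit 2) (Steps.fwd (nat_lit 8192) (Steps.fwd (nat_lit 16384) (Steps.fwd (nat_lit 8192) (Steps.bwd (nat_lit 3) (Steps.bwd (nat_lit 1) (Steps.fwd (nat_lit 32768) (Steps.fwd (nat_lit 24576) Steps.nil)))))))))))) (nat_lit 194) (nat_lit 0),
  Rule.mk (nat_lit 17) (nat_lit 179) (Steps.bwd (nat_lit 2) (Steps.fwd (nat_lit 8192) (Steps.bwd (nat_lit 2) (Steps.fwd (nat_lit 8192) (Steps.fwd (nat_lit 16384) (Steps.bwd (nat_lit 1) (Steps.fwd (nat_lit 16384) (Steps.bwd (nat_lit 1) (Steps.bwd (nat_lit 4) (Steps.fwd (nat_lit 24576) (Steps.bwd (nat_lit 1) Steps.nil))))))))))) (nat_lit 193) (nat_lit 0),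
  Rule.mk (nat_lit 0) (nat_lit 194) (Steps.fwd (nat_lit 8192) (Steps.bwd (nat_lit 3) (Steps.bwd (nat_lit 1) (Steps.fwd (nat_lit 16384) (Steps.bwd (nat_lit 1) (Steps.bwd (nat_lit 3) (Steps.bwd (nat_lit 1) (Steps.bwd (nat_lit 2) (Steps.fwd (nat_lit 32768) (Steps.bwd (nat_lit 1) (Steps.fwd (nat_lit 24576) (Steps.fwd (nat_lit 122880) Steps.nil)))))))))))) (nat_lit 190) (nat_lit 1),
  Rule.mk (nat_lit 16) (nat_lit 179) (Steps.bwd (nat_lit 1) (Steps.fwd (nat_lit 16384) (Steps.bwd (nat_lit 1) (Steps.bwd (nat_lit 3) (Steps.fwd (nat_lit 8192) (Steps.fwd (nat_lit 16384) (Steps.bwd (nat_lit 1) (Steps.fwd (nat_lit 24576) (Steps.bwd (nat_lit 4) (Steps.bwd (nat_lit 1) (Steps.bwd (nat_lit 2) Steps.nil))))))))))) (nat_lit 190) (nat_lit 1),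
  Rule.mk (nat_lit 20) (nat_lit 179) (Steps.fwd (nat_lit 8192) (Steps.fwd (nat_lit 24576) (Steps.bwd (nat_lit 1) (Steps.fwd (nat_lit 24576) (Steps.bwd (nat_lit 1) (Steps.bwd (nat_lit 3) (Steps.bwd (nat_lit 1) (Steps.fwd (nat_lit 16384) (Steps.bwd (nat_lit 1) (Steps.bwd (nat_lit 4) (Steps.bwd (nat_lit 2) Steps.nil))))))))))) (nat_lit 194) (nat_lit 1),
  Rule.mk (nat_lit 2) (nat_lit 134) (Steps.bwd (nat_lit 9) (Steps.bwd (nat_lit 3) (Steps.bwd (nat_lit 4) (Steps.fwd (nat_lit 40960) (Steps.fwd (nat_lit 65536) (Steps.fwd (nat_lit 73728) (Steps.fwd (nat_lit 90112) (Steps.bwd (nat_lit 14) Steps.nil)))))))) (nat_lit 178) (nat_lit 1),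
  Rule.mk (nat_lit 16) (nat_lit 179) (Steps.fwd (nat_lit 8192) (Steps.bwd (nat_lit 3) (Steps.fwd (nat_lit 8192) (Steps.fwd (nat_lit 16384) (Steps.fwd (nat_lit 8192) (Steps.bwd (nat_lit 3) (Steps.bwd (nat_lit 1) (Steps.bwd (nat_lit 2) (Steps.fwd (nat_lit 32768) (Steps.bwd (nat_lit 1) (Steps.bwd (nat_lit 2) Steps.nil))))))))))) (nat_lit 190) (nat_lit 1),
  Rule.mk (nat_lit 15) (nat_lit 179) (Steps.fwd (nat_lit 16384) (Steps.bwd (nat_lit 1) (Steps.fwd (nat_lit 32768) (Steps.bwd (nat_lit 3) (Steps.fwd (nat_lit 8192) (Steps.bwd (nat_lit 2) (Steps.bwd (nat_lit 1) (Steps.bwd (nat_lit 2) (Steps.fwd (nat_lit 8192) (Steps.bwd (nat_lit 2) (Steps.bwd (nat_lit 1) Steps.nil))))))))))) (nat_lit 191) (nat_lit 0),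
  Rule.mk (nat_lit 15) (nat_lit 179) (Steps.fwd (nat_lit 16384) (Steps.bwd (nat_lit 1) (Steps.fwd (nat_lit 32768) (Steps.fwd (nat_lit 16384) (Steps.bwd (nat_lit 1) (Steps.bwd (nat_lit 2) (Steps.fwd (nat_lit 8192) (Steps.bwd (nat_lit 2) (Steps.bwd (nat_lit 1) (Steps.fwd (nat_lit 24576) (Steps.fwd (nat_lit 8192) Steps.nil))))))))))) (nat_lit 191) (nat_lit 0),
  Rule.mk (nat_lit 0) (nat_lit 194) (Steps.bwd (nat_lit 1) (Steps.fwd (nat_lit 16384) (Steps.fwd (nat_lit 32768) (Steps.fwd (nat_lit 8192) (Steps.bwd (nat_lit 2) (Steps.bwd (nat_lit 1) (Steps.bwd (nat_lit 2) (Steps.fwd (nat_lit 8192) (Steps.fwd (nat_lit 16384) (Steps.bwd (nat_lit 1) (Steps.fwd (nat_lit 16384) (Steps.fwd (nat_lit 139264) Steps.nil)))))))))))) (nat_lit 192) (nat_lit 1),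
  Rule.mk (nat_lit 0) (nat_lit 194) (Steps.bwd (nat_lit 1) (Steps.fwd (nat_lit 16384) (Steps.fwd (nat_lit 32768) (Steps.bwd (nat_lit 1) (Steps.bwd (nat_lit 2) (Steps.bwd (nat_lit 1) (Steps.bwd (nat_lit 2) (Steps.fwd (nat_lit 8192) (Steps.bwd (nat_lit 3) (Steps.bwd (nat_lit 1) (Steps.fwd (nat_lit 16384) (Steps.fwd (nat_lit 139264) Steps.nil)))))))))))) (nat_lit 192) (nat_lit 1),
  Rule.mk (nat_lit 17) (nat_lit 179) (Steps.bwd (nat_lit 2) (Steps.bwd (nat_lit 1) (Steps.fwd (nat_lit 24576) (Steps.bwd (nat_lit 1) (Steps.fwd (nat_lit 16384) (Steps.fwd (nat_lit 8192) (Steps.fwd (nat_lit 16384) (Steps.bwd (nat_lit 1) (Steps.fwd (nat_lit 32768) (Steps.fwd (nat_lit 24576) (Steps.fwd (nat_lit 8192) Steps.nil))))))))))) (nat_lit 193) (nat_lit 0),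
  Rule.mk (nat_lit 20) (nat_lit 179) (Steps.bwd (nat_lit 1) (Steps.bwd (nat_lit 2) (Steps.fwd (nat_lit 8192) (Steps.fwd (nat_lit 24576) (Steps.bwd (nat_lit 1) (Steps.fwd (nat_lit 16384) (Steps.fwd (nat_lit 8192) (Steps.fwd (nat_lit 16384) (Steps.fwd (nat_lit 8192) (Steps.bwd (nat_lit 4) (Steps.bwd (nat_lit 2) Steps.nil))))))))))) (nat_lit 194) (nat_lit 1),
  Rule.mk (nat_lit 0) (nat_lit 194) (Steps.bwd (nat_lit 19) (Steps.fwd (nat_lit 16384) (Steps.fwd (nat_lit 32768) (Steps.bwd (nat_lit 1) (Steps.bwd (nat_lit 2) (Steps.fwd (nat_lit 8192) (Steps.bwd (nat_lit 2) (Steps.fwd (nat_lit 8192) (Steps.fwd (nat_lit 16384) (Steps.fwd (nat_lit 8192) (Steps.fwd (nat_lit 16384) (Steps.bwd (nat_lit 1) Steps.nil)))))))))))) (nat_lit 195) (nat_lit 11),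
  Rule.mk (nat_lit 20) (nat_lit 179) (Steps.bwd (nat_lit 1) (Steps.bwd (nat_lit 2) (Steps.bwd (nat_lit 1) (Steps.fwd (nat_lit 24576) (Steps.bwd (nat_lit 1) (Steps.fwd (nat_lit 16384) (Steps.fwd (nat_lit 8192) (Steps.fwd (nat_lit 16384) (Steps.bwd (nat_lit 1) (Steps.fwd (nat_lit 32768) (Steps.fwd (nat_lit 24576) Steps.nil))))))))))) (nat_lit 194) (nat_lit 1),
  Rule.mk (nat_lit 0) (nat_lit 194) (Steps.bwd (nat_lit 20) (Steps.bwd (nat_lit 1) (Steps.bwd (nat_lit 2) (Steps.fwd (nat_lit 8192) (Steps.bwd (nat_lit 2) (Steps.fwd (nat_lit 8192) (Steps.fwd (nat_lit 16384) (Steps.fwd (nat_lit 8192) (Steps.fwd (nat_lit 16384) (Steps.bwd (nat_lit 1) (Steps.bwd (nat_lit 4) (Steps.bwd (nat_lit 2) Steps.nil)))))))))))) (nat_lit 194) (nat_lit 0),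
  Rule.mk (nat_lit 16) (nat_lit 179) (Steps.bwd (nat_lit 1) (Steps.fwd (nat_lit 16384) (Steps.bwd (nat_lit 1) (Steps.fwd (nat_lit 16384) (Steps.bwd (nat_lit 1) (Steps.bwd (nat_lit 3) (Steps.fwd (nat_lit 8192) (Steps.fwd (nat_lit 24576) (Steps.bwd (nat_lit 4) (Steps.fwd (nat_lit 8192) (Steps.fwd (nat_lit 24576) Steps.nil))))))))))) (nat_lit 190) (nat_lit 1),
  Rule.mk (nat_lit 18) (nat_lit 179) (Steps.fwd (nat_lit 8192) (Steps.bwd (nat_lit 3) (Steps.bwd (nat_lit 4) (Steps.fwd (nat_lit 8192) (Steps.fwd (nat_lit 24576) (Steps.fwd (nat_lit 8192) (Steps.fwd (nat_lit 24576) (Steps.fwd (nat_lit 8192) (Steps.bwd (nat_lit 3) (Steps.fwd (nat_lit 8192) (Steps.bwd (nat_lit 3) Steps.nil))))))))))) (nat_lit 192) (nat_lit 1),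
  Rule.mk (nat_lit 0) (nat_lit 194) (Steps.bwd (nat_lit 20) (Steps.fwd (nat_lit 8192) (Steps.fwd (nat_lit 24576) (Steps.fwd (nat_lit 8192) (Steps.fwd (nat_lit 24576) (Steps.bwd (nat_lit 1) (Steps.bwd (nat_lit 3) (Steps.bwd (nat_lit 1) (Steps.bwd (nat_lit 3) (Steps.bwd (nat_lit 1) (Steps.fwd (nat_lit 32768) (Steps.fwd (nat_lit 24576) Steps.nil)))))))))))) (nat_lit 194) (nat_lit 0),
  Rule.mk (nat_lit 0) (nat_lit 194) (Steps.fwd (nat_lit 8192) (Steps.fwd (nat_lit 16384) (Steps.bwd (nat_lit 1) (Steps.bwd (nat_lit 3) (Steps.fwd (nat_lit 8192) (Steps.bwd (nat_lit 3) (Steps.fwd (nat_lit 8192) (Steps.fwd (nat_lit 24576) (Steps.bwd (nat_lit 4) (Steps.fwd (nat_lit 8192) (Steps.bwd (nat_lit 2) (Steps.fwd (nat_lit 122880) Steps.nil)))))))))))) (nat_lit 190) (nat_lit 1),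
  Rule.mk (nat_lit 0) (nat_lit 194) (Steps.fwd (nat_lit 16384) (Steps.fwd (nat_lit 8192) (Steps.bwd (nat_lit 4) (Steps.bwd (nat_lit 3) (Steps.fwd (nat_lit 8192) (Steps.fwd (nat_lit 24576) (Steps.fwd (nat_lit 8192) (Steps.fwd (nat_lit 24576) (Steps.fwd (nat_lit 8192) (Steps.bwd (nat_lit 2) (Steps.bwd (nat_lit 1) (Steps.fwd (nat_lit 131072) Steps.nil)))))))))))) (nat_lit 191) (nat_lit 0),
  Rule.mk (nat_lit 17) (nat_lit 179) (Steps.fwd (nat_lit 24576) (Steps.fwd (nat_lit 8192) (Steps.fwd (nat_lit 24576) (Steps.bwd (nat_lit 1) (Steps.bwd (nat_lit 3) (Steps.fwd (nat_lit 8192) (Steps.bwd (nat_lit 3) (Steps.fwd (nat_lit 8192) (Steps.fwd (nat_lit 32768) (Steps.fwd (nat_lit 24576) (Steps.fwd (nat_lit 8192) Steps.nil))))))))))) (nat_lit 193) (nat_lit 0),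
  Rule.mk (nat_lit 20) (nat_lit 179) (Steps.fwd (nat_lit 8192) (Steps.fwd (nat_lit 24576) (Steps.fwd (nat_lit 8192) (Steps.fwd (nat_lit 24576) (Steps.bwd (nat_lit 1) (Steps.bwd (nat_lit 3) (Steps.fwd (nat_lit 8192) (Steps.bwd (nat_lit 3) (Steps.fwd (nat_lit 8192) (Steps.fwd (nat_lit 32768) (Steps.fwd (nat_lit 24576) Steps.nil))))))))))) (nat_lit 194) (nat_lit 1),
  Rule.mk (nat_lit 18) (nat_lit 179) (Steps.fwd (nat_lit 8192) (Steps.bwd (nat_lit 3) (Steps.fwd (nat_lit 32768) (Steps.fwd (nat_lit 8192) (Steps.bwd (nat_lit 2) (Steps.fwd (nat_lit 8192) (Steps.fwd (nat_lit 24576) (Steps.fwd (nat_lit 8192) (Steps.bwd (nat_lit 3) (Steps.fwd (nat_lit 8192) (Steps.bwd (nat_lit 3) Steps.nil))))))))))) (nat_lit 192) (nat_lit 1),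
  Rule.mk (nat_lit 17) (nat_lit 179) (Steps.fwd (nat_lit 24576) (Steps.fwd (nat_lit 8192) (Steps.bwd (nat_lit 2) (Steps.bwd (nat_lit 1) (Steps.fwd (nat_lit 16384) (Steps.bwd (nat_lit 1) (Steps.bwd (nat_lit 3) (Steps.fwd (nat_lit 8192) (Steps.bwd (nat_lit 4) (Steps.bwd (nat_lit 2) (Steps.fwd (nat_lit 8192) Steps.nil))))))))))) (nat_lit 193) (nat_lit 0),
  Rule.mk (nat_lit 17) (nat_lit 179) (Steps.bwd (nat_lit 2) (Steps.fwd (nat_lit 8192) (Steps.fwd (nat_lit 24576) (Steps.fwd (nat_lit 8192) (Steps.bwd (nat_lit 3) (Steps.fwd (nat_lit 8192) (Steps.bwd (nat_lit 3) (Steps.bwd (nat_lit 1) (Steps.bwd (nat_lit 4) (Steps.bwd (nat_lit 2) (Steps.fwd (nat_lit 8192) Steps.nil))))))))))) (nat_lit 193) (nat_lit 0),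
  Rule.mk (nat_lit 19) (nat_lit 179) (Steps.bwd (nat_lit 3) (Steps.fwd (nat_lit 32768) (Steps.fwd (nat_lit 8192) (Steps.bwd (nat_lit 2) (Steps.fwd (nat_lit 8192) (Steps.fwd (nat_lit 24576) (Steps.fwd (nat_lit 8192) (Steps.bwd (nat_lit 3) (Steps.fwd (nat_lit 8192) (Steps.bwd (nat_lit 3) (Steps.bwd (nat_lit 1) Steps.nil))))))))))) (nat_lit 195) (nat_lit 0),
  Rule.mk (nat_lit 19) (nat_lit 179) (Steps.bwd (nat_lit 3) (Steps.bwd (nat_lit 4) (Steps.fwd (nat_lit 8192) (Steps.fwd (nat_lit 24576) (Steps.fwd (nat_lit 8192) (Steps.fwd (nat_lit 24576) (Steps.bwd (nat_lit 1) (Steps.bwd (nat_lit 3) (Steps.bwd (nat_lit 1) (Steps.bwd (nat_lit 3) (Steps.bwd (nat_lit 1) Steps.nil))))))))))) (nat_lit 195) (nat_lit 0),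
  Rule.mk (nat_lit 18) (nat_lit 179) (Steps.bwd (nat_lit 1) (Steps.bwd (nat_lit 3) (Steps.bwd (nat_lit 4) (Steps.fwd (nat_lit 8192) (Steps.fwd (nat_lit 24576) (Steps.fwd (nat_lit 8192) (Steps.fwd (nat_lit 24576) (Steps.bwd (nat_lit 1) (Steps.bwd (nat_lit 3) (Steps.bwd (nat_lit 1) (Steps.bwd (nat_lit 3) Steps.nil))))))))))) (nat_lit 192) (nat_lit 1),
  Rule.mk (nat_lit 19) (nat_lit 179) (Steps.bwd (nat_lit 3) (Steps.fwd (nat_lit 32768) (Steps.bwd (nat_lit 1) (Steps.bwd (nat_lit 2) (Steps.fwd (nat_lit 8192) (Steps.fwd (nat_lit 24576) (Steps.bwd (nat_lit 1) (Steps.fwd (nat_lit 16384) (Steps.fwd (nat_lit 8192) (Steps.fwd (nat_lit 16384) (Steps.bwd (nat_lit 1) Steps.nil))))))))))) (nat_lit 195) (nat_lit 0),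
  Rule.mk (nat_lit 5) (nat_lit 104) (Steps.bwd (nat_lit 2) (Steps.fwd (nat_lit 57344) (Steps.bwd (nat_lit 3) (Steps.fwd (nat_lit 114688) (Steps.bwd (nat_lit 13) (Steps.bwd (nat_lit 7) Steps.nil)))))) (nat_lit 175) (nat_lit 4),
  Rule.mk (nat_lit 6) (nat_lit 104) (Steps.bwd (nat_lit 2) (Steps.bwd (nat_lit 10) (Steps.bwd (nat_lit 3) (Steps.bwd (nat_lit 14) (Steps.bwd (nat_lit 12) (Steps.bwd (nat_lit 11) Steps.nil)))))) (nat_lit 181) (nat_lit 4),
  Rule.mk (nat_lit 0) (nat_lit 194) (Steps.bwd (nat_lit 2) (Steps.fwd (nat_lit 8192) (Steps.bwd (nat_lit 2) (Steps.bwd (nat_lit 1) (Steps.fwd (nat_lit 16384) (Steps.bwd (nat_lit 1) (Steps.fwd (nat_lit 16384) (Steps.fwd (nat_lit 8192) (Steps.bwd (nat_lit 4) (Steps.bwd (nat_lit 2) (Steps.bwd (nat_lit 1) (Steps.fwd (nat_lit 147456) Steps.nil)))))))))))) (nat_lit 193) (nat_lit 0),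
  Rule.mk (nat_lit 17) (nat_lit 179) (Steps.bwd (nat_lit 2) (Steps.bwd (nat_lit 1) (Steps.bwd (nat_lit 2) (Steps.bwd (nat_lit 1) (Steps.fwd (nat_lit 16384) (Steps.bwd (nat_lit 1) (Steps.bwd (nat_lit 3) (Steps.bwd (nat_lit 1) (Steps.fwd (nat_lit 32768) (Steps.fwd (nat_lit 24576) (Steps.bwd (nat_lit 1) Steps.nil))))))))))) (nat_lit 193) (nat_lit 0),
  Rule.mk (nat_lit 0) (nat_lit 194) (Steps.bwd (nat_lit 20) (Steps.bwd (nat_lit 1) (Steps.fwd (nat_lit 24576) (Steps.fwd (nat_lit 8192) (Steps.bwd (nat_lit 2) (Steps.bwd (nat_lit 1) (Steps.fwd (nat_lit 16384) (Steps.bwd (nat_lit 1) (Steps.fwd (nat_lit 16384) (Steps.fwd (nat_lit 8192) (Steps.bwd (nat_lit 4) (Steps.bwd (nat_lit 2) Steps.nil)))))))))))) (nat_lit 194) (nat_lit 0),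
  Rule.mk (nat_lit 1) (nat_lit 539) (Steps.bwd (nat_lit 2) (Steps.bwd (nat_lit 1) (Steps.bwd (nat_lit 3) (Steps.bwd (nat_lit 1) (Steps.bwd (nat_lit 3) (Steps.fwd (nat_lit 8192) (Steps.bwd (nat_lit 2) (Steps.bwd (nat_lit 1) (Steps.bwd (nat_lit 2) (Steps.bwd (nat_lit 1) (Steps.fwd (nat_lit 16384) (Steps.fwd (nat_lit 8192) (Steps.bwd (nat_lit 2) (Steps.fwd (nat_lit 8192) (Steps.bwd (nat_lit 2) (Steps.bwd (nat_lit 1) (Steps.fwd (nat_lit 16384) (Steps.bwd (nat_lit 1) (Steps.bwd (nat_lit 2) (Steps.fwd (nat_lit 8192) (Steps.fwd (nat_lit 24576) (Steps.fwd (nat_lit 8192) (Steps.bwd (nat_lit 3) (Steps.fwd (nat_lit 8192) (Steps.bwd (nat_lit 2) (Steps.fwd (nat_lit 8192) (Steps.fwd (nat_lit 16384) (Steps.bwd (nat_lit 1) (Steps.fwd (nat_lit 16384) (Steps.fwd (nat_lit 8192) (Steps.fwd (nat_lit 24576) (Steps.fwd (nat_lit 8192) (Steps.bwd (nat_lit 3) (Steps.fwd (nat_lit 8192) (Steps.fwd (nat_lit 16384) Steps.nil)))))))))))))))))))))))))))))))))))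 (nat_lit 12) (nat_lit 31),
  Rule.mk (nat_lit 8) (nat_lit 104) (Steps.bwd (nat_lit 1) (Steps.bwd (nat_lit 5) (Steps.fwd (nat_lit 57344) (Steps.fwd (nat_lit 106496) (Steps.fwd (nat_lit 114688) (Steps.bwd (nat_lit 1) Steps.nil)))))) (nat_lit 154) (nat_lit 2),
  Rule.mk (nat_lit 11) (nat_lit 104) (Steps.fwd (nat_lit 8192) (Steps.bwd (nat_lit 6) (Steps.fwd (nat_lit 90112) (Steps.fwd (nat_lit 98304) (Steps.fwd (nat_lit 114688) (Steps.bwd (nat_lit 1) Steps.nil)))))) (nat_lit 160) (nat_lit 2),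
  Rule.mk (nat_lit 10) (nat_lit 134) (Steps.fwd (nat_lit 8192) (Steps.fwd (nat_lit 32768) (Steps.bwd (nat_lit 5) (Steps.fwd (nat_lit 65536) (Steps.bwd (nat_lit 9) (Steps.bwd (nat_lit 11) (Steps.fwd (nat_lit 114688) (Steps.bwd (nat_lit 1) Steps.nil)))))))) (nat_lit 158) (nat_lit 2),
  Rule.mk (nat_lit 7) (nat_lit 164) (Steps.bwd (nat_lit 1) (Steps.bwd (nat_lit 5) (Steps.bwd (nat_lit 6) (Steps.fwd (nat_lit 73728) (Steps.bwd (nat_lit 10) (Steps.fwd (nat_lit 90112) (Steps.bwd (nat_lit 12) (Steps.fwd (nat_lit 106496) (Steps.fwd (nat_lit 114688) (Steps.bwd (nat_lit 1) Steps.nil)))))))))) (nat_lit 152) (nat_lit 2),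
  Rule.mk (nat_lit 12) (nat_lit 164) (Steps.bwd (nat_lit 1) (Steps.bwd (nat_lit 4) (Steps.bwd (nat_lit 5) (Steps.fwd (nat_lit 65536) (Steps.bwd (nat_lit 9) (Steps.fwd (nat_lit 81920) (Steps.fwd (nat_lit 90112) (Steps.fwd (nat_lit 98304) (Steps.fwd (nat_lit 114688) (Steps.bwd (nat_lit 1) Steps.nil)))))))))) (nat_lit 162) (nat_lit 2)]
noncomputable def R_140 : List (Rule) := [Rule.mk (nat_lit 16) (nat_lit 179) (Steps.bwd (nat_lit 1) (Steps.bwd (nat_lit 3) (Steps.fwd (nat_lit 8192) (Steps.bwd (nat_lit 3) (Steps.fwd (nat_lit 8192) (Steps.fwd (nat_lit 16384) (Steps.bwd (nat_lit 1) (Steps.bwd (nat_lit 2) (Steps.bwd (nat_lit 4) (Steps.fwd (nat_lit 8192) (Steps.bwd (nat_lit 2) Steps.nil))))))))))) (nat_lit 190) (nat_lit 1),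
  Rule.mk (nat_lit 16) (nat_lit 179) (Steps.fwd (nat_lit 8192) (Steps.bwd (nat_lit 3) (Steps.fwd (nat_lit 8192) (Steps.fwd (nat_lit 16384) (Steps.bwd (nat_lit 1) (Steps.fwd (nat_lit 16384) (Steps.fwd (nat_lit 8192) (Steps.fwd (nat_lit 24576) (Steps.fwd (nat_lit 32768) (Steps.bwd (nat_lit 1) (Steps.bwd (nat_lit 2) Steps.nil))))))))))) (nat_lit 190) (nat_lit 1),
  Rule.mk (nat_lit 0) (nat_lit 194) (Steps.bwd (nat_lit 15) (Steps.bwd (nat_lit 3) (Steps.fwd (nat_lit 8192) (Steps.fwd (nat_lit 32768) (Steps.fwd (nat_lit 16384) (Steps.fwd (nat_lit 8192) (Steps.fwd (nat_lit 24576) (Steps.bwd (nat_lit 1) (Steps.bwd (nat_lit 2) (Steps.fwd (nat_lit 8192) (Steps.bwd (nat_lit 2) (Steps.bwd (nat_lit 1) Steps.nil)))))))))))) (nat_lit 191) (nat_lit 11),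
  Rule.mk (nat_lit 0) (nat_lit 194) (Steps.bwd (nat_lit 15) (Steps.bwd (nat_lit 3) (Steps.bwd (nat_lit 1) (Steps.fwd (nat_lit 32768) (Steps.bwd (nat_lit 3) (Steps.fwd (nat_lit 8192) (Steps.bwd (nat_lit 2) (Steps.fwd (nat_lit 8192) (Steps.fwd (nat_lit 24576) (Steps.bwd (nat_lit 1) (Steps.bwd (nat_lit 2) (Steps.fwd (nat_lit 8192) Steps.nil)))))))))))) (nat_lit 191) (nat_lit 11),
  Rule.mk (nat_lit 15) (nat_lit 179) (Steps.fwd (nat_lit 16384) (Steps.fwd (nat_lit 8192) (Steps.fwd (nat_lit 32768) (Steps.fwd (nat_lit 16384) (Steps.bwd (nat_lit 1) (Steps.bwd (nat_lit 2) (Steps.fwd (nat_lit 8192) (Steps.bwd (nat_lit 2) (Steps.fwd (nat_lit 8192) (Steps.bwd (nat_lit 2) (Steps.bwd (nat_lit 1) Steps.nil))))))))))) (nat_lit 191) (nat_lit 0),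
  Rule.mk (nat_lit 0) (nat_lit 194) (Steps.bwd (nat_lit 3) (Steps.bwd (nat_lit 1) (Steps.bwd (nat_lit 4) (Steps.bwd (nat_lit 3) (Steps.fwd (nat_lit 8192) (Steps.bwd (nat_lit 2) (Steps.fwd (nat_lit 8192) (Steps.bwd (nat_lit 2) (Steps.bwd (nat_lit 1) (Steps.bwd (nat_lit 2) (Steps.bwd (nat_lit 1) (Steps.fwd (nat_lit 131072) Steps.nil)))))))))))) (nat_lit 191) (nat_lit 0),
  Rule.mk (nat_lit 0) (nat_lit 194) (Steps.bwd (nat_lit 15) (Steps.bwd (nat_lit 3) (Steps.fwd (nat_lit 8192) (Steps.fwd (nat_lit 32768) (Steps.fwd (nat_lit 16384) (Steps.fwd (nat_lit 8192) (Steps.bwd (nat_lit 2) (Steps.bwd (nat_lit 1) (Steps.bwd (nat_lit 2) (Steps.bwd (nat_lit 1) (Steps.bwd (nat_lit 2) (Steps.bwd (nat_lit 1) Steps.nil)))))))))))) (nat_lit 191) (nat_lit 11),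
  Rule.mk (nat_lit 0) (nat_lit 194) (Steps.bwd (nat_lit 15) (Steps.bwd (nat_lit 3) (Steps.fwd (nat_lit 8192) (Steps.fwd (nat_lit 32768) (Steps.fwd (nat_lit 16384) (Steps.bwd (nat_lit 1) (Steps.bwd (nat_lit 2) (Steps.bwd (nat_lit 1) (Steps.bwd (nat_lit 2) (Steps.bwd (nat_lit 1) (Steps.fwd (nat_lit 24576) (Steps.fwd (nat_lit 8192) Steps.nil)))))))))))) (nat_lit 191) (nat_lit 11),
  Rule.mk (nat_lit 0) (nat_lit 194) (Steps.bwd (nat_lit 15) (Steps.fwd (nat_lit 16384) (Steps.bwd (nat_lit 1) (Steps.fwd (nat_lit 32768) (Steps.fwd (nat_lit 16384) (Steps.fwd (nat_lit 8192) (Steps.fwd (nat_lit 24576) (Steps.bwd (nat_lit 1) (Steps.fwd (nat_lit 24576) (Steps.bwd (nat_lit 1) (Steps.fwd (nat_lit 24576) (Steps.fwd (nat_lit 8192) Steps.nil)))))))))))) (nat_lit 191) (nat_lit 11),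
  Rule.mk (nat_lit 18) (nat_lit 179) (Steps.bwd (nat_lit 1) (Steps.bwd (nat_lit 3) (Steps.bwd (nat_lit 4) (Steps.fwd (nat_lit 8192) (Steps.bwd (nat_lit 2) (Steps.fwd (nat_lit 8192) (Steps.bwd (nat_lit 2) (Steps.bwd (nat_lit 1) (Steps.fwd (nat_lit 16384) (Steps.fwd (nat_lit 8192) (Steps.bwd (nat_lit 3) Steps.nil))))))))))) (nat_lit 192) (nat_lit 1),
  Rule.mk (nat_lit 0) (nat_lit 194) (Steps.bwd (nat_lit 18) (Steps.fwd (nat_lit 8192) (Steps.fwd (nat_lit 16384) (Steps.bwd (nat_lit 4) (Steps.fwd (nat_lit 8192) (Steps.bwd (nat_lit 2) (Steps.bwd (nat_lit 1) (Steps.bwd (nat_lit 2) (Steps.bwd (nat_lit 1) (Steps.bwd (nat_lit 3) (Steps.bwd (nat_lit 1) (Steps.bwd (nat_lit 3) Steps.nil)))))))))))) (nat_lit 192) (nat_lit 0),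
  Rule.mk (nat_lit 18) (nat_lit 179) (Steps.fwd (nat_lit 8192) (Steps.bwd (nat_lit 3) (Steps.fwd (nat_lit 32768) (Steps.bwd (nat_lit 1) (Steps.bwd (nat_lit 2) (Steps.bwd (nat_lit 1) (Steps.bwd (nat_lit 2) (Steps.bwd (nat_lit 1) (Steps.fwd (nat_lit 16384) (Steps.bwd (nat_lit 1) (Steps.bwd (nat_lit 3) Steps.nil))))))))))) (nat_lit 192) (nat_lit 1),
  Rule.mk (nat_lit 18) (nat_lit 179) (Steps.bwd (nat_lit 1) (Steps.fwd (nat_lit 16384) (Steps.fwd (nat_lit 32768) (Steps.fwd (nat_lit 8192) (Steps.fwd (nat_lit 24576) (Steps.bwd (nat_lit 1) (Steps.fwd (nat_lit 24576) (Steps.bwd (nat_lit 1) (Steps.fwd (nat_lit 16384) (Steps.bwd (nat_lit 1) (Steps.bwd (nat_lit 3) Steps.nil))))))))))) (nat_lit 192) (nat_lit 1),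
  Rule.mk (nat_lit 17) (nat_lit 179) (Steps.fwd (nat_lit 24576) (Steps.bwd (nat_lit 1) (Steps.fwd (nat_lit 24576) (Steps.fwd (nat_lit 8192) (Steps.bwd (nat_lit 3) (Steps.bwd (nat_lit 1) (Steps.bwd (nat_lit 3) (Steps.bwd (nat_lit 1) (Steps.fwd (nat_lit 32768) (Steps.bwd (nat_lit 2) (Steps.bwd (nat_lit 1) Steps.nil))))))))))) (nat_lit 193) (nat_lit 0),
  Rule.mk (nat_lit 0) (nat_lit 194) (Steps.bwd (nat_lit 18) (Steps.bwd (nat_lit 1) (Steps.fwd (nat_lit 16384) (Steps.bwd (nat_lit 4) (Steps.fwd (nat_lit 8192) (Steps.bwd (nat_lit 2) (Steps.bwd (nat_lit 1) (Steps.fwd (nat_lit 24576) (Steps.bwd (nat_lit 1) (Steps.bwd (nat_lit 3) (Steps.bwd (nat_lit 1) (Steps.fwd (nat_lit 16384) Steps.nil)))))))))))) (nat_lit 192) (nat_lit 0),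
  Rule.mk (nat_lit 0) (nat_lit 194) (Steps.bwd (nat_lit 17) (Steps.bwd (nat_lit 2) (Steps.fwd (nat_lit 8192) (Steps.bwd (nat_lit 2) (Steps.bwd (nat_lit 1) (Steps.fwd (nat_lit 16384) (Steps.fwd (nat_lit 8192) (Steps.bwd (nat_lit 3) (Steps.bwd (nat_lit 1) (Steps.fwd (nat_lit 32768) (Steps.fwd (nat_lit 24576) (Steps.bwd (nat_lit 1) Steps.nil)))))))))))) (nat_lit 193) (nat_lit 11),
  Rule.mk (nat_lit 0) (nat_lit 194) (Steps.bwd (nat_lit 18) (Steps.bwd (nat_lit 1) (Steps.bwd (nat_lit 3) (Steps.fwd (nat_lit 32768) (Steps.bwd (nat_lit 1) (Steps.fwd (nat_lit 24576) (Steps.fwd (nat_lit 8192) (Steps.fwd (nat_lit 24576) (Steps.fwd (nat_lit 8192) (Steps.fwd (nat_lit 16384) (Steps.fwd (nat_lit 8192) (Steps.fwd (nat_lit 16384) Steps.nil)))))))))))) (nat_lit 192) (nat_lit 0),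
  Rule.mk (nat_lit 20) (nat_lit 179) (Steps.fwd (nat_lit 8192) (Steps.bwd (nat_lit 2) (Steps.fwd (nat_lit 8192) (Steps.fwd (nat_lit 24576) (Steps.fwd (nat_lit 8192) (Steps.bwd (nat_lit 3) (Steps.fwd (nat_lit 8192) (Steps.fwd (nat_lit 16384) (Steps.bwd (nat_lit 1) (Steps.fwd (nat_lit 32768) (Steps.bwd (nat_lit 2) Steps.nil))))))))))) (nat_lit 194) (nat_lit 1),
  Rule.mk (nat_lit 0) (nat_lit 194) (Steps.bwd (nat_lit 20) (Steps.fwd (nat_lit 8192) (Steps.bwd (nat_lit 2) (Steps.fwd (nat_lit 8192) (Steps.bwd (nat_lit 2) (Steps.bwd (nat_lit 1) (Steps.fwd (nat_lit 16384) (Steps.fwd (nat_lit 8192) (Steps.bwd (nat_lit 3) (Steps.bwd (nat_lit 1) (Steps.fwd (nat_lit 32768) (Steps.fwd (nat_lit 24576) Steps.nil)))))))))))) (nat_lit 194) (nat_lit 0),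
  Rule.mk (nat_lit 0) (nat_lit 194) (Steps.bwd (nat_lit 20) (Steps.fwd (nat_lit 8192) (Steps.bwd (nat_lit 2) (Steps.bwd (nat_lit 1) (Steps.bwd (nat_lit 2) (Steps.bwd (nat_lit 1) (Steps.bwd (nat_lit 3) (Steps.bwd (nat_lit 1) (Steps.bwd (nat_lit 3) (Steps.fwd (nat_lit 8192) (Steps.bwd (nat_lit 4) (Steps.fwd (nat_lit 24576) Steps.nil)))))))))))) (nat_lit 194) (nat_lit 0),
  Rule.mk (nat_lit 20) (nat_lit 179) (Steps.bwd (nat_lit 1) (Steps.bwd (nat_lit 2) (Steps.bwd (nat_lit 1) (Steps.bwd (nat_lit 2) (Steps.bwd (nat_lit 1) (Steps.fwd (nat_lit 16384) (Steps.bwd (nat_lit 1) (Steps.bwd (nat_lit 3) (Steps.bwd (nat_lit 1) (Steps.fwd (nat_lit 32768) (Steps.fwd (nat_lit 24576) Steps.nil))))))))))) (nat_lit 194) (nat_lit 1),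
  Rule.mk (nat_lit 19) (nat_lit 179) (Steps.bwd (nat_lit 3) (Steps.fwd (nat_lit 32768) (Steps.bwd (nat_lit 1) (Steps.bwd (nat_lit 2) (Steps.fwd (nat_lit 8192) (Steps.bwd (nat_lit 2) (Steps.fwd (nat_lit 8192) (Steps.fwd (nat_lit 16384) (Steps.bwd (nat_lit 1) (Steps.fwd (nat_lit 16384) (Steps.fwd (nat_lit 8192) Steps.nil))))))))))) (nat_lit 195) (nat_lit 0),
  Rule.mk (nat_lit 0) (nat_lit 194) (Steps.bwd (nat_lit 19) (Steps.bwd (nat_lit 3) (Steps.bwd (nat_lit 4) (Steps.fwd (nat_lit 8192) (Steps.bwd (nat_lit 2) (Steps.fwd (nat_lit 8192) (Steps.bwd (nat_lit 2) (Steps.bwd (nat_lit 1) (Steps.fwd (nat_lit 16384) (Steps.fwd (nat_lit 8192) (Steps.bwd (nat_lit 3) (Steps.bwd (nat_lit 1) Steps.nil)))))))))))) (nat_lit 195) (nat_lit 11),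
  Rule.mk (nat_lit 0) (nat_lit 194) (Steps.bwd (nat_lit 20) (Steps.bwd (nat_lit 1) (Steps.fwd (nat_lit 24576) (Steps.fwd (nat_lit 8192) (Steps.fwd (nat_lit 24576) (Steps.fwd (nat_lit 8192) (Steps.fwd (nat_lit 16384) (Steps.fwd (nat_lit 8192) (Steps.fwd (nat_lit 16384) (Steps.bwd (nat_lit 1) (Steps.fwd (nat_lit 32768) (Steps.bwd (nat_lit 2) Steps.nil)))))))))))) (nat_lit 194) (nat_lit 0),
  Rule.mk (nat_lit 0) (nat_lit 194) (Steps.bwd (nat_lit 19) (Steps.bwd (nat_lit 3) (Steps.fwd (nat_lit 32768) (Steps.bwd (nat_lit 1) (Steps.bwd (nat_lit 2) (Steps.bwd (nat_lit 1) (Steps.bwd (nat_lit 2) (Steps.bwd (nat_lit 1) (Steps.fwd (nat_lit 16384) (Steps.bwd (nat_lit 1) (Steps.bwd (nat_lit 3) (Steps.bwd (nat_lit 1) Steps.nil)))))))))))) (nat_lit 195) (nat_lit 11),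
  Rule.mk (nat_lit 15) (nat_lit 179) (Steps.fwd (nat_lit 16384) (Steps.fwd (nat_lit 8192) (Steps.bwd (nat_lit 4) (Steps.fwd (nat_lit 16384) (Steps.fwd (nat_lit 8192) (Steps.fwd (nat_lit 24576) (Steps.bwd (nat_lit 1) (Steps.bwd (nat_lit 2) (Steps.bwd (nat_lit 1) (Steps.fwd (nat_lit 24576) (Steps.bwd (nat_lit 1) Steps.nil))))))))))) (nat_lit 191) (nat_lit 0),
  Rule.mk (nat_lit 16) (nat_lit 179) (Steps.fwd (nat_lit 8192) (Steps.bwd (nat_lit 3) (Steps.bwd (nat_lit 1) (Steps.bwd (nat_lit 3) (Steps.bwd (nat_lit 1) (Steps.fwd (nat_lit 16384) (Steps.bwd (nat_lit 1) (Steps.fwd (nat_lit 24576) (Steps.fwd (nat_lit 32768) (Steps.bwd (nat_lit 1) (Steps.bwd (nat_lit 2) Steps.nil))))))))))) (nat_lit 190) (nat_lit 1),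
  Rule.mk (nat_lit 20) (nat_lit 179) (Steps.fwd (nat_lit 8192) (Steps.fwd (nat_lit 24576) (Steps.fwd (nat_lit 8192) (Steps.bwd (nat_lit 2) (Steps.fwd (nat_lit 8192) (Steps.bwd (nat_lit 3) (Steps.fwd (nat_lit 8192) (Steps.bwd (nat_lit 3) (Steps.bwd (nat_lit 1) (Steps.bwd (nat_lit 4) (Steps.bwd (nat_lit 2) Steps.nil))))))))))) (nat_lit 194) (nat_lit 1),
  Rule.mk (nat_lit 1) (nat_lit 164) (Steps.bwd (nat_lit 12) (Steps.bwd (nat_lit 1) (Steps.bwd (nat_lit 4) (Steps.bwd (nat_lit 5) (Steps.fwd (nat_lit 65536) (Steps.bwd (nat_lit 9) (Steps.fwd (nat_lit 81920) (Steps.fwd (nat_lit 90112) (Steps.fwd (nat_lit 98304) (Steps.bwd (nat_lit 14) Steps.nil)))))))))) (nat_lit 162) (nat_lit 1),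
  Rule.mk (nat_lit 0) (nat_lit 194) (Steps.bwd (nat_lit 16) (Steps.fwd (nat_lit 8192) (Steps.bwd (nat_lit 3) (Steps.bwd (nat_lit 1) (Steps.fwd (nat_lit 16384) (Steps.bwd (nat_lit 1) (Steps.fwd (nat_lit 16384) (Steps.fwd (nat_lit 8192) (Steps.bwd (nat_lit 2) (Steps.fwd (nat_lit 32768) (Steps.fwd (nat_lit 8192) (Steps.bwd (nat_lit 2) Steps.nil)))))))))))) (nat_lit 190) (nat_lit 0),
  Rule.mk (nat_lit 0) (nat_lit 194) (Steps.bwd (nat_lit 16) (Steps.bwd (nat_lit 1) (Steps.fwd (nat_lit 16384) (Steps.bwd (nat_lit 1) (Steps.fwd (nat_lit 16384) (Steps.fwd (nat_lit 8192) (Steps.fwd (nat_lit 16384) (Steps.bwd (nat_lit 1) (Steps.bwd (nat_lit 2) (Steps.bwd (nat_lit 4) (Steps.fwd (nat_lit 8192) (Steps.bwd (nat_lit 2) Steps.nil)))))))))))) (nat_lit 190) (nat_lit 0),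
  Rule.mk (nat_lit 16) (nat_lit 179) (Steps.bwd (nat_lit 1) (Steps.fwd (nat_lit 16384) (Steps.fwd (nat_lit 8192) (Steps.fwd (nat_lit 16384) (Steps.bwd (nat_lit 1) (Steps.fwd (nat_lit 16384) (Steps.fwd (nat_lit 8192) (Steps.bwd (nat_lit 2) (Steps.bwd (nat_lit 4) (Steps.fwd (nat_lit 8192) (Steps.bwd (nat_lit 2) Steps.nil))))))))))) (nat_lit 190) (nat_lit 1),
  Rule.mk (nat_lit 15) (nat_lit 179) (Steps.fwd (nat_lit 16384) (Steps.fwd (nat_lit 8192) (Steps.bwd (nat_lit 4) (Steps.fwd (nat_lit 16384) (Steps.fwd (nat_lit 8192) (Steps.bwd (nat_lit 2) (Steps.bwd (nat_lit 1) (Steps.bwd (nat_lit 2) (Steps.fwd (nat_lit 8192) (Steps.bwd (nat_lit 2) (Steps.bwd (nat_lit 1) Steps.nil))))))))))) (nat_lit 191) (nat_lit 0),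
  Rule.mk (nat_lit 15) (nat_lit 179) (Steps.fwd (nat_lit 16384) (Steps.bwd (nat_lit 1) (Steps.fwd (nat_lit 32768) (Steps.fwd (nat_lit 16384) (Steps.fwd (nat_lit 8192) (Steps.bwd (nat_lit 2) (Steps.bwd (nat_lit 1) (Steps.bwd (nat_lit 2) (Steps.bwd (nat_lit 1) (Steps.bwd (nat_lit 2) (Steps.bwd (nat_lit 1) Steps.nil))))))))))) (nat_lit 191) (nat_lit 0),
  Rule.mk (nat_lit 18) (nat_lit 179) (Steps.bwd (nat_lit 1) (Steps.bwd (nat_lit 3) (Steps.fwd (nat_lit 32768) (Steps.bwd (nat_lit 1) (Steps.fwd (nat_lit 24576) (Steps.fwd (nat_lit 8192) (Steps.fwd (nat_lit 24576) (Steps.bwd (nat_lit 1) (Steps.fwd (nat_lit 16384) (Steps.bwd (nat_lit 1) (Steps.fwd (nat_lit 16384) Steps.nil))))))))))) (nat_lit 192) (nat_lit 1),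
  Rule.mk (nat_lit 0) (nat_lit 194) (Steps.bwd (nat_lit 18) (Steps.fwd (nat_lit 8192) (Steps.bwd (nat_lit 3) (Steps.fwd (nat_lit 32768) (Steps.bwd (nat_lit 1) (Steps.bwd (nat_lit 2) (Steps.fwd (nat_lit 8192) (Steps.bwd (nat_lit 2) (Steps.bwd (nat_lit 1) (Steps.fwd (nat_lit 16384) (Steps.fwd (nat_lit 8192) (Steps.fwd (nat_lit 16384) Steps.nil)))))))))))) (nat_lit 192) (nat_lit 0),
  Rule.mk (nat_lit 18) (nat_lit 179) (Steps.bwd (nat_lit 1) (Steps.fwd (nat_lit 16384) (Steps.bwd (nat_lit 4) (Steps.fwd (nat_lit 8192) (Steps.bwd (nat_lit 2) (Steps.bwd (nat_lit 1) (Steps.bwd (nat_lit 2) (Steps.bwd (nat_lit 1) (Steps.bwd (nat_lit 3) (Steps.fwd (nat_lit 8192) (Steps.fwd (nat_lit 16384) Steps.nil))))))))))) (nat_lit 192) (nat_lit 1),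
  Rule.mk (nat_lit 0) (nat_lit 194) (Steps.bwd (nat_lit 17) (Steps.bwd (nat_lit 2) (Steps.fwd (nat_lit 8192) (Steps.bwd (nat_lit 2) (Steps.fwd (nat_lit 8192) (Steps.bwd (nat_lit 3) (Steps.bwd (nat_lit 1) (Steps.fwd (nat_lit 16384) (Steps.bwd (nat_lit 1) (Steps.fwd (nat_lit 32768) (Steps.fwd (nat_lit 24576) (Steps.fwd (nat_lit 8192) Steps.nil)))))))))))) (nat_lit 193) (nat_lit 11),
  Rule.mk (nat_lit 0) (nat_lit 194) (Steps.bwd (nat_lit 17) (Steps.fwd (nat_lit 24576) (Steps.fwd (nat_lit 8192) (Steps.fwd (nat_lit 24576) (Steps.bwd (nat_lit 1) (Steps.fwd (nat_lit 16384) (Steps.bwd (nat_lit 1) (Steps.fwd (nat_lit 16384) (Steps.fwd (nat_lit 8192) (Steps.bwd (nat_lit 4) (Steps.bwd (nat_lit 2) (Steps.fwd (nat_lit 8192) Steps.nil)))))))))))) (nat_lit 193) (nat_lit 11),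
  Rule.mk (nat_lit 0) (nat_lit 194) (Steps.bwd (nat_lit 3) (Steps.bwd (nat_lit 4) (Steps.fwd (nat_lit 8192) (Steps.bwd (nat_lit 2) (Steps.fwd (nat_lit 8192) (Steps.fwd (nat_lit 24576) (Steps.bwd (nat_lit 1) (Steps.fwd (nat_lit 16384) (Steps.bwd (nat_lit 1) (Steps.fwd (nat_lit 16384) (Steps.bwd (nat_lit 1) (Steps.fwd (nat_lit 163840) Steps.nil)))))))))))) (nat_lit 195) (nat_lit 0),
  Rule.mk (nat_lit 19) (nat_lit 179) (Steps.fwd (nat_lit 16384) (Steps.fwd (nat_lit 32768) (Steps.fwd (nat_lit 8192) (Steps.bwd (nat_lit 2) (Steps.fwd (nat_lit 8192) (Steps.bwd (nat_lit 2) (Steps.fwd (nat_lit 8192) (Steps.bwd (nat_lit 3) (Steps.bwd (nat_lit 1) (Steps.fwd (nat_lit 16384) (Steps.bwd (nat_lit 1) Steps.nil))))))))))) (nat_lit 195) (nat_lit 0),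
  Rule.mk (nat_lit 0) (nat_lit 194) (Steps.bwd (nat_lit 19) (Steps.bwd (nat_lit 3) (Steps.fwd (nat_lit 32768) (Steps.bwd (nat_lit 1) (Steps.fwd (nat_lit 24576) (Steps.fwd (nat_lit 8192) (Steps.fwd (nat_lit 24576) (Steps.bwd (nat_lit 1) (Steps.fwd (nat_lit 16384) (Steps.bwd (nat_lit 1) (Steps.fwd (nat_lit 16384) (Steps.fwd (nat_lit 8192) Steps.nil)))))))))))) (nat_lit 195) (nat_lit 11),
  Rule.mk (nat_lit 19) (nat_lit 179) (Steps.bwd (nat_lit 3) (Steps.fwd (nat_lit 32768) (Steps.bwd (nat_lit 1) (Steps.bwd (nat_lit 2) (Steps.fwd (nat_lit 8192) (Steps.bwd (nat_lit 2) (Steps.bwd (nat_lit 1) (Steps.fwd (nat_lit 16384) (Steps.fwd (nat_lit 8192) (Steps.fwd (nat_lit 16384) (Steps.bwd (nat_lit 1) Steps.nil))))))))))) (nat_lit 195) (nat_lit 0),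
  Rule.mk (nat_lit 3) (nat_lit 539) (Steps.fwd (nat_lit 8192) (Steps.fwd (nat_lit 16384) (Steps.bwd (nat_lit 1) (Steps.bwd (nat_lit 2) (Steps.fwd (nat_lit 8192) (Steps.fwd (nat_lit 16384) (Steps.bwd (nat_lit 1) (Steps.fwd (nat_lit 16384) (Steps.fwd (nat_lit 8192) (Steps.bwd (nat_lit 2) (Steps.bwd (nat_lit 1) (Steps.fwd (nat_lit 16384) (Steps.fwd (nat_lit 8192) (Steps.fwd (nat_lit 16384) (Steps.bwd (nat_lit 1) (Steps.bwd (nat_lit 2) (Steps.fwd (nat_lit 8192) (Steps.bwd (nat_lit 2) (Steps.fwd (nat_lit 8192) (Steps.fwd (nat_lit 16384) (Steps.bwd (nat_lit 1) (Steps.bwd (nat_lit 2) (Steps.fwd (nat_lit 8192) (Steps.bwd (nat_lit 2) (Steps.fwd (nat_lit 8192) (Steps.fwd (nat_lit 16384) (Steps.bwd (nat_lit 1) (Steps.bwd (nat_lit 2) (Steps.fwd (nat_lit 8192) (Steps.bwd (nat_lit 2) (Steps.fwd (nat_lit 8192) (Steps.fwd (nat_lit 16384) (Steps.bwd (nat_lit 1) (Steps.bwd (nat_lit 2) (Steps.fwd (nat_lit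 8192) Steps.nil))))))))))))))))))))))))))))))))))) (nat_lit 12) (nat_lit 22),
  Rule.mk (nat_lit 16) (nat_lit 179) (Steps.fwd (nat_lit 8192) (Steps.fwd (nat_lit 16384) (Steps.bwd (nat_lit 1) (Steps.fwd (nat_lit 16384) (Steps.fwd (nat_lit 8192) (Steps.bwd (nat_lit 3) (Steps.fwd (nat_lit 8192) (Steps.bwd (nat_lit 2) (Steps.fwd (nat_lit 32768) (Steps.fwd (nat_lit 8192) (Steps.bwd (nat_lit 2) Steps.nil))))))))))) (nat_lit 190) (nat_lit 1),
  Rule.mk (nat_lit 16) (nat_lit 179) (Steps.bwd (nat_lit 1) (Steps.fwd (nat_lit 16384) (Steps.fwd (nat_lit 8192) (Steps.bwd (nat_lit 3) (Steps.fwd (nat_lit 8192) (Steps.fwd (nat_lit 16384) (Steps.bwd (nat_lit 1) (Steps.bwd (nat_lit 2) (Steps.fwd (nat_lit 32768) (Steps.bwd (nat_lit 1) (Steps.fwd (nat_lit 24576) Steps.nil))))))))))) (nat_lit 190) (nat_lit 1),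
  Rule.mk (nat_lit 16) (nat_lit 179) (Steps.fwd (nat_lit 8192) (Steps.bwd (nat_lit 3) (Steps.fwd (nat_lit 8192) (Steps.fwd (nat_lit 16384) (Steps.bwd (nat_lit 1) (Steps.fwd (nat_lit 16384) (Steps.fwd (nat_lit 8192) (Steps.bwd (nat_lit 2) (Steps.fwd (nat_lit 32768) (Steps.bwd (nat_lit 1) (Steps.bwd (nat_lit 2) Steps.nil))))))))))) (nat_lit 190) (nat_lit 1),
  Rule.mk (nat_lit 0) (nat_lit 194) (Steps.bwd (nat_lit 15) (Steps.fwd (nat_lit 16384) (Steps.bwd (nat_lit 1) (Steps.fwd (nat_lit 32768) (Steps.bwd (nat_lit 3) (Steps.fwd (nat_lit 8192) (Steps.bwd (nat_lit 2) (Steps.fwd (nat_lit 8192) (Steps.fwd (nat_lit 24576) (Steps.bwd (nat_lit 1) (Steps.bwd (nat_lit 2) (Steps.bwd (nat_lit 1) Steps.nil)))))))))))) (nat_lit 191) (nat_lit 11),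
  Rule.mk (nat_lit 0) (nat_lit 194) (Steps.bwd (nat_lit 18) (Steps.bwd (nat_lit 1) (Steps.fwd (nat_lit 16384) (Steps.fwd (nat_lit 32768) (Steps.bwd (nat_lit 1) (Steps.fwd (nat_lit 24576) (Steps.bwd (nat_lit 1) (Steps.bwd (nat_lit 2) (Steps.fwd (nat_lit 8192) (Steps.bwd (nat_lit 3) (Steps.fwd (nat_lit 8192) (Steps.fwd (nat_lit 16384) Steps.nil)))))))))))) (nat_lit 192) (nat_lit 0),
  Rule.mk (nat_lit 17) (nat_lit 179) (Steps.fwd (nat_lit 24576) (Steps.bwd (nat_lit 1) (Steps.bwd (nat_lit 2) (Steps.fwd (nat_lit 8192) (Steps.bwd (nat_lit 3) (Steps.fwd (nat_lit 8192) (Steps.fwd (nat_lit 16384) (Steps.bwd (nat_lit 1) (Steps.bwd (nat_lit 4) (Steps.fwd (nat_lit 24576) (Steps.bwd (nat_lit 1) Steps.nil))))))))))) (nat_lit 193) (nat_lit 0),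
  Rule.mk (nat_lit 20) (nat_lit 179) (Steps.fwd (nat_lit 8192) (Steps.bwd (nat_lit 2) (Steps.bwd (nat_lit 1) (Steps.fwd (nat_lit 24576) (Steps.bwd (nat_lit 1) (Steps.fwd (nat_lit 16384) (Steps.fwd (nat_lit 8192) (Steps.bwd (nat_lit 3) (Steps.fwd (nat_lit 8192) (Steps.bwd (nat_lit 4) (Steps.bwd (nat_lit 2) Steps.nil))))))))))) (nat_lit 194) (nat_lit 1),
  Rule.mk (nat_lit 20) (nat_lit 179) (Steps.bwd (nat_lit 1) (Steps.fwd (nat_lit 24576) (Steps.bwd (nat_lit 1) (Steps.bwd (nat_lit 2) (Steps.fwd (nat_lit 8192) (Steps.bwd (nat_lit 3) (Steps.fwd (nat_lit 8192) (Steps.fwd (nat_lit 16384) (Steps.bwd (nat_lit 1) (Steps.bwd (nat_lit 4) (Steps.fwd (nat_lit 24576) Steps.nil))))))))))) (nat_lit 194) (nat_lit 1),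
  Rule.mk (nat_lit 18) (nat_lit 179) (Steps.fwd (nat_lit 8192) (Steps.bwd (nat_lit 3) (Steps.fwd (nat_lit 32768) (Steps.fwd (nat_lit 8192) (Steps.bwd (nat_lit 2) (Steps.fwd (nat_lit 8192) (Steps.fwd (nat_lit 24576) (Steps.bwd (nat_lit 1) (Steps.bwd (nat_lit 3) (Steps.bwd (nat_lit 1) (Steps.bwd (nat_lit 3) Steps.nil))))))))))) (nat_lit 192) (nat_lit 1),
  Rule.mk (nat_lit 19) (nat_lit 179) (Steps.bwd (nat_lit 3) (Steps.fwd (nat_lit 32768) (Steps.fwd (nat_lit 8192) (Steps.bwd (nat_lit 2) (Steps.fwd (nat_lit 8192) (Steps.fwd (nat_lit 24576) (Steps.bwd (nat_lit 1) (Steps.bwd (nat_lit 3) (Steps.bwd (nat_lit 1) (Steps.bwd (nat_lit 3) (Steps.fwd (nat_lit 8192) Steps.nil))))))))))) (nat_lit 195) (nat_lit 0),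
  Rule.mk (nat_lit 15) (nat_lit 179) (Steps.fwd (nat_lit 16384) (Steps.fwd (nat_lit 8192) (Steps.bwd (nat_lit 4) (Steps.bwd (nat_lit 3) (Steps.fwd (nat_lit 8192) (Steps.bwd (nat_lit 2) (Steps.bwd (nat_lit 1) (Steps.bwd (nat_lit 2) (Steps.fwd (nat_lit 8192) (Steps.bwd (nat_lit 2) (Steps.bwd (nat_lit 1) Steps.nil))))))))))) (nat_lit 191) (nat_lit 0),
  Rule.mk (nat_lit 20) (nat_lit 179) (Steps.fwd (nat_lit 8192) (Steps.bwd (nat_lit 2) (Steps.bwd (nat_lit 1) (Steps.fwd (nat_lit 24576) (Steps.fwd (nat_lit 8192) (Steps.fwd (nat_lit 16384) (Steps.fwd (nat_lit 8192) (Steps.fwd (nat_lit 16384) (Steps.bwd (nat_lit 1) (Steps.fwd (nat_lit 32768) (Steps.bwd (nat_lit 2) Steps.nil))))))))))) (nat_lit 194) (nat_lit 1),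
  Rule.mk (nat_lit 2) (nat_lit 119) (Steps.bwd (nat_lit 14) (Steps.fwd (nat_lit 16384) (Steps.bwd (nat_lit 5) (Steps.bwd (nat_lit 6) (Steps.bwd (nat_lit 7) (Steps.bwd (nat_lit 12) (Steps.bwd (nat_lit 14) Steps.nil))))))) (nat_lit 188) (nat_lit 1),
  Rule.mk (nat_lit 16) (nat_lit 179) (Steps.fwd (nat_lit 8192) (Steps.bwd (nat_lit 3) (Steps.bwd (nat_lit 1) (Steps.fwd (nat_lit 16384) (Steps.bwd (nat_lit 1) (Steps.bwd (nat_lit 3) (Steps.fwd (nat_lit 8192) (Steps.bwd (nat_lit 2) (Steps.bwd (nat_lit 4) (Steps.bwd (nat_lit 1) (Steps.bwd (nat_lit 2) Steps.nil))))))))))) (nat_lit 190) (nat_lit 1),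
  Rule.mk (nat_lit 0) (nat_lit 194) (Steps.bwd (nat_lit 16) (Steps.bwd (nat_lit 1) (Steps.fwd (nat_lit 16384) (Steps.bwd (nat_lit 1) (Steps.bwd (nat_lit 3) (Steps.bwd (nat_lit 1) (Steps.bwd (nat_lit 3) (Steps.bwd (nat_lit 1) (Steps.bwd (nat_lit 2) (Steps.fwd (nat_lit 32768) (Steps.bwd (nat_lit 1) (Steps.bwd (nat_lit 2) Steps.nil)))))))))))) (nat_lit 190) (nat_lit 0),
  Rule.mk (nat_lit 15) (nat_lit 179) (Steps.bwd (nat_lit 3) (Steps.bwd (nat_lit 1) (Steps.fwd (nat_lit 32768) (Steps.fwd (nat_lit 16384) (Steps.fwd (nat_lit 8192) (Steps.bwd (nat_lit 2) (Steps.bwd (nat_lit 1) (Steps.bwd (nat_lit 2) (Steps.fwd (nat_lit 8192) (Steps.fwd (nat_lit 24576) (Steps.bwd (nat_lit 1) Steps.nil))))))))))) (nat_lit 191) (nat_lit 0),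
  Rule.mk (nat_lit 0) (nat_lit 194) (Steps.fwd (nat_lit 8192) (Steps.bwd (nat_lit 3) (Steps.fwd (nat_lit 8192) (Steps.bwd (nat_lit 3) (Steps.bwd (nat_lit 1) (Steps.fwd (nat_lit 16384) (Steps.fwd (nat_lit 8192) (Steps.fwd (nat_lit 24576) (Steps.bwd (nat_lit 4) (Steps.fwd (nat_lit 8192) (Steps.bwd (nat_lit 2) (Steps.fwd (nat_lit 122880) Steps.nil)))))))))))) (nat_lit 190) (nat_lit 1),
  Rule.mk (nat_lit 17) (nat_lit 179) (Steps.fwd (nat_lit 24576) (Steps.fwd (nat_lit 8192) (Steps.bwd (nat_lit 2) (Steps.fwd (nat_lit 8192) (Steps.fwd (nat_lit 16384) (Steps.fwd (nat_lit 8192) (Steps.bwd (nat_lit 3) (Steps.fwd (nat_lit 8192) (Steps.fwd (nat_lit 32768) (Steps.bwd (nat_lit 2) (Steps.fwd (nat_lit 8192) Steps.nil))))))))))) (nat_lit 193) (nat_lit 0),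
  Rule.mk (nat_lit 17) (nat_lit 179) (Steps.bwd (nat_lit 2) (Steps.bwd (nat_lit 1) (Steps.bwd (nat_lit 2) (Steps.fwd (nat_lit 8192) (Steps.fwd (nat_lit 16384) (Steps.fwd (nat_lit 8192) (Steps.bwd (nat_lit 3) (Steps.bwd (nat_lit 1) (Steps.bwd (nat_lit 4) (Steps.bwd (nat_lit 2) (Steps.fwd (nat_lit 8192) Steps.nil))))))))))) (nat_lit 193) (nat_lit 0),
  Rule.mk (nat_lit 0) (nat_lit 194) (Steps.bwd (nat_lit 2) (Steps.fwd (nat_lit 8192) (Steps.fwd (nat_lit 24576) (Steps.bwd (nat_lit 1) (Steps.bwd (nat_lit 3) (Steps.fwd (nat_lit 8192) (Steps.fwd (nat_lit 16384) (Steps.fwd (nat_lit 8192) (Steps.fwd (nat_lit 32768) (Steps.fwd (nat_lit 24576) (Steps.fwd (nat_lit 8192) (Steps.fwd (nat_lit 147456) Steps.nil)))))))))))) (nat_lit 193) (nat_lit 0)]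
noncomputable def R_141 : List (Rule) := [Rule.mk (nat_lit 0) (nat_lit 194) (Steps.bwd (nat_lit 20) (Steps.fwd (nat_lit 8192) (Steps.bwd (nat_lit 2) (Steps.bwd (nat_lit 1) (Steps.fwd (nat_lit 24576) (Steps.fwd (nat_lit 8192) (Steps.fwd (nat_lit 16384) (Steps.fwd (nat_lit 8192) (Steps.bwd (nat_lit 3) (Steps.bwd (nat_lit 1) (Steps.bwd (nat_lit 4) (Steps.bwd (nat_lit 2) Steps.nil)))))))))))) (nat_lit 194) (nat_lit 0),
  Rule.mk (nat_lit 0) (nat_lit 194) (Steps.bwd (nat_lit 1) (Steps.fwd (nat_lit 24576) (Steps.fwd (nat_lit 8192) (Steps.fwd (nat_lit 24576) (Steps.bwd (nat_lit 1) (Steps.bwd (nat_lit 3) (Steps.fwd (nat_lit 8192) (Steps.fwd (nat_lit 16384) (Steps.fwd (nat_lit 8192) (Steps.fwd (nat_lit 32768) (Steps.fwd (nat_lit 24576) (Steps.fwd (nat_lit 155648) Steps.nil)))))))))))) (nat_lit 194) (nat_lit 1),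
  Rule.mk (nat_lit 0) (nat_lit 194) (Steps.bwd (nat_lit 19) (Steps.bwd (nat_lit 3) (Steps.bwd (nat_lit 4) (Steps.fwd (nat_lit 8192) (Steps.bwd (nat_lit 2) (Steps.fwd (nat_lit 8192) (Steps.fwd (nat_lit 24576) (Steps.fwd (nat_lit 8192) (Steps.fwd (nat_lit 16384) (Steps.fwd (nat_lit 8192) (Steps.bwd (nat_lit 3) (Steps.bwd (nat_lit 1) Steps.nil)))))))))))) (nat_lit 195) (nat_lit 11),
  Rule.mk (nat_lit 0) (nat_lit 194) (Steps.bwd (nat_lit 20) (Steps.bwd (nat_lit 1) (Steps.bwd (nat_lit 2) (Steps.bwd (nat_lit 1) (Steps.fwd (nat_lit 24576) (Steps.fwd (nat_lit 8192) (Steps.bwd (nat_lit 3) (Steps.bwd (nat_lit 1) (Steps.bwd (nat_lit 3) (Steps.bwd (nat_lit 1) (Steps.fwd (nat_lit 32768) (Steps.fwd (nat_lit 24576) Steps.nil)))))))))))) (nat_lit 194) (nat_lit 0),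
  Rule.mk (nat_lit 0) (nat_lit 194) (Steps.bwd (nat_lit 3) (Steps.fwd (nat_lit 8192) (Steps.bwd (nat_lit 4) (Steps.bwd (nat_lit 3) (Steps.fwd (nat_lit 8192) (Steps.fwd (nat_lit 24576) (Steps.bwd (nat_lit 1) (Steps.fwd (nat_lit 24576) (Steps.bwd (nat_lit 1) (Steps.fwd (nat_lit 24576) (Steps.fwd (nat_lit 8192) (Steps.fwd (nat_lit 131072) Steps.nil)))))))))))) (nat_lit 191) (nat_lit 0),
  Rule.mk (nat_lit 0) (nat_lit 194) (Steps.bwd (nat_lit 18) (Steps.fwd (nat_lit 8192) (Steps.bwd (nat_lit 3) (Steps.bwd (nat_lit 4) (Steps.fwd (nat_lit 8192) (Steps.fwd (nat_lit 24576) (Steps.bwd (nat_lit 1) (Steps.fwd (nat_lit 24576) (Steps.bwd (nat_lit 1) (Steps.fwd (nat_lit 16384) (Steps.fwd (nat_lit 8192) (Steps.fwd (nat_lit 16384) Steps.nil)))))))))))) (nat_lit 192) (nat_lit 0),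
  Rule.mk (nat_lit 20) (nat_lit 179) (Steps.fwd (nat_lit 8192) (Steps.bwd (nat_lit 2) (Steps.bwd (nat_lit 1) (Steps.bwd (nat_lit 2) (Steps.fwd (nat_lit 8192) (Steps.bwd (nat_lit 3) (Steps.fwd (nat_lit 8192) (Steps.bwd (nat_lit 3) (Steps.bwd (nat_lit 1) (Steps.fwd (nat_lit 32768) (Steps.fwd (nat_lit 24576) Steps.nil))))))))))) (nat_lit 194) (nat_lit 1),
  Rule.mk (nat_lit 0) (nat_lit 194) (Steps.bwd (nat_lit 15) (Steps.bwd (nat_lit 3) (Steps.fwd (nat_lit 8192) (Steps.fwd (nat_lit 32768) (Steps.bwd (nat_lit 3) (Steps.bwd (nat_lit 1) (Steps.fwd (nat_lit 24576) (Steps.fwd (nat_lit 8192) (Steps.fwd (nat_lit 24576) (Steps.bwd (nat_lit 1) (Steps.bwd (nat_lit 2) (Steps.fwd (nat_lit 8192) Steps.nil)))))))))))) (nat_lit 191) (nat_lit 11),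
  Rule.mk (nat_lit 0) (nat_lit 194) (Steps.bwd (nat_lit 16) (Steps.fwd (nat_lit 8192) (Steps.bwd (nat_lit 3) (Steps.bwd (nat_lit 1) (Steps.bwd (nat_lit 3) (Steps.fwd (nat_lit 8192) (Steps.fwd (nat_lit 16384) (Steps.fwd (nat_lit 8192) (Steps.bwd (nat_lit 2) (Steps.bwd (nat_lit 4) (Steps.bwd (nat_lit 1) (Steps.bwd (nat_lit 2) Steps.nil)))))))))))) (nat_lit 190) (nat_lit 0),
  Rule.mk (nat_lit 0) (nat_lit 194) (Steps.bwd (nat_lit 16) (Steps.bwd (nat_lit 1) (Steps.bwd (nat_lit 3) (Steps.fwd (nat_lit 8192) (Steps.fwd (nat_lit 16384) (Steps.fwd (nat_lit 8192) (Steps.bwd (nat_lit 3) (Steps.bwd (nat_lit 1) (Steps.bwd (nat_lit 2) (Steps.bwd (nat_lit 4) (Steps.fwd (nat_lit 8192) (Steps.bwd (nat_lit 2) Steps.nil)))))))))))) (nat_lit 190) (nat_lit 0),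
  Rule.mk (nat_lit 15) (nat_lit 179) (Steps.bwd (nat_lit 3) (Steps.fwd (nat_lit 8192) (Steps.bwd (nat_lit 4) (Steps.fwd (nat_lit 16384) (Steps.bwd (nat_lit 1) (Steps.fwd (nat_lit 24576) (Steps.fwd (nat_lit 8192) (Steps.fwd (nat_lit 24576) (Steps.fwd (nat_lit 8192) (Steps.bwd (nat_lit 2) (Steps.bwd (nat_lit 1) Steps.nil))))))))))) (nat_lit 191) (nat_lit 0),
  Rule.mk (nat_lit 18) (nat_lit 179) (Steps.fwd (nat_lit 8192) (Steps.bwd (nat_lit 3) (Steps.fwd (nat_lit 32768) (Steps.bwd (nat_lit 1) (Steps.fwd (nat_lit 24576) (Steps.bwd (nat_lit 1) (Steps.fwd (nat_lit 24576) (Steps.bwd (nat_lit 1) (Steps.bwd (nat_lit 3) (Steps.fwd (nat_lit 8192) (Steps.fwd (nat_lit 16384) Steps.nil))))))))))) (nat_lit 192) (nat_lit 1),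
  Rule.mk (nat_lit 0) (nat_lit 194) (Steps.bwd (nat_lit 18) (Steps.bwd (nat_lit 1) (Steps.bwd (nat_lit 3) (Steps.fwd (nat_lit 32768) (Steps.bwd (nat_lit 1) (Steps.bwd (nat_lit 2) (Steps.bwd (nat_lit 1) (Steps.fwd (nat_lit 24576) (Steps.bwd (nat_lit 1) (Steps.fwd (nat_lit 16384) (Steps.bwd (nat_lit 1) (Steps.bwd (nat_lit 3) Steps.nil)))))))))))) (nat_lit 192) (nat_lit 0),
  Rule.mk (nat_lit 17) (nat_lit 179) (Steps.fwd (nat_lit 24576) (Steps.bwd (nat_lit 1) (Steps.bwd (nat_lit 2) (Steps.fwd (nat_lit 8192) (Steps.bwd (nat_lit 3) (Steps.bwd (nat_lit 1) (Steps.bwd (nat_lit 3) (Steps.fwd (nat_lit 8192) (Steps.bwd (nat_lit 4) (Steps.bwd (nat_lit 2) (Steps.bwd (nat_lit 1) Steps.nil))))))))))) (nat_lit 193) (nat_lit 0),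
  Rule.mk (nat_lit 0) (nat_lit 194) (Steps.bwd (nat_lit 18) (Steps.fwd (nat_lit 8192) (Steps.bwd (nat_lit 3) (Steps.bwd (nat_lit 4) (Steps.bwd (nat_lit 1) (Steps.bwd (nat_lit 2) (Steps.bwd (nat_lit 1) (Steps.fwd (nat_lit 24576) (Steps.fwd (nat_lit 8192) (Steps.bwd (nat_lit 3) (Steps.fwd (nat_lit 8192) (Steps.bwd (nat_lit 3) Steps.nil)))))))))))) (nat_lit 192) (nat_lit 0),
  Rule.mk (nat_lit 0) (nat_lit 194) (Steps.fwd (nat_lit 16384) (Steps.fwd (nat_lit 32768) (Steps.bwd (nat_lit 1) (Steps.fwd (nat_lit 24576) (Steps.fwd (nat_lit 8192) (Steps.fwd (nat_lit 24576) (Steps.bwd (nat_lit 1) (Steps.fwd (nat_lit 16384) (Steps.fwd (nat_lit 8192) (Steps.bwd (nat_lit 3) (Steps.bwd (nat_lit 1) (Steps.fwd (nat_lit 163840) Steps.nil)))))))))))) (nat_lit 195) (nat_lit 0),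
  Rule.mk (nat_lit 0) (nat_lit 194) (Steps.bwd (nat_lit 20) (Steps.bwd (nat_lit 1) (Steps.fwd (nat_lit 24576) (Steps.bwd (nat_lit 1) (Steps.fwd (nat_lit 24576) (Steps.bwd (nat_lit 1) (Steps.bwd (nat_lit 3) (Steps.fwd (nat_lit 8192) (Steps.fwd (nat_lit 16384) (Steps.fwd (nat_lit 8192) (Steps.fwd (nat_lit 32768) (Steps.fwd (nat_lit 24576) Steps.nil)))))))))))) (nat_lit 194) (nat_lit 0),
  Rule.mk (nat_lit 0) (nat_lit 194) (Steps.bwd (nat_lit 20) (Steps.bwd (nat_lit 1) (Steps.fwd (nat_lit 24576) (Steps.fwd (nat_lit 8192) (Steps.bwd (nat_lit 2) (Steps.fwd (nat_lit 8192) (Steps.bwd (nat_lit 3) (Steps.fwd (nat_lit 8192) (Steps.fwd (nat_lit 16384) (Steps.fwd (nat_lit 8192) (Steps.bwd (nat_lit 4) (Steps.fwd (nat_lit 24576) Steps.nil)))))))))))) (nat_lit 194) (nat_lit 0),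
  Rule.mk (nat_lit 15) (nat_lit 179) (Steps.bwd (nat_lit 3) (Steps.bwd (nat_lit 1) (Steps.fwd (nat_lit 32768) (Steps.fwd (nat_lit 16384) (Steps.bwd (nat_lit 1) (Steps.bwd (nat_lit 2) (Steps.fwd (nat_lit 8192) (Steps.fwd (nat_lit 24576) (Steps.bwd (nat_lit 1) (Steps.bwd (nat_lit 2) (Steps.bwd (nat_lit 1) Steps.nil))))))))))) (nat_lit 191) (nat_lit 0),
  Rule.mk (nat_lit 17) (nat_lit 179) (Steps.bwd (nat_lit 2) (Steps.bwd (nat_lit 1) (Steps.bwd (nat_lit 2) (Steps.bwd (nat_lit 1) (Steps.bwd (nat_lit 3) (Steps.bwd (nat_lit 1) (Steps.bwd (nat_lit 3) (Steps.fwd (nat_lit 8192) (Steps.fwd (nat_lit 32768) (Steps.bwd (nat_lit 2) (Steps.bwd (nat_lit 1) Steps.nil))))))))))) (nat_lit 193) (nat_lit 0)]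
noncomputable def R : List (List (Rule)) := [R_0, R_1, R_2, R_3, R_4, R_5, R_6, R_7, R_8, R_9, R_10, R_11, R_12, R_13, R_14, R_15, R_16, R_17, R_18, R_19, R_20, R_21, R_22, R_23, R_24, R_25, R_26, R_27, R_28, R_29, R_30, R_31, R_32, R_33, R_34, R_35, R_36, R_37, R_38, R_39, R_40, R_41, R_42, R_43, R_44, R_45, R_46, R_47, R_48, R_49, R_50, R_51, R_52, R_53, R_54, R_55, R_56, R_57, R_58, R_59, R_60, R_61, R_62, R_63, R_64, R_65, R_66, R_67, R_68, R_69, R_70, R_71, R_72, R_73, R_74, R_75, R_76, R_77, R_78, R_79, R_80, R_81, R_82, R_83, R_84, R_85, R_86, R_87, R_88, R_89, R_90, R_91, R_92, R_93, R_94, R_95, R_96, R_97, R_98, R_99, R_100, R_101, R_102, R_103, R_104, R_105, R_106, R_107, R_108, R_109, R_110, R_111, R_112, R_113, R_114, R_115, R_116, R_117, R_118, R_119, R_120, R_121, R_122, R_123, R_124, R_125, R_126, R_127, R_128, R_129, R_130, R_131, R_132, R_133, R_134, R_135, R_136, R_137,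 R_138, R_139, R_140, R_141]
def LW : List Word := [[], [0], [2], [3], [4], [6], [8], [10], [12], [14], [16], [18], [20], [22], [24], [26], [27], [28], [29], [30], [31], [0], [1], [2], [3]]
def par : Par := ⟨13, 5, 18, 31, 8191, 262143, 2147483647⟩
theorem hpar : par.ok := by decide
theorem hR0_0 : lall (ltake (ltake (ltake (R) 65) 35) 19) (fun l => lall l (ruleOK relsH LW par)) = true := by decide +kernel
theorem hR0_1 : lall (ldrop (ltake (ltake (R) 65) 35) 19) (fun l => lall l (ruleOK relsH LW par)) = true := by decide +kernel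
theorem hR0_2 : lall (ltake (ldrop (ltake (R) 65) 35) 15) (fun l => lall l (ruleOK relsH LW par)) = true := by decide +kernel
theorem hR0_3 : lall (ldrop (ldrop (ltake (R) 65) 35) 15) (fun l => lall l (ruleOK relsH LW par)) = true := by decide +kernel
theorem hR0_4 : lall (ltake (ltake (ldrop (R) 65) 38) 19) (fun l => lall l (ruleOK relsH LW par)) = true := by decide +kernel
theorem hR0_5 : lall (ldrop (ltake (ldrop (R) 65) 38) 19) (fun l => lall l (ruleOK relsH LW par)) = true := by decide +kernel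
theorem hR0_6 : lall (ltake (ldrop (ldrop (R) 65) 38) 13) (fun l => lall l (ruleOK relsH LW par)) = true := by decide +kernel
theorem hR0_7 : lall (ltake (ldrop (ldrop (ldrop (R) 65) 38) 13) 13) (fun l => lall l (ruleOK relsH LW par)) = true := by decide +kernel
theorem hR0_8 : lall (ldrop (ldrop (ldrop (ldrop (R) 65) 38) 13) 13) (fun l => lall l (ruleOK relsH LW par)) = true := by decide +kernel
theorem hR0 : lall (R) (fun l => lall l (ruleOK relsH LW par)) = true := (lall_split 65 (lall_split 35 (lall_split 19 hR0_0 hR0_1) (lall_split 15 hR0_2 hR0_3)) (lall_split 38 (lall_split 19 hR0_4 hR0_5) (lall_split 13 hR0_6 (lall_split 13 hR0_7 hR0_8))))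
theorem hR : RulesOK relsH LW par R := rulesOK_of rfl hR0
def cols : List (ℕ × ℕ) := [(8192, 1), (16384, 3), (32768, 4), (40960, 5), (49152, 6), (57344, 7), (65536, 8), (73728, 9), (81920, 10), (90112, 11), (98304, 12), (106496, 13), (114688, 14), (122880, 16), (139264, 18), (155648, 20)]
theorem hcols : lall cols (colOK relsH LW par) = true := by decide +kernel
noncomputable def JS0 : List ℕ := [nat_lit 0x2002401400e10162028400001c20024010800003640080011016003c400001a000040000092002006c80a0000200000c800b0004400401520044004800003000200008fff005c80300011ffe00b000500023ff800e200a00047ff002a3ffc7ff0ffd005080500001ffa00990031ffc3ff4012000200007fe00183ff40020ffc00447fe90011ff800800091ffc3ff400f000200007fe001c3ff48018ffc00347fe80081ff8006000120023ff400b00043ff000a1ffa3ff000900003ff87fe00103ff87ff8006000e00180038006000e00180038ffc001c0000ffd1ff80030ffd00023fec0050006001000180040006001000180041ff800087fd8008000c7fd8ffa000c0010001000400040010001000400040010ffa00000010ff900003fe4001,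
  nat_lit 0x48000900b00dc001100c201601b10160000402803500220004805006840a0000900a00cc001900a2012008002900004024032001e000880480624028804900800c00058001200e01780060002401c02e20180004803005a4020803900600b00030000200a01590130002401402a000e000480280520004802900400a080400012008013900f00024010026200a4010801804a0030000100300908068000200601190170000400c022202c408401380012006010800b0002400800b0042407400f900520084008020200e0008800803e401000090010078800900000280010000200000f10020032400001d0000400000a,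
  nat_lit 0x36000480e8090000880f101d011c8158000203802310290002407001f0086000480e008a001c80e101b0110021000520360218030000c4068042003a000c80d004c001480d1019006c8110002203001f801e0004405c035000a406080b80824078001101600b40110002202a0201017202c405402c2034000880a0056408c001101300d00098002202600d90160004404803f203e0008808806a0000003101900f88091011202001e901b0000403c0340028000880780784044808100f00b08098001201c014801800024034034000e000480680764090000900c00e8001100d201801c80120000402c038,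
  nat_lit 0x206640c8818805840dc001103000d08280002205e0281058000440bc03f2066000c817006a4138001902d0144029905d000640b881680aa4174001902c0134817102d205602a104b000440a805020b2011c82580012054029801b000440a80520048000c814802e40ac815102900b000b80022050018102c0004409c02f2068000881300a00000005805600f80048001204a01f90320002409005100044094812005040c4000102301408188002204602780042048408c036204e0004811009c007c0009021007c00480022042026902f00044080046000440fc8100098014c01d901f012c010003b203c0250000003a00f4049,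
  nat_lit 0x109401340210000103e207a0381083000040f406f00fe4200841800c000240f406e012e01d481e80da002803a903c01b0006107e20f801ec002103c01ac00a80012076035108f000240e80690000423c848108500dc0340003207440e406700ec000481c00cc40fc001103800fc83a8002206e0328000001201fc027000a40dc81b00500188000103501908328005206a0319037206a0048017000040d4062208200600011036000e40d40610004002081a80c040dc0029034017c02d0005206602d800000ae01d805e20b6000081900ba41640001032017082b9033206402d8000009c40c805a000001c402d00b201bc83c9077000040c405820c4000081880ae018002a004d000440c4056,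
  nat_lit 0x28c04b803b20d200d008601300004825810a0028000904a021084c0001209404080022094412401b001a000082480c400380009049020c00280012090034808c000241200822092412082380584238000104702040450000208e04000b3212c025000f8004208e03f80000006411807e20aa007805710aa0160411807d0026005c82300f80008823104501988289050208803d8000009841ac07a211000080018014209c410c079014c004882100b40050826104101e00009049209403b800000140200076208a000481f80164214000903f01d4821103f207c03a0082000640f8073208040fc81f00e44148000103d01c40100000207a0169081000040f4071,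
  nat_lit 0x52000c830811c00c800290610098832000520c001d909c0004417c0932168001082f00a2000405f90bf00ac00000ca00fa049106d0004417009020ba417082d80e40084000905a022400c800120b4030001300044164091002c000882c8120416882c9058023c007800320ae04710ac000a415c023009e000882b011a422400110550230852000320a80288001009e41f802b000001a80310116003c82990520228002800020a20449052000041440460000029000601100268001105002088289050209e01610550002413802921340004827010e4150000904d01380498002209a040105300044130029,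
  nat_lit 0x72001083b007441e40021075007c0018000005604c9088007801d805a10c4000641d00982188000883981004210001107200e0839907220e204b8091000241c4085005c000c8380084023400190700200838907020de0161074000441b804d20f8000883680700238001106d0204838000220d801d907e000441ac03521560008835810041b0835906a00c000c800120d201c0086000241a409620e00008834006e023800110680200834906820ce01600120002419803401100004833010200b4000906500e8852106620ca04a80010000419003820ca0018832012800a000190640240832906420c6047906800044188057,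
  nat_lit 0x84490c8211004f108b0010422009d0002422884400fc42348438012000084380140034845908702700458001210e0481088210e42180720142000084300c002240001086026c85f10c3018002fc0001087210c04d10e200084218082210e421884280584228001908401348510003210601a10900006420804601a6000c841010e4214001908100ec02b0003210001a908b000641fc01f0198000c83f8104420083f907e00c084e000220fa01a1086000441f004621a6000883e012c0114001907b0100841000320f402410cf000641e808020f641e883c80584238001107800e083e800220ee02310ca000841dc087,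
  nat_lit 0x8638000213205800730000426406f011a000084c815e022c000909902b884d10992130012809d000242600ad021a041805d90992130056009f0000425c0ab013a02c887200b10172425c0aa0000022c08c0152022807f1106000642580a80008000c84a806c02b884e1094029c8700000213605300002126434c04c80fb02940080005000843488490148046c04b109100cc84990922122051800e0004424002900240008847808c025004c009a020a000c84781444248001908e015c04d8003211a047110300000508000000a43f007b81010280846908c2116018000d000042280502126000484501220010845908a02540058001211202300ed21e6433c8450001211204f80932114422001d,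
  nat_lit 0x8407f10ae03208748000224e449807a018e03f4000000203180000012029e452c07c80f8031400490ac21560620096000642a80c3215c0010854811c000887e10fd030800080c222060608000018404a805900040004853018042a085390a502fc8530002214a04e80a3002a42900be028c0004852010a004c00110a402f400190a4214605e000f000242880bb000e428c8510114435000090a102e800210a2214205c90d3000a4280064027c000409e8170000009d000502dc89c814822800508055009600024278000016c427400000950152050489f8146028644e40b50010000484e0168000884e109b02cc84f80022136059109b0000021c88f011b027a44e489d013302c486500012134037909b213442640a3,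
  nat_lit 0x26a000486001aa001800090bf013c8a20002217e06a10c0217e42f8097013200688648002217c0698110000042f40be226442f885e8172431800010bc00bc863010b21780690001217a00180d10000000c01c01a0000400d00190162441885d019e004804f10b902a400080150030003002b000442e00ca00fa000885b817442e485c10b702e48620001216c01a10e7000242d405c0040000485a819c001800090b403340118001216801a10b5216842cc0cc218000088598196438400110b301bc85a10b3216405190be000242c403800da0004858816042f400090b0032807c90b1216005c90bc000242bc03800fc01fc00a8006000642bc0c9,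
  nat_lit 0x44a000090d300ac08f000121a604380ca0002434802a22a000088690100031c00110d100ac093803b224c000886881c8048886890d0038c8928000219e03980d802ce433c075219e00040459109220e44180e200e201e888a00a6000443380e1012a000486681c0009000190cd00c80520003219806f90d00006433006001e6000c865812c001486590ca017c0690002219206b90cb219443240de01e6000486401ba034800110c701940000044224006e10df0004431804d014a000886280c8432c0078008218e43140db00064314862009c028c00210c30174870000021ac06d000d219202b800110c20000436086b80320364007800d219002b400090c103608830000218006b801f000243000d6,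
  nat_lit 0xc00081b2036605f48c480c3000e43a80ef000006c403a015246b40db91b40374468c8cf80f6000643980ee228c000887280de439887290e40150889800121c602300be0002438c0ed00a40008871002e44bc00110e2035087190e221c2051910100024380050017600048700160440000110df02248bd803221be06a10f321e4437803d21fc00c486e80a0000800080a90298001800021b807600c4009843ec02500b6016e44a800110db03ac053000121b4070001d000643680382250436886c81d4466006090d902c800a80b921b0074801b0180435c0e8223402780a981540244455486b81ce43608aa90d6025400010d6002801a80b2000600048aa915421ac073116c0088036400210d603948a9800221aa04010d621aa435002c,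
  nat_lit 0x32800321fe06680000106046c05b010005d003d0064000243f810000a8000087e81fe018800190fd018c032800521fa05e9122000a43f00d12258001487d81fc01d087d90fa03f4000118503f00a90003221200d8084010921f207d806302d643e00fa00ce037087b81f2021408310f603a08828033021000000a401f0000087a910e0092021408381ee0000883814703d8002000922540248896800021e8010087981ea025002010f30344001809222560240894000703d0895008f224e0018000910303cc0028000220204e00310212050c0cb000521e0079019c000843bc0d421e043bc877014643cc00190ed00d0038800321d802e111f000643ac04601fe001887581e243b800310ea03c0037800221d2061911a000a43a008e,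
  nat_lit 0x12352032c114000005d00c502260000000911401f800101b200f844a400811a204480008190003008511a500044448035237e000888880ba00000b791e304440b58002222001c11bb2220443c0cc00080008887818c05a80d2910e03a0002807222f004808bd80b4229c00a08870220060802b910d043c031005822180870021224e442c10d00044604008021800040738041042c000011800d80850137000844201090004000089780720074084112e00e046908870014220e08381d602cc4418045231c4648882820c47040b1910404148831105220808200700002440c10322520004881019a0038001110200bc8cd80022202032010e0200016c00211022202081110322044400101,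
  nat_lit 0x4528000912d01708b4000122580281147000644b00df0166000c895809402fc001912b047c06380032254068805f000644a40bb22de000c894023c0028894912800d88dd0004224e040814f0008449805d0108001089280a20008089807e042c010801f0382000c892023a46d8001912302088ce0005224402e007d224444840970126024809611930118448411c0010000c890010a02c8044911f046c00e914a223c08d013801104474005000401e003b810000040ab80ba03088aa91560336009088f111b04648d300030004002088d023004d40031119045c8d50006223002781792232446000602b4000488b80d2033c8b100010004063488b822c0558097813003184458115,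
  nat_lit 0x7840001143043c0f0120d03cc00008a1825848009009157000a00048a182560008007915004a8000005902ce02888b902524564002114104a08a11141228001e91ef000844fc06422a0000089f012e000001d114e049c0288004227a019821e000244f0126038a001089d80c600000448088015c003913b227404a805b000444e40310050000889c007047a80011137017002c8002226e0928022000644d80ca027c000c89a8174000c89b007a024801fc89a824802008ac113401048b3807c226602011a400f844c806600040004089811200ec44c812301920010899019c01bc002113103348b60004226009100b80000000c0060000035c10a1210037c06f409700b922da0908004225e44b8120,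
  nat_lit 0x200ae46b407380e204ec0e2800522b4011919b000a456408700a600148ac009c46f0002915700a88ee800522ac02e800722ac45540a723f400108aa813a01e88aa915404e8080800522a609c91be0004454813802f000148a881c0000403481bc04dc000116f039a09b116d00c2453c125234001c88a700ae4538001914d03c00cc006f229809a800202720280134000204e401380bc000009c806c04cc09a80002292084921700044524064000048e40d8826403f4015800522944520131000c45248a3800603f8000914700ac0d40001228e098002a00024518013036001c48e600880002451812f22a200a407211ff0004451412e228800000fe00e22394021812d,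
  nat_lit 0x122de0508000029209a893a8277051c0a30224247c06488fd916f22dc0a311ad000245b404600040020086818923f445b414501a605c48b600100350000916c00788b6116b00288d4800422d600f005123dc45ac14400ae02f48b50286037c8f59169050802e817822d0074010402f0459c06c000045e801b803900f6098803f01fa045800391660394001916622ca06a121a0008459008200aa00108b1805600008b7916e025c0158227021a044000111620504087000122c2069121600024584062011400048b0028007888b0916004fc03b000122be01f820a0008000c01b808f22be09f11802302457807124a600108af027a02d8002115d04f001a000422b80258186000a456c0df,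
  nat_lit 0x8cf0052003602b8170001249a81502408000090982b4484c072000102ac072000024060ac81790000039015823ca00040c1008e039000001750560903800123c80ab9203000003941560264494000082aa08bc0001201054c0be8002249e05c8001045c478415423f6000011782a608b400092380540140800002ca0a9020000060698151042e00080cf02a00598000818301d80ca920801c046e406e8003053c904000202e405c819e000247dc0c4240a00008fb829c05bc1350150000e00188d5821f248e067014d2324000414c00bc000014b23d2056c10000ae0006000811f125102f8464014a000402bc02f82920004057812d012400011a5043407000a9000645c0148,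
  nat_lit 0x1400411a805949480240234e048821b24dc0018002121102d80b2000003fe4a5c14a018501780b181ff0412083000411a505888d311a5234805181880008468c03902d400148d10056475800191a101509340004234003212610008467c0460002492890b004e00000a080cf05840b60005233a038810f000a46700ba008200148cd81120000935823e047e02f0160049405440aa000623340af91af000646640b9240400108cc0056477c001119703a88d00003232c028000102ba018c15e0000057408502ba0480001119405008cf0002232604892062328464c13f23c400088c90054467000111910144931023a238c008401111910570021804523200ad919a02d8463c089,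
  nat_lit 0x904012504304b0496282dc25ac4b508df02e0044000191be024003f8003237a0788012000646f0125237a46f08dd80e448e000111bb009003e000223740568010000446e402e000c46e88dc8114033000111b803c40c28002236e0928262027247bc0710002236e0b78141000246d80d4031600088da825048308fb91b505b8917010223680310003000046cc02e000048288fa02a8482800111b20350001800223620400184236246c0039028605f88d802da00040bc91af05b0000806f03200b5800000e0486c16a00e000008d682d2064c14782960476031c8d682d0030006311ac02dc00082a505300a3800202ce000011200bf05981260241235401701e203e646a402d,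
  nat_lit 0x850028474007300024a648eb8100000012d122e00f412c807f23d801708e702fe473800191cd002c00180cc01300bf0002024c028807a0002487014801ae000003b0057012008f8079000200008e482fa00008f311c90114000024d00ea0be128c0006472017b251a47208e3803a490c01991c7027000111c8238c09812892516471411a0000000403b02f4000491f91c405e48ef8072000247148e202f000b48e18012487412411c300bc001000123840750000048c00141770052065891d923c02c848980b3021223820bb000005aa0b5896a023224f2470017505a84b4802a9248000047001740000050003891d903aa495c0ec0054248e0b99216000046fc06404c200008df81ae0b0415f023124ee09200aa1207000446fc172000004940cb91c6000646f8171,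
  nat_lit 0x20c6098b031a05f04bec13201dd24f00c48000062c47f406c013c000c8f201ae0004004010424580368910031047a400111e302008f211e323c401e920a0002478406423ca00088f0830047ac00111e0018c08e011b050203fc07f000223c00c391e123c0477c0a3003c00048ef00b804180838126047c00048ef030c479c00111dd02e811d92a605ec4be097c800323ba0c291de23ba477003d001a00088ed80c8009c00111da011897a82f500fc07cc00111da0610006000223b203191e60004476004f0000024404b819c04304a24111007b03e00c1800323b0475c0ea23c800008eb00a0009000211d601b014001ae24ae06c800a11d60608002800323aa0c0800f23b2475018004bc004c8e9820c09808ec11d201108eb91da23a404e800400024744085,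
  nat_lit 0xbe24c447ec18e023e05908fd01064a400b211f901080c5816423f00700001032808c89358192034e4a080e3016006348fc000223ee02b819300aa47d8109003e00bc8fa80e8000090a121300c002a800123e804811f523e847cc18c001200048f9808a0b3092b803c007000048f9831647d000091f20240066831b0638012c8f90314000002491f10104000120c008c093004d000647c00752594000c8f7817447c08f791ee01d0040000223dc04e000b000647b40730506000c8f6000a000000a0110017401f413b23e400088f582f6000c8f591ea056c95f000123d205d0013000447a402704fc00088f400c6000c02091e8021400c91fe23ce04202fe007c47980e0,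
  nat_lit 0x935705904c08165833c06580000343057e0ca92f2000848400b0059c001090781e00634002120e02e89080004241a044920d00004bb815682ac05520aa815381cd06501410005241806a023f0004482c12000ee482c90501d44830000920901400000008045e0c980060186082c040007724100c901d100e8481c0af00000d4899a0332057a0a881910538000490301e24acc000920503289709206240a05c92b200024810038000e00200029205252448100c9018809109018190057494812030018902816e240404e812b03a248040e3253207449000320071c0e911ff0380989800223fe03792a723fe47f802c24e000048fe809a4c3c05191fd063c055021323f801d8007000847f009e,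
  nat_lit 0x248002541a800980014001134a066e0a140e492a9244c0d3800224f804bc1a6000204b0095006a00000989348069406d00f80626002c002922306909b2836400d600049110346011800092210688000805224860d08000009201141a02442488090f81bc488c000121e021c0008000243c041121f246c48780812440000c90f006c000090f001249b8920807300b4000890f033e0c1c01d121e0678918003a243a02180050006487011a00004c900f881f2032600bc19d030e02d805b82242580487090d83380208002121a020801a80042432026806a0002486005c2460000c90b80a00010005000925864b0811092bc2576485c19b247c4bd815082090414485819a006e496407d0209242a0cc804e04104850008000c000003703300af097f12ff00020014197,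
  nat_lit 0x123d247848ec03d24d6000491d806648f491e123b028c934000124740941246000248e402924ca000491c824a00980009238015c931123924700160025000248dc04d019800440020001005248dc1ac248800a091b00360000037002606ac1760002246a0111266000448d0106246e000891983544dbc001123302400898002246402b9233246448c407406d6000491880860448000923002109b60003246004d81e4000648bc17b000c48bc91702b64918001122d02e81738003245a0228088245a48b01262488000c91580220000172037c06f449a81a905be021891500c00008041922905b000c001924500b28001009e0148144,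
  nat_lit 0x495092992520330069821a260c4c1c002125206e80f0800224a20dc82520004494001625e207c098b824503aa000c9280370074c001124f02089818002249c01412ba0004493403803a20900000030000000b9024d06dc95b000500084dcc1a882c5024e0a78925836c00040ef80bd06d40000241269203d023f26104c240b70005249208001f325b405c0002924806d00b88004248e06b12b0000449181b300020400081036400000b4930505dc0b4130326044978002124406c404700052486005800504b40e801d1128924860d8006e00e849081af250a031c92082d8010c03e124005f01921285247e02d926c010c48f804825ee000091f035c0000935008507364e5c128835a0218000923d04949200001247803a926e000248f0128,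
  nat_lit 0x802d046a0e18000005a0be01c2005606a80d7037b04740060002126a24d20e0826c000249a01c0021a000493381fc4c90934126700c095f000124cc01c1269001a006c13701b524cc0df92bd04d8499404024d6001493280de4bd00029264020898e000524c601792bf000a498803824c649889308198010c9d7830626b208cc004926106f8932000524c00d901ef000a497c0b204c4001492f021c0490002925d032c00012a6002418502ce05a2001492e037a497492e125b02e49c1000224b404013420004496402f25f6000892c00684c2c0021258034412e800424ae0690015000049580c800004ca809302c2271a0dfc0be001324b40de012904040838002925506ec982800324a8040130c0006494c02f,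
  nat_lit 0x818d25ea0e9800003d64c401d2264409bc13803e927cc4f9493f03a207fc98a020307d60f9493e83a006541de13e807c849f01cf00020e6c1f1039c00001cd93c80734023928f24fa49f093d927a073099e000024f20e0133a000049e404d04da4cc80938010000249e41cb000602b80da12f7008e49e41ca001a011893c01ae0008952809307240ef131604c64c5c00212770720056133004c44c580019276071c04c000224ea08700dd01b809b40a6000224ea0e3127624ea49d002c021a0004939805e4b64001127302b8086800324e401f80000286048c1c5000849c893882b44ba4000927000a4965800124de0158137000449bc1c4022c0008937020604f4159126e0240966812d24da02b8256268649b015b0000000c13902e605c60c780a2,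
  nat_lit 0xc2c0cc03c2074c001129707800fe8002252c0ef800600044a5406c00004ca00e702da07e09b302b200a8011c94a03bc0100023129303fc9cc0003252603782ff00064a4812826c44a4894880604a880011290017019102ac25200ee839d02f24a3c05f006e4d7494701ae07d002d12a600aa00001dc00000e6c13983b60dc4001128c02f005d928c25160ed002100044a280cd000000649d583b2006c95f9289008800f92bf251008b92c001740d549f603ea06ea0d689ce80000760000821b273602c8000043209e41a003420010942808a0fc80021284075c0f89284250609302e402dc0ecc98e820d25060eb0000033a08509939282075400280032502020837704604a001d4,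
  nat_lit 0x97980062562014832725624ac012026400000957819800009ff016707a89fe800700060800035806a25a04b4495703d20d380d892ad03b416a81a1255802600e3274e4aac0520004080899f009a000421001d20304000141e0600049041e084e0ba800092a807a00af0002254e06b0429054a036006f0005254e0f3822500044a980ad02a800089528122000498692f5079807192e70574001c00312a4079402112b40004001495183c8037c18112a202a495712af006c00e895103c64ac001c92a100181e580e325400f1000600064a7c13a05fa038894f00d20a9c071129d04e49cb8006253a03792de00064a700952710000c94d808e4d34002129a00a494e000425320230001061603741c5,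
  nat_lit 0x9bf81a7259406703c6085050c01ec01a825940f782d827700c781c801a625920f713bc034a4b201b300000f740d201a127784d2803792e200600f6842626e04dbc00312c7057c1bd0003258c06a0007258c4b1404727640008962009a063400192c301709ec00052586055800a25864b0801b04a0000496083d805e400292c0019400000f227e00e9000b25804afc04106ee000c95f015a005400192bd018819a0004257801b932d00084aec06606f4001095d80de4af095d92ba028c9d200032572018833200084ae003402de001095b80b80e2400212b703c41820004256c0f592f700084ad417b076c001095a01e005c400212b302e81b68006256606a1399000c4ac8031,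
  nat_lit 0x141b03824f4400392e407c89ed82fa27a00018971837650a400212e201bc108000225c2051832700064b8002f25c8000c96f808c00001050209034413e800325bc076812f00064b7401500224b7496e0028001c00192dc000413c139225b60a9932c051a4b6801305ea0a3496c81c00a2805b00b7060c0ca00a892d907c499c133725b0018010102904b5c03d01ba054096b00b804e00a712d5025c0dd000425aa05780be00084b500b2278c0010969802c0a1000212d2032c9690002277405d80bc03524d4496912d102e49b4000325a0040031400084b3c02f04fa001096700680074005800c000c4b3c96703e006e00d392cd03440cd81a725980e013b4034e4b2c0d2,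
  nat_lit 0x77e0c6418c031c052a07200e3800125f60fd80de00024be805a0002514814f13b1038c07140f201b4000897c824a103800112f801c4a28800325f003793dd00064bdc1280704000097b005000002130203040417d93cd058e4c5800112f507e818693d20166000897a03f24e309c512f406bc989822125e602f80af03ce4bc807b00024e589cb83f011f024382d100144bc897883ee002097892f00568a30800425de040141700084bb802f2704001097680c84efc00012ec07d8000040c05d6044000725d84bac0bc0596000897501a44df800112e902ec0b4934e028a0524161800525d20fa93ad00084ba0075000e4ba0973826a0b449d793ae2656040800192e707d014083d80076007800392e607cc1fd800325ca05782be00084b9010e,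
  nat_lit 0x400da01bc1f304be0948104146328c80b009d3131402b0a0f01f72626055934401a44c4808103c44e88988807e0adc0fa931001940618002000001b806400c6000020700000cf81aa80240cb89f981e803d25054a0a007300104c34206282a5050a098072000e4c3020500920bbc17380022616102004f000a4c280b70016000c98481fe0b90174037700124c28984840652580af930807741c2015f260e0200003260e4c1806600d0054898280f60c4817082e705cc013800004040000003004d05f8002832506d805280a7930308041fd0157260406304a502ae4c041b20296053098000f00008013930a0800000836a08120c7000028024fd81ff000a000897e80160004000000501be50241fe00004bf097e83fa00101c4933600024bec1fc,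
  nat_lit 0x2098208749e40228045210b8001089001fc216000010c8041842a1090002132b03c49c8800426540f5831200084ca405701684ca4994012800149a8132808381e480b1264e076818801644c9803227fe02c899280a400089c6146602b80008004000610a0000030c02c808c0004001005001fc001c4c88213000802541ff031c000c04a83140560001009502f40bd000126800ea82120000023c04d842202380f781ee04020810139043000064c7421003d64fc019e843128c010682538390263a107800303dc4c7020e29700e3c98d81da05a80b5931a0834000823c04ca106000000ee01e00e8000600042351345018a4c6020b00001144016041411a42121317082400382be262c026007200dc4c54015,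
  nat_lit 0x31c4eb80c8049804fa097c0c204364eb015983ec00060004a679346086800014ab052a0e102fa00044d140bc26ba00089a2038800940011343040c000135c00ec04b007100024d0804d003c00049a0805e05289bd93410468003800026800098002020803fc1360820001c99f81a84d7c003933e02089d28007267a0189449000e4cf002926d4001c99d80684f4c000933a019000a133a267204b93d20432085c014933d267210c840b002c4ce018e0010001499b8274065400b9336046c1968014266a08d00ca00284cd019027f60b8822d8006266810c04ba00104ccc06f00164ccc999012a5028004133101349ce0008266001a134e00064cbc097267a0108a1e83a40112000806b,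
  nat_lit 0x5070000021708c89f60003058a118820400040e4823004240004a598442084800014bd0880a3e000027ce116817c00020fa422f276a000028204500f8800113b508b8a028001276a11202b9000005d422d02f4000018a0458095800213bf087c12c000303da115825800044f5822204b200040f60442096400001e208809e9000404a611501e500064fe822903ca0008132045007940008262089c9e6800004c611313f5000a066c22527e600100c984480490001819a088c12c8002012c1110259000205c022104b200009da04404ec80000253087c187031326920000001819108780008183269010e80010000061821c,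
  nat_lit 0x5ae00000ed0454095800094ec08d8a09800004fc110150d000250542310a080000128045006e8000850208b00dd0000096411380a9000006d4237036600049cc044a1248000003a08b00560001092a11683d90000504c2362a28000c237845412c4001150a08b0248000109fc116824e00000f6423608ca0000286844c0680000846308d49e880000a14119047100024f3c22408c600000ce044c066800094b9088c15700002972110044500085064235088c000c1540452111800102a9089819b8000277e113018100045188234041200041ce844205f0000034508cc1648002040a11202cb00024fbc227,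
  nat_lit 0x28b2000c9d0048207e4001939f07ac9fe0003273c04493f6037000189cf939e09000ac8002273a11f940b00044e7002c27f200089cd80a0031000b800008f800013f803e011d81bf00084e6400b000203dc2008060000003a93a203300539398272e06f030000044e580ae04f000089ca80a20000a36012107141b280a627280378273014c4e4c04627f000e4001045c00009c901f8001c1bd048208f400304be069811e000506f20d60149000853cc14b8476000c25f1531021000104b4095411d0001069a0c38239000012f0266822612ec289050a271601049c484705000000032b08a82560007041611693f1000002ac235,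
  nat_lit 0x23807fe4ee014328e612089db84920cd829c93b601b41c10532276a12404e70a704ed00e8081214689d9821a00049d994580800000800206281238000000401e0246000007100e184050a2c106002113b0091400000740ad0122020300084ebc00b27624ec09d7814605d000193ae08fc11f0003275a09413b200064eb004d03fa000c9d580a005c400193ab0904a178003275409293ad00064ea405703f0000c9d40112137800193a8090c11c0003274e01893a8274e4e98030282400089d2808c137400193a50908a130003274801701c800064e8c091274a4e909d18146137c00113a208fc13d0002274201893fe00044e80050,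
  nat_lit 0x530400213d1009ca42800027a0008000027ce4f9805005670adc144c1cf9485093c052835d03d6001c9e813cf09389e813cf279c05c83b300024f34029283800049e600b852d800113cc0710a0c8004279605d816100084f2c031296800109e50052077c00213c900bc2310004279001a000427904f1c0ea02ba4f209e382180ec000213c601b414b0004278a00b02ce00084f100cb032414cc9e20046032806493c3093428c0519278400d954a2a964f0402a058e14c09e0006a552caa513bf029c2020414001800289df8498527ca4f13be00b00020008277a014153007124ef00342a940e249dd80b852841c313ba025c25c0423277412582fe2a924ee424a,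
  nat_lit 0x141d2838048c0c0018127d012d000427d24fa009c2ac8129c092800327d0029958100124fa00d429fa00289f38250126c9f493e600a0a0b800927ca023000800064f9419e01b200049f2035c12609f213e305e800000d40964a09011c2a4212609f104b050800ae82f205e6124c9f104ae159419013e10958087151927c00eb94f106284f7c033022c54649ef04aa00000e21437095000793e027ba129801827c04f70252028c00489ed8096001800293da094400001f802fe12801f3000e4f640d4286800109ec012a037000213d700b01e5000527ac01493d727ac4f5403d05b400109ea006800081e41430075000002a601b40aa801000084f480d5,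
  nat_lit 0x4023e171819e000215102a285412afe16e02660000156429a017653589fe93fc0544045000227f6038811d00044fe808e27f6075c9fd018006a41b993f9040c0f5833627f005f82ce03ce000009e000000ac0d501fe00100018290067007409fb04ca000c01502230638001002c29160bd0001005a05d004900000098a23842200940d4033c2aec00009f904c8002826113f20874004000100001460ab013f2098c00000090b1c1310008098654fc21200a127e2130856500004fc826000100004aca04be4fc8000056609782c28003001212e80c7000000100ea00000a98025816e02dc228804927fa16002c40000000412e00010000161021c000014cc29e83ec06820d002be158f096c001800027d003013ea00004fa0043,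
  nat_lit 0x75428c957e0a2011b0a9c04690004505c27003c60010a0b805c51c800214160100ab10004282a06b800604cc0a302ca037906b60a0013e941509bc1eb048e0a0a1440226141409b80ee83ab282613681c9081250480ce06e01128a0881760000154000e03a02668524035206a80dd810c02100020a0804d80004a078012075c1d3800103f8000943501340a24138026009ac000009e29de135009c000a503008000105030a05808e0f48001140a00e408a0003281203214d100065020046000006341e804d204f80029407021c0890001280c0d2831900085014051000006e8a4f0198003400614040604a321407280613400030004500826703ec0034a008088157c002940103500039401280004a942500084ffc02b,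
  nat_lit 0x53c15f82fe85fb286413d0001021a57402312ad209800048005286213c832c063450c006005100c68a17812c0a3418d142e00b4150830c285a0b2829829d250b0278062a0c9422884502ab00014a1604ee5560002142b028caa000062854015818d285450a4054294c0014a14008c0004a14151704c8001045a2aa40e4800106ea05b4276000c0014abf01f70010001cae703d0284a13a9538079a509001204920984a11801a00081c183e408300008373094213a000028fa073427308e4550823a04fe2af813e416194c328401391420000e507c07e000e0774ae304e200180ee9481028c00281dd09d60e9800403ba55480300006075ca43018200080d3146f022c0008057286402c800028ee52e81a0,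
  nat_lit 0x51100085124037295a0010a2401220000307818c05ac2bd016b288e062156302d651181570a2c05b0a22812807b80b6944402380258003288808780590000510c00f000201240a4814d03f807ac0f505650b181430000008e5218285008852a82850004288207285df000451000b928bc000ca1f80525650000943e00bc00003a02c3a12b05030b3217e00020003287a142007a29360768aa1943c0a0c000813328ee12a0000028a51e81d2000a000ca1d050403bca1d14390a043020000068a0630344067a50e00001439287614000002a0050dc0c00000109007484fe54ec2d88426084a56180019437286c13f0373000017fc27d286c00001b704f813c40001434091cac10421084416b427f8386000050cc27b00005320259,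
  nat_lit 0x243000851880c001140010a3081680f9c0021460071011b000428be05d94e728be51780bf00005568aac851e0aa413d945d02141f2827b28b8042054a04f0516c28e04ec12b4261855728b8516c28d28b80000a2d02120000a4280ab04ec09d025584c10aaa516828c000c001418883bc0a6e516828b00000c2003f80480c502500449088e0014a2c85140b54002945802ac02a800528ae040949228ae51580932a100014a2a80ca02a800294540144002149f2abc14482cd01f4514c0ed00a003e0a290510004003614510048003800228a0006018001ee513c01700020bcc2ca15e50b3a1438000293a52240cc29360014a26835e1854002944c07740b9144c28960ea015c0008512807c,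
  nat_lit 0x5000328fc00082842a0051f41e20a000a18a3e010853cc128147b0a74a7f007700f4524800085380004aad01b404f0000039d00dc14d81ad001600282a683dc09821300af814780a6826415a5099457b02b994770a6414e9507055a57bca3b05300fa4af7147502a403c844f28e8149823903140618043148e00000ae0000011a01ec13c038e146cae1051f047c5398122031d28e414b809d065213c4287831d28e214b052504785390121031b28e014a8025001000080c2146f0a50190031928dc06b01a12a4251b4293000852f0a5c000c000c0d38236083000101a7019e09a0001034e068c177000052f00d602160008005000904860f2cae703d42c6251a029200001800a33852251c0000800804a253801e505d707a65880290005a0000003835c0014a59016c006800d8a38146f0398000806700ca094000000d851f0092,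
  nat_lit 0x4dc0014a4b83300324a6780fd021c53500000550000822f81140a9c00095a2099a15300002b40567c10c010e07dcb01057b0afc0008a48054a5240a478000002255f02a429240004a4700165314000948e0090a47948e291a03d94c20000523404301ba0000a46804857f82be860603ee0018a47148d0a8c22a063d0ac0158407280e30548001ca4685440034003948c0800ad5948c29160a182e2000c52281422a28000ca448542093c00294880438a740000290e099800205aa07b0132000052fca5f00e501c0097c1ee01ee09442280619092c52142a007b40f60a4204da0ed424a9483040c081062f2906036843b0c5e520810e2c6418bca40819652e407d148001e0a5280b1000a000c31514800a7c001064700a00aa00012ca0015429e,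
  nat_lit 0x1cc0318a560078000804295a40aec1ac8b550568000404294dc015000014c829920d580562cee172c00200052bac52a42b3008c54b013c05212baa52a02b2098a529c0a10006545410e81a2000810d15490550000821a08501588000005000900ce042c0f701ee84aa00005290a5294a30ac025483dc07b608d0a8c00002948528c2af2a2e08d022402b2056c001400300002946157000500065910a6b14a30ab4000058705180a3424904930ab03030004294406894f70008528426d2aca0010a5002065334002149f02eca940004293c091006400d4018802f0518000852782ab29e60018a4e8062557c001949c00f40668005293602e029a000a5268046000406b8ad495a808c014502aa000206b80e683d80140029001d29401194a4c055206acad3949701f00010006292c0b28011001a5254278,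
  nat_lit 0x8138026e092800000e201ac088042654c4af782eb2ac60014a62057e582c29695e7000a5310a61857c0bb800194c20af400294c22982082800b000453042002a680008a6003be5574a6014bf04cc00414c02c9617082e083932b200b94a5f8578012002314be0aec1be02e4297a00a800a006452f00140a7a5920a5e0288035021994bb06c825585cc29740a105222c8852e406d0986172ca5c01d012942e594b701b00001648087c08c0a9415270ae82ea843f0b4c0018a5b0572535c00214b50200b170004296801794bc000852cc0340b6010f82ed16820cbe0f381e78005296615c167a0432542c0ba80ed000c52c82b729a20010a5881640330a5894b00ad800d8003295e07415940000050800000b859f032c83c8079215a807700ec52b4267,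
  nat_lit 0x3c840700120008a70058e556800294e00928ac8800229be0a114e029be53782a101e20010a6e821c0cec1fd803700145378a6e858c000012e85d8001853702c500440024a6d80c008cca6e14da0750b32800a29b201683400298053400a94db0022175000414d90b10ae415e62ce411b000414d80b0ca6d800429ae125008b29ae53580f900f60014a6a821c0b9400294d4032ca6d800529a603600190b90171435f80000b0800005cb002822882c9011e024004414d10070b2c822a29a003a82dd2a7e533c094004602cca67011c01b800394ce06bc29f000a299a0ee830b000c533005f00185330a658582572000414ca01003368008299206b835d000005080032a66084410680f301e81600002042c019428f,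
  nat_lit 0x2b68000ca7d006056ac00394f900bcad3000229f002a0004005202c81a60006007800e8076000801495a20b40aa1800329ea0f3015e000653d0130004e0010a7982360bf000214f2004c000015603f013e16852d0c0bd400294f10b3ca7914f129e00a194fe000253bc10c2b140008a77021c0004178004b0b3800002f101f201f02ef000a53b01032aac0014a75819c0390a8e042108500000001859a00002130012036005380aa05dc53a8a748598541800114e802c825e94e829ce15b0209000253980cb01005814a730596127825c94e50b2800106ca0de609a00010d70142405e00005b4425d82ee5b401dd95bb2a300014a71059205ac1a5800a000653842c8,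
  nat_lit 0x36406a951301a407895702a2403980d3001000140c195682a2416e063b02e854442db02d805f4a8800ae000c00316420a16122c1ab85b40008002964001bc00080060aa20160000000c5654059000c16902d281ef03e01408a8605b25458018053c0a7c1b20a8585b054d8b7f86e70d8e54282d70002594427e82cc00001bd02930b580cc01992a6002c407395080b5414b849f2dd8032c073950706c40719506002804e85942a0c16a02c02dc054141550d1a1acca8203800b903589503040c14786b22a0406700012a960a5416600840a20b5c8250046454042d3010a0210a8005a458a811794ff077c09d822f29fc08703302ade53f4078065e0014002017b2aa8033ca7e85a20228a9494fc028caaa000429f8051802c001053ec031,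
  nat_lit 0x813808ee1530000027000582e42adc000ca9601ac04f80000142000039d03cf07a205082e3026a0018a9505c404d800415290b84000821908e2112800001a4015c092001e54a0a93818000ac00295260b500b880052a4a13682da000a54901c405e60014a9181a40498002952203340d180052a42091000002da009c1a62ada0020a90006256c8001951f00c00fc00072a3c017811f0006547405c03380018a8e008c0000b7e9521003a0c1816505c05bf0a900019017057341aa0023000a546c2df2aaa555007200e701ee0020a8d05bc0304002151903b408680052a3016e80f5000a545c015034a545ca8b0028546c0d29516036805e81a52a2a0f1151c00465450083,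
  nat_lit 0x1616079e14e039d9749036e06f8aa005e60000ad3153f000c000967e079a0f30b9d8719036806f42f2080e0004a9f01e20c50000953d0bc420200022a7a03795e3000454f023f001054f0a9d80a8000c000953b094818b153e2a741780005000454e80d42d2654e8a9c844a0ff4000953800e000096902a701778268097a54dc2ee000054e02c485da000016d05070a38147c29295360bb016c85062a78000c00015360bac01a15430e0015d82ba0068000654d82ea00d80008a9a843854d8a9a953400c000400012a6601a0065000254cc2e9001a0004a99006e567c00115320ba000115322a62090025a0872596c27d80022a6217381df000254c026200100004a9800c05c3ca98152f0b98a98800a2a5e172813e2d9254b82e1,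
  nat_lit 0x2ab00004aa980725998001155200e000003c0001817d03be0002554424109040004aa801e00f94000955008fcb3380012a9e01c04a10006553c2f908ea000caa700800004b5c800c09fc00005b4004017c05c00002553024108e00004aa581e05b68000954b090cafc80012a9401a0620000255282f52a9e0004aa4819c185c00095490904aa600022a9007805b10004552023f00360008aa380565520aa3954601502d800022a8c17b954c000455142f600005b6c13a85e818d40009544090caa400012a8601586400002550c2f12a8a0004aa100ea5b6413d95420bd400203112a82081800007a209e82f4,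
  nat_lit 0x582416282d805b805c4001156a0c10095156a2ad20519597000255a00502b880010ab497292e4e55a03032b841a74ab381120000ae901b902d805a0000860406f034a956603e423d85212aca086016f0d1255900e90002057cadd035c00000af8697044cab200002ac400f8000058a5588179057e07e8aef80012ac65588301000a558c006015a2ac418015de02b4558406601300018ab084ac0878005156006001ef000a2abe01385070014557803c2b160014aae808808e821d0004079811a1657000609800032c6858d42ff00040f1cb6b025000041e3972606ac00015a9029412300072ab0555c2fe00140008aab05fa003c00115550bf013f80022aa817d95562aaa55500a3,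
  nat_lit 0xac78000079611f165a0000563c22900580038b9405c8000405c162705cc0c0c2a42b2e0000ada86200008ac880430828af000002b1c187958c000205000b9006c000005a061e573400000360538021171e0004187004a0bf4000430d2cc20000ae50456572800005b30898b6f8005027811a958a0006186158a0004185803f0002185003f000018495f9000016bc01e86100850001016d088c00a000102da11086ab000005b422602d20004aba045407dc000000b0898ab8800202e61188006000205d4237000c00000bb844c0210000156d088800000632b2a183806301685ccc352012d000455ac3060bc20b14b04960a000055a8305,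
  nat_lit 0x101dc57a8128000003b8b098634576c00195a1047c0be80032b4006883d50006567c103000e567cacf063203c4003959e094cbe400022b3a18c06e90006567001209ee0aec00005e200080e381ca0b5000082fd06c818b800005fa0c6c10104aa062005e80ba0470566016805ec1c4433a82352b2e102164f046c56580b7000c05bc0f9960a04020c70070062c00140b8966507861000315000805b83ca84e2000c0b515f904a0001016d2e5a0d0800102da5a900c1000057a0b360340000c001158f0bf80e080032b1c18a002300065634313000206f4ac6827a058caf9958c0c480000021010a09980210c0a1970380870f2ed00e58b29158b0c4435d8001005a11995e500020edc22a,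
  nat_lit 0x95bb083c1e703c295ba0c880fd97802b72190800105ec5f303cd041c2b72190161a0f88067400f801c029e000c00215b90c7c1bd95b8028439b8326064e0f041ea83d706ec59d0000863c0004b3a00000318000817d040a00c000002fc062c31d02f20008ada01fc5cb800215b402080a080042b660178415000056c81200002187420a86381bb000115b102782ec00032b600428141000856bc0730292051837b8585000e56bc31b2bde000cad7015e174c00195ad02c8b4d80032b5802d05e2000656ac10e02200550ad580de5efc0a795aa0254b4c014f2b520239782029e56a003d2e76053cad38240000407903ea085605303150000577caef012e577c00215a509280d200052b4808715d9000a568c0cb,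
  nat_lit 0x900065734081010a0004ae6047c004400115cb01380000005010411515cc2b9657280a32b9e0000ae4809a573400095c9015c0d180022b9201895ca2b9257200302c9e0008ae4048458b800115c700b8ae495c82b8e051823700045718243033c0008ae28250000011d804f0ca00de80012b8812095db0002570c125037e0004ae18486576000095c204a00f180012b8419395d50002570403303e40008ae085ee019c00115c000c8000024b059013f824810025f203c5078e2b845704adf864c57d406200022b7e56f832508060008adf02605c8400115bd0c9006100022b78039969e018a032000195bc06f42e415bc2b761919632000256e802f,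
  nat_lit 0x1164402e005180012d665ff40342e360f9cb62067808cc579c32f07345b7caf301bc1180b6e95e502b81e004632bc801d8431085a578c08d03ac595caf1003e000001e07752fb81b54bb501c257d0afa804403c00768b2a800d0014578432e03b40764b2a000c0012578032d2ed80f7caef815c000800395de009415083df2bba02e811f2d70577032c000204400ca03a6003000395db0004b1116812bb4195814c2d02576418e009004a8aec02745ac815915d704e413d02a52bac14e80fe2cf257542392c8e0ac0aea000a59e8095013008de0d6800295d40ca80d880062ba604104fb000c57482432ba65748ae8805857b800295d00134aff00012b9e0fb00010342103812902532d1c19480002c7001ac074,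
  nat_lit 0xc5810b091613000057fc33c2c240000aff85b6584000015ff0ba0b008001000060443d195ff0cec00000020f2813100010f2420782eb83632bfc19d00012d380aa41ae00005a703b7864857f400095fc03fc00097db012819c800004fa01043380bdc194032787610ec00010afd95fa0cdc00016bd010001f441d08420fd60cbcb5c866c5af0122024507300a84b4a95f9039c001087130c60ab415115f80cd415702a12bee04017e32d2657d832300000cc8c2884681388272000800020dccafa86680008072162a09c400016790964b3b82380e7a157caf98666151cb9b95f206bc1fb854f2be20ea17fd069857c024209dc5cccaf7828013602ad95ee035c296055b2bda04883b0000014d83320a6a14cc2958000075219880000006004800303f85bb415e96920584166c330,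
  nat_lit 0x1872083a586c06f082e5c04b0d010409c420d16190134be1841b2c3001797dd082e585c0382dfe5bf8b0b01980f901f3161507d81f280092c2a1a1056a000e58501ae03d40020b09865607d00021612054c43d96122c2207197ca000e58401390fbe001cb078026000c0f187bc0e6017f834100045a0cb4205fe000001600140f6cb79014402900ab8b0606800774432160b0a3c04b08532c140ab97c310b4582433f0fac61e0b040318122043b9607030c00116a22cea59d00e087b80cf800096a1051605c80000a1014300a3036a06c8b02008208ac3079603019c23f066f2c0401b87770dda58040d70db05ee8b0000f6580000017fe0bf05fb813d027b0d505cf033d,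
  nat_lit 0x2e8c08d0b1b00605e8411b163500bc0df02312c6802a000606500c9c26f011702240d1434600000df42dc846217dc0031632047c40d00072c62136844b000e58c01c408ba001cb1781a45ce0003962e03f818400072c5a06682892c5a58b03452f900a1cb1606565bf4142162b038c00580082c541a20016002458a411a07a20a08b14053a5ab4116962708e40b101612c4c1a180011106200c0bd00002264164042c21e400296240774b4f00052c46031000a2c46588805f2dfe0010b10805a09dc002162000dc0bc00042c3e04898780008587c0ae2f500010b0f010e0fc0002961d00fc17800052c3801a8172000c586c01f,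
  nat_lit 0xb30bf2965203b444918162ca214407dd0e8a59402f601901c34b2780300894c09164e005cb3c80ca0418080cb27069a598c03c964d021c21d82022c9802704c30404592c03f09c25afcb25011806d0b5e9649017406a02002c9002896ae024604901a0849b0d34218c37016480d30007800b2c8e10702452d9a591820907140e18b22827813ec30f964400c8c0406dc2c8600a82172fd0590820d01701b6cb208094000cbf106950d2c62cc45a069600081db0557090400086ca0e581a500000d94132c3490c14183430386080f2a0ce011e963e2c7a1a416c22c7a58f01040c360010b1d84da1360002163a07102f780042c7206900b4000858e00ce05f65c24006000b0c180de01bb96bd2c701a397c2046e58dc031,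
  nat_lit 0x800062cda17d85252f165e28b37000100001ab966c000a00000b8001000b00140006000859ac356004c5a7cb3503c41400080966902143f601012cd000996692d3a599c1900000051c0ed028d038406fc19e969d2d381aa96a802a2599818103ac5e04b3284ac0d7c28b1664060028f05162cc601385100a2c598803c001e001cb3100025cec07e9661078801d00f92cc007185f201ee597c3542cd40180b2f0688118007b965d0468c3d80f72cb809c045701f2596c00500b8017438d06f82dae000035300020c1811502780000b8282f000481889717068a050809f17f10d7c1f90b2c06a4032c06604420c90616cb2b86a25b4413796e40fc0595835001bc5a1406e07e12caa1a782160fc059500b7040e5b2cb2981fe0388b5f01d631466290bfd06a80d48594c34e,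
  nat_lit 0xe045cb4280f8626c08b968400b428601172d06020000300420e3825400045a24b44044a0004010189a0304000001c00440660003000e00182fe85fc2fcc59fc35d0a9418c0bf9060e2cfc16b820a0c1a59f41480c1459f00090006000409e827c3100006835c02c8000cb3d848205c4002167a01d4bee00042cf2065167c000859e01092e88001cb3c04865b4c001967700e4b6180032cec01e97d8000a59d4038000a59d4b3a01d400081ba16d00d6c000837402dc1ad03872ff05fe43460608000859c833006e859c8b38846c17e4001167003a000103772ce017f1672001259bc359008e0130b3706b000001e203780c1cbeb00002cda078060a000059b4038,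
  nat_lit 0x2d440008b4f009a1730001169d00d003600052d3a118169e00165a700570b8e0008b4d81941fd8327064c0010002400006ca5bfc38180010d901f503f2000017d969800021c0c2270d7c000046484642318000864608a448e80000c8c11300010006646c3630000000cb4e04e80000b490642019800080270762609035c16910d880008417323017800000b22009c3610b1e0000b4781e05f30000968f00d000b80052d1e1b00413000e5a382ee2d1c00141588248048c5f3c35f109a242c40806a000125a3435e2e160014b46015e13c8002968b02c800580052d140a116c52d145a242a10ef00010b44021c14500021687032cb8201172d0e05688ae022e5a18062,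
  nat_lit 0x4460014b5a01ae5bec12f815002a61cd800006de0008bd18412012a026439a07350db8000845a08ba05180002f4403542472f421c30386873531a61b3800196b00db4b6f80002d5e05480000348038404600085abcb570114631000096ad0904b5796ae2d5a05c883a00045ab024300005c0cbac06d85c08b8181a12efe0e6827d80032d585aac36b0d840004b5506d41988332081400025aa836911e60004b54847e1a142db97ee2fda16b800196a90da037600002d501b3851500085aa0327007a0010b5386cc16a800216a600f000c00052d4c03000082d4c5a9416c0a1e0010b52048400dc00096a3019c2d580032d4401b800000145c2402c2d465a88b50851e04d400096a00bc42e700022d3e078006d00045a7c23f,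
  nat_lit 0x43006ea10f421ec436073403b20754b6806f665b420416cf0de81db04082d9c036175d000005081952e4814e00018001049009f037905d45ffc2c3025504a200040a2048c0a4c00000e2000035382930de027c17dc09fc1c2038297f701da5bd0b6486ee1c1438217f601d85bccb6406ec12a834b189b00160010b6386ea62e8c8380e92de25b1837401c25bc0b628152000406f8619304c186000406e60000b7700e701b006c063f0c7c1c303e3000d2d861b9004c000e5b0813d052c001cb6081da655800396c004f001f80072d7e1890078000e5af82dd2dbe5af8b5e85361f0400316bc0054c7405530120024804a16bc0dc402100942d76012028d01285ae80ad0e600250b5c80c4009c01316b808ac03780932d6e03e07b901265ad802d010a0aa8c6e80032d6c1b816df00085ad427c,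
  nat_lit 0xc32a0598303c00b40e40004195827c811800000b0172c08c40f081e42ee60528b73870a149cb9316e60e1016f81462dca08317c8028c5b90063003c0518b71835462c00c081820f061e1800196e30e0c49e00032dc410e16e52dc45b8403d00002350259323e130800216e12dc45b8038232a6002cb6f87020bd800396df092828580042dbc08602e700085b740e909820000b6e056c000c17797c40d70157038000040bbc2c705fe0004177871f030800002eb07600d082ec0f7264d011a823701a8033000216d80dfc06300042dae005845f080a103040b194512500020b6b86fc24a800396d60ba01e280032daa018040d2daa5b500cc07820014b69808c0008373063e07620ec808406fa000443103c6078e0f0837c00002180259,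
  nat_lit 0x99ab13642004277871e00004d6896a016400697052e0814782fb000e5c0c0f105680010b8102ae06a4003170105ec31d80062e0003898b2000c5bfc0f001200018b7f0112000415182a205544c405d40266001cb7e871c033c00416fc0350ba900082df6026812c00085be80280b5e0010b7c8070012000316f8014000105ae33341c480012e94064038d000060b0094836e16a04468717114e22a044c8761040c5bd438c2e3a229c44c0760040a5bd038b019e03501459836040a5bcc38a00800808b7905260004089998f0e24000011411800db96f8001a003043d86610b021600c8c16f00e20167077a040407f844a16ef0e1c0cf81a105205e103ac96ee0ae8042089d0fe6223cb7684080290044808711225bb032500702240b75816e0014196181206240c34386,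
  nat_lit 0xca9800d2e420178150001a5c800342e4a0034b8f80b800e0006971e0118cb6891a0fa063b8229971e0e4c2b298122e3a082029706a45c7016a0d301148b8d82061564229171a033842d84522e3205d98f508a45c6011e30ee1808006171900205c6039205845ec4b8b815c66541641716021c45e82c82e2a015032105905c5003500305eb8b89872202b805b97120cb0000844603780e1864230e863dc40b80092e220e404472e225c400f92f520018b8780da1e90003170e04382a000062e1a0659857000c5c3000e0d6800000a100020ae4c5086dc0d6c1c803ad10925c28151057225b0b8480e42324cc51708063029b89792e0e07805f612ac5c18074,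
  nat_lit 0x13e5f50b9e816410dc220173c077c0fc034501fc040000380000e6800002e805d461d4008173b0e6401800102e7403002f600205ce4062009c5ce8b9c00ce0e7c007973700b4c2b800f2e6c02000022e6c5cd406602020038b9a00900000bcc01f50540009000f0bae61b400617330e602ea80062e640879736000c5cc40fa0fec0018b9803720448b98172f0430c7180052e5c0870560000a5cb40e80c320014b96001c618c0f7811602205cb039700385e24b95806c64040e9972a02043b981d32e5201f877503a65ca003a022c0464b93814e0014c0483620e5800003892fce0788bc381030e543ca883511ba0044b9287285f34007172403504c6800e2e4604101e62e485c8802c,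
  nat_lit 0x4000010d83a800060a20bf180e30ea41d381dd00065d480b00f30000cba885e21ce8001975003c0be900032e9e044838400065d3c06f0f42000cba7047e1b88ba7174d0480be780022e98028000600085d302520f401344ba585e00a0c2d2974a005000085a42fa408f174900006340347868c0c541d306db00085d2006f0fe60008ba384860de40001746048000007ec04761d288c213fe67ec4d489a82e8e5d18ba2874812442498086010a0004ba207462684ba297440c8c22480022e860940001010c5d6424986970d281d100022e861fc03f788aa2e841d0843d13445d043a007c025c0ba08642000424417400e7c000048605361cf04810f04658c04080840876000cb9f873a1d6c040008308740008b9f0738042412802e3072c0b2c164044630565cf839b,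
  nat_lit 0x12f801e176c0870c04803a2ed601e85330e2864a43c100052ed61d784730f1a64a03c080042ed41d7078300065da43ad300c0000bb4001a000050a02d5091800497682ece0c0877e00065d98381042a000cbb2820c2858d0a8a10000c5d943ac038c102850780052ec81d588e500065d8c2e82f985d8cbb1007200044c1176d0ea8bf982aa000e0008bb084f26714be517600b98c20820f2ebe016820e081a1ab837b80052ebe1d486f500085d780d42ec60010bae81002358002175c08fcbdb175c2eb602a17e600065d68050000c000cbad04a4005c0ef975904f036e81df2eb0189029903c25d5c0172f600014bab81a85d60bab9756028c25000042eaa12186e900085d50034,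
  nat_lit 0x2f0c5e74bc18018000c00104fd0660000188700400f5179a2f06001400197823234012cbca17952f021de86bf00a45e54bc000000ef0002179700a45e50bbf8776684c027177e0ee8bca05162efc1dc884532d2212000100012efc1dc00512f265df4032000a0008bbe818c1340177977c0edc02e815602a80e6c1cd05b831621250bbe076c005c00a977b031841104882ef41da97a1019c5de406d2f1a61e4bbc00f0000834d17e90ed0000030f03f0c1000022eec0d7069b00045dd432409aa0008bba02360004025178730e60ccc1840766652000317730ba02a400032ee402397732ee45dc4030301c0010bb800561b5838e8725099400003b200021b202a1876200003f9021d0ec03d080012eda17482d400025db002d,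
  nat_lit 0x437f988f070000006f400200ca86fa00045e580f103ba0008bca8482000037482fa047837b00012f2803785f200025e4c23f13b00004bc982d217c400097920c9cd2b80042f24058199d00085e4424100905e44bc8026a17c8107874513a400040000790000cbd2178f0f1c3c780442f1c05788ae008a5e3436300021504453078c00003728046094000400012f161e2838b07e820243b8877533202814000978b0f10bc6178b2f141e18a23346c1bb837880042f14150000200ae07e08b2000000100c62f100004401859e07120e1c34619b211621e1005934b41b78c8580012f0e1e084ec313e1b74c8500002f0c1e0053600025e183bf00140004bc28626691000097850ef800500012f080328a1f09305e103ad,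
  nat_lit 0x42f605ebc03900ca0008bd700c8000050f00430f3ccc297ae2f5a13e006400025eb00d70002077cbd605ca11dc3ec97ab0f38000047503c41e698a800085ea80b702f65ff43c6079600085ea83cc0f26000cbd481a8078000197a808fcbd497a82f4e018046a00045e98050314a000cbd3015a077c00197a50be400780042f48024000008e40c342d408e00014bd180de175c00297a208fcc2700012f4207517a22f425e800970000168810e821f06020c0c3cb0b4c0008bcf82606884001179e02f82e980032f3a1e5063104461bf037d80072f3a1e48703000c5e7006f2f3a5e70bcd81465ff8002979a090c22c80012f3201c800d00025e6003d,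
  nat_lit 0x60b0c1580022f8c000cbe287c4650429881a1033c6090c2f985e00045f143e1064866403e3999200085f103e00374000cbe184c403b4078189a03485f1800007be0000be197c40bfc000801e2f82141057a2f945f003de000007ec00f07ba009000017bf0f70be480002f7e17417c7000600080dc819b2f7e1ed8002000206e00cd019d02bc1ed18ee000c5efcbe017be0f6435b011a2f7a1df17bf00165ef003511160010bde035c670400317bb0d503c700072f7408d994600045ee411a0a7e0008bdc053a0010cb88790105a234c46b07b00004cf405840f5c00001e403ba17c051f0a48231c28d98de02285fccbda87ac0fd0107821100060004bda07aa138009097f22fe25ecc3d4000015e00bd010001f604343d313b86a0c53f000400065ec83d203d00024bd887a21618503896d12d428b051080042f621e81a5200065ec02e8,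
  nat_lit 0x53f981a0b8454d00022fb41f7851f00045f6407c012a000cbec00cc6aa400297d80ba028c00032fae02397d82fae5f5803d3006000cbea80c81e903d607b80a2400003ee00006a8c28987da29fc00117d30ee804980022fa4031800014f801f83ec14f40010be885d0626800117d00190be800002fa01a117cf00006264003000233d004dcbed87d66260002800133ce23602ad801b2f9c1f506d300365f343240000001413b87d25f3400183b407626024be607d0651435a81d0039a0324be587ce001006497ca075c06218052f9201982f3317a0ac000097ca2f921f3026f00005f242db30c60010be487b800000b2981900b4c3003c4078e12e800007ca0000c6d01f812ec0d581aa314003d807997c72f8c1f2185f2f8c5f143e3,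
  nat_lit 0x3328001cbfa00a013c8cc606e80dc20448bfa01921a2008997f30344c4d183d2fe41fd80fd30745fc41c411080444bf801a4222408897ef03f808198382fdc05d872002205fb4122000013301c7838e0218042c3fa0b720004bf607f2605800097eb0bf055c00172fd61d680112fdc5fa804b002c14ccc1780a1013c5fa83f830660e2cbf487b8000037b003d0fdcd5618292fd013e016b01cc5f9c02e00060010bf301ae5f9c00597e501200018097316a0398002818e000804b88b80fd80008097013a10a0000302003803f5012a60dc0b40a5710fc5f843f4016a267cd1d99970b4a5f803f301c42100bef82f215f04891a6d1438020000107e4000c4f3092a341a2488d06807a30061f88002130669ac50d007e00001f80001153a01f43cf,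
  nat_lit 0x2243433c85a8651412e01950320603c403345e1bacc0701a82400374980d04a029a1990301801801900318602c02f33f81ba0c05008c602800205570176001440200200018c04833c0058002180806b85528005300e20080b90002601834432760010c028026000854f80b8100000007550964d230977353a05f0c0187fe2a740be18020fbc0c4185b300216080020300616c14300021c3c54101f20000385868309d0cc58af315f22444d11012030005ffcbff07fc24fcd181a310d0613d000417fd0ff45059a8012a613c800397fc0ff022b1a510e9a001cbfd85ae1d2800317fa052008d17fb2ff40ad0129000c5fe40800600001cbfc0052684000397f700bc44a80072fec01a1915000e5fd4064,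
  nat_lit 0x101d6050c21c04b911de23c040d000003b0d2384be03ac486078a0f182b7c47e8006305020619760f6800200059828304e20583bd000c60980b7002e6098c128526001000008cc02644669b2c0f600010003982410283da80bc30460579a3a01786088367000a0010c10856c0ed405c182001e03d580bc304003780bf309c607c09534b402ecc0f04866128c25981d00bcc3380ba30380321867024416d0075185a303820480073038606c10f009e6164c0d028822a407598191020c0d000530300a1005430aa605c06d30a003a4c0b002c00002ff89e7101c0cf01a20ac0001400098151018c20183f00040000c0a080a0008c30985100b052206c90c6018c437186e500120010c0988080298c719812043cc2f85603022125055a328e604006d,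
  nat_lit 0x13898b1038c62a8c22875669dc184984401bcc2f809630861f1818131ce610802c093e0c1cc20805206f4c52984000bccc28306307e0320421060c60f8046000e239836500ee00180ef81bd10500028923351c071800402040410324000624882ec02b0000848f8b4502100009a591234209800012402ad019312402bb05780060001660e000198361048580859b32f465e4001983510440001b12006e208095500fe60d037a00080208c1980b46220c2598320920001984800ea207800200f42bf427c000201b4c21805a000003b9910103803a184430860010c17039e1f005520b3c037860b83ee00aa624cc1681bc6c080dd982c0ef809b81bb305601d8069037860a8051,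
  nat_lit 0x30400000121f2c000000304e864d0419000409d030103cc11f0001985b090c44a000330b401c18e300066164046000010dc1db061c11c400118580bc4409185830ae04a18de0004615808e08de18d4c2b05ee000840718550030130881030a802518e104ba00041ae000211a431d06b0000012c82541060ca6800230a217a868f0d2813c41b8837000066144417070e6144c28012a0db8001184f08fc000036d321e0dcc28983b406740038006089c11b00f7184e10581b60384309a120826c049e613411f0bb40928c2601780910123184b0fec3cd024d30940e2074b0492612410107660924c240166650012598470488038000400061d8896912d02b384a71a7206106118415,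
  nat_lit 0xd6e0a143602182c306000530f020e9907000c61dc0d433a00018c3b047e10b0001987500e4cba800530e8017987530e861cc0cc0c16183859e1960000020e0000051a10941c032020010c38815e17f800218700d8c2a0000130de15b0004042e124c1e600021d9c1d908360a30002186d01bcd0a000430d811f98a4000861ac034075261acc35012e1b80c9b986a0798003800330d20a983a2326661a03ca01f00e9cc338326000000e186c03441d1800430cc0ad0b30000a619424334c00014c3200686194c321863033013f800430c402800010a0a0e7c2f400002d241270834120000298600d9c44b800530be07418ea000a617806c,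
  nat_lit 0x1892108832002b500860024c49084265a000298910350d5e0005312011f98ef000a623c04d31320014c4700566a54002988d00d0cb7188d311804b83fb07ba62301e2100c106cc4586a80028003988a046801c82aa311203988aa083262200420336000022883cc113c22a8597087e0010000996a1080cb60419310c0ad196832ce62140a313b21064c42047e658ccb2188300a4cb88416310401e8341082e620403431bc063cc4003ec12000000012000ccb78b4b115e22c44bd1ab20b3612fc41f35d6000cc3f04866204001987d00a4c5d800330f801c043430f861ec0cc138e65acc3d8442001c002987a0a8408b996530f2065800013860f7c41e,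
  nat_lit 0x2a30001314e098000033b00048552000a000800018a6108400108f9167416d42da18a610a8000000200080bd00020c0862941790c046290422000423c447788d0314802b07e8314600480021782628c17911de628800a000a00080009a9f35406288429118a62840a10000000416004c40000c9c993a059006bcc500850000000199380b6c00289360f6269203da989f109c083189e00240010004070810000010008015432400000014005051c0014d81989b05e4519989a1088001000532a82130001000a01004080000000807a046c0014d6285740aea172ccef05c81544625c425145a62580a101e000e800088480004081862a108c000010400761300102000e624c00b,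
  nat_lit 0x863001862f00ad00300030c5d80f80000c5f8012000c00080d60cc8c5c80000028c7380c6353e0654c8e0119022c000042e0000001834a00ec62e800098b6002c00a0001316c04018b7316c62d4097317a0000c5a810a62f400018b50208c5e81633172003400098b510b4d4e8003316a06a19b4316a62d0047000066dc00915b413880ae0006000862cc1ac353411d8c590156000046f048d02fcd5c0004316206a063d000862c023f335a0010c57809a630800218ae00e0c7e18ae315a07508da02aa62b41b206700554c5606ce0564c7d18ab0a84c5f0053315400798f7029a6accd5918af315421600020a8662b400398a910ac0020006315012a8549000262a01e6,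
  nat_lit 0x9adf01ce0e2821817fa24f0477800731ac21988ec000c635406f35020018c6a0486002400318d300c4ca6000231a401e9931000a634405c33b60014c6800a0000047401ea0ac447304b6319e0b704cb096c633822300080fb4c6680ce064425a98cc035c013802431960488017349e00000c000000f9c35388640014ce5848300086324431003a000cc6402900000c6381426f2c3f107e00ce80f10c6388601e5c1e298c60c9c23f03c7318a027800200060f2023d0002000cd2a8330000c37907490f1800106a807ba08f00000786004871710fe21c84378897354a219800218c010bcd508003317e03798c7000662f8031318862f8c5e80606468c8d80da000662f4279,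
  nat_lit 0x800000bd2125848909101a1c20298ef000063c000388720004ce718ee0b941df040431da1710000077c673427c337a2d8446e08db000c63b01cb0cbc6960c76013a708832a98eb02f8330865531d40418007000a63a422609d41398c7406881e3032998e7004c1c6838731cc0028002006e647c08081b602802041a7131ca060064d0d9a63902f5006a69b8c71838800b836698e2047800119c90da821c18e1000267204158649349619301c0886e6c402f9056f0ad809ec13e000131c021b040c0000637c2f70812670c2039b251398288c5ad98df10d400201df0b9c1734122024210d000089d3080420819e40944003400398dd0a70de4196131b817304c9043c636c02d03b80878c6d006e04bc0e018d9016cca901ef31b00240003350c00503a5,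
  nat_lit 0xc9080001120cf00002323e226991d00022251925000822619dc0006019844b3244000844a00f6000444900f2000044807ac1278000807c00f4648044700f60000d0188460ae007f010314bc000403e088c2974000007d001803e000100060014e0c880401d403b0000009c000800014b0647803d088a060c0c28833359220d43288419002863fc000088863fc00898fe0228209001231fa22180010798240c36686d014a622119dc31fa63f044133980038c7d82f61bc00000932108cd9d095412ac000c4580880238800108e50a9ccd7093e0c3c709047388e5000423944739c240c3c21f9c2311cc239000088e411cc708c30e893d335a654443e126400004a9084c254446f08e00dac6a04019803200020d0c43d0094000019901700cc4197846b0b54000800908780104001048c09161a2820408760104000848b01a8648c43a,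
  nat_lit 0x1cf86cd0d9c180421b1a0b086e000cc9388ac66780019927115457e8003324c17a820e000664940ce04ae000cc92019a00000cd819710e0e211924324611288ec000664880343356000cc9080c80000c91801400dcc92802800100010c9008a81d10617991f0bb812b09f1323c189800304981f3421f000024f40fc1854020003080043238201991b000201d80158343114ccd000033234016005b0002646402f33f60008c8c00680158029800000a800019f804801b0801a323000acc8b8000322c2140000086200b042434fe199830c8615095c10a800c19160052645445212520f9400580d42828cf400030018043800033f4228842e07cc000045000dc000c44f00d4000844e00c40004449,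
  nat_lit 0x20468cbe8418000025c84550b90190859e07960f3053387070e14228cca108be136c55e8b8a0b2616486221941117826f06480d8e16602cc994011740469c5911422280c9f88b803fc44f993e01f8d6686fc0af616002cd9a7a00200024c9f08b6040cd4e9c0d13f20034c9e858611f4004193c0928009993c32760a1813a000e64e80b20324001cc9c828469f8003993801b434a0007326e08719de000e64d80e834e2001cc9a801c00003f58b6d0b8c000c45a075a0034c9a023e1b3c00299330b50163000532641fd82b6000a64c445913d60014c9803b405e8002992f032023e8006325c091000508fa30580e3000811f416202b0000ccf502b51160001047c1702209800108f805ec04900006888d10851c68841ad835a09a21b90d598438000864a0457,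
  nat_lit 0xdc330c657802f344e6898caf01460f181d4995d090cd0f839032b80239a6f0750656c02b37080ea0cad007068981d419590170000810436ea234009e013a08dc004000432b023380fe34c4655c0d1357013b0cab05ea0a7837e995505a826d0b9532a8091000400e42e500ec369a24443a9800032a6233000001066594041074c35e02329a2900066544242045c6544ca800ce01f4001194f035ccc7006b00160028116194f1190d13022e329c231808e01206534391052a00004c4049610f821d85240438000028508c4133803380000008023410e08c2000023f807403082718008329209e81280008652025208b20010ca388c0020400399460148d248003328a06f80bb000c651004a,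
  nat_lit 0x880d6f0496092669a810c19e132ee23c0640098e0860cf099e032ec23b82803436677810899df32ea23b19da33b207a80bd197410140f581ef03d205e4cb988ea0004001058f0b1c10f0d2a86ca0010ced0289050c001847400060838cee84a800040d98bf810fa109c21485a60000ce301c211ccce29a960008000cceb996e11c810419d632da082017402ea65b0455339605c0cb582aa000cdaa84e709d40bdc0ba017333a6238800033ca09041db33c608e0e279c3b0cf20014cb488e06e88001996803543ec196832ce23780000006275c4dc808618502370003362e65982fe0f421f58cb2861c13a83ec99640bb800081a114920b68000033e1f7846d00ca6920001996332c416b8001378229a055f8bf732f6236196100026918d239c4711acddf805d33040004cb008d40190000195f01cc065800132be03a8006000a6e244d39b8e3318657c469,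
  nat_lit 0x1a330016003800004d31100d5481460292677000083f31200ced8000030415383cd07966974542000202ee23f8a0e0002017402f8143339e23f0a82000001700b802d2000400481706748000000c01a8cc5000233aa05d8000016411f40ba99d4000266240040229045867ec11b03f111f0001088001d217a00010be005dc2fa00001dd816885f070280021985118c3c58004330801d03b60008660c05100022be01dc08f66610cc19982028ce030002330211f9b2a00046600034074e0008cbf80a01364001197f0bc4d93000232fc0781a46000465f4089350c65f8cbe844a6c88000997c00d0d22000132f6028077109a065ec2ee074a1058cbd08f4000cd8c834f11e40010756033c1cf000033ce67a03a5,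
  nat_lit 0x18185124a187430d9c3704a40128487000406140bc800b000a1dbc2dc000206141f7031e000009b811d04c80c101760010000c26f00c5337466a4486013c67540000490000049a02fa349a0bd4cea079624cc17c80a4001866a0cd3890a137000b80a30016669ccd3049c669ccd319a502e4e2b8004334811f852e0008668c04d34560010cd1006867a400019a107d80001c5402da20c0b95000466802f5030a0008ccf83880a24001999e0338e6a0003333c12199e900086674029336a0010cce00562624002199b00d0587801633361b380183336666810c33ca0048ccc85420238009199809204c30013332e074001307922bac19809666a3c0a019d6000e285c5bf8a17000e67580a0090800d4e501ca2157a700c0a18006142c71505be8b37120c1fc01860006060c5c71bb301706ecc5c7018300062410182171a6ec805b9bb2171a0608001018507ee1df8481,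
  nat_lit 0x10a2e1d8c46f00006b54d6a059404ccd7c818c03200020ce3091c0314cf300350006671445c0004009001403c400040180ccf08cc00000330e4002499ca0086002000205603384246855c338200080c5018635e6246003f354010b02ae1b103380245803a01306b7c2bb99bf122801a8576337c0549ae90ab20674d06803b00002448001167201102fa000034801fe065019c400219bb1220047800733740aa99e2000e66e40ce001e66e4cdc017e6b0400099b8001a1e002c50004140033784620004d601abf00f42ef000a336a0d70007000666d009d011a002ccd9823603dc00499b2064c00019b33388123800733c066c420e07ba047ccd804121ae808d19af118009b811e335c16e9ab7023266b400d,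
  nat_lit 0x85960dfc24d80000f4e0d3c111015400140009a1a02d66c7c2f009ef33bc24d0000023a169c2a70248049c00009320004002896708a800000050112047800139e428d051989bd33b424c00a60ff2676429111ac0000422000202102eb02200438236049712c66f2c3d507ae07be6764cec19d7125804105d4043c68f800019d6125410a000133ac03780040006250425d1aa333ac24a02fe07b267544930000697815a01840aa86449b74000a675038518e4000cce987026a64ce999d200404111c3d399231801e219d2124800104ca3990317c1e199d1124463783c233a01d6877c0788673c04a000a1320d6384c46eb826e84df0ba80044ce799ce124042e0140027c001cce688426e2400219cc0894cf78006339601481100008672802b35ac0008ce48240163028705080a0e13e418e1a740080000448f,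
  nat_lit 0x6df4ea11d4339322d1c000895069941171c86390a00004a700060f945a2894c00081f28d6512940009a8734f60ff800007c80ff029d350e0008cfa01fe73f400199f40be457c000333e603e02cc000067c816500002fd04280626288400199f10da8055000033e00aa0000000c029802c00081064cf7827a286c20c99ee0c48d5083421480290400c000112900011a0910f82518001340e00644a200000288d8e011802784f39c1113b867a81b4000867a811d00ee0014d9488fa06c800205e5398017200030bca17a0177000416602da821600041a90235128400019e406a225005e10bcc27d4cf2000433c624f823b197628f0cf1800333c424f009413ba0b98118023133c224e80023402029c49c,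
  nat_lit 0x82ec105a28d851b8aa312e400002ec384025c02cd05d80b941730a9c019c000cd09096e0004e38830612d80000aa601a40818155154e28d051b082c342025a80ca38da2a040a7082c341e24f02ea103c22640049a0f12d02610003341c0f30d81341c68344a510400018d0600e600680031a0b00140001a0c107e1ea03368592366c259800507a868282e507c40f84d04896418983459a080ec41610b96340e258888d3af468184b0002035f0d02895e000400283cd1020000000705720860009196c253c49f8940126a24dc41c1a0312b8de89d5a170e228841a1a0212b405807da38de20d8d0088626f28d00014200081599d4912b000082b104e0255800035040ab44a2055e6aac1a40345159067f44aa000e10102008ac833f825483ec159667ec01e158867e8422,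
  nat_lit 0xa99348007f8aca02f22aac5518007345a25f1c85000c68b006f345a68b0d15814672800029a2a08fc3910005345201c00ed000268a00cc1050722c561001d003800004bd00002a7407701fa2a680011a2602c05758002344a1208691000868900ca3902001cd1200de2ba40039a2308fcdb78002344401c9a75000c688402f37120018d1000700008d9b85410c5cd0f8003038a71e41f383ea12f022d8abb15540c680039a1e12ec5508003343a0a189530008687036734de0010d0d802c1d4cd0d9a1a003c00000dc16560a880dc3756686413c12921710d0c08c0084c1081a1700540008005018e13880000006709424700060ac415a035437a668544ba0e98685000a,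
  nat_lit 0x1ad36ee16f408d8001349026381b00002691c49302322e106528b10161c73044cf8008348e26301b0161a73004cf0007348c262890a3ace691811f1252346cd2281a2307c6899a4405505448d1a34860e01cdd187e69081da16723358d2081900adc5e21a4003f44c91d61347e05f8cd60000004800204647440e888c501a002620000031a077c0f59a97068226184be000868f020903ca0010d1d89841acc0021a3a0c4800c0004347200a9c79349a0030d1d1a391304e4a800534700379a8f000a68dc08238a40014d1b047e68dcd1b1a3500f40168005346802e000434c003ece5b9cb610802601c8e000e68cc1690034001cd1903ae27780039a310c9c320000134601039a5b000e68bc011000228b031f805800b8016c4bf,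
  nat_lit 0x562800334c206d07520008698035416140008d2f83fe22880019a5e00145288a53153006d4000069a00003a588c31334df6000234b81b500140004696c0cd37606ebc330868315a60014d2d89986fa80039a5a08fcd2e800134b20321a5c002070d444a8ac4158c76380010000132c005800635bc0280d3b1a580864040008434ae00044c80994762c04d1a560d084ba809a34aa0008097012c695013a0e9a0264d298794000819d1aed063c6edc1920992000443d02b4078425c8afa39822c0c55d888138500010d28899070980019a5003500eb8003349e041045e0006693823f349e6938d26806021e40011a4d02b40ea8002349804b04590004692c242384a0010d2581a806c00011a4a0208403800034921128000035e1ff8230,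
  nat_lit 0x1a7c03f000602e505d21a70d3d037a7214dee9a7902e4ded1bdb34f00410cd40d3069dc24335120164d3b009a1e0c3259a75015005a80b434e80751b4f080869cc04638c06fbc00001d40018e4f06f008f00028a2b16e00c7000414521b3c4d70006726841d02b000085148ba405e80008a29104620980000de86fac04907480008d35801610141940325360e0c7c2470db134d626b0002395e29ec242048534d426a83a5175469a429300020e885f600ee2370d349a681350d95000434ce2699a69001429bce5a08fd000869a01e71de434ce26903651b1269984d136803690d3289a00f506aa1a64133c1d00de034c61708b470794698c450000427c804606b40e780f09ab803d273084490893000e69884ce,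
  nat_lit 0x1a9335246a440a316ea0004d4804386f5cdea820b03fa0208040800335202738b6f00046a3c45000001704009112672304b709fd16bc2d740019a8e1398e8f0002351a10e01d217b23890f11000013940009a8c00002db45b80bde1b3a36d04e401006a30d4587bc00000401a8b0ed0e15079b385e1e9451f816600106a30d9f1a8b138c0019a8a0024d4500013a40747c5c489a713880000b8e002826004c21c387880f0f80003674270800135100b6c16e0e231c42270009106f2000045000006a14d9b89be0008292029705360dd8d4209bc056c1ba9a830b6c5130a27144c12a8001800703c2737065b88af350626e852035040049dcf3b2428905128a240950000400281df39b432d44dc000000100ef1cd919680aa409482a91158229446d89b600080029b4b07900fa425209b400040021b5f09c400000023ae4123800236900f141f28b7b34fa26c9cd434f82110000082c32f84b836b200200038159015a69ec4d8,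
  nat_lit 0x294862e1aaa07ac4b98a0a35520c602f513466aa00f014e42e5cd53826a2584eb81aa600740020003074a02f405f8b64017402e04f200023154632018503006d784f1077a0020d5200de168c0041aa30870db00005354412180b335446a84054000600081228007354400281cf9b5e13c000000bb002805e83ad36c20e681cd8b51030602e0d639a9f13bc11f825711ba237c5740ae916aa02c4d4f09dc0e680c0018116b4082c5ad00b0353a276839e01626a700ed0b3e02bcd4d871a0ee40019a9b00b81250003353403300003bd403c04ec393e0010d4c85ee0af40011a980b74d6a8000352e00c0000055804943f5056e26605019da43b4a0024d4c1a9613ac3f09cd211440008d4b1a9513a81c803ac0c4a0018d4b1a940a1010a82173a502de40021a9413a44518003352613103ad36a80ea4311000335262741bda00046a480d4,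
  nat_lit 0xde10005358c244030400126b141c408be001cd62020609940019ac30c64d858003358405d8704000c6b0411e000205a025105c800000b4826409cc002000b0ba476bc4f286820d0c2790d5f89f209a4f1a8d900af815f42c59abe13e03199cc1130216242c51abd13dc3598c97179e2a40d5e02f01c104f01abb002000305cf1388706c0b109ec000c1b2036307140010e411b8e0b500013c8a20c81950000387c458853c760cec10ba814160014d5b09ea27a439207283aa8000cd5a89e817204de8a0700066ad0475000428205d29d7f38f01e7c1ad0000255413d078c1680def1ab203c450205a6356209289a90b4c6ac00573a8e1698d5780e21cb82d31aae03c000001a203f02b1076d388c1ddc0010001006600d01d383a813cc2d705ad355804500c307966aac237,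
  nat_lit 0x20e00060008dd081cd00e62801b350b861724e2083a207420f60d6f09fe6e88dd09add02e4dcf1b9f35b8041020407aa6b6c2e80000096057e8b22110022044fe38546b6cd6d02b41f140021ad908fcde6800435b00941b2c00026b5c02b000006b81f4825400140018af804a47094d6b09fa1f0432e1ad50bd423c065c35a80aa8002000024b00a6053a09302b2055000066b4c4fc041c0004d69079406a00009ad10380342000335a21209bea00066b4010900003398edf1e3b1bd00c6418b09f605500011acf008c70b0003359c2518543000a6b34065029c6c60d6689f405d0d8b1acc078870d817735961e502fe02ee6b281393c3a05e0d648084001c0031ac80d0c0001b14362a061018a00126b1c11f,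
  nat_lit 0x43ef86f50d8000007e30dbc23d87dd15c478206839d650002001016d02c735ea285863e04bc6bd050a00020014451094a000000180b101cc002842935e400582d435e20050001113010585090000226c056073c225c67f8c9710ae214c3420637386c0960d778a100140da99b7b05a46bb83e536fa6bb400936fa034405e800600066bb450735da0008d76088670c40f69aeb01c4da69b4c35d403a00d03630001c003018535d428305c403026ba423738800604d7402b6032c0c21ae703c05e59d8a13dc2108421800035ce2828000108a00487c80f8c22ec45d09d413b0000cd728a0819f043708ba1172274c4eb800235c828180ca00026b8c2e838822a846c30d8100046b8c50213ac0004d71075a227c1f09ba8000a0004d710976229411d1ae10edc002820f04721cf006d00006fbc28c0e993d303a7cf4c1e973d2a7368501,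
  nat_lit 0x1c42000e6c4004605681b0001c1b1b006c06d4db480011444d8c9b680000062000303da06a409600046dc829808da00040fa896914400009b0b0af20fe803936306f702098578361424e800400026c2c0061b0907902318457089608b8d848764001ce449b08008c00a06fb360e1268af30e6c6c184a3042a0858d82811a161063700020c34e1a05ac000228789aa1a4600002fb0002002842b0910000000506f60784d8100060ae41e400009b0014381f60dcf3600259078d3c826bfc3b10004193ce7d09280e4a1c84eea0ca11b8e28680010a8a706450c00001938efb8810712c0029afc0358e0d800335f60d99b8335f86bec3e30fc40014d7d048620a80011af900b02b4800235f00661c5300066bdc050,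
  nat_lit 0x376000cd9681ae000032d82520be045f80023658112848900046cac031374e0008d9500c8000024488be08d0011002300500064d94869e0a2000c1b2803581098002372804e000017be0051dbf025204b009e800400bc28b9b9000060048067366e0000d9b0064002228b1b3500006cd419800c40008de5035238b217142d88064366828a9b8600026f240900122027604e051400000d5400a04a8000410401326e48000001216b00009cc606ac094813b36fc07d8de4836a000200643d839881c402f01c54000000642cd00260004ed88bd03b6c1788e298a2600540001db002546d580930a242f280000844004000a8006000427bc1d5000a0004e980132000039201f827b4e4906b1006c0014d8a075270a80031b1308b8dbb800836240149d22000a6c44120,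
  nat_lit 0x206313023402060598002800038fc6d18521004a00000a100020c80ded825a3772290000009483a64150094a040807d810600046d0c51f148e0010da1094606940021b41007c00181240fa6144800110da047c2f800002f243500a3c2f1c6f50a4c0b3c167cda01b3f367c28e9b6e00066cf40ff000025c80678a3834d8d9e9b3c0c8cdca0004367601880eb00086ce806400007ad4f3c0b0a16162c282c700e701d60b14ee00a36252c34e069d1c0c794cd9c8a3410886cb9b380f14dc80596366e1d000e51b2c6cd84af00043c28f7d89451274724051900027bac20a08000000f7684a60fb076e093936661f1894312726cc8038000806e40dd884c00081291d43376e07000018a3000005d886930a04eac8003365e17c9ba200026cb82c1,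
  nat_lit 0x84a436c0147864e094a6d7c4430002001400207030df06d7c5270de86d780a10006000838086f60de81494e38838809422931e9e0eb06d742f10004001cdae019473303831b5b04242f2078336b404700343bd8000852500080714288035c000c0e1002008f000101c417ba1e5000103886e5c073000007103be84246ebc5609b5406cc038885300001ac000036aa784846d36a600201fa9dec174e6d4852402da2e60ee70b9d36a20989baa17386d40003000a0fc85fb817200101849be1095000183f11978118800202746e341d300020fc0e2f01820000e089c3f06ac1f70511037e0004da50408000cf031b4a0a083cf8c5236921b004580322064c0d39c2f00002918001020411e8522,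
  nat_lit 0x1df607be12804719d5f03620010dbd80153d30372053718822ec8efa83de093e2388eaf01b000066de800a0a6c0f7424f08e13aba06bc0011b7900267a586e31df314d400001e70b2a15a82b5841314d00f38cdd1c4c001c0049d6e09786dd8533001075b425d9b75000006c814f189e12dcdba01b43b7425b9b73100404e809f36e41e50152029e6dc41381e6012d8db8000a06f4f9e80000ed000089301c461fb00000974718405d126224e049b8bd91768002cdb79b6d14c80041cb30c0e0014db69b6c14c4000894e120223f43cb02f914c0000094e164475341c0053025345918e673d9839786dd1e8600066da852f03322ed4ef61deb00066da43f236d46da4db40a5c18100009b67098805800ae126024bc5e88bac00066d9c52d3bcc0008db305d0000002f001209e00301ca939500004db28a58185c0001b6414ac0001bd2044c25c02820c8619500021b6401e66e3cdb18a5406a81ec83da033e03b0db10a5209586a58d503cb81ab4329800200021e8000036c40b1016184c138b27168528,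
  nat_lit 0xe8f84c307a835586af3d6e00d0dca069a2f8801a1b930ef80019b933724231802c37306e440350002150c26f0009000a04e82dc0000137c11480ba150426e0007000604e45f09e183c2e00bcdc78a7c0098dca9b8e13b0530802d371a1fc8000378a0048009000805c000e9b8c0064fa3001a371610e0428002a6e28054101a006cdc480b87200dc59b88025c0b380000028000805c1b287ae045e817414f4000005b1b281c69b9600b00024003804d029e1f903811b8514f029b06fd17c02f883831b8414ec0941c8009b8253c3821b831490000017d096430f061f012e02600f90006370429d0bc502d4059c5f01b8c370229c8c87006e6e0022537a800e0dbf8250010001b1b7e00a4dcd003336fa01c01f0006c6df005c000000140090010029c1be836a373000c0538,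
  nat_lit 0x14ece6000010004275c74f0d023e0c0f540118a9a00042a08543398c20c810902110bc02a60000097e12e854b13b60000dd5847e274474b0cfd3e0422b833c800037562a500000ce00050c1339a0040408006380b320030dd61bab37522a4824216322be857b0afa16320908e0d800637546ea45483834090458c0af915ea2be458c024138340014dd48a8e0cb84cc1e0a37566ea8dd48a8c11cc0041ba801bc2fb8008374e10e0343000a6e982433928000cdd2805e70540031ba401406b88000000a2530004000072442639e1d151415e01f403e6798c26a9c96047c09040059ba2151019f9f540a7011e0103820200166e845430a6c11dc103020100146e8006e0bd6186cf3d0014000e6e7c5420470001cdcf01fe00080f88420084226144c30b3603ec00081f21426305c5f909ec187c3301b9c00060030dee0a8207bc5a89b9b150001d063d37341ee8a0b169a6e644b000182d34dcc073e17bc5a71b970f380fa05c9372c28500023c960eb453f,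
  nat_lit 0x377e7ed8ddc8a140e607939bbe0fb42b28f2a377a1710abb3f5a6ef04d001683ee0ddd879c09d45889bbb0a0454e8f2237742ab0a551f4a6ee455b0e903ed0ddc0ab42a74fd69bb7134c32d065815687e98fd69bbc15641350edb37762ac07373e906ee821d0a1e3e5cddc89a218c87d11bb80e7c0549fa9376e1d5000018441d243a5074d37f42ab8a911e046ed85560cba3e78dda86b02a4c7d39bb4126439e1fa437662aa9d110a106f140249bcf0020000007b01d803ac6ecc5540002000007781b40000ddc0004000611f07578df33da615000768aa66edc001800208f63ab86f91ed23c9e0a84dd88aa426984cf84410290052429e1bb41544e27832a3766174047709826ec824337640014dd8825036b03051cb009ee34703c98023000414e46f61e4a1540ec78db01b561824e5784f61a361e4801100010a702a78608395c13d468d07910042000029b8dea3c90041454e,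
  nat_lit 0x26ed074b9fd23fae3f78feb9fd21d2e3f440d78acc3ad87dc09ff13fc0000dd98e961fa81958e96813e159400181a51f961000002034e25144a5000206881bc82b073940d50fcc1d247f34fe90fd93fa47f347491baf15900d28fcb375c0bc800000d007502bb1c8f00322b180691d0e6ecc562033e7af0dd905c46ee07e51bb1157400a0018019873dce7b056f3cf23130fe41bb715840001e3416861cd0ea71d4d0e4e7218e428ac0067c0991d210c943f2cfe50fd13f947f24fe39bb7157c714810902102968f059bbb1578de10fc837742ae823c048a295cf049bba0fb8fac8a9a377210f851f3d586ee005d04a83f10ddb803e0d58fd61bb704f07690a96376c17805b13d506ed40df37763f00dda002e3bc4fa5827d389c18fcddc8ab827e06541bb8133c7688a9d377017b8832194c6edc0183abc3ca8dde874001b87d71bbc12c05259fb137762681bc71f766ee84af,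
  nat_lit 0x6b305960b44001800006ec3588d9a377e27601291ca66ef830d10c23128dde899a1b2c7f29bbc143c5709fea377618a06a93fd06ee831337843facddc89a6259000000021294000014f043c2b5814b0f301e647ee9fe4376e2b51bbf1fce6ed8148376c6ed40a1377c3f94dda803c1f084c09bbb0a0421c8da8377426682be3fb66ee441b37de7f7cddc06286f007f09bb71568ddc1bb702840008fd2001a6f007519fde3fc63fa8ff19fde37882b4800016540050fd000166ef87509fdc3fc23fa0ff09fdc1d426ed8568015a3560ddd85021ac8fea1bba106c3bb9fd8377218a06951fae6ee047a000473bc36500ee00042970550129432d0fdb3fb43f84fed1fd51d346ed80001ced0d982b381b11fa66ed4291376a6ed00a1,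
  nat_lit 0x20774e9b059e0b58126000003be35144ac015070d40621ff11fd8402d0039bb215d0ddd200637621488b8a376000481e240086ec000339147224e3781e303c26ed85733b68305cdda8ac4779c4611bb40e80e0b100337662b91c8d40006ec856e378c4008dd8895e02fcffe9bb015747201bb002843a29bbc10882e985d53a7014f014602891f786ef057138da3ecc7fb8ff83776245006f1ffa6ee857000020a403159d4f0c702b8856f020a7fe8ddf09a20a387fd9bbd15b82b38ff137781d503590ebc6ef0281159a3f3cddd8aac1e60ffa9bba143c3688ff637721ac0aa21fe66ee047b38047ff08019ffc3fee3af0dec80263770000000c0ada00647f51bb700205111bb6028401a0000001004e000102287250e4a816b02d400c856c,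
  nat_lit 0x1e0c3c29bbc1334e23102337762bd070940486ee831416484088ddc86266fb88111bb8134c02e1021377006b1bcf203e6edc1b337c64084dde803c7ae0dde0844000024180142350000800402702410000002400005df0c6e24b046308c815e42ef9dfd11947d2871c902120366ee057837ba4068ddb81ac6ef900c1bb615c00009e313ff43cb83a89da21cc02598000138a279c4f11f6d15dc4e10bf8377406006c50d8c6ee40bc061a1becddc06d479785499bb70fec47a8df4376c22c8b5f20246ed410307dc8040dda01901f290071bb302ec4b31010376409105ce09b4136cff50fd62026403cdd90aec0f54ff48fd520244038dd88aea020c8069bb003585690002000825285b10000000c006,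
  nat_lit 0x1a19a66ec40de02c817b0dd8031e712101f1baf03750198b2c375c2318002011e0d3c1a80d2d0fee775c58500020238e82014600000471fd1089404600b2016614b4f3f8a9215c07a4901c9bab1610e3e1c7101de7bc865b0d351a6c40d4dd50b060eb081a1ba9000c001087f0120106000111023ba8363000008e411d01d026e0f9a8d801d823e84ff41fe91f4e6ec8582113e195432b094e1c103eecdd88b021868dd800121f586e21bb60f141218e313f327b2861d1bb616002f00972376a1498000001a0280eea0b5306a4de42030377417f01ff1f586ee4281049430e4ddc061a2c286c31bb715585990f10376c2ad00011976358869e9dad0e522bf814717286eec281162c8098ddd06c81f510149bb915f80c182d505a80ba40fb000038e22be8142071e0250001000003ea2be02e51f426ef457b,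
  nat_lit 0x9d46789bbd1560e38205d37782b11bce20b66eec55d0608816cddd827e80085a61bba08f8de6105837720289c6c40b06ee43181f582d24ddc05e007cc7e91bb700484710d55376c00c040020a66ed404a17f6293cddd8b1a33486a88d5220a24148ddd8b18380c5269bba0b6c59b8a4c37741df86170cd46ee455b022e0464ddc093272dc10189a20e20771000080021af83ba47548ea4162c10109a10e1e770c00000011af63ba07540ea31c622c500040b3e2158f05885a0e2a2b78d691ad637c45209bb5162500a8a4537681df0051121c6ecc0250c221988dd903d816784801bb1023000181ab035806c82f306660000ddb1bb716200000001035206a805d0b0e000805e809700146ed8dda0b0c17f466b1bb31560e25a04237642b100ba07d66ec439f,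
  nat_lit 0xc7c41e4de205c27a70000084400086880d931b2826444c98b2400046878d921b2629ccde40b22007c7e51bc113b05b6a07637802669ca120e46efc2fc381c41c8ddf09a630bc5399bc30fa4dee907137840910b813f5837845389bc200002c81cf50cb66f0408a3efc29bcde008866f688369bbf02245c40a6d377e26a01d80be26ef849937b041a8dde89a6000c01087350a24fac9f5a1b082990dde0b1e2d0c5341bbb0f4409c9e9e377401d9bd420ca6ee40513b6e1940ddc841c37505321bb80e342d08658376e009091f20c26ed804a0abc8190de105a83d145aa9bc112202fd8fde378008088fa1ac26efc0b30c1e417cddf023c00000e481c63972765458e,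
  nat_lit 0xb968289052902e2046817c13a0b3217288499bc91500578209637901d005e620fe6f1c39f112c39b0de3099e15e8de308440fd07ee9bc6000c00081b5036e102823c1ee616600509d2f0e0e77fc3809bcb165c423908c37941410b82411c6f2436400ae421cde406b66f450469bc7143c06420971fae3f6cde38b2c1becde30012353c000001200082279d72098034f0fae0d871b3836f05953c6878d441e8aeb20e06f10594385682487e90fd637862c39e2f1faa6f0800338ba4208de40b262b750421bc715c81911057378c2b7035a21006f142e138b441f8de285040ab04fb1bc40c345b4106f37862668b4420406f08313382441ecde089a6740903f1bc70e80e54107a378c2588ad740ba6f144d0,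
  nat_lit 0x67e21626f6054000f00204deb8b446f7905a1bd60e8058790af37aa2588b1121366f5056e19f26f500a100022f00e6988480000fba81920fdc00100070b563f790279ce016940010673417082f0869a0cd419673045a400020b5016c07aa0408080c06b0b4600000be9cef0c6434d44740ce0429cdea0a80708c5d11bd31688dee20a937a42d0815c213a6f444d10b464228de8073e002000305a221126f400000b4003e423200011180000822717fe1e680003a12742810b043e37ac6f60e6c3f8c39cc7be900037982cf80f4021204340e09dec0ccc4274de58b3c6f2cde5014200040fd859a09500001cfb407c12381f90bcc42088528b9537902ce800007d212c9dc80bf217d81ea9d56079c76842a101d900002ce000003fa07d459b08b67ef47350f741fee6f1459a141a7c946210f681ed26f10524,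
  nat_lit 0x1a788679be60c842d890b237ca1cf809220ea6f904cf00040984e9e8267082c2d59bed41a06f8c2fe089c2154df105022f010669be10d80e5590c737c017e1c6d218e6f7c57a0f7e42a8def06282e388369bdd11ec001868e1af6153800208f011ec3b50002183c30a846c0000f09068d03a03431f793ef47dec7e00ba8175641e4dec8b5402e4f808acc1f7e2e9c5d5107837b02d48f2237ae050817921726f783ed381242f4dee89626f910609bdc12c02ea109b37b61cf8000410a38046ed07233c5e2bf8bb621686f68556380a42e0dec85f8022505e1bd8156c5bd105b37ae23d813d000000500030d048314862104d410a412065d8b500000ea59d4a0c8cea583051820407cded000239e273c85a73e402df02591d953b2c6f645a6,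
  nat_lit 0x1ab41e26fb45bb385243a4df60ae419288641beb0e7cf7520ca37d42579e2d1cb86fa450a0400311c00085dc000809e00de0f3400089523f221b1800011c822841423e207a34f46084e1cb2397072b0e5737ca2dd095e157480505478a9041866f905b90b4a2f005e08ec141846f8c5b837c66f880a1000008103ca07921a1c343c687079205d675b07cf8b6e74f000000011f4c8410e890b6c000409c01a30a200001ceb1f482da9cea1f7c3ef47280bd137bc2da0e0637c8005000005aa38bc4ac0320064c0db8fdb1cac39648481be916cce4f8fda1caa39608479be816c8df41be70284e4f0fd81ca639588469be816c4788a02c408e00080018e491f063924fee809b01342d82046000200087240f821c3410282a38d563f3a7e785af1be63e907c3000000027f742048546400c3b010528b5c0004dfa90d041ac82c90368fe41cd02d6800037e8433d06aa0b140d83f445e30b586fcd06b9be90b940d420d537d01d89cb2219e6f9c4b1,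
  nat_lit 0x15d847809fd15723bd4df68b8c00102c520191ba87fbc18d831a1714e88110137e41b204c221f06fc435b0b708428df80ab62ff887f9bef0bb82c10ef237dc23d807d0bf41b987838d851b0e4368df70b886fb8df681420008f738ae02030120c0960b8600044ab8e9b17080001ee53dc801d9ee415ba405480b102337d42e08001380043f088190a81e6880682a30b80000000701f807de0fb81a89d9916fcdff210137ea1729ce121ec6fd05bc03aa43d8df985c418e487b1bf20c8432f20fc37e21da1efb13b26fc05be0d2221d4df78a1400043438e201c8a36780720b7a00003449c5403f434382d70002056887505ae00002e9000030981cb1d9c05a41be1f6c37d4211045e208821ac4371bea122800301e603d42530273106e24bc6121bef00062961c3d21d46fb85bc,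
  nat_lit 0x40bb8e71406c340458e000005d8738001400022e71d30223c7004282381284a4e000aac71bc88e9bff0bec40610ff37fc23d00013cc605dc23c00001a88364094a0c9487e1bfc06887781bfb00280001f431ec83d7c3de9e630d543b3c4a301d6036a2e68a980f2e1e686ec1bfa00042e605a5000800042e60cd2001000005f2712c891912121b400042d7194600000090004046c4f69f1f13f4431886390d8172c00006640b3e21c06620cd019c0f24867217124438df98b947348879210d21e26fc81153b5243c0df8800601546e71bf006cc000000d0b90114840b07dc6ff508b1bf50bf8ef9110137e82bf05bd21e06fcc55b18244420df905f6161c77d1bf111ecfce800002840011e14205632986508b9200004ee02c1172037686020c023c487248e4721c66fb85c7,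
  nat_lit 0xe091c11028400785080a8078bc4a28bc7139027245d9001c00d401c05c40bfc367c5d8001a00d001b85c30890781c47d3b862900311061a0a4e79200ee00081f7a3a6c6008bae747c0000bac7fe88b100043a8a40bc8b8117322e040bcea280043a3c2ea81670008185016700062ea014400042e9816600022251d2000002e90180000405905d13a6a00045d002fa00004483afe00000008028005616dc2f88dbe3a662e781d3174a70243f93c32449ce040aac704509c9c0715f8087912c380c177061c426c70180fa3e2e3b54e0283c07d4c8321c040924f2c0b9e38061db8ee5224070082d21bd484c8e00854281fc88a9c000ad886a112437fe0740f3721fc6ff810d000004d0e77914c42a20cc845d3ec66ff44220be2000000a,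
  nat_lit 0x1c8611f400003c50000069c47d0bce757c6f58dea205844f4e130b647098e128142000000e0b4507c078241eb1e601798e1a2165385617f01fc17a270a84d40a3c8588e1486c075a88aa9c280bf042f9149384e2879d0b22a870982fb000810f868c0df0083c0e485e5000610e81a38100000821e8d8608c4000843d07ee0e98000084410780c1087038387062035026e04e00028bc80e583bd000401f8e168000178c4679fc643004108eac00173a6e001088a803c386470b05e23b0600005e11e4870c001f9c73000474d400a9d56208046048c21d821780eb5103f3aaa0050e9a00011f7a413c8b4916709be2ef80133a6600007de104e42d02d787f18f10091c202c5de38e200005d2029a000087f1c70177400006c53d141aec35c0f8d1770f788000000419180000b6421c84083ca4803d0070da41ba03d3c7a9912038282ed81491b063ec487786300c64704c4f80c0037387a68f51223c70485da,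
  nat_lit 0x384a860ce0e0afc71888b59c1b15e8e6d916b383417d861a0006000438d090627790060b57000270646bf8b47169c33c104c8be0715d0c28f2842443c7c6cb8b5d16bc00005ef00027b1045008bd11c236985ee00001c0c39204f80e1c8ada17842f270545ed382a70500a11146178811a000d383a706c5ec10fa85e4e0d05fc0c8c2961c191494252116138301b01c4b22c2705c57a39444584e0b05f613110649c150c4c192113e382823d1c153828050811a1c6800002e2000608b503b84be00081169fbc08c40009dbf3b8e061000004501bb805c044c175064ca09511c42374350068f0d22703c5eb00007a304a886540cae70e05ea0c88705000a00020d50f59831e00001aa08f10fd81a7821b3b6e30406088fc2227070785e9016e70740a10000027007d00b8017430e05e8,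
  nat_lit 0x3bb876788d211a228f8fc98bf222a88c21c2c0a081cb8d1a385614088d9402670a836406a245a4e1486b622310cd9c28106cea41180384e17d88901b48709847b38688664e128aaa0010001801c16e4809c4fc849e13f2809c5b9001c17e000081f011bc237c55b0dc217dc00001f00ea42fb1da7232846010ca9c2217d4e18219438421489c21384005089ab196000004240006000076384fa3af412800010ee84d602500000193800038568640e1a002417d0e15218d38360d100000a8e0ce851e0d7a324c00188c60f348920002006ced9112700020150c581d3800001a5000204b804e009f004400850b2216317cc000012d013602780108022149c0960126024a3e14411082310a0208c4110f8538282f9000200187988283050e0280446116d383c2f8863743067074360,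
  nat_lit 0x603200fa854c139e271c6060004031c0fc0400000406390dc181400000c7149008a1cb2233a70d001e3ea47d4c45488c80002000c604000a23ac32d1ed206140d9060300081310265084c22a50db9c3713340be918e386c1ad88f218d470d450f19a6445ce1a06b0296877d1c330c4ce4f9195386426989700b2e2d9c0029c320bc60e7c1cf04583dfc1d186021d6882b04b7859616cc0010e1885e2073c0e7422b8c020fcc759a0ab12dc16545b28003386017841ce839c18002ca0b64000470bc2f0039c07361154f7d87431ed02ff9c5423384658ff50b6900022ff04330000004800900021a7436a919a23287fa05b38bfa0000f6880147b44f75025c3bf877ec0000bf8000001b0078134401a0000000a1fb00020f2213605c800060004368045e000035d823f0be03c686c100f401ec7a18f99230c70905fb0c3e80546230c521dd2708c5fa393e46248c5918438440da1c8e230670840d6,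
  nat_lit 0x279f48e19137134c269060d034a46d4e2609d8103cfac1c4b0fe4e29a1da38942bf04e0235e712450f19da46e4e2406b019a88541c4711ec2cf11b8388c306000001e02ba44ac01e2345c68a8fce1930813c8db1c45182cef00fcd192e81388da9c441828e4821db239446d0e21886272708d99c420520e211c410284e4d91b1388200f1c50439e711c2fe145c3794e230af622f88d79c450d80fbc0e1438882878cef22bc710c2fb14e03968e2108f672fc8d61c41134cf2d83c907a438c471800001824067800016a0304092b0000001427d00001d14494879a1d085fe0bfb42e837b45ff0bfd438870f46073dd61ac06430fbd234c70f02d8158a80d901b8c6e1ca470ec45d400046a90e891a438742189cb7234670e4148387270e00a1,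
  nat_lit 0x14a1d883e7c7de91d838a80b405f0440a88188eb9c530c943e911d638a405b8a850000211000000223f0d0978be21638e2fa1f638ac17f01c043e8715436011d44748e2a07ae0eb48e31c53156c0dd116738a41ac1ccf23a071444d3000003441290474733c8e71c5000785e69c4f108800080743e121e685dc43ea47808e59c4e0d3ce6611ca389a06b1dbc0cb417642ee85e0066e0e4c6070ad43ffa000061100041200f4f047c0c7e30800b318c671443f938b2471ce2806c823688e39c4f0f5c47991bb389c2ad9d4e43ca713431439704714e2609a60004332069b179c109895e19b633787fa8ff6389630786641fb81b4436a91c238943071c8a43d047588e09c49014ce5a11c038900a41c48388e0509cb3237c711c01e,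
  nat_lit 0xef438c600502bf16b22d6883211f338c630d07f2444c484c8f91c62186430711f138c206b10e43d0e00004430002804c355010b02181dcc4049fab11b80d3061800002b187e9913417c62f7c6268149185c1119dde3bba034884390fa39c201100039c6538c630b0001016e055816d000002dcfe807de737910f221d23d6718443139a047a8e3002907180e2f814279dc15c02a8073c120023f90f338be000401f00b5185423f847e21e471780001c8021e83cf47770608085c30a003c015e0014200000a1f1c20082cc001069e91ce087c0018f5d04082558002234e762c1ec00020f1cf48006a000079320f601747ac8f391e7439f073f9c56184c0af11de38aa00f1e6e1eec00043590006176031a03f4014630900020ba436843ca0002175440f83fe00002ea864a0a742e891db38ac0058ed238aa00500000298207058d,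
  nat_lit 0x1b0000c6210008000844e39d800045d001ac00006203ab6893c07980550000000461f0000034c02b847473a09061c7400790271c731088e8a224224544828e3983f218889049c7203582d1838c0736000400302193b90495489d8dcd1b9030f0b681896493c9299dc704300014000899309c00a9061d000024440fc132c818400102607acc31a800011540009feb3fd42710f919f22045800009d4177814282123b82493889a017f02f2845c77b800938e471c061c000206c83991f5d41281e5832d10248894e378ab001887521c6e15883dc0e7238da2dd9fa423fa71b05720f8e47b0e35873e07788421c6a133c38e91fb38d22ae838e0fe41fdc76d8ee6000030d800307923b9420000040f290ce046600041e5084e07fc00003ca0afa14e836923ea719001e,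
  nat_lit 0xc804e609cd17722eece410c4c00000049ee708662f484a01ff4046208c87d6111918940008b711bde1c3837d0b1c00086f18fd716b02d4ce430c4881cd1279c85047c025004b390817a8de32432720c15423f4488ce410380392c8e39c8104046ffa24c3900064042c212c71fc0bb084c4880e3f023c1fd89099c7e0fb42a2121d38fa1710781448e71f039f3b024870e3d8aba748512d123f243e72045ed39ea4878e4002907200e3f814200080700f800c9000080e01662302800001ba07e817a39e24864e3e003c00003bba1be21dc48391229059188c3bba23e39022a0007e179a72004b2391088f4e3f874023b490a9c7e16ec65d121538fa2b90735242a71f02e1048e05e000103c4000400000fe01f488ac622,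
  nat_lit 0x3f1e85310a5a02f138431706ed135600004b000001220573097012105b38b68246a4904e478c5a76fc9479289248072381f93b3448fce4681ac0004e52123943443fe51112262204c3160000394648e10d08ff8444246146bc8c5672891359c900b9404f208e391e1e2881444d072383b1102248ece4685c4776091c9c8c15c8e56123a391626802241ad872283ce3b2e48e4e448aba00102da06120e6a7e3c1dd83cd08407bc862a00be8988e4405fc32391301c870d90f149233390c17e1dd12462721457a12e848c8e4205dc356c6b21c831568ec8123139042698002052a27783ce079f17f036a88528c7b18a41de83cc006400dc1251df9250c45b06ff0df939023141f5b24ee49d49171c8007e408e122d38fe05b9e0a245a72144b10002084079606460000ee788680bb4107214a1e08098c132016902d4720c627,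
  nat_lit 0x7868a3ce50016837e06d59c9f1220435925c393c0e00cb5247472741da0fca8838e4e8a8077946d39c9c1688f151258393625881081fea72685be10221f680000762000c00087de097800080031fe43fb05ba862f18e478e807800001dd00003b548a94ed1807918e0ed49254393800f228239362110000055c35fc6373cda2de85bd924824a872806363ba04a8894e1253393e16b9dab24a47278148393c72740a1220e773000007d2000c142828606240c4c0fa8c6a76d90ef8a5d14c8000ce4d9c9c00101a18367079b18d053500023934726c00409ca13661a143678668409631991a543ba877053280013932726800306843f0a19846321e7a0000002000c0008251a21244222170ff58c6200042511162098800003b306ac31804a0441e88386520ca339283179da0248c724c01e135600000a1,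
  nat_lit 0x8702a1063e086c455084d0fcc1b88726c33a3d3449e8e568b26832893b9cac0e802b7094239562b71e1724ec72a85be07044714e5487543bb07828154002472c8e578c7a72e51539cae1588f701274395a2588008395c72b03b44008215c93a127f237a47011519cac18f0f8e03d73956057023c454472a813f45063728e5489467b6c9371ca8013827a124c394e0468f431e8e72983910af241c0e52865800000e9006a166c0e803cf394810481a44534728c28823ae3708e5105ee7b509331ca101483ba924439401288001129e2a284b8000021000a001907fc841f21ab1f94419ce4f0c76150c7f68fee20cc727448a000002bc6130c23126424cc35c1f9718e80001ca23946249800305f802ac56b,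
  nat_lit 0x873c0e527d5c2308c3f1e8889a88b488b71938000073b0e507d581f71f43193423203743e4e0004e5511191576015c02d9dfc3bec326046306e67c980001ca922302ae802b005a3bf677f064b00027e942f1000c00005a1012608305faa16441e42fc863e8006395a4a34e530c94219043ea02a20ac4a8c88c911a394a324a11d451a484896392c8251a729064810a8806c31e86422242728c6470f0c335c66c22eb25167288646222e72840a100021c6100007e0406280c864518ea4508e5301681c5c6d51ca5191074ba2bb39480aa0d2c250c728c16a1cd049f0e5103b42ae088a9ca103205339284394005d80010884365517d93053e0a3218000088488e42e8087e89fc90412bc257a4a04e4f0c84292c527128f1b863710e4e86fa090d006083d1074443ce4e0c8285306e11c9b002089a1c9a002418d0a4a149641488299ca01900e501c9f0284001843a22b0427844e068718fc0010438067e1bc000108704560262,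
  nat_lit 0xcd64528e65873e78bc95a1cca12bc749928b06ea00681ba928b1d2607b0ef192e2213432f1e1e000032e9dd90000787465c22dc3a48748128806e4005c1b912881d2007a4ef01dd8196c0d8916d1d223a3c9438371002c0dc49438e8f03d032d000c04ca01b42f50bb000081420cb2248c000833209800020003121c81b4491856b19600178002121a2208c54118c000c200119c2318001015e230902780011020079204f00000999ccb45b63ac475909a31348321c6440001195c643800005c00cc0002000e398c6590c3b18783c88656057811c44600001000a2674655059022fc00000de00040ab8170189422f465400000550454070275dc9670acc159c3980001091c03d06358c6c1974000419942f000000a13af83ba4658a1261f960d4c00183531f96849865c0ca675cd1730ee8196084947e5035200040d487e5212519480a69d7245ca3b9c657a1241f920d4400083511f92328835100000d440010000000445e0df346068c1c98f2318462c7c2c65000041ca035d10c622704bcd17b8df03ce20af864f,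
  nat_lit 0x4f010d039b43321ec525a0736421d39c08c14e6c0b4201d45811cd712c0ea691c0452446448c71191223e1774feb035900003318000027404b8097836006c23310ade0612000420920007afc000071a000071e104c247a4b24f5f0cc24aece69001217482ea896f12ec2b0ce6c0ae6362c8619cd70f14e9a92c639ac10e852d217e73543a03fac2774e6a0b7c0aec15e10a013ca277d0668abe39a83301d74217c734c2ef04304b04e6905fa27ed17a9cd10f5c000803d1d503ab863b09ec000c6008c0344c0451ce6b0cbe737895f1cd5047c4de0f4c39a805e07371bba734c6441d924af0e6902aa35a51781cd105a83f3115039a006404d62574733c0bb09b44514e67017e0b5c95b1cce15005ef12b6399a1d89cf045d473305a1,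
  nat_lit 0x831605e80bc47f208e8216442d12a2225e44b49129ce8000033609254644739c5400006739ce730848741d1909ce512c0108821539c82b71e7225d2738c4af00080c481e8079a0000464a2101fa043e913390f50e0c808c66b118e45a0e70861a391090e1ce00d90704a31a39be2ad831625c67378313000e1c2c3c90cd4065609201268df820a618ac3138cd4000824ba0d40e021c1c59a03dc07b43349cdc0416081c001000101f83340000141c327025f14181bb8373931e265c4b78e6d0cce2125178129522ce45a0e6c8c801a4428004fe46844b70e6c0ccc86c4710227f22cc735c19922fc735800900061cf0561833c83282118000110c0002005084625b06a145d24a388b0116139a61bb201b25aa73481b321a83680e6b87d2000c4f29cd602fc00083c31348269468c8d1a1994f9a0d9d39aa1ef03c31b44735035b,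
  nat_lit 0x82f04baa12d16c41028204002d006004ac0008cf000105170a30089411340fa01f1061a13901fa8cee000c51689fd140008c8119802d005833b000245148a248798f11079233a8001145628b422384460c0433a00001f1833a067321ec4cf8f1f82481dde4b9c1e8807607a24b9ce780ce400001e8007507a04b987770eeb26420840fa19f4219c49729cf10028e80a33b39ee17f07221dde73d82ef1ca48ce0e7a86c07e509801cf415f8715930039e620d9f07260073c855a0000259905681d02d350ed8e9b25aa4b8c9b4233025e673c46700e300ee816002c1000c73dd1999cf014a901a870d155c4d009a612fc39de3378021003a263041b883b39dc33705180a3e2b989ad92fa39da323114739d800480020e241c50f6d032700d03368ee2465a73c411f1eaa45e4e7805a80038e789cef0bd516b122c39dc0aa8e34233673b416a3a1c8ca4e7603b4085c10e9ceb0c646a212f139d405d90a922f673a40bf,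
  nat_lit 0x178000001000300030d0c2df4426000430981a30418000461911e408d8000217806700858bdd1dc23b88981239d47404ca498f1cff19f8f8ca39c473e4ca098e9cfe19f408d011c43204cf91ac9cfd19f0ea2132b264a4c6ce7e05ae746098d1cfb05208b81cfa002400003a6002919e12151e5016000008994000519f12f03d560b590b98cf6000119e8ee0144483fc288872a4bc07680dfa05ee0be01cb060307940028e819d0119e9156915b3a020480dc31e9e740015144d43a44e7f85e23e9898a9cfe04948ca234e39fa0390c5418ae73f015b1a9e4580e7d81e04bc09891cfa042490e234939f204484fe0cfa80c41db03b80000313000100940edc2000000012c827094a01311a29cf6002c93b1cf50028fff856f0a9815c00038001099412e87faa238104233c800500000c784a6,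
  nat_lit 0x54200185d405420014689054200106880542000c30905420008687039e000444e053400005d0007e000006f80e201d603b41478d0c3f28e890000110401f131d46ca4a448e080001a140001e51473827904f312da237e342023046e6743c5930d0a4cd4e87092615e88e79d0d0fb51b79d0d10884d0131f3a261f69fc9266474484b106823a1ce88864225ec8ce9d100e7cf78a36d3a1e2df0973265e74382e106660a841520227044c8da51b51d0e1a0c0c1928e3a1a2bd8b60262e74304cd1d5c4ca8e8585f839e073f9d0a15e8f75a3663a1224c9d25265074204d33f2a7e601f293aa1e063c10e9280030070460cf3c8d0435585c0000300188b0c40186c645340af808881081a040c70d5b1aaa2dfc001000b45842008362a299057a3400b7e0002002916088010d888a6015e010f020c497c67f,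
  nat_lit 0xfa8135e3a462b902170de6748856e0008748886785800af61c4839487240abe80f46910006002404004ac000800300770e04000800608ce165207c0d4474780008793416e1ed85722168160227e06900000466495f87c30f8874b068f232e0000422000411883d38bba407080dc27f92781a38000845e0652144000008be01c468d08be1e905dba035406815608391d181a300391057219a43391c61d1718681e82123138843088619d160ae8fed13503a382b900013a38746c3b400061574744805b00ae1d58000040c07fc4430dc28e24e8c827828a475a9d180bdc10f82243a2e0190877268a74582bb3fa84d20e8a802a01f4e8d814207ac0001d1b00f8754c8fd077f100c35346ae01fa1a2c001076f06de1448d3101a6035059c0b3e3a322cd077d23084aa83d707af3a301baa0940f5c745c5700530002044c3d2a001c68a,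
  nat_lit 0x67c3b0087790f1477274b446c02ae42489bea3b83a5834c9d42476e74ac003000009601c2837f06fc477853d8a7c155229f053d8d3009549bb90b521701f54e980d2e37cd1da9d2f02f11310ee23a5c244207b0c3a74b4155133c4dcce96038013e89b99d2b034907b88a33a540670679224274a40bf3a608eb8e948ac474f89b71d2812c4ee4136e3a4e2b901e9113c74984d00d6a2564000877c09ac2de8000087c00001d90554845c2dc0d2c07646d30da01794013402b230d109a1c411721d261a543c58b2c117c0c301839d281a502130de33a4e1e29ed71d9874983b93a588e90e928b4277249b29d2415c8422087e3a462b7094c45b674882e13a6274c00010000407a25cc6930a8e4208e938b2608b44be9d261a48e96a39e3a4a2b1048c1d9c74903dd,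
  nat_lit 0x1cea21d4300d517591183a841c88277272e75040510000785c9e2927026045070fc783e0039a07245ad8d3c064c0000844001c01aa1b30a2400202b5035212e83d80680063c0c400000e3c000207c40f604785b2479e74ec28820da3ca4e9d05e02ccc8a01d390a6d013138c3a7000a9d5f271874dc0170dd0000000204640004fa20e63109000003793be21f683760834136c0bc81780aec15e0709109a3a6834e8493214a4e349c39d33117002d13863a6403f23c33a6205080000ae618844e1118f1a702b98e0c3a6c2ac026f134074d469213143c58e9a084825b489b1d3316ecfb193803a642b90181220074c45be3a8e8ef4e980a1415dc8a9915646f449a40000d36000419e03c0069c7c889ae9264469434d00003e32378c59b,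
  nat_lit 0x143e476c8f411e61e8475486a414b050e521d93b13aa23518a272764754000b000079a120a9095212c4dac98b8d0808105d71d55164cfbb93b13aa83491d942762754c55d106020c89e093c5278e50c89d71d531a883d38baa3aa42f89f74275a754457b0cbc36a8ea8061a38b89299d4f13346158e753a9c18986072754753460c0fb6840d08200003ddc894c6f28c0f0124026d1a90d420a5414b80010000207440f8d40333885d9d5103004e323e73aa016a06b222b2753c16a124a4e94ea7020627489d29d4d047877d800000080008002001e00482e0a0d20e1234f9d5547c2752c56240724e80ea50ae40030ea59d490ed0eb8939f3a902ae800605000eb44a603f28f70ea3827e8ddc79b1d46087c321914d3a8a01286c82732751003f,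
  nat_lit 0xcfa838433b800a163838493a83ac2276070e2248758057b41089044eaf86b23d489e11d5e133400100e1013c10000010144007c4d7000002806e884c077449e41d6100792051d60108903e13c93acc2de20d4278e75944b113b42eeceb20960260c9e21d630e7d10624083ac42df097c278a75842e100160020003841c44cc16b02d5212e1aa8003000344ce30ed0f9841e1aa40010a530946153000119344930236000029744fb04e637290ad894c24b0903920693d4277e75706a83b96903520613d3277c756c6a73e6e90e4a1893bd3ab42189fc7277875641483ab275600a1000a855038106fb46100f281e584b8095c35300041448478468d000624f807406c200090c70a1f1a940008a22445a0db8000429c0e4063e,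
  nat_lit 0x75e89f41d6316f00009ea10ec61fc800004681794358045c0f7cfd393e6485a75846b341f01a146b880f001e475806b24580757c0a100028d642138d6200007c984251ac04df83da3f444f852141d5d1abcfd093e03ac610e9e4c1edc75885a23ad09098eb087401d2c3a6117446e45044f2581a13ace00090600d5c0e0c1c112b8256e8f60eb3074275b12121d650b9476193db3ac810e8c1f2710758c39f00068ac89c1144f24503cc86ad0000039c05680ae102a23886ac01ce44f4eb38d2416109eb9d6612c915713803aca2b70c0d27ac759055d000206610750687132a27b0000032e83a4343800311000ca24193ac42f88551226c758457b182a4f40eb005fa3d649e61d5f1558eb293cf3abc269800001c200500e623be4868f93032f1fac4f3825c015d097075846ab,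
  nat_lit 0x108f94043ae410e9d79489a75c45a109d013ec7a3931347d800006bc0002134925090ac215a4f4c9888a2800000c321f3091c0da818815284054807a31322be45689ff9d6e1aec273231a20564fc4eb68d74000082104b2412482411270076766861d85030a041daceb90d721eaceed00b4001c75cceb88d7076989fd9d70087461c13fb3ade2de0574178e75b84d13aec9108eb68a1400081652142091c00082cc12cc1128000016002ac03405848b8c5dca21e21a44c94eb50d6e290d19b233721964c90eb486de75c521e1d680a443af9d67002400100a8014c04000013baa4494247000002dc0c3807a02d826b04df27dc75901e83ad890d8eb18006000c0071fb028d07d4c1b18d6c0008000a30c23028da469806211ad40001031002881a111c22360078ebf1d7d002c833d1641d661ad0eb724323aca17289ac27d075904b2,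
  nat_lit 0x288246b3b042f8a054283e76042fd1f62505cec0099a76e0a0f1d7f0bf0ec324683afc2aa8e771d4a8bd40d31e7604b209846cf90471ad600006c50002006113306630cca0721ffd2836760821d3b149194ec087403168a0d1d8012c40000094012e02e405e0d381d6ca001d7f13b0ffc94163afc17e8fa748c075f45563b685054ebe05f800046d6869b1b100000d0a0d18284a1580c8c025c04a0087000236181af0358037004380000c94f46247d485841bc1b6036d06d88ce09081d780002361207f294450887428e8600022b5008000000508001022a91489c4a42320fe8ce083e0f7a1b0400001151a92204011648a875cc0b7000a31f84818906478e044008388c0117e89786518d807ba00000bc281000001ee71afc90a0000000431ec4800903478849f8a139004200680fc6be0000466425922a645302179fef3fe010d42b704b6096675d06bd43e606380dd80053ae875cc63f,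
  nat_lit 0x24c64f507488e9203b2000001c000012700e9096c14ad21c9373277050d4ec50b3427384e7863042625004ec48da076bca199d88000c70b8e1b038c07d80fb8001000400040fb81f6038c36781f503ec0000000800003ec07d40e28e1a1c2c26d06ce05be0b784a504fb41723e0831781ee03e476306cd000810c09ff24c02732762c63f3fee50c8ec5043a837c7e09d890ee4ec7a47f3b101d01dc02860761c4b108564fe8ec30adc764d23e9d8c0b94325901f3b162499fe8285a762821d3b8450b4ec489628d306bf001300061914321a33e11c88a151430cc71b3118b8f32469635f400900020c88190919e88e345083658a8e462c3cc51a50d7c002200043218641467823886ca15162a3518a0f2b469235ec00800000c8419041980d921f20000000700040028dab27ce92cd17507c514f48fa847b08f488f45c48e1b0cf884c01290249000036400000c7c32f0338866e0fa8363863e42a0761c49315065094ec3096476f8a129d8512c46d293e23b081cf9d8b48dc760c50a0000120823d20f041e20ff46c6,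
  nat_lit 0x3bb85198a319390261e003416828522a1c5458241000e0f90aad208400102fc46563bbc0018836002053b9da80034105c92e9397245e207c4b1099c1b883b60005000e29d8ed38019082c49709cb122e103c370a3190ed600100030a753b4c006020a925b272a48b46e0000a1f243e512564802498493110381b7c002222614ee29e0a790eed1b78001a22544522a0c11c8dba00083e3219b0f981840131000217042dc850a0014002016216fe1f042c192f00b061f045bf81621b70002000302c22df83e0058225de16083e00b7e3b6236d800202c04c004230002057454a064890404a8081347ce102c0071d9c3b3600000af0b7b1b680ad14463b340040a693b320048aaf155a0c34fa292cd0c4a18d404500041f7a01086d91bea8cd45570aac06187d1096606240c6802240018db076c00000bc62aa81851f4225941888319008700023ee801f9db53b5e36b8000245a4f3ca7a14ee410c0f704e809ce2a51111800a000236b009a001200006d5001088845490a911528020c6d40b84171c4a0a1d710108f7020000033b2250f00a80da68e684c2094a100e485c9bf924507fe0008ec80a5f1b48ed00000178c2e2093e43a820151ec83fd00007638a1c814d02a0767c6d100000fec00a,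
  nat_lit 0xef924c83b86172a130202c77085a23ba251d0ee08aba214c2fd05ff12f2883c4202414087000ecee49dc11bb001d93bc27b448a425684ac45828d7874b800600003758f0021e4906c93086fb43180cc00000dd4000404e02cd08c0f9524ef1cfe3a04a2513a900043211dfc290051e4993132700020cd04fe22704c8c99300001ba40000e8f03f0748235745741294253122227a64ed401a1dc13b763740000240e00511ff47e4130103da07c099014742938a8e3b7a37381a3018e00a80159dbe3b783731dc4497476ec2e5159851a0edd0964083c8011db91688ee794673b702de1df028ce76dc4b142c050c0edb0adc7774a311db5142923480293b6c76d400b913722700020000848509b83729334267491a00141db53b68005889b1137000e00006e40902108c13b0273000812614554096000c3230ae0120c001005209b0138000100a07b18482000001a000123bc1074138826e0e140002398087a0bc912f225c0038ed61dad00409180999132c265a7e086e3,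
  nat_lit 0x34c025506ac5ed8bdf2a9e55750b300021bc867585b1000200585ac00000051f4927804e409cb138e27224c7c3eea1d6000200086f10ab0000000a00021d490ba05fd43aa19980000ea285cc2ff05a911010db948c3ba42c98291282e77446923bb29374ee80ac482488129dcf0ee401624da3b9c1d88ab5290a77344d1168c5214ee6073e2c70a019dcb133d02814853b942ae8e9a24f40000493000084a493d0de015cc2c6058b095412a50d614813b90377a0294a3c5460a409dc710c502614803b8c0a41dc63b8a0508b3d28a200004b20000772ca298b6a7729267147b4a48405cee18c5e8120a3d9dc200790dc8000002400002c613d4382c83f90810f401e846ee40449454a8794783b801a7a04528ee76fc0d6064e23204c5054f421440fc5f18be51fe677106ed,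
  nat_lit 0xdc8a642473c149420a5d154b2a6c3fe80018e007f311da0ff1273a3fe80010dfe01f125493c94a883fe00008c8c1ed000001427c201fa20ff4200151419082a4000677989cc0ff71bf91df903507e683f907f854406400a8c0011de5272e37e85c2477c40d01f920fd41fc150c18f82a2000277906fc3e7492a802f805a11aa00005fa000224d446a854e000112b8a0008305029020204291c89c2136826d25288ef00df636c89c1936726d05284eef8df43970268a097296a5278eef08528dad17422e7195a4fbceee8df21e74a4f1ddc0520a389ddb0284001047923e83bf87598eb11be00008479136e2fb000008f22c9446d40a895012a0949d3bbc2f6a0642938777414819c077700a1127e25006a1931626fe5360a4d1ddc1bdc1efa53c4a7a5264eed8c328870a4c1dda035800100090018002d0f007e726524e6c9cc13a0273437b058f0b480004004000b0014877c3f3132827344e5c6f53bc252610e184c0098216882d180001bd00018bdf17c6554d2ad21621bcc0010bde4562051800119ce93782e8,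
  nat_lit 0x10faa20e0ba030b0c3618ee459d24c93433bfa3078761007c00ec60b14c33bf838421502ae695d8a629dfb014d05814c43bf40a40c713bf2004a1b9000021100000bc8867cac487680e823838d1b298277f059310989468efd8964780128d1dfa168401994ab3bf22b71e67297c77e055d0008000027f80d413f10f90b5925b24ebcefe0e0c78e8a5e1dfb164c03425153bf429f9e12297677e45bc1db2502cefc099e789ca5d1df7157400287120cc20780a1b225a93a929d9f4d00044ef40011f4d4a7693a87053ea00000704128e2864895a4e84a727d2c00013bb00007d2d29c9f4f1c0c00013bd096453e0a7d296877c800705381c40008800d02585400011001817ca37c0022002c1400000001c7ff93a03bdc002c15603290a9a84210838e04000803080d60d8a4120a9c09331262380800100c003600b9,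
  nat_lit 0x6ce936a3c2c267a0c929c4785455d000683252caa0c009ee31c000206a00d5408300020ec85e70488000024083b808ed06294dd3c2200f0a943c20005000000083005066850712e24a8ca2d1557408010587140000785529c94d828d25184713002a1fe00008ac41ddc4048000109000022fb180688ac2ce85991c4828000160022045c35686ae0d5a045c0089e113c1a38880040ae415d423d047d1c40000800b09ee3fe886814f003fe07f0f3200f3280238786650000002827b0ff9219e53bc0ff01fb3cc603c870e000087282590cb020586238c451908782c70d4368534cf05050420d92979e090c340bc08603c1026a10884a58781c3600a585340f0307ae8458a661e05143c62c14cc3c081ac108f2694780c47b41705334f0109a6269c4a0a3263c040008084069e0d3e1a7808400021c3027800060002041c34e869e0d3a041c0009e01464a3858a73134a24fd1921e000000041834e069d0d38041870a02041ba87c2120c0fc20000709,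
  nat_lit 0x169078980090000049895492fd255e1d843b10e307a60a7d1e2b164cf19a55e3c542b11e4029f278a45bc3cbc53e4f1409620004f141e270c84f5294f83c4c2ae80000d301a5c2e819d453ccf1280441dd88749e240958989a5563c4616592de215e7888717238653c0f10806650cca781e20009c65a94ec3c3e008132a2892787811721a653b8f0e835400106d6815b01dc001883a44860418002183830844a5000226801320c0a0000635070308e86d614e83c300058dac3c2e0050001028c051c00d001e07d80fb47160000054424d0492138438a9eb529ca786c59310f29518f0d07da78f4a721e1912c516993003c302580a7d29c6785c3b4,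
  nat_lit 0x46da3414f1e0a1e4354a8c9e3b0bb8730121e3c7418989a618be2a9455313871f463e90a779e3a1c8c35893861f443e8ca771e391c8801a003502887ad4a8a9e381c840029e474af65468f75818c1c8033a220d19a232406479e3d1c7c55a25783c7829f80033c7878ec4240128542cf1d074002b0a7f9e391684f20950f3c70268000208dc0dc8396406295c8f1b86b218a8a7d9e360d6c6698cd43c6a20d90ca2a1478d02fb47403918f1986260c08a6d9e3211e81409f20040a0fc059ba2fe00160020a150007000238f05ca000a000018389be179623a845e91731e6e8f6471d061a2bcc6bd85a504ae089010f00001c700002131425e17a85760568000416913960ad000007020005286141c2b665578fc08e3600005b804b25088000000345ec2cbc1f401fd3e3009e4fa81f461c68000837346bc4584a108b5600001b7874e0fd81b6027104e03c3c9c99395299e789c719,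
  nat_lit 0x8600268817400000c0089c01d3436453a1286137b28e251c8f248e527924f240142176400000120014399127424e6566110285bc0b768924728000400551988b980b2e3938e38271a793057b198e54bcf258a4a794d2ca9e4a1558f7c152e3c9217d87404a8879203131fb43eb8ad720b00384000cf240d9302fe1c246d00e4c82b905781c10004001c4e4239607e40fe408c811a1c9432400000bae0d705620004000c116822a0b2c0c3000245828b080ec00022695126846c00004e90560017831c0152029c87bca5d255d296c5568a929e411c9008105d00c621f5ca919e400b5527e1e3f1088f2725893c8a1728b192a4479104b21b1c9618f218b787b04a909e42134040b8b3a18240000000859e0b4216785bd095d084a33c800100282a4c5488c1013d800000131524255915308a679212c11e3f0bf871111ec3c7c140a0372a3478f42fd,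
  nat_lit 0x1e593cb0050a29a10404c5c98c1f440002083800142b685684240000162010687ee044c08c01623dca5534f2b0e6008b84dd0d5c2a7679542980008035833e862c07c2077472f47ce00000a1000091809b3936b2290452472e20d65524f2c096403b4a9f9e570e80069a5b13cac2d09e9e2a8e79544d0409c5514f2a85fa19aca9d9e541334f2da5ad3ca62bf07a11c50794855b116a5508f2885dc333cf28884479812d51e570bf866a13a33cac1870cdc2a7e7954525018a0320f2a077e79b8a9f1e530d90459153e3ca4177075728f679444993da800005e30f822d902b02128424e0008f2814764aa4059cf6c1ed31cb400300050a30145835e06bd1010202857e8a281cb000280040c064d249ad14d328c200f872b0006145828a0fa84842156864300041800081010d0d9a197472a,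
  nat_lit 0x8cb800a13cc279496a12db25b40a300000e700000354022b0ce43530d011a00375c801a5512ac479b07370204040c0cd9f0e2ad479ac72144c65580f3500060004010918022e845c87388e721cd80000021211a5624f6580eb1cd4f3ca5d33cdc172a038279079b43c521185594f36043a376cab29e6b12c42258f9c3cd41909efc2ac879a44d01e285548f340754000c2110a6214ce2ef04010e68000000fa2920f7c93e43153ce29728f3305fc145c9df9e650bbd038955c3cc817e9e7f2ab8798c2fc3dea5570f3105f60f94a5b1e611264098026b000007f0001151e09ac2a60000386038684e83a207f910711fd637011e214b02a8c79787331d1a36fd1e194af2a8a7974732024404800b51eed2aaa7970531198c3d0c6b80d73295e796c73145d227046b195423cb42cb24462a827964291,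
  nat_lit 0x403698aca0a941628b25168f3f8566070476b0edb2a2497dcf3f0bb47a112fb1e7d0a444671e7c0284000870d1de821c004c1a3e9304a16142d28aa97ccf408e821c2409081233dfa5614f400e800564f3f801200000970c6c2b567bd40268e7e04b92f81e84164d1d815823d0610e9e8b4bde7a083a03d5e5604f40896211a49561e8012c0f9215803cfe26822a52aec79f850a000208ec11e026a1b7c0c52534269a4da806200c3002079f8f3e8e7c1a9d2f39e7c17c474715043cf62bda0992af079e82fd3d049794f3c8aac7a98abb9e780bf089e95773cee17d8ed629f279d847b0c1855b0f3a8aaa0b6c1a38a83465e224c448a26e000617e49ba051b1cf51dd000344da559ca82a0710826824ca83950a4a2c39e000244d85598a82207008248248a8315094a2a286873b02f205ec4a807ef45561fdc7cb0d04477000051358e7417d000001420014000a3941884388071523f21bd4341c739,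
  nat_lit 0x4ae1b381be83a8002e3518008000c5178a2d91df0d661ac800b83a51fee0dbc74d009e002014c069a001c30b0aca001868a0acc00145d40ac8001074c0938000c44e429c00085d00abc00044480abc00005d243ee87f01b28fed0736003435406a923aa5144a2a214b1d2c182800a1d2818180090c3011380080c2c18180070c2818180061a2017e80051d2417e80041a1c16a8003113818000021124ff60001112000002c900003a421f62cd687c031d035a071e000434e069d23927fa81640e8e1a0800008440e401cc839b05480ab00000e8c00041640863109000002cb098e1cf02c418b2000000201c80d2e3a2800106b08e7c7444902234c393229d0e6e8d48559900120189204f408e860d688db11b9283a3b6076e95144bf27a00742,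
  nat_lit 0x1fd4f558844000025f915c4afe4cfc8528ea612fca101eb015ed0a695bb3d5e17e86614c647ab85563eba56e8f5685f62080a921eac11ecf6815b93d562699ed12b707aac01e49787aa842200080418088035c000d16806a00660000115340c61ee85d10ba40734faa15b23d4e2a11ecc2b647a980d60ecc546cf5285260a14006000d2352543870d8d3e1a7a4ab12258ea405d025292e74be697c8a9325eb00123a881fe000e3a501fa000c3a801fa000a34501fc000834401f900063a481fb000422501fb00022249f620000224215828ca006400d801a23cc1ae835c86a000087d88fb08e9e000cfb0951b01dc001018303280f1000103ee1fa0083000007dc987848807dc1bf837e0752006074e,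
  nat_lit 0x2ec57306487c2caec1ec100780008f9f4a203eec7df130323dc3ad000009b01368022804206287cf26513d8a2ac083728787b10493221e5750f61843a1844aea1ec216f0733a64c3d821711f712ba67b004d006ca92fcf5f895e7bd8ae91ebe15752320e9715080044f5f9ebe1d64f62a6483d7a17f216b2b987af02fd0e0a5730f5d86c020fc5259eba106c37f95cb3d721770839496e7ae03133dde5728f5b89a6002c402a42100d48b50ae7156c41b011e907d156e1d600258210000a047a0f4000038200020010200920f006745a2572cab4a0d508ee83dd0798eae305c497233e126637986b287ed0efe0004f59a4391d5838e880c0c6a146428e000010180018a761d129158541877f1d5400123730de009e000114e8296468d00001cb8167060e1cb43960f071fde3fb8a9594233d5a3aa1ee42b7c7ab001e,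
  nat_lit 0x78e94723db218722d12be47b602fd3de057c8f6b85f87f60af91ed60becf9795f23daa269800311f48d703c5a3131d1c9840aec02cf00942150761000203a4726840000000758315044cf9615ee3da400f154f3da200507f0464409a4fe815eb3da22a10e742bd67b400b71cfc51b0f6a05028658af51ed30bf420395dd3da42669edb4cca7b4457e07fa57a0f6805dc7c64af41ecf134c00086da2a9a1b7c36c06d61d8000006ca4a6212fa2892cd09794a4314fc2a7c7b3472904ac8c5c12c9fbe2bc67b305313e2a578cf6582907b2cf65014254e4f8980c543d487ac3118c27110800140041eca1d7c114a6142a707c4806221e943d41888613088300083af1f0d000038215343d8e00140010881184818810f421e701847c40f860eba87880000bc20674fb0161843ca0300062800010fe308830f21e643c23ae0002000014e00b80a701d7c5868dce1538000075b,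
  nat_lit 0x8be3818702160e3dd22f69f652c1a7ba014820207b9c0a118805830f76896494fd3471eec0e811a7960b3dd62589fdd2c167ba84d03ea8582cf748aba00042178ba61c0438602c515fa322921589bc060c0038f749ee81da4215a6873dce2f88f4925dc7b9857b0664580cf728a4a7bb13429ee4155835b96023dc617e11e62c047b882fb14b242dcf7088f67d2cb009ee0134cfb3000017580f581ea0c56296c52c95ef3dbe00091fd8aab491e7d94768444058d12470aaa47f40004f6f15ee14b029683150ece2aa51fc80003dba57b452b8a590c5207a00f493191d98000038a00246588ae915de31f120e89ae05f00000765000222ec17b8ec8000045da0410f74322864604c87f24afb9ed81c852078deb1c1457dcf6b869e7d04afb1ed60358002004321ca31e833f067f1d8c000000e0a84150c32e0a5005523b11ee14ce87b682fe,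
  nat_lit 0x17102ee3c9d2cd05fc43da941800080020cfe048c76f0bf687b12828000000219f809101240d780e781d20edc00041f68513493c29105d20eda19f414da0002c5c9ab4f7e0ed882fcb129efb0a090ab14a63df42bd837c29467be43641bc6587cf7c06b600051de23bb0c8c002a50c4dda4a7c94f1ef712f46e0961f3dec07d150829407bd414322529a8cf7a01645568a4e1ef3050893616183de40748ff825307bc401625ce4b98f78001e936d34d9eef003856b269a3dde06b0001001e3140b78a28c0dae3b589de1b3038286c3a4753de82c31efb4d387bcc2e518a65850f79096410ec21f1ef10f7475b96133de01d8865f2c267bbc4b13fe4584cf7709a07da4b099eed15748aa94001d728cf03da80001da800120f54da849b093515d31be000084631f021f7800008c8197c067,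
  nat_lit 0x12169453001c863cb01144b16324ff8a06a04905c83bf8b0948585148006a18e2c02512858c13fd28188120726447888f426f8b09170e00302a5050c0a2819ccaa70efc83bc0000ef642047348bfb17f42c1c5c2800a43165becafe958a41dc3be8bfa17f22c185c200090a8e14250b396f02a963c0877c46a4000077b40d600011a88ef45d38b06974a0bc81ee0a388006430e57e8a218b1140d43bc8b0116fe2e00002a1862bf2510858806a644d889a07780a86000056684648fec46200020da91cb00010a8203b07b80f5022784c0097f2be6857c280853e0b6a000877700021d2032c065b23d823006de0a7c0000a3304961d1805c8001000014f4776000002d8b8521d80a783ba80b12c6c7c145f13ede530cf8205de7c2d35d9f030d6437a94b23e042ab0df24d707c043d70004832ca5a9321233c45e12b5802c1dd0000a0ca29684c808ce9177214625607731e303e2487c9144228252c0f8280001dc9064162f3e082c9917929607c0c664124252b4f810b780028f819f010f392ce05fe43de942000180040d02049409386bf07423b881781e50966c2fea1ee4a0e0008001868002480498770,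
  nat_lit 0x16982cfd3759fbd00040c4116f97612eae9d68b6aa0751e3103f80001dec59316623f76000018722dd2ebe5d84bab96d34e2a81f878b030007340ea8e2e1bea086800180021e28000841c41ec5078a0c81a71e2411102243ffc5a18a771f2a1e2117016613e522c9821729e07ca06923e5c9b98f938b422e8c4d500000f140000946135a1e6a3cd23e650d0a1a91754b1a45f0b279f251e1c3f58e0b1c96420487e9f241e187b01f2300240001f283e521fc800402c201e02330000106d079132b4a30945876c42a0595cf928b267e3ca721f240f14f95a6dc3e462b108c82c907c883aa000016d000a0b7423812630e2249a2266000180060a183c28aad134400042092092268c00005ee003cab7971a4e7448b445502bb048c079c0f50f08003933f0f541eaa4258aad09921e0c006a67c20c041889b50bca1e08006267c1808302128816471e040058b1109650ec0000197424ca23f448013885860b8a001e153428785170cec875c780,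
  nat_lit 0x84485120a110f9e12b80038f3a55812ce0b7500127d1c74424a912dc596caf194be1e70711110a2abe966c5ba00083e8c3a1d254096d2cb43cda354000038224ed1c404420aaea59916e40018fa20e85494c25ad1a98f3487b80000e08487ca5c95de2cac25a52520e833e8400105b8259743da3cc8f0049d437fc6fb955a4b2c2dbc0019f41291a33d879844b6897433686fe0df02db80011f40291833d42510f2e991089d913c1a9a2dc80008f2c2db80000142000059d9100486a2b74113022716e03ca8f121fb43f6c8a596663e782d8843708748be4b8216783e7619da31f26b8449889412cc3e743ca02214b3a4578b319f39161c21616623e7000180014b2c3f5929da6fb3ea00f7a2ea0002382000100002e911381e80945c5e4000300003c9a2e745d40c6c0069fc84dec2d285aba54b4b6400187920b8c2b540c5811f023c7e84fd00133239200147910292289051080ed01d885a821a043323900010790178e9a1c6a28d4318cc91dd2d78003182c50296b24e18097c13100021e3c2cd8c3718e296b4000850696b400000128bb0bb2a2e306280018fe0a6ef16862d412a225ab1e39151000019752a10b4e16829bb4fdf800406248b84bb197594eb88a8478d40ec00005e3,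
  nat_lit 0x46009f82d30b4718121f3801600031ec481c0028000400005f080901ec05b00029000206a12bd004a0000243000800042cd85a2168630143e500281ebc19e815e000216d880502b800002f1000616a42cd859e181a05647ae000428282593f747ef4005038a2e189e44b8f210908201f400008f5a27d905d800902780a8815382a327864f11316080e1eb03e7040e420e5c713c7970a07100020fdd95283ebc3d5a0ea41de0e18003813a0540343d02002b34de61e107aa41e200005e30f049bc4158a03e1a1a0a7809c0005070883b53a8a0f01ea5057a0b6000804dc14e82a2053c4ef89dfa62710123d420ca00002f0a0f34e9c5c181c10002026a0a6c685203b055a1aa90648f4e9710657000000123e1c1aa00ab015436106bf8f8d1e9800201c84da65790ab5a5c219663d2812d0002000c0e0837b1e9000101c348c412f8001038604a41d220720b3815f090011fc97e45cfa5404a823e080020f4606fc39b0d431a7e4e100018f4417409c200020358340122b290c5214b31097549603a3cfa7000f01443d0a3580f8c1f291fda4af1d1c7d3400700a101440d2c7a045b29e008bd149a29307d3000680a001420d287be8f3e00048ef9503163400080001e603cc4fc100b10012000479e23b633e867b0a2a09640020295,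
  nat_lit 0x3f3c9d30fc00a14000810b84b28a4cacea6e0084e10785eb821700020000619909a1ef45648ac216822ad04950929170a7df87bc042c0c9504b16f62d807df47bb44e85514fbe05de0520aa11f7b133446e919d3ef418a0f9a4b087de455a3f2c9d0cfbc0aaa000023a8e3f148028f06940912853cb5d1f7c164c72615493ef62499f824e807de85623f205ae0fbc896200b4b519f781428fd116b216382c7837706ea003c00005db0b170c183dd0baf0000004800210d60d381a8017102e00d5c1ac09c81b363dc8001113890103cf1ea247d88fa8bf316ea40405ba8bf32740209000d0f708fbca2127ab46361da400c8f6e08a0090011e47ae00607b61738000c00a07994e101b0c362150a2c889c68a6b0f6a000800987984e0e1b0836195092c869c64a6a875b1ed120b898729f89aac00080031ecc6d3000002840012421135c42788ed8f6400042d285a60fbc00009b44978111a41f2eca54c87b3879a001a0ef066b0f3400300b7,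
  nat_lit 0x9521f9e7e4827619244120fc880220264b6f9f90013d15d8000175844fa4161ab295892832452138658a4b2c000c45848ae87c41e7a3d15160800b2cae58a04e124514a0a95846ac0f868f7c0000bc6957d281a44f13805898b2a8009457e3d0c79da63247bc3e10e562b7249b83d806cd457a8af800416542c4a26fc5d747b0000077b2d6427044de96232ca4001915e263d24fa98bd3f4a3d71f050e7a7a71e763cf885180011868597959a4eaa42880000d74000800080081374427462200007e2c046870200100018d101738001089c8a040008ba019b400008901b20595000300003e00000000214b829606680cd63df800006320c6c812924801707ead3ab96ce3f083df09b422a27e0c558484024a0fc10762091c5161f8115b8003009d019a0cf0939126c90804990b8e3f0c384921a2a9e7e143c512805afcfc20a7e00fcb5a1f8316841e011a63f042b7084b4b1a7e043ce,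
  nat_lit 0xb0095843f3a08612282dee7e700e920084de8fcd802c29185229f9a003c89b96fa3f320360a87151039ac73694163f483e39fba2df47e8c59324a05618fd10cc8000cfd11fa1109025896eb3f402dd88891cf67e7c4cf432e9df8fcf0a14000433c85b412e0fda16f33f3a14122a22afe7e7057b0c249de0fcd85fa2e44ab99f9a0d8046996e33f321ad890f26ba7e603581cdc39c8fcb88f6863d3ba9f961554002001f0008144882c22ea7e6c2e51f143f60fcd07da0008fcd1f990c842670aa83f301cf9f9f2dce7e5c55d0008255400809589c2886480d23f889db8fcb0f8c0a408b71f951f145b2a5ad3f280c00ffe206e7e4c327,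
  nat_lit 0x183c983e4078a0f18524042608520b281640f9c00143c9235b3010a040bdc15884d543e680040e1a1c38473981824280550003104e20940a7015010363e600020f1e1e405790af01f2c0008825104007f8000105c0c981ea0906121cbbc135825041dfc0c1018711dc5a88fd70f942f64000000a06b800003c6096425d06cc0d964588b4f9fac165c31b279b3f5617f201e2b2a7ea857b3fa85c38fd485fa08884c71fa80f781e195973f4e1b20fba4f2a7e983d701b22e90fd28ab63fd89181fa411ecff217093f4626989884f247ea054021da5634fd389267ecd3c89fa615884c08a513f4a1cfa2092e0c7e9055d4d5e50f4ac027872c4c589cbd917043f483e48b0a499a2e947a293823f463e4040007f27e8810f244c9e28fd081f45a34ac29fa006c8743a7893f3e07c86200c447e78363,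
  nat_lit 0xa7492b4856dcb7916f340cc12d0000262a4c58c22184548242138000001012c800543f256ac289000815605f18400000c2ac089a020c001055828a219200010ab226481930000155c1e684221548002000105212d20ecd30965c35215087724ea49d8c17972d3f7c3eaa4595098a11cb86242910ec49d093aa8382e5c7ef47d40540966c7538f6b24ba7ef062647745cb0fdd81ac147492d9fba0a4c00280d405020cf0d691aca9e593cb95c93f7c3e98fde2b8e7ef449301545c78fde0ac41e747eb9fbb0f744d427b13f742dd9ffa2e4a7ee455d09468670bd8a8242f3e107404ea0502b7a5c90fdc8fa47fe4b919fb8052081c1fb700251b08000178407f04ef15863ac424a04900018000824fa1982f5a8d807d1427800005e106848340bbd88350014000024ea1962f56a078bcca13b1f4042e0a95000e09825ed15c600000ca000e20d447687b446de8db83d714cb29a493047cf,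
  nat_lit 0xff727e43fce172a6a22be27f986920a309f84ff289647fe4baa9fe412c426b152d3fc62b723e12ea87f8855d3fd25d5090191ff24da1da430f80001f9c00085a200240000300060e821c10c001b00447f80ba8985a47c23f302ff060c821810b801a00427f7cba8185930b08f487e52d265ddd042821600320080fef174c309a615d1ea8fc8820104202150030007cfee974c2f94a030be70ba71f8c00b801e3fb85d2cbe48447018e07e81af0918058a3f109cc495e0e301c68e1147d020b45fc8bfa002c3f0a62f03ea00443232a465d10bec17473fb20048007000619fe30b52970fc03ddc003000d00227f60ba397c50886030c0f881f21f7c70d0e781eec001400600103fae5d18be2044201843ef0e1a1c3239dc7ba80040016003cfeb17452f8611047dd000600280071fd52e885f0822000c003dc07bc4888fb886ec0000bc2441070b8e1a1cd23dc8000800800187f4cba097d243743ed8cf600000048003415e9fa07b725d717240170024098286e8be7973e3fa0002400280040b4c3ed0023098086e4be7173d3f9e002000200030b4a308c7d9110e60b0c1697de2b68000c06e05029efcb9317e72b6400087d80bc456c800081ac88d4ad8000006cd0738dbd10ac00a000f04bb43685f24b9c1fca00063eba0ed1b782154013801d097486ccbe417373f9200087d6,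
  nat_lit 0x4e18bb31fdf0bbc4b796d03fbc1ac8af24ff87f744cd0cac9fe8fee05f831906331fdb143c5aa93f23fb423d0003158e38240ec00042b1c7c3828600045640d330b900002502159c0740ac25042940055d13e327744ed8a1c1fdb1fb468293e227724ed4a1b9fda109c69214363fb20040f433fb00048000055e971c24741aea040bd514971fb23f68ff18fd88de14319857227a44f8ff103347f88ff081420004044008e0ed4382286030a844e889d9fe11fac04c113a3fc00018378422c845c1c527ca10b603580620e6f000000047ea000422804508b5716aa99007e900001d582590eb436e4847108d22f87f8c70d12969fa4ff109d88ca4af31fe115ec80797553fc0292a0252eaa7f7c2fc20aa48e8fef08f63cb0baa1fdd18300001fef28c05188b3016612cba42b47e8,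
  nat_lit 0x14b2579cffb8f8a4ddcbc19ff6035491a95ec3fea16586780cec7fd032728aaa060ff98066321540c1ff2049879f8f413fe2008118c28ea7fc01170b50504cff784aa0008ff79437286c876c25f0c504ae831cc6a28d431fe88df95bd00027fb8a1b143543b412f4627a57318e43fca2d250de6130add95bc00003fc00040c209ddcaa28e6e1ce231f80030c1e44f85b50004183d2ef85ee000430809340a6c7db8d3c1a7c31b12b68c49096e8750a1794303fd03fb860b4ee4550033606683fce19d076928127f98179281c7f944222e94566440e881c4c629b38903837606e049c40010fec84300000e080018000126f06dc0dd0902a6cc4c5e206840d959742163fa80014a429bb0291852624dc3fa0000163497b85e7011602300610a03403a01d421e878f241e000c7f311de23904718e5a0ea41d4532d10cc241a00087f21bc82fa85f410cb241800047f11e88277526c89e000003f8215c16ac2d5c003800126501df43bc085b24089a607ef0000570400a2ad69d792e307ae0f627f807ee,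
  nat_lit 0x11e0000889011e00000ba48b24ba1000f0010340c64317c242360580237047508ec402a5a82ba8001d00297572bd421c013d24e516102c2880408ea11d0239846c02bc8464be00c841a020018006900632112d315d2000a800cbaa95e810dc09e12718b062008a8001c1038404280940932295c53a8ae880044004400911d190433f467f000340025d4caf3086c10d698b88001b709a606520c972f76320067e800200100d3cb850ffe8a100000bc233ec0000006069c5a645aba55011a615e82bf183b45063ff0005452e57c407700080d3452f81c6000c1a68dd208c8001035906c0042000106989b2029d0b6233ac71f8afd15f6936013688632bba5d28ffc0ffa0d18b849ff70688b811ff60028339067149f05d58ba41ffc190c4ae977a3ff61728e9a2f1a7fe849300ae4510ffc87ba7ffd4129ff80e80545178b3fee171082e28c07fd84d149e25d3cffa89a0000d2a48f4b23b637142f68ff898147780b3c027804ec37006e2002a7ff0ffd0ff68814bc39ff90f14150a81f3ff02d0a5451e907fdc56e,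
  nat_lit 0x10f8d0d162010a821211b89d089d4173c2e7a808080908669d049d3973b2e78807c19a013c9f993b3949b2f5a8078786062e5ce900e8010001d00e014218d142a2020164d2ac17ba403e1e28003403e80784240f9e522d00e89a22b40bcaa01c15b9012285040362df000215d2229059b000021b93048e6c293a0ea886c509880645f127865ec900c061c2e18bd720170d645a41496402c1ad8e602904805455b22cea12100a08f639ecb932013155423d816d42505f3c6498d10002a0070ba7987a46a2404001440245d90afb887d050e93c858a8b171cb234148070912002874a09040024750090400208060904001c74c0904001862109060014309090200105d30906000c44a43a600085d0,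
  nat_lit 0x12bd065c0cb4a1e543c203411dc1c3096a4a4a643cbeda0381d6d0d097dd406e1e2865750ec80d856249ee5f4901a895e0004ab597781cf2298823e037906f64098871121e286050c8bd34068083956a50e280cc0452ef25f5d01902d251794382031099c2640ded40601938ab5285680bc1262aac5ebd01705945b30be4a02d018ca459756405812a83304c46397038a852a448a169913e970b00120004812000014e83b5905d20bc9de0a4c125c204425a02d4000406316e5425e00043b506fc0b6000001960010b8217d02c7458ecb1f941c283a0b4c81000065c04b5996b5305c372880f00045c089e113c5453c2cb00012e0689d000800005bfc00a2e0289cc2ce223b0a401c2c7292619064c0c8d011101c015802c276124f249f08c4843c000e0000332101a21c88c48004124c4359189000621209302b509c0c94714c646c20004003801611c4239880c4e044a34a62a3600000808c18f03211cdc9c489701016000410f87580e661cd080a,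
  nat_lit 0x42e00083a8042f0006225042f0004224a1c80002224042900002e9224344901460bc0a04f000639f889416ae0836109c216103c000873e91272d5a1068213042b084e5ca420183fe20745a322460022812d02680011cf84498b56213f031840e04054bbe14ac000a0421ff830e05290a57198e979081b0a6000000018002000044300b0015c20482959034039d05198052d2a63d4bf617ed407e40ca55d4abc1b6036b97ca407c40c2047511480f457000260fc038b14044b2211c40010001205c000204a29ec53dd3f295024f4c3f788164092a22102085ca8784bf620400f1502a17ec407e10e885510ae25d440d0a1e313a5fe546a909a21380000815000888e4b0380ee000c28504080638001050825de19200010a121998158000005140a384721410bb6a0390a4501ca03802840e78c9900001ad80021658497c49b00021424286006400005050a0b06dc59484a7094c131443a09122fbc80d0814,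
  nat_lit 0x11940f341e480400086000482c2e3094e80000ad60000280870512a026844c20f7e13fd02e884422889d2947b313616a82d3a20f093c5eb1444800320ac9d2147a313416a42d3220e093a5ead444000240b84150000000212c800401f203988e9a8b5516c57f0afe95f744dc41480034a1664b895392a930a05ea8828000403dc07b04a8000430f25b10c8c27ba0560008125cbd28497441016802d18fc01804413861c146028945138a224aee513102a904c12fc260222d31366234b9e173d40a8412a77631346230b9d973c40a64120035006e5684bd8180b40a4411a203301481441b3000225d84f017752c241680822018c032044f001840b081587884a50601502a85ca81ecc03a054087430991c740a61ee8b0f2cfa81485bb0dd85f7d028873e816544fa05016f922d991c2bea9ff0a3794702e585cb502810424029027801281400000bac1034b998007000a10c021216b722623a1c0062058409e41005202f12815c0058e8622605ad8211842f0008001881f0784001844c0840001430c,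
  nat_lit 0x13b128e481e442425945fed03c07da2de8b6aa0771345100183140ec25780150012226844b95501b4634948e00d251b40991883e4b3844dc00a000811322258aa78da21a4846fc692107a28bd3250dae1b6044a40098007113022500e401ab20f051b259a226a00480030897112855346d00d22237a41d8005112c224caa60d9f1a4246f06908d9c4c844e8883a10e45ae0bf9168a18f499246d9912e2266004000210729644515a8ae1b6036b0892800f00062250448954a20e109b28df1982000c00711241b5699194050e7c038e41ba12f000038201ce038a39e940426441b5244880060001197ea375097106c33000000012003079f8d7e4c5a305060c0580850c0000baca130aa027e445d4184c20984150824102c002a14a428441aa85f30c88524002040a08221050209061245d29f8c83445c800007041a42a174c31214700041020207841208201841173a2e320cc0008407081c1044207860f45cc9f80a9e284805f641910fe07f40ff9231a61f1a7809bd0a2214500001018831131e000000904e4134c4db09a60b2e1658001800200344180000222c9bc86d1a63918d459e8bf1167a18d498e482f23b403cc083001140ce819482e40daa2ed0320d243cccc0ea06312c846716b540c4268a214303881844af0000183c0aa0153224c44c882d,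
  nat_lit 0x126f80041d2449380031a1c493800211282db000118803d00000052d2988b6216cc615cb3d13d521b00018006264c0b6e16d08504a5ca60c5b08b6530ac59e49ea10d7000a002d325909e25e1296a98216c02d90c2a967827a64358002000a213800180094c940e1d0e6111700229ef1495964511cc4268b6230a659d89e890d40004002132405b30b601e6c84c27a0434c00080074c8e99086928aaf4fc04fe092b9096916d4b2979229344ba880226e22016000084a00022bcc805000c00005b30bd00f345af27f22a0243c9386270b21ca991000190928504c3c1902226c44c46ae000221210f718b62c6258c06ad8001211c26227d3275a99040000bea926d25188dc2c76a4853d90007221a87081bea64021190f598b54944236cb1d29204f62001888621c106f842283ea43d462d125088da2c72a47d3d800052216870084444c600005e1254e4d40991a78b484c14e01bca1be2212000d3d72262210c00104f40964acc13b127644435386000200060009386110d2764421001519a661a0c350d2f4ca24ec4886270b000200088414e0a441938ca718000000148400002004c296052e14da29b8887107e000000f8f533022604103e8b4c820946c207c0b952ae983540f61e28f4c51aa81e84b2,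
  nat_lit 0x4c6a11e800a20b3416200047f5263e189e26792aea55921604a9035c4b8e2fa85f60b0a1428288c7f78000000c42b8001227aa4ec84f0fee04a40000c7403001fb05274bd04fb94ca299330c861990568e32933d4c9a99230c661950560bb48d554b2986130c882ac3e50802618d055052282a905481429728519a70303c4078400090ac084c3288000000c00182c7279e4f35415232f1ff000102c513ec1048001058a4d005b500000b1939889360b0c9e593c92b00527905190aa0010235059a0660000113e431e26a0aa34bb44f814c3298530ac616105090a893094c2a98430aa615d05010a61ca94ab985330ac827c1154450617504f036694580000bc2173830785300a629f3400f8a9e226c3dcc7b9198a4a2a4290a9d003c9f3149d965511ec92f525e040b080c14308510f0e002c44c0bce002830c1254002444f1254002030a0ed0001c8060f54001874c12500014688,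
  nat_lit 0x497452e904c4000424f84970c1c00005950b2c17b049d44c0a590c4ea93730ae622106090c092ed4d715592ab4606506010be0add496a0bf000d29a8005178c00480041a280ae800317500af800211240ae0001112129f000119752f2000002b642f25e1107020e42f985f64d4e0000001815a217400085564d4c07600000aae4ca04080ab0a589443938d271c53acc06a922417642e01550ee822f455e17f54174384239e52fe545ca8a987e4172423962741700048b934ad226a862da64a1fec003505e80060008121885b003a001830c003400147500034001030a0036000c5d40036000844a002a00045d0417000005d24b2296604f48b8b4ac22688629a6421fdc001505aa0b721692cd0000178d05980031fd8990062889a04abe2e244f3a59630f296648594ab40000704,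
  nat_lit 0x500002e9486c17483ce88ef2798177a000c86b0c7223103f9a64f000443511db177600040d551c42ef000007020004001000b022a2a205428c8c85ecc6c95f52bec57d4c6c98c7499204b0002800021a4002012b49906318c6c15f42bea57d0c6c18c6498043420da3146834c5934e64628d069078a1b0c7e7a0d10f744bf957c41a0268a123528a833c50a1730116422f055f01148738c258bf200000008b1010ce00005f804b2247027ca2842978976c37f87015114593106990cc59854e725e10024835106910ca041949fa0d1124d2e8189b41a010e83691f82833c5a20bec199506707401c78c1420cd133c53da93c4198285000041988334003273a229e550542115472a8c04ec86400021938306084c000030715db0ed4326990f2d2456594299590312ca4e106490c693094db95622ac660890640e62833d49b20c70a44b1f20c6028400206be14340af416000d101a6a3ac15602ab218800184a144c8a5a0c50a93b302a4d3c861,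
  nat_lit 0x808d841b8242047e0b082c6858d8b1a508a8b94875000c01b06e18794000c1fe984f2e7c5548000905c00081fd8a5a082400083fb50dc131000002b0056404b07f2612cb9d28f729d083b84280d761ccd3b21083318083b487442146309076003c117d075884400244a811740678001951204ae439a43b00002eb094d000c83a022d845f20b894a04b10dcc2dfc62d521d10e49268cd898b42dfa372c4b0a52720b6117822d20e721c452d0a5b198ca64cc9918c3317683988704f24a648c9898c2317483945750f3e9e28ac619db316e839086f0356a3dcbaa18b841c61a78047316e83880b74a1e62d10708ae0a42c32a037d07000df8be524c00c8c000809e88f621b90c880001784002000e0014000009da4d831ac63a0b0216052c08864086d0026003800486844a94004800807889608009000e19213fb1e8200101e628043d04001826044d47a080020c9021c0f3d000204207fe0ff40000343,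
  nat_lit 0x100323bdc169000000654bf90fe00714838c774d56320c0e40d1e98040000cba9e1094880144214637923582ea2eaa2a70462a6074c0043f2130000032ea348000084bc65c4d240058008a8731f0a3da07c2a8730022005c6f9234721f4557908d4f004a34008210631b4919c1731751153043e011d00143a5011d0012186011d0010227811d000e185011d000c344a14c000a310811c0008184811c0006343811c000422501130002310011100002e925cd2e8a0b6922d98ce41f40010940a77421022a8c08810f60024001a8651eee3d687bba8650006002134218b721e93040000178c93f000141ee632d22c02d72e842a2445925f431bc981c8791ee8a18800000061bc25b18b6aa9bb32e8297c38210f0000c1058c93192e52c4877000408307a38a4400050d717881620000020b0f8a10f820b00d8002907ba97241e243b267b318e83c001e2e1883bc00a,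
  nat_lit 0x4848000065d087811041be0bfb1f3c360c008800a03321e2d2142423223d0cf8000178c21f837a17f23e706c0800f0010065c3c4a4265378867888e129a0658003800e132c957d2af043906e20dc81bd111a00180068d7f1f342fdc1bc043d0870145116ba2d8223136a0cdb303a623cc4604d148381e1c3c30194000a445a4bd00043bda33f00042f08007000231010710000001088a0320000000291120004027136a21b49b600c91110445437480040fbc0278486000617c80010006262d2aa2553085c10cc1b8836f497092d4887000426292a9a552085a89ecc5080f701fe8c0c34d910c00048d680384248125c24d90984ac82674b7e233622140000be117bea88ccdea3ba0aa04c380404244125424c90964ac426707031738422e442126714ce000052b0004a1d8a468dc31b884219414929e14ca441800129304f2c90027d51d0c1c3800050e852354daa20a1ae8a4995ec4a3c06080c1906351ea53480102116422844110082012a1c1438a7ec22b89ee05be267c000000048810004059410a0215239e2e1026b0a08161135219e331ce84488804c4c639d088878a05694c9211014fd16a98e6421e257a13a31cc843855d,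
  nat_lit 0xd4909d8142145484c109c289aa22ca24a89a000444f8e51292800040b752a825e03e5801900261a980b68174000c00084a4913c8eb8388a3e830ec61cc0028001129007cc0f8905b227446f829f048e0924308896327c63a64001913833205960b2d166a36e4001113600094e30c530e4a1c6802f8060018644d0001322a1ec80ad0147028c44c8000318a383c89802da059834f800c427a6450bb197660f781eed09d912ea0589dda46e0f821ee909d912c1ad94e0a13a0a0925029c142722bd9293321484e035947e85f7509b86c84a38b24213615f876318f6426a2ada195321a84d02fb25be63e109988f637b4c76213211e90eb800017843498000000a15a54d4a98e30e643453bb8fbe2fc6875889500009d5c0c20180537061408941c0c9fa53f411e824704fd8a4a172031d084bc893021c47808ef13f327ea524cb8f98e7425c44907420110021828e996e3204a6cd096912204c809a01364316641109609d4158cc72212b00203d4212a028516b800019740cd800c002636147d00bfd06fc110c21f051a45ba8b58890,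
  nat_lit 0x9f7214c1088000106f4b982ad824d043a8814b3c967a30fe62010a591548814b3c167930fc61fd0a506ec2530775a854108420fd0a491529acc0e7014e434664c50a40d863238c3e2147000c817a9e3428c14983941ce039b84fc09fa000e0020530262535045ec48a84c3a00005d608f20e641c90e6e1cd827d84fc0005000c2979311a61c229c4ea047807300e447368e6b13ea27dc002000514ba4530e6c1cd427d04fb0003000829713109a7e2f5a0d088a5497e000077b30a627cc4fa00010004296930f97832f0a0d01260a4be229032580001088000800918da64b50d8818b228d3e2106b13342670812a14222890a429d94282172a29a324885003c518cc649109f843a91b0bf8213e0e810cd9923427a268082c53a684f03ce011e0265335186630ca85086940a7c64850a0878a318d4e92140158911d97ec427e2de219d323e84f84d012e4646109e8b7c389c7120e1e24084934a43966630c2633509e9142992cb831435286c5218b329860319884f08a0,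
  nat_lit 0x29b2099400287d2a7f94f198c8224c9f3000600061a222a905550510230859f12ae306e85700028d101546102115919be45ac460a184327aa7f14f098c622489f2800500041a1e2a888c000a4860cc9e29fb53c06314891a7c90012000c687117ea77cc6211224f9000200010d0d15402a98286050822f800088aa1138227c787025d22f529680011dec000800017485680710000200008b34a542ef860d149c292e413058a8b36254c60bd0aa11781c4550b981533586680cd0988f3120854c8bb4908a994c8a1915337e651d0a911748a50ccf199f311a62390a8917240190a8014200306af111b2ba053e84fb89f8152c09d4136870a22e01360274152a27dc4fb14f92b9e44686ae800b000845b8f3f52345fe088c8d5c163c622d0aa000325f813f08b616489b04591000900044bec27d84fe16c6645cb75116a000485810b126844d0d43d91688ac40008ef600040000ba44bf456200010000459a2ae0b12165454e86f30dee44506ab0b18310a85388b24cf669a0c0419782d0e5a24c439888429a458a2162d0c5a20c4318874298458009d03b22b35340993a429645782f74f323e84c42a14a22b8589a149028438486c61dda3808702800022b40000aa92822a498b56937c26bc4b788ac111422209ba94eb25a285348ab,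
  nat_lit 0x8c81180b3a28781df001b42fa642cc852170232d1272a4330a26748d511a9a522e558d0b78f0e9ac4d509a99522c55890b70e64158548a155f2ac285b45f54e6855810b605223d710b581420f601ed0777001685c50b80f1085d9510216f0b9443d996742dc2498fec543a85b421d43aa65990b609a08b88cb3216b12bc4fe89fe1c423898134827104ec09dc794000242d6465221000002f084c61d0e55dc3210643000085a4c9694a75562665d1079192000d1eb173c296852d445a88b623213a70d5f155c99b464ba7264fb446e4cd1076c000042894e82d88a614bbf9a1a178e0008000118e9104a8499c13080a8c8c23aa1542ca463069d142c692cbf529921c464ced0b2118a2f0542928ef547c66f14e0185842c646222a6547a66ed4df985742c442990944ff205950e4995a42c23980fd121ba437cc2aa160045516b995942be0d980000c7a0050a060c5c8e48acf247d0fa82bdd3e9101a42c646189b4541a858869207424cc10b08b4406d0c4ba1600fb50dd995442be268057832a885784af,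
  nat_lit 0x75c1dd847908f61d145548491091e5a550c211b60f181e514151eaa3d590c191b408e8397084b108666150c111b21c14cbfa1810688c88218000280010629198a35146a091ea23600008628061e0ec80000c52a34825f0c4c3308991948028fa53b4cea17342e6a85f48d70a8232e4c149828546665b951d217c23584d012a425525a08cbc217b11b0746aa21546a65dd0bd02629f4879f27c80242000839719bc03b000008a00004025004b14940000118022e1b0225f54a8a94c3c50005001646aa3bc00002eb17db3430a8cd0bc8001004c1994013000142f2a8cd1dd91a885e000000250cc8009400021785464685cbed0a5e234c0090014200265e4bcc8000234800083fd52863a20000027004cc0e84594a970c2daa4c2f465e90bd0a9a142e8468815e0786008d0c29913541464310b991a01d0cbd097a22f3ea67d0b90d0a05f40cc0199442a65bd0b8919e93c154eaa2932d865c10b8119c85c10b78142001c6f20f6432de9cf065d91622dbc45c08b791422334000a3f647ee249a829266a40b4808102d523602e50d7998632da85c48cc,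
  nat_lit 0x4209865f80ec01de62c88e7000293546010b1a0000413889b032024a046d0bc4244cbaaaa6154c086648e6444a6750ce596ba2d7664fd0cc11ca239c9ed11402286a9750cb83a086a8ca22a3c547664f50cb11c81861522996654b686541cf432a86500a1098412fc00004d0000404a009507d40f301e787c1238c0000b1c290e1c68b1b27c821dc43a8f6f4322471236a1c9a9eb8001829d1c8aaac15591a76090e12208e118e43080001029c1c88aabd558a4560908121c24291c0000414d8e43555caac0c65aa111ea03d3c8289494237c00089224aa03c0465e8cbc1aec417cc75988944fe46f0005000035580b84ef835402ac8016432686445a64a1ea9450c80d2435b0b8a218f16846729992431c2b909e22d3e863439f0192662d0c60a141230246800608f9128800017850c500022fb049d4939aaac17ee27cc1130224339e89408dd0b7027e400003a8000c0ee241120f6330457291b800080eb17d503b000081d72d72204000003ae20f0274,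
  nat_lit 0x209c45a10d9099e86e9540a1b1142831ea3ca04000804ba5974c0c38185454c8af00004479062903fc0800ba5174b0c361850087010d000200248f144a0aa50084810c00001ba0002021a042c42600029e3c6c08e8800006810b1d09cc5d791cf241e5110a66959c32b6a9e90d591e02750a66159b32b4a9e50d511de9e38ada17f522b845790d491dc87f154119bb54ee86a08ed4360a9d90d38522869d0d3014224a892880011a48835131700001e700011670547026200002ce0182836e2cd89448cc1197438710d111d886a9537a1a106890d419a3329c000400110de2b1c4dac71611f0446c475936900000050001003c041d0fc194b163886ca8c3333aa994cd021a423a90d5aa6b434617290cc3358868849312d03e050d087ba3604b9721a0168468099aa433e2b904ea09d007140e09365072a0e789d20fed1fd200088e9444688880e0136407280e749d18fe73168000400491d088accec98da31660000374,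
  nat_lit 0x202420c0005435e12e85ad0b7316ea9b74592854d23e927e8000197536d8b7316e22d6025c21ad000610584038ddb239093f08f94dac00007042cf647186ec8805082800050d584b616ac2dbc5b8a6d523e0b3c967a31489f504020413000086a825a84d210c247b800302d688f0c0d92d825b43ad800202d405801d900029ce8c9d848e000034c069b090c0b3a238302e6050b1ba1a523d810287ac43480d100040abe15742f785290a5047f54558c171ce447a8d1b310e86a4664265e63e50d40a7e86c554721a70e8112499c8434c258a39c339086944af109866fd0d705ca28fcc3721ad1a48a4baa8a4358171083f333c86ac56e475c67210d5095e00001c2093816341c98b1c2b5c6588ce521b31fe00682a94339c67250d90c32872cce421b1035800102cf1b1436241f003df503a47a0001020a04853ce99bc23cc7ff054a470e6978ce321b51b980812a8343682c990eb338a86cc493,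
  nat_lit 0x1ad000108921ad0000889090a40000ba493e9592aae53494992c00b801b004410d44130dfb4850481a5a500002f18b7509aa872400aa649349047e46a98158449268752d2120490800000e084b99590aae1348c991c0098017003c10c44110df7483e480a6e900002f191f534889914008a1c509a22dc45c50b7216e6565d3741200137c26f07b1001600305308010002800801138a5223fc154000c1d28154000b0c30113000a0c2d15080091d4015300080c281530007175015300061a2415300051a2015300040c2413b0003174c0bb000211380b08001174014d8000052d366ab4b2b1056305be0b7b16c413090db000214a60a688fe534204fc0a20d431e3a350c69f91e5346898d400091fa9650d041a0b4f7e34f88f21a334c680000002000b23f0001800a083a20393ef29d01408281450229d04fbc203820e800a436812fc5af8b7816f25a94c9099244c341e800ae02974c6868c8d2217602ec25d808f20d3d1a823c6c6a08d3d23c85d80bb0976023c834f46a08f1b1a8234f48f217602ec25d80d221a324c6647d800023a04908637239c6a70d4e87b90f7486c46400c0833fc938127533b086c07bf436086bc0a1,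
  nat_lit 0xc70558a87942ef2d0a68450f205fa59fd56ca1e31558917923243c42878cc733e6878435848fa68390f00ab4000488d8cdd19915400da54fe61ef83ff880017a021d45e38bc643be4848b30166821dc43c166b35a26b64bc7178f43bc48405b2557a6734d679ad035b05e34bc721dd21712f21b3b23d847b4d571a0943b83240257359c6b58bc5978c43b630708652f0e4bf49801a0743b42470a3b2f20a844bc521d90a0cc1ba1d80284686249d0e8e13c0275a1de16190f32acc43ba1728d5431808770664525068090ed8ac4222d56421da16f11459a0143b2258a445340287604af1ac44820d2ba658004887602720b84173a2e145c3120e1f4827d84fe09f8652131f07c4003c007c53a00232419128000019745cd0b8109c28754010a65534a848146af816444aa893c9050cf00020904050c001c30b0d74001875003e6001474c0d6a00106880d70000c687,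
  nat_lit 0x95b55f287f42fb48d268bd0fe0ab414e4402800316ec0428083000006500050e261c4067f9682571e6e28dd4aba54ea248a00040e2409e40128022227a4c791131226000c388870e19fa3acc44e8d8600083b906eb02dd19b000017580008008007038d4430046f00b80154028a68535088cd49120000001c01b8e3410be11b802d805400a09a11340122200003b484b26368c759a6433e4173c000922022b42e60000056c00087170b9225b00000e3041e04b848ea6be0d78999e333e87b838b04e466790f6815200bcd0f21ec03fcb70a9fe2dc05dc130509f22a90a7f47d1a944000848795991d2a00042f151863a5800001e00008bca9b33298a0e341c180fe00055119043208a40f437c00004e1025913a0274d302176a2a64a69cc260bd411082f510f5121c49ec8eb01e703da07c00018001000607c00f681e724340f601ef0004000000101ef03d807988ea927a4f924860002300259247ac00051c5400001ed0314062c2f791ec4d702bc4c282b36538e48583cc079c8d44c26184743ce485167b34248798282,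
  nat_lit 0x200005d02396167c0028000248135ba6bd12c04210a5128250020003d5399a46442648f84b009628eb55a79ad1348eac55109123c8eb95a71ad0348cac5110880dc44794bc93c5562688406ba191eac49107816e8fccd22a20e06cc0000007215042a47ee0f9425844b649610f941fb848e800154da60894b88048008c1fd0000304e8b9c3212a882f70000877c000c85210a51fb03e4095f12d5257c3e407ec10a52470001290c521a6db8db7abc1378a9e7491b0002471c925924c2cb22ab091a0000a4282ad23de35be2070919521036dc6d7a82d325820d43a706c700368839105123040154502a640000000540b149312aa253d35726ac245c000951934946918d239aed2e5a5cb891600005460d249a45348c6bb08f80d522454a8b9a3944102a0250d3472881c21d459268e51030b78231d581a20516852389a3844082578000223a596941e0a340e5c88e9a3344062f8a7eb31e4880857b4a0e68c910085fa5aecd1922000d81103aafc43fe2bf16bd339c87f855b,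
  nat_lit 0xb63976d44521b224a134cc88a057a2d1468b911388f617dc27684e51fba0030002894c1a122530002800c24bc002094b1a10252c002000b1fb8139027605f62410497238a00002f0a6b600008e246bf1e8a3d1c58b8b13088e10a80040001129e2bec68526b524b489612042414137c2700fd8000e00004a38d04128e49625d02e92a8ecb52892500084958f8c1f74000057e00080c2c1861a9b34166830d8ea97724a8001919c186a30dc6210c3d0a540010309035e8b00ce615f724a4000a92d2e8ea8d8b50092024a000011be07400f50421087c2c28587027d05124e7c8131024518088689272a7600040048d14194c14a11ed29602608a650a6a924c000417319e634b867ed4b1131f249400002e1215a66fc17282dc249016e99c144402ac11983370887c53f4500695510f0b783480d1fa21d16840f213184438268a2235640886c56e47f8694910d095e4a0d58ea2190b8431d8638000249189652112529d41500150028a9e0d25a2180004a1889220002a4648ea98b6316e203c9214d7400045e3,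
  nat_lit 0x1a22af189c6939054ec000539610df21c843f080f127294a8bda97ba2ee0000139590de5212439407f010624e0000108e002947b90880bb61770000126e9ca0df8173e2bdc533c000926c5338000056202980008002184253a94f8abcd29a0a7ac93500000004082126890c4cc4abcc5796a7bca740c1f00004998000008a010c23410c8ae84886110e446634c80031418556d5e59a79446c4990c1b2b0488d46644bd669e111a043a92ecd3c223315c8504155a44641da2238568c88c450a53ae5284929125356506e78d39a23124c40bf81811bd06ab4d21223024283e4ab42445e2f8a5e534e288b82fd2e0869a5116899a92d0d38222c15e8b82ab234456189a231567c88a8555181eac31117878a9bb159ea22e15892531a6c445a2b909fc52ec88b04d0520244bd5e2abc656386728ce3222c24c051b90f7445627626e8567088a8359,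
  nat_lit 0x3180d9c363666a96051a9c56e6895094246926bdcd791996332a894c1004994af1cbda17b244a41928c692f6289440b7000608345cb8bf33142ab9c4cc099a2504ad4ab7044ac0822623353889540b4000c895512a0b1a08055b622530555559982544a40e017fa35328944103285450b91280632a6a49b4a24f02ec892112b449c05f8000003a064027144a4ad9912685ca9868d49224c087524c9a9244962b90100002815d4233000a996cde19b3530c66190cc19280001050a8c332b3c0df81bc8a82000c4ec89e04a700c0c287000425c84b880de0004509018709500000a1210a40d08a10185c5664bc20111000e49f8988131253d86168111000c49f0d16372a6bc55e69392272aa9ec00327313690440093d05da0bc119c233605ee4f0153d00054e609cbc50c9278205817602ef466e8cd417b13bf54f20011397a72e24ed2c880001c1087e90fc36889cb40012a7727224e395e49aed3722964093a,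
  nat_lit 0xa7800000284002288053d637a06f512921128215042b003a89c913790ca46fcd5ea26e12c92af174f44da1dca277571e89b03a00d021a1d1358b769370d5d226a15c872a19ae44d21e7000c000c0a6000a000a3a8000b00083a600070006344226600042e8000f0002224000300000a5a7bf2ce059bc638a824360e7114963a99e1b5e003000692908e8cd8e998830c8ab589c7001a003600189472cda31bd4111b0538864b154ce0dad0014002c000128c1ca435e24b736c056000008c868eccac0800015c8004000302d83198b121a491bb224144830ddf2514003800202ce20d52b3170c37e8a91c944000c00040970114022a16b8000025a044c08612b6250d16b9a7134e461dcc3c199d44b23210aee567cacf4bde97ba44b034da34e35fa6be0cce199b44ae1fe0306579a5ee8bdc2256015870797b744aa0a4225544a805080000c62a1f82f7,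
  nat_lit 0xe6275113e08d0a7794efa27b02e8570908f5498548090a0cdd19fc10d400100030dd44aba5cf37c8b15cde9085009a0920ccf81b5747d8000495617402c9862a8c4b350a4b8d4c491d033ea8fac00012aa000836c86db0a0c10c4954015a02b92de25bd1160a808cb799ff35a889dc9534ce44d0913b07721f607a0a2750e805248a4c44e82582a902d1058f0521086800043c280010868148458f09521482219c0008f090002219c520963b2d0eaa3c4a012a200004330a3f1622581ca1888b4117aadd085990b0254000100011e1804c80060000050838006ea0dd006c80dd00044a7885f1e2e00003aa0006001400891d12eba28905100c262e203ef494e0004001113faba230b8617cce60b1625340008003001e473cdf6a6782530000000a06100c1818f0303252c00006dd095412cc2590c5017642ec4b5a178a4c184a507770f084820e141ac644e82d3227a573889cc2e5012462e113909264714d62227112c82e1975f44e02d12286358689bc5bc1a484dd91370b769454d61226d15c852c189c44d82b70bcc336889ac4cf,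
  nat_lit 0x33e8bd951a8b058dca141c283a8a3095c514eb054dc9941b28388a2c38b0dd4a794977941b4514098941c57988a242931c92423536e0aae031a0000000996f3454452d4c112b600044418885521e063895a2e565cb075028fb1d328a349591af8af2514601801dfcd78a28b02d0003a28b45142c697bd2ed68a24488101c204114407f6457cc86228705a82be8581450c18c8f3032ae8a140b31f8a6855142017e00040b901750360111ca4212b000000b8817201bd3222bbe4504172919635cc8a044b24a9e5d851400b4425acc81a27f16843a60000002800110e152c43fb86cda9e6028800090e052c23fb47c622830f7cbf59350450417a8f491e9e8a0415412682969140020222e9506197934126b791400b18a3186fba27f0228ae4134b44fc178863314ac89f418c,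
  nat_lit 0xb3c21da31f0b3a54544ee06ea0def454c4b6036357d68a9401e0ffe8a9042252ea39a473393e000068c9c46225e058aa3b242b992d63c8479113df00048c98461a5df1ec6a47c2b9057125a89ef0001464a23092ef18393074606cc0c2b1454ac4b4800046486ced19e81b528a860455892b1354aa526096802e2070000c80170d2e6ba55ee9b2957b8528c967130ea078e4c9c9825004a04a220dac1a0a000915192cca31816f8a5c1900a0ed41d0b2f4c9426b867f8001259539e9b5637d65d9c67f00004542634d4b510870b744b2001221a4586ca6d2a6816be2d809340cf119e44b1801121a43b246a428cc08264b100102176139013c0014002075805b90b6c420d4b318cf453a004c19512c20adc00508980afc00486180afc004089e8e3c0038ea00af800306140af80028ba80af80020d0e0af800188940ad40010ba00ad40008c400ad4000029695ed564831e000e8a44c61a95a20ee16a82d68ea405644b0034b35ea6e7524305c24e166ac15488b4e17908a4095f4f34000077b2d847214e41926b24d850bc6cb880d00088a38c602799257814082842b84570d5e79af1579e8a3495d,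
  nat_lit 0x44fcdabac2200160038008a9954fb22e28b12999425d14938e722874339c003800d25cc05f0008001806b019f00144b901a9001218601aa00103a800ab000e3450083000c3a601a8000a31081a8000818481a4000634381a70004225234800022e8019f000022400000002234c0d012e200094c327ca16f6aaf8d6ea7380bde17c527ea4f625c0000896911ce4b78000214207e29834f8e2de155d9ada4e6a17b02f724fa363e8ab096e5352450455288bb06e48abc96d292eab95157061c0ae5588a2ad0fe471a95f945581ad8de5262a8aac55b2f426b6115505dc929cd8ca2a915686fb2bf345502aa8e96241200040c41b0aa72c0000460000c5a0a9c90e240010b3d27801310001146021e4111,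
  nat_lit 0x11000b25c8011000a0c30011000925f001100080c2801100071a2401100061a2001100050c2401100041a1c0110003112801100021124006800111200118000052d32c26601216008c011001f36ee5360a6c94d836ee007c97b10e41c912a11b76003c008401185f80bf4949ca3912f432900058009004000882fb85fa1de2a54c774857625e40d9000b25e00dc000a113c0da00091d400d8800817500db80071a240da80061a200d880051d240d880041a1c0da0003112800a000217411ad000111200d5000017493b49b8613bc2774697003045a2640d4cd0016002600449770e2a1c6ca6494c836ce003c009001512fa994132792d25320a639b66001c004400985e8497a6f64a31035c25d9296800017842b205651db83b7c77005e90bcc0044007800c36c894b0975,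
  nat_lit 0x17c001a2f0817d00183a5017d0016186017d0014227a3610012345017c00102ea0157000e3a6017b000c344017b000a184817b0008343800d0006227000400042e801710002310000002dc00007484ab853d8a7b87490e86224400500020ade26b40b7816d2620000800911201d083a414f629ea6e51629a38d03e04c3816b000e00002b680000010223c3a0a55f37268e0098600042ff070102f305ea26a89850002a438c83930800006a997a8063021604290f741d203a388d90ec01d7c4460004260c787296c1e10222c00193045eb0bd790bf111a0008981110022140008006058c0b6000015c129aa53b0c1c183001b8011001e6e292ab0738110c4c0091d006a00400071b8929d453aca751b89001c004097f46f6000065d0c449dacd882af1175c9ff54dc8035001c002d1c0a37a25f91aa8000178d3b49b0e55de2eb13fda9b700660030004a37f36f28d5097d4a4c003065d,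
  nat_lit 0x144780001dec1bca4310712000800a9ad84fc82fb4c4b1c043a3ca2389944f08000077b12400dd81bba42f070e00000098be517c83b9c7852783264c013802602840128024006622e83b6258a377c010c022806b0c804c9240a000032ea71317d09f78d69000f0046009401203830640903520493220c9400513200c9800486180c80004061601a40038ea00c8800306140c900028ba80c880020d120c8c0018d0e0c8c00108940c600008ba0900c0000ba49c085ee27d2358c000c00b801900300ddc18a240148044c7805c006c00d0dd7a57b0eba22ac0120015002c000898e1b92a53cccd935506d80dc81ba8016002e0054000931a00016112c213142627919f040a6a1cc8d191758ba607131588df11fc35f8002131833246608003110441b0c4700041180cc3198000041eb130a35f0000026a003800418b2316866506c493161600009801b11441d503ad15082a0e6e99632a39f26291c70000175800609bc0afc004400c88a00ea41d60a83150537488e34989,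
  nat_lit 0x333400392f8a2300030d142ec00028e980af40020d1033280018d0e3328001089404740008892000c0000296a5596a51c0f3a923c8c78fa8f51a6c3f9d4eb001400044cd8104021c048c08d0001002a004000703a10084010c99a4920000465d002400005d2198436a4007801126640070cec19ae122000d18e420bc3ca001833ac66902b0002c49089220210006800a1b483a687be0f7a52ae1bb555213f02d044cc01a800102f18391000e227838e000c3a8038e000a2ea038f0008344838f0006225038f0004224a4380002224038700002e9256327ccaa68371a94d1ee03dc87480d9a0000000c1c3132e36a09ba000200789b68001108923e0c5217ec9f9cd6d8018000a0e301c4838300004cb2896380c31445faa7e635b4005c002038b07100e08995,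
  nat_lit 0x11f800b0012494894d89ec26984a289424eb26344c6a26d813ca269000600061c284d287790ef04e289590f8f1c260014002039507320ec09a40008000c4d089e34dac6348c67a75715a8058436293461dd89c412b01f1a3844001800207260e5c1d705a526887c60e10000400041c9245e48be0e64b739b3c56f04d0800100000e4522ea45e072eab2ca709a4c089a114c9a016ce1e183c287810f041d0c236046f141a8d5499f5322136006200d622208d5051a06a2b28d1a985ca4924de12352124d28a9add46a22de23e637828d40572154c6ebd1a7873e3d3cde0234e15740488f0a04dc268a5fe000032e808800f001e40502a24331a8d6c05d0db814ce29a12fe933ca04cd83804400620ee00128027005800500090a40267409280081d280928007113c09300061a2409200051a2008c80040c240920003112808a000217411bc0001112008e000017494021afd0074009c1d7001b003a00880050008146c046c99c001800289901580002444c08b6002014c,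
  nat_lit 0x53a86f9d1b6078a0de4df3a36b087528d1b0246d42de245037cc8da455d1b02338c67117e53176501882482f705e057bc002935e000c00215ee05de0bd8824140531745f906708ce226b808f011f100c349400100031b6836e06df8f61526e4d6a98100003bd88041a4600000008db252d6713d6c52d8e3b22b6314c013580004447878a0f1033a489a113031004d580004d0e72d968ba5e40f8851ec9aa124eb2fd1b105fc34e4deda3610bbc88a1bdb46c02928b9335ec8d7c3642b8a65b51af0afc078cbc0235d156c92e2cb846b817715c136de8d6c4992b5c6f591ad09a600100be818306786619bd546be1e2a366596a8d785621102246d1ae88483b90d77235c0fb52209bd246b62ae80012dce5fed54b8e471c8a4d480002ada4af83b0234646808c58ebe1d7e5c316089c19379e8d649a852886c78c5d97072e16b040e0c1bce46b04d3a43d379a8d5c1480f0c8d580a1,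
  nat_lit 0x264a380a8e103c51e2e3f911c187da8e29673a38215b81321ba247022df24cd38048e0055d0cd26b40d6788a2114600009be000830984f089e213ca41a845308a226f40018c24540e1bc000218485b303070002309028f806400006122a3326f061089dc13ba2780832931037f48de89bb498e6fe91bc803c26411bc0844000807f80fe49e2b440e3aad0d37d86f9d1ed137400008a51b513b546d44d6b2c9019464dc914936a071d8df09ae035c6b41cdfb237626e02f18e811fda4128824104324f88dd49b7006a00d8007237a59ae8dd06d006fe0dd4cff1bf346e60fca4c037e48dc80d624a464654a00798001000144c703e407ca71543f9936c92580000bac2c7c92c1250322ea4f83cb0006000626301f103e3492a4da9916527a1e54002800213160f841f11c520fe01fd09b4000800044c503e007c292641f880920120027c493136600040018ddc0f28a48c6dd8db91b401c011fa024026c85f000000028001001947006f803df87ba26c400007901ad0a4806dc0db61b3a1bf51f902480cb64d80d481a8c4499561133946dc2aca37559968db42e5,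
  nat_lit 0x278046cc57e07f50ff68e58001943f28da6770ceda565273126124c300140008a1f146b287c00091ca87fa0fe84e5a8445b4460a9606144300021fe143b000000480011a24343c8b99621287c4e500001a2438d49c90f6e1eec6dd1b0036227228e0c239027204681aff36207224e0ba38f14ed4e0adb834962c40585a38e271c01a003500988ecce09a38d24f85aa2d8132ae6564e09a38c27183f89c13471606b24b838228e281b30bf417e476c1361160c002c00508a1113c4fa89c500108e587fb8ff82fd25fb4793000c2710a732b4124e02d4d45828ae000aa2b94580b5324e04e1a5b500002f18b51515ca2b0001a8ac515c2d449372b3f29c8ad012da13843c0d59f94eb29b649b45a828ad515600086618b06270537700001784660800015fa9e713cf0b0a2310aa248b289d34de09bb49c0197c37cc2570008000009f447f04f62b1d4e1adb938168e1c9bf471ab3c51c305ca996ce0523850f1457d2cee470825908c8269e8e0c3dd1e3e63d11c107628e60e03a38113414d29c0347002df24db380c8dfc55d00048e34e04aced37a89cac597,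
  nat_lit 0x207915bc000c000008081050d8c3a307bc0f6e56e4adc2b8d1ec6a8f800093b23c1088c0f65547a00009d8001e30040fc1bb44e191d8801d377835706ae800a00184f8c92413ae8ffc0000cba00280040d5b1ab46ee800da3af270837606ed8de547fc4eb036900143a50369001218603690010227a4a8000e3a80368000c2ea0368000a1848368000834380530006227035f00042e8035d0002310035e00000a5a879389237646e78dcc26f08e8c0079bae1a9c353c1ae13aa2fc8741007300e4100d267a4d0002e0038dd6a83e275143e1c4732bc37386e5137647420034dd62be823824e9a84500003bda58f0000a11077a508c13982758803473c0028dd4abe5237c19492c8258e2748a231473288c00291ce93721b8ca5ed4be0dac0faa4e8840328985114a39144500128e709b88dc552f4a5ec9d033c251c8a220008473620003fd0b0123704f14872139e93080000bc6a5d000024c1273926303ff28905104a371441000a8e609b68dc152eca5cc9cd4acc00005e3,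
  nat_lit 0x36b06ca00000d40008a804e6a2e0f543c170c9ea00060b1c16224f935aa6b486c30004a7fce691aa2353cb18c9e90002016002881fe0000722098722607220e59116c22f446008bf5528426cdee9c4f478c4f40000000a0044005008c042a4d1c10a808c001400249e700040a64ea19c7b26204f300010522145c13f00000a500ff93ca0a54c6299c7590667285a7851a00024f224cf5abe72b07f7051d00004f1a7c34f98000c0020086041e4d0410780860008002c9e25a026e513e58002000602141071340041c021400193c2457869d88c0116a2ad455c9d765b7e9f2800080022780d029ac239ca75d0ebaadbe4f920000000808304184ef800415c06808d0d8c6a16504ef006c00dc0fa0e231c40477a3c40b405a668ef0558275071091dd89268f3ce2123ba08755939399477221203e338828ee04d049c671051db895e94b4e20a3b61574004114223904ee80040030302c74d808c0116107127424e90060009c9dc16b6adf0001801718143a68045808a0836939d27413b69f5c0000bc6938400027d627393ed8b5856f2000000a0c071d2e0220043841849c893809da,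
  nat_lit 0x525a000070434ca1c98397883a00028fa47c98f980f1c284ce8e292c27dc000a3e830b20db856d1b583028b868d6e9adb23f04fb0dd5000000500011af03da471e0d651ad04fa80001aee3da826216622cb8deb197232de65b8dad23e42318037006f47fa417882f985030a88f8c9f447fc417482f184f30a68f885b12f08567cad01a4635be8f8486f0cd045cc000002a000d5929a02384c736cdf19be53ab045bc9f30004ac90d009a342650006c9f20002ac8ca5214a9093c4f8800020b6aa6c0ff2622afc48fe91f03a28476492b055b0ac222a11ee13e0131c72c8008000e913498f1316263c9134003800827bd1ed80081c100070007113000600060c3000680051d4000680041d240070003174c00600021138003000111240060000052d2fda601097a393c005800448864c509861314488600109ee53da000077b487a00014f60ef4a7b86569e0b534e32713db8b161c9a0020000a44048784f6aa7a313e756058d8b151c98001c000243f26204c209ec0412a7ad708aa200b8a00049eb,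
  nat_lit 0xe601f1a3670012a40a48104328d5136fe901c2e516b8b60d2030d2420f0e47240508743480f2c480821210203716900c3b116006c09201099e0e60c3a24010ea965598100012001d201001b1be6006d201000700124fe000c00120a6000c00103a8000c000e345000d000c2ea000b000a3a6000c0008184800c000622523f900042e8000b0002310000200002e928c4387ab280c02800147ec8fdc0080de800208fdd1fb13f6a31ce1e2d5e2ffe00011faa3f6001e379c6f2084727e800206961c385f84c0192a8000c180830202b8001068418722c400010d084d644a300001a1066704281a0c67c8cfa1aac71dd1f793f21fa04e389c51dc43c551f70da80dd0c2fa3ed05e47cba3ec00296ab9d1f142c1e447cd8f9647d8001041e87320e524fc15df5aaab558e8f0a150f203e687caa3eb000620f06d8,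
  nat_lit 0x3dc4c5e98bc5c9878e4dfe9bfe483650829245c9678e0dfe1bfd483445e851709f413f0a249caa4832507a5025b80740971b2da0483050728905b3e905c5704d74000065d59146160a08800200060008a08985859144f989f126b92834c2b941000020008000941030aeb2249f293e12a1e50600010000503cc2b2c880eb21d512b18493091e03f8a0b1c26385153019425c0276d4e449c885b369060a0a00084ed0b2fad8e38fe905ca0901e05f5d20b09263820e51a41514fc6ff9c0048281d8ac0d59e2904c4b1275e5971209073e9260e50241112bc0070d981b3246f08e086040c18184430912c3073a50403bb002800346cb8d9823764700301860b0c201844a0756f40ee8009800c1b2c365c8dd11bf0c041828307940c93440000bac405d5708e9a1cd2002800390d121a4563c0d924d649a05029c7e39d893540d8958e21a2434000300091cd03a64a040360563486810cf000a00207338e9855be405480b1406a2a092c90152028433800200071b22245c4870eb7280924b00001974ac210d11d2a3990002800330d45f9494b929a25409254a0104ec5620ac190d01d28398c002000230d25f9094b1400433c7498e6200060004c3417e3252a4a6094f249927fc00013b20964df518e228bc35b86b886cf0da20040008a40a27f958f91fa3802749ce49240900081a4c9fd,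
  nat_lit 0x17314856004800250224f0c16600022ce0dac09580000342847912ac34206851e203c2ce60a42e2868daf242d10886f70a0800020c017ea4ed8000056b000231703ae074b0e4a1c9820904130af62810a19000031a863c8c8a56d6286c46c000290a4dac90991e4caab8b150926125436e923f943000012141b5821303c955569629124a24a46dca481285c001852b0aee103c20707220e421d1c3ac0c582858001079c1eb63d747bd1733285437786f10ddcb530da79b545a9a9094a14165ab52cda71b535a9890905750f323d607ad2ab91efa908ca130a80150475b0f20396a908893e5124b918e899d14396a90849c62c16b52121001ac1054e59a41f03fc55f142a1f043e055c0939439c8b6ece59a4252849572ac480c2e0021212a4241e209cf1cb348462c98f755b5490884934a4872c9210843a4d18e2ba4200e80a241ca3483e268944f396090783b428eeb69920e899e5104e00241c0ea8187830e3a78b75d6eb1d0d39569070a11,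
  nat_lit 0x457a0cfb154613e427d25b20a142d6c0d801b828a8000800228e85dec98a06e10dc423e095b92b55a1e51482390000050800105200a5460282a949bc937c11e14504a5c94aa80d1616b7712230e1251f96ed2445124c643ac8148881dc8fa65bb4910c4d14a66736d221095e4f14a7024410ea83b6ab195630383843c88771b28365c9f1800c289d4581e47397a72ecbd7974a58fa002ca262734ae948ee112a224e0028a25051809e013b98202e8a0024a245a206870e24ac7f2e8c0020a23070eaf68a352c79000e3db1c731250a1c85ee80074876b7401c2838657b25194a222a2c71d8e39092750e22f70003243a5b9e0e101c29442aeeca8a9c7538e224994380bdb000a90e56e70383288126900001c10bb4146157aa0e081c0adcc486e000c5eca86e12489344a1f4bdc00005e12f005d9963e945c07000dfd6e524350002a1cd704a5ed28792a293fd576c44b88951c6c1242a1ac5eb0000001050e80040bc42f500ec0006178c56c828600092ee1a621d10000833406700a100000bc42d442730bbcaf90a6717dc2d6a5ad8a6594cc485c50e25b45bf4b7eccf499ea398a90b4a1b519e78dce9e9d27398890b03fc,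
  nat_lit 0x351c86c60d831ac55ab06b04e2326560d5a519000218feabb427100021b243650646000036206c2090d4701e5f3178409441c083700040004a3112b00014000016ea34946a0c58385019f033e887a4dd2776ce7ba45528c05922e615cc0782cf2c9cf848a8517a9355d347a00ca9995448a6458259e5c4875cd7481cf648a44672b2e32a8653cca9245123b44ac995148a0148a450489e05090f332f40000155000a442cdb500ec0010885922f0524001910b2f54119800222164e644580002acec886847400003b286ce0124882194848900d10da8000021100030f461e8428004ff0fac190c3210da61b5651716a35b8c91304b20136735d22587629650e74244a12c53c91ce648922df251b39ce912055d000e001457c0cff154e13f427f25b60a1c2d7c0da145a51d55f6000600082bdc67f0aa609f813f52da850d28b0c92147457d600140018af619fa2a9427d84fc4b683eb08670008000857a811c023c22b952b2eaa54bc3a7ca2b,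
  nat_lit 0xb3f1bb53516b599237064a9610e8ca46d06cd40880001dec000000b5bc844255ab8b2216c6a158f269baa3736a040a3f571c47208e49c0d1b620004a3e0ce8367400002a8001145d0db328f40018c181bba1c48002183068502f0000230604338d4a000060c1711004860983d907b016b965d246a28f164e937957a44dd4e87a46928ec457936226ba657123403462f70e7aa467002d703a466108800096cb004c51d07ed0fdcac4402f805c08081028001147213981fd800102f086b83f900002c6800056604198aef937407ee51c000248c2b8056e910f7568a2c405a88a724fa89f3ca37000291817002dd121ecad105878b5014e29f4cdcb946c41700000012000477d0446056a0add4690c98193651a8b9022c645a4f561e9b39d873a922e946835c0f559e9a39d673a522e098a2e4c727aa11318070c122d8d8611b5718ae323cee740122d1466a39ce7fa45906cc004083d108205c8007165a2a40247,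
  nat_lit 0x921800192da377a6efd77e18f6302658216152b76292d519aa340020000896c8002490a108820d96ba34ee44f000125b070a8dde1bcb5d62b5082ca10132d5653a0a4a52b000045e3000200005d0384e39a8006000029254aaa95a1a5a6254c43959e58d65a0420b041d49005240f17017002d48bf91802c7a09812c21d9b3a5a91fca474ffa00005e3264ca7106e91a6f2d64104c20d247d00103994de227fc291820ca47c000e399496784f409dcb540a31144528c4522a6295cda775174e2e9b3c7872e4e5d247b29103cc09bb4f1cba68f1d9cb8397291e8a434f20ba64f1d1cb7397091e438b58ce56d8d079a11372891e0a42102c598cf33aeea3a5091dc9c6554a7768e599cb548ec1ba12a8396891d40a95446749523a03660000028808701120cf019b14829258e922479164c740ae2848f03320c3436a291dc53f5668748923b0ae439bcd5124750e7d2c51d2148e82578005257232a0011001c57ca16e0001036e1bf4389000006dc360871a06f1622151f306e6200c421a8f5ad291c4a40132461fcc419a8e5ad091c0575522a7a5d7279d883a3691bc1de,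
  nat_lit 0x53000e186044c000c185844a000a4be044c0008185044a000640325c700042e804550002224044400000a5a69038a4643978a1bd7001e9278ea625bd007000c422194ae03f8003861803e80030ea003ec002861403f00020d1203e0001861203d40010ba003cc0008c4093680000ba496c0ea1a495000c6f39785990538922f2c06e80de49b252b193228fa46508ca965204ea9664e669cd349280014a55500c000077b5b0cb614d4216c7085010bd249000337a06f6575fa80529512da80001dec93faf07379200052481d3e4b5e10b89d904354b6c96d0a5323a2a134215842c491e0000de42f0624fc36781b094a46f1400581426250ad5ac782d1c108c215248d00144b84e198e76294469c98a1312656a963b968d084410a5246000925c0528000838624b7828184fd5abe51c4a2a14715abe13f4a4f4914001ce1812dd0a0413f16af147028a651c16af149ca8c80000bc656996399689083c1095244000525b870b8738aa375462526841d0848921c00212db377c6f0177f1efe54e63b10a4c,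
  nat_lit 0x1ad8d582d00bc90eb624ba297026e2d5a49722498ed0342692e04b21d9072b125b87629660eb4a4b615c82abaccf496a1da257b5ce892d05be49f4759d2598aba00007a00f43135226b818a56ac75b125d8b263cccd02a4ba19900942e704972259172e3a0292e03ed517875a525b8962a40573724b612c0d281bd3496a26819823ace92d04af01d603d424b07990f2e1e384de00010004665428314b646d007500f4092a1e603cb078d13760000000999429680008f9124124a782ed85e929640000f9233d44c24b8907dcad2ceb024b00a0890499f9495e2bd9a225cc892b8525344e73d5256899aa2c4eaea4ac0bf0cf2ae6249562adaa583ab892a855a345a73a525488f493980000cba971ceab24a800326f8578f191838b82f7807800f149ca4cf003a00829718eaaa4a700306f8178e991738b62f74a58,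
  nat_lit 0x17b21cf03a30bca179c7afcd4f9a9e339e14dc00514d294b40000ef61558be9acc6001014d4ce49b2238ec71e94a009f54a5853408c9000c4be08c7000a34508c8000834388c8000622508c300042e808c10002224276b00002e929a13c3099102a717cb597c000029699bc5b443af045f94ce5711620939d0006000829594cc026404d08cf11a042f4caa2f263df674fc00214caa8c0f9c1f243af674ec00187169cccf2d9ce03e0674f400103bc4c6ce9c800102a54b59d3b00000d9a76823344670a6f2ba71f8aade06290c5949720000a640ed200000a100023ce0c0093a52748b1304fb0769298c90cacb72ba86dc0db99d883ade92d8a6255e06dbcdb91d873adc92d4a612604ba58ef49f1f3ade92d02a84a08764cec21d6c496624524de3ad692c8003263075b125883660009639ac72020404147478e9025664ae09f9166d298000009e7064c251048609081c683f81752497052f95ca496e005000022ac751130704bf086c10e0a8a19c42f424988a5e1dc03b855a91a383d1abb94eef9d723ad892eca5d,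
  nat_lit 0x17fc3c7486410b83ac0a75c003000516183f1851e14ee6310b562d0f5a88b724aa0953f1b3e3674002800429d8c758bfc1e36431885b1d5e53aa00100018b0a1f8853a90b53abaa750001800216123f0c51c8a3e2e54559ca7455f4000077b1b3636640008000160e3f0451b8a3e1fdc5594ab22af929cc5838b0d21245ca8b959c0e38205cd0b96a4d729c81ca25c15da0bdb575724d61c7d5329d9549aa1e28fb232e093505a2511e76512698b781638c2624d2133c89daea849a2170800017862f18609acbe13287821a4649aa2a002b1224e93506642aae73492698762405cec724d216ed4bc1d8e49a22df29183b1c934055d54b800005d638346868a6b94ba29ae5f7d66980150a846758d97aa5b29c5433800019742a0001359a25f782b085672684709ce1b1ed93daca198a705286000065d29a652d8a6997db599e004429f19d236567c2179ba94229bd43480001758ce799d40a78003d66697da0aba158c99f1c233864a1a0a6e528cbcd0f829b28339e14ec0072ccc2fb05340a5994da3b24ce699d20a74003566597d80ab6158499e1c2129b0ce685390018b328beb14ce29625338d089c112b3a535800b59925f582ac855f2674707ce171ed13d9c3ee0a6a,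
  nat_lit 0x6aa4eb124f00d6cd552ed249de2ad8f413b6e93b8313524e76dd27689a600540080b6f026411a001049d81acc3558be40aa29a08f2c9ee55d28540888e00143a5088e0012227a78000103a8088d000e185088d000c2ea088d000a344888d0008184888d0006225088400042e805300002224088300000a5a80e3c9a99d82a28bd80d3e1a9d2700004045008b0297150099c40000e082200296022a044c000926f06a50d3a2f582a1a6744ce053f800149ba1a9034e0bd50a8499ccf251ed65d0a33c8a7e20d2000000900023dc4b7016df373027584e8906929f555aaf813ef67c60ed1a4da07bc7109f1b5e9a768926c8368a44ced0a4d8035940c9d9f49ae0d98cda28ec4ea49b08ce352eea5d866f173f2e709374a7c20aa53848a48a0a0d0819c43420a0a001e00286d114f600254ed1d632176432c5900a9a07dc0fd0212122129e886510ba3ac4a7640040007161c3f2051f0a432e5e53c96ae5a22b5196e595432a8236846cf8007000c2c34a78,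
  nat_lit 0x9ab4ee9250816f00d91dd24a0e1710c6d321c941856e50ee7745282895e649d77725040ea800083e75b8e1c0800007c644dc12607d055d8a7b94fa207638f848d891a0f460018a8b0e6865007600b6e0f4c00144060c0ab7d96fa89c60f480010a8a00061ea000280041f100bbc16f82e0060eb22d5661512475046e88da060a0b7c16f02ee1f0e000c006879e2a208e5ac3523a6237046c830405bc0b741768f86000454384e60a182d8450228223cac0bac1760f850002000ca864b84236846b830205b80b6c1758f84000000283cd950a00086008f451ec83e1c44000001e5c2595aa04dac9b517a15bac65f0e489e1d3b8c93f8a845220771927e8b261328e7aa4fc1a48c8b9dc149f629f95963b8293e83ed4a1abb7527c89605224ecda4f815b85501dc149ee1e729303b8293d855d000000205eb0bc0038a07646e611d923ae53e8ae91506000005b80141a4c3530cfe3cc276ed27a1504a418edda4f30a08a8c9db749e41869aae3b6e93c44cd,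
  nat_lit 0x4b4277b12908ae45a74ef525200e7d44f9dec4a3e257a6393bd8947855d58c42c6800380052420b184a940000320c64293101c94224008f15265529785a51c13b14ac9de64a3617e9ab45e10946836405d06fc528c8afc6a08ef12518106c8ad9de04a2e1ac28963bc4945855a4c60778928a89a61d5ca068cd318ce001928a86b50d68a1f82c6858e2a48747875c0eac50306690c66000a945035a06b350fa548a87700003820e8f1d1a1d683aa140a19a03190001a5120d641ac543b152050246678c630004944435886b050f416242c50d342a3c000a5100d601abd43c8aec5e58bc44efd9df954a65470e8b1d183a403ac0751280e33346308000000e6fe8a8d0002083010b26cf18c8546000017f22d04092549ebeb4b84970a3dd0775d28614362500f971f2b3cb0775d28580fe28b4a6215e62d0a774928512983f4cb8f1df33baa94241cf155c775128402906fc528380123c54dd8250b1a494a59dd34a1410e8c442a6294245a2,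
  nat_lit 0x1d403a8897a840513be003800907100e2c32d09dc153ab4b02b6056624e2401005280a75c482774006a53b2a702b0000a17582db00090c302d9800825f02da80070c2819600061d300a0800518842d800041a1c2d9000311282d90002112536e000111202d5000017493e41e7b4c9010e44e992ad13a6a0b541580014a5e16a4a9b01b0b3c09b893751396000052400041abc4e500ee00043581da2129400006b02070039a70e3bf094a801e186c94a4422000432354ba9eb23b7476f0f9793462a6800095b359824f9c5cc8a3c2a640000c8b004e94c8c9d192f24a447fa7db3dd64d549ab8f271e48b9fce0b9c164a5254c28d300003bd800200022188bf00bad1208240c9ef93e42fcc5fa9469152e000042c04b221702290453299a65a0cb2996232c67049293152c4bd07170a850d821b1d292952a94ad78a25240b94ad49def4a4625907a637f694885a1,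
  nat_lit 0x13a49e264aaa0a413394aa805086640cde001055b4b04000065d027e4cd92a90001084c00052a91336027e052469325812aa899aa551000010940002551266a04f80a40d254b0a554800108881118cf799ee397eb010212955000002218446126cbdd18025b98137426fa54e2a9c831ae97374c77d4f0e254d07b93a01e1c4a9806b25fb3c34952c1b300049c04f131e273c8c7d78f6926fa18ac00085ec22e0b2c07508e9e23cc55300000bdc1d24ed71db13638552a6fe3c30953059309aebcfd2a5878ab5a8f0ba54a08752a7af3e4a921d00fb93b7c95204d1516c78552a3895e9ca8f0aa5461575300800019749f48ea91d564bf820709e8002e006c38c871f197a9800aa4258427a14212840002c006838c07204ab2020403595461118b0992c113cea10541f801500321c5c38fa5582a884b709e400289508008800f1ad8bbfd7b580ea01d8550a65500002f1a550000099509ce4cb01108b0792bd13c6a0f541d8011002a1c4c38da54f2a80203096a13c0004129f000d001635a177daf6701cc54f98113b349afc2b41273200c029c0549f215072003ca9e,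
  nat_lit 0x1845808b4018402d934f173000110672d98123800120ceb2680c124a295ac00085ba0a6214ccb079abf22f0b23080c9572115022b005d00aa55812b515709c1cf1ea5690078e23a568002800192d815de43980011194b97c10482062adc00008cc1d2819188d1352a27fc500844401f600388ba25acbd6cbc1865101f2003453101e400300a155ba00005d60e16004400609a9260c4c2cf87121d243279fcf572adc2ad835e178e35164c2498289a8001695992b3801b053c55aaa753fda7ab0f3e921724367c309849304134e0028ab4138c26b548589a70012003c0a9015d5e6c496d6548c4a2ec84d20008001c05452e1a5c402ca05880af0573281c6a989c41356a4244d28007001a05400adaf3424b2559914617602688003000c029e97052e1016302c00570ab24ca4000070426941c0c004800413424bf89819f06242a4844f3ba6512ac4bc31a8326024bf44d000034abc957c009829601d05582d52242e7c1098092fc133e0008004135626904588aaf57fe7c0c98012fb133c00052ae255d001810d8073155c267400000054e9e9d403878c3959da2c4c5889dd42ab40008aa31336153800015464a2440851427da4e722ef536a06d457cd1e294ab0556035a5f0668bcd192f6b3c4e955c66f241aba84dd81dff3c4c9558aab,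
  nat_lit 0xa4ebe392c68adc992cf30258c12bc7109e604b1617081180b3e167441989095b044e84908120a003a56089332514705d712001b0042672466d0a6112fe25e4ac0112622684991289382cb88c00d002033903364530157e11716aa80194b1049b808c0016002a990000380092af815f80090c2c15f80081a2815f8007201815d00061a2415f0005188415f00040c2415f0003112931b8002174015e8001188015a800017495baab7b08a2b528007257d24c60434005800a4c6a98d0abd24f8702570b000d002666ec6660a5312e225ac60a15781e347ad115e60265f68beeaec329bab520006257b2aec00d0009241023180080c302318007113d34880061d4023100051a2023100040c240fa8003174c22a0002113815880011880081000017493660c6a530cbfecdfc1bfd5c1400052b8125602000404aba17cab4d0a512e0a30fa00005fa,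
  nat_lit 0xa0004360d5161e9b307a3765538a02456fe388558695ae00056540014b4a892a9127596a44f165b80032b589c99daf26d44db8899800216317bd9134000212087060e18b5316a3942a235eb4916918004000a415cad500084770c338e9c060e999d33302fa06440c84ad40006470c8e09016202a4b98ad30004475d76298e606140c00a3800024758a2b14670ff4569000023ac4d5067320a2b3108d81af72c8e15ac2b485f20072968d2cf15a22a60a45aee938626f7cdf01bec2ae6098800015a00004171825c2b3c00002e4123a0e702df0d56000057a0006003c29b9e743e769dccace0004004035c159a00040050014002853d90525844b08483616184c860ac0b7617192b3000490c214f2b085610106b2c2e99081571e4d55c0565a9e500002eb29260000a790aca37926f216030a77000c0014a2395195de87748fe429252b254e61feb37906f1d6028a76000a0010a2315185de65640cc753967fa8de39bc6580829d40020003288a545cac7378ab00c53a000300045110a8b2ef13b9e7f1466a158c534871580060002510c7918f251e48bbc0ee405062b1400014420fde9f257f1b034548c2becf5b1eb93c8e56213e127c0580969293d61dc63b9001325914b205618a13142a398c93a12764b1e5610da92b0a96384b0,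
  nat_lit 0xd3b78c1c180fa805104a536c6d08d3501a85762d1919c8349550c1c143822aa6470b04a35164051c0a290a4120c241c47f0b2c02e205c8d8286760292b81cc89960b2bdc582cc89ae07029219d8d851c633b6e0030aeb13a8274c54dabc057823fe033806690ff03ebc0058a9e02e005c80da544ca89c6a32f993bb276e400515d433306a2af983bb076e00048ff051e56bf94cd3b52be240040a480ca41960b07161e001cae912d0be4500b1db5000c3e5aa7a3b6800140d64f829f0000880091b30534840e27fc602c80e0ed795d0a9e40000bac1df43c0a7bf4f7c003c0038d9629a020693fd301454f0573a7f6000038215f60ef61dfd3dea7bc001a00146ca14ce10309fe13fa95cc9edd3dd800c0008364ca6688174feec0450199daa2b9542f80001dec88311f61b22000800527b94f741de465495f3313aa178ae44c46000077b1b22b2dc88211f41b1e00000040767277806c5311a6222b8c0038766275a471d66e1069002e0034881ace510249fc9806305d54de2c90f6f8b2454de376810226385f9a16082c1965f361e472166e1069002e003488191f31b1c5710000000c1d949d618eb361c59782c1056c0ace9bf4ae1000a1d909d598ea361a59742c0856b0acc7c8939115c000102c6858c1b62a9acdbb308240d674b47da15be000c2c6058b1b60a9a8dbaa06b56ac56f00020b1616306e301b2035656e8001081e1030eb9af66206856e000000ca01808980ebc4e948dfacd420c2003c0038d880364986930a95b61d749d211be59a6418000700061b0e06c530ca61a2b68d8291be59a4417c00680051b0c3634f532619037256cacd120bc00300020d85545c7a74c20184816642cdcad8561c000077b,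
  nat_lit 0xb35106b20d43f2eb2cc87d0349069000240082ee502d057eacd400002f1a8cd0000b34c9ce41ac834d0689f94596043dc1a30345000c003577128cc2bf165580001c108bfacf602c0058d770000b00080d0c1a210f5595cb2a8afb0684000c0052edf02c405848101b2337f671f8ee915f4ade80000bc26c7c0c581930002002051004bc1c5eaac87c3ab7d56f257c90620000005000400e81c1437886f25ee02bf80014d24713887f06b433e069d2a2d385270995570e2b0970287000215f00c202c2027404ea2ac94090834265269f400195ee2d3ca409484311862345458a90000437a007031d42a3454780010dd005f0a8e0000001a63b185430a0929800000186c6480a815602aebb50af60002189c36392b9257070e0caf19572bd482c0335067e6468310862826f45cdcdf61beb001457a06250d8a4adc95b1c365e54bca400495e65404c3c987630ee6c68004117a189c3140eb31d62667800395e451c4fd4aef7363000181150cfe6c5c002815243f86970d2d19d8b48400380143b7e71acdf41be52bc46d190f421fa34b46960ceb5a4000180099dbe38d4578270600002f1ab9700009c149ce21e0368087890fa1a5434a46742d1d00060040eddab962bbd4d08d291a50339d68e0002001e76e8e331be337c05772d1b00020038edc9c65361005d00b9902d165a1118aed,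
  nat_lit 0x8a000217493bb0002178c02900011124028000002225858d71009c0140b0a5a484788cd8b0af55ba1fd156eb0af336266d8006161299c18082fe10016011cef91c9e368206b40da90852c204c682154cdec03d7f0000a008c77c4e4e9b40035858394b313180851337300e5fbe00240229df039386cfcb061bb4aa0cf7c2fde001001107f4083110645c48ec3160a4774cd630aa55b01fbd56c30aa335866c400380432c1133380001c105b0107f035e069cd9d9c983bd80104002afdb60149998b03292452b8abf02094cd2c0257ed000400803f90416960401506ea81ff0400bf64001803f1fc620b034e86a42948d6d9678000217b8c835c140000251005e4df42ae055816e02db8b01005c4be80fc50aa7f110210cc01280a3ccf30289d114611c40001600000023881f82d5c009801b5de0002400410315e2e6cc8e47abbd2bfd65f800017596820004000ebbb800c801206a20d48881acbc3f40b2f8afe5626001c5e102d2001897c02d2001430a02d2001068702d2000c44a02d2000844902d2000462002d2000014b,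
  nat_lit 0x25b66f2000181524c98b85147441f46bd4d0900064c4c7bf00b6016e2c6062393252e1251cd07c9af4342200153129efb02d658b80044c487bf4f7ca7c20ce265a85b50b6e23822a7cb1658027d3cff0a0f861f06bc8d0780030016b4bc8c9162aa1d40000ef69d1800028741de8d068000000e9ef8f7aa7be0cda65985b30b69239c9d14b140002b888c00084c0000b30952d0f34972a0b93d16c20ce7e9cfe3f567bd930e962645d081110212e226e54f4f30224c3858909961332a30ce7d9cfc3f527bd130d9622a30ce7d1cfb3f507bcd30d0cfa1c60230846359e87bc130c8e809ed8f78a61805208bf26170024b85101b00c8237940e0f8e01a0007800d00181f443e7910211a82328b1000ce0038006000b0fa01f3d4cc8c0b1cb6394ce9f961eb4ec913140c0f8a0198006800b001269a8d33af2e2c382f096bd36da6528a0587c400ca0030005000717aa37116bc36d86524a0507c300c8002c004800617a86994b0d0090002cb0c023c002874a023c002444f023c002030a023c001c68902320018749023a001444a023a00104494c48000c448,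
  nat_lit 0x4d965da4003029029754909f8e524000200038b7016ec6490c932edb2c7d59500001974c910b7416dc0014003291e3f18a47c52d8eb2565eaca4b1e4eb600005e316e42db0001800452387e2948e8a591d60acb4fcfa75a2c7548e1f895236000c0010b6b16e2647cc90aed6323258e26913e8aae8052b8a4f000400045b5298840b05d70b1b000032dc00a16e22d654c21c122784b6c89dfae432d0c98d8b1a149239947321b3c367498d475b4c76c10531a0d245bccf57a63312c85a817194c642d10dc134c098c43a04ffc7c2931809a041a0f85262f12bd3e61f0a4c5c2ae80010158396957bb0160b14419080f508c7f20f8526331d6d31cb0394c6417294c2365698c43ed5a187c2131809a09bf4f84262f12bc80b9f084c5c2ae98201e30352c6a6000109e42b38a9f000017c80012bc44c0c317000051049bf82025774ec81d8d3b6abf0c0031632474c8ea8db91b705fd00028f6e252820b041337920010374,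
  nat_lit 0x2520c1a932c0afc6074ca9a657156cb5a9f344cac177297f3e68995455a258e6a3532a08f40004805ae30091c3af87542cb4054c0aa92e65b444bb8d429a824ca6592100862187eecfde206c3e609948b235242810d8662f41351299445fe059606200c51aa23e5a994052911506970ca5994e3e5a993c19d098899380a10898006c00ea9353f46a4d85392bbb41c67ee0442964433246650ccf003400705348a7157747d7d7a00ffd2c840068d3120e205c800c1a5e6c48247001634c01a103a600284b60934024850880081d2850880070c304ff80060c2d48500051a285078004175050780031a244b8000211385048001188050380001749586ab0e0538001000597683948be7c800abf25e162818b201a42c1b18359cc2397e5db00050c904a60e401d4c3ecc5db00048dfeaf298851f8e3f1e5da8004091c9f30fb2b0622ed4001c053,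
  nat_lit 0x4cf0c22533706b267a4fa8266d0d80c181f1b4cd81ad98393e8499ac55b4d587d3933505f6ae58fa7266915680009a005e7607808aa615c7f6d05420a93e9899a0a2f5e7cc5118a1ac122026999c5da0b5016a80d526a63e9299988af3780bf4ce6f21043e929994b2c143ac23480710104cc8595a6644cc605080012d9616b02470000bd842d284625b24b6530373cac7bccfcc9f424cc259527b700002eb00010010ae30d849b3535185c047200e7515cc2b253db1652b64c000000757166c20d9a1a8b2e0038fc73a0ae52ca000109c12484491cb199243165cb3cae682d2ac4e189bac06200e9974b275830c4dd89b2c05200c9970853137c48fc9222e542c54996ca8a0b3616700ce26983e769968721014abf14e6820f63e769964b262a22c1fc80010024cb0098ab833e72995c1b300004068f3b303c20c0417d85230893edc5f31739164a40755928e6b09aa134d32e142a3bf8f9c265b0a0842888534cb426a19cd3e6a9964360,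
  nat_lit 0x9bd0fb3a6790078a102678108800007983722c0acec39d8009ac3cc98cb4cfa29f91123eca99f03b128067d9533d85c45d1d850a67a13448859c524cf21da2b913ec699e04af2d927d7d33b8a14000400a000100043cccc2c858c2ccc0000014006a61546aa83a507385992682613899e82fe1e5c7d8133c85fa4578b9fa6781350af09f5f4cee1b02d503eb899d857e30acc25933a8af4ab44faea6740bed5d89f5d4ce62ad281e000032e8d7e5c64316062b1f194ce4000cc0694903e24c2f140e9662a08585d9f11291e603000126713e30315462bae312cc0217042f088847b96d69227245cc1eca47180b0002597ab83627e763cdfa1a8600000f780020a1e40408f39a810fb8000a78325f412380000a163bf02250a1840348081f504cd65970f972c6499a81a21df099a4422000000707c68f8c5e6e0004b2d,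
  nat_lit 0x3640004620035a00005d2590cb234003000807540e94b528010001c168c5be81ac2cf004800081d280430007053136080061d400470005175004700040c2404700031a1c04700021128043800117400438000052d457a8b4034a06885b9859900080018b4d839b07400218b3b5168a2cc0d201a116e4166000180052d340e681cf9674a4c80000bc62dc02cb000100065a601cc039d01060221640207e526259c95cf2a907ff845388a0034406785b7859500000008b38000400418131d8936626cb4d31166e000400807aa5e44be6ca4085d659787d38fa55e3e7dc13428eb69a3185926840b94bb71f6f4d061d8adbe3ae29a084b12cd27db93408ae49bacfb5268015b8b4b1f6d4cfe1e714d13eda99f82e1000a50a975916f93e3ca450294852a182244c0206966c001170f11d621984338a7894f62c6062acbd1174d2cd4380858b000011280000590162c137059428ac4ab8958332699e8b34,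
  nat_lit 0x3c647890f110828435478c000e00140024bf9840c2d10019000a11300200009113d35e80081d4001f8007175001f80061a2401f80051a2001f80040c2401f80031a1c01f8002112801b80011120001000017493df1df25d12569856c8adc27a614ac296b07700040004b4321903c2c000800000685f981ff94ba297e58a0d47968400953551f963880c01ce241f934d4c5a09e446362b6e81fc03f34d4a5a027f961aa9a9057b2a4464a9351861a5d4d86926a20d809eeafc14d421eb93e236609a8047b221e5a3cb5395c92b16412c826801c003a5ac81d9167e3efc887168e2d4c5720ac5104a2098006c00e16b12cf94a880001dec825001900345abc1d783b400240044f842095414ea540b3d034a0020978036a001c750036400186890368001462101e400105d30366000c44a4dba00085d0,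
  nat_lit 0x58a901d56ae095c1878e0f1e6ea8d21889e2d600050a8f174e2ea0e1aac231fa43f8cccc2e172bdc0048a8e1d52ae00edc9d992d5c00429b36124c244f20a7872d580038a8c17482e9c3fd08012d5400307750ee41a3c3460230001454506e30a0214106ba0020001800200030008001800800115cee79a492f16a8001400180020006001400780105cec79a092e924d2d4c9a1124c096412cd73a800f001c0010001000100045a91ad160f2682c5428001000000045429a06139c2740b5100000008006000e23a6b6489de2e4b5dfe63794ce8a5f2b96bfc8fdb185330a86204c2a18533f6cbfc8ae58a5f533a637977fae4b2778b6488e9800e0018000800016a00004005800c5ce4607825684ab0fb61f5546428c72d3c54100000028002abb36342c48857d0a802d380020ef81df409e0003576242a45b500043c4c89885e00004789918c0a6c0000de41bca17b2bad6336c4709f5800000065a680000a504fb06f00a5822640e881cf09f62324a3b80022d3030417d529085218a3e00012d2c00091c623a881104fc2cae595a42f48a7114958725a5000028ec07e11c423a481084fb2cac595642ec8a611473f4e9ae0b492dda0004007800e2ff01044a6614cb357e6a845c516900049843853d0a764f8c5760ae92b6cba64f0127d02d1c0089815096420b10d71e340040006000b2fea1038a6494ce2c6e5a30f131e24105486b0f19001e002c00517f4081a5320b45,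
  nat_lit 0x20e00cd01ea20d05768b10af0d1d3e085400011e217102e1966916ccb668eae95e32bca000000116ca00041091b440988000020f07cc17b821023da47b0dd7000104ea5b2000511f630f81500008a4c8e978bec000c0fe01fd0be400108fa247e02d8a64148c2bf857e9e3c2e9abab4360863e001a0018b63148a2bf457e1e3b2e98bab0360063d0018001413796c42384471863d001600100530e1e1c58fdc15ac2c2c5b9000200051866356c6ad16c24c30986930c1aec31c15382f942b605bacb7180032d815ef8000178435d8638000e0004b7096142b9863e8c888f4f57c4af78b5f1e8800000a1000423418cba1495a1c44f4b5e185c355957ea15e3f9a9b78694026c761136e85ca2328bc826dc0f74909310e4db61d027cd3f8e9b684b00c64796d36c8754bc4572e93ce5b484794010001e0026685cd709add2d754ae00001974d0a8011003800788f1ada22798b96d78798ed35f2a56cb5c0fd812e825e982e5d04007000d8010342853a8a7596b63a7cd7b98eb5e1ab9649e52da023c2007000d000f2d683f187ea097012ecc162e80003400640071a1229d05acae61114000000b0,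
  nat_lit 0x1b344edca8187d00fa400708ee33dc006c009000037388f6180833964ccc45a306243143a9475216f82afc00c00120ec400980053508537975e8ebb1b960f68aee826c2decc141422076000480021a8329babaf075d0dca07b25bd08c811a6005800d10832bea58f179403b70022000cb7900200008d4094db5d743ae06e403d72bb409a413396f0439966ea1dc280a4f88a02ae95282e0eb400780012ddc27d050d3f2a7e4d74a1416075800380001a7f29b25bb1bda62685fccbf90ddc00042aca9f653e62bb174c0dde00025ba800b0752506cbe617cd3e023f3961bac38159057bcb7400140ea43ada8c935423f3c7e60c1d166c2cc0b7300120ea09920fd61faa6988d318bf22dc800403a72e8c7ffcffeb21f4444b810b71000e0eb066e8cdc0ba417182e216e000181d28757518a82fc6e88c8200141d58b23002000203a10028be29ef91f8cb0bd6180ac100180020462820003f25b7aa61000032eaf182c585794839800a000c230c45c15764216c65553016dc5020a0e17c23dec3f0d6162c2d157c002400288c22db41d2af162c54578c83880080008230445b157453665b6039c280c5068be01ef41f82b0a96158abc000e000cb6b3de63f01614ac2a1576001800108bf03f407cc7528e3c589caf0106e000a000445f08b32ae284198c82a622da96122c281572001000008bd116455c1083211654c25b4800320d85778b12af111630a7d5082956f2ae2450489f1df72c945730d3395cc2c9477dc93d8a7114a818c83158f72265e3dc8315863214a829c489e9141116022f0b68000441b08450ff907165b3800120e04b78285,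
  nat_lit 0x27404e700030000610887b90f83dc68810fde172257a895c00000edc0029b8a147428ecc609c8a3918c35095b17200010dc497062e1481910ea2d452e3c0019b8a401c80410a52aa22e380011b872e085c157c08edb2e340009b86146c28ecd2011161efc0001b8a4ea40041b7d32ea65b57feb0822ff45fe082c2c9040309c9cb8c32f652f8a5e97a638b66f58b44168c3d26712000397169ef80000cba4c198361c44000a0abc022804718ea36746d08db04f7a5c5084e3894710c00202ae1f125c94b2b95ed3fe6a2fcb895176000070410ae2130e241c4100040ab07c397232caa57acff8a8ba2e20a5c14b72f407154de816822d0c7a34e21000105565c3b067387e00001550040008431c06cc0d9c1b569ef8b860000a4c907d203340185d50baa970a219986a00300b943e51bc1005e17127f43cbc00b85722c0c4250015800b2d02bc71870067c0cfa4f582f59708bc1cb281605212600a800516805e36c37c33d867c2e0caf12f062c9e58108490029001259fd78d30de0cf45c127b900002f185d55d8c199943e16812cfa001c013909706bc9ef53dc1702423c01300062cf8bc5d86d86770cf04f442f305e72e00d46800e002c2ce979996472c00423801280052cf64c68e4b2bba5784af195ff211a0090002167a2cfca1e4b7f13e227084e20edd260e2fec60015c633fe007cb7e223c2fe85ff95c533fc00785da11ce23b04f089ce356a0074b7d,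
  nat_lit 0x9bb31366b64d6a17cc2f5e5f30d6a2fc800029cfcb98000614c42990a3f3ba4774cee79dd0604e20c8b970004b649129a1c933e46278c4f856e00048e518c8161228ccb96253c6af1813091a12389cecb950a5a14b851c091912369ce8b94565ac80909c884710929ce4b934f1e8171006a00b4e700fc875740149cdc0d61092211939b0ae0000048b929f089c0eb4a8c122ac5d939c8a80477cfe2a73819908ed1e0b4e6e29f86ed35ea9cd83dd0fdc6f9d39a87daa5e1015a73415c87cc9eb84e661cf86983d809cc84cf4e6ec5bd3988a1437246e51777446080ad39b17240290fff273515608fb1ff94e6833211f33bdc9ccc4b20d6c5cc13990b441388de527310ec4386a0234e602b90f8d2ed49cbc56e4e6ac59d3970b7c21ecf3b00021a489753150000229fa8c13f7c0000572,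
  nat_lit 0x5b898cf274f0c35440a0504e9c2ab188440a09d3435b2e4cc1f13a6083675e1027a74b0c507d8204f4e94189b04c35e69d2460c000e04ac099035c6c6d8cca75513b0ec61fec4ea81871b1e3c649d4c30d29947ab13a906b651dd026a751106c4df9ed94ea018a085d10c29d3c49926ce808d3a709a61268d5880000f7400000012a4e36a81a260fa3bb04cd899d00005d000021eaa54a03cd0c5a18ad8751ccc309c197c33607730ed680793a5173e793967489895358329d56899212604004d3a527492e7971ea26043c06f78def9d903c0880713a4173a09cd8eb31d53d96215c42c2747183c7ac1bdd3b1c780900d274618381bc837e23dc787d8c427452e70768b20e428a214c42aa7441a3d3cd20684032805d3a185ae5d253a101424f689ec90c8219626054d20c9f55926464c6c00042e6c33f17b05f025f38d6b2fca00069d04ba39b0361545cd13d7218c43244bfa9a2193aab1cc8b98d600049d00b99,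
  nat_lit 0x13b431bc4ec20d10a32156c00000010a541fac260000114ae2acc2710000006400d06462948d609bb144ca89f903627632e99596b24143b881958dba76218288089c8d416e8a1103527612339505a18740c4c6d53b005ae9d813af81421dcc3b9212e52661e58bbeafa12eecb70c00480022e943b8a12d52641e54bbe2fa02eeab70800400013ca25d21a8e1cb6398464c0c9a1e26700812d025400029d78a4a60b800000090000152c2a287d4259c6b383f20cc036386c5323843a681718d7275b2e8d592323743a4816d8d6a75a07bc34a1c83415a89e903027591491501a17d40b0c6ad3ac03f257a58d5275702dd6dca05d4eac0d9918800000048001062e0c68c399810231c5d111ff2a4463597f598c54eb05d09866634e9d5c53f00089d5d3ab0848c3b502c27550e813d2a0584ea82d0a82840b09d4c56e05d681613a9079c00049628a3c12e0af59c464ea22f89ada3d089d402ef,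
  nat_lit 0x159f30622cfabe74b4e19ca33c2407d6592cb0000059c000261be71bce4a06eb0dd85d900012ad826f450900007e1d54607681d243a28d5d1ab6618cca5194b3866740c0029762b6e19569e58627a6524ca51c323a040010bb01a7ebbe09c4138532d665a98b000032ebc06480cc0406651cca41c303a000008bae58a686f59229beb37d87b3000091ca3cf91001f8362a87b2c00008baaea987d094c2796698cc5012841ccc02600011cfd2eb479e222161f2252c9e51a62313e4a0c732809700025d611043b687f64dee99ab1a7034d0003975652fca601e4d1146229400308fe5469793800511543beaf25000817a83980a44000c15412f825f400108b22d585ac800107688079496000006700a7199c00080009bd83346658c9a1975400280001c6409f4e2f2ede000422a9378268400042f5268a000000382a6001400110091bea37dcd809d2726785d4800054be6bb058d15b22b70693148a3fee8631035a7652ea080199aa334c74e10f3206e4ec8591adbc6532ca69039b1bf4ec65d3a769637c9d882914ec49d840a1,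
  nat_lit 0x24600052018168800418849350003113811280021740943800118806b38000052d75821b62b66297800180021d803af836f0c4204540888bbb042eabb036e8ebd1d7e00040010a56427a86d4a6417743af8000000114ac75f589fadbe16108a550241fce2ee4000933325c448f8920858a097812d85470a8a5a3d3c79770bbb904aa78e164c96a20194f1a349295341289e3021d359ec7b53c587daa081049a78a12c49bc20934f121909d7563d29e204d02b4682493c3879ca145049278615741881c2a00402b11685357e007c5a22f165e3400f0b42000429c853c03e80000b1c27761da8b18316853847388e7026643e3000700052edc598303f331ec0f01e983d100100010bb64ff4832d91e1df33be43e2c00600032ed562fa1c964a2aa4c00300021c2000600010024001000b3a1200380520e72252062b0d3793d712b05da289c424445b49a0afad2d1841896e02dbe20240004bb3,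
  nat_lit 0x4f341749eb832114ec65b13d68adc1210e3827ac133c05e207b4f56285186f1efe000092300007fa4b819702606e3de8bc73fce9eb800a00000034ed01d9e14ee00880108edf1db8b3ccf35978c000c8540f791ef63e807c0178a0008d3b13bd2f100009a78518a268800034f0235439f256e4ae89a3936d26dc5fa189d1d4d3b360020bc30adc15c42c3924a2fcec4e4ea61d9a000e5e12d9a65b45f94bf331383a96766400317820408bf2b1373a9476600029160a5590c0a0b14f520080002178047a4ecb00030020d280002028551100001974008000e047831503780ed01da4005000a8a702b8aa884bbf58bc7980f2eace51d9c3b44009801414d27640ec9177caf7c0000cba7638533801200223b3c7662ce33cb6797912cb29c57bc5deb12c65368960f2e9e5a59c43b2c767001000222998bbc0d1000309900416002c904046e00285e10132002414c5c94002030b251c001c97c1cce001830a,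
  nat_lit 0xa8000002edb1de90b6219b45b8b5945a580070000003000c88c31190a7fcbd4000807940f11ba92d2800049bf000607900f18100000860cb0f4091c000887610c21768000183201d41a103c007885448f131910005000317a62aa000d0005002c0080004002948200001759541000052065652173521216b41c4a865425622f445c000e002caa1d54097a4a7b90bf2172521016b01c42864425422f045b800d2f45625122d1c600c6818e8f5b144428a445d88b600185e806b60d6a2ba09d89390318e6f4d87f97422328002cbcf520200007045506aa080088009116622e10932860070816a148229002f38bb51ae51cd839a903f2d541674001c004110509325e6986e2ed65da4d720e6b1cd281f56a98b39000c001cbcc2bee61b4bb5176835c639a8734207c5aa42ce00029796a2e40000bc66b847340e6640f4b54059b00030008440424aa8bd51705e52fa93ffe81e56a78b350004000c456849c51787fb0bc9538600005e10000000487f10f861ea6f24c5e9386274e6c5d05029c22f200008ab2159cb308de888b400005588acd2042462ca8c617e7c853d905ca25458a1a7b10f15668b21b4f602b1043364329ebc3b1,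
  nat_lit 0x252687d045f60002175472a845800002ea8b112f700008008039a686070f97b6001c0e2875304c000301c50ba61448005038c43e00e300080718993894a000d41f1807181400101c626ba0bd0001038c59a4413000007187c783260718894114412d603c000797b42bd82920032006a0038131005800d00068152393c19c833c1ef4290452408da11aa00ac00f00122f6473780091d287378008113d5f800071a287370006175073700051a243a58004188464700031d241aa0002174c73580011128732800017496e88b5616aa2d480070007002600808d4921224263990bd8156a00300030012003e23244670a3c146a3db819817aea1747b68a3414762334464001e002200140058ab42f594a48000178c907920e234a0070007800300142d385a88b52433ca520bd55db8000077b,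
  nat_lit 0x345068e6c08da5311419b43b4874d5336cacc6d60dae41b4a024bf15336cac86d58dad41b2a020bf00eda704d8a61c263dcea01cbef19accae106b20d7500c1ba2943000032e91325b1ab63882195ac0008138c8a5b148383e75614a117dc449089191315b18b63482115ab000613888a531472fb48931123224444c16c5ad8c208256a800104e122925f62d8a5b164100ad4800109c045218a29c1c3aaa6438beb5fd4bfacf04800009be1385484a0392af255b45fd17d4015802a054711802308c6597d2c40ca6c801903c4004857b01c417a2ac65588002c00186180c5cbfc0b00935026a84d54be855800000704302e4d4c9a9134e2bfebfb83160616000200255612abf2f9c479804900a22b7c00400000c2a18b4314062613725f30613000000480025f925564cf0b0ba0e725f28001229a454036286be54a05f200001d9c38c8a3a5f8e8c38ff6920224026530085010d15b0000cbe319e031e4350869e29aa361856b80022f8867c194b0210042c56b00010cec014002e0000001aac34472cc1d165b3145a3e15582ab800a00422b58be1402e88e198322ca6626b4782aa85560012008056a97c0002000f804600620094018803e11d023b50ada8952f7c0000e252cf25080a12979f606a599991d125e1cc25ef00040aa6155084b129027de5ee80030baa0eac150,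
  nat_lit 0x13300030ba8133c0028e98133c0020c42133c0018e92133c0010894a45c0008ba0131400008900000000888a600ec01826617fabe6d1cb338f4720683d87314f72ac84f1000580022ff037d86fd10ee21d43ab875900140004bfb10fa21d03ab075800120000bfa00104f04ab094f461c668311c6b38c4726ce317c797f234707251988458eb03c000954a222844680000d640002cc66660ccc50c520ba64e6390cbf8598accbd1791f801b7a36f9073a0e9502a5fb9cdd1b7836f507320e850282cd146c384e75a508fb28450265fb2954656c8740f821f0550245072a8e65c48391072a81112289dc1f03502014980012304c4b032300001de03ac0124b8f99ab227338fe7200f4528122fd4c3b32bc1b6a36dd071a8110df46a71ead3d627a2cf442810211d4ea32c241c083854078beac1fd4070142a038001102d5ffac7bc911922424445d08b7110ad2fd0000902c5ff8c7b8911122324425d04b7090ac22525f99af135decbad130a24f5ca0207041008270002a030bf218720000009,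
  nat_lit 0x7e595b2842124ce2da154508225904d0656aa1005bb5514854d41f8ae456e108a283e0ea80018fbd20f60d900021f7a41d04085466000077b1c80b08d0ea801c003e008941e283b000a1e6151aaa323019675335546307e986f18de4421a843d41d180ab8f99bf22bc33e467ccf96a8391adc1ad0de11bc4842d086a83823bc7c8b2dc43ec7ca8f95a83713dc7aab3084214842d41b11da1e1108528350a44e2528340024000912a219418b8d3a178e2f3827c000a301089284f90012037b20a09f4002021c18ca13d4003805e1e0c27b800600e16a0000019754168013002000350e322aa577035245a60b515a8ab4fcc030ef484014160012001e00310e2a2a9576e35205a598041e1c3bca0ff50560044007000b43888aa15db0d473004008000d0014870d153abb51a8c2d245a72d4222486001948329c6550ca819a732a06544e1f2829001e0030bff001600118471867312813bcbfe09a0002414c09a0002030b09a0001c68a,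
  nat_lit 0x1020373ac8b191815352a6e001c4b199bf16aa2d5cc152a6854d80030962337c2d505ab12ab2fe046c02a418280f6061c9fbb3774c5d4bea322e2a6654d40028961304c7790004002400296ba2a6654c8910922415b4abf46fc2c2234e44cc02a457788b511160a8255b83df46d00da200140010c125836000070400100008b5b95302a5e48789108ad755f437d560fac1a304400300012d6c0d700001dda00516b02d6e4f649ed8c20000060800043bd475cceb91ba336acc5546200c18183a60780033df47bf918eb3ac474c8d0d0e729053038001073c0e70ca5505620de2ba8079cc0d00027be0f7e1ed63da6a170c0c000077984aa01fe365c6ca8a7214dc70486210c4b38a26268c4b2849302d5bb9ab861b2567914596882d065a099af2c94000058012cd1d9800140020f241e4c6050002212e6270744000221d030705c80a501498dfc1c046ec0dd7a24e0dc61b84455284830249efb3ae46567ef0ab489961332857142398100c6c190af113b4685650ac215c508c6038ec765e8cbcced89db23e84a114b8f213055984c9899642b2a1107321510cd3d1041f3f3e80a10c6b2559c89f50bf215750842faa88242aca1042913112a100009000003081cb0a4f3cb027b00be656ca10c540,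
  nat_lit 0xdbfb37e461a8a450c6287130a458f8b15079ea4690c52870150954aa18a50de06b300565e2a1b857028f8516ccc91c9e639415a14c7a0bf41845ec0005985031385cd0b9b218671dd09532de41468290003184e3d985562b024252cb7505120a3000a6132b034250cb71050a0a200084120c5f18ae2de55afa0a9000639086cd3fe8c86190a1e0e00044f910fc3fd2801504f80010a6146b800119740008000052c826904c252833fc5140001000061280021ec62481544b3232decc259757826e51b2a350c2400023d8c826b35342a28ba0dc00a27308c0000f6003f07b0091d550ccc80b79b0935d5809ad46b217d50c6611299d3e2400004b1000631305b72b543814c66832d865e643278d8c210004312d6af1e1c641eaf1466c0cda41621540c20000231296ae9e1b641caf106768f61307c0000c4921088291052a0a26544a9d4c1e18a043e8a46148e65b65bb8d35826151a085dd42f983a7360043800015ac0000298053246b8aae8ea930705ec87870f0ac910f1319a80f721f1846688c550bc60d9c6618c0315ce138a83150e36a86d600140026001cc1a18be3158e130a82150c36a46d5801300240018784983201b42a611ba248c4abc5ad0b58338425980028f08306191915372a7200244b299c116ae2d6495717f3236660b9b9e645ac8c4a9b153800102590ce00b5616b04ab4c16,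
  nat_lit 0x105d6677d0ce0e681cd4175800005d467790cd86f00dd22d3291d434ca23859352548699446878a6860f4e288c14fc5c41a0551162d11ab84348a2283b15268869144489a0c131986288816f9556a1a3510e2ae971b6612a21c008938742068ad08ad915c420c693cc3830fe6210b8d3308510c00409c32102456645688ad94b64e14007a885660e5c64d4b800b00060ab57189dae30dd7d31f813174630947d028b63e600280012904520461b303700040024d4a9717660852dca58303641041b38c3500020020d4a1716660652d8a57b03541021b3435b98680a8800001420008a3a2086332ec4a4a74186600049d3932621fc000132d264061914611fc23f88299852a13ae1f4c3eb31ed0006618922431e85e0d858977c64ca742c0011284b0919c2a1803a24c7ac000893a2f8c5f217762ef0000048a524a8054eb31d636454c634002287965f65c34d4598602b2900a1d653ac4c8a58c6000350f0cbe8b861a8a30bc9cca1134500acb85981e2e3c606e2cdc6b18b00046170ac6159087d0eaf1d60644ec628000a876431652a8c2d26e800000a1000031b4befb0fa324eb5d88500d031a046e2cc2c18d47c00dbd1b793c0a78190c5287330ac74e8ea1370ecdfd1872292431aa1c8c2a,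
  nat_lit 0xee21d283a38927123e006c006800159f836601fd189032e8e601909003200300002cfb1b2e0fe41ff8542311c57e0b00678e8a019b291712208001cc46286e00240050017624e4e04919001c003a1dbcb9f988aaa140000bc61db400d801a24604dfd89280150010001ca1a8d955508622000700163ce888799c83bfac90cefa1eea1e626218006002406b874d8c6e18dac1483601884001400881ad1d3431b4643188200100040f372218369c6d616ae000c00516ca6244c54488598800008005838f071c36258aa187e00040028eb60abc15644e50000002ca23050a003188e1376244e004400907642e6862d8c59aabf30f8008001912ac15042a28548534ea69829a03f107d661e9225001e00604aa85400a88151d4d329a50a660fc0c3c00c6002c97200ca002874a00c6002430c00c8002044f00ba001c75000ba001868a00c6001468900c2001068800b8000c68700c2000844a00c200044495142000044856328abcc5218a72e4a1d54001800224304d9d886805f30ed7972f2d242e000400107542e486c60f5322ae65a661d000000021d68a9b17292a6cc1509a8944d2bda5600c39,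
  nat_lit 0x400004496164233c46831f93e8682fca3194641952001000098ba00181b9016202c00e39931837c06f64e919451ea53170002837102c2058036286c628ee51e985996245fea62d8004039619b4d2214961cd438c871898b4000c0e601cd16d42da072018b200080e50ea71d583f7064f18b000204be975a31b48b95859163135b08150d731ae5315c1b5800d000e25f0bac98d945c8c2c4b181ad740a662b036a001800184bd975831b08b8d858162f35acaf74c555c5800005e112f2001000507da02b2055c1c28d9d107246b1717ae2b3150001aae445c0c2b4b161ad3409e8140d709ab30cee629800108ec055c0aa83831b3620dc80b901902b60570c520002000023a815602a80e086cd0836202c40600ad18a2113422719f85b6242ed08c216c43accd0d45d18a01b8837192f663ee5d5545c989e499894ca8b81560c801b16516e1ee8d9f2e86a2d83ed07e8857945a8b424ac0959a8b412c1523a1d151662ae945c28ba7e246de8dbe1b7a7e24a2e945c002a0028c4e0ea21d784938023002a002568216fb2df85c00f41189a1d443a8075d124c008800a00085a065be8b7d96ff313167e0000178ca2c9f851b7236e86dc9f8528b2516000880065a02b3ecc4b1d6213d827b9e8a13f60711481a902003a00440029894abb80000ef6b3e80002aed1de9576899e313e628115c2abd12400070007000259fab3e4c49,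
  nat_lit 0xe002eae515c90b5337de6fb5a14234c67d08d7d60218d66c0417ba966441a3d287a6312620e441e000c800d31a82ff00070c302ff000625f02fd80050c28288800420182fe00031a242fb80020c242fd800111295090000174970e341e37c66f945a4ab885714003400221f8453ca844c691a0266e0007800343ec8cf85c98b95297a5f08be398d02d1d5c32b88001600090faa33d5aca402c8020cf6319c000a1f446782e445c993602ac88f8d9eda3405e826330009000087d1a1023d747accb9d02097c82cf23e6cb512df8c3b0b7cb17d2dae0018c65035053a00028180118c750800402d17fd16d600061ee0a4f2dac00080d2230c5b5800081760014832105e62243ce079b21f952a40b8cd769770319000219af62e4c304b1e979b37245b44c630006c5bccd5b1d463aa5e9cc6200042cc0259335433cc60e87eb06f4003c0020e6d0dca1b80a9298c24e3c302860c5608877d5ea87ea06f200380018e6c3180cd4320418381fa41bc000d000439ac73522a4546e62f800035c0183887337d07af8b12b0b5616c0008c5e29cc00040a15ff200045e3,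
  nat_lit 0xe7163ea6d18a08141135b2002000097cd2b6c5714c785654cf911e49ad7000e0000be615b52b8848a891798ee6744ce9331841108edccd70cda000063b000535546aa598ba087476c66b466c98ea0010d548edf1dc04a60e3f0ed21d9a63a000335506aa4ca8953d2a8033a0002354e6a90f45227b2d1c6398001354c6aa51cf2ca827c400031dc33401499ad0430e47748ee23354308502004929086714a3ecc72645a622ce2a10d621bece58c6a98d22ab0554c00018e20004bbf97f62ff4569589498e07b80dae28fb1220bbd978951f40aa0c7f25f4a3e4101272a4e6547c0632aa2d10ba8f70488000817602fe4da4f8a0bed0330065c82a905310e663780000e1a00510f742a886a1109337f51ea48812d725aca3d008a37566d4d4798460373097928f20630443939151e223417982f2ea3c00ba550688394778112137d67cb40c5a0600a4c6e41008d919f6a351685a6fc8dfa0b58572eae6400e18dab89c0000baca8600002e262b291a7342a37de6fc45aaab94572c006400822044554a85cc6c580a000065d,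
  nat_lit 0x2e0a00003bdb28d3ac437fc0008017002853b8a5e94c522c6459d704991400007020e6c3224019002f22544f109e0800532200d1912927864f000020014321c9df13bf00060ad31d162b8000804761ce56e400080566294c0600000170007800a0a3c09d01399f7f32886024c86001c00254f9a2b42c8845c08b8b0fe321400680080a384e549fc105b3210003851b2704138800653e07a18247000a14689ab844a001028d105400b14c88000175800480032cb8628177792c11340204c40a2182447aa640c83524600007043796001c000965a313cbbb495f899e102220490c029223208289938c27de7214e5780063204b2b1bd5000a0d117150008211141a35c4004400517d62ac237886f430de2bce2c8cc8028745070a0c9ae100200024bea95601bc2379d86e98feb5d506d1ae5001e0020bea15bd2b986d10de2800131f98fd94382834505cd6f800e000e5f4caaf0ddf1bca63eab2d67d48360d71800d000c5f48add95ca36846f0cc7c35ba003000297d12ab837746f1b0d92bc42c7858f98f6c8a0a09941443208d048f411e941aa6b84005800431e97fd00001decbe7000200126b68a09009c5224889d1131e766900bfe4c79,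
  nat_lit 0x1ac632506478003001c004400930ff2d0a6870f67993662fc47708e7245c57ac91708e711dc6ab0001000d1cec646800100180a14f019beb32fa6610932125c5cea64d1aab00000508005208e5748cf41a7935521a580042f245e604c0098253e264c80030f1c1e3012500163cf85dc8ba617723cf8005800a000e00186848ff43cf45dc0ba517703cf40050009000c00146840dc03260a4fb0644982c68cc41197532ec6f90efe027e000a64b9c554798714992a22603580310c6228278000864b313e2df0800d2092fcd27ea51bca398276000664a8a1b29da53940be018027be09d80011928715193332672fa409cc0008ed43480139800015c14e208400010000c79b0bb1173c2ec479b000300046499df8107e001c0010f3517602e745d80f3500040004c92000009d800a04e030f461d9ab844b0c930e2523c4677ea4a4c9161d65619097336c3104a4a0c90090e60014938d2400bd127292608756c21fa0524a1dc8d0d2098a4903ed557889314918aba6838829002a15e978200001decb3916712e56198433214c329e8006800c9672316cbc0cc8f000e06b406a991c39c4002001b003a6f84db015e82bb25fc0012002b32347388e700006006800e1be036be579caec17ef00466461be52cd8005400c80031c027591947862d54a8a94cc8b,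
  nat_lit 0x224cf000921a68f71a0a1c92622e56386c18d821e5e0038001195a326c6500ca16398005000d800d000233a08d3b17732b0a0b8d4b005400806560cab0018000067097742d706558ce602f400241300922ac9000287bab7b40000bac05dc0030008002c003d8e38c9c1946b1851e8244e5bd86553019000038211a002ea00100030014001ac71464d0ca158be8f3980c19526a208e391fc1cda39415a2899b02ea000c002801332a00021d0239fcbee49e388f1329c0019d013a007ff4f848a7727c80011d0039fcd2096d782620004ff9a97c03fc0011838357e328000900071d20b4011fb23f35b0c653000d000cc6f86498c9a58b08f1d222a447691ab858ca524ea6654cc71bfc3c280a5800e8012193c0040002994860d4d5e0c9d001e0010746acfd47e68fc11c72ef5328c00500036376324064bac5547889109222348a303e651001e003a00680078c9b001a00098dd194020ba4170ca10032003864d000c00023a2967d23ec48308e2d77b194055e46b70c9e001600018dc0c8d1918321c63f983c327cc8a98a232ec4b049618005327896092c2000804ab1c33248000c32363c86484001048612386ae000100b071a930000000180004192a50c8cb812bb257a64e8003192007e0dc9318223c047492302bda48c047488f0355c0010c9c,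
  nat_lit 0xa8500008bc6000c0000ba0cd146cc8009000465e0e191c34430ce7b0d781ade6875999800d0010365ccbb35da6bc870c0e19218473d46bb8d6e3438ccc80061974a83cf2191cd23acc58cb5385160a28686d998800b32e5998000a000a3654ecd99df53b20a685689f600b9a65c093b2f9484219caa10c424ecf48004996e5f158cd8ddf1bc87ddcf8a9f16001065b038f3c2c7750eeb9ec8000e42f9a5667307c44f8a00061f2cae31f13000a05b8d863d8a0010570317c66c4cd91c203c70010c022b1322d702c48587196ac2640000cba5ad98980043008278d8e0f19b0335e62f0c9c993c613065a309d327664e0c5d99ae335e7074f1a80400084c4bccb35ef466b4cd71c1c3c6800fc020b12e2d682c3858519642fb85ed8bee1ee6010001f803c006063d06fb0df532c5754128b251a4a3ccd61c1a3c640ad001d802f30a865803981298001c5be000435ec25a04e2000046b8a6938f671e0e2f92b2113865788d91a9035306ba165700060e40dd92ca800080fa04b0c50400081f219e0b2a0000043800980031a9a35206b8165332b80010d48206212e80011a9040ac22c000004b009793ba352d92d132526500000b2b,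
  nat_lit 0x12da441a8718a251450480a947d849001200144fa14e699a474e599692ce259e0040004afe35fc84fb978c929633445362bd547327c4d28e3090002000209f2970b6336634000e000ebf857f113ec5e2e4a504908e845aacb55ccd030808e58f88a51a611c00380032fe049c0c664b8d999eacf40000bc220a86cb91d50ffa20409f100040018c23128c1f0f5678667000327c2203c411882510482e0d615a3e310142024ccd3a64716c96212c8001200097ee2fdd27cc82357479998002400093de2e0a467085a902e1304add48000ffb332c00013db225444b492e0c3433289ed9762634036f8210800533243f507ed64ee106c00219904e2820e800301bc5d0041e000404031f5083200043236472106400000c80004a6a175a633436e020d998e0000a6881f8c1fd2859f024710af1052d909e2144cac0c7129843318724ad5846fa2f4d616ac2c179475b86cf00170004662ad5746f82f496162c2b179275b46ce801600021be4cc434b02498490891b15422cc05978b250034000037c198668240048012c5c0b5a05230a4268a199f00180010cba0d55992633088ec91e262de5acc2910520344eccf400b800765ce6608006669a769ccf5a9e5054c2b74fb8a0ca5ff83180cc0002a00159a61da633d4a7901528adc3ee083257fd997e5ac028f851d3448cce800a000465c86a9cc9118e423c86bf0d753446cce4009800365c663bcc7998e3274665f1d641b28003400132e231dc6385a46ad5f05fa0938cbd00027d7d97a9de35a2639907070e1030d84d00893,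
  nat_lit 0x10b722baba0d016a52b4a60936d215a2e1536a66d29ba689ea6d02e510dc62514d98926b6a901c29b216898a6a2dc53622d0889844caa6c05721ecc3da94d7873e0a1911f29ae133d78722da535a2ae801e3aa67908f279b9a3736d1c12732f48336400e9c7138de74f105a0ca8336000e1d513c80ccd1184ad1e0ac800d9d503c8284e59118b2c43000058898431000506184310004889eb8a80040ea042b8003900c41a40030e984304002861233cc0020d0e4300001889442e80010ba00564000889042e40000ba4be24b8a13ee0022006584ca5253e388e895ef0a75217066bad57000032e92d5002c003d7f4afea27e8bc7c94e09291d18b5796ab19accb1c85c90b514e4af6d1cf9f194a44c25800b000e335510821c9289a514d2042522612a005400693eb103266a333025a24b48009800c5fccbf9c9f8af1c25322498cd3539c0000704,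
  nat_lit 0xc8b191e60719371b3f53a026a854a0a9a2cec64b22fb539e33dabe9697e9009aa2a2fb539c3ca2af369368e6d17da9cd06d008222fa539805b9b0f45f0a72c29338f64ae57a62f4a05340a8c00b00195c6cd42571f19c4b7f80060cba01e40058ef60ae80050898343c00486180b4400412f80b2c0038d1420fc003100c34300028d1234300020d0e34300018894341000108923410000889034280000ba4b881714000b00100a541462f3c5e7c4aace36b2da1a046708d081a02cb64e3612aa5e7abcec1458294000e0028ce02552bcf179d028a05260018004ae2669f2b8b87e4153a0a140028007026c05105242be547c08e2ced38ac6337d77800001784abd957a026600140018290050e4a649501d0446c4bbbccde253e4a60143028f000400157110ebe1d783f107e519ba0a1414700010008b884c0c1819303c8ea51d331263370146800000163b6c75f2bb213fc513c4fd09f9233e66d8003012c14845e80bce39440df923324d00024000ae1e1d741470291066555aeab60b7700000488259,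
  nat_lit 0xa0ba3d348cad5fcfbaa3fb0012006000300b60182677a272465a69389d9b05c6486628da680008002e0064cee5d1800005e12c80590919123f8000c005400b801853da8c712332e8b33b5a26a44148809361a9692a903460680004001433b168534ff461a9238feb2f0e0018004cceb0d543a6074d1237001600487401e70003000880fcb0a40000bacb4040062c282b28006800b052c392800b2410204800a1c1056280091d2856300080c30563000725f056180060c285628005175055f80040c240c70003174c5618002112855c8001112161080000002675000100042adcce900000008001a9d868ee04580911acb664e75e167919d0000400129d768ec04540909aca664c75dd1802c20339c01e803b32748910e82192b3df65f3053b88ea11d64148829b22d22f2313d6482c8f09c0121c24284841892311c839106645f275ccd6481200228d1d54eb000100006732d0438067018b3b1472194a328d227230453aa0000ce5609a9144e011c052cea51c46520ca2489a8c0d4ea19c81fd84bf9ab112fe1fd83ba07735e788c15a3929d3338cbad32d137f4d50528cb4a54600a748cb663bcd50128c34a445fea74461a,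
  nat_lit 0x9ea307d438a5b3cb9680070002d244685acf842806809bbc376c6b7800280006920342967ba13f427cbb8cd004580d56176d11b633f4000063d0008815c989130f2af87400d91b1dd2cf859fccff00068158988930e2af68ae8c761821646067f000240aa4c40986957a36066c000aa99fa00059fb92440bf817d0cfc00006b502592e4a6344b6518bc69d2008401800320066a82150319f600d0bc90f3013b001987bf064a4e4af2200002eb3282003400b8017aa04466691f46690cd429425a9579099f400b000c80c901a8358806b00e106b47b60e601a5233e4034802b003003200698d6101aa03801ac9ed7397e67c149e19a2333d23d2330540200b0015801764fe3550cf713586b784d608230f421e817b4a3d8465ca80000099ec4c18e82b328254233d80008c14000001481f8000c568883f1080514d9dd9d03664c4a7c67a19ea000994519e3150000099f520781908000650e0308cf434584c6c001071a78f898d80010bc027f931b000015d802000126571a2b223b26306798008447cbae84cf5402000065d35cc04f4098b49253e6007800e801b00188cbd194aa0033c8b23a328465c002c00d001c003aa7c9a4881300278678890644e88cbd544041938466299a4a232d00140064cf0,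
  nat_lit 0xc05dacf356039884038807aa251ca4d631ad241c4838119d2a24344477fb42941e2b8b0806aa232391533233854440a41bd954420048467143200304b0611000005d635e86be0de81bd6543e00258ab211842328e551cc30873441807a579472e8e5108c211762aa002150f1bd5379e687863d601c95e11cb2393422e84598aa0007543a6f50b16553c00007042e846bc0d7a1bcc37a4a86c002b152422884551c8aa9d3438af395e962a2001150d1bd137966f2903717412dc6686800354328cb99669ae7659aa974128927c6498d0f8c971b0203cc0740f715bc2418482d12fb0aa6153c0009a18486c90fb55d4628d0f0d30998f0a9a15380002a17342c0020b7b15a218083019f1b364e6ca4f1e960a34280018b7b665c7228848826f34240010b7a39221c6800116f419c449b14982934c2512750494a9599631ae035cc6f255091a102de05e39cf93d2c7a4cf47a1e6542268387b1357a8335065a32554200f7aa534648a83c0d62d4ac7bcc6716d82e6a6b8cd72800e00128b2da4d1a0cbb380000cba5ccc0068007692e344468c2123424e85190a5215c5d9a682b07d000032ea144424a848468b0d0f692a0014005973131ba5b5583e1a08b3d80000e08c1fcb6998db2e5e0024001b4931a1a345108fa12359ea68180080004d2486860d13423c84890a0a14542aebb38d02,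
  nat_lit 0xa80150261f8954827e5514cbe8d8a1b1a37faa904d22053825d04bb09750008000c7c3024f04cc0988c1b9a42b15c0000bc625c84ba0973000400047c2024d04c80980c1aa07458ac6900299217c00040000f830498098c130207840e67b2cd1f1f9a3f883d207a53618cbd0d891b1537f0a8fcd1e396acd645d3002e5480a8f86943fac8d4951e89646891074aa3c0ee41cb34e454761d017f269c4a8e82e258968d3d51c8ae4406c811aa38133c382a34e546e17099b03504d175935929b04e0a9f153d801400180000d1d2e7e665ca6c94db65a40020d1c65a669a800281883b68908000406311771a6b0006065192b000c001c0081be437c65d6cb7d175b37c66f90d1b000ca8c51a3aa7604d44a55932b45729165230a451a343ec08c6acec192490f170b8f082f0e0010002800e3464002000927c86a70e5918e031c2cb1cd3718ec3460001800827c26fe0dfa1bf137e473c0d17000400108ed91e0344a6970d16000200189f09a994b345178d1500000010d9285260020dee1bdb2ea65bc8ba99bdb37b86bfd96faa6a34500039bdb37b45d48b78975237b46f6cd7f32de54dc689800165d0658040833405200a411481689ac96c945826054d88cf5513935e6414bba177235a66b5107220e24678a898d12,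
  nat_lit 0xb0c00000ef6007800b800c210641f5771aee404a055f84e689cb585e6982d3600003bdaec40000b4d477a31aa6340c69118020f44200004801400362a7054eaec334bcab4b1304a8673c4004001300342a6c54e18992588697018233266650e249c68000e31d80cf04488b08001801815322a68c4b92c21da22af8d2d00068b0411180ce019e0230040b5493238caf186a9a58c3440000e08000c000a2bf04420330066808a00fed51cc8d32ba61a0695800d000021134c74580d65dacb2535498c92f882e000934a96a9800119740048000052ce2f905d000c0020d290b9841640028164ca0082d00040ed46dd0db9000615080dc01b000082b6158a2c5000082667da90eca1cd43a28480ca1091b123400040019a500008002914c6a707cb0f958bed17d42c505891a4e000400296272c4c5294d260000001c5440a894696d1cca5394a8295872e16a41a4a00185438a884694d1c8a5314a7295672ddab32fcc3490002a0b64370d1d10dd93401a161140d230008d1210572442488640847eb00065784af1333537ae451cb560004d11d0aca5ef4be058906260002d11901032b465660988000416243e01ea,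
  nat_lit 0x800203f000000052d68c94829705263e64805530cb61e632669d80042d66c94429685253e62805130c361d4a06b5e4d3a000683a9a3f97f81cea2be457c24b459722c7155c1a7200091b1351c43e680048801a700004bfd97f866a06eac9439a6e00011b8208e3ddc287c61945428384bfa0e7115ea2bd12582cb61432282d53b1a6c000c30f0496128914fa0df2fe439bc5798af2495cb2d050b8a0954ec69a8ec309d2139c972183254ea69a2d496b1a93d124b238b54e83ca061f48368f291c62a73139555ba38b54e406b2c464710a9c45700c7e00385d60c7e0034978001a0030d33299e002c74a1b4c002814c1e70002430b619c002068a2998001c5d42974001874c28d00014621299400103092994000c44a298800085d0298400046200000530c0000e90c4c0e359c70001e00680108aa215468d95a4694c12984699313638d471bc007001900402a84551236469185300d31,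
  nat_lit 0x17bc00b802000184c4c0060020002e17bc2f62d735ad86a60016003e002c989000b003e00582f705eb5ae4b5ccd4b5a2c00005e12fd2ca9498c0009003a007801196d264e05b2d21d2d1535295a900001784691ad6f494217a02f500120036001c987130d3f06ad44d49000a7e14fc69cfb675e3fe19311885310e5e94b579a90cb6cc80b5f25ecc179c2f4001000320010fc089c8351c00c00033f067e2ce7cb3ad1fecc980c4198852f466a3052f0a748afc00e8018002e0008fbf9f8807fc0614d4564d25b2c00e0017002c0004fbf2b4f07f806100bc1a880000fbe9f86030a061c85d0d351a4434d485d97fa350cfb21d313a64d229063a47341a043600031a844b38964133122a8435400286bc3aa8869800402c8b9510d000061bd048c0afa000823616de2dc400085424544868000000580068002265c4cac8a710cf35040001a7433ecd58d5cb1a8069d11b0235f226444cc0011a7e6994ddc912c22640004178558800085e1000e000444900120000620225c44b524fac3a137203d807c1ceb202e00100029a7cb20d25923706a4c2d0859e0003000a69e82b20560000831816862ce800088c03dfc7c0000000340010004221492b91b63522167c2ce0d3c,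
  nat_lit 0xad280038ea01058003061410580028ba810580020d101058001861210580010d0e1030000889c1030000029600000032c2049528e70561840f3560003920e63ac996132d2097412c5a61925a52e64a06ab800611c02388cfb0c5118a4397865f8c5d18ae6ab000511be2380b0c99f937226e599cc1c140cd66aa800424165881a3517b02f5cccc84091aa8000c7208e423bf85ec5954098a000846e08de33e4ce40e020ce800048b49168472a928960c9a6e0000903920007a97b0253847dcaafc07500e901d06b0c7090e1155446a982de05b4000856216d42d9000087ba3fbc7f800000fb40030cc31ffc0c081808ff5202a5e8cbd2103c35480028cc217ec2fdc1ed03d910ec1a94d5100083324f6a352d6a588be8a131aa0000c6600bf417f06b08d3b0cf8000865f944a325a1724d4f0002331ccf7159a00006638014331c6f08ddb2a60531c19f033d1ce0c2291da2a9c353817782f7004c0819ad2436687f50fc2f6f0be017c400d002845941514d4d5ada000065d,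
  nat_lit 0xc1d402eaabc4d100100b2c25c1c763c8078fcca1928e359800382c8076e0ca84a81e587ab473a8e770004aab478b8f0f409e8120d65395e2320cc18e751cec000555634c46986d170d341ac87eb493792760000aaada619f1c36c0ad6820d8c52358c73a0e723d543ca425284a4094a3ca4f55198033022318e5684c3098813209e9317862f2506cd229ac31e90c32529e2d6818e47bbd9f1041b56b26d7cf8db4c255546b11bc767306f94f76b3e10834ad60daf1f1a6982aaa4d611f2a48f8f388ef31dd46e61a57018803063c495541ac0c68d335a1b969ca86fcc5e98c036f8aa9cd5f058a86f8c5e18bf36f6aa9863b662e2e545c935766aeeaa942635962d725001200544aaaa9040b2fe47420dbb9b78554634c886036eeaa880a909b600300058b2b165e2cd81882b1b67166e941859abc0010f5c10a10a9800198592ce63a200023d7289dc2e40002635cc6a02162c898ada5594ad68a1d14422874ad695651e62ab73575a401d0039fa8a352ffb6376c708f2d55b1ab858709a330154bfcd8d9b1ba3ca556a6ada0313dc67b9107c20f94790aad0d5a602897f1b1a36354790aaccd595b988ef51dfa430478caac88ce63ca996932823c655622f6b153478aaac0148099aaabc009082e002874a06fa002414c082e002044f,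
  nat_lit 0x3034c086251e800506a862c428800080d5482a071a000c1a9904a0bc0001035020184de2abd00064e70c00971165884e79823a4b63cb04fd0d6f557aaaf0001139b30005c41961939d608c92d4f2b9adc0d408260d1100a8012d55d9ada49bc938926c6b30aae802126584cd555c82f2b0009d01399657e5c30bfe139726564cd155c800032a0e170000002400085b5265a85750af21d101ac00006081c4451d060c172a2e589e813d240e0d2ec9979330556a6b612186ae08dfc5d68bae5568512308a6cc6c264a0ba26755666b585ae265aaac80a934fe26800000960001100b1edc045e08c0bd00c9119264d204ce9210000d00a9eda35f65570aae9bc5039e6b50002694448fc9209592054e6b4800140267b6411602301ca85c690e23544799ccb81a9e68807a14a6930f747a6aaccd68401aaac8422000245611e9b58c4372d3cda7b9860359c0002f214bb497a9282a2e045a425991566b0eaad059359c08f45559878ab7651e8aab208756d523d155622de2c496b08aac05a1,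
  nat_lit 0x23340008449233400044485eb600005d2641e8df03da07ce63e4c7c40088019002000059a91197360427984f466b474184ca89941a2c3454963335100006c000010f7c637094c129b42dc6bf863c0c885a5998497f433b4364c31a0015002c0034d7e587e91f923ea6006cbe86a590b165900400030d7d1e02d5c4cb0b35332becb2400f800b35f062f1d8218cc31a4f49921500320028d7b1a7234b8834836d00380024542163c48b0915801d001030c93b50038001c0d60c4a00380039620223e32ec65a0cbb223e58800039af462a8c57236e351658858f3b1e6000cab4d56a801d35e4d0f9a1d4b66ba8c7e333bf34ded14d2fcb1e5000a6bc161d223832e06588cb822385874002000b0c444ec4d775d20d8fd7508fc4677a69b5a28af2d2264000c0059aec267d6d10caf196c4468b0d8002001400589d7981435d46570cb522325868000aace55a0005d9f1988a66386ba2e4f3a9462906548caa350a586d8f0b1e0000000209380004672da3ab4765cb83b0cd730002d23cb200a120000fab09680f3c6c08bab17584f989f4208669a24d149a32ac935c97c5b65743e28785042b4d026884d155641ae23860fe61fcd445a89f113eaac71604aba3678615c50b113e2ac623902e29342558a148aac5558805081f80380000003b000e0d641c703a11c2ed4c113ca6035ed406f4d70,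
  nat_lit 0x139c612802518e6e1ce06c88000478e7358d719ae40f9a6c835db55e821100390070195c6db19fd302eccb0b5c86670cbe4f80d8f55feabf8017802066e2006c00eaf77236000480021ae814942921d0e124e678876a0ed5000e0034c2a08ab3638255350e3a68d0fce52151525f40018d8d6628cc38a2c12d325a8001419a0f2c59dc96892d30008595805c00060048104021e70d4b18b1f963ee00300010ed01d9c7c18d8c1b34951979010d22c56002c0008ecf1db06d2c78b9b16404486b10d12c5400280000ece1d9a678078b0f143628004b1f463ec58b46528c9e1c5a57903200633669a4c609ac935a2e544f3cb952640449056858cc248c139226d869e89aa135874759b8850b0a1413fcf818ecb1d9a6c4800863e6c7d4b169c31311c403d78f25eb4a82bb4cd88000e5895997096812ce47a482f105d67344fb4d87000c588cd439f353aa4753cd86000a5885ab122b93b104488d370008588c46308c409186c280032c4261182935ec000005d60f841f7190031ff003e009c00f000f66c000280062f5f36118f5a61f001600259af800e003a009800f31fe63fe6c1b1ea4c3c0028004335e001a0070012801d63fac7e4d82191800289780514002474a0fa4002014c2174001c75022fe001868a233e00145d4233e00106871a32000c44e,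
  nat_lit 0x154f6bf8ac2c4b1097e7409585073ec9b921dab0912bd96680001decbb2800b001c8c451e725ef4d06dbd937aa13c4276cb30da0237e4efc9bb1377479a8c40006800a2ec887350cc1b3eca280000cba570cb1ead050012002d18723cb4bd89a0137826fc65126cf2d75000032eb22d0000b5d065c2dcc5bbcae0163a5a040018004230b479097a533eb22c36756bb8000178d83100005aec4e736522dc65bb0ade963759fe000c002a308478a97998309b3858d967f000200088c1d1e225e54cf29ba537aa132366d7762eeb202c6b8d9e3232f59fa0004004b53525326cd0a5b0000004800224a2d8f5018a03019e433bc5369b320001181a3c04bc299d52f22e761d703ad8a0512143661182b62858e21eed0c92afd18f49279cff55f83492dd843aaabec3b926da716d57d07404498e782af915b9978b5e655f02df213847ceabdc2e1000e425884f01d803a0c6a98d595b444b6994cb9e9b2e0019ae523e3480045697b119ba22da45b1a441b2c0015ae4a3e247fe45648abb38033221470d9500088f2ce6d1cdb279a2eac34106763650001b5c747c08ff48ab915621464284d9300044e283dc87bb22b64544d92,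
  nat_lit 0x6b026c4400087c61068d898000090c001214d42948ead1dda3d443ca6c3cda600028c3959982f2000118581f8d6c185b13df2e70ced4cde24fe6ce239b0732ab1d369572500001dece05146e0f2613a509435502fd45fac00480015c98b924da4000038447059ea73d4adb8130236e06d428ccd19a0b60384c33d867e1cce398558e82563bddb08ab1c047d0f0a214563617a87e90fd6ac683fb3a0ad83d58c82d47f452242b180348db91b76562e18cb0f04898ac580cd32f4909958a817eadb80000bac5b14b570006000850cc85297402e84caa80aeab7356da43eabb5490eadc80ae32a92e825cfc852143200060014da302b6caa0ba0173e214650c400100042d585b0c89310f4c2200000bc2448c8921c9d2d4e0008000142f21425cf0b9ea269610e6d1000027f212c93fb244e48a4e58225644ae8be517c360456246d096a500cc019c85e10b656221f1344a47daac402e5214073d95878d24ac4d220ab0e087471ca1f0561a1ee93a72754ac303ed,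
  nat_lit 0x34000951b36cc6c701f9572e002c5e101e8002844c01e4002414c01da002044f01de001c75001d8001830a01d800145d401e0001074c01dc000c62101de000844e01de00045d001de00006200000000c15582ad3ce2537ca718224043a57ec5148a3d147e28f4514a4ec63f0580989693162632116c22e0eb143b058b4b14170b41686dc8d75a566617e4fa184380ed36b000102aa055879c0a6f14e22deaca91397a72d64f26d58001052e5c359c3988330fe6d50000052400482a7055279b4a6d94df2de4ca85396272a424aacacda900008dec5538aa5329a96997948de5257446e48da1b50d76d1bb16c364f8848d59687c455edb13ab2c0b944ff0f0c56562499b23445aaca83dd06925e3959487dad1b5207ab2812c4a5cb621564e2b911d73722ac9856e389c9181592879c000d0eb042714700008d6a034e0f0865a43c29af1b7726bb4d86da8523a1b1500066d3965e32c600080b9,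
  nat_lit 0x3b45427464e80af33210436ed55085190a2370400315722ae25f3d9c333852f945090253049d3700002b45227424e78af210c0217e3d207a31b7e0010ff122616a2e2fb85f6b3d006386df00036a627f68f341e6948d0217cdbd00045df42f505ed2aa433fc7ae0002d4bcfec14bb095814f0dbc0000d4b8fd01bdc37ba2d6cd9068984bf1830a425482c6cc5231a61a634e40995a71b765a84b4f97a605980b3c01380240044376877a0eed36e979c80001974e85a156216a009001100201bb07301a439ce140cebce0db92d385e8c16482cc0048008400f8dd71de23ba82161b70b88c0000e08d2ed0321cde690872f46ea801d003e008485921535c446db90b10040007800db0a5280cc3752c21b09362a6c58db6429e8558858001f003a0069852140561b8960cd841b6ab5200000e08d5f90a6a154215c007400d80186144500d86d25815a8e6da001c0034005d850940261b29600d829b1136248388db331227824f4502c60588007000c80162710d0746ee9b64bcc80000ef64dad84eb09e0028005c00c90aa401a803dabd205c5e626d8b2b300002eb34140022005400c02c005847a18a7a14f82e16cae99591b605c28a7b94f33d0a0b0415f801700280041a09b4182d4c378113900040b49589227200041803c88be3800008de00400021398173c17bc2f80b98191832348751b5e003c0019397173a2e79178244949cc6584dae001c00089cb1399296c52c0dad,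
  nat_lit 0x2e6600103450d2d000e2ea0d2d000c3448d2d000a3440d2d00081848d2d00063438d2d00042250d230002310076300000a5b0c861960104022004621ae85e0e9697f6002200206909b98157cfef1a380ec41d846900007000cb90d2bc2383372d71d8000175884505650aba7f70d1b07600ebe347800280045c82b8e8dca000633e4e94a17421a60108020003e1bec7379a529b921e2084405630ab67f68d1a075e0eba347000180023720001000119ee749d0b910d1008000f801e0df439b859f1fd834641d703ad8d1a0002000171ea57246fa8374dc719ea74a8e4c81ff03fc621d36d37216cd0ad90dc66a5e83518c394da29a8ad8cdc529fe92955b10b263379015ab610f140f7242556c029fb5574494ad7c5a20d4288a55af07da56dd24f2b5d12c0ddf1c0e56b82b730a2493aad6c4af300c91d55ad075400083da07b22e6c2a7454e26075fa646d49890cbd37118d9262548dc6cf1210a43060d84c1da2b800a00026e19ccd692873b8831905e5cda36bc00480000f641ec0dc26a046c74d8e1a41347e00007c7,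
  nat_lit 0x1d983b42b8a0b6ceee1e89571212081d33872ae201eb584a933d5c382f642f0be9ab860630c6e9a88570a05d00020014435d7f3260b1cc2baed75d0e583ff840b0dd203a6000400490d65fca98287302eba5d72395cffd9ba20718000084400009d130cc3888710c0e69ba0c349b472b860b94b2db5c4570a1e2b27844f0ae105a231ec90c95c1896272ed2632b820c841649c2e57021cf9522498aae004af39eed9fd5bf85c200047dd20566af652c0a36146e2a386e780001f4e3eac4d42b12561416182c43852adf4bc02d389291255367b56f822e23ea56f600480002aec3b502db1de409440000178000400f9bdf4072827d0491fa304dc6e70000002c005001f304a7e5528f2e4319d867dcbc506c10d86be44dcd1a5e003074a1a5e002c30c1a5e002844f04420024750,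
  nat_lit 0xf5ab40430fc62152b32c5107b8d594fb399a300146f231d14c863c40784a2074412668c0048012242e4860de3602c00007043314d258de886960028001ccd0a207694e6e15360b015378975a80001784dea92142436003c002999f440a880c782af034caabad0de11e088809102199e000800443499be83794661ccc29bc0c3ec0000ef68808cce0002001e1a45acf32852d268ccd1ac235761f46efb25c0004382000b00023bd800b00000a58e891d0a3d300d301ab00060028dde00045840d50028800059171e120d8c00016122e56099960c0a5a14b90081fa33f283fdc3438007377446408cf1910094012888e90d0000189e431d07e84fc90ff50d0a001460a066e0cf05a3867e00086ee0fec0d06000c07e0d0600080a100000004341b59064ee5a19b123566240047ec3491bb600003400feb383c82148b70006000e589d928b24e376982aa66964a05898003000522da8210e0e8fea0cfe6ec800422da242848413fb144428908da335c6f60cd90dd844f29bf1333b24e2c480010001916b4104706c7f41bae00088b5208138343f9c7f411fe377ed845b0a991a375841493302fda5fb8a5b94bd4ccac930b11000200026ea9bec20e256c0b129621000200008b4890612084fdcdd422d246290fb31dd1c3c387cae69c08358aae30dd36cd8926d25836966d30ae2c28d,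
  nat_lit 0x61dcf4b26ee41e4d8410ef1d9713102624001000937bc057113f43cada98ecb0987131000040040b6e424e6f709860000050800705ba88edae895f80f2a1e58368000a2dad09201a7037806cc3c5878a6212de54d521bdac4040000bac1e94004800316d284880d281ba03621e243c4310762006f62d0300002f187860f0e06bc0dc01a342402d9c00080070f4667b16811bd600005b414fe63708b0dbe7a7c94ecc97c56941bd42d9ca7eb1b72d5e5aad5dd0d280b4cb0aabb90b94f2e1ebf57701eeadf04a06aedc5a113367a815db09a262acf5f2bb512bc3cc250157682ae80002b626a45a38146e26fc26349bf0827103a5e84de91c94392cafc9c3435e2aedcde805c21e555db07b886e8f5b2bb50da8e329c6657680aaac5149f8aecc1c42ffe60015d903b45f74bf02bb10c65a389ab4576005d94940004008c8c5a0a2387640208030019002066a8b9e000200888c920a6448e8090d729ea95dde3ab89ec1bce0088b2115cf64249a192679b9d2e66cbe597c01183798010974c0964d5c346c001c0ad301e4d8a6e25a55a20b334a002c00c069a37aad268de5,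
  nat_lit 0x6af07b395f103b45f74bf02be10c64d7f9eeb57c0066abe64a5caf7c122001400245e108b2002074a08b2001c30c08b2001844f5934001475008b0001068908b0000c68808b0000844a08a200045d0000400006206740ce9c8ff8a6f14da51184a989552370013c006000137d4000000218567ab8f979a7c3080603c4d809ad34ee6fa0002089a005000018407cc8f969a7a307c60344d709ac44268638df318423c08e672cfc0d1cd710b0c961a2d86af44df24544937129236e24a36af403d8014c58b15e7851e004d5e7abce0b6cf301ed5579a11b9f033daaaf301575c0894615e5867e47b8f5aabca0631ab39ed35792084abcf4a2caf200890d5c00340029d9b43c4d85087290e06eacbb9c70d9be2b0800000bc28fbccfb19f80006002c5b8a12a035a07080e181c8583e6f807b9114e2628001800a16e084a4a5994b4035a070497f,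
  nat_lit 0x27f2000c44e27e6000844919100004620190c00005d266bee0593d1b7dd29c8538097012e23116000c0008c8537e4000000233bcd708f029e045038a07912da25a30b86fc000205bc0b848d90c7b1168000188825be4b74a6eb1b46d5c9021b7f11c923906fb99d53f0867a1a421a9757d63218b744a80afa859334126d995f48cc875f5299abe814fcc7a1f4457ce1ee800357ceaf985bc231e92795f28b42b231b822be412c0b551f2f57c61cf845b0c8c18fceab36de4932926d5f19bec68bd29babe20098d6c1b5d57c20c797eb4a54af8013f3e787ced5ef847c307924b2bde00949d636fc57ba0f6001e3e4eaf7008c6d8e94455ed87220004cf00fa31f38d2302c50d4ad76cb1816312db4af9c5912c8a59115f301807f18f772be51220e471eee57c80aa2e1c4a62af8c459,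
  nat_lit 0xe2932a0001600010e69ee46b627f1c6ae2ee45dca7031ea23d46dde13f7325000001a980012828505813c69086d8ccb699ca3af075e8151829e4ac0dcbd6049c0a50ccedf26bc1c4a3891b7924a6581065b9dfd45328a41409a8144c2095896039c08cbd940928134c1e958560306ec331c6640d06406c95796028f6e7661b6d22ca4598957960219944ee8d251df04ab6b00cd400d9c85550e7a55d58042c38fa04ab8b004003652895696000ae0d2c12d794b827a24d28009801500300068cfb1fdf380d0d6a1ab5d20004c00a00170032628497c13012ef47011de93488d2b92d694b6279e4d200088013002c0060e013faa89fd0d5a1a95d1c00440090015002e627c97b1c00d61cef39a42695896aca5a13cd268c003c008801437fdae91fd344fa86a50d3ae8c001e00400098015313a6ff3291000038219413fb067bc0098011001c00309a193ca296296a19481bfa8691744800c001a0040009189a25e24be8bb9987a37f0cb913c726820028006000f00224bb0975993f276a6fd93400012002c007001031304bbc977187b30f00e78dfa191e002c904273c002844c2588002430c2884002030b62de001c750285e001874c28a0001468828a00010309,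
  nat_lit 0xb4e269c617f96362c78dcb927e372558487069a824b00b08c02330e695f5611027e7fb90422c21087c63d3721584001d93f54af6b07c1ec01740a2960f01188c7d287ac1d0e45615a57a583802880014500550590895f42bf884e9a5e9a0127364e2ce0c2a62280170b23014604942d28625786e8eb08059c49bee0318c000175840b07c8653c4c92f560f0a8068b91682c1d199117ba57558381d02e0a4af0b06c4b1409895d160d073e74a92ba2c19133cf15257458301d5113d391c000810e218ebf180000b44001d17e96a22d4069b919906260c4e5ce07f09c16001917e16a12d3e69b5c01a2414480d4c8e0a000a93d527994a00db21b684e99c120011b89a53e4aa695ccbdb11de000d2798ca410e421a8cfc00048be00c480fc00042770014d361a6b9ac26e6ab03c001a1d01d02bd1dbdaaf4e187917ab4d769ac6b05b9a2c0e0004873c7402f465e7c70434d53580dccd6068001439c39fd7a2b7b35e983a38e07,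
  nat_lit 0xa1896d927908f2016a065b09980cdc19c8283a70a02e53b7876e8d0619af374ad318cbe1817000e0000e134134826d12096e300042c49a4e2dc600043f62c465b80000006a000cc081e5e4cbe9189233385c65f070900020d7a1af8d821b1f0df47088001679089d1bc1b78418d66c88000301a284850a918d1ba4c079974697c6e74cd39a043b6476d016e82d85868708000028fc65f0cd219bc13d98d4a597587008fb6a34b28b0dc0bc0012b0dd61b0b1a827904d2c3519100082c3658680aa9e146e6cb0cc1c05d04964161903b40a7414fac310c64274a524586007e9bbc4b1eb0bc11e28345429a861b2d41a619503310a0034e479e00001c1e0004a3b8331064cdc447150000369858d84e2c6752c52c2c164d62ba58758562b100045856b0a83b127b4dcad6148962b9e12c2ac2812c014d8294584e1cfac354b0ab09855d00065f609ac135961e83804e0e,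
  nat_lit 0x10912dcac56164d68a25b958aa10eb1144738b1503b926224c496298740cfe52dbac5212c4f00b78a58a226896ea6f10b1403ce64f496d56278aba0005629ac54001e0af46170c2f185c6f38cba997a38744918000000cb2208b333404eb09b94b98343b687870e000205ee96e1c2831d229565e50be41576125070d800105ee86485e700000be0222024a0be91a637734b90de0d627084e430c5f90bef6f0c96bd6269b225779bf1a5c56f02b1306e95902de0162585228a596250012001415d09c2138ab891be237953574d420a69951438696248004057227044e22e236f86de50d5cb50729a470c9eae3cae79610a2ad300a2e48cc0022c486ef8b1f4c383d527ad0f569e563cae851169785162464000d6239c30794cf541eb33d587954f2b21435a5c14549188002385cf2a1e554284b4b428a12300002b115bbcac7a01f470b02ac00000050004265c4cc4809101324f624ba06e3826000041b00006afce098936229da849ab8465e8cf5bb225b96ee8b100e1534208cf1bb1a5b86ee6b0fc38b64c8df512db3772587c24511506ee2b0f40a9,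
  nat_lit 0x2218432c000d63924f049685fecbff23816ac26e08e270004b1c5ad51c8842467221ad52c71001a207da9c9c4c48b4a5927bc71248650000ac706b52721d0911c873894ce200000284002163d2c82908930b21972e880019d364a3811500023a6e522831c40bcd9747a98f541ea6d97502f2303460493a56359c48d68d63500060fd2defc4f309db37a4b7b844e8cc2388c9f793e427cccf3cc3cb42850aa97cd2e72c693888a33115b22b84dccfa71f872dba5b81bd22c683884a4db42650a697c52e62c6730a481cb5e73c7ade8dbd12c6617188c0a5eb4bd29729632864a3ff12e4ac64035840f379f58c62b800010014217c42eae9610d621b04b71ac45bbc21bce2026980000004885e10b8ba54435086b12da6b0d6ee9c3e0000d941e3d6b2e71e84f636489719631023e70092e32c6102d00032c6158c02c6a4734750b17c2f5680a971162f038878c5bcbac5d0404ad596d158b818c9b116f28b16c0bb650a970562d0244000c15482ba0bfd8a580001784697800000105778e4a90fc221a6249c0093c1629cc528e1e1a544d089a007d1101cb15c9bf,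
  nat_lit 0xb2712f92c8706cc00025312c8a23a0475073d0e7e4af89230ce32cac717378e4a6ccc00b4a1e5b59163e3972d6f94b228558268e6d3d6448d24da551efac880ee4c10a55a590e1f68e5d6d02b2182e22e96df116428ae45e890ae2c840e7c22d25eb5906257acd54bd6b20855d2d6c6e58dcd9c423024603d264250400200039a8e9c5a003400608402fc840b474f0ea5305acfd99fa92d038b1a8d800c001620fcbf1902c1d3a3a90c1633f567e8715b2d400002eb083000120031add9c9942687265add800c001686999699c54005400612f0006000586180054005089e00400048d14005c0040ba800540038d1200480030d1000340028e9200500020d0e00500018894001c0010892001c0008890b1d40000ba4c1693dfa86d4330001563a35ad39168498e45b5ad58e871494b54f7ca1b10cb800458e6d6b0e4521253914d6b0e28,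
  nat_lit 0x2d8b000032e98fd32169ded9d8000d00106084d189c234d4ce0496c51c86bc4c0000bac6798f7b98fb32129de59d7000b000c607cd179c215e24721353f33ca7bd8c7d19084ef0ceb40050005303c68b8e41320e9ddd9d6000900086074d169c1f4d44e0396c61c80cf700000bc214516c526a570947074d15981b0004001c89533df67b671faccf00003bd800500006064d149c1b4ee28bb1c7b28f34b6c96d16671c7c00119d3a772320463d0dd2b5943e802f3c5e70f501e9e53e45b80b732606d2ada5518f53d42bb3059c9f753f447dd459caecc3d4263d4c7c9dbd2e54cf4cd13981838f400197913a84084810a06b470069158e6d35c638f00010c54189e4cec99f265040be2c4ce3b00025e40bc681090214324ce171a7338e80000c52189edf99307acae0cec89133d76eb08e5931827522f3a65c547da602592671c8009592e980d31499702f389d45317a3952fd45f94e381446001d64b35dc397272f4e601a1734e68bd50d91c6e468cbaf0a22000cb255aed9cb8397872fcd0b1a7238d99858000178cd0a1cbd397472d9aecac9300082880bae11a16620cc28e350006b249aec1cb5397272f0d099a6f45e286b9b6c9c686810a37136862d0da30e549cc52ea65d6850f000238cd64e80001785651aca4000e000050e0a1f5cfce079bf7881910aab270e32000840e1c1e2f23195632b0189031338c4001903320de41c417082d938c00009fc341ec24411156794dd2d1c4a6234e8a5e40cb228ee4beab22ce2f300a60212c126184becb22853b2058df75bee25f559121a791af4be8b2200d6,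
  nat_lit 0x1565c9a493548df9cf6b8141029211dc23822653960fcf1fcb3f3c7e7538018a0314253e4a801522000872ba17d4740dc44f798a8114fe55c8bbc95210006b2dc9683b122d385a58b972a40000965b1a4635428c71ba69cac2a81300a63d59be02980009caa00387ba8bf317e82fe45f085cc0ba81808304061539500068f7300242e905ca17be2fdc5f90bf11ee6003165925d12db0729adc300002eb2e120000b708aca18182fe47c030281ee00025657a61e39ce27384e3ae11394830105fc0b9c17185ed8bf317dc2fb47b78008595c7289b024d2430285fb8f7e604c3db8003acad4c387394e50674a000070435b86c013480c0817ea3df18120f6c000ab2ad30d33a4393c2e10bd717de2fa85f48f6b0008b2a92e496d02d964698bf31ef4c0887b5000359529860e7089c813822700e4e6b5a7d645f40be71ed200096541a382d9a5b2430a1c9ac6a4127824c0002b29cd1b9a92461adcf9110367739300002ca64b8a970599891c139d07331b57b18b27167258f66603c3dd860b8c18182e3dd85f18be53eacd6a8ddd990a69926bccd7ba7e837ca6f8094188e611d828bd750aea2148629000122cb36bf27358e6d1cdd4c28b294e4a22a89614903920c6e768c28d479a34594800201259c9215008ac11534b084818905b73a46126a38d19aca3392018a03163ffedaace641ce4237accb545ea6115944723b19e00002f1a58124064821b9ba306351668c16500004048e09218ce9c8c11ccbe60091599298a0e6fb7ef593e7228d211a48df2d2de25bd593c1c59d55334e6695bf737ed593a7220e1338ac715dbfb260d59385931b814c18b26c1b36bdc960d2c216762cee00288b9,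
  nat_lit 0x184544fb90b4de0197400307c00ab591238ef3f047e0d2749f74000873296866ca6000c3c543e87dc800109647a69b4e00010fb56e59f7100002b900020ada2aed29a37d13eda73200010ad691e1c8226e90cac73180000ad22d245db0bb72732731056d230a46012d892332470dd9d19b1abb34c0b334e6100000030009000662401b9837624f244a06395a12000465d000e000014b3a2807400e99c8f2bd4000c0031cc0308061127f7657a0008cc83406579c0008146dac4af280000ba000200071f7e6494c90b5db6bd65798e5f000600187df1d12491ce0ec376024c397800100062f3a5af01fa03f73974000800241ae69007e0b76f71bc97e12f7a5e85a0072e000141ac68fca5aa0c962fc4ce4a7c33e651c88b90e5b00008354d1f0fbf6edae3712fb25ed4bcc740d67f9cb4de4518c84940042b305660172475cdc082cbf0b947d91b7f597c34917984c5cb2f421d59ee98b965e095e54980042cbc34986a9dbf51eda0288053023d047339645a915032a4a001d65d9a4b354cdfa4f6c814302963ef0b5216a25408a92000659746928d52b7e83db005087dd,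
  nat_lit 0x1d322ee000041b000000088bb926815a840210a870b244fc89e1645000273b370342168ee549f3491000045180062f72249024b049711aa0adc1581c740014bdc2d4503743bec77f1cea0010bdbad430320690070f8c36000cbdb199033243b006990004069c0d10ce63e385fe8bfe34186e20f559f8326e24dc8f75800439d0bd91cc1399a000c008836106c64f689ea323a647673997b139807330001001006c00d889ec93d36472c8d4e7217f42fecd049b853d507e009b7136f3dd00004007928c63c40000142000011aa107420887b4f729ce208c43280005156d9b60000175851e000800140d681ae20456de27438e95120366e6cdace70321228ec003800906b20d6d02236f03a1a74a49011cde5dccdc01b7e3d427de49b3936814760018004035839b8003b81f6ed88bf119025ed6f6430dce6d000ce07834706910eac4138cca0b4339b0002a47748f0e3053a82e8002a80022610699e58248c991922264001960e2c1865e02b402bc39ac001381a4c26955d2ac15cc39a8000a60e146a14280004c1c15c00a9069e0d4501d36e63a06747c8fc336851f0993166c1cd2002c001061b306060bc7740eec20b4414ca84100539a0000861a305e60b87738eeb20b24148a8390042000733885010908125b639ebe2cd647202bb800900001864e66,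
  nat_lit 0x1f3204f009e4c8f1cf7002a00381d703ba07841868e8b47528afcf98827704f06474e7b0014001a0eb41dc9d1404a51d422be3e6009d813b991c39ea004c00603ac3a2400583ab076c7b70c6c34a0693c0acc154917722ea744151a2926379d7ed22f545ee006001317c300260028e872aa00e681c28036005073c8008000935d46cd895c1d0c09c8139991839e2003c00403a807680ef030a1eae3a140ad815a5fae8bc917a001500461260006800703c074231c100003bd8384070400c80121cee001800140ef01e72568c70d8e01d06b8780000ef600c00111cec0014000c1d183af07707abcf54b68f5c3a7411ceb001200081d103ae5bb2b7681e219596a52d4a0e815b4000005e1000e0000d709cd03da26335a4ab49305500a696d12d9f3a00d6e9db33b5c59c8001071e1908b3800010fd824d94e5000001500052f6a06f40e01b0b309623904701cfe0010bd6ad50030a4dd863a8c7719bc00197ac5a9e06002db85b439f800117b2091400400012f5212c8013000a8b911712fc71ba85200a8395ee4dce60c4e7d2f5e004800222e345c2bf186e9947f2a0c57b56e79cf8000d17122e05f8a3748a3f15052bd89b94c17845139edb84205c06e60dc4010801339ba5e94bd68010000473d0186031c12f025b04b3094e7330be0800f00028b80e791b18364cfa89f5239965f00007000045be8b757e11cf08eb8ee1b6563b94dcb988a0003000873b824b228059248bd117600043dda1b7622400043de,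
  nat_lit 0x25184a480010cfc439126f000003a800b1b1836a99cb33972e1edf4535826b124d874d800a1b16bf7940da0cf41a294a5c0d9d3400246b00d61078e0f205680c6a00206c48da76726a5099db1d32001d7eb2fd7102e047c08e16ac00186ae8d5a235834ccad2000a36186d294d529a074c04e509b273f8bf980410072dcf0c9399284d4e97a4e975a6a00005d610be1d6c27184d739f85fc401f80376e746494c932d343a580de885e0eb4138826b1cfb2fe000f801b3739324874a84d539f45fbc01e80356e70648cc9226a34bca02d0e9409501300258803c0068dcdc2d705b46b74a2d19259d2600ec019b7363242648934f284f1336266591e90733a482d3859f5d420028005802d04f04224841a68242967489d163a3c16982cf2ea000120028016027721104208e90396a7454e8e85a50b3aba7c0040009005609d88439d1e167174f0007001000a813a9086210099fd0a425053a3841900081d284190007113c41900060c2841980051a2441880041a2041600031d244188002112574a000111202c80000052d84db5fc36f68091ca4a110422441d883e026b0040163ce8d003e09ac8b09d00123c1be14d32aac0e801c5803c005c73e000b000f35e06cf0e8c,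
  nat_lit 0xb5b53632d52087581624c05aa22d12d56714cb5404b00e2c89016a78adcb8dd361ad4e12bc00921593b008d40e108ecc1a7e3501c4e95182a32754800800228560ebfa34f38403b2c69f0d3f7138545cea85cf8000065d1a7a34f07649c1e469a75f50ab000f000c1c5d7402e7b3a9d7402e7f0e2c001400721553af88d30e0e8ec81a76753323f00003bd9d105cec000d6a41d8909141230224844863c8a35991f1d4a00096a39d880912122c226844e089e1160fb4269f3a91a080000178438eae7b719cb9cc000000942a075dd1a397e56824d03cea30004969517c09c60ac215803fa00029694f70178800010f68e850f74c7498ed29d0c9bc33f86804c8c9a4d34a2d413a88648003f007819fd322a6924d26b500ea11148831506313cb27989acd69f9ab4d8fce181cfb713c9ac969f15566e99c3d265d4d20b4f46e9165a9a3d69e00109a1969d80120f181d8806200a60a8014f9f5945c88e351b018643a80708a476078a0ec00308052053e0a78fac22e3471874faffd00002f1addb0000bff09ce6002383923983c2075a0178027829c05367d551702dda3a79b581d606e8882601d783ad00ba0138ca1995d32b474e948a5ffe384872083c007560170026829a05305b1ce9c,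
  nat_lit 0x3e102070003800a10fa21e1bf005f70be0d8940c01d740024bba9eae3d4c95b5aca13ec18b83164af110383ae4d2f36ca3b525dfda6eb4dc2e6c20b0002800810f675c00072ee87bb14c4a47070648de11b51d6e0018bbc36e338d671a86f61d6c0014bb906720cde87d180c15e40010bb88b4516864ad9b3e1d6a000cbb81ee97040dee42980004207c41101fe0974eba95ea000ab588d871b1f2ae853b80db81b9335412e825c3ae857a40022d61361a6c78ab994ed036c75a176b4f065300a61369c2bd0000c007858371c8b910eb35c7a00005e11380096812c369a2bcc00056af1b0a36365948b2c2e3c3ac885d8000028400303ff08107994f1715e93ac5b059a943882dfbd1b99f303cdee219321a6d25ab675830fc00002f1b64a6c969d28b29964d362c6c156ac80080b0ac40987d9d5ed43c0000bc26c0d6ab80060b0c7cbd0eca75f63e448fcadfa9416a1c7571035242a4858a441489642a4f049fda6d05aac756805800b83305aea29674c84990d6aa9d586861ae9a9664c8299096aa104862480782d754d9ce2bd6a98d5e1c78e2e24204842e2b56a91d56744ce259c4a4de09b2d6a8855015cd3652d5003fc000026b00281330309061882351ee23dd5014e279350ad553aa8387b8a95aa82a014403844b54c692,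
  nat_lit 0x91d4d366c6d14bd597b03386d5c94ffa8e562b27689f2700260018e2ba49647a42f405e79b7806620c9ced04c968154f930012000a715924aa3d1179e2f38dbb9d9e35d932520543e4a00440021c5549288f405e70bcd3b397140000178c007800238a692491e70bcc17966dd019683235c56b89cecd2214590c5028a04517081482c1057b00180004e291d98c8b00008e0800080000ba419e833f00040002765b230645c215842a0a011400a2d1027057e0afa0028eca6450c8b442a8853140027fd459a04d0afa15f00048f2476fcbcab4f369e45d310231f1c00100018ea09b2a3b251713925500ea545cd224eb67925c68b9b00073b2033e06851ba837487780ef62e5e5cd40031d8e20e929e9af61de23bd4b971734000a7630a4a14a45a6ccad195967a25ccc0021d8a3da87b317d92e585cc80019d8816a0fa985460aea000845c0adc15d0000829059006338c6927f2d6852bd1eb36de45e2000b00023b0d77baefc0bf41809bf5888311100054000a0423e2676117b82fec4ae0f199db52f16d3a5a741742715a0020ec14c6c001c009355ae3e8e86a08a1100221400900061ac23578d4c1d805c45b109aac71f27431044887f110800440028d603afc93697106c406aadc7c1d0b411021f84418010000875f000f0006e2a0b9eb4e369c85e18ed81e2e25665fc4cb35cc60000704380c6a4c6ac8d5c00020034440087b410a7421c7aae623af42fcb7e210f421fc00600001ab63565b319c0516cc75e000b10fc21e50419d0671e8b9c82feb78670468d711ad303f1c9853e0abf9666379e6eacde796662cc06ca4d8ca7c16870299c533156d2130c77142c9c001ab03568ebb,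
  nat_lit 0x330e68949020016003a0008fa420722ef0d479a8f9dc2000083b084d023c839934d254a4a68b6d00073b80fa3823e0498279000303e4074c5d50005056820616d800081742477675a000c22513c42780001005e12902548001048093d12a600000750013001008fc12289dd361537396912d1c00280090014003852e0a5903f207ec76fb074000032e94b0296c0068009001000105a30b47a6e54dbc9b618399dbc697d36ba6dd4dc85a38b458007001e004400c94b53b758c800001c117258000631e76e168b2d100010006000e002c52c8a5603ec07e00fd57251db671b9ce2a9837410a6559c016870006000893b126d3b6846b88d331ba226c44e1a32348c0008ed90146613106d1a45000222e12753488000007e000c0e051c9a2583cf2226044c9a2f348676c000506f4712cca3105123d076b8004017e0308ed600060dec24c81ec00081bc0d1c1020000837a09b076a800006ea3e9417706e87114ca0363300020000ed46af0a805aba19c52f645eb4da39b383a9e00500009da6d8c9b199a9100260000ed2,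
  nat_lit 0x65fe5ab8b55b3132b44a2c1823801b0000485090785833bd800012e20028a45264c43268650d12800424402bf000b0030c111456959f662069389118033007477a920b0afa002800bb043515856799879a4d244400c8ef46082000077b1e2c4a48e0a9cd1247c15742b4857700100055820b0403bcc00a022104467e850ce219e53be944d28a18d23bc800982200442dabcfd09fc6434a87e0d1812a33bc4009021f5c14b82c1160e4d49cc7e8cef00022364cf08215431a263509ea0020087410f9f9d42a07574eef001e3644f07275d4ea47e70eee001c086c10e0a11141e52c4626001a0868110058904b6776800c1b20159c6732d52009401680123eb021b043d087940c681a01d49dd8d10c0000cba00ac0081f5641005e18ca18c826a56d4b4be734486884775b393000032ea05f10ea21d84341f54001c00a401096a52d4e5bd19c91dd44a4800f8028001a7d4d03e9783328031fda94352a3ba59fa8000178c439087310ca7d440058026003c5a88b5216f1535ccfd0ee86a44000070434584a3800d802400127d3d03c977f327831eda9235213b9c00d802300107d38431087010de816502f039f073c77300073e9a81dcbbe993a18f2d489a9217c5687ed100ee51b0ccbdcd1a920a0034008400305ab0b5881f19539dc85c80d38263a4c709bd4b4f969c003000800029f4b3b8d9fb80001decbbca0733e92000c00f00162d34ce4dcf129a673decfd8ee2,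
  nat_lit 0x20420030d3328c0002c74a28b8002814c183e002430b28b600207501bb4001c68a28b40018806236c001474c20ba00107492718000c44e28b000084496540000444828a200005d26ac2e621103368b36044bdc009802e60b4e681462329e3be5b451b0125ec00480168db4664a5af4899113512e077c12f5002200b06d9b32434c448dc9169a8a1f703ef8ef75ec6003c65d0b1a0038904082c0034978017200305e30b28002cb0c0b1e002844c077a002430c0b24002044f0b26001c30a0b1800188060b2000146880b2200103090b22000c44a0b0a00084490b0a00044480b1e00005d2,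
  nat_lit 0x2e3000c3440225000a3a482e200083438297000622702b800042e802d9000231002d700000a5af674ef6b81005331a342ba766516c24fb70d850f816b1e1002958d131a113e426644cb899622b64560b71125e3c1ce209c652df85bd8ddf9bae5c0402908b1b1ab6352783300d000032ea5b453a85b8cb6f925b00d601c803a007c0df01be58061e0a937d2daa5b353a65b88b6f125a00d401c4039807b3c1082524de4b6896c94e916e12dba4964034807000e4781b432000038232f80000d0c4edc539e5b78b6d125600cc01b403780770de61bd1456b2f73c099a11a8024aa0194036006e00ec731d285a8ac65f4780b06b000032eb30065fe5475110b6a536384c4401680481b9c44c98351e00c07d3a79c8f39064c4001600471b9cccfd4e1914e3bfc56f8ae465fccbf4a8da21f6d466c68987802b008c77f333600002eb100e17f8c0713a61c8c39004c3401480441b96ccf199a9dfa65508068bfb60369d2ce459c7f261800a00218dca3bf197b00001c11956000065ea76e32f72a2a8865b4e9b14261200940200dc62254a3599559df6c04c0000e08be8400030123b713a29c8538f24c18011003d1b88ccd54dc9144228abe80efa031a0034990,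
  nat_lit 0x11d034140dfcd04e122d3c40000b72c2a8411c423803b23c3c000372b2a8245ec8be16143c38e7eb3c22620cb0d41822aa40005ad8065ae285c487868bfa001e2f182f6001c58608d4001a4b9146000183a51460001618614600014227b2cc00123a8143f0010403145e000e344945e000c344145e000a1848eca00082e9945d0006225145500042e814530002224001200002e934dc50d89e3970b80b9636c85c0ed622eb4a1ce1fca289e18b85805c31b5636828144d609aa135245b88b596f53c2daafaa4b50d49e3170a80b7636885b8ed522e94a1878516e46abca929434a78b5c2802d98d9a16d3b528ba0f0905c0003865d05c2003477b058200305e15cde002c30b05c6002897c05c6002430a05c600205d405c6001c689,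
  nat_lit 0x2023459aa14d973133367ca7480011001a3dfa7098f1a685400005d665cc0001a149594a911d5baa3274e8747400f80176f4c7428ab5956c65ca78c80ea2daa807d164a84f65c44cbd9f09d1c003c0058f1868a0000065d3a0ede8c00a001c3a34e9c5517bab45482e9ed51f344f3c5dca72a3d74f4a901d59aa2e74e0746400d80136f4478b22c55096cb78995b3dd3a3000680091ef5383c6cb8e4028f0002844c2638002444f28f0002097c28ec001c30a0c7200185d418fe001474928ea00106870a86000c44e28dc00085d028dc000462065b800005d26bcaea99510ba633a180038003379539f25568aadb2db3c54adb9451263ccf40e85800d000adc10e081b216da878a131d679e742800600046f2673dce7aa9cf65b251a4483679000005e169b400019e38d7e741c00480016f2073d0e79a96769a461c4c3fb4da69b278980006f1e73cce79296669a461d0c5918b326eaba5cf123cc07711bfc20a124640010f1133a248cc0018278dfe491800020e3435406a60002230040f081a0000015,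
  nat_lit 0x22e585cae26834014fb0b9584af125024b0c1b19f31a64d76daee987f5520d3e40001e4600089173a3262303b0876b026304c07911a5f34bc240047d375c39f097c572a1e42169021a042f2f84dded7299e4021984312e5209491c239bc5ca214427294bdab9402f7436ee68d7278064878d3e6ae4e012d1b127cd5c9a17b33f84f9ab93000c6cd4000065d4a24eb55b2c8005000c0015b2cbad54a249459318b6693c7db3180001c11b36a62f4a289441d69b65700060010001b65775a6d988f1e665000005e134d80f1c00580016caaab41567b64d2cfc4dc1995b3273c7400017bd0028d4e97bb1b423680a0013fe4a0c941135dae4e3c70003098f7144e28cf20ae4d3c6c827227f5c982ac146c46c0b92c3c54a329f11725096482c92ea2e491090c8b27c35c9017118417352b91c57213108d3d7230adcd8813e0ae4512bd766b9a75c88285001c2f5a5f6c0b0,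
  nat_lit 0x46d877785448a82300660298350bb1176000000071e5200540108bae08f45ab800b1758608000a1d2860800090c306080008113d84380071d40084000620182ae80051a2460680041a2060680030c2460680021a1c603000117405a68000188196339a71e863d11baca3d671ced43400a000800002d30f28169a5d18c641bed3a9e755873f8e765cc4793958337c8b9840ed3922e741730027885113012e5f0bc0f12a59e5cbc79337ec4f4eb9742bb41e49f7d72e05ecd0d93efae5b0031730b9cb5cb400680013b44532199133211dda7774cc518d131962344f251bbaa281ad619b669c26178775b2fa540ecc840009e4853180000142000801a802d1e443cac19730c0e71d72d8ac473fd2fc2e5a1090f9727d95cb2258a5324fb2b960321,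
  nat_lit 0x18f6666b4cd604c0097e16562ca94ef21780d5079a800000043d959acb35712fe25f45950b2953ba85dc83c0002c5ccfbc1f7411fc24789e98c5a6168e9518401e6800018b93a75701a7db925e254119b43370d331a673ccc7ad800010880000f8a1f0e1c4c38aa0043cc8b50a8065d142ac04e7381aba24493063e98b174407ba20692e42e870fb42cca7d15d0c2ddaf255012ba1457205dea025742079cba29cfaae83142983b00001758dda9836000400388ff8b6c003e00445e08bc260f6c1d4f311e2851e053008321068291036c06cd306a00040069e60c1b80008cba00280000ba460c8a998004001279780032a660af450c0004cdbd1c188100004a99186e0b90000153320ce02f15332a9a6fa5046207370fe0014f2e24384868a28944943a60010f2d62f8a3354662a8a43a6000ca3c10f06fb000102f26f9c0008014c189d1ca92660da2ed05d9800300222d788f880003cb17a1ba097470a4958360bb3176400080080b5d23e07958dda1bb2456c0fa2e9a50127b48f67a8e917620004f2a,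
  nat_lit 0x2faa00003bd8ef41dd8df78011802000060b5107a1d526f78a2ed7d49e8cbd640000ef6d585ab018f7505483d907902d20002006c18f831d5eb07a2800005a27530e9e0cd1126624951d21dfe16500f0cf44000a004400a31e8a09d079a0ef059e0010007800043428665cd59e869c8181909b817e60004019039438b400001a8003000202fc05f05c70b90278e62d67a1000b000666600ce81953a1a78d0e569e820008a6787210e2c0b3c4f600120004a6707200e4214c1faa4d70909c94c85a50b586310b0c851600087a0170072e06d3846388c309dc000cf3f2c30145000101881664276000101c4002800d06220c3cb2316cc38ee719975d015d2e846bd000400100b9c639050b0a1e0e80003001261acc360eb31d6279f000100040028187030c2c865b24e3a1c635d6e0568f3d17622ec0b5b9b712bce57b41890310001200300079e780000005800d62fe7e10fc022f9460c5a20b432f833cec00500150086cd8d9b08989130e2cd0599188f5e3879d0009001a5ab4d6aa60d75e4aaf959aab2e6d8a79c800800183e587ca155f3e5260d4c1c22f321fc79c000700240118742095b12ba79b8006001614142810c6905bc79b000500125aa4d689e51188e32680045d263aa0754986230c27318003000e3e447c7071a0e1e5aa800200180c0c293,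
  nat_lit 0x10ce37fc6640cc3426a90f122b000e001a003922b1ea27de0adc13a227427f54006800c001a4d889ac1e663d41099a43a48a80030005800c48a890e9ca8a43f6f5e7a7800b0014002d229a4394264330065f17b710c821b8f4e001c002c74a001c002830c001c002444f5d880020750001a001c30a001a0018689001a0014688001a0010309001a000c687001a000844a000200080009e9a00080000296d7f94e61b5c369c26244c3897c47004d209a9800100007a600012da85b59334a8fc73dc8b91c75a2d65d747a5a484287250d4837106a5d723219afa5076bae055827807d5175b8d24baedd162eb6158920326595d6a2122f3e5070bad05a15ea6a0e17598ae46890e74aeb215b9a44a8375d6225798c1506ebac055d3f347e798cc8027004a002016ca151713880d04aa9e948c69c771f993f3ac6600130024000e0b610a8389b3d24b50231971da7e60fce3197004a008c00302d7429e7a41f9b632c0090011000505ac8539c4ca03112a4254cf47,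
  nat_lit 0x4642e480fa100da01b8bb748a9027a2504987130c71aabb706c3703ca0bd396a72f5db61ba37c04e5cbb680036f80a05576c8ae0004400b800d2e005c0976f1eb0bbad4332edd04f4f533a585db814404e62dfebb6c38d435c9a4576d05ee7ac1311aed93c99c65ba535db000a801148d491b91d209a0135626b4db937313ab6dfa8f572fa67e30ae613b6276a7fa4008000f00204dd89b61eac33550a3a44e48d0003c007000f48d09139cb2a4533d5582b80001974006800c001a7f989d913b32b927e24be815022a06c158f541c1c335c669214448969194006000b001891952259ea6d8700060bc200400058e94004000506180040004889e004000412f80040003861400400030d1200400028d100040002061200400018d0e00400010894000400800013d340080000052db18a94029e853ccbe09f7a2b744e909d19fd7001e0038f52,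
  nat_lit 0x1d2927fe5412855c00107646de50ac80011620e0fb8de000001d000f3a8274e4e9b99df0d360f1c1df1ed20038e9d0022004ce3c941a9c213da00069d3807da0fa8cf1023236480061d380040008428407eb3d9c0059d373d88803431699f86599ae22a583bc87794e819c0d383adf7000d800c3d99a3a80001975779800a4226e471c601d8554e479bcf351e6c73b6d1d0f652e229d1977900094224e46dc5f9d8454e279b8f349ec85c34b8827455de20021088b91a717c760d5381e6d3d8d79e8000178dadf2a523bbc777ce7e9c07382edf5800a8006421ebcf0f62000a8439c8bb8bb3b00a9b4f351e653ccee759a3b1ec263d9d44baf518e831d8654b11e4e7a9d0577680043d8180a80001dec604099e13405738b7b16f55dd60009be41c537540c050f5f2e0c5be4b7a2eea00028429c89b8b7700675d1ba39ebc69e0d3c8864049609503e114130002003dbe81c113a74c5a800002840031e62420683fcf1998bb3d740029e634b86115303d00002eb1c450014bb90b7716ef2b8e26644cc20783f547d0181e1eb842a54a59f3f3f5281dc4cb89982b8c5bb8b76aee32a458018000178cfd3a075132a2658ae216ec2dd6bb840039c423892c008f5b3cae6fb4df72326690a5c9940927334e68bb80f5a27764e1c9c4397648c8ce50a729b495036bb7cf591d325c9140827314e64bb7838b,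
  nat_lit 0x316400002eb0fc01262c22184300140870ca31945913c483aebfd8b19ee2c5780000e08e8cc7df092f610cc21000904366514ca2489d241b62ba7b80011001a0030e2e23cc52aac9e88919e2e37822be0f6f6100c20800804346510ca1c89c241975f688105509edc11180070bac112c0068e94112c0060618112c005889ebeac0050ea01128004861411280040ba801280038e9811240030d101124002861211240020d0e1124001889410a00010ba010f40008c4010f40000296c9d593c04240000c1c983a091716d4c3654d6b27808767b6842025e8ea95d432eff00087b618903ccebbf84935f50ea1177e8ac4146475daefc0e80081288a5df617109073e16bbe84d06370a22577c895ebcd5444aef81574b84170e2e360050000a80228e26890d101b2b30e07b58000082c0c401850c2d42f665f8cbcb63c5362e850f6a,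
  nat_lit 0xbc234e9515a6d39b8ab7140a6814f0299852470eae1d0f2fbad25f580e812b6a28472a28d993ac1abb6d5ae71855c8ab8367e578caf2985e4a9a9fb4efa0bab00087c085ab316462c52938f6e081010046c40ca5176e000cf802bc4578cc2e254b4fd677c85d48002007408649159efe5a00b3d05ba0b682e305c531c317302e645da80013df85d380000070086023d0c2c18546eb878a8f051e0c7be80310a5e14d85aa07160e2a7be002d0058ca9d95311574870ec698c28ab9003c0038f7b61c200005d628c47f551eba3db44362af800e000d703a001c004b0e03de854580090c30546000825f054400070c285460006175054500051a2454380040c2454500031128541000217403ef0001112186f800017499c8b39528ae7f291e623d044202acc0088002702429fcf79098a13110bf25094b649619b04895212b4e0440009ef00dac000001200007a70f583c5e78a0e631eee4369c2b9e2b2c6858cc0b7016f1a8a2aa00069eec37e4e0eb7d36fa47061a4116f72f8e2a8c0061eea16b548e9da902d805b46a18aa600167ba19db02d605b06a10aa50014262900f4ef09cbdd1d8a930012509a8207694ed2d9b68a9400107b98fc31f7635045510007139469c8aa1000c05bb08a6110005821d328e651a44f920fbb0144142a9cf72,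
  nat_lit 0x135ba76746f000006b74fa584686b7502ba05c42be91f000107e868cc69e8d4029628c240009f2a265c3fa87e90fbad360aba0bd66262c4c800700043e517d50337066c9359d810d291a3c7c55898800d00067c98002739ae738d629ac6439c8721ca13a4343787c9000300044bc30f700023bd800200002e91d4770925690ad1000500027c8928e74725e74bcc801400322f345d88baf00120000f9061e632958af2a176312345cf87312a17b23ff80041f1ea115481a90252446720ce1b5fd1fc43f840039f1c3ec9c74a06f3b8665d87f58fe81fbe3f800031f1ac2694b616402c7ced159168fdf000a7c61b5441a240908138cb4196a00105e46c00ef152aa9a061ffa000c4ea2d8615a02b48cb119660008f8b17a400040a12cb08955b909b5a5172d3d4bc8000b0020106c2069f14d0e11c51284745e5e4cbc7800a001e2f0c5d38ba53e247608ec02cac894db8f9b58516ed3ccbc70009001c7c431f7000032e8ba417800030003978c2f20e8b0940a38755fca9818fb1f0e781952faafd470c4a01d15978f2f1600180058bbf3e198e78000178d127371a36a6a2c9a7717890008002420a04064338c738f855f0200005e175548668efc8bae000e0008bc3b4ec5160a284fde2f803e10bc30001000c2ee85cf0b9d63905f7c96d12d5473c7c18000000a10402018d8a080610287b825290b581704f82,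
  nat_lit 0x4c3e7690cef19df000e003911ba23d610c19c1bdeb7ba3e9511b000d000ca34db2194d4143e27fdce5207b72227d2000551a4d908a698a1e14344b5c965a6df317a501cfa31176c31d4cc223a446888cced59d4a3b5600380021f44c3c00000ef6be0400030ef1de9d85867b000e002ced41d473b50002c00099d933a8be00fa1000e0001468a9213fd47f9cff1a0646f8c70047251f40a3417d88002092d0b383110002057a3ec06220000408000c9b3cd9f1b3b3856a4d57ec039f05f47cf80054d9c6cf4d9d1c2a600811f412116980011d6e28ba524aec0d8020df4000d3660679107800122270028ece9d3f001a005000c002420342fd58a32a1666727cf000c0026005c010b1453e5234c869ebb1649d40d28f9d4d90766ce9e800b00240058011101817e6c51189e9f38c1300000bace34141880090020005000f31423e4c34bc69d3b1360967cdb22200002f1b16b0000c8849ce3e5ae3354170006001a004400db13f3e4634b069bb16a3e68e9b80050018004000e101217dac4f9507333117047ccb01500002f0800a0006a0ace9b9b28061e0c50a1bb6ec74da9aad80a1f3074c8ec9a6bf428085090a01d923a680008004800d3e5d95c80001dec5eeb13862720054005800700008220fc41f2776a8cae0f960006db3ddf7bbf0504e2350002005200b00ae,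
  nat_lit 0x4312a4717c5892623f941eaf8a087408c8d655f121dc94b9762ebe203a06470a4657c389622ce132caf860b8400018da730070d048008ff3b7ee7a8fb34430a4617c509262a7148c2f8912c8e60a49d5f101f6a16444f8be1c4d11f4ea4597c30768c8c148b2f8512bcea03b0e5f081d500512facd4ed47f9ba06ece8a6cb4f0f081e124a70fb20086c59d8b30c0b2b52d434409081e105427312690e7680385e60bcd0cfec259126a247003c005d4741d593ec4ede9d5c3b7a008000b28e36ca653905178a2d3a227d81dbc003e0054cf699e85236879d0f183c30796104cfaf27724ee10058bc9179419f1849a24a4488006c00a1f5c1a4d3731dba3ab276e800e801351c0d940a708a2c3eb4eabb88d3b72007000919ea33caa4610f221e007806962fe900002f194de6c9aa374008001a3b6e7558edba6e30d201a297f41f58665ceaa388a3b6c006400799e733c4a4550f0a1dd3eac6061031007600bc01580243aac76d13708018001c7d50bc2178619d58462243447a0050006a8de3a9e76a8fa93aa476cc00b000c51b2d924a6d0a251446741d0409f50005400599e333bca4450eea1d907720f0420484063e9d8ab00001784cf08009001e1a24ed79d51003e0098015003462b0c554fa66f7600005e1,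
  nat_lit 0x196800001758dcc8019001e266c38d871d109821688af32fb55eccb3cfc66c9600007040b62c1f8c7d8b7c16f4a22d7d2800d13362675b26b64a3f1595d25d54bb4a2297d2000c13301c6038db5383e5e7e232f300003821b983728005000509960e2c1c60423885522b2cbd99791f862dd9443afa10012265c4ccb6496c961c203849fcb3f09c1a0000178d7cf800713261c4c38b35333e547cac9ed93d45570e0ccfc12490491cba68011000c26504cb19a8336666b85521f8000144c989956c8ad91ccda237633681c1038394163efce6c1cc93b7276e8caa98e916e62dc54412f9c00083509bc00b4e16b85ba0b7216e0a2057cd8003131e1c3cfbe0866cac1530a87f5100be68001098e0e1c1c4041f9f7a7efcdc7974e001800044c6870d0e1e20f8425b95b3ef00000986269e7bf0fd41e563caee6a0fbb13161c2c387352b2b8e30a46178d721afaed585c00bbc52cea04d35b0d221a425b70a5714b7297246d88de397c45aca9e1dc9bbae2edcd3ec998933250f8a1f57cb9f74d06c0000bc25274a5d80075f2aa1ed43d1330265c5d64ba6a9e068347dc92ce31105978b2e9bbd1218242d4253b255f287dc02f7060408001009f223e4a9ef934c26995f267dbb163547e960517822f44d869afdd702f923ed8af09972196232c15a9a9257644be44ec67188794528ba51a4d2a9a597c81f6a4a11178a6c04d78eb757c79ab210192b2a41748349a517c7033a72f5d6daf8d01f8ba12f8c00240008dc75170a2e54bca0ea41b67da0433382e41f43a407525f1a3218dc27634be30593,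
  nat_lit 0x5dc000406145dc00038ba85dc00030d125dc0002861231bc0020ba65dbc00188945d940010ba05d940008c405d940000296dad54f3a96d722e0028003148b000c0029c8bbb592ec67eca8a326b24d5cbc1161c29d2d66cf6b1ed500120014fd8619800007042ec25d81dab3914000e000ca440003000ee4514b530cb3f5c0030002290e0008003391352d2a78d618372407027eb0923125625644ad149e6d70a7894b43912000a0004fd526da2f545ec13c127769dc189d00023f51a109fdc094e12883c400013f4c3c30787000004a80011ff63fe9090b971494e2768fd200003fe81feb030531e6f70fd13d967b31ac894df2c245de09a6934f5132a2697d89fa00098bb1125c24ba7409190a1f3733a6d7ca0114003f3c012802429b052e8ab9157151608705c90913521647e717600048008ca6b94b92ae255c1457a1c0724044d0fcd170e2e1544b2fb0003026984d436586cb41c5c38c1f98c8fc0000cbaa2517d7001613441c88392b5423e727ce89f513e3647c7e5801513421c84391885210c04591980aafc554e930cfca27f66d61ccb21ec463473ec92b12552eb6007c00a1f92c210c808b821700a2457d580131342268db29b6553f2195c80001974f9a9f346a7a1c8038e899d0022bea5447a5df4bb4cae0fc7,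
  nat_lit 0x345c14440b700020030d8815dd2baa2e205c396f02dea9289ac31fcc00000059b0f2bb857505c38b862dde5bd1250a2e1389c0009c863a8634b46971a2b3f94a9f34f95740819107093e627daac81625b72200127f23848594ab2a56363c803f6058345d98bb200107f19a4872d081a923e193617722ec40039fc47779d0d836906d81d903b09a29000c702036406d61d8c3b01a28000a31a9e1b526af14c239047500087f0894f12924b5cd13000304c40022fd952d2ab01560b71c2ba6572c5bf0b8523da7f00b8c425a000d7ec2968557eab01b8d95d22b942df4fdf172c2e2d09600025faea59d55f2abf6e345744ae49fbcc34148d0b9500ac0138000afd652ccaaf555f37183f740040d7709c2136dc821fb8001c6bb2128108c0030d6e0d7603b00051adc4abc149000835b8f4e894a000c6b7146208c80010d6e258c0ac000115c82b9c084304047845bc8b722b7e571db882ab55568a5757e69fb635b1db02fcc05e57fc80001759b9bac4353eca5f1c930019002a526800a8019724cbfe0fda26d8003477b2ee4003074a1dc4002c14c2ee2002844f6a560024750,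
  nat_lit 0x64d6abe157cbb9860061f2b36a772ec0082916004c0040a100126890864b2fe65fe43454a4a9c752ea69f0ff4001035345998b30285250a00f101e1065e0cd4ff3000e6889b59bc8d484290912c489a33fc80031a21218c431c113822821d87f880053488e7a511f2577394837d0004343e431197ca62121d23c78003343c687c71a8e3325047f800023488006000862c2000065d002800342729a97153a2aac7249eb37262b1e1536b1603fbcd20801300181390d4b0a9c15543920f5939306e287f7000b09c66a5454d8aa91c8e7ac5c97ac7654d63ea0fed1678002444c169e002044f637a001c68a169c00185d4169c0014689169c0010688169c000c309169c000868700022d1c0009fd812880000ba4d29558b34a92bca6c6000a0009000e000025484a1168a7f584da469280d5cb5a03a4b6823740009fd40014de08c5a18b6cbb88623b6b52b8a57581f1fd2001045b08bb4066e5a501c25b211b67f40003377edea5e4b2c8a4ae095c5a0b94860008ddf0c5718b0e8d11f01ee60004dde9bc0384041bcfe7,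
  nat_lit 0xf7b000e4be0680000c4030f78000a3a48f7900083438f7900062250f790004224b2cf00022240f7200002e935700c321860faba602001000006a38d455686acdd966a00a001d3009f5672d6e5b030d862a0c6618adc05b80c388aa691af0187b01ec03ec6511eeb640a3259d4fa892511ad8106428c860d5e1af4eb6390a3acaab506a20d46401000325ff53fa5105a17287650ead868c7ea08f736664900054bfcc28424aa6622626cf659ec1310264415f10030008eb5d3041e933d247b10f62a23844725845002000697f91c5a38c3eb676bdc88962c400400125fd4c2e9878a6714cf3aca758d000000297f11c4a38d784091c0b55000097edd6b2610337674c25f93e9c183c308356b000ec0494d1ab007826ca2cfff648000005e34bee7d30306860e6ad2001580829a155fcf04557b323f3ff98d5a1b14adaec5187e05f40c047088bd28004001a7feb9600c141831ab38003601ca67d57b2af955e88d48ffc0004c0354cf262f3728df8dccfa0bc4886d8789a61ff6d5880000ef671654eaab86345a68b9de0bc2d66e6002000035646ac27fd0000530cb06de37356a2f3e7fc8dbd0ad215a8936a393517aa2f95b8bb9e60127fc0fa81f7e6518b818bb163c8a9814d2299a60107fb826e78c2a96162aa8bb5178adbddce30073fd82e9022304026774cd822bc5334c018ff56cbaa2e545d2b6d7734c0148b96eb8f29d5b13c215332c01048e,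
  nat_lit 0x38006800509c32238893888e09c313b6d1cda3a201e006400221703624650ccc28aea013000588982e24005089e2e2400492f8c8040040d142e200038ba82e200030d122e200028d102e2000206122e200018d0e2700001089c2df80008ba02df0000089000300039dcf40500114020201c7f00ee900060204b9e1737000a1df0b242094001021f216442cc00180365cc0b9900020234bce24a072487670f87a9cf653e39dc73a80040010806a49f7246766cf8729ce653c39d873a0003000ee60100c000ced1827a84f4216242bd00b000a9e65dc4acae47ce469100a0008896c7520ea823742a9900900069e684c882f2000831500120005cbd39793ec8983c00a800d1aa83544b8532d440211b1a3624ce099c425230b04c1a00500060d531aa4803b97872ee7d893068013001635486a797085684cb4d0061a8c002465d1d16002014c,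
  nat_lit 0x1926a9f660c410e9afd49f0c1845a23b628e8583007dad0614fa305f134098b29f460bc257b96677e6c17450a418ea819dfd81af036067dccfc1a3e3920010901b16f22de0a14943164d4363801f803d1b0a3620020a034cc1c0068cba00600060e940060005889e006000512f80060004861400600040ba800600038d1200600030d100060002861200600020d0e006000188940060001089200600008c4000940000296e195e83a9c9539c71e1c1fb83e0cbc199832e8023004880c8dee00920105ad2864a0c90e6780128023002a44650181bdc37b402400406b481924323b99d0048008800a202e0084009911e2246895489189ca13c4525c4e009b940584d8001e0040004494e932c26564c811130d1f1a4280a9f57135e007400f801025384cac995131f444a34790140e381c451b91c710cb0198032b801d003c003c94da026308061119a1624a195800e001d001c4a68994932840486b8802a006498b0fc0b996732e007800e000c138c8088029006298acfc03995732c007400d800b138a3c49010,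
  nat_lit 0x1462258409d413926b660f88169935327009ec138a6b560f655c11cb5412c1e817952a4c1e400a306603dc0760a7a14f8dcb1b971a9a43d482b800ba058dc0c0000ef6845d17ea30346b091850f320ac002a0078f25acca6e04815b85d00002eb0012003879256642c247a0093152643bae2272e191c2e20547204008801b3c90b31d611bcff4988931ddd69138243c3f320a800220049e01a37125fc4c2125a00090000814b9f47578861ceec1dd500004510007356e446488d0bb0176439f4aef150a2a168140006356cdcf15dabc872f005e0955731dc409c0029ab5222e446dde22747269881300044c44927d2512605174237d00033566dce563fab4928908128002495a81cc07e0002407825925fe4bd51b43bfa0012002104f87dd0fbeaa6db74204892a897f12f446ceefe40040007413c1f703ef317c408ddc2a7d5000e0014e3a9c733af47ed92349ad735b6811229677089f50003000438e871c8ebc9fb548d06b5902125e28d91dfb00050008826c3ec87db552edb90d0a2040cd2c0000ef6000c00120990fae1f64a7494ea04f009d83d82ba2669480fa27545249f554ea0002000071c0e371d751136227901e0002efc91b0148028fe70d86490c567858394c7240d0519fe5a75b0087e40fc229b8532b7156e2e6a0d080ba0241bcab919d8108c48d27eb0fd58ee11dc871b8e37a03a0001df8a35f28fe51f9c0d28e84f1637dc6fb17b12b065630ac7128b2522e9451d5ab4d78d0f20cc21b5d0453e60c0b651597322eb26560db4ac29ca1f583ea20964071421a8407712ad4d4fbb0651b99839a9f760c82c9a33d4f80c18c664,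
  nat_lit 0x35ed000032ebb164ab66ea0dd60016004219c4337b36b49f893d5af620806e9cdd580156134a8c1628ace558a8d398a959a7940fc00a3099545e6764ceb15392a86671cce5bd093ff681f336400002eb217542e6ec492ab9ba43750004800e866d0cd6cd9d9b1a07adf440000cbad85000037d01971beb1bab001ec25151519d433a254d0a9f19c2338cd84d03c4e1485c50b7bb0e4aa66e80dd2000e003219a4333a076a4e5bea1ba9001ac24951419d2339e54c8a9e19c040e93883bc54b2e80f12cbbbc54e206ee8dd09ba2001881ca550373a6e8400580160ccc19919b024f149d4d79d03837400029847aa25588cb369624b4db2a4069b8d37a06eec250b3a0394b28ef093869bb737746e94004b08e2a70a77a6d65536df0000400130cc61980edf9e6649fc81b317800002f08db26bc4b2814c6b35b0cbe198400880066f7caa658bba06a001400806600cbccd68e491c184d66adfde56986d40d0ac817a642ca858901a216276089524dcb1b9a0008819b4cc00002f09c084dfceedd0b0bb024a8e6e50dcc0002610ea875a65a0649bd5496bd2b6f7200058432a1c338c670c19f834740c4f89ba72455a12b425700001e50003021a67d6a695dfcbbf808d211a9030000a0854c640938001010b872a0de00018211437c1c68002042c49642f7000208483f10024682cff03cee336066b0a94151e337666f950a307e40bc109b3e4533cefc9df8a9947830c1f502e,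
  nat_lit 0xd3ad92b4136a26c47cb9234246a82600024ebaa2e95ee3cf1691430700014eb2a931ec5ad8b727632300004eb093d127b36d01ba4001800a0f281e252393b1e4274ea28b48b56e6ad482585f129920004572000c28203b331d955e2b0995e23cbc577e722504a000a66d07448e8a715ce2b0e6fa702412400236cc7a6ca5153ac2090000ccd89675063c00119b13eb810a30ad00061e5090a9216402668f8509b21f751e8aa5047133ec2b00010793242848550091a3d1424c879d47208c66b87418e8439c2f12185593f250ecfba3b4f3cb6797585512d81ded51d30a90689aa480001975ae200006a9032e3cfe5900d72c5b48aba000600100018aba16d2d72dae1a08a000c00127b4105220ac4ad096774ee8931c4c916f41105b38ab8000200080008ab816ced72563f3cfc6a9a8219abd155600240000ab7169a646ce9ca355762411090424f62a5f88a9115126aa3aa0758802a614cc29504100004a8494eaa385476c2909bf33c4f0f98518b26d969e1f30a21a48a289e7061421ee9edf516ac2802e232149b6984f8960d3c551b309e1340d582954613a2df0aa45458c2703aa,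
  nat_lit 0x418af2c8f329e5e73c892540030015005c1efc92020c0c87c0000bc261f0dce887210e8272586a80044926e788f2e1e63643c82f98fa747a7ff017f82f773ec7848f1080030024009105e2a5054851959f073c22788000100110046007c00b20ba2f4dd1caa2b492000040080022003c0054b6ea07941712478000001c1e9422a84460d261a44d6017323b9a82d8004314a81a405380a8493482d125d680e5c48b979abe0d1e1a44222045354c2c33d05971f600005e16c240001c7d0d7e9e29608081e105221b043589c0619800243d1248b6c2282c173a2aa65550d3e263055c6f25d52e2a5d619682b906b58c8b1d56372ae2792ca96d52e30ca41581ba037933009f9167e3c6978d0c3250552890518da5caae07928a96552d30c84150dbe26f3498c931d3dc27c7618e829b4b855bcf24952baa58618c5d389c42c1a54bda8aaa5f618a4579c555354ef39de527c461885961a7d533ea6ed52ab0c322b83cb2a54618400430c2618205080100018000cb65a0677462e8c93423c2c4b7c2ed50520f240058007800b00045b290333a3074629a0de15a0a211083c88015001c002800096c940cae8bdd182682414000480002d908191d173a2f4d02f0a52dd8bb2177a82796c876f29f716b1a7c5000438337534f8c00043c515ae9da80000adc00153b129547904ab2d30d172528945134ecf209c00113ae2a4f59d8b3a566dab8a5716650d04d,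
  nat_lit 0x2c0030ba8002c0028d10002c0020612002c0018d0e002c0010894000400180013d340008000052da9e35412af4ac9cdabb7d36fa80b6c16e0e800000000506c1d00e75d6a03d7a5a86b6d153bb0e241ac002135e0cb6196875730e11d19ceeaa7761c0177a065790ec37c359405aa5e986f099a81dd539b0dd143d23faa7461b8177351054e8c36c55a3d9aa9d186d0c18e885d11096e0dce1bbc409000241a9dfe88100002295800643b632186429d0c2f605ec8d159a3134647e6d069000aea390ec2a5778f4a97955b2acf101a8340004751a5ba8a658894113471c844a9c74000dd46a1de43c08cd9ded0dbc00090e318023010969c9e5a0ce0005d4521d434006804e9520cc00010db9f7422610eab8733902a4792b092c22592ccb075b9d1461ae832bb4a1382c8d95a59e6a3cc6e7a524d000b00321ef4ec105fce7f4f0c9e280014c36c4e789d342f0aa2879420c87e192a53b48137ec8d15a49e683cc2e79d24c0009418c00430d954d61174227069b0d326b20b9c971c682283109bd6464ad1cf331e5f73ca925800380150f721f01061,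
  nat_lit 0x811552ec4040df4286aa5d88000940030cdc1d603abc87510eb16fa2df666a8e9e8cb641dd9a400001759aa18000668e56521a5444ce620ee1900c20160024004098356f2ade9aa120ecce380000bac57d15e0a1a34448e618ee0900a2012001c0030981671a83ab6e400002f1a222730876fc8041007000a00104bfab7556ecb301b71a0e8c8800000ef640188028003000425f560eb7ae1fca3fb461f8c3e643e8398591404c002c000897c583ab5656ac3c6953868529072000025ed5b8bce213022629a83b505298c963de24a0e225e0940127f595af521ea3bca361ee83836f455f8ab75546a1a761ec1c98a4c7940c3d40bd4d1caa2587a01682148428b0f31154feba8ac61e41b520075120c3c41543d7eaa19878038861cdd6530ef03f9b7eaa8261dc066a01b5508c3b411e6ef800005d615dc2be0005800a00163a3417482e86fc2df80db2377b41bcac32b3336c6df7dbf002e705d03a300050009001483737de6fbe0b981738e8b001200200048af615d866a906d0018002430c0018002044f61d6001c68a,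
  nat_lit 0x1106f3418900ab06e4555a311f08750f7a8c5623c2de19845566c4742e262a2aabd88e0960004988e311b13418df2ab16234257b1915562c46455d296cef0912c8b7716f04534ba4974a000284232150002382000200000a597e21b243658da0000300028418009002802f806290e530b86180eb08748642ac85d0820010004c05e80c421c8616cc2f9d600e8ec851908a102001c0053af144928929042a0884274ec0d17fa1000018004baf044aa89595969b3e41fc002800c3e6c261c4c40f5241f8002000775dc891811e82402df40018006312e626ce7b1cf919180018a874642ec1d94b8a8c25644aac95387870f1083e8002652aad9d929083c73127884f0f978436241b8d07c0002ca5194a8a8a25604aa49529cf618a631547fba0f60000416324f64a020e9cc39e1f3c3a7810bb2345541e853f92f114e429c497e084c03ac074188520f2216042da23e03a2073d884a0f0eb9de5bb10808385340a62620e12922885534c41813c4816a30988285e07c9d45531040b758a2aa98620602921475528c408251,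
  nat_lit 0xc8e80010bc200300008c408844000000a2228dac8000001484800022e465c94da80c4b189e2963ac44cf83d187a196606bb8d76cb2b160e001684797ca56ae8710e6538d350de5d7cbaf160d00148472a5f543cf2c550d2b9f3f2a5830004a11a18bc3189f5f74d2583000421185e50bc99a0c3416d6cc003942663e93fba05a3f1c58300030d868dd042988562eb25820002937c67fcf351091212a00102940000000c26e04ea77748ff51fe2d8759f8aed1943a1160008005800c0020ea39d47ab8e352e66c0c94b22c42298ce1f483eb26a40d4b2b8d751cea34007801709b484489c70894c66cfa39f58351e6a555c63a8d75180039088632e7d18fab9a8e3528ae2dd463a8b001a005426c210e00280048bc25af400408980dcc00382986b580030616e02c0028ea040d0002100c6e0c0018d124c400010d1057f4000889c00080000c40e2ddc6019d23026d9612d1998f3e3296c026d800a000284300000002804d2083b5b24a4492c9673aba46b4a925085000222185d20ba926124c2c33e000022145d18ba826008038598,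
  nat_lit 0x44225bf00028001319a3c48789a8a75302a5fd6cfb7004278002000031983c4478928a5282c3ba525a24f56d4a84e80032df4883d5a331d70a62526088b11174910eb7063b0c7518d631a46340c692dda99b8b1b16380ed41dd0eca03e907ce5decffd239d3b32e585caf87740eccc9b9e4326df4646cc745ef141551483c4478818cb427000116f9441cad158eb052234807260d489a97139e84d80012de85320494892c1a866c300002cd0e485f15a95d182e84d17024408ec9d8f085521edc3dc47bb385e55dcc5650992d485a4d11600190052140828825e531f463d4f3fa130280c00612e441f4005861841e8005061641f400492f841e4004061441f00038d1241cc0030d1041e0002861241e80020d0e41e8001889441c0001089241c00008890d0080000ba4dcd8ab49568482aef4828104f400360038c301866680284b946820ead000c32985f001a0068279850177a290510964f6c519c83a33ff30c86178006001909e41401de8212acfec0000e08d63c00033fa3b70c30985b0012005827784fd779a9040ab195645a1ed6390940de41bc0a54239076ae6190c30b5662a9061680042126930d51fa4d149a0928c833b3fa30be6164003801442482f1a7b04f5e41959fc985e30b0001800984ed09de848b25600002f0b2950004c9546bf,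
  nat_lit 0x7998005089ee86c0048ea079940040ba878480038e9879900030d107990002861279900020d0e7990001889476fc0010ba0364c0008890796c0000296e8d0e809ed55cbe8a8110f971d00340018b5e96bc3cb485537fd00003bd9db93b747960b5d16bb00080060b878f0b677ab1d5bfe215200051cf22e845d275b4eb701b2035a854000076dc3add0a71f4a3e9c7480e9231c400446fa7128f8a96c0b69030740040bc02d5a003c0094808f450fe89f75443c5c24009000e31b42db85b7a14cc7cdd9ca2162e28004400698d91e3c3c7de4c28b54294784a0614804f448fe79f7344385c1c008000c31b085205c20ad2c7c5d9ba2142e24003c00598d71e383c750a31c0a3c1d02fa4007a207f34fb8a21a2e0a003800521445fbc2e0056763deecd51091710001a0024c6a8f1a4285a1880001c106cb0b6816ce634c003800b2e04885cfb71fca7a1ad0c10a063d20000704700600018f41db8ecc1106970b00100010c680f151e2cf23d4562982700484fb8d500002f0b7010000e3506bf,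
  nat_lit 0x69e0018621123c0014309124200106871242000c44a11da0008449122c000462065d400005d26b06abccb6116c700020048b92a3dc1466289dec432e942d800000112c9cd81d608b53627be5b88b7016d7320a85a96fe37428fd1dfebba175da81796622cf3725016142c01d993f52866dee40900121625384a68aa2635c0374f7d9eec75a00f441eca0d76f385ba9b4eac0a6c8e00410b443c67b78adb15b45abeb05c5120a3047b25c880079af4511d01420221c6a385c79813b7276a592c0072166e865f3dbe7c5ac6a5e4e73854e0a9a5408006a1648665156896112c0540400608ee27104990933234a5c70005964c1f1460a8c132c8e002837424285918004800688e4b9b803400405b5cb6c93d66a5ab0216b4b63f42c5d1680001975afb0000745832e3b58456888d8b9a0031003a5b50b6b13d36a54b015afaa1603c74b46003000385b4cb690014002636a5b3f126f42bda9200001c10f74bb55456288ccb98802e00345b44b6993d06a4ed48d0ae679c00005e36cf4369400780102d9c5b3c00c002c2d103c659e8b3cd42b59e9972e0056005cb6716d0279ad4915ffad606c6c8560af030185e542bf320c76a488bcb96802a002c5b350ab1cca003865d0874003497821cc0030d333704002c44c,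
  nat_lit 0x12000c44878fe0008002a188dae40010bc600140008ba08a200000001430d144217c1c48386c0060003430800180021088001000e6d70f2e141e23f947f48bfd0de2bcc6bce860b3bf5930b251aae940c4e0a6414c849f5c307400350c06d64f2d941d3cb545d0ee1cfb63ad23eb660e4006217ec7c58f9830b2e3a0078017b6665852daf0c1b800b42f82613220561cf531ea5a33447eaa0e1e5a36b40014475854f56baa32d1cba39649466df8dd71833001285e8dd17c50b0516c736531faa29f853e1831001085e16f45362accde65a8b536fa60c400392ba035806a1fb042d88904dbf1830000c85d8ab03deaaddd5933d532412480c002918a3d8924f9b79375260b800221747c10d549aaa370860b00018fb056acad818c6305800090b92dfe60b4000816ed94d5cfa408376a5c4800980246cb6b079f11b6aa42e1b27ab9e480e6ed0b8880120046d96960ebe226d5285b971000220089b2cac1c331266552022de06eb847ac7e21248003897811de003444c1248003030c11dc002c30b0e0400287501240002430a124800205d41244001c689,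
  nat_lit 0x6ed0d0779fde3f4a7e985af8b020009da120ee24de27504eaa1aa0005da09faa3f5833d81990000839000a340a2e4c2bd858400020154bb4241f14ec29a9997a1a83411ea92ab520782bb80001298010857801f85140a6f94de29a827244dcbc99003000b8c2d185f434c8a59150289e5378a6e94d3139026e1e4c0017005a86912d32294453ca2714dd29b853484e389b7792e005904429b8536ca6889c6136cf25800a802b30ae6170ce121a2dd780000ef68f51e7509c41368f250009802930ac66f8ce0242f6eba868369e000032ea30377447e1dd769f7630a8009c00a22915b66b6d1b4ea19e904542a3cd06da00098009a2905b6889e517aa2f84339b31800017594293ccd4600ee7cfc23aea3ee661440120011451cd9890cd77408c312072851799adb340118010451ab6c513b2198003d14ea28d3a9a753d0d112b23118343468615bd432d9498000178db34000065244e721cd77388c21205284d7992db2400f800c4512b6b5b33a1940078005a29945127524ea5a19e255c62206848d081c09dcc1f7d75c67db0c25001d00148a1d6d4adaa6d34864a84a798cdb1800e0009450cb6a9137a2eb45dcaa6d0c83226645cfb5184800360021142be315b70da60bde218e7da4c23801a000e8a116d4226d771ea3b954c9f1d4319a7580001dec00c00054504b699135a2e82bdad7ad67eacf559f0d3a90c56be0000877b63f800105e1,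
  nat_lit 0x7c83e064f8a9f25400a7e347368e70002a1be2bd940027e247348e6c00214c229582eb85d94e009bfc001a1bc3319450aae04fd4f36400105507495ebb23964730000448a0cb8f35c00001fec9055e3a49341daed5806c00d40018002c005000043751c6800002840001f163b3a462c33206690f80f8c2ecd74267754eeb1f844978001d0dc18967750eea9f834976001859a7adcf60d59224b8784400150db1a7c57e4cce19a048ae0010eb50ae4190831e0f62000614a13012c10583125b800227c45c724b60002001a2a57bc299bcd2d9fe54cf8169c2cc80c9000400050da6d58f97db608cc0198c419106780cd0192000400021b233b067c0cf27432e868f2ca9e963d486c00bf19f033c5d0c3a193cb0a7a18f4a1aec9115beb1e804f42a1a76d63ce1e1a77756e8c7982885628a7918f285e096adecb31e400c9115ab7963c6025a75554eac788012015aad3d8f081bec89dec9b1e0003400010001a8229137e46fca00003a00008ed11078127124e628bc5120bcd3c926a6d0d6,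
  nat_lit 0xc53177335e46d3512916aa282080b9040000164285f533bf44b4eeed014a07f0000c84d5d7253a2cb459650ed40fc80b0a0716a844a0faedf5eacd87c3c8d79110bdf53c326871bd5247934146290bb8b82342bc118022c3be7429685296df392a3998e5316e035ec29ec9dcde330fa829aaa5a556139f42cb0596529cabad6424876345b7c0838b87351e0e2cae596129c2bac642200210eb7150b475f018e2d1cd27834b2b16574a6eaead90821d4decd6ddb9273992e5256deb5e929e6f5554d5320f43a54921be52d8e5aec4d609aa44d807540eb2ba8641c87413ef27e0502ce561d0f01be038094c130f641a8738959657a1a7098ca9a7641823628f37b42acc99ae89486416553a17c1e363c7d4d2b20a27c5230a9a4641205493042614c8205700004002dbec37d732e265dc48008fe0b5c168113521cc4b00000800a6faedf58cb8197611fe23f42d6859f4394000000136d0d5809db0b906736ce68083810601f48720001081c20203ff9e6d1198daf3e0c4dd2932d264b20a2201932ab9f64122c993884f1ec8206642356ae599038a7e79d950332060f7449dbdb8640a2de32815736c8104b130caadc9901895e69b9edb32020ea800c00e001d816f53491ffb34e29a15b9d18f53568871b2a600002f0a7ee0cca00200001fe17656882900a207112962515952a1c49e6d46eac937bf0ce18000a1c23a105a600000bf40000f917c0eb3111fb23f2411c2d190e0,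
  nat_lit 0x4f84f7b991982a84de49beb23207682a093346462059a1515398c8c00bf004493bd4d3072c00852289eb200f812937b610b62165dd78236041c08349950025003c87d1d503b08000c53f12a8829c00107726d20da580010fb40009af500a81da00040000eddc27d40804ac1a983531257472b4e64001e003e00590f97248fba5c961cac398e007400f001543e06d79cab398c007000e801441f99dd2a9b4fb4f4013e3801343dc00a001b00241488202263e0068008208f407289a5205240b465a8bbd0f60024003c42227844f04a52131e263a003c001000f263a4c78a5221ea4c7498e000e0002003898e131d29464f009e09b6743d19a680011c100038000052c005931926345280a97952e2a482864504bce900d001f8c559fcd32f465d93bb147d6b9cb415ae7147d4eec65d8cbd1fcd315601f80343ce914122864a92152e2a5e528098d1319001600190f3283080d904400096438aed80f201e344f48ed930921e4821c004321b576c9508a6794d93cc2e8a972e37a22c7dd10000017590162240410a001990cabb44a805334a6b9e5f7450e87d0f1678000005e33cba5354a65a53e5764c85c0022083447c80a912f33bf43c0002000d642caec529e965d2cb8784c7378e336688877a02f4102000990aabaf03ba0771139a3af4c1698890ee,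
  nat_lit 0x95552aa75b3c65ed10600029b1051800fc0000c7680149b08e769ce94cf68720fc61e853d0e085c10cb2474415468a1a2289a4b00960ac2f59d47348e6c0017000888209c47d18897ddffba183ae00058001a22c0026004510332f265d96cc24e53e727cf5200bc40002a0009112a204ec480000ef6f7b91ec22230000004de1f23ff558cfd0508fa123762288080123ad8e8510341e590c801915cf42db33e867cd50f33bd54b02484090715a1243448b4eff8a211450739ce71207c401c6240c4b3b8c2a205444d0a9d3679b48c31f2426d63584813137225213e0a6b9cbecb7947d848c5804c80ac6eacf55946d249749308889100002275add09bbfa44b4b6c1495af34755063b8c72a1fe85a000b80103ad4e849dfca2595b5ea4a9799baa743f82f3000d1decea0800c1130e1b000b0c30caf000a0c2dcc780091a28eab00081750ad580071d30eab00061a20eab00050c24eab00041a1ceab00031128ea7000217408ad80011120ea680001749d49af245236b6811253bea7406756c000800842b275310fd0000f0ad1fa2cd358304aa895494363aaee61519b21f88fdd1fea474005ec8e191ba1f68d3d5e732360b504bb8973646a1ee3d3c547ac8d036a,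
  nat_lit 0xf3d535a32680bd4673be2b64ce0aa205c49a8c9980d20cf298f593281908651507b26402fc7b89bfb78d28df519b180f72fee5f8e8aac03000688a18b34062827d30ba69815a82b4855e18c032520009113151e12a425409e25ba8a539fac2e3e3d127a0c0000b9a00044d4be265814b18963dbe4957f88890000134c6420c851d5a4478a571111134eb00d92f8b26cb31f10b25e0e804372bdb64ba2d0a4cb4992c97057201206cc992d8b7c3151502325a0ea80008bdc127807b2b43472c8c613d9a31878741a2c344a05a77920011110327e829d05304b9097063dd0a3a149000688792293206ddedbbd18f6428c8520001221cd9f9f623ec5394c72a00008e101b4cf7010af216281680000cf80000dc780126f3dc612abe3c2ee839d068a3300120028c7cb35144341111e923d207e5d0e9a68639e873e1366800a000288600080000001c51c1cf739e69a150e91f963eca441910b000c28c0000818c8b08f0580000ed40032aae555ab711f4c2b5256aab308f0622140015556aaac5b86d5d09831b1b39a88848004555854b0a97adfd5beed81d1080006aaad5552e935c264865107,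
  nat_lit 0x47c4b09193986c01f312f23272143da81ac2064e218a09715840c9c047b4c9cb0899378c181b65af0ab92111a2228ff22a4d54309a4514e8000447000012cc0028969197132ce6598fe91a50349ef3492c7b276410593dbe4264ea17298b64746c9d0692138eb085939843a7c1d52332720f74919be3d64e21d8a04c57ecc9c05bb01fc9961937873ee7080000cba6f2cc7c18f9000600111800004000663e4c7b39c8738288db45c00002f198f631ee000400122fe00040004c7b98f4738cb539a2da234000400018f631ea6f20a11142374b8b33566433b84464fa79f4e57def8d5541296775707bd8f7ab26f44611808f2b17aa2f50ef4b26e24c9939ac1664da10eb4cc54e8c9b03b939c8f8cd935874080f55f6326a16ec0008768057a0af015e875f1f121d7c15e82bc057a88b94986c20f8f561cad905b22e7ac16902c7058a0005116057a0000422000001008b693ff2be0486890d82c1445593aac0f64d408fa391581ac9a42d4,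
  nat_lit 0x1a6002c74a01a6002830c01a6002444f01a6002030a01a6001c5d401a6001868901a60014688656a001074901a4000c68701a4000844a018e0004449018e000014b67c2f87c4c7098d001a001504880b0017202e806200c5449922380b8015e8240002000c4cc6ad55f0f2cf670b689280b7015c823c001800b2e3c5c5d1e6a3cf09d813d1124411c0008005171d2e2cefa5003bbba44eef0e906296440004004898913168db87960f2d13becfd99fa89ca448c004a2b54628f14dd361dc348acac75da2199c2418891000877aa00522b3000e001932ebf0c72ec4411a9c3ecd5b9e90311216a5200005d6417a8c4115880050008996df8539742204d4d9f65b5284481a9880001c10f55a0bb461c8abc00180024cb2fc21cb911006a68d4c111f00025c50b89a3661e483c944ebb3ee4b4a967c1bb223c1a40f54a2c0416e8ab400080004caefc19fabb9694475e7f914f22a25f8cf2c9e5a3d60c9e47e84cd6ca08007002e0058c9e05ec76dab0a593b85049dd54abb2760a05ac22c2364ea1ac97e35540c9d03f9,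
  nat_lit 0x116cac5c655409e0eda3668caa42624bdeaa9595405e02d4c9ee32a73c984f6be82654c14d9f827d00ca942f6663ab15d9520018068562332a3005122122df45d6effd05a80d401ba91b0012000e177089b000a6836a0a45b53b96003801100dd01cc007c01001b0036887192b5a26ad23c0000cba82c406800d948d000800061dc93e30f2f924f2499691c89a3824000032e81b00358007000d80e201b200780051dc7342ee0a5c11a266d24124b249b79767c54ee30009003a919406b00cd44c91853827342a7714004001c01ae038000c801a035489893b445487944f27a38f479a92acd0a9a143b88001d1306c3864a0c960b8f17362ea1e5c1f123b86001800d225e3535a462d5f4926f2dcf889dc2000a006406a00dd44b84e819a441f6b0a1554b62228f28629e0e800444b5e4d2bf243268629e0e00033178252a52f4f508621e0d800244b05d400010285a2c8001178c00080001740eddbad175a44e9df0e27622d32db61b6d168e4a129ecd69c9aa635645a1cb448ec41d8a3b1c79036cf6da0174d998a0dd41dc7094e15ad227846f0880d201a00020003c06b00cd0024000112b68ac95792ad21b50346067c007800e01aa0330008a254003800680d40194032406020a1002a00744ce899e44a4336819c001a003006980c9019002fd05000140038894066e0cd8066c006000b01a4032006380be413e004d12701740030704,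
  nat_lit 0x71716592cab28da1cf800e001b002e8375e13a306450400abc1140ce147801440e097f4151002681c0bed0c6e0049036bcab08a800882bc0574092801040d4f3f10a7001e5f88be706945db52eb957b18346c754443e5651c41d6407e00104500005800901f8003c00900130e6ad8f5012202539a689fa5d52af23060d8da8867ca8a3803ab80fa001c004513e6f64002877b0200002474a01f8002030c01f8001c97c01f2001830a01fa00145d401f4001068901f8000c68701e6000844901e6000444801f600005d271908084e632018402ed8c03940006000a000807780f044f476c0ed72a807850076000144f00720000028400100030e4ad8b500a1cc44028b231ef3a9725754e910f1629827c6e8f75ebf27c33c20785013f028911b223590182a9954c89b751749319178e0074019a47b01d889d80020e5867ecd001fc53f929234efd3aa341ee7ba113a0000000439599fa33fe7f10fe4248c3bf2ea8907b22720000391362a40227305008b62a050a09edd19ba3044e039109c813a43e79e3eaaf05914a41d47fb2ad44ddc872c5d655809e94354acacaac3c3,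
  nat_lit 0x35114b921fa82e794a528a600027baa958122e8e31452c000a60230ae4b780004bf807e17912f24335035d86c41864620ce96a0b97880cb7d14a00040dac027147a00041b628fe0988000036e0400088836a585aa9a519f83f800268a4876314b2f91919f03f700248a403fa00220050753006200c001620f200cc01b8006000e4b08f379147665a000065d00180028036006441e000a8017002f0ea20ad1997b32c451880f800c1974bbb800b0530bbd000a113cbbb00091a287cb0008201839100071d304c200061884bb980051d24bb980041a1cbba00031128bba00021125ba600011120bb580001749bb1acb766420a983a1802100400071071005600bc5dc5145682e8f5c0e2002a003e006d070bc2b461491a41f0a288007c00f001a41c0015002e176f2ed095c9e66053d20a805ebce849527f94ff09a1c342e0714014001d00328a19c68407080bce6f202e6c8e1cfc00e801c00308379142,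
  nat_lit 0x7358b94d74715c92b8a7c300088012004600693ef357545648f811ef43306638e09af1c7ea8f9313f2801900448ac23fa3af8e841d079d774fbe0060010a622467a8c411576a00000077b002c0078adf8c6343268645f46285e4ff471f0e42b4ff4558021000e19741da800d175800a800c25e0bd8000b1d28504800a0530bd80009113c3e5000825f1bc780071a2889b80062018bd680051a24bd680041a1cbd680031128bd280021740bd280011880bd100001749ddba45747acb7d085eb5765c5cb89d3e50006001e5e851556a7e000077b19c45e80bcf800d00089f21712b9b6226e44b5192353e45519b080001ded267a00b400e6908d1e9d4447f6618800480024f92cd81153167a1b7c3700af415ea90fd1f81ffe3ffe00051524b7eb7055ae1ffc3ffc000037500105e68bcd8cdd0d881b340a5019e316295a0b76b7396e6e5be13e0be7b280cecc52723d0f17fe2fc85618ac11a9c3515cfab9f73ac89c98eb239f773ec75793e322a261dccd51b104afee2c0d91bf633fe861bc00280074540cd49b0f4afce2bcd913f623fe661b800200062f308a7800579ee2a6c100820211b4236d14e0008f760ff59fef3ffa72fd14d,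
  nat_lit 0x2e5b4ffc00e8021803200627cb0af295e95d5cb9cdce1a2cc00e40210031005e345c37f070718ea6318eb820fc45951fea46448349d213af9d9d7460e8bcecba7ff00708b219d516082be46c30d7d3b1e76593ff0037007e57811636b50000065d43643208aef003d006a9fe572b2e5d6b4a43cd204b5a7458880e000f264060c800e2c308b2000d1d288ae000c05308ae000b0c2c288000a25f08ad80091a2800f800820188ad00071d308ad000618848ad00050c248ad00041a1c8ad80031129ae1000217408ad000118808a70000052db8315d32b9e7c5800d801c005a00913f42e455c9645611614fba9fbc011802c0036006468086e80de2317cc5822c0816cce00aef15c835c46b41d7a3b029fa4011002a457d1f8a3f521bed645724ae424fca008401495ca18dc8af114922a8b91d720a7e4004000a400c00173e24572d15d78ba9f653f5801f0050005c00a8cfd0dc81bb462da2b84448889a198433a664ce0c2f217eb2fd613f1001e2689396a7443b04e855d0a1d7c4fc80074012187c46848ad8d6b1ac475d0ebda7e300380090ae28c7018d46d6915a6aec0000704,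
  nat_lit 0x467ca330006800f0f7cdb190569d5d415ab1dc19122ec003000707bd29d8f9fd5052c4275ba5df4bc11a9945d599a8000197404c000d0014667816b82e005c80b48161a6ad4d4eccd1174432ca2f5e82bd044674a320004800c012e02500c0a2e6dae80000bac3f687f1a338518c001c00487b86d80829ceaba0a76d728b91a405714001800407b729ccf9e55022c3c75ae5ddd17179ec9a8935402be059a0b7c16d82d23332001400422e0f2990c8a8b87a00f3fd19aa8c30008001c049008f45bd0660fd61fbe8cd14610003000a1ed1b5e20a33aa68b71a3a3478ae1800100040f665389f3aaa005870eb4d16d5180000400187b26d748284ea8a0a158d60c58185a2d849052aaaa865510ae10000153200080468089429e030c065806900d69234ea98fc41f98ddedbbe173b38caf4641ec83d827ae4f58ab1a2b853ce905d3f82d30484c320463eb38a05b20b54166199345acc55a444001200040460088429cf2611bba18143bc8b500000118005008c39027a1cf45255945d08b8d07620e566408b489687e1acc7c593424cb33998f0a7e25ed37f331d16899f1bf0b66381d00a9b59a6cc6c4b139fe9ced98d073e20e0420331916f921c2b0f6630285003e16fc721c396007a2df92c5045a90813a727653b46e8d9d1a9d9d500a00f8022989d45a057f8d8c1b067654ece2804007a0114af30c9119168b3b9e600002eb39c40000e794aca,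
  nat_lit 0x104001c382009b001a2f187dd00183a507d800160a607dc0014227b43100123a807db001018507db000e2ea07db000c34487db000a34407db000834387db000622500b000042e800220002310000f00002e937ba5e18b748fc61f8b7fa08184c6e18cb48c800a401022f281bcd5517932f1cebb9629aa1b7d20002c006801f45e003c800d1974a7a000c25c8a7b000b1d28a78800a0530a7a8009113ca78800825f06bc00071a28a7a00061a24a7900051a20a7700041a1c19300031138a7880021125b64800111203e000001749bd6adc23ef87dedfe02051319862ed22a001900201efd177,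
  nat_lit 0x60ccc5b80010438001bd4146d0b0fdbfb980a7f202c00246048d4d6c8c300022b7c5705769ac1455b057f432a8656316c8c2800114f229d003600670ae8663800014f029ccdd2142328488c2000c0000050b81c70446190c2e85eb0bd86d24da116e2799400251836ad800005e12dc0f32000380097a748d8561c2c19582a6028c01b56b46080043d397a368b11ce21045208c29b853b8a633ad48c0800742466350c69045808ae018002f9f9f3cf08c000067a708d8ca64b6e93ca079454922c4526e28bf80057a6ef4e139f2b0d5612fca99ee1ab60010cb7978a290e5224b08a0c53f4800195b22b5efe4dfca3eda36440013d3446be3b5876c0f2e45f8000a11d798203f000500040015e603cbf2db0795503cbc34612e9f8913f423600100008004797ef2f8b6b9e5440f0f0cde1622fa177cd9e1b352daaf2f5e5f00030000002cc6318c53628001a4aa1dba3b7915b800a2f9515a80090002f2f1e5d96d33666e4597640d0f1a248be18c3456800200003cbb79745b48d9939155d8e343917b422c6594c6b0f871f18cd6517a494eb4259ac05a800cd9ac33570f7139b273866ac32222de7e8acd54154672eb4359aa03884e109c4b353076843a087a66a4059a2c15692cd440bf,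
  nat_lit 0x368a864c3c787904f68ce2d1921dee8db1eada2dc45c2ce288e419daae0d9c48522f9819c401422334a772a28001c00652a63f3250f05ebcbda106a45d431f063d119853b5513800d0030952df98a8772f5c6011e663cd2a89800600172978ef99df29ecf197232e9191686800007043b0c18ec31d08c929d4a89000500154a90fcb943a343346413fa9e633ccca88c00480142972ef8ddf11ecc196c8c794e854440020009a5467e58a1c8bd497ae20c84194c006a9a00145d6081e001074a04c0000c30c19d2000897c19d2000462119d2000062077aeef6ca58800c0002a86ca7088c0117622e4ebe8ce8463919ca7ec4fe2faf150d0000001652c1ded258d7b708c680007400a06940dbf3558aa8c61cd0445c000c4c23ffc88a000104a2001ca563bd64b12f6d06520c9716d02d99578833f462c00325397e3ea194bce37db6fba5e44e611cbc7ae08c500057b4494d13e108be117e51211f1a22841a0002253a4c228a6114ca2264624001a52237bc431c86283c446200013d9f4a627ad8f5c16f20ae8000bd9e4a5e6a0878216ce0001ecf106202dd2992c1358bab161ce7905020a229e85442d2a66e08c3a90a70a4000837a,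
  nat_lit 0x883adc45b8aba1125ab3aa07c19d7bf9e675206024f97f38cea00d113f227dd9d38b1ab43d5f233a60bd51972d61674a0aab3e25ac2ce901c44320b5599d182027d8917d33a202cd1892b9c674205fbe674456f4acb5796b037687b5400c000e562289291a250e8ff9925533a0001a5894ec8a9e91fb83f8cb2823422790a2b28737fca92a59cf800c2c4876414f40fdb46804f289e328aaa1c9ff224a8673c002cb119d8f53ce8cfb8d80000382224a448aac3000480133da06ebcb5596aa7a4c8899c6ba33ce4800000e088e70b250fdd1faca78cec5961f000ece692523fe0723e8ce96a837587b3400800062c3c76297042de44c9677e119c751e000077b3d960038002161c3b10a7807e98fdb42c08e653ab3a8e466c001961b3b0ea77c7e935f25d90de981f703f122808cd1b8f372084f543ba1df38aaa1a5feda49f672a00091990002fc1557e2ece5e5edff463b0000589cb17be4135782808eee2c2e760d700aabd8186b6188df364d2bd4578d4412c3f3f44ee51f568fa01f3e8098d651acc3a8aa8d166a22db212413ac2731c6b38defc2cbb028667fb092719c92330f580dc59b8c37126e08bbe38c15e7cb9a924db391465d0c43cff4c8afbdd0c92193433cb519fc2339046588d93dfb4cbd0200f8e9f1a45d4ae259c7a32a2e0844d889e3e387c65174ab88671c8ca192c7c766ad84bf097f45c8ce351933a1c7c68f8ba2e7570cce30b8e,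
  nat_lit 0x2aff404a809908cabbe678447787d50fa076d90eca7f067828d811d023a485915de33c0165936033bf0024a5e94bc388234f8b4fa6fb01dc03b0012001b22408d79fe80046006888f8014002436086c2b59f53689b1d1ae3fcc7f9c0110019223c004c0088d811b08d6794d9a35a7df0ff29fed002c006088e8012002036006b49aa046b032530195e6a0040008911c002e0058bbd977949408d58b8f0c8c192580c2f34001e004088d8016002a5de91aa0028039407426f52d3234e0e1da9a67ee8a80043b9ea62e3c5c686440c8ec059799000d001c446400a001346a4009801201c6039937996971a6c70e54d23f7253fc7a8b91d000038224a149345dccbba801000224458005800a5e5ec04dc8e235035e0004000a222a00400079774137826e9250222a469c91b000a1d289160009053091a8008113c91580071d407b50006201891a00051a2487800041884919800311286b680021741b41000111209158000052dbbb140d281e50d1d1c3a392ece5da00018004221248a91a600060008bb3976674707665d383a6f2ff45fd07a1a34a0004bb317644918f6d0bba176e5080acf51dda3b74690000264d0029f2c3e5935d0329464ea8857d08cead1a3,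
  nat_lit 0x76c0ed47360f1b72fb02ad27f828200220028f0c2380d2700000cba8a7912424784c32986800300083c2eb1c9687ad0d69368dfb7dc00002eb0004001a0a44d5f21e0371a6e254c496906fc2bc61beda37cdf740000e089858001000b051e6af10ef1b8b370ea61cb4737df6fb88dea24348e6985130a800100067849636ad0a5a10923d1bc35740a34004800149f07ee0fdd240d2a3ae545ca92376000129a80149419243bdd77bb09ae07108e241e52417d9e7a37478246840d09274a4e759e71b8a816dfe7b3cd15608fe3fcd679825935cb5836cf2c3b93ec2b63d9e5076287996c7b3c90c84dc19b8867902df027e23d2cf1c3aa4f16aa6554d08cd69b2a8d821e843522f845ec0032372df457862f096fce001400726d54e54a0cd2dc247e46e0b3fb7d05e16bc21bf30004001a9b51394a8324b6e8db96ae2d66bc85b2d917f086010bd7b4af756fca000d1b630326085b2d117e085e10b97b4042e08580008005a36a8e1d5190438086045dc8bb000100149b313652a0d46d0cafa2e2579e8675e9d21955e08df8800000094da08d98002085810a44260002879541c876a0000e37959846c90f0be3c4d4eb67d01420294238af059e2a36228b8e8ea265404e80a108dabc067885d70b2535e66c213e7a0e241c6cf0c25a,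
  nat_lit 0x980000d1d28980000c0c30370000b0c2db82800a1d4097f80090c2897f8008175055c00071d307860006188457300050c2497e00041a1c97e0003112897880021740978800118809790000052dd879e7f25524ac49540009001e3ec9ee6218442a04bc51cd6ddc00005e34e025898b12c07053c24a98003800d1f5eda917acb6ed4731c138000178c7d7000b000a4a9095692a53cf6ec40c3f38765f90e0991cb19ea4180a68b8bc5d8c9a85f2d11e91f58002800223941fd4401a2ef43366fc8df8bdc61f58002400192a24725b660000178497312e942a0851dee20faa000e000495029db80d4db2d1c84230bd497883622000c000094fa9da80d2a61cb53238e0015b10af0b3780ec2a07c40a702800505ec0219e215042c90823d7744c49120c0090a2213478a52b181410281029e07c3b0a377ebde8ddfbb0a3cea4a7c953929e47180020fa77b826fb0df69bea37c685b50b8131f263c8e280031f445a8d2d225aa4b441e343c5238800087d107490e9691cd1c10da81b5863a0001006e00e0ce718fa299026280001f4447742f585f8470c7d123c77c9e9a5975db8b1298c531c7230e4567b08e1000b3c34ab4dfa0ade642dc78790b72de67e82ab311c1,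
  nat_lit 0x442f0065a06017e09bc137152d2a56de4c00434122f365e58ed19da44771be61dd504dc09b4a96152a6f24001da08979a2f2a8ed96176f967750136826c2a5654a5bc8800668205e651da04d654a8a943790000ad03cbcc17933b407685eeb23b2d67c0000ef65050a09b78e0006d034bcb17912800501deea23866b3c8ec352200002f0954a6b6e2d14000b40b5ba6e170bcb2ae51230d491a90a3ae0001a0540102f525e904ff09f5234e469509494904758002215680aaba5916515342d380000eaa56161cb07a20f4e4140dbdb9b873726d28da5a3fd680e8ea9e543ca2f571eae9e813d070031a0323a8feadeae1e803d05002da028c3485460282e91248048e9a021152f7c8fef9fda46da8fe5a01946634043c4b4da5b96d0083504652febd6084007680235d1996800cd0000d62aa4375401305fa4a1ddb7c12276cc00911d30f601eb801185d06a8911022907b349c68b1f963e8112a7e895f80204749c4500001975ef08fc70048007895e92c6257c7a51d949897711ee2251d10046007495e29f7810c58ecb1e27177b2e8a3510ea3a0858d0cbbddf1f8a008800e12bb25884af0f493b27473db5a80001975eca27142c7258e2041a9f4257200680100fc26d6edad11ce1798003c65d03f20038b0c,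
  nat_lit 0x4e3000000120008a1b94363018586c9c4a3d400047758c962611fbe901520327ec812c024548d09876019c03468488f4954a38f0702dd0324224846bc71740adf568468f419f833f467e5494a92a72f66aa1da9adf368448f3952c2a548ea448c891b473ab7bda10a3ccf84d2102f195cfcb7c9a100aea70a0528b57880a8b7b5a0fa3cad4420302e7b5be0d0783256a02b7bda0e81aced396f6b41c06cc0022aa01d92362000209ce05e836142e285d531cbe78049a00200048537000a00108dda3c8da355caab107f1e9b45369245c000c002029b0004478cbd42cd24aaaf9052a98003478824f849c4a82fc79f8f800242e88c11bc3458cfc49f8f800147848dd195e00002b838a83130627d0b5a16f4c66f9c81238002000614c51e0374e625cc4f216a42dc98c9f3882460002000829823be00082ef9d023a0886050c12457477800085e601ce037007203aa14d113b906220cc66c5a0a23ba1794a3e3413041091d923c682405e081a1036d04458d5aa8b175a0805ea8e79612b40f0404a5a94b9681c18c9e8c3d22d0340b3,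
  nat_lit 0x8788014a1e5f8d9fe53fcc32f80020b24739065d000308ddd4700001785beb0000751a35fc10024fe4a0495a37293a2c745030680060016b7f9beaa3fc002935ca6b85552aaa0c4a85280a5432c466423fa0024c7298e35d61021d75a3cf728ca8fe00088098b7fc34e86a142348fd800707480e80db39b693f128fd00068094b7796f030470dd08fc80058092b7f57cba3a9186400240470be61429005200880d501a0011000c64c558c2edd82e8f0411f84528f939276268d4d1c96c12b92b5a00200014c9823eeefe00000bac9a75f509002200280c9018800e000664b958aaeda77ee8fb269c7d404004800203140600034001192d5628d6d91f51ffe80c1017800c000264b1589aed882def02cff9a3e895b55aa800b000064ad5892ed777f67f64ff92b4847cc005202d405c9204ac89b6b1fd83fa88cb91966094ba6508ea11c7e62ff39583ab056fd457dce519d2945a88b0da8b87b9716ce2d488310ad215642a56dd1c8a39065df4bbf22235084e7c8de438cd31547fd0ff8ab477ff89689fa1a9883faaefe976b2b1132548f90ed71f0c0018004ab534ad601d003a9e8459bed6851f106f4214c430bf314ee88560e9d1a2c000a00215a923e0001d501bef17de09fcd5738edd1d7a8f78006540419f0340189d31366b4820123dc00156e32ffd6026c29c862a3da00115002a016aa224d9f9e8ce8000d4ffbf5653f05be49f10004b711cf081fe0005fd30f6c07a9f4a93890004d0a601cc0384c4491b5239a23828528f6202240463fc87f9a68827100004005bb5a5f92dce91eb,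
  nat_lit 0x1b7080001975362a6cc005e007888e2cfd59fca1252462253449adb81207712800005e34d9400b400e111a59f6b3f1423a48a44a2892d7dd38934818d11836506c684896131119003600b136dbecf2786902803d001858600400016186003c0014227803f00124be00380010345003e000e2ea0039000c3440039000a184803c0008343803c00062250030000422480300002224345600002e939be21d843ad08a2c182216003400f2e114d8c4ed4017240800043020a820c35c43afa95f5888ed23ca83659d6b3a888490fd001090185cf22e86901004a4bd469c8d3c003a404215100424bc469a8d380030fd60ae415d06c43e4aa950002927c28bc5119821304c8d1000210be4b585e98bcc5102000d20132d2fbe51a3a34a00041ba1d1e469200040032c648d000000526e90963a9ebb3d6c87b49cd939a6fc0b8180098003480161fac743d747ad50f6139a2732df7d70280120004744001100028d14e8d1d1c6e5e4ae894392862da85be91ff,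
  nat_lit 0x1dbf0000178da4280094fa0a779fcdc05980b0b55d6a5a96f52d8edf521a3dbe45408ac39077210202dab4a315002400213e7a432e7e80000bc285712e925d94f9a0018008c0924cf69cf15bfbffb73f290c26e84dc2fbb137113e2005400ada4080054f98a76921728da4fac9f900280054d20000227cb53b2a77540ea42cf0c17dcae4c001c000d3e529d853b8a07085f861d31dc00680024f9c6985cd02eec4eaa7c08d2f8e0e114090a80017e50976d2eea53e4851b8a80011c1000100001749f88231c00100005213316c43c487910f4229ae3f1c7e88006abcb931a3ca424dc4487810f121e64531c7db8fc0ffed575725b4784844a709a50349ea5fd4c039d135fceea5724b4774840a913ecc4cc87c1ddd42e4868ec907a1ec48ecbdbd76a2e4868ea34d9c83154ed73a0552e4368e8907095612aeec058a4ae4568e63dfa2f5816abb41722b47201591812e4468e203f408168e0050980f0892010030d45feb90400c0016206440c579190312064005800c22c6005481890305e4440c08188015002eb90117f230f4835b07800017854ce26214c46999203dc07c002a004c817902e5e40d83920c00240045dceb00c1ad80fc41f91d9e428c85112dd241640b400880107738c02c6b583f007e276750a2a1434828d151a2906d60da50942c2c223e008401926e17daa904a48e5096b40167f911e004000c536726c77da49b25208]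
theorem S0_c : blocks (facts 13 5 18 31 8191 262143 2147483647 15 32767 14 16383 A R 32) 32 JS0 4345 = true := by decide +kernel
theorem S0 : On (Step.{u} relsH LW par A) 4345 17145 :=
  steps_of_blocks hpar hR S0_c (by decide +kernel)
noncomputable def JS1 : List ℕ := [nat_lit 0x23da00085d023d60004448150a00005d27af4c7f98ffbd843dda002c002007b578aa99d25f91e948a0005000300f4827504f106d20dc9c1138d806c00b6913b97c00003bd999800000020396072e0e5af6058fe31f16302c3b5cbda44c001cf74bd8083f8b0e561c223a446e88cca4114811e383c748968dc11b6c707c28e851f24dcdd2980817a22f3c83940f501eb03f807cd4dd1f523e963ce479b85a96a82b89d71318dc31b47414dcf9a6c3bd8c5ba0f9b18061d8bb2da9a84b078d0bd0d5bf19974894003072a0e581cadebfb1fa63f29f853f129a5461a760d4cbba4c380e7719e5a40195756a754f2c3b5c836f06d52a519a22e10facd2a926f34de898592ec2bc000ec91200053dcef5f98fcb1f84fc09f854d2230c44ca55892231fb000340021ee67afac7e18fba7df4fc0a68d185a4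4476947eb800c00067b95ebe31f763ec9f793efa9a24885fcc2999587cfb792de30f874a23fbc00580023dc891000010e4a1c9c3933d7a83ecb0cd61931f97b20700521f0000ad9d68c2d8c5f48db44a998008a598fdc803c0082d2588a26a8ab995a4a8b2680f9732b4940875bc8acea69262d108a35cc2d2485bc6bf90291a488b4231b973134900c8464a0f6d691e1cfbbbf5cc2d2384af1e6ab985a4685c2007000da32f3ccc79b11eaa3b147aa79b0f33232f159604e001b00348cb8f329e6b47a88ec11ea1e6b3cca90f00003608a74814336009f6800701ac00cda44800d4fa8a789fcfc05d80b8b56d6a7a97348749f9002f0064d22000627d353c2fe7a02e405b5ab490e13f227e200b8018b48700169f494f03f9d80b7016921b,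
  nat_lit 0x6a8aba5da6201a43e747d134c30c65190ae966984066a4855d2cd30411e21ea29cc533240058ccfc192f2312074f2025c011a468a1e8f898105020897ed5f18099004400c87b384b048cdecd0000175928cbec4417682e804b8020004e1d2c3a6874c7b40f6652326a8c000065d0e961d24012801d336aae717b0bc86099c06c40d9354548c5ea68000197505ba0b60126007001187470e921d21ece310e6216f53123016161d443a4074600440068cd92b995ebcf20c265a45eee000000bc682cc048001900401d103a307457b32c42d884319976fe9171f3716101d383a28743003e005ccd7ab965eb6f20122d003c005c045ba6d62289761f7d2c5a47e82968533a45888ad627c2127b2c7bfc00e8016011b00c953ba4d148ac3a0001c002866b15c9af5878fa13140d401a9805c9151dbd7b18c839907bd943dfa006c00999b13b7a876d229106a003870423f2003474a23f2003030c23f2002c44f6e8600287500ec8002468a23ee00205d400b8001c74c1e4800186211c1200147490b0a00105d323ea000c44a,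
  nat_lit 0x180e984a88f381e5a28be0c5c18c247348e29e5123f002e1d2c3a6873f25de4bc1bd4b06160c105188b8247c99419003d0b4232b6d94e23faf51c4af2c00a001648f55e50013002a1d243a5873d25da6960d2f000d001691e373600002eb092e127092ea096b6070024004c3a387490e764badb9aa4766c0981112ea0e741d203a300120022d81a09624b948e81fd800a1975aab80091dec0c1800805301f28007113c1fc00061d401f200050c281f0800418841fb00031d241f1000211241f8800111201fa0000052daff41206bf40014003073a0e781cb896f301635ec0fcd239727600005e30e581ce839c00040006d7e208f24ab1252247cc43393a48e0c8c873600060009afbc11d49542dac5b498852a0691b80016becbd4608d8c8b19209d9d3b2a3b746b2189d236000027a400a13d6787d3d530a83022604206fb4cc48d439688381bb401d003bb4cb0f7d2722e9b699408fb62b5d36d3240b40062d325a640b1ab14168fb4c71911a672e96698c136a83481b2d31416a,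
  nat_lit 0xadba74501498000586e50c089881a2c1b9e7ca0364076a0e097509c7139a2b4da76249823c84788d8b1ae623280018005375098e94102826492d2e988f111e036286b908c900040010dd3a639503e925366000003bd80020000231c6b80d881af2241047b2ca95948b289b2fa492000c33696472c8c593cb291fdd117c9240000374698d540da82150eca5fc6848d077894f12124737466ee506e06b80d6cd3a86090d230421a748a801985754b4e81991c77aeb569ce10eb92d5d6ad39857208bf0415a728b7cacd4ffb9fef78187cf2045ac3b581a0014007126b49195802ddc56687fd8ff73c0b3e77022961d2c0c00088661ff53fdaf028f9d40895872b02c001800c24d249a924513f027e563d2c3858140009a75410362949a8d34fa4887e995070247049e5fc074a23c44786b040000800b2c00f9bc086586cb02000034e88202fcf5350269d57d692180024160b0380ec000282c13ef8e880001056a03809cde62b213586cae71533aa684edc9dbda7224846580a8215052dc25b895752eb069c6920b9878380c49175baea15d4ad38924020de41a47f8b7295d5cd38453174d5077587daea25d46d3804ad6ed505c13b3a76a69be2fa9ab44ed2d3782912d24d3740a1,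
  nat_lit 0x175b2eb89ecc00000121440fb147480e9752469695b82a4be0020d6ba7b20678454111b222d01f874a8e8e7d862878008000735ac92f10b91148229c88d111580fa3a50746bec2143a003d25d2232445203e0e931d18fb0450e000e000a6b50bac24b80abd430bdc7440cb65a0a4af0414e6288c006a4b6a1520a42f0314e42888006070e6c2c921123f0fe81fe4005a4b4043c08806f62b14287c00503bc18d050f800902dd2288a1d001007f800a4ce499ad0faa1f73c9e128c2510e1d617af139259788e000070400280021338266943e687d4f2684a10940386d85dbc4649610253d0d61050394009800754e2a9d58d8b1152b5492bbd0a00002f0abcd33b667850a640ea8058a9bc002801181c6c201e849628f0000000ef6003c001aa6d805503a2073ade653e900294fdc23477fe92b36195f02e8d4006000254d8a9c145811530d621a852550002a9ace611cc354e2730ce5e915422aa6e88dd524a8000142e04b3008d224188e3114faa400112b06bc8004000a81b8c1e5e822041408ca10c97a89d2494cdc21af1000e002606db0787a068101022a84225e892900085b82b8e207a09bc137656586940d271b729288007587cb0f58abafee70c45438c2f24a000196712ce46158c34d30ea49e00156dcaba5182204ac0980e240010086b5162ac655950d5249c000d6dbadb864d709a5f038c4c00096db225744b484ad24d,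
  nat_lit 0xfad80008e0800040000ba44c49bf799b6335c7b9c95492a862b8bead1178eb96e5f06c52e1a940226c44ec46408bc2c2e585525e9bc637869a41fb9bdb742d0b00d7b935e20c1a196832d800700009333eb3856303d87d88fa42a789f2800e8016002600192650f001e04f11ad495a940044009000549913242d485a920040008800422e46c80ac415842ab8548800314c51a73ed22b34567c548800206743869e30001600380008bea003800680000a45f54b2af855503bc7d50f9d2a6a9f0c00b000f001893188b4001e69986b9001c4b90a34001a3a50a3100180a60a3300162278a2e00143a80a320012185365300104030a31000e3448a31000c344080b000a3a48a3100083438a3100062250a28000422486bb0002224001800000a5be92653b0a6d94f429981bc3e647c615244f64001400ba4c4a46d94e429a653b0a6206e8f981f16548d3d8800449853d80003002a1adc3639169518cb8095452a8839b493038f700003bdb7060000e3d877a,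
  nat_lit 0x6fba062c0c62209441416682ce418d51f6a408005800c49f471b8b8f17182e28ca1282a7fe2a11d8e6c028001493e3db300003bd8b5b16c86429ce41bb9754d00980040007342ef6cded924f66dc1e70327047c8910165dc0ec579d0094003800849e90cb123118501d083a1c01b525ea3f147e800649e48e48daa1b4c2651b292dd152db00b149b800549e08cfa8fd5cc6a3ba00ca92d51f4a3ec00224ee7b7d83c314a52db00a949a8003483c2efa5895286a6d5499000249d9d5bc24951eaa3e000091da684147b80000020000000c00288e482ed05d839b439c473e11e81fb03f5890240d923e4117022e9b1b363802080421b704d0a8f7121c417b50d65170a2e945c50d6b2ca0722bc6803a93a800b00264c9dc0230ca30b8616137240a156eae6152742cac479473d0e6f39b017582ec239000240068373a4e6e5600000cba6165863b8012648004000c866d0cd8187c313939472ae9391b5b350a594c8f10e771cd873542e985d5471a003d27128745104c2bb0c56ffe4c8800700170cd619a830ea4e1026ca1c944030acc311bff1321001a0058335066949bc4361b5046b6fb915301d5c767cecfc9929320001893711de1ce639a0e6885cf0ba28e2400580130dc01bbd26d7312000070477300001cc41db8c2fdbfc931c0010004433286640c2e187c9c6420d772e93635fb49948d5df6faa5b3aaeece5d9d130a3cf4001d26b6d34000077b0b968e0c002800e0cc4198430a35e982fb082a0cf369949a8002000d0cc2198030985e50bb8ed018fcbdc743fc9349003742eadc47ce0f9d308e613185d37f4262e000d26803820718816102f3cea0008bf07ee2fdc13381d3e3a800005267,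
  nat_lit 0x1880001889418800010892d884000889018540000ba4e864e8c3b4263d50114013801a00201a6434c064b0c3a9440698001e0064013404457db042d66cb14451228d69287001c00600121a35522b069c2db05b444488889194a50c4bbc5220a470e2c003000b94c261bca7f870f0016005837400010431be40768a400e9c80060fa4afa9d39000a0aa15533a6a001010113282668001819ad6d00000bac003801cbf161dc23ba14ba25f683c68e591c7bf156b66942800e001a00e1f8a8ee01dcea5cd2fac1e2472a8e39284001800b4d6682f1060a8d853e61d354a0c00580314b1c596cb2e1a7841f80050035075a0da81b4a504002401a07010020004003409656770195032c884d10a05a40b4d065d482a90c002a940c0f957b700c800a0007000c00a499eb81a61c6f151280732c000065d70200001cca8cb8ae215c5c0f657b100bc00880040006009899d3817701e93fa87b570eae2a07aabd7805c00400018002004a4ce527e000e000cb0c6c2e00085e100340004448001a00005d2,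
  nat_lit 0xa01940728182a0e053c0a8000c001a0250050aac94a3c095800d2410096800c1d2808b800b0530096000a113c09600090c280910008201809600071a2409500061a2009280050c2408880041a1c0948003112809480021125acc8001112008e00001749d5ebac1091411e4dbc201b50dcc015d5c8090010a046d28e0770976d3c841a6024a046804200915990b30d6c3a51aa13d3c741a502480464041809082c508856c31d934a30e059c0a51c80208047c16161fcf6250633d217a44945800f001a197035486aa004200ac01c405663f6ed4d28a7c0e000065d759a0001f030cb8f830ee1800c0014196435306a7003c00a001ac0537598944be0c7c16770800580090cb01a94353001d004e00d0b3a079a002c65d0c46002830c0c46002444f0c3c002097c0c46001c6890c4200186880c3800143090c380010687,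
  nat_lit 0x1ad580051dbe3ba092996c4755ec2e588d81eb03d89512c641cde39c5faf24e450f6b4b8877800d00083b792a100200034001a3c23a8819083221393272eeec5dd82540963c26304c37eb08fc98d32f796b50000876e0ee54a7d575a7724ee09dc57bc35a700023b6c7721250208094f00007f1c9401835c21e5df89595fd2253a8ef8ea01d3f62f274fcea00ed71dc4493881f103d2b44568d1aa235846b6b5656ad331d6636fa64f651bbc76ef0a9537c847c091e72f11ef3f5547dec68d7bb35a54a70d7408d611ae39a8735bf5849bca1d56942d2a6b4894dc1ab0fbc1fb43f707f90ff6e5b58d032145ee8d68ce1d03c6078969dacb64ed09db17b9b5a2000a4e45036253500012413f70490c921d528a8395078b49dad0a5327210f8505cd0b9c7e055da2f706b4094c3a1f63c4c7bd877af7d5ee6d67c84873a309e98e12f7b5ee4d6788ce0c6f09716912d236b3a37490e15a44d6702916b38d66c0a1221e442cce419bd4cf70a65d781b6f4e360005acd9e284e5109394bc205a40b0f4ac1ed4e1eff94000252e0011b2c2f0b83486e20dc0a52c000c365a26e127000136565c8e2da80010d961f9849b00001b30ada85361b2416902d140767044e07c1b96b2894a8e621cf69349526b5934a51cbf000019741f003cd4be09e960dd8010002402640532cdd59b0e5f5293234282801ef83cc4bde9e920dd000f00220260052a524ec8c0000bac0258050baca602ca1fd0161b890914126dd69309576449489199233c82741ee03c94bd89e860db800c001c0255290,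
  nat_lit 0x20ebaf3e6d160038007b5ca4ab053941f16b92276052483ded72030e4f68be69ae38a4a1dd03bbb5c60f795be2f996b8a2bd2bd95f2ad710358135cbe61ae186265ead6a4b5c211e801780091d280148008053001480071d4001480061a2801480051d3001180041a2001400030c25ade0002174000f0001112001000001749b41a0867a3cf47d045a7094ea2a07904113a7003600712ab003c006c00d13a64102a0753a827084114f479e8ea554eaec0000bac07d5892b0c375725b3892e8ef21dd2003dadaaf867574954800e1dd03bc492e904d209856c4ad9236346ccfe7d2a809a0498d1feb1b15f08d6cc006a3cc3a9c1930327254ee77c0000bad005d9112f826b62002c7728eee24b25b29d5ab0bf73bc95304ce099a49811fd31ae5f02d6c000523c93a9619252a5755e00007044ef3005190faf7f6b5c00207710eeb24ac5b1dd593aae3f14003a3c6408e204c40f9a1026fa20c041113d227a695208de11be39c8739bf6049cca1f56982d326b5800192a3,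
  nat_lit 0x782136c8c4d18a0003848a188e313c00680066f6400e801a001290bd45da5233bc86978add95ab4afc08d811a37b0007000c8008485ca2e92911de334ba95f17ae02340464deb801b0030001d216a8b94a4277892bd0034005c003242c51709480ef09a5b2b7056a0ad825787f4cfeb302c6d2c18450d3a1a32fa4008400b00054aedfcc251e32f065cd43c9bcb37a8006000a8004485495d276e821f044000b0014000690a60c7ad6722504f492b9143e12702781c03517468fdd45ba8a187e311c00218b8126c2779c02517268f9d453a89187c311800180124ae0dc49b8a3d467a952e200022df521300010025f4d8002178c001800111240008000174862009ed001400052b70000002c0069f1538d871acdec3b176482c225ba5256c00280061f1438d671a8debbb166480c2216a23e964ad5db8800017840050008000c27a461a3a7f750068d1457ab5961beedc12b4000e0028de31bbd50d7060472d8e4150a0ddec668256600180050a7b3e642c40587285641ae4f6c559a56400140048a7b435686b50d7256200100058d2e613cc269296a560000c0038a783e648e8508685c000080030a7c3dfa33d8e980002002c4e00526000d7a0a18d432217edb403016646ecb2d91d3acc4abc0012f40431886402fd367f602ac8d99653239758e9570001377a03fdaef41f780669e6158899fb33de8a012ad0000ace8259,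
  nat_lit 0x200006fa04ba097b4b44df382bc057e0000000822a000000191b503fc0042acf55829811301a8ec5b42b4713e727d276209680007559caaf94db29ba1b6436d07598eb880dc96780065598b3918fcae9439f073dc319863b43c69670005558cae2d631ac605bfcb7fd5d791a64b340022ac55716c5798b5b19278161760003558eaa8d54d41061c5296600025586ae25c3791ee280673f00015584ae1d64cad8b80ce3c300005582ae25663113c051d5632ab84bf697e9471ad985a269f153e4afd06bf696581cf00140084010002f00646fb8df2a8935b12a33d2ca5bb0b78496792c3039c002401024444886a33d29ba5921f8d28a81cd0010007c00f002d00606fb0df1a8913868a21add65bbe4b3496081cc000e00792212441519a96435fe00002f19be037d200b4015001b003800140e525120fc01f35afea58e001000d801a005200b0df41bdf511ab60d464a5324b18c05980d8630cb2d755aeaa25924af40e400030034962943d287d06dd6ea92c82578071c00100190030009d2c46eb2000077b3e5e009c0128016002e00000e281c903a81f217e4b7584b0c0009e9d3d5e7b20bfe01c31c4c0002b5b598a11524dd7f847d88fb2248a4916829c62a8c56002896141093c4a702cdd8bb2c545e81ac55e8abe0026960a5a1336417902ef85020a1affd00092580fec924420a418a4314c0088fd6dc7983fa8eb15722aec0081726934d26192eb25ce003c204,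
  nat_lit 0xbaa97540014004ce541bf0381c90617ca2de95bd0de852e129ac883c8cf917f4fea9fe5cfa17de807c5d34004920d00692d70b3310c421fc441403d2e980021b122fe44b800b61e2f2ea45d440038010394a6fb4e05a4155f2296fbdff00002f1b621000a5d2601d087f10f8217c59825ab802f0061eff25bc05a80b49e2c2e9e5d38002000d39446fa8e0424124b74001b61f5396a715476a5ca4b9811c423815b83f6696e174c0004002ce501be8380c90417c62de15bc06b892db6c6200005e1290876c4e53000900005d1201a97d573d6c87a125b6304b680011fa72e88076000141a4320c3cd3f867eb4ad9046a08d697192e228e7537ea715b0c9f3c85f967aacf25402a6de07840f15388d8612d943f219443249d0d3a1cbaa97f5b6174b60b34326164d2c4097edafdc6c2c7049130536903b607729c16c2a3993a5385eec8f57ec2fda6c28256bbac8648a6f54dfb61323b4e49b6120285b3080001758000800b238246dc8da91b4236a46dc8e091c28050d9812d7236c470000500017f987c14f8107fb0fd0bfa4e2c25ac000123884b25c44b8928765326759c000830c7e44eb500000494003800b21d2439d3772b1f8246c83d952bbbf4b54003000a29425279d9aabda5a82b6b16dd8faf4b5000280093c688ec4825905042f454312d30008002087310e44dd096949290006002c49f8935146c28bd2d2,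
  nat_lit 0x24c12e8ce74d91ca8e981ad035c00025e0001009f81f8af0997eaa012548200809b0137000600341e387c64bbd5e12bc165f8a8009518801026a04d8001000c078c9774001026604d4000800b078a1f103e713a673447ee47ba843a96580a2000000140f583dc28404dc210d421a25da04cc098bfff0fd21fac51a0a3514ae3288d599aad56ed08c0bddbee67dca873c209042650dc137c26b24b780029b81275254751eaa3dd47aa54749d21edc1ea80094bb02cc83ff07e80fc125b40004dbea0f83db03d40010975932a26644e5dc76b8ee273a5f083e607c00782001d2ea8462bcd61192cfd596a2c841df80064ba4569127624f016fc1de00054ba0518006f00d40ef40022172db580000bac0ef089c0008000a61a5f5132a054a296ad2d7a7896daa97399b060dc9e212d725aa54a0ca7df5098680008001d2e6335266bd836a7874b5a96a5527b29e7d40619c001a5cadb4d2d625a8549cca75f4f98660004001489a83b94b90c3200011089eca8001178400080001880c2e95db2ba665103de80090000971800022601ebc3d428304da210942122a7b8654f6492e2224e9c48f2d8c8318f8d8a46090b6cbfddb14078aa62d7fbb62712c846588ce6c4c2d106715772d8943a007dab059b120b42e9857fa362315c92dfaff46c441da07ae84a2d8844cf6f44000065d,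
  nat_lit 0x10651073412700018ca31b7a1c680021946733449b6cae001137226e3581a482490a121580f6a89cb5b25f909d5b2b00034dc69b8960612082426485203d2a264bec65018f831ea7aacc17182c6046d9552fa583c837c1d583ac6046d950521147228f12b6c32a6046d94d2f92c48a841b2903443541b28884400ac01320317d56c6d4eb49d6b3ad30be217b28354be0012a03043e4f8b18dab0d76ec02809d7fbafe269e885bf005167037945d18d374e0c9acc5798b0520e00512f76d98000065d51fe0048006000a0f9e94052afa90d521ea4454f436cb4bd8a99153951fc004400580090f9c94012af290c521c97aa0242a6254e147e8010001400203e6a4ff4abaa42cd5e00340028904700200245e307aa002074a07a0001c14c07a0001875004ac00145d4079e001074c079e000c30907c400085d0079e00046200028000014b7dd6a28e06728aa3186e98192d989f3140a3dc00200134bd0001801207bc1f01279255051fca40148129d94aa2979a21d402c8070b30a8ef000400441ee87bf508e9ba12f204ae096441f96d41fc23f7d210a7bc520e00052f1,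
  nat_lit 0x23d163b36740f152edae7b6ce625925e85892d9c83dd46190aa9b388b4200c1682367013452f1b0426cde1da04275ffed9b83aa00020024560853e0b2472954ae1ae1765aecb0670a6107d040000008158014f42c89ca452b66b81d963b2b4c1c000005225ce4b78fa20b1cd9d6152366f0b9509fb03d6cdc249a38a607ad9b44b2341ead09b3607daeaa181e366b15c91be303c6cd41da22066078d9a44af1568a89db340a14f4ac0000bac58e400a000b818c96e92dc2b312ea8e9e100abd317a544c4ad81443ef9313ff000a0028359202da5c98244a6153064c310e91e97a01374ec5d49597a5b64b710310004a60a7ab920802b6056899c12db25b7818600200090d624c120ff2d6f5afc8871f24a7fb000e00446b0c0584b8c9819eae3d58903815a02b24cdc96d12dac0c1000c004130236c707f16b6ad7c4434f91d3fc8005001e357e02b260206f16b9aa8a82aeadb17af22c17d66cea13fc00044c01006ba702e98aca52d825b2817c000c0061631543097fbae400002f0b65d00029fde0e4beb0457cbd6d5b4c1543440eb9dd71a5fc97e5302b0c86180ae013d3ad77442af9093fa000021d40028ca631fc63ecf589834306696252fd,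
  nat_lit 0x2bb00000ba4f5fe1ef3d7a0002003e11f83ba07580ea8232860f15d29898d2d1a60c0d5871c23e001c0001ebcc3dd7b0481f93123d227a291f520823b7000083ae40fe76dc00084c40c0c1828009001708ed8702468423091a01db83a84c440052dca5bdcc2ee14017051d8c08bc1181db24c40004adc95bdac2e98f531eb64270ec5e1fa61e00216e42dec617309f8b818acb158898700075b92bdba1ef31a34c229848266261a00196e32deb8444b5d56c6a1064c30002adc35cc2c3b595a941f4c2c0022dc45bd26100c20a1662df4001adc35bcea9e1539be901c6c0012dc25bd0b72d167828e00056e1a10a00200002dbb002a117b0da6e961b19f3f31595b286eb4141028d6cf298500011202df6564a2ae10ec01d8d0fba2af6cf498480ab014c9f1c141828b6cf23e38900590cd9e02e501830ad9b3b8d24a775825b67612c88b12c8b6cea2d1255f608ed9d03a0757ac125b398962e9cd824b6721341e3030456ce22df0000000292c92568d7c0058008a06ea5d14b9ead212ea000202e05b90c7851784ad41312f74e8b182e30486cec32180b7855ad9d4593,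
  nat_lit 0x7e18005889ef4200050ea03d6800486147e100040ba87e100038d1261200030c42269c0028e9262400020ba67dd4001889c7db0001089241e000088907de80000ba4fdd19d4a027404c0058011b0177d628a652d525ab3ed298cbb71000038219432f6c5f013c2207f0028008580abeb036a0edcddb82630edd00000bc600800093d8b87dec82a1a828904ea6c58619332ca76e698bbbb500003bdc29e5bd28a4df55b011003a0041ec4b3a56746cc95dda262cda700000bc29a48c9e994237ac9df903c800e0036c03df54a2916d3698a9aed3c2075d4eb603d8076e0ee01e3424b00360035314090c00285d66ffe00245e315f2002044c15ec001c44f15ec001897c15f0001480615e4001068815ea000c74915f0000844915d60004448,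
  nat_lit 0x3800c007e00f459bc207549490b90081c0405a69950c6a18d284b41d70006001600f801e864f0c847a5132932ca6178c28aa405d7d0b70c0e981f38e20eb4002a6503624e2b9c605aa6b4e44e709cf13c084ac1d600044c9dcff00001dec01d000700040ea909489de139a272e0d2195132a0e7f532685a8b1856302dac58f21edc1d280014c94c2eadf716a81ecc1d2000046240020037006c192031c284b3964730d223b28155bf0614ce299bf4d9418042ffa3be5d844ed415b82c86176ea54b279650494485ad0b8b3197e008b591f0a126074e99200030f7c1ee51b9a2d645b091fdca5a646000a0929d1238ee71d8c660360000541b9c3c388e711514b00010484009006400c059541fa547a90850019bf7058c0b45b5da644f5980000cba006c00ca5c84b8e8ad9f673034008000cd021a0447aca9909e8c77226db9f673033007e00c904ea7a22fbc5f513206ef800005d6768a0001bbd959509b401e802f7b511031913c36d515a9dc18bf4343768898f9d4d3a987a21dc69b6a7d94c0bc01d802e41329e790af706000005d660bec456135003a0058f696204b22486d4a2a93b6b82f4c790a080370056f6922043dad4152b0996fe426a7e0a98ebd90000038242773a90751cf41bb8836cafb15815003600528251ec7a638356182db11184cc00d80143da1880ac8821b328a64c6df7d80001c11551a13c00640099ecfc4037b508291610adf784cafbe931a20fa00389043f0c00349783d9e003044c,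
  nat_lit 0x156c18b0317108a0c4c187000144228854edf3c8278fe999800416201ff83feb3d765ab0f14329064c0fd89990003161a453921ea06440c6998800211c2237828800022c2c8a8871a00005871fb70bdc584914a487200180010308236802a8d9500061049e9a280600084c2060c501800085e05b94a0200000054001036206bd05401cb03970c8000091a22988a0d53e8a66000008cd81f8466cdf7b2d3463c93ca0af283d6849099d6ab36d34cbc005a61c007600e52f425e745acfbb982a006000a6997000a31845248a451ceb025e04b008da541854eb9fd32d0000002530d0039006e97992f2a2d47dd8c14802f1598001863b9a49326e64cd629a658001463912c9050c0020c724a32286000318e4c0083cd000425444aa86c60004638926803a40000c71348a1240c70348464c1d6b30a46d9899598255fe4db2c1798198db284220012ae8c7fc05e800217680fee2724003afde450620da12f076000200068040007e19443221e9637086e15140,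
  nat_lit 0x20ca3ef933d20bd0448009800a000299e000a0012000041e00000020005033010c40cd0199857845a4fde9fbc2676001c008410f0302000846b000c002440909f40015b7cad940910002000b030e0ac0003001638f44580004002c59f053a00040058c05064c001032729c471f4b29a04442680a5014b0d1b11d06268001064c5374acd00000c8400a06464108821a4854f2aa461486279e4f30dbc533a10070ce5b780b260e2a19cb6ef1a483702eff6ddc2591b1a4dd2dbb45a2251ec2f9b760740e5c1862b6eb12c533830c56dd41908bf45b16dba456e00140c5c18e084e06400c793ba29ea53d30a9d71426728be510c0009062c0c6c426831f063a9dcd4f4a9e84888ee2a2f8442e002018a831a10980c7818e277253d099c42eb49de5fc5d4923ca46a10a4d95934357d2e001d3371b2e3655d48a3c9469f0a49958bf0b442a0018189a66cec200000ef60c5818880047d28cc1d96bb31d63610de11cf239d760e99aa1cf7cc86f48de9b3067d26000c1880315108e0c653347900000077b,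
  nat_lit 0x4e63d8b7b16d62d8df0d34f00024901253a4ad0c949a70000248623081790224043ccb9a3c832eeecacf1b9e3b1ef83de5b88a69b06f079f80010eb4003435455e65c1d3e127c159d64b9c97912f449729a600055cf30b7173faa903ed8752086b8f4c1ea49a580045cf10b6d73f3290530aa625a3b3efe4d28001ae775cf0b231646ad8b445e9a480025db90bbd76cb3b3835047780015ceb0b6156e2ade1ece6c80000617506900086172c3e9b9d011e30c5054c4cc099512f03125b85a690ddd80000baca0817b9a151393653fca7d801529f653fce4da1516eea9a3a4b452f106dc2c60347069021d81a2034329f4005134678ba00005e3393053f0a7c001229f053f0e4c214e5ee0a07540dbc5c4d155b5abf159903e54003800229f6725d0a682ad055e9a225f256d4afc16638f94000c0004a7d1c9642980ab13434b0697c4c7318dd598c3e4c002800029f27250b35268453c8e10c33a6106d034035806c00149a09c91393853dca79800d0018000c7c8acc48570b8593401a8e7240e4d94f629e4003000580021f20b30e15ba67ef25c0000ef60000004800a29e053d0e48214682909db9409b3a9792c99f09c5703b0e258a79e75000638f915a469800041250fd48d300000174000c82f166f025800110663cea2fb000120ba283022c,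
  nat_lit 0x1652d4a5bd402c3f372e243ed238b1ed673c8914a5a7438003065d16a0002c5e315f4002877b0bf8002414c21d8002075021d8001c68a21de00185d421da001468921d4001068821d4000c309120a00085d021c8000444821d400005d27678ed00cc623dd3310049009380140010b7c216910e94d5dfd100001c102a4854a50069fdd4ad000600240494090212b7f4afe8535621cc437e08a02460490045008481070020001542aa6aaf1c00000bc223f4872285c50a6000c0078122023e660dfde33ba78de9aa3c3000003bd9981023a0480006800152aa9fc92ff054e0a88ae6de17a6a600300002de856d89fbe1eeb95b21ca916d59190524d4a18eaf5863e070d000381b68ad8e19000602ad5d09c33000a1e8933a3866001021f4b2a70cc0018036323464700020e4529cc11b09b8136829e053d4fd2a5204600004000a9a8c11a09b6136429d853c4fd0a51c45f80030008045d350000649020d9a91f522870bc163,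
  nat_lit 0xdd7d895b74b12bc00009c509655b2ab5e89c2d331407a336465e5054a0db74c4d710a231106e962ac23776250dd285621d0a9f15ba487ba9485745374816ed0dfb1286e8e19092fa873add185be3ce2ed94cd8a402335a05240a60039005ab85617ba6b615b40078e0815480071a6615900068bc215b80060e9415b8005861815b8005089e15b800492f8df880040d1415b40038ba815b40030d1015b4002861215b40020d0e15b4001889415680010ba015880008c4015800000296e72d962bfbb428204d809d80280038a5c1406a8190ac09ad0fa43cc6797dda9999f47e0666c09b813a004e006d3597c82000065d5014a5b400c8025027004cd09f3fb86585101595ebe4031adf1c8000178d4b58017004604d8098a13c7f6ccb02201b2bb8940f8e1358,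
  nat_lit 0x3d216872ce44df3bc4141c47c14f83916f22d2003d36a5058815d02a800e0026a098e8c1d191d48e53dca526d2459540e000d0024a0954122d4e3b9a4d249a413494da0d60116450360030008a8245046b534ee61348268e3693b1b0000382013902860034005116422d47c08f8020dd78786f89d8d26ce8140004800e5042744ce8a0e9f7294a87d50d42fa4d98deb9bdb3dfc7c008b41162001000340a0013783e49b29efd3dfe459c8b080070016ad2c9b093604e929d2d3642a6054c9412229845328a61027a04d000c002d40f26c61460d5c916422be0014005281d5038b5189a1134d4048a9828228418a65d40900044d88b8114a0293e7ce20e000031edcd3d428c57b89bb537500020400cebc2c6858ea040000864a9a21407800002dc0022817502cb500edf933b26744cecedfad403a10742874ab9403b5476896b91bce7860f0c4debb3817ab879353662a6f48d700ce0190abb1574ce04debbc3141a47bd4f7b915f22b29b0800359e2b5cd0d5a1394270663800259e0b5c95c81d0b0a609a78001026804d400b00005d600fc5024a04569d9dba266c4cd499b1dbe4d0d0eb9baa26c0000c000800253c8b91955e21fb44603f447e410f74d7d45b2a5053ce0004000000153c6c68d777a2f542369af0002105c20acd53000d000a2648000841e12ca2be457a17a8307a5e24bc10a1e144263f6ea29aea5e55866dd406644da8b1c1ba78a7e9bd942a374e0f75ba8312c6e9a2de194b874add305bb,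
  nat_lit 0x3a1800003bdc1a7001a000cf9842b449e293c9936b27050c4a67dd0ba6eee6fc0000ef6f5f000039be1de997139cd22bc7bea1589f2d0000002a0d226f05d1ef5ed37600365558aaa9db603f407dc0f3260c55309c020bd108d2116ba0163429fa45bb00ea01c178f807100e916e2906530878251a3a3097ececfeda2ec1633df30ac0f9626ea0068aaa955c05f00bb977b2f2486e8889512aa256424400ca8468460a6ed41b2835251c0f101e5133a4dd000c41e6508015dc2bc14513f3853c0a788d5a4dcc00bc1e5507e15d82bc8ab5157099f930726e40059421c22d5370a0cd417c1f44de29b8801583c666a8be217c5544865d0b8f0028a106115a9b6506245f53700026a10d1be9fd43820705136f0025078141d284a51b22a0d36e00229b7400a028800309900290002c97802960028b0c0298002414c029800207500298001c68a029e00185d4029a0014309029c0010687029c000c44a6f4000085d0029a0004620028400005d27acece50df53c4441ca7c20f85117222d8004800a814b4db502d2058002200594149d1b3a383a9dca92a2754449b60010002aa0a1413ad513ba04d309a5934c3ba89a7136b,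
  nat_lit 0x94002c14c2af8002844f753e002475006ac00208062af4001c6892af400186882af400143092af400106872af4000c44a2ae000085d02ae000046202ae0000014b7ab0f57cf590010001d06f13842ea77b2e0040007956f4df143b444a88909419282c2c83e88003c007156e2ada563c2e37aba7ac0007000c83749c19752bd95001c003537b001a003142f2089410e0100022a8583a94752c76b26f4e5ec0068bac00340061618004c0058bc2005c0050898005c004861600440040ea000580038d140048003100c00540028c4200380020e9200380018ba6004c0010ba000900008c40001c0000ba4f4521fb99932ac8557401100067b0aba5537b41aa00209bca7e26649125d9cab3db64dc93d1279c2b63e640015378,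
  nat_lit 0x1e53ac645140b78573dc4236f8c0011ccb30d444f211a938761a6e654001b7c588449ae1497424b4376fb4df69270d038dabe40f03e6c18fc31b863f3e5c3a7c001000e4e15cc900001dec593a4d21d643aa0ebb1d745b584ea000580007324e645384000813fd94ac48b52a03a546b8000613f83268d1a000827f1fd70bc156ba4d3813702647570ea43ae475c16d42dad6f7c87d05245bc6a15610fc2205ce51069bde8006275c4ec0d440a04149c74915013f34a6361f5aff75ff6def13831ab43574c67a76655beabfd86d37bb35a8ee74478659311e97faaff96f740e8a315546aaee16d5ada86f7234daa1163b8bfc21e1aff76f70256b8b98894b6956d337b7014c9ce2da56f6c03f26ea6f6a004a6171dcc0180030aba1276e4ee09d52a9617042dd5382003e66c0f4204e20acd0ca44cd3128624844680004e040050009227244fd20c088d4e01ca100001758cf0b1663bc800480098024004a7d6a16f251b4a38e50537f7000000065d004600860e7a71b5d74f6a8011802200220038cdc37ff4df9ca600001974ef0000e001e00800109f5685b4945d28c445a88b8e52d37d0624003c90410ba0038d33234600345e12afa003074a,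
  nat_lit 0x849000d00200038fa80ec10048df9a221a6d9529e9c6c10b00002f1a6d78882df900110ebf3e9c0030007000b2121044208527180085bf1add25b9a7654ecb8ec91da702fa06024f84e2dc0280001c109e313c80054007dcd8b0ef4528006400c297b5ec6e01138a7148002c5d60ca000289780caa002444c0ca6002014c0ca0001c97c0ca8001874c0ca400146210c9c00105d30ca4000c44e0ca400085d00ca40004620000019200000e90fb75f710e581caea4f5363c4316fa800487579f3e0c9e9c4aa890012002d14330e17346004400e9e4027704edd38808d4002c70408ec002874a08ec002444f7084002075008ea001c30a08ea00185d408ea001468808ea001068708ea000c44a08d600085d008d6000462008d6000014b,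
  nat_lit 0x5980b3216843748002b8015640ac85455845508ae59c08e54d3c9a8217830a04b2a8e411c9b07600089ce1efb5646ac912ca238f4724c1d4001a73695c12c9a38e4722c1d0001098a8840b0c161c60e600041b482e4000465d000200005d21b963728cf52dd32140044808d811c023604488502dd3878ebc942858516549310bd6a4ad468b02d2962c0ad465a9310bccdd40e555310b0c8d991a62334fa55446288d5124d2553d227a0680cd0d60350cc71984936d375409647dc1a50340a8a45634ac65bfd00004e6a0b7b4056296a9fe15f06930d00a28d58cab186ff29cca79e6808c52953f42bd0d2419fd4512b18562edfe1398561cb5f949f293d5486dfdc8da2924520927a24f06350dfd939743b46b59e2c31dc6fea351af566fe8005004200824fa49f5a5b04b7cd0b8ef14098812e929d0cb847400080190041006a3b48fb09f605a6c8d851aea72caac0bcf179d000200c5395c4535d57096612c288e4e5400000303cc44f709f313e84b5a96eda15c060197a63c00047892c83e23038390524390409281267775a14a5b94b564f989f2003c007a00b9366460aca515cf2b9f421e8435280a4ff841400b53944820bdb97b6b1a7665ef51cecf002c4e4c0d381af0bb649b0c20802b4e49e22320a88b6c815392802a4e4620f2f8987a49c8a102802915093b642cb4e509c9210280281274cd318cd3194766401387a87334bde97b630780099390279e795c012815210857b5a9830040008514e30f77372009c01913d04e3c00900103ea43b0c01337e8888a9b6d4a88e6b1cd87ab139c0838107d7b4a981003c007d14d30f5736e009538e,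
  nat_lit 0x4aec95199fc565c67f0c3997f1000a0034bf3aae74eba01100001dedfc7800080423bd40233c12baadea812b825425fb800138174b8891d9fc7275a1b78cf619f330de5fb4000b8164b8691d5fc822ef4eb0bf5800000240008b8316fe6a28d4697f213820e234ae6bded7c9af7b4ae8388920daf0c47970269d59f15567a64d0c9aa0234048c799696ad2e70249d517f75660b67d6d0c50f6800c7e1c08a75223f135aa01d4044c791695ad2c70209d42806523ea46e17d2de1701e398425d502ec4895752ae8701c5c9bc3168c0b4b9694b80d07e4becaae670182b8001d5ef6bfd424e049d4a34946c45588ad893cb030c3d00390fbe2b420d041b8ad2df3e20ee49d7131d479a74e003c47722db18dc007006200c20c60b5161080049c072b2d565ca2e034a86a885a6aa513a6167c2d418418011701aacb1596a8b70d281a9e169274aea5c0000e08003c00b2f745fdc125424b25134a2822904534497752c9d207ac0f72069c0d4017502e0146114b8dd31ba800393a31ba60035c04ab2854cf11f816982d5577ca7014df274432780d201a602e605b828b22954aa0c1f800638084e85e0980001dec29105175e6267dc6eb0dd70014e01a1f1aa16856af0493a07db8000077b5e5e67d46ea0dd50010003e1f13de23ec878d90db3edb4e7c6e98dd4000e003a1f0a8334d0c80cd01e252860569cf0006001b0f81419268583f89a59a2534bd88ece17539d,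
  nat_lit 0x9eaa0f3207f80003684473889884ecc289a5544cf53a89fe93fb2c9d6432c869c18277a000005080a4349cbbf045a777ac875c1a8b26154d646b8340f15fd2b21c706610e92fc6152e0c83dd1bfec85dc1887daea9590d383012c5d9f3216705e258431a5c02e0b84d055e0a8494ea2494492c5194a332afb2ff6008400c27790662249b82d002eff322e0b57845768add30ca53c4eed2ed25e0832f1249c1600167f971701abba2ba456c9dd18224bb2977e0cb449170560055fe545bf6aec8ae53b97f8400005e3541aa73d247a49128c0518557b17f60038004dfe43fc14ee20c780001c11c538000831c76e448c704c0041fe2c5ba6ae28ad115826124a6a94d9c531f0b11122ffb6046c02d3020eb24955a7cb505c12800f4edcbf1263445fafe79241a5d17048003821b843a05ec9db18183034afc52e9c18e8912e08c006bfc2686246453b581e091fd2e725cf70440031fe0b4302320205440b27685fe000638214b9c9201a1ab4a881207ada26bb9a24ecdce880001758cfb187d2fec0029c0fa5cc48fcd0cda53408e3d68e7413b23c204b7497312bf25505fd4004b81e890906252e7a02c67cccfa187b2fe80021c0ea5ca48f8d0c5a52408c4ec4003b81c4b9291eda1834a381167ac6269399d1a969d839ad89a6a18213ac27611fa235446998792fe400193af,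
  nat_lit 0x8387071125cb0fb61e6c2f614c00210032001594d1f1c4f2454a1ea6001e00600102814528265c490f921e48689e438c700022f1b8c700022f0800f001ae3149ce752a0031c628d7e0044005829634340058cba62ec00512f079840048e94798400406187984003889ef76c0030ea03d680028d145440002100c79780018d1213080010ba679740008894795c000000533a8003000c0f2a796d3c70006001400587a53d70adbc8e311ba675ad3d4ea5278c1e4c005000c5000a4b4cae920b0cc219dd55f87304f14f4887920012002d3ffa92c32b848283300676557c9e21303491893d527b12e1199033443a7000800149ff93c30002002614030a561b499c4cb9998a5b4f1465d412784002213fb0a461b299c078b0f19119216842ca05924f040039b49796cd2ca26ba9dc50049ff965234f381e29e000064fee37b86f7ab6d5ad0b5aa305c60c83649df80054fec9fdd4678c290dca1b9941a9f7600113fac27a56d8aa454950e24000c28b051b2e8ca73c500277c00093f995df2bc055ed24d,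
  nat_lit 0x2c845820ddd1c4e840907e26864398002c0060c7c4f495189f647c72f8e8e7b21cb0014002c54d8a5e43c69e8b90200002f1a0ff41f29a0d0e48008001231e476da9fe43d88b71c80a7a0fd100000ef6a169a59be3639e4871c003000718ed0cbd0efbf447e869e7be3100002f0c2da45b05a44b448ed718ea001400221c539e0f8d1f18279c42c0ad89fae4378871800193f257f8be28dee1be45ef800125f282ed06080010688b5d000000280000c6f3902721800c802d006aa0a54ab198624681a2835006670cd01a7434f082e10650ac2158a8214ffca08915ca1d24296385070b0e191c3683d9078267a43809e68c6e3900721400c002c00690aad86835896902ff853cc005600c43e59ede572a47b08f033d36a3675c0eb919aa31b0e3f1c83002c00a801942a9619cd61da3fa4ca4f2de6f80001dee22f800b001acaa400a00280060a091569a95055a0f3793ca2628003444c116a003030c29e6002c30b3e500028750370a002468a3e4e00208063e4e001c68921e200186883e42001430938d200105d33e48000c44a3e4800084497c1600044483e3a00005d2,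
  nat_lit 0x2c00545b9a05bb4404f309ea116fa2e45f9a58953d900525b9523e4134687cd0ed8dfb1be83f881b4afe27b00c040079a6645b80070ef6838c0068e944e8000602988388005889efb740050ea0165c0048d148268004100c837c0038d12259c0030c42837800286126ca00020ba683740018894835c0010ba083540008c40753c0000ba4fbb1875c2c6009e011c0199ca03936322400d001741a69ebc2c5009c01180191c9f3934322000c801641a475353d6854ca69400001e2004885da3c404fc00890c0527225600102180a35c234001e4300023004a003885d9ed504da0ac000017585320aa1002200410e89cfc7c80f8fcfb52a378635055d3d51c568419080268a43a0003c0080c801dc4a8150f9a7a8fb55aca4318546a7da1f1ebe3e39f4873c007000f4f4c5830ddf1c52841107f2688439c00340070c7e1dc0543a0f17da6d64a18b2a333eccf8edf1e1cf8439a00312aa,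
  nat_lit 0x10e3919016960016000550301b6038450145440a924fb40050000541d11fca8bbb86685acdc8d021a0337209f62a065c8caf5806380c30004321c028626200043b914f6a6c40000adc001d3272650295e262c4c81a4034843a1474327d60019326a64e4a0a941d1259407281006953ea000a9930d5a1abd44e289cc58a0b153fc800226578956c1f5990137d4fa4001a6598a6677d8aff95f74fa0001264941da83c0ad9a7ce000532c07082b340001475096532b1ffc3ff4d149a27b1d34d4e9a99005a39971409f32fcc7c00000056b000c7d08ff9204348c6945d644a88a511679013e5000a7988f30c4215cb89ac8f4289ff4f900021f1c3f28b7857f1a21531000019e603cbc086010aa7c60008fa0a21d3c2268e12d100027978b5c816f0f5002400497aec72e06530037006a5bc52441ff34f88f288f08194c00d801a16f08182d12996ec52172169f09dc459570f4802300477ae872d8652003500665bbd3e000645bcd416abc54e729ce818b02ff098856e4ae29c6c7704ee12ca987a00110022bd723968328801980314f7c01900302de2a0ad5e1a7374e700c5017e84c22b6e9ef3e4a00003821fed3fd89204b75002e0060327ce58bd6f00840105f24a7ba79287808c9f005e00b4b74c0ba6886cb5a28d04b34f700239cb4395e3274017002c2dd09200ff41feb0dea9ed9cae193800b401596e78170d1059b1b2da096212bd3da,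
  nat_lit 0x19f5410e49d26c60005800a26f01a403492ca45940eb493fe603cca359f4c10d49d06c5c005000926ee1a3c348a7fabb814c2aab388aa6c54004800826ec17182ddc3d04ff208380001c11547ac9c59401a383461374000c001cd8a24e5821504193fb7dfc000077b8a14aac22289b11000a00109b925874b1d0f316113efd4dde2281b100008000c9b886890d16b261867aa8c47aa9fd000300044dc0344068a0d361a4972cae5285a09d20f3000024dbc2df85b53a343d887b20f67241e48456eaa7f200006aa84b24d9132b264e4baa97592f125f8889aba45c5f27f06c20eb986280c4c9375c5e8ff8fbb994eb8bc0f14671b288717629fc2176538e2e85bc317514adc5c8b760d1594db8b812bc48a89031204426d6c2443054990e7119716a4003288e109a5b0710bd525c39b465a5a8c00c000e5438b4c13f753f0d639f3f1fa22d44005c006aa120384073454827ec240047f90985b0310b5524c39946565a8400b000c4fd4245295153ecd631f3e1fa02d400054005aa1003809fa048a0912a5414fab58b7cf67e7cb4f80140014a83d3f340409aed35e31e868c8d19d007a0114cd60050004a7e4ec280000bc6b5f22142a4487288c98b4e0011000ea855694a9ab76129f8be3300003820a8c151007140dd2a0a000a003cb4d1f9a7cecd619f1927e108818f131e368bed189005200c0e2c00340022a0a4fbdd8880001ded52e2aa3871e8c84b4b800c0004a82158829a68b28ec413ee,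
  nat_lit 0x26004995e9f3b02d205a80bd817c416310d533928120048008447655ab14bd83d25248278ca89909453050210e521be68a2fa3842b88031b0c009c008800e06f8a03ba6500002eb25244a109414007000f004a36109791f4347ccb0e5d32280c054000792086cb00071a6600800068ef6f46c0060bc2587000588981bd000502986ca800486166c9c004061409700038ba86ca00030e9865000028c426c9000206120dd8001889c6c940010ba06c940008c40005c0000ba4fde135e26bf436e86ada1f3e7b10881fc06b98014002ca02afbd6780b09d1ea1f3125c035c80098015364493cc6d87ef89ae935ea1b54352d0f1f3c88420fdc35c400927bc56bd7ddb3be584a8f48f9792de1ae000440099b2050110d3b43a7cee21003f60d6f002000481b7036544daa01a3d03e5a4b706b7000f00226c79277a4f24a1c7711402107c1fa86b6800e00206c7527724f249f0770cee4a8020034007836b06c67c7c0a6814e02be0581f73aff75002289aee55314aae222d1b1a001c00349bd85cb0b809ffbac600002eb3ad30000eb14aca,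
  nat_lit 0x49e2482c01ba03770ee5456a8ac52ccb13d882307f5662acd599e396b078a9e110830a04140c5d55e18b4f7391272109ed13d93e190499a28223c447d0c853dea82ee7e00000bc29e2000000094380440c72aba9a7532391cbb52cb873eea0b2789594f11096852d097204504b9058aece4042e57e7ecb85c80078a575d87938ff12c8834906a71fc2123ea765bee3f45bc7b62cb7dc7e09625371906b8fb15b9ca4b2de71f4257939365ace3e450a09562f78ee0a7b600140045482278832f466003c4282a77013da800971f0b3f907620ed4d149a35339a670505149b84b309522f70edfa7b40010003d481278632f0a09992e326676f93d9800771ecb3f107520eb4d109a2d41260c8a4d425884a717b476f53d90006001aa4013c228228bf8c9619313b789ec4002b8f459f483a1074a6865040002000b2a2a545ca84abf519c233510b8216a1c3ca07a3be330c6610d4d07db0fb87670ecea7b34f5e000d40e4f5c0009c78acf741ca8399341a6864cd899a5521281af3f8d4b1a980fb21f68ecd1d9b4b8c9734000b8f05032271305e60c8127c2508bd43b6e9eb000038ef59ea9e400054f50b7dd716342387f2a058004860eb0d437800069e996f60d1a00087580eb40bdc0009a7f35020258000445c836c9bc4f44b7c57133b0d20a6e3a140a582ae39c00a,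
  nat_lit 0x9d3434e068d0d161cec39c08250e641cd1672800c50a1eb0869b0d181a2839d073710481cc4399ace40016a1384671dde9b4cd9c9b40539b10b9640ace30014a1302a9054e7f292b425344a6cb01d3d4a7aa0012a1281fc03fc27f050529cb8858b1fd6708008509139846ff5398a72a215ac7e59c0001d4234c94994d328abf04f4c9e9c003232628854e4442958f8b3780028c6c07ad6962d4b5f65138c0020f2c0470c84a44b4c8a9e900018e6232ce222c44459b600081cf16f200040091c60cc91974262f4c647684ed694f029e49f44009a844f901ac73426542d0f955a7a7d54fa0004800f13b0508493e001102854672c87001c000a1bd014202e406040ba8fd31faaa10408600002f1ac85001800021bc014002e005fc0b98fd11fa71612042a83f0de1b26c6b96528ca4c846908e0004a0f000a8ab44c7c99115cb086610dcf2391340025865451547128e29d87a83a00201da83bc8784aba8dac9a6e001e2abb22c6da4bedcf8b0550001a2ab30db890264209f176f6000065d8b00418082fa790001200193e24328448a29ac5363b7a50721eab2eb8afe417c82f278f001000153e1c3274488a0db95c00003823be70000e56cedc20b8416d3c6000500049f02192224114ce29a1a48bbe6506963c28bf4f180010000a7bf4f89123559c2b3c7a6aa0ca8be4f16000c00027be864488fd11eb455691e91dd418,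
  nat_lit 0x3ac700002e93d757afa3c00780801c003e00ac00900112288452c71ba86658f1a96bd7c1dfe3c0000d801e0054004400811432a0cb1e163b6a58f5ec77f0eff003400740148010001ea193abf00002f18efc1dfa006000d8027001c00348a011471c66eb09d5f28620068013000d001844fc89f20c1274a4eb53b3290650c1fde800d175889c800c34cc9ea800b053056b000a0c2c9ea00091d409ea00081a289ea000720189ea00061a2432f800518843a08004174c01d00031138d51800217410f7800118809e48000174a03bc07d470c8f3d0e7a1d14ef43bc8004800b002e4f2142f00140020778a1cc438c7701f82bf04405eba0e02ea85c005801a13c6002a00240038ef04ef0873d0e6a3cd50b61200000178c0098007000a3bb93bb21cd43968f2d1c140796d1d08fd42c00083bb50e421c23b78fc05f80202b5cff0165193a8570fc9d560e241cf844a90f393c2002200140018eec50a80010eef4fc510f621e069945300008ea0179a00580001dce07e0ee84ee0871d0e2a3c54792da1a367c0da024ae4ee2d0c2a64dd6931cea54331866419dc33a067786650cc4ea4a1a97f18d4f89c2938826e282a08929126352e6a60d4b13be001a0005429,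
  nat_lit 0x9dc13c80011910a4b95b400000e200032f9856d4a3d000469f547b871a0004ab0955e0d8400019e938b617b1a7a874713422a9af9372b6a1c98a24026c661821304672b4a1c0d484f989f1999e39590b09647333c72b0005828172ae00543be008c0149665a9124fbe015c02112c435986b2d437415cf68cdfca00c47faa748dea9bd31e263c58018a86c773626baeda8aeac2b98563d911e283c54018003350d60c3000017845fb8c06005a00b87898f1144908b3943ca8696a230615434414a1b0c0158412a8e8362002a0988a1c06c4005217bc46b0d8a00a02f611be003065d1c8c002c9781c7e002897206e4002444c1c88002030c1c82001c68a1c8600185d40f8e00147491c8400106871c84000c44a1c7600085d01c720004448,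
  nat_lit 0x86010c153a5b01e001ce5f16c98253049e8a5914c24e15124fac2a663356b649cbd800d57966640cc699da4766a24001100189d1e185aba95650acb1597b71268242d15447732a000077b27564e94125824f5b1ee5e000527454e950c062fe39945118125024e5b1ce5dc004abc733186629371a3af35eca228008578c662ccc50988130e4c09ad1b6456c8701ad4447960000077b000c002cad115a6496099b4cd6266d496a92c578abcaf510e1808000178525a41486df5095125715a42b400024002273f86070c014420007161832a064f64d918559ef1b6b36d86dc5441000516158a836436456c8b9b7e25eb5100000a7f92fc65f912708ab31b7800045830ca2193173f2e7924a539d42fe5738ac6d00c85210a408778c1198246370cc561239eab3a38748d355c27484e4421c83e9f4b3e92be04abe95882b130fbcd169a1728045028f70942c28286db564f9b6d282850b0f70940a2804685cd16c3ef2b125620abeaf8154aea960ccead8472daa1f81fa51f8936926924d145108a1811f82435b06e5b143e4ad695a0eb71d6a669ae5aca5f0a345ee90b9b34f72d4163b973669ee5a401e2b2ae5a000a0bca17900010ac4170d515800115c95822a2900001cf80063d86a7561efaa36546ea9ca1fcaa2e87e0a1e8005288e409c81345a75e7aacd0454a8780010f60adb65ad71292252ad787398a1d80033d80a7494eaa7a74f508b405e400047afd4e8c3db8e9d0c0464100027af9701a89c414467e00003d7012c9ebd6193156986b25748342ad4c10e021a8bb4e58143a,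
  nat_lit 0x26c400492f826c4004061426c40038ba826c40030d12156c0028c4226c0002061226c00018d0e26c0001089426940008c402694000029705860b3a4d3499c5710ae000290048af88cd399a61348a2839f1000032ec2030000e7c065c1b123668ade802600429d721902bbe567aad055a24202513dccab998004800813adc31f6906014402818a6520aa2728ea41c08db0fb59f6a54f066f56d2398d003eaf7544d82c50585266a4c82b7c56e8011801e57b86684cd0289841046c28d962b72008800ea7588638aee959cab3d512d6cd3994004000713abc31b68fe013402618a25202a2524f000183a5417500160a61b5000141859b6300123a824ed001018524ed000e2ea24ed000c344a4ed000a34424ed0008184a4ed0006343a4ed000422524e300022e8000049c60000748,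
  nat_lit 0xde8dbd0b7143dbc7b80002802d5266635003f007f768aa2fbab100003bdbd0c0000eac077a689629e454080010054a4c0c68807b00f912295b3bd0b51780000029588e81420e0345017062e296d9adb97804a2ea8ac8ec2bca17951e8e7d9afb3c9a913498d54248048f923524664891b0b31906f330c34946928584bf0981334b310822890851f04415538f1a8a368bd3131a200a145c3db47b61b41b53b26904d5167eafa76a5a8a691531e7b3cfa5ae0b5ca42f4936af543d987b105640ac55602c1f172e2e785d10bac79a0aad03b7076c7a606340013a8b6011d3c14346695401e003b98cd525800980060a74516880011d223b6b6bc5c30b7f689906f0c6a18ce004a2c53aa300002f1a77f8686d29c03a80743194a4a4011800914e229c9d5128b2a2c1457aa6b42185dbcbba87690ecef4acc65802251614938021000eac0536f26dc4fc64c2498612f641e8a2b8dbd4a5450a8a13a92446f48df5750ac3e00408f41b2a2808506ce4d1428135026a800fa8ac94011bc237b5d3eb0f000f0aea957d2b117f1193c328c00ea8aaa94534c24c2498cb0e400e138cac162b0ae9a5872006c4e556d0b0e000d01acabf961b001903fc014802845868b0413d027e5b7ce69c01cb0494eeca2a1f843f06aa44ceb2dbd734c00e15fb19bb33706815453754c000065d2ba400ec01b2771866aaf4d5a92b5656b2dcf1a1e3aa551494998023004a009115fa2bd04ec09e96dd39a3006aa28a0f547027e00fbfaa8d33a4b6e5cd1003457e466dcfad134c003877b136000345e11364003074a754e002c14c1362002844f,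
  nat_lit 0x10ce96d49efd3e000094026a95331e863c0e82800151a8bbf4587666118d57a7af4c8f0aa340011804c31eaa34c3486f7eb69cf7d9efe0046012d4a898f231dc740d4682110422884693352664a031382a707504a008802528ce0081466b74c6d50dd3146680200092b19d31295bc5199e878000178d7a52f478f00a32c00f004731e0f541aeeb5dc6baaf4394653df07be400f004631def53c3c5878d55ceba75f71a8c8bd163c036a46e90a32400e0045529698a0adc1598518e0bf000017857ba35d16baf1bb1ea618ec00860069463b7466d4505f54622c900040990375e003c5d6190c0038d332036003444c478a003030c4776002c30b81d600287504786002430a432200208064784001c689478400186884784001430917f000105d34782000c44a1baa00084493d1e00046204770000014b8268a2d4004003131b4f4e83bb0778557cd6a9f671e8d5184c7c154c2290452c8a99ee23dc60020018293631aea30433600003bdbb4600010cd477a,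
  nat_lit 0x4260009003e3398a0400184821ffa00163a509f600140a61ff900122279ff500103a81ff8000e1851ff8000c2ea3f8a000a310945900083a49ff600063439ff60004225188600022249fee000031000110026745c05780b169c70dfd3dd1a0334029d513a92bc840b8fe69a732d4f188cecbd19ca33a44245790af1acc357ecaeb929841c4838694ad7c7b5ed6be8f4f0c4228df05d80000cbb19197b02f5d8f2ca38401a005d320cf599af9b5f282eaa373c2200143bd917a00120a6117600101859179000e3a81176000c3450483000a2ea11730008310868f00063a4917600042e9916e00022e8117500000a5bee75d50abc83cc07967ab463e802880293e087c0c8ba28da98b16370050004ea351ba9b6af6ea6a350013805051b1ea88000175a2c4b3328c6ebd457a7478751a4009402718f77aaef54146b,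
  nat_lit 0x10ea5a8880df01ba7514020803f005862c0c578d221a46a3dc29000002f180630116a644c99192e3a8600fc01e80284174af3e147a8f402100429a2d345c9f961d52c48578ed794014803c51e52a725555f72d85db0f0014002600ec00d885227f8a3c3cf8000038225c04fc89fa21d3b50b01b2035ce9f803b00720099e7ba8ee9decd141a2a4fc30e996222bc34182008c01c003a51d83f92fb66c26d868008000f006e00e4a0013f810fca3abb8e00003bdbd890000ee3477a69faaf18005000c006800d8e9d1925325264b1ec5bd8851d04c4000d1758beb800c25e0267800b34cc8ad000a1dec8e180091d28c5180080c30c5080070c289c880062018c5080051a24c5100041a1cc5100031128c4d0002112400980011121ea88000174a0c32f735eed1970df3c312862297ec41f0005004a00454732ab494252842a78587ab0f2272228e000c0091472322cd66d85620100010008d4713aae5cd8b9c228e00080088d863ebcc5a504e800c0042a3805b100160080898,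
  nat_lit 0x34440000ba4fa6995b2a771c4c38cd6a3965b2cd2034806881561a34a42228059ee032033f423eb5880638318020544227664ec8a1ac9c8939421d843a48739e9f520dfa5000017856632b8c011a01fcfad1f586e06d6ec9e413d17e9cfd2548200fc7d64fab27e7479282ee03b371d57c3140d931a90201f4c7618ee1d9c3b2cd840a52f4dc0000bac01e8044ab885984bcf571a2ddf0e301c3df78b6137a6ca403eec000038241a20000fbacedc7ddc1c3038aaddc5c62bce965fab85010c01dd49241a151fc01615885be0165802b25780d683272aa095892b4afcd6c56d8c80140027009e00bc43328fc62fc01d804e00a0755007600ee6a410ef13fea7f951f469818bd317c00e8026804f3aa603ac076b51f8776700a0c9006e01300271d52327a65054d0009a00e47d3547c4f1e002c44c4f5a002844f35ac002497c4f58002030a86cc001c80644fa001874c4bb000146884bda001074930ca000c5d34f4e000844a319200046201a4800005d2,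
  nat_lit 0x4113d32a852600042278f0702a4001800d0322063e2faac548d5cc7e5351c2bb6842a448002001806400c745f458a71ab58fc26a285750ad94880004544ca8a27294e509afca9b15292a3a5491034290e00051c226cb4da0aec1c1b3231629c5d08ba5446e3d10000044200291c1802d005c6c191822295453117c58193a51521809146cf74a02ac40276860e93c3c5336ed0c1d27043a1e4d844ba4d1091fddb42f74982de3e1f685ee92c4b1171ec155d2509603b3d8f9ba49133dd2cb42d74902ae80e22cf239587269ba8374ca9390aba15436fe6d6548578de00385e30840003444c0856003014c1a3c002c30b1a3c00287501a3c002468a1a4000205d41a3a001c74c10f600186211a3c00143091a3600106871a3a000c44a1a3e00085d01a380004620,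
  nat_lit 0x4a3000188943f580010ba04a080008c404a08000029707c2378b44b57a4aa0d1d28464003c0034ed0a18c2500a4e24d76ea11bc1a252bd155048e90231801d0018768149b49a69359ba7c6ef6892af41540a3a308c40070005a934d1215e7aa804744118400d800a3b3c862493e927e52651d0846000340024ece8135026f15156502c235a2ca4c00190010767009a01366ad1101141fae5f4c3a7a8149786fe000077b793000021bf0ef50dfd3348013000a7664cc219883316f7aa3c5475b792ea4b00043b30860c7e5bc0f781c3ef0c6fae2d4c6098ad49500140045333c37d86fc714e364300e3e8afe11fc32928aa794de29b6518f11e92aa255b00d201a00480009524dfbf00001c100470007001c99921bd437b38a11b158059f427f02fdf5492011e001800a001e0014046006400ca955d2a844765186a6c94dc29223c2c22e000e0008022c03180644aac953e23aa8c25240a918f0a08b60034001808a00c4018d2aaa54e88e8a47a9c1537f1ae96304601033606740d9845a001800094767b3e00005e14e6a5480a8f845000140000043805f00c0d9a9b31bd9e5238004844f4720a9b95deb4368db90789285a30b461a8c29181a88d47a66330c66c29e6c4ed525de90e747ee2bcad5b3a981892ca08cbe897c94a94954402f805e010ca468008089e1275714b0f05e411709346268d1de0a460007089ceb1182c2f3f8b92ba54d8f2916001822a0f0b004a03d161d29140014226049a5c4cd6aa36712e60010225849814a67778eec83dc000c225049c2e625ca86ba,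
  nat_lit 0x1d490008000c1938328213c58a2d621e0c8f733db4fe3d4a3000e004017a02f567111e69b23b7516fa90e894a2000c003ccb3b4fa8ec8d5fdc4ac6d75284002800f1cf239c0787257e0e8c002000d05e20bc97a8289b19340018006370e6dee39a82f1398c0010007048c090c30929400004004a0e10a4c005c68f402c1bac37b324058b0b2596ba2d7357a4a4f800a8d1c805437506f5647eb15d64aad735ae503a949e000c56bcad7036400146df0dc302c800220d836f81e6800341b0964823600044f2075a84e800049c7938401b400014ba104e0bb94342810425c84c93658afeea0549d231c45408a9470275005973c9768b6e9fc01e63d6e9f800a029800389900ed0003444c17b2003030c251c002c44f79960028750251a002430a251a00205d4251a001c689251a0018688116a001474925180010687,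
  nat_lit 0x39800042e8039800023100000072a00007487b44f690b9ab1bb5a4eaf114e828bc000600081cb039452bddc2000017844dba9980014000545d000100000e501c903935aeaee0d4ae5adeb991c34487d5df4bc06396baab52b57b6830f061c00a9d55baaa52b02fec5a875522f8ae076908eaa030e4a5c94b5d5386b29f993f3baa60efd7533480754a1b0072e8e4eea9035b5598bc8dd518836c1e59593aa20d614c7b47e7542269bb2300002eb000a002883d907a8a37146a9fd197c17eb0dda1bf9d91295600540049c42388213ddd89b4d35bc915115e7a78a42e1e58800019762a12de269a2ec4427a9c3f3880001c009801d796af2c14aa85e600005e35bc0d33dd8784f3387a70f800280110036f2cdae9c2f252a437397e565e49fb85178a3141de83c00070004387aa54001a001e000ce1e1c348a4c35ac6b40d650308061d4a7000470ece1d04f07618d3316eec53d57909e0c23c294c0c0c1812c65649a1c0c37c202323f8005c0068001529617935ce68e4ea580060000387270e027704f743189ca9b7b371a6e0e39e82f9000ea52045a08ba000815b7f2000005e1,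
  nat_lit 0x994f98014af994f928de004a00922e3ad9963f6b9c54480df252e40118012002600456cc31fa5ce096bd2f2138526f8a5c2f5f5a98af914f828dc0046008a2e2ad9763f2b9bd4b707a40f4546d80220042004000880100042008946d959114080150020001e00400072d9563eeb9b52d625e152d8ba92f5c5a92af854f6a8d90040007e2e12d9463eca5abae700003822bde89fe009c00e800c001a002d6c931f45cd496a5d732968f6c1b4d234f8533221e41b2f87079e0f3000e801c52cd4f4a8d50038006e2df2d9063e4b9a14438de91bd4a59001b0034002400500090034006d46a03ca0796a6c89467b72002877b0016002430c0016002044f0016001c97c0016001830a001600145d4001600106890016000c68700160008449001600046200000002c0000e90f9d9b7da340851721e64142f7907820efc00c000e0012a58800d8b60b6098f22e5a4b3297391201494292a52894b00742002430c0742002044f75e0001c7500740001830a074000145d4074000106890740000c687,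
  nat_lit 0x835e0000704140827ed43b80100006794cf2d2bac5ed495352a541ae533da0eaf6857567964f290002001e41985010a035b24a67291b522ec540000800e20ca41798f3c75b631a129d4cd001c6db8db215ff2c007204e40406b6ceab942304a99800358a40014fd9c0000cba8d18005800a20c241698f12ebb39987364e001c017ecca65981546a48d14005000920c041658f0aeba399673614ca81ca00005e33992bae18ef905720bc001c004234346a0604cc0a40e45325724b66e80c871e4e3d15f92bf06d74db38007000ca64413d00002f180050008416c82a31dc5d6a7318e699bfa37f6ddda09e298e8ce16e72e751462291d13a299646868cfc0020003531a050b66490d2ad094caa342467c000c001105920a4a62c6f5301c602d1a0233d0004000482c105163b51d394c412fc260439a873f8f071e123b0bad6530d431aeb16d64d2d5a5cc8af6962eb554c2513494c913404b20978eb514c156e4d2c1d69861cb709a583ad20d915bc34b075a21ebc0a08eb6eb40314538ed2a9d678932001801b29c413c627b16bd8933123e9b71415c5d153015f68005006aa70c4f109eb5af424c848f26db5054a5f8251048cb1315f60004005517356cfb55265e2cabd4be57d6000c014c5cc5b3cc80173b11bc1c0237e06fb297aa7cd5f4abf6000400a000b8018002cb675aaeb2a952f001403d707b4be4a420c89285488d69b52bdbb0f3ea5d802751c00f581ec2be753e2a93899413228f6480b14ba,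
  nat_lit 0x2d5af791a5c34b79012d98da6e800426ec95d95ab2b647cf5948000321d05c10b8c2610d37400129b808395a3800105e4003000d7a591d118ceade17bb65a7633231705cd0a6dbf0a563471c8e38c533615d20c1bfc24ef000aebf94da812600005e362db1984b4d3dd85bbcc66a3a0bd290014000d276c09253651caa39c671ecb2cd649ac854e20004004bd288e80a6c45e66a7abca5188a31233ca6799535aa700000ebe94d700045989899315361dcc3b45b98b762be457c54d600025988e5f324965c6e3021b924eb53542af0563378c976d5d9c7305beeacf559f3af75350b301cbc648ecb85c5f34d68f08ebd94d33d2b1cb96faab3b5678ebd4824439087285728ae669a2ebd14d23754bdf559bab3a75e634cc5785672ebc80037a3cd33dd7883660000f1e84b2cc919dd28e9034e06942af228a09b4136dd7929a305d5a67baf10f14fefb4be75e02b1001975e0ebbc3b98042d335d770b7858a9a66baed0b88e661ccf75d825840bb8eeeebac56e476ad319d750b7ca975a1b3ae90eaa0daa54d4aa0bdb55d79e5d3cac0018009a87a13fc8291fa73f6106d12a6254f5ed8aeb8f2e1e55000a00494d0,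
  nat_lit 0x123c00205d44bba001c68931ca0018688275c0014749435600105d335d2000c44e3cd40008449005600046204ba800005d2884cc9200078006187e6618cc237147c7c6079915a5d353b000732465f1ebe317cf11411dc63b853c6225453ac006b24564badc299262fbb8b7204994ea001862ecc61906e20daae048ed11d853a4005b24361a4992d32626eb25cc00532425f16be26430bf1e0dd4004b24164b6e02a04c8d7400223898c400a162a3b0c29088e03128180197624004c006b3dc5348a7419fd5504aa1c00bbb11002400323b82ae90d2e1a394e73908720e2a2b0c09084e029280801776200044005a9cc3ee07e299fb5500aa1400abb0f0020002a3b72ae753949020fb71f8867e953faa840028ec3800780098edaa7230bd907ee01d27f0014761a003800433d7533f14f54e37d9c00007045c6a1a20348aae38ed400180063b0b0022aa0553e3ecd538991ca4fb0022ec2800580058b3ea69229d29957c58a70c0a100002f09ba45c64b8e10aeaae08ece000c004bb08001e93e605029c000099e780c00184193432517e334f6a6f8001679cccdc7d38fa41efca6f0000679ad3098e731cf87d015d4599420a5090a1820cf41a03af875f96c8648cc0b96e026a388010ffd32caf535c523c547842b596730cb50d691ad033e067b945e19ee33e0a9d553d000a760800154dd,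
  nat_lit 0x802d00422e38e38b09c003000b53f4002c71a29c2208000463a6a92c6b00006c60524687d800098e927291344000c71745bc1da00004b3c8b554fc62f71e95a35c83e6d0aa8e0ae495c5004800154fb7ca2dcb5937afde8bb80524011000453e898710912120ae908fe91fb0044000d4f917562ea89a5a101004800094f8001a00040a10000008c632325e576649d093ac1d00cac1955e3a29eefab9b0386540cab073c93a12735764c974631802253d90eb29e18ad4c396433b26300540028b53810e021ea7aa0ff420a87554f0456961c92199931002900125a994f40010a298ccf999d6e5af95cc1bb243664ce4ad652a9e6517907ea10343a6a77a2b3b0e290c8c980013800753ca24380001c10012800551466670ccd372a7ca860d19203323725112194f153b7159186fc86164ba009000216a10210042500d29e08f6e3ac486064b8008c00196a02d3ca84900c998653bde7e00001dece7b8a3814727fe4ffd169c2d3c000400c0c5964a6f3ed4ee0000a2755e02f748d12820d4ed51349bb8f309e5d44ba0040107340800389902e8200347041e1a003074a3562002c14c4bbe002897c8568002468a,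
  nat_lit 0x74c80071a2474c80061a2074c80050c2474c80041a1c74c8003112874680021740746800118800000e8d00003a44031338a671d4670022002ca5d19cc495b89be3a2c7462a07137a4ad339752e60054011804f6510e40991690925408f8a800e2640841000d34cd456800c1d28df3800b0531454800a0c2d45480091d4058d80081a2914a80072018cdc00061d3123c80051d24c1d8004174d2120003113a2360002174144f800111207798000174a26d338752c60014009803f64f294ed15b127924faa275501476c8eccdec1bcf5300a6114c3c51900080040b5daa00f32c0000ef68054b5b96b9001c000a28ba9858a70e555c1036437994a7fa2d76946ce1d4af8001001a5ae0b5b20144026294d4fe790400047040018000014b,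
  nat_lit 0x5440c641b8cc03e3dceafc85948b2751cccfa5a5fb00a589aa83dbbe2a0f589ac02d2f725ea42cc3dd87be8f7f1f0eaf61a0bb35336a26d4157c80897706ee08000aa28bb7959da2bc1e5000d801a92b5254e0241dc13b813759dd6927524eea47cd359a6d55e4abdc043bb817700a8985f00bd8713d3322c3c8f72ba015e32bc776fea8918461a6234c0e251c4948e92485ab0480d76fca88be426e8cd4ed9d7c7b75cfcaf115e2bb7d544046f88e4388e91ca48fb55e9016edf150f4e3ec985932b2b26566d569dbdaa1c25ea3da2e7b5782af09dbd174e89351280b6b16d8d55ddbcaa1aa60d8674791661ad55ddbc0c8c01e5dbb81430de00000cbabd757ae397472eccecd4c78031007e01ad95432cb86eea8629ac5360a6ce2a28030007c01a995225664ada4a7950b63b31e503f787780efe998627c49746762a634017aa14a77d4f1af5a5eb2e5c5cb9b3b0531800b801e006854258ee31e25352a6b54d84542005a00ec033b2a14ac6a84115553baa7857ac2f5772dee5c59d7298a005800e9507820e000070447b2c7658efa9a65354a6b629f802a0070019194f410654197aa396c72dccead4c38029006e018d95032c36482a82a9a8535714f4014003600c4ca712af2565252c4a815040ea000409900150003c904016000389780eae00345e31d34003074a1d34002c30c1d34002844f79c800247501d32002030a,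
  nat_lit 0x2ca0b4608b82c18bac5a9cb56be905e885fc02a38008001aa91074645d48bfc29d800700181700544000c002c2852a6614dc00283c06ef02a0800410218d0053f00061b3a7b80a6c000824813a6273d54ac5df597cb8746ca85d00ba400100062a42273954a45de597ab8706ca05cf0ba2000c005ab725480005460654811734b4f16a47d0ebcecbf3853e547c0049142227e99d06ca8d948c92444551e0010450489f267007ac0f50659abca5474003871c0bb04b7800643d407e000556d91fcc047801b00240041518c750633d056d51c00ec02b158480997726ee48008800f5460859ce9a1c3400386ef8de2242a1e403c7262e4a7c6d350bb99dc2be20828000178d0b22a2d00180039dc7bb90012cac18054807300e904112c7001a002c6ee0ddf24241e343c5a62b4a766d290ba2a36ad9a3f68089002a00300052a2b8e94c661b8f41ad54690c746220110005000580095454c669c42371d8360a8c96f01bbc00180042a296332dc8a0239ef043e687c5518000ea8a23a3a23416422c411078dfd79ca93bd2782a2e00193ff10617a3ed27981d303b9183237520faa2c00153fe947228e680495f0b5b7659b1e349a8aa2a00113fe27f86c0ed82137d26fb211c48d80031ba807680eb84aa095c6b480024ff451bca371398273622e80011ba4374c07e0000a80000a,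
  nat_lit 0xb651b4f489b7ee66d323d732825eec00f8020bbc254e0da5c7ad6502bdd401e80407782ef0806813444372a9ba31e677ebdd001e003f7780ef0406425b9437086dd536811c00005e17b7600020468d7ebdc401c803c777aeef80622b343716027c05136f57b74a9a9233006e00ec02200b88ca486f8a6e94e943108625534810200005e3430c539ca6da1bc8ca002d80210039006a48c6042c08054ccd0221a04cac1ed83dc123d1c14382001a00380082a9902d34dec6594cb106560ca644cc0172a621ed891d8e081c0f020a0409f323d527a54f48802254c02f605ee00400084f481e8f70970140f5995af2b42a9780270042005448126815278a0c541aa2827b48489152e0b4806100c285b500220080d6b4a54388c70836114500a0cd417a93a4cfe8710006aa5a75c4006001e0048ae2d623a1b429a6537d2000f7154b1e0780001974a6e94d14364b1155c4802200380028eb785477826f03952b0938938c2ba05773ada75b8004801b00347a24f43aa54ca41e0885453ada002000d0020570eb10d0d814cf54a470e8e0a6c1689e9416a829526899e50df00070032a940006003000795c2ac41435c5334a6ca3fa1ed63e152a240c4c5e16ffc69a90bc77e8efd85430a8475a8002a452f81d7c4af8a68112098eb39d69000800282a78554549e01300001dec00a00023ace75982b8056f3e9226a04d3a211532d009552609321251651856d0ade7594eb30001002600655c02a4a9d2994435303ac6759400000120030adfe40300a2549000182c25024a0410f3a1af548c00102c7313a0e48001778cb96c87f,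
  nat_lit 0xec300042e81e1e0002224403300002e941b9837c00040011763883510652f79d89592d19f0f0e2a84c6e59c7b395672d1064bb10001000106f64b32d48550400017618830ce559e0b6755d6a04b8098012e5d6acc5d7c6a6cc4e028dcd5072a0f6a76deddbdd44b04c6c18ac318051d0a22b5841ae036633e28bc60e6c96b8378aa017613cea6f90de2936700260059dedaa7f1eee3dd1e7401b00375ded1504ef7e434bbd90bfa150b5b477b0177ac8c6b68ef5c364590ad6d1deb05f83fd99b2bbd5143d1ab35b377a817746186b66ef4c55a00b6033e334a1d529e854010cfa1a05f7c888911faa7c88857dea19f433c53fca79a1d48cd0033802d005154f5fbd800017589a980070014ef40027804c5f08ca423de1b5a7f02fde953c53d4a87d50e15422a8a54bd196b3ce5f06012c0272a76036400486180358004089e036000392f803600030ba803500028612035c0020d0e035c0018894033c0010ba003340008890ef180000ba4f53db50489d7eea6d3a3d832845ef00100021bbc4778aa9d268553bca84d50815362a72548d190b3c25eee00fd539,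
  nat_lit 0x19f4b3b865d4cb9a3f3a7ed24ee04040823c00551de02c89077fe17285be6bb6eff849336ed2235dfe843b04b5aed3bfc16f1360b5da77f61712a216716efe84d117dcd765dfc8768f89daecbbf812bd5b7ac4177ee1d52d5d1f643ec513229305268b5916b1498083ae00686ca885400005d65c30bbb6381230983cd26120ea801800325dea218c4294a2400c001783a925f56afad615262a4b51308fae1f5e5494813735910bcbbc0017002d074e4c141e4460f1c015460a385dfc00b001583a525ed6aead5f525ea4ad12f9522ce8e408b9aa885a5dd800a801483a326020f12305551428d851a2efa0050009c1d092f2b56d6aea92d5252aa217740026004a0e7c97e83c08c0e37e2ee75c24b72954333ca003c5d6374e00389782f8c0034b0c0938003044c3c58002c30c303c002830b3c44002497c3c50002030a3c52001c5d43c42001862129d200147493c4e00106873c4e000c44a,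
  nat_lit 0xa1b5434b61d6432979800080004fd69fb941622ee7c32aa7a5e28670e0f5addc8a26b86d769e0d2a9c9795626805300aa5e25e0c9ba11589afabc180bbde0ec8ac782e1acc1626be8f05836418b0d7d1e0a87ae08019863c14143e1ddb5f3782617da7f06be6f04855a566ed61de0888f4004c00eab8c2cb87ee050b8a0f63a6e0c1c1b822d55347910f14358710be404b2f88cf67998005800d0024aa607c2001a4c8045000184b907ca00163a507c8001418607c400123a807c8001018507c9000e34487c7000c34407c1000a3a487c1000834387c6000622507c60004224bca3000222407ba00002e93f6c704ee0818e189ff140e7ea0b262b7c001a000c3dcaa96000d9f6c874648cb3ad70cc7bb06aa0d5c1b716dc5528b252b7a001600099f6c83d4ddc9c7938fa5294a54aa4800167d8d0d1b4e2edc8e14059c0a0ad295d1814e15480000cef400a,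
  nat_lit 0x899800005e14d7a91111b10002003ea029406a84b461aba2170544cb556984ba9cf53a48fee333396071fd11a400f000146b4aaca78649ca93ad644b8fd88d0007400023595c6ab8cd5580038a01d40528484614ddd555e28e8713addeda70c8a38a4489b1c5c2a48547461d4c39986930ce6198c33986930e661d551d45f958471aca3b3314584088b151ac2aae0054009a6010038006e23338fb72bb198cb2e96565559ea5000019752ff801a0032a011403c48771f7049d018b4e36dcef52555578be000065d405f0495c7cc485500aa00800b80184bfb1fbd919bc5e555143fb2328fdc97f000b80165002a01224238f88248aa9a43a4872007800aa8005006a105181b76e556aa3895520dde003c5d60db800389780d8c0034b0c0ddc00305e10de0002c74a0de0002830c0de0002444f0de0002097c796c001c68a0dde00186880dde00143090dde001068706f0000c44e0dca00085d00dca00046200dc200005d27b88a6d4b1f96468c98e519c72444f000800152f506e2554400200034fdc9fc6238b8e58222806da66b6d17a6e8688002889ae389ca2464a47c11e5d209a38046f6abe95507c3400005e1,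
  nat_lit 0x9bd1364d82000480111b9ef691b9a33c5525515e62baaad400200088e2332c4db9ca229437341c68361c636153c0d15bad7d5aa0001c0080e1b0f241e703d4202940607f20006001e38683c8879b0f511f1821d04384933067956954f31bd9680b0e3710aa92d163a2b55af6b5380029baa1df1b97b88c54968b1915a2d7a5a9a00100060dca43d9fec800017843111ffc691ec1656bc2d4b000400286e43d9d6e5aff615680b68a12942729da53be000556718c031947ad8f5c6c2200007120010384c3df87b6566835f06bdb8b51af635f0d65bfa770da7ffcffda94252865cb888a911e17362fbe11337e94aac95897e8c3024aeb26d552322c1455eb5d56a42acc001c7099bd546ae8d6199c31143d1e7a1d565000c3848dea2356848909151b1237c307c0028e1137a8dcb5ca3b0d861b2824156400083851147229055be270d30b0006383c10d3c69918090e064100043838de82f955f402d4867c00023834899114c271e1be00001c1412c8e1132a0db54a19942533f867ee1bd36036c10f111563005a984a402039d073e0ed488a0b9117ca8be17d7aac485a60c638a9183c3071c1648685c82b90d1b3800e558617f00001759543aa868ee6c54a108a2d246ca0030014c47472130bf55600050002d1b22e405c7d2195c148c191836e29a0c4aabf0b49cca390788e4009c005236345a1083d8a84771557a00b00001759461280f004a00211b0ae3d5c772189c130c161831005555d49d90b3dcc8b90488de0090003a360459b08318a6aab911ac0000e09183c000446a3b72236002100088d75165420962951dad53f2a7f5505183955b,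
  nat_lit 0x1aa275c527424ec53da4f51f50bea30026002162eaaf60cf1e3a800758b8aca41d0839e56b861f4c2faed555e81cd800778e887d10fd489367fea9594b9978e2f1eabcbc7a000032ea97154a8cff6448a1f843e4f1c8002839902fc0601e3caaf002dc0bf817d07300011e38a1f143ef22419fe2a5355dc9a3934947b4d1ed81800f801f604100be03970006abb407300002f080b20168b3081c483950002f1b90f721f45d6cb8c20392aeac03400000120005f4bb7bf6f9ad909ad98e2600009e5068026109e418180dc81b7c9af48d74e1c9c45a2cbc6a55d0baa0444088a04f009cb30846be8d89b253c6955cc0b848d54e189c3da2bbc681c89ec6371b6e3485910b33c674e4456d0c6246450939b233c662908223844a4956d911e32aae48101610ac1d68a6f1901314aa2d149e318152fa3db21bc6206ce1dfa7204e491d022c2293567a0dcfded78dda0038ab8a2d54586b6256ae00130038389c3cf07a80f6880d5570876e000065d002200646ebbdac6e78cf3549945818e7a9c8538ec3b655bdff1800019743d2079a1c460060007ad585b0a8afd168aa5f6796ff8956e136ed83400700161ba8f6a5b9cb3ca525f15fa39d2adaf68c0000bc61e5c71000150018b5556c122bc459ca9719e437377b44ab6200560c2c1996c0ad540016004c6e887820f0894dd56b8aec0000704,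
  nat_lit 0x791c001d252a4a353fe4bd09752c839088aff903cab0a3489a3fbc8d000c929125129fe25e64ba56414843561068c0d2168fcf230002a4a34942a7f497912e85902a948004494492814fe12f125ceb202420abfb40ec81dd5834e76226c44e93221dde3bba0b4b40a681ed0240022b043bc1fb13f64300e6968d303408000600352d91f065605ea280001dede438001680cda996569a641d7a3ae23c6a0e641d6f5115804e2c0000009000090bcb6016bf3b229c6cbe5559297e921b243261149cbd398347068ecf21157f3533073a507397573d2dd51b31bc8347990159e033c0c9cb5397346e68e8f20957e832e9cb1396b46d68e6f2045b14c848cdc23e047d6cc6f20157d2e7a5d14011bc87923ef1fd4558c8ae5e9af8b5f36cc4f1f89c64768c805a34346f78fa08a8d1568dcf1f00034b48d97de3d81fe00015f71a163418ac0a3720aa51549282e23a9c034b9a41eb2755c8c0d041a43c802a09e42c91978fe17f027f6cb8f1f830e791ed971e3e85fa2ce90be3c7c0fe5510365b78f61b0031b063cf1e850f32b0d969e3c85dc4d21b2d3c780c4d5d3346778ee2aa8d4b1aa475c9274a4ed53dc4f55f513ea40028002557c,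
  nat_lit 0x4e12e31dcc1b98d4eb29d69a4d34a07958acb967c27ee4fe0a0294086312da41e55a4828390f169e304eae9d61a4c349e7954acb41c04eac9d5da4bb49d79522d9235e46c21298253b68d795087bc66f734ad871b0f368d794eaca9e0a6458d24da4d3ca60f9469e3499794a0043ca57948050accb6d88d09000fbca5794800494ba346a9246cbe4b1f002315c62b92684498a9329745c859516aa2f12ee2b287175665acc96d84d08800ebca3794400414b93468564ce2e9c5c5994b321b60b4210038f289e50800f52e2ac9000e52e0d1b1a4cb3f060ca4eac9d6115f22dc52f55917fba00007045b30cbce48eb46452dc0031e4f3c9f0032d079b5f3fdc5641507a4b3496a005de4f3c9d001715add3544ed306cac7a4b4002cf275e4e000a52d8d189946328d5b2cbb1158e7938f26c004a96b68c2bb21283a2f1330a661d76e2b1af78c0000ef6c92e18024bb4cf515a22b380077932d230699bde47bc4ac63c98000ca25944bb49167d0c1749d193a45492b8890f6000a5300a5c9a858ec8d75db44b68b5f5e726158b000852fca5715fd7e48d67dd07b9e193f102d558a0006a24c38a871a47f89004530000452f4a5b1a825bf8ba1d589000252f0a5595fe52388f902e00000a24135b9131157e2b02672496692e173cbd6f13b806240c5b3b8335666ce36bab3929145214a4214704eee51c0a42147b34a669460451a5f34c06d8965c36b168220031e493c915620b2c9654552ac56d8ad31996ce4f2415872b16358451e0a3d6ce4f23c4aa4988146828dc3fc6cdcf239586,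
  nat_lit 0x7004c009c07e000c358800a4a6ebbe1a48a99b0072009400c446988d49e5d768156af32de6480174f22ba5578da25944a6f34c038144756ac00b27905d28bc6da2eaab453a2a759ac0b7dc5b68ad519b34a7694d177ab48e533000d8011001588cd119d5a940b2d135a2380427990f31800a446588cc9c4537dab5099d8025bcc7798a004d3c6ae915e2e8955127bccf569c00f00124f18ba4178bb4595560a7354e9357d7dc8ad3445c000038219af335c94d9297aef06912a64c018801d0021118622da33c814902a3448688400f5e61bcc1001f1182230a70c35e5e6300001c1160da670008af305e5f800d4f0eba2d788a24f4492f3155a500191175c764023368c20c84078810103b20ed9f22b48550cab5956a2b50569cb7e3e091ab0d2c5e5e800b568d7753483531a00ac00b800a88b711713c4aec247eaad1418300002f0c0c9000106086bf2aac5584ad215a32df0f8146aa0d500026001d3c0c0c8568526da69a8b11161c0138013000c9e01c9d207540e2ad042c300003bdc5868b0a0094008800488ab11593bfb24347df0b121612b3e4bace391b8f370eb375b6b34360062f2dde5a80035678fde204535186a35a1a8030796cf2d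0001277c5d00acebfb700003bdb4475e0ab9f93bd00007964f2d0016aa63581caff9fdb2b391142228a77a88324e3c9c913952c7a58e958a2a0d541eb8c971b95752aee8a1a126b9bc747529f16929027203f1eb96892d108dda920e41d24b60b0216002b7856d5fcb23ecaea95c5914abac575239c85d1b1ebda87aca9261e4c6551224c8499400b1e59bcb1566ce2cacc38e82b2c56472cb24e92998801b3cb27960acd199c3336a88926324c80054f2c5e5780091a7a90152f855ec9899231245e616c9d6d3ae349c6944f2b9599303e6071411a60f4c22cc6da9f361a6d26f2b5598,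
  nat_lit 0x43eb2639e750b431165b663ce912c0274b6cf79d01da2afd6d9ef39c4af84c400005d655aeb17400300053f1299d4a508334066b1031cf2426156da2658000197400200033f0e99cca4f833206671029cf139e4958f13295b589a32b19cf1b9e188120cc8198949e4ce47e180012b6910100000e091d155692c5800020000fc2267029380cbc198440788069b380011a6ab6f10d19f8813da4533296566e5440a89006679c4f37d5b31a62db05e6f0be30dbdb60bcdd0bbd6cfb6c179b8292924592faf36c36079c925f5e6d0afcb309b5dbcd9156d8dbb6be79b01771a6f6d7cf35c31368d8bca9757b2896f92bafcb8d17167c4635c8005ab64a3a6446aebf49fc93e535c45a68b4a0114004800a56c64462ebe49fa93e135bc5a58b48011000400091ae0ad809615daa000c5935b7cb70c00109a2b14d6ef00010e7cf4aae5600002df000b0054008cf6d853d0a70a52935a26b35da0ad7800a00520088f6d053c0a74d9342a92b5c002401400213db214ec299ab5a00200138025210242295ac,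
  nat_lit 0x36d0001474942dc001068742b2000c44e42de0008449844e000444842d000005d28b0516254b6a238447c00540099b6836d44ee09e0a167570dee38000197511b223c00260044db31b68276c4efd0b2a15342a8f7195c27b94854d0a92164277c4ed4db39b650020004911dab82fcf00000bc64ef09d99b6536c6003800822394466a5a22c2385f7e76ae004a936c66d88006800f447088ca2c94af570bcd26512436c2003000722374462a5ed4bc34ce69f8d3f64a6ab7ef9640000ef6865183e48434aa0953511e800c0014aa31304260f7cb0adf3d7d00002eb368e749ce6c8f239e4800120029119a22d52eea5d1ebe2b7b0dd40000bacd325a68297252ea88ad1188008000e7918f22b9b086e8ade419b000038234f5698ed3394b82973445288bc00300053c88790e0cd2b76a5c9114222e000a0010f219e42735ae925b44c98456ea41da5484a8a88d400200033c8478c8f181f093df873725444468000c0011e413c80e6ad986330f9304a7915b900040004f201e3f73550dd92ac19ef33ee80e8df62b70000156c001483d507a373c935828a05139a9000c6f3c9e77ab6e88c554e9b0700dcf3c9e770d282075b68bced15016ebb6d179d824998446da2f3ac4b2,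
  nat_lit 0x357469853ef3f6329540044003354f92eeb0443f5aba0117186ac87500200015aa7309b5a0813b4277a22c573ca54000f0008d5364baac0f0fd2046008a848f91ea75844c972e0bbd57bda2b94566f4cc062c873001c000d5ce398e731472a0e55291efd79faf94a6001a0009aa5a64e8850d5a94967eb8fd78a52800c0002d52984bad0042d422584576ceec34c00580006a92c25967fc7792d18ae6800a2946fd71fad148d8cdb19b95542f12426e84c59d748a137c68441acf9c0c381697191cc23a1474033886702a9f6b466a58d4509950fa01f9d605ac0a92e0d5215cc35106168c2e1a6c2e005bdc40e8808000e0025868a9600020a50bf5a7eb25228a3dc7cc8f9648d1f682c60572c003c86c6196bda97a92f4d00e601e0c839bb05728003486b6194bda57a8a559012602415c9000a5a64b4f26ff5e9896347220008a5f54be49cd6a9668c15c8000721a5869b7c76f90a22c626000521a1868a2640058ae380015e7620046730001219568603d45260060bd2445488aa97b62ee64fc401a1e8d3d175718014225144a095886880d1d0e161c3036c86d414f8ae2802744a089294ca29915944b28cbb9977a2ef6944d5c425ce00409041e96003c978098e003877b1026003444c3046003014c1b4c002c44f42e6002875042d4002468a380c002080614f8001c68942e40018688,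
  nat_lit 0x34fe9fe5b14b62a6d3af518116447d225e44b0030002af5155e0096212042419a5b6af4f510add85a2e92dc5b4a636e52f50c9363ec0d53db4a36997a8434c84786d30f5040a92a80dc99ea001fe9b955cfa6154c364d0022b845908c62f045e18008577e4128737000c001c5e10bc117182e2863e8b901726aef1e468cf52d364160004474e3d32c9600061f1a2d05e9400082430d36a334000808e50d2413800000e00010d512bd45790bb7850a0a0caee80011aae1cb8c89000035280fc1a9b1f2e3e62d3c5a32b4f53ea27d3016ef4f5e9babb84c2498414a17ee0fdc4a5c001f000e6f20caf1960576c003083b10645c30b8a9a8130e261c0eea9dd6570eaed1cd5260e4c18a4fbf6e7ede52d800e8005378c65715d90038001041c88302e145c4cd3f986f30dc774ceea2bb0006c0019bc432b465712c526b24d61274206c1c63575c001191a011602197b02f655efac37a43fb0e2575800099193208641827a04f61efcde69bcc09e813dd11a04f709eab431851b556001aaea991600182113f6100002eb0495023604783f7ac1592f6d54c0050015295cfd9dfb02ba80050004b552613eb42027884f3446013cc2781bc8574cd31a7e07eca52b000980086aa325e560987ed0238ae930d790ee0048003b550613ab41827784f1445c13c55d1,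
  nat_lit 0x440247f583a307474d6caf98003401c81319be38a4695073f0002401a0c6818e845c0df000089d8102803f0000010c00520094dea54841da03b58918e991c8e17292e6ac3792138d141a069009452b0f8711f0d0d202249749309d040a98155104cb1324d9358a0082013188a3d61000c000d5f25a8f214c32a865429e51fa56abb1106d6ef580002abe305700000ef6979157294cc7f32fe6ca71bd5e00064b48d939b2582b66efbdd16309233d833a8cc37e200c002431107aba00088bc3a3e4e609cf9f05697ca12142495422aac554c0052be08d6c8b5917222e845f130c261200120068aadac0a1a2c9628008028530800077ab25379fcb3f95298c52de404277d24b0af7b3399548d82530b260f000cf561885804300566fb15ee15102a1d30700057aae5371fca3f93298852d64032bda5fdc5438a864c1a0011eab14db7f26fe48a6194b457b09c893983dfcd2dd420a8422a76553caa600037aaaaf58ab0154cd6a4e9e9d3f6a82d815309260b0004f5515ea2fba5fd0bf826104c140005ea994d87f20fe38a60abd2fc040008bc600100000ba0981d306917122d2459c8afa7e389b8ebc65b23adf4eba8f75288267644968935bcbb7987d643c68c5418aa8ab515714642f465f1cc16d45f9be4004600ed881bd500006af43f0300002eb1540001af538a69bf8b7f1252f234e469d55aebd05f812bceb58dc11af4055ad1a7234d94bb7f10fe28a693d4d5799f7dbeff24969dc23fd94aa2972fe21fc494d17a98af2a9988b8abddc320063f29bb1f516a1489b61fcf52d5e4892a0000704362454ec0043d49299cfe19fc214b78d2f1a615694494578c2310467497892f53fd27fb6c56d8b1b4fbd48578844f88a84f169fe9b15362b6d3cf51d5e1,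
  nat_lit 0x688327a1fe814c829ad1b06361aafa663c003c00b2c14bd764a0bae76410982d0d3a1a085267a40f47800e58250fba1f874d10a490cfc2923d1e7a3800680144058b043e7700003bd8024004080a8009000b3d187a353021e723ceac799f3b2c0ebbe587d0e6b1cdc0028008a029003e008c97626385818f9f237048882ab85569a163f0010b82160009581437916614ee2335866cc1d5743610b0215800858113f9a1b9437017c02f8842d0854001d6033f38d19d45328a9662a0018bf030707ea54832964533a0014aa7190468b94b429635338001160281cae6b1d3c42eb45f4000c85f4ceed5d1987b3110004098a164662000040a97c32000465d000600005d23cfe7a02141a190432e97ed57e14e37f60fec8a7d3d75004698b1319b6266ac47580eafad0849fc9e0dd464ac466851f1d61f2433229e45a8f78c46257408dd48c2918c231c4659319262c25c0005c009a01d000a00096013abed585b12a6324c564b7c00b001240391fcd2e72c0009c81389d5e6ac0d891318a62a25bc0054008a01b57fdf0a085b00b60175892bd72002e0050008201a0004aff000f13cc279c4f589fb6fdd0720ec11d8357aaa2795fd158409bc1371d5b6abad885317262725b600480072bf90c6dbf2885800b001698913d6f00280044006a01757ec008000c13c627904f409f86fd70714ebf9d8057a4afd355a6c3c98ad31212d8001e002d00ac7ec4b8e66655f9231a98a531192d7001c002900a27004b986660ccb2bf0002500a20526704da15c019be407000e04388abee002100c259c4b365d00ba4258b91f923ec5512bec001d009204f5ac4ae1104f20a244f66cc55f5000c80450272d615ac4b7b96f8acb657d0002a01083ef2b7a56fba1e759cb7345b3,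
  nat_lit 0x13f8d041a0a33f8c3a08ea11c74cc699749888048585c006800c008e0129ed2b15801200215ae8381b6028b0b000b008c4c60acb15a458a71fc562639bb85322add61501880030d330190002c74a0190002830c0190002444f7b48002068a018e001c5d4018e0018689018e0014688018e0010309018e000c687017a00085d0006a00046200178000014b86e50de121ca4cc499a9dd80c4018a10ba21780190033585121c24cb49989dd40c3818910b8217401880320174b09ad080e6e00a0321001297cccdf99bd384e019803f15177fa0ff3ca802c240021394a72a61aeda3d9aeab875072a018fa3ac230ae00000cba0f901f19550000c0064f4d1e9b853c86ad0d8c2bc856eb082b774ec00f8c1f1154f000a0060f4c9e9a853a86a8a2c6324add93af83e207c2553800200173d307a6614e0facff25fe5151100f00180e1099b7337297b40018016583c1ef954c00040054f4b1e978534869d0d6c2b84400b071db58afce51dca33a8e896c0f7c1ef154b0002005160d9296c639170a2e307bc0f74aa50000002639dc7372c1855241ee03dd45c48b8c204043039b304e656ccaaa35a86c41c5db7676c1c85e8e26c90b682ec43d879310f93fa866d0d0af7c56251b61906260f4c167a50f498012582d7733320002200610180026005400b5ec4313b00e640231005dcacc7c0080017405e0094014802c7b0ec4e8802,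
  nat_lit 0x33ec0018688120e00143092b0400105d333e8000c44a33d8000844933d8000444833d8000014b889d11400040017301e91808273f364e809d0530c99eb588cbec1f2a5df4b7342ec800c000f113dd8dc7043fb2b11443100003bdaef85b96175c00500054c78c3497fa2fc65f6b2d862182c42175800480044c76c3443288653519adca1bdc46525880001a63a61a0194032928cd6e512b4655caf4a5bf6b0fa2c00b0616002cf059f241c02dc05a85b80010000961e44210b5a5a2384c0b6e001c000c4495e5922350712c3a00140002636566b236d85ba0d041b07f44fe231b337e2223af2a911683811bd2f22503a1ec83dfb7b38c9c8bb917a00cb01947c24f843a7367a8cf559ea3a733df07be8f90c8a5701d0770f9dac396d44d9b642405d10008b0e0003001a4a5c94718a75578aaed0ba217845cc8b7d5340b9e00080061296251a629955daaba42e685dd172ac364a3094a800b000416c9c2385ab0b5327f5ae5b184586800085b1950a88211019e723ce6b2056fe850a0a06b0c80000b8800505b251151d41a04c9999334d0e250b36317b5cb0c007f94aaf6b42e589b0de35ed6078a575d7203dab0f74470378c7b541d8c30b6f18f6a44b15b28cccded409a24851bc33da70e7d6d2378a7b4c1e717f36e04f69455d,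
  nat_lit 0x6cc8000052e2abcbbc5ea28ea5087c8ba5eb311d8017003d1a883661626876600005e36d9eda6a43a85fe006200b1331b0f96340bfa57ee43b258963320011197406780102410067800f25e0067800e2c30067800d1d28067800c0c30067800b113c067800a25f006780090c280678008175006780071a2406780061a2006780050c2406780041a1c0678003112806780021124067800118800678000052e33137cd0fb21f60334066661cc994000c801f0b9e03316242148003c90400c0003897801340034d3333e6003097233f0002c74a31e4002830b81a8002475033ec002030a33ec001c5d4,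
  nat_lit 0x76000183a50da900162278daa00144be0d6100121850daa00102ea0da8000e3448da5000c3440ca6000a3a48da70008343861600062250d9e00042248d5a0002224001300002e9456f97a52f417b2a3bd424723397b6c48a008401446ac2c5311840000bc699dc02000450c252225b5736e358f4b1fd3ce33b088c0b14431471172b242fa8045007f121d7b52d3a5b2034056271b3e003c9042f7000385e30ace003477b067400305e14532002c44c4964002830c362a002430b496200207501ef4001c30a372600185d449600014688495c001068747b2000c44e495c000844987a20004448,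
  nat_lit 0x424278900180034008801c1a88fd51b77b4b493509afbfbf00002f099df934cd2ddc76bf521a840068007800b0012bed1fdf2c6902c00058bc235ec005089835dc004829835e00040ea035e40038d1435d40030ba835e00028e98347c002061233880018ba635d80010ba035d80008c4000040000ba515011b7a37159323c2c786b8df7e8a34d400680020000b198d725f4ce07e562c5cb51e89bd137b26f34dd8b1d93de05fb0bf849b0a671c8038fc04a4095a354469d1ab9c09881f1024a1f57c123da4280b5796d80d2100180005632899655c0ab748c41e963c8c791203f1a7434cc005ac62fffd756c8c291863d287910f21407c34c068e800a58c14c6334e9376c3657cf8f081e12e36dfa08d3100124e9bf3571b12bd96dd0d160010b178f731ee83e60689800708103c181d103b2346400306e8347868c0005000d648b6fa6d8b2280314805c00ae9a3989231cb6028b173e2b000032e803a0070182c02d80554d18c48835106a410282055f152c5a015224e2f7f91c084d51e7af7797c52f91dd425b958b13d7ac92591adbd9b60c89c0c4a0160029a68a6240b15c320713d2b70304005800a512697bead4d5b46345162a1b560038990831c0034704,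
  nat_lit 0x17001e002cffda8b45576a18c9a2bff95b12b791fa62c8028940068bac5fb80060bc25fc00058e941fdc0050619038c00486165fb80040614326c003900c47580030e985fb00028d105fb000206125fb00018d0e5fb000108945f900008ba05f900000c400000003add12fd0b1fc5b877a92b95c1fafc600360074010802c1a7e002163e70271d151d4a3aa6514e3f9fb18d531a7c351000397732939ab636da70eb309599bc26b016602e00032c7a3c8026f84e0759f0a240098016000ab1e0e611cd8bec471b0e33013e02d80021d8a14503caaae753b434dc001ac762b603d580b00168000963a1a7434e000080fc352800000131841de63bcb95b8e0d97de8012002800600118d3658e4204084e4f1e0048009801700443529fad36f56974b1c40b6000032e8020002a0044007afba70672b65de43bc9765ee79605aac6efd480000bac3268200840410949e2c007000f002600786a33f567ea2b1b0cad1932100020188494f1400340070012003a3515635,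
  nat_lit 0x84a1088117222e846031ad005800bc01b0d817f28fe4564a005c00b146ca8d355b4a2089b24018730ec14129da74a5768ae8801100243dc50470035005a00a4ef01de159264358000178c6bf0d71006800ac014998333212b55e49bc9176a721a8b39006600a8013b1a813f627d04f990bf36b477e8ef8ac91243c006000e1eda82280188029004c7788eeeb24f591c7b8800e1c12134000d178c7bb800c05307c2000b113c7c2000a25f07c200090c287c4000820187c180071a2430d800618847c300051d247c30004174c7c3000311387c4800211247c2800111207af8000174a38ca49a8ea0cf50cbd9971002e0064010a07a1eba3d7964640f2008000c001632e065f65614c7c78faed0242e2c8a97c1461a289451c87fd03ca0781ad43574010001759121ec00001ded8c98012002a00786ad8d6840ec3d647ab994187b30f5d6435b1eb79400d801d1ab4007400a00116324229444fac8504c40000ef6fa8400041301de9c88bf761ada0064008800e631e228844e089a20befa816417e9a00005e1,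
  nat_lit 0x105a00081750a4a00071d3105980061a2101e00051d2505900041a1d059000311287c680021741055000118810540000052e446bcac795d2bc0cd5999e008801180278d8c1b32829d6521b1601380228042638628585078a0e21b46dd4f0aaca29c6538c15e92be257a001400291f108294026004459420e6800d1c10c9f000c0c30cab800b0c2ccab800a1d40cab80091a28cad80081750cab00071d30cab00061884cab00051d24cac00041a1c7bd80031138ca680021740ca580011120cb10000174a444cadf333466340198035007c35ec6c42096413a652564f1aec35d06bd003d006800c58d90a0513fc27f4864ac9c361401d00330060c6c446208be117a423084c208e5934caf19464134824c6c28d78007600c8018198a332eb262e021ae635c46bb803a006200b98d78a0213f627e964b7f2400005e3,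
  nat_lit 0x258ae6568cab21c81d70b2d800158ae33d8c89000051180fc07dc0f85118c3827572b5317c52f5a92ad2d21f4facb4023c6b1b6909564d691ad0b4ce1f0eb2c808e1aa01fe813c011aff0d9cd0b6a02306b208951a940458d64959000900840106a00045f847908d087f0ef3845608b216a5658010e020c040b02c714b2d2de1d3c3b7742e95cc322caf03180000bac01ac0352e345bbcc0398d7b1b00e601cc94d6b808818ab2b001a00d401a5719addd601ac6b98d7872f0e62a6b165500d2006400b8046008a5814b0716064e6a9cd8b5f9b66701038c0001094cee6071b000017b00042130d20596832d244461c5838faca8000c84b172509fc00110992a402928001212ac0b04d40000425897006c04245cb139b4726c0024003806d00ee97495fd2c0a57f001e003d001c0040030005800a8782d6530d8200409041f3c003cd330078003877b416e003474a258e003030c416c002c44f3288002875085c6002468a,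
  nat_lit 0x68b80200036005c2e985d140ee17442e980170036b354aa46bcb2b68a300020003400582e905d109021201669003e006400a85d10ba0120023fa6854d18b0b96952cd000502e805ce40e817382e800140030007468a2dda599d7d4a25744a01000206801e002e004d9608d101a1cb33196582fee94d95e32bd6bc8517000e001600241739665681f2a7db9fb5e428b6006c00a80110b9a172d038acc924816eb2c710036005000805cc0b9481c1037847b598d7d2ad6775a90e7512603fc08120068009800e1a82415ad6675a70e7112583fb08100064009000d1a80342c82a4214be900000160004000111e55764aecd810af6b5ed2bdc97d12cc4003c00091e4576245b48b89446003800011e24edca21c28686ae455c0058e94455c005089e455c00492f8455c0040614455c0038ba83ba80030e9845580028d1100b80020e92343c0018ba634c4001089c4530000889217440000890000400403f707d488e9120af9366a0e015c021c23382e2c884ae897412e60a8014f288c054e0a99548aa9455a49651887b0916308c6159f9b60b351a4a10941302d56444dc09b136416c7f0c90a5394a80b8617182e82cc23cac79d0f4c1e903cfd3030c7218ea34000028007598000303f507d088e21c4bac05aa6be457b0c95d8220b2f8f381e943d1879ea60418e031cc67f0003000a0fd165e0008233424384910c6425e965d0006585a0713a08741f03c165c,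
  nat_lit 0xc08001c5d40c1000186890c0c00146880bfe00103090bfe000c687006600085d00c0c00044480bf2000014b8986ea2d3fc28025b789da53b28011002400e8019803059c60cdb5b065b6cb65b001478007000c801785f70be8b383f4e00002f1a7664ec400380078037006000b42fa85f1237e5229fa6963ad7f4a3a8035005e00b02fa05f129ac534d464971359bd133800b001a00d4017002b0be617c4a4814886550b370415001a2eb002d00184bc031700162260422001418602650012185841d00104be3ef3000e345041f000c2ea041f000a344841f0008184841f0006343840b00042e804180002310041600000a5c0102ddc5c0dbda14c4298c17842f2001c003e009820aacda007800d85e30bc05314a6243414f986ffce011c0459b0a318023003a00642ea85d40908120d344a6905864b35b5e795b85188011001c003017502e9848309049a20bd1,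
  nat_lit 0x2055ba2276011de15a032e065c4d89658d94a100c2b3b8ccf1ab4017c03014a06c532e75ae788e911ceba5967600b2017c7210e4363a436286ba191e40e0c101789acea016002f149e6c4ccbfd088211d877531fdde0352159d16f0278d4f1200d401b005e00ae0080007000b23cc6b2b2fd6c48527002e0056003e003400614fd29f4a3c0f0b86f800347040c2400305e30bfa002c77b0bc400289720bca002430c0364002030b0bc8001c97c0bc8001830a0bc800146880c1800107490c18000c44e0c1a00084490c160004448002600005d28a5aa03140b2dd04efa9de40128026009c011c008001259ce0d480001974a76060700200038022804b2916d84d97632ee6b8706a16720bfc004065d0c0e003c90408fe00389780ba40034b0c88a400305e10c12002c74a0c12002844f0c06002497c0c10002030a,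
  nat_lit 0x2fe1764eeda5697a5ab4b32c17c00e8011637eef5e1eaad142ad855a90fc05e20ba1f8d8010637cef5a1ee213f5a261d880001c124ebafde7648ed9969625a84b2cc17000d000e63790ec168893022acc55910f905dc0b95f8c000d6376ef4e1ecad0e00318dd3b7d98f70b98f5947249974d02c42988525a18ec1889d1138224cc10b5549690da99c713f160016b4294021e523c65896333960b0005800531b7445a88bd68485ec000070440e081be64cbbce636c002000a30564b20968969342f55a0c17402df7e24001d8dabbcd87a684d8cd199a46604b413f11000c883d108a58d5e20bf3129ca53f4c1a87e96813b022220446981b6a9d2d09b500c860020001510719b89da1537b1266666c1480080004441a884d114b3055a01892b33260a2003c001b1b177930f39034206b0458b3f885c92ec2a6454d10ee05c60b69f8680024416883567e001a00058d7358e98e10b6cf53c719995e35206a4acfa0002513a5e94ab88ee51dd1dde882110525865e132e40216043206d40da57539efe3dfedc05be2af86266a4cb49959323534ea6a9d0039432c8058fa19d2c7257f0da4dd014072213a0b7c16bbf0a59f0ebd1d761120223c44318146a8f2cedb4cb8d57e12b3dc7af00002f0a12d1910001df8382d405b8426a037b9ff76aced5e3d72cf403880ca019217ba2f7d06138af71bf2ec9f8324208aa1a5d34b7693cd27da5534ad71a2fc1502747d4a3ad578349e6952d2b1c683f0459e62014c9277beef39c6e4baf7e06151a0766938d29da5538ce7e042ff45c078f2f019c6ccbad7e02423c42777dee32dc663f0017d463ab8cb7dfe148b0147dfc05087225e2cc10d03999211aee36358ea8e461c8a0189678,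
  nat_lit 0x20b500007ebe3bd046308bae0b1cf39c620002fce43e707cf0f9a9c3e0b4ad367158000014200164c7112515c82b948908fe8ceee5e6b8b098b29c303e507cc0f96fcd8007030d5a6842e33c267752f31c57cc584e161f243e587ca7e6ab4cab8f906f287983f3bd46e9ef56246627124e12fcd16989794e2b662b27090f8e1f243e43f3300160c288642d2e1f1df99000a061444545608ab85c6c41f883e277e5a5a4c3ac9404e809c98a2b6276c50d36da6e3f315a54099012c023e047508cc38777ace2fdc603f305a507e7829b052885303d707ac717efcbc3264ec6d891b12b4d869b2fcb83764094b4516892c485896fcb569311a8af5d5edac475894fcb169215f22be88c3c3f4720cfcac93e4754f085e19390997b0fca83751e453255a68b4d47e5234caafe69a6fca00a905ed2f55f938ae000a5835b34c627e3cb079e14152846bc3d40728085a45fce800017580138026194e853243b322994a86510c9b9808300cfe7169060d000980128ca6429721d59144a53328664d8c03ad1e507ca088f381e50c4ed9a43067004a00658e3223c5a3a15b8000175903f4ca877bac71400b802360ca967d2d8ad3576df0ad968d22040bdc1773f21002cc711dee43e2428a66c8cd9ad180bb5f900015443c88812ce2f1f5fb695212a7261c44fc00a221d443e0ec01d8839f4208840c486890a50f2b45a8045e0a5064a058f321e44c4d59a13061003e004d0a487ac00005d6,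
  nat_lit 0x3ef000d2640403000c2410404800b1d28403800a0c304040009113c40000081d4040000071a2840380061a2440280051a2040000040c244028003112840280021125fdd000111203fb8000174a059c0b621c2c82c009bf4c0fc21f883f027222d261fd96a68d951b304a9895f54d4e31663727214e40fd2c0092d4a9e593cabbcf212a42597270ad015b244b489a00125a924d12e0538e40045fa4a71e4e3f31b1c61b72112beb51c42e000032eb8c198d49c7538e3f47001e71c1701c9a05c02b7f2216ad4500e00000bad2f35c199c6e001afd143ed07db0fb4fd140069c6e806eb50c42b00002f1c17c000110a89ce76c8b7dd6fe499b5bfc71ac0053f424e2e9c62632c17b5a813c63bc6211842357228ac715a0449089580097e82b4fadfc38d20021fa027154e2d318dc5d371812ac2520f4f000efcfc3ea07d50fa8fcfc0039c68705b2f1c231a7b90d28e889d132e785d29cf61c67000c0058186bf405a792f6452b78aad9dce351c72932cb7e4e3300057e7ab4ec42776bced896f849955bf071940023f3c0fa21f4969c7ec0000077b,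
  nat_lit 0x1a6acb315deb27d400d002e0082fde9a9298913114b5eb0ec5cee9be137f49f4003200b4e4b916322b82c216bc90c0000077b4dec9bf24f90017005600f9fbb880c1014621e430c85f5aed7bfcb405df400580151c94393ee890bc117743a96b5d00150052c8d01a603447eee01b113aa277081010256b9834200005d630dc61b55cc287746e60050013803a7ee69d213a4c1a05ae22ad800019751b88012004a723ce4d2e2d93947298e4f349f694115696b72cf331ed3a327457ee000dc012001146e0a1d15caad6d1575a4f349d393872924e42e2b3930723401180105ad60910000178d3a13f6d00680084007236d50e2ae48c33986862cf04856b480c200005e18248c595c2b4b345720a1bd1b5800c003e7224e4a40605acc00f000b46d4a1b95c78cd21990128c2562f090796b59000a46d2a1c145aaaab8e96acb63d4c7aa256216356b100122e085c24ae970d6a86150cadf55c02b7f56b000102e045c122538910ce1989eb13f4b3e0fa56af000e2e005c0a25215662b551610aab1558b57000616fe2e01128c48667092b764e62d5a00145bf0b819974e691cd03cf65422b56000416fa2dfd9d1364164c213756ab0006771cee41f7d0e6a1cd82d800042dec5becae2705527fc74000022de85bd9728034e06a45b800008d7825946bca1895c1cb2762b33255a91a90f5d32d4c59b7336d7b0af61a4858429085410a05c90b8b1804dd318b208011004a9f5c6c4c814e681fc83fa07f37ebc00940092d54961d80d2f5e4bb6897d12e80547ebe0cb001a80245aa580caf5d4bb4897912e00537ebc0cac01a00230020b542ca35d66c295dfdb7767aff23cd6a235067eb600896a7,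
  nat_lit 0x361c002868a451a00245d4451a00206890ab2001c6210b2c0018749451600146873e28001044e4508000c5d04400000814b808000085e300060004449000200010fe99d407580eb80090002b650000001222cc944128925280f481ea4d0b787915116c9001022c8943928825260f441e9cd0a7876e83a01dad90001c459a9f98e16be157c3333c668cc6f45412d8e001845929f75ede8e711cfbb62455eb63000509fe1400db017542eaa26280041160a7da3844c22983c57900037ff6e76e64339ab0d2eb628002115c04d009d07584002b620001115a6bcc82490412d9c00008b13c4814988aa6820d02260d38fd994c9d6440b88191030fe096c336dedbe5b7817732f105e24bc73a303956728001b2d84d395a322eec5cfc9c0138349fc004200d5920116330e25b5b4db966ebbee4fd80200068011dfc0352b312e76fb02c69ded38da312eea5cf89bf938249fa003e00cca5b7008e0265b4b4d9966abbe64fc801e00640115fbf2d82c0a581534ed69c2d1817742e7a4df89c0a4fc001d5b019c23802700f2d9da6bcb335def27dc00e00300086b5fb45e5dccb9e137d270093ec006c017b23a22ba45796be,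
  nat_lit 0x48b7a5f422de45ce540293d527cd6dd91e4ad26207335d67da8fe8d189309261ba0d741d04a08c81b1e3640acc959cb5a11bb437891c189a91354da4262f38406784874d0f0447d78ee8aed15e26385f77310826f046a08c211799cb36a2979caf44fb4959b5b50000117200288b798f62c205845bbdb77f73153191cc5bfb65b4dc174c647f6a2ac2ac49776fed049346bed645fd98a7f13e5c793fb20ee4e42a2357f621d0416a730cfec04b181e4e619fd78ae46ae5b32bfae15b8b9b39857f5a2579330730afeb02e1889400005d6000e009cf26028b0546cdadfdc026650dea1d9c34c4495b4801380069652cf78ab3129b254c23440138026564cb68a56e6eaae6fa63188d1004c0016594338867130a116d050e6a1b0131bfb566d00a801441e4900480012593ad9e000e59333db2ac64a6095188ce0048008d591b2bf5b3a13f800017858f832bd6578000401108cc25424a58ab0b381670b09f96cd187c95a65f1374a98bc233001080009646cf60ab01faa886400981420a08f21801e00240040007ca806640e83e0278a335b3220b00001758f8e000c001c004000e88c725384a7495403e607d110556cb441a004070422b6003cd3344a6003844c451e003430c451e003044f886e002c750,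
  nat_lit 0x56cc0028d1056d40020ba656e0001889c56e00010ba056e40008c40006800002971dd5deb4d1c9a34c96592b35d152b0a55e54d001a0032b70413e00102eb1189000e2261187000c2279184000a4be0784000818511860006310801400042e811850002310118000000a5c14f75b6f6a24122ad9608456b4007801122fe98108bfadbf0b3c0000bac0604ad4000d001d2a394a5a94c6b8ac929926cd0e859cb6f333475b0f696410aad6607e56a8006000e22f898056dd8586000070402fe05f8ad2800a00172a2d4a429496b84c91d92542c25b7121437772b5506da66e306994fd29fdc4e95a70012b6dc0ef00003821aa18ab4dad930a482e76b0eb7a5440008000e56960772db42efc5df41b399b2c19a53dca7c2e56568400300073f01804bac987327dc4fb795a1000a0019822b0468e16b6c9f6e2b40001000311744bf245d00030010267f28f96d857e0aec95dd2c615779205e40c2acd606c5684001adaf05640000bc2ae4d994ccb175252059565b0342b3e00040014a8282b0b6b10d302ea05c8ace000000032a0549f293f9444baf96d5,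
  nat_lit 0x4b4a974cce7494a417d7392ffc8000b5726ac8c29d6eb8da000045e1000800004486ade861000580035ba990926a68bc8ecc19cc929082f2e715ff7000a4306b74ada45932b2753753a7b24f44a354ca29875302ffb4ea94d491789d973397251d05ddce1bfec00108605aaf2dd11b29e6d48c24dd0e9e493c128b5324a65264fbfeb5b9c8449a4a990ce57e6e4345b68b8ffa96e61c232f01d1fbc51993affa437638ec5ec8bda2dc09936ffa0a0f25dc711d937326b6bd0ff9d6e5679137f1e59cd747380ff98a33878cf15de264c997fca24543a09930ff900038938e6f5ff1836706700000bac00bc01d136994d0ba117499075828c68e8d1f31e38336b72396e77d534c2697326d64d4d7954b6296b955c00b8a4e830200005e3347668de0a190725d20ba065329366006e00b255641805b8e2beb6d94c6f2145dbdbb01955600ac007800e60bab71263e4c46006000b000e00187e4d5fdcbf86d9a9da96e18a0a00385d6206600345e12b7c003044c27d2002c14c2b7a002830b1bdc00247502b6e002030a25b8001c5d42b74001874c,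
  nat_lit 0x20a30004225209d00022e80004000031049039214b461cdab5c3975cd385be50c13182a0038001adee00080022f4295eec65999bb33864b4c87166e2cde22d46088c1300180009535aa5540b43c48789aef141c4a00000154d4a89950ec8345a1323fddf9a130423a92916f60000825c00a3d3418cc31828ad726d1ab943d2879533d00256f5437a86f8851001e8013002078866c8d1ea0038ab0dbb1cefc006124d5be3355800a2b1338b97bb00103b12436d8160018b7705cdcee400215c96ed4cb580021da240f73b700004af266732d1fff875417dc2fb00080d6410b82154d664a860c4b9d57ffc00205570aad38cab7a2602044e085810a26b225410621cea3ffd000e2ab56f35d949804113021504269ac494fc18773a6fff00032de40849358129e830ce749ffd800515562aa8e312e275bc60e980001786228000083a435fb3a32535060dce7bff800042aa054eb4205c48b8ca227ade10609ce73ff700022a9c54eca685342a6454c6a8655bbc0000aaa37106e198c51fa85bb855700040029c189bf23d38addd989b24563b6ef8625680100006b769bf13d36add9989324463b4ef82256000f0004d5b16ec,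
  nat_lit 0x1372651db3d4c6e6f9900ac005b2082e525cb4b982e0e60d8f071e0b4ab09549b0dccd565de36f0008800a5c1924dcbcf97f4d7ba66a32ee1b760040004b206641ab82c0a100002f0c323864a6f3912f0db9001c001d902320b5f2b33fe0502e0810302023a03804c0019901b20a5f2933f807300e752e8002a4db49b530c1a96b52c7200adc15b7caaf5c0c002320468b8ac0a3f1c7e23d2c7a544a489485c08001cb2163f8bb6429c053b17ee2fe57010004b41cc26896b12d8b9d97000002c8024e32e1356a8ad5d6ff00012c7a58eb15962b424c039563fb2c95272a4df6b62e2b9da9bd30607ec0ee508ae5262072bc9a4f212d425892b9256aa57419c8345430ca0973c4cc6e5ad0f2f1e38c4fd9dab3b4812a2264b331665450cdf0200fadfd0078002317268a6c9195c7a888511c4098812b4d25bf5bdf401d0006c5c5a293245571ca21d44690252048b7e1dd45ca2b595191a322901ae7de00e2df6da5155a27e24fc6e7d600dadf4c0a56482c8f9a8ae7da00d25f2c501cfb401900786cfc018108800a2f4e9610c6999a3b34864d4c8b1c0a0cca197eb7c80135e9ac69a186149983bcc87cd3d0d8c1b0615796f8001a00305e1413e002c44c2388002814c40b6002430b885400207503474001c68a414800185d404c40014621414600103094146000c687,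
  nat_lit 0x4586000032eb15d0012006d5b8a139427112cc69441329a70ebe62c2ae320020f039e085cb52b357dcb90068a08dd11b923fb5c6042dbaf79a6d04c069344b1426c84dd5b78019000e8d48018000c7814f032e589596beddc7f344e46e48dc17171a4912bd09a213556da005c002b1596dcd3124d652e2c8921099213456d8005800231586dcce6acd649ac2489e49880001ded0992b6a002800098ab27ba21e40e7c1cb83d3926724c1715002600058aaa7b921e243e887f41af768054c8a91ae292b39776000e0000c551b710e231c04380c708cc962bd0bb017619762b84957980060a340082b66425c84b11210f831f0895112a2af5b5eaeb89ca9c0016003d5b2a12d425689047c10f834a86951171256eb2a6c005000e56c884b109522401f023e092a12e232b09ba938f35f592b017269dfb3be20024006ab633cf205380001784006000b42666c80d9425ff03ce079504008948153029971000144c0098141de7304ea35d48b7e06fc2df6d70f00124bfc980183a3076bd8da8031fb96643c0570e00104bf8980b9217244b7996f39eba5c34003a12f425cbf5449089275c3000312fc25fd076a0ed937847ec00292fb25f89b7940388e739a800212fa2600142c2871fce000d70b2edd0a4c001212a425805b800100052c397ccb214641a004000b8dc296c06f4570b425284a00000001961abe61909b20c001e00586e0a9ccad5508ea11c892e343208b3ade8ace92825ea35e973b7337266ecc1f6cc4d1505b80b6e9a32cc099e1c0a4115059d4b3a22956f9f00b8007320b6424be5e58600005c2a193432b379d2d746df8014001ac829908af969616b84a221444412f426784ce467a8cec099013d00260031708,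
  nat_lit 0x117c40008cba000c0000296d6c409600060004b92c3af00002eb0006000804a8eca1d9f76486208c3e987c30cedf921d72e48001661fb07e2dca5bc8eba4c8192d098322f9c5ec5c8cc32987a30f66201d911d9d3b2404a00010004987cb9100036d0605d80ba8df53caeb9080026d06e0ddb6736c71bcab9000015fea044400b000094c00099872c1e0b6f96ec3add31ee4b126068bdae8d602d2e3e00000049cbf4e86db11346268e30330b1139727265c7800018313064cded862b0ca617d2c5d8ae405b5c7571e4d1680b42ac374d7465016449339d2e8ca02c09649c0d94c40571689558ab6580ac1d024a66ec501542e243fce8be02a0642cee5a6940530e7ce55ba2e80a42ae803b02ca05691b1a36509ec13dc272a24a4492294d46c007437965c1cc507486e8fa3da9e363c6e617cc342e390af00000ef68e159b64b9066cb26c91440de3007000dd8d2b4868576b8d92826614c6ac4ce099d1d383a7a56eaefb003a0088e03818200007049658008000daef995b63a7074d099b1334c6a598440c04e2a0978000175a627b6ec62be002c00eab73427684ea25a8d2a826904b971a,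
  nat_lit 0x883ae9720418962b049d2ec0820c862a83a59810226840859a8102005be1226e8a203f8755088c0000bac5571b30cc5e4aa89554011801a47bd157e2af23d68444b99c55700002eb466400011558aca8ab88f6c00b802198b6d971c80cba164ff390e720c6635cc9b393ba847a5156a2ada3da002c007d2a8a55098b4b98c36b000032ec66e00010da865c78e4f5562ac23d70026007662bb65871fb2e7593dc66d5cc2694366e77488f3a2ab455747ac004800da54d4a98b97b26a78e0f54e2ab23d50022006e62ab65671f72e6d72e1164d7ec59d8b3216512bcdd2ec43e3fa08f500082e5b154e2aa23d3001e00612a5254998a6d958aa89559192d1e9000e00313149b29b8f89730c9da71d4e386434b96407c00002f080160018cd50fe2c43a74b32bbc5920b2e011101fa03dae56002c00a25464a8b313db2838f571e6ef08af395e55ca9472907d20f4939e60db631478d153a2a7a3ce0014b94b3399a3ee855b3223c58a9b15391e68009002731348316596c985e36bcdc8a9a8f3000400129898c22cb792e507cb4c7318e7676124b1689b1b9667ecd3c003ae4e03f04d4022e045ec5de51a2e7c6b86d6e40032e4c69d0d3aacdc5a22c6dd99eb34d000a21a9ca45a20c6d999e334c0008236157a2af6bd057a235b500065119df257523dbc7ba35b500044e31f87669200040a9,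
  nat_lit 0x60be0040003a07440eac37e5aeb0cd6154b69e4d2499e5cfdc53cd0239907344003409b5e56b8be5993014640eb9f49a39344b69585430cb96b6c375039a072000a0038ab3657ae2966801cc6399e001204caf295c5b2cc18092e7b09840000bc6c3225ac30da40e081bc001000b60b4d5c5b1c393584c0b9e1ccc000302597932e2a965ac03d901337844586b6973b21aec365037206d0000002582c4c476ae8e4cd8d8ae7400160933b049d2d3a5e41d105c00104ed2c100a20001c12499bc131000213b261742f0000227651ef8d4a00004ecab9a06de0903afe9d213a3dcddc08e4524383870257ccafa9d33c08d5ce514e3a6481180bcb0bb81162110aad9736001c002a0bc33886779274a4f349de2c788c206fa0dec5564b9a000c001105d99c333ba93a1279118043281be037a15572e64002800341746708cee24e722fe5cc0004000482e4ce099db49cc93c12760b1b1640b9c280b1cee3a0885510ba15502aa65cb8003000282e1737968a431c8678aa615512e580010000416ecf26654ae6c00065ca8aa7154a567e637b4b25d2ca9e13b547259ca6ca9d95a4ca83390676267f33e812e025c84c189848e16e06d83e4b3060e825c84b833e899fc6760cdf20b65cd40004b94154c2a9485b90aa51f8a4052fd03c20780b9a0ee61df8bd65aa33a3e81122d31bd098c102205405edee986043892678366a2c0860875686345e810a2d11b2660e702103a0,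
  nat_lit 0x9f213e26dabd880a4214825cfa2ad00360048d672e9c1490e42c93c9276ac440078011359a6b51151a6d65d3630a800017845b80b67455800340079acb3598910590f339e7b53185118200180038f9f9e3035886ae549129217ab648849112e98c3ce5ba3da78b566b28d64800d0018c6bd8da22a85d2e45f000019758d6800a00166b1cd6445a97b4b2dc9878b59a7d1322f574a0012c6c65cb85180a32f6026d6a34946952d7dbee2e9322f00000bc6001c0041ac4358b1699ed14b6f61dcd65df433de29176ba4415700003820006000ac6b65c985140a2af5f26d4a345468d2d6e0ab2e8f2db1ecfc5a335846b040028004634ec6b115022a85d18d609ac00008000d8d3229e560924b9f5649ae5580ba280030004c69514eab0359bae35dc17383157b8b0317440002c6918d4a29e16b42d8d3fc32f0463e8c6162fae86000114d8014c69d8d4b14c5fc0bf786d80daf291cbbc6052ae84262c4c6b4b46776ced205215842a026b640a30b94183ba7a8144249afb074f502844b254bce74205007727a79d3ac09f0fb4932ba78813c190a9496a2f027456e3804e9de04e079d1439d3bc09b1575856b0d096c0c38903c20770014004d83135796c80ba09ccb39a8002604f2f2e5c652cd580bb20a670088d1740933e000065d,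
  nat_lit 0x19e000182261a7200161861a720014227c39800123a81a7100101851a71000e2ea1877000c3a61707000a310955b00082e99a6e00062251a6600042e81a6600023101a6600000a5cb199e4cf7a257e8007000cb4cd6989f993f3d2d48d32aeaad9956de2f44000c0015699496a7da6f3c5e7748915d5256c80001784d301a6211b22368fcb2d2e5a60000c0022f425b752b617538c6a00005e13ef8381c00500015a5d2599e773c10853254ee31c46345d4800034cd002a6b5cd6c2fd65fb0e05171415482a95165c0c05d45244a3010f401e966c4c0bf313d01e3a94817c2a00a6e6ffd02f43c599eedf4605e0ac5089dcf2c0bb0ee6660ba9181742de1c229b0902e45bb1ab4ade205c09a237f5d47c0b7157515b001d00286b40d68a44664469118d689ad00028ba80b6b456a00700099acf35a09115911244535a06b3d74f,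
  nat_lit 0x5ada61d0aaed23b0c7628a420058da5e6ad38d6764015ed75b0056da5e1ce992b3ff0bad002a6d2af5a9ea626203a60014b6918af207f80286d2305d40b7955a00005d6941000025561594f875ec5adcf9604b7897b5002c0056003400528bf940ebaccd909e94f832590802b005400300059fbd3f852dd8eec3f6200309724e3e002c44c512a002814c4e82002430b5aa6002068a437c001c8065aa4001874c159800146885a9a00105d35166000c44e930800085d05a9200044485a9400005d295013c99f92be0e7af8b702579add35eb6007400e2d495d6171139cf9b033cedefecb120038006d6a42d463f5c79ab29c9e48fc8df063d7a5b7d2bc56e8af59003600697575c36b881ce6cd7f9e72f7ee588001a0032b5196a210791a040000e09102c00046803b71ebb2dba95dab7357aa8017002cb50d454a8aa7a05102975634d0003865d07cc0034b0c,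
  nat_lit 0x41e00224c847fd00202eb08ff001e69988ff001c58608ff001a3a508ff001818608ff001622788ff00144be08ff001218508ff00102ea08ff000e34482e3000c31088ff000a18488ff000834388ff000622508ff000422488ff000231008ff00000a5cab19e9af8cded0ade55eb600ec003a1a3435698ec47f2ec916100000bc6bdf96fb369f007200150d0a199434285090a1c5898b06bb1c23c00002f088f811f4869d0cba19f000600dd7abade194a4b9d211daec529340000bc2d15a2c2800b000286750caa19d000200d57aaaddf9498bb080004338869131a08f711eac431a52301860322fd5760482e38187060a4d148c00084305edc503800088de00c5b4bbf4c95d2bcb9685258d96e92dd475d0eb75d7c01836986eb8dd695962b282e085c20a0814185d78017b69a7add3c99cd739af44c6899175d005cda6a726a990532269c175c,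
  nat_lit 0x1fd000023101fcd00002e94b3e5ffcb8ad7d4007200e0d501c418012001a244cfe6aef711c00000ef6004000589113f967f2823a84774d50f7688a7914d88debbd478200002f0ab294270cced3b0890f00120039c404d3f6d5f342e3c0aef2ce9d9c6b27e65065eb4bd60dc01b7e242c0042ef0cf05e5838370fec1fdd02d0384070e242c003aeee5bfd787b44f68a0c86990b233f121200197762012be39b303218642a8cf848400055dd42b6b49c6936de55bca233e120e00117745154a29d66183820706241c0018d6e8b0db72b8e75632240c0010e10a58db1b239d3f7024140008564a04d38aa33c120600017730008e1d5a99006200c8be8970d4b3a5c0ef70df2abf6f95c46988d2d2e3844cc894d2ed46824b94598e184b09961e8e5be6d0094c129c0e0c1c21817301c9d5c482aee4000a69a4db96a620184031cb597c88fe0e7c0cb8a5dc4030006a1cce7f70fee9296253ce25e19d172e71f6bb8352f00be01a47331fdb3fb84a5494eb89686725cb576f9a6336d9a97005e00c12d59f20bf809efd3e0e5c72edce1c1a96805d00bf2d55f203f819f033e09fc4cb905db5a96005c00bd2d51f1fcf7d9b8671f8e3d2e5f5e84bb6005b00babe4e5a53dca7950e839731ae5e5e82e3a976b8b0c00005d64ca887110de002000a8bdd16ff3dba7c993d99cae45855da802d2f985c20dae4029801f437686cd0dda15c42babb4c3e7000032ea1b9003a01457b8adfb7b6ef9267b1b9597a1339da1f32ed0399402f80575f2ab835b5b0050003886e10d821b85d9d943ce747a0ee55e7b0be477b6ab7e57b7804f0036bb3352a1cc6017402aaf935c16dad0027001a436c86b9765,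
  nat_lit 0x117ec0000ef73590019000a5ef8bbf8bf997e96306e7b9c8d39188bf4bc2b4134fc079d4f3b2efd5ef60024018cd639bd0d581784672aa2e546029a1001000c26b14de76abed5740392f063206607cc0e62fcc84138ea71e0b081614003af047a10dce1b9d24f50b75bba3775669ac2f80032f02573d883cbf561b72faa5f4cbe8000abc011424e349c6c2c08582000831a89dd9beacef59a4b0bb00063ec12185f32be5985c80020d402bb057f0002001cbb0000232e802400000a5a9975330b045c803ba0634e8144fa79f4e8af27d00fa1196a32e66579c6da3222f785ed1aa539919b8625bc4b883a6074e60e8c18a77a12500088013b8999ab00098011aefe0048008092700420099c4bb554010802197de2e3f5df92c12f0c0022003c4930020004ae259aa98083010abbea5824b02bc2c008000e124a007c01238956aa4020977c3fb400409903ae2003c90408f2003877b3fba003474a3fba003030c3fba002c44f89b000287500236002430a3fb600205d43968001c74c3fb400186883fb400143093fb400106873fb4000c44a3fa000085d0,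
  nat_lit 0x600ad4e229c50a4f06ba0d6851b5b5727f24fe9a8a3c45c95ad6e5ad4c41184b29188f953540001002a5e460f5000017854bdcd32622cc44a6a700000050a7054e12c3b725507a57909a9ac446608a5954b2caa696ddcd5f67233b35badab4761a2dda5ad32f8a56d87678e84125124a44944e841db79032fb019c24ca6740cc680c0318105e36be64013af1ebc697cc0026009d3601c60804f009425413d6a7a35e38afa941627bc7e158e73bc7724eb0e14dfa9be004abc6a7fc5432bc617cb0024009935f9c5f804d0090253978c4a7e004065d1a9c003c704327a00385e3505c0034b0c51a4003074a51a4002c30c51a4002844f8f54002468a5178002080651a0001c6892a5a0018621519e0014309196a00105d3519c000c44a518e00085d00ad80004620518800005d29746f9f25c8809b0132d5a66f8cd6c007400482c8056a5e2d3f427e9540cbc157c18011007335adc56003a006abc54b8b000038228c00ace163400780379ad337b9ab3009601312e3a5c52f12be0000700369ad0e2a401b803212709e553c5a1615e2052f0a5d1498292d40eb79b56d0160c2c5800d006abc39f603ecce43960fa9a6534a003001a4d3168c0b50d786,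
  nat_lit 0x648643e0d021a02f2d1ca2aeaa5e48ddf400680135e8d37c49e17dbafb7278a4e0c551eaa50006001259e4bd149cd00003bdca830001273077a939ab4d5bcb37905518aa44004800f59deb3d5f4eca825e8616e000017859e64caf7e56ddc0003800d59dab3cdf4dca825cb10b6d7a090d4000077b0198032c05680ac40bc81755b2268f00120015bb748695e7c9c3938e3918723a402cf717e0f3c99bba00045e795f4124524868da22f53acb7e7cfbadbb900035e7467ba97d90053dbdf82cf246ee4000979c2a4d3db9f824f236ee200040aa2430826d3cba7986edc0000a42000ab3964c32e6b96ed2ddd7de2d985a36a9e954095242a446c20d879b0135ea9f5a63506d00cb8194c3283588712937010af4585796ac7d58414c0a6f0caa09543af3600116772cec4f3c9e74cf11cba000d78aa98e6d2eda712bbacb80009815cc0a981814982929e1c0005816a6843224000301703f166face57d1b29d544dbc2c285638dc7159f2982eabcd005f71a33641b804d5c8faca4918513110480a8ff4e53001b356df73c80d150c2a12619317e723ada2e69faf320031b834dd07224ed2c2ce059b293452595cbaf30002db8139263a384910277af2ea4823e94d58001400c97d22f2630366044b3716635e5a3e48000175a4fd80008f905654d55000e00bd4e429c90a5706ca0d8851f5b5f28024fd2f2ada11f704d54000c00b94e3a9c80a5506c60d8051e5e5269bb6837dbf354c002802d538ca71c294c1b0835ebc9c7cc9aa400100162f9e5e406054c0596682cbae4f1792,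
  nat_lit 0x39a00020e9239a8001889c39740010ba039740008c4039b000002971835f39c7f6005800b50f9a1f28c70d425a80b5081cd6bd5aaaa555e009c016ad0d935cba4d7f0800e001639257aa004c00b16862d127d752a894643c5928b0399072c2f52287800692f0285400612e42874005889e287c00512f828740048614287c0040ba828740038d120bc80030c422860002861202cc0020d0e286c0018894284400108922844000889108940000ba50d05bd5b7b05534aa7c00b801d59fb2679741afd18448bd44afc000032e94477890a2de548bea95a02b3ec00d80156f0af09a57d96dd08740000e08b4fdbd3b7ac552caa6c009801959f3266973fafcd8438bd3c27500003824cb97844de04008801759eeb3f5f52ca8d5166f11213a2f4c004000ab02c56de81a103480b70170d68dad2ce2d5e961420000178d54b000e0028b3d24caae7a5f91086c5070e301c630a0d7a4,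
  nat_lit 0x3579704f07082e163f4a1dd27da4fa7d6d1af120fa41188fc68300052f68422090c121c643c86cd0d9014583b4eeca32900095ecc002902b5d703320004205819e83dd000640b8cd5873cee6ddcabb926f41362d32bc71e792b0b3400300035ec9438a4f549e8fac235b2419481711e0d0300040004bd8cd86632e8b3d168c64c0006000400242cb79271c717b02061352994cb2070002000158900050b25e48c71a4ca7361dbce3b8e9d1f3a426e938156c0e348c6910e661cc87a00f3fbd713cfe7a007320e661a44348db03b8159ba53a42747bb8e6f39361d329c71a79230b240012f5e0004760b4509a90ca5d902af5c000075e81f90b19e4747174ca13611bccbb8b771cee51dc841b75eb546db938837417f23ae72f706e428147513a320dc061a905528cc1b70efc2f0bb90836c1b02990772106d441b2c5ce67a0da0628314e74341b30c4c5d7bb88836423d4dce9ca6d72dae480de01ba823d0472b9560a400ed7ac885e00307040efc002c5e31cd8002844c1cd4002430b1cd600207501cc8001c30a1cd800188061cd4001474c,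
  nat_lit 0x131540a388b6a16d93900f6c1edc5ce8d41e0faaf800020f7681d003a9163df2abe077c12fe0a5b5af7e001cf761ccd39946408c81bd877d08fa152f3af7c0018f75b5b56b6d3c8dea13ddf942cb80800504c4098c091812430cabde80043dd207300e8138f272452100033dcc9249764b3005892731800236986d58e6d1eb61e2cbde00010f8c1f003de8dd2672e6a0800036946d946732d5e5ac4b69991e4e5e9ca5bf93ba2775d3abe0ea2f76df75399000000f4001823b047a2a000023b4256b8bc40002767d1fd87ba000033406660ed0ece38699a669f049c6138e46a68d5800780045ee97964d4d2e524e249c6a35246aa0038001af72d389c27938b27188d451aa000d0004bdc138627168d411a9800c0002bdb8bd72098414400580004cf00052c4c58c526de4db0565842f08642c9b99884aabdb0000899b1338e5aa9d12f450f9a1f2979931364dd93ae3924baa9828ba359d47072d7b507b2e5220e50ab0990dbba41c91990b19391283902592d6f774b071c3b14072e5aa0e30b420d39cae41c512c12dfb9b583881da252b9d39070c5be,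
  nat_lit 0x8735dddc1ee16ec5253bbd83da190c9b89da507b056e3b64e8560f5899e3808b64800b001800962b6148d29173284a4894a057a8000001714bade9811e422d5782af0e6602bd53402be6801218443085008800107c8d4c2011000001a00004036803016b402a877c00282dabe210ed80040259ab621db00061f78bea3ca2000802e5706876800082f82968ea98000016c000801936d4092412982fa000000c1b66052243b15a12b3e6e14dc8281e6c7aced8dc01b7d002ebe6257242dd1771dfdcc91198c334066cb79914a0002908888133cf5ec14f2d760cec15800a1f814a000257cb66a6cd45a25344f5ab229f0546136a149e00217ca5a42b1b87cf0a4f149c87d052700075f25a84cdda70f13b25efbc60b149a00197c8624c791cf24185114a0001440668253e01c2b4d6d14a40010712637c2cd456d93651494000d7c749302bb45750a490004be32e793dc27b767228b7116de51da2aa800e000800057c5991251cca3ac554001a000c0000a4670bee17923aaf880008006455328e82db45b7b6e666d13d5a26a1c5f9bd05b94b76ae9f675457fcb00812d025d3209904359f74a4784d05e846608d0aa0d5d5aba9842a0891bc70a455f0cdac000a00171548a399471990e36e46dd8c8718f8be116ae36ae0024005455128e451c26430db81b7432197c1,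
  nat_lit 0x2c080040c242c080031a1c2bb800217402bb800118802bb8000052e1e396d22da200580088f9a1f3136b555d2ab74f4e15d97df944000005e38c24000250f939cfa4dc1ab8329960c4a194da1fc002600307c88f908c22bef38152d9c5b34009000d1f2c3e526d4aab655669e8d7dd04f087fd100c6298c5000440050f8f1f18ac64b3eafb8c49594c21f9002000247c70f8d7d64ff09960b2c25f6e1e380001c111cea3c36fd9271d37aa6f61f223e48004800e43ef0f197da996cdd9c96c43a9393a7285a2344052d9000340042fb3397d0fec6248c4600300028f8a1f1073d0b3c16705f62311c622001600107c48f887d5b23ed58f32bd9ab2beb800a00063e207c3beac7f205704adf9af5361247cd7d69434fa267d13821994cc479948a1f2001200107c6afaad0c9c05cf488c3e00200018f8c1f15367dafab7232b164c48001178c002000011247c18f8139e2736950897e2884d1094be9a0f66c88f46a54f2d53657874510f9ae5b9cb0e4b1b1006e80dd709b035306a458bcfd9e7cfb81d9944c469946a1ee000a000d7d4000887b59463280521a58a4b2223cb9278b35166bbfc87750eb497e79fa63f4f3a38fdc9d8b3b1a9039206a8406212c3a1b0fba6a539264e0c9b19344dd83e1c7c42fa6000e30d461b43e93959c95a9c837946f80dee32335f4800121eb7a9ad0ece4b1c92873c4b35875b0dc9980be880018c3118650f8a1ef04d009a814895c8658d260d7d0000087a59443115993ae06558aab1a700519c4cbaaf9e50884a6894e77613b520f92f9cb66dc12c1f10b95b773bbe83e0249b2dd777d07bc5bc,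
  nat_lit 0x1d07476d4c4c1c78390872a0f3d34e145200020002bf383413f44ed9d99b28a30002000012faccf59728af875604a919eddf6bbee7920f23ddf942285f9945128d86432efba78742275f94121bbf1844c1414c7b77e308942ef63f6e76e112061a9a6534e42230fe5c77bb108444266b08a611b088450f8feb3c221100628dd89df6421f0c4dc423a46843c23d0297052a887110f46468c8a00b80138fac1f52acd97e49994c50995aa216005a00987d58faa7d9eff7d96f2fc6cad110a802c004e3ec07d7a7144e272795c0523e153d4af902bb05280a4910ca21b8c87190801580241f52bf145e2000032ec9130001178465c7094e11e662b13d6560884401400211f4c3e95f6549125f864ec80001759954cd0c655c883c01300211f543ea5387270d93bf27617e00ab800387040ab8003477b06aa00309720b06002c74a0b06002830c0b06002444f84dc00207500aa2001c5d40b0200186890b020014688,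
  nat_lit 0xd9a5e07c24813358e4bc0f848e1adc854781f0918314859cf03e12289320f3de07c24418315b1ab6a2c1a582cdf89bf837d4004400e027a422cbfc34216d50a2254441be90020006c13d82826380c7a17f740aad0dd5b0ab682c165824df79bf637d0003c00d2fecbbdda11b41f6d4ca21d4431be7001c006413c8280368e1f10000175800600214af71c955182a4d5bb866b4cd797622ee30f857f540a48145a19ab5d56c8581cb029beb37e46f90005abaa6f8c005001f4af31c8d5172a4b5bb466accd697605fd15b116052c066fa4df81be200120050139210e2b82bf9b6a05102a200df08008002609cc13d31b863c0c8c97f237ce6fb8df00007002409c813cb1b267d8c8c48d914046f7c003001104e209e18d9340b8ae07834a8299295fc62ac455937b80014008026f59beb3251671186230ebf80004001e09b4adc8e861d08e8edba94e1f706a97297ef8e32000077b8e8a000238c0ef51c692b80016001aa2bd9a132865206961d2c33f428e88bf7000c515cc51d89f9a903504816502bc69040ca81997ed00166f302590f4d3501456000a001209a413831aa68073f122b7afd915840000bac26dc3d407a49a7ca2a8004000704ce09b98d434018ac0bf5cd2e136c1e9c3d1cd3d5152001c003026604dac69d7ea000a099413a8e7c1cf4e8c5ba44e157054f0717bfafd334ed453800500080990135b1a567fd3efe2b514f85fa101fa03e6900d54a796cd3b5ad6a5e8006800304c47bd800204c409a58d1b3fc8ac45bbcb7c4f7c8ca888b53b6,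
  nat_lit 0x4b7b00022242eb700000a5cced81e6fed6668b11800220061747b6259f5abaed75b30001a580069208bffc006089870fc0058298bcd0005089e2ff40048ea12fa40040d14c0340038ba8c0340030d12c0340028d10bd080020e92c0300018d0ebaa0001089cc0180008ba0bd3400008913279888310d62120008004ae806c2cd1f1755aea75e98bff80010010ba1a6eb35a87ad0ead175d2ce048f4ce097fe30aa0f9c008000846aa77c0ef8a47248e2a2918b6affa001d1aa84b2806d00a2353000c001573e36127b6cd9fc926924e5ff1554aaa84034804d1a900050008b9edb08bdb56cfcbfdcb68000038224cd554eaa9900c201146a0000c0012e796c1ef6ce5b3aff523940000ef60000000a34e401e805a775a00424dc49b18c5333791c8bfcae776d1501c60393cb06e58dc9212692628d395289cac395ab6f21261680c44de08c24b0a058f34eec849417ea49f647709243de,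
  nat_lit 0xde5e08abfd799e6c4e8019803a5d62d91e7e7aedd6016508407382010409d9fbb3e6280c4f589c80320072c0237996f2b044dfeaccf1627000c401c2eaf6c8b1171803126f283a038c0fe8200ecf5d9e313e6276c4dc0183004211c00616191b200058bc20dc00050e94211400486182114004089e211400392f82114003061421140028ba821140020d1221140018d0e2114001089221140008c40000042280001d2263d40f2765eecb9898312d62520088014aea7108621118013b24003c99011320038b0c457e00345e15a6a003044c5ec8002c14c17d8002830b5ec6002475059ee002068a5ec4001c5d45dde001874c1c0000146215c3800103095d58000c44e002000085d0,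
  nat_lit 0x4480000844e4c8600045d08f8600005d290a8f871dbb801e0016423a6dfb3e594c298fe3e0c7c2605618a0000178e6f3cdec4f589e9800b8009211936f66cfb34979ad0c4d8146208bb813b1cd4a9a9642408469090634e422c004302729640000e08c54a685c1297fe8f85ddb90019000c42266dd33e094b0c091088000a004d3d127a89bd1378da63325664a4ee65811577c9d7a6a34d47211842248464d47210a00100093020a8aa711b60e6a70d33969e4a5967bb36dc84300033df531c47b97f6cb4f252c33dc9b6c421400100104f3e5ef8003000438246e700023bd800200000a590819b64cf65e583c91791af245e583caf94a8b4dda64cded69d8e069c18b81a69d8d4d1b0085340a6aad4163c2c7788da5611b46ce969c74cbfdff63e0f76d40044000b01e000000837aa6f4d0491ff34d0262920108024aec06038007bb687c1affa997cb2f59996c441886b6b98dc6c06800e76d4ed767a8015b02b8a86986ab7186668c06000d76d32a79456c89372933b6524c24990632c05800c76d12a7545608d611ae82ad05627546028005bb679538a2ae448b94763ee36098090014ed99db240ec81c93d85dd6c7b92dc4004bb6143ac8754f029e030e86c0400086c9ed7f270a22a43dfc966000776c6ed5a7a4c01b595cc03800676c52a5c7a78f512e64159000576c2cea19d4a1c0353c0023860096663d80001758007aeb9007600d189db13f6284ed01da0c104820531e9806,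
  nat_lit 0x92000087490a2000044480a1600005d20002002526c2d915f30b5013cb2797909e9e9d224244948909e9e427a7973061135993332c1a008dbd0caf19664998ea15707ae105c1eea15266196632bcdbd1d9dcf6d16322c6c2a805512ef02c245842cc96306afe56002c035802b80656c4fd27a58d2cc284050a608000424d75b20be5d69fa7954f2d21393d324474890911d3d32413482ade1a6ed1f743ee67da1cb62934526c69a0d394c5d98bec25938727046eeef7ae22812400a30c0f8007453a8a78b5596ad2d7ebee57a32f47541314c981e000c93556c723b5476ead1e677ccee6278c4e19f4b03a001526aaa042f345e75151a2a7171e2e50fb23038001098f9322693a4d609a7098a000c2c505a61392272d28ea3f4000898e9326265e4cb981b000293455922a871dba5b3800009be138c898452a8a59b843a0f6b50a5d54bb2b8c6a96d52615b303529d99fd4dd421460080019bb8c7c63003a0a1cd2560666e990a2003e00b53de27c29c0537f5a70327064d8c0c47cf000032ecd0300011f3865c8fa4994253933f69ba0427c00e002f7710f8b60054d02605e18580001975a6dcdf89bfa9ef53db8028003442766e74db066b50c29816440e003499004f600305e331d0002cb0c4c9e002874a4ca0002430c4c96002030b4c96001c7504c9c00185d43990001474c4c9400103094bf4000c5d3,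
  nat_lit 0x368d0a18142c01600230a784945970328e4ce0a42982747b4b6cd27d002b00460080295aca83c6c2b24559304c93e401500210a74498a2393e0c28745109835a89e609665380001dedd1c3731457e8af80140020003a149dbb3b4d182af3299824457c8af4013801f0038149d652092112542ab85563046009800f001b0a4cb28c6b1091c122425e48e3118d60886cf800e26406c1800d241223d000c1c1008a000b34cc6ce000a2c30515000911306c900080c306cd00070c286cd800617506c700050c240a18004174c3dd000311286c9000211246c6000111206c28000174a4df34a464e8cb2891d8526001a005915622b26cee36298210922002c77b8a3200285e1092a002474a092e002014c092e001c30b092e00187500930001430a092c00108060920000c688,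
  nat_lit 0x249e0000178d88eb4f65f7c0018002cdc8317262edf4b35c46a8f24ed835926c000077b3016605000200039b8c62dcc5cce686b82d516040493560d21e900001dec00100019b8862d4c5bbdab7adec7cca9a952b3d6f0f458330001370d942a0da41cec22d46a27454e98d2f9b6cb0645514aa2153c2a760dd41ba116272433d1e17dab6ebee22ad998c3b86771e17d0de60f21e5ec2f9164e52cbcbd85f01e29da79fc70bdc21d49f893f617b0b44b7b5e5dc2f516f0195bcbb85e817143899fc10bcc56e3028ee961790b7c8b6151080350601d4b494400682b5a9e095250399a5fa9174cfaca6d976925e0a9200c183147d28f9d6e02507007000c00168538596a790c56b3060b6fd2830037005c151c937c47f7c32511ca27b07860bc01b002d0a8c496d97532984cf4a451a5e40e3951ec172f755ee8bf9cb7696db2db28b311658035005a00a982d376ec6f91f2a3e35b78940c01a002c005214d1658b058b505877adbb4a0400cc015054324d711edf0a944360ae555800017582888510006200a02a0925665caca4d33aa90f696f2aa982a8b8c00005e30a5e0090013802f49fcb6dd1ef23e063726eca2e4c5c560a623780001c104f4ad3b61d2b6d527e002d004814f4932c4757c1f11b9828,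
  nat_lit 0x1554800b1131769000a0c317690009113d76780081d4176880070c295640006201976800051a2576800041a225b800031d24f8d8002174d5e400011138f7a8000188264a302b9abcc0fa6bfc069a34f3fb5c7b0008000c7bd183c000e7a90f4d24326d803c4c7860f0a1df63bcd938b0760019c7bc13878d8f1b58158c760015b8bcec39d88d3819c221340011c7a3eec7ab6f570dbb3074000dc7a4d2c62e805cd75a0004e3c9f7640d1997414c000171ed24042930000e3da63901527a70f4db08062c6ec327d0290752030e0438a430760e4008afc969ead3c5bbc295952b072e407000eb069683e45c9000032ec5ee8bda6f08ddb1816303e003c0074dd16526ced22e417a46a01892b4fe5f8c0038006cdd03182630df4f35cc601629a00001758414882834fcc48da7e2fc40018002e6e718bf318314cd8381f2420a04139a7d6244d3ed7e1800b00153734c5f306f17980000e091b8800045e53b722f31bbb375e603cc0c0008000f372994633ada1111b85836,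
  nat_lit 0x61080068e08614400608985a1400582985884005089e612c00492f861380040d14612c003900c5eb00030e9861200028d1034f00020e926128001889c61280010ba0612c0008c40610400002971f2da6b4e76991ebf9c94690482092000400600393092c1f80002aec12c948d291f1b75d01b996732ee675d0dba1c8650c1f38849e60b9948b2915c864e3219fb4a0330c982e5950ef362192878b0e41e6c432408750c34e6586461dcae7079af0c883b191b4f35e190896202c1e69432013461e83cd6863e268338b79ad0c783ce864ef35a18e8aba000000b4918922c7974f2aa46a49013909a29b1a260f400a800d00181a1001672093fee8dac0779b1ac1326b630398294c1c56001dfa00305e1,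
  nat_lit 0xd5d001c5861077001a3a5448a00180a610760016227907600144be107600121850fb700104030945000e3a61074000c3441074000a1849074000834390740006225106a00042e810680002224106900000a5caeda31105228c84b355c62d7a96152c29004200808343092a3a4b35966d6c8ca8495080020003e419c832b4bb612000f159b9c30cb59d52d1a397a2a3a25e8d1a3754ac23b42ea30b05168c6cb325c5cd79d613ac26003c0074acc979400005e320c2418c00d801c5418a839b2116692ccea3965e74bc9611a5e880001c1000d00192b2d384d968baa0a33d2f31471cbcca33d2f418459650000070467f2c9f4833905f002e00616102c216bc2b8a25964b2761123540000178db1e2a08540c005800a905d20b6d2c5b163626a1cd1a9d84376f0d77d60f2c1d002a005082e105b254ecfd8581b0852c940000ef6b07160d80130024416882c34ae6cc6f8ca871bf9d9648c2080120022416482bb4ad6e46dc89db2bb6c77cc42358408c5000385d6,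
  nat_lit 0x58b200005d297fd300548c4c01a3a6eb559834e48010a0164027ac57614522535056a14d9d0b4d969a2d36d9d000a0012009c848c83b00002eb4457000120e8aca80ff30306be1089211c0124025800f0022d41da80c4566141649515080fd302c6bd9088211a0120025000e0020c279a5200204c8023e001e2eb1b21001c4bc14a8001a2f0aa0100182262a38001618629df0014185a33300124be49b200103452a35000e2ea11dc000c3a62a34000a184aa340008343a0c300062272a2b00042e82a2d00023102a2b00000a5cbc49794b20289f406c97f235a483b107b006c00e1514309d2fd40000e08e859a7634f25450a89801b003420f241d06b3cbf797e8c269078006600d5512aa276cb65a08b40968097ceecf184c967200005d66530003400800320066b0ed61e35fc5c872d1e8d14b38612e35c00001974b3f36575446a8840188030001c0035a6636476c831add84a,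
  nat_lit 0x1259203a40a4986236846c60007000c05680b185384f28c2b006d21643630003000502b20569253a2fa45e2b2b18551b3e3628002800402b005652531f413e7eb2ac7f6b0a80010001815702b092950b3216d570aae11311208d614c094812b001600080ab014f64acc96992ecdef11b488e800102aa057829a2c885916cbc20523e77894c3c012170000bf2c2595f965878b12ae025c006b5cd73b35866a90e318521b0c562541dbc9979350e2c70606e742021c50a807609e03c3890874cd099a287102d106307a790e1c2e2872af4f21c30ae455bdd1b438515b86bb500987082578118a0f50e0c3aa0e60003c65d3708003870458ce003474a0dae003030c589a002c30b95000028750231c002468a58c600205d458c6001c68958c6001868858c6001430958c6001068758c6000c44a002e00085d058b20004448,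
  nat_lit 0x21e400081a280bf000717500bf00061a240bf00050c240bf00041a1c0bf000311280b6800217400ba000118800b90000052e5b73f98a3510346045c0bb989036e06d1801e003a05c585889d400005d635126a2004280832190368800e001b02de05c125ec4e9615d8a7bf95a34b033a04440b8988a36d46d0001b00349293192350e6a180418081218c368000d001902da05b8ac7224a00445d64f3e00405e30a78003c77b099800385e1192a003444c2ce8003014c4f48002c44f4f3a00287504f46002430a214600205d44f44001c6891d30001862142f200147494f3800106874264000c44e4f3c000844991ce00044484f2a00005d2,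
  nat_lit 0x3710002310037100000a5c7682d1e362000800037706000c0094c9b9934b9c01b730c8ee08001001199353265737836d06de8a813012601618e34a00001784c6a968c2d12003c0003b800000003e64c3c1578831a4d8620012b93a8f035ef6be206980085c9e677418f000eb8b830f85ac001a5c1b02c1bc0002ae4d5fc211a00045c9a21bc2140006b93529103d8001c0028d7f71ecd5e28b346e43cdf3fe284abbce61866448000178e849cff63cdb1b8a8b2357671e835f40018005991d32218605c90cbbcb5016a1358e001185f41d13ac92f5a3b14768000d85e07c00f8849c891a1222000985d1aee59ec00082f27f48000084516adbc90030007405680ac37257dcaf0c5e02cc8861722d60000178591331a8008a011c04c809721b836d8018002e6f2116ad85b005a00bc6d9a291452aa8c12032df75dcf3ba5a8530b524f40000bac1578005000d005800b46d90dc798af032a04d40e09278c2c8095012643606d9002c00560030005a4cd46408c5d414028c0030d3302fe002c30c02fe002844f02fe002497c,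
  nat_lit 0x1355bd9d87d805e3c537b3d0fac3e955beab821f50c884009c2c43e90555982b77a87d00b51fd26a210f9c10146868d221f30632abdde6943e502ec892bd1f87c808f005e1bc844251622a5f486ab89978b107620f06bf586a1d9636e06d637006b3a26d44ed818400ca01746f11bf401706f1110801860314044808b6dd4edbdd52a0a135d5496a9226bc147fa52a88981132009c0130da0722ec348018004f32c1e16bc597e1add340c0018200c4016065e4c2e8ad400900105d0932ba6578026002eee5c00bb0d0366c0118016772c0058012ccae995aba0c0078011619db003607002a0092656bc2a78acfc29ba5017d02fec3313036bfed81800a00239958f0a5e2abf096e9205f186506d6003c99006e800385d606f600345e106fc003074a06fc002c30c06fc002844f883e002475006fa002030a06fa001c5d406fa001868806fa001430906fa001068706fa000c44a06e200085d0,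
  nat_lit 0x1723fcd588d50026404c0c3e801624025dd8934926e449cc3e001523fe12b067300280058bfbcef66624cc8a770b35a003400908a330f71c600000bad3c09f13d11979f6e1f5c3e46fa002600619af33608e2ec3d001700251be5346269a4f429e65bc04fa46efcb401879915e000065d889000024570cb9044601e335c66b40050007c6f670f0e1e5e7bd115888ec3c170b5f8e004c00746f54d109a593cea7956ef93e8182d888600007046b71043a01cb35966ae004400646f370eae1d9e7a444261de2f68000178dbbc27914f329a4934246f10014003d7e197078bdf17b187666a80038004c6f070e4e1cde78d10f7c3b3be1371b0eaca3a726b4779e0d3eea80b380d5f74bf04006800861d1a6e33fa6608cc52769b34c0018001ce3e48c34a90c39c66f00003bdc6eb000119b877a7f74c8fd9101ea78e3b00c99a8b34f00120012375c6ea61c99deb5af806546759a8334e0010000e375267d4d16c38c8fe00002f0adf08bcc5c319a3000600031ba133da689924d048247eb0e047b279535517c5127814f9d17939d273b9be2b7c3682acee1ad74ecf670a4e909d6b73c25e84b8184eb1ec9f24ddb93c3a78f4d1099ea3738000000acd16766330d65fb3b84bf1000161bc00233449d96cc3197e4ee02fc25fa5a73cbac55f52ab600d06850ce419c4ca78bf017b42f6281f369c6adceb2687bb3fc67fc393c728bb37a20af39dc34b8688dccc3748b3917444bc006800366873b29985b2fb9dbe5f8186d0004cd2275fb802a0173ebe77db46c81a5040555ab0d8f04546149887dff14dc138026d04e0002c000b34140680003346669100a638a1e9fa0506494c951acd35aec35b52d8044fe0dfc13d2787dc23fa8ec7b430fb411f,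
  nat_lit 0x1d5800186211d4800147491d4800105d31d56000c44e1d5600085d01d5600046201d38000014b8ee0bb825feb5819eb6487401800076a3308c97830e9b62340dc81a6243a00bc0033518a4df08b6158d2bb9c7e240ca0b00002f0c4bb000128286bf7caad5fa7ab92190058000da8acbda5d4e3a5c75244ba62327ab121800560009a8a526b845306ae0d6ce3b12b2c45c63400003bd80290000d44a934c227a55908e60d2c1a7a28efa86319b11400a090acf536af32fd576cc93c4c30e7d5a3e347e6d853445871a7c24c6a98d8b1b96389ef02c2c58549db93b488ad0e921d0439ea6514c92dbd58aeac925eb3511622401392149ea4d5e5f284a0854374684e88969d2d3cc4401ce84c905bda7db4fc9f30602401400262428067492f0974003c01292129ea0d5ddf274a065433467ce8793c207340e6426282dad3e5a7d4f96300e00980121212621e33600001c1025784b700180088907cf4d6ae8f92e501aa16a33919ad8860042483c90cceda51e4b5496ac97fc2ff6a9b553a30d82f2c5e433869dd4b81d7034f49096c0028010120d6214a87332c663b3c04c010021003e483199a921e2436c42331c9e006004010001e241806540d1b93d684c0f5d8833000007c00e920b0328069de80357e54547f3cfe7310400709050193034cf3fdfd241816928cb8996fa52e62062250000178425284a7099c007000d12079e8ad5b1f21be247c4111258800032481181fa0d041a335ba947428381b320a187f0030480250ac18f7ff4fb58b0986990d3438ad87e,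
  nat_lit 0x2a6400062252a5c00042e82a5c0002310001000002e94e1a84a34a4da9e002a00a649040e501dd7a6cff7152d31213fa5b4cb6986d28bc0a60fb5a39efa48fc0290029623cf53800e34cd001800d1d29001800c0c31001800b113e3c7800a1d406a600091a29000800817501a600071d3100080061a2100080050c2500080041a1d00080031128ffb0002174072d00011120ffa8000052e5f0d2826a560064021123003720731e92bfcb54927fd188e0ab400409041cb2003cd338a6400385e11d60003444c1d5a003014c1d5e002c30b1d4e002897c1d5c002468a1d5400208061d5c001c74c,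
  nat_lit 0x185c00124be10f700103451757000e3a6185b000c344185b000a3a4985c00082e985250006227185b000422480710002310185100000a5cd239a54bf7daa404f909f414082822b0a0a08015c037b12ebf79aa384f809f21404281ab090a060158037184f625808500f101e6dc357aa4c58a5674ac6136b5540084c4acb9f70dcb7fd64cab669830d54c02080540a02ac1cb0e05ba737ce6f1f834ac93d9e7c000406251b552f18986ad6e67c9925500d000fdaa8c26a5e7cc49c67300002eb4e70000119c8aca7a9007bc0ee125300ca00f1aa752a584c70b9e978ce6f624a60400001759b5536a96d4abc4e61835b49f1c4940031803a6a99301d8913d6e003899044e4003474a54d0003030c54d0002c44f4ca6002897c948a002468a54cc00205d454cc001c68954cc0018688049600147492a4600105d3,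
  nat_lit 0x980037299151862bb403541c8ded1c12f505e74c52ad595aa84aa495592cc58c0566442300120002b4e98a4110b1431e7f083e0022000169ca40c481ad249a4bb146004041e95a42b24560d9d0b3926910d5a9ab4c1dd9a92c3ad894abeb6eccdba185f4e1c9c3495c5919307572dee114c9899246aeaf6d1e7824ee49d89031205ad38628800788432b2cb17496492a825524ae19b4b01966d24ae095492a82592ee21afd04a60970c0392eb25d592a00c1c18283088b9ea5614a9a5c24b86cf45aa6b8707290c50800e1076568a3299f463e94dbbdffcbab96dbedd698a01f1a002c006883a2b431948fa29f496ddcffe1d5c2adb199c0000e08b0807c58009001620e0acfc6503e867d1db763ff68cccab5000a107c564562c12c4258e4d489a732af0c6218bd89f001220b48a632526aa6d489a91beb0520ca42189e001020b08c69bf237e8f762916bc2ea226887189d000e20ac8c6bb0c9fd8dc7e82534f16270003082f1afa4ab095695ca5ef400288292290c9387d68fc04ac4002082c6de0f261e06ae613bb80018827231051f0a41ab830dd4001082b1afe35f0efd294000044140f780a4c000082c10d005b883310a421197e036c46e96f2359723201640d11d989b0106024a2df3f86941ea525e4c10e121c6605cc0cb1341ce56b837eea028dfc1404a8114e149bf23b4808262663b28000178cc0a10e021bcf2554a34a0c7f0716ec04780808ecf1d918982ac4004065d250c003c7048d1800385e330ba003477b30c6003044c3080002c14c30b8002844f,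
  nat_lit 0x8c8e00045e1000600004485d6ebaea7c08fb61f80146a2882ea45d4cb5f83b1876147708439ea6b89a6a060fb01f72a2b07dc0fb1a81b89a7a9a2010407b8d78a481f496edade27baaf0b4009800262e4018001f5ab090ad216250c4a1d44cc0090009451c701801e5aae90a9215a50b4a1b44c80088008451a46618b88c84d6358124d6f9adc096c12d414b7604ec20008316e9ac5359d1fd7318e188ca719416b24f745e14800f62d9745acb8596857c8af9b8cb7854f0b5e13800e62d5bc4bcd57a50ec11d82800d0dd911fb58b9f8664f8ca1800c2e54303860b0dcef07de0f000b62d26b953108186faede11800a0401b7eb9b6a13cec0400482628a41e10800806cd9d3b3b62b30569cadc8852004a0055caf3f3442f6c5992de58e456ac42c00240028e5762ab8c68646882958b22b54215c01180125a96cba1975a41d483ef5ac521b16315440000bad3e19a49b3a367645650ad195b5109c0084008b95a8aa0c58306925ca4b6963715a710a8008000839598aa631918af91dc00005d65a22b1d4ad28852003c00356a332e365cc906120d48ed62ba288c517109200740062d454830906527ca4fba240c5693429f02d2399cf33ad2b1e5678ad80849003800318ac5abac19097012d558d25688427801b0016e5522a73157145628a0846003400256a12415482c93d927c511d62a99d5158c2b3656b442300190012e549f94216f42e0c54c49b000038220994130c89c62dc54a72a0001c00b884b2b3cb19624d315077e8efc9f4e8cb656a84218016000ab0cd615b72319e4fa6c65a2b52210800a8005729ce1d90b5216c42bcc5395a810820050002394d8a8e316057f8afd412c27e58a6,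
  nat_lit 0x4a9507df4d5b5ab6359d6538465843b8880633800429477f9f0772998c30586c94da278e319a001d4a33fce83b6e371a62aedf5dc4c660006528a9e9d3d48e621cc8412c816b19600154a23f0f7e21086e103ca07632800227424e86fdbded115f03844001a9427f95076611a2f1c1efc00129417f9506fd7ab08b800054a402da2b34000294800294a3268f4cfe9a01353d02b7f292589360b3bf8978c64a89a186430d20334f02667c300e2b8bf57730200e18c8006c01147df27029fe625d04bab7ae6f5484d10aa318eb5b801a80441f7a9c067f9097312e8deb5bd4a1336318009001e455ef6f195c228f45212d953ab2f365e70c62aeca002200751573dbb656e8a39147cb644eaabcd58c47b748ab400e000e2f5efec160fcdf9842306798f4b18717700000bacf2961262f42597ad31d28f251fa288008c00617ad8bb6c6116af61b66ef8de117ac00160089e1e3de46b4a65518c18e06000065d95c400023810cb8f545eaa97a90010007e8a0251b4a34d30d65caf3e95c2c6016b62d56c35cddd1bbe2f50001c00f3c387bc0d6858bf8e08f53dea997a7000c007689f25194a30d30565bb17cd0c27c52ec35d80001c00e3c367bbcf78c92f92602335216245f91a8bb0575f8006003744f1e8f10e721b4c2a48d35d80baf8002801a7868f7716f4925b24bc0b64f7b636a5ac4b469690376a6ee4bd18002003344e928ab17a6aee37fd2337f465e880008018a2729451289243262f07ec919e69cc000800bd1384a269445218a42f65fac5d97a07f42b0426f5420260b4c1519c5a5394a7125f9fd2034406848a79f3fbe807396d8399e8413d67a0d839ce62faf5f56ac9cc9b993e32806521accbdd8786000598ba,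
  nat_lit 0x740142e775cfcfeb914ea29f602ac205bdecfd94ce494bbe1b7c2cf1b802a003f5df0bbee7e134680038c70cbdc00002eb1e647730eb208040fff1fe80068013296f6828e8ce5edb1c0d8adcbb00190048b9cd73d3faa45328a6d808b07d637c76a1e62772ceb188030ffd1fe40060012296d6824c6f465200002f1b00e45308a59fd3ae775ce0008400b39736c51405e328a4340054010a9684d629a8535126c9a09afeda4c226e363750d7a1ae434886890d0a1a2434886b87fc0fee0028c6e49f0000038203f505ec0070009345e9f70bbc577700350094f1924f7b1b729ec0000bc63ff87fa8fea002000714b2b40a74530a046a80d5194f4c6d465100002f18fe8001c0065734172c2e4282bd058b0c2650cc32632831b317340000bc2005c0063969435086990ce219a4332866960f3b9f8b98c6c45ff00002f083eb07dacba000a800a68ad3ec1774aee62fbe5f322ff31af15080000bc21df86a48d4697a2e885a01295d00280021a2a4fae8a82c6b00070026a571a00ba2071e54271c6a935926b8e5a58d53d347a5c1988328064a35add5a0ff41fd63f800032e0d20800000ef716d0000481f1dea092c9f10aa815087f40fdd0006003972eae647f2916cd8d44c83400da29b44e0004003572e2e637f26fe4952431a6d134000800b05cc9a75346a68e4d6b40e673eb22e63495efc253a5cf2bad58800006344005a95467f2e8625e42d9e551c0b94172269b4d169a31359d0377f4125b8e391c742c4858658d7b1ab196832d46659a2a3f30afa4bebc6bf7e1714d029f0fe41fb2c68000a52a6842508150c977aca566527c2239b5ec4bd8cf,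
  nat_lit 0x17c2800a1d417c400090c297c2800820197c380071a257c380061a2265f80051d24c628004174d7c2800311297be000217417bd000118817be0000052e70a41c1a344c97d96cc9a14e00cffa8fd44fa001abde18ec9b4b0d0e0e051a164bccb624d026ff67fb47e627cb1d6e021e379904320a645d908ce3b84a90ba5f3344f83a3a48480001c117bbaf74001313da8fb33fa4df9267596ab25ba33d24218ea89f0000077b51ecd804a9c1537459b2e893c9b106000f13d28fa44f763a673a437486f90c95f34c4f305a2392c096a4f0cc7998fc4f222a4b2b1659439a8739f32c4f163a22c0d21a7ec70cc1f32c4f01e518751e393c78f982277a72134569a6c3167cc913b834f6442f98e27681ad3605f30c4ec15c19fdcfdf6f86c21d80da2a54546fed17422e7d005cc73832006364a9095150b75b88b7055588308005800b58e606344a8c950d0b65b86b7015580307005600b173db1caf869e3900580086bbf177fcfc668d8008001503046391d66900d20083fe400f802b52e8d065d1c42901abec7190031ff00078014ae782e785cc505fa0c161a4ca598e2,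
  nat_lit 0x2ebfc02c385886984dc6e4409a0e342d25ca4b9b1f400568aba7c397a48bf4ab39568584cb09c8c6918f63e400a3b29823504720c4487e1918d05c87e6e30d2fc2c285845fda00522913e989ae2415abc0063c0c742be2fec00271485f47be597cc129b18f84bb40046290522068487328e66bfd0811b0ac26ab1d19259c0000cbb14780082fe90b001605a5db71490f4681cd07c96b92ccc7bc685000032ebe547d1514700072fe70aee0c6018cabbb68a8d13634231ed31580000e088ae1a25b45257720c5c18b05755fca003228d3e8898aac7a91825838b06caae955c45e52f1d3dc514c001514658f490e8dc39a5a857b0af4bf8c00545187d1d359d86310540c5018985725fc4002628bbe857c9ef95a5311f812c112ea25d0000f1459f423e4e758edb4dc27b4e6a008c7980068a2b4855a0c9cbf3984ff1604142a59a96c1d18f25fbe001a28a3e827c98eb15b68a7014e11400997fb1e32aa00000ef726e00004aa71dea95132812902520d2e580028a234845a0aa717937126dd8f01e6e005000880028a214841a0a2716936effa684018900006287be8583f109ae7293228325c6470c8d250d63bd2e414802902d17d328264f53c0a79632e039507240e524eea6624cc6c26c2a285336d0ef0549ab135927c84f84a67385d282a4ffcfd4a6fb6d96eafdf233e7c8a1cc772fd80ad00c2417f1ed73dca7b78c7c18fa8593079496012c147984b1c962d0da5bceb79156a032b065210a02139c46389e1ef03dd0d8d1b4236a68103e457cf714358ed2bc4004497800a80040d334198003c77b5f0c00385e12b1c003444c35a6003014c5f12002c44f,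
  nat_lit 0x340c4ca799517978f358c3e987c30fae1580fb32080000db40014d494dfb9bf52b8a57118fa31916320e67a29b32068c5691e4535156047bd0af8a681e2b7cc7d2d14cc21d2af4fa5a2990848c5adf4b453116f0ffc343e8a602688d8c6d8f14bc56e695efa5229705c34110008800813f627e80c4017a79f405e80c409fa6408ea650430020001c4fd09f9030e05e5e7c8179030ec80800658672ed29b1cbc559d14385bfab7f96f5eeb747e25fc9383a707a15813ee27e000280041f9e3f5ca022e969dfd3c02fe39c1b38390ab89f613ee00100018fce6402837a77e4efebf8a7064e0d42ac27d44fb00030004c7fce0b9c1885544fa09f5000400047e60fd4280253d174602e606044f989f4000200007e58fca711453cca0331fd43f13c2c9f77dcc1cb03969bc57d2b48be297b1fb46ba8d6a86715962b2a29707c42e1df4b452d164dde23e968a582499034396714ac5a2678b48ae29507da9ce5f48452916ed4efbca08a50268914b7b2b149c39f211cfa3a293099ed68df4845250b8551626cd4d9c9b3135c417b9d0eca466de003a0032c7e26cc4d9a9b2d35bc17a9d0cca426dd80390030bfc58fb,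
  nat_lit 0x12002c004148640007ffd90acf2b9e58a00693b45936430007800b1784009000a1d2800900090c322a800081d4000880070c280088006175000880051a2400880040c24008800311280038002174000380011880000000700003a445bc268a4d413facf1f9e3cc820ff91ff34e980014003321722440000bc6000c00200026e3200080020003a088b67d03e48959120c8550436a4adc6000080030005410d9a020839129224d59a000341096cea05f40ec81ce1164c7a5d2ec4e18dab2120001a9184b2d4d9a071188230ce705c91b9247258e4a22a0b21000006b9a0ef6e48d5e62a010ca35be924453f164d6f2b80f8a7c1e2b39d7d4314f4424672afa8629e076314fe922c53b16846f137188a742b746e27d3f14e455d0008003569ecbefa2ea109c227b3c1668670e0e17320e0011a953528631cc64cf6a1ecd65569b65376a6ef641a5f500001ded2ac498ca642a35946bb9b2a06400080052d3a97d92fa5905,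
  nat_lit 0xb9a00068e94b9a00060618b9a0005889eb9900050ea0b99c0048614b99c0040ba8b99c0038d13321c0030c42b9980028612b9980020d0eb998001889467580010ba0b2dc0008c4000100000ba53d11d3dae7e4dd09ba95362a6b602a9a3134780020006c88487690ee0028000a68e4d18c1953d602dd05a81fb590f0000b87425967aacf4dbd9b94b72a0f9c1f33beb9a4d3157990e5cacecf5cca397c72f51574609422149a22ae0ab01059b20455b19900073eb68ab425949cb7d6d15643b95f20fada2ac0762dfe5f5b455712c4f98a8288aac2df1e577d6b155455d001e9d79002a00464353cc2798a80726c44d5deb898c8823d6d95057001c003c006b72c001a003c00750572bc22de80001785d8c37247140002c006800b6e54d4de82ab352689d16f190d8b2800005e1,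
  nat_lit 0x4c0018688004c0014309004c0010687004c000c44a004c0008449004c0004620004c000014b9fa33f58f448032004a008cd0a4a4085532900d0a00236478b05b9e3686f3fb27f6802700480088d031f6ea24cc8ecd0700002f0b46b9fa6d06c01280220040684651ec2a65f313426683323921980000bac7dc400e802000473fa67f434335cdcb9a58b8382790cac8db16f5cd0b9b5a194fe79fd0008800f801c3ee07da591a0042007800dac00580267bccf8051c0a3a13842713232b05da214d044f26683000d801d00429ab932fa66064623c10000175a861b03960649aa5356001f00360069669b6466ca51e059176d40b04960a343f9a029e40d04801800340079355b22d1f02089b6506c88b34400c0019003a9aa9353b0302f314c9b69e5820b049a1eccff4f1c681c00b00180038c8a9a798f7d0445b273642599e005800b801b4d509a94bcb687733f53c61a050028005800d26a74cb099659d632291fe00000bc6d8fd666001300280061352a6a26056c0ca85e36a78feec89ca2c00002f0ce9b000128ac6bf852b28b0d00000f0022005535126a0675ace9d9d34e9a644a3f700001deccff000d001e004d350269d604c6c20d9036a2a62b1fb59113ec2003c5d64ebc0038972,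
  nat_lit 0x27d3001218527d300102ea0096000e3a605d0000c3109826000a3a4a7d00008343a7d0000622527d00004224a7d0000231027d000000a5cf2d9e66ca29c8ebfe4a016011400d801a59f4d9c53e73248e36a03d4f326512e471ff1d00a0088006800cacf91fe5bbd38d980f33cc5944391b7fc54024021801900306490018002eb09d6111a10342214f429f50926c30e6bd9238e5a00005e3650ae461fefd0060080005800aacf56cd89f253e5472c6489a27d004a00a00fc00a801459e8d3fd3e327c934dcc90d00100002f0c90d000140006bfa00400f0009001159e2d991b3825d135466a6e487490c6480008801059e0d98db37c12f93fe9761c3eb338287ac8f9e9b008800400071a2694a50aee5291a26001c00409fc004e00409049ef6003c77b004c0038972004c003474a004c003030c004c002c44f004c002897c004c002430a004c00205d4004c001c689,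
  nat_lit 0x267600001dee7b2cf6466e80044002b015602cc055816aed099dd33ad91266e600400023014602aa7594d8a5632fea5fb4c1d1792000d809b01453aaa6c259453e2a6ed0635a07340d64bc0af016f1336270c4db31307068e2edefec5c40004c9724ef93990a5615738337174f7f22e1800153a8a6b992d0000cf698014d66870f478c6c353a4a6b259253dea6e4c77d241248445ae8b6572c287e6edccc6d98cb8591dec3bdd8b93fcd911e1c143818efa1d9544086c50d96140519bd5f7abf5a51cf7ea2e0b258cfe99fcc25975ecebddd923af775ed0965f8745c06494b6ec7ae41448299c25c155782ae0f1efebdf88b7ec95aecd6ffcdffde423f0e7c1d4a49f8645be64a82d2b6674f9e9f45cedbf567e1516f59291b64def9bdfbf0c7c194a41f8545bc64a2570d3cf847508f1f81d2c88b76591baf97e14f82a9473f088b74688a4e66aa0d54a8d13f068b723cb3c15a580fbb9f7fd2c58b703334f44a8b910e1f82c5b70b5e945bf048b6c0a434458b6a050805b00cb234a4689ea63d340ae015b82f305e542d592728ca51b5f50b85e634eba81752b46aa03f408002d241540680000bc60bbc17802b4056a7a5cf51c8ce919e018802c501ea032c93002d00af407680e34675d44ba758d2385b7d3c51a992534fe004099034d0003c7049ab600385e34fa6003474a4fa6003030c4fa6002c44f4fa6002897c,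
  nat_lit 0x22600048d14604c004100c604c0038e98602c0030c42434c0028e921c380020d0e604400188951f740010ba046e0000889060180000ba52a31c2738d57c2f177800e302c605aa7b94e491b5236cc9f001b53dca7212bd257b4b5d288d808300e6c72125d1ab8d9e000065d003200959c44f789ef2b310dd09b9c676adf31ae146ce64f683e44a485e70745f9bb38c670e009000c30286052c9e49db000032ea9c353d0c09d81300168bb0f845c67b84885fd0a9e4ed32774aa1f0abe108bae00554f429c296754fd20711bb064e9a07001f0028a79d4e0a5734ae8969e50e3009600ec9c8581a0ef127e17741cc7e64ce1d9c1001f0026c08d93893bb0a8e17d38447196f8362ea00126044c08d4f2326f4a91f08be0c8ba600454f229be966d4fc206f470d64d9a06340a003600414f1a9bd4ade95c12d1ca18600ac9ab40a84d4ec1dd843b357610ec1e1353f1f8ba2003d93437226e5965ccf6e9edacdf400d000e606c8dc11b8b26729840000e08bb5d812b022603ac070006001866f6ce01f95c1c594c0c9938c47c0d1734005b01b6038a7754dc11a4234a5fd0e0794b000005e153b8002400a52a084c8ec05d813b2f76045954b2b4a5764c6555000017856dba36a46e2a768003801366ed3d9a7b3acb185fb2aa5930,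
  nat_lit 0xd1e56526478cef970ad20066f9286730ce9251e0b00032678ca5e00ff0062f91561c816ecf78de29bca59db3e8a7d0b3b1009c0108006800e65016cd00101c113fa800f1ded398800e25c8155000d1130477000c053180f800b0c2e6e2800a1d4101b80090c2982e0008175182e00071a2582e00061a2182e00050c2582e00041a1d82e000311291ca800217418258001188177e0000052e842430b83d2fd3d9d2339f007800c18203041608cc12593f23f400489900e9c0044978303a0040d331494003cb0c2fb000389722024003444c1872003014c3026002c30b30260028750,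
  nat_lit 0x3933d59f8b3f196889bee37d2d009c0cb60f31bacaa807100e0e3556b4cca783e6e970ca9c83c81111ac59548d58000070467a401bc03738d35acf32960f8ba5a32a320ea04346ab654e78cbe967d84f865d4731cd6404b9cd72b31530020ca904c4098d2c3d453a8a92bd457ac007801c532acf99951001a006d4ca33e55320a63d89acfaf8572b9b5737b2a0aea8006001a5326cf914c7a98e62693eba15c2e6c653e33400001975f3652f0009600295d4224a44982e845cab4f26a17199d94e392cf9c5f35d2ef009400255d3a24944962e805ca329b22700000bc62e79124a247574a001c02452ed7cd2f9bce4a48a09136ca64f0b00003820046000cc5257262e6963f0c70dd423e0f7d70fa32785329739340000bc74ba402200035742890d1228b9a171cd3ada8240309c98ca525b54b68a80951400558c2ef9429723e5700860009949900600005e142d8a6494cb80000082e24de35c1ab714283f107c48026520020389278d506a9c501fa13f467d80faad41d6fe146427d4b3007326d33da65af065e025abcb5e1b95374749cdd5b3ab5899b133df8634e817142e59120a23f573aca3803f7122f1a4d911b199318e099ae686930d24c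3ed872a6ea2b44568db7f36fc1c123809ad72bb933ac4a8c950be5856132f3e0a3477e26e92bfd44ba8992bb4576d9465310002c01f389078d106a1c4f1f9f3f427d8cfb2328aa6394c3800a007ae23de33c1a7713a7e78fd01f626511cd13e0474f4c6e58f72e5f5c852cd8004803c711cca1803ba5c0f971b96a9d85096a130c26984b604b44216d90074f938f2d1e5f5b35327664e2d785b3ec63d9420072f9428c2b82d5eecbdddd4e35276a50d7699410070f2c293aacb5596c39657bd006ef93a94725de4bbe9e7067b006cd411a81c4b87c62992109a006af9328c096df2dc07bec2ba,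
  nat_lit 0x48900070ef6020000692e462f00060e9462f000586183794005061721180048ea062ec004061462ec0038ba862ec0030d1247140028e9249f80020ba662e400188942a980010ba062bc000889062bc00002973d35c818fcc1f954e2a3890006000a64d49121225315ccad1e683cd34e263888005000864d09341266315a2a899598ece00005e17c260a4c1501019a266648cc99000200071c3e9c3c76665600009931244048a8926b5cb30266045789b59123a4cab800047a412ca3c661ced99415502ab6bde4b30966b7518c5ecab0db109871a31f3ebe7f8c5c5dc15cca67b18b45932a60f5623160ac4e4e5dfb462b168a88d3f738c542de3ac87ee718a42e2915efdce3140ae4fb81fb9c6270ed1c1153378c4c267bd937cf918943aa,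
  nat_lit 0x106a00042270de800022e8106900003104f6f85fad954913922a761cf471e903b60006000c86f332c122180000e091e8000048853b71e6ac092a7274e5204cbb5d005a00bc6f13a7182c11e7d95f22f2003c990230800389040c2a0034704230a003074a2306002c30c2308002844f22fc00247500290002068a1b94001c5d42304001868905ce001462122f6001068703fc000c44a22fe00084498f22000444822e800005d29fa73f599f2d3838110ed3000e001e8e55043a0a7c78f6579eb3544876a2006c00ec729a7427a04f4035b11c54caecf6772323f887f053a08e50007000d994b247448ecaa325ba73467b339181fc23f7e9cfc72700360068ca532b800651f2267c9ddd5210a8e951ea2bad5ed242a48f631496e12db399f3d91c8b0fdf1fbb4e7639280190030cad8018002e8f8933d4eeca904546ca8e515b6af2920d8c40eb400409040f94003c5e3,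
  nat_lit 0x1b8e0050dc76232d305a5fb935726e16582ca8b1f9ed50ffe230d1675dfb4ad1e003e926de7469c7fc8ffb5e614ad1a78b4f284d90f66643ac897f0efe25b919d893b2c9062992d00c68374ee605f3b8200a40040007801265963d78000197552cbcf8816b4eda9dbc0bc77000140007000b75291eb9964007000387041c04003474a1bf6003014c11da002c30b1bf400287501bec002430a1bf200208061bea001c6891bf000186211bf000143091bf000106871bf2000c44a8ea200085d0001e0004448008600005d29766c555527aa4979d102969d353a78158edc00200042658e50c3664246c48e5d8ebd2b7a5eedbc01f80410018cb14bb662a6a935523bce681474e929d2c0aa76dc00f99618f0200305d620da002c5e120de002844c20de002430b20d2002097c1a26001c30a139e001880620d8001462120ce001074920ce000c5d3,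
  nat_lit 0x30506268bba8d29995334801d00188030006600819722f70e635cb9903a20714fe00200032003e379d89cb2e200c400f0de46f601d843b1077ea3fd09521674fa465c0cc919a100e200b80168030003a379589f27d74fb4cb79035a7ea00f4017801c1bc8c4d9a6f34e26a68fb7596e021e003c990020c003870401da0034d330216003077b0292002c74a0292002830c0292002444f8d4600207500290001c30a029000185d402900014689029000106870290000c44a027a00085d0027a0004620022200005d29c6aee3802f001c003600780058dd34ef69de53e4013b65b400d801a003a00286e931246998d32dff03ecba6becb64a9000003bd801b0010374189134ca6990e4f96e912e725d34eee547b2d6001c6e7b1286744c66d47104130814248cb1c36c765a80030dc2438507ed96c32d92dce5ba9beba3c665a40028dc1438307e996bb2d87bf6591d968000837010e0ad235a42bc757918cde000c6dfa1c01f581008203b2ce00086df21be83eb089d73532cc00046dea1c26f400a3c596,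
  nat_lit 0x8f2750562824505879284a001f805300a0013a91bb2f928600078cba87040070bac1c0400692f0872000608987c10005829840b4005061675a40048ea07590004100c87100038e9887000030c4287000028e9254ac0020ba68704001889c86e80010ba086e80008c4086fc00002973b6227a43b8422e00b80210050a8107ba0830905e4370cbdcb26422c00b4020804fa80e411c824d24772fc5f1d97a910e000077b8e1200024430ef5086e7cfa112005400f801d803c00fceeba07553e58e10cbccbbc00002f080280078012292c41af00ba017948bd20817122e2a5ddb2f06f24de728ff283a5114010b2ee73a8e760020130a8d5999b335401e801b8036007200986f731474fc0cbb46ab000032e903f207b4ff40228037004837b189f34e669d4d4f23552c5a0c59178d1a83330669c03b8034006600d80118deb65d5cc83976207a40ee9fd8043006a00886f5313c69c8cba00211bcedecc3b207650f03480612bc2d19f4eb635973,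
  nat_lit 0x951300027f6151500000a5ca4d76aeed5a97b29ed0fca0044002add65bae5470a88b316544ca88151b5bacb75400200100fc8a7b297abb55662990d3f094ac2956e9b241576f94b9cd6edadd40006cc4add3000400383f129eaa5e6ed4ddaa4241a8c6bda99886f5d2b212acd36282aadf21738ae705d400004006b30f4728a8795176f86b7496e8800000181f803f107ef661800138f289b113f67392fb01834000b8f4a3dc268d2355288022c04541dc75db493400a80082310461d9856d7f492a9249994332ae385f243ae271ae00519842a0e52d242f54526cd54729b1d00b00162004d9836d92e061c0bd48775f34ae9c6880120ac172d54ca71bae379f22badf71a80044d5b142a1f303e73d8f015a02b800805b2e23dc6e3e4375bae3480079ab2f2f00a38149a580e3340070c8e110695552ab71a000340566914e33c00602901f4800580134895ad4324f64a714421ea21330094017803539db660a3df0000175883e3bc1a84401a802e004842630f467b1059b0b3b1ef59814c88e0b691135a56498c942286c3d14260011c02db3011ff00000bacd64de6e059a0b313d7e1e7212e008a0164033d41f8ff6b99d08700002f1c7a2000142189ce6834d641e6c85970b2b3d721e5a12b0084015803247a165fdacfb2466495141e1e5a12a00820154030b9d2a472cbf05939eb50f25094804000a8018aa0d3bb920e841c197d,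
  nat_lit 0x169200044488f6a00005d296bb53f9f3780dc011e0236a2b9f373e6d48b5bcd8b4666563ee80001ded95eb9f72baa5752a9dcfa54e669cec06d008d01171f7199422ca4588a8416e02db4000199300045b6cb6c84c40005090056d18f80002119383a0251e873d0af2ae11ec0c81a9e35395ec980d0090cc9341f7987031c6a70d4d57b06030023b322dd847288e506edb50a95ec180b008cbba0ec11dae3c84e045220301801159907d734eb5f582015300c011198f075e03e407d09ed3014010c8e400481fe03fd0807216551123e18d391a6eb84181f331d22940000cbab7a16f3801600441fd94ff530776ceeda212ad4779148cc6801500421fd43fb8804215f51063e00d361a68b83598c0cd00038d33060600349722996003044c90f4002c14c2a40002844f2a40002497c2a40002030a2a40001c5d42a4000186892a400014688001c00107492a3e000c6872a3e000844a,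
  nat_lit 0x8e7ce1ddb3ed2136cdd0f7665d94d99144e6f4000b336dee9c3b367ca424d9b61ee4cba29b12285cde000066680002f290029794af3f68c4d97dd8f52f876474c99dd7c71c666501f542e8e36172c71f80bd1c683c5241cfb7238c89640a89d2d47180f75196bf8d8e2e1d8cb8180b71c584b16f65509e38a8642afe202b47140e7dc2840598e262579a9735686ade93929810190031e10cc1d80168029999835ba4ea89da3404a064e79085690aba8d602cc052b32f2dd80000cbb1efc0004b751971f4000ed0140027aa341f483e8f48f9bd6000d001f1ef999615e8003c99016a4003897216b8003474a16b0003030c16aa002c44f16b0002897c16a4002468a16b000205d40474001c74c16a2001868816a4001430916aa001068716aa000c44a16920008449,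
  nat_lit 0x5d24ff4a39e8006db4200e473c03fce55b97572d284bd096211438d64e909d30020003acd52fe2597eb2ec00d001c003e4e949d19c6a0b5816899a95974006400d801d73b2eefdde2bc1a7a474e299adb350bcf57a2afe0597ab2e400c001a003a4e8c9d09c68669e59900001975e903c177784eef1ceb001a0030005965ba45648af2cc59a671acbce97a12fdd5974b2d800a801700344e809cf334a980922aa454596a005000b001873a8eee9de03c15482965c2cb40026005400c139e2738718c2d2859b0b64a9bcfe100002f1801100260055ce8bbb7777af049e8dd38266a73f9a7f033485794af234df5730ae716852d0348a491416588010668d4d911bc237201fc040afd95faeb2d1658000f0022c77c8b200002f0877a719cf96d7eb2fd55964b2b8006800f0022e736458b34497e12fd43f99a1eb2b4006000e0020e73245894e86686940800a001a003dce5c8b029cf33261f5b67ca442cd034ee4ce8001c0ed0ea61d100030510f88a5a400050e355df26720008189072a0e50000c2bb01e04ad400100240018002ae795d03285cf879f1da211442946b28d7667c0022e785d012858f871f1ca20f442546aa8d614aaccf00037c80f912a27410a968419000027f6270ece1d1cc76674000bfb5a4ec0bc80007c8807e2e735cf72844f849f17a2054411a9dabb35752f07214848f52dc4dd85b85b93b75b8eb7482e905f65b504d6a6f2f915f211eec441a4e46cef4851b37c3de9978536a451b9be0004000199c,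
  nat_lit 0x609c0020e9291f0001889d34f80010ba0b37c0008c40b3680000ba536121de21c943a5353e6a71f03001b1d61ff6be7d59b2cdab05a147e28f534a23ea80535145b75801a00187c099b4a5591d580059f015a24b431ed43da6ab44f2e1c08b3660028f804d4b9a98873d0e343b98a0316328cbb1c866c934326852a212365cfa0038006c00d5ff4c7540012cd8ca4400003bdcd499a907bf4003c752a550df669543fe75d4ebabe521b36134c80000ef6edd967dcd479a8c7bec002c7507fbcf9d9668cd339a62cd7d23a8a69134a81e8bf217e6c7605f50bec259800155ef186c8e5cd1f9a4239167230002474ea548df55c47a5b938a00000e091d3000112c917d22f9d8ea8bf017df40ea267c5319c4ecd73741726aea75e58913a227068fce441c8900031d2d9ad395400000a100094a9206bc040396072b49de0006b60c55a93920009c4fae6c0d69b4bc40699c8540a465b9e6005400a0012d29c8e8ccd63fd38e8a00209598be217c0c7385f48be867a6cf599ab5c16b8326e3c38f85c8ff61fecc7442095ce7438e85c6ff5dfec4743209129ed465a8ccdf81bf0c742284cf2752776fc6df92042474155f4d004094812b007a01047402c987dd13a1274701fe39f95d2e95dee8bee17fa71cf8587,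
  nat_lit 0xc001528f6ef4e58168ca5ba4b647ea0fc989d366fc000d28e6efcddce97452e7723afaacaf615cb2b98cdf00006c340050bba17727c112e1b8a9703ae07295838218eeecde98b8317351ee040c0868eeccde3817a9171dd4558781b02c23ba09264bbe058477308742893e8f8ee41eeac3a815f1dc45bca50302be3b80962825e057c76f15c9c0b40af8edc1da1c8481511db44cf6334c1c852b8a554d58900a020d4696e0600c80123376dfd6962476e00467c656952d247b80f6faadd3cd066ea3b680223e31358e6b221e743bd0f4628cc5a4a35ecdccfcb00002eb004c0094dfca960c76b00407c59693ad217b7af6ee7e533713cdc0000bacfa39fff4769003c7c526afcd6043c6876a1e6c5159e6ccdbaebd0092011dbf7d2be8ed00074f89ad245a3cf6e99b6005a003865d39ca003490423f800305e147a2002c44c59ca002830c4888002444f59c8002097c11f4001c8060306001874c59c40014621,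
  nat_lit 0x25da4ba4cd85be336d64bc097a80108023477f2c8658db3a32ec40000bac337066d9ab3478a008400fa5e84bc0cd8680544799760ce8263d4c78975d2e7b35e6f86db4d2eea5e7003c00819cfa913564223bd00866be97792f3001d003e8f0cd588ebc58bd31da63a4baa97359ae37c16da2976d2f2801c67398855487ab1d11d6803335d4bb8979000d801d4782747a5cb66b4defdb67a5d94bc6006800e23b89634e6d19cd9ffe00007049a4c00027ff1db940099aca5d84bc0005c00ca3bd3556334c66a3c0c9a4ace6166ea55adb2d2eaa5df002c006258ed5717360dd5cbba6d9497512ef0015002e8eecd549ecd57b4f02a02ab3972ba80000ef69770009801547726a9cd519aa53db07b5ccec99d795d2ce50a9d153edecc009001496332c691de420c840f3df85d79130000065d7f78985130723bb96312c5c0090011a53cde39bc4489767265bf00001974d501a9e35448ed0008000fa538de1dcb6b97b72cf2df59c863d4cb41fdca6114c168ee258acb14001e003a94db38f4c49cf49a9e35386a811d9000e001b4a69bc2b96b671a5310000178c005800c96232c491daa6084c1cfed9966b1e762c129859c5339f4c3dcf31a9b35326a751d7800b00154a5dbc1338921c80000e09222000048713b71305260447632c3a5868008000f4a51bc2377ea9d1221d9c3352a6a651d58007000d4a4dbbf396472e4e57a5bd338520880000bc22336a72d4ac6efb4a44002000596152c2d1d6c1fd9042ce0cb0a96120010001d2906ef6e585e92c44796ee98999c0,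
  nat_lit 0x214a9f923f1edba6a72c7e505aca27c00e8015002529799d8982e00005e372fd1ed400980108758d8c581dd2a68b47167e25dcc16675c009000faae7145e6e2adc7818b031e06654bfa844b42508b00002f0bb8349da93d1ce147b200200036ab8c515899f13fe84533acc0cc0069618cad800608985900005829813600050616929400492f945040040d1481a4003900cd5280030d12d5280028d10d5280020612d5280018d0e5d10001089c94a40008ba0d5080000ba4000400497432e82cea8d101a22343ca3c947229d2d431a86d31672d71e899d4a3dd47c59ad147828e253a1a85b50c72befcfa3d0b3a618fd16934e9a806f7a9f9e3f3d8f40ce92c3aa804f7a5f9dbf3c8f3e31a97442e874d24c6018b88f3c4e3851a2530774906454b58f3a74cb9bf8b4b08a9eea3dd68f385c98d62825efcd9f9c479b1a655343f378f34001a8817ba71e645709638000065d,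
  nat_lit 0x758d6af0438a07158016f05d2b09b32e791ccf00170028005dccf39e473cc003c00697766795287a51773c6e67400b0013002ce675cf1b9e5001ccf2353f4a1c9459cf1399c002a004800ab99c73c4e7919e37336005000880147336e785cf1800c00145dccbba33c4dd44bb9802b0014002dcf139e07334004c00800136784017000b25e000d800a178c01780090c30018000825f001600070c280180006175001700051a2401580040c2401700031a1c01700021128012800111263e30000174a47cb52f6a614ce5cc6b9d3731a00180018006731d1f159e09d84000077b94d800027608ef53b115483f5f7316000c000000373171f08010001d94d6cef80027312e73dce8c7c1003e0072ac045249ba4b751d67ba528b1ae9a5d3b546a4314866aa603baa226444d08a2914660f74ffdb1e363d8770007000fc7c1731400099de9c0a00005d6003a009545382de8fdb53b5b789f973f350a761ad4e046775cc3c7be003800661dab63a60894abe2d645a89e1acee47bd00360062abe45209b9cb74206740d081ab53219db8f7a00005d649e8fd623dd8019002d55ea28f4dcc5b9d033206747bc676927aa4f37eaf1ee800c0015aaf314766e5adcd8196cecc9bc00003824a5f000126ecedc,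
  nat_lit 0x541e05847f316ee734550d8fe4258353e7c771fc456e782afa263f8099e8cba095c7ef0b85ab838460000120800a000695f413a9d6e00305e13340002c44c2312002814c340a002444f340a002030a340a001c5d4340a0018689340a0014688340a0010309340a000c6870018000844a000268100009e9a681000002973b0696a30696cbf0f6801f001b0038e6b001200093404cf49a0234020020011b9ab0036006801ec3d96cbcc1a19e89bde00005e13d446800003001e0042e6a400c80180077567e2a1cdee679c0101ea93d50e5b5e1b38780b5e16b9bc3b785400800fb9a1232c465d371a6e4a06140c59e6003ce6a5d963b207364e6b4387003ae67dcd05420a83e46f44bf0038e69dce539d7142c968801b733a212442a39c227c400d1ea333f23398019a698d50c0a9,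
  nat_lit 0x6699982ea05d60baa9998019003679cdc0b382567d9d0382e805d40ba69990018003479a1c1338246914cfacc8600002f08e7e6108c22c00b00183ccd4cb9e572bd357a55876642b3e8005400b9e6f6f68c0d6773d46d0e3e1d1d87030e167cd4da29b38b4aa7314e58b4a16a2ada45938b290016850c1271d2c000452b4fea3a4c00005e000286268cba644687cc94c929a610ab088744b3e400246260cb96444c88e1b343de877aa16d9f10010312c65c322143e24a5c94d9c464c380038c526ff6e6dcfe001c1037ca6b04eb000c312465b8cff0d8e16102c333e000146261e293c587f0ceb8123400106238cb4688ad11cd61b2cc000c6230cb71e8866b059600043134049159a000462180154c75c04c1507f5f4c7cf2b80090010dc6a131298767bc625531c7011053dfd7531e3cac0020003b719910a73e3807829cfeb698e9e55000e0019b8c4260530aa6199eea638795000300056e2f221c3f9285f50d14f65d76b3da00140023716910c1fc525e24b37e64fcd1d55114767b263180001dee95c000098c43bd234b469c0028000b7137166e11aa1abd5e8db9167a95bb3d60001b0b001427004e099aa74e308fe1434205840d04c23fc33d4793996436ff5930b26e3fb8de6ee56097c7f6124d4f1c12f8fea2592ca1825f1fd05bc,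
  nat_lit 0x13f2a7e6002e0034005bcda876144d11538f871f10d03cc8a00002f0a92e1f0c3e119f3d132875cf360004800b002d3232644b40c0022a2380260052766dfa9beec36f86dfc9baa620001cf571ead77b2f4458722fad31dc2eada05000d511401200273b32fd45cde09086810002d44479a11345de33bca8d6f44fd04c0008f351dfbd408aa80be50d110006f351f79561566ce08b1a0300055104010002435c277a871b00035101e6798012ff40e780004f020053cce69a21850309c504aace5254a44140128005510aa1a8fb77f695992b22af961a695512a926ff4dfad16aaf6d6599b3eb09d626328b5898b09d3eca7da00160005a02a38153652e61f4a3e7ae35aa4b885d10a6ee6c005340346eea6c25cb3e927cf1c6ad49610b82149dcd000968010222035a70c80c10194f8d2826096012b27d70010914a82a19ae3341a5c3015000ccff8c96193400140d45f7ebe6c00207c6637d7cd8003090c62d0c5c00040239f8e4ff20004039034a069c000005600042d385a9157e326064a33fc000140081f931d614a532a6fa00e101c82cd9491e921d65f481867f5846a35600520084f37d337796eaf715ed2c6358cacfe0020060a0c3981f4ef0a8ec1ca03a836c26c887ce59fb703479dc00f801da66e0bb817782eea66e007400fb3f40070013236a46cf14827b7318b5a574c4e98a014367e5d02176705d40bb4175ba0a702f4cd400d801d0604cfc5334003400911b423658a3d3db18c4ad29a6234c499f7,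
  nat_lit 0xec21d812b7256d9e89005400b401ba806050a0a1a52f342440f9d2a8ec11d7f2b6e56d1e88005200b001b28056844820103d74a83b0075f4ada95b27a1c014002b006ad084c9a00002f18ebc95b12b5cf428026005200cd401028105050fc264cb41e7a2cf420025005000c9400a7ffabe70fbe2a34c94683965d1399003810703ee07b2ca4994a4ca7006200980123cf3abd0eb19a0d58969ff53ff002f004a008de7943c8a2988afc7cfb41922880000cbb28ac00048a11971f6f3ee207d40f559473290994600b4011002079df28a9a0b4bf69811623a7f94ff400ac010801f79dd0f128a4341452d1f6e3ee007d00f4d946328e994200ac010001e68267b000101975436000f24112ed800e1ded0f9800d25c9511800c1d28dc5800b053150f800a113d03e800925f150d80081a2950e8007175139800061d3150c80051884a0700041d2550d80031a1d506800211395098001112150d0000174a898c3b179b6003000700184fce9f9961a25f14bd0a865a08,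
  nat_lit 0x475c1c5838f80150049051e57e1eb861ce8f2e5f24be1686266100001ded9af801300447ab8f5380480096015830e861f8ae53305a17a18600005e182d07b9cf7727c83d4a7ab0010001166bacdce86450c2685862f000f1974633800e1c1063a000d25c863c000c0c3063c800b113c639800a25f063c00090c2863a8008175063c00071a2463b00061a2063780050c2463780041a1c63a8003112863a8002112648c800111206330000052e8e951d45ff5586e099000f0000cd319b150b7a16c3195a15001d04c65730eca1d98ab01560aac01d983b2d868a39a47628eba2b3c64b38f871ed776aeec43b88769d4e3a976ce8d9c9bbca29f45447fe8ffb9ff4a0fd41f59a5b4280036aaec1385e48bc95df93bf36e46d09800c8267576e015c02f2b7056e539f08f0002dd5d3abbaa650158d2b9470002aaad41335a0c90c1216994e0026aacbd4f7aab58e65db10de0021d5b97b8215c42b06dd000f555e099c58c79b27768006825a6e041ea94be000065d,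
  nat_lit 0x6890fec6447876893bdfe6c88e16f800590ea21beeb95d428e9d1d875199e1c43eb8314d12ca4200002eb30a70020002487410dd75c6ea0c74d8ec1a8c8f0da520b448540d853000f0010439c86e3ae275043a687605463688d7aa20df9714bfd17f6017802f205ec007000721ccd11276f4ab40018002996232dc65be6014c03450c89f1a2151d8cead3b72559000a0010cb0996d32dd300660134412ff80000e08a3ad47533a94ed8955c001800232be65accb64bff97fad0fa55600040004caf196a32d72ffa5ffa28244f0bd652c6a87cec72b7056e49e8cc1a93b5255500020000caeb3c2c4fda9abfbd82395682441b43cdc958e4b1cc6d71220858f6a1afe7e44081570221fd04880128dc57559c90fe00d85fc3b8b21f81ec7092fe7a43e806ac341fdd487c0695f98d59790f600fa4ea49e4b4f01f983e770674e3617bccd800c4015da1d6646db2db6782db059eb28963e282e505e018002b34380d3c8a1001e0bd8f78a7d93d607adc015801c66d1426a84da0114028d0dcb32000032eaec17706ebf62bc50d166f8cd9800d002982a10e96598a5c3285c0000bc6803684bd09666c800600139eb33d589f54f769eee942cd0d301187450534013001766c6cde6867457575f4ee01a1997c400005e1,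
  nat_lit 0x132b5fe9c8ab168aa27bf6591541d04f2f83cd22a44b1001322a64540642d199ec648a715ba45555c7914c28500086c6a6eacdd4d3bf375e6ef93303dbd7efafde5a2c000c3cfd22824516cccd995afe247348cc9169230b456fdededda65e37786eb69de9ba73752d8cc003000568aa9008000178c00200031e763ce0793acbb20a64156244bbbf76834801a29048c0a24ddc9baaa7746e90dd31def0018000879d3450000479d32bd7336ebaa1b1d609a21ecfbd9f69d69689c0000f3a04ec09de1579090193479c905a4fb0f2ec07e00fd42d4a131422c89e6899b123c39a9b6fcf60ebc89d3041905c0fa91383e28aa27af1226c256a890fd1a44d04cef245fe0489911bc6e93f52913013b0f9283a7225c02778a6f5ea44b059442dd4fd4895045ceefd5b4912812a800033d637906f2a03e23cccf640ef912a172a4487f6722503c5460cfece4498964d499fd9c892109278dd5af91222d08e5d3bb122404b0,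
  nat_lit 0x1a0018699801b00163a5001b0014186001b0012227c8c700103a8001a000e185001a000c2ea001a000a344801a0008344001a0006184801a0004225001000022e8000d00000a5ccfc693ad259d3c8930125ed215526aa4b56c20028006346c00255b008c11184e446a803e298f4f19a69c2b7cc68d4004328d6441406dd1bba388a63125a205149d2dcc003b28c5d083a964cb0aa31548dd6dbae210768d0003328b5d063a924ca8aa2154abdd9a33000aca2994357348d9f1562b554c5568c800232896438adf52111a5934bcd1880036e100b6416e3b89602c37d0002650ec86a80ac6be7c984578001650cb9f95bf2acb55b63230000650aca0da8b9aeb16595ab2b549b7858c651dadc45b7ea8b9517b83d7372f371eda046b08f632a0d0799fd33dcf9f69e63846709b14ba60ca3a36e33125632334ed69dd0f68f5480030002d18189705760beead0411c6b75479ddcc926224c283fdc1810a9214ce1929e432e565c713de8e6afb349009205695ad305d3cba5d9e827924f20d3b61ec9ea800040001a2f95bf0cbeb064d14513ea1b143556eb87b27a9c000b45d2b8a197560b9a26a279435a869add50f60f53000068b40000e001c027ff4f550b1c865e086c8ae1561787bd8b915a349355f7eb322b0562,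
  nat_lit 0x13e0211248e715c9212396f91cc2683c7f790723945be5255088a47205c32c2c0000bc32a600004b0a1afdfac3b80065c0bb8c650032004a0090f72208c880f2a5da3ea13b4278c6880310048008cf6d440cae3d3991676347ab325d0f414daba20cb017618c80060008c010805068f251a0000178dd0e414bab9e0ca817518c6005c008400f804e411128cda3b99d800005d692da000267595949ef93de3519880a7b5000e801e0054ae04471496f92d8d1d33748b789ef53ddb51888087b4c00e001d0052ae016f3632ccdce2dda7bc4f74d45e2019ed20036007001434729ee5a8b44023da2006800d802756fc237e4b637fc68e0064800d1c10066800c178c074800b0c30074800a113e46f00091d400740008175007400071a2407400061a2007400050c2407400041a1c0740003112806e8002174006e8001188006e8000052e725570687e87b08005800c0030adbd5b6c3356fda036da37,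
  nat_lit 0x962549a0252048e004c0072771777cf242b35d479658412f0246002400353b9277c63db4df23f2d3b21d3ad26801100189dbddde3c8eacd351dda53afe80e801cfc81200169dc13bd31eba6f50cf219eb17162ded0f5dfb34988556b3ac3e17a67524c12d8243001e00293b6bbba692c004a7671a6034cdde1bbc4849d598dfb0358b692800427662f0c5e31c59c2e18d9309961331bd76924003a765046008c9d1ac0797af8f355a48000c9da036606d35126c9d5a47000a9d8c6960d2f75b2053d87c00085be0b7aa7fb68fcd1f0c5800069d84bc08f641ecac0f4cca00042f345df8bbc239c36e80014ebea6f0ec71d911f2c0002762a80444c27644edc888261bbdee7bd06efcddc35906b1712f9ec53d89aa52281851392d1394c729ce590df01be51966b432c2258464dac9b100060016db389e193c22786db38005800626c44dad611ac22ad0d19646f90df039647254fb33ddeaa52b08050c024404700011a4692ba000065d4af0a490004800426c04da56108dc61b91064a0c5495c69164a90000178d491000700044d789b3ac1f1b88371a0c84188ac7b2545a44a30ad5a9ab940b094624d7400080066d9208f8119b48728900008bc2000c0000c40feb9850afd3004000100013484000948e8a0d141e284450f12c8393a7278e548de7690549f3514a352c97e2d54cc02d485a7800480016d88d200000761028305068a0f14384b18e4d9c903eb7287da3fa9c641bc8395589ab1523b07880031583e4758ab0f332112c8ea124c103820e91d21eece53844923a05bc,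
  nat_lit 0x989e00005e193be00026270d7f5a250fc21fa43f2ef713c7802c0028c0f586aba2c93bcd2b8ec71d76e061c19539a64169e693c8002b0026c0d9a56077e0abc156224b4f329e3c0150012606ae89981ab4aa004c0080cba097400792f0091c0070bc7282c0068bc209940060e94098800586180990005089e097800492f8098c0040614097c0038ba809880030d1209600028c42092c0020e92098000188940980001089209ac000889009480000ba5405994cb29276d09dec00c00006046e851811b02204a2d2a00174ef4ef1d0f221e543c8ef1d3c2a78663ef4e19c0f381c6302d43da6d3d9b824af30c37b06f80decf30e092bd9b41c28388f4a9ea443e887d9f6fd58b7750ef11b2925e94bcaba8974b37276e46c15d81cb0f161e110bdea054a004d00941810b0227426c089a53a93e099c127801b002c9ded3c2b1f6a70b1fba9ddb4a4093800d00154ef0ef15e4bd672a900d2c17f887496946501800019769bd8000940432e02b30565526c131824b002e00493bba78163e54e069bd34a0a4dc12a824a002c00453ba3bc1792759baa3e34ac693e52c0000178d8f7a77e4ee8003c00a024804c1526015782b0acf5295da4e,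
  nat_lit 0xf751a95800d003356260995650843ee691aef5243a47a43f000c003156208fe11fd8932481090c12205ac4b58da699668000065d73430872b26c12fab0c005800535287ba31f56266cb3369a11472f8300120056ac291f923f512589009215243a9c74b0600003823df489951f49ee73525000e004eac1c12cac950866582b4ce8acd145af80000c004aac111f623ef124c8ff121247c400280122ac4bdca98743dc8506b7bd2dc4cf779fad33352200080042ac04129ac8f0859ccdb5d5a47548eda654378413c82851278dff16d4ccd99995efa000c007b4c8000800795532aa455d5444cd665e5abcac07400e64aee78e8000178408f3dedadc513f9ee3b51e00000032abe11f023e33c71a6300185540aa7957271e06ce0d9bc671646ec8e1c5b14f7953b11ba34db8e7a89ae359d41d631836af5c9eb9bafd0c7c18fcdeb96a526fe17e42fbbd5989faf719a8eb4c4ed556f180090016553caa2831e063836ea4f68ae26984005154e2a867116a2a933b2678facdd9ad7239942d3000092aacd0e1bb0ca201ef457b4af83915727ad2f80082aaad0e9425cd567afcf5fdf0ab8630580d2f00072aa8d0e54254d557afae65951834660018aa9b436694b0b5616b434942eeab200052a643f207e58c49187ed2e80042aa2d0cdbae422b7acc45780032aa0d0d5a5634e936d63c300022a9ed0b95abab591ba400095515ba400400002aa212c954f5ebf4bee1e4c2705bb896966723cea814d2489a5c056ce1693d0a7970064006981eba2e607a006801934b6b92d3c980310032c0f1d16b03c003200c53cb27a0696815a82b470b09e7d3ca80300030c0edd16303b0030d2ca794005e005d81d3a2b6074005c017a7915c92caa5a58,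
  nat_lit 0xf1800349783a7a003097216d6002c44c3a98002830c3a98002444f3a98002030a3a98001c5d43a9800186893a980014688975000107493a96000c6873a96000844a3a6800044483a82000014ba2491214fa99f5c019400100019011201ebc814469d4069b671200001dee72080009c463bd325464aad5500000001018e840623e03d707aae93a72034d80004f079e12444c9dad3b3b4d60000f071e11444ade4e4ae0c7aba0aae9494017c4784c27b927e2928878acdb24f84d41d62c4b249e899a4eb2085c93c15f996ec1c392762ad9e2045f124e83140132fbaa49c89328f81fe5c93811e9da22d675acc489090e1208893a4804900558c0038d3552be00002eb523e00014af4aca,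
  nat_lit 0x92de0014e081c1b66aeb94572938f77e2cf7a2ac9171285610abb830a7cd218643053de681e99052d5c96e69d52d5496d00067038e0cb3555c9eb941c7abf147bccd3a245348aae1e1c3cd69c92d8d399e15753c84f50a042a292d60d8a48129ac536509fc2a192d4d392596854325a400b35dd25a000a0790003c9903c1200387043eec003477b3eee003074a3eee002c30c3d24002830b97fe00247503eea002030a3eea001c5d43eea00186893eea00146883eea00103093eea000c6873eea000844a016800044483ed4000014b981d3050b0f96203aa6bcd881290270032006805880b269c60d2456e98265878b0f9d525e6a409081300180032d38497300002eb0016004090353bca5694ace9e56b3527834f04deae4b934de408c00a801f48189de12b425664f2959a53c127814c1e5620000178cb0c961a3a9abcc080f90210026005005580ac3ec72b0da6e0a6a0038990,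
  nat_lit 0x386000005d29cccf8d9513aa28414282a13a4801d004a6c54d8ea5bd6a2a568800019767c1000095a032e25b8004200693a320a5413af8ce13d56ac24b0496a7c0b51336400000e084be097bbc6a78b3601686ba6754b8d262400c4d939b1ed4430172cfe5a412e29b0e361e007c00bcd928382d52da87385096d8d8b1b0e003c00593a120a14134a88551034328ccd2d9801c002a9d0505020987c5d09d6b53925359c0846908e8d311a46019b5cf6b9096d8d8a001c0028d4353f80000382095f12bc98e800949834b809959a1253f390eb21da9fbb50b42c00000bc66c1cd8400180021362e0dd35446a8ad535d1341c5a15ed420017001e9ced04d20935434a865f1446da84e4c745a836ae74872345c02d6b92d7092d825ae002a003939d3504f965c1eb41f4ca296ee4bf000d4e72255c4ad091e6a052dd497d0019361e0db35406a82d5020dcc1c17e5ed40000b9b0d06d5a9fb540447289351270d1294a68761a7f61994136bfc4770a192999d2dc1b013604004800534fc8789804b00f4c9a96dcd801b010022002539aa094306272a80001784e121c19001c003cd7f800f000e9ccd049208a7c413951a7d464c8c92157c977000c9cc9048a0897c3f5cbdcf634f80015396a5494a9503d637946ddaf6d1df683134f6001139624070203265605b419e8341111c75134f4000d395b73536a26d49c45389e69bcd3c80024c54989534a9e443cc2d3c00014e5295152a340f2a94c74c8000382e706d0139d2f3a6ed3ba72b41148209f0c425fad2305ceae515ac2b3e5678ae0b93f370e6e1a3603286650ee414aa34aec897b1ba9c9b549c724ac80cceb19c378815fb285f265c4b5b25c1a76,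
  nat_lit 0x2817d824b0470a3e00c40139358151930e83210645e4555719356342a8e7195a32a2b6ed6dc935410f53d1912515ae00a40109352423ad078bc0f21aab749a81171796556d934e0a43468934c050803f366e9765af5b5f280ad1ad235d90b121604361a92007c6cb8d9b25e146a88d59242a492ab44dff1b56b523507a44cc898a82cd11d33ca5e3934c00d532e89816a412f11b2b365800f001a4daf83bcd5a1ab4b5717494d479b2b007600cd3afa0be416ea8f951ebe4c8dfd0a59a8e00649d7905ea0b57c970a4ab62127024e5601a7cb9938862dc32541a912b2252a0934434cea977e4d100316a34987bc8278e36076877a68d4bbd26840184dab83b4d4616972d509774d931b27006e00be6d541d96ac6d591a8b30ea004065d468a003c5e338720038b0c9cd000345e14b84003044c4b88002c30c1164002830b4b8000247504b86002030a4b82001c5d4440e0018688424a00143094b7800106870050000c44e4b7c00084494b7e0004448,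
  nat_lit 0x15719ec3c4537198e2f9db7d55e5738ae195c280146a781ef800e2640551000d25e0553800c1d28552000b0c30546800a113c551800925f054a00081a285520007175055100061a2454e80050c2455100041a1c5510003112854a00021740547000118825418000174a9b3d36c002a00115baab765719553937415312a642a31a9d945000005e136466c51f7f2b8c56e8adcc0010013a6d55b3e130ca276a712af80010022bcfaabf3c5614b129e210cd6bb818ed4dc9fc0002382000200002e92b6f56e0ae215c1ab815e28ae355d0377247288e6db2d365573dee605901b209a9fe2c9059c27a24f5ae502a6ea7b94f6306f87c88f8f2fc52dd5e3fb2be657326d8000b5344bb905da0ba59b7085653a0a5478a555eaabdc9b56a664fc20ba4172b36a10a4a7314a6f146abcd57a9368d4c49c200003bdb44a689d5ba979fc045a1f4cad64d9000a5e63000e4e0b52e5ef0bda1b5e36bef8de0cb4197792155de4d8b52cda841c10381430086126a957bd85cd5b8a4d8352aad72bfb451388ad06520cabc8eaaeb26bda941aa4353ddfdd4fc741eee56101c9ae6a4c97912fb6f33064a0c9bc8caae726b4c1e,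
  nat_lit 0x2abf2bbc574cae9401a49ec65decbd1e5ac3a54a1ed54cfbc000032eaba4574600c8021d39aa73238e40d781b15fe8bfd67ddb5503108620acf97c56b3e462a0c5560da96592c780316a9e5d180001758aa9b9c9aaf2aedd5d0aba0005f279d97532ef79612e89aa672bcaed55d02b9f005c00fe9cb53951c6a06ac0d6960e155c0070cbb2d7c0068bac2ab00061a665570005889855700050616555c0048ea0556c0040d1455480038ba8556c0030e9855640028c42554c0020e92554c0018ba600680010ba0555c0008c4055340000ba5350996f32d993ac00795c7ab90574d55a1cdc15422a98d529b2f729aae915c7ab8e003a00ba9c2d3841c480668b0614f429cde383c7773f955c45328a645718ae3400e35492e800000e092fe40004b9f3b715d0ab8b571400664e8b2d465b2f26a1c524f449e12fe1aa357120060014d380a6fe387c0ca81975fb4bf6d736b5455652ac7bc7273ef55b05300a5f6b6ab2bc00b80286a8461d30524af695d000b49ce65a3445a3ec50bd5ef0d50257a4ae600564e6b2d065aaf25a5c6180249d92fe1a9f,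
  nat_lit 0x795a003800cbdbf7b7cf32dea4b1ce6e1b4ea63e0d1af6aeeaa144ac9d1a085c106020a7db2db71b6d800d0030d5d50e400002f0ca210001438c6bfacca03d4074b6077d60f2a80050015ad195b06ba34a206ae650480001dec073b6057d5cf2a00040014847e9b05360009894132821ab87d5af29c0038013847c27884f209a8134cd2157d8356e0018009423d13c2278ea9bbabd7cab0c5920423ee6ad9cff5540398672f0bc514640dbc1b71f1f3ca4000ad5ad3f100002f0903420b4dab5b533e3c7944000c0073db46d2f4fd29f83568d77699448ac79440008006bdb36d2d4fce9f8ab486aceae23cd4ab84f315e5280012b74da5d5d46d9adb380000530002e11b26b83d5e7ab98602432484f577d85a30bba0f31fa243358a876a217dc2fcd5da767cecf2a8cb2ae7149187a3c5c7458eeb4c08a39145d0db01b59f1c3c9e6ac997a095b0010002a11aa6b73d5c7ab1e2bb74c3f348d600098469090163f21184220fa9abdb3a73742ef301ab100110865ff2bfe6aa44e61dcdf3991731a92a1ab0000f0861ff23fe586f50dee39648a21018d578006842eff8dff25520730b54a2a93b55c001610b42178543111225e81bd6ab400241e883d3152617da6ba1a14001c214842a98f80db81ba1d0000142137fbeff8e3ae1e926ab0000c024125420f0000802612cc022acece8eaa9d2ebe5d7ecf0db721827303b27a9aab009201217b7c041867ceef1ddc325b517d386670d1ce74e600000bc738500005397273a9ce8046008abdb201f433b7772eed592c28bb9c2d384daaa,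
  nat_lit 0xa41148b0e0e1c15f33bccd005c00ea1328a091416d6256277bfaf999e66002d0070f779eeebcea7ad0c7b5ac3a698000065d7c8afdbdb3ad41ba838dafdeee00360056dbe69a8534b6b08a3a947e290e1c0c380be63799200a801b4261140ad60905c002232e905700202eb1070001e3bd9056001c2f0907e001a3a5107e0018186107e0016227907e00144be4b240012345107d00102ea0737000e3a6107d000c344107d000a18486d100082e9907c0006225104b00042e810710002310106f00000a5cd017aa4f351ee3bdc80044005de5b3e507bcf584483735814cf299db6e4002c0085ee3b6aaa80f5019b303f5a6afc00a802180895a61d2e555c5dc0bb859f2b7063092d5f05c668fed20674a021e04260845f7057d579660051abd945400005e32c82590807f00f16c1efae1e5900120038265eb64ca296af03743e4a7960004400ec24813d827b896612ce691ecc44c63000038251b000013188edc,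
  nat_lit 0xa3b600580048a79ac1a547ca8f1b30330c63c0c76cab56b64e0dd80c7ef4bc1d788b899a8c55181a0980150010d6c4b8300003bd844a08921294252165f6824004c0030a80277ceae25c135af38600000ef6128c251165d68200044002ab297c775e0a0ee3e209c2ed6b165c681e00400022b284860912abb8435086929c29ad5a11c000077b14e2000400751d344f289e1ddbd82a8cbec28e848508d685d5d8b53a6a8289d913c51d2001a000053814e229bcd6a000c6816596024e849e1dce3b7e5890c075c20b8498c73b11af3040d07e00fb71f6ae75a0a346cf7d55598dfdec75f724ac6858c83d29362c6c98a8a1515ac0629bdad30017474113b2274ab9489e514422914512e2899d0af3d5e6cbcf59d0bf9ea8d4e291e8746408fef4e0db81b7001e2a3c59a7dc12e6360c69df2ad76b488a90ad591b5a4002a8e7c889a8aee2397832efc7edf178e6241a356b44004a2ad455f4225b86370d77475711a1eb43f6b4000422ac455ab61a94a52956b10f695b9bb7316b3c003a2ab9ac11a02342446188c40f01ace000cd009cbc2738170a2e1846c000a8aa5155d0857fad5a81acd0008cffe33c48f37f4812ccb5600068a9d15429f053e4b4dce6a0004cff9a5c09d913acd660001454a8aa8e271c511f2c00033fe44c00f533fe2c9612402488eda1da4f06de243f2d7e5128b5acb78ea92a5257be507ef4da02a1354276d94f79c020b594752d4793b3b8a690a51ad2b32c6656264801f80406b25478bb3a8a670a4dad2332b6654264401f003f7bcad6416852cc4598c08f81126c60fb65e698033007a26e1ac70e161c25f35bcd1006400fa1348a0d141e4bb4977b58d4f180000cbaf9a5e6780300076f785ef03ced7ad6c7c1b97d3cba78ad62802f0074f781b61d420a83ed9e5fb9be494950928945a,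
  nat_lit 0xd7f1affae37109a213c6168bfb17b61c64a622829001d79a94c2172cf0187172980692957f0e2e52f843a5cdcb9c4a5e1689b54c38a94ba2de555c871529704b15474ed9e52d864266161c1ca5a0ed05d4438894b2257bb3e871129602e15c96fc98f621ec73db0d88cc5214fc2a002a3800f140d29c80000cbae07615c46272ce859d5a140029003aad05f2c579b94e2d724d1f00002eb578886de9185223ab3f0036009e8f622924522ef4268f35c68a468f5802600322a26b0e952f2a5c6d00ccb19006b880128018151053e8a7b189e6c3a7b48f609ebe7e40d70b4036804e062159c6222cde59c1a1180240030acf1ae09c3a000065d992a000270e0cb960f23373bca45168a328f30021002aace5220a45b9928d6fafa345108a2e8f2802000262a0eb0b95292a506ce9ade1ffed07400f8012150453d0a7818986c2e7b30f5db5ba25d59feb3fc70250ab630e16692cd4d07400f00126b7185958388cd4ef19143a288a3c40074008ab35487a96435495f3e8a11143d1e10038003c53fd6132a4a5490ab21ff83feda0c801b001c29f8a7814ec3128d84cf642bb30aa630c16652cccd06400d000e5664f926bc641e56b6d141a284a3bc0064006ab314872914e1b0d77a86a4d6d51d900003824ab600014760edc,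
  nat_lit 0x1e4a00042e81e5500023101e5300002e94e816e267e9cfc9a24f042a053c00d801a002c51f4f2935e92e580000cba4fe5b39bfda002a006000d115a22b24ac8916cb97972ad799ad927ea4fe1b393fd90028005c00c915922b04ac5af2952a00005e322ac455c00b80150024ff5db3813f627e66b5ebac4a946bc5b37bfd60022005000b115622aa4ab8914cb937f54d7807757b1ed75a96d5935a5a21aec35cc4c97faa0041aef969ecc91992d87289935f99fea000f001c2f2c5d535dc683d0d2b75d7028f5509f893f26cd8ff4c007001160c9239d7537e2c4fbc9f8b66b7fa400340080011028ad76cfd600003bdcbef00013f5477a8c6b5e4219157e17f9e0028006800e028408211214bee6bb1a2cb455426084d5d84491b92391569feb00096bad6132c205d5646f48df445092af24edfe700086baa5fc581f8b83170a48cc91a8ab0ff50003b5d21d49b8f3f31923124662abbfd3000c60f3513b23b2356cb249387f96001460fa72b245a48bc5557fa2001067d1f48999133353387f9e000c7406bc963aa37449347f90000868faa911c8a2a7bfce000202994677f9a000007e000400108a2114260a6a7000988130542a46448d211a65d54490892256527a5ef4cde9b3a8d75d30d92bca93412687177c9a50d9a1b28cf2df3093e127c6d975fe235d0000db44b38a67131f0ce449c8a74845b10b6684716b9c00000026d10ce259c447c239107225d2096c32d98d7300012282450094c92a07726ee55e29bc4d7c053005ae5000004c800a,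
  nat_lit 0x31000a1848031000834380370006225000300042e800360002224003800000a5cd0d8d211c3a3a437303f887ec1136023202d800e001bb5ec00d80213a3d677ecefa3fc1cbe397ea83a7754ee64b888f2000b1c126f8000a1decf2f000911303eb00080530f2e80071a28f2f0006201809780051a2452680041a206498003174cf2a80021124a47000118800070000174a70f473a6e447ed8fd1225e044805780150029004a5231af53cb600345d69afa00305e13cac002c74a3cac002830c3cb0002430b3ca4002097c3cae001c68a30c000185d4360400146213880001074918e0000c44e,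
  nat_lit 0x408382af2af83c560570dae55e843b057e0d64abc0f7502dc37a95761d899de63792ae85a15e350f8e55c873f45061f1cab812bc8f642f9956e170d6588d5d1cb23b3374e3fc47f39145025003140159831003200606068becae1eff110a60036005200a0606b60000d401400010030006802a0188049c8a22301855e6bfc000c014b04d14266e58c4118816162c0fc21479aad7f000080360090c89440088294423335058800043e000280029aabd2cba598d5f1fa7bdbd7b7c3f61afd0026002559cab36a9db53b9c953e487c920b21afc0024002159c2b35a9d953b5c08a4cf6bec00880076aab0c9226ac5498ec33a35afa00200019aa986530c941cd039335f2003c002b552a58d0e547d635f000380022b345666ae855d1955600340019c46389204a5af7008c003c7049890003877b006200349720076003074a0076002c44f006a002897c0074002430a006c00205d40074001c68900700018688,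
  nat_lit 0x1b6336b03d247a6b9aa8ecf65ba1c4c38a95b6d8a1ff36e44dc71771aedf75c914b2359440695b4d89d42c9329226aca54765b2d90e1e1c44ad96c492fc1b4c252a4a44400080188072b61b115816b00e85b4763b2d50e161c34ad72f05695c14d869f0d46357440295ac50dd0b58ec365a21c1c38495aa458330f6618dca1b93c3ff95a8d883133ae73008e19943ff95a659600f186050c121c0cad20664a11438095a2004437495a000495c62b8a5719594277d001600461a9d867807600ddb0f97b600005d603c8078cae215c32b88ac993bd8009001f0d46c32cbda6c3800400172416c441888923624bcac1e7b399a3334ad86cbe000003820c1603c20780ae095c02b82ac8d3bc000600190d3a5efb6189ddc00280142410c435887123324b6ac127b219a06c2cadf15bf56429dd8002000a8699618201a00300062d85020656429dd400180098697617ca66802d006001a9b094ee80008004434ab0bc00ec01e804a42d086c9a46b61038991b8236f0002001c8ae9152228cb5fd6bf04bf6c1c0000006afc10d3a389d43770244c6c98e13324122d830006541c6168a9a953b6c14002115a229e450d6be2d74accc7aacf541ea519708c591ff0018000c8ac914e2284b5ed6b9d6653d547a9db0446d647f8005800222b045348a0ad7a5ae55990f54b45a00061a1c5b28e1d50c9c069316262e4cb934e19b46c0c0004342b0ac00cc01a80433d487a9dfe7bc7d6746d81434c8334de81b5836ad9580d80aded87c92afc2e5,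
  nat_lit 0xa93a000065d2da05b3a32dbe547ca000a400d891d123edf6ded6d49c6ca278c0000175a93280009e2e565442095ee0060495480cb0de5e74bc8c1fb68a549ae932364ea4283eb07d984d0d1a1a35bad0add6f93001280176c988103e062d965b2632b3e4f7c96009000b09181234ad4a56ead1ef1fdfb4441d95e8005448b89196facff4db25a16d1fce20e4af30028249a404586b2f325e360fbb648407080ebe032d905b1a329be4c7c90008400989156c8e68700001c112b6a56aad16f1edfb2441995e0004448989156fa53435b225eb742ca3f7c41895de00404914804b0ce5e54bc4ab64003c48889101fa629245253deb7bd360423ea1bc46c84594abe07de55f48da89b67a42360461ce4aed001cd9052a700002f1c25d68bad181d62d6e07c820068006091da83922c2953363e5afa325be447c800064005890d121edf2decebfa36c7a83e0000178e574000912371ff6c30178e2f0507b1a21d25c912141edb1d9a6c00005e1a90a000269a8d7e93e927557ca36926d7e904d809286c004c0030918a908d8e3aadac48eafab6cbe3a0026001448bc99e9152f0d4cdc757b5b61f1c801200082418484541b9340fe71b79b636000c48289076f88ff05539a15042af0fc8f2306a56c6a796000017852a3a55d4ab2eec5e35bf5488132b8000089138feb3cadb19001c0000488b7af1f8828e851dbddc7bb4e591cb3363024463f9d8562f085ddcb7816eeb132fa0de67080f102020c841987f70ff2f96215fbfb8568cad1445788a61b7e6b9e67bc691397e72f5c96b92c315e62ba203cade6c5c58d8b1957a0fb8abe11b4136af4806c00c38c95bad8b3d537a9ce4adc9518ad3159101656e000a284c87cdb15,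
  nat_lit 0x772d75502d0b4a1290af1f95eecb65e001abb0bb367504e9f9b99098a0015cb4b546a5a32516c1e8d860011fecc9028ec36471c97a3f4000dfa405a20b4ad1c4926b65c0009cb3396975925860eed0002ff5d724850a0001e1a32bd2261e1b3c379121484d867b5a4553aaa8ddeebf75961ed96804100805171114a2285c930e0e5f10bc27b815ba1b2c7cce010001f945b4450889d724438297c22f05edfb65600fdf33570575d4d215a4142820024003d49256486ca83f0801224128ab80111c103f0001034cc3f0000f2c303f0000e25c83f0000d1d283f0000c0c303f0000b113c3f0000a25f03f000090c283f0000817503f000071a2427c000618843f000050c243f000041a1c3f0000311283f0000211243f0000118803f00000052ea13d42d125c0074015be52ade2eb59a38b46e84dc1f7db29,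
  nat_lit 0x6eb20008449a7e600044486ea200005d2a9d553b90a580160048f16de2e48b5a47029b853837506d125a28000178e82e000096884e73449689d1f79e2cbc5800420049cae3b6c7abd22d282db68759c5d743c5400400045cadbb6aaa2ce1b8d8a08646d08168230a8d0a17802ef801f00228519c1a383564c8da0d22d000038255eb8b89172645954e74288003c00ebc5478ab22ba916368135700000bc6f14800d800c72aced99eac48ae885328bad1846f39ab6d9fd76532a065484e489ce576ef159e253c4e0034002db3e5194a33d02e20500bb4176400c800a6f50de85daf367a816d02785d90bb00060005213f64c4c98192ea7196cf268600001785a1e55e4b47121f2455d4e0427a002000b05d60baf342db3b002a001d09e54df9154e8e9d163cdd763959c5ad536754b7c0000ef6e53800200137894f12e452522761c4ea2db9fb745a5bcd9ccb376874cd499a9bc4a78920048001b94d76b95421b389f0c000077b97be00027c28ef5076eb3005cd0b9e003c000394a76b35415c2e3eef97bcd9b800e788af1199a7b34c7c335bf2332d033466e8ce631e46f9923526bad10c99cb3bcf21c396872fad00ea71d559c8d9abc994927ea4fe497692c2cbc3d4b76b2e525b36001af111e22b34e6696b5d96a82d4f5abe26a04d4b15268c54a3206e3abd6030c05da8e9de1034a068d27124e5a604f3e5e7d3cff9204f045e06c8739145535d09a366ab934005000c0b981735021a04f6f771f4ced51dac6cd1bc9ae4c0012002c2e585cc40848139bdd47d23b52d99800a78835a91e232ba7137c26e4ca11941614cc295b320012e5b5aa552d58a1b58b1ba83752b1b73355b310010e5b1bbaac799ffcff283f087e3642462d1b30,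
  nat_lit 0x5498a91a4b72361e3fbc7e008e00e50b7551191b94211b4861e40038d331f22003477b5f5200309721a0e002c14c5734002844f648e002475068d2002068a68d6001c5d468d0001874c5c6a001474968ce001068766f6000c44ea54e00085d068cc000462068c000005d2ab6111164653d747704e5c8014003778dcf1be3fa34646d1dd7f3c6a006c009dcb8bb80aa58e210d95087a10f8da334744c1608a411002e646411a6c2fb05f5006a009db451d82003c9900d1c003890414d60034b0c6ebe003074a0052002c30c6ebc002844f6eb600247506eba002030a2438001c80662b200186895e2e00147496a0200106876eb2000c44a,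
  nat_lit 0x76ff12525b98629495a24a4b72156a133449496e23060c8b6522322c645571d8ee71fb6a61387943160159b500f3c1e76290d8e3aac4cab50c5005500c2baad966b69e014c0302eaa6598cba5cdab9b96250c4d21253ed1686c48089003c8c229c4529b55715f555ddd5b99c00a4850b99b00a2017975432ca65cee6cdcdbb12662650921b4e04940c411a546c50c40187c02f8051430ce1d1c3ab69ab1980078bacc4a80070bc68e0c0068ef605e800612e4940000582980828005089ece6800492f8bea40040d147374003900cb8840030d10aff00028e92ce580020d0e2a700018894c4800010892c4800008891498c0000ba5585a2fac5fa91c754610ba8040009cf215e4348dfa4c4da6507300002eb55b6000141c8aca7906f208025803c730cee59ec448de88b3297ad3055b56d2c025003b730aee52aa03898367c22384481e2f11d2da5261f047a08d017d23348d5e18283048049007685c1b49a10a00005d6,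
  nat_lit 0xc1000101850c10000e2ea0c10000c344863f000a3108c1000081848bdd00062e98c0f00042250001180a0004f4d000200005d2a5d108d9b113bac848685b8b3a1676aec800280000c036d54601a434486afeedfdb4b886c046e043cb970e172b1a5894d2e1866466f4cdfa5c28a7e00265c2cb840ee5cd044a497061d00071886b2e084b11c810eca5c089a2d57e2514b8015ba931c4a296fe257be4389452df82e10006239446d88891114fa9621f58acaa8e07c00efb6a80008488b8d171ccf7c603c325964b096e52d6b28e6d4c000890f00292319297254102f605dc68a8d2364d624dcb7b6d484878cd52ea3170ec5ecb7a6d4419ac3bc96f22764f9d892f2de057b2ab0cdbe5bb861b0b3e24b4b761559deec42796ea1eb935987492dd055b,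
  nat_lit 0x3a7c005889857d800506183808004889e57d400412f857d4003861457e4003100c57d00028d1257e00020e9257cc0018d0e57e0001089c57e0000889257ac0000296000000396ec2beadae0009155059785f60bea5942fecec49be9f7d2549a9b5b00102a7d9bed7155296a531fdf4033806a6b99b5a000e2a9888d10fe25ae4bc0f37000c2a75088a114446688c4a42000a2a7d75a58a07974ae4124e00082a7c8441768429adac80031534cdf594faafa1ae8001095c12c007f8001154059481ea000400745f18be15930feaac451c09383f4b26c64a274000400e0be217c0b25dfd4d8893810707a96452c56d60000000f001aa349469b35785b0ca8195123d447bcdab80111ba0bb79862b42f1532dab000d0018002d468b35585acca79950242b9daccd00eba182000345d61822003074a1822002c30c1822002844f98d20024750,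
  nat_lit 0x8c011c006000d00225cd4b98373b71fa2ed05dacc376da001a000d175801a800c1784565000b1d28565000a0c305650009113c565000825f264080071a285648006175056480051a2056480040c244c28003174c56480021128015800118800140000174aa0dda8eb5212952456c8b0ab4cdcb0b9097260004009db679a0600005e11302260c01100002e485c857c2d5be9379273a3754d026d98b9197205f0956f64ddc16c798d5d1e4bd517e4d3a9a70437086c6dc0e2ea25a47687f515f580e181c275daf005efabf58003000680120026006a00d001a80260048db281c20380f7d1fab80170032008c01280340064a3ddb641164e2100e081bf7be6fd5800b001800440090019b6c6005c00f097f12fa6110c2157103df47bf27ed8a946d8845888b0710406fc0debdf17ea8005000b00200044db0cc0a00002f1cfd83df27bdeb86983f308225e84be001b0028004a604b6c006e9ef73f510022004c00e801f005c00b1478a8f26d7ca23be4c0020004800e001e005a00b0015a8f166eadaf4c07001e004400d801d005800ac016001d157459b1b5d2872003c9902bc400387049a2c00345e3217c0030b0c,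
  nat_lit 0x2d565a9c01d000e7edae319c24b5a86b5cf52eb941c4c00e4006baeaad495a8dccc494d93812afaaa6b8cd6df27760000178675180009dd635fb3cb72fce5e9d42b7ca00280029d73baeaad53203675136f6e5e5d4237c900260025fb438c16288aa2c19483116de9be400120010fd9dc6038436b44d6a650fd722696edbc80077ecce2fdc2135a1a70924d8d089a0f6b2c3e35b78414246bc8d635cd039c070461896a32d3e00c800336ef5e016720c2e18605a88b4f0031000aeb8ab4e56996dda65480001deea64800099503bd2eb35d6acc1c006000275bf5a66cca0b08160d5336a6436ea002c000c3b17ebeb4916913a7574e923520b8c1726dd000043af17d3329a08cc1142d5dd6e5696ad2ae62805880b216482c79ad335a1854b5ca5dd033954162833287c4961a1f0833035a05a40b455a9ab52baf06a56d498e6a1ce12d9e5b40b4e96980056db9bb9022de45c48bd11eeb2a4f32c8b2115e22a400a9b7217c5653a172bd2b74563be877d803f008600a5b712742a4b82d985b41d425c908a691500050db84edeb3cb1395b78b02c188e3150013b6df62a22060e9d1d3e5c888a5914e004cdb712a30e3e06340c8803b007e00946671d423a74b901149229800905fe70c113723070c4518a0008c79628a2502c8a4114a00445959a360042050804d009801340090013002e5cecb9b374172062ee9b6d2d200160026004b0098004400900162e745cd5ba036d800554349eec3ded406a80caabe68b94f01362a6d16dacb45168e00ac0128024804a001e004000a17382e66db5000f0026a19cf751ef4a031405d55e345aa77c9b0db69987000005e3,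
  nat_lit 0x7a40008c40316000002974cd1eb4b5cc6b8ce19dc723f8b00580160b6296c918aedc416c400ae00add8456c2ad82e6da4b5c9de95b955ac9b60054ec1eb60d9bc16602cbd6968e921d28a07940ab70eed85dbd0017002b2772ae1b9997548dfa401980296e19989441487ec822d046209d6fd000c80143f8771c0dc2956a18b83148b6216c000a6009dfc338df70c4d705b8400865afc029002676075af6b5e39b192cd2766add3706cc45987c41187e68221044a09a6fca00bc012bf846e0abcf956718b2313cb6096bd00a00091fc1b8dc70bedc080237f0504756a32d44752eea5a47b1ce639d10301b80232646548cf1212b2ecf3bc8c4118222ec013801136fe031400813200314007920956f80070e080310006961803100060e94031000586180310005089e031000492f80310004061403100038ba803100030d120310002861203100020d0e031000188940310001089203100008c40031000002975aaab57baeb8780004000d37d07516e602ad549c30182dbf207240e68211be78019001efdb9c63aaa255280cbdb7d,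
  nat_lit 0x1800200a7014c029c002000600168bae3e6c7da9eecdcab3026612cc31c15456945d40028002800400d801c1b948a491f623e5a2e90012001000100a501480294001372702b22b0cc3802b2296c52eb91a822e8bbc00400036e4aaef0003175800280021740010800118800030000052eb7dd8247e072baaaa938d6a9e6e08e2b122e300060015b914110cbe997fb8527045158517100020008000404f3720e48a28e45688ac48b8400080030000027404e009d6e3c001000045c1158628fc4f1225c44b6cf558267f170c118f731e37d4328de993b44b56965300a5b3ebc7cb8f1a1daa3c687cb8fefc03f808100c4018404e009b0138dc722df8ac1147a278112d225967a6c12bf8a5228a4d1ccebf0f7de7635a11525414a7e87bd0f0242d4856e169a65b4aea344bfb9d1fafea2f0c5e24032806100360005b8d184c3020602b4bb6f1c5e0cbc4006400c0006800037194f8a4c039cbadad5b5dd8e804000d85b6402e80196e2c016802b93e55765cd7baba6ffe012401fc3ef7634dc5440c41428289059b7fe009000f9fceb8f655a2ab0db89027800405e318cc003c77b03da003897218cc003474a18cc003030c18cc002c44f99d8002875018ca002430a18ca00205d418ca001c68918ca001868818ca0014309010e00105d318ca000c44a18b000085d0,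
  nat_lit 0x3400030d100340002861203400020d0e0340001889402200010ba0007c000889000480000ba53a264135b0cb33ac7bde37430544605cd8b9c0015003adcc808b00224c800b100204820074001e699801d001c58653a5001a2f080ae00183a500ae001618600ae001422780ae00124be00ae001018500ae000e2ea00ae000c34480ae000a34400ae0008184802600062e980ae00042250001015c0004f4d015c000014ba8996be6cc531dc78b70bc910e97232e4a000800500ad6e6000480b51dfa3c6c746377f6e5c00400b41df83eb87d604593c3800380b6b020644b30c661ee0b62b622ed001a0020003806f00e65e5db969eee000065d,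
  nat_lit 0x45e08ba56090001008c00900128037004a008c056b7360000022803b2e565c9805c808d76d55c92d0f8b93442c005271706b20d3dc2e0aee00255f988dc02e400423a4474c0518007471e8e382e8000c1c20383048600155f83a16074c0020fe31fc402680034e2092bc1d2000418002fc806800055f6974c01640002bed08b2123238747127574ded0ea91d5c001801cb7347ae474d80050bbc9c10e9b0008186841f1d36000c4d408163ab0001099a4e8874d000115f826b0b4900002ad80260010001023f0108004465d01860040704013c003cd3300620038b0c01a2003474a01a2003030c01a2002c44f98ac002875001a0002430a01a000205d401a0001c689,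
  nat_lit 0x5eb2e785d1976118ca31a47bfd187a3109918dd4d7ff1e183c3423a8483991638318c7b3a53228558a45f1696644843a6ba6255cc880b8a8c7c5a4990e2b92ae48b4932184d09c5916926428abaef9d386a7104df4d3e22ccc14e242c4864005800c6ea26890000178d385a70e4df0d3da2cbc14c2428485c004800a29673445ba7013af77e3bb5a9891caf7e1b0a35fe110a21ddba60138f75e3714af1ad58eb51da73b5252aa31f9ba50136f75a370caf0b7136e2a4b1daafa0a6dd2009a7baaf4316f60de5047408ed3a8b7460265eea59bb7a80f50602b39336e8804c3dd58db317162e333ea109c04bbdd2b372de359e633c75e5c04b3dd18db902920513b752f1c04abdd0843abde541f88b80251eeb4d8e0020049949c0965b8b3bd077d202180424a4bac64e821d89b858014472080544677058dcb30aa9154e069664245ad81f0f83dba100a68cce40ac4c482749201240bb267dfee71c507916a013005a00da2f807e3cfccd0bda178ad85a7f3e5b6e80bb197650084012c05980d201a0fc30a8395115738dcfce5700002eb048e001e01280140029007600a4014004a009e8cbe72b373c8bb0246800e0092009c014003a0050009c024804e6e75fe981ac033c2a80551395f82b812340068048004c42580020018123824cd10f8e5d5f11e35081e1054c5cdb9c,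
  nat_lit 0x3ad275a157f53d35f88209c414974c000e00259fa2fe200219ec33d31b9a372c6e18dc15a90b52a8b9516f6ee4003b3f36e18dc3a20c463b69574e7ada53f86535000333f27b4ef46409d013d675eb028578000acfc5b85370c7c5661a897300094dd1fcd3fa87beeebdcd370006cfbdc8e391a74ac8b20b550004cfbd6bbbf7a7e2a968800167dcb5dac4b17416ee000033d01b8a44c33ea679e37106e10dba1b70b4fdcd3d9a488f33271bb7002ab7616ea080b9a351a2232942cb7daf014de75376c0050e451c8c7bcef79608441e0112e1a98354af626ed60fb4732b45aea3eb403fe23c180044009aa760a24dda3b115514aa2dff01e0b00200048e441c8a7d462779bb3a2b907ea0fa4730b456ea36b3f3fe03c14003c008b7644645bbe3b0f5510aa25fef1e09001c0040e431c886ec5693515a83f107ca3975a29751759f1fef1e08001a417918e231edde9d86aa86550eff70f03800c001c7211bb03c0c002c00999550b9e17302e5b43f689111394a4375f52540000e09337c00054943b72394da24750d59ddfec9e030010002953685090a353379bae5502aa09feb9e02000e0024e3f9c817d3427544eb375b35a40000bc2fbb828b85155b94001c0029e007fad59d1d41471f9ad0dd656737faa77fc002000638f871f9e2e09d013a627d5bab3bfc000c0029c7b38faf761eeb14e328ae514ddc72bae00080022a670a6a14dad4d4a3e93f128a2ada97256eaa8248000178c00080025b8ab705bde37d21ac42c0c586a841a099412138c000018c8259,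
  nat_lit 0x20003c990a31e00385e1001e003474a001e003030c001e002c44f001e002897c001e002430a001e00205d4001e001c689001e0018688001e0014309001e0010687001e000c44a001e000844900240004620001c000014ba35823c0479000b00200065a02001900200034f0a000d6eecf04800d264164b000c1d2964b000b0c3164b000a113e8a780091d40e9c00081a2964a0007175164a00061a2564a00051a2164a00040c2564a00031a1c47a000211389e000011740f0380001748000800811e623c5bba,
  nat_lit 0x60794219443124bf49a0de1800507803cb55bb2b7771e2bcb8004077e123a6952e8f1388de10003077c3cc21043e24353c00103c700295ac466576c2ace159cd40e5ffe218843213f70032de0c0b89759585508e13f800300048008801200304fe092f07864fdc00b80110020004400b93f742375852b06378136880000e08003c00a93f310c021797fdd40a566aacd1daec6619b42c6d8014001c0034007001427e88462b08cba8816902d492e5a52b49589d14362868508565283c0077e4fcc009b77e37a40068bac00c800612e4d09c0058e94a52c00502982b2400486174ea00040ea062600038d14d08c0030ba812240028e98d0640020c42d0840018612d008001089c0005a0e00013d340180000174ab90cadca6dccecead0b984ac01580508413e4000800bdbbe86250292055d9daac00841c9f18003005cd064017377a424ceeb34956b9918e2b0f93de0004dde3fa2b18b004d62193de00022dc0dee1be0cfeda0b002b001e0040f130010001c4f80ccb001c00340a1,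
  nat_lit 0x1c004d009c7990027004d007000dc01c006712a4df0804c009a798c026804c006e00d801b806612a22505be0006c00d401b004b00987988026004b006c00d1a1937be00d001a804a00967984025804a006a00cda188e2b6f785f2a295096612a49f093de27a8516ca242ccc003edeebedd73fa9130e5b001200420f9d63b33097a04ec5dbdc489672d4008801d599450c0a193924723afc02c6137b6004000e2cc9288a51609e893db27bc129825822926f6a961daf091d9290e522569e3f0a7de8fbc1cb4001edecb2c57dbcfb65cfca4483964003800e83e358e4cc15bd89cfa000065d7230e47ca16942b598a00600061cb0488ce7f9d5b4e7c6f5d966b2c27db6fb59cfb2445395e002c00d03e058dedeb1a917568e7f12221cae0014005966194292856e475bd5001200601ee1410006000a8014802a0060504109a37a815882b1a40a586890282b185620ac6904ce5600086f4ce5580070026b300a1314287234e44df7b58b87ddcde9354d75007df0fb89f6f395600180092cbeac556811bd13ef67dc0fb71caa000a00501ed211a1bbe3759e87b7a0001000983d958d0cbec9f513ec05580ad8c7918dd6f3c64d95a167fccfd5c55d8ad7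d9ce7b921e9ca70006de7510900002f0aa0665866820d053ecc73d890ece528001001ab2ea884379a6840d43da2c73d890e8e5200000018b2e4a1a94486f3000703d458c6cbd9e75953f9c5d08d1b11362359ecb3ddebe3d816aeedff229d130025a84b1abedbc49aff92b7e60ec29fb2ecf61c69c0d2f53f4a7c5cf5a4393946de5800d07a6b1a46e38b6816ba9cd93a2273db1eacf29bca00180f1c79a2b7d562d0571f4abe977d56b309bc900160f3aaa8ba5e74b42ebc5d7286950dcea1dbc800140f384348866498692f9d22a3ff47fade3800907971c5d2052409016002bdd2f378c00201e18f3107ea0fe5b5d2c7b58ecde2800707843cbdf9641ff912ea93dbc4,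
  nat_lit 0x1564001818615640016227ce6300143a815630012185156300102ea1563000e344929a000c3109562000a18495620008343952700062271543000422495540002224155600000a5d649b451145ec4d3085245448b091880070022f370aaab7d20018918c61bb54511d1f8cc047b3d2560cac2959c6fa075d96b22d0562e8aa1154e838ef8384368006000adf3b49010c60014002122f8c3519711eda3e20a7614f5be69bd4000077b0004000c430b48ea81f6efaa103544710235566f54de96b58ec7c00c965d6edea07348d10c00008000922b244cdf28e340a601446a5fcb7a97431852684b7c848ae718c8108ec31d7632ec6159a10df1885e27c68b3a2f445e69a0edf1245cb4ab34184ecad49184e68285decc8a2c04d040d66cf644589a061b006718c2334083d7381f1846680883754f6305cd000c5220b5a4d99fe189bdfa8c1533f847a,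
  nat_lit 0xd444e3e3d83ec55f4ab8d8e92d625b847750eec4a9cb9ca5d7007a00d044912852508284850245841408df780331120005543500002eb0567001e004a344464624b600c0018888f697950f6a1a37dc2238018002f24b24950929db1095c649f093ca1756fb4017125824a6494585658c18a7d693eb3aad09084adf6051100202eb22d9001e38200d3001c699a3ff001a3bda40100183a52401001618614270014185d01d00123a823ff00102ea23ff000e344876a000c310a3fe000a184a3fe0008343a3fe0006225011600042e823f4000231023f400000a5d3fc96976f52a14b4a810f6007400e12478c6519d11f9b7d6f3c0012801b248a490091f3099b15d14aed1e5662488a78d00001c120124b48b7a35099a52887800340064922462f8ce33c65bea0a4800405d60e74003cb0c2a9a00389722ac8003474a,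
  nat_lit 0x2ca60014227d1c100123452ca500102ea0574000e3a62ca5000c3442ca5000a184a95000082e9aca500062252c9c00042e80c0d00023101b9500002e953645eccbd9487210eb6206430486185a500080038605b7ec6e4c605000d0006169086110c0620443a8871af64196800105a523e16309ed746f58aa963111fe04d0099edfa80010b44430085f90fa21fb39623d786b10d65398dbf428265049b0c28e151f06e20dc50c05001400002d0b7e6166ccfa1c9d8d37196a6a617246adad4dcd4b1561f8346599a941e295fa8b8d352453f007f35266a4077219fe24ecd470ec66c8c6569a8c258b4e58cad3514572ab0319426a20adca6eed494d4312be6fa464f9a84285000600869774b9f9740b27cf8c9f18beeb365e6cc5bb130c2001402125dc2e7c5cfec9ebe317c60fba8d9718786180002003724c519363478019002e03b82b8057b6fc8015802d7a20000c01b126024b6496585a17fc2fe6df88002006a49a5eeb5ad18946fd2203b5a1888baeaa9bf0,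
  nat_lit 0xe004dee33f824b161e303c4af796ff0003000d47ea8fe12c7a58714ec002800725020bac17605ab25cc002000624fee841d093e2b4198001800a6d4233c0676b6b2000800212812a1d0034298000200312b38526000000658e807a800600270020c3c1d96c00db92b255e4ae4956ab8edfd920a001a2eb120b00183a5120b00161860fa50014185920b00124be4e870010345120a000e2ea10d8000c3a61209000a34412090008184920900063439209000422505bd00022e811fe0000310502580c5251e4a6c948b90cfff9d8f30e1000200602ddb7f498b9c01311621a843582dc0017000000380089ba56fe400b05b721aa435088791129cda97ca85550a94bb4972ec8e591b7e0d16c4fdb9faf59ecb3d254251ae571d166a33edc83928d2512030c944928d7211ffe3b1c61bedfc00150b6c4350869311421f843d57bb2f7796a0bd79bf73720003c704373e003877b18200034972594e003074a33bc002c14c,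
  nat_lit 0x3800042e8004c0002224004d00000a5d5be985520ca41a3bed77cf6e15b460001004800c4026380a008c000368bb708ef9abe23b53b10d3312c30bca6701001100302212441d8a4b8354cc253d0a7ab3fa67f65480aa42df1a4a36fc6de13ee7b26ae401ca0d6349060ee26bc0577f4f4a9eb6c16ccba9740efaddf2db836d14e01cfe000002eb2589003c008001680480062c445da7402eb96d25e27efb8040af80080bad4d7c0078bc667d80070ef6922c00692e4a09c0060e94a07800582982a6c0050616a0740048ea0a0740040d14a074003900ca0440030d12a0200028c428e940020e92a07c0018894a0900010ba0a0780008c40a08000002975feae52401c7678c3fc00f8036003600380062577503ee00800d0036f8216182c267a3963f8e5f9cbeb84b5a3d2e57deea53d7173a96b52715a1b02a5740014003000cb800002c00c90f221e244b0897ce8a4c1e1b84372341a33d8005000c250c0bc017a92a615f22bf11a5234d6ffc004800b2508dfb53de986330c8d93d8f631e76ff8004000a2502e191c32ae265c4efb19bfd,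
  nat_lit 0x11c01236466c81168ed673ad15cd23b887720eec701c88f001026400e5000f175a79b800e1dec272000d11308ac000c05308ac800b0c2c8a9800a1d408ac00091a288aa800820188ab80071d3089300061a208a780051d248a78004174c8aa0003113888f000217408aa000118808ab8000174ab21c8437738ee89dfc5b966d3a004801a80432238446dc06008c003c65d00b0003870400b6003474a00b6003030c00b6002c44f9b48002875000b4002430a00b400205d400b4001c68900b4001868800b4001430900b4001068700b4000c44a,
  nat_lit 0x1897c100820d019ddae23aa473919edbf537e49baee0909ee14802905cfbdb299bac3098ea71d476551e6d3e229baa352125324384876d934dd40b1cadcc6e19ba600f246448d6177c2e8391cac9d593d2e2a5c800c0000dc1130247444e89d9527ae0b1e96423cd600da018400138203c1c7828efd1df6ba09d755ae78b78d965b2f803d703ecd78f3e1e7ec51ed2842b0856327964d036c70078d5bb6c5007600480350068324695452a95d056b922dcb65650b00135c0e629a00d00198c90a54f4aa1740dae38b70d95542bb81a00d00061c0d3816a5ed4b2369b48d942c237d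85d8671a6ee80001c1001980320014702ce04a97952c4da6523550ae8df33771c0c0000c529ef7a5b44b6ac821907bda37c007699c0b6292b5356a843cd7d0cb89c0048920716d7140008035030205fd000e051abbe5c4e00182e86b8ab8900028486798cf340004011d3192e2500060269bc2373a000803d29ee53f000081d4b8a971180000118013001a366abbbd87685fb0beae054e7a000032e8014002444c802c804b0050dacedd63c0e7770eeca73c9ca49ae921e8013002244c402c004a004edacadd5bc0d70267e900001c11360a6b848760044007912f00ac0120012b6b0b7533f45c08,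
  nat_lit 0xa0d1253a34f380a700937d800126bb5714bcb1793b84a0040000a6b9b01b303260f493a927724ea1df3f17709000026aeb1a73022e162add708d35c2b8736d66db4d149a2a861d1472d6cdb9777f35faad81abf657eaf1f1e7d0d881ac16abaa9436767beb01a944f28a586ecf2b9e56dac2b6bf1a61c03b8019be6e1107ed0fd76ed534aa694b316fbe43ad075c8e0337c9c21220c4466557381b704ecff19ff2c39586edffe6f8b84146a00000bc3055da4a80099bdedff5c01c694b6b76af949ad1aaa34ee0fb79c6f302804502bf8494bd7062477c6fd9bdce0f5385b8e729ae5364a5db82f23ba37e4ded7074dd20fc305720ae85918b248df537b1c1c3adb6619f7aca5bb82b23b237d4deb706dbb5c09c813d0761cd839b19bd416cbda894b3704e47546f89bd230518f06a0ad536a6946f69bd0457820c99495aedcd639ae9bce7f81fe32b4456a637acde60a0da42c6f49bca0a44de59bc8050c10d822701d1db4a3b747531a21bfbb7f19bc8002dc1a9df8000065d80e4ed9d1daa3a78d0cdfd5bf7cde200120038ae44efb7065db323b4474d1a15bfa37ee9bc2002000695c70e94e0c07470e931bba6f000079bc0dfb5bf9c684b697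6ab9c179bbe001800595c66909051a0604b3bad28e6f6b2e192e0014004b0746ab6f7de52bca5ab8fd2db6976b82c0010004308629205245804dc619293251aab1b82a000c0038a1d143efdd5a1bb4387a084ae0002000827cc5228a462f04e0a2c8db2b23aa07560004000295880000008c209e2417bb2f7c0ef4dd86fcadfaa9afa4e249c693992743d706f8edf1accdbfa295c8de66b71dcd1b9007464e8d59597aeeb205645bcddb2a0f8ee010c3e5a8568cba8463e387c92e279c0c24e149c63fc87f990062be857c984c15f22be840187f98ff249c6938a9afb7ea6fcb3761c13,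
  nat_lit 0x70aec6ae9cf38297049385c01f003100449b69e25b86d4e75c1438239c2a00868c54a9a5750aea57ab8d5270d5c114e1400409b655d41b8c371d6fd6dfa49ad833ae1a12a4255ee1518d4539b704ce08670a003b005c007dc33a30200005d6b0532a6e54b5186003a00b001c802c003b461a54b518070c98ecb1aba730e08dc0f4e100039461654aaba357487e44f85000032ecfd500013e1065c58a8b14dc0dce0d00329b495d09b85370f6fbadf6cfd470c5c4431d5634f4e51c0fb81a9c1800628c0ca91573ee18507b00002f1cfd4000141e89ce92c2b141627b8179c1200553672b9d37026e0edf54fd35e9c00a517d9525307e618c94d929d2536618cc1fb042ae28800b7949aa9354d9a07e1c1dbc3b8c7169c0e004dc2fa292000070463caf0e93648011004000b6703381370314e358cd514870ba8bb00001c118f3d81b951b2a228bc000f003c00ac00f000fa2f145d5c2da70a00007049ec000029c21db8e04dc074e00001945d6542ab935728bd0869e8d3e9ebee164e6900002f1cdfe00149b0d5c91b7636f16f7edef4997830f061273438566008c00a69fb32cfc103b28767693a005c004a6c23ff671b800017858ed31db571a9b000038016004737f1c04b80f8d4138d9c2a701137ec0110015000d45be53fd16f4d7cc7798f13852008400a0005a2dd29f95c62b8d5e5e34d069bbd0a70a0002516d94faae2d5c61b7036e468b8d163e6a7342e13b7246e4cf2f9c5f383863194dfdc0538059bee000dc26,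
  nat_lit 0x8a10f341e68b8764efc7fb8ff3ce3470e8cfed9ba7d9849e093fce331eedf3dc7399c642f8d8908e7338c42ef7ccd1ce67180a4aea6e39cce2f0d81f3f5b839c5c2bf56738e6538b450f3a871cde71605dd00da398ce2b12648ce47369c5430600100022003dc1cb83ea766c701c3612c72578dd69c39008c00449900022004070400a2003cd33005a003877b006000345e100a2003074a0092002c14c008a002830b0090002497c008a002068a0094001c5d4008c001874c00820014621009000103090092000c44a9c3800085d0006a0004448000001040000e9138a4313061772c6e5e6b674b7581f50601a5f00320066e1c003f006400c5a5ec17f81f32dd2b66b97872c41859c37,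
  nat_lit 0xe9800011880e960000174a9db428c85090a2c6c08d8037b4001800ec5e98bd474adc4c6ec600700029bd9599cb36a45dc8bc95cd2b8190f38968cf11abb0dd68855275c9f37616ec4006c0021bd8712a80880001785bacabda0eb41d71bafb76000320008deb0d7c1afb4041c493a0a749a4555b4700300004dea8d7b1af927729db38914cf80008bc200540000c406f49663acd3916922d666ab9e473c0d5711b6237346b10a7a1e43ace7916bf29e45bace5788af015dfc3a930d26195c5638ae2c265850b09b8ae10062016da200150028e23ce6900002eb30d668875255c9b37596eb4004c00a1a227c8cf916734388c68840098012b6822008400986230cd0e9a4bac2c7711673000001976a4939336eacdd5c0080011343ef90df21478fb74f397d1669f1200005d64818997cd0e800f001d6cf43ff07fd30bc618a1d14f887112a4500001c12146dba38f16f8f9f1f9a1b001a0031ba9b752725f5225c4347ce902532e1a1a0018002ed9d07fb0ff4616cc2fb8840029ba8b6b53fca4a4852f0a4d6f0cf48de932e582f195d3429246fc8dc5c06b8074976026804b800a0012d41be3b342e0024004374f6e9ce4aea45343861968d11c410010001ed9b07f70fec615cc2dc39b92d50af1fcca5ff3ba00000ef68d8d1b2a36d7012e00d25b80960128003c002db349dcee2000046e96dd29c93d48668592f59187a30d589cb131c3f473e5cc0b96d9a37e530b05f1abe3634240010001b87cd756141c779b734f8d1f1a9a110006000ad9887f270f51eda3dd3438683cd08000200036cc03f887ef7134e1e00008b98da8cfed928814a8290dbbe2e4f5ca14c9dc3b,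
  nat_lit 0x81744b9845908ae3b54e6c12758f40f5e1a00341a7358fe0cc6e09041218c0339a81150f0118027348152b3b23b34e6815c001d80c8019693b1c1c383e47448ebe161abd757cae29010f23d0010c01d1a48348e4dd09b9396026f64de9c51acba000065d6efaddf801b802037e8b3a567ac8d691af2c0657dd65c7142baa000017595fab95b6ef6ddf001a801e37e4b39d679c8d491ab5d4dc4f9e12000065da7a30a8a14d42a11b2e3658df8001c006717fe3004f08713a78900001c115f92bf172aeddddbbc003100346fb9671acef91a13c45c4d14be004865d087e00449043a3c0040d33302c003c77b20da00385e13a7a003474a3a6e003030c3a78002c44fa0b400287503a76002430a3a7600205d43a76001c6892a2800186883a740014309101c00105d33a74000c44a3a1a00085d0,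
  nat_lit 0x13a500048d14018c0040ba8018c0038d12018c0030d10018c0028612018c0020d0e018c001889401040010ba001600008c400158000029762aa4bd481d5d12001a74147819de61ea13531a6400ace30bf8180776b85991331c6c3ed875b0a384200093a05c60ad0a000077b7eef00c673f80027080d849b0db61a6b2ed665ee25684717c5bc303a5d1a000a73f40307eed691677787a44d34e2f00019cfb1852309b6436c97478539b35ab6b5502e1c5d707ad83db0c36173eb27d6167755c36368ec9ebd54922924b5ca5d1b39f5b454ff72e5bdce6a68cbb98b1e96147d8375da29ec53f6946d2a534c07a29ddb1dee73e38b8ba0a40ab3865cb36c5e31233a7675b0621e8f58e48830e06dc0bb0a0613e4878905a7552bd057a5a7734ef7978fb02ebac53c8a7cd289a5426970f433bb23bd4e7b716e831800019750ef242748501e827755a407ee300ae73c801059ed4189c5a566487690eea426484e1e7e774da3f7ee100aa73c38b2d96a2edb5a36b4a9cc28edb6456c7b1df63bb4e77716295a80001c11818acf2001939d6013bf6db4793b983ce242448474ad1c5727984f3559b21d743b29089211879b9dcb1dce73a0c650096739800a5592ab2d8a6314b6afcf91ca1314287158c13b5996b37553eaa835b56f06ddfe304ce72715472a8e4874d46af8d5f9fe33fc968de3b7ce717150e5eaee76b5ed6cdbc0b77d8c0f39c1c5362c8d6c9bc0377c8c0d39bc63ba06b280ee828c8318f939b89c76726e085c05380c802f39b525a,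
  nat_lit 0x1fc800586181fc8005089e1fc800492f81fc800406140454003900c1fc40030d121fc40028d101fcc0020e921fd0001889c1fd400108921fcc00088901fd00000ba54a7a207b52f6a5d632a4cc483b5d4e009275046370fe2e35d2ac00002eb3ea40fa53c3e3cece9e0044ba9641c33a956e54ac6955b8d53c700000cbb3a700102ea3906f2652c63352a6a57102e324c6459e36e34a9ca97034ab95b7b3a6906aba8800fce9b8f353c31c6847888f09b1b362d70b6007674d47999e161f05224b8cf3c200000e08a6e54e3cb7ea556adb19d1c8325d3e007274c47979e0ee3335b147828efdb19b62a70b0006a74bc7969e101ef91df8d190e01f24be6a6b42c5b98b7aaee55d6006674b38cad491a91d8bf931b20c174e00199d2b18b03f307e871915b4339f905cba6c00c4e948f273c143e43e9a34ece31ad3495bf262e4172e9a002f3a4e02287e30fcc1fa1c620054003c5d600b2003870400bc003477b00c8003074a00c8002c30c00c8002844f,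
  nat_lit 0x50298c813b243b94d3d6f3a7640b78ae3ade74ec712c4001cec79d8c190add782a33b1456e04171f12762079c75623324ec30ea80020de118d21740f1f57d4afa6af55d88abb2d9605158a2a33ea0005c7400030accf8e1e2f3c6401d803bc66381ab6a7ed5038e60000cf900150aae28c451a946b1ef675fb8e4781d3c54ebe1f15c0938109d7a134427db82d3af02678a7118c675d864e4f12de04eba009ed5441449d7200836a98f6f3ae00118541195e75b8088e9cabb2c96192bd5f99db1b1f06ea8b4f0027803c71c67898000178ebb1c95f92b95f91db0b1ee6ea4b4e8026803a5d7b3c49c700072baf242849adb1bed50daa244248cc519799f0b8de00dd584ab0c631ac631adfbe887ccf0e7a3555bd671b9ba7ad37009400d9c3a1bb6376eda8e0dc4aefa300e36803570e6e1e0ab1156e9ff171e4c73903c20376cf9c6c9e86004065d0ffa003c5e30fc80038b0c0fdc00349720ff8003044c,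
  nat_lit 0x5901000038241fd5b60b6bed27801900342d445a08b409189721ac8038f62a1854399aa00320062d27346777c9109a14516cc71eaca58011197540500102411405000f25e1405000e34cd405000d1d28f00000c0531405000b113d1fd000a1d4140480090c283cf8008201940480071a2540480061a2140480050c24c920004174d404000311294040002112540400011880000280800003a459e998d82cac5968b3d000c0016d1db453831307a540338f340940000ef62cac59d8004000768e5a293bcf84ed1b1cb5bd025a048e3c0b0f16fe00340015a3868a0e2c1c5ba35a46b0a4f9c77000368dd6cbad9a5b48a15a936d26c5082a0d4629b8ec0002d1b84b368cccc39988ac2f766e68ac7ccb8511f3676738ea663ed60dab1820d079276691449e4d3cccecc1560136381f9d9634932d7b84b3b28562,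
  nat_lit 0x3d2cb6490269a6619b13364b0499ef3e6a0026e4539b87fbb05a036806cb2ea2ee190b021610024e44a5d3b9cd4274cd82c1067b8f9a0008b9103090cd7ac0f67b6f99c00815325ba63314e03983af990007938f7002e4348a862b8c58000711682f68c6c18d9319c85700068c4cb061c3f925e24ae00302941e58f988005816e85750ac800a15c1d280a9c153e6708018802f112c225444b002f0062e43826204f800c0017089511282254017003033822a79c86005a00e45d58b3b16796a35f54beb9b4f0fbc45d8b90a224c016003817542ce859dda8c7d50fae2d3bbef07210cdf002d005622484488892005600b413c825f04c0cb7802a11222240448802a005866f454d0a977496c141c83b4c16984448088f112000a40158b6204b6097903a3904223c447088f005000a8cdd8a98152d6f1d8271f06720689300001dec4468026005066e454b0a95b04ef3f1e80bd57b9eb4495c809fe703d6d673eb9004a009c5af0b4e16993236d06a1bb6446e4948d016982d345ae8026004b696d6ddadbc39f6c0e8000175a7860000b038565582215202a44cda002300456961a38bbee88610a52785b8ff61980000cbb6958010002116b02d205a3c8cbb91b6431b2ad86cb0cae3f592d9b9b607c5468a8e3362008000fda5568dcefadc7da4f400005e3003a00785aa8b4516892322e4559096ca561a65c9d27968a68888000178da355a5100360070cd68a8a1513606e6e4d9297a974441c7c,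
  nat_lit 0x7474b21163f5ae080f925d68ec00162ea576107440380070dd4a06280c520055c9c48f92bbef2e4dd615842b0c00a393605940e0ba920c4c189c009974ec48588ca377a3a74750009393445d1f143e24157c2b000088d64f3bedd786210c4800408ed04be188c00780108de80070012553e3c45d8cb908e41eb74d6ea002200a9f40be8972668ed000019758268e871d0517aeb74000f005168da65b4cb996a94765c98a85600005d61e18c1258258e851d0117a6b73000d004d68d265a542a725ed1780001c1079f0f0a608ec1247418e7e8bcf5b900058024b46568b9c96b42c00005e38f017612e3e38ffadc35b8800480227cf2fa05e7cda1572567b38000178c73f8e7a8bc75b800038020b45d32ba658cb4c914f3d99c94b5091801c7e56deadbe001800fbcf979eaf3da2cfb9273ca40000bc2352e4524b4a971332aed15801d00095b76b6e38fa9e50e4956d9adb8000c00e5a2a99542da45b58b7a2c8a591dc91aa6600005e16abf4e6176000010034f3d1f63cb806e2b625a684d532724000000197ce168c268dce5c9cbf796ae4fab5a569ae47d6d8adaee3d6e395d7a9a84e8e5bda3fbe7f72bcd17993e005e64bcd180a30169031237204ea44c48b30db624bbb9d7ab4c266ca1594477cd0842d98bec579e40061c8e2848f03de093c506e252df5f623cf1002e003175cb91ae11ca161423781cf045e27b71196f8fb0de78001672329c68000178de063c0f789adc3e5bd3ec179dc0050004aeb6a7254e31c8b,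
  nat_lit 0x6e80030e981af80028d101af800206121af80018d0e1af800108941ac00008ba01ad000002974dd5794827c003e00340105894b8dd1d7686f1a0a0d5ce565834782d624ac49801f001800b8b3b1674340801cdcab9f1c00005e3054459d0016000a005859d015102a44172fe45fc84f8d72a8015800900396242c47bc13b062ee45e3db953689ee54d75600003bdd88a00015d5477ab96efe3105aa0b605400a78b380028000c0066c46d88972a286a00001784034806b056e0a38b3700260008005ec45dc658ea9434dca72d36bc7d78f00160006005ac455c648ea76b59960b94c0054001001404e818e91bd1c4638891fee2895bdf729688e80021c1000180012c300018000052c008d885b108f022c12bb55b9492150a34823e047e2a74a48148f183a303e3c78c0f183d629ec533a7c642d047990b3a7cb14d629d5f8148f29202a7411f823e28d32152e523b55b04af022c425885471859a014b0298415c0a6014b828205020a08144166800400009ca4a2392b92ab6b4a78fec70fce20a3750c6a18cc00fb9473d240008ef600080000ba5445a570d56a69491fcce1e1c3e46e418c8318001c0002e510293052409f413e027d0506598c00d800b04b87c05ca19e8a2b2c566966005200a4905402920520598800d3940b38e07f899c133e07080e3ba980c5818b400cb93ef1b992d325764a35279d1f5785158c2b1c00c393c7bf011b8238037a0715d4b062a0c56005dc9d,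
  nat_lit 0xa219730e7b38a1402685e88bc1177f3401ea5bf1fb71709aa728dc9472eac9300001758f0080a201302f3c5df8bbd99fcf525f8edb8984d16495cb9b67c78000508097179c2ef85de4cfd7a90fc72dc439700258d138b0416076256506ca109c11381ee6fb53172ddfb7cd2395ed4494dbfbf3e718086f90e0006200a8e5b54e4000038257260001538cedc9a412bce8911b7c7e76e2f50dda1bd00be0146b95572572d68e98000175801e003b05187cc50faa1f74405646e660ccc096d34749cb4b15200005e3a8220002c54139d62b401c803805127cb90f921f443ff646265f4cbda820e59859f847f1115dce067e0d166f3cde71bf174c80009cb2847d1111dcd867d0d146f38de69bf074c600040319c0e00000313d3c7e1f6dee12d3c30b31d38cec3fabcf72c4026bd7b3b6c76d4019802e0d9435086a0839e00480089a1ea1e51dc6e4158a80068e58069f839c00440081a1da1e31dc2e40d8a700660081caf72d2f245dd3d84778536296c530032003e0104b448deafe9506682b8056c5a20020001e00805a2015b02b86e18d0a96852d0e00fc00e8030b149628de13d845774ae57028b005c0070017d8a3b8fb1db28769a1900180035cad0d7c00347040972003077b0d80002c74a0d80002830c9f5400247500d7e002030a0d7e001c5d4,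
  nat_lit 0x291d614df29c33522eba94b8297321f24554fc173140049fd03fa4c5fa4eac995932d3b12762bf0073100041fcf3fa0cd61aeec7636c42d88e3d62e1b730c0039fcea3b1762e5a326b5386670d9cc2000c7d98fb3a7d7367a17c17bd000a7f30fe7317a8ed1076cadd000948c6dad1c93392826996c500068f594f7a92e525abf59cc100047f248700bbd178030c800147aee82429300008e891cb91308f3a0b7b895addf5bb995d41aa7aaef279e4c4f7a73000048e881d26eb55d75d840b07e1e1c3c350a22838db480081d0e3a269ab5357567ce168b2a16525fcebfa9cbfa6ad4d547440e86000e00180038e861d10ac7d952b2ec1c355a25355a6a83a1c7428006000a00187428e8772f8386870c56874d529a98e861d08001400200051d08e5ed34f00003824fcf00014d38edca6a03a0c7408002000200087408e835634ca82247cfce72f0000800000023a00741534fa6a0acd838307094c6acb600015843122218699bc100a2025e4a3c8e9ee4e5d8e75050409f564a2c939ee2451537790db3dc02e54a8d732a7b7892711f64364f6e12c9604420f9eda2d145688c7f3db03a0a66921aa7b589620ec2264cf6a12c0e7c3b179ed21cfd69190d13da04af,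
  nat_lit 0xae2800005e18f1f75764a247e51ee6006c00900108332e2feb8cd713733cc5e12f125e49e153be36c530e60060008800e4784e6755e500003825b7b47800030007801630e2db0d3bd278325e04bbeaf2399a09fc00792088fc40070bc68fc400692e47fa400608988fc8005889f49340050ea08fc400486147df8004100c8fc00038d128fc00030d108fc000286128fc00020d0e8eec001889c8f9c00108928f9c000889000580000ba54b166023f4b7ae8fbf47df8fbd891b1f407af8007002ae6641c9841eb50d69d32cfae075c111f200140008617dccba302000077b4eccdabcc2e800200248f8ab815700714cb861708d180732993a5b6689a68f80008800130b8dab93b2a5033126b4e4fc700022f08004000031018596d569d893b592d825ac62a4c5e98c5b67925864cbd0291634c38d8738324064484761792d9d5b38f88df508f2f1eaf72263e50f58000000391eec17e47ba0038001b99200351eed6fdadf6b48d690aece5d9b36065e83e547ca771a2e82c83e9079548599739da74c2ed22058c08d8162ed21da1400b7ff7328c7cb0f98890712163e40f57732000623dc29c0538e6a55d77297452eca600296052ee63800b47b75beeb7d32c6836cf58deb15ce45954b2cdcc6,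
  nat_lit 0x1944e27054e0cef75def3c247cec88a0425000aa26d38227058f77283a050a3717388002289a5aaf16462c9487590ecefbdce100068874df5055d0abc15b9ce00004a2601d503ab8a86b78950d0002a25d6ab3f4409220a380002e6612ca89e5944c13803f007d35146a4d9a594f029e53eedcdfa0b6000077bb6990132e44462cb9791ff47c58033007ee925d66505a7378018003e7490eb2d48aa9004b62968e1368d401a84e6edc2772686340c69930826129e713c9b6dc311400bdcdc311200b801e3a467592a44d47f25af4b4309ac69f39b6009801698886db49e453cd1307260c6344c6739325d2e7de8000197473a0e721ee23dbcc43002b0048008eb95ce11ba2d3ef1cda89651fd47c2002c0046008ab95572965eb1f1211bb9b353000000cbb5c7800054bf197224c36201ce039b87b68f6b3104009c010001fae4f5c75cd8a354000065d65e15c92b92801d003c009c7bfc7f0895b12be25751a9735d05ec4956c3a39b47358f6a1ed061fc012001d0038e6b42c6895912b6255c7ee1efa009400e001bae475c89cd51cd23da07b3187d0044006c00d57229c11743571c39a940280000e0908ae116c7ba65d75c7eb900018003200887bd47eba012e69d091000032e8f780040005c00ac19e002a005c0100f78b9bf1fba84839a542540000bc6007800a80138338004c00a801e1eed73763f65d60a128e68b82c857d267e250c4a38fcc3dd400e80140025066dcd0,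
  nat_lit 0x503d001e2eb06fb001c6998622001a586070c00182f0870e00160a6070f0014185870a00123a8070e0010345070b000e403070e000c3a6070c000a310870600083a4870c0006227070c00042e8070c000231006fe00002e953e290da002400a974ab04337e6657a0954124f06c37eb9da6119ff935fd4834739ce7352db907120f8004001473b204dc4498896a5d14b7c86a000e004c2aa054b2d42dd5a96e90d20018009a8b3750ece6c11e023a37766ee9ceb5d7560e6f62caab95592a36544b67e6cef21a4002b9d573c6cec367c6cfb2a21b3eb67690d000100081745705e3484a82950b5989b3ac8670006003cba236496c94e74a849831130b24328002001c5d0db2436492edc5e59ce800060008704a0f2000477b0004000014b90c4d9c2b2ecaa5839d6e9cf348c7c18183036df7415282a33716c9814e529cceb2ca6e94df3760ff5ae9e491427964f5a24f50eb272008d411a339374fea2ac0058001739c000000a5152b2b582c808901106a54d4f335629f6e7300095152e9f59c8934f26a209e013b5b52807d41d5ce50010a2781d803b186170c32188bacd759cfb7dce4000ea27538327078f7b28424db42367ae0ded9ce3,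
  nat_lit 0xb3ecc227fe8786fd4a0ef4ffc0a222bf45779ff61d6b4dd73e73fe82f001fe5fb27fc9e4cbbcdeabcff80a6d50648d69fee17b473a8e773fd80180c122b267fa801ad14e35f5cd38d897bf60243e446ceed9d8bb8803c73ea86c80001758de61d906786eabd46d803b005d2249b5036a795654361cf96d3f224401680392edd611670eccd3417282d9e1fb9f14a700000cba00ac01b976c6ce2d9c9f1fc043bdf11afee6746b9a536e7bc06484c9095e030c0be5330a64a446802a006ea35dcf67c192aba556b6a26d372234014803651aceaa99df39eb43200000cba82ce666ce17b07e5da001980279116da65b4fbe09a18ee7a52fb000032ec6b9bde500f5f1cb66c6cd65d98018802590b7215a97d1e0afd2a02f425e84a3016e05c29925319221c012003173cecf90000178dd51a8cf005e008a44336946d372a9a553be05b3ed67c5cf2a1ce00005e3a7280002873139d2a79f00b6976d23220c00f802b2ec160de707ccc5a726e78d8c4000038241a3909d214c00e80292ebcd98db323e31806b7baac61b9e01bd0b8117006c2290b8e7d9cfaa5df312a440001c73be86380001c10de79bb83af8cebdd4da8c7004e006a43f368c6d274319cee,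
  nat_lit 0x15e100002e95482a90cb99a43996462c8a007000d5be883534584af03a0348980000e094de800052253b729139e942cde006400bdbe530da61e654ca8c7a6ff4de5d00b54800005e12bb0576c1e68462b7c6005400b96402c8332524a85aa373fd4528010264117a000f1759452800e25e096b800d178d267000c1ded456800b1d284c4000a0c2d454800925f145300081a289998007201945480061a2145200051d2545280041a1d45380031129453800211269b58001112144e8000174ab60962f2c5c0014001dbd130b261944c38985a6d74da5cfea016000077b00060006de7985730c71372091dbb506480c68aa2500a73f40005bce831e5924b21dbdd6e923a9c753110576eae7e3e815044a08573e4a039dbd237aeb05d61a002e7d9997b3813c3a2c0457ca0001f05148964b3c362bfc57b9ffe2810a7e15013ff8253,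
  nat_lit 0x6278010241001b800f2c30899000e25c8abe800d1130b48000c0c30b48000b113e8c0000a1d40b4780090c28b4780081750b4780071a24b4780061a20b4780050c24b4780041a1cb4780031128b2c00021740b42000118800168000174a9b943b4866f39ca1a7435bba9f11bd8aeb15c005400b1d022b3a00389902bba00345d62b540030d33a334002c77b2bc200285e12b64002474a2bc6002030b2bbe001c7502bc000188062bc200146212bba00107492bc0000c44e2bc000085d02bc00004620,
  nat_lit 0xb1180050c24b1180041a1c20880031128b13800211268cf0001112001d0000174ab374d97a982ba864571681004e00a402adc2383c94671d084348004499051fa004070428b0003c5e35172003877b0e4e0034972314e003030c5200002c44f258200287504ca2002468a00ee002080651fc001c68951f4001862151f6001430951f800106871390000c44e51e8000844951e80004448a75600005d2a7fb0d729291ebf002a00580215c103130629256228f2741d155cdf19b0752b5746c89a2cda004c00a8041b81eaa6d0ff00002eb38ac9a510d669279ebc0024004c01fdc0d312a628687f3a0c00f98b831718907758e1b7c3629d0d0d2e1e436cd741515422a79bdb35fea54ae89912c59a40078011007ae8238a6715334961ab524c3d72003c008003cb8146249d03,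
  nat_lit 0x6da800688984d8800602986d6800586166d8c00512f86d840048614641c004100c3e340038e9842240030c426d800028e9258800020d0e1384001889c6d8400108926d7c00088906d680000ba54b6e638dfae935133b0b4c803f008201b8247849236bae86115c86b30d820755e54825868c80368040007ac605d0ba10000005e386af0d7a0745e52825468c0035803e0076c5fd8c0507f742a8e900001784034803c0073048584e309a7ed0fd95ce439c78bb34745d092bbc00449902c3c00407042bb0003c5e304020038b0c2c5000349722c5a003074a2c56002c30c2c58002844f2c4c002497c2c56002030a0ef0001c8062c540018688,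
  nat_lit 0x615102a247f4b9db79daf3baf32cb8cacd6e8f0005150e2a2a5464c95992d340a12f3a3a001126324c754b0ccfd2dc9470000c5428a8717c10c3e1821dde000966fdc7184c30cae2a2ba3800045418a841fd2192832693e4000104420865d103e8dd1ba91b164a2c8dd31241c48bcd6d5e6c978f257a8453a350bde16515812b122d0059f9cfa755a1ab804f8094746616495802b102cfc59f1cf975581ab404f009334b0e8c009234af0546f3cc10f870b0df88c09187859055fdd17a360000065d00c60240d2ac14fbcef04361c1c37c22fe461616351af7459cc1a8f424be4974d2a008f00c40184f859f145552e8abf957314e609479925e24b8694c047006100c07c29d14a1b000007047b00fe4dcc4398051e2497092d1a510118017c02f50d7744c02f005d9414c2f985e3f8a7f0ee7a86588cc229ec628d3d700003822aa455467c38f82805b00b80224d27125724b2a3ba9eb3a2548580000bc2a97d5512a9f3e1a7c0c02c805a010e69320a35e6ea42ae889a4b010c016402c1f02a52b0e7c2bb857571decc69d1000b0015cf80d294873d7b6a3b4366251c2a36d145ba1f6096fa9c3a7876976a226431b60d24023c02b8055743ab2180001deee37c8c1bcd30504d23808200aa014cb55319793335909d0d094e004865d09bc00445d636c80040978a454003c5e336c60038b0c,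
  nat_lit 0x8fb80010ba08fc00008c408f9400002976a36092bdbb7b6eb40800c00170030b409edbbdbc47c8e9586480c8e19b833da7918b6316d6a580017002c005dd2a54c28fa11f13dba7b6ab40000b0015002cb401edaba534d7c0000e0914d952fa3e647c0f6e1ed9acfe0028004c00a2cfea6bce9406774f1b16b62d8d4ac00260048009a0a6413efc89d27a62a0000704878f0479eda3db059f60044008001159f6f6c1edad314749aba980001deeea645ac8b5b52a0007800e001f52a264d3f1e7e495d49d25aac4000077b8b575298006800c001ab3dded65a159f4d0f0e1e0556174928a200001dec005800a0016b3d5ed53daf47ae8f7a297c52d8a57450dd230012002904ea097737c0ccc1ab036306600cb9a23ba45427c0050cba003800482980028004061600340038ea000280030d140038002900c00300020e9800180018c4200240010e9200080008890002800002960000004ace87b3b681ad03b897877d1016e78b8f8afab7dcebe216072c1036586c449081b103658b041607af897dcebeab8f8b9e310161df3897b40f6819eceace80012e908008a92d166e2cba7770cc21950316862e8c8345a1d20000e2a245458be495337eae45648ae8e963955d1f,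
  nat_lit 0x380010ba000380008c4000040000ba4000000628ef4c66991d75d2eb5bc3a6d24da45c6248a491845988aee15da2bc056e2bc59ccd3e89e72bce175c2eb8dd703ad90b6416d274ac23c17862f1663528ef0018e9a000b0fa01f4a637df81ad8ed53daba8ba2a2c9458dd330014a3b63392e575cca6338c64c004b79134b0c7d3a6400254769e2aa57f2c5a724ce2d9c5d3d9ec52ba6200214760b03160877d0efaca48947f2902bd43a60001d4758b02160677ccefa4a4315f2e97800651d4f99987730ef7984604c21aa84600154749e263c542bcc57a3e13179000228eb11de23c880a90161a6c001a8e73c494ae56cb854574b800128e615fa182830640511a3c000a8e548be918805806f8000045480141f103e34c63beeb5aedaa1b569172d45624c8d0bd74b697e80001974340068d4f47170e2e3d4c2005200a0014a0bc416b4bf1d2caa78003c5d6315a0038978362800345e347d6003077b47e2002c30c47e8002830b47e0002497c1d84002068a47e0001c80623a2001874c1260001468847d800105d347dc000c44e,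
  nat_lit 0x1f10242044008801032ee65fa138a12242110cadd37ba076c7176daedc4cd29955488801f00400078408b6701fe40080e0860380079a675adc0070bc260340068e94603400606180f940058616603400512f86034004861414ac004100c60340038d1260340030d1049d80028e9260340020d0e603400188946034001089260340008c40603400002976ca6d95bd85bde131e947f800d001c00303ff87fe3018e9b08a4112e2254005800d00161ff83fe980b3012dc69d35a1b000345d6001c00305e10024002c44c001e002814c0022002430b001600207500020001c68a001800188060020001474c001c0010621000e000c749,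
  nat_lit 0x1f4abdfc00240041499004000820101499001000246bd1de0002432ea6730022482267d002038254cb001e3bd8c0a001c4b901fb001a22613b400180a618c40016185a67b00143a826780012345267b00104032679000e3a6167e000c310857b000a3a4a13200082e9a677000622726650004224a66c0002224267700000a5db25b652fa05ef426764cc4a478016002d0058a4793313a7a00b0015a91d4cc299d5ef0cdf99a7d7cb6e759258575e9628000175a8848000a588565291a005000a4013881a0dcc1ab0355c6a7973727ce8843a7800a001308191030006000b997e330b09e1094a10f74ee992000019768e50000a64632e46968d36a45801200250046205837106a80d4f1a8e8e4ba74f66e34ac69a522a008c0120022102a1b8435386a674e69b88000178c01080220040204c36f86a50d491a825ca49ecbcc34dc1d38,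
  nat_lit 0x1404dcd18ca2d5d9aba0012002344a800f33636dd4ea1480fbdeb2fc16f55548aa8c935147c574c93db44a5d4123fe00449902b4400405d60fd8003c7043ea20038b0c6bf0003474a68cc003030c68dc002c44f68ba00287505de4002468a05ac00208066be0001c68901f800186211e740014309268e00105d36068000c44eae7600085d06bda00046206bd400005d2b7b56f795af2b567e68cd899bb337866ec002a88b35eb7501998b328032606525c047c48f8b31f24ef511574fc7958f225f7c2d085a1c5138da51b5e4ee511474f9d7b3ff3850b1f0a3e1cc7a93b9444d29da98f1f063e14c7993b7444806e2c1ee94df25b1f063db44444d5ba010c085cf8ba28d6944411fb3f3b2a7662ace1f93af443c1ee5702ae455c9c9d4a21c4c0c0ba9f5931ce4eb510d18664e7c9d5a21805bb35793a7442c0ff,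
  nat_lit 0x16272787d8a15f12be1c4ce899c723a006e8a54a1360caeadaf885f0c267000dd149941b5db148c24f45bf8b7f5d5a1336006a8a4002f006123f2fef494f642808841113ab2991e7db4f0cb13cbe197c2099a1332e46800c5147756208db622aed3282a8a300177232005e8a34a0aaed2eaba6444c86be117c10998002f4516504d768522893c1d567860f0d84cb8016a28800ac01648f8bfb5252d9083aaae75932126415f04be004cb0015a287281ebb32912755060f3c2e7868265400a5142005200aa47b5fd89292ea9be427c8eae215c0bf5f671ace859d1899200274505d52b126000070460a8c16a504513f0020e4484c889925ef8bdfac4b58927546bae80001c12099c1126c335d82500d13d001ce440007513d94035d71d505ef2263c007513c94015d7d485a4e75bdeb7c13703a9e003689d8022004723befe8c942640e085010a9c2275385f20be3131a2631c86800ba274008400fb04f5bf8ea6d81c00003bd898b1314e42c004d13893f95d6d27024de825d227ac0dba994f740000ef6e424003d13693f55d65482a4e15be6b7ad36d26e3a7b8ea5dbaa00003bdd134000c261d7b8af73b1173be6c45a6322e825cfedd4ba95091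5ce339c9737ebdc97b80986000b44cc00d001b752460d0c0e17b22f6c4c28004a264006400d357c6afcea4579700003bdd1f700015e5877aaf2edbbdea00000a25e005800bb5796af7195e583d1f6751dc80898013022f5c5ec58f39e4ecef19de9006200edec1d603ac3bb6d17bdb83a94f52a2a5501ed83d98f851d060e4c15b73bb623ef0a90c721deea21d44bd0293e2c125821adf0aa9b552d26ca8fdaea327ca8973a8c26005eb0bd7b1e53c999d5b3ad67a97562dce3f4dbd213abed84a3f047ca8f8d08f847a090cc4ccc4c989b7b1af619802b00d148829196f524d851f95d424f8d12d751446fa80bb9a7194dabc35760028004e896002066caea22cf111b623794055cd28ca4d5ddaba8013002544add43,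
  nat_lit 0x1412bdf68b38886df4dbe751660904d489a94a2ca0ab983d8037459033f0bfa500e8b180ea4932f65d1620250b339664a2c208488dd7cd14580089006826cd9e233c2675cfe015d12ba97cd0f98e0febac149d40000bc2fdf99d60054006426cc6048c0ab24b3d659f733efa4e8eaf80311364f145b06b5e86334c66c4e609c2137ea079d5ea74200005d6005c01459d4bf7b573aae96e12d0b29f30ff8dfeed3a07575ff14f97a16370915d22b9c7ef4cea0028002d725eeae002c725c26b44d72f985f3562ca7904fca4cb65da1be631e0003c7044ffe0038d33349a003497260e0003074a20a8002c14c5a2a002830b60d400247506096002030a5fec001c80660ca001868960ce0014621400200106870066000c44eaba200085d060ce000462060c000005d2,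
  nat_lit 0x3bd71b1035f4eab8814102720ac0058014387270d1d7035c200280a1a564000065d735953394a7242900260022414082910577d8e64552b175bed92000019769538000b64632e5b297dcee6a6a65a94b484c0040002c825104c20a29533add5f080000bc620924118003001c90914a4d4c9734efb96d93cf9aaf82eb6d4c400003825d1999077d704120822904200040062422528f531ea61bad8002c00048201042208de1dbc3d762aec6d53d81db75ac0052420528aa5252998d921b53270e5b5bb7876e255a295d466d2b4a566a571df0b834a75fcb5716ac793444a4895b95db13937a2328a548a86331f44110820903eeb50009483ef985219a42c5208fad975e2eca64d10b49d690010905e8bc801114393b0e6fd4df8a1296e7dcc4000e9059e85aaac37486e95cdecf179f42ec35d68000c90516da853c026204d0295000a90528bb000e143a226dd6700089041f444dbcbf5f50f8928000670a0a99953517102e817bc000490416d6adb3027a36e8001384c70900ff0000904d21b9130905549d54ba7330fd2dfa3a64d4c96a369a7dd16f7598001800e11ecc16625302ba05760aea253305911eceb2951513ee27d8545558fab20b8ca64142f5733c0009d64733a000400608f460af129015c02b90571129182bbac60005ce588d911ae4c30987131b378d7d6296b984d7588000399a0029ce349a68f04d3f5a7ad16a75852042407a2d20482a9c79f745a0151,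
  nat_lit 0x8bd1175a348133c85a94d5468c38143557c368d108dede79bced1a10e1175d35cfa34009323ca701b467c01069d4ee2e8cf022e6c0989e519d0954e289c4c628ae38195b38e0628a7130e28802c0030ebbd6d6000032e802c002c004400790bf4ede9dc53c9a9de6144c28eb6abaec71258a138dd6566e3758a11c49389c00a400a80101b3800a000f001a42f53b6a76f4f22a77185030a1adb4eba921a5dcabb71f6b29244898914d22aa43c0052004dd742146003899015e60034904a54a00305e3214a002c30c2140002844f2148002497c2142002030a2148001c5d4214400186892138001468821380010309165a000c687214a000844921140004448214000005d2a90337ba7d2d0a2b718e6caa6a2954485e0064001909f75cc4db89c695daa55d4a9a42e0030000884f10a12156eb915062a0b174a282449a9d415db1a24483390580031d71,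
  nat_lit 0x1ec600022241ec700000a5d938be7a6da8db1a930525ed53e49c000800322d94f623b156df6297452d46ec2eb800c0007926f7cae544d2e876268ed80001c10f619ec116c40058002c9356a98a4b14969b6036cf4769d88175600540024934be512a1a97292c56f36a7954f39a2749f40000bc2212e431c9330004004c2bb85786676ccdc6b7527da4f8ec38f651ecea5a94b72ff08a8a8dc05d40012000324c5d867e916dda86c454546de2e9c00880009260d51d493bb0a00402ba05756670ccd1e97bd4525b84b7610bc470abac9d8d3b648b389b63224624a2254448d38d9e6b3cf7c0e4ac49595dbe8493131225e92c0a5c12a06f91c92f7610e3b9c7638da00400078ba546db15097f68f271e50ec19c6c001e00382b9057343d287ae1a343445eb66719d82001a15c42b933356662f4b1ea112d220e641f56d8a50071f4e3e1c7438e671a8006800c17448daa29fafea7604fcf1c7138d20030005856f0ae087990f443438682ec01b11002a00282b7056f6664ccb9e94bd3f259e41c1d7f391e71e8e3c9c7138e0719c0050009173e8d9e29e3afc7e80fcd9c6e38cc0024004056c0ada878d0f2c34075f642b9b0e0024001c2b5856c665eccade933d3c25985cd1c6d38c8001c0030b9c46c914e57f20f1e1e3e3d6dd7ca3dc00005e3000a00102b4056943be878619e433a5ea266f0cdbd1ed75ec0018b9946c314d97f0afe080cf0394b7896e87da6ddaa743534b1321c77b15462a071a8e349c6000060009d7a7d2e721ce339c6838d271a0e2f8002000215942b33af29328fcc1f9738b2717800080000ac8159599433244e0800e001b8a1d14342d985b25212a42171451a875e059b0b371342268d81bd1a7095d8e2b555a34c3e293db77a34694256,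
  nat_lit 0x88100091a280aa8008201888200071d3087f0006188488080051d248810004174c8810003113887480021124028800111208800000052e9fe3dd579cacbd1c8f31833914723c019003c00a2013dd8f00627238e4b1ca11e383c6a33e44e21086213a2fa14bc007801d004f009a43f6b22256538bc7182f9a2fcc7639cd35959c1977d48dbf9b78528aa511ab2494d003ad68c94c003800e0026804b21f759092b19c5c38bd7cc9d8d47142f08016001b92977cfe54ed2fc25b8dec94fe3b1800ac00d494a6ac2a5054a11b7536f97d3f06459562c7edc48000197496cd2f995357cf24a4001800522efd1c3c53e8a7f6e21d8b13a200387043da6003477b219c00305e13da6002c74a3da6002830c3da6002444fa77400207501fe0001c5d42f0c001874c3da00014688070000107493d9e000c6870b0e000844e,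
  nat_lit 0xb7413b41e5e24e449ce0060006a1e589050d54db0959476850daad5f43ca003000ba4e649cad391a76b9096cdeed021e400160054cdc19b7b111210a23f49bf85251435d9fbada00005e1002600246b20d66bb5f02b20d4434885b77b2a3f9dd6c767a9604c2e97f121c623ea1e00010004a27ca5ae4b58eced9fb00002f0db9e9d933b3526f24e0002200190ef447b90df2fdacfd3b3911e90ee80050020937d26f34dd69b8d9b9b3442863024a471492292e863d13e460b438686b56aba1dd0008ecd8d883aa6756d0c4a1c24358b5590ee0003001a66c1d9aa9bc00005e13ab86458c89ad535aa88768000800b335c66b2a6fd4dd7666144447b8be28760000000a335a66aea6f428a8536ecc000a49b2935e7803ee80208040c67d0cf886e33f2837486e879bcc75d8ec5ba99e650a2a14d3dd17baf3b3aee7ddce46a08d310de21bb430c86150df21a85aa48761d970012936126abcaebbe24d789afb96526be4d749aabb2c0021d6dbadd78d0cf999f3b9236afc1cd43943b2a001dd6d3adb83448c64bff17ff752ec64568ebb280019d6cbada8342ea71d3e34a6694e3561d93000aeb6169aad3826964d362c542b35ee00023ad775b2c1ed83e424538eeec9000372b4e56e11890b62142708800275aaeb5de313c6378d0ec8800175a8eb5622e42ec4b76ec80000bc1e00529cc3e907d19ef339306328726ce502c2e92c3479c6ec0cf4003c9900a500038704a5c4003477b220c003014c2204002c30b220a0028750,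
  nat_lit 0x4a0a00084494a0a00046204a0a000014bb94572a1df1001b00326dfa1b9449f440400a801aa50476a41c2838e43d087496be2202005200d1281a5026a02ed4192c5b06b5ed100802800646754cea58a590bf126dda7a59e00005d61b043604013003033a66746a824e7b9eb2493092752ce769ae525ca377ba005800a1b7986db12690fe80250060ed2d4e500003821d7306fe0e210f121cc5aec87f0011802e49fa93f2a723b4864dcc932d7d5aea87ec011002c339e673ac4fc859768e24e0d7d1af8008401599ce339953fe73b4f54248eed100200056a7e0fba1f727c24e5718e01cc73998b168bde2a98004465d1ccc00407042b36003c77b2b4400385e12b48003474a196a003014c1f7e002c30ba69e00287502b44002430a2b4400205d42b44001c6892b4400186882b4400143092b4400106872b44000c44a2b2e00085d02b2e00046202b20000014b,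
  nat_lit 0x2058b10d51b2a36e53b6174b744e2e6dd14af7a478ed7b316475a8eb25604ac1bf452b5291dbb5c468655fcac0bf432b4e91d0c6acb5dd8fba6e36646caa91c94265df1eafbd417a852bde91c07aa472249a5fd4bf4f7e9a91b8b8c893915f22bf955148d8204ba4142825664acea46a1ba1890959b48d00a905217e8a9198ae0823ea2c4c5424d649a67bb4e98aa4267b8cf8004d76b6af5000019740190030372b0e2625b22190082013000a801279e157a5dac43fe87a56c9a2190080012c00a00136a30d485c9ebb56b64910c003f009267b0cf5d8bc90ed12ca4f9c2c676a801f004833d667a6a8e4e939ee249909334c4fa8a699ca12c9b4eaa8954fc1f998c530b645344b2442a00f54f3b79a00445d6168a00407040ed0003cd334a0c0038b0c4a0c003474a2682003014c4a0c002c44f4a0c002897c4a0c002430a4a0c00205d44a0c001c6891e3c00186214a0a00143093efe00105d34a0a000c44a,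
  nat_lit 0xd5d4c9e194832a6005c00f525c963145af07adfeda53e815994732a4005800ed25b962d6f05c6c265a4cb918d5dbaa4e600005e1311262d65794b14b77ee35addfcb14a4b2006c00a527276e4a0294032802cc40ed71dad3b5ccc417b28004a4b0edc542e00003bdd56a000150b477a8e2179c227db30e5ec4000692acb11951ea3d147ad56976ddc7b99f2001a005a92a4b10951ca3cd47a5ea38b02edb2f6066180cf019d9d483aa2d825b04606cbd5118357cbafb774d96f6e73581b8036f0d1617243458f9b1f395fd2bf157ca400c801103e207b780215f4a8d961f494ddb50fdc003865d0fe000347040fe0003077b0fe2002c74a0fe2002830c0fe2002444fa55c00207500fe0001c30a0fe000185d40fe000146890fe000103090fe0000c6870fe0000844a0fc000045d00fca000014b000b490e57f5ba971816ea70bdca7d855d77c0816902e1fe43fcd5eaabe157d51efa3dec33585a90cd40d381a87eccfd8674a47608ebf7bfc9ee13fd395180ea59307e476d297f80001758155000da4832bf653da8e051c337566ccc0e081c74bf9db3bc8b319607140df9b31375147028df94f52bf29203b64398473c5f9966e8cdce18e3b127b2f428657d523f229606ecd969ba4a37946eca7895f548f800502a733b8ed8d2ea98712dd19b933718634ec41ecacad395ad48f5db0,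
  nat_lit 0x294a0000a4fa76e4b3b5880b11638e2c4558812cec16c0047007a00da949bb8d56800000ef72b06a211d6e06c20d899992f86004a011416b4b39ab3eee280245f0a50844f709f0141e28298b6c5ba079c0f3ddc40046be257d69ce2107820f407f1098212b036cb59006200e293b4b31b7b899d533b3b86772d996af82004349d65985bdb71e56f6e86bcb0b7708a64085610942123035cb57005e00da93a4b2fb7b4ee08322001c3820322001a3bd832b00183a5032b0016186032b0014227d29900123a8032a0010185032a000e2ea032a000c344832a000a344032a0008184832a0006343832a00042250001063c0004f4d063c000014bb7876f29c70dbca963f49900082f71663876e8193831c7702de280001c114d694b6108820e041b6059968a00740125262963b6f11dbf06340c641921db76632bdb8006d26196396f1dc6f3b7d79eca0514095eda00329304b1c95350b2ef06873a76f4419e05696840068010d25f96356f1532f265f4cc0ede33165ed6002a92f4b19b788e36ede250c095e862e9dbba540000077b,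
  nat_lit 0x50f00003100001a5312d4a4605f74777b789e225444cbdd03c1c7830f7642c843b487db88a71217b42f65c5ae8671828a1bd1c8005760a3814618e69e732fd68fd45748128d95c2873b9917770c4da5b5ff2bd2a986899cae2f2d1a5a4d29732d6cd9e188b4b4bfe17a4d30c13375c5a5a2cb48a52c65927e6001c4825658001a3822bdd00180a60871001618597ca00143a8262f00123452bdb00104031064000e344abb0000c3442bd7000a3a498f200082e9969600062272bc800042e82bd000022242bd400000a5dc16a15b443ef0abbabbec522ba5a052860010af355e73b9698f53191c54129825197354ae3924924a2942b5d4840f094e1289ca535ae598dff2966d4a1104d0638ea01d414482906d20d6ffa52837729b44e04d9847809a490c925a504ee497e09ad12cbaff7cb33a502ee40bc97b542100420cb3da500a86b8ad92ff25f648ec922a4fe1b795e3a1d92cbe598527e1ba55d7cb2fa4fa0044397a4f805082db967cb10d624471f5890b10e59f02db00940101dc7a4fc0000704,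
  nat_lit 0x11001e0ac22d40b37054e0aa05aaea034d5d18beeec551300002eb4373a2772dc695b80200038157c2c905850ac4efb6a893baf50080000bacafa001b801e003415745a6166a0a941530b53d402a802eeb5e7086e144e25b752b4003a00642ae058f0b04157ddd57ddaaf9801a801c0030156c5a516680a901528b52bba94ac800d80170ab416342c0055d77d13b0578f0234774dee42ffa5ec94c9c4db573196c0af8c019801a002cee9530800002f0d7c700014c1c6bf8e6a72f4e5fc3c1bcfa00c400b80130aa646c2be3d7c67744d589ab235607338e685a5796cf4ab400b00120aaaee837ecbcd10db246a4b66a5580054008855416865985dcf7dc8fb95f76802e002800402a98b422cc05979b503b9cf75e5053a8c397472ee1dede79005a004c00711a540fe504ba8b397272ea1de5e780058004800691a42356280802b002200302cb059842597d063cbc8c5854ce005dcd0020000458e8b1f307460cd4d2a7fc00345e30a4a003044c0a36002c30c0a36002844f0a36002497c0a36002030a0a36001c5d40a3600186890a3600146880a2400107490a34000c6870a34000844a0a8200045d0,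
  nat_lit 0x1cf7000a3441cf700081849cf700063439cf700042249cf700023101cf700000a5dd9ba47148de2d7c0cf6d2400e401e52d3971b69f4e7b3bbeb95647fdfae785473d4e79dea100aa00ec01c3691777ab620000178c01b003900a77a7ce789cf378517eb247eae53ad915b0daa3784e73c8e785e9e00a400e001ab68e818c580887bbbbb61540000bc769de5c3d2cd006c00cdb4640c98b5348c69194c29b0a8eee584d00003bdde9a009c00d0018b68a818f169e916d22c984f42b2c263bb600cc0183689818d169b1174ef09ddd3d76305382f7768119800e2640a2f000d34cc11e000c2c3148e800b25c866a000a1130dd90009113d796800825f0e1780071a293880006201958100051a25795000418851698003113ab6c000217417940001188011e8000174ad2e4b74a574008c00f85620b2a16202b2bbf09d92bc99dd9,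
  nat_lit 0xbb36766f1236dc6be5db08cc86d90d366a4ce8ef35429a8545029c7038e1b7676ec9f4000010000066dde56586cb168b4e1f2c0cf2ebe5d352f27792f5e43df8e3cfcd9f97d2f12a09901cb8ca5e02762a7091a94bbc28154ad28669770a4a4e0c9c152ed0fe42335feba5d81b0077d97414bac3d7952b2e829750af5147f02ed2e90d60530605ba5d01899220973d4b9c4d300dd7aea1ff1cfc39f6eb36525be187c3d08bc95ebbc7765c0000bac01b0035ac3000c00186172de8362bec55e5b1cc46bb2cef1564c00003825eb600d401a5617005e00bf0b8ef40b15d62ab2d86b25b29708a9f0cbe13948ceb20e7b1cf787f37ad4034804f778402752e5973f6a3c008000f39ec73d23b9e101be7aac15fc07878003c006deb300ce013402536a381b6585dde039f2003c904b43600385e339f00034b0c39f0003097230b6002c44c39ae002814c1992002430b39ee002097c39ee001c30a39ee00185d4,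
  nat_lit 0x142900143a814260012345142d00102ea1427000e3a61422000c3109429000a184942a0008343942a0006225544300042e814290002310142100000a5db9e8944ed31da58016002efa5ade45bc97d631878a103bd20055da53ab3755b1279d56baac15102a1ef95c6c477a0f3c8011264061f801024115ac000f1dec62c000e25c95ac000d1d2ab3a000c0531023800b0c2c6ac000a1d415aa80090c295aa800817515aa80071a255aa80061a215aa80050c255aa80041a1d5aa800311294808002174062a800111215a50000052edd8dbb47d04000c0013b377671123adc7395972b4ad25de7,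
  nat_lit 0x2ee000108922ed800088902eac000029751862b35f2176e8edcc01f00111702a8355030ba71754efc0acf774400f40080b8099475960d1e1a3e6c64d8cddf7bd8c00005e3007800ec0eb003a001f24c695962b1c5654ae695d5ec577dacf58000178c5d12a0154102df0006003976dcedbef8e45619c7167a9df5158a2b29dce803800162dee64f5653346e68e5b16bbe97ac80000e0976a40005eb13b72956492b001200d00e80035006cfad5af1b5e5bed376a1df329b42a94553bacb759912f5d663acb773200d0003bbe510440028032039c00cc01a3eb37d92fd2efb3ddab77c69be00001784015802d6478c8faddec4bd76ceed98018800416e94ded85ba86c000077bac9532545b90002005eed91db2c4bc9c6538ba707d43577c190f0abb03a60724017000116e33252b24aa057868ef7c40b88f10b605740ae9542b7b765b6cd0e95d716b24b859b65173585e1e1c3d47c52f68d5362a6e2afa55f8ac89b7f36fc68b8d16564899262dc0000002d039000b1dee0058071c015800092454a8f15152a9c5458a768b15e7f85997978ca4995733072ef5f3fbbfa8808d16da2e60811ec03d2df023e06b0322e8c5cc0b9553e8a7ec5b7bbdb248694fd161bcfb0b10827905120e041c4efb1e0bb9374439cedb9d499a533522372ad455bd07a5e46bc8f2fe351e05ae0b5db82b7059f60beab005800ac0e3002a77b2deedbdc7d5400ac0153b5f76c112daddb39817304ef5c6317d896f72dedbea9005400a5daf3b5f896b6ed5dea05aa004465d27f800405d602ce003cd3327f600385e123cc003444c2854003014c284c002c30b,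
  nat_lit 0xadb00101758bf4800f34cc5bf000e2c30e9e800d25c8e83800c1131f6e800b0531106800a0c2df6e00091d403b48008201929c80071a25f6e00061a21f6c80051d2578e0004174db0100031129f7480021126e0200011121f688000174af6cd2cec58f8b1a963c9460048013c0f5805000a2fb41df9177400409040cf8003c978a7ba00385e3177200349721780003044c1772002c30c176e002844f1770002497c1770002030a1770001c5d4177000186891770001468811e000103090eb8000c687,
  nat_lit 0x154d40000bc2086803f801723c134e62dbc5b38b656eed6cf2d9baa68f05559500002f0a242239600540294974a5e546d2f6843176accd596aca3c12c445b1b0010063ddfac4cc001e09fc167899400383be2a9c5544006894687ad0f6000c006db04360a0016046dcfb00002eb0048001a470d11d104c1fb83f76fdf45228a434656e7d3c1001d0023c45328084fed86330bd816eac1556b2acd781c574821900e6011a229140327f4c31585e40b656085ecbb0b15d00860039004588a250089fcb0c4617702d5e06b7100000704889e010c00411be446a411c7eb8fd8bf73147628e5b877814105806f0085113a25dc31b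843f7c89b14235502f8f020041889a4ff89fab0c0616f02c557faad0558ecbc5e03127e24f8a9195162a282b7c5708b00042601b40203c0513d9d82bb0b040e01b001fc44b27f84fcda303461780401f3fa0592e039806fa1df780001ec5045586ab15938102a0c8001e495aa9b669699d8b25777fc01dc95ca7ae2910520bbfc00ea4ae91c305e407d80fc00e401a000a8013b8a571445cc8b973042efe806700280045b0abbeab57e217042d3d817b10f62ddfcbdca00005d66c28003c009006500c807fc031803892b54b6f16d5ee45da80318036174d3326b3f1a6234c8d961b2cae515c98efda3476c357c52108c30d895b110001a006103fa0189dfa,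
  nat_lit 0xdc29972b2eab1ccfbf6e16c52d77ae003c008807578500150011197411c0010175811a800f34cc00b000e1dec11c000d1d2811c000c0c329d0000b0c2c11b800a25f011b80090c2811b8008175011b80071a2411b80061a2011b80050c2411b80041a1c11b8003112811580021740115800118800470000052ebc3aee85db4bb3ade4c5c08b8317166a3c98800c40235e13b19a0000704bda00002c661db8fb9ee0bc51777820894045005f93034c0717ed1bfbd9ef0954e300002f0ded2a37b4bf297ec97f00ba0220111bbbf8a2d3a8ea713c237c4c0000ef6eef4110808600b725f697f62fda6098bfa9835305be24f08008500b525f297ee2fca6078bf297ed2fcc27cbfe5e0f00b325ee97de2f8a5fb8be309eaff85fd65a44b49bc1d0f01736ae726cf4d9e4d429a83ad3f33a85e3805778348ef001a01040875ddcc5109d3ac136bd5d7aa194af06396c23ba0064040821c7771143e74e304caf555ea5e0b,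
  nat_lit 0x1ac8800925f1ac680081a29ac8000717517d700061d3195500051885ac500040c25ac680031a1d9818002113996980011742c7e8000174af89e329a65b26b40458027004aefb62a1dc437e2763f1e172d200048990002600447042d220040d3354b2003cb0c199e00389726dfc003444c6e34003030c6e34002c44fb29c00287505f58002468a6d8a002080613b8001c6893d9a00186216e2c0014309679800105d36580000c44e4e32000844965d200046200000dc340000e917c3a4cc807700260045decc52fb85efbfec7432ec65cef0b00769339356e2ecc5d58ba96f757712eee5df8e001e15,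
  nat_lit 0x590400002f1b7de7d22002c00608b7238d05fa35b48d3685ad0bac81bc44002c005048608e211be2fc3d1eb6f16dddba1c6337886ac680001c11f29ab1c5636fa38004000911657e1553b2a789ed95631e2082f447084598008000efa35bed37dcc5cf271a3043c3f75040000bc2fb59f284e097e1cfa2c0028006115f7e0a2204c0fba80f0f59fc00003bddf80115a0010001be896facdf622eac5d48c090f1acfdbc3a000c0013e886faadf5e84ce1c18fcc8d311a7c7717871d8e1cca00180005f43bf0a5aa8b4fd4f829e1585c56280007d0cac4d58ad9927c3af862a050616599ec679e1b24141d083a1cb8898e584e2637523198cb4f09e1a1162bf097df1a1d34554f05e1928b531869e00b26dfae516d3bf1a4aa5ee133a77c2b1108e65ab4ef45a233171f969de074046f709753bb0b8ad7d4c5ea7742b93f7198bd4ee43b4437384b29dc079c72d662ed3b70b8401c0037785a2cec59c956e2ae055f4f1461baaa72f0c0037006aeff62aa4ee161235fbebf70ce918aa3159407046000389782b7e003477b6b26003074a6814002c14c0ba6002830b,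
  nat_lit 0x9f78037005a235afd4c467986d32e29fe01a86212f1613f327dc00d801608d5bf51119a61accb7a7f6069de2b005623588dc11ae22b845763bc4d11c2ff7868561bc54c6f6dcadb977a7b185c2470490092e00d001508d378a401488d423c7066e369c2fa58aab14e66a216a42c4f14557000002eb5771000155bcaca9e9b3e2554aaa93bf44233c01300257d56ace159cd770789e367c19723be234001280247d54dfddbfce30493c6f13569fc3db3d2e7c3aa9355237e8046680240046faa5e25348e004865db3ec00447040b1c00405e3201e003cb0c3f74003897235c4003444c005a003014c3b88002c30b686e002897c686e002430a61360020806686c001c68958d40018688686a0014309450600105d35400000c44a68660008449686600046206866000014bb80cdf91bf13e95001e004045d91ca83051aea46bb4317890007048a08ea11ce2fe3d22b6f96dedba3c63783c87e48ac0ad13875e79acf7154faa9eefc508b7001c0035e23,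
  nat_lit 0x11576215442e3efa7df000c00077da4e07dc10d0e3af9cf1fa3eb906720ec00b80067da2fd516cf2d975b18f80de3e3ef40058002bed0703ae07e870e2099e808e591cbbc7b07960f14d4032f61d4438f1f7a3ef200540023ecf5c16a7d00001ded6cd3f507d9a00080099f773ef03eb47dbc558922353e5e3c47a08f982c6058400240005f663f4f5b32b61151abc76927a41a801103580081f743eea3ea87d5bbd8b6b38c22db53c8e671c740ce7cc6fe11842304fe69fca705d0a0dc193836707ac05ec1160929159824ac11301680831859c0cb8177d94f1d55e5000032e91fd11dc010c009800e3ee47dcc38b874a32fd13b2af2389cba520de11fc11da0108009000d3ee27dc838b074919497512e93837647ec476004100220030fb81f710e2a32888eb008000400059f6f3ee01c503a3997b89d30761e397dfc74f4e9f29ae5820ed64e839401001c00282be3c700024fb69f6e0e241d14cb84d5bc35732c6491ac6978de272002b0050a876373c1af23ee23a001e800d0010f1b0007904b2a4a549c8dc526ea4f009781307990f1a8006905585aa444c6f989e37f3405ebc680016412e16fc2dd1bf0e773c6600124114ab18bd97f6229c8f6e000cce499d933aa09f013ebc64000a4111a6234b29a55e310003207e5584f6677c81a7ddbb0002382000100002e9482127f40008000242776e2ede33eb3a5e74c54d0ac03769873e801e000278c10ebbb0339e400ec000bc5e4fc801d000078b801c9cf77692b0014cf1d2e3a58cfa2edcd142b09af16802e11af7eaa2344c3799734ff40d4b10a2b4c569d7fc,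
  nat_lit 0x280126228c454d351a5ebee70f861f2c58bbeeaf2880116226c450d3b9a9799a2fe4ccec99db8bd2229de50ab3400005d6116a0034007b111622469d4d4acccf7f22675ccecd599793e03508b400180039888311134e86a526673f9033acf27000d852f1209d44b3f616ce1e843c92436579905f4a4e0018c4398879a6434b17db61edc3df8b0b49dad683c9b12ba5a2aa703eec7de01f183e511a60024005b10d793000542860aae15725e021094214dee6723d6ac792c004c2850dc61b92a852b24564a4d949b39f8979280044284bcf54df29c2532d9ce353edcc2000f0a4e163c075684eabf8387000d0a082a98558c2b12aecf73000b7a029405281c47a8a35e4900090a0036f06e436a46d50cca00070a3d883035f06b8d66000284fd0a047708ee41f2c000c291113a1428000852273140a98512e9787600f01c34d348a0e02b58aeb332daa0d3c9000a402c890d23b447708c5118b8f4d34fe12498e7791ea5880001deeec6635e98c11246fe9890000ae009c013141e992152c1e4600200094a0ecc8fc29d2afb08d5b9479c511822671ca31971e7fbcfe7c0cf8316caada05b4efd75f6d000f7915f6c800e0046506e646e14c95798462dc93ce088bcf221f833f040078006bed8704ae09e874e2119e908e79e43003a0031f6bbf5a5b48b6756c93e097c06f3ede7e3c8555940000bad10b62189f803efe006c0053ed57044e092873620eaac8f20c836907c0068004bed47eaeb6856cd2d8f7c0cf801e40af9e0000704,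
  nat_lit 0x27cd000a3a4b78600083439f570006227377c0004224b77c0002224377c00000a5dd41a3db1dca3bf47801e5c3bb5d45c2b600580061bbdbcad55a00000bc2f53de99402f7510ea2615a002a002cdde5bbbe236aacef2a8a5607100e158958029002adde1bbb62359c2f2665e5434140048978b7ae00445e334180040b0c33fa003c9723438003844c3428003430c3428003097c3428002c30a1882002880633f4002468934240020688342c001c74907e400185d324b4001444e343800104493428000c448342800085d2b5b600085e30012000444900040000d0896166840d0b457d8c72ee99762aed15dbebb630483b6576d96caa94c5329a52b41d2b6f2659bc2343b2693bb40435086c20495f29c74b378a1df1a6034d8c45d88b0014000ef298013622ac458d3c9a9999a6fe55e88451a6ae2d5cb0cb907620c2fc69f8edfe4891440f8824be984eb82c8058fb0e181e703ea5b1239b4746e510fb51f6b6ec2dd89e52,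
  nat_lit 0x3c700050ea0339800486143c78004100c3c6c0038e983c580030c423c600028e923c700020ba63c68001889c3c2c0010ba03c2c00088903d28000029765ef18ab8ca716ae2c4016802e0060011e168baa61e10f2ec2d0008c00c800c00173f3c7e75cbbce0a785cf0fde5c4e6691bc3e507d9173ed0b9d60c4b685ac0114018bcb764b40000bc35b4c000592c1aff182cd0135906aa18a2b144008400b9df1c09e86b35b49e5aa8ba00005e1428a851d0ab8025004e00a4020314262866a98d63545c79658a13141007e00a001300257152e2a2907e30db2f0f2c003e004e009401238a8714c5a74b54815202ab1dd1e573434004065d633c003c9041bac00385e16efc003444c0c46003014c6f10002c44fb3ec00287506f0e002430a6f0e00205d46f0e001c6896f0e0018688,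
  nat_lit 0x5307414b6742ce4d1060000985000a4c0ef541ea4c7dbad808bdda36346d4e4c9cbaa453cd8016c036890b87d17e8b14e94112820d838bb9977524bdfd643ca93cd868d5699fd93fb611182241a5e00aef35c3e6121201ac02b005400a5175b12e9af935fe68dde6a007c0160035090887cb7e7f14d140e281ad82cbb83cd2015c01e803bc4ef340d5bd2b812e2646f48df443373be21cdfcb356c6b098b6b16c00d4014c028804e2554f3454ae00002eb5994000152b4aca003c0071d6342f100ce0140027004d71a2e355c755993799dd62c2f000cc014801c00373f7c7ef5ccbce2a789cf33006500a200dc01ae27199faadd15bd970d236e46e1e65906135e800d801975870bb8032004d00960129c673cc969640000cbb53cc0005a581972d2f38b975810bac030804d006600c8fdc9fb8732553c9e63077d0bc4030004c006400c31364cf856deadd8b843cc567940000bc60110022804700bd0ba1d5e8013002b35d241547a4b3c8f30bd65b4b4e2d5d5e42e700ba0124017802e3f6a7ed1e6007760eea176805c009000b8016626899e8adad5b92a88016c0221a4b086a10ccfe41fc6558186424e9c3b7797efdb00001c110b01299007a0100021005962b6c570d589aa5bf757ed5e5e1e120040904acce003c7041e38003877b1e44003444c1e3a003014c1e34002c30b,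
  nat_lit 0x23f4a7ea0d855b0b14d979e40018293052b276e9fddec714a4001029205265768c1f852430700008291053046e9be8bcf00001fa10014fbf1cfa96962d52cc4d98f44b1c09ccca999154a179ddfd309b013634a4a31c8fc01f85419d6760bce001ef3b2f475e70ab0d55de1be87530eaa5394a77179e0039e7507ee0fe4006000d179d41af1bedac37296e5c1fd7bce92190c06000803b486f180c000e09e60a0301800183ad1eee3dcc00288c07e74c0600040b74112822c000615dc5fa301600080158c827538ea383e007c22f845f103ef07e200100033ce67534ea303df07c02f805f083ee07e0000c0028c7a79c80020c72675583ca331180579c40018c74110221ee19193f179c00010c7278402088410070a000463a03ea32240000bbf03f063a0c814a32eb65d6d317c62fd0dfd398a739a928f3785a60b48000037a00109855008a0126494c92e348c6ac650ef3700074c288041008c39cc3d732cd2573cda0019309c14f9f0b352f1064d50a93ce4e00054c24a42148638b6716ed84119300085ed8bdc00d901b452486400006984148329079f795778dbc0004983d005a00e7296c231aac,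
  nat_lit 0x4b1c00002976241e00bc0782b6fd95fb30023002eb298945928a258cf48128a594a0058010c15a82b304a713c4e289c4f16cde8f6ae6d5e6f30d0f1087c10f252a2e805ceeb29400abd1cea159eeb3d95d17628ac50ae76594800500103f637a34944929525844a18943aca20026007dfb13f6182aef46551200002eb2f6a25044a156500011003905560aa4124c4e7388ea88bd1717d1654001000370552efa41d683bd3472b4e9fc97a2b033ba8067b0cf51743589db138b9c564f800f0036f44a2c925084a4095e92812504b274007001a7ebafd71e88aa6a00007048f36bd9493e92805936003000bc150829f047f13755347a1e4c945ef5946002c00b414fbbdf07460eccd17ad30e63800a002cfc4dd0616ad2d80cca999ac4c8c0cacd05e8624f849f564c0009002afd61fabc14d77f2efcd771bd0ab25c00400138299052e08de26a9c3538662d2c5a77a12b7c00001dee2de4a44948ab9c57342c96000c004611a422dc3a35bdde835cceb25400280117ea8fd4e0a4dde9a336bb7d76eae2800100083f537ea505220a3c1179cad42e6483613426b51ff63329a0d14cb03a12b1256449d893bac9200062db9f97457a26ac4d112b124ea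49d96488002001b0519e82942f1e423ca127324eab240000800c828b77960e3bd030e0e4c3ae6159200000005c144bbc9071af215e437a00005bf4e7e9b050eef1c1c5bc8379082e705bb0bba7094422883f107c20fc4229c255293790b10e4d0bc11ce1e4d0f1a20344a1fec3e42024404602fc06200f4133e4ab89391273591cf3f800a7e9afc1df824225c3931fec4e989d4aa642de9e7e00120a6414dc9e19e2d0ffe200448c891b1e49e7d00100a6014c95dc65e6cc09cad29cc539af3e0007052e0a60aedd9f293a51f1416dbcf6001814b0299a6f74e0e81c5039477cf3d0005052a0a5e274c4e391f294f5aad,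
  nat_lit 0x4a82000a0008414882b8a12b760f9d1f388ecf1d9ab5f3d2e6a14849109b8a1220a8414000100092a065154a2b7a58dff1c008f28bfa00000003950128a65154d17b204f4a80039453345ac80b0e761c88dd11bb13f127f1683ed0835e86bccc41e357c146bd237a409be937b14f35562740c9cc8dc718a631561363e707cdd6eac50610502099e94000528ae512ca1f9072f69c19e033b5592bdc97c53d260006513ca3f709ce16ed7c52f291b45cb0b9c477a7a480004a25002a49d3b6d76d5493e6a454d57a4659fcd43a9a82bd93049a87534c30d9a09350ea6906c9112222554d115f9ddb3bb9a9a018a37eb9a83533c31313dc0048904258c004470401b800405e3118c003cb0c25a600385e125aa003474a25aa003030c25aa002c44fab98002875025a8002430a25a800205d425a8001c6892464001862125a6001430925a60010687253a000c44e137400085d0258e0004620,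
  nat_lit 0x509da1b500d995532ba8064d64a9f0f53816e02e179dea136274a9eef5354fa9acd53d828296b3358aa7a850275526b2d4f414947a18f42a9e61ef62619ac153c85568eeb358ea7887ae7d31eb354f0156e3164631a9de1ac2ad89abb53b8499071124eea7688f5633c0000cbb844dfe83fd1c16915417fe8015003328fe52bca54b19cf52adea8a3620f441d8014003128f9870144828a20851ea4910d313e068c0dac7232342466c5538a9cbfec009bd4646fa367e1107f9aff3b058c54d5ff4004800b4a3c7a88fb19f615bcf146041d08380022005651db0dd288af5090a08a3820e441b801000272a400098010106e20e49fc23c846ee366610d7f94ff2f057454a5fee003c009bd411dccfb01f5e5bc9145441b8835001c004a51c30da7a7c0068011947528d251748487b6c0d2c1a52ad85f02f4f3f2e7e611365628975a2eb85dbceae883210660031d4fafbc0000704b18f29265264a34001c00297f94545c152ff19fe2d7dd7a76288083210600024006ca3361aa50f4a2302090410f4e082f0010002e544000b001020bc418c51421304265e9b7e42fc9d62617552eae5da8eac1d565fe8001c0053d3561300000bc2bc525c54a8c001000157f6c5408a8b22ff0aac786b096f4cc53f5fd800100044a2e61a050e0a1b020e040605c9e98ad7e000077b,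
  nat_lit 0x361000e3448361000c3440361000a18483610008343836100062250361000422483610002310036100000a5dcafc180f95a5af623d5674ad097dbafc60014005c1af3d70bf19e32bc66950b1ff97e42fc55f5a511800b00097adecd180001dec5e48bc897c07a5c1d803af0028001c1ad035db34b6689eb6075e0eb800980145602003c002be627bf4f7d26ab9a3b65640000ef600440092aff001a000c3cd07f9100c370472ad95ab2b0f5ad58a00003bdafbe0004003c1ab03585612ac2c7418e908ac38b1eac4bd680ea4007001907520038000afbd5f811fda53ebc5e2978004aafb001c00341aa0356b33ca2fd45ee0d3440a881d10749bb307460f4c232583308c60f4c1db19563458b9f250d363c0f30ce302c4325bf2d0ee31ab3e5d7cb8f59800c074e0ea0f47cbd817b22f6e81b57ea5203282a8d0dc557a2c5390a719a6dbd714d3636cc6da8bf1140a28960d18a97154a919d91e615388c9597ab375f58beedeb2aae8000065d55f0002c00503a5074c0eac1e0a7d759f8afe95fdd5737ac400483a4074a7a325ea8bd617b0ffc1ff960ef8008f5808e81da0abd8004800807460e901d483bf4faab3e9eaf069e004800383a207467a2a5e98bd417acffb9ff83d5c239c4730ece55e8001c00303a107440e9c1dea7d37ab41a7034d002000141d003a13d112f445e90bd47fd8f56000406960d297d9afb68fd929cde2a2fc65f76a755eab55e20010001834a0698abf557fa13e425f1556abd3d54000c001039d073c0e8c1dca7cf59e8afc95f98d677aa400083480694abed57e821d043f6ed6974016a02d2aa836a411c20d7c1b02aee000200001cd839c3d072f31ea8,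
  nat_lit 0x1a8010197401c800f1c1001d800e1dec01f000d1d2801f000c0c3001f000b113c01f000a25f2a9880091a2801e8008175001e80071a2401e80061a2001e80050c2401e80041a1c01e8003112801200021740018800118800178000052eaa0cdf464eca9b5535c8165fc0bf74010802e28bc00bdebbaa880000704005800b4a2e002c003ebf6d7ef481454d2a9ad93a55437aeaac88000178d5920011001e00a8015ab18004c0071806300d7c175641eb906c60044990004000405d606c4003c97806c40038b0caed800345e106c2003030c06c2002c44f06c2002897c06c2002430a06c200205d4,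
  nat_lit 0x217001a3a50f6300180a62e5e0016185ae6700144be1fe000123452e6700102ea2e65000e3448c52000c310ae60000a184ae6400083439b0f00062272e5a0004224adfc0002224590300002e95f9d92029cac005800107643bd037e06fa7ac8f5b2c813d8200001d8be231afa35f8f2e9e5290b11fe230244f07b001d2a9097cf8e868e40800a0e08884110300120c0c8c839120020268406a721800384cf3678e44000615acf9b1c85000a237952e3910001027675e67218001840e13106f7800200f040c9c87000208ba716390a0000255006d1a5c007800cc55969bd36a211b419c721debf567eacf4015002800260049598803f006ac0958133d7c00a401380120020bfc57f12b6d56cb89a25c4be814bdc008800f5fe0bfce414aa7e5500ca26703cbff2a0af5ea16c42f6acf159d0027004a0040007ab2e007800c9ebc,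
  nat_lit 0xf8c00812f08a8c007961818700070bc2f9240068e94f39c0060298f920005889e5ea00050ea1740c0048d14f9180040ba8f8940038e98f9140030d10f9140028612f9140020d0ef91400188943c500010ba0f8f00008c400f400000ba5823b049c4d5870d7fde20ce3b77d7cfaf4030001e079ef6457ab00002eb07330e6464ec43108540fea017800e03cd7c71232abd53d8e006c1e5094c6e1edc2c8a156519f7f3e26601480e7b1b048608f89a30e0aff9c415c766fae9f5c805c0034f62a3460e601cbcc9c085f10a21fc802d80190794f8d5ec400b400601e389496e18dc2089fd64e9f793e1a5ffbd86217442787f000b2005c1e43e33918b3e98aed95dc5a62bef0000178628c15da2bc55ea2461be31078c005402bbeb47d6b5f75ec25cd6004899055c800449042a5800407043f20003cd330a9400385e1,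
  nat_lit 0x1374a6fed595124c5374dfdab2810eb4739af5564c42464e337f2ac90b79292a5b0d59116ed150cdfbab20190bb33c619563c3b40e753546ac7099f595f185d58d142ab280000197443e881e010e02455c1b02c6088c0d55e02bbd8df5593ded71dae222043e081d010c02415c1302b6086c0d15dfbdac3b5c76b088710f62070042808f5702c0a982130337b556418df71bd00988130de675bbab78043c081b0108f6a562200002f18819010402315bf3027607ec0c15ddabb88deb3d6eb10bda60ac4159025f04bd79916ed2ddd5bc0c1c4040808b7b4976daeef5dd8b18041f883d32ba221043b08170100f68951046d48da4cad195c110621d440b007f0112adeded000b6ade87aa0f9e4ecd24f2fed43e8a10b324f13f3d9e016581d303d90e6ab2156532d39ca33124aa795777b3802c0057084c7c3662b0c3e187e860f0a750b8b532f66da940000382303700ac01542121f0b98a830f061ea181c29942dad49bd98020c020a761926f7f561f1d0809986e891d15da8e7b2ed4480001c115b98081007e9d7e49adfd387c341fa660ba2274536a21eca7da601d801f096312cadca1b92115bacd58daa2b7317b561c0000ef6f654395872d002000481f12b7000a2013c20f1f05ab0c534195010ee21a440500730062004400848df9f8057d5ec91b460044904,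
  nat_lit 0x2e7dd444a8a574c9f2b3556668237b400b801900309d25ee1003000586f61ecb3d8123145448a8b14d816202c4bdc0005800b80151bd6ccfdaaa3e54ba615142a2149062e1800a0dea3d927afa4618a87151229a82c305874238f6fd83800003bd8de800240050009a7444ea09d458eaca7596a52d46c1bbdbd5ff248b8dee0022004c0088de73d8c7aee460c8613df85330a85150722fcf5d1ec51bcc0040009000f1eb4f6e800f001c1d883b03dca7ba40190031ae6ec0b3816dedcc0a800007041bc6003400607600ebcf721ee8006200c2b9b302be0537b6ebfa0000178c5400a7e91747ad4f600de1001600340050f5592235fcdeda0022003474a0022003030c0022002c44fab4a00287500020002430a002000205d40020001c6890020001868800200014309002000106870020000c44a000600085d0000600046200000000c0000e915a123de3d297a5ec70ece7d9ce4e769ce939700010004f6c80001ba012cbef37deb0c561e4cb3bc47929571364af8ab30f6c00000a32b6526a04dfeab2ebda851999e35658558,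
  nat_lit 0x2d0018186002d0016227802d00144be002d0012185002d00102ea002d000e344802d000c344002d000a184802d0008343802d0006225002d0004224802d00023100000005a0000748c0ad816e23ee41b7e44fc84062008200c4017c015802c7b897caaf944ed0003c008002a005600a8008000f4ed021f800e001e00a40150029001e00393b3af935f292da0a0c0b6c003c5d61bf40038b0cb77200345e14eb6003044c4344002c14c4eb4002830b4eae00247504eb2002068a31f6001c80642fa001874c4eae00146211e4800107490842000c5d3028800085d04eae00046204e9400005d2,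
  nat_lit 0xdb510b903b4076a0ed800c8008c526de1d1e7a3d0b046f78593900003bdb785c522001800b83b407660ed000b80151cc53e16c9c3ddef10ee4f538767b6cf75fae398267dacfbe54280057bb939234baa93976d5cc0b3ec67dd2a1000200142aa46fc0ef01de788999f633ed9506000c009955163d32d1deedc51a000800882ee06360a2814582ed8df25aa8b50bdd800100010e0957f40008ef6000c000029729f99f433e672f776beed83f5690601a9c35486b03e1657d0afb14f729f2f289fd93fb5c550924c47f88fd491e92358feb200b4356864aa6154a07580eac1d6000f0004f75800e06420c58142828605d11bd23b0c5c1898b872161700000034190031505080a14173c6f38ec11702262281e00301d483a80752551caa4b1e196af2d5673e55f86b94005953d1294251445507950f2ce945b6d36d37ba8005153c11a22335f033e09901911ca239c55c7ba4004953b11a023321e748828e271c50ab93dd00020a9d08cf1196f811f03c4e4388ef73800706340c646be141c38d471bd6f3bdcc0018a9c094512901ec03d896f73fc4002953d3d723808701abe5109c0021536128624f99aab35d7b9400195351194231dc6125f07640001153478cd30bdf939656000418a02dc1078000153b00281ce039a42ae8561b5d330f075d580a75f4e3cabb4f72000f00e201d004a00d67e66fcd3216c48fc0db0ff1ee30048004065d004a003c5e3ad82003877b005a003474a,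
  nat_lit 0x7ac00005d2bb5976c9f8339a4681ed046553802700700f541ea03d57be644eb41768212a9801300362ae96906d2132297e8af7c1e93001e2eb0130001c3823124001a699893700182f08fe400162265a1f00140a605d80012185b12100101853121000e2ea2dc9000c3a63120000a34431200008184b1200006225311a00042e809580002224013000000a5dbc3a3e12ab000a80252ac6c7ee5accb58975e04c8097bdeed32aecfbef37322cff19ff4a94002800941e103c17bd8781c88a6808cff6549801300465586d175a2f642cf7adbc7a3db2aa400900222ac0c7e25ab4b55975804bd49398274322863b4e62b14563254b4a8fc5352a44008a1a328a321f643f47b08f5dbc7e29b0020007c72e82d73c9579133f16f26de3b14d000f00400ef41dda17842f2f7a566f00002f1b3f567ef2a34006801e07760ee81dd833105f239a6b373de72a30006001c2ab5689ed14320f7e56fad1b5a36b87bca274cfed69c05610ac34a9095132a42551000b0036f78a28f451c8f491e8b789c52a002800d156105a20b3d536b04800005e1,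
  nat_lit 0x9db127ab16846f2416485d62c023ced5ce71ac5619fb4a8973b58a818c5b858e9eb1488d0884a5cfd62801d1269a4d16482c8a9fb0ad32b2ed3f0474f005100a4f8124d06480c8a5fb02d31b2eb3f0074e805000a2563df0100a056399134b8497072f680ae8029004ce538ead3e01228a52be46dc8dc901d20337bec59400fc0270e8c7bfc44c2f516840df09bdee2c9007c004c00a83ea434ef7f39ba684ad09e55e803d002400501f5001400220ca5efd684d2af001e004c2b15695ed2c323f7eb6fb91b723df800ec025958964432dfe5bf4bd502b00090010b9496ea233448a3913b294b234646948049005bdce2c50074f7d9e6f1142224d7a6341b6f7adee31620039001c0041efaafb400405d607d2003c7040e02003877b2af0003444c2af0003014c2afa002c44f2af2002897c2aec002468a2af200205d40bd8001c74c2ae000186882ae600147492ae80010687069e000c44e007600085d02aea0004620,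
  nat_lit 0x62cca5aac92267801b780108e9fb3bf684ce499ce4b7a6734ce4fda1f16161e88cc011001a7806efe587730d46f9832a065a3e2a0065e013bfc96733fb19d6b65786652b3a500c9b97c50006802044622c345848aa1154426404c95006858ef89e0c1c180cbad971198833146648ca1194176e40031592adac000070476e0002800ea22e16142c1854f0a9f131a263e801d6d57c4aea20000175a1362f3f5e5465a8cb5a8c976dc00200091441ba97750df11c16a000065d00200019db6193b32786630cc2198265b8cb9705d60b47c4195e4ea2ba9050f8007800576d6a318cb419675e4ea6032b465773a86ea3943d001c0011db528c532ce6599f0f28780034001bb6951886598cb2af255e75099da78be1c5b170ddd4a6cbc990aa6999445285a50e800600027c35dfb3b6770d06518ca45d43ba8850e8005800176cef8632bc6560cadaea0dd43287200280003b66326a64d9f0b001250e2ea15d40650eca0069156da16f82dea6b6c1598dc735e9652ac974f7c9eba4e0cbce91db2300dbb9b7f226c44d51785e6a5e1ebc37131996032c4a301db2be152bb5df3bbf200120020a1bdd41ba806514ca128bf7c24de24af395d8ef99df88008000e50daea05d3f3288c9cd68e00002f1dd3dba7c50d0002800677deef925754af137846f0eb46be100010a19943b287b34af21165dca93d86d2239e1937c1d32da65c92b0997132dbf517ea1088ddf480040006f8356b700003823b5d517064ecc9f5d39ba7450c0000800277d6ef82b5b3e0a0000a17dd39ba7064f4c9e39e196278b92598ce397c10a11becf4afa95fa5845025c6432e4e5c856317c0c7470e8f7208c8c1918d6300a3564263acac5e0484c149cf758b82db,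
  nat_lit 0x66e617382e88c9f18c8318800c00170a6c14ae6a5a35c00594a4296c88e0fcf6f00d46ebc02fcf6238296c35e9717c3e09cd1277903da07c85ed31746250016002af8e567e00003823ccd66de17282e68c9b18c0317800a00130a64149eb3ebe36004c009294452d111b1f9cddfda8d577f5f9cc46c7c6903ba07885e531646230012002214c029704f609eaf8c8a43001a32e816e00182eb0a4700166998a4100143bd8a5600123a50a560010227d6df000e3a80a55000c3448a55000a3440a55000818484cd00062270a4c00042e80a4c00023100a4c00000a5d9ffa27f91726250c3700060008290850b09e213985253e30000800085200a2b34d469b0d38a327466f116a2627c5c0002935002949682ee05de3cca9ecd310a61d56ab1e756513aa861c269612a62561a605650234a1e9ce95ac9e2c986929d23593866439c0b162b268ac4aba2748d64c0f758c24e75ac96268bd009d0f592856e,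
  nat_lit 0x15fd40000e0960b800057f43b720cd41975520a9f5749ae8f006800d86348c8ec96360b5f24893efbb2d072e8e006600d463f8c81198cc7718f2be475a5c0000bc35b4400056961afc97792d854f2ba3d74580300064319a640e4ad9f335b41f22ad78000077b54eeba35744802e006031e863e0cb61be6c781aa656bb7c85744002d005e31e463d8cb60bd0179a37f3ce879cef90296f52ed0e90016002e18c531d7243d16aca26ff19f1f005600b46300c8630d6612b1b6cc225b54ab6557b3e3c14040088cba137c0081a6614240078ef6136c0070bc214340068e94143400606181434005889e143400512f81434004861414340040ba814340038d135ab40030c421430002861214300020d0e1430001889413bc0010ba014000008c4013f800002975b2a4f1207f41010bea6308c4e0034006429c053609fcf8ec3e39cd7278503f207f85f331806268019003014dddfa,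
  nat_lit 0x84bc0000ba563c5e3dbc7685069bd400900003dba7b720bbc175425cf9d80114de90b12162c69586751a56162c2c44de80044000417682e884b509949457c6ef8e17b52f7439e873d55f454af7a0b757e1004023804a4334865c1763db67b71f3a00209bcb15bc869ca889841308b61d6c2efed2488c916aa3320a241261fa8c76d1d9a3a34699cdaf8d5f1b816702d2fb5df67ce9f2040407e01140242198432a0babe72003d37942c2bf6b46c62856101c200c499054a0aa7ce01fe800d001c9bc6160dfb4a361142708060ff624af9be2a207f80030006a6f085817ece8d7c508c1ff83f9f3600189bb9c7338e08ddd21a8fbb9f708e38f49d5a23e6a01cc03a3c5d78a52d6107020e207f60028005a6ee7cd0005049c08b63212c1c5215a2cb459e836bbda7ccc004849b092e58c18a8df00cbc75592a73b0bf7cc800426e95b6d394662b4c599dd4c2b0ffe125d7cc40038499092e7061eb262c57c30f868b27000c9b95c7cb8f78bc4ba7df30000a4dbc9b813242248449c0aa0008125822a8c7e38bafee925a000626704cb89935754d7e1c2300049b80b5e16b84d6c1371f2f00024dac9b9c220802008c00004dbc0fc42854dc38a99ac6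3599a68947c284bd09b6b12d5f6b49be5c010c63bcc8ac93945fed2098b7316d933b24ace8a7cb40210c8c19166200c2fe382986eb6fc6548c9c1936f9600411916323466405fa0bf27d82c27d22b98b88471f2bb062000065dc4d5068e0d02a99550cba7174c003d007e31c864bd8307caac92000017598f20cce1912321c01e803b5d2d6859f7a44a78947648df2968b91c4b133c1a0833aaa59541ae995d2a00e801e3e50b8d686d44a1894afbcad0a2e94007200ec6428c877c9da2cb45a8e2189960cf419b5528aa0574bae930070f932e325c67436224fc4a37de1684974900370072320df25,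
  nat_lit 0x20cc800c0c320cc800b113ef8f800a1d40a5080091a2826a8008201989600071d31b08800618860ca80050c2507f0004174d10f0003113a0c600021740871000111220c60000174b029e6279e533cba43fe2cd4e10009800a1ef13de1062df3c42620048990218c004490439440040704b130003c5e300480038972427a003444c41d6003014c41bc002c44f426a002897c328e002468a426a00205d44266001c68941b40018621426c001474942640010687426a000c44e426c000844942680004448,
  nat_lit 0x10801580284492f08d341267a9c830f67038e0727d32fbd80001759123002600520100028a73486090c1636ac37a8dab7de9f4bb46000005d67f7b46b48858026004e00f8027a731c5ecd771af4da2f7d28027003c3e327c6001300252215912446188c0358efa4c222abcd1b461bb46d186030c01398004d00780095f48aff200005d6878b4e51af2b5d8c5e49cb4025803a00460088883d7f87d1eb7500001977178272b009200dcf8a003700929caf17847818efb5ba5f4684330876af0c6cc86e31b3217e42fb4e56012001bbe8adfae1e0d3906bc2d7531772729008e00d800f801e7d1002300359300847508dcb93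791af261e4cbc0a52cafa1c36e8d930be617c2728008a00d000e801a44751fa5f426ba38bad39300440066007000d9100a344fec9475be8381d40000bc69c9002100303e1a00c00212724c5d31dea3bb4f45c0e8fa0570600003bde067a3bf478aff342f34e4601000171f09c5ab2086b82bbb7600c0000bc3636c00058021afe8efdfe385e09c8001e802c002a004e4b447e18fc16369f3f85de9c7c01e002b0028004c87c40507f66a38cdc83e7c00ec0150013002443df21b08b0115c930dd7b41e24fb6b6980001decf82002700729c6f17035c66ba715de1d937dd6fcb5b49f3d4c420044904833600409784290003c5e32fce0038972831c003444c,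
  nat_lit 0xdd340030e9862780028c42d2200020e92fe380018d0efbf0001089272fc0008c4179ec0000ba586430cc443a94c98e1638cc54610d82028008000e397afad5e7200002f1c43894c58e0e38bc54410d42020007000c397779e2f38beb2eba0e469c8f392829a853592c93978002c00688077d6000636f8be5138acb6116c7711ae230bac17828d44fab800b84cedc22df2bdac7b48d3cda7a407375335c15f560015098a611a94d529d126cad68da51b565bf9f550013098679850958ff71fe61fdc3fe69b2d371f5400110983238d0ef7d2efa1af16975e7d4c003c25f85f8ea640da81b870fb8c65f52000c20bc41a25b64b6ecd9d7bd000b097660f29481a163400e7500090972795e54ea47b8b40c0c000620b04100832151a36e800284b5250a4a2493f3a60000b417395e339800084b88fa40a96dd6dc06decbda07b30d39da745ec0bd8501a2b743ea2686d4bcbc1e795af2b1e50cba7425e84c64ca00497d430ee00001758023005708937b227ec571e090e1211d6ec51a93f5876c65b3e44011402b0448bd8f3f5eb8e84860906eb7228cbe9e0110f909f20005c00b4889645111962320d67bb117d3af6100001dee758c987931000f8020002a0058010c0298445bd897b05f4d,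
  nat_lit 0x28ca00005d2b7bb438e82f4b1096294c6d1c72390002200d0e7214727da0008002903f2bd5000019749ef13dcaa3b8a74447882d006600391c69b8b37055ea5f672dd13946fa7371e006400351c6238b474035906acbecc2b9857293dc27b5546f14d888d105600c4006238b7d946270c4d2dcd393efa6371c0060002d1c52389473c2a79eb615c82b8c9ed13d8aa338a644458829005e0029f6482e6313062596e49c9b7d29b8d002e00128e211c3bec7741c0000e0800b0003cac125d02a285449cb3395c72b72b5553dba0cfb157ac00002f193d3aa298a504430824005400151c21b8236f3430abd5bec33922fa2b715005200111c1a382472e356c6a80e847d831398000178660650bfa1828dfd1c08002004e2084441c55d8e6189c9f5f11042080013000147008dfd1ca326e1d143a047a3bebc0094000237f46fc8e4e3a940d481a75466a55dbd57d740123710be817cfe0aece61c5cb1d71fa8927122c0457b131523b96e98ecd3c414d829b4a9c92a0221a2928524ca3a1473726acf419e8b5e164eac9b11c9237d46fcfae0023103a21fe2acc72cc73129de226e1abaca18271f5b7aaa004465d527a004097807f6003c5e35ff0003877b11fc00345e1637a003044c7e6a002c30c3158002830b14ec002475013b4002068a78ee001c5d4,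
  nat_lit 0x84002889201280020c40001400213215d080018e080018001161800100008c4000080000006222800100050088014042508ac8b0d1d671e2caa4972f2e62703501e2f845f10bc417897b8c5e24bc417c42f85407a7034b98972f2a931e2c7598b0c22b0425005000880015f6e293ce5aa0a2c1488f5b558699a23a747520064002259376b1ba2374381fb1ded1de23a74750006000180007db6dfc54d36e86dd0a07e477a47768e991d380170004fb6419883231cd0b8417029cd77da1b9c004c00800005f6b007e0124e7c801200273fe4009801239f273e898392395ce0e7c9cf80022004a7fc0012002273e0024003e7da8e79d55acb0e7328e659cd0154c2a9c982cade0048fb4cdf29bb72ab657acbc2884cdd2cdc51ba04744008c67928ba004099022d6003c5d6b45c00385e314da0034b0c28e4003014c28e4002c30b28e4002875028e4002468a28ee00205d428e2001c74c28e2001862128ea001430928ea001068728ea000c44a28ec00085d028e80004620,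
  nat_lit 0xde7800311291e7000211251e7000118811e70000052ef67e3ed96a53b2dedabdaa94d19a18030801800368f35f7400348f311e55357ab091f420b5c168731a5304a613ee6a87951008c210d601c400d0022003c008800ca3cb7dc854f0011197454b80101758562000f1c101c0800e34cc565800d1d28565800c0c30565800b113c027000a1d42be700091a285648008175056480071a2456480061a2056480050c2456480041a1c564800311285458002174055f0001188055e0000052ef3dd343476c8ee0003000f0016003c0034af326342af1f71000b2bbe4d7c5758ae2fffdf7000092bb123c9e6a3ccf8f2d00900078ef1c3838770488fb7800295de0118c89001a001c5d6aea400185e1,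
  nat_lit 0x8200109900082000c978b88000085e300800004b0c0088000014b8014f0e1e1ab09561260014021bef000122adb218124c001b6bf28f2259000291e362983dd0002b5d96bd8a380002478305f0e780148022006213ed9ab00002eb0032005e01e334eca7f7b82f7327714b69c8099722cd53eef5dd80000cbb04de3daa3f60024004c0180039006a00e40168074aeeafbb134300e600b001c0034007000bc009001147eb1ed1f7500a80048990b4c800445d61a3a00405e30022003cb0c15fa003897247a4003474a47a4003030c32ac002c44f47a2002897c47a2002430a274e00205d447a0001c68947a0001868824140014749267800105d3,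
  nat_lit 0x5a8003113802f800217400480001112005a0000052ebed4606c4ab5a36fe7b79f0166017000c801800320171f7f6f3c02c802d8018002e006002d80b2861d2065530afe572e80000ef6005800a801600b202c1bce5fccbf9707b6301d09eb972fbf41a583512036ae0d394007000e802b801500273e71f7d834f2032ae05393006e00e402b001400253e6e5803ef95fd00000bc3661800057f31afe5c2cb89a72000d001b005300220040007cafd96f76615f7b00a400400074f9795f92dea993c7ab7f42fe0e01dbef400440081320004400792f000440071a6600440069619005c0060e95005c0058619005c005089f00480048ea087f80040d1500540038ba900540030d1300540028d11005400206137c140018ba700500010894000600580013fb00028000052f0ad615e00bc0182823006000be7518042803d00090025f79,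
  nat_lit 0x648ac9138f5e4a9897000024b9ab67ca653e9600d097000004e300083dcd65c32f88dce1ba03775779cd139a2e14e429d87780a7614e668bcd135de6b08961f9d7d3aff2ee25da4f2d7c2ef83256566e8018603049c8939046b6259df86876316e21b02e42b5ed519659740194a5a0014003bf0b16de1afae41b5eb5192596c0184a5800100031ee47d380029edb8d6ca8ad513b3f4079c0021edb9d793af898a13150c800019ed648088d5c38f07247e10001046208d1017904a01480004f6ea52525bc0001ed20024f6ed967cbd037146e38dd5586c22144434a0faf68fc1df0400003bdc021a9191f4e300092611880054009806f01719b76f81bf057f780000bad20be1920013002200b8016802e0022004dbda5fe4bfbafc0e269ad437f8dbd98012002000b4016002d00200049f800144004865d00f60044904af5a0040704016c003c77b00f20038972017a003444c0172003014c0168002c30b01700028750016a002468a01720020806016c001c74c0160001862101600014749016e00105d3,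
  nat_lit 0x1140005889f60380050ea0113c0048614113c0040ba8113c0038d12113c0030d10113c0028612113c0020d0e113c001889410500010ba011080008c40110800002977e9afd741549b01904dd90bb29003a00544bf040c0822fc8dccc00002f1897c00260070f7d1f050b921742c0750a7a1479a9ee65bf20a7ae05909f113e09eb13d4a896984a260c009001b7e3ceca9d9627464e891b6897900220068f7b3fd87faefc757d500002f0e1a800015f506bf27404e7d1b50976001c0059d913b2176390dff0d4e1a77e351b48975001a0055d90bb19c8167630ec55fa6bf48fc6000c0028ec81d8c640a589eb1306f58de934ba69bc88b6500ca60ad995b506520c9c21b8407080425d0005b79c5650acb2b3519be10d8203040112e600280099ef17e2ebe480001deecb98000af903bd0897113222b81f683fe12e0001c0081eeeb2f197e6cb93f1425b8003000d4a6907c84da583193c724a71fc58a27e2720de485c90d32f41da03b51ff07e344bb0005722a0c4c80a1cec39e1ab291bb2379006c4ba00047e217382e6d07620ecc7fb1f8b12e8000df8707740ec87fa9f8a12e600087f8,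
  nat_lit 0x15cd56ca34840150028087026a8020804976aaed35f9711a4236c21d8437135201000249f273e6417d82febf2c9f493e889b0007e0120f9359b0cc6238387080e1e7e5401f0046845f08a84f658699437258650dd86913d883e644494f5402050e0a1b4fae9f51460cc58134c00f5f94bec800405d64bba003c5e352660038b0c4daa003444c1e16003014c59be002c30b7ff2002897c7ff2002430a30ee00208066560001c74c2434001862166aa00143093e3e00105d35b04000c44e7fe800085d07fec00046207fe6000014bbeef9c6807780ed277a4ef11c38993005600c92ac3ff27e4ec3100001c121cd15262a4aecf4018802913228e1404e809f3b0f6185f92084a004865d088600445d6084c0040704084e003c77b089c00385e108a0003474a08a0003030c,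
  nat_lit 0x80f89640034006976eaedd095a92b381912f01df7bf457ec73a7812402444fc89f8a3bc13900180033a58d7e86c5e80001758aad955a76e4019802f09c64774034806a1dbca34f62f1fa0008c003c00809c600ba0195db8bb69c8b737220ce3f3f72980080bac10c40079a66111c0070ef610ac0068bc2113000608981120005829811200050ea011140048d141124004100c11340038d1211040030c4211100028e9210d40020d0e1128001889410d00010ba000d00008890110c0000ba58ad686dd0dfb08c18203009f3d3e64015002589b40884fcf004a00a67cc6cdde63c1c32386c714ac8a11b22369f9d6b34d666fcd6738021a042c9ed93da474a26c4024bf3960dc0000cbaed6c0278047135e8e8c05d80bd3b4b46428ec50e3b06cfcdab6a1a4c00bc016843d135e01180273b5a76a59111f9ab07c00005d611be10fc21d89ad00880134f959f360bf41806c1fd83d7e653ea89b400860130f9559b4cc6a384870a0e225906fcc4d53a1bd474e8c59da0017002d91cf09aa00840129675,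
  nat_lit 0x2c870000178c00780115fd48891115e5fe94a1228d4c2a9868e8b6435fad0e281c267fccff8781ebfbd7f50010001ce551caebf5983140000bc729372fda2284442bf9c007000c72a44be8977ce1fc188fd5d87c000038259bd000161ecedc7814bfa97f2800b0012e53dcac39508a4b8b3e9ced9bc7eaacbc80001dee69bda184438bf880048007729b42227104e1aa6ad65e1fa9b210000077b4434bf8000380057296e551ca661beaeed4e6692059077ea2dd780001dec00280037292e549ca54520c36b09aab16d66daa016eb9fa7b46c000077bbd3c1d843b1d02fce234209ca38001001a8d8ad1b5a357e98000394625dc4b9160a25484a92954267eba6f69aedf7b44a68834d529fbd256caf53e7ac14bf4a9a060d6c1aca3314046c143f48bf452e425cb7d0d609c7104543969ec1301bcaade61cd825063ec7d5019b04806e9fdb66d7608c3f69ce5416ac1109465cba805582100941b7d059b04001fc59fa0b3607c03a6088c122c0f07233e767cfd81d029e1278a11b11d29024c34a40b11c2846127c25400d6ded4ae27a0ace419c795612ac129d4ab0155e76ec01a9fa3,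
  nat_lit 0xf8e28e61bc8b3d169a8725a65472200f0018a6dd1f55805803100609b71b3fe49985890b1643965a65dacfdb802f4db773deaf0d653aca10a570f0551a8e1efd61fb688011962228b95e72c0b5b56b7ad80600e00bc0173f6a084c399073065c74059e16b00d601000b8016a6d97ed00df80112640d2980102411748800f25e2e37800e178d96e800d1ded973000c1131970800b0c31970800a113d970800925f152300080c28ea70007201996c80061d3196d00051a2196e80041a1d12d0003113996f0002112596e0001112196a0000052ef17d5ccb9c49b1800d001b5feabfe9e0dc5988b32cb69fb3c38c00005e18cd3199694f2ff2003200613625ce0ab9509ff0e4e1c57eca4554a57cc0a88c9115aff100300059cae130425f2fd8e2d6000032ecffe782abfd57f800160028e569cb1b95b8a618b6b16abf6161340000baca6254c448a694a7980511722275fda00500093958b098fd7870c9ff93fede092ff25fda004c008b95772c0e561fae,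
  nat_lit 0x500093d924f5c9edc9f28bed17cce589ca6d9a5fc3b0fa000077b1c7564669214d8d95492a967b10002001a3d4924ad87c7f08000cf619ece2dc85ba337f82fb4383305c60e734c90b0000770600565d9a0532d9960dac1c8df531d263ccd7cb0e0fe0b0fb287d65ca5854b05b0defe046e4cbdd61b854086d1417ec368cc915e284ad86c15885e1d09cb0d62121f989dd161a83a06db197aac348b433196792586812c23315099b0ce1da1a9551cb61984cf1e7731dac328754010580d2254b4a135be65766c54a349472702cc077efc020301a5b20b6016bf397172df1189d44ba8b8436925595e00003bdb5b572c08ff91fea3fe8e1226444c80048007cc05ecaebf7c00f580bb01c787940941028207043a086c18d03183a041f103ed8a4d871a2d445b0a1dd69bd1cd80460076fded977000032eb019602800e801ca6e56d11928a166c2ce90f796becbb3a7800e401c26e4ba0157aab2e5659853d87a6a91c7187ef22d8bc40602ec04801c00374dc6da1b25042cb8598fdddb04000032ee1de00016c0c65c8f18c03401a80344dc173f2af35658acab0a6b0f2e1dd7eea2d945ad7878c04d807003400669b7db41649c858efdcc67f8f14c02c01980324dbd73eaaf25656aca70a61fb8,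
  nat_lit 0x10c1a1824504c3b79b55892002500463e2c7c753e9b738fe680220048c4858b041ef83dd6864d701acd35739251d5e0046c4865da1c09001e0038e0d292f37e86fb4df53f98cf96b4357c2af839b49890802200433e067c3cac87f2c302800e25e2e19000d178cb78000c2c30b78000b25c8b78000a1d28b7800090c30b780008113cb78000725f041680061a28b7800051750b7800041a20b7800030c24b7a00021124b7780011880b778000052f17a4c5c987b27ea4fc4f71002200498884ba337f05bb9fca8a2acf4d9ea5675af635ec3360b110002200427b83f92003e7becf760eac1d8412102431d1a3a3c76507fc3352d978000178c006800e621b9afabd6d7aeace4cf459e8451294f76cb9fc8001a00327bd4f730ea61d7811f82401d143a30763bf2b77780000e0921d6558cf709ed40028005b10acd775eaabd5d66fbbbafe39bf09736c42000500099ed327c24f94c3598a98bc9fc689d186ff35cb108001200227b44aabc97521ce4213f8b86ec0000bc366f000061ba1aff35b3105000c00167b2c9ec93dd30cabf1e2ee8df966edfc4,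
  nat_lit 0x17a8c0000bac3e44027004462879bd30fd452390f993e65805642bd44fed5a2b00002f1dd53000168a89ce1f543e38025804162819bc70fbc52090f393da57edd527f64020313ece81082e1055a3535f86ba4d6b3e358672fec59e100002f0da6d000167806bf9d6e3a90138026f0f1c1e0e7d18f8b008e00f589e5a6c7f5f1208000175ae340000c48056562478b6730c72994c0eac297b8001c003a626f71aee33bfad7e900000bad1ba272f4bc9626c00e001b5ede88f7865e9f953f3bf46feae34fafed89122d84c2eca5f302eb08dedd006a00ddfd4b3da000065db14c0002cf60cb99b229e553efa7dd864e23bdeda006400d18994bc5b14afe98031007a3e0926294eb29ed0d156048fcd1f98d63904775438d2abf8e23f8b5730a72954c06ac197b600183fa567ac0000bc76f2800059ea273b36266c3a78b4faa9f4e18e88e57b54016802f625b6f24b88bda000005e31f8c3f1d601c33f29e0539525f8f7c006e00aef69decf7f46ce80000178e2d24c22ca472ffeb02ded1005200ad8945c5ca735673dfd0b416000070479391b66727cbba624e00a4013decf88d986229f1da0a7f3e69a4c6697f9580af6700260050c49ea1a53978a786334bfbac037b340128027624b2ee2534c6d279341905fceb73a000077b,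
  nat_lit 0x17d0c0000bc2006c0073be077c3854a27544ed9e152d32487567bbe84ff55fe900003bde3a03e647cd1713d6ee7e84003000ca9ff54055872ff43ddf6e280000ef67cc9712d6ec7e80002800c096912cf3af675b6748b712ff4e0c200002f0a5f94be497bd2d6a5b712cc259c00b00087e7d5bab060bfd0001c00a896612ca96d92daa5d892ac2900525c7257f9c7a0ba659af90446084d0d924b44962fcc3f3d000cff359b200003bde315000166c477aca0f28e054d8a9d24ae4956fcabf3a0006004271463147f96faa00001dee6dcd55d9c4c0038000bf38bf2710d221bbf827f137d4dfe487a75b873df3f3600000036712d55c9b711888b1c3fc600344af095ccbb2893512754ea44aa1c3438742d69ad88bb117745689d9e3af014402870f4c1e403c5878a077e0ef976e874f06fe0df454d0a9924a64946fc8bf367f8ac6100001785983b3080012002c4ae095acbae892d1261c8139056305d090014ff51fe9d15f9fb537ee6eb64e494bf2989fe10013150310b548eb54a1908321879d0f431b75fe0001114ff10ad48da9159e0a9c6142d285cfef80078a7c16c02d88d1c71e8e3d7254bfbc001a29ec53e9df54a2a945ccbe7648002c576a27344ef30014be4c2c002453b8a789efd3df29687f74001c53ac421a0aebfae37f117400145398a01140c48d27ce0005fe5b2d601f8000456e09644a8094d7c5afef31ac5426a59af8e5c8665cab168fee0046628b9bdb0fe452590fd93ee5815644cf6efec9fdb,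
  nat_lit 0x22730016185b76300143a83766001218505a600104030087000e3a63764000c3441f3b000a3a4ac4e00082e9b65e000622537610004224ddaf0002224103300002e95faebf6afd6801180309c9131087d10faea3b34796ed6bfe80088017ce47aafd3768b3c167a48009c9870a0e097fce68440958118c6f98e41f483e92b8f2b81bf570042ff94b0fa1e849d09395fb27eae0080017097f12fc973dff1b24a00005d689b15a66fd83f55003c00ae721cc3d1f3a3ea68ea5924682ef488000197539023fa2ce859ca6ea55789c8200a400e3beebd297a41ff094a12c2a877926f24db7eb5fa9001b005225e84bcbfdf64780000e08fe6a269d694bf56fd4000c80269c7d30e07cc0fa4b23abfd5e8d00002f1a3f52cde59b66e7d5739c78009000bbbe9bd1f5be2f463fdc6e7c7420e8296a93c4a27ac4f2c2b4fd59fa68016749ee790000178d8d8b1bb3e767cf1717d6f67e9400500102a09541573c5fedba9e00005e3947d0703067d6f47e900048010097112dcf92e75f5d4e7fb0931dfa37e90004400f897012de97012daa5fa4bf6b673f470020007671acc2f1f1e3e6e8e351d2bb34407dfeb,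
  nat_lit 0x30b100001ded6718004000c0016231c467ce06fd56496c928a7238585ffc000a00122314466ce04fd5e82ee7cfacc52b7656e3ff768240000bc264ed8ad000c000511830e2d589aaf53255f5d3eb4b410ffd000188bf118a2a149128b6f244a2a145418a0194d5ff90000b364259cb58d8e19b1b3646c6315b21014203853f641dff800006ac8d598afb16016419b01904f417ec828a80422cc8159041991d22e4f7b206259603ba1e364083b950239a02c8087620c1c185d90012c0826c99eb1fe2685051a13b63f83ce629d446ac7e8abb93dc7120e2f4e82906cb4a96939beb5666731004a513026b4c73a097562e640b3826708cd199a380480092ffbd964000038263490001658cedc98e14122ac44c7e66fece059a1b344008a011a72f63487fda051b1d563be7d7cfb02e53ae34fdb801c0044545affa928b25137f25fb70037008a26584caa5e64bb698816d120260048990205e0044978618000405e3206e003cb0c6ed000389726ed0003474a3ed0003014c,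
  nat_lit 0x2f0008343802f0006225002300042e800230002310000000460000748c43351eaa3fd496cd4620e441bcaef714cb3fc0100022802c00f802a62f06564cad48ac7826f04abbee149285d005621da8f151f6a4a66a1106e20d6576b8a459fa007a00959f80074014317632ae65624553c1178215def0a3c0116b400000e088a897890026003a006d67d38a195d420c841a669eb59f003d97d00002f0a29f4540b4c000c801b0032b3e1c4fcae8a9c34906cbe400c006000d002362f4739ce72a2b80ee01dc70a54c2d8016f580000175b1228000bd5e56505b80b6ee231c542cf4002a005c00b447488ef892712240098006b9a85b70b6ce22dc53acf30028005800ac47344a2cf1800017598ee31e5ce2311d623880130028004e238c475ce23678a00300259700e701cde45621da43b543329b908d211a5400571140000bc60040008800f59dce289c4305b10b655cc2ffe3fbdb8890008010001f96f4e6e9cdb455c1d983b3c32f9b8a8d16000b4bc00005e30b5ce20dc4faceb00180038006c46b88dd8902a1e5a5d7fff0de80001c12d160000c37876e446c88d00028005800a88d111b338431dc63a724b6d15bffd77bc0000bc38ae40005dee1afe56ab88c59ca0018004000788cb872ac18d436a8678ae1ffd,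
  nat_lit 0x10d121a445a427b000f000059f64dee544930b25d6018001c13d48b51177541eff3dfe847fb0ae215682ac05577bb6f76abcb5f9c79fef3c6eaf0000001c13d085ad5518ccb1992bded60c9120d46aec856a593892708b3e402e003427990b4aaa3a18efd4be317cae5210a4847f3c7c78f92097b00c1dae3b9658e4b1daeec3a54749c3ba8780c394df71bf0380470e4e1fb07fa40f3b8276fdd5d805800604f322d045d5506bfcd7f9cd9c1b394873584b00a98e80012002c279116722e8a831fe63fcd6cded9c6014b75400005e36cdaff2dfe52a0a22e445942780009000e639add6dba9804c00404ee215ac72eaa314a1293f2c62bb88e901d1f009000709d655a4047808aa01f4e0348058fdc92b008800609d5049088211051c4225004a19ee800142739ced9695976a66a4020001026fcb42a5d913e5f1a401e000c2700aef15f2a14e00e000413986838d093602926800109c8636c673000013944691130139485355428cace3e5c7dc539896b0b5616b593d8036d6600001759795000e0022003d68938b99604212842666b6a9536b2e00c004000445d6004400407040022003cd330056003877b005a00345e10060003074a0060002c30c0060002844fb2660024750005e002030a005e001c5d4005e0018688005e0014309,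
  nat_lit 0x10f7000e34490f7000c34410f7000a18490f7000834390f7000622510ec00042e80fb8000231010eb00002e95c4cb89eadfa806e55c93aa5a5400c0011001c23dc875403a005c008000d11eec7a6ab214bf297b2cda11fc23c807027d80102412cd0000f178c27d000e25c8283000d113027d000c0c3027d000b113c27d000a25f027d00090c2827d0008175027d00071a2427d00061a2027e00051d2427e0004174c27e8003113827f0002112427e0001112000a8000174add03d567aaf2ac28dae783a6cb3b9e7735d64000c005201bbd88000077b2d00000c00904f821735556334c668af47a18b423dec3806adf300001785c85d7bfb097555085b84f600200004b3f49beca8b6f96019,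
  nat_lit 0x21ea000462021ea000014bba2f23c617db560bb9f5b92501ca012d7600f801b8036809ae9780001c10ce85241cf0b3c7a78edd9b007a00d401a10f2ab1d74ba025bb900000704c0380002ee39db95b7e4ff49fc2d6c00e4019003121df3e5e7c8d7f7c0370125fb600002f1cf18bb2c00e0018002f21db562634ec6a590a3a25afdaa95376400000bacd79de90bbef77daf40c8d611a0005800b801b5d94bb1f011ddd7ad59764c01a802d0056467c8d5bd0277d8efb93683213775ab55dd92006800b0015119e2354f405df58da400cc0158029233a46a5e803bea77d8f479af235eb808853699c5ce5948ea789cf12bb2000c801500282339010838e320cd675e915d8f006200a4013919b2350a902020c060000077bb3ce00030178ef556a2df016b4005a00980121198234aa8f42aa8556b3cd00fb557b8c6ae4a810e57093d25aa401600250044242e01e1d64004865d04dc0044904140a00405e311d0003cb0c154000385e121f2003474a007a003014c21f0002c44f21f0002897cb46c002468a12fc0020806,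
  nat_lit 0x123a000e3449586000c310b57b000a184b3ef00082e9b57e000622535760004224b57600022245dea00002e961d89f613ed800c001600a20160b6aca1b943b5bfaef4c05569dc0000bad7f5c0005a762b2a79bcf36bb6801580270013002b569e35dc6c390df7f5a029b7a800005d68620d5d6ef256f994312858b68005300980044009dbd380a2ceb0000197635bd5a30022003c0250052bb613cca799e79aa4ad675602721ee0044990ba2a00405d621ec003c97821ec0038b0c21ec003474a21ec003030c21ec002c44f21ec002897c21ec002430a21ec00205d421ec001c68921ec001868821ec001430921ec001068721ec000c44a007200085d0,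
  nat_lit 0x4070010178cb7d800f1dec033000e1784b7d800d1d2ad74000c0530b7d000b113cb7d000a25f0b7d00090c28b7d00081750b7d00071a24b7d00061a20b7d00050c24b7d00041a1cb7d00031128b750002174003880011880b768000052ed83d4e7a1eb9b81fd66073abd57088cad995800f801be02e8edaa2c1457b599b94aaf52831e5b294565bac037405b6cb40000e085ba4036007932aa6562e0fd5e7c0e0fea736ed0f2b659016006400d65ba251465afa0c0af46e5135965158a2b602b0e6000445d660da00409781494003c77b6b00003897255aa003444c6b08003030c65b0002c44f6b06002897c6b00002430a646e0020806,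
  nat_lit 0x2d800000178c753800d002cefd1df63bf4002c00345000a01413b6bfe04240b881a904b52d08b247f60fed0a0113fe003000ac08369340000bc26739dca3b920026002870822b927b64f720894118b4990205b8e00002f08e95906726024d39a870024002070722b727b24f6adc6c07f6c580000bc3769c0005b151afd15a0e0b000a003cd4250ea9083960acd4d7f8adad769a03ec663a0aeac3ddac3844708120ba3e7cc3e3a78002407b06368e2d1ca962090591f3661e1d3a000c0063bea80f2234906a14b6293f30e8e9c0004002ddf4bbe177d301de62b4122825470380010014efa1df03be834986a0203a89535b5ac3c58248d60847908fafd41bfc0002039001269fa4cf4828afc961db4c85386b01732d732ae46e8f8ca9b152ccc7c9de53bc6de923d66346c689ee1d2fd0e301c6a69ccd409595a0d2586241247c5986874cc0700020d3ed0e6d06194d64bd47567fb397005c50b8b80dc0039a505558aac1a7c4b41aa57499a93538c080d8003199e333a8a9115046d69d5f54e33f2c43280d40029a50772cede1dbc8198032f2010515c0680010d24bcae795b4fe69fc6970c825019800333366669dd2665a9ab4787e0320004692d553aaab27a40e71ee500026929d21b376011402b000034820051a4abf893a56746ce94331466253f18bcd179f674a0319bc529a253183f507ee14b27a9523fadfd7794043c060715a702581cc044f615ebbdde4010c0248cb719712ee71e4e95fae1fa44f0ad423266da021602f6e46dca5cb5bd6566e0021069b169a00489902df60044704,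
  nat_lit 0x40000ba56f3342924c0382a6fd338bcf779ef01e683ce000b0003026000000141e6c3cccf779eed9c58df99c14497f6f2604b000000e40634e6fa59735473414d4ca0c1680a04a7f1f47d6d008a80d3ce72ada00124e0a5e6bdb3fe10eb0b4a3e767f842463d4c7b2cfe8740728a660d9fc16ec87dc392b3f6268c87bcef967e856e02fd34d6cfc899e271e72159f80ea86beca5c971f3d211678e26004000a8d4fd10893324ade58c000032ea431480398e475c001e00506a76881c85a90b321732c5c0928a806bb8d7a94b32e327a2a2cc1c4600740139a9c723212ec261485e8fff31b8eb600380098d4dd10190b10241077773598d875a801b0048f009dfd3c020048006e047141c283400d00237802efe5e00802300343ad331abd9af50914e0d731aed29565c44f414590387c00c8023811ae030000178f2b80000b80a4e751d884af096d214a3f9cc623ac000b0020352b43ef2b7c08a41f4838bb94cc603abc00a801e77f8efd1dfe001e501000a001e34d37f8e75a4eac9d6666a4cd4280217d8f4337196e3481f504ed2d78b327f7cff0cbef1d5a004d6ecc6a600005e3949b2e0279ca2c01c2e004400d9a90a1f3262a41e63528112fbd8000178d1f9662a1d52003c00c9a8ea1e9212e425484db0057dea043,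
  nat_lit 0xe007c00f001f000ef8e068f8d21261e4e85cb540af94e40000bc2a3d547b87db0fbaf8d8002801d003800740024d53ca7102b001c003600700023e351a383478986cb3f72cee5760550036000df1a0d1b1a3a35406a18ce46a7a34cc698c0a806a80d600050004f8cc3ed07dd0fef990e5c3a485814c000be321ac03588cbadf8cbf1aed9b3e4529c9f20a30000090dc12cc8658b52dd95bb3250300070292af449f400080f10f548d6c00082120c2418880000074009800700a0037674352e29ad19a666b1a500814400900067f511f363e5ce82ce6d40869a2bcc9814000880057f53a076a1a4d6a681caae604f00200011fd347cb8f933a029743500813800780037f460b7c17008e80a38147e04d001c000802580d88bb11748542001a0005fd1b80021fe440893600180001752aeab635ea38000f00183a5000f0016186000f0014227da0e00123a8000e0010185000e000e2ea000e000c344800e000a344000e0008184800e0006343800e0004225000100060004f4d,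
  nat_lit 0x9801501d1039e6331db13b635ee0bdc97c2487e818076f8ede158c2a3854620e6ae734fd6cfd4d74004aed2dc0b001c2eb0020001a3bd802f00183a5002f0016186002f0014227802f00124be002f0010185002f000e2ea002f000c344802f000a344002f0008184802f0006343802f00042250001005e0004f4d005e000014bc65d8cce30b57b4beeaeb9ab5769ec9ac80054017002d817f2a30000178ee768000ca8a4e74d61002400580de81bb3170ed39da7af5c5ebcbdc2e7640bc29e10695725a7c3679a6b00011005400a050287c88176eb40000178dd7056a8d3cd35780078028004e00a00099db49abf759e05cbd36000077b71dd4bea9eed9e29ab80034013002500481f103e15e9a816eef2000017859644d5b9fe0002c01200230048002e6ad59e0a7b7778d0e20014008c01089fe0f821efe7cecf9cce78f8cce15c0b44e909890d241a44f8ec0050022004200880053e3b65d46b48d687c740024010802000420025f1d0d211a4702c8d207c720020010001f00400021f1c8d671ad0a3ea058,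
  nat_lit 0x17746b285614d16d147a28bc0118024006000551e94f830390009002f004600845165bb446788ce54666ed6e0060710522fe15473a8e9a8856c6481d194cb05d479400440e169c40000ef789f80005a701dea7be4f7bd072411481b9949b05747880028012a1a389f606fc2b200005e134de7fe4c9b1938b05347800018010a19f89fe22ae15881bafef80001dee09ae15888a789f6866800e000347829f7bbe877cd7f7a06d145c45848b267c00001036000d800e5af8b594afeccb1570afd1bb2e75f6ebe74bd566801aa034c0870116bce93fda7fbd31e632cc674e979d2e8905121657567059ccc40fc8189943b04b477206bb67c000077b8b19163f32b4afc2d605af2002800b0012ffaaa3cdb3d81a8005449288f711f66436990d31f57baac1cea23fd0004c491609e0318063d515b32fa88350fcc0081a40044490609c031406404a6093e6840b6740d0001e247b04d01880316a89d67a9d5d0338006891d12365804aff40760b3416740cc001437706ef67f2cfe8cfc0c800012246447588ef320a6451232000e245b0496098c3998f83558000a245409922dc45bc0560002dec5bd4883c000254f8014ffe5ffbc9d9350e6a151ce1a9635374c373e65a4b819454a8a9341db5d029fe5a019af600b000a801314410325f8600002eb5a5b00017e14acabf12ebeab616a009af000a40090011002400b4ee75a5a818c7708ac915222a3d074d73ca7f167f66bb802800230314628af8d7e1dd7c56c0d3fd35d80138010001e0042061,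
  nat_lit 0x853000a184885300083438859000622508590004224dad50002224083d00000a5df7fa4020090018d0f09f859db14ab8dc31b8020e441e40ed79600000bc200bc0115205a64f533e26e44d53d9970785570aafbcaf03adcd500002f0db83000173506bfd1d69d013a10011002747f800f802ca1559e769555b8281d30ba00001ded3a0000f002347f000e802b804a5b70b6d19b682bf85ce073b980004465d4f7600405d62638003c7044e5a0038d334f8200345e14364003074a4f8c002c14c4f8c00287504f86002468a4f8e00208064f8a001c74c4f7e00186214f8400147494f8a00105d34f86000c44e4f6e00085d04f6e00046204f84000014b,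
  nat_lit 0x9edd3de1e33a8af51609db13b6803c007d48a402541010746aeee8d9d037497801e003da450012402bc0514c12e4e800019762aa404e809e0154023d224b0da662c83c9086b93d727207fc90f6846c365223008c014e8894fe4cf1ca5e46f2c0fd6ca80000cbaf64ccee19dd830d125b160511000a20112913e850b65303edf2a00002f180500085488401b0035a4afa05346955d68395070ef94c0f93edee4c108020e66616c33d21e0082013e024c04868ad01b6481b417619a90e8040009b44327ef678852e703ddc1200003823c25d095488401f004ba2158aea248418033ae675ae08c0f47c30f924fecb8727b9e27844f7a9d5a61690d003d3582d518000178d45028a14eba9d78016802fa43400ec023bafbcf736a8a079b7e0000070433a4674601fc041008e00e690c002d0059493b405dbef81e2e4e8000178ccbdd85da42800dc022c03f807d15122a54988ac8372720771056004465d109800409040fee003c5e3102e003877b10bc003474a10b8003030c10ba002c44f106c002875010b8002430a0c7a00205d410b8001c68910b40018688,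
  nat_lit 0x10a6001218510a200102ea10a6000e34490a4000c344109c000a184909c000834390a3000622510a30004224db730002224109300000a5dc8c936315ce2b6c06780d001b8030523db10c66908494104209c009132188a80088e0821940081a6620940078ef608b800712e4218c0068e94218c0060618218c005889e218c00512f8218c0048614218c0040ba8218c0038d12218c0030d10218c0028612218c0020d0e218c0018894218c0010892218c0008c40009c0000ba593dec3952290098016688c4feacf28a5fc6f58de810c3040804b00b1445f163c49d831a6790cf1bd9a7b2efda174b,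
  nat_lit 0x600041a1c0068003112ad6f00021740006000118800008000052c0005adb5ddcbbb70b40a2b145afe3dfc8d06daa3b2f5b375145d28bd7d8efb2380713f227de657bb5974ae1e083c1c698c7915946b2b3806bec97d897782eec5ddd6b6e08dc2c228a84fa89f8700d7d8efb0aeef5dd6bbb6d6d411973240000bad6b600030945563b36ea8d75535aad52c059d3b3aab991045e164144e27c84fab803bec17d797762ee85dd56b5d21b5dd36b580020943563736e28d65533aad12bfd9d2c1152ffe485c82ac94f4aaed6ac11382c70583e3097813096d6a411014a0291a17ec5ad4aaed69c10e0f2deb6cb16d02f6b482c7129138bed688344cc5ad680014fa3dfcb3dc57b906844d0941bb89978bd68a280867371ffa830106050bb628dbb6076c353d20328084010b04362ed00002f182ff06010bae28cbb5e76bf53ca03180820107450b176410af24946d28db4f2e9e600338069a4a801d4040bb358212e1280001758d05c07980f60204039d25200ce019a9446845d2077092083214a00449042126004070420e0003c5e3213a003877b2150003474a214a003030c214e002c44f2140002897c,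
  nat_lit 0xb61400005d692bf4ca66c0a8bf5180008401100215180a2fe6c0db09825c0103343127e24f6c36485414e029bcb331665214b04b0020003ecd0849f093cb0d7214c5378a6e2cca59915715178a2f400f001f003ca2f545e4d7ea64d25724af158c007800ea8bc517735f6991b8a4715b1c39d68b8bc753400e28bb517105a271359bcc5590f41d6838bb26ce5f928ba0036007000d2f0c5e1786185248a4b9e6efe4e095b824000065db5fe0002e088cb9058d45a28b70030006400baf095e11860c5230a48b5fd04a49f382c4a2cd45b0017003000597842f07c30429151ad002c005c00aaf075e0d86045220a469e64fe39fc841276c940000ef6bc1400980150028a2cd4594d749129226e4aa4da7b6490495cc800003bdaf055e02bc0c00880130024a2c5457d57193dd27aee63c1228c1d184ce4d002000480082f025e00bc11c0b147257a4506381abeef7dd5781aeff5e02003c008800e12cb0485af30000382230612c60030007800d5dfebbf5780df73beeae062d792bc69839d7a3af885291d2945528ac001a002c4ac2b30823c005800d001425884958929b0b1210052e0a5a66f9047000507ba79b00a300080f7640c04be000c1eec80e08c400103de10be0d0800107bc6a780c100180020d330020001c74a001800185d400180014309,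
  nat_lit 0xeb800111209a50000052f22dc47288e711c6c5ec46588ce00400094a5d26aa4d2588e7f251ce2232c466001e0045b9763c2d5191155d5bc1437f140000bc2eaedd5ac451c77f8f01b96000f001b119223158babf89050446300180039b95e3bfd23f2fd25faad1d1e103c19365b86c00005e10014003252babe757d01c00380ce9ea4ed5eda7565c35827e5f8e91cc778dca0005800a56d7399d5b5a46148c504f2d1a5a332fc348de3bb6e4e0028004ab6a9cccadaa09d0010917d22b4e5c9bf9302257a4c089bf9397122b1ca23c0968c2d1797dda4671dcb7250010001d5b44e648270003800648ba915272d4dfa980d2bca6034dfa9cb504ddbea00003823ae748b8916d5b2ce6156ca0010002b722c76da45adf49b6f79680000ef6000c0012b639cbead8d5b1445888ad6a42c57d7d1bcb304d000156c539969f9840d0817942ea4454b4a81742020990000ad8000a56a6ad51e6a2ba95755517f4445b0a8263406cff79d8f3b229655b09053dd88c245b61008230ff9aad6c1c2d4a27744e2d8307b9388275e5b0519107ec0fd9b6081fde7e8a0416c0c45912234612d8102029eb69625b010321f4552c4b60005dbad58a2f6bfc345,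
  nat_lit 0x1141e87ab6782df0ce819df6cec50a0064dd3d60b2c0e0e4c1c9e762529c62aac531c2e415400c5ba763e2d285305e60c4c17d285aab31ecb5bc82a6e45800017589b94a7a005e00b62424482b1b5123a248448facb7722a0a87f60febe3aac482890600b0017374bc7bfaaa623915d19b140000cba00b0015448188ff635e245c48d89195962a9e5537cd89053df3d000032ee3d300017cf065c72bce575fd5bfaa8ea111f623f00270052dd1b1ed63d2829af2c00001758012803176131e4f400cf159d9d0e9f28be516915b795e0a5966754c6a9b5652890d121e242d8d188f311ec01241497ce00000bc6dd04012002288f311e23a5bfa57f4ce561cacd84bbe6f051c478004200b5d82c78fcffb3c4676543a3ca27944a0a20dba003c90426980038d33c0aa003477b2696003074a2696002c30c2696002844f2696002497c2696002030a2696001c5d42696001868926960014688269600103092696000c44a034000085d0,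
  nat_lit 0x1a80044904c0c8004070401a6003cd3301a60038b0c01a6003474a01a6003030c01a6002c44f01a6002897c01a6002430a01a600205d401a6001c68901a6001868801a6001430901a6001068701a6000c44a01a6000844901a60004620015600005d2caf36162f9c00040007396e5f34467c63368aea3080d182b000180029cb52f96233446ccec5039a075c1a838ec72bb10262120030000ce599885314645bc8bc06400c848150000da30259d0573232646b284650f16c62da2b2056436d1a0ab6380b1d163ca61c4c436d15b0179a3a206da20a80d1428e85b431991a2044fab68429fd19da3ad6d044243b10af52da007daa9b2474db3f1685b004946b67c25845758af36cf456e,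
  nat_lit 0x24ad0014227dd6800123a80d3d001034524ab000e2ea24ab000c3449993000a3a4a4aa0008343a308000622724a100042e824a10002310248900002e95e16a30f4175b5e002900577d7ec3fe5a392fc921d244416e00a001522c6458e262c4c538dd791232e465c26c55bd9a22adf55bd5968ac3edf5d005200a274032c6657905b5bdd00002eb636d00016f70aca527ca4da16734a7004c009673ecc088913123b1b9e36c82d60e2b4476882b7c56f3659eb0f37d6401280249cf905a481fa94ca4f149a42cc694a0090011ce7b980d121e0b30044c4fd89a4d85ab895070c0117eb5f18ce899cf416531060e13444687cb7b96f1e59bb0ed7d58011002182c6dde0000178e6014e77003e0081a50c2c85260a4e2a51481ba1b96eee0b0003e007989db1309b035702a0c17fe2fcebe219cf415f75640000e096e780005d583b716f42dddcb2b61c2fa8001c003739cd95cb2afceef6e75898b77800005e352550b09a4d801a003339c65fe447d89058d9ea3bdbbb82baea580001786879e77398d33162737801700317d32c36659092d7752a0ad01a80048990,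
  nat_lit 0x20495e346e5b74005400acd35e17f430488058ef71dbb91676340088cba78080080bac14c80079a665708007161899740068e9448a4006061869bc005861776980050ea019e80048d146980004100c99680038d1299680030d1072000028e9299640020d0e46c8001889c47040010ba099400008c4076900000ba5821ddac3b57b4174695b6a804100877ddeb9de9e04c9d05d623000002f0e30a000188bc6bfb4114689b69003e0080d30617429bd538b8e9ed27630982e6f1900001dedb68003c007cd2fe173294e52ad20e258cd0faa90978c60b8490e004465d33b200409044908003c70449340038d33495600345e11e00003044c495a002c30c,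
  nat_lit 0x1f2f36ae6d658c642e5b776507e412b59b5d5ea3942e5b7740e59e273c60849e170dbb955c9d4e4813911b0b92ddc09ca31aa171dbb702dcff542e1b76c0d98070bf4963132f449c3a6eda4c67c7ce61a6b13e4df7db7a800005d662b401e00375fa2b185979a4e0d374d25f3e3672fdbd38316de980001c1284f315800ec01b2fd058c0cbc926fe9b9692d9f176f49fc7bf3c000077b8dda60d0c24d463ac1737318bdb17300e801aafcf5f9d8310034b4ea8622a5e54c0a2174432885ea75c8998a17061e21800002eb5d7f0001885cacad5aba9a646b48d5b45d4721b7c006400cc8c0aec15d7e830affc8000175a20843128618d39403200626ded471e57f821204297fe20c1511da9175696a6691a7234ad15d1c56dea0184031c181862c0000cbb0c25a71006100bedbce8e24afc041e0846c8bd9e6c31505f805e00d4c59d8b0435096f790f636659dac2e2c5160be5116a22b520eaced4c5233e4675a27a382dbc402ec17b9b280000bc7706400066c9273aaadd9e1b22408301054af7a37edbb802d005c69bb70620bc6dda0164032b16262b70d2e5bb64388d8f67570b62c4f91500000e0975b400064533b7352dc8c8918f68828dd36ea00ac016117a5d74d3eb75b20bbc77000005e3,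
  nat_lit 0xc58800005e33f867f100075bda5a44b493557374d63b2c733164e2c38352e10000017870cf0000b83e35fd2e725d04baa3814704001b6f5db070337065709870cec1a794d00000ef64ba2380470200176f5568ead1fb2736a16d8fdb1eca67069470100156f5168e2d1ed550dd1dba84285c5878b0a0d1bab4000077bb7a40018fde1fbba1113eea7a847be817302ce9a95d5943164ffcf719f793eea8439fba3f760016de8b6086c60b220044008c77a8fdc1fba00096f41b03b62f6c5cd9b20d0be4800005e11d8500873fc0004b79cd815b16b62c6cd4d9a27b3df23833c001dbcd85f322768a3587da1b3250ccac995797990675ce300022f1800500002e81fb43f64f0250242060180830186220c4595f917ee2fbbe807cfe7ff8ff5b53547908f2616742cf953932835aad31ca63d0a0b160e2c36e8cdcf754f2d145a256f28002419b1bda37adeeb6005442f48a68b89afb69aac46d5e8351e69f157fe8309caf5cbb17342f9d4fed7bdafa50cb6be8d7bea750c8719268f2324fda77b25ab44d688dbc98332e2f800017590010010b78ed7f9b1336256cc6d989bdbdec45c27717a0cb28bb55ad7095ec36f6cd985b3136246c4ad7f6de32e63737268bccba9e1f3abb56db6136c44d891afe5bc58329d693e11329e654249d50d0b0e944f5685ad0cb789064dec06f66d979b2fb6216c44d7eade1800c3ffd005910cc48b6482d40d394a1d4dd05b9aea965a18b42ade136eed7e2de0800a3fc4d4b06460c7fa9c4d79daf650c33a71baa3e377c71292f4d9d2fbd23d225e1765bc08321382c66a131226288fecffbae1351e21755bbf831de048ece1da34be748e489585d56efa0c67f0d4be348dc89485d36ef4c296d56fe7cd52010901ff6ef09c7,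
  nat_lit 0x2393d771d006a0e097a12f2261d1c9a3940031b7f706ee02a00002eb0a5b4b5d1115819df1b8e4b1c98017dbf95a82b50f014c1b93f7e85b50ae3fc27f880165bf85a80b50b566376b836cf029fde3fc200aedfbb62e6cacd951b22eb0d9dc106d0a5914b096ae2213030be311c8a391802cb7ecb4fa0d9c05800007049f293f6e85950aa3fba7f780145bf45a78b4fb564602b836002c0012264002c0011241002c001034cc02c000f2c33077000e178402b800d1d2802b800c0c3002b800b113c02b800a25f002b80090c2802b8008175002b80071a2402b80061a2002b80050c2402b80041a1c02b8003112802b8002112402b8001188002b8000052f0deeaf66c5cd8f5b1fb617b7c00050fe51fc73bdc015a0d799a934c5b05b605aa003274655354a8bd4004edefc1aca06c96b92d525e31c263858014b7bd0c281a003322d4f2848000178d80b5efe8e111c240095bdc5a48b49ac9fd9eab64d94220d5,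
  nat_lit 0x94d6645c1a09b4a7194e8b8320e011813d0f7060101040a082ae0b81fc5a59665dc160d1402647438e824ca4986930f50a7a07abc647428e87071cf009a15359db20b63baa6c334c67035808c400125a69d0f0c2f585d309d66dd479b498c0283ff67ff80240cf376fa8b8a0a94122f148ffd9ffd008e0171023aeab83881a2001126401a7001025e0193000f34cc1ae000e2c32e12800d17841b4000c11301b4000b0c2c1b1000a1d401b380091a281b1800820181b380071d301b2800618841af00051d241af0004174c1b2000311381b2000217401b2000118801aa8000174aecc6808507a4be497b93138e571cb401b5c0086580d8a0e1cb1c000065d8894c0e2f90472a8e5600d2dff2d465a916586d06658d83828599fe63fce00c6dfead455a8fab45bb831fc63df06f9fe600616ff1b19b65b6cb2d92b5894ee59e8d33c60de,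
  nat_lit 0x65ce00003bdb8f971d8e381c73c42b93f8006800c37a66f4f69232e6c1eb74600000bc2005800c49f9cd5d69e6d254de49bd16b66c7e5657ba2f07a4ae894fee3d9c7ac42893f2005c00b4e4ead5ed500f568eb31d5ecb5e640002c0056726b8a57b0927ca0cfc1e77bf80000bad4592576cae594f8e3cdc79442593ec0050009ce4bbdfb07939f4a7a91d5a3aa5968cc7a004c0094e4a7144f6060f1002291f523fbe277c51418d252a4aa7482e9164a7c1e109e68b0caea95c529e5c7838ef884527cc008801083bdcfab9f1a7a31d4e3a8d965cc740040007ce47713f0775ed40000382000e001a91e523dbe237c49417d250a4a6747ae906f69c1db29d5c7638eb883d27bc006800c9c895a95a9b354583b31678000178e3a65960cc6a002c0054e427134f5e64f3c19483338b3a0ebc01e000077b719ee35a20d49eb001200227201df13bded507008600e83aae2e0000178709d0000b8b635fc41793d00018002ce3d712af5d1ebb3d7e8329680b09cc1d200140024e3c7128f5ce4ede9d8a959694e8d0bd9283a0b5c96bc0018000e71d9dec3bda7827444c7468e8f07380029c755a6cfbd1f7c5db505fe107420d8406dbe20e60003a1ce72058f0b0d361aa4ae495d65e10728000919e00568719c7d63ba52c4a5959dab3a6e0fc1c9278254036af3f727f02e0f04dc01800325c1d0301e472cc8b838068c4ae5997706c455,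
  nat_lit 0xfe9c005089efe9c00492f8fe9c0040614fe9c0038ba8fe9c0030d12ceac0028c42fe980020612fe980018d0efe980010894fe6c0008ba0fe6c00002979ab4d9a1b35cc9199240170030ccb56616cc4d9087f3507c5d7f00003bd89742a3d47b6c61e647005800ba5084442cdf3a9eaebf41ef47b2c616646005600b732bd982b211abd1fcbbf96830d991000f17589fc000e25e1960000d34cd867800c2c31ea8000b11324e6000a0c3220b000925f220880081a2a4e500071751ecc80061d3068280050c264e400041a1dea08003113a25c0002174225c000118833130000174b31966350034007332359718ebb1d7f42139ff740312da0f6,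
  nat_lit 0xc1280002e5c8cb954bb5b8da4f36bc6d7f339667300b0016b34259afc12707e005700c25c44b87170f2ea34a06a20d43da45ea52e0fb8304946928cdff9bff0ce99e64d217b1db99c402b1007788c0080cba4cd00078bc663fc007161806cc0068bc263fc00606180c94005861663fc00512f8596c0048d1463fc0040ba863f40038d1263e00030d1063e40028612087c0020d0e63ec001889463b80010ba063ac0008c4064040000ba599b333800460089997f32f1b4b369568ef5aed51a320107d665900002f1d21aa85150b2936173c2df45be4b7e004c0085997732c363b7f800000e099c1c0005fdf3b72ff0b38f79654802c6b665a007e01065114457ce199c1a0f91550003c99064d80038d336d42003477b7f50003074ac468002c14c,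
  nat_lit 0xc23c00005e16a52d4b07e20fa38c5cb41c0010003000f361a7dd611d8426e4f80001dec00280010000b416316462b0f9c1f60b5206590caf727a108000000126ae9e243c3a6ef4dd9378b885510ad90cb21a3a8c751f44dce21a37334b5483a236446b135d382a7069c11a3100a5014c03ec3e747e80fc31f4118ad682420e000e6c14fb6c238caa6ff7502fae417c995c9dd61841b171800017866c00001001610a021520249f9ed4f021f043cc5c98b8a10500013564f101e1f911062beedeeabd22a245526514209a754fce202c6e452bce5298072b921081bf7800e5723c5f15a79723ee470af63744038dc8d149628e8071b9181df82c700e3722c3603cb601c6e4505f847d8038dc8915e85d28071b910177335a00cd721c47b2e1201c2e430c185c2c0378067949311e1c9a392d726911e2524806724371008000178e523c4767264e4adc994476948e019403697096fe5880210200c99a3ae035ac5b52d38c271a5b259e453c762e0420349eef3224f6a168f9e5f3c24d02e1001ac031ca458400031668cb36f1e8e3d2d41ea147a4e6856cf3234e707fe002c002cebde695220b1ed99e802f8061948511de0fec31200005d6bf6000030c41595694cdb11b63cced99dc02e005ecd1166cecdbd936bf5e5f7251f4a3d7ffaffeb3ab799d4872c79667600b601760fdb974000065d,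
  nat_lit 0x300008184803000063438030000422500210002224002400000a5e4f6d43b40ea82b007600f19a7a51a8a5714aa007800fc22b9fb2e3cdb5f97552e91690801d003c00b0da33ddc3ca839107240e421e183c407a80fd5191e3242d2100390675f6a00003bdd173a2e53f466d0cdf75ad0814c22380090034b47afb494a79d73633579874a4e95147782a7053e294000cc2286d5b5ec5b1ab194c205842ad61407c80fc00c4226db56ccb65a951da0a9414e8a4e002f08900ac51d80a9014e0a4d002c2cd047e9d99a3fa7625f7b002ab49cf97a699a7b8fdb20440028c7406882582301c602a03a0026665003c1b6e36886cd001284445258a480022001843e406e0040293bb9000005d6c2360002ee3959540faffeb2b8c2573f166c88012001c00345220a45c23508848993c6078c66b50011001a0031688c6388b9ed4e210fbe675cb681e5ffb656d84a67e1cd8f00200030005c21d751c0000cbb18d568700090014003a6b39e2e3c5b2258c6618cdba8d086df5b000038240683196632a44a1e2b3c5935940060008000eb432fad42197fc80000e09486c51e8a3c000a00180054d899f7b848d9585ff5bfe30859e283c53358800480050008b42631845c76a60d4ba10a,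
  nat_lit 0x118022006411c5035d0166b06121424253e49cd708c3728b6355a5364f5b84979f2f256a30042006211b8d0663dcc7b5b93db19ad27b276dc1cbce9790b5140208a9f24f74d5d0bfa0f0026004d66c094af65156a28040845cd9880111975efd8010178cd9f800f1ded29e800e25ca01a000d1d288dd000c0533159000b0c2d074000a25f201880090c2973d00082019a5480071d3201780061a20ff900051d2601780041a1d01c80031139ef78002112601380011880dab8000174b19edb05acffb226db7cbba9768b4c4016801c08b26d5a1160060003477b0062003074a0062002c30c0062002844f0062002497cb97a002068a0060001c5d40060001868900600014688,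
  nat_lit 0x1d9e800b1d29cb0000a053063300091d4206280081a2a062800717503f000061d3098680051a2206000040c25f6080031a1cebd00021129f568001112317900001748001dcebc2e9403e6db1e7c3cf72390c85de19d6333475ae1b5c6b193661a498492d8921126a48f4922a67f3e066a1dab09a873e0699f57f3afe4f044e5a9cb7b22f8bc61277d5733f48d791adb6e99d6e598cc3c9302b00867f8cfd5124a245751ae93a14d4ace7e91f903f0906360c7c50b9d1d3d2a25b9c15382879d0f3dcdb5a01d85cee75424cb70846d08dba0f15141984b300742173a400703298495c812dc95b82236446d5077a89ecc2197fba0fb9d109264d96404c80689237876f0b4213021b2fe741d739e12311ae236283ad44d660ccbf5d06dce600160c99f824245499a933d9545aaa014401800319bab40270b75ce58485d05dce400120c94ecd4cba96899ed65ebeb758cf90906768b8cd6a7ed34d9d0aa65740424a3a07b9c708fde99b0f365b362fd44e0a2c145c88b1117b9c508f07b90f6cedb1db4cdfb9416e816e70c23aaeee43ce9dea040e80ae704238cf935cad9aec074cbaae6fc2362ab1cadb95f7310e632e6f4234723cd8b1b13222e444ae6e926c5de0bbe3a0a740573701f961f2e806e6d81ac0c44887dcda06cc015cb9dd2be0e18023006611c903650176b081218242d3e59cd939ba119,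
  nat_lit 0x1698003c90442180038b0cca1200345e18374003044c8576002c14c5418002844f857400247503f8a002068a2a5a001c80667a6001874c856e001468873be00103093d48000c5d383d2000844e88f8000444883c200005d2cd00472c8e64d1a7d900072e83e190a057a6334c5c1e084befb200001c110551b91009e01466fad029c31d741400e8018b2637d8e12ecac1518ce7d1cff7d8a0066e823a2b74585a40b47425ad0747fe0ff952c6aca0e671ccfb25e005800ddd0384b2ece00001ded98c3a28ba02006400a592d399a732c04d009dd581766e12b7674ecef4ed51d700260062e803a27662ecc82a33c255782c0000bc2fc51f8e3ebd002773f9d12b315663d5196846565cbc150948012b9fae88f0c6e18f74636206c3e65f378e8f1d61281e5e00409903aba003c9040e7000387041e900034b0c57320030972,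
  nat_lit 0x5d3700000a5e6fbd9a772ab61a6b2c8f5f1ed0e961d317dee012ee9b426fa30c0000cbb41630dedd340092fbd66a391f923f12e5a671e8c7d18509b00ce39f873fecaf8046009774cf0de50579c4601fe135a405484c022804aba64e9659a4e08ea19edf41be9426986dc0000e092e8f461ccdf972447d08facd437de20116e9861b9c36d099dd7200002f1ce1ea0a586dee97004600836568e7d1cf70192032aeb8c264eda28fed20e00800116e96ba546689822686537cb84c4509001226403ef00111758b4b801034cc121000f2c30b58800e1784b5a000d1d28b5a000c0c30b5a000b113ef13800a1d40b5980090c28b5980081750b5980071a24b5980061a20b5980050c24b5980041a1cb0a80031128b5300021740b5300011880b530000052f11e6b0f8f251e5ce879d147db400bae8cba3f74925a961305bb0004065d,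
  nat_lit 0x1d29800b113dd39800a1d41d2900090c283e000082019d2880071a241d2000618857cb00051d2482b0004174dd3b8003113b0ef80021741d3e800111200188000174b40f6c49d6831f123e49d413a8cfc3003000130020e9ee13a97584838907cd5d7e16017c0090011a0dda73f4e742727456cba805c00c20044008506d9c7202540499bd5315f1a300001759930d1846fcedf9687260a366bc0034007805f00b58d161380420003cd3300820038b0c5c1a00345e174ce003074a2232002c14c74cc002844f74c4002475051fc002068a73d8001c689328e0018688668e001474922e0001068774c0000c44a74c00008449c3820004448,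
  nat_lit 0x9000311280030002174000300011880000000600003a45e1e4e309c6b65759b7bfdeaf971b83ff57fec0010002c2837ef80000bc31329cf9800c0004ffd1ff941082b62096812c03fabf7b0a000017fe6ffc2792cd852b2a5659a61698aa61508be13f000128a800aa789357d0aa9b22364aa289451dd6d84f80002f03958ca2deeb607647f94ff15d6b00da6daa8b6bad409fc696516d75a43d19d0ca2daeb4043e103c2085d67006c0d901abbacc0469b7436ef7594093612ea2baeb20722a21d4475d63029c03c3f243abc75663f0c7dcd6b3b186e6bed00ce5d09eded600002f0919e0730021803c8074a47148c291b9d2d3a56f21ef6ac27801e0039d241d4781ec43e09cff732f4bd4467879a84ec03b806741d8197032ecaf8d9fb9ce59292d9200489901022004470414860040d332dc6003c77b473200385e166b4003444c74f0003030c,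
  nat_lit 0x10001f743313c106c20d67ee2fdc339ced2eb9cb9b161453dd4004465d19be00405d6c442003c5e32ed400389720fda003474a3ddc003014c3dd4002c30b3dda00287503b9c002468a3dda00208063dd6001c74c3dcc001862114be00147493dd600105d33dd2000c44e3dda00085d03db200046203dd4000014bce33b46f3933f5d7ebc830d062c4dd740c00300069ee98512763ebefac8fa7d4f749ee800180038005b9fd80250a1800b001a0029cfe949f2961a01f5b656feaa5126ae142002000345e10026003074a0026002c44f0026002897c0026002430abaf600208060024001c689002400186880024001430900240010687,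
  nat_lit 0x414002432e8468002248204680020699e018001e3bd8467001c4b90467001a3a50467001818601410016185846700144be04670012185046700102ea0467000e3448467000c3440467000a1848467000834384670006225028f00042e8042d0002224046700000a5e39b804d009c017002f005d009e01363a16eb411b8233429a0074016002e005b009a012e3a03aae11e4232828b8532012802c005a00ac00e001ba0931ab57f2963b2c790a59e9a80430090015802c0054006c00d50488d58bf913a63d207a660104023005400ac014801a0033411e355a74a00a401500280032006282346aa5fc458e0b1ca2c3852801480270030005b5085662d8153b893f41244248aaf78026002e0057507d661d8133b853f392432488fd52149bbca00005e17df07a2cf49c01c803c00940130024002a004f506dde48522020c029804e008c01280230028004b5064e97a2250a3a7e39dbbb016b2eea0b0022004c01100240042e84e146cd8c00005d6,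
  nat_lit 0x16013268581ecc64c00005d6bba6006015f02bc08bd67c7681be827d0800400096325854df68cf30a49145e28ae6b3fcc37206f340e682bba50a9089000224c83b6a00204bc1a54001e3bd9135001c4b90ede001a3a53eb400181863eb00016185beb000143a816ba00123453eb200102ea3eb0000e344855e000c310beac000a18494d900082e99c6d00062273ea600042e80aeb0002224631900002e96669ccdf76fc00202aa0550112aceeecef7cdcf9c1f51c2a20205d2080480093243aedf1668944e0456c437556ea9aedec110e481efe9ae6351c6a26ede42a0a58511a22365f1176ee14f2bfaba76edd02f2e756edc88441211bb863b7807900f40220045008900f601e63b710fc021c16e29ac539f41f6ba3ae6b4670dc09b8037a50a70043008505b4a6a94e6d07bae8ab9a519b37006dfd5d5,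
  nat_lit 0x731f0c12870d261b8d9a8e67dc545eb95ba2ba13d642e8e751d5e57336b76d72d1b1a3db7cb6f9b211241f66a4cd4ae84417a02f35ca9454172a02f305e800eeefa42c181c00008bc2001800008906d74dae507136b86d75cc5b98cc8db71a764751939f733ed6a2e59d8b3b36762e5e5caad15909ce1394a18d1256e723a847528ea16e723a2474605de0bc401c5df1000b0afde5e000032ed196a2f5ad7731cc839cd3f9a82ef85def0020f3bef2ec2bd3d36932d195a2f3ad7331c4838cd3d9a7eef7ddee85760c2e3ed3b487688ed263ed830b061e69c0034bbdb0ae5177d6b598da41b669ccd3b77b6ef6000d79d8eb7215bc0d181a8ed19da03b458fae0c1c1852c5c00c6ef5c2b52959ee602f405d2b92a8a32e4a05d20ba8018ddea8566f8b00001786ef4dde80012f39e0ac458b9ca8394870c0e1649657c56158a6cfb66ee6b6a0700d801b42490495005b779e157bf31b0facbbdd17cd187a5430f062100557798a65805d35dc034806b0920124c015dde52a68039006a091e12480155de41869cd1d29ba6b73bdc005dde3855a01b6c69816094e4012dde255f4d921b0c7c46e518012dde1040020c81080156008aef006a00b2c012dddf02ddcb90022bbbc0d980249a5105de0bae3dd3b287648eca63dd82eb05ddd5700460b7017327334e5344be867cedb9b8e5270a4ec2ab7ce00000bc20b10163002000420b6816c472f8e5b6e16dc15906be6f0aa001b013246dc18f003402641bd034c006404ce9f50fd800c0099533210f80170132c394025]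
theorem S1_c : blocks (facts 13 5 18 31 8191 262143 2147483647 15 32767 14 16383 A R 32) 32 JS1 17145 = true := by decide +kernel
theorem S1 : On (Step.{u} relsH LW par A) 17145 28377 :=
  steps_of_blocks hpar hR S1_c (by decide +kernel)
noncomputable def JS2 : List ℕ := [nat_lit 0xe3600106870e36000c44a0e3600084490e3600046200e36000014bc913922dcd5001a0028004c187830e5cdf45cab80071a859c00c801300239aff60fcef49deb3bd285850adcd6d0b36816d02b27acdbb9b79003400480082ef15dd228049a593d46dd8dbc001900220040186030a9b765a14b4217926ddc00c0010001e0c2c1852e6ba2cf45b838b071485940160010175801b800f34cc015800e1784026000d1d28016000c0530016000b0c2c016000a1d4001600091a280220008175001580071d300158006188402100050c2402100041a1c0218003112aefe8002174002100011882efd0000052f3b36d8db963b536a31cfbdd47d71c723ab994000977e6164cd4a00005e19a654672d3fec94b8df91cdcc90002bbef77e335466a4858e08a50e4a4cd0c19cc88001bbed77df353e6a690810b13ae375caf8100015df5bbed9a9b352c83f908adf3a161,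
  nat_lit 0xc20600287505d2a002430a5d2a00205d45d2a001c689014e001862126820014749003200105d34f06000c44a065600085d05d1400046205d14000014bce4b473ad805cbab9439295ce20034005c00b4194832885ae88b4fe9866ee70c019802d00579b6761ccf0e9e1eb3ade300000382002b0062e71e0cb45c99d243a4072b0e55485c90b6f17c2d583600000e08bc00b340026005200c4dc81b8e94052f72beb5a8ac1af0b4c19ba1466e38dc780300050009c191832d77e05a721680e3a00489900e3a00449040e3a0040d330e3a003cb0cc61000385e1068a003444c0e36003030c0e36002c44f0e36002897c0e36002430a0e3600205d40e36001c6890e3600186880e360014309,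
  nat_lit 0x97a34bfa97d5abab00d30325191bbe3780018402cc2e00d240090bac04380088e080ca80081a660c780078ef60d300070bc20d3c0068e95795c00602980d38005889e0d3800512f80d3800486140d380040ba80d380038d120d380030d100d3800286120d380020d0e0d3800188940d040010ba0005400088900d040000297a303463cbf7943d06e28601bab37580134022804406810b7e1a6000032e801300220cf802100430092e76725d5cb6b99f6c570d2c2dd7c7c0000bad3ff61a5b9d7008e010401fe6edd89b3c8a791cf22be3d0b6e8c3d1852fca50cc1b3a1766e98dd38048008000fe16c065e0040990372a003c7044f4200389725d14003444c3d16003014c5d2c002c44f,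
  nat_lit 0x4080957410e7f64334865b93f219643339fd7410f499c0697e14c7698cdad9b04b30ae5289bdd37be020217637bc01fc049ba0673f72192431dc9d90c72191cfdbd3c01f1d0941e18c293b7476d8ea11d4091e523c4fb63c130b000001785cfc3a03012001e800c0016a2b94b72e73ed0ca423857e17500f2005c00a6ab2b1af6436fcf9a9194d480050013d9f4c4ed69d81f984b292cdeb9bd900f401c803796b185d252541e4a1d86f5cdec007900e201c0015002778730b9e54b00002eb5ebf00019528acab9c20044009007400dc01b40138026007d4732bad5ebe85c8d3b80122410dac00111c121b70010178cf9f000f1dee1b7000e25ca070800d11321b5800c05321b7000b113e1b5800a25f0fc280091a28e90000817521b580071a261968006188429880050c261b300041a1e1b40003112a1b40002112726980011121cf88000174b37b50f4a1ef3cee79e4f3bd8cd9c1802c005a00c0e7c2171,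
  nat_lit 0x3d3c00385e35e08003477b6314003074a8f6a002c30c8f6c002830b8f6c00247508f6c002068a8f5a001c5d44e2800186890d4a00146218f6600103098f66000c44accbe00085d08f6400046208f5600005d2d16dab3b566b04f460200140019fb13f773ebf55347b085ed827230000080008fd81fb989d67ee4fdc20de7a90766000300027ebcfdc44ea89d3afce81934f669f2e5ba17a2eb02ebc00600003f5c7ee35f950316d30da8a6d6c2f3af5413e027e446288d1d11008cbcff0bc125b24c649896d6809ebcfd0bba2f82d8002040425e7d036c9f8809dbcf80130103013179ec0ab047c0252f3d010e7c5404c5e7916220638094bcf02318561012f79dc03b45ce0246f3b005452bc049de7500d41ad8096bce80328b9b012d79cc01f,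
  nat_lit 0xc0ae000077b96096fef57e6afb60fa8cbc019803201e003ced16605686093b7a771a8c6bb9d774232d006400c4eafdcb2c8090c0e9d100002f0d6286aa6c2091960030005e7576e5864027ee76cef4e843007e8a007c010a0f6c1e5195802f005a004400720f566e8fe4801125e301f0010178cfe6800f2c301b4800e25c8e2f000d1130fe8000c0c30fe6000b113cfe7800a25f002300091a28feb80082018fe680071a24fe400061a20fea80051d24fe580041a1cfea00031138fea80021124fe980011120fe48000174b24a42343f2e7e3dffe3ffda0d0c19918c001c00347f2217f00334c3dfa6bf4bdb99b5825e6be707ce4f315e63c2fd926a1191f953f1affe9ffdd06660c88c5800d001866d800c8017a61afd2dfa4edcadabd2f2df373e7079870bebff87ff34191831231400300058fe21fcc41bdaae617c066800449908f6a00405d65a2e003c704,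
  nat_lit 0x1b046b13c3bcca8876040298054469ebc290eb21d7be1d0c53574002432e869e00224bc216300202f1b130001e5861314001c2f0b572001a3a53572001818635720016227e22f00143a82d960012345110d00104032faa000e3a634d4000c3109b04000a3a4b56c0008343b096000622735580004224aa6b0002224356400000a5e9dcb6976d269333f8fc8257300eb6803f00808ce9534c3129df90e121c15dea8ce801f803e3ad994be1d3d6128622ffc8000178f0d88000bff04e7355f54ca8cd801e003b3ad372f32073f8ba4c56d170d8430f949c0000bc71d706138bfa2ed4d7d9af7979017ce011001c9d67ca4d0c3645700002f1a333007000dceb2e5288741582f5fad50a60acc15f22b430a00d8eb25cb7c812fe1a92edb40b68579fef4169f586132828000178401a0035465ea97d838b061a4e91b6e3764e71dbc19412183,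
  nat_lit 0xfdc00091a298600008175186000071a2586000061a2186000050c2586000041a1c01480031139859800217400090001112185a8000174b39c5d74983730736d7ee1b7f34fe7060b00740024004218e8f191e2c62b0c292f32d895b0f17bf182c01cc034431abc78007801000ce76572ac43d0ac77b096a9d3086863002680101c1304d000f178c030800e1ded1ab000d25c91ae000c1130964800b0530c50800a113d1aa800925f11aa80080c28cc2800720191a880061a211aa00050c24bd500041a1d1aa000311391aa800211251a98001112002b8000174b506dea1bd3d6d86dafd27c7f4b90a2e6b1d8300aa015a18bbe1e000065d,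
  nat_lit 0xce419c6d73c1e499a03c5078121d2ab9578a000f5e1f02b000017850e721d0001800357892f106006bc5978c915d22bd815610942068400003849a972a34e000602067ebcbc3000a2c438578b5c001021f8e5d256c001804b038a1ba800207b23fe66d128dc51b24c9c9996d7c871d0e48005000ee1b66d028da51ae4c949986d7a87190e40004000cbd02195000abcda2d73eb47d63255e1940008bcd94d687070e124d8e1930006bce114f229d5efeed88f0f0004bcdd14ea2950424085e1920002881d0ea92de000179c8012bce4015002b01020194032456a895a85290aedf0086440150029618ec2f985752c18e511ce675edcf7c884a190029002800575a4eb4aa175425e85dcb5296a290d4e74027e022801400130029ad235a4d0b9a12d42ea5a8c32191500000bc78cc80006453273809e813c010e00940080011d68bad1a85b5093a16f8cc618f616e00449903ff200405d65e2a003cd333fd6003877b6186003474a2c40003014c6184002c44fc3c20028750,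
  nat_lit 0x1dcb000d1d28ee3000c0c31dca800b113ddc8800a1d417f500091a2998480082019dc980071a25dc880061a21dc680051d258e180041a1dc9c00031139dc7800211271ce800111218848000174b578df08be17bc1b6a5d6543acc0020004800f15e4c42219e000e7596b29ed4ade0b7c2af83ddc6be07ab48862433aa1c543e179d1332266c4cd09ae13580034003800686724adc95783c0c7018dcdf1f000c0014eb0e663ccc2afc6ad500002f0bb876206c436f8e800400067586b27ed46de01770b56a43360008eacced3b61b61ba5fc291c525b0cd000119ea33edc6452b87dbc0001d4603f0eaed64bda85bbf6f816efdda84eff5df84188a82c7670eceab2265e22f8c5f28be365e2cbb59735018a0ece541ca558451fc43fbdc47a34546b0c6f18d9df1900010cce761abbd555a4aa44f089d397720ecb1b963657c62198d9135776aaac95389df13a32edc1d86370c6c6f8b914cd7ca834d270a74db87a3d7479cbe2d0cbb8b5017c02fe86d5245be2a4fcbf9e83b27490e975247be28b9c9ef10022004d7a3df132cb85713102be240d13b6876a32221341268384ef09e13e927d4a98c0042196,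
  nat_lit 0x2439487c00cc0526498c92801905ec33de5d0000405a406280c00006133960b2c0e00089235cdf39b000088defbedf810000081c01b00110016887510a434200bc0171d8cacf5b5c77965f31be5d77b6f956af986818948011197589480101c104e1800f178d894000e1ded895800d1d2939a000c0531895800b113d893800a25f189500090c298950008175111f80071d3189500061a2311600051d2589480041a1d894800311284e280021740583800118800090000174b5745ddabe377c7b78ced5eacce75e400d801c00442c1619f136200449906fec00405d67120003cd333ca200385e1,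
  nat_lit 0x6400792f0015c0071a6601680068e94007800606180078005889e007800512f800780048614014c0040ba800740038d1200740030c42013c002861201400020d0e014400188957d8c0010ba17d840008c40012000002979c6b39148467e8cf4c4bee89d913b627684f70006bebf0d30b88170f518aa2e41ce786cf100ed18045008d7d7a1a5008b7d7400209ec13b027644eb97db7a5efd124224348fdc946007b40f00003efae4112f616d676db05cfc0042fada87224e52eba5d69cf60046fad4346fb21f65c573001f7d654dc13ca011afac00177d62fab8014f0b916a22d645bc8a39146c4be12b02588ec8003c4d45169a2d545ba8a3514644bd12ae2584ec7803b007a9a85fc000002f1803900777d518f731f747268e01c6538c91ad97f02fdfc3446ca8d9280360948f989f2b006a18c296a52c400d0460,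
  nat_lit 0x689b00003bd9dd300ea00b40160010001e63c772aeed0bbf5730344d436000b0015800f001c63c2e464f119e215893681b60086bc007000d31df722e788491ad70b79fef555d9a5ceb0d73e16001c2f0be17001a3a514d400180a618a20016185be1500144be646f00123453e1400102ea3e14000e344be14000c3443e14000a184be140008343be14000622518af000422498e00002224000b00002e96955b14b7fa46da905371e68ea51de3220642e0090005435b84700000ef78200000611b1dea5584ab2d75e8f011dcb21d6428008400398a9317581fe1acd4d5a9b211c321a6426008000318a831734a4294743560015f02323164653cd2a40547ea8f551eea3ac3540011f0197f50ef81df53ac505a87f30fe9ed8c352000df013288651408f81208fa71f542bc00027c075f124bb1dae13010d400017c00c8b591709d21398a6f00007bfe5fc4bfa146d28e041198a131654908c5d18b731754908c5918b131a971c277acef4d96f24cc6830d0553d8a7aaa31455c8acf15a226ca2a845528be5178a2ef7892f14cedb00580020003e1a70050004065d,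
  nat_lit 0x31bc000c5d3319e000844e000263cc0009fd863d40000297aa6354fced76498c918029802d005663b293e18f431e30dac4398880f06b212ec95a95e021403a007100a400b21b48432f205e459dee01200120023802b005106760ccc3677fd80000e0982280005ff53b719253241009c00a00139909b94b3caa785cf07da3982255c0009a009c01298e6a4ec63b8c7598eed84349ae1bdc32b30f9e09e41fd91f52a403f806e00d8012c013002486c8def80122640dd980111758def001025e0dd8000f178c70a000e1decdf2000d1d28def800c0c301cd800b0c2cdef800a25f05ea00090c28df000081750cd100071d301308006188406a00051d24dee80041a1cdee80031128ddd80021124ddc800118830638000174b5b46dbaad86775403b802f005c004800818cf83006ede1b1,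
  nat_lit 0x17e260c6fe7027fb5269d95fcd118e94ad322bf98012d777d8ef7f2c08da73f4e6afe5007428169505fc901745a1d3aebf9000f8070011e0248051d4cdd967910de1c445e88af114e1bd00dec98993452dc8ad51582ae9ee6564e8c9ca7714379ab32b004a0393ff0a21934326100dc01b452a8a4186eea61c235793af29cf0500ac00c8018c023804483730dd240464d0c97c0360046008a649ee61cf489e533c95740c008000065d64ba01a8022004232074a4c00a8014002bb0fa944600386e45f554c5a97f08c5e4cbca33c0c02a0030005f00870dc0402082a9001932325b00d001080209923b97f3d121b79dd6c98192d0067008200fcc80529000240044009166c292c0328040007c63fe96b52d4a5ac63fc01f00406e1b1b400001c1257a83fe08228ff1930325700c800f801e991fb9778d9e1b6d024003c65d13fe0038704141c00345e131c8003044c31c2002c14c3198002830b2f5c002497c3192002030a31c0001c80631ba001874c31b2001462131b20010749,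
  nat_lit 0x1562eaf155e900260054009d6e774e2e9ca3c0e748ce8b0e43af5d95b1e0a3c0ba7174e15b98009001400222d921c7002200405178a2da1374282a0d541dddbd309e60f438d7ffc0000bc7309776e541ba831427a84c8a2b145a0038007d6e3bffd0e2eca98efd1df5d36ba6cadc40038008000d16c157761c4d08400005e1001800380058b5fab0b61cb22ebc437880f0f6efb6841870c008000e178400a000d1d2800a000c0c3000a000b113c007000a25f000980090c2aff00008201800900071a2400900061a2000900050c2400900041a1c009000311280038002112400200011880000000600003a45ff8b02c5698ad1e4d0bb4d9a117512eabaae40008002c384285c50c800d000355c6ab5d385156c2adc56b8b1987040005570aad6826504dcfd99ca35be904a061f0c2b0e054a39cb93976e92dd7bbed14ee2fea437e02e69b7d2d6a59950d29935329bfa70df56cea85d50ce992d328bfa419680001d72a9ed53f5fd10ec875b514abfa006f6c53a5957f3c0ae,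
  nat_lit 0x1669b35c34f8de648e631caaa12d3a8bdc74efd2ed0000cca159d2b3f2898513a25b444345a10eab3433004600d4b0a9635611802e1d49e213c5decf3da2680b80283a902052129ecebda1680980261d37704ee0eee6340cc0110e93f506805801c0d420de41c3003012b4601a00e00508710d03401c00812180ea6803800c0310f38d007001009b212da00e00100e04f63401c00002332f665eabb2d76a559b004c009c013559b5da8bb2e1d1004b5682aced88ac8eaf16de2c2ee85dd44d609ad43a00094012559fab39622723a3c5a78aebb9d7749357873d768d59800460090011d5985da2bb2197932f393ea821d5970044008c010d6f5a8f54d0299dcf18953b2a4e1ce00440082b7a3a7e74ff1e3e3c86cbb7606d66dac6c39b84880000cbb3c5699c533da8ef5bc800f0020003f5652ac7d58bc2430e662850000382209eab135636ac9001d003c0072b785475a6774cdb1424396007000e801baddf51d299d53359e252a5e546ec62351400d56ee74f0e9e63c4c78ad96aebf5acab58790d64b5e00900002f0d06993d700c6019aebe5d8f563800c801a00315bb30044395a8640000ef790540006a181de904aa097b5015616ac58016002e0056b74ba7374e990521c9ce8c00005e1,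
  nat_lit 0x1876000c34490e8000a310ab7e0008343b3460006225001d00042e8335d0002224336700002e967e5cfd7243a0cb418ea3f2050409fb0630252007000d43b89e7000893200ed00080bacff240079a66dc100070bc280fc0068899247800606184768005861719180050ea19fc00048d14794c004100c2bd80038e984d280030d11246c00286130d0c0020ba72468001889504640010ba0a314000889114b00000ba5a9a35363353000e002408ab01a6032c149402a8278a570ed8008000cccb878d8f051e002d285a5b65e6cc036021da602ec0600898007000acd475355e10bc253f4e427c3b2c13408980060008cd43534de0fdbe13f72427483c87600028003669fa9a2f075e0db96cb40d680c5158a750eb962d13f20034001334e9ca5247f3f1de50cfc4fb2a1d6,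
  nat_lit 0x46c4000844946c0000444846b200005d2c5c5b2fa96fcdff709ccdd99be803f0080052d190a358879b12f80001c119bd803d008e28ccb33d67add196dbf218a2a7454d897a1e5029200f401e337a616c5044a1017e680f887850f143c800ed9bcb372709537ee96decba9970825904ba9ae878f1e88000178401c803a028a8c714852908875d0eb53dca7b7c7a78f42175cd7000005e1c54e000335b8d7e7bd40e3817002dec1f80a20037006d3689c42b889c54d0f1086510cf533d822b047028400d801ab37366d8e1121e146a88d351a40142006a00d19b9336b708737d5efdb25acdc401980340280c115822307d60cef064014802787820d2d21002b0055983d01400066004c00acda09b430efb07b6084c10c09f00320024005354ade3bbc7b3ff9f7d924706ae0d1d20e02ac055183c013e00620044009c3bd96080000baca135415b078607ec10009d802f001e00475495e38cb02d6f800e001a3d047958f2616e02dc5b4236861b4c36a21dd141400409903976003c5d666d60038978c88a003477b66d6003074a66d8002c30c66d0002844f66d6002497c66d0002030a66d4001c5d4,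
  nat_lit 0x1c30065f036006e65200cbe06b035d1c20197c0d4048806002dac29c0cc019903de074c0e946d88c368ae21f114a401a002f816c614c065c0cc01ee03a4074636bc3e0e2b0528806700bc05ad8528196032e07b40e881d087bc02e8169ac3ea4b5495c3d187a09f713edc9e179550f7346aca922e7c5cf0f541eb23dbc528006500b805a61ed00b6059d836306b6148c242726eb63bef74e4b679bf1f89f80000bac01600310a4e2d055a57753db8ac8988b09160eed9c4fb0f6306902c8016002bb39561a250b0a1d9801812e87f21eb00ae01599ca338d70cb385a97b6cd599a682c505943d4b0bd61c306702c4015802ab393619e50a8a1c97ff87a519b016000aa01519c9338b70c7385297a6cd399a30f40885585ab0d9832816000a8014d9c8b0cd285050de1e7469e0048990461a0044904c42000405e34692003c77b461600389722986003444c46a6003030c46a6002c30b46a600287502974002430a46c6002080646a2001c74c4000001862146c2001474946c200105d346c2000c44e,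
  nat_lit 0xd1a400005e3945b28b98838402000c004c00903e2a73546269dce8d12f567c4310508020014009001107c3461768d53b8aab30fa84000008004400803e0a2bc889510f221c8e9745021f4c16a000077bd7a4000305a0ef4909441583ec0002003800083fd62033e127c55f3fd7a30f98000001a002cf8e03cd079706f2b175935b29ed3d8f330000016002d0a6f07ce22d000f00183a5000f0016186000f0014227800f00124be000f0010185000f000e2ea607d000c3a6000e000a344000e0008184800e0006343800e000422500030002310000000020000748d0b7a1762276de298c931e9108a212a2960f34000800087c8000912c84c408180d2e0750aa41dfc36c6482068f03a058a44bc0cbe0730090a458197c0e40569a41032f81c4062a302065f03805d31ef40cbe06f09087ba0197c0dc017432e032f81b4140,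
  nat_lit 0x19840107e80fca0f1d655b2b953d4f4b1e7d3cff0fe0033006410001f983f183c55952cadd4f43d2a79f12fba2fe10040188032006210068bfa246449ed6263b643f709d41e4837c06f74f628d20400006000bd22cb16e87e90b4d0899e27ae127d33123002a0050018002e1098dd40bec949329298918014002600bc01703fea76d4695fa107920f090b3d0879e23ae0a7d231210026004801743f26c285d90bea948f29218908012002200b401603fc2f441ec801226401ec801125e30be0010178c1fd800f2c3000d000e1784201800d1d281ff000c0c301fd000b113c1ff000a25f01fd00090c281e5800820181fe00071a241fb00061a201fc00050c241fd80041a1c1fd800311281f500021740007000118802048000174b186aa4a1e043c0f46e53bfa31f47958ab2441002e00321f806c60ecc1d62151a0e33bef5b64f8e6216101c0059a8e297cd7a0b9c17a928c6519310b080c002800b801687dc2028009002890f98a9d1e2a3194ef346c8f001dfe9efd06e9df1ada67c5b1080808002000a8013106220ca1f6,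
  nat_lit 0x248748f1899e0048009ed8fb9cc6e50dc91d934b8185ce20cc3f400005e137626dbcdb654ee00220042266c8ef92193f627ee61f9882f6fac4ec45c88b8f6aa54ed0020003a7066cffa39510549a49347738b6c5800f001b382e8e44e0b9c24de96209a5374a8b6f9c4ea45c48b876a954eb001c003270544115a22a5049a2934373836c4800d001738268e34e09881c0054e0f9f77472b5bb4ecdaac1427284c4ad3959c72801e0a5314a7f6f844e745be8b7b6a7d4e80016002620690cd5a16a4ec99f933d73776c3000a0011381a8e1c40a0024003ce0c9f71471f5b9cecaaabb426684acad088131c78000178e271a2db45b5b52ea720007000b380f67b51c1a4458e3a203933573676c100060009380a8dfce029c12de71bd0ba846298c52ed49a9c40014001ce01a37db3d29101092875c00200029c0146f670044b989812389b26364f42f710148c16f3c0034000cdffa37937fc0008003a9c1b51d268000137fb678d1bca43a423c8484e4e9c9239ac736440337fa72e92302454405c80c0f6a16922d2b05cc40112dea266d6f6256321305c43ff536aa33ed6e6254320f05bc3fc67dc64360b614b922e8c83c16a1e1a110190b82d031852c431ff05984c48d7064260b211802b8856ec1620262c0f190982c02bb7a24320b05784a26cf063de0ae08340a5814dc15a006b58c44a489268c10404006800d401a0404a30489261fd,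
  nat_lit 0x786000d1132275000c05303a1000b0c2e274800a1d4227300091a298750008201a27180071a2607f8006188627280051d262728004174cb4d8003112a26e80021124013000111222710000052f63851329ebd7c4eef8db57de33ae62471b7c0005e0092219c66a00005d688b9117cdd29ba3937152c226f80220047b67ee7b63348860011002189bd240248ed127b94753daa3c098a131710b9d91adc173d36ce802100411376a5749b637426e8e216c1ec00005d636f86e2c00f801e89b723f648d5124b94153cea3ae0f58854ecf1d8eadbb73c76cd001e003b136aa55c9b3373d10a1b7b36f46e2400e801c89b323ee48c5122b93d53c62139eab7c2aef45b4ede21ae3e46d37b7004c006e26c44258c680000e094d6e229c45637386e6a4d7d4a789ac006400d6d96c633108801889ab23de48a511eb93553b6a3789811304260e210162c2c54a38514e743ae87b79f1b863708006000bc41e6348c6b98b8316fb56ea7a0017002c5a24b459c4b883b10800001dee2688014002bb646e7449a99355528ab47c87190e1883e20dc2e8000077b,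
  nat_lit 0x561403d407640ec000a0010b1c71a2dc6cdebd6d03101444807600eb8009000eb1c163cc5318a61581aaffc6f9888f09d80001dec003800558dcb1de297a6d44dad6a66d636f4db23f84e8a3fcba6000077bc3b000032e90ef5974d7db800d0004b1af19fd9be9d0139e354acdc5c3af111000158d4346868e2ca359434942927cf3e9e831fde22100002450489cda9af4716ba29e23c956bb742d8ba70a0e148a6914dac20226612550ce019be0c0e10007c82de85c50cdd060307fc440f2920c060fe01bc27784f0c1fa04a8b38362f83f02e82496493b07d845c28a4517e0fa00e4260c17ac1f20158cac63db83e012003c305ef07b80c8be960bde0f6014001f551bdb046378c6fc90392094bd6482490a934310f96a3008e00f6a8d6d8131ba637a4814903a5e9240e21e2d605a88023003caa33b600c6e18dd9203240a979c43a00ef6dbdccddec2e905d2051712926524a8d2ed09887363e5c55ab1d3bef5d251f89fd2df40022003aaa2f10d8039db6b74324e6c9ce922d24d28004bc3977b1ade21ace1e004865d26e2004470489cc00405e31202003cb0c00360038972,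
  nat_lit 0xcac002c44f48b800287501be2002468a7b4000205d43708001c74c783000186884ac60014749769e00105d3784a000c44a7b2a00084497b2a0004448cb3e00005d2cd3b66961351277003a00780f601ed03fd58a3707659e88c6a4182fc05f2a9fccd0199f17622ebc00e801c24f111861c000003bdace39fdc49d800d001b175a2ebc5cd8b9926364c670dfc45ecf059dd01e603d0006800c92759fdab389670ace288bb150000019762d9bd8dcb3007e40f381e60030005963f8d2f1a618a7e22d333466645d58ba9002e005563f2c878a7eae515cac4591ef22db45b17b1796580fb81e503c8005800a2c7d88ac179d0ce3330665c5d48ba7002a004d63e2c858a7b1150012124c2471c7aab2fc657592aac4efa05beab7de22963f31ee62d9c5ae7b11964c0fa01e203c2004c008c4500bc417850cb332a66505d30ba40024004163cac8267e0008800f12462465c792b2cc651591eac36f9d5be5113e1190000382629200018460edc7b0796380f781dd03b800380062c751a4a349b7b16291889b0e90000178ccc70ba0173c00300052c7358f914d15c4ab8aac058746225c406000077b,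
  nat_lit 0x1b6a36cb85243be253a4a730a4047c29f053ee147006de8441c8c28c015323f647785140936a8d07270a200bb3b060e4e14301457f8004c008608441090223ac9a088c10902110086ba8618300002f1820f04200886b2582210420083c020804a5fdd0a370c1447c01005e901ec038e0714d43545da8b75174d4301c53906a005676aceb8d595ad3920128e2518024003f041b11e803e17a02f48ce019c17e2b04aa6da42b185534c50e2e58575f8f84970e3d5eb2eaef7b660c5fe0011801e44782f405e7003c00764a5e133bebb1ed03da7794ba8988ec01d803a252d4039681ad025a07403894b1294128311d61c300002eb0c1c18362f345e5803900704a521323eb81eca3d9b0e1447207680ec8038006e4a4e805ad0059feb402805929388e099b8c1a18322f2c5e48037006c4a4a1313eb61ec711bb3d603b0075c01b00352523402567f2cfd59fd4026236afb7c22b86deaed97477bbb3022fe8007c00d0948446a2f1801a0033251f097df598f601ec3bc85d40860088d0019128ea00cb3ed67d2cfba00c4a3894609391277119818aa80f5136a279a78036e06e40ea81d3006400c6232335c004899015e200445d6768000409787b40003c5e338680038972498a003444c0882003014c,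
  nat_lit 0x49f2004865d1f8600445d6d76e004070451d6003cd33409c00385e13ade003444c51ea003014c51e4002c30b51e8002875051e2002468a51e8002080651e4001c74c18dc001868834b4001430951e400105d351e0000c44e51d000085d051c0000462051e0000014bda4f850abe257c8b1151ee00030008337666e947928ef8914cdc99ba000e00163dba0284034c24499893273cbd122617200003bd800500071ed501320186137b7329f9dcceb9cbbbcb0b8c48787a80000ef7a8129fdd3fca8016e0ac42c7b3000200375f26f49c3d312100008f655ef474d0e381c6d27fa9aadce2ddde42162414a349475825304b25884b30a94e14f8902a86556caad22a1c542614e88fe7ebd5f1be1907530a68e20012b0a6e14c009a7afc1cec29605705400a7d85280dd,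
  nat_lit 0xf345522a59d4b3f0c402627eae967618702a46620cc0c30c2b8436e49a69356476be167c1e62c4c610042007067ae2533d43aadf88deac09b7964e6d87ef7dd830010401b244600d801aee2caa083b90771b0b8abd7bf46e63d8e1894b17600001759be9d014006800cf71555021dc43b8585b55e9df9f8bae251c5d800007046fa4df4680900320063b8a2a800ee01dbec2d2af3e2eb8943558f115d57536dac99db09deefb04801d8030dc4e99b802fdc4d53f876f0edd616557977e5dcc1b1b7bb1a24fc36e00005e1005a00ba8076663197232dc6510ca07902f212a5d61b6893b0fb80001784da237cc33d0677c016002bdc4553e876d0ed8b57b87da24d00566778ceea915004200800b40167545f798eaccc499895c0000cbb93bc0006256197268d80320050676cced2912003c00740b28164545993ba24b2df53468018802733b46765488801d003805900b1923ba6740000ef6a62400c801b521e675ccec00250049b870b7c16f6d33912564c500002eb6eb6afbd1f4c010802333ac67554874c91a6df52fb2624492e9a381654bda6dd324148699d433aa008801047d2504800f98aa3134f7e1effc8d6497c92f62b156948ac512423d174cdc0aaa5dd36c991ca42cce919d30040007a247003e0074c5418987becf7f646a24bc49771582b4933f1866c0000e09b540000619a3b729b44c8a520e6738ce7801c00351f32bebeeafafb1b53e246,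
  nat_lit 0x205c0070bc2049c0068898498400606184984005889e498400512f84984004861447a4004100c49840038d1205e00030c424984002861217e40020ba6498000188944980001089249800008c404980000029799eb3408012c3334cb255769bdbfc520d82d505a924bed94c73824b649782d405a9906b7f874de4aada657866225ac6da9ead3d53aa1754aa095413371895594cab0cbc4b35e1297e529ba5f95e12bc2bbb17750ee9ea66619689602d285a690657f7b4dccaaaa6518654007667d6b3ca3ce467a5f54a6697d5782af06eebddd33b9aa5b786522576307c3ab0866c61918b1cda39ed4afad9553270c9b37d8a4c0000bc34c930c8800a6fc4df90dae62a6b66988d49dcc23cc52512b1a4cdf396dd4246848e011e025de4152d7c32112a9c1a3a3f6256c69d337a66b35e06640cc9c31eac52c10dc289144046809579014b570c72bc2915c046009478ff4b530c694c2058126881da03cdb8470c60ed453b0ddb9bb94d769aff0c58ce8196032cc32a198433130c5141c3ce879d80fa01e58626254,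
  nat_lit 0x1ec00ce1c8a9fd5bfea7247728ed15f8b784ab7d8981214a42b7502ea0aa8ad3c699d0a59400a802fc38ed8c07ac0f5a1f212b54ce752c8005001761c6a6b32b6e25fcf3a00005e14b0ce1916d62961002400b30e2535795b3a7a3006e79c897b45c00001785ae4b5cba0aa004f0e1535595afa79b005c861d177a2de25d343c00405d6343c003c7043444003877b007000349723448003074a3448002c30c3448002844f343c00247503446002030a1bc2001c80634460018689c5740014621344400103093444000c6873444000844a34300004620342c000014b003186c2a7356e7a9991d6a3a857c3e0aad191a31d4faac6962bebd357516114c2060fb41f76960d2e2d58e5545ebebd81b4a195432a708e14da29c700ae01654a69a1589732410001178400c80001120030005e9021638adefd45da8b32bf20afc16562b2c55f38dc2bc8572a98d5325e96da6545b9519e3a1af710f46a46497e92feeac5d5deca6d9514382b7254e3c35a006225b24c60048904ccaa004470424c40040d3324c4003cb0c,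
  nat_lit 0x3f3d0509a12a61801b0050c3d1547ab8fd5048f2513386860d0a00d4027e1e7a6f52bf1bb4287650eaebd626627724ee18968017002b212404b8099006f879aa8e1c3e1f303f2504d9a0ca60c019804dc3cb546eb8e55018995c4206830d0400c802661e4a6ef2be5bb2a87350e51324a1a9890502b143db86c5f06eb9c1b002f0097878e263c47200007041b22e88299461e100640250049ee8add0b55a2976e2388988f840012264328a8011175904d801025e104f800f2c309b4000e25c9055000d1131053800c0531054800b0c2d051000a1d4105400091a281c18008201905400071d310530006188504f00051d2504f0004174c77080031129052000217410540001188104a0000174b44b449668ecd1d6b825503c39a0078040007e906082849fbd31000005e352d20064019e1cbaa035c0aa73c775005a00bb78669878984795d54bdce601f003e801bc3954d75d090d7a1b0af4d6e7200f601f000d61c9a9ff5c0287e4490892530256ef,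
  nat_lit 0x2c80811a8c35106978d2d7a1cf3fdc453882df0a997416982c353177445313ab1dbaaf758001000240162270011a004865d012c00445d6010c00405e30074003c77b016400385e1016a003474a016a003030c016a002c44f016a002897c016a002430ac3fa00208060168001c6890168001868801680014309016800106870168000c44a01500008449014c0004620014e000014bc5bce1b5c3abcea79f2346068d0d2f1a6201b002200a689bf399000017846968d2f00d4016401fa98e0134026150429e053c39cc626e00b000f834706907d4142d685a504b7d84fb064fa44da015c01db84237758c12dc96293282d31525130a3b89b3737d2faaaebba4b74b80a0014200ff0f75335745b135801e0039214004f00a0007d87b6a91d724692ad25a26a9a1aa62801d0054c3d9548ab91d5088f2c0138027c4d200e4029e1eba6fd2c01bb6287a50f2ebe5d7aa7fe89a20a254a8dcd74bdaab8ee8edd26027004e803bc3d4a6613bb6260006800c484c0134027001d61e9aa3f5c80e20,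
  nat_lit 0x10f2c004100d29700038d12df140030d10f5fc002861329680020d0ec7f00018895294c0010893294c0008891298c0000ba5b38f67346ad8d5630a06190004c43d9daf01051e694c513d634000003bde22d00018cfc77ab2ac81a10330002c4379da300ed1e394bf2936a89e22c89e4000e21a80e501cf746d2109d6f3aef0bc71c1d79913c0c2d18471e252ac25594b5296852cf571f414a8299715b5fa6c099ca2a8631c6638bc3e6091c15fbe1576dae2cc2c5858931fe5288a6614cb1d663afef1f855d8866277d2cba5912b4a56788048811102f091db2d476e7dbc83adc43b888e289c5038a24fa89f62d7d3cb479622facb598282fc4df8ac5968b2ba602fc55765de3d0ab710c44eccf819e855e39495296e8efe019cec9885c007030689d41a533e867becf3eaf14a4994b5477b00c6763c42d13a1cad7b2d80df0b9ceb69d65482f744549385558855697679b5782523ca58a3b9805b3b0e21400160c0d030c4e6941662ccc666726ce56a2f47538eb3bc66154621321d4daddc5cbc407524ea525e41bd4378e035621289c95017041de995c1015282a325060acc15a621189c5bf86e754bc097886f40de180d18840c854ba697846f38de080cf883c116964ccb0d94215de2bc188391e218ae3130e1506040c118834594c41a020e73382ad055f88303757770ef06640c29fc4164c08bfb3068ef2a031620a04c585fc061c41205482af05578820570,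
  nat_lit 0x11e1e3c6ef4d85b9891c0168c5b18b9211641fd77dc62aae16b5500002eb2e7018c43164015e245cf25811f8b1717da27144e75aa450b8dac0000bc70b63121802ad321a63d2ca25938c71bceebb5d788c6d514252ecaef120ea4200c5718ac00a312142d7de911e222838da0b9b062f0c55004f89073c76043e2bdc5e689a45058c8c0000e09a17000063223b73191996b7d92fb434c4e98b004b88fa04b6710bff5a16e281c62000005e34b1896374c46989004788f2168ef42de835e12e1ce30f8a006280c4f004388ee1686f418f031dee926b8097022e8c0020c4759e1f01e7157e2e544b68977108be826e9627f89b0fb0df65e984d30c008311ce786bff37fd665544fcfb2b4c1e985003f88e2166ef3eaf0b8032e1a8798431b4c000001785bf8b80c15002a0a3bb477cde790b2f11b001dd307a5fe27dc5d2000077bc46800686240c499065209eb96ca7f5006a01ade4e2e889f33e58000178696ed2dcb853209a4180c47188c0063119677fc0699f2a27bd6c0004865d1c280044904044600409784f50003c5e3636800385e1490c003444c8db6003014c2ce4002c44f94ba002875094ba002468a,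
  nat_lit 0xc7e00124be0c7e00101850c7e000e2ea0c7e000c3448c7e000a3440c7e00081848c7e00062250c6a00042e80c7400023100c7200000a5e613bec9c4ae8a8d150e32bc5eb02f800f0022010c638c51072b00088bac0d940081a66009000796190bac0070bc28bc80068e9421600060298cd300058616589c00512f8460c0048d150b9c0040ba801f40038e990b900030c42192c0028e920bc80020ba70298001889d9e680010ba10b840008c41892c0000297a85f50e97ce2fa38cbccbbbed57db9a6574cb8031c495143d771de8318f92cca59ad32ba658018624985bdbd3e286c62c000065d,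
  nat_lit 0x4d3f92a125474d369a75088a11c54d8a91c50d1486cacd95c5e04bc1b114c50b147cff096585e00bc13113c50914739e0626d8a0c52e0f74c4df14107861685887628104f1563b10fc5001313ecd626789fc46031aa634f13f009836e06db627d0aec85c310ac4f817b006d00e589ec20d030a061f13d001b32fe42dc854d28f1511a92351d063e0c8403880618a374e00000178e42cc852d28b1509a91351b063a0c7c037805fd38ba6fe28c00bda7134e13f097e0466931ae17fe2ff7a928bf3c5160c6c18e806d00b8005c00ac7e64b6a96d99a8b3448a2802d80160026ba7a754cbd697ae115822bd5de08ae680e742000032e97fac6b06681f7f3f05d37da70002d002700499d173a09a999d980000cbb19992e0a5c2d37ba6f802c00250049bddf7bb57b9cecb144c86e0020004402b00240047bdda3db47b0a504e0f9d1918d000445d618fa004070418d4003cd3318fe003877b18cc00345e11900003074a05f8002c30cc55c002830b,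
  nat_lit 0xc56400208060872001c6890872001868808720014309087200106870872000c44a085a00084490856000462007a800005d2ccf727064e460fb0020004800b485149e4102820684298a4f45b0000178481b9039083e1087765484e909e0050008000ec1f3a2d625d04c600409047566003c5e322d600385e16d6e003444c59b0003014c0758002c30ba0000028750a000002468a3d2400208069ffe001c74c7684001862179c4001430975ae00105d39ff8000c44ad8f000085d09fec0004448000a00005d2da095844cb8997b454dbfd29dc6eb8907920f400100048a49d650e3a001a000641e24dd49e1056a0b2deea20e71488000907720fe47df005a888eaadd5ad1c0a47c8b31199,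
  nat_lit 0x18eac0000bc38cf800063aa1afcc26184bace7c10684e803e007200df126e0cae1578cf629dd8ae000077bd4b4000362b0ef5b15e7dbd0a1007600d801a611f93d92796b705663d4b314e6d1a000032ed3ae9c4968e38d5566ee079426001c80340063b48368cc537a0380000bc7388ad1b71a8acd9c0ea84b0037006400bf68f60c3d01b14d001d07e2cc001e302b905320a6e883802e006200d8f23384fc62f097e0e9c23200b8018003490df21cc215453281ed7002e15005c00bc019c86e90dbbba69f6cc858a619b49c23384bc627096e0e7c22e00b0017003290daf16219f410281e56ff2e13005800b4018c86c90d7bb9d340006135ca6dc0e751cd2ebe5e65e6f6cdeef38211735ce328d9b31c203845c61b09560e4c22800a4015802f8a5f2ba8000178e433c868005a00a40142e0f5bf481d503ea19baed195d2296005000b26b74db41ce23995d7abcc7cde59bcde6e35cd99ac0000e081084210486990ca00a80130024c21f837f092f181ccd514aadf65c160090012802990c9218f76fd3e398f6413a2940776004465d084000405d600a4003c704080400385e30874003474a0874003030c0874002c44f0874002897c0874002430a,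
  nat_lit 0x2908001e3bd91de001c4b904a3001a22643040018186059b0016185c2ff00143a816fc0012185180b00102ea42fd000e3a601fd000c310a6c5000a3a4ac480008343b146000622742fc00042e82e06000222442fe00002e96a25532ea6558f431f2a15e0140025804a5c62b845702454f99600000cbab8bc0240049009d42b58f831e65326a6570d05fc2ccaf153582abf83867d4ca299263cac7be856004d0090011e2a5008e011a81e02b1055e0b3c1ee331607e40fd2a564548a6418f1b1eda154012c02300455c58b8316ffc2f88a8f39180001786548c2f66276c4dd715004300880126854704cacfd9c8a2a2cdc2000077ba14c011c02100415c50b84d047208caf0b5e06fa0e6e08a8402080405c4eb849046a08c40da81aed8c98a331431500040007d84a64fb49efb9db73bea44baef75f0828dac91d0e013c01f803dc25127d64f75cecb9dd5221d772f1b3efc743004e007c00f3093c9f493db73aee76d4878a7f65900001deec5c3ce479b6ec2473c8e859b903a14026003c0075b2c629e,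
  nat_lit 0x333df67bf8103c122daa584cb05fbffe37e26578adacc5d95eb2cb660ee363a9fcd577021b07801500169f647ef6180c2d73555c076c1c00500054079b6ff8ff4d39c75400005e17a84f4f6fffdc066c1800480044077b6fb2dde5b763a98ad60274050a4a38c00003c076b6f92dda5b6db3d397d15a62ff000cfb4df6ac7d98fc31b6a366d8bcb7c6e96e2b3000b01bd009a014a4e77abb8b3deabbb52f3e22b2000901ba16d5278dc6b772393f6228c196dc262b1000701b616d25eb4bd94e4d080a1044a74001192632546945c48b89414ec000c06b401e804279c4f355378000406a85ad3aaca01940707ba0375b7496dd2d94a7d94fd39e95ac32cab1ccd35d83433fd41dab7cd73271675648a2d11cacb0916142c8e58e8aed8e441c0437886f0d6b0cb2ac7321a0c342c5f1158653800002eb62f6000ca63e976dd11e5a9b9627e0b0df61b0c53f29bc55e58013ad90de21c34d97781d35ec19b0cf619fe2f58aba19f62f40008a636975dd0fe5a5b95a7dfb0dd61ac872d69a499c933d330a657c5e7156cc69b181c091476a8e6c5e504400f901e730f6621ef71c5e315602ef05ee338682be2f08aad4ca5240c5de0bcb5f1c5dc21106c5bef84b24963d8df7a16f409d980ea000e601a1c71d9cc0000704a18a01980388e9e765cf401e84d8dd258a4b1efbd6ce58aa8032d0c4e0d15a6b8eb5a649ca14f6a6c34d889b17154805f00c9430f833d699e3ab698e727d3d99b0b361e2a826aa004865dd1a400447044b0c00405e3,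
  nat_lit 0x32e000001c1047488f7814f9f7b3ee802bc6490dba1b6b1f8cb8396fe2bc432c004899056c600449045ac400405e32f9a003c77b6b7a00389726bac003474a6bac003030c6bac002c44fcc7000287506baa002430a6baa00205d43842001c689498000186216ba600143096ba600106876ba6000c44a6b9000085d06b9000044486b90000014bcd677051b0d8021002f9f273e5408ce0a76d938dc35c78aec0100016810b6e2f8990e161c2af0826df4dbf601887a634b00003bda3159b3b366388af21db832a7814da001d0029020f1a545758db80000bc3492b7f857d08102004b185c35586a7838f406c1edc6db15ce80900002f0e4700001a0206bfc1c10d421a96308001f9f073e1408311b22336d56646f8ae32cf00001dee1a86306001b9eff3e04082e0936d5aec5b5bd6b7796762b7,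
  nat_lit 0x83205e40c372508481094b04161057bd1670040902d205db92372b3efe7e0f622459a00fe40ae9b9bd4f79e6e6b5cd7a215166003e902847d08fc48b8944062ce2cb007afe91fc5becf72ace524d11007920488f911f392127f11ee500772046409705e896d0445d9000741c04259007219103235446a930d0673165fc6005600aab45459444a29d66f4aa74b84521c24386c678010df883f118b26b79e5d8641f0e121c2e33b00859fd33fac0be121d1646620000032ee6e0b87ad9100250040cfe59fce05af07cb71bc78730fc58f8e740000bad379e6f33c481c7a38fb8ad5bb3815a00f80243642c739163003d81596eca5d64ba32a7254ec70f0e201a42348a2c54f364478890d3a5de874e7b086c37d86ff8cd401e45886eecde1d6eccba2c8221bec37ec66800ef3f6e7ee1d7b1af0000175a89fbad8cdb370d9b1e804300739faf3f640aee0eb8d762c3cd94000065d788238d871bf153b759029801b80416c7770eae33e6c94b854ea003f006d0296dd5cba5973854c8a9a0e171c32938e7e400003820dc637686ef2b72e5ca64030dda1bbe32d00699f9b3f1c585206289cbad2cda770c1b1b803d00679f973f340a88b05eb3dc62b86ad8d801e003281436e9f8a70e321c62d0cc07a539e00e8018c0a0b74d2e825cb952d2a5e384a2c000619f8b05b480390171c1237bd8e6bac9c6087a3457e52f75cb6b959b67c4c391c5c3453f6a7c801c802f8afb39f00001c13805befb7df400b7193437086dd83fa9c7ef34a72d9cf62bd,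
  nat_lit 0xd0a0008201881a00071d30d0580061884d0700051d24d088004174ca0100031138c0c80021740d0180011120d070000052f222535353ea01b0036b667b8c356d9e3bbc78d7a468362da8621a1af09e6a60571eae437fe91b7236c1c7c00e45b3a1ab09dea5f571cae3f7fe11b6236a1c7800d80111596b5d5c528399a0ef07160270e3a00680080055908b05a639b000032eed8b00018e6865ce22f8bcf6c8d1639084014800680529085458f6c8ed8a8b631f5800019771db8000c7d432e3104622120fc027800a00281c5f010e0dcd06b071b1db45ae00fc0205fdbcc82d0baa56d45b0cb6196402700091dfb1f30000178f41960d9c03c1c500088007009920f1886b101b9718f95898a2b920ec0258006009720ee8ae6d8ac5d9c442101c3f60128002800f0e25807306be8308383711eb57acaa8b5acf2da66b4e553cea7ad739db11456a41c8049000916ae69600002f0bb7d83ff5ceab9c6d86a2b120dc023800200181c3f34ac5a96726e595cc0ab1720d8023000100161c388d291a68b4e7b8d6760e160028000000a0e1a46908d291dc23a3169004490695626e5c713c1e983d2da19b4328de31bbf4abb1cccbad7e7b513c960e1296aa6f4df19ce33b7a8acb31e363be877cb8de2dfc5bfd5cd76c1d155906801122d1008720648fc91fa74aae95a165964e2c9e55a62d00085206240cb7266e5a7e04fc14f009e0294922cf,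
  nat_lit 0x82200005d2c93b71037d81f80000e00163035415686e73bc20784108b877d89bb937767df800300048c0b504da203439a3271701bba3efa0014001c604a826d0d5a19840b081c10aa2df0008000a301d4126868d0ce2bd83f807edb55a91598123470697000d0003180aa08558c5932b248995932c7e2400046014308861ab22d7fae421c8458d531a8838916f460192a78373126dd0aba17414b1bec5bb35d901d1e4a3c93413f1be04047de5a61add25bab8dec39728af412b1bd006d4c3e824637902ba39ace74c6f0043d478a0918ddc3f69ea540e31bb043e00ca82463750139a39d046c6e801fbf3a7e718dcc03509e933b31b9034a8229047e371029c0412a3b548971f7940f1799bf9af7b5ef95062a3f16e00816cf771eae544ab6d5477baef756c8f9ee7a75a2dbc89c004865d133600445d63426004070433e2003cd330ee200385e13430003444c0f22003014c341e002c30b34240028750341e002468a,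
  nat_lit 0x7e90005889f935c0050ea07e8c00486140440004100c7e080038e98286c0030c427e880028612350c0020d0e7e8400188947e5c0010ba07e5c0008c4000740000ba5b12e676434e86a8cd219a3f27bab41bfba310801a0039171652fa77e6f3cde81f930036006630d219d433cd139a5807c4004899007ae00445d608800040d330822003c77b07aa00385e10884003474a0252003014c0844002c30b084a00287500844002468a087400205d40846001c74c083c001862108700014309087000106870872000c44a085e00085d008700004620,
  nat_lit 0x3c94002c30b3f44002897c3f44002430a3f4400205d4003e001c74c38a400186213f420014309249400106873f40000c44a3f4000084493f40000462000007e800000e91b433686d01a9fb000ec00f001c37e26fbf7f39f9e3f3f175e9be00002eb546a0032007001cc9c9939d99151bf237b46fba71b4dec5d48df11bd237dcc8927364e4003800360062a34d6de8ba401b801a002f519ea6ad13ba2802e905d2ee54dcab17424b6ca974f6cdf59bec002e006401ac636437286e9a69c9fc00005d6087a7475a32d4438c6800cc00b8016dfbd71baf07e4fd8b9e8164fdf496795229ec1be837d2005000b00328c671736409000032eb462a88118c401800140027bf6ee35de0ce3e9721720445ca00be31b7003ab6bca419ae335d86d30d8e680ec658b9384b50289fb692bf2a253d437c86f940080012005d171f030b905c7c6f04dc68dfb00040008802d8c5d50f58c43f4400445d639440040d33004e003c77b3f4400385e13f48003474a3f48003030c,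
  nat_lit 0x667393f927dc033804a0093c046cc8f1098a471484b1093ec01980248048e0217282f20dc1eb841c1a3833a8600120023f00fb93f7902a7cf00d0db21b5cb7f96fd4fe802380453834706380854f2adca009401380246884cf2b47200dc01180221c19382fc03ea78d6e40048009a2eea082d1c4036804500867060e0b700ea9e15b8c011c5dba3c2b6a338e671bcb06af3703468de01b002200425d1041f0012197444500111758156001025e0426000f34cc420800e1dec455800d1d28455800c0c30455800b113f1f6800a1d4045500090c284550008175045500071a2445500061a2045500050c2445500041a1c4550003112844e8002174044e8001188044e8000052f4eae9da649f99664f149dd009a00c00173b39ade6226e2ec3f3e00405d6cada003c7043f4600389723f46003474a3f46003030c,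
  nat_lit 0x2003000c0530061000b113e564800a25f1b3b00091a2a46d0008201a3dd80071d301168006188656180050c261e08004174e5618003112961780021741d010001112357f0000174b68d5725c7ec001005780b90f78494c92a709a585ab0b22f84220844e6b9cd74ac958fd45c17a35c51ed4c5c3de1178fd22f72d0f37cf806d4a8e1138fce2f647f11dfa3bed68cc7e40bf80b40f6b8fc41a20df58fc000a2c29c668f2d8d761aeeb1a56350d8d1b3e01f8039c5eb905c0000e092804038807c1b3a362d6342c671aea35d0f2cf198c82cec400709401281733e23b547648ed34fedf5dab6b55222f400a401be4ffca04ccf68ed11d8a3b3d3f97d72ada45e7c4e25026acbd59527f8037005100a1c061c9b39378bcb39f8000197721d8000ce7c32e5b53e2c1c4d6500eac8d58f27ec035804e009bc05721d34df2adada9715fe2692803563eac693f401a8026804c8bc4026004baa13541e8b6d17217ac2f5e94546b88d9917849fed58bab124fc00680096012b8093930726314922ef,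
  nat_lit 0x5b7000186881540001474955c200105d313b0000c44e990a0008449990a0004448d78400005d2da855d2f20e000e596f2dd79075d7aca827e2abf7cc838c18006acb696e9c836ebcd3d0a5dbbb76db1226c44a9182e43600003bd800b00501c93858d750d8da4a5094927de4fc29fcf21ac609a2440000ef678d16588009004c1c8b857d74eb1df636387f58dad12118183a60eed5cbaa908721004a00216581e333c63574230224e41f6c3ece415000eb2bcf191e30ab9fc185eb54603905000316aa2d585b4dec6425b8bfb17e2c7c42638b54002acaa734ce1c1c33722cbc4787d712b6b248c000022ca915122a28e719ce4a0c34192edb6be18bfc001aca8ad8b2f465e8599e96428dc62fe00047b6cf6e4d8b425e84c80aa0002b299cd1386c70d6a0ea2fd0000b294542806f00e236fa2fc594e78a8f1455c7a9285ed472d0e5b1f1f68307c78e5b1cb3531f815cf489e8fc2292fba5f897fc97e12fbf08a9e8f3d22de0d846b093cc2b0e273a9e74f5cf3206c5f7ac2c0000bad902c00c80c4019c1f449341269e15eb1080088013d61517d35d76b94cdc59ba3382e40e84ad0965034ae73902a2f9869c004865d104400449045854004097891ac003cb0c6a9800385e1370a003444c,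
  nat_lit 0xc99c0000704e25363fb1b15779e1b41d34028803459bb2e6f91a64cd8c403d0d51faa481d30028003359b67978f2ead3b3124563e78a00002f197e62fcf531aafc9e5a3cb8b364018804d020420173c4c61e00c166c970b2dfaf6da142c6278c45c4b87518e788c38e49352a2084410f919ddafad0124ac3a3004c005f186b3b4e47285750af5066aed790f001716d22da73bf630cd1f40000704cec8000347c9db987c39eaf3d3aed190e4015acd49725767abee5bb4cec7185f0d00e86011c0152cd39723c8aaecb5eabe465602e30a008c00a56689e543ca6b4c4c440a820ee01d82306087d981c0000ef72b8c81c903be457769eb3c49230266010c013accfcc0d184ee8b00002f0e4bc0001ba286bfbfe485490aa505caec390c80122cccbbe93bce77ce4bb8c233cf80001ded0a9505aaebf90c00112ccb9713612ebe8dbabc1d79e7a3076b00004865d706200449044ce8004070450b2003c5e380b0003877b98d4003474a9922003030c38f0002c44f9920002897c9916002430a992000205d4991c001c689,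
  nat_lit 0x154dd6612cc5a095c35323107b0aa72b5e646102296bb56bfc8c0078db82ad7b917c443289e514722f046e958e8bb645d055dc38494dc8b803908f8751b916c18c467fc29322d01e0ee8df4d64590425bc83b33c8b000e80670ec3251ab4dddcae49c417882eb545395a255631c00cc1d8aa9d5536af1e1cc839987808c589199230c63769bb07167476a6956ceab0876100ca019008781198c6b283800019759df33cce4a285d50bb507eaf07915002316ea2dd7941a319d20a00005d6afeb76de5d5aced0089914abc0f3ece7dd88279a7e9048c6364f0000175b2748000d93a5655786e1ce1d6802f004159d52ea3920ddadbd85c927274462e1d6402e804059d079acf352d48313e2a643c387778c5801face73cd479a2b03d4d42fea5fd2a83c2288414578b60c6766ced99e2724942da85ba83b577bc89800fa315c9ae00005d6b18d825b9a3e201e7cdcf92bbce44a0078b3965d1e4d68c532b58000175ac826368aeffc3803a980570074b38e5d0f23abb4d95aa313aa4b54a83a900560072b384f321e635a826260549087e042402a003859c0798cf30d600a99a5fb8bf6d5008c4b3310000178d66f8036c8895dcf9ef73e0c3f7cd0704858c0b3039986311,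
  nat_lit 0x1d68002c30b7922002897c7922002430a792200205d41d8e001c74c79220018688792200143097922001068778b4000c44e69e400085d06f5e0004448790c000014bd84bcc255262a4dbc2178faf40180a3012004800eb7ad8ca026a84d409a67695e26447600240044c6a19193230a266e0a000038237b169dad3d223a0010001e6018c03de7ba279b833704c64f9ba40000e08f201bd40018001a6010c02de7bbc73782d5242a47cdd1193000c319e63648d786c10d857fef848d53741d683dd43e58240c7818e2c8c58f313f4c28184469e00030005c64b9a200000bc6f112237000a00126330c88991032f06679841b848cd0f192000900105ffcc005e74a26bb8168f451eaa3d7605632308c2b2296442c7589f26130c2034e50024001cbff46440018c64990e321a65d4cbcb09d613523f24efa7ae8c84c25183e69d4f100ecc9d983b32f1022350006000b190657c00003bde71a000195ec77aae8813182621d953b2cf0f6233800300045fe4bfd67198c7f28e8000178422337a200160006232800100005fdcbfc5e6ebc59947231ea23b17b35015eedbddd83df07c6164ad81918e31d,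
  nat_lit 0x2214443792841200476ed1b25000b8e236771e49f011801e352030e86202296aca959780d301a72c4205e719c54c8cc70968e1374265a4be0098012351f893e00ee3373f9e7f361b24db19b734bb0240047f6fb60110006466c7f321b1cdb09b714bac23f847e6fb4010c0059dcc8cd78a31935327e63e801b800a3b967728ee5800a006f19a45048a1400d80049dca3b927728004803631f264fa33332afc510c99993d31f000d40041dc93b90772400446659e340000bc663d801980063b8e7718ee380060067141e280da4fcf191989ba861d9c2df01086e80dce4754ebf450600640016165ca72000077b1b12a9c6f2e5e9e3050609c01800030032007292ae5388cc2c7b386e337266f4ccf1936326e63c801780023b87197994e32a06448c8a193631e200b80009dc23b82770a32ea4996924c111824005a0000ee09dc03b82f1a2249465a7700edf9dc078cf1245e339dc03b7e7701e33c49178ce7700edf9dc078cf1245e339dc03b7e7701e33c491005a00b0c7799343224644cc929913322464d0c77802c8cb0edfbc66892000b001598ee326664c8ccd19c0614b195eef5000032ec48e005400a4c101821bd2b455b7135209a417483377a465400a0c0f9820bd2d7952f132a6354c5cc7f1b358bf8ca427504e93b76f18a2460028004e63a8c97992e332ca4db5046a17122c0138026303a607af495153dc474819022232600489901cce004470430a800405e37928003c77b1c9800385e11ad8003444cd094003014c,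
  nat_lit 0x2a1f001e2f188c6001c4b9376b001a226284f00180a6376a0016185b76600143a827dd001218530f200104031787000e3a63766000c3108e8d000a3a4859d00082e9b7640006227376400042e837650002310375b00000a5e9a7903ef2e5e5fc4688898001400385a50abc1571bad467a15742d200060009112e2a6d6a3c139780b29c940a8cf0002800388951532b5113ea27d907ea1006fbab2daeba67bf00002f0b0c571280034000c44888c8e2c1c55d030db2b85673df46760002223c5518c67690b9a9560fab676172c2cd8558ce9218a433a77b4f378cccef0c95719c916b822938de77564aa0a9273f4e2f9c6d3ba725489823a458dbe4a801becadcee8c94e051dab29dd192983e387370e77252845cfb0a773e4a400b1699ac63c94601cab2c9dc5928803d,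
  nat_lit 0x580000ba5b0270f961f03ca215bc0af015c0b1a175001b0013002b1a169e600002eb0830a22f07120e72331463200d000880138af75b474f2c682004000791b8236ce31187aa37046df67a5434286b7eb9c688012264223680112411b3780101c135a1000f1dec7fc000e178522e800d1d2a234800c0c32234800b113e234800a25f1feb00091a2912500082018aba00071d3072a0006188623300050c2623300041a1c8d280031138010000217408c8800111222328000052f5f9e343c3b78764f1d0558028e05142bb05bd003e00763401036206a880c1ae83708c6d181801e0039118e2b2c67e007400d919f23444681c5730df46b48d66ce9a8528cf82aa8144028415cc2dd001c003511862b5bcc7799c3bbc1b546308c0000d801988c1158ab5c62a6bc259539b5f0a1c0048990d1e400445d607280040704,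
  nat_lit 0xe2c0008201a13c80071d3225e00061a20b7000051d2625c00041a1e25d0003112a25d00021127507000111222590000174b5e4c7c8008601142d185a50bd8013802691bdd41ba832345d16400005d679ee004400a0029009817a82d1817202e81614f33e8b18d132be800019760ed41e4468e8cbc025002700240046b73e2d5bc8395f23436d0c00485d6894e004497871d00040d334848003cb0c8b1600385e11d78003444c8b18003030c8b18002c44fd48800287507e36002430a8b1400205d47bdc001c74c8b1200186888b120014309237800105d38b12000c44a893400084498afe0004620,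
  nat_lit 0x61c00084490618000462005b200005d2d37fa71a13460b8c167b8aa87d11e500e601d11b3030a8d434848000178c98544aa8950478c038807246ae8dbee32f362bf41a42234f05aa0c1d1b1807100e0478a87bee27c16182d6132c69dab640000bc70f79c9e327064e28ea91d63131720001e403711e0d5b11a6a35300dc01b48efc4a4894c4c189845fc4e31f33ee34c00d8477a879ee23c15982c6130e9bfe8241fd03fac4671f3a3e9c7bb834d06bb633ec6946be8d78036006b8d2f56b000017851db086710c8a2820fd420446ce8d3c035006923b7ab5634adc3800005e144257e5afcc5c5346ca8d34034006723b343bb70f6e1b8d2753180001dee6e3571cdc3943b08eb806500cc181018682ca0591a98a34800ca180c2de05ba00b8016d4aea94a7d28fa4c99b2b54e3fc03700640c0416ec2dc805b00b4a5714a4be938d1f50e8000178d4a3a95a00b001642db85b90c00018803638fdd443a87234689720048990036600445d61414004097881ac003cd33818a0038b0c8984003474a4b88003014c7de4002c30b897a0028750466a002468a,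
  nat_lit 0x48a3764719b23b64641d383971f823fb71b8af931aa329247968f358a9392124264854909809a012018b9645011e8dd11c64229843f1eded22a3cb22dc45c48b9c6a7b7f40000bac023004bb91e629e8f291e4328f651ce56a1fe5b59dbf91a9238946e2023004591fd898513109921326bfc5c6b4907011602288fe5111dc83832b067c27fd3bbd0c0409447599f00000cbba530000667b19739bc5c7b470a8db4044008723f312fa26013202645a52e3510640004899006400044978057a00405e30640003cb0c057a00385e1064c003474a0642003030c063a002c44f0642002897c063a002430a064400205d4063e001c6890632001868806360014309063e0010687063e000c44a]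
theorem S2_c : blocks (facts 13 5 18 31 8191 262143 2147483647 15 32767 14 16383 A R 32) 32 JS2 28377 = true := by decide +kernel
theorem S2 : On (Step.{u} relsH LW par A) 28377 30265 :=
  steps_of_blocks hpar hR S2_c (by decide +kernel)
theorem D0_c : allB (defOK 13 18 31 8191 2147483647 4344 A K) 32 2 = true := by decide +kernel
theorem D0 : On (fun r => defOK par.W par.WL par.E par.mW par.mE 4344 A K r = true) 256 4352 :=
  On.of_allB D0_c
noncomputable def JW0 : List ℕ := [nat_lit 0x8b3c6dee6f9ea913ac7aa1777f5fb9a3b9a4a9f9aa71aab3ab11ab29b99db617e1369b658b49ca2bc0c7c911b499c009ea47ca43ca13ca0bc955c92bb615ca447c4d749f5afdca25c11fc903b5bfe16cea44ea4dca21c9ffc95fca35ca49bec2144f22717c47ca2fb92be57ce1e4e1e6ca0fca1fea5dca61ca5dca4fbec0aac4e21c88c9e224ca03c561c869bef8e226ca09c9fdea5aea65ca69ca65e22ac7f14b172515e27ec6adc12fc275e280e282c953c95aca5bea62ca7aea6eea66ea71ca7ce288e28cc8cfc3c5e9aae28ee290c929ca33ca4bca63ca77ea73ca7fea70e296ca792473ca2dc3dfc919ac73b9a2ea46ea4cea5cea64ca7bea72ca80ca82,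
  nat_lit 0x24c024c224c624c824ca24cc24ce1ad924d024d224d424d624d824da24de24e01ed2250a287de300e489e486b4f48e82a4d10e196a8c7085908f4a013bec24e1e25ce260ea6dc35fb433ea3ee264c030af91c582c933e266c445ca71ca72b7715fe189a5980fe348651daea056adaea2795f86e7ac1a1ef7ae98e34bae9c9bf02e07e0a241afca2cbdfbc917bee6e0a8ea32ca27ea35ca05c6b1c8d3b715e0acd0a48b7a7e4bbdf9c3dee7ed94aaac7dc0c9e730b931c3e0e732c3cba91fc3dd846d18b58c27e9a6c3e3c9187fe1dc38c913c905b96bc86dc26ec91ae9a9e6ca13e305102d0ae2db94b17fdfac727f61ac6fac71aa67ac74ab09ab1f976eac6d,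
  nat_lit 0x8b6ddc40dc44c8d5c3cfe9abb988dc46c90fc909b95bc8b3c769c91bc91caaf118a443506205ab166473ab18e28f74d940dba93dab1aab1caaffab1e7c61ab1404b879e41be39f276ebba18774d7e291ab22a94daa03ab24ab26ab289fc89fcedc585453dc60c8c3c1cdc90d40d7c046c928c926b911c925e9afc92a98bfc8159b7b8091e0c8c8dfc1f3c907e0cae0ccea39ca32c98de9fae9c2ca34ea36c92c749b93c7a0f4ea4ac943b957b53be17ab90dc98fca4aea4fca4cca4ec100e17ce1ec9b476bcfc9c9c562c8b1b783b7e1c9c3c9bbca51ca62ea5fca64ae19c7fae26a65019bcdc5c3c80fc767e274c04ec94fc947ca59ea60ca76ea6fca6fca74,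
  nat_lit 0xe22ee232e236c7f2c7e9c7e1e238ae49c4dbe84cc5f5c7abc7efca6aca6cc7f024b85dc300750ce3b0f45daaacc3b22ca535074f3b2ce3ea9fb3a3b590e5e3ed20bce2874aad4b124b0e4b084aaf4ab120ad4b104b0a4b0c4b1438724ac84b19535f692c16825b3b833a833c38f7833e8340834283445a93796783486871835133bd8da6e28b8e25950c99cb99cd7d2c66f55f89999a99cf7fe999d299d799c923812c7a32294b580e3d223a4b4e4b5a4b564b5e4b5c4b504b521ae54b614b6adb34db366f12c8cec1e1e989afeddb3ce986c8d0c8cbc8cdc5cbc8d2b82fe5867ca80d2c8c24c1dfc3c4e7e764776ebfc1cfc1f7c3c3c3c6c3c8c3ca8c31c3c1,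
  nat_lit 0x3077844e8611e70ac12ebeb79ca6aff7c129c12abebfbd9de733c130a7dfc12c61aa13f18e61c272beb5c27499cc3c2da327c276e77fb979c26fc271c26c7c671ccf8b4438bc32859ca499cae281177dab02ab046d89ab06ab08ab01356d9fba476a5a42a85b8bebab0a3c29177be283ab0ca359ab0eaaa3ab10ab12a85c98c3dd1a7c56dd22c5d8c1c3dd24b235c048c952e9c7bbdbc5eec954e9c4dd26c951dd38dd3cdd40e9cbc134c65db5d1dd42e9c8c95bc95cb3dec95ec949c5fbc1035ecb96ff83ffc97bbebbc27f6d83bfbbbbd7c96eca5aea57ca5cea54c6dcae1096074af78e37c38dbda1b972c07ee214c5f1b3daea58ea63ca68ca67e218c7ec,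
  nat_lit 0x47dc576d50f5a7cc5adf0de7aab98b53861ea6d9a61695ea3635aabce229aab755acaaca58879a6d7f952cc2aac76a9faac97e7a29fd8589aa0baaccaabfaac5e27709cc508b833983248354832667f6835283218328832a765d3af7835683501557524d45ace2dfa9f51bb12c3cac84ac86e2dcac839a65ac885615a9fd4b184a6f557f913bca24be07c8fde072a9c7ea2fca26ea2cca01c961c8e5c2bee3ec820787a4e27d9d409d399d3b9d3d91b508477a1d7d089d226c719d3eaa779d370f7c38b9715d8fbc8fbe6c698fc08fc26b598fc48fc62ba58fc88fca83a58fce8dad203324c5c6acbfe1e8b8328bd54cc5ddc6aee8bbc386c6b0c5cdc6aad54e,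
  nat_lit 0x4c7fdfc24f05ca02c542c871befa2e17ea1bea18c9dbca04c388c9cbdfcadfccd93c761f664be946c560e949a3b7ac0bc3f7c82abe21c3e1bda5c82cc828c3e7da2a35d354abe969c566c868e6c84adfe966c86ab6c1c86cb97bc86eda363571ae2f923d6563befddd66bee3bef957ffb4cbbf05af8aac75bef2b785e9cfac65952175f588642e0faaae4add57fde227a2c1a751aab0aab2aaa5aab499fba3344bcc609fdfe8ea1cc3f5c861b4c9a2bfca08c9f9ea1fca0ac5f3c9c59d51c601df98341fdfa0ea17c55cc87fbef1dfa2ea14c9fcc9e7c9feb3e3c9bd9aa3c73b104516ece1d4c9d9be1eb6bdaf86b817ca0dc9e5ea5bca60ca5fca53e1d6a797,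
  nat_lit 0x3a7066239b3797d94e8999c2a41297eb0c969f47937d3b81856daa78e1e957be936c91e5cc5ce6bebec6e6c16f3cba31bbf5a3f3bec8be11bec5becaaa7bbec3e21b81f441d2a10b443da477a41793d25041a91b931b147b8233aa79aaacaaa965c82987782717f596ea76050a5f96ee96f04fa13c52829e901f7cbf782996f650d65146517ee6122a2f346dbbac7f31af5fe615b5f5bbaeb4e36c5951b1511199a01a86681178e7af31af327e63af346ec198a3af36e367e364a0569d87abca7555494c3cafe8bee8c1c2e1b609bb97c60bbf5fc6bec511c6c0bf7b834bc6bc6c27347a2ff420a396728c039674362b6f4033a742b51f8f8b57968593ada2f9,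
  nat_lit 0x9f8d52444321b7cb08c3c07ce70f90198533a3a999358e2bb9983435e70cab156615e0b4e0b8ca2ec92ebd21e0bae0bcca15ca23ea34c9ddc978ca30c82fc950462390294a8ab927b92ab92ca5d2b121b92ee575b930b932b929b934b2269c8c667a3dea2943b964b95fe57d2bc56523b966b968b96ab6c3b96ce57ab962b95d752a41ed7edfa929a5d02bc3e1e51dd8a821a87faa66aa686d8daa6aa3169a0f14581eb1148ea931aa6c651f1ddee1e7aa6ea88faa70aa72aa74aa090e239d551e952e01e008ea23be2bba94e00ac00aca0eca10ca12ea20bbddb917e00ce00ea407e048e04cea2bb937e8f0e04ee050ea28ca1eca20c9e9c971c993c6e8a771,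
  nat_lit 0xe12ae12e813dca29c6efc8f3b5bbc024ea45ca42ca1dc9fbc959ca3bea40c80d44603957e14cc851c56ac965e14ebac0c259c995bcd7c3d1bccbc835ea49e15096d7e158e15cea4bc945c261afe5e15ec4fdc997c8cac9cfc812ca31ca47ca45aac07358848ee494b50aae24b516add39c77a711a7ba161e8855aabdae21e49710df0e320231a8c187dc1d83b5be730ce4c6ac70a881e4c9b5c0a94182e50e27de8e55bbde96e9f2c78dc2edb5cdad75c99bbf69e9f5c983c6c1c9acde9ac7c218f065166518651a651c651e65206522652465266528652a652c652e65326534488615a4e1e14888488a488c488e48904892489448964898489a489c487f1553,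
  nat_lit 0xab3d37b90500bd08bd03b8ae76b1b028b9deb9d9bd0abd05bd07aa35e65da7d73dde93906df9e520a3c1b77bb7828dd7b4a5b77db755ab1de523b784b780ae323f8b3a7c7edb6906a57d73f0a84c5c19a925a06e18509444aa0aaa0c7ee2e17d37af5796e1695798579a579c579e57a057a257a4013f57a657a857aa57ae57b0d1866db73444e818b2b1c455a728c04dc347c390e81bb873c466c468c4645c0172c007915290be04c11eaecb87deac85c11ce731b93bc120c122c1249244e72e896adbbe6dbce998e356c9021d8583e5c8f5c904c751c881c65fe99bc901a31f38c3554a2931a9c1a9f483e37303e16da9f6a9f8a891a755a35da94f4167a82c,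
  nat_lit 0xe08ce0905995ca2ac0b5c915e096c01aea33ea30ca17ca07c5e3c8c9e098e09a5be92f1b5ebce71cc0c6e71f82a6a04ec0c8c0cabe26c0ccc0c3c0c5bf14c0c17313dc022d59e9a3c0d1c910dc08c02cc912c8f7ba98c865a32fe9a0e6ccdc0c290d66fe87dba90382aaa13fb498e46eac6eb49aa825e471b23b40e5a16e414f136935c86ff1e8e7a050c735b495c008b9a5c36bc4aba2c7c4b9c58dc738be2c3de0226e9994a9dca9d5a30d551da9d79beb7d7578afa9d9a9daa1b1e141a1a352ef576b6626e4e1aba9977fb618577f4b33b61ae4de8d799fdf98bda9dfb616e1610ecf8fd35d6691d266cf91d4851d70fe908991d837010e1f4ca18fb391de,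
  nat_lit 0x1a2f9e5852f9e715e712c08d0d5ba24dbd2dc08ec090bc65ae53adc9e5900d2779da66560d46e58f99e3b99eb9a096ef8b159cd12289a161b9999fc5b99aac6c483c0e37484a484c484e48504852485412e5485846f101d1485a4621485e48605a8218f52d635a840c1d5a885a8a5a8c5a8e07235a905a925a945a965a9a5ac121c996cc5992a8bc7bff66afa8bb525996d00bd18a0532ca06ed896296d4e2a33de27b0e085dbddbbddebde0654fbaf9e691bddcbc03bde2bde4bde62e939b6634b960e6e13d662a662c662e663044435f8766366638663a273d663e664266440aa94bf2a0abe701e3e8bfb80343bfbabfbce6feab0fb023aa75bfbeb5c24bed,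
  nat_lit 0x867952f0964167a396475aa796499643106b964b81a77591964e96509652964403e14b664dcbbc81bbfdbc73bba7b38fb709bd72bd74bd76e67bbd7865eebd5d4b824b8439624b884b8a4b8c4b8e4b904b924b944b964b984b9a4b9c4ba04ba2391f4da81b39998099829984d951187959d9998691d9998826eb998a664e997f1a7a29c57601a9122ebda49ba223e0a9a914a916a9182e1f8bf79f376d91a90f2d2d0e585b172ebbac7bac13355fac7ca054e2ddac7eac0dac806ec9ac79ac77711641260a7ca172a174a1767634dc39a17883e965294ae73c37a17a94f2a17067bdd7b52aa87f5a355b76327f5e7f607f62730e1dd45807178774e17f6a7f55,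
  nat_lit 0x6bf2ddf2e332e3a2e3c2e3ecbd513c52e422e442e4600872e4a2e4c2e362e3889e5149d9730e2da4384a15fbee7a21ea905a8c7a92bbee83297afefa14bac7632113c418143438894b094b294ab356182ac87ff94b694ad94ae6481d79994a82a9a10547e4f7fda7fdc7fde7fe076367fe21d8b2bcd7fe67fe87fea7fee7ff051f9724f79ec5bb6177775afaff09cab8feb709e5473e58135699147a159b980911e84bc90ba4e8797dd577bbee49781e66484e32c9d5df5aaf37c739774e6cb575946abde52e9e85b69c747de56a5e2c981c996c8e1e9edc682c998bcf3bbef3ea5667423ccb59ab59ce4b8a42cb59eac8da4c5b57f9d63e4bba97da17cacd3,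
  nat_lit 0x6f57d0aa54e7e7efc3e2e7eca336ac18c0d3aecfbd36c3e4beb0c3d5d0b282981d4d9bc2355736f38d52a18da18f06e30d5f28f36f795d625263a190a192a18bdc4adc4e5dc9c7e5c807c7f5b621b9b1c91ee9adc51bc79dc920c922dc54c3dc66550a3116029b8da9e0a3c3e14f7b8c13c76e314c9aa3d05ab3998b8607a1a2031aa53355fcaf4db0e2b0e0ae29b0e4afd9b0dfe3b52e63aefd7969abf3b0dddf0679e79005c9c8c56dc8abb773b7e5ea00c9b5ea03c8ccc5bfc9caae1ce33ca02f431dd534b8f3e678bfec00adc07bc520b7abc69ce56ae8b7c69ec698c69a2f1f184a230e26976a9b852ed3df7f99853285345a778536853829df852b852c,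
  nat_lit 0xdca053798c85c487dcaae9b7dcacc013ae8ac938c93ab39cc3b5c49bc3bfb1f48c3297500eb8187196eb4e37a92299e7a92435934e59028fa9268c65a921e0addc2b19ae7fb984d04b8b493784c884c584ce2b5384d284c784ca6f7f84d584c3001bcd161219c0821749c07dc0819b07b5f8b43faf6d3295bef4bf90e711bf8ddff1417608f84178417a417c417e41804182418433a94188418a418c419041921af358cc976abcbfbcc6bcc45aa9ad05bcc1e64ce64fbcc8bccabcc3bcbdb5a7542015a11a91bc83b8ddbc1acd86479dc142bccfbcb5bd68e739ba50c140e736dc1e1379dc26e9a7e7f0c916dc28a49de9a4c8ffbd25c873c6a7c8d7c2e9e90c,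
  nat_lit 0x9c697ce18c43858b72ef8fe7a410778875b3a91a39079a7397f39f49e0ab2baf9f3b7274719be511b716e50e9930acbbb713b718b71ab71cb6e1b71ea91d9f1bd0a3336e333c09eb337433763378337a337c337e3380338233843386338a338c041e280d32f96eef6eed61236ee41a5d385d6ef16ee26ee96ef320b51e656ef40ecd8cad5b19ad6a7708e3088774ad6ce30ba6c9a611a5e8ad6ea723ad698cab62a262a4012662a662a83e8d62aa0f5362ac1fb362494109570034e862b447ab808c8f3a72079bf5a3d66e2bdd878cb3a3daa3c583298d38a3dc9a570853a3d4546c6f3508ffbdf8bdfabdfc43802ec1bdfee695bdf5be00bdf7be0254826f50,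
  nat_lit 0x7ef3dc94dc98be47b571e9b2dc9ac05ea5edc4a1c936ad79c439e9b5c1aedc9c28b10d3224809bf49bf69ba7d9ff15699bf85e1f8d1598309bfa9ac124619bf1e09d07b67ba8522b0d0f1a59975b61258e1a937b97609756975c390b976597592e082e0ce1ff2e0e2e100a5d2e142e162e182e1a2e1c2e1e2e202e222e262e286ded8c3a1083920bbd5ebc23aa912995bd60bd62bd64bd66e677bd5a96bebd5c575c04342abf7ca57c8c7c8e7ca12f31683d00b37c9f7ca303c97ca77c9b7cae65cd5142e0a59bb59bae9bb79a9c9bb03a5d772f9bb99bb32e655a979bd265e341ace17341b041b241b441b641b841ba41bc41be41c041c241c441c641ca3fa9,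
  nat_lit 0x886a79eb021ee668b95eb92d36f7aea3bd3ae66bbd37bcefbd3cbd3ea017bd384279294102cc7956d1c97958795a795c795e7960120b79647966796803533afd86b92f6d7194323e86e086e24bc0d42b86e486e61bbb2ad186e829a186de86d7784412fb4379ac17a175ac12397aac1912071bb9ac1bac1d7347ac1eac15e2c91ee0020a17e11ee61ee801811eec1eee1ef01ef21ef41ef61ef81efa1efe1f00692b08ae24a9e350aec2aec0e353aebf8341aeb1733dad29ae993effae969ab57a88ab4f8c2fa7617a27afcf2087afd6afd82999afa425973efde34aafd2e38747e755823a40e754e757c1ba8684bb93adb1c1bcc1bec1c0c119c18bae9fc1b8,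
  nat_lit 0xcd647ec0d3c47f047f2326147f6106947f847fa096947fc47fe0f25054d4804dacb3f890e6b1aa93cd335395fe81bed5fec254720d55fee5ff05ff25ff65ff833e028b4df2b895b7c7a895868878961523522402409615624ae896389683a9f5cc4262163a6b23042ad8cefba36a6df328f98b5ba38b5faa909e5b355f3a1cf110999a44e747f5b0402828ba222a21fa221a2249e0676116d29a226dc8d9b28884347782761e349e346a1d506e1ae92a24f3246ac52983fae94a763ae90a0d460da860d719fa1d1aa6daea191a2b120b122e3c5ac7f018db124afd1b11fb11b06ba23084f2006db56a856aa56ac36f956ae4bc2397456b056b2209556b856ba,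
  nat_lit 0xdb8042d518c1e993c801e990db88c031c8dbc8bfc745c899c7ebc8eebfe7bf7d0aa43f3d68ada0d750635a2b2975af8eaf90e379a1ff9e23af92aae79fcce37651b712cd6dfce863b0eec477d32cc039af99c583c4969ea3c44dc586c584819fdc7adc7e9b83c359dc84e9b3dc86c069dc88c499c932430bc435c934e9b0af038eb20526665a9da5a9d4973796c0aaf49e1d9e9f4309e267aaf6aaef9e5e897d2d9581f257b7e750ae45c43bbee5c067b535e80fc433bb5dc444c443c441bef7e24ae24e8f4fc371b593ea42e254c019e256c97dc941e258e83eca70ea6be6f407ae24194a11e5215e159fbcb77202e1e454b774e51ae38eb776b778e51eb770,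
  nat_lit 0xe25b241a241e24202422242424260845242a03c3242e243000b900e92438243a163607bb0989e5f2badfb3218408bb5ea5babb446b0dbb609db1b65951d9b12e06d136524868486a486c12df48704872487448764878487a3866487c4880488214e47f592786b180e3ceb1737ebaad61b175b177b179b17bb17db17e27b05af7698538b35307c35eaface7c77d04c02ba0dbc360e7c49dafc1a3c362b6d7e37e446686375303afbbb432a9758a49b431506bb0f3a1e7a9d8ae4fb434b1bfe45fe0f057e5e0f8c365e0faea3fe0fcc0235a31c479c9379741c43fca3cea3cb12c6a921d5d96307d118a47a983e265a003297b7fc9a1f196c7aaf2aadfa43baaf0,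
  nat_lit 0x1a3280362701036777c54dd9a4d35c66a4d07b2b897f7d89649ba4dba86498f60e020e060e0a04c50e0e0e100e120e140e160e180e1a0e1c0e1e0e200e240e266a0b571342a46a836a856aae6a876a896a8b26e76a8d1db76a8f09ff6ab36ab82b3563f6db7368f4707e5ec370804a597082641d1db5708470867088708c708e81f1dd4b9080113190823ae99084908664979088908a908c908e9090909490961ecc2ce01f3a49f049f249f4cd873d1549f649f809f949fc49fe4a001f7249ee215c247a24b72588258a258c258ecb6b259025922594259625981efb258625841ed62f9b251a3bf93bf307713bf53bf13bfb1781030b3bef3bfd1f70252a3c0a,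
  nat_lit 0x26d5500e5012068f501450165018108f08901655501c501e0a82373f502450267b955d777babe965c243c8568b114709c858c85abc6fc85cc5ebc85ebc66e514320e34ae2f7d879e0c871f68879b879d4e8f595e7ecb70c8806907857735210f513703b10946e301ad44ad46ad48785a037104d1ad3d68f0114351af6c24ad42635a63601cdee48be488b4edb4fe074b77c9b4f8b4f78d9fa6759680b4fbadcc37fe13e8813ae484b4e9e487b4f20bff4ddb76b5ab635ed53af576678145b0dc62c588085006b153e5bdb9d3b4f522e3b487b8b59a45ba52ba4fba51ba4aba4c0b14df27213f785807450bfd22e18e835c6e8e868e754a618e843d1f8e898e81,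
  nat_lit 0x163f6277566b64d1a29aa295a2970d8d4183a29c24d5a298a2459487a290dccb3f2a592c08b2e485e3b2ad47b3c5b2d7b3bc1009ab5b24d72d473fdfb2e3e3b017d9216842608314830b28eb830d6c7e33f3831a83182d4524d9831cd38949ef491ed63f2aac15398b5f4ff590c24b5b868c3bdb8f9f3fdb90c424db90e3909790759ea91f3c61f1a3b2a3b1a3ae9eea0b6d95e40ea92f398b33a3b424dddd5b556fdce2dce6e9bfc942c29a4871afcab91dbc27c3c2b9c2b219b935a3acdcea294614d6e11f294c294e29502952295429562958295a295c295e28f92964296629b246a66bc87adae397acc65dacb01eb020b01baaa1b022b01db0246bd2b018,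
  nat_lit 0x13b350da73ccc0ecc0eebcc59648cd56bf33b795aa2fe727c0f0bda7e724c0ea5e9f5ed25ea124c95ec65ec25ea35ec45ec84b115ea55ed45ed6154d5eda5ecd333f65a53343a3fa24cb5e4ddd995d47a3fca3fea389a400a4028b67334401bf557738b14ac368f55e4b24cd68f30bcd68f9525d68ea68f128f74ffb68e768fc2606394e2023a3eadd97a3ec24cfa3eea3f0a3f2a379a3f4a3f6a3f87ddba3e81aca1acc1ad01ad21ad40bc91ad61ad81ada1adc0d931ae01ae21ae41ae81aea339233943398339a339c339e33a033a224d133a633a833aa33ac33ae33b0338d55032aa2da1f4b136f3852556f3d67306f4124d36f45100d6f3f3be36f486f36,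
  nat_lit 0x75e7dd128101c5cfc811c76ae5b6c04bc94ee9ace944c318e9aee9c5a3d3c94c607946af46b9c673c80bc75fdd06dd08c91fc946bff2c621e9c3c948c5f7e9c0e1a08eb8e1a8c817b20fb7a5abd8c051c821bff0ca58ea52ca4dea55c15fe1ac16df2d9de200c5b9c0efc72dbf94e202c31dc61aca55ea61ea5eca66a79bc705e23ce2409a93c649c7c9c7dde246b667c21bbea3c5abc63fc702ca6bea69c7ed5030d9d9503650380777503a503c1daf504050424a5f504637210c9e504c502784271f311607e5ecbad1bb3fcaecbb4eb7e9e5efb865bb506bebb30fb505b01971764d4831bbb147b38c9f9988edbafbba2dad97e5d5bafcbabbb33ebafe2967,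
  nat_lit 0xda5c88c2da64e96cc547c87ebc07da66e96fc86bb8c5c880c757c882da6888bf756b81b2414be4b4b58eb5799f80b590323ca251e4b788a2ac34a1e98b2b650270d77fffa768c27de6c2e875d39ebfc9e872c289c5b6b71dbd27c53fc5b4902f4cd7d3b04371c5c2c4cdc5c44495c055e879c5c6c5c8e876c5cac5ccc5c1b1b58fbb4bf72a57c4cbc80ec6e575894475e93fe93cb217e726c3c9c131a8a3c80c7619500d375dc764e8ccc766a47e9049e8f9e8f6b7adc731c768c270c3ccaadd357e53304a80448f7585a47ce275a8ccaaf8a2e1aafaaafcaafeab004aa9343b6fce0aad047de7b8446f9047a8d1c04fc342a2f1e7bbaa8bab27ab130465a8d6,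
  nat_lit 0x41e515266407e535e5329e518dd5b7e0a663a62bb7deab25aa8daab5af2795106b5f23710ab9e9ffc22dc8b5b4a3deeec9c2e9fcc28fc924c31fc9c44be9c6032df3dec45e83e9f8c55fc8a1beeedecac9b8c9bac9a5e9fbc623c9bcdecec523e1805e65e188c9cdb9c9b72eb753b818c28ac9a2ca50ea4eea51ca52e18ae18c63ee97538c40325da507a0deae166245ae0e6f540f59ae15aa4baacde32fae118467d8b07e45e932c800e935d8b4b430c20dc0af961dc7b9c7eec70baff5c7fbe26938364f023813313f650a503d650c65086510650e64fe1bbf651265156503589172c888b0033d67327bfd88b288b472d95d546d1b3e3788b688b888bc88be,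
  nat_lit 0x47e123979472e908e90bc2fdd788b331c14dc293c790c1adc6b7c787d78a48050b1d22d622da22dc22de0ad722e022e2072122e622e822ea22ec22ee22f222f48474e1ef84767a4b7d7d847a847c847e84804c37663977ce457b84848488848a078a0d2a2c2db952b954b95603bd7a2bb8a5b958b95ab733b79fe57bb94ee5247a7f37f5e1f389d4806a89cf89d389d680b781e958051de05dd37aa100bd728a66732fd666919613c323c1a992d7bb81bd61e78ac325c2f8c326c3286459e7ae74cb97a7130bc84dc563c964dd76b7ddc231e9d1b9cdc3c7c0f1c82dc94be76c3c1d68a107abe97cc56bc8b0b98edae8e97fc8a3b730c8b2e8e0c86f359bb981,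
  nat_lit 0x619ddc6e5eb9b926c92fbd2bdc74dc76c67fad9ebdf4be12bec4c930a229c92d3a753f363ec7bdc1c249bde16a9dbaf4be8dc24abc5dbe99e772c24c3fe1e7757ba18d8f71fee6a46eec6841be3aa72aabdde6a7ba436c53b551bbcdbe40e6a2a059a0788277afe3486d03bbb53a25bde49fa517ab1bb537abdaaa6b9805a05b0dd058b714caa9e9a9fe7a2925bbe17baa00a527aa02aa04aa06aa0886453b9d5544a7647386b90ae571b8a1b54eb909b90cb90eb910b912b914b9168465472ba594de2c18bae9e9e630c74dde32de34e9e6c98ec98cc990bff6c992c127de36409189757fb0b20dc104c1063bd5b270e72dadb3c108bdb0c10abecbaaaac102,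
  nat_lit 0x79f06629719d79f279f479f679f8616c16a679fa79fc79fe74197a007a047a066f8175734a8fc8dec1e9e98ca0335a2fe98fc8d1c8e0c8e2c675c8e4b96edb688512189376dae760c1f2e7638d34ce38c1f4c1f6bc29c1f8c1fac1258519c1b92f0f938ddbd2c8d9c1fdc90661c3dbd6e99dc908c74fc8a5c763e99ac50993856c5b3ade6c5fa03a8d3261c1e0cb4a3ba93aa93ca519a93ea2e7a9406c6091df4125412f66865a295607a0d94a39e0cda94aa94ca529a62fa2f5a94ea942a9473574e0e8e0ecc8ebc805c90be340c027ea38c927c987c9bec921ca3aea3ac3c0aac3d94a61e3e94bc567e948d950babdc239c832bcedc3e5be95c834c831d952,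
  nat_lit 0x484302795b8c8f57a1a59d5da073a1a79a1fa1ae88a1a1a9a1aaa1b0dc655ab7de595e0426d198ae417b95fb98b07c3d98b298b498b698b898ba98bc98c098c26e86d9141945c816c105e85eab93c056e943c680c5c9c214c813c818c581c814e0bf1cd8005c446c446e44704472447444764478447a447c447e4480448444865ffc80405ee1befe9ab79ccdbeedab49b42be6ceb459a8c9e460e6d1b443e60261bae0c3558c61be564561c061c261c461c661c8242f61cc61ce1d9361d461d66f863a808b3aaf7a30ad227faf739b73af78af75af77a92daf6baf7caf7ea3d566b18b4776a6acd4acd6aa850ea1acd8e2e7a5b5acda90519e576457acb0acd2,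
  nat_lit 0x69893ca989f0e2e3637b7ae50ce9acbaac98acbc90efacbe310eacc0acb7e2e09a862dda7f44a183e37b9f2968b7af96af98e378ae7c9e31af95a4a5abc9176125aa19f751c6083d51ca0e7351cc51ce51d051d2296d51d451d6169751da19e56adbdb28db2cc8c2c1d5e984462dc03fe987c8c4c4ffc8c6c5d7c8c8db30b0f681c48b7d88cee75bc1ccc09b276baf35c1cec1d0b921c1c9c1d2c0c4bf11c1cadbecdbf0dbf4c8bbc099c90cdbf6c02fc90ee99eb8a9c8b7c76fe9a1afe9dbfae1f7014d40ce40d0276740d440d640d840da40dc40de40e040e240e440e840ea7f3976795fc5c475af30c589814ac047ab23c367c481a667c46dc58cc58eabcd,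
  nat_lit 0x3c19909b2eb9a182a184a1861b17dc47a188a0dd7a2f9e559053a17b88103c3d101e20c3339774d24a991b1574d674d874da4a3f25c174dc74de74e074e474e657615dc48db0adbc41b5e3174f24adbeadc0961badc2adc4adc6adc8ab207a114fbdde5d36aa9fc29b8f9fbd9fbf7cb99e959e1793bd4b9934339fc49fc69fbb626d1a3c7c4b9fd09fd29fd4db779fd69fd846339fda9fdc9fde9fe09fca9fcf3de63e56803de5d6b311e5d90f17baf3ba25b9f9b14999fd9df5bb08bb063e090cd815336dd00faf6dd26dd46dd657a14fa36dda6ddc6dde6de06de26de66de89bc16e905c370c6a723e783f2867b2d67299b2c8b1dc1ae18b9fb2d3e41db1d6,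
  nat_lit 0x1a356fec3c820a35a59f3a8aa59ca39e9ebf901d09a1a3444fa5a5a1a599a5a20558055a055c055e05600562056405660347056a056c056e057005720576057875e062703a897d367d387d3ad2a10c8d7d3c67cd7d4009fb56511dbb7d357d334d064cdc4ce6e5a790e9ba16b987ba18ba1ae5a463774693b994acff0d6be58ad0f4865a19bfc416b65fe7fc4441bffb3145c40be7ffe4eec375c1a5c195d0fc08e21be0deb51be41be61be81bea1bec1bee1bf01bf21bf41bf61bf81bfa1bfc95021bd399989f2652cb9f289f2adb3d9f2c5a339f309f329f349f369f249f1d0e35d9492de052c96eba6ebc4a9b6ebe6ec0560d6ec26ec4447f6ec86eca329f,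
  nat_lit 0x632a43b31a03e5fcb9a6e5ff999dbb76a5f6af22bb78bb6b98a7b6376330437c80fb260a20379de29d459de660fcdab19dab9de8111f9dea9dec9d0f9ddf9de182bf73835689e59ab645ba000496ba02e59dba04ad95b62d9d65b9ffb9fda3022336718889f5ab1749354b8dafeca21d4631a035e38ce38f44a1afee9d31afea1367d8bd40f549336472647464764a97276f64784879647c647e6480648464860f41546f53654b89a3cdab19b9891b19a11761c903c5b98aa4807feb68c7a64066526f9291142fa39142911d4473758b9144581c54ee913e4aa291469119d65b689915144976443b7c687c3bd2637c6a7c6c666974177c6e7c707c727c637c66,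
  nat_lit 0x3da97940dc430ee96dd3820ca0728f6f3591a06f171da0747e7e5527a17ea0703059167f261030aa30ac30ae30b01cfd2e892d4130b830ba100f30be157730c4db42992bdb48c8d4c3dbe9884b8faf97c8bde98bc263c8afc77fc8d6b6f3c7bf6f31782fd09ae7e9c3cee7e6a3cfafa2c09dc201c2a1c3d0c3d2c3d47e5677b984d72e6a6a7f12db5153a2d3a2d0248f4f2c295984d31b4d96b5a191a350a34f189cdd2edd32c7d5c7dbc653e4f8bffde9c9e9c6c956bf89c958c923dd34c12d51f06d047d48b21ce3e9aec15478b21eb132b220affbb033b125b222b21bb2010b299f8e76d5c8d8c20be98ddb56af8fc8dae98ac749c8a9c77dc8dcc884c6bd,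
  nat_lit 0x612e366465a8be88e6b5bded08c7ba19be8ce6b2e65abe8ebe90bd97bd81be8a11c9ce1454ebc1dec1e0c1e2493952cfe75ce75fc1ddc1e4c1e6be03ce1cce1e77d98c467851c495af4be82b90fc41bbae85c498c497b87fc45bc49ac3bcb1f68c37166c8c457b887cb57ccf8c5c8c588c608c5e44fc8c568c628c648c49d54f1d4269f23195b02f7abd6375b1b6ba2aba2c286de5ace5af1c69b03f61d3ad3175598be41a95e6d8bf1abf1c3aeb1f15bf1ebe23e6dfb93db9dbbf20bf1895f11afddc3f110d6a986a9a654b6a9c6a9e08cb6aa234dc37915c21624d6aa86aaa4a4e5d74664819d188ea29f388ec1f8788ee729b2cc4363388f011e34a4588fd,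
  nat_lit 0xe104e108e10cbbb9e10e847bbe36e112e114bbcbb675bbb3abd5ca37ca3ebe2d9767234284c19f4276bf9f159f419f449aed9f469761326d00899f48db3f9f3e51175d327fb4b7b1b830b8323011e548b834b836b838b83ae54bb71f9f4b7e5c69c59c6b889be5849013b1bab98608c9aac8b20b327b8a11a927b1bcb1c0e58730cc30564d808113488b32406c858115810c8117810e3ed3811081057be330f195bd37bd70afc8eac803e991db76c022e98ec8c5c8e7c8e9c7e7c8ecdb7a7cc5582735d611cd7a25a756a9ed86aaae82ae84a1fdae7d7bbcae86e345418fae802ab82abcd0952ac02ac21f132ac62ac82aca1ef32ace2ad022ed2ad42ad82ada,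
  nat_lit 0x1af82c5617df0f112cc92cc32ccb2cc72cd104982cc52ccd2cd52cd32cbb2ca92c554af42cb45d67227d30af5d5c4e575d65113d5d5f5d6304d71b512cb65d6c179d92a26830e636bb21bc4762abaee3bc50bc49bc52bc4bb3b9e639bc4c4b6b9c647190541de7f5c3f4c2378d449df9c3f6c3f8bd87c0cdbedee76ea03fc29f0bf20c5f000e0c6b0bfa0bfc0ad90bfe0a950c000c020c6908a7003f0c6d0bdf8dffa4ef5ad2b9c6b9c8b9c1a4b27a3be595b9cab9ccb9c3aa33b9ceb9bf6a368f2a059c06fe442217ab9f149f199f16914599d91a6347fd7e6c8fef9f139f1a10ff097adb3911301132113411361138113a113c113e11401142114409711148,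
  nat_lit 0x86bdca30e380e3a0e3c0e3e0e400e420e440e460e480e4a0e4c0e4e0e520e54035d0810cb5b22392235223b2230223d14132241223fca9822330bd91fbb08973f7d8c5054e4e406b2a26b7f4b4fadace409b27d7bd320d7ade7b263b29f6ef51ea92c31561c561e5620140d562256244b5756265628562a562c562e5632563413621ced819854ff9e8889599e8a3bd788594b5f2fb19e869c7967389b87dafd051825d6814158180f8d835b7bcb94719d8b2faf4b5d7dfe6ba50d979e2425cb06852d087afb002b34c3092f20cd3fd3a61fb2cf7deb4b51a593b2d2b2d4b1d9d1bd508548a705870e71794d7946794f794b79516bab79484b536c8b79527944,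
  nat_lit 0x328144ec719699c1954799c3999c939f581e99d89887818f99da99dc99c4d9537f16833241d0e4e9b638b63aa898b63c5123b315b098b63eb191b32be41e99c84aaa60eecb8e70cca2b7244f0b9198605defa8ff50d0e6635596a5a092a6bd1a3a7b3aa41f3e66f337858ceed58966658cf08cf28ca085378cf44ecd8cea8594707d17c764f5c4b2bbc0c3b772d5c003bfc3c420c4afb391c4b0c463e835a50e08639b2f3455c156bc2cbbd5cdaabffec158e741a32bb691ba9fc15a22c7e73ede6920f13233323f323b324105e53243323d32473245323732392d8f324e32318905880d413c4b596b538e529cc11541988354f45814003b05979cc29caf9cbe,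
  nat_lit 0x3651060a13339518950d951a950075b1778e1db3641b26e9951667d5d7bf9511081c4625396b77b075ad17793c2b7d2d72f3077d7d243b20763b59677d3002f3206463672f5066f266ec66e766ee66ea66f466374c3926a766f666f82ecf66fb5f785f7a5f7c5f7e1da95f825f8407755f865f885f8a5f8c1d915f905f945f965b350e5b78c5843964176d81e5b9b22b4c358d9d999bba442bcf7ca69d20ad354abb19c93964b7ca26ddb7c7b7c93b2a26a1e52ab7c299ceb7ccacf5b7c5e52d6f842d514c5e93e567c3a47da47f595a936792ef7c9ea482a48199d3a479a47bd2e499be5aa3e854c1b1e857be38c06fbfeec517c51ac519c51cc51e99c67fa7,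
  nat_lit 0x4e20715b4e7265f5afbf99fea411afc17345afc38345afc4120faf004e82e383491a43ae7287e35aaef4aef6975aaef83ef5aefae35d9bb2aefc83499f89765043431ecf036368606862686468662ef96868686a686c10ef141b686e6872687483315892678e9232922d29515b6d794e5ef59231922b8d1b90c5831d922792434ca462de629762551fa962f0cf4162f2010f62f662f862fa62fc05cd62e262ec5a127f1f5b09e2d6ac66a5cae2d98189ac68106d745393a7ac6a04635b0bac648d23060670aae519a4b7415db7527a99e498a577b754b536af57af8db750e49c01eada2d10b58e248e2632898e2877aa8cf18ac384418e2a8e2c8e2e10db8e32,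
  nat_lit 0x1733f0b344a9a4d9ab69ab8d9c38cc68f979aba2d439abc9abe9ac03a6e9ab42c6904418337e7bdb281c344abf5c050c346c348e7bab825aa07bfbfb5c9b1fd3c103f805b385b3a5b3c5b3e5b405b425b445b465b485b4a5b4c5b4e5b505b525b2f2a5365d1e7e3833bc3ac0cbfbfffbfd0c3aec3a90c2bc3b0c3b2c3aa2a453a3b3414690eb134b136833d5f15b138b133b13a9a00e3c9b13cb13e96d39f9238ee1b3735eb39000cbb390238f6390438fe3908390638f838fa390acc5b38eb86bc73804b05ae54bc2dbbe0610c833fbc30bc32bc34ba7fe633bc36b32dbbfb0412451a380fac37b410b240931eb412aea68343b4140727e459b4168237e456,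
  nat_lit 0x1d9d711a7c9c9ca89ca5951b9ca79caa07d564d54b0b971f94af7593da45881574c97551105d0ffd76ae0e1176b076ac2a3776b476aa4b0d66db76b65af3d15915892dbc80aaa1c9a5d136f5a5d391a630e3a5d494b766d94b15487dde995603cc4d37f03863386b3869386d385a386f385c154538713865386738733876385f37f64f014afcba9cba9aba952dcbba92b967ba97ba99e5caba9ee5624b69e5cd8edf4ac1508db8b6b729b8af0e13ad25b8b8b8b4b8b1b8b2b8bab8bcb8ace5650c7ecaa50c800c9b0c860c880c8a0c8c0c970c8e0c900c990c9d0c9f0ca10a8996e879bf9cb8af4caf4aaf47ae23adbfa75ca1e5af496a6baef1a2577cc1e36d,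
  nat_lit 0x14001404df191408140a140c140e14101412141414161418141a141c14201422051f04b7057f05860588058a058c058e059005920594ca8f059605980580057981319db9a870b7d09e29e52f8c5db7d27d6d9bed8997e37cacfdb7cfa9a6e52c63f16d7c1f496d7e4b0f6d806d8203456d846d866d886d8a6d8c6d8e6d926d94640e1cd26410525164164b096414640b610e641c641a0e1d3703641ecf59640c07a3060f0ddfe6bfbebabebc4aaeb21fbbe3a461bebebd04b928e3e6a1de359fd25b546a1d6e5470033f547d54794ab0547b547f5472547454765481549044292069cc2f209f20a220a420a620a820aa20ac20ae07d920b020b220b420a02125,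
  nat_lit 0x88023b51910c99390e0faf5db722b22d3469b4f9b7c3ba45ba469eefe5bbba418e792e0517a73ff19a977f230c21346fa5342b23850d0cc9a5360b77a531de370738073c07400742074407460748074a074c074e0750075207540756075a075c1448020d3b1d3b273b2302373b1f3b2b3b250a413b2d3b2118070eaf3b301483478f41db6e007c04aec70341b225b22a0cc33f9f7d25e3eb95852f3d6e02b2282d0c1bcb2db53c0d851f89ce75399fae9fb01343180395839fb28b352db7db694acd54142f79e5edbacce5eaa7d9bb4aaa87b325b86cbb4ca669e42a76b8526bda91498b06ac00d528e94994499616a04998499f499a498e499c49a1210b20e1,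
  nat_lit 0x4f65680b23d1e915e912c6cda860badabe68e79cc30dc7aac7acc643ab60c63a15dd4a770a14e7a6c2ebc30427f378a9bc8bb3b5c306961fe7a9be597b2d73012d2fcf0542eb6159614e6150308f61520f5509376154615744fe32d0615b2e39006e0072d82700760078007a007c007e00800082008400860088008a008e009000210cdc0ce00ce20ce40ce60ce80cea0cec099f0cee0cf00cf20cf40cf805516c3448f6118c32ceb0f5e2f6ad230e159a998e87b0faaec58525e3bbac90b0f85d715dbe5d833e3d5da85dab5dad5daf5dd05db10241034d5dd25dd45dd65dda13da02ba1ee5e2e2acc4acc7acc2acc90c25acce6451accb7545acd07954e2e5,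
  nat_lit 0xd888d88cd890c7f3e92ec7f8d892bb7bc4e1c4e9c5f9c7afe931c64fb80b0299960bac62d872e92dc7e8e92ad874c066c77bc773c531c7a7c7eac7cde334c79a4d412c87d856c7dee929c7e0aba4bb73c4d5c4f0c1bfc6cfc7e2e926c3375dff340b184e6dce97e7977daad0e23997db9fe7aad23dffa8639849aad4aacfa15b862f04e88008e339ae44ae4697d4ae48ac43ae4a8559ae4cae4eae50ae418d6d59294a311357e847c4d8e8449fe4ac40c4dac4c9b903be6ac206c21fd296c4d633bf76f604f1e84ac4eac4ecae13af15c4c7e84dc2b3c2d1c0a7bea7c376be0f6ad7042f37c9e885c52cc1bb3df9d3fcb8ffc2b1c5f4c30f9621c5a6b40cd400,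
  nat_lit 0x411d4ba6246e294d2423a655aa9010c792da12e7564d9459957faa97e2174c2b2d924a512072691a8cb560faa627a78ea7908ddb91934a41a792a794aaa7a79688ac50549795ab9138687c8fabd9abdeabdca969aafbabd6abdb6d8fe2b9abcb50f050f201b050f6298f50fa084350fe51005102510411215108510a510e511052eb96fa2933c7e4e928e92bb619c05dc66ec5d3c50fc6dbc7e6c7d7d86696f769c7938802d76d3371af55159d789d75156b93059d7744c357cc821a9d72aaa836b52beae2357d7a7d7c7d7e7d807d82708361107d867d8852857d8c5ab57d8e07c207c607c807ca07cc07ce07d007d207d407d607d807da07dc07de07e207e4,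
  nat_lit 0x2a23307d1151c38cbdebc385c0806063c38aa7b3b70dc387c389c38e6b90a89629ac61de6fadbda2bda0bd9b971aba23bd9eb74bbd0bbd9cbda4bda6bd98e68337a51cdd893cb974b971b973b7c8644bb976e57fb724b978b97ab97c9fad4a9c0417477d1949c0839718b7c6c07f023bb5f1b683af63ab07bef3bf97e7dd04692ae9216d5589605baa9c64490239e215aa9e5125aaa0aaa2aaa4aa8faa7ca3ca467d4e695fc1e880bed8bdcdb5efb313c5f0bf85bc7ac5efc5f2c321b303e88349b75ea87f01a7a9b3d3b3d5b3d75121b3d9b3dbb3ddb3dfb3e2b3e0a6aab3d16d65e1c4e1c8b705bd02b720e370b01fbc76c68eea59ea56ca5eca57e41aab42,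
  nat_lit 0x7531176f8f4c9ca93287a4e1aa3c5bb842b1a29d6f4417574382aa47e1bdaa3e8e8d89eb4df0e8e9c322c73cd696c075c73eb8a7c740c2f7c529c169aa5bc73ae2090c1608160c1a0c1c0c1e0c200c220c240c260c280c2a0c2c0c2e0c320c34152a04328b80e510b728b721b723acc8b68db72ab725b726b6c5b72c8b97e51328532469534fe8d2c70cc6f14db5b41daecdc0d5c5fee8d5c64dc70e899d2413656f95594f7be5fdbb71ae479d88bb727bcfaf1dbb74e5faa97bb62f02494af177406f580c648d6fac6794d3b4ada7e5b4b2b4afa971b4b4b4b1b4b60c57b4aad6aed6b26706e8edd6b8c746d6baa1fbe8eac25ec748ba75b8ecb473c30910d7,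
  nat_lit 0x741c81be0ab4e3284ebbae01ae12e32ba869aad34107624b86523795ab8a640d706853607041e6f8aeb3e6fb25edbfa2bfa4bfa6b529b0b3a6f3bfa85167e36c635f26fbe1b773092c4246c77302730d7307730f27ae73043bfc4a4373267300388364ed195be91dc7bae91aae3ca306c555be76c78fc7bcc6d1c71f9870959512b9ddda1241c97abec7e874dde0bfc1c977e9d4e8bab70fc979c819c6d5c94d8eb7cea6255fc27ce6c4c27ee5b8bfcfc159e781e77eb727b96db79cc27ac278340807118430bbd2e623bbd4e620bbcfbbd6bbd8bbdabbd1bbdcbbde84349a9add9edda29bc7c969dda8c6e0a9abbfb3e9d7c96fc95dc691c970bff9c6dfa774,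
  nat_lit 0x2be3667e19faa36fc135b44064cbb19ac137c12ba463b742c123c138a7f9c13360836695d4c2e8a5b445c65c5f853143e8a2c277c65ac659c65ec660c29d98097b5609536cf4a385648f5f83b5d03bf0b5d2ab05a9afe4cfb5c1a2e99c6f8a6f73630bc15834a352a35431413bf4dd43a356a358a35a5129a35ca2f78f808450275d408e57bb9d589d5a9d5c82129d5e466169dd9d609d629d649d669d6a9d6c735f7ed5945cc5a9c5a1c18c7d81b413bd48bc33c5fcb48de889e8869d69c600e1af5ac770ac97329734973671a99738973a6be5973e97409742974497469748618338e91a27e6fdb25ee6fa5d4abfaabfacbfaea397b0ad489bbfb07a595ecc,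
  nat_lit 0xd23825a356c6e8399a04e7fad242c049ab0dc410e836b319c4b8c46fc4b7be2f0a5191876a816f717fdd94b3a337397621b1a33236ff99899517a338a33aa3354e2e49554e304e324e344e364e384e3a4e3c4e3e1d0303fe4e424e444e484e4a7b9e409e4967e56ee6799905957d6bffbd6ebd6bbd70bd69e676bd4fb1cdbd6c146414660f68146a146c146e14701472147414761478147a0eeb147c0f611482928743ee7c2cb69cb697b69e9f086ac5b6a0b698b6a2b6a4e501b6a69e76b69a2d9816ea4bb305df4bbf22004bc14bb64bc74bc3371f4bbd4a6310d34bb44c1c69bc5493dd50e9cadd52c665dd54dd56c7cec6afe9cda7b7c960c677c6a9dd5a,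
  nat_lit 0x14c0661a803aa74b4659204ba7a0dfb5a7a22e1ba71da7a60b41a615a783a7871792909f6139e8dac780c7139636b185c549c3f9e903c6f3c3f3c782a876e900502b2ce399a8e86ce86ec5ac7a51c06ac280e871c5aeb6efc171c533bbb5d38aa0766f9495e068619d386fb4a31b92de10c9a31d8575265b937f9803a318a31e76cfd3cc211bc5d9bfdbe87dba37c041c5dcc5dec5dbc5e0c5e2e87a1013d3d46af889728aa9bfd9c1c2beab07d19a02c128c1c4bbe7bedcc0c2c1c62e25e759086910e31e12a320a322dd2566efa324a326a328a32aa32ca32ea33097e26c631a224e0d4b07b23107cd66e6b2347bedab03e3efb236b238b23ab23cb232b22f,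
  nat_lit 0xd79cd79e5de1c6d7c797e90fb4acb323c61fc31bc6b9c79cc79ebf8bb384c79b2e686db02edf8bea8bec8bee6d23d54d8bf08bf28bf460698bf68bf82ee38be93bcb73180cb7e391ab0b733baff1aff69a08aff8affaaffcac814481aff2afeb3c1e291f3c223c243c263c283c2a3c2c3c2e31473c323c343c363c383c3a3c3c176c137e1772177417761778177a177c177e1780034b024317861788178c178e5a095ac95a0f5b205b1e2991058d5a115b245b22560f5b1c5b265b285b0c5b5d74c2685bda9ae974c7b1c89ada9cda9ee977c89cc2f5c89ec7a5c88d9fa174e75c0e5c1019cd59d15c1240495c165c185c1a5c1c5c1e4ee65c2031d35c265c28,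
  nat_lit 0xac2792f2176b688b684b68a345c0c23b68ce4ffb68eb690b692b694218cb686e249224c04800b2f511a511c511e51205122512451265128512a512c513051322dd72d523282328432863288328a328c328e32903292329432963298329c329e3552355435580406355a355c355e356035622c4a356435663568356a356e35705ddd097ce0195e125e145e165e185e1a5e1c5e1e498349415e205e225e345e0d5b2c1b898f35339be10f7d7fa9969eae5ec920af96974de1845ba9538f38a2eb9fb498c8b07ae8ecbd5fc74c242750ffc73fb959c74ebd14e8b6e8efc6eac74adf62781b950fea0fc785b69fb3eeb06dea0cc9ebc9ecc9eec68dc9abac92b1e4,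
  nat_lit 0x2821192e61366764301567596762615362ad51ad35fe67601b4f04d9675e6769207707b8802de47e78375b96b4e480b5af88b3f5b4cda827b4e2e481b4de927b55732d181bcdc273c223e8b98e29c035c6a1c669c5b7c6a3c6a6c6a5bd0dc3eb53272a9f94e0beb2beb4beb69501732ee6bab449e6bdbe92beb1beb8580d68b369806fbc2aae6fc26fb36fb56fb76fb905916fae6fbb373d6fc069776fc66fb16a593d3d6f9ce7eee7f1bdfdd0b8ac57c0ddc0e2bd2fc3e8c227c3d9d0bac3e64fe64fa923f94ff21e234ff44fe3223c3dfb4ff84ff64fec295f4ffacdfb4fe47b543db37a7ab953e77bc2605157ae8341bdc25fc262b845c264bd29c25cbd1d,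
  nat_lit 0x23536f971d68e79be798bf3163aebaecbcc0c2cabc43c2ccc25bbdc9ad2fa70ccbcc7b61015bbdcbe686bdcc269db115b977bdceb68fa32dbdd0e689a6088615500a7ee92c51e70bbfe0bfdfaa3db000e708a377bec9e692bdf6bfe2a1ec7e8146fca40c033918fd81858406a7e3a7e4a7e6a7dc2ba39549a7e8a7eaa7e1dfcd150e455214ede5c5ba6cba6e0c47ad65ba70e54cba72ba74e5c2b17f150572e95f75a04c9587a6fd017f753789d2b816b378c4a6aab1aa73b01cc4a5e831b0895ced689aa597ba8de63cbc6c65d7b3a1e508b6f9bc6ebc70e63fb853bc698850735c67de97549cc99a2be62bbc06614aacebbc08a6791d8fb7c17521bc04e2e4,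
  nat_lit 0x825ce12d43774a356ba7296b5a2d8fdd8fdf8fe10e7d69160f9d8ff88ffa8fcf19c6331268e5af5a76afaf5ce3715daeaf5eaf60af626d8baf64e36eaf59aae12e9f8c3815d2bf939646aceebf9515edb5ebb5dfaf55aafde522bf96bb2d963249bd213b1b6d2421294f9220d6bb51cf22bb515d92220c511e3349a0806f771d73354ce38c5594844b2b9476947d9470947f94798f9e9482948094869488947ba4040caa73c1b7a1c2a9e85f85c0c053e85cb8f7c53cb83bc265c53ec53aa34d04215ca6534c78e6d1ad78e878ea78ec52d178ee78f078f278f478f6535930a3001218b0005623fa23a123fe24002402240424062408240a240c240e012f2412,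
  nat_lit 0x24bf69415a500e3b6b526b54d03d6b566b586b5a1f6c520f150103116b4e279c6131907a43b9a7301a570d11a729a72ba72d8fc517b712aba72f0573a7259cbf56cd7b5c48e0577795464e8b954a95441f6417b58fc79548954c954e7b34d7dd2b902b94d9352b981e772b9a2b9c2b9e2ba012a72ba22ba42ba62ba82bac2bae43407dd04e76a22d6fb29d3aad14ad1114fdad16ad13a1448fc9ad0de2f5ab2c0f7e5ca90fab73679eb1a14ca99ce1130307056ba99e8932a9a08fcb0fc30fa54d79514f876f920ad6b95b6b29532d8992109212921492169218921a8fcd38ea17d4781f38e783a9839b83ac83b083ae60f7332683ab7d0f83b20fc183a783b5,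
  nat_lit 0x87a0825f070aac36ac2bac2d7ddfac2fac315b47ac339f68ac35855f72a1e2cd124a69f483a37cd38dd37b8a9591958f93f38cb921034aa095938d69958a959432044e66445a9a6c85040f15d9a577829a6e14779a709a726904326f9a6a4e5f46a11ee334218fbd56212c93a53ba53d0e45a54057839923a23773799875de4755b054125586561f8fbf93779881987898821a6198861e7f6fc19888d8c5987f0dce678929e92c916c666c68d0796c6a6c6c0d194e933eb96c706c723b336c623ee111772de5c394bb8bc3968fc1c06ee7d5c391b9b3bb9dbe4dc393e7d29de0e0d0b1f34787b60fe0d8e0dabe398fc3e0dee6a6b623e0e0b543ca36ca38be2e,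
  nat_lit 0x8340838083a083c083e08400842084408460848084a084c084e085008540856269179e20c827a127a147a16d1e97a183f517a1c4c0f7a200d1f797d50237a107c8752f31cf17d107d017d037d057d077cff4c0d7d097d0e4e977d122bab7ce897f6db8f76ffa00e264da0106e15a00d531ba01283aa9d233ebb887ba015a00a81ee7faa81f879f397ffa12ba12d4573809a7977a12f8879a1329d3f8205dbfb89e35d3122ce91659447a490ddefa1558295a492a25da494666f7fd19d70a48e225fd71648e7e8fbc4e5c76bd71cc044e8f8c76cc2bdc2c9c76ea331d7209d362a9016fc2ae45ef65eec2ef55ef05eea5ef45ef25ee85eee5ef833fd2bbb5f45,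
  nat_lit 0xd654d6569189e8debcc7c72cacf0acd9c2c0c72eb7bbc730e8e1b97da8cbd65a6052827266cbbc82ba65bc1551a55bf3bc84bc86bc88b905e645b161e642609b0e2e206e5e2ee552b351b10312a1b870b822b86bb86db872e555b38bae2db0876005226a563b634056a91dd265212bc7797580987638958295843f5b82d195894fc33f8722a2ac3892f7a5f10c8be2cfac3aac256c033ba7569d65136531e2cc2fcd774b63699d416863a1eedc8722b951d190fea1f0a1f22ca17a019381a0e6774331b56c4dc358bb7ebe499d3cc0745101c35ae7c56e13c357c35cbe9731af4c4a63112cb322b191b091b2d69791b4242b91b891ba91bc91be457d919d91ac,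
  nat_lit 0x1dd2fee3031be05be06e697a23eac8abe08e694ada0be0aa37dbe0c2fb7a00bdbac249fdbb4e999c0dec8fcdbb6aae3e996c8feb46fc87bc66bc8ddc887c7c3718026fd8087a8c0a241a0a1e073a8c2a8c4a8c6a8a9a8c8a38da03ca8b6a8be6eb22ddd44f4a9c0a9c2a9c4a9b4a9c6e125a9174897a7a7a3995a3b44a5431564691fd3292bca28c6f9c8f9e082c021ea2eea31ca1bc9f7c7d2c8ed57ade088e0588e01e060ea2aada5b466e0624891ca19ca22ea2dc9e3c96dc999bca4e8acdfaa61b74d4fea16c557c877beecdfb4c9f3ea19c9e1ca00dfb6c9b7dfb8dfba1ba17c5d251c1a0f47f3102da7d8a7da15efa7dd12a917b906499fabe075a7d6,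
  nat_lit 0x224756ed229a46579a5c4bdb122bd9979a609a621f1b9a649a669a6822fe22cb3c0e2d21602fe3d9a355650b700db19bb1a2aff9b1a4b1a6ac89a5fbb19d385e32e155aa55a93115560656082709ce39560a560c560e561056125614560456022dbb40cb38619e279e4e9e5081cadae99e529de97a739e549e564aeb9e4b9e4d95524afb2fffade9a9eba7589c75adeaadece31c52d5e31fadeea1db9e49a9005db418aa727fe428b310b1139fa4b312aa9fb314b316b318a2c9e42b7281a18a7dbd6f664cefe436b3646a61161cb366adf3b33ba455b368b34be439b36268fd675c282be06f610b4c2f20a7610d3905610f611161136115461f611804db6108,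
  nat_lit 0xcb672029202720c620c820ca20cc20ce20d020d220d420d620d820da20de20e0524adf33436852505252525452565258525a525c525e04d5526252645268526ad100383d76d8c41ab411e801a151c076bf9dc3afe7fe50abc37de7e0c418b4d154483dac894ae2dea9c345bd039bac8bac8c2ec5810f4665ac8e3129a9fae2e11ba4cb7f1baa1bac1bae1bb01bb21bb41bb61bb81bba1bbc1bbe1bc01bc41bc6cbc72bd2289603952c432c472c3d2c492c452c4b220412332c4127132c4e2c35698234164403b59bb5a4b41be4bdb5a1ac87a045b582b187b5a398a99eb6aa4051fd03e78e5f8112a88b86e321f6b128e3c7e3c4ac821f1db12a5b29b11cb126,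
  nat_lit 0x61a003ef121c9431946672afd789373783539468946a946c7457109b121394645e588e4e5e6a497ba4b64c92a4b320fda4b88320a3c7487b81a966dd4a67ddf52ab7767693b59233a513a654a651058fa65248778d3f832b154ba658dedfa5df7654755ad45b3fcb765e49f5765a0033744f766476621549765c7666766b76512cdf3ae4d7952d373ae63ae83aea089f10913aee3af03af23af43af63afa3afc293f0b2b53679d928e939d94da9d83af75179d989d9a9d9c94d79d9e83239d91423983351b0f0c9a8360835a8362835d83662407223e835e7e1b83688358d38bdf6d155a155e15601562156415661568156a156c156e15701572157415781423,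
  nat_lit 0x857a2eb151c2858a665c401965f93789858e858c85878588859085928585d4010a2b0a0f0a81ca9d0a8c0a8e0a900a920a940a960a8a0a980a830a9a0a490a883da16f32685eadbdb89fb91b4853b0e5c296e78bc096b8d3c298e716acb4e788080f1a8067e683388d1847638d1c8d168d1e49818d148d1a3fdd2d4967f08d2f8f2c65495c7ea5708325a572de75918fa574a576a578a51b86d1a57aa56f29a7157e4fc8943c47d4945283559457924e72bb4c986e33945849ff90919451924288f2325193cbe73dc14ae73a83279173c14cb9cbc14ebc2bbc1fbf21c0bf88fc1a2c0d7f1a4667f567f967a867ac67f73739210167aaca8e003d08a91aa567fc,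
  nat_lit 0x225a53aa48a5b893bb20bb226ad2b859b835bb24e5e5bb26b84cbb2845cdaab62250653834a03c98654c654a654e2cc6175165501f8d42b74055655447a76535b1f155b8ab2bb84ee44ab8471b81b849b841b850b84b41c3b84db852e54fe49671e450527a0b930b4f479309930d88357cd79304162a9306930f73fe7a0c7a07dbeb6fd521787f927f9438977f967f987f9a7f9c3ffb666d7f9e7fa07fa47fa617a118e95cafbd58853fbb03aac6baf5ba1be6729f9d6603a853bd53e67522956ef654da7039146b7e77048e7e6a7e757e7d7e7b2b777e797e7f6f5f7e737e8029ea29c129ec29ee29f029f229f429f629f829fa29fc29fe185e0f5f2a022a04,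
  nat_lit 0xdd80ddc0de00de20de40de60de80d5d06e50dee0df00df20df40df60dfa0dfc61a93bcdcc06be31be33a24baab8be34a1d7b57da4c7bab8bbc5b55b5dfbe6a353ba5d72750b30d98b500d59d4fd8b528b5433f51c3b2e8f8b568b588b4c8b4ed9994c8d86198621861d06df861b8623861f6c87040c1d05673a862586308614a4376f9b59396967a27b9f85a6d733f16c89a6d8a42f069f9b33a6dadf1fa6d5a2fd42a333716f21a4bd944ba4be1c350404a431a61773fa4025a618a61aa2673bad8b7f6ae7164995ed173b95e82e871cff069b73f295eb88f1162e858295f03618361c36203622362436263628362a362c362e3630363236343636363a363c,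
  nat_lit 0x6922097f2da8b8f2e56db8f01e27b8ebb8f4b8f6b8f8b8fab8edb8efb8e94c1d3f3205b31ba9a635996780b17eb25b989fb188772aff797ba537aa0faa5ca77053a753b24eaf2765462953d553af53d7493b53dd53b153db53e31c4153b453e42248224f0010231f2317231123190b6b2321231d2313231b2325232322f923267cad06c80baf1da78abba294a8e7a8e4a8eca4e368eba8e9a8ea9febe0857caf0b1f3e0d131de3a3e3a0a2a7a6b2b064a71bb066b068b06aad89e30c1325a113776e1dcc28d2a7cd7b178fa9a7cf30e191a469716f2716595f1ba7d0a7d21a6d5ad83711dd635adc5ade5ae05ae25ae45ae65ae85aea5aec5aee5af002955af6,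
  nat_lit 0x77fa20e54c1ebcdabcdca7ada3a0ad59bcdebce0ba61bce2e655bce44c15bccd02c979261dd03d4f9df09c5969b4a2bea2c0a2c2a2c4a2c6a2c8a2ca6bafa34e6f8d07c58eadc9d8be19b6dbaf72df3aea06ea09c9dac9dcb702ea04df3ec2093d89706b26bfe69abe1fbceb66d10185bd7cbe22be20b933bd06b9cfe69d9fa207612eaf95d0e505b6bab6bcb6b5753bb6beb6b7b6c0b6c2b6c4b6c695d2b6b84fbe67e225b1af7b66cdaf80af8789d7af89af82af8baa69af65af8caf85e3777ef77e53928ac9d1bd83ba8fb4e5b37bca0cc9eaea1eea21bc7dc28caca5dffc0169df58893fea0abf1bb8c3b3e7b812ea0dc9e4c9e6c9e8c693c9a7a585b1d8,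
  nat_lit 0xa0a72c733844beff9a4fe62abef0ab47b4c5bf04b3ebe4c8e4fce6d4e6d7b5c78473682d684fa74a9a5d9d07a74cdfa3a74ea750a752a754512ba631a749843637fb7ad3df90ea12c781c889b4c3b18dea15c9f8c9edc9fae6f2c9c1df94c7c571325beb8eaba77c4a06a77ea7791b7d334ea561a5819103a77aa63bdfa5785f11b4173f09210f4b0b65095f9a9d791da838583c326b975747289aa09aa4e00fa78a4a735b87c284b766c286ceb4bfa3c281c288c283ba5ab46bb8eee7834a6b268e2da07d4bbca2b83de64b1b438991b3b3e646bca8bcaae648bcacbca65833464646c1217fe792e795bf22cf00aef9c2a5c2b4c2b6bc45c299bc37b04fbaa2,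
  nat_lit 0x5d6ae14751719be59d449d4624f39d489d4a9d4c3493569b3ba94be79d529d5489da275653cbe60abb9a6b052b9de60db80db86ab327bb9cb017b09f97f5b08259a91c5352a783e01baf83e246c983e483e683e883ea83ec314d83f077c183f277fddf9b3c428e908e928e948e9685616e2f13c972b18e9a8e9c8e9e8ea28ea4341ce193170a3422342434263428342a29d5342e301f3430343234343438343a268cdfe3736473667368736a736c736e5d4e72db7372737473767378737a737c4e6251500ff903b75152515451565158515a515c4b975160516251645168516a817fd98e86efc842c55de950d994d996c548c82be6dec121b74de955c841c279,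
  nat_lit 0x7ecc7eff25e5e6fcb28cbf990303bfb2bfb4e6ffa35bb0a7a895bfb6b4b9ad5c71e7082b6f09e534b7d59e2b02dfb7e46be3a60fa6cb9f33e5372e236a716073144c11aedfe79d24501588739d269d2881e780b99d2a9d2c89349d2e9d3200911251439a322a2dcf0d5785fc85fa85fe863d616e860065dd8641863f863b8642dfd0dfd4dfd8ea1dc3fbc857b4d53d57ea1ac9f5c9d5ca06c5edc9c7b2a1dfdc6cdbda1c60f1e964c235c860da22da24e967c862ba91c864bdd1c866c847da26239562bb194ce47b8d429c47b4c869b6b4cae478b4cce470b4ceb4a96542b49d752d6b629ac50c419453a573a6705311a80e4163751b2431967fa67ddfeda2f8,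
  nat_lit 0x429721737ce67a39a6c5898f1c17adf4adf27701adf6e31eadf11c6be3217d3220bf2f6f638cabe8abe161f3abeaab75abe334cd593de2bb80573e436399abe41dea27257805e5d7b305bb022ccabaf8ba29ba05e5d4257369e3bb04bb00b0831e412299048b6a11aaafe2c78d63ac0a9df29a63018bac0cac0eac10852997e5e23b207b160c0a594ada4adc17fb4ade4ae04ae24ae44ae64ae84aea4aee4af0572104eb2ab057f857fa17f957fc57fe58005802580458060245580a2b5d581005ae75c8071376313978763376357637762646cf76391805763a1b25762d763d2ea599b3142925639a0599ff8fe99a039a099a079a0199fc9a0d9a0b762e9a0e,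
  nat_lit 0x4c7a44d138f3befc9b3fb99fbefb760db4d2e6cfaf76bee9bef5b779b8fdbef628d8905f01229b41dd679985a3b68d5d8d499a5366d794ac9715a3b829399b3c3d34cc688868e58e9983bee2e6c917fd9c49bc09bd7b7fe7b7cdb991e6c6e58c4c4dddce6fcbbbd3bbf3c5b1e61cc002c976e9dac5dabd77e9dde952c963c81add7c2bf7dd84c855c55ec966dd86dd88c55be9d0c14fc1f9b799e954e9d3b95c99ec5724946039017f4b36275b418c0796d17de3858629ff0df5523bd961918a45b2365e4412b689bc59bc725a7bb395b712b6ebe641bc74e63ebb295073363d0a26598c5a4e94ce94d094d2d7af840a92ad6233625d94d494d682535ac40a73,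
  nat_lit 0x26f914c95dccade8a9ffafcea261afcbafcd5b236ec37a43afc8afd0e385afc738796aff38ba372f79cd10e9a7069435a591162c9d76a70ba62106a3390ddfbb9cb02915613fe968c573c870b9a10a61c859e96bb6ddc872c727c874da46c72000cb04bdd666e8e311ffc734d66ac02da179c373c4849c5fc40dc58bc732ae812b360c959c8b24ed559815659b9d9b9e55238c5f3fbc7e159c8f35999c929c8dd7ec5a17d7f4e918c7b6e91bd7f6a9d6c550c253c307c7b8c7adc7198b1dc63c68065e60620be4b5b58ae4b29801b58c86e57961b41f5ce1e458b5895f3bb43b3c1372fe0476c0edc0f3bd8a67962543bf3c1bf1bdaec0f5c0f6bdf3b9d515ff,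
  nat_lit 0x2334d93f076b2e596a5e6a604a136a626a646a666a686a6a6a6c6a6e6a726a747e13043d0a33c4efc4f2c4edae03af1bc4cfc4f1e84fbf43c1dbbfddc353266576f29e5b6fa87e6e694790a178eb53d6029d44bfa7bb93074426a619a7bc54f92a6513705418bd54bad4bad66f4ebadb353be66e98deae4da9dbe671bd4d997e8675d932884be947c543c8229b3a6a19e7f6c824be1dbe01bdf1c826bc6b581197a02aa5a708c413b627c4bed258c01fa395e83ac423b649c4bce80ce83d9da305d6053305dc05de05e005e205e405e605e805ea05ec05ee05f005f205f6004541691a2441dd2e3ba86f93087d6231c78c6155214a0a90abaa4aaa0d3fa5e1ad,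
  nat_lit 0x21652cbc279507cb42ac3787cd07401d42b0418542b442b61c3f42ba42a642a81f771f7a0b121f7e1f801f821f841f8610071f8a1f8c1f8e1f901f921f961f98e01106191ea16eee968640fd9688885d3bd98688968b3e9796829684968e968c0602007162e493969398939a939c939e93a093a293a493a693a893aa62e693ae249499d524a6b76cb767a3ed68f2aeb7b769b76bb765b15fe51cb76e2529ad413ca417da45220de3796e8fa8795b461756af8faa8fac8fae38fb8fb08fb48fb667b413ea60e9e2bc54f02f2dabf4abdfa72c6b5ba8cee2bf25c50351abf10d9d3d2e00f7e14b3d4e3d503d523d543d562e193d5a3d5c3d5e3d603d623d213d66,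
  nat_lit 0x7e824ea3764ce6f1e506b6e9bbb7ad81bf72bd73bf74bf76bf78bf7aaef2bf701e896cd51e9e4179969293ced8399694649107d79696045f8e7193ab05cf957147de752e2c33e714ba9bbe24cd28795dbd3bc092c094ba8be632e717acb9bf4768d63443e09368d865d32e8368dc18525d641e5d5c1f0d6534ea570768e02adb4ab2459c7774bddabed9bdc33c8dbaf2bd9fbedbb9ebbeddbedfbee0777bbd398e8a5e788977bbbc96738ca5e61d72d7a487e61aba39bbaba847bbbeb31d345f702f8a3c5432610a8c008c028c048c06525b86f7378f34e20d67410d8c0c8c0e1d5378c33853e624bbf2ae589675bbc2bbf4bbedbbf6e627bbf0bbf8ac50bbee,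
  nat_lit 0x3e9f6b2dd594c6b3e8c0c30bd596e610bc0ebf4be8c5c1c1c6c8b6d5bba5e8c25b57969a7668e79ec2dec2e0cf407491ba69bb25c2e2c2e4e7a1b6f129a37be72cdc17d0542ea96d8d0b62f1b608991c872b40778d77e4ddb5c4b60a9228b60643c666fccb10e60bbb94748f991abb96b7f6b863bb54bb98ad7bad8b88e466fa05a719840889e88fbc0cba67d432b7fbc60ac210c60cc607c60ec610d434c6095c9f537761e6e6eabf49bb23cccab861bf5cbf5ebf60bf62e6edbd79af0fbd6d817819f3d5b4c6d6e8c6c6d8d5b6bb57c625c493c6bfc6dae8c9c57fc6d38193d2da233f7f91e855e756c50ab611c062c507c50cc50ec510c512c514e374e758,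
  nat_lit 0x2c5d8f8658a1a451a661e68a93eebabfb7d87b45b358e366bdd69dffe68d88e275eb95081b60e362af28af079f18af2a4477af23af2caf2ee3659a0a1b276d956cce5cf36c41a053a05112016f19a04fa055a044a0469def9a0ca0579d8fa05aa04bda7a48b3e970c717c88e579faaebc879c85bb6fbc890c637e973af24e680022988469d7c9d807c399d829d7b41810d8f40219b2c04a79d7e9d84da816d2c1f053d422cadb037b0453a57e39daa29b04821974913b0477a45e398b0410b475a9f3d916d99c968dd96c287dd98bfabc96ae9d5e9ccc697c96cc685c686c679d56288978923e8bfe8bcc2d5a96fe60cc615bf55c6b8c518c6bac68869e7d56e,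
  nat_lit 0xac53e520accb892b894b8962318b105b7b9b898e561b89ab887b6950ae9b891dc1032e98a71e9a2c0d6c914dc1ac033e9a5c8fbc08bc85dc6c2c8c1ba49b6c9491c98ca366e9bb4aedeaee00f51aee2309398dcaee4e3596a6d9f9faedbaedd1ac82c6c26d91de4861c63369e089e055ae760919e079b6f88b7567f9e02dab7026e4780025fb0e8b0eaaf33007de3b7afa9afbde3b4b0ecaf0d1211ca88b0e77e51de0d6bd97e6f7e4c007b7e62276d4a9e7e647e667e687e6d6f2b7e587e5d617e49525227989c989e98a09899d8d1560b98a298a47b4998a698a8988b494943e28aa54d55e4a8b55cb0e1b515b55eafcce4abaf37b35fe40cb560e2f26a75,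
  nat_lit 0x3a09e01513357f2919d37f227f2e7f305dd17f327f2b056f7f2d12af7f277f7609e16ade6a7ce6174dd777c7bbb08863b4efe614b678bbb2b3f2a9736ab1ac3d02b273855ec1e4d73c94269bb5ee9fa6b5f0b5f2b5f4b239b4cfe4d475238d0978622ead2118bbbd20a54c31e62105676d85bbcab237bbafa829bbccbbc9e61e241751be48de406f6c5023106c0912a36c546c0b6c4e6c526c566c586c44d06bd4ff514b5e8953173fb66c1c6c180c496c1a335055a051d551ef6c206c476c2cddd550dd51a249f101073fcf51a409331fb151ac33814fed47d851ae51b351a050083e9b36d57970796f7972d1cb2dc5797479767978797a0ccb797c3741796d,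
  nat_lit 0x19924f6c5f47c4c2c4c4e841a866abb3c4c6c4c8c2abbd8fe7eac225d26ec0eba5da5e7a1a702ac19bdd3ecb127f9bd6890f98379a233236793fa65da7479be0781784281ea384385253843cd39f7c03843e5e538440844284448446841c8437ab3a3a0b7278c37fb585c37bad08c00ea88dc381c36db075c382be4fe7d1ad4a511429101d73e6131f815a1cbba6b2f2af68bba8b5ffbbaab4dd407f8d418d2e2a262a2a091c1f7f2a2e2a302a3219d92a362a382a3a20b12a3c2a3e2a422a443460332cccc7346a3466346c345d346e3468347026a534623464232234b7345e58c727dca76ebc80b9e5b68bbbadb387bc77bc79bc7bbbd0bc7cbc7eb7878772,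
  nat_lit 0x80a342f356f92af3a57c869e47078b1396f16ddba58ba4957f9fa583a58ea57f4f604efc49034f9c35894f92204d4f964fa24fa04f944f9a4fa44fa64f87cdf73186250e3a183c0c3c4b3c4f310422833c4d3c553c533c470cf333583c5825053880d36b828876300281828a8290828c829482926338829f77b668c582a1829906b6315808613b2690129014901690187f9b901c0cef77a8901e9020011b90245e0fe0e72c2f7cb27cb402dd7cb67cb87cba55a2335268b07cbc7cbe7cc27cc437ad780153057957dcaba24a0de9a24ca24ea250a252a2545b4da25696f5a248535a780b78022e7f783670f67838165166d51093780830e92a3d783c780dd175,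
  nat_lit 0x78105a4b7251e88ebc18b8df86c7b810c614c616e891bff4c618c6135a6f8ba226f452f52c2236085aa45aa65aa85aaa5aac09f75aae5ab05ab226ed2c4c5ab62984dff5298a298c298e299010c5299429962998299a299c299e29a029a429a6e118e11c9001c369b59dea43e122c020e124c97fc93fb197c4bdca3dca40e1267f8c9f3c3acf79d33731a011a143a146919175daa148a1452ba79d2fdc0b9f3f17ec17ee17f217f417f617f817fa17fc17fe18001802180418061808180c180ed8f575f7495e57f94e3576042e15760c7603763e760e7610761202ed7640763c0a520a540a560a580a5a0a5c0a5e0a600a620a640a660a680a6a0a6c0a700a72,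
  nat_lit 0xdbdc58812ed9e992c7fdc90adbe6c02ae99ce99fc741c89fc7f7c8f0aa64dbe89cb37570195fa10a7c699d83a109a104a10c858d7de57e78a08997e1a107dbe9de9d44362e31443a443c443e444044420781444444464448444a444c445044526fe6a08d80679d81a41aa476a41c969570a08fed9eb4a41ea42199ddddb9a4182c8492be73eae4f1b65eb633a416b6606509afc2b415b662b421b65b740ae38040ad6efc2ff893d4662d93cf93d193d31db1778c7d8789814dbf93d693bf93cd76f55c08550a7df79320931d931f7d834a5b3909931a5c6a932293249318d6ff2ea3d86f8222822482268228822a4db7371b822e82300ee3823282348238821d,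
  nat_lit 0x53734c5ba5dcae38ae358e95ae376d3ba3db76ed946b9895ac6b963dae3aae3303ae03b203b403b603b803ba03bc03be03c003c203c403c603c803ca03ce03d03981395a073fbecce6c3e6c05257aebdae5ab76abecebd01bd31bed0cc6084db215fa0a854e2b21dba2faebb6734ba30ba32b261b005e5aea1d9b272b26de5b10d0391978258bd09b707bcff1003ba2bbc01b3c9bdefbe10e699bdb5bdb7be0e9371d816d81ac651c7c8e921d81cc017c667c6c5c5afc635c7cac7ccd81ec7c703ad69f0436ce6b8a323beaa778aafc0e6bbbea9bc35bdbebeacbeaeb640958893359bdb6f0dc370b419e7caa442c02883e7c372e7cda9d1c374c363b82ce2ca,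
  nat_lit 0x97c8193f913997d897dc97d397d597da836797de14176f5d8a5197e097d1d88544e54e24327d4e864e884e8acdf34e8c4e8e4e904e924e944e96444d4e5b4e4b1aee1ba71b71e338e601e5fea413bb7aac3baefebb7cbae5afb9b65a2ca5afb6408d4d5c40a297e697b7939bd89397ea7d3d97ec85a197ee97f093d7229197e4937423c06f0014096c6793769378859d8e57937a937c5841937e93259382938417e835d122113b743b763b78cca13b7a336332693b7e3b803b82147d2a01180f856832e6856a856e7d0085708567857236e2008385748564856c8235d3ff049bd539409626c457c318ff57d457ce57c557d257c757c957cb57cd04ad57db57bf,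
  nat_lit 0xa9a28d276cf9b46de88ce8f100dbd6d4c15cb969c750e566c6e3e8eec6edc60883df060c99f6a87aa74100d9e04f27aca87ca87ea880a882a884a51fa07ea879354b413135da4889a88a927f27a0e051a88ca88ea890a892a894a52f35f2a887e0326d7be03aea26b941c163abcfc00fea29ca11ca1cc9efc973c98be03ee0402df728dd5e7185c6a6019961a899a89ba8a09fa9892ca89da89ea7ebe053a897409539ba6dfb79d279cc79c579ce79ca79d479d071b579c879d679d879c2d1db3bff57bdd0c4c3ecbf81c3ee0455b9f5b749bedac199c3f0c3f2e7f3410fc3ea10dc4b7c170493e493e64493d74323a74ec393e885bf34314b9b8e2f17308eed,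
  nat_lit 0x117380022d69be28be2abe2530dfe69fb92fb945be27bd7ebbe9e5724311924b684b82c059aea81e30db2dc1e00b7b19a820a822a824a826a828a82aa81da81b3bb52893636de833e6a0c482d222c00baa6fc380c4aab37dc4ace822c3039be14bf15ee74ad75ef7a83092dca8326fb8a653a8359893946da82f8463a836a82de043061b46fe470047023d53470647080a63470c470e471047124714471605d3158166c44baea5718d190c45b4608776b45be467b462a55d8733e464b45eb44e71194f770da076e9883a31c3883c88345e1d8837883953da8840405788328849965806c664f8ada9b936b938a742b129e577e574b93ab93ca467b93ea8f695e7,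
  nat_lit 0x4f0c4e2680a8e705aeb9e7027c01bfc8bfcabfa7bfc6acbfae8fbfcc7fedb1eb433615924360a930a1d3a9329e09e0bda9344895a919a705a936a9384392a0311d321d3b1d411de51ddd1dd31ddf1dd91ddb1de31dd51de1034f1de71dc71de843a911f11f43c47cb55dc47eb513b908aa01e6a8c480b879c467e823be51d1ba9f6b7ea89523e447e444b3a41854b3a6983a890ba857a2559f976a6fb3a2b1fe55ca7718784c8b5d153b00aba9666b57e0dfa968a2e386cfa51da96a178ba9645e2b69f66d519b409b3e99e59b3b4e3b404f9abb30b9437b17595e2352159b51e012e016e01aea22c67dc087e01cc007ca14ea25ca16c9d7e9dcc503e020c81c,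
  nat_lit 0x2f602eaa251e6a9926993c9a777e778326e5773d7780778559df63b62579773958224f755356ab7284f2301be2abab744075872dab76ab78ab7aab7cab6de2a8d304473b7f03c2b9c2afc5345973c064e85de85ac536bb2741c5c538b67dd30e042d57e23a47a928a1cb8d4de0bb9e04a83fa8a7a92aa92ca48ba92e57d7852d2b3b2a952bb72bbe2bc02bc22bc42bc62bc800e12bcccbbd2bce03cb2bb82b619d423d0d665844b3a9e2857198989891270f7e656fba6d4399dba9e4a422e1517ffb2a4dd110c41eb245e800a99dc00dbfb5e803c415b09dc383c392c41ca5b6320a16f79394a81f8b5185fde01d5ae5a83ea840a842a844a846a848a83b2327,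
  nat_lit 0xe153336d69cf89d51cf73c4e9b6c9b729b709b74760f9b6e3e4180599b799b6701ec354e5ad0b9e2b9e4b9e62a33b142b9dfb9e8b9eab9ecb9eee5998603b2ee28d128df28d729782970296a2974296e297a2976296c2972297c297e293acb9700993c744901b965e667bd208d4fae8dbd22b471bd24b6dfbd26bd28bd1fcb9602b568cf837dc395bb91e808a53ac063e7d8c436e80bbb99c438c427b96098284cd55aca727cc116c11496175ef1b5735b71c10ec111c112c118c11ab9bae72f99b069fb5b92e55b6a5fe558a778b8487bc043079ea1b87eb85fb39ea4ffb1fbabc3d15214a1e811af13c44884ddc03cc33be80ec44abb43c44cc335c447d158,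
  nat_lit 0x32583207325a325c102b32603262326432663268326a326c2e4b326e327032720c92d2dd09ce6b006b026b043eaf6b066b086b0a6b0c6b0e6b1050af0ca36b1604f60942de4140d14628462a462c462e46304632463446364638463a463e464033102b3e0fea2b6f2b190a8f071d5c675c6f5c6d14795c6b538b5847332a5c7ccd73174017441746174808c5174c174e17501752100b17561758175a175e17601a371664229ce7d6b2a3c39a0e41c058e7d9c34d8b03b7fda5eabfb1a955a73e2be7d1e257edc494b0e3c47fd1e8b8a3d1eac35be829b881c457c489bc97af404a4c66b3da6330ab66cc66ce66d066d266d43aef66d666d866da66dc66e066e2,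
  nat_lit 0x756560091304b975e6b4c384e70ed646c5e4bce1b71bc6a2c726e8dd97ccc72464aea39b40cda3a2a39da3a4a3a1a39f881da3a8a3a68ac59cd5986edd593be9992801fc30f8993804c7993299310ceb5a7d993699348443228d3023992f993b464f6135ae30bfeb9903bfeda967bfe4bfefbff1bff3bff5bff7bff8bfe90b7d7c51950b22d9c765c4c5c5c5d742c036e8fce8fec53dc729c77ec6a4aa22e9013d0523c410afb02ee396e2f8ad1db029b0300adfb02bb032018fe3998724a7860cff5c302793bbb8339d7a4fbbba736fa3fde61b98b7e618ab9db60c50b15c294fb8087599f2e5abaa9de5a8b983ba22ba24ba0db02aaffdac0f49199bf393cc,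
  nat_lit 0xdcbe480f7acfc37eb577e9bbdcc8c01d4893e9b8c93eb06bc425e9b4c181dcca5abb71ec1315a7163ed5a718a6b1df4da71aa701a71c4899a720a722a7148643838f731a1e1da523a5e1a1f90e75a5e3a5eca5e55a35a5e9a5eb489da5d9a5de9bbddf723668ea0ec78be50cb5d7b065c9dfc9d3ea11c9f0bf79c9ad489fc66315301534061e1538153a153c153e15401542154415461548154a154c15501552cd0f4334437f43894385438b4381040a1c37438f438d437a438343914394437dd9aa15594745bd51bacee68e3263baedad00e6dc9bb8af0bbdd5c845c848b200e1bf08ba08be08c008c208c408c608c808ca08cc04d308d008d208d408d808da,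
  nat_lit 0x403236ed648d7a247a267a283f4f7a2ad1eb51037a2e7a307a32652f64aa405d64dc513c72a827ed72b472ae72b8265372ba01cd72b072b672bc64a872ad72cb364b3e2f77bfe2a6ab666aafab68ab6404599713ab6264cd9a55ab6a8861e2a92c636df1481de8cec6f8e8d1a4e9b59fbe09c0b9c17fc6fac6fcc6feb5996de9163d33e2044b33e833ea33ec33ee33f033f233f433f633f833ad33fc03cd34026cde23c71bd4e78fb7a3b21186463ef3c2a4bd6ac2a6bcd1e78cbed4b2d1c22bdf2341ea62bd927d323a488d16a2a6eca6f5a6eea6f0a6eba6f2a205a6f8a249565f60844fdf27a860881698488f608c608e6090609260945d4c0e836098609a,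
  nat_lit 0x3805dea274eec9aec7bbc893b66b9739e9f7c9b0e9f4c8e8e8c8c9b2dea8deaa57959f6dde12e9e5c115c743b547c05fc980e852c8e6c982c513c984de14e940134e76480620a4c96f1d9167b494e46f7f63b4967b1d6a407bf781507607b493767041ee5ccf651be347a933633cae8cae8ba6efa4a130feae8ee344aba2ae88042944e92685c486d1c8c483d1caba936525e7cec4857ea5c3b1c488bcfb7f056cd10614668d927c86e1927e8096d6d59280652783eb51959284510b8f68927a5ea737b62b9731081ee975367538753a753c51914ae5652b75447546754a75272e77582a1f7de704aec3bfb9b224bfcebfd1bf9f3c33acca652dbfd2af71adf9,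
  nat_lit 0x83782dfc55c7a5cd94d1a5cba5c83b7b09f563b2a4d897ef8e9d8985a4d5a5ce39fc04b3de84e9f3e90ac2f3de86b00ae9f0c291c9a8c989c6bbc9aade88123d9077718b830fe909c78cc305d778b339c155c295c78ec113c6c9e906d77cc771771222778866e7a3c2eac2ec725b4303ba71b851c2eec2f0e7a0b6ffc2e717c34b65a06a4b6fa5a79433724cb5cc79cbb45ab0c5e4cbb544b5c5b5ca4c26b5c613262bec5300ad70ad7242ff79cfad74e30aad76973fad78ad7ae30d532e935f8805467304fde9efc153ba6fb461ad6dc99ac99cc99ee9ecc60fc9a00575c74b3f77ccd04b6cbf64bf66b846b0c3b87ae6efbf68bf6abf6ce6ecbf6ea9f2bd44,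
  nat_lit 0x22a022edcd50232023402360238023a023c023e0240024202440246024a024c72be4038d53387f887dd87fa87df2c4887e187fe87fc87e364cf8800880f72ca1d761d7a1d7c1d7e1d801d821d841d861d881d8a00e31d8e1d901d921d961d98492814c6186da8d98e69272fb5bae4c4e4c7b49babd3b4beb5bcae79ae7f36110e940e960e980e9a0e9c0e9e0ea00ea20ea40ea60ea80eaa0eac0eae0eb20eb40f02145e0ed6740d9321a14da150847f3f9d0cc544472b27a1336c730eb1dc0d2357de910cdf297936e04a37807961c57cfe1b1d084b6100806846d58081809f26480048de9510f3264c264e26502652265426562658265a265c265e26622664,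
  nat_lit 0x2c5a39846bcde4a9b554af46b517b556adedb55878f1b369b2afb55a9ec1e4a67be480604baae319adce4f30add0add2a2db5ef353b0add496838b594b9fadcd0a250be406d79c71566f248b9c749c739c76795002621c749c7886249c6dda27671a542d52966fc3a22f6865a70f5eeb794aa71044c1a70a562da6dbdf3da70d04141522cacb161416231627161d16291625162d162b161f11e1162f163216176d1121dc1ce41a558856522f8853885c88585627441611df88543637d4918851094d0fe90fef10f20ff110e810f010ec10f610f410ea10ee10f810fa10e0104103d9149a60a2b152b154b156ad497936b158b15ab15cb15ee3cdb160b14e5d45,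
  nat_lit 0x433a909d33e5a9e8a9eaa9ec5673e15fa9eea5e49f31a6cda9f0a93949454b4314532fe56e95b90bc4fb41b7e4a4c004c4fce853c4febf6dc500c5028715c4f852495d07df1ac9ccc0fbb83fb75bdf1ce6eec99dea02c9cec219ea05df20c4d755b339c175625a859f959f9829f59f9a63819f909f9c5b4b9f969f9edb599f934ef7a6a04e00ab7381ac9ee6af52abfb6c5586cbaf54abd7af56e36faf50af4e78194c886ee6e495e492e330b514addfa2646faf7e672a751a65a7d1ae1eadd689147f3c7dc8b50cb50b90fab50ee4915677a2336953e48eab805af19813b508ae2a50048e3dae2790f7ae25ae224f3224aa686b90a94a1652390df7e3335e45,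
  nat_lit 0x55d15cf0a0f2e776c256c22f13c3bac3c258e779b8d1c0a1c25ac23dba3ba6d4de3a26b3de42c853c565c9676e2d9d49c54cc994c149c203bcb9c83fe9ebde4680334d0d261dbca3b735b9c04c94cb6ae568bcd4bcd6e653e650bcd8a3e6bcd2ab502df812d7e29e8cc24f93a7a1ab48ab39763fa6aee2a03a9c6920e2a5e2a2599de15759ac346b34de5a1d5a7a3ff75a7c05c75a765a785a7e5a8007e15ac067821d60972cae39ae3e9575ae3d9d749bf988369439a4fbac618f9da2cde337062ddcf2dcf4e9bec944c266dcf6adebc67b5b73c1dce72ac10bc931dcf8e9c1049c703f048dafe2a2d95155afe45675afe1a55be38dafe6ab8ca92fca8c8b21,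
  nat_lit 0x7dcd72837dd77df6740f7ddc7dde7de00bcf7de27de42b797de7141d7dd87e02d5d88e238b83e8cfc6eec6f0d5e0b5a0c11dc0cbb947c6f2c6f4c6f69f70c6e67f8f2e0b6cd7e995c70dc8f22731c029c8f4c8f6c165c88bc655c8f1b539db9a29b51259d004c368b5a5e7cbb5b7c025a9f7c36ac36cb18fc36ee7c8b6e7a4f3660c3d0601b5bf24bf26bf236ee5b2b3b215bf28bf2ae6e1b925bbebb0423d234bd280d1638fabe9abf8a3b0abf7abfa12a5520b15f3e2be7a9f5dd5e2c14c19d9d6d9da891fc850c571e95cd9e0b7d3c251e95fbca9c3d6bd95c837ba5dc5683e4b699954bab7d19e4fb7db7b80bac1e5e19d4d2595afa6ad02bb199cc6afff,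
  nat_lit 0x48f217004bffaec8e357aecaad331bb5aeccaeceaed0aed2aed4aed65c65e35423901f2fa060e518497d93bbb75a8051b0bae466e51bafe7ab7baf7db758afdd93c3755d68a7e9d8c185c5adbbbbc061c96be9dbc7d0bf77c974c515b756c0c05edd0fa907039a299ccb9ab9ad3a358f8f7199e9113fe2fce2ff9ba94f575f441980288edfb138c638c838ca38cc38ce38d038d2165738d40f2338d838a738de7ed14bf4668f7ec19083a676a673133b9f0aa67aa67800e5a674a67cdef18b4f37a2886d13fa31971063622db5e8a7dbb5eab4ae6c4fb5e3b4a7e4d5b5e5942f415040814152415a4156415c414d415e41584162416003c741544164ccd3414e,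
  nat_lit 0x4e39a8cd19ae81daf29c44f17afc04ac343e592e81abb4dc46cc46ec46bb53d4ad1d232d236c4b3b137c3ad0565bbcebfbde802e837b389c4adc469c4b49bde805de194e198c217e19ab7b5af53b820bf53c617ca54ea53ea50ca56b2d9e19cd6ef07a85bec47995bf020cb09315bf25bf43095353f5bf65bf85bfa5bfe5c005a2068d2234d824482468248d363824a824c26a377cb663b825082526aef8243898d6fd24fe845008b2f20f9258f4c96472492497b8e2091a90c85279246e09b978ba07a2279ac014f2aac0441b990f9515b22bd9ecd1b8c597f863ee2c5abfc75a217a5dbc175aa75ac75ae734375b075b2504375b475b6398975b875bc75be,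
  nat_lit 0x40c8291d7ad5824587098818d481881a881c853505c9881e57a9882240e78814041a51e317199d9395739fee9ff196c29e159e9772659ff294ff57ab9fed648729077580e05f7582758467c57588758a758c758e38707590647f7592759657b1090835a46b3378590995783e785d785b2b7532cc78570bd51272093d7855785e94a28139a875e819b2a7e816ab85c05ac34bc437c45eb867c460c462c45ca9652dea71f52527e40ab2b0aef71a5bb2b2b283b2b4af2db2b6e40db13f8964b1ffd16ad16e5a53e815aef5c4540d13c070e7c2c3a7e812b10bc456c3b3c452d1748414839f5173c81ebf27e796be3bc04cc820c516e945bf59b915bbdfd928d92a,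
  nat_lit 0x191a416c2386e2d78d71a85eac5c57c4ac5eac5b8d0faba7ac6071db352ee2d43c7b1f4f3c8957998f41ace8e2eb0fb5acea9c4b9f04273b82519d9f3af9e2e8703c6d3183b98f3f579b8f6cd62b8f6e8f705c1d1e5f8ef987118f72512f8e6512d113006412b4268f95579db428ab37b42ab42cb42ea8e1e45db422a4ecb4241d460f6e4cad9cc89cca9cccda554f9757a39cd07ec59cd29cd49cd69cc56f37db4188444c228b0c5c138b0e8b108b128b1457a565db8b1885398b1a8b1e8b2000c90055012bca850132013401360138013a013c013e01400142014400eb013054d421d27c64272b8ef1a092dba9a094a096a098617057a795fda005a08ea090,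
  nat_lit 0x7723607c5d3ae437b35a2e5d2a6bb35c7a3db333b359b35ee434b360b151b090d9476903248469072af538cb68fe59d7187b0ee76900690969052e4d690d45315dbd1b0473c938c773f573f169d7404d4e3d73fd73f373fb2cd473ff73ca74042fc8966a819aa854470369d5a84da84fa851a1afa856a84aa8527d77e01f93b60f3b1764173418591738173a18551853185b172e18510df3185f185d18450f65903a2abb027b94489446944a94434ee00289944e0df19445859190afd77b944147717c2b7edc6b957eec6b557ee500af6c6d2f357eca7eea084f3fa37ee1d30fdee37508750c750e6e297512751460fe75167518751a61cd751e752075247526,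
  nat_lit 0x293c42bf86135e13a3c0a3c2dd77958e76e7a3c4a3c6647d964fa3b99009971679e155049ae99fc3a9e1b77ab98f81bb9e7175194161b98bacf3b990b98de58b2533df717c8a02d98dd281b88dd48dd606418dda7a9d74dd15f7580b8de28de4298322666833b3f976e09e6fb4a2063fb4a4e475b4a140e1b4a6b4a89af293fb4ef95059087fbf01a3d77513beefa78fb673b77ca579a93fe4d2e6d5bf02b607d980d984d988c81fc4f5c535be3dc05be942c50dc5d5bf63c501e953b77ec81d3a393f8edc1725e93f9403013f983f9a3f9c3f9e077307533fa03fa23fa63fa862875c776278e79fc2d2c2d4cf346b07b8e1b899c2d6c2d8c2dab6b35ff5e774,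
  nat_lit 0xd69ad69e7e41e8e89615c74222b7c068e8eb41bfc744c2f1c52ec16a91dbd6aa64b17b9bd7e6e919c7b0c7b28e97bac4c54de778c2ffc7b4e916c715bbc7b5af72493a10046f8551bb86e6059379bb886c01aefbbb7d7733bb83b4178579bb85535d64409bcae44cb9d6b9d2b4f30adbe597b9d8e516a465b9dab9dcb9d116160a229b1a294baa24e19baa2681a5aa28aa2aaa2caa2eaa30aa32aa34aa210651191f3e0f2aefaf3caf3956fcaf3b1628497f94378838add53e992e91af3eadca62687cdc53d0e75ac1d4c0ab53ae78ede75dc1d6c1d8be7ac1dac0bdb575ce0e6e1e37b467e99a289a2a9a2cd97b053f8f459987908b9a2e6a8e6e350d236e22,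
  nat_lit 0xdc70dc20dcd0ee80ee00eda0ee40ede05410ee60edc0ee20eea0eec0ec00eb5903c02bc904090429044904659589048904a904c904e905090523c399058905a01e466ba8f8a227b91d3af81b6b49faf5ba3a67bbd7acbbcba474165e67db22e3914260f1d65e657b6bbbcea91d51eefba80bce7bcecbceeb8bbbcd9adaabce84d76004c29204e51851e80731eed851c85228520187d56b185248526851bd3d5017170dd2d7668d95b9a70f770fd70fb70ff64a659dd461d710101d56b7a710236981dfe36f036f22bc136f436f636f836fa36fc36fe3700370212ef3708370a0f6d035b44f21b3d41574c934c954c9701cb4c994c9b12eb4c9e4ca04ca24c91,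
  nat_lit 0x812e09ca5035977a977c977ed875978097824ec5978494fd978695ff977797785770577444d857765778577a577c577e0f9557805782190d57865788578c578e4b24e1c318c64b284b2a4b2c4b2e0f934b32449b4b364b384b3a4b3c4b404b4253b66f99478ae5b5adff4ebdba3ca6e54499b61bba3e31a54639e5b25ce5e5b050900a0d6ca0b60e867fe342b610a53c8b61b612e4dfe4dcb549b60d6b156aab0833860f0f768d6e8d708d72d5b719058d7431a18d768d788d7a8d7c8d6a8d6c3add3e5597d7a1c8a1caa18cdc7586228b55831b438c30bb6f3ea1cca1c79e0c5c9c6c5c74a2e4adb564b5636fb6b5665b25e4aa98a5b335b568b56aa97eb130,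
  nat_lit 0x57635898cae0a9dd9da77b3d8562bac59d4be5e355ebafb2bb1e8f67bb1c9f1c89710ac69b207b399735a30c9d79a30787eda310a30ea309a30a9d67dd0ba303052f55075508551e551a5514551c55185522552010eb5516552455265513ce1f09d85d7b43649be49be687e99b9cd9f19bea9bec9be3506f35439a274b3f5d6d7d681f336b667d6e7d617d707d637d657d6c7d746a697d677d6a7d76d2d9300772224738579255e142fd78a610f178a878aa6a6778ae78b078b278b478b878ba090d63ff21efe4e0939997b9b6209545a2dfe4e3b622b4b5ae77b61db61e99e135a3495780ad9397aba8aad1aba59d8d947eabaa8682aba6a4f8418daba0e2b3,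
  nat_lit 0x7317412c35e4a13c21a9a13edc0991697fe327372dc39c4d66f7a11ba13aa1357b784128413894cf94f68d73d7bd5ded94fa29d762f994fc94fe882394f494a94b7053c2529b982198449846d8b58a4b2b5186592ef7957998488efd981d4ba38b71ddfcde00e8e6de02e9e0de04c01ba915c97ec93d3d5fc4bbc47be9e3de06450fd67225dbad6bd6781115d67cb814b015c4a2a62da52be542c591c736b08b5ad7d7a87239e911c7a0e90ed7aebb5fc759c2c7c2d7c7a2c7a4c59be8e47f5498aa1e4a8aa688711728a6a5a2a401396c13a6396ddd79ff28aca563df4f0a4d3e652ea71955e6e2bf3ebf3badfbbaf6bf3dbf40e6e5bf42be7cbde7e368ccbc,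
  nat_lit 0x4cca1a4f0b84378366ed07cf778b7789778f778d6112778421b977917786779675e3de6ede72e9eec14bbd0ede74b815e9f1c9a3c9a4c991c619c9a6de76de784d3c943b2f73c0cec0d0e71e21ad1205c0d2c0d4c095e721beadc0a5e5de3f6141194d397ed8bf65e785b88bb51de556c28bc290c28eb913bf5bc28daca0723c671e10a3668be7abc2dfc30a1fad98dabc85bc48c30cc30ee7a8b481b45c4a4943995e1141499e7a9e7c9e7e3316dafb9e539dad9e809e829e849c6344069e7945d432ef1743a9021c2fa153e097a4cba904a8dda843a906a908463b7aeba901782d55dbd36f1c2d82ab21ab82a76f2582ad82a430e782a907dd277982ae77d3,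
  nat_lit 0x1f458b40124b404afdb986ab40324538d75b406872f4b39b408b40ab401e45786eb923a0472726172b5a5a9a66fa00ca80f5cb89d9b91bd62619f0da90aa66c9504871c1b6869d19df19df638cd9df89df39dfc9dfa9dee9df49dfedab38703233d06315884e4467ea1e4499964b3ac1ef15cddb3a979655a952e67b3aa6b1b8db768d549b892a809ed92aad6eb70d092ac92ae92b092b2751f92b692a57a654b81cd3a2349e71dc0b4c0b61c33a4c3bdffc0b8c0b2c0babfd6c0bcb56f5c7d8b7497cb43a1bd55badebae0cca0bae2cca2e6dd7731bae4bb1fe6dabf16a90e0ca9dc010f0e0f100f120f140f160f180f1a0f1c0f1e0f200f220f240f280f2a,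
  nat_lit 0x16411d381679e4ecb654b63b995cb656ad51b11750a9e4efa9d3b658168eb12d14d12b939792e700ba2ee70388b3bfc0bfc2bfaf8bf57adea937bfc4979da8bf03340336033a033c033e03400342034403460309034a034c034e035003540356203c4b2033db4c2c4c2e4c30cdab0cc14c344c364c3834632dd14c3a4c284c2a336b27584bd44bd64bd84bda053d4bdc4bde4be02acf1bbd4be44be64bea4bec27222726025d272a272c272e273027321d8927362738273a273c273e2742274468c8e08f2c2925897bb5898e450289906a65899489968998309b899a899e89a0472f6c2b678bbf25c4f4c2ac9689b2a9e72cc1bde84ebf44c4f6bbf9ae9ae851,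
  nat_lit 0x5500022d261b662b95f895fad81d7c6b8ac18cf37a55881f95fc95fe95f595f62f99978c43fa98af9693662fe4f9b5cfb5d3e3eeb674b676b5bdb61cb24308db3e4d51198a42c650e8a0c6526631bffae8a3a329c5a5c599c654c65686ff8a59321397919773977b97b697b8d8814e8d92ed936997ba94d597bc663f979f97b48628cfcc7698e7bcb279e7bfabefc057c34ac34cc341b7f5a9f1bfc56641a380769314d9dce57b387b3a7b3c6d397b407b427b447b467b487b4a7b4c7b4e6645274c4c86423eb874b35bb87675d6e557b81ab013a665b878e554b37f0313b0925e5a7b9981b5a8d8a4eaa093e083a8daa8c5a8dca8dea8e098bb9fe1a8d5a8d7,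
  nat_lit 0xd0da440f2927c3edc400c402d0e4ba03bb0fbdddb6cfc404c406e7f976f1b97e8d20343f514cb9e3bbfcbbfe1f85bafabc00b6cdbc02e626bab3e629b5ecbbfa4f6848fb62cbbfd8bfdabe9fcd06256be709bfd5bbf7bde3bfd7bfdce706583f805a9b25966ce7f4c3fac23e404b69d9e7f7c3fcbaaac0bbbde5be7e96798062d3d72e782e7c2e7e2e802e822e842e862e882e8a2e8c2e8e1f912e902e942e9614ce85154fd8108793fe1e59d76706972d3f2e8b8f9933f99400940293f793fa20ed34bcd9b134c034c234c434c634c834ca34cc24590e4b34d034d234da34d63c7923327658e5473a55e544a3afb7b7b107b807acdbb8267a75acd1acafaccd,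
  nat_lit 0x6771f35d4075ab77ac5bab46898a0f858f8a128a048a100291240f7267d4af324a3203325632cf0ce532c532c904cd29f932cd327a32cb32d332d1327f327306d2d82506d806da06dc06de06e006e206e405eb028d06ea06ec06ee06f206f47ebc0837421f7ec011337ec27ebb6c11013b22877ec4498f7ebe0c55d30d7eb72a4b62a00486b4279634ace9b4c2b4bbb4c4e479b3f0b4bfb4c6b4c17f0eb4bc1ed436a73f1429cb622a622ccf1b10316230623223126234623626ab6224622637a7073b7209e881bddfe87eb5fdb307c38bc541bd75c5e1c5ecc490e8249918158b527110abbda3bdeabdec174dba27e690bb11bdeee693bdf0bdf2e62e8de5,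
  nat_lit 0x4cce5d371b99bd59e3c2e5d8d9a4baeeba21bf135a91afc5bb14c844e957b11a5a585a5cdd835a605a62335f1aaf5a645a665a68003958165a6a5a6c5a705a7259c551c13b56625462566258cf353eb1625a231c625c625e6260626259cc07e5340f2b3c5ee3a8bdaec6547ce352640a38ff4a5d75b5aec456b38e1c5ee4e3554f15d24716747c057bfe7bfc7c007c027bfb25f3779f0cf1633e7c077c091a0d618004a24eab5471673366ae67356731362d1add5bad672f673b67396729673e7b9283fa996ae351aeb8aebaa8baaebc5b45e34e46916379ae9568936a2383f3da170bc203860bc40bc60bc80bca0bcc0bce0bd00bd20bd405f10bd8037d0bde,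
  nat_lit 0x7dbf59a17c0de933c7fcc7fed8a4afaec1ffc09fc324c7b5e930c70fd8a8d8aad87718f618fa18fc18fe19001902190419061908190a190c190e191019141916638785ee65a692e87d3992ead6fb879c92ec92ee00b592b361cf5f91563192e77226784817f1b146b1415a8919d7b143b031b14ab148e3c8b144b14ce3cbb08a17eb3f8411b029ef9a9619d55a8b7b299a985c6c9a7138f999699aa1a63d9a9b27d9275a1185ba7ab685b9e77b265a8db8b9b489ba7cba7ee5c7ba791e37ba77592626bd3ab2637facc5e2f9ad22ad245a8f22e7ad26ad281ef93a65a83d6227070ece3f071407160718071a071c071e07200722072407260728072a072c072e,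
  nat_lit 0x12d212d412d812da03b912de12e012e212e412e612e812ea12ec12ee12f212f492d94ed2d6f72f0391b192dd92d692df92db485992d572b785a5528792e04ed146a3460332f446e446e62769cd33007f46ec46ee46f013cb46f421bb46e046e201470152014801c201c4ca8701c601c801ca01cc01ce01d001d201d401c001be6117052d21ed40f961206122cf01612461266128612a612c485b6119611c46113391383b460b0d552dc730ddcd29461636fb461821b5461c461e4620460e4610051d27e74609b3f8883b9e91b3fa4f4de455b3fcb0bc463731a7b3fe485db3f63803602d21e8b3ed10899f06b3ef9d29b3e9b3f4b3f1abc6b3f3a5b3e453382d,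
  nat_lit 0x2274d58f0e8e227a227c227e22802282228422862288228a228c228e2292229437f88b4218967fdb6f73a15edc29828da157a0a38d50a1608e2d4b9d5dd8a15a45611498085bb164e3cfb16611379bd7b168b16ab16cb16ee3ccb170b1620e558297d44a4849e893b793c61cb5dd7019c61ec61be890c620c622b3e1d450c59f09c64efa4f23484d4f2b4f314f254f334f2d2f014f354f27410b0d694f384f5f1b9c8b29471aac00484fe2c3ac027a1903c191b9a1195cbd683b2dd3abff708f8da811002ed7e318ade04851ade2adde4875a8342773e31b6ef230ebaddaaddc02b04c845011ae267a15e331ae284855208ba31c0085471e975d8fb1ae1bad40,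
  nat_lit 0xa02c15970179c172e744e74788d6b591b75fc08fc174be57c1769623a9e690b5cd485d056391c0cfc0d7c0b74ee4ac4dc0dcc0d9c091c0dbbea5e71ab26ee723429c5e2c5088ba85e63dbaa068ddb3a7bc5fbc61bc62bc64e63ab3bb6aa76c8c090b76a20818ae55ae57ae598c055b43ae5bae5dae5fae61ae52ae62ae430cd3e0e30d060d0a0d0c0d0e0d100d120d140d160d180d1a0b730d1e0ccd0d240d26050ddf4695cfea0bbf07b172b455df4cc9deea08c9e0c9e2e8b4c9a1df50c69b6305289a4caf71b16d3583ada645ae64a7910643a149ae66a7e9ae68e33ae33d75c756ce7f40998199e299e4d95f99e65c1b99e85d5e6f7b08d399ea80c599e0,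
  nat_lit 0x7f1b80051962e42db31eb320a7e2b322701bb324b326b328a64db32a7f757ff14fb08d2454b19430943227f1d77994348d1f943694385eef8d119403942a942e15856cf35eb2e787e784b8cdaf42b35de594c292c229b923bf51e67ecec4b50308250b5505a3e3c19bafb1020b69b104b1066b0bb108b10ab10c0c2f0bdb011f57df80a708fbba9de713c08685fbc012bd23c088c08abc71c08541c799de80a1d4f2d4f635edbe29c67cc08cd4fcbe35c67ec17bc0b3bab1bbf1e8aab9a8e8ad05160d4e0d520d540d560d580d5a0d5c0d5e0d600d620d640d660d680d6c0d6e4734911358b8e669e666bd2aa18eae93bd2cb761bd2ebcf9bd30bd32578b665f,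
  nat_lit 0x4f8864e64d8be43bb36cb36bb2fcb36ea6ffb0673d5db370b372b37455a44113d62f40f240f640f840fa40fc40fe410041023dfd41064108410a410c41104112417312fc68a4a173a498a49a8291a49cddf1a49ea4a00a69a4a2a4a4a4969b5011024766168b47d50c43476247643fba27f51b4947cf295d47d9114519e1112b63ea317846bc67c067c267c467c667c867ca67cc67ce5ab167d267d467d867daa69c6d6dd7bae910e913c6d9d7bcbb5bc62bbb3bc2e3c7a6c7a8c639b52ac575051b42df6bcae302e3050b33a59dad58ad5a90edad56ad5520590b9f6bef1e69685340ae11fb0cb97f4a72d37f487f4c7bfa7415666b3ffd7f377f4e7f737f77,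
  nat_lit 0x59c901a759cb59d059d259d4ce7359d659d859da59dc21b759de13cf59ce072f267c0826ccd508c126dc26de26e026e226e426e60e1b26e826ea26ec26ff26f0660813f6322f6660665d6662cf8d666466666668666a666c666e66706651665e226529c629c829ca29cc29ce29d029d229d429d629d829da29dc29de29e229e492bb1d104afe331ea86e4f499e9a9e937cbb96c9a5807fcda50ba582a586e04114923b975d4367658a6b81a38a6d8a69791849f95aaf864b4c9f0e215d588a6e02c6820814eae43ab3777eac80b3b37ab379b071a2c5b37ce43db37e6b4cb0862eb416f4e02b2eba2ebc2ebe03fc2ec02ec22ec42ec62ec82eca2ecc2ed02ed2,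
  nat_lit 0x8dfc63084b87e7a2e7a5c2f2a66e6e0fbd10b883c2f4c2f6c2dbb6a79c50c2cf1171383268b41b1168af68be68b64b9168ba297768c268b123b168c4cfd968b25324131e4df69ec4864c462bdb1d7fc74b939eca9ecc9e994ecb9ece9ec3528d3ee400cf762461bf2b499f60db57296f9f624b9592239e199f649f669b019f5cdab925e225e625e80bc725ea25ec25ee25f025f225f409a3169525f625fa25fc09d6219f4dcd4dd44dd64dd8cde50a934dda2a39045d4de010994de44dd04dd21b34daa71b3a1b3c1b3e1b401b421b441b461b481b4a1b4c1b4e1b501b541b561866186a186e187017f7187418761878187a0543187c187e1880188218861888,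
  nat_lit 0x900d9f11d828c7d4e923e92098b1c01ec7cfc5dfc7d1c57ac7d3c7d6d82a902569c264a04538e2b4904544719aebac23ac26ac243ef9ac20ac287349abbde2cb88d903308d908f928f948f6dd63b820e8f9640518f988f9a71d98f9c8f8e8f9057f53c0453ace43eb38de441b2f0b38e7ae3ad83b30bb390b373b3920f278c0f25e129ba0a7fb704b706e50faf667adcb708b70ab70cb70eb703b71036dbb701df249b4b41f2c9d0baa4bc6db4dbb36fea07c9d2c9d4c9d6e67abf6fa944c60540355fe365ed65f4cf8b256765f865fa468d65fe5b4966026604660665f065f245080870a789ad92e30e9f757295ad8d286bad96ad94ad8fad90ad98e31192e6,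
  nat_lit 0x216386c056f7e59f0b31ba08b1e3ba07e59cba0a286fb1ad46675ff31dbdb051735a867c56c4e39fb0525cd75019b0541f17b056b04ab058b04db05a9a35b05018493f47173667a2679c35fc6797679a67a467a06798679e5e21175b4a1bcfa9225d4137300cb2bb15e9b295490f964247f95a69b101913f9592b1cbb2beb1b21058105a105e10601062106410661068106a106c106e107010721074107810176896509304f4e388afde09efe38b5a65ac69964a766398ffa3ddab6b3639afdc81ab8176d62781a081ad81a281a481af7f0a766581a6386481a876b781b6819e726d8cfc97021747971926df971b971d3c96971276ab971e971496518ff19717,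
  nat_lit 0x1e4f425c279bacd5ace6acdca8faace3ace50b97acdeace09e3390f5acade2e99f394eb54cf1e45ab592e4b9a087b59445c3ac4be4b6a1a8b596b435b288b425df2f375319baa42ba428a082a42da40fca8aa430a42e82149d7f44c7a4355f3f536e7dc37deea052de03a4c0a4bfa4c22ec3a4c4a4c669e1257578f7266189a1548652fe5a5fe4b1b576b578a6d6b57a810db57cb57eb063b259e4ae2b2d53e5643a11ec43b4e4e5b626b6289d7ab62ab1aa256fb250b62ce4bab62e15fb645d2fc73a4d4405989de0fba97444b9a976311f78efa978a308a97aa97c55119e4c9bfc77492ffc077fa347a343a3498abf7c6d77b225f5a3459037a34ba340a34c,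
  nat_lit 0x28180f3e7c98b7ecb039b7eeabebb7f0b7f2e53be538b7f4a6cf7ae9466b46e3032408140b880b8a0b8c0b8e0b900b920b940b960b980b9a0b9c0b9e0ba203811d34e183038b5b665b685b6a5b6c5b6e5b705b725b745b765b785b7a1dc45b7e09c921321e17a511922c9221de570e77a558a55aa037a55c8b65a55e1e6e7b247423722ad506bfeaadafb8f1d508c059c506c681e8a8c606c683c684e8afe85043a278c14676e656b6d9bcf45d5d9838bc5eb16bbcf6bcf8e659bcadbcf0cb7a13ffd5813ea63ea83eaa2b9b3eae3eb03eb20b6f3eb63eb83eba2b2b3ec03ec2a048abc536efc317bf2fc2c5b5e9bb4bc31cc31abf57c319c31ec320b383e7af,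
  nat_lit 0x764576743ac8c364989fe7c6ae6dc026a94bc366be4ba64bb9b5e7c9c2dd41939b428470170ec417b669c4bfd262c016b525e7b2c42bb651e83fc442c4c0bf8c1ba35a4927e995198e27a4e0a4df8a0e378ba4e2525f08d16f7da4e4de2384c28b41269355c0879f83610f8fb533e660e66523ab6b9be662297da34aa33fbd1c4f418605de8376bd84e984d884dc4ec123a984e284e484e67fcf6671863984da2c8a2c8c2c8e2c90140b2c922c942c962c982c9a2c9c2c9e2ca02ca22ca62ca8433c3952068b5de45de619015dea5dec5dee5df05df25df45df65df85dfc5dfe789e89e6886faf9ce37a52cd9841af9eaf9b506da75ee37dabbbac598903e336,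
  nat_lit 0x37f27f1c384241b3b89eb8a0ac03b8a2b8a4b8a6b8a8b88fb8aae5633874b3c13d366725460686c33fcd0109d43334c9872a872c872e87308732873487238726d36726bb1317371437162c461bb33718371a371c371e0547372036d812f137265d2862c67232e5e9bad2bb3ea504e5e6ace4bb40b85bbb429ea5854d724a72521edf5543ce815bb75bb35baa5bb15bb9401f0d915bac5bae04002fb55bbe026d30a78fe465ea40157beb8fe68fe807d38fea8fec5f190f216f1b8fee8ff28ff41846046d700e0d853bf2503b700c64d370a1709f7099709d2c405820709370a201e0a6a340b0b1c60235e583b982971c0f1bb1e9ad1fe5808d67b1cab1ceb97f,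
  nat_lit 0x173d3c7e2d5ee2a7ab54ab52ab56ab5871d31753ab5aa2999abfab5c2e343f03526e527252745276456d5278527a527c527e46194dbb528252845286528a528c411f8a361266c672c4d3c66d4b2fd4e2c66fc5c7e8a9c627c674c676c670d4e460ed8ada23d7e5853b22e582b98426e39a6fb207b0fb75b71881b1c49a117b7f04455b603baf50f72d81a1f851cda1fadc89a1fca1fea200a202a204a1f75b532a9d80078c3ee579b940b9428459b587e576b944b946b948b94ab94ca9c8a5a364df94a78c2bc6cbc796c793e2d8bb67b797bf35c6b5c795c798e7f28c0be90d1dc84f1867bf9da49da69da883b1da9f9daa9dac6e0d9dae9db09db25f1f9da2,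
  nat_lit 0x46be2c58d67546c2371746c646c81d8746cc46ce46d046d2078346d446d846da23020204e187331f2e3d063b33173323331d33273325331910392b053452171e19a58daf19c3930a06392e3f93ef76e293f26d3f2a737e6947ff38d91a08d7594c838a41672c7d6f9e7de68bcbd4bac2e5e0e5e2cbd6b0edbdd4bb17bdd2b20313b413b813ba13bc13be13c013c213c413c613c801cf13ca13cc13ce13d213d4d22f5dc070967b897b877b8b7b817b8d2e4324f97b8f39377b8518837b907b7e81d1e02788a6551f839a6d378563856024f72e45265985653b830eed88a981d3066000530c604723471d2a692e4e01c9472526572e47471f472947270c6f472a,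
  nat_lit 0x203e0436204420462048204a204c204e20500a65205420562058205a205e2060540f2d67cfa69043abb1e7b723a5c037c33ab52cc33cace1af94e7b496bbcfa89f1f76a157b5e2bd9e897c7eabeee2aee2ac0e475f35e2ba567d88b99f22abecde391f2824b526962698269a269c269e26a026a226a426a626a826aa26ac1f01015115e17913e4d6654d852fb5fc389bb5f9e4d9b5feb5fbb4d731a98b5ab5f68b685eab5179bdcac248e87fd3ded3e0c5e5c5e7e640c5e9c5eabb34c3a1b6b92d0265a33222bc12bc0dbc143fd120cfbc0fbc161bf3adb7bc11b3cfe62dbc0b52fd5f063a1fe48aad45b0cee48d099b05c59937a3a75e577ebf0119b0cbb500,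
  nat_lit 0x9c00a000a400a600a800aa00ac00ae00b000b200b400b600b800ba00be00c055cd88925b03c39dd068c3997ee4c07ae7dfc35592ffb8095109bfa1c39fd06a271771573713e859c524e856a959c078c521c2bbc526c2d9c528c52aa0fac52281ce89660483b7a0b7a2b7a47ca0b7a6b7a8b7aab7ace527b79eb79db79ab740717d2fe94b01c75cc4ddc75ed6fad6fcc760e8f7c69de8f4c762c661bd34d6fe4dfc43584e02b8dab8dcb8de967bb805b8e0e528b8e2e56bb8e4b8e638dbb8d8d5ba4fd11839c285bd46c6e1d5c4bf9bc59ce780c65bba59c6e2c69fe8cbc6952f202f222f262f282f2a2f2c2f2e2f300d172f342f362f382f3a2f3c2f402f42,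
  nat_lit 0x2e532e50235c2e582e5a2e5c2e4f2e5e25912e60cbd72e622e642e662e561b84df05017549ec70cd335d70cf70c770d170cb0ea770d370c960f90a4770da28af0d7c0d80df0d0d840d860d880d8a0d8c0d8e0d900d920d9403a50d960d9a0d9c4f11d9ccaabac84cc56ce95d5e19b7d7be74c84ec0ffc1e5c0f7c827b855024d907f9cb57751e97dc570c8aa9fbedad6c8ace97ab843c8aec72bc875dadac72527e3defa80f5e9febe70e982b3fb6be1ea01c9b1bf6bc8c7c48ec9c6b265df024ab4409b1b62e9f9c558c8a7beebdeb8e9f6c9b4c99fc8e3c629c9b6debadebc116886351671c5b8c0f2c5babf8eb7e7c48ac5bcc212e877c5bec38f25f9b5b5,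
  nat_lit 0xd8782f653e19e92ce92fc7f4d880c073c761c76dc527c7a3c7f6c6573e05d88469ef582d97adb9acb9a7b9ae954bb9b0a2efe593b9b2b329b9b4b9b6b9aae2b23e1c3e11079c3e3c3e340ce73e383e323e3e3e3a3e2d3e363e403e423e29ccbd0a2eda1b01ba0a340a360a380a3a0a3c0a3e0a40075107790a440a460a4a0a4c0aa641982f499b8c9b8e5e17d9e18c5931c99b901b4b84c6360e99eb75c29b8adfa90d366e246e266e286e2a6e2c24f56e2e6e306e32564f09fd6e340ccf6b1742ca5e5e171584d1a3cc6475a3ce393146ed564b12e9a3d167d3a339dd79a3cb374d9b7e6cfea1e1bb7fb562a31abb802997b0deafb055edbb82b5886d00e603,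
  nat_lit 0x5d2b133138e23b755de757d56f4f6f4d6f5a6f556f4a6f5c55256f5e6f2d6f5118a3772475528d3d982b2b4b982d6ba9982f493d922a983194819832d8a7982969c951ff2a5be8b3b9d7ba55b4e6b0a5e8b0c68fb3dcc690c692c612b1dfb1d753a5125644f82bbf8d538d4c8d4e633a863c499e8d51228b844551654e478d54da3b28e228e428e628e828ea28ec05e728f028f228f4114128f628f828fc28fe68ec395f660a6f706f72438ad0b902874eea6f766f786f7a6f7c6f7e6f6c6f6e1ed8786b0a1e4c2d8c018ca48ca67f4d843f7a538ca15a79864059810a6f8caad8d6d8da6cfdc7dfc806c7f9939dbb77e93bc808c1b5c794e938e924c4a9c778,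
  nat_lit 0x5f7101a10f47e7aac2d3c310a4d7772dc143bc41c313c314c301b49192e4e7ad8b3f192b3277bc99b7b3aa278a6c3a5bbc3fbccee64ebcd0e651b8bdb89dbccc867246b28d2abcaebcb0b78e09f13ba1bcb2e64dbcb4bcb6bcb89a49bc2f737d4a0d2bfd2523bc8fbd17e73b9456348fc146bcd5c148bd67e738c13fc145c13c199f9c0320f3b165b8c1bf1d90852ac9be5ebce6c13bbe5bba4ec13ee734e7371df1ce585bdcc216bdaab833e2aab7f1bf5dc211c213c215c218b7113723e7691c4f09de39c239c439c639c828a239ca39cc39ce39d039d239d439d639d839da6f10505f38be6f206f1c6f226f186f2435636f286f2638d56f1a6f2ad0b16f0f,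
  nat_lit 0x47eb582f1611c4c3e8cdc6e467c7ac22c4e2e848c2a7bcc9c3d3beb98de123b991951e8d4b27be89b970bd9a26e1ba1fbdbc9a43b8b0be93be94bcc2e6b7a419a08b0e5f13afc378b58bc37aa12cc0119281e7cfe7ccd016c37cc35dbcbbb3f70d7b774d7fbda42ab5a88229e4bc8e6d2c446f296973e4bfa420a9e5a425b5a6680319a844dbb9adbb70c43a577dc05c8affc43ce80abb59c43ee80dc220b12f01f06132a33c75d41622a77fb506b0c1805579d14f51e48fb2e8b2ffb381b50211bf43f27e88bc13bc19bc1b765bcb3abc1caa2db78d990dbc1eb9ddbc2011e947904794db2b4798479a21933d13479c479e3a5f3ba547a0349722ef47a847aa,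
  nat_lit 0x9fb72da4112f93d595f9417de247a105a8ed378d86f9870f8efbaad5aad68e33d83c8e7a17e3c7d9e922c7dc417fb62ba375bfd4c189c405c6fde927c338d84a1af746a42837044f71ce71d0d0e5049271d2655171d4418971d871da71cd469d388f9bc58ee68e67a4eb8ef3a4e8a40ea2431c3933f78f9b418ba4fda86da4f2643903e87684877887706c1d8775877779d58053691e0e7f34d1877a877c877341d6ddb1809480bb164b80b080b280b480b680b86a337b1f7f2c75de80bd80ae6ce02041945ebcbebd90bd8b3604acf9bd92bd8dbc9dbd8ebd94bd96bd88e681167b89c610a6e2eeacd7490de2f1ad04ad013ba33a61ac21ad03ad0610778957,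
  nat_lit 0x394569fd4749e78ec2a8c10796b26889e791b901c2aabc9fc26bbed1393d7fba08e543c943964423441b4415441d44192fad44214417441f442740274409442824e424e824ea24ec24ee24f024f224f424f624f824fa24fc24fe054b250225041ac206cb65c602339b04901560619b06389d3a963e2c6d1d7613594e65df1b2b9236521c0984b43cab55a3a5a7af3a8eb437b43eb0d5a38be461b40bb438b43a00164f3d171baf5b0fff9933af673e33af69af6eaf6ca489af6aab7de3739a4b9a8b513a0655bf92679d3427bf8f5944319fb407ab77449fb777bf91b906e6f5689441752361e2faa09fa23bad3691fe8ef76f7728f5e2fda8eb2b5bad2aad34,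
  nat_lit 0xd74e85db00d1e905c784be5c108db055bf1fbd85e902b949c19bc786a292d758152c2c71493049324934493649380264493a493c493e49404942439049464948576fa43878fae7e8c3dac1e384c9af9fc0adc20fe77cc3d7e7ebc3d86979e6820cb1980d819d392968ae0260984084c490a57e1724938c57240d029381b0d8ab8654e05b533446e5864d53d4864f865184cf86584f3431cf86534eec52898b372b40166b2b442b462b482b4a2b4c2b4e2b502b52295b2b562b582b5a2b5e2b60199d86db92e267c193e7a86aa8672403a8689fe996b7360684cba4e5e03d8eead6112949392639281b13392c392e3930008136ea208f39363938393a393e3940,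
  nat_lit 0x9db64793823ce7e25b3dc3b67f49c000bfcbc3b8c331e442c3b4c3bae7e5b1ee0e2b962bd17ee814aee9e817b2dac065c34fc431c44bb85dc45ac3bbc458b1f51057009f4814e56fe56ce3144fe26b81b8feb900b902b9049219b76f06f197580b166eff4146b9930a5b6a15a923b996a8509a21983cac54b995b7cea962e58de1033582358605373588358a358c358e359035921285359435963598359c359e4e4e308029aa4e503c4a1cf94e544e56185a12834e5806eb32d245044e5c4e5e0276dcd1027c027e02800282028402860288028a028c028e02900292029602988a302d236fa0a1e0dc85a1e2686796192d83a1e4a1e678b1855da1e88b081bc7,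
  nat_lit 0x9b1456626cf6e29d82106dd5ab34ab36ab3886a4a6b6a9bf85c471b7ab329b1e304e201c30503109310330fb31053101310b31070a6730ff310f310d30cb31100ff35a5b1488ad7fb095509f8930b09ae3a7b097b099b09ce3a4b09e008d69ebdcb0dcb40b81e832be32e9b65ae3c006a935e9b9c93cb371c4b1e82cc505a878587f46531f4779710de55ae1dcad85ff633579fba25ca25e7f36910597ce12b5dcce61b1dcd6c379b58fe9ba79f9c014a6f4c939c940dcdac42dc935e9bdb0e6544d655975fde8e2ac48e9e1ddeec032ddf0c97cc93b4711c333c587e9deddf47170682a21e67eb0e445b36aa632b3a0310aa2ad470fb39db397b39f7fa3b127,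
  nat_lit 0x3f74478337d38f3e8f408f42d61b0edf8f4459db64994dbd89838e9f8f368f3c400f28e1269515618cb424f18cb68cb26d3d8cb867ab27075a6b12378cb1d56f32df1a8422a68d3c8d3356478d3527038d3764798d3e8d398d3a8801d5998d313b8e42dd80829a4c9a4e9a2dd995122d963b9a523af187e29a549a5680899a4a04b0198a051497337b3b9da9a644dedda629a646a648a64aa64ca64e0583a641ce9d5d243b8c02fd1ad525eb5d4b5d465d4f5d555d535d485d4d0e4f5d5a5d441df9d4276f0b3f492489567186ab515986ac51d368c333547c78634486b386b176cc125e6f07a0019823a100dbe77d0661c7a10291bb9d9d97bd273fa0fca0fe,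
  nat_lit 0x51ba27836ae2231e62a940716ad36aea301762f729d9597d1b8e5a816af36b1a08203e821a2a3e883e8a3e8cccc111d73e903e923e943e963e981f93205d2e970f420f440f480f4a0f4c0f4e0f500f520f540f560f580f5a0f5c0f5e0f620f641fa002d31fa41fa61fa81faa1fac1fae1fb01fb21fb41fb61fb8037b0c311fbe11f723451b77623e29cd6242cf2b6244360a62466248624a31d1624c2e54623c56de22f656ee01c31b7f56fd56ff4a081b4727f731cd4f265701570656fb22f534791fd61e8534e534df1f8334e129f704cf037334dd34e334eb34e934a4349d0166d1a156d95e3c723f09977241724372443e3b3a8c5d49724634d362b3723d,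
  nat_lit 0x71eb091235dc11119bd9e3096c19ad6443057bbe9e21a201ad66e306ac9aa52048d121df9e74a6c2a6c47bb7803edf1da6c6a6c8a6caa6cca6cea6d0a6c121c11e3f249c7899a60a87e79e1b6914deb9973ba60ea6105a373ce1a614a60601971eda5c065bd6b7f820c9e53d34c7b7fab7f7e53a3cddb7fcad6fb0af916e598721c75b64893a0c1b9f94e4403ff5b394ac9939cf8547e443b396b3988caf5b5c5cfc9af14d33e84bc4e4c4e6ae0daf09c4e3c4e8c2b7c2cdc0a3beafb642b229094a021751776158a3b3e3bd3a598a68a8393d19b0fc8e16a90de3baac97b0f75e72201b786e62a72316791a7917791c7919791e63ac612d01d37920d1b97915,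
  nat_lit 0x41de3f825e6f868ae0d9859ba950987915436ef093a57455a82ea9528ea1a946821f6af0823fe324ae04e327ae069f17758d93a36ee31071277707df8240a66d71e97943d31f3e896c51791b7f0709637f0b7451106f6ee87f092a3f7f107f04094f32fad5b31f0f3ed43eca3ecd3eda3ed61c633edc3ed228733ed13f651e3b1e501e52d26b1e5601331e581e5a172c113b1e5c1e5e1e6003791e621e661e68104b1f395e80b3e42d397ec3b454a6b4b456af74b458a8abb0d2e465b45087273916cc0e3d98be46b565be48ad15be43a525e6a9be4ab00cbe4cbe4ebe449d0220313e502020770f77097705770b7707771177007702770d20d93ed02139771c,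
  nat_lit 0x5efa2eeb632f6e279ba49ba6d9ef9b9f95779b9147ce2b5733859ba8869c8699014f344153916a82a39cab53b1b0b1af870d08cdad3ca8e8e2fe3387e3dd34033482019a348434861113348a348c348e349025933492299d34962ad53389349c33c833c4333333b7335c335e336009f33362336433660c9824ff33bb33cc33ce03a904a003ab04aa0495048f0497049304a40499049104a604a804ac04ae049a116ed23b7a837a697bb47bb6334a7bb87bc17bbf7bbb7bbd7bdf310c7be17bdd281fd47b45544f9d053961476149614b0fb71801133946d30a456105611a61451a4c1a50d6cf1a541a561a581a5a1a5c1a5e1a601a62096b1a641a661a6a1a6c,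
  nat_lit 0x9e209e409e809ea09ec09ee09f009f209f409f609f809fa09fc09fe0a020a04d8b952a42db092a93375986b9864986194fb342f011398669869986f987298622d04481344eee389afda33771beb7dfbac5f67a13fd994839bfbab5d690be3862f5d1eb3804dbcafbe671be93379cc28be69bd8cbc89be6bbe6cbe6ee6afb4835efc35fa118033b6a2b67df93531337b6f5ba2b80939835f9c8ea2ba7bd7dceb2fc02fdc408aa5cc94f7a85fa8616f4c337d62471fb5a862957b8713a85993af08ad354c35463609342535fd36053601360b337f35ff3607360f08d535f536106c32557c78257d379fe294779fe5835c9fe69fe84ff733832b599feadb7903d1,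
  nat_lit 0x839c8f31987ae743c160c1624571c010c15dba96c164b6a5c166c168aa49b3d048656db3987ce8d7c710c712d61ad61cc54ac23bbe63e8d4c645c714be3eb5b04e2b83b60c62995e146d9960995d824b0a3f850f2b2544490fbf8411d92783b460774fae0e094c017fc46949d32d7fc668bb7fc87fca7fcc7fce7fd07fc07fbb39b3267f655eb8b7b717bcfe04cb6372bc5bb15be65bbd00e658bca1bcfd2c3464e374d10253e5beb155ba5ee48cb0b1b6e4b719ba60ba5bb17ce5c1523db5098fe362880f7be504b6d8b6da22813100e509b176b6dcb6deb6e0b6e28ffe8ff5016c6cf152c2129d11d1b2e1b2e74073abe2991e1a1bab89b2e9b2eab2ecb2e5,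
  nat_lit 0x3644db164141c8bac0a9e985db1cc038c8bcc8be41c1c8b9c775c8c0db20c78922ab64e93a4975d52a6775cf75d775d375dd75db064575d912ad75df41c975f850ee8d01114c74478d0a1fabd5978d0c3fd53e938d0e86868d108d1211278d08de1871854a85e9e4c1a7c73db53fbe42e9e7b90fc986c988c51dc98ade24de2698aca44723d4b2ba5946b2912541679ba0e57dede40f2fb37cd9b2bcb2b8a445188d71dd189b666172ee72f0d0ed66eb72f244450cc772f672f872fa1885728b72208939130e944991626f23120321af3987822f8fad690897f2008bd8958937059a1e9d065b18589966164d996570fa8523538769018faf996847260041d92b,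
  nat_lit 0x28231e472039e637b895bc3c79169bb1bc3ebc40bc42bc44b8d5ba785e46b8d92d293a4e3a5030893a543a563a583a5a3a5c3a5e3a603a6225993a643a683a6a078c20e8458877286b03772a583a772c479f772e7730773255ef072b773677385a275b6208bdb1e1aa39e3e1b1e6ab65a603b1e80c03709c12355a6d9bbab1e5630742d946045ba565d265d465d665d82285013d65da65dc5a7f1b9265e065e24170d00960156a4338c92af769b569b758016a346a326a416a3d064b6a476a371cc74dff53c6e6aab696be5d64955cd9be5fba82be62e6adb48fbe6453cebe6025093a3cddb53a993a913a8b0b353a8f3a9b3a973a8d3a953a9d245f3aa93a9e,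
  nat_lit 0x9bff1890653a30198a6a9ee79ee99eeb2320967d9eed7ca241559eee9ef040eb2078207c207e208020822084208612e3208a10cb208e2090209220942098209a56a2193463aaa278a27a79f7dcc9a27e608f5ae9a280a2827377a23920979a370b5a0b5ee2510b620b640b660b680b6a0b6c0b6e0b700b720b740b760b7a0b7c41e037bb8395af3daf44ca86af432a6da4b9946976ebe31a7f08783de36baf41ce6e630c14dfbe81c22cc22e76e5babec230c232c228c1c8bf2ce76fa8b8c22a6466985f6dc2995f7e7685c89ebd881b9ebe7f9d289e7c6f6de15df9db0f9ebb419712f9015fe432b3509bb60961b352b049b34fb354b2b7e435b14db34cb08f,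
  nat_lit 0x554756c04f7fe765c1fce762ce42ce44c1fec200bd65c202c204aed7584a56bb8e76a2464b47b75de88db939aa92d42ae88ae66aaed1be5abd4bbd5b6de5c6049b4502bf03f71be5b792b78fe38a1ab1b796b794b78cb790b798b74fb78ae5258eb54e6d4d8583a8551b71b396c196c3559a96c896c596c65df76de396bdd84b06c377bd5cf905bb77c477c677cd2b1f77c8347177ca77cf77d1626313d177d283f71eaa0fca7ca485ba85bc85c17c8059771e2d85be3004516384479963513385d2159b37cc85e47c8d386c86478649612785e667cf864a12ed641f85e38b36271e0aa31fcd596d6121684068370d15683c68446839231a683a4c3bcfc76835,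
  nat_lit 0xa00983ba6fa48225a084a083a0868ef59205944f9f87a075a0888a53a080db9b00641b022689270c2704268b27082702270e270a059527062710271226d2cb7b392126d73f916a102e116a144e396a1869db46631c652ec96a1e6a206a246a2677950ff59ae0a6fc1c5930fa9b6ddf3ba6fea7002e1da7047ae1a6d1a6fb7797d40d60566058605a605c605e6060606260640b3b606660682e21606c6070607210800219108410861088108a108c108e10901092109410961098109a109c109e3e720b4f1a535b67e631bc22a6505a10bc24bc26bc28bc2a990fb93f902353202fcf7155703bc269b955c29b12e1afd7c297bd63c2a0e652e78dbd3f887dc29e,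
  nat_lit 0xccd8d900d200d400d600d800da00dc00de00e000e200e400e600e800ec00c1e0570ff60ffa0ffc0ffe04c91002100410061008100a100c100e1010101410164f4231df3dba06374f464f484f4a4f4c02e34f4e4f504f521a1f4f544f584f5a285d0d744819e553b343e550b2e6b860b7f3b862b864b866b868b39348030d6f522252245228522a522c522e523041015234141552360f5b5238523a523e52190f7237b00161895a2f2b54ec3ef186488e1b8e198e148e1720938e1d33ff8e1e06860688068c068e06900692069406960698069a069c069e06a006a206a606a80788974e0798b20cb20eb210385bb212b214990bb216aa31b218e3e706a5e3e4,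
  nat_lit 0x97fb7a8e62c887f9a240a23aa23f039da242438e83199abda2449833a23ddc9d898855fb6465a1d0a1d2a1d4861adc77a1d681162ec71c67a1d8a1da4aeda1ce65c5910947efad93b094071b0a91b2680addb14be3f7b23eb04cb26ab2665ff967b9ab3f0061e8b2b3c3ba5fb0d9b0abbf73b70ba7b5c696e8b5c61105f5c694379982b95850bf009bf79e13beea691cb66db775b463a039b409e6d0e6d3bb846f6197996a97c854c559e960d9fe87ebc554c84fc150c1ef1bf7e95ae9631d0d08aa24a3910a8b0d59d39c46da232afb9c489c4a5a079c4c26a99c4e9bee258524442446217c244a244c244e245024521907245624580f9b245c245e24622464,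
  nat_lit 0xcdca19b7cdd0e74bc184c18633a1b255a3f1bbecc188b6d1e748c18aafd4c1827a8a00f27289a981a9e37d02ae6ce33f4a3d814cad12ae67954dae6e89d9ae6b12be723158bbe3ad793be3aa0999b0b039cdacbdad57b0b2ad63b0b4aca2ad5d7568dc93771e97fc97fe696b9800527d4bc68fab823153839323980298069808253425362538253a253c253e25402542254425462548254a254c254e25522554553e5c60302fe4acb570a1e3a70eb572ade5b559a979b33db56de4af3ebfadfd584943b0554ea22ca22ea1efdc9ba2300e79a232a23479c9a236a23856b7a22b9aee0b251a99c47db555e82ab50fc005a9efc4a0e820b87dc461e82dc49ca9a9,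
  nat_lit 0x4349435347ccaf9da1856ebd392fafa3afa85697afa5afa7ac29ac1fafa0e37fd3a13ee63ee83eea3eec3eee3ef03ef23ef43ef63ef83a633efc3efe3f003f0218625ddf283376bc76be17add16776c2595c4e910d1b10374c1172fb76ba5ddb271c5f026b1ee546308bb7ef61f5e549b828b801acdfb82a7bdeacc1acaab1a02a974fd76a04e755c1b0c1b2a951bb8d9909bf29c1b4c1b6e752c193b026559434a660065f26868b867e3df786855625868d8689868386875ef933af869786981c1d1bdf18f9e606bb9085555623bb92e408b2abbb75e609b56cb25b1d0942a9259ea9a526239901adaee31590c3adadadb0adb2adb4adb65b79a3f9141fe312,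
  nat_lit 0x43e802abcadcb9924adbe2c61877babce5dc4be11ef5ac1cba1cbb189e0f2ed31f571ed1cb2b0f8b1f631f691f5d1f6b1f651f6f1f6d1f5f1f611f711efd1f5397883d3a1fa3becde6c5bebd6415aebebc31bd43e6bcb8b3bd3dbed5e416bed6467828268f82e34daeaaaeac4a57aeaeaea7aeb0650f22eb86e96c07abacaea54515731f5e0346833c27733a7342732f73446511733c734073467348732dd0fd009477fe54af7a9620f77a93d20b7a9875dc7a9a7a9c25c37a9e7aa07a877a94305525d002c492f492f692f8879ad6fd92fa904d92fe93009302314f30c192f319981681e243a760a757a759248da75ba75d2d8da75f89996891a762a76d92f2,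
  nat_lit 0x757f88954ceaac16a4992ebf0285ac56e2d245c5ac53ac554695ac5878b7e2d5390f39823911027f3979355d397b39773986371d3975187f3988393b398e191701fb11f801da11fc11fe12001202120412061208120a120c120e1210040e12143888435c1e6c634106dd6337633d633b633416a463393c46633f6345633238ab28851e010d41e751e600b9afcdf2c07292fbc19ec1a0bb61c1a2c1a4c19ce2c801d7027201d902a20267026102690265029c026b0263029e02a002a402a6026c252e62508f8c1ee731021c5b4e559839983b9836983d983e6383899b9835257dd9e50176017a017c017e01800182018401860188018a018c018e019001940196,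
  nat_lit 0x726839507777a9bbb5a9a440b5b6e4c57306b497ad0ae4c2b5b8ae6f7a85b5b16efb04fa4f09e3299363e326ae0c9f4567cb97ed612b63b046f57790ae097ad6391d18693cac5f2a2fa523a35f2e44975f320f975f34594a5f365f385f3c5f3e59a674ce8693be30e6a17959a7cee69eb123b580a047e5d0b13db561ad19aedc868e43f57328730803979038a9b5a8c3a9b6a2256093e2a1ab318ff9ab4cab2d9611158e7a819f4384e84414e32de32a240597df5237ae1490ad8593ab7096276547383043fcb6abb475b6e805c139cbb6e5b6eab6ecb6eee50bb6f086bab49243dc2a291a0086c2765f86c486c6520786c886ca86cc86ce86d086d286d486d6,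
  nat_lit 0x12c2dec32762276427662768276a276c276e27702772277427762778277c277e255b06f82796a0d65693a0d88078dbd7a0daa0dc51059deb930383f16252a0d5d15c117b0225e810af05c44ed166c045904bc19fe813bb49c450c40fc3ffb1ea68cb38c57ab7a9573df5e343ae7a2c971e2b5979978562fb22c37a577549a3df5b2a06d5224b244b5a6370ce7017aa1aa7e715f1520d1f5ea793aa1eaa19e18d4f3a75a54f3eb875b365e559b507b87ba6c7ad776be7b87cb869b3754f854f5e456585f0ddc586201ddc56ab91a391a791a522063565806c547791a091aa402d459b56650e921e7599177b31a61d8d0da61e11db57c8562ba620729f0e85debd,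
  nat_lit 0x4fb6684c3bbee616e47205bfbbb6a7ffb0dbbba9b603e619e4d0b60b831fb5db041103d4cc8104070403028303fd040b0405039f040d03ff040102a5048403fa43e75eaf5d0ea4c8a4bca491de05a4caa220a4cc5aeb86a9a4ce6957a4bb9ead6ce76cd231e717755bb26d186d22328d6d266d246d1a6d1c6d285f396d076d2d445e079503f974d3026668bf9f2ba21c694f8fe0567902e95f37a227a2dc44cd27e06a0f572c99c0577997d29d899d8c9d8a4420562957ca44c59d85da8f9b2906b8646e3a14b738b734b72f414c7a6db73ab736b731b732b73cb6c70759e515324d8ee05990e44db3c2b157b3c42869b3c6b3c8b3caa3f5b3ccb3ceb3beb3c0,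
  nat_lit 0x443380fe608740458d4359d58d4538cf8d488d47780982a83c9276ef8d4a4979da84da889529e975c7b7c8929ff0aaf5c894c896c2efc898c7a9e972a043c5695cc6699623477be940176663a6e1a6de6d277c4172dd38a3a4cfa6e9a713987ea0a4638b8517e771c234c236ce72baeac238c23aba89e720bdc7c23cba359b3855d8d18355de55e055e255e4265155e834912e6155ea55ec55ee55f055f455f66a386a956a02e42cbb53e5f11903bb563cd9e5eebb55bb589743b64b6a496a2700c4110a110e11101112111411161118111a111c111e1120112211241128112acbd31e1a1e1e00a71e221e241e261e281e2a1e2c1e2e01151e321e341e381e3a,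
  nat_lit 0x27de3bb87bc27bc47bc67bc87bca7bcc7bce7bd07bd25fef31277bd47bd87bdc548b66205b3787e487e687e8156787ea87ec87ee770331255ff1466987f287f416e325120d45770ed679348b67ad917291747a3f91765b1d219b1f1f5c25917007b3672a7c752f297c7b7c7f7c777c817c7d6b9923ad61fb7c797c067c844f5b68551594687b3eebcfd7688468866888688a688c688e309968906892687e3155391867868ec385e585bb3bd396b3896041034ff996b6676196b45265d84996b1243f24a5247920812488248a248c248e24ab2490249224ad24af06ef252c246548cf3a3f8979870782470453d49d14736a8a773c897e898089828984897a897c,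
  nat_lit 0x440a02018721b76dbd47a45b7081aeafbd49bd42b44bba53bd4abd4eb2c1bd454b2357e95fe59fd1988fa101e341e33ea93b40ddae72ae74ae76ae78ae709b8b0e660e680e6c0e6e0e700e720e740e760e780e7a0e7c0e7e0e4d0e820e860e88081e1a451aa11aa81aaa1aac1aae1ab0caf71ab21ab41ab61ab81aba1aa21aa6da6d321f3cce3cd03cd20b8f24513cd63cd83cda3cdc3cde3ce00b433ce43ce6352b26b8352d35340b8d35383530cc29353a353c353e35403542354421bd1b57307bd8f94d835a61244d7df85fe97dfa57d37dec7dea7dff15737dfc7df17e0354d213530885e5f8bb52bad757cfbb6c5fedbacabb6ee5fba30bb9febac7b010,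
  nat_lit 0x93c041e835e0a9cfa1a4aae86dd7aaea2051470da2afe259aaecaaee9e5d8f3d4840839301637bc5a2eda5f0581aa5f5a5f74479a5f91ab75613a5faa5fc488302d002d4d6a102d802da02dc02de02e002e202e402e602e802ea02ec02f002f2232f23be0a1b47f11a11a0dfa0e2a0e1a0e457c611dd441e930e2cd21ae7a0e77d463e1e3e31e634bacde68f47f7baf04911bac8b355af2fbdd7bb09bdd8cbda11a95a473f6c57c281843b79818681885a6747fb1e7d818e6d4581903fc08192cf9309540958095a095c095e09600962096409660968096a096c096e0972097405300534d24b05360538053a053c053e05400542054405460548054a054e0550,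
  nat_lit 0xd128216f42f7c3a58553e8092c95c06ce7dac430c432d132c434e806c42fe3825a22341230c8e5f3bad5e5f05debbb5a0b95bb417497bb5caaf7b653aa17a5cf507c30a942e25039a3460d893819a8e5a10d8a130bd3aad992078369a8e2aada39123808091e4c0000794c044c064c081b1b4c0c4c0e33184c104c124c164c180ec9841f1e0f92e99fe34b2dbd18e661978393e91e2f98679f658ac988ab848b88f5699475fba43ea085a9bde255a0959035a49379fd6ddf7c71aadea43caadc8fa1dba235e7e994c707c8f8dba8c018e997c8fac16fc891c7cbc8ef3437c7c479dc8c4f982783e145bba9c59031aae2e257a49fa6f12057aae4aae6a8d2aae0,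
  nat_lit 0x4921448a6b1ce35faf04af069f40af08ac27aeffe35caf0aaf0caf01444faf0268274d9c9a91b746b3d29a3dab69b745b748b74ae517b743b74cb74eb73fb7413a4b48d600a3253b490a490c490ecd5749101ab34912447d49164918490649045ca1117f48fca353a391a392a38fdd57a3948bf3a3960b3fa3988b074dc3a2a204231fc50e909de39be79e1a5593dac79e1c9e1e9e209e220b9d205b3b9b1fbf46f90bf602509e7b7d606bdf9e9bdb0d9e2f9e9e9ea09ea29ea4471546fa0131df4142f442f842fa42fc42fe43004302430443064308430a430c430e431243148da55897759e92f5ac3e8afdb532b530b534b52db52f0b9baf93e49a951de49d,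
  nat_lit 0x97a5d3325e06e862b0ebc5884c07c02ea189c361e8289e83c451c58ae865b1ed101a6c3f09d0b0e9b0ef78e990a3b0f1af9ab0f2af487d66af10ac4fe3b9109f027595c988ccc474d1acc476694bc03e9f2dc478e8216be9e81ec47ac472891c8e5d2bf02989bf7fc401c579b601b647a7b1c540bf75c57bc57dc57ee8616d4d32dc35ce11b24682468446864688468a468c381f4690469246944696469a469c167d4968684812278cc3358b465d8cc782184e3f8b9903a38cca1575315168752b658657354823fb5954911c9aea67c99aec0c8f8e159ae7393975b99ae59b1f47324cde98d2ad1b3e3532c4b1b7100588efb2c9b2c7672e1d07b2cab2ccb1d3,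
  nat_lit 0xd7244fc5653de8fac4ebc5d14ebfc03de8fdc772c537bb3dc774c6c793f8c7701b333a83865eb0c8af381b79b0c2b0c0b0bbb0c4b0bdb0bf407db0c64ecfe3b1556c6fef95cc51eb3d11520395da95dc3eb395e570d27eeb531d075795d995e6505c1295002750605062311950665068506a506c2d8b506e507045cb507450761c233255148c5a2831175a2a5a2c5a2e5a305a325a345a365a385a3a329b5a3e64715220dbb31345cab66c0e6c176c106c123c544f95169c09a56c216c4b51fa5d2681834558bab4b376e448164fbab60187b0579dfbe5d1b145b361b789b08d888f85f564b9e3c0aedfe551b2deb858b8297495b85ab85cb85eb3991239b1f8,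
  nat_lit 0x6d793ae1183c856f8a4644b78a488a4a7e198a4c686d55178a508a528a568a58582947404d52a98044b5a982e0fd9fd78fde6951a23571ab5787a984779b7c353a02b07f81d4e43fb1400c1f7f2fb386b021b096b317b388e43cb38a0df9b084006d11aa278ca6341739a636a63365d93c4ca638a58aa25f3fffa63adecd12792d2b05206f02a00098459fd5db89a0029f639ecb22bf9ff39787a0049ffe95f7b07d5da7423abf7ebf80bf82b67bb63db3d8bf84bf86bf88e6f3bf8ab86fbf7c67b1361b98cce936c804c7ffd8ced8d0c1f5c1d1c1abc7c1e939c6f7d8d2c7774b7b6588682eb3ec93ff0135b5d6a6b9b457b4d8b42fab9be4d1b5cb6847b5d4,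
  nat_lit 0x565d54d807efaa25bdabbc9b84edb03bbdadbc17bdafbdb1bdb2bdb4e685bda952e7d96736ad53165312530c11175310531a5318530e084d531c134b52fa5321429f1b001e55afbaafad98a18566afaf5695afbcafb1afb3afb8afb5919fe38112c70ed13caae407b29a6bfb9cc09907b29ce3faa5f821995b27b28fb287b1f9032956600ed5e4db71cf8819b60085cab436e4d8b60298b9e45c8d7da383e45e38871d5a6c233cd11aab701470167018701a701c701e70207022512d510d516b21c4857f7533e2fb1d8187fbad3237194db9a333aa959a2f1db95653ad2dad3005fd8b786ff5b0c9af455cb2b51c75d2e499a5abb4a0b51e6c57e480b4e0b51a,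
  nat_lit 0x68cd4eff5edeb181b8c0b8c2a672518db6a1b6b6b8c4e567b8c6b8c8a59bb8be090671f7723751879bdca7196c16ad60a2ab31062055a6eaad62e307ac9dad5e8254740255c5b69db6f6e50d0137a2a9b174b6f8b6fab6fce50ab6feb6f58153da4a689d427de96dc544c876da54204fc878e96ab178c87ae654c87c0d99e56466bc86ec1f4db46cb465b4674997a6edb469b470b46eb17ab46ab472e4698e503dab275068ee9d59e3d38f5bb182b1849a619dfdb04bb186b1887b4de3d02745cb832714279f27a921fa27ab27a127ad27a71de227af27a3030f150327b2279d2b8f434c4797a43f8227a441a443273346cd916ba12e0fbd444b7d138926a444,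
  nat_lit 0x48cc680f2790e3ac22dfb0a30749e3af50a5accfad53b0b65197b0b8ac9fad431e99dcb335de5de53b7784078409840b70ca10333eb74e9583b3841084128404780e146271fa0b8b3b9f701570c6a5b9a5bba5b4a5bd93019deda5bea5c0a5b7658723cb775ae5e8bacfe5eb102fbb46e2e6bb45b109bb489e85b11946d7b1312ee9429854e0855085528554140fd3fd6b8385568558855a855c855e854f568d19206cee95aa486ba2d8a2d2dcf79c72a2da9230493f49853be1a1cda2d598631ac40e634c499c7025b72085a2604873a26505934a95210554f691a1457fa266372a2a51372c372e3730264f3734373637382a71373a373c1e81373e37423727,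
  nat_lit 0x6b3068206b1077e07760770077a07740780077c07720778078207840762ca933d82a7d42b8a7c37a41b443fe4cdb5ce3bfa7bf1a99fa89cb5b9954f2b7db5ae02f602ca02fa02fc02fe03000302030403060308030a030c030e03100314031633de955632f63a98aa380a39511faa36a8a1023f5e363beeaa3aaa1faa14e19d2129305b3341e6abb6f7be521e5b889fb169bc60be54be56b47fbe5879233c0b98c708ec241de3beabe06151b03484ef11d9b2cee40e9e871c76b2cbe419b1d46a5d34bb3e63a510a5122425de3314f2a514a516a518a51aa51ca51e8a55a50fdadd71df2580726027ef724d725a72620c4b1b83726422c162fd014524377253,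
  nat_lit 0x1d4e30f446811fa76257744ba4d6583849f7791fa4d985a372bda4daa4dc8d30841b707866e94ff300a9153d957c8e59859f85e77d4149fd957e7089d7f968345c75255858530b630f4db2e0b2df6aeb61f77fd8a503b2dda77b4001e42109291dfb0d05367e7a68258bd2097a6a7a6c7a6e111d7a727a317a7475477a667a64014a01a801587a38d207258d20fb7a3a7a3c7a3e7a407a427a44019101653ce748ad2c6e2f4a3fb8531367a9348d924f2655924824fb10cf3d1d9d119e01924dcc1108b92fa02fa22fa423ff2fa82faa2fac2fae2fb02fb202a12fb42fb82fba698a59aa16863bf80d87a342a38ea3877c3f6d255d523a94ab300f9f8942ab2f,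
  nat_lit 0x281a5ba059e35ba45b9b5b975b9d5b995ba25a045a062dc934655ba65ba85b9e8a356d702e73127b133d089b2ac790875389852105454bbc8e859d109d12924a649c557864ba1e5764a3108b6494537f649664a764985283649a64a964bc64be0bbf55d67fb628e700d7a745aa934bb7527f36fdaa94908d7087aa96e2052de8588d5429d764e904c78abe53d766b05fbf09baa8c71dc179b6d3e9079093c7884fb2df8b655c00777fc590a090a2865090a48a4d90a890aa90ac90ae90b290b485d94ca80882010549f386c5967a95dd625b967c92b100b7967e96819676968d32da3d0e0b56092b3d10002f3d123d143d163d1833673d1a3d1c3d1e0ba13d22,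
  nat_lit 0x587c6992590821fe608905e36c846c7f6c886c8603a16c801ae36c8a6c7a6c8d6ab569905e326abc5cd56ac06ac26ac4518f6ac86acad01750ad6ace69596ab954d75363126c5e49707f8d98d5c53f9b84818d9c5f8b8d9e00e700bb8d928d942fc23f3f4a520bc53f954a544a564a584a5a4a5c4a5e4a604a624a644a684a6a1d9e1da21da41da61da81daa1dac1dae1db01db21db41db61db81dba1dbe1dc00a9d4f731c299e6d31c19e90db0b9e929e949e961b7b9e9829dd8b1b708b9e8e7011842139dfe8d6c716e8d9d62aa1a6c54fc245be55c709c641c7189e8cc700a69f4959842ec32dafbee7fbd0eca3253c2fc40ac3a8b10ec40cc40ec409ae89,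
  nat_lit 0x180e0510261028102a102c102e10300ea510320b7110361038103a103e1040d92d04be04c204c404c604c804ca04cc04ce04d004d204d404d604d804dc04de792813ee443934e434672a317b277b280e177b2a7781611471007921d2257b256b286ab6452be53f5bf1e53c50ccb7fe7493b8000b99b802ad67b0b5aca7a8860dd245874062bc8eba6dbc9047659bd4bc8ae647bc929217e644b171bc8c0e8960e5291303f1a3a36a84b681b7be0a3d824de52bb4f65f8db7c092b7b7bcaccc340d5b8317179a389a3a9a3c6a869a3e9a409a429a449a46d97d9a489a329a361f794cab56f0b2040a37e3e0e3e36a881475b2068e745047054933ba2ad76201,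
  nat_lit 0x4e0819ec910fe5bfe5bcba54b4ffe3aee502b72bba56ba58b8c7b8e79110b8cb3d0232e42de26bda6bdc6bde4f4b6be06be26be46be66be86bea3d636bf06bf22dd542e14400b918e570b91aade3b55fb91cb91eb920b922b924e573a2768e80e19f5eb17a487a4a7a4c7a4e7a5074115e517a527a5405cb61737a567a5a1aa7035e0360036403660368036a036c036e03700372037403760378037a037e0380086663626013e46ae46db484a4d2071fb486b488b48ab48cb48eb4905f93b4821a7788f664c5ea27c17dc16dab99c01cca18ea24ca1ac9f1c975c985e02ec1cb5d6f7cb18581948598fa7d3bd8ef57f093a1758f154798fe8d3b64d798f898f7,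
  nat_lit 0x20eeda7120f41c7820f620f820fa20fc20fe21002102210421062108210c210e565a48dd7dd4e607bb8ae6049880bb8cb29db2b5bb79bb8eb569b24f75bbb11105ff0f0bcc30be80be71be73883da453be75be77be79be7bbe7dbe7fb4fdabe5379c3f8d211f9a39bcddbb0db1b1ba13be82e6b3b15dbe84be86be6fe6b0be614506031f67933715902c039945bf91ff9204028b05ed359592067e1d6794d6ab2f5a22239291b0d7b4e8b4ecb4e75e38b4eeaf61e483a9b1e45086d3b4eaaea4136d80fc13d969457e4d4c05814b40d974db814d80f2064717bb815102ef815209dd50871b6a39c50719509e2b1d50a250a40c2750a850aa50ac50ae504b0a05,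
  nat_lit 0x8d8b82cd5d0be980c24fe983db0adb0cc8adc897b84ac8b8bb32c85fb553b7af20ba3cea4ac45f2b91435956a8d0a8cd17b31f6ea8cf15f574df17899dbfe2936b756b7637596b7cd0536b7e22316b806b82688d6b845bf72d7f6b880193323012c12134452c9ec546e740d5dbf74c09a116a103a1189e73936ba11aa110a11282575d2e6ad1e6ebe6e8b8976c08b871bf52bf54bf56bf58bf5abc7fb35634d7a5431d562619e42ead7378a7a707b3387710b33aa30fb33ce431b05c5b7d1d99595123f22c24239f595559575959595b595d595f2f370eab1b23596659685953d4542eed2115e8921be7e895b4023cd7c624c5bdc60dc626c628a7b9d46272a5,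
  nat_lit 0x6bd703326010b7edb044e545abf6b821b823b81faa89b824b81db025aea96bf3032264611b6f6b7dd0696bfa6bfc6bfe6c003ef76c0247a1299f6c0646996bf85354260c344e172a538050175384537e538853860edd5382538a265f536bce0f086d082f088fca970898089a089c089e089108a008a208a408a608a8089208961644dcc107051648164a164c164e16501652165416561658165a165c165e166018e6122119408216e4c10edbb1839638122f38d3501de4bea6056d4712b1b5aa2721020f696469666968696a696c696e21fc69706972501f69746976697a695d374975ec2e2de770c242c23f5c17a84ec241c244bc63c0dae773c246ce7ab6a9,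
  nat_lit 0x5f0cdce14f913623056139035f1420ab547a5f165f1819df5f1a1a675f205f22255c0a7625602562256425662568256a256c256e2570257225742576257a257c0f840f860f880f8a0f8c0f8e0f900f920f940f960e490f9a0f9c0f9e0fa20fa4873758d3873910c151cb794c2d7b2955686924917e103fb4223205f3874267fd2e712e6f2e752f0222b32ef42efe2ef829572f002ef627fb2f062f082ee0cbdbd7d0291981fbe914c7a1c792a5c9bae3bcb3c2cbc312c7aee917c6472963d7dcdb9d3ae303f27adb7abc7ae43e397add7ae27ae660677adf7ae07ae87af17ad758b357733854e3a90ad5b0a25e3ab0a4e3a6b01a5127b0a6b0a1b0a83829b091,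
  nat_lit 0x1a4b80390554ada8ada4ad9d830c8114ada6ad9fada1ada3a3f75b7b25c7e313081ad43b08302d362d3811352d3a2d3c2d3e2d402d422d442d462d4808952d4c33364ad30da58b5c8b5e1e25d5090e438b608b624b3787318b648b663c567914132b38ae3bce386a3bd03bd23bd43bd63bd83bda3bdc3bde3be03be23be63be808e62fdf126f3fca3fcc3fce3fd03fd23fd43fd63fd83fda3fdc3fde3fe23fe4492369ff5b8fb919c4fae316add1b557c67ac10fc1d9c10cc4f7e8abb9bdc67861ec61eedd0361f0614f61f261f4301d61f650ce61f861fa33560cf561fe62002db864b668aa335b8b2e7a927a6b415f8b30531981753f578b328b348b2dd4e5,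
  nat_lit 0x5db860e04b4aa384a29b8abddd55a38698b33291a388a38aa38c4b3da1a1a3811e9088823d4da36edd53a370a296a372a374a376a378a37aa37ca37ea36d88812c603d0932f0b0d6e3b3b0cfb0d87242b0daaf6fb0d4a401b0d38735b0d1b0cc47740b4d19c44dd5e473036bb49e7297b3bd1f8b71d533ab94018d13519bb49c3fc508f126cbe79abb2ebf3acf2abad9bd93e79dbc53c2d0c255c24db4f1c2ce8fa40f714d5eb75cb464ad9c28ed3242b75eb760b762b16fe51d921ba4268fb790111e0791178315a740a744a7432202845da5d587fd3af35ed7a659df93a73f09d271050a10a87b830a4995e063608da8a4a8a6a8a8a8aaa403a55f0a877103,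
  nat_lit 0x2f120cdb31397d7b7a4d339f86f47de168f886f686f8037786fa3e03870087021ceb5f9a2f7b9b3073697ddd9b2b33a31adb362f9b2d729d9b32562f9b279b39888a1d5f65c25cd3890889061722889e890e890a88a088a3891078b588a5891d1b8659351b5e15e759475943594959451a172457593c594b02eb594f1b97595239b419f018416d7f6f39843ddde188b5a486a3ff3293a488a48aa48c180b29e506c11642168d169f05e1169916a316a116a716a5169b169d169416961690166156662d33d9fb25b5566e56705672567456760e7b5678567a567c567e5682568464ac192830d564d0648e1dab64ca64d2649064d45ea464cc64ce64d664d964bf,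
  nat_lit 0xe17f44e66913691b1563559c6915691d691902e5691f6917245d6921692406f52bd807673670a3ebdda9a45a5ea2a45ca45ea460a462a464a4669911a459075dd41ad41e54b3c173c161b943527bb58de88bc093c5ffe6ace888c329acb2c60218f30c151acf7c367c387c3ad2597c3c7c3e7c4073737c427c4457897c327c340f6a4abc3a1654fe54f154ed54f3386e1a5f54f554ef54fa54f754803be554f8290b802b34511ad302ff4a559e395ec59e3b547e70980c6821f89cc375959cbd7abe6bf6600eb25cb25faeb51ad7a3efb257b260b1a928718111b262e3f5addd09db1b5a6239b3aee44bb3b056fe6a63b3b2b3b4b3b6adc5b3b8b3ba623a1aeb,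
  nat_lit 0x36137a623679baafbd82ba877839bab7bd7dbd84bd86bd7fb9efe67f154fb2e42d3165e601b3ca968b9a127d3ecc2d3d06991d018b986c818b9e8ba032488ba3179813b7344ca3fb5ec78d99a9aa0305e1156d87a9aea9b0a885a96b9dbda9a8318e319201ae3196319829cf319c1a15319e31a031a231a431a631a831ac31ae332f015421a3335a33473349334b334d334f3351335333553357335931ab33cf42d1cfde9525e7c03eedc3452f2fb7a7e7c3c354904fb8277a33bfd3ab6e884828500d4d285a5e485e4a5e4cceb525ef5e505e525e545e56499d1e35288328794d9b02f9cdd6e74ac18ec18da997b247a45fbbe5c190e74db94bc1922551bd1b,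
  nat_lit 0x40ef839048feb135bbc15b3f3629bbc3ba33e3f22571bafdbbc4b2a48d5ae61f5abc14e707ebbab5b36db3a595e9e5ce1c61b06169dfbab9babae438e5d328ff6b261da190c1e433b342aee111d5b344b03db346b348b2adb34ab33fb3404fe5225272c56189a321be9ce87cd588c03ac6a0c6c4c5b3c5e8c6c3c6c6942ce8c33ded19b251e71029a5061a13a50529d3a5085df1a50284e7a50a7fa1a501de27201378a37ab4e6e3bf2ebf301067baf1bf32bf34bf36bf38bf2dbee1ae0bbed761af40f16800aec9c0dfe696ad3745c1c0e1c0e3b763c0e5c0e7c0e8a433b7006ce561b47202e429b30485413899b3066065b308b30ab30c3d61b30ee426b088,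
  nat_lit 0x32b06cd8695e635bad0bc3aa0e3baf72545bacbb349af21a44dbb05bc38e39419eb19a61a071a0e1a101a12caed1a141a1619091a1a1a1c1a1e1a201a0a1a0c7ef0d1d241f9c316bf3fbb39319dbb4fc48bc492bf61c48dc48fc491e827d1da2bdf58d73e25aa83253dacdd5948b7e6b7e83cdbe539b7eae536606daca8aa80977178bed1a4e81caf19c449a6e3c043c33fc43dc45fbb51e81fc470c2a378bb2393716b300171b071ae71b271a871a169184f4f71b471aa190f71b6d0d3394121d106c4292fe55a2e5bb877a777e55d7a6f6e179e81b880b10d7eb4adbbb50131b8217531bc13bd31c031c231c431c631c831ca31cc31ce31d031d231d631d8,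
  nat_lit 0x3da5387a6a2bc648e8a1c64a93d0b661b447bea8c5fde89ec64cc64eb076d4ae79df73bc10e5e4f0b668b629a108b666381d65ffac32b665b597ae51b5b3e4f3135c36a1593ee462c21ca371a8e6381bc21ae76bb764be85c0e6c21ece66e7683b8421d73bc6e6b9be9dbe9ecc4665fbbea0bea2ae5ebe98bea4bea6be9bbe173f43d3760257c5a8e86fc18786f5ac2eb768ae5cc5aab47dc177c5a7b40f944066c1d488d48ce89de89ac403870bbaddbe83c24bb47bc63ec640c642ab5fc63d71734133d5fae8d3c706e8d0d5fcb595c0e0c0d8c175c708c703c70a4483c7045d0350331e08bd56b64dba017e6bbadcba15e6739f79b664a1abe670bd4026f1,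
  nat_lit 0x629f478502c08afba2ec92f91f5cdd09a2eea2f0a2f27021a2f4a2f68d05a2ea936f02116a07e884c525c1b3d40abb89bd6fc2b5c5f8c315c327e887a315e8823d7f104d41a2c5cec4f3c5d0ba3dc042e878c5d2c5d4c48cc5d6e87bd3c4b0f9974d60df775875834491a86baa432fabaa4494783bdd679f4943aa46e1abaa4167b794d919f8aa82490baa8415ebe203aa86701daa88aa8aaa8caa8eaa7f67db4b1c08ef1950e29f12296146a74dab46ab45580381eb7305aa3ba795a79cab4307c1962c05b7bb36bb2fbb3829d1e5e7bb31bb3ae5e4bb3cbb33bb35bb2ae5120c3a0c3c0c3e0c400c420c440c460c480c4a0c4c0c4e0c5001170c540c580c35,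
  nat_lit 0x518200f4518451862ac3518a1341518c518e51905192519451961125519c51a13f441d58dd153f48208325b93f4e03bf3f5008491b1f3f562f3b3f5a3f5e3f607e5b891960a9c4eec810c4e7ae07af2be93ec809bf2bbf39c1d3c1c7b7e3e941804936586684e5b4ae059365e5b717b1aaf9e4e2ba42b5e240e3b23db625ba40dcfb4def070634c1002d5202520452062ba1520a520c520e521052125216521802cf54a13a86e3f9b27868859e8bb271b27ab27c8945e39aadefb273b27546414d017efb37cfc4d1c80ac4dfd8eea5f4e93ae93dd8f0b791c1fbc139d8f2c1831af10d792cbe4b2998fb92ebdd071f6aa2dea2e0a2e2a2e4a2e6a2e886264c90,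
  nat_lit 0x5cca5ccc5cd05cd25cd45cd653855cd82acb5cdc5cde5ce0072955f15ce613d5290242db10e781a184f3675884ec84ee3e913fd767993bdf49871011103d76de32000ddb07e8448e44904492449444964498449a449c449e44a0329944a644874a2ecd95170602a34a98392d4a9a4a964a9f270b4a944aa14aa3356b4aa74a9d740136b67407740c740e736bd123741025f17414741628a474182ca3568174052ee5cfae2cafe7b98950e7b65f2fc054c33e8b01c340b7eb9f358bf988d48f5204460448044c044e04500452045404560458045a045c045e046004620466046862642f684645b6aae46cb6ac77cc50a3e503e4feb6aeb6b0e500b6b28edab6a8,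
  nat_lit 0x7330451f902be2b08452456fabceabd0a87da823abd2abc7abd4e2b7abbfabccd9b86ce813a8c843c556c839d9c2465fc553c825bf0bbe0be5dae95bc84ab1d244ac44ae44b044b244b444b644b844ba44bc44be44c044c244c444c644ca44ccd9725767a4f1e94ec546e951d97a4bddc54bc833c13aaed3d97cc83ec83ca22a85ed7336999ee3ffa8fdb290acf73600ae0fa2b96155240b8c63b1bde3fcb1b44e9a09163756e4f5ae3f9fefb66a71a0b66cb3fde4ca9fdd8d7bb4234eade4f2238a2fe11225c4cac4cce840aa428949c4cee843c109c0f4c1e7bfe37a03a07178e153681025b1e03a90e3dfb1e2ab5904a5b1dab1dd0d958ccb7dfd78e49f7c,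
  nat_lit 0x20b87ba7367420474bd99d066148da679d084ae3519383ed9d0c9d0e81079d03da6e3e21da74e971c711c888e2eaa9cce96ec863b6a3c88ae86ac88caed9e29208b72d0f5eb5bcdb9a3bb3d4b7bfad4fc597e57eba57c658c756e8f3e422abed7ff5764f3d27e979c564c8a07515dab0e976c8a2bd12c8a4c75bc883dab4dab62f5613766d2e7a1390f690fb90fd90f886ad90ff7fcb910291019104910675f9dd9d761c646297fd79f59f849f8188dd05e90def9f8617247de6686f9f8b9f7dd38c3b937755c157ae56c5b08ca7c001e873e870c5b2bc75c084c539e4760857900b7821d76346c3902d90399030903290348293169a4f9b9036297f9057902e,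
  nat_lit 0xd8210aa0313a313c313e3140077b3142314431463148314a314c314e31523154802898d13850e463b444b4411dad650db446b448b44a9a47aed5b44c802f8e1f1fce206c2eb2e5a3ad4de5a0e3e29a3fba0eba1022e964ff4be53bab3e84b1fc48f03d8c4d867f938505850a8507269f3b24850e850c72f72b03103bd3d172ec28899ced955bc9afe91ec89be4f6dedcc9b9e9fdc9a9c9bfc79fc9c0dee0c7c672cc3db9d7d7055f362572d272d472d672d872da72dc72de5aef72e272e672e8da5b290e0b6158457b337b307b2f1faf09350f576f4b141910f92b7b72e572ed09410978025b0743099409960998099a099c099e09a009a209a409a609a809aa,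
  nat_lit 0x124c68567b7de531b7d4e52e7cd5b7d6a44f87efadf752d7254d6a21b5189749626f3bbc3facbd50bad3bc3bae17bad8acfbe66faee5af177d6bbd52e66c993ad8ba61db15d9e937c802e934a4f6a977c1edc1d7c110c7bdc7e3c6ff989a9eba51f35f2944d2e764c20ac1eb2b4d5069c20cc20e9215e767c207c0e944c9c2086f88a2ff7ac8e718c0a8c0aa864eb0f0c0acc0aeadc3c0b0c0a6e71bb277bda84b1f01a408b49612961496162eff96189211961a961c961e9620962296249626507f4a7a232be6d9bf06b1672d3b3edbbf08be1bbf0aada2b3cdbf0cbc4fe5cc380c34b338103812381438163818381a381c381e3820382238243826382a382c,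
  nat_lit 0x1b0a1b0c16051b101b121b141b161b181b1a1b1c1b1e1b201b221b241b281b2a3fecdee73fee3ff029f13ff23ff43ff60ced28a63ffa3ffc3ffe400040043fe8862b7ac55293e981c257c8b4daf8dafae97ec89db88dc8b6c2c2c867e958dafc02a8779903216bdba6609e7f063ddeefa662a647a664a666a668a2cb039196b0104911ca11ce095b11d00f4f11d411d611d811da11dc11de11e011e211e611e882bc8d57a622a60ba3e19de7a626decba628a62aa62ca62e7023a630a6258d55d1fc05294525a6c3d206d208d20ab819b81bc4a3b7dfaa05b81cc4a4c49f3d6716dc9f7a2f9fa77d471c75cea7765cb68b31a01333247a210b75aa0eaa10a775,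
  nat_lit 0x6bd4cdf47a0ec117c1a6c1a8a833b567bc25b91fc1aac1ace753b94d9da0cdf6531f64016422e7a7e7a4c2fc72b955e9c147b8cfc2fec2f9c300be651c43c2facf846680a872c32ccf8ac32ecf8cc03bc32ae7b3c3308549c332c334e7b066e3644208725e6c6444644664483b1e644a644c644e64503c354ae96456645a645cdd6b3c063c84596c40fb597059725974597659784ec7597c597e5980598459867ff92b8521e3e7c1cfd6e7be7c76c052c34ec350c33db82bae87bfcde588b1ec5c5e598f198cbeb3c222bfdea4de468bbea1e76abecfbe8fc226c2247c0be76d57dc5cab7420e530e533b7da9590b7dcb7d9a3e57a416ec54917ac1129e1981e,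
  nat_lit 0x6da6132f0ebf5277616633ed88d788dc28f10d6188da1e6186fb2f09848788e306813b520732a7a8a7aaa7aca7ae0b37a7b0a7b2a7b4a7b6dfb7a7b8073406a92d14321c2d6567f487713f73770a8d17a5901c12156f7949a5928ba12d91de792bdb40099b4fc41fb253e805736dc060bfadc421c422ad87c424c426b951947a772017671311e578c17ce74633efb57bada7c17ac17ec178e749c11bb9b9c1320f091f0921121cf5806b8072018366d3165308a18074806d8077210920dd809e446b0e8d4c4081e208991337d35581e481e681e881ea27a25e4281ec81de0dfdabc0d9e8d9ecc852c56ee961d9eed9f0c551e95ebc93e766be6dc83bc752e7ac,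
  nat_lit 0x439d22d543c0ad7ee30f39c9a7fcad80ad7dad82ad84ad86ad88ad8a11e5a1347925792c218522dd793a2865785c7937793c637d79347938793e5bfb5983d1bb0a9f0ab30ad00ad20ad40ad60ad80ada0adc0ade0ae00ae20ae40ae60aea0aec57104a0f56db106131996243adfaa0e067a5ac5a3e95e3238841655522f1adf8b07986326409e5f9b31fbae18187bb66caf6bac9bb68bb6a7b4bb9fbb9e197b55c7181253d9be86dc5a0c5a2847dc077c59de740c5a4b6b1c167c52b2741c59e4566d4574568456a456c456e4570457200df2dcd27394578457a457c4580458245b61b0655dda9568599e0dba9586c6b00b1684597bb625f91bf84858be69f5d,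
  nat_lit 0x2dec5b127807e6a596875971be3cab87ab8fb613ba3f407bb54dbbbfb31a5b9fd49454dd89a6e89cc595c3efd49cbae89a41bdc5b48be89fc644c64628fbae6a35f709107779a5225b1f50fb14f0de35a524a526a528a52aa52ca52e08d7a52117a2d1f50ef217a817aa17ac17ae17b017b217b417b617b817ba17bc147f17c2dbc92398239c239e23a023a223a423a623a823aa23ac23ae23b023b223b623b812930b5d26c2e42fb00855e53735b3309175b3327b47b334b336b05bb32f466fa2fa8b25d80ce91ce91fc7b3ae367b41c55ac233c791c7c0c799c783a50cc7be85d5202dd55ac6b2e8bdc311744dbb9ebc1dbf4fc6b4c1b7c6b6e74ea1380f2b,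
  nat_lit 0x54241b2f05dbe69bbe18bcf530b11c5fbaa6be1abe1cbe13e698be15bdbabe16629b71f91fc9e7d7b29bc398d03cbfe5e7d4c349a2f3b80fa52dbfb7b66ead5f14c514f814cd0e6f0589084114f114f314fc14f514f714fe150015021506150825ac25ae25b225b425b625b825ba25bc25be14f425c025c225c41de625c825ca1fd1087a095735353b9e1aad33613ba0cca33ba23ba43ba63ba83baa1f953b9c01ef06676df642fb55e36e0a6e146e0e111b6e166e0c6e126b116acf6e096e235cfa7b5e3130b54bade1e2c2b54fb510e49eb54140dfb51fb550a82b687ce4a7dd2900f9244933e9845352798458696f845c30e584551097845a8462846b8451,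
  nat_lit 0x639253c02c26623f622b106563af32655aad63b363ad63b113cd63b7639d55f799a321660abeb405afdf92abb5dcaa1bb4b3b5de86cda2e5e4d3b5e0b5d8b5da7f5063f92923e94ac572c823d95eb997c240e94dbcf7c3e9be91c836ba63c574561b4d7f2c80bba1bb9598d8a61ce61120d1b347bb6fe608e430ad99bba261d7561761bd2b43bdc0e687bdc2777fbaefbdbdbdc4ba7dbdbfbdc6bdc8563e5635a06931371f51ba7bbc58bbff34e09f9bbc5ab479bc5cae60e63be638bc5579451524434a15ceb7b0b7b2b7b49ee8b7b6b7b8e529b7bae526b73db72d1630b7ae4d5b7ccd74eae3a2b0536ac19d27b06cb06eb070b072b074e3a5b00fe294a448,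
  nat_lit 0x5dbb4a7c640438950f13850b9fa59fa7023d9fa87f2a7bf56a3c9faadb679fa3ce31556a406055905599559d5592559f559b55a355a1297355974fa7405955956850480822a8e3d8a39038170d8ba373b1abb007b1a8b1acac8f7bd5b192b1a130295499021be761c1e8c1ea982c311dc1ece75e5b75c1eec1f0be0d5bbc3ec3698f2f47492f750f9ba59e12dac5559e9e149e160c4f9e1898689cd79e119e0d716ddf45396ca03b982a9f61a0328fdc9fd9a034a036a0384b3ba03d71b9a03041164a3220254a3427054a364a384a3a4a3c4a3e14f64a401f604a424a464a4830d030d230d630d830da30dc30de30e030e230e430e630e820b330ea30ee30f0,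
  nat_lit 0x75a1394bd470c62cbe66e89498650b93c62ae897ba6bc62ec630bce59160bcd3803537b2375b7a971c0c3348803f80508054805202e7567b80568058804380635639561834bf2b4756445646ce4336e65648564a564c564e5650565256401c71a6d3661e55fe17a9441a84d9a6e2a6e45f335781a6e71a1d6955a6e8a6dd6fb0369f238236af3df38598859ad40b859c859e612985a085a285a47d8d26ef85954eb000ff5afbe47f2e8165d5b4dab2f9af79b4d9e47ca845b4dcb0c78cec2d4d615f21da6161456b61676169616b616d4999616f61710141617222c5617661652d6e2d26db63298d2d802d862d7a2d882d822d8c2d8a2d7c2d7e2d8e2daf2d6a,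
  nat_lit 0x8f847830550d3c2546858bef77aec034c32bb527bfc790f1a4a3e7b552675e0c1bd0978e98cfb747a7abbb0cab57ba06bb0ebb10b3cba37be5db1bf9bb0bb1d53dee193d3df03df23df43df63df814113dfa3dfc3dfe1fb72f073e023e063e080b216c3821f10e9ba8fc5942a8fb342ba509a8fe61f923af7cbd9021a8f8e089357d1c200dc8ab903bd185bdab92e2afab8e8b63449dab79ab8da48d81bd9e8f06bd3fc9889d446d8951894d2fa98948894f7bd18944254b52d989558946895680301e4d9240e3f8b2803eef54f2b213b282e3fb447bb046afc9b223b27eb2020f83374e0986b54aadcfac05e4a5e490afe0e4a24635b0beb54ca849ac085cb0,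
  nat_lit 0x10b743f77441e719c098c09acd32e3b6c09cc09ec097c0a0c0a2c0a4bb1b2f4313dcdabe1d3de978c56fc8a6dac4dac6c895e97bba73c8a8c631c87ddac8bce94b77d34a7323a7171f11518bd354b813b06fc4a7a753a893b0a0c590e866b08c784117cb5d3dc592c594bf83d362b657c596bdcfb6afc598e86bc59ae868178f0e0145d84e7aa5a69467a5a8de87a147a575a5aaa5aca5aea5b0a5b2a5a545d103db28242c2bbba0bb9b772bcb14bb9f2195b34ebb69bb8fb337b26be60f87f58f4845da44f68f568f588f5a0ee5d61d4bdf8f5e5cdf8f628f648f668f558f538ad62aeb2a2d4bd72049465b358dd96f9a1e9a209a2245c79a249a269a1404df,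
  nat_lit 0x2be148f85430892e7293289ca7fda7fe7245a80085cc7375a6bf9925a7fbdfdd6b8a6b8e0d836b9422340e3fd0551e292c996b986b9a51e951d725f76b930975094819ca19ce19d019d219d419d619d819da0a970f1f19de165b096f19e219e4304a0980304c5b21a5e02d8779475b6fade4e31d3123770cade6810430532124450c945b589dca8464a29f079f0988759f0b5a059f05457977d09f0c9f0e277f1df40dc464027cb37b8681b981cb81ba331c610381741b210ead180981c181d27ffd1a8b9eaae5c4bd16bd0fa6711119bd11b737bd13bd15b8e5b8c9e65fba76635d88901619bd57b655b9f31471bae9ba0fbf120725b6638f65e6dbbf0e8be8,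
  nat_lit 0x73bb08b066b4e59bb639b9f2a5feb9f4b9f6b9f8e3f6e4e6b189b9fab9f0a0ff0f3d0f750fac0fae0ee10fb00fb20fb40fb60fb80fba0fbc0fbe0fc00fc40fc6285e286021230ad32862286428662868286a286c286e2870287220db28762878455fd9cb60a4ca9c72922b71729472967298729a0490729c06a1729e609772a42bd42f7143bd637e637a637432c863736380637c637663786382309d6371639f4c7c27850ebd644590e8605f9017d647854390ec90ee90f00a6b90f490e682426dad5082239b9e269e289e2a7cb7dad79e2e9e1f7bba9e309e320a6d79329d90476f7b7b4e7934879bd877043f719bd578ab89959be22d7d5bf9a65ca65b9bdf,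
  nat_lit 0x898b3a8569269e6c13bf9e6edaf933229e709d995cba9e7262379c4f9ab23a6b09510acb74ec0d0d522dab7eb2db59757c7c2c9b84e5b2dc91007f4f74e380af8c3503eda2b29d250691a6a4a6b3a6b8a6bca6baa6b7a283a6be79d9a6a9df03661958cf2b6bc268e77ac267a2d1a75aadc19213e77dbcabc26abd337c30a48f860b71f03087e793c2aec2ad40ffaeede790c2b0c2b2bc4aadc7ae63b65c796c67850b4b6ae5415b1b3f93ba93b9334c1b8a0c4d93bc51613013228fd71f93b786bf63e80d09988d9fd39847a4f744bb982e53dc5ee9a4faa4f9a4fca4e7a4f5317742a0317fe4a05eed22b5b546a231a559e4a39fdbb545b548ab9f1c6d623d,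
  nat_lit 0x72fd40850ba9b6cbc196b485cde4b269e596b9e9c198e74cc19ae74fa10e38df1bdd45b82edd1bad45ba45bc45be45c045c245c4324445c6382545ca45ce45d042cd75792612c6cae8c7c6ccac5dbb6d1befbf41e8c4c6cec6d0e7f8d5a6d5a87d0b6e531263c4d0c4d2e845947c7bcdc4d4e842adb51bf5c1f1a37fd2862b311c7c1c4b1c7e1c791c0d1c0f1c161c1116241c131c151c751c771c7b1bc31bfdd9c752c652c552c852ca52cc026852ce52d0312152d452d652d82ecd309f52de2904086e3aaae59e511be5a1b1e7b744b9f7ba0c0ae1b1a79a671abb2d4b616411c54457124404aba600146fa5ff0457a6020f1d0a8ba41fa60481911274deab,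
  nat_lit 0x6b45b11774e5add7b167973d2237b181dda7b1a7b1c7b1e05717b227b1021f20b5904e6a3c9a00f0ff079c4430172636c1ba56096c4a1f37fd2a562de6561448046857c3e15e846c4dcc4ded2a0e2cec4e0e849bd71bcb7c205b44d9b77209b23f42071315ee5a66447e5a9b985ba1eba20ba11ad277341ba1dad073ca252df4faa2a934fe1e5aa605dba17b1b9ba26ba28ba0be5adb0026a1f254f4ffdb08021cb676a2813e5a2e304ba09b208ba12ba14e5a5793538239a25354546de67680d4a05224f0be2eface7253facf6acf8acfa353d3097abb9acfcacfe4f36e2ecd0f02b116a2fc412b631e7fde4ccbffca357c411c414b63fc36fb9b7b9c5a4f4,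
  nat_lit 0x756c125d3585e40bb2a6aeeb8852b2a8b27bb2aaaf1fb2acb2aeb2a5958da81a69b88ebe0a7ae4e8b644e4eb85c3b6460b39b309ad85b648b199b64a064db08157e1576443fe58191f620c89581b57f1581f581d581558172711582157f25832261e43390f0d497a497c1b41cd5f1c10497e498049824984498630bf496b49787bae36142729b205a59ee3deb209b1ae7e7cb20a7856aad83597a2bbe3dae3e5364148afdf84ea13c71bc88fb429e3d6c9f2c9f4ea10c9f6c57cc9b3b19fb5ab0cb20cb4db470cb80cba05630cbe0cc00cc20cc40cc60cc80cca0ccc0cd00cd23ad029bc1ce27be87bea72f1d2437bec177f7bf0056d7bf47bf617bd3b727be6,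
  nat_lit 0x4344282cdd313ea97b327fd5748b62f351ed7fd95df32c9f7fd328aa801060f561a21d7942e5c7d8c7dac64bd838b635c136c1c5c191c3f1c6f5e925e82ec776832d019d0507e9d9c18fc5a3be37c00ce9d6bbd9c957c68bc972c51fddbaa57e565670944ea6b25db28daead9e38a45db249b221b1a50ae3b12bb28eb28ab1fa016fe07b0b2c0b2e0b300b320b340b360b380b3a0b3c0b3e0b400b420b440b46643543552ab3c75dc4d9c66cbd19b531c77ae8ffb8f9c62fc77ce8a6bde8bf714de8000c2f25e4e4b630b632a41db634b1a39a06b24be4e7b5a2b63686b5aa3f38012857dff9559124ef60fb60fd60ff60f66102530f610160f86104610660f4,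
  nat_lit 0xcad916f21721172b172906931723172d1281172f171c1725172710fb1732171fe0311cee1cf21cf41cf61cf81c5d1cfc1cfe1d001d021d041d061c7a1d0a1d0ccdb33c8a30f63c993c953c9b3c8c0f193c97045b2a3b07db3c931075312b30c548d256e848e5169e4bbe27aa809700dd809b809946d1133f3fa1085148ee80a05ffe0a0937c5e786bf67b3b1af3ab367c0fdc294be78c10dbf4dbaacad39e789779248d82e7b77b177ad6d1977af77ab666777b3779e77a977b723b3779d77b858c979c76b21ac39ac3f7bc98363ac41ac42abb76b85354150713827606fac3c3084dd2d13183088308a308c308e30903092309430963098309a309c30a030a2,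
  nat_lit 0x7c9521e17e9cad1a5da9e2f7ad1c76ad19db0c01ad1e54758076ad207e9f46db1c501c54d96b017d1c581c5a1c5c1c5e1c601c621c641c661c681c6a1c6e1c704fba82ca9dbbb036b038308db035b03ab03c20d32549e39badf0b03e1d951dc11f061f0a1f0c1f0e1f101f12089d1f141f1601891f1a1f1c0ae51f1e1f221f240c132fd42ff28706870871d1870a7e74870c6aa30375870e871087127d798716377936d022d3378237843786cc473788378a378c378e3790379237943780370b63f273bf155d7f2888eb3ff3b2f1b2f33e3fa80138a172dfb2f4b2ebe425b2ef380b347c397182178211820d8213820f821973fc069d821504a9821b7fbe821c,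
  nat_lit 0x696349724960b1c79b05b1bbb1b8174f2cd0b1dbb2c65baf4e43b2bde41544533a0536553f67c3a4bb87c397d078c079e7dec3a6c1a16b0fc356e7e1c3a2b5f732155f09cf18bb37e799c2c4cf1abb47c2c1c2c6e560c2c8c2c3e688a784673f05abd47c9cf1c593e89bc578d480b64fbcdfc5e6b6edc634c636c638b521be8b77a05ca48e05a9baa429a9bce123a8dba9b7a4cda281a9be7c45a98523b5a9b862dd55d414078f9396358f4396379639963a8d4610958e6f0461963c963e963312481e9a7cc87cd202db7cce7cd45e1b7cd6156d1c14029f7cd84e457ccb7ce92161d69d4458450133461c0e45031b45445c3fbe44fd24ac44ff450544df4530,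
  nat_lit 0x125311c61271127acab7127c127e113912801282128405ef127312881276127801f910503224e53e479be54195dbb8046b09b806a5bcb8081123b0b9ac451149107f7fad429ab84fb888b88a5cb4e55cb73bb882b88cb88eb886e55fb856b884991570a4cb5cbc98b831bc9a67633091bc51bc87bc9cbc9ee649bca0bc9470a330082f97300a30183014301a3010301c30160111301e300530123022cbef30064deb86f34c42b8dbba64ba66010bb7ffba68b837ba6ab8fbe5c3e5c099f1ab8319259f2075cbe8dfbd91c5bb3429ace2bb30e896b839c728c72ae8dcd650c722388d7ac13925b739b83cb83e93b87bb9b840e54db842b844e54ab6e3ab4a6f0e,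
  nat_lit 0x38903892280e38942cc838963898389a389c389e38a038a238a41a2138a838aa401008eadfd74014401640182569401c401e402036312ccc40244026402a402c2c7745176c76e73cc152bc918d1d7706c154c0f8c1515b77bc10bf0dbc57e73f8cfbccbe4fdae6e7bf48bc46ccc0b345bdacbf4ae6e4bf45bf4ce628b5e7bf462d1e043b1d142dce2dc62dc02dca2dc42bc92dcc2dc22dc82dd02dd22d252de952a33a0e529f5e3d0bfb07475e3b5e395e3f5db05e37030d5e435213277b5e44d3c700240028002a002c002e00300032003400360038003a003c003e004200443aa182c36726b9c7c0fae64acd5eadf5c0fcc0f9c0fee72bbdb3be14bdb9e722,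
  nat_lit 0xdde3159c0c1922387eed8e536bfd8e588e568e180c913d1b10d14a658e5b8e5169cdd5101469e6f0c197b6adbbb1b09be8b1bc78bf87c68ac68cc689a4575a73244301ad3cece34caeb2aeb40bcbaeb6ac30e34f3821793932386b897a348a88090f08f50923092a092c092e09300932093409360938ca99093a093c092409283ad6ad3f31e3e742e745c16c616ac015b468c089c16eb6fdc170c16bcdbaaadb290934194041a7318857ab7fab84ab86e2ada541a6e6ab88ab8172e3ab40ab825c9ad2536ba2270d6ba66ba1311b6ba844bd026a6baa15716ba403a76bad1de950b6226c0a1da96c74496259a96e2b9f86c96c0aa970e0e1a5b1a9720a015077,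
  nat_lit 0x1a7f23f7287e28a928a1289d28a305c3099d28a7289f28a528ad28ab289928ae101c50d5005851ea092d34c550cd010d51ec50cf50d151e851ee09a747c851fbd7fb36a421eb69d03d5169d469d669d869da69dc69de69e069e269e469e869ea20c100681d70a13d4ee2a152dc1ba154a156a09986018b198cf59ecfa1377d8f369a4eb63f0c4eb84eba4ebc4ebe4ec04ec24ec44ec629db4eca4ecc3a674ed062ffd2482043e8382565c32fa6e0c0408bf1e83bc4aeb30dc4bac471bed398d656e34c571a9dc2b8e794e7976836c071b7a9c2bac2bcb89bb8abc15bcf0cbc0a22ac043822ae22b022b222b422b622b822ba22bc22be22c022c222c422c822ca,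
  nat_lit 0x5b335f9c7dc4e39ee3a189070695b05e3ed7b0609d61b062ad91b05dad9a5f970dc140130ec25f7f8aba8abcd4d38abe8ac08ac25e558ac48ac68ac80ec445831d4a532c3d9f4eb993629364d71d76c39366936868386235936a66f952db935e260281348ee534235aa5acefacf10ea3623192af9eeca483acf2acf4acede2ed00fc01000102010401060108010a010c010e01100112011401160118011c011e219c21a021a421a621a821aa21ac21ae21b021b221b421b621b821ba21be21c060ba33c260ad853c853e85407f97d3e185428544854685484713854c34d562ed04f921d406fce3d5e3d2a9cab18bb18ca74fa2c3b073b18eb190a64f2208a47a,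
  nat_lit 0x74c060bd7ce4a2796969a12aad09abd127a67b1bad0b9d2da9a1ad0cad0eab2e53bd3d8f09e7892f0a8d2b1b893188625e3e7f33892d893389352ba98885893605b005b405b805ba036905be05c005c205c405c605c805ca014305cc05d005d274441dced9eb74467448744a744c1e7b744e74507452745474564de5745a65f36feb584c93b3e6f9aeabbf983f99bf9abf9cbf9e3149b0b79285bfa0e6f6b51b10b8da9510be10c0083f058b10c410c610c810ca10cc10ce10d010d210d410d6128c128b128e1344133c13361340133a134613421338133e0755134a1321cab919e912543859e35baee8aeea5231aeec688b8557aeeee358aef05b4fa414aee6,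
  nat_lit 0x3f7f00233fb33fb93fb73f723f703fbb10f73fbf3fbd3fb5093b12893fc23fe948ca442e57ea8afa7bc78afc0f91d4e38afe8b008b023cdf5a398b068af839db91484f8d38c1b3e53ae7a677b3e681e5b3e8af83b3eaa883e451a57be44e6bf92981419c038481e38b9b6c0fa6b0a6b5a6bd9b75a6af60957247877ba6acdffd00fb1f3414dbe625e622bbe120a9b139bbe2bbe4bbe6b9edbbe8bbeab02d924c4bfd80c371a4e3f1b244b2419eb3b246b248b13bb24ab23fb24cb24e9ae39c5331b316f85f65e2b133eb6168ab98a27fa8a5a841a8dfab9aab9cab9eab9531d92159264b95f3e858c52dc50bae7bc06db8f5e85bc530c2e5c52fc532b605d300,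
  nat_lit 0x40373fea4067406e3e8b4070cccb40724074407631a3407a407c407e406a3fe51c241c261c2a1c2c1c2e1c301c321c341c361c381c3a1c3c1c3e1c401c441c46da77206a27ea27ec27ee27f027f210ed27f427f627f827fa1fb91e63280020613112d17b2f0d311431163118311a311c311e31203122312431263128312c31114ef180e0d42185c7049485c985c285cb3a9a389f85cd7c4385c5191185d075bf991299a75a0aba8ce5c8ba8e5b9c7eaeb6bfb699ba90e5cbb693e55eb39bb89012c94ea526c921a74ee31c314ee54ee14eeb4ee90d634ee737934eed4ed512f536d336d7d4dd36e536e1268a36dd36e736e336eb10cd24fd0c9c36d937071e73,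
  nat_lit 0x2e9a639a0628e363af18e360441caf1a894eaf1caf1eaf2078f52577abe7639e15de15e215e415e615e80e9f15ea15ec15ee15f015f215f415f6024715fc15fe671d09453d9611fdac49a4c19442ac4ce2d3ac4aa253a84b6605ac4eac474dd3497085df7accb3afb889b8cc01c72e5fe569b8ceb8d0b8d2b8d4b8d6add8b8cad32f2b122b1628a82b182b1a2b1c2b1e074d2b222b242b262b282b2a2b2e2b3059221afe59361d7fa09ea0a0dbb79033a097a0a2499b9cd38ac79f67593b91ad8dd114033fafe8a4c21dc664d4d2b523c666c668c282bce3c66ae8a7e728c662cb4f1a4121f521ff21fb220121f7220321fd2207220508a521f90599220a21f3,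
  nat_lit 0x792b0ab1a28cb43dab67b680b3d6aa37e4fab682e482e4cee4fdb5e1b67eb5d516e557f734b4baaebaa5baa12e85e5cfbaa7baa9baabbab0bab2baad9ba0baa30e6564eb88fe877967f8530dd67d918e91907a9b919214ff521181ed918c918b1a74004e0902b6cae507b477b49fad8cb3c7b6ccb6ceb6d0b6d2b6d44068b6c81ea66c294e7f8e9195729574d7f75519957631cb27f99578957a8f7370279570440d091b4c4447019c569c582af9da254ae19c5c7ea39c5e9c609c6240299c5218ee12ca49626d326d346d366d386d3a6d3c6d3e373b6d426d446d466d4a6d4c04243ad22815e35eaf12e361e32caf14abb5ae4baeefaf16af116607a6a79465,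
  nat_lit 0x8de4c529199e45bb418b41a822bb41c1bb71209b41e8f63b420afb4919aafaa44e00765720fe4f4ae349d95e4f7ae65b672e474a5adae75b4b0b4c02a41b6700c397ed27eaae4da04518249b67aa89ae4fbb5f3b679b677b4c7b4b77ec9b6715e5d5b5e75a9e4edb64ce4ea9ebcb64ead5b854539d1b650aaedb652aa128ea5d7eb2aec2af02af22af42af62af82afa17ff0fb92afe2b002b022b042b082b0a218910bb218b20c7219021920031cb3b219421961ab52198219a0ae7218e1f2525312ae0a1dde3d49d5baae9ab35e3d7a7a33d5bb069b196b1989745b19425552fc497b2629480ba95eca637b2fdb2f89b71a6bb86a65aedb2f5b2feb300b2fb,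
  nat_lit 0x11b627537f43c41bac2ae804d122c06bbfa5c3b9c42a39d3c42ce807c42812158be333c767ea313d3815a393a348b522b524b526b528ad54aae5e49b67d7af4f70354e6f82bbc39cd052c39bd054b8eae7dbc351b52eb803a203bfa98396aee7455a481b45b1e47a40478b0fb4d486a2b4d3b42de47da907b4d6b3ff460cb4d08a2d7ba354a2e8dbc71ae8d8d63a9d5fc552c3fdc71cc6fbc407c71ea3abb1b321cc302d436f853de3c3b1128506b114644db1160c29b10f9c61b11880a5b1107b0d3191057d7eb17ea07ead7eb37eaf753d6ac97ea27ea40c2d7eb57b127eb6dfcf28284dac4dae272d4db24db44db64db821b34dba4dbc4dbe4dc04dc44905,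
  nat_lit 0x1edd5ca23d0be2b5abb0894c2401abb2abb4abb6688fabb8abba4697abae8f9148aa549f7f20990099029904153f99069908990ad8f1990c990e99106d49cab8ce8865c05cace777c24ebe7231c57d64c250c252b3b7c0b1c254c247ce8eb69b596b718f759c8870538188726ac38874134788760fbb88782b29887a887e88804650ddfb465446564658465a465c465e466046623edd466446664668463d466edd4709140d519b319eb0931c9eb29eaf9e3a5f179eb50a99697598899eb89eac24bc02060af1e3a82863e3ab7240b0aaad7c7ae70b3db0aca721b0ae1f21abfd233862725c82e325adfeae00ae024418aa45abab968ae32253e242bbab97adfc,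
  nat_lit 0x71e0786653d2e303ad4c511d0a3bad4ead50644fad52314b9d0da5bfac94ad4b320c4d4602c2e3908bed46875bb0b001256db006b004b0032ecb8954e393affe197e98e03c217729748d98d97b2e98db5bf598dd98df855b78b398e298e498d7403c403e4042404440464048404a404c404e40502e8d1c3d40544056405a405c575f230a85f7a8559c579df768ffbaebe5dd8f5fb3a8120dbb15bb16bb13afc663844b7e10b04daf8ef08ef2d5fd8ef48ef64ee888db8ef88efa8efc8edc8eec66b9871a524f988c988e9825d8cf98908d3627719892989493a98e7366df8717842456c353c94e3357fb18758d628d5c38d11231807535678d668d688d59d5a9,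
  nat_lit 0x73105cf57320e4a1a83191b3b53ead10a515b540ae73a5afb542e2b6732bb53c773e9e34076cb50de4937a17b512b51125bfad1780f375d8a72e7b23adb99cbc308343f046b61b9001c55cb35cb55cb741595cb95cbb5cbc23245ba75cbe5cb1464d1a3e061c071739c79f742b739f76793d9f919f789f69891198e39f72de07812056691647ba84e5c9ba8670fcb3adba81ba83ba88ba8ae5c6b8d730edb8bf1abccb011abe1b911b7e1b781b801b7c1b8b1b821b7a1b8d1b8f1b931b951b856c49321a4965a4506bdd7d71930ca452a44ea311a45478f3a44c69e5dd9ba44958cb4fca508fb7f92191e5405205b811b80cb81e701fb80ee543b0a9e2d0b08e,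
  nat_lit 0x77147dce3960916491639166d66b91687627916a79792b0172f94c1319137a951c181cd01bdbe3f0b252ac2c9b2ab254b256e3f3b251ad8eb258b25a1c811c47093f32183e9d982098229824d8a58573564946ef92d48e9b97f14dc17459981fd8d5443510bd694469466948694a462f694e695069524f53695469562f3f695c1583992096ae2b9999167fd4991b991d34cb991f190b992279d79924992699190a2d1dfc1a491e741e761e78cb151e7a003509671e7c1e7e1e800a9b1e701e72cde91296129a129c095d0b6712a012a212a412a612a812aa12ac12ae12b212b46f2e869145566a4273f4869f3d5586a3760286a586a786a838a54f55869a86b0,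
  nat_lit 0x2304492d345b87e5a3e09d478cb7dd897b43a3e4917756111ab99a693473a3de4aca796b04ece3fe0e9db294e2f05aab32673365b0fd9ae67b84b1c59a128dbe71e2842a7910e6e6e6e9bc3d7f06b353aa2bbf4ebf37e6e0bf50e598ac07b2fa5f017bb38013a9ce8f59a9cb0fb3a9cd9d099c5d6acba9d0a9d29db31a69e127062e0632063406360638063a063c063e06400642064406460648064a064e06508db31cd5d6e8c62dbcb1c61dd6eaa5b8c758c72fb8e3e8f5c75ae8f2b2f75685364d5654218350615692560936dcce4556945696299b569a569c1bc1568e568c032f02af038d039403960398039a039cca8b039e03a003a203a403a6038e0357,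
  nat_lit 0x4d361b094d60ad71b0096e0ba142b00bb014b012a649b00db016b00e0fa1e39542bc630e42ed6abd8909a2a6a2a5a2a8a2aaa2aca2aedcdb39d5430f0b79a2a36ad43f06361fe29ce4c00fb1b18ab4baab446a359d2be4c3a89fae69b5adb5b404bb2b682b6c2b6e28a02b702b72036f2b7429fb2b762b7817262b7a2b7e2b0b667d5e7d52f78e668e684db3d5e18e6c87e082a584548e6e8e708e728e638e6439bf17dd452036e429716ba050672b4f7e187e167e117e147e1a7e1c175dd3017c2469f976fce4b0b584e4b3696db586e3c6b581b583b059b24db56ba9b29e78121e1222dea512261228053b122a122c122e123008a3123212341236123a123c,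
  nat_lit 0x66be673d3d48e46bb474b476036d9f77b159b478b47ab47cb47eb480b4531f527ea71938530be3bfabf9e3bce39c81ae09650037b10054fb2107ad21b0feca925a252d5774846b01748c748e748a7490749274947496d133430d39d774875a3f1634cd4f2a6316152a662a682a6a2a6c20ff2a702a722a74096d165d2a7625fdd964d968d96ce94fc545c838ad3bd96ec54ee94cb16dc0e4be87c83ac755c2fb41e776cb4f1c76e876e113c176e476e376e676ec76ea2775107376eed16976df4a02cd8b4a0447224a0716264a124a09445d10f54a0b4a170f5d185c4a194a1416e9d66104c158443eab1e79583b58393d17583d3b7f5840265d58462b07583e]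
theorem W0_c : blocks (rows 13 5 18 31 8191 262143 2147483647 16 65535 256 A 30265 2048 cols 8) 8 JW0 0 = true := by decide +kernel
theorem W0 : On (Row.{u} relsH LW par A 30265 2048 cols) 0 2048 :=
  rows_of_blocks hpar (by decide) hcols W0_c (by decide +kernel)
theorem idx : Idx.{u} relsH [[0], [2], [4], [6], [8], [10], [12], [14], [16], [18], [20], [22], [24], [26], [28], [30]] [[0], [2]] 2048 :=
  idx_of_cert hpar hR (K := K) (by decide +kernel) (T := 4344) (T' := 4352) (by decide) D0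
    (subs := [1,2]) (by decide +kernel) (T1 := 4345) (by decide) (N := 30265) (On.trans S0 (On.trans S1 S2))
    (by decide) (n' := 2048) (by decide) W0 (by decide +kernel) (by decide +kernel)
end T
theorem bound : Bound.{0} relsH gensH 501397585920 :=
  .of_idx T.idx (J4M24.bound.mono (by decide +kernel)) (by decide)
end
end CA.J4H
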