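import Cfsg.Agent.Lib.Spor.J4D
import Cfsg.Agent.Lib.Spor.J4Perm
import Cfsg.Agent.Lib.Comp.CLow
set_option autoImplicit false
set_option linter.all false
set_option maxRecDepth 100000
set_option Elab.async false
namespace CA.J4Low
open CA.CNet CA.CWord CA.CLevel CA.CSimple CA.CPoint CA.CTodd CA.CLow CA.J4Perm CA.J4H CA.J4D
theorem hrel : ∀ r ∈ relsH, C.ev r = 1 := rels_of_eqW hC (by decide +kernel)
def low0_w7 : List Word := [[4], [6], [8], [10], [12], [14], [16], [18], [20], [22], [24]]
theorem low0_7 : Low (C.grp low0_w7) 2048 [24] :=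
  low_clo hC hlk 24 (by decide) [0,2,4,6,8,10,12,14,16,18,20] (m := 2048) (grp_mono _ (by decide +kernel))
    (by decide +kernel) (by decide +kernel) (low_nil C) (by decide)
def low0_w6 : List Word := [[4], [6], [8], [10], [12], [14], [16], [18], [20], [22], [24], [28,28,3,29,2,31,29,30,2,29,2,26,30,2,30,2]]
theorem low0_6 : Low (C.grp low0_w6) 6144 [6,24] :=
  low_orb hC hlk 6 (by decide) [(6,22), (6,23)] (m := 3) (grp_mono _ (by decide +kernel))
    (by decide +kernel) (by decide +kernel) low0_7 (by decide)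
def low0_w5 : List Word := [[4], [6], [8], [10], [12], [14], [16], [18], [20], [22], [24], [28,28,3,29,2,31,29,30,2,29,2,26,30,2,30,2], [3,28,3,0,26,26], [28,28,0,29,3,28,30,30,3,29]]
theorem low0_5 : Low (C.grp low0_w5) 98304 [5,6,24] :=
  low_orb hC hlk 5 (by decide) [(5,24), (5,25), (5,26), (8,23), (8,26), (13,26), (17,22), (17,23), (17,24), (17,25), (11,26), (16,23), (16,24), (20,22), (20,25)] (m := 16) (grp_mono _ (by decide +kernel))
    (by decide +kernel) (by decide +kernel) low0_6 (by decide)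
def low0_w4 : List Word := [[4], [6], [8], [10], [12], [14], [16], [18], [20], [22], [24], [28,28,3,29,2,31,29,30,2,29,2,26,30,2,30,2], [3,28,3,0,26,26], [28,28,0,29,3,28,30,30,3,29], [28,28,0,29,3]]
theorem low0_4 : Low (C.grp low0_w4) 1966080 [4,5,6,24] :=
  low_orb hC hlk 4 (by decide) [(4,28), (4,29), (8,22), (8,23), (8,25), (8,26), (21,22), (21,24), (21,25), (21,26), (13,26), (13,28), (13,29), (11,26), (11,29), (5,29), (16,29), (17,23), (15,29)] (m := 20) (grp_mono _ (by decide +kernel))
    (by decide +kernel) (by decide +kernel) low0_5 (by decide)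
def low0_w3 : List Word := [[4], [6], [8], [10], [12], [14], [16], [18], [20], [22], [24], [28,28,3,29,2,31,29,30,2,29,2,26,30,2,30,2], [3,28,3,0,26,26], [28,28,0,29,3,28,30,30,3,29], [28,28,0,29,3], [29,30,29,30]]
theorem low0_3 : Low (C.grp low0_w3) 41287680 [3,4,5,6,24] :=
  low_orb hC hlk 3 (by decide) [(3,30), (20,22), (20,23), (20,24), (20,25), (20,26), (20,28), (22,24), (22,25), (22,28), (22,30), (15,24), (15,25), (23,23), (23,30), (19,22), (19,29), (13,23), (13,24), (10,23)] (m := 21) (grp_mono _ (by decide +kernel))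
    (by decide +kernel) (by decide +kernel) low0_4 (by decide)
def low0_w2 : List Word := [[4], [6], [8], [10], [12], [14], [16], [18], [20], [22], [24], [28,28,3,29,2,31,29,30,2,29,2,26,30,2,30,2], [3,28,3,0,26,26], [28,28,0,29,3,28,30,30,3,29], [28,28,0,29,3], [29,30,29,30], [27,0,3]]
theorem low0_2 : Low (C.grp low0_w2) 908328960 [2,3,4,5,6,24] :=
  low_orb hC hlk 2 (by decide) [(2,32), (2,33), (9,22), (9,23), (9,25), (9,26), (9,30), (6,22), (6,23), (19,24), (19,25), (19,26), (19,28), (19,29), (19,30), (19,32), (18,28), (18,32), (18,33), (22,30), (20,30)] (m := 22) (grp_mono _ (by decide +kernel))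
    (by decide +kernel) (by decide +kernel) low0_3 (by decide)
def low0_w1 : List Word := [[4], [6], [8], [10], [12], [14], [16], [18], [20], [22], [24], [28,28,3,29,2,31,29,30,2,29,2,26,30,2,30,2], [3,28,3,0,26,26], [28,28,0,29,3,28,30,30,3,29], [28,28,0,29,3], [29,30,29,30], [27,0,3], [0,27]]
theorem low0_1 : Low (C.grp low0_w1) 20891566080 [1,2,3,4,5,6,24] :=
  low_orb hC hlk 1 (by decide) [(1,34), (1,35), (11,22), (11,23), (11,26), (11,28), (11,29), (11,30), (5,26), (5,32), (5,33), (8,26), (8,28), (8,29), (8,32), (8,33), (8,35), (13,29), (9,33), (14,22), (17,30), (16,35)] (m := 23) (grp_mono _ (by decide +kernel))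
    (by decide +kernel) (by decide +kernel) low0_2 (by decide)
theorem low0 : Low (C.grp W0) 501397585920 [0,1,2,3,4,5,6,24] :=
  low_orb hC hlk 0 (by decide) [(0,0), (0,2), (0,3), (0,27), (0,28), (0,31), (3,26), (3,30), (2,26), (2,27), (2,29), (6,31), (16,2), (16,28), (21,2), (21,3), (21,27), (21,30), (21,31), (13,27), (22,3), (4,29), (17,26)] (m := 24) (le_of_subst _ [[4], [6], [8], [10], [12], [14], [16], [18], [20], [22], [24], [28,28,3,29,2,31,29,30,2,29,2,26,30,2,30,2], [3,28,3,0,26,26], [28,28,0,29,3,28,30,30,3,29], [28,28,0,29,3], [29,30,29,30], [27,0,3], [0,27]] (by decide +kernel))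
    (by decide +kernel) (by decide +kernel) low0_1 (by decide)
theorem lowQ : Low (C.grp qs) 2048 [24] :=
  low_clo hC hlk 24 (by decide) [0,2,4,6,8,10,12,14,16,18,20] (m := 2048) (le_of_subst _ [] (by decide +kernel))
    (by decide +kernel) (by decide +kernel) (low_nil C) (by decide)
def U : ℕ := Nat.shiftLeft (full 15180) 2072
theorem hU : C.inv gensH U = true := by decide +kernel
theorem fixK : lall W1 (fun w => mapsP C lk w 9203 9203) = true := by decide +kernel
theorem orbK : Nat.ble 15180 (cnt C.n (C.clo W0 [2,4,8,26,28,30,0,26,2,28,30,26,0,2,28,26,30,2,0] (bit 9203))) = true := by decide +kernel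
end CA.J4Low
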