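import Cfsg.Agent.Lib.Spor.J4TC
import Cfsg.Agent.Lib.Spor.M24Sub
import Cfsg.Agent.S2038

/-! The first seven relators of the fourth Janko group present `M24`. -/

set_option autoImplicit false
set_option linter.all false
set_option maxRecDepth 100000

namespace CA.J4M24
open Cfsg CA.CNet CA.CWord CA.CTodd CA.TzDer CA.J4TC CA.M24Core CA.Perm24 CA.CGroup

def gens : List Word := [[0], [2]]
def L : List ℕ := [222499577917081889314990576122272894003816872929527862531, 222499577917081889314990576122272894003816872929527862531, 393184662359365440285233434427717107883703672629293482246, 491457425190317855794900768150089566759426612283700543746]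

noncomputable def evk (w : Word) : ℕ → ℕ :=
  List.rec (motive := fun _ => ℕ → ℕ) (fun c => c) (fun a _ ih c => CNet.force (mul24 c (nth L id24 a)) ih) w

theorem evk_spec {α : ℕ → M24} (h : ∀ a, mG.R (nth L id24 a) (lv α a)) (w : Word) :
    ∀ {c : ℕ} {g : M24}, mG.R c g → mG.R (evk w c) (g * ev α w) := by
  induction w with
  | nil => intro c g hg; rw [ev_nil, mul_one]; exact hg
  | cons a w ih =>
    intro c g hg
    have e : evk (a :: w) c = evk w (mul24 c (nth L id24 a)) :=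
      CNet.force_eq (mul24 c (nth L id24 a)) (evk w)
    rw [e, ev_cons, ← mul_assoc]
    exact ih (mG_mul ▸ mG.R_mul hg (h a))

theorem model : ∃ α : ℕ → M24, (∀ r ∈ r7, ev α r = 1) ∧ ⊤ ≤ grp α gens := by
  have ok := ok_of (l := [222499577917081889314990576122272894003816872929527862531, 393184662359365440285233434427717107883703672629293482246]) (by decide +kernel)
  obtain ⟨x, hx⟩ := ok _ (List.mem_cons_self ..)
  obtain ⟨y, hy⟩ := ok _ (List.mem_cons_of_mem _ (List.mem_cons_self ..))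
  have h1 : mG.R id24 1 := mG_one ▸ mG.R_one
  have hi : ∀ {a b : ℕ} {g : M24}, mG.R a g → inv24 a = b → mG.R b g⁻¹ := fun h e => e ▸ mG_inv ▸ mG.R_inv h
  let α : ℕ → M24 := nth [x, y] 1
  have h : ∀ a, mG.R (nth L id24 a) (lv α a) := fun a => by
    rcases a with _ | _ | _ | _ | a
    · exact hx
    · exact hi hx (by decide +kernel)
    · exact hy
    · exact hi hy (by decide +kernel)
    · have e : α ((a + 1 + 1 + 1 + 1) / 2) = 1 := by
        rw [show (a + 1 + 1 + 1 + 1) / 2 = a / 2 + 1 + 1 by omega]; rfl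
      have : lv α (a + 1 + 1 + 1 + 1) = 1 := by unfold lv; rw [e]; simp
      exact this ▸ h1
  have h2 : ∀ w, mG.R (evk w id24) (ev α w) := fun w => by simpa using evk_spec h w h1
  refine ⟨α, fun r hr => mG.R_fun (h2 r) ?_, gen_g24 ▸ CG.In.gen_le fun c hc => ?_⟩
  · rw [(by decide +kernel : ∀ r ∈ r7, evk r id24 = id24) r hr]; exact h1
  · obtain ⟨w, -, e⟩ := (by decide +kernel : ∀ c ∈ g24, ∃ w ∈ ([[3,0,2,0,2,0,2,0,2,0,3,0,3,0,3,0,2,0,3,0,2,0,2,0,2,0,2,0,2,0,2,0,2,0,2,0,3], [0,3,0,3,0,3,0,2,0,2,0,3,0,2,0,2,0,2,0,2,0,2,0,3,0,2,0,2,0,2,0,3,0,2,0,2,0,3,0,2,0,2,0,2,0,3,0,2,0,2]] : List Word), evk (subst gens w) id24 = c) c hc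
    exact ⟨_, subst_mem_grp α gens w, e ▸ h2 _⟩

theorem perfect {G : Type} [Group G] {γ : ℕ → G} (h : ∀ r ∈ r7, ev γ r = 1) : commutator (grp γ gens) = ⊤ := by
  have hx : γ 0 ∈ grp γ gens := ev_gen γ 0 ▸ mem_grp γ (by decide)
  have hy : γ 1 ∈ grp γ gens := ev_gen γ 1 ▸ mem_grp γ (by decide)
  have e : ∀ (w : Word) (k : ℕ), wpow w k ∈ r7 → ev γ w ^ k = 1 := fun w k hw => ev_wpow γ w k ▸ h _ hw
  let a := Abelianization.of (⟨γ 0, hx⟩ : grp γ gens)
  let b := Abelianization.of (⟨γ 1, hy⟩ : grp γ gens)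
  have h1 : a ^ 2 = 1 := by
    rw [← map_pow, ← map_one Abelianization.of]
    have := e [2 * 0] 2 (by decide +kernel)
    rw [ev_gen] at this
    exact congrArg _ (Subtype.ext this)
  have h2 : b ^ 3 = 1 := by
    rw [← map_pow, ← map_one Abelianization.of]
    have := e [2 * 1] 3 (by decide +kernel)
    rw [ev_gen] at this
    exact congrArg _ (Subtype.ext this)
  have h3 : (a * b) ^ 23 = 1 := by
    rw [← map_mul, ← map_pow, ← map_one Abelianization.of]
    refine congrArg _ (Subtype.ext ?_)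
    have := e [2 * 0, 2 * 1] 23 (by decide +kernel)
    rwa [ev_cons, lv_even, ev_gen] at this
  have h4 : (a * b) ^ 24 = 1 := by
    rw [mul_pow, show 24 = 2 * 12 by rfl, pow_mul, h1, show 2 * 12 = 3 * 8 by rfl, pow_mul, h2]; simp
  have h5 : a * b = 1 := by rw [pow_succ, h3, one_mul] at h4; exact h4
  have h6 : b = 1 := by
    have : (a * b) ^ 4 = b := by
      rw [mul_pow, show 4 = 2 * 2 by rfl, pow_mul, h1, show 2 * 2 = 3 + 1 by rfl, pow_succ b, h2]; simp
    rw [← this, h5, one_pow]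
  have h7 : a = 1 := by rw [h6, mul_one] at h5; exact h5
  rw [← Abelianization.ker_of, MonoidHom.ker_eq_top_iff]
  refine MonoidHom.eq_of_eqOn_dense Subgroup.closure_closure_coe_preimage ?_
  rintro ⟨z, hz⟩ ⟨w, hw, rfl⟩
  rcases (by simpa [gens] using hw : w = [2 * 0] ∨ w = [2 * 1]) with rfl | rfl
  · simp only [ev_gen]; exact h7
  · simp only [ev_gen]; exact h6

theorem bound : Bound.{0} r7 gens 244823040 := fun P _ β hβ => by
  obtain ⟨α, hα, ht⟩ := model
  let γ : ℕ → M24 × P := fun i => (α i, β i)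
  have hγ : ∀ r ∈ r7, ev γ r = 1 := fun r hr =>
    Prod.ext ((map_ev (MonoidHom.fst _ _) γ r).trans (hα r hr)) ((map_ev (MonoidHom.snd _ _) γ r).trans (hβ r hr))
  obtain ⟨hf, hc⟩ := J4TC.bound _ γ hγ
  haveI : Finite (grp γ gens) := hf
  have e1 : (grp γ gens).map (MonoidHom.fst _ _) = grp α gens := map_grp _ _ _
  have e2 : (grp γ gens).map (MonoidHom.snd _ _) = grp β gens := map_grp _ _ _
  have hi := inj_of_mult ((MonoidHom.fst M24 P).comp (grp γ gens).subtype) (fun z => by
    obtain ⟨x, hx, e⟩ := e1 ▸ ht (Subgroup.mem_top z)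
    exact ⟨⟨x, hx⟩, e⟩) (card_M24 ▸ hc) (perfect hγ) Cfsg.Agent.S2038.result
  refine ⟨(J4TC.bound _ β hβ).1, ?_⟩
  rw [← e2]
  haveI : Finite M24 := Nat.finite_of_card_ne_zero (by rw [card_M24]; decide)
  exact (Nat.card_le_card_of_surjective _ ((MonoidHom.snd M24 P).subgroupMap_surjective _)).trans
    (card_M24 ▸ Nat.card_le_card_of_injective _ hi)

end CA.J4M24
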