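import Cfsg.Agent.Lib.Fi.PkM
import Cfsg.Agent.Lib.Comp.CTodd

/-! Packed matrices for the letters of words (a matrix and its inverse), relators checked after a substitution;
and the subgroup of a presented group that reaches the bound of a simple group. -/

set_option autoImplicit false
set_option linter.all false

namespace CA.PkW

open CA.CNet CA.CWord CA.CMat CA.PkM CA.CTodd Matrix

/-- the relator `r`, after the substitution `σ`, holds for the matrices `F a` of the letters `a < 2 k` -/
noncomputable def chk (p n : ℕ) (F : ℕ → List ℕ) (k : ℕ) (σ : List Word) (r : Word) : Bool :=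
  forceL (lmap (fun a => Nat.mul 2 a) (red 0 (subst σ r))) fun w =>
    band (lall w fun a => Nat.blt a (Nat.mul 2 (Nat.mul 2 k))) (relOK p n F w)

theorem exists_gl {p n k : ℕ} (hp : 0 < p) (hn : n * (p * p) < 65536) {F : ℕ → List ℕ}
    (hF' : ∀ i < 2 * k, ok p n (F i) = true)
    (hI : allR k (fun i => relOK p n F [4 * i, 4 * i + 2]) = true) :
    ∃ g : ℕ → GL (Fin n) (ZMod p), (∀ i < k, (g i : Matrix (Fin n) (Fin n) (ZMod p)) = val p n (F (2 * i))) ∧
      ∀ σ r, chk p n F k σ r = true → ev (fun i => ev g (nth σ [] i)) r = 1 := by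
  classical
  have h2 : ∀ i < k, val p n (F (2 * i)) * val p n (F (2 * i + 1)) = 1 := fun i hi => by
    have := mev_one hp hn hF' (w := [4 * i, 4 * i + 2]) (by simp; omega) fun j hj => allR_spec (allR_spec hI hi) hj
    simpa [mev, show 4 * i / 2 = 2 * i by omega, show (4 * i + 2) / 2 = 2 * i + 1 by omega] using this
  let g : ℕ → GL (Fin n) (ZMod p) := fun i =>
    if h : val p n (F (2 * i)) * val p n (F (2 * i + 1)) = 1 then
      ⟨val p n (F (2 * i)), val p n (F (2 * i + 1)), h, mul_eq_one_comm.1 h⟩ else 1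
  have h3 : ∀ a < 2 * k, ((lv g a : GL (Fin n) (ZMod p)) : Matrix (Fin n) (Fin n) (ZMod p)) = val p n (F a) :=
    fun a ha => by
      unfold lv
      simp only [g, dif_pos (h2 (a / 2) (by omega))]
      split_ifs with h
      · show val p n (F (2 * (a / 2))) = _
        rw [show 2 * (a / 2) = a by omega]
      · show val p n (F (2 * (a / 2) + 1)) = _
        rw [show 2 * (a / 2) + 1 = a by omega]
  have h4 : ∀ w : Word, (∀ a ∈ w, a < 2 * k) →
      ((ev g w : GL (Fin n) (ZMod p)) : Matrix (Fin n) (Fin n) (ZMod p)) = mev p n F (w.map fun a => 2 * a) :=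
    fun w => by
    induction w with
    | nil => intro _; rfl
    | cons a w ih =>
      intro hw
      rw [ev_cons, Units.val_mul, h3 a (hw a (by simp)), ih fun b hb => hw b (by simp [hb])]
      simp [mev]
  refine ⟨g, fun i hi => by simp only [g, dif_pos (h2 i hi)], fun σ r h => ?_⟩
  unfold chk at h
  rw [forceL_eq, band_iff, lmap_eq] at h
  have h5 : ∀ a ∈ (red 0 (subst σ r)).map fun a => 2 * a, a < 2 * (2 * k) := fun a ha =>
    Nat.blt_eq.mp (lall_iff.1 h.1 a ha)
  rw [← ev_subst, ← ev_red (im := 0) (by simp)]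
  refine Units.ext ((h4 _ fun a ha => ?_).trans (mev_one hp hn hF' h5 fun j hj => allR_spec h.2 hj))
  have := h5 _ (List.mem_map_of_mem ha)
  omega

/-- two groups satisfy the relators; in one of them `gens` generate a simple group that reaches the bound -/
theorem equiv_of_bound {rels gens : List Word} {N : ℕ} (hB : Bound.{0} rels gens N) {A B : Type} [Group A] [Group B]
    {α : ℕ → A} {β : ℕ → B} (hα : ∀ r ∈ rels, ev α r = 1) (hβ : ∀ r ∈ rels, ev β r = 1) {S : Subgroup A}
    (hS : S ≤ grp α gens) (hN : N ≤ Nat.card S) (hs : IsSimpleGroup S) (hne : grp β gens ≠ ⊥) :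
    Nonempty (grp β gens ≃* S) := by
  let γ : ℕ → A × B := fun i => (α i, β i)
  have hγ : ∀ r ∈ rels, ev γ r = 1 := fun r hr =>
    Prod.ext ((map_ev (MonoidHom.fst A B) γ r).trans (hα r hr)) ((map_ev (MonoidHom.snd A B) γ r).trans (hβ r hr))
  obtain ⟨hf, hc⟩ := hB _ γ hγ
  obtain ⟨hf', hc'⟩ := hB _ α hα
  have e1 : (grp γ gens).map (MonoidHom.fst A B) = grp α gens := map_grp _ _ _
  have e2 : (grp γ gens).map (MonoidHom.snd A B) = grp β gens := map_grp _ _ _
  have e3 : S = grp α gens := Subgroup.eq_of_le_of_card_ge hS (hc'.trans hN)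
  subst e3
  have i1 : ∀ x ∈ grp γ gens, MonoidHom.fst A B x = 1 → x = 1 := fun x hx h =>
    inj_of_card _ (by rw [e1]; exact hc.trans hN) hx h
  have mk : ∀ {Q : Type} [Group Q] (φ : A × B →* Q) {T : Subgroup Q}, (grp γ gens).map φ = T →
      (φ.subgroupMap (grp γ gens)).ker = ⊥ → Nonempty (grp γ gens ≃* T) := fun φ T e h =>
    ⟨(MulEquiv.ofBijective _ ⟨(MonoidHom.ker_eq_bot_iff _).1 h, φ.subgroupMap_surjective _⟩).trans
      (MulEquiv.subgroupCongr e)⟩
  obtain ⟨f1⟩ := mk _ e1 (eq_bot_iff.2 fun x hx => Subgroup.mem_bot.2 (Subtype.ext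
    (i1 x.1 x.2 (congrArg Subtype.val hx))))
  haveI : IsSimpleGroup (grp γ gens) := f1.isSimpleGroup
  rcases IsSimpleGroup.eq_bot_or_eq_top_of_normal ((MonoidHom.snd A B).subgroupMap (grp γ gens)).ker inferInstance
    with h | h
  · obtain ⟨f2⟩ := mk _ e2 h
    exact ⟨f2.symm.trans f1⟩
  · refine absurd (eq_bot_iff.2 fun y hy => ?_) hne
    rw [← e2] at hy
    obtain ⟨x, hx, rfl⟩ := hy
    exact congrArg Subtype.val (show (⟨x, hx⟩ : grp γ gens) ∈ ((MonoidHom.snd A B).subgroupMap (grp γ gens)).ker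
      from h ▸ Subgroup.mem_top _)

end CA.PkW
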