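import Cfsg.Agent.Lib.Spor.J4Lowa
import Cfsg.Agent.Lib.Spor.J4Lowb
import Cfsg.Agent.Lib.Spor.J4Dc
import Cfsg.Agent.Lib.Spor.PkW

/-! The group `2^11 : M24`: a model, its double coset data and its normal subgroups. -/

set_option autoImplicit false
set_option linter.all false
set_option maxRecDepth 100000

namespace CA.J4Mod
open Subgroup CA.CNet CA.CWord CA.CLevel CA.CPoint CA.CTodd CA.CLow CA.J4Perm CA.J4H CA.J4D CA.J4Low CA.J4Dc

theorem ev_mem' {A : Type*} [Group A] {g : ℕ → A} {H : Subgroup A} {w : Word} (h : ∀ a ∈ w, g (a / 2) ∈ H) :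
    ev g w ∈ H := by
  induction w with
  | nil => exact H.one_mem
  | cons a w ih =>
    rw [ev_cons]
    refine H.mul_mem ?_ (ih fun b hb => h b (List.mem_cons_of_mem _ hb))
    have := h a (List.mem_cons_self ..)
    unfold lv
    split_ifs
    · exact this
    · exact H.inv_mem this

theorem genH {A : Type*} [Group A] (g : ℕ → A) {i : ℕ} (hi : i < 16) : g i ∈ grp g gensH :=
  ev_gen g i ▸ mem_grp g ((by decide : ∀ i < 16, [2 * i] ∈ gensH) i hi)

theorem memH {A : Type*} [Group A] (g : ℕ → A) {w : Word} (h : ∀ a ∈ w, a < 32) : ev g w ∈ grp g gensH :=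
  ev_mem' fun a ha => genH g (by have := h a ha; omega)

def lo (i : ℕ) : ℕ := [501397585920, 33030144, 15360, 147456, 17694720, 9216, 6072].getD i 0

theorem msk_spec {l : List J4D.Rep} {j : ℕ} (h : (msk l).testBit j = true) : ∃ r ∈ l, r.1 = j := by
  induction l with
  | nil => exact absurd h (by simp [msk])
  | cons r l ih =>
    have e : msk (r :: l) = bit r.1 ||| msk l := rfl
    rw [e, Nat.testBit_or, Bool.or_eq_true, testBit_bit] at h
    rcases h with h | h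
    · exact ⟨r, List.mem_cons_self .., of_decide_eq_true h⟩
    · obtain ⟨s, hs, e⟩ := ih h
      exact ⟨s, List.mem_cons_of_mem _ hs, e⟩

theorem small : ∀ i < 7, ∀ w ∈ W i, ∀ a ∈ w, a < 32 := by decide +kernel
theorem smallR : ∀ i < 7, ∀ r ∈ R i, r.2.2.1 < 7 ∧ (∀ a ∈ r.2.1, a < 32) ∧ (∀ a ∈ r.2.2.2.1, a < 32) ∧
    ∀ a ∈ r.2.2.2.2, a < 32 := by decide +kernel

theorem lows : ∀ i < 7, lo i ≤ Nat.card (C.grp (W i)) := fun i hi => by
  interval_cases i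
  exacts [low0.1, low1.1, low2.1, low3.1, low4.1, low5.1, low6.1]

theorem covs : ∀ i < 7, (∃ s, sub U (C.clo (W i) s (msk (R i))) = true) ∧
    lall (R i) (fun r => mapsP C lk r.2.1 9203 r.1) = true := fun i hi => by
  interval_cases i
  exacts [⟨⟨_, cov0⟩, pt0⟩, ⟨⟨_, cov1⟩, pt1⟩, ⟨⟨_, cov2⟩, pt2⟩, ⟨⟨_, cov3⟩, pt3⟩, ⟨⟨_, cov4⟩, pt4⟩, ⟨⟨_, cov5⟩, pt5⟩,
    ⟨⟨_, cov6⟩, pt6⟩]

theorem cardC : Nat.card (C.grp gensH) = 501397585920 := le_antisymm (J4H.bound _ _ hrel).2 low0.1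

theorem dec (i : ℕ) (hi : i < 7) (π : Equiv.Perm (Fin C.n)) (hπ : π ∈ C.grp gensH) :
    ∃ κ ∈ C.grp (W 1), ∃ α ∈ C.grp (W i), ∃ r ∈ R i, π = κ * (C.ev r.2.1)⁻¹ * α := by
  let p : Fin C.n := ⟨9203, by decide⟩
  have le : ∀ i < 7, C.grp (W i) ≤ C.grp gensH := fun i hi => (grp_le_iff _).2 fun w hw => memH _ (small i hi w hw)
  have st : C.grp gensH ⊓ MulAction.stabilizer _ p = C.grp (W 1) :=
    stab_of_card (le 1 (by decide)) (fix_of_mapsP (p := p) hlk fixK) ((Nat.le_of_ble_eq_true orbK).trans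
      (cnt_le_orbit hC fun i hi => clo_bit hC W0 _ p i hi))
      (cardC.le.trans (le_trans (by decide) (Nat.mul_le_mul_left _ (lows 1 (by decide)))))
  obtain ⟨⟨s, h1⟩, h2⟩ := covs i hi
  have h3 : U.testBit (π⁻¹ p) = true := (Ctx.inv_spec hC hU (inv_mem hπ) p).trans
    (show U.testBit 9203 = true by decide +kernel)
  obtain ⟨α, hα, h4⟩ := Ctx.clo_spec hC _ _ _ _ (sub_spec h1 h3)
  obtain ⟨r, hr, h5⟩ := msk_spec h4
  have h6 : C.ev r.2.1 p = α (π⁻¹ p) := Fin.ext ((mapsP_spec (p := p) hlk (lall_iff.1 h2 r hr)).trans h5)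
  have h7 : (C.ev r.2.1)⁻¹ * α * π⁻¹ ∈ C.grp (W 1) := by
    rw [← st]
    refine mem_inf.2 ⟨mul_mem (mul_mem (inv_mem (memH _ (smallR i hi r hr).2.1)) (le i hi hα)) (inv_mem hπ), ?_⟩
    show (C.ev r.2.1)⁻¹ (α (π⁻¹ p)) = p
    rw [← h6]; simp
  exact ⟨_, inv_mem h7, α, hα, r, hr, by group⟩

theorem model : ∃ (P : Type) (_ : Group P) (_ : Finite P) (δ : ℕ → P), (∀ r ∈ relsH, ev δ r = 1) ∧ grp δ gensH = ⊤ ∧
    Nat.card P = 501397585920 ∧ 2048 ≤ Nat.card (grp δ qs) ∧ (∀ i < 7, lo i ≤ Nat.card (grp δ (W i))) ∧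
    ∀ i < 7, ∀ π, ∃ κ ∈ grp δ (W 1), ∃ α ∈ grp δ (W i), ∃ r ∈ R i, π = κ * (ev δ r.2.1)⁻¹ * α := by
  have gm : ∀ i, C.g i ∈ C.grp gensH := fun i => by
    by_cases hi : i < 16
    · exact genH _ hi
    · have : C.g i = 1 := by
        show toPerm _ (nth C.T [] i) = 1
        rw [nth_eq_getD, List.getD_eq_default _ _ (show C.T.length ≤ i from not_lt.1 hi)]
        rfl
      rw [this]; exact one_mem _
  let δ : ℕ → C.grp gensH := fun i => ⟨C.g i, gm i⟩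
  have e1 : ∀ w, (ev δ w).1 = C.ev w := fun w => map_ev (C.grp gensH).subtype δ w
  have e2 : ∀ ws, (grp δ ws).map (C.grp gensH).subtype = C.grp ws := fun ws => map_grp _ δ ws
  have e3 : ∀ ws, Nat.card (grp δ ws) = Nat.card (C.grp ws) := fun ws => by rw [← e2 ws, card_subtype]
  refine ⟨C.grp gensH, inferInstance, inferInstance, δ, fun r hr => Subtype.ext ((e1 r).trans (hrel r hr)),
    (card_eq_iff_eq_top _).1 (e3 _), cardC, (e3 _).symm ▸ lowQ.1, fun i hi => (e3 _).symm ▸ lows i hi, fun i hi π => ?_⟩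
  obtain ⟨κ, hκ, α, hα, r, hr, e⟩ := dec i hi π.1 π.2
  rw [← e2] at hκ hα
  obtain ⟨κ, hκ, rfl⟩ := hκ
  obtain ⟨α, hα, rfl⟩ := hα
  exact ⟨κ, hκ, α, hα, r, hr, Subtype.ext (by rw [e, ← e1]; rfl)⟩

theorem hom {P G : Type} [Group P] [Finite P] [Group G] {δ : ℕ → P} {γ : ℕ → G} (hδ : ∀ r ∈ relsH, ev δ r = 1)
    (hγ : ∀ r ∈ relsH, ev γ r = 1) (ht : grp δ gensH = ⊤) (hc : Nat.card P = 501397585920) :
    ∃ φ : P →* G, ∀ w, (∀ a ∈ w, a < 32) → φ (ev δ w) = ev γ w := by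
  let β : ℕ → P × G := fun i => (δ i, γ i)
  have e1 : ∀ w, (ev β w).1 = ev δ w := fun w => map_ev (MonoidHom.fst P G) β w
  have e2 : ∀ w, (ev β w).2 = ev γ w := fun w => map_ev (MonoidHom.snd P G) β w
  obtain ⟨hf, hb⟩ := J4H.bound _ β fun r hr => Prod.ext ((e1 r).trans (hδ r hr)) ((e2 r).trans (hγ r hr))
  let f := (MonoidHom.fst P G).comp (grp β gensH).subtype
  have hs : Function.Surjective f := fun x => by
    have : x ∈ (grp β gensH).map (MonoidHom.fst P G) := by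
      rw [map_grp]; exact ht.ge (mem_top x)
    obtain ⟨y, hy, e⟩ := this
    exact ⟨⟨y, hy⟩, e⟩
  let e := MulEquiv.ofBijective f (hs.bijective_of_nat_card_le (hc ▸ hb))
  refine ⟨((MonoidHom.snd P G).comp (grp β gensH).subtype).comp e.symm.toMonoidHom, fun w hw => ?_⟩
  have : e.symm (ev δ w) = ⟨ev β w, memH β hw⟩ := e.symm_apply_eq.2 (e1 w).symm
  show (e.symm (ev δ w)).1.2 = _
  rw [this]; exact e2 w

theorem struct {P : Type} [Group P] [Finite P] {δ : ℕ → P} (hδ : ∀ r ∈ relsH, ev δ r = 1) (ht : grp δ gensH = ⊤)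
    (hc : Nat.card P = 501397585920) (hq : 2048 ≤ Nat.card (grp δ qs)) (hx : ev δ [0] ≠ 1)
    (hne : ev δ [0, 2, 4] ≠ ev δ [4, 0, 2]) (Y : Subgroup P) [Y.Normal] :
    grp δ [[0], [2]] ≤ Y ∨ (Y ⊓ grp δ [[0], [2]] = ⊥ ∧ (Y = ⊥ ∨ Y = grp δ qs)) := by
  obtain ⟨α, hα, hα'⟩ := J4M24.model
  obtain ⟨e⟩ := PkW.equiv_of_bound J4M24.bound hα (fun r hr => hδ r ((by decide +kernel : ∀ r ∈ J4TC.r7, r ∈ relsH) r hr))
    hα' M24Core.card_top.ge M24Sub.simple_top (fun h => hx (mem_bot.1 (h ▸ mem_grp δ (by decide))))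
  have hN : IsSimpleGroup (grp δ [[0], [2]]) := haveI := M24Sub.simple_top; e.isSimpleGroup
  have cN : Nat.card (grp δ [[0], [2]]) = 244823040 := (Nat.card_congr e.toEquiv).trans M24Core.card_top
  have gq : ∀ w : Word, (∀ b ∈ w, 4 ≤ b ∧ b < 26) → ev δ w ∈ grp δ qs := fun w h => ev_mem' fun a ha =>
    ev_gen δ _ ▸ mem_grp δ ((by decide : ∀ b < 26, 4 ≤ b → [2 * (b / 2)] ∈ qs) a (h a ha).2 (h a ha).1)
  have n1 : ∀ i < 13, δ i ∈ normalizer (grp δ qs : Set P) := fun i hi => by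
    by_cases h2 : i < 2
    · refine mem_norm ?_
      rintro _ ⟨q, hq, rfl⟩
      obtain ⟨r, hr, h3, h4⟩ := (by decide +kernel : ∀ i < 2, ∀ q ∈ qs, ∃ r ∈ relsH,
        r = [2 * i] ++ q ++ winv [2 * i] ++ r.drop 3 ∧ ∀ b ∈ r.drop 3, 4 ≤ b ∧ b < 26) i h2 q hq
      have h5 := hδ r hr
      rw [h3, ev_append, ev_append, ev_append, ev_winv, ev_gen] at h5
      rw [eq_inv_of_mul_eq_one_left h5]
      exact inv_mem (gq _ h4)
    · exact le_normalizer (ev_gen δ i ▸ gq [2 * i] (by simp; omega))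
  have n2 : ∀ i < 16, δ i ∈ normalizer (grp δ qs : Set P) := fun i hi => by
    by_cases h2 : i < 13
    · exact n1 i h2
    · obtain ⟨r, hr, h3, h4⟩ := (by decide +kernel : ∀ i < 16, ¬ i < 13 → ∃ r ∈ relsH,
        r = winv [2 * i] ++ r.drop 1 ∧ ∀ b ∈ r.drop 1, b < 26) i hi h2
      have h5 := hδ r hr
      rw [h3, ev_append, ev_winv, ev_gen, inv_mul_eq_one] at h5
      rw [h5]
      exact ev_mem' fun a ha => n1 _ (by have := h4 a ha; omega)
  haveI : (grp δ qs).Normal := normalizer_eq_top_iff.1 (top_unique (ht.ge.trans ((grp_le_iff δ).2 fun w hw =>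
    ev_mem' fun a ha => n2 _ (by have := small 0 (by decide) w hw a ha; omega))))
  have hne' : ev δ [0, 2] * ev δ [4] ≠ ev δ [4] * ev δ [0, 2] := by rwa [← ev_append, ← ev_append]
  have cz : grp δ qs ≤ centralizer {ev δ [4]} := (grp_le_iff δ).2 fun w hw => mem_centralizer_singleton_iff.2 (by
    obtain ⟨h1, h2⟩ := (by decide +kernel : ∀ w ∈ qs, w ++ w ∈ relsH ∧ (w = [4] ∨ (w ++ [4]) ++ (w ++ [4]) ∈ relsH)) w hw
    rcases h2 with rfl | h2
    · rfl
    · have a := hδ _ h1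
      have b := hδ _ h2
      have c := hδ ([4] ++ [4]) (by decide +kernel)
      rw [ev_append] at a c
      rw [ev_append, ev_append] at b
      rw [eq_inv_of_mul_eq_one_left b, mul_inv_rev, ← eq_inv_of_mul_eq_one_left a, ← eq_inv_of_mul_eq_one_left c])
  have hQ : Nat.card (grp δ qs) = 2048 := by
    rcases le_or_disj hN (grp δ qs) with h | h
    · exact absurd (mem_centralizer_singleton_iff.1 (cz (h (ev_mem' fun a ha => ev_gen δ _ ▸ mem_grp δ
        ((by decide : ∀ a ∈ [0, 2], [2 * (a / 2)] ∈ [[0], [2]]) a ha))))) hne'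
    · have := dvd_of_disj h
      rw [cN, hc, show 501397585920 = 244823040 * 2048 from rfl] at this
      exact le_antisymm (Nat.le_of_dvd (by decide) (Nat.dvd_of_mul_dvd_mul_left (by decide) this)) hq
  exact tri hN cN hQ hc (p := ev δ [0, 2]) (ev_wpow δ _ _ ▸ hδ _ (by decide +kernel)) (mem_grp δ (by decide)) hne' Y

end CA.J4Mod
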