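import Cfsg.Agent.Lib.Spor.J4N0

/-! Double cosets of `M₂₄` in `J₄`: derivations. -/

set_option autoImplicit false
set_option maxRecDepth 100000
set_option linter.all false
namespace CA.J4N
open CA.CNet CA.CWord CA.CLevel CA.CSimple CA.CPoint CA.CLow CA.CTodd CA.TCos CA.J4M
noncomputable section

def E3 : List (ℕ × Word × List (ℕ × Word) × Word) := [(1,[3],[(1054,[])],[]),
  (1,[],[(1058,[]),(48,[]),(89,[]),(32,[]),(44,[]),(1054,[2,12,11,12,5])],[]),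
  (1,[],[(1058,[]),(32,[]),(45,[]),(48,[]),(44,[]),(32,[]),(1054,[2,9,13,6,8])],[]),
  (2,[4,10,5,16,4],[(1058,[2,8,3,14,2]),(32,[]),(41,[]),(41,[]),(658,[3,0,13,9,4])],[0,13,14,7,0]),
  (1,[3,13,2,13],[(1070,[]),(1064,[])],[13,11,4,15]),
  (2,[7,4,16,4,14],[(1058,[5,2,14,2,12]),(32,[]),(41,[]),(546,[2,0,3,9,5]),(556,[]),(552,[]),(552,[]),(556,[]),(552,[])],[8,12,3,6,0]),
  (1,[3,1,2,1,3],[(1078,[]),(1060,[])],[4,15,2,13,3]),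
  (2,[4,9,4,17],[(1058,[2,7,2,15]),(89,[]),(89,[]),(40,[]),(150,[0,10,4,13,15]),(120,[])],[2,7,12,10]),
  (1,[3,14],[(1086,[])],[0,12,10,9,13]),
  (6,[5,8,5,5,11],[(1058,[3,6,3,3,9]),(88,[]),(48,[]),(40,[]),(32,[]),(150,[13,0,6,4]),(125,[]),(116,[]),(112,[]),(318,[4,4,10,3,12]),(301,[]),(304,[])],[3,0,11,8,12]),
  (1,[3,7,11,16],[(1094,[]),(1060,[])],[0,14,13,3,9]),
  (6,[5,10,5,8],[(1058,[3,8,3,6]),(41,[]),(89,[]),(150,[0,8,2,13,14]),(164,[]),(124,[]),(1086,[0,2,0,6,5])],[3,14,14,9]),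
  (7,[0,12,16,9,0],[(1058,[0,10,14,7,0]),(89,[]),(89,[]),(40,[]),(32,[]),(150,[15,7,9,15]),(124,[]),(120,[]),(1086,[4,0,10,7,14])],[2,9,14,4,15]),
  (2,[5,9,4,8,14,3,13,3],[(1106,[3,7,2,6,12]),(1098,[6,13,3,7,9])],[0,10,6,0,10]),
  (100,[],[],[]),
  (1,[3,5,8,11],[(1114,[])],[]),
  (1,[],[(1118,[]),(141,[]),(124,[]),(116,[]),(1114,[7,5,15,8])],[]),
  (1,[],[(1118,[]),(140,[]),(125,[]),(120,[]),(1114,[6,8,3,4,6])],[]),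
  (2,[5,12,9,16,15],[(1118,[3,10,7,14,13]),(138,[9,5,8,3]),(1114,[8,2,4])],[]),
  (2,[5,13,7,0,11],[(1118,[3,11,5,0,9]),(116,[]),(810,[9,3,6,11]),(840,[]),(817,[])],[0,13,14]),
  (1,[3,5,16],[(1134,[]),(1128,[])],[0,4,12,12,5]),
  (2,[5,13,11,14,6],[(1118,[3,11,9,12,4]),(141,[]),(125,[]),(1114,[2,12,8,8,15])],[11,7,8,13]),
  (5,[15,0,12,8],[(1118,[13,0,10,6]),(112,[]),(138,[5,5,7,2]),(164,[]),(322,[0,11,2,14,14]),(301,[])],[0,7,14,6,11]),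
  (1,[3,11,13,9],[(1146,[]),(1120,[])],[15,5,15,10]),
  (6,[5,5,0,17],[(1118,[3,3,0,15]),(165,[]),(116,[]),(130,[5,15,12,11]),(120,[]),(165,[]),(1114,[4,15,4,10]),(1120,[])],[2,15,7,9,9]),
  (4,[5,5,7,12,6,2,13,8],[(1154,[3,3,5,10,4]),(1128,[]),(1120,[]),(1150,[3,15,13,7]),(300,[]),(594,[6,2,4,8,14]),(552,[])],[0,15,3,8,15]),
  (100,[],[],[]),
  (1,[3,5,12,2,6],[(1162,[])],[]),
  (1,[],[(1166,[]),(124,[]),(124,[]),(116,[]),(1162,[2,11,13,5,14])],[]),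
  (2,[0,5,17,10,7],[(1166,[0,3,15,8,5]),(506,[3,6,5,14]),(520,[])],[3,3,15,11,9]),
  (1,[3,1,2,1,3],[(1174,[])],[12,15,7,15]),
  (2,[0,4,14,11],[(1166,[0,2,12,9]),(141,[]),(125,[]),(1162,[2,8,10,12])],[3,14,14,4,10]),
  (2,[8,10,14,9,5],[(1166,[6,8,12,7,3]),(826,[2,15,8,14]),(840,[]),(816,[])],[7,12,11,15]),
  (5,[16,10,13],[(1166,[14,8,11]),(165,[]),(112,[]),(826,[3,11,6,2,12]),(840,[]),(1186,[15,8,6,3])],[0,4,14,2,6]),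
  (7,[7,0,11,0],[(1166,[5,0,9,0]),(120,[]),(810,[0,14,5,15,11]),(840,[]),(820,[]),(1186,[10,3,6,3])],[0,4,2,9,0]),
  (1,[3,5,8],[(1194,[])],[0,8,15,4]),
  (2,[11,0,6,16,3,14,1,5],[(1198,[9,0,4,14]),(1190,[0,10,3,0,13])],[2,11,8,11,7]),
  (1,[3,16,5],[(1202,[])],[2,0,3,4,7]),
  (2,[4,8,17,17,3,1,5,8],[(1206,[2,6,15,15]),(1182,[2,2,8,2,14])],[0,2,12,5,10]),
  (1,[2,1,12,7],[(1210,[])],[0,12,0,3,11]),
  (100,[],[],[]),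
  (1,[2,16,9],[(1218,[])],[]),
  (1,[],[(1222,[]),(140,[]),(125,[]),(120,[]),(1218,[2,0,14,2,14])],[]),
  (2,[0,8,0,17,11,3,13,2,10],[(138,[0,6,0,15,9]),(140,[]),(140,[]),(1218,[2,10,3,14])],[0,2,13,8,11]),
  (1,[3,4,10,17,3],[(1230,[]),(140,[]),(140,[]),(1218,[0,7,3,9,6])],[]),
  (2,[4,17,4,10],[(814,[2,15,2,8]),(165,[]),(112,[]),(1218,[10,12,0]),(1232,[])],[0,3,10,12,2]),
  (1,[3,13,2,12],[(1238,[]),(816,[]),(816,[])],[3,6,5,8]),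
  (5,[14,17,0,5],[(1118,[12,15,0,3]),(165,[]),(112,[]),(138,[8,7,12,5]),(164,[]),(140,[]),(1218,[2,15,2,11])],[2,12,0,8,12]),
  (1,[3,17,10],[(1246,[])],[6,2,8,4,7]),
  (5,[8,8,4,13,9],[(1118,[6,6,2,11,7]),(116,[]),(134,[2,11,4,2,10]),(141,[]),(112,[]),(1218,[12,7,2,15])],[11,15,10,6]),
  (3,[5,6,17,15,16,3,12,2,12],[(1138,[3,4,15,13,14]),(840,[]),(1242,[3,3,5,6,12])],[0,3,9,14,11]),
  (1,[3,13,2,4],[(1258,[])],[10,15,10,15]),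
  (3,[0,10,14,14,13,2,11,12,2],[(1142,[0,8,12,12,11]),(1250,[12,12,6,5])],[0,5,13,8,14]),
  (1,[3,14,14,9],[(1266,[])],[0,3,10,3,7]),
  (6,[8,17,17,8,3,1,10],[(1270,[6,15,15,6]),(1254,[15,10,8]),(1270,[9,6,11,3])],[4,13,14,3,14]),
  (2,[5,13,4,14,6,3,15,11,2],[(1274,[3,11,2,12,4]),(1150,[9,10,7,15]),(305,[]),(301,[])],[2,8,0]),
  (100,[],[],[]),
  (1,[3,6,11,3],[(1282,[])],[]),
  (1,[],[(1286,[]),(165,[]),(125,[]),(112,[]),(1282,[7,14,11,3])],[]),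
  (2,[5,13,15,4],[(1286,[3,11,13,2]),(165,[]),(141,[]),(124,[]),(1086,[4,6,4,8,13])],[0,4,14,4,9]),
  (6,[4,8,16,4,15],[(1286,[2,6,14,2,13]),(116,[]),(154,[0,14,6,11]),(89,[]),(48,[]),(88,[]),(40,[]),(1054,[13,3,6,13])],[0,2,2,12,15]),
  (100,[],[],[]),
  (1,[2,15,9,3],[(1302,[])],[]),
  (1,[],[(1306,[]),(164,[]),(120,[]),(1302,[15,13,3,3])],[]),
  (2,[0,8,13,10,12],[(1306,[0,6,11,8,10]),(140,[]),(124,[]),(718,[9,7,3,0]),(728,[])],[0,3,15,11,12]),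
  (1,[3,1,2,1,3],[(1314,[])],[0,2,4,14,10]),
  (2,[5,12,15,15,11],[(1306,[3,10,13,13,9]),(140,[]),(164,[]),(846,[0,5,13,15,4])],[4,13,3,9]),
  (5,[0,5,8,6,15],[(1306,[0,3,6,4,13]),(140,[]),(164,[]),(112,[]),(1086,[2,15,4,12,0]),(1064,[]),(1074,[15,15,10,15]),(668,[]),(664,[])],[4,14,5,3]),
  (1,[3,5,9,14],[(1326,[])],[10,10,5,8]),
  (100,[],[],[]),
  (1,[3,16,2,14],[(1334,[])],[]),
  (2,[4,15,16,10,6],[(1338,[2,13,14,8,4]),(241,[]),(236,[]),(232,[]),(770,[10,12,6,2])],[7,5,8,2]),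
  (100,[],[],[]),
  (1,[2,4,11,2],[(1346,[])],[]),
  (1,[],[(1350,[]),(304,[]),(1346,[0,6,14,14,0])],[]),
  (2,[0,15,8,17,14],[(1350,[0,13,6,15,12]),(300,[]),(342,[0,3,15,12]),(1346,[15,9,4,6])],[]),
  (2,[0,14,5,10,12],[(1350,[0,12,3,8,10]),(304,[]),(301,[]),(618,[9,10,6,14]),(552,[])],[9,5,7,2]),
  (4,[7,4,17,11,11],[(1350,[5,2,15,9,9]),(300,[]),(326,[4,15,10,13]),(165,[]),(874,[4,0,13,8,14])],[10,9,3,10]),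
  (1,[3,7,1,2],[(1366,[]),(1352,[])],[3,7,4,13,8]),
  (4,[5,0,17,4,4],[(1350,[3,0,15,2,2]),(304,[]),(300,[]),(334,[0,3,7,15,10]),(304,[]),(301,[]),(1346,[10,14]),(1352,[])],[15,0,9,10]),
  (6,[7,9,16,4,17],[(1350,[5,7,14,2,15]),(602,[10,12,0,13]),(938,[5,5,11,9,9])],[0,7,2,4,9]),
  (1,[2,1,3,11],[(1378,[])],[4,4,10,7,8]),
  (6,[5,16,7,8,17,3,5,12,11],[(1382,[3,14,5,6,15]),(856,[]),(914,[3,9,12,8,5]),(1378,[0,2,13,10,15])],[2,11,13,6]),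
  (6,[0,14,6,0,9,3,5,12,11],[(1382,[0,12,4,0,7]),(856,[]),(934,[5,2,14,7,5]),(602,[2,11,6,13]),(556,[]),(552,[])],[9,0,2,15]),
  (1,[3,14,16,15],[(1390,[]),(1352,[])],[0,10,12,11,2]),
  (2,[4,11,7,13,11,3,4,15],[(1394,[2,9,5,11,9]),(634,[4,4,7,15,15]),(552,[]),(552,[])],[12,2,8,10]),
  (2,[9,7,0,10,3,4,15],[(1394,[7,5,0,8]),(552,[]),(552,[]),(1398,[0,2,15,10,2])],[5,12,9,13]),
  (4,[4,0,12,16,3,4,15],[(1394,[2,0,10,14]),(552,[]),(578,[5,12,15,7]),(556,[]),(553,[]),(1390,[0,9,6,0])],[0,7,14,5,7]),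
  (5,[13,5,9,6,10,3,4,15],[(1394,[11,3,7,4,8]),(552,[]),(622,[0,2,2,13,5]),(304,[]),(301,[]),(898,[8,0,3,14]),(852,[])],[0,3,0,8,2]),
  (5,[5,17,3,4,15],[(1394,[3,15]),(552,[]),(556,[]),(614,[0,5,12,12,5]),(304,[]),(300,[]),(898,[14,2,8,11]),(852,[])],[2,10,8,5,5]),
  (1,[3,17,14,3],[(1414,[])],[12,7,4,2]),
  (5,[9,6,14,10,8,3,4,15],[(1394,[7,4,12,8,6]),(552,[]),(778,[2,15,8,2,8]),(738,[0,14,11,8,13]),(724,[])],[15,5,2,4])]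
theorem hE3 : allD2 lk B KW KW FN AN RL [] E3 264 = true := by decide +kernel
def E4 : List (ℕ × Word × List (ℕ × Word) × Word) := [(1,[3,1,3,12,9],[(1422,[])],[0,13,0,6]),
  (2,[0,9,6,10,7,2,13,9,3],[(1426,[0,7,4,8,5]),(758,[0,7,12,3,10]),(241,[])],[3,6,5,14,5]),
  (1,[3,7,4,2,8],[(1430,[])],[7,11,3,14]),
  (2,[4,8,13,7,0,3,15,15,3,16],[(1434,[2,6,11,5,0]),(236,[]),(241,[]),(794,[2,12,11,13,9])],[8,4,0,15]),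
  (1,[3,1,2],[(1438,[]),(1352,[])],[0,3,10,2,5]),
  (2,[8,4,4,3,8,6,11],[(1442,[6,2,2]),(732,[]),(786,[2,15,6,3,13]),(728,[])],[13,4]),
  (1,[3,5,12,15],[(1446,[]),(1352,[])],[9,12,5,9,12]),
  (2,[5,12,15,16,2,4,8],[(1450,[3,10,13,14]),(806,[5,3,15,0,11]),(184,[]),(192,[]),(188,[])],[7,2,4,2]),
  (4,[4,14,6,14,11,3,6,3,1],[(1406,[2,12,4,12,9]),(1352,[]),(1386,[9,0,11,12]),(1352,[]),(1370,[15,0,11])],[2,7,12,6]),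
  (1,[3,4,13,17,3],[(1458,[]),(1352,[])],[4,9,6]),
  (2,[5,14,11,16,2,11,16,2,13],[(1462,[3,12,9,14]),(914,[2,7,4,2,7])],[9,15,13,4]),
  (1,[3,4,17,14,2],[(1466,[])],[0,12,9,3,12]),
  (100,[],[],[]),
  (1,[3],[(1474,[])],[]),
  (1,[],[(1478,[]),(124,[]),(116,[]),(1474,[3,8,13,9,12])],[]),
  (2,[6,13,11,16,6],[(1478,[4,11,9,14,4]),(165,[]),(112,[]),(322,[3,6,15,3]),(304,[]),(304,[]),(301,[])],[0,14,4,15,15]),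
  (2,[0,16,0,7,16],[(1478,[0,14,0,5,14]),(164,[]),(112,[]),(165,[]),(874,[0,2,14,2,6]),(856,[])],[0,7,2,2,5]),
  (1,[2,7,9],[(1490,[])],[2,13,9,14,3]),
  (2,[0,8,10,4,4],[(1478,[0,6,8,2,2]),(164,[]),(112,[]),(566,[0,4,9,10,14]),(556,[]),(552,[]),(552,[]),(556,[]),(552,[])],[2,4,10,2,7]),
  (1,[3,13,9,9],[(1498,[])],[4,3,14,8]),
  (2,[4,12,11,4,17],[(1478,[2,10,9,2,15]),(140,[]),(140,[]),(1474,[0,11,8,14,8])],[4,15,3,5]),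
  (4,[5,12,9,13],[(1478,[3,10,7,11]),(112,[]),(141,[]),(874,[3,10,3,10,10]),(852,[]),(1366,[2,10,5,7,14]),(1356,[]),(1352,[])],[0,12,8,7]),
  (5,[7,13,14,6,15],[(1478,[5,11,12,4,13]),(165,[]),(214,[11,2,9,6]),(188,[]),(200,[]),(192,[]),(1454,[0,3,14,13,4]),(1510,[0,2,10,12,15])],[]),
  (6,[0,12,16,13,16],[(1478,[0,10,14,11,14]),(112,[]),(140,[]),(874,[2,0,15,11,13]),(852,[]),(950,[0,12,9,15,7]),(856,[])],[13,4,2,2]),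
  (1,[2,17,14],[(1518,[]),(1512,[]),(1512,[])],[3,3,3,11,8]),
  (7,[4,12,5,0,6,3,5,7,10],[(1522,[2,10,3,0,4]),(856,[]),(946,[0,14,5,3,12]),(304,[]),(300,[]),(618,[4,12,9,13,14])],[5,11,6]),
  (1,[3,9,15,10],[(1526,[]),(1513,[])],[0,13,2,12,12]),
  (100,[],[],[]),
  (1,[3,1,3],[(1534,[])],[]),
  (1,[],[(1538,[]),(112,[]),(116,[]),(112,[]),(1534,[0,7,8,11,3])],[]),
  (2,[12,12,15,13],[(1538,[10,10,13,11]),(125,[]),(112,[]),(810,[4,8,15,0,8]),(820,[]),(817,[])],[0,5,7,5,7]),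
  (2,[0,11,13,8,7],[(1538,[0,9,11,6,5]),(141,[]),(124,[]),(120,[]),(1534,[2,6,6,4,15])],[0,7,14,5,7]),
  (2,[0,13,7,12,9],[(1538,[0,11,5,10,7]),(140,[]),(140,[]),(124,[]),(1474,[8,15,0,10]),(1512,[]),(1480,[])],[0,2,11,2,2]),
  (3,[4,4,7,9],[(1538,[2,2,5,7]),(164,[]),(112,[]),(138,[6,2,4,7]),(165,[]),(124,[]),(1534,[2,15,6,3,13])],[]),
  (4,[0,5,8,8,7],[(1538,[0,3,6,6,5]),(165,[]),(110,[13,11,12,8]),(16,[]),(13,[]),(8,[]),(12,[]),(17,[]),(294,[10,2,11,7]),(300,[])],[4,13,2,8]),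
  (1,[3,6,10,5],[(1562,[])],[9,10,15,13]),
  (7,[9,10,15,7],[(1538,[7,8,13,5]),(124,[]),(112,[]),(138,[0,14,3,0,3]),(125,[]),(112,[]),(1534,[5,2,15,13])],[3,13,13,5,14]),
  (5,[14,17,6,13,2,14,16],[(1570,[12,15,4,11]),(1566,[0,7,15,8,7]),(334,[2,5,13,11,15]),(301,[]),(304,[])],[0,13,7,4]),
  (1,[3,1,2],[(1574,[])],[3,15,8,11]),
  (3,[5,13,13,6,16,3,1,2],[(1578,[3,11,11,4,14]),(305,[]),(1562,[6,8,5,6])],[6,0,2,14,7]),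
  (100,[],[],[]),
  (1,[2,17,14],[(1586,[])],[]),
  (1,[],[(1590,[]),(140,[]),(140,[]),(120,[]),(112,[]),(1586,[3,8,13,9,12])],[]),
  (2,[5,9,17,10,8],[(1590,[3,7,15,8,6]),(124,[]),(165,[]),(1474,[0,5,11,6]),(1513,[])],[5,3,12,12]),
  (2,[12,7,10,10],[(1590,[10,5,8,8]),(124,[]),(112,[]),(318,[2,14,9,15,15]),(301,[])],[4,2,10,2]),
  (2,[4,12,11,14,6],[(1590,[2,10,9,12,4]),(165,[]),(141,[]),(1474,[15,15,0,10]),(1512,[]),(1512,[]),(1598,[12,9,13,9])],[]),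
  (2,[4,16,11,7,9],[(1590,[2,14,9,5,7]),(165,[]),(112,[]),(1474,[8,15,11,7]),(1512,[])],[12,12,12,4]),
  (2,[14,12,9,5],[(1590,[12,10,7,3]),(165,[]),(140,[]),(1474,[6,0,7,8])],[8,0,3,0]),
  (1,[3,13,2,9,11],[(1614,[])],[13,14,5,13]),
  (3,[5,12,14,9,7],[(1590,[3,10,12,7,5]),(120,[]),(322,[6,2,8,12,5]),(301,[])],[5,0,13,2,12]),
  (4,[5,15,5,10],[(1590,[3,13,3,8]),(140,[]),(112,[]),(322,[2,9,15,12,6]),(304,[]),(301,[]),(638,[11,14,2,12]),(552,[]),(556,[]),(552,[])],[3,5,3,11,12]),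
  (1,[3,6,12,17],[(1626,[])],[5,6,2,0,14]),
  (6,[5,13,10,10,6,3,4,11,16],[(1630,[3,11,8,8,4]),(574,[2,5,6,9,0]),(552,[]),(556,[]),(1362,[3,11,3,3,6]),(1352,[]),(1352,[])],[7,13,10,3]),
  (1,[3,8,14,9],[(1634,[]),(1592,[])],[2,11,3,13,13]),
  (6,[4,10,8,17,14,3,1,16,2,7],[(1638,[2,8,6,15,12]),(1470,[2,14,0,12]),(852,[]),(1322,[2,7,9,15,6])],[4,15,13,7]),
  (1,[3,4,16,4,3],[(1642,[]),(1592,[])],[10,3,12,3]),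
  (2,[0,13,16,5,17,3,7],[(1646,[0,11,14,3,15]),(1308,[]),(1330,[3,9,4,2,15]),(664,[])],[0,8,4,10]),
  (1,[3,15,2,14],[(1650,[]),(1592,[])],[0,6,14,5,10]),
  (7,[4,6,15,4,16,3,15,2,14],[(1650,[2,4,13,2,14]),(1604,[]),(1638,[0,6,3,0,3]),(1442,[11,3,7,9]),(733,[])],[3,8,3,15]),
  (1,[3,4,3,4,4],[(1658,[]),(665,[])],[3,6,5,7]),
  (2,[0,13,8,13,6,3,7,11,13],[(1662,[0,11,6,11,4]),(766,[0,14,4,8,5]),(401,[]),(392,[])],[15,6,6,15]),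
  (6,[13,10,16,4,8,3,7,11,13],[(1662,[11,8,14,2,6]),(742,[0,14,12,10,9]),(1342,[0,12,0,15,2])],[8,11,12,7]),
  (1,[3,1,5,5],[(1670,[]),(698,[12,12,6,14])],[]),
  (2,[4,14,0,12,8,3,1,9],[(1666,[2,12,0,10,6]),(668,[]),(664,[]),(1070,[13,15,12])],[0,10,13,11,4]),
  (2,[0,5,17,10,5,2,1,3],[(1678,[0,3,15,8,3]),(444,[]),(400,[]),(426,[2,2,6,14,12]),(444,[])],[2,2,10,14,12]),
  (6,[4,10,15,17,11,2,1,3],[(1678,[2,8,13,15,9]),(444,[]),(442,[0,5,8,12]),(141,[]),(120,[]),(846,[0,6,6,15,15]),(852,[])],[4,8,4]),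
  (1,[3,1,8,17],[(1686,[]),(1060,[])],[2,6,12,0,5]),
  (6,[8,10,7,15,6,2,1,3],[(1678,[6,8,5,13,4]),(445,[]),(400,[]),(1682,[2,8,11,9,13]),(1082,[9,11,8,2]),(553,[]),(556,[])],[11,12,3,11]),
  (1,[3,12,10,8],[(1694,[]),(1064,[])],[13,6,4,15]),
  (2,[0,12,5,13,3,7,13,3,9],[(1690,[0,10,3,11]),(862,[3,15,2,5,14]),(856,[])],[0,12,4,12,14]),
  (1,[3,5,12,3],[(1702,[]),(1060,[])],[0,14,6,3]),
  (4,[5,13,9,3,7,13,3,9],[(1690,[3,11,7]),(926,[3,12,15,4,12]),(305,[]),(301,[]),(1110,[14,2,12,8])],[0,4,15,11,3]),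
  (2,[8,15,12,17,0,3,10],[(1710,[6,13,10,15,0]),(1102,[3,15,7,4,6])],[14,11,13,4]),
  (4,[13,7,15,7,3,10],[(1710,[11,5,13,5]),(1698,[0,11,13]),(556,[]),(552,[]),(1390,[4,0,6,4]),(1352,[]),(1352,[])],[14,12,11,6]),
  (1,[3,14,3,12],[(1718,[]),(1060,[])],[9,2,4,15]),
  (100,[],[],[]),
  (1,[3,7,2,16,11],[(1726,[])],[]),
  (1,[],[(1730,[]),(141,[]),(125,[]),(116,[]),(1726,[2,5,14,9,15])],[]),
  (2,[4,10,6,12],[(1730,[2,8,4,10]),(164,[]),(112,[]),(1218,[3,0,6,10,5]),(1232,[])],[15,3,10,5]),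
  (1,[3,1,2,1,3],[(1738,[])],[0,2,7,9,9]),
  (2,[12,6,15,9],[(1730,[10,4,13,7]),(125,[]),(112,[]),(810,[5,8,2,14]),(816,[])],[2,13,9,11,5]),
  (7,[15,8,16,13],[(1730,[13,6,14,11]),(164,[]),(138,[15,3,6,14]),(141,[]),(318,[2,6,0,6,0]),(304,[]),(301,[]),(304,[])],[3,3,8,15]),
  (1,[3,4,12,9],[(1750,[]),(1732,[])],[3,10,7,14,5]),
  (2,[0,7,11,15,7,3,4,11],[(1754,[0,5,9,13,5]),(300,[]),(305,[]),(1110,[7,5,10,2])],[10,3,0,14]),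
  (5,[9,11,9,14,3,4,11],[(1754,[7,9,7,12]),(626,[3,5,3,12]),(552,[]),(556,[]),(552,[]),(1694,[2,12,9,9]),(1060,[])],[9,11,12,10]),
  (1,[3,11,13,4],[(1762,[]),(1732,[])],[3,10,9,12,9]),
  (6,[6,8,13,14,12,3,4,11],[(1754,[4,6,11,12,10]),(300,[]),(618,[0,5,14,7,5]),(553,[]),(1694,[9,3,0,6]),(1060,[]),(1758,[2,13,10,9,2])],[]),
  (2,[0,4,12,3,11,3,6],[(1766,[0,2,10]),(1064,[]),(1722,[9,0,13,13])],[15,7,3,9]),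
  (7,[7,10,17,12,3,5,14,2,9],[(1774,[5,8,15,10]),(1769,[]),(1730,[6,11,7,10]),(112,[]),(141,[]),(1114,[5,7]),(1124,[])],[4,7])]
theorem hE4 : allD2 lk B KW KW FN AN RL [] E4 356 = true := by decide +kernel
def E5 : List (ℕ × Word × List (ℕ × Word) × Word) := [(1,[3,7,3,8],[(1778,[]),(1352,[])],[2,12,7,4]),
  (2,[6,0,9,6,6,3,4,14,6],[(1782,[4,0,7,4,4]),(1262,[0,4,12,9,4]),(1224,[])],[0,11,8,5]),
  (1,[3,8,10],[(1786,[]),(1352,[])],[4,15,4,14,11]),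
  (2,[5,8,4,13,13,3,8,10],[(1786,[3,6,2,11,11]),(1418,[0,13,6,4,8])],[5,14,12,0]),
  (2,[0,7,13,16,14,3,8,10],[(1786,[0,5,11,14,12]),(1353,[]),(1782,[8,4,15,15])],[8,5,5,5]),
  (1,[3,12,11,6],[(1798,[])],[10,8,4,12]),
  (4,[5,7,11,7,3,8,10],[(1786,[3,5,9,5]),(1774,[5,10,7,3,10]),(1768,[]),(1742,[2,10,12,12,4]),(1802,[2,12,12,10,4])],[]),
  (1,[3,5,9,5],[(1790,[]),(1805,[]),(1124,[])],[2,8,15,7,15]),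
  (1,[3,16,2,14],[(1794,[]),(1805,[]),(1128,[]),(1120,[])],[0,5,3,15,2]),
  (6,[10,4,11,4,2,1,9,2],[(1810,[8,2,9,2]),(1353,[]),(1718,[2,6,11,2]),(1060,[]),(1706,[10,9,13,9,7]),(856,[]),(856,[])],[0,14,0,15]),
  (7,[0,7,16,15,17,2,13,9,3],[(1818,[0,5,14,13,15]),(1138,[0,10,5,3,4]),(820,[]),(817,[]),(1546,[0,15,2,11,12]),(1540,[])],[4,12,2,7]),
  (1,[3,7,13,7],[(1822,[]),(857,[])],[6,6,4,14]),
  (2,[9,15,8,8,2,1,3,4],[(1826,[7,13,6,6]),(1550,[0,2,6,11]),(1540,[])],[4,7,5,14,13]),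
  (2,[7,4,17,9,13,3,4,6,5],[(1830,[5,2,15,7,11]),(852,[]),(1702,[2,15,15,6,3]),(1064,[])],[3,5,2,8]),
  (7,[6,8,16,5,3,4,6,5],[(1830,[4,6,14,3]),(902,[2,10,4,9,14]),(305,[]),(1574,[6,5,14,8])],[14,12,4,0]),
  (4,[5,16,9,0,3,5,15,9],[(1838,[3,14,7,0]),(1538,[0,5,5,9]),(112,[]),(141,[]),(810,[8,12,7,2])],[7,10,5,2]),
  (1,[2,14,14],[(1842,[]),(1540,[])],[12,7,3]),
  (100,[],[],[]),
  (1,[3,4,3,14,13],[(1850,[])],[]),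
  (1,[],[(1854,[]),(141,[]),(124,[]),(116,[]),(1850,[0,2,12,8,3])],[]),
  (2,[0,8,15,15,10],[(1854,[0,6,13,13,8]),(112,[]),(165,[]),(112,[]),(874,[4,2,4,8]),(856,[]),(856,[]),(852,[])],[4,3,10,7,15]),
  (1,[3,5,12,6],[(1862,[]),(1856,[])],[6,13,5,15]),
  (2,[7,16,9,7,4],[(1854,[5,14,7,5,2]),(125,[]),(165,[]),(1850,[8,13,4,7,8])],[7,14,5,5,2]),
  (1,[3,9,9,2],[(1870,[])],[2,9,7,14,10]),
  (2,[6,6,13,9,0],[(1854,[4,4,11,7,0]),(116,[]),(164,[]),(1474,[14,8,11,12]),(1513,[]),(1480,[])],[13,2,4,3]),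
  (1,[3,5,2,14,4],[(1878,[]),(1856,[])],[10,8,11,13,10]),
  (2,[12,11,0,13],[(1854,[10,9,0,11]),(810,[6,13,4,7,15]),(816,[]),(816,[])],[0,2,6,14,4]),
  (2,[0,13,16,7,12],[(1854,[0,11,14,5,10]),(506,[0,4,12,2,15]),(513,[])],[10,6,10,12]),
  (1,[3,7,14,3,8],[(1890,[])],[0,10,8,7,2]),
  (4,[4,9,5,7],[(1854,[2,7,3,5]),(116,[]),(826,[0,9,13,13,6]),(816,[]),(816,[]),(1886,[12,0,13,15])],[3,3,11,2]),
  (6,[13,5,17,0],[(1854,[11,3,15,0]),(116,[]),(506,[0,11,2,12,12]),(536,[]),(516,[]),(513,[]),(1890,[14,4,15,3])],[7,13,10,3]),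
  (6,[0,5,7,10],[(1854,[0,3,5,8]),(146,[4,12,15,6,3]),(141,[]),(116,[]),(1850,[2,15,5,10,10])],[6,4,14,0]),
  (4,[5,9,11,13,6,3,8,13,4],[(1906,[3,7,9,11,4]),(1856,[]),(1866,[4,3,11,6]),(856,[]),(1826,[2,8,11,5,9]),(1540,[])],[0,9,3,12,5]),
  (2,[0,7,11,4,11,3,14,9],[(1902,[0,5,9,2,9]),(1898,[3,10,6,0])],[3,7,15,2,10]),
  (4,[0,5,17,8,4,3,12,2,1],[(1894,[0,3,15,6,2]),(536,[]),(834,[4,7,4,3]),(840,[]),(1886,[9,11,15])],[11,14,12,9]),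
  (100,[],[],[]),
  (1,[3,1,2,1],[(1922,[])],[]),
  (1,[],[(1926,[]),(304,[]),(304,[]),(301,[]),(304,[]),(1922,[3,8,13,3,4])],[]),
  (2,[8,11,7],[(1926,[6,9,5]),(305,[]),(301,[]),(314,[0,10,3,8,4]),(305,[]),(1922,[8,7,15,7])],[]),
  (2,[10,15,12,4,4],[(1926,[8,13,10,2,2]),(300,[]),(305,[]),(310,[10,5,9,9]),(304,[]),(301,[]),(1922,[8,3,0,7])],[]),
  (2,[5,7,12,6,17],[(1926,[3,5,10,4,15]),(930,[0,6,8,12,14]),(852,[])],[0,10,4,13,7]),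
  (1,[3,9,9],[(1942,[]),(1937,[]),(1932,[])],[12,4,0,13]),
  (2,[4,14,16],[(1926,[2,12,14]),(304,[]),(300,[]),(1922,[0,15,15,8,3]),(1936,[])],[11,14,3,13]),
  (4,[0,17,8,10,15],[(1926,[0,15,6,8,13]),(300,[]),(922,[0,15,12,8,11]),(852,[]),(1942,[2,10,8,15,3])],[3,9,7,8,0]),
  (6,[6,15,8,3,1,2,1],[(1950,[4,13,6]),(1932,[]),(1946,[4,15,6,3,3]),(857,[]),(1826,[2,15,6,2,5])],[2,6,14,14,10]),
  (1,[3,7,5,7,2],[(1958,[])],[4,14,11,8,5]),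
  (6,[0,8,4,0,8,3,13,9,5],[(1962,[0,6,2,0,6]),(1582,[6,4,0,11]),(1958,[2,2,13,15,2]),(1928,[])],[5,11,12,2,8]),
  (2,[10,14,4,10,13,3,4,10,17],[(1946,[8,12,2,8,11]),(1862,[7,13,8,12])],[5,11,12,12]),
  (1,[3,12,12,2],[(1970,[]),(1936,[]),(1928,[])],[4,11,2,8]),
  (100,[],[],[]),
  (1,[3,16,2,16],[(1978,[])],[]),
  (1,[],[(1982,[]),(1928,[]),(1978,[12,0,13])],[]),
  (1,[],[(1982,[]),(1932,[]),(1978,[2,5,2,15,4])],[]),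
  (1,[],[(1982,[]),(1936,[]),(1978,[0,3,13,11,15])],[]),
  (2,[15,6,10,13],[(1982,[13,4,8,11]),(1966,[0,2,8,0])],[12,3,13,3]),
  (5,[8,4,17,4],[(1982,[6,2,15,2]),(1954,[5,2,10,14]),(1978,[12,3,0,9])],[5,2,6,5]),
  (100,[],[],[]),
  (1,[3,5,12,2,6],[(2006,[])],[]),
  (1,[],[(2010,[]),(300,[]),(305,[]),(300,[]),(2006,[2,6,4,7,12])],[]),
  (6,[4,12,17,4,10],[(2010,[2,10,15,2,8]),(650,[8,0,4,10]),(300,[]),(305,[]),(1094,[5,0,15,5,13]),(1064,[]),(1060,[])],[3,11,7,4,0]),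
  (1,[2,16,2,7],[(2018,[])],[10,13,6]),
  (4,[5,6,8,17,14,3,6,1,5],[(2022,[3,4,6,15,12]),(1834,[2,0,6,5,6]),(1556,[]),(1540,[]),(1910,[2,2,4,8,8])],[10,3,7,3]),
  (4,[5,12,10,6,8,3,6,1,5],[(2022,[3,10,8,4,6]),(1090,[2,15,12,6,12]),(124,[]),(124,[]),(1726,[3,13,10,9])],[0,2,12,3,10]),
  (1,[3,5,8,3],[(2030,[])],[7,0,10,12]),
  (2,[0,5,16,14,3,11,2,16],[(2034,[0,3,14,12]),(1768,[]),(1754,[6,4,4,9]),(304,[]),(301,[]),(304,[]),(304,[])],[4,12,8,2]),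
  (1,[3,14,3],[(2038,[])],[3,0,13,5,9]),
  (2,[0,5,16,0,4,3,1,15,9,3],[(2042,[0,3,14,0,2]),(898,[12,14,0,15]),(857,[]),(852,[])],[7,15,4,13]),
  (1,[3,1,4,10,2],[(2046,[])],[3,13,7,2]),
  (7,[6,8,17,7,0,3,7,10,17],[(2026,[4,6,15,5,0]),(2050,[8,2,7,14,11]),(857,[]),(1794,[0,2,8,15,13]),(1805,[]),(1120,[])],[5,14,8,0]),
  (100,[],[],[]),
  (1,[3,6,10,2,8],[(2058,[])],[]),
  (1,[],[(2062,[]),(300,[]),(305,[]),(300,[]),(2058,[2,0,9,7,15])],[]),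
  (2,[5,8,12,11],[(2062,[3,6,10,9]),(304,[]),(301,[]),(618,[0,4,13,9,12]),(552,[]),(552,[]),(556,[]),(552,[])],[5,6,2,6,4]),
  (2,[0,9,12,4,4],[(2062,[0,7,10,2,2]),(304,[]),(304,[]),(2038,[6,14,8,4])],[0,4,7,13,3]),
  (1,[3,13],[(2074,[]),(2064,[])],[5,6,12,2,7]),
  (2,[7,14,13,8,6],[(2062,[5,12,11,6,4]),(300,[]),(342,[0,11,6]),(2058,[0,3,3,10])],[]),
  (6,[13,11,5,13],[(2062,[11,9,3,11]),(304,[]),(646,[4,14,12,7]),(301,[]),(304,[]),(304,[]),(2058,[3,9,10,7])],[0,10,9,12,8]),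
  (6,[5,7,9,6,4],[(2062,[3,5,7,4,2]),(300,[]),(594,[2,8,12,4,14]),(556,[]),(552,[]),(2070,[0,4,12,12,9])],[2,0,8,0]),
  (2,[0,6,9,6,10,3,4,8,13],[(2090,[0,4,7,4,8]),(2064,[]),(2086,[15,8,12,12])],[5,11,15,2]),
  (100,[],[],[]),
  (100,[],[],[]),
  (1,[3,5,12,5,3],[(2102,[])],[]),
  (1,[],[(2106,[]),(304,[]),(301,[]),(304,[]),(304,[]),(300,[]),(2102,[3,4,0,4])],[]),
  (2,[0,9,11,8,4],[(2106,[0,7,9,6,2]),(305,[]),(300,[]),(2098,[0,14,6,13,11])],[0,9,14,0,9]),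
  (1,[3,1,13,2,7],[(2114,[])],[8,0,14,7]),
  (2,[8,14,17,15,16],[(2106,[6,12,15,13,14]),(304,[]),(300,[]),(898,[0,2,11,7,13]),(856,[])],[3,9,15,13]),
  (2,[4,9,6,8],[(2106,[2,7,4,6]),(922,[3,10,10,6]),(2122,[3,8,0,14])],[]),
  (4,[0,14,17,15,13],[(2106,[0,12,15,13,11]),(300,[]),(338,[7,2,13,2]),(300,[]),(2098,[11,7,4,12])],[0,6,15,9,12]),
  (1,[3,11,12,10],[(2130,[])],[2,15,5,6]),
  (6,[5,9,17,8,10],[(2106,[3,7,15,6,8]),(300,[]),(342,[2,13,15,7]),(305,[]),(300,[]),(2098,[3,7,15,3,15])],[3,5,8,11,3]),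
  (1,[3,5,15],[(2138,[])],[5,13,13,6,8]),
  (100,[],[],[]),
  (1,[3,5,3,1,11],[(2146,[])],[]),
  (1,[],[(2150,[]),(305,[]),(301,[]),(2146,[8,13,3,14])],[]),
  (2,[6,17,0,11,6],[(2150,[4,15,0,9,4]),(334,[10,3,10,9]),(300,[]),(305,[])],[13,13,13,8])]
theorem hE5 : allD2 lk B KW KW FN AN RL [] E5 445 = true := by decide +kernel
end
end CA.J4N
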