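import Cfsg.Agent.Lib.Spor.J4N0

/-! Double cosets of `M₂₄` in `J₄`: derivations. -/

set_option autoImplicit false
set_option maxRecDepth 100000
set_option linter.all false
namespace CA.J4N
open CA.CNet CA.CWord CA.CLevel CA.CSimple CA.CPoint CA.CLow CA.CTodd CA.TCos CA.J4M
noncomputable section

def E6 : List (ℕ × Word × List (ℕ × Word) × Word) := [(2,[0,15,17,4,13],[(2150,[0,13,15,2,11]),(300,[]),(1562,[14,4,12])],[9,13,11,13]),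
  (6,[0,10,4,17,17],[(2150,[0,8,2,15,15]),(654,[10,14,11,12]),(304,[]),(301,[]),(1922,[11,14,8,5]),(1936,[]),(1936,[]),(1932,[])],[12,12,15,15]),
  (1,[3,1,3,1,2],[(2166,[])],[2,5,7,10,12]),
  (100,[],[],[]),
  (1,[3,1,8,10,2],[(2174,[])],[]),
  (1,[],[(2178,[]),(304,[]),(304,[]),(2174,[3,9,12,11,4])],[]),
  (2,[17,14,16,15],[(2178,[15,12,14,13]),(301,[]),(304,[]),(304,[]),(300,[]),(2174,[2,8,12,12,8])],[0,10,5,6,9]),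
  (2,[4,7,17,17],[(2178,[2,5,15,15]),(586,[0,4,6,4,0]),(556,[]),(552,[])],[4,3,10,7,15]),
  (2,[7,0,16,0,17],[(2178,[5,0,14,0,15]),(300,[]),(305,[]),(300,[]),(610,[10,14,10,10]),(552,[]),(2190,[14,14,8,12])],[]),
  (2,[12,8,14,6],[(2178,[10,6,12,4]),(300,[]),(626,[2,5,6,4,3]),(556,[]),(553,[]),(2190,[0,10,13,15,10])],[]),
  (2,[7,11,4,17,17],[(2178,[5,9,2,15,15]),(1486,[3,0,6,8])],[0,15,15,3,10]),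
  (1,[3,9,6],[(2202,[])],[4,7,12,6,3]),
  (5,[16,0,8],[(2178,[14,0,6]),(654,[3,3,6,6]),(305,[]),(300,[]),(2174,[14,4,7]),(2192,[])],[0,4,7,2,14]),
  (6,[8,0,8,15],[(2178,[6,0,6,13]),(304,[]),(300,[]),(618,[10,14,0,4]),(556,[]),(552,[]),(2190,[2,6,3,6,2])],[3,15,3]),
  (1,[2,9,15,5],[(2214,[])],[3,6,6,2]),
  (7,[7,17,0,6,12],[(2178,[5,15,0,4,10]),(301,[]),(626,[0,6,13,2,8]),(1526,[4,13,4,11]),(1512,[])],[9,14,10,12]),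
  (1,[3,5,7,10,2],[(2222,[]),(2192,[])],[4,15,9,15]),
  (2,[6,10,6,12,2,13,11],[(2226,[4,8,4,10]),(1513,[]),(1494,[0,14,11,3,4])],[0,9,15,3,15]),
  (1,[3,1,3,5,3],[(2230,[]),(2192,[])],[0,3,5,3,7]),
  (5,[0,5,10,17,2,13,11],[(2226,[0,3,8,15]),(1610,[0,12,11,14,14]),(1618,[5,10,14,6,13])],[0,5,2,6,5]),
  (1,[3,1,17,6],[(2238,[]),(2196,[])],[2,9,13,7,0]),
  (5,[7,4,13,8,5,2,13,11],[(2226,[5,2,11,6,3]),(1506,[0,2,2,12]),(2222,[0,9,6,6,12]),(2196,[])],[5,3,3,14,10]),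
  (3,[16,7,9,14,3,6,8],[(2246,[14,5,7,12]),(2246,[3,8,13,2])],[0,15,5,3,11]),
  (2,[0,8,7,9,2,8,13],[(2242,[0,6,5,7]),(1512,[]),(2202,[10,12,4,13]),(2196,[])],[4,6,0,5]),
  (2,[11,11,13,13,2,8,13],[(2242,[9,9,11,11]),(1512,[]),(2238,[2,11,6]),(2196,[])],[3,9,2,10,8]),
  (100,[],[],[]),
  (1,[3,4,2,1,17],[(2262,[])],[]),
  (1,[],[(2266,[]),(2180,[]),(2262,[10,9,3,14])],[]),
  (1,[],[(2266,[]),(2196,[]),(2262,[0,15,13,14,2])],[]),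
  (2,[5,9,13,8,8],[(2266,[3,7,11,6,6]),(2210,[2,15,7,0])],[14,6,12,8]),
  (2,[0,5,16,15],[(2266,[0,3,14,13]),(2250,[4,7,10,6,10]),(2278,[3,14,11,7])],[]),
  (2,[15,16,16,13],[(2266,[13,14,14,11]),(2196,[]),(2214,[4,0,8,0,6]),(2278,[3,12,10,4,9])],[]),
  (2,[0,10,0,16,16],[(2266,[0,8,0,14,14]),(2196,[]),(2258,[2,2,0,7,15])],[4,4,11,12,11]),
  (2,[5,6,16,5,11],[(2266,[3,4,14,3,9]),(2278,[0,6,2,9,15]),(2284,[]),(2272,[])],[4,13,11,13,4]),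
  (100,[],[],[]),
  (1,[3,1,7,11],[(2298,[])],[]),
  (1,[],[(2302,[]),(2268,[]),(2298,[0,3,15,12,14])],[]),
  (1,[],[(2302,[]),(2272,[]),(2298,[0,14,13,3,9])],[]),
  (1,[],[(2302,[]),(2280,[]),(2298,[4,12,9,0])],[]),
  (1,[],[(2302,[]),(2284,[]),(2298,[4,0,7,14,14])],[]),
  (3,[4,4,11,14],[(2302,[2,2,9,12]),(2284,[]),(2272,[]),(2294,[3,13,8]),(2285,[])],[0,4,4,8,11]),
  (100,[],[],[]),
  (1,[3,5,12,8],[(2326,[])],[]),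
  (1,[],[(2330,[]),(2180,[]),(2326,[0,3,15,12,14])],[]),
  (1,[],[(2330,[]),(2192,[]),(2326,[3,10,8,8])],[]),
  (1,[],[(2330,[]),(2196,[]),(2326,[0,14,12,6,14])],[]),
  (2,[7,17,9,11,8],[(2330,[5,15,7,9,6]),(2192,[]),(2186,[3,15,9,11]),(2192,[]),(2196,[])],[14,2,8,15]),
  (1,[2,17,10],[(2346,[]),(2336,[])],[7,0,8,0]),
  (2,[0,10,0,17,6],[(2330,[0,8,0,15,4]),(2196,[]),(2246,[15,7])],[15,2,12,12]),
  (5,[7,9,10,15],[(2330,[5,7,8,13]),(2196,[]),(2218,[2,4,13,7,4]),(2354,[2,6,14,11,13]),(2340,[])],[2,2,14,3,13]),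
  (5,[6,4,16,5],[(2330,[4,2,14,3]),(2290,[0,2,15,8,15]),(2281,[]),(2322,[4,0,8,4]),(2317,[]),(2308,[])],[3,11,6,13,3]),
  (5,[0,12,11,8,16],[(2330,[0,10,9,6,14]),(2196,[]),(2192,[]),(2196,[]),(2178,[4,0,7,3]),(304,[]),(300,[]),(1146,[0,13,7,0,2]),(1128,[])],[4,10,2,9]),
  (1,[3,5,9,2,12],[(2366,[]),(2340,[]),(2336,[]),(2340,[]),(2336,[])],[11,4,0,7]),
  (4,[7,14,12,14,3,15,11],[(2370,[5,12,10,12]),(1124,[]),(1810,[3,10,14,5,7]),(1510,[0,11,2,2]),(1513,[])],[2,11,13,7,10]),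
  (1,[3,10,8,3,14],[(2374,[]),(2332,[])],[6,3,12,2]),
  (4,[10,0,9,5,13,3,15,11],[(2370,[8,0,7,3,11]),(1120,[]),(1814,[13,5,15,10]),(856,[]),(2230,[2,13,15,6]),(2180,[])],[6,14,5,12]),
  (1,[3,11,1,2,1],[(2382,[])],[8,14,11,5]),
  (2,[6,11,6,16,9,2,1,3,15],[(2386,[4,9,4,14,7]),(2196,[]),(2214,[6,3,5,13,9]),(2196,[])],[0,9,7,12,2]),
  (6,[4,12,15,7,16,3,9,3,1],[(2378,[2,10,13,5,14]),(1512,[]),(1512,[]),(1480,[]),(1554,[2,9,15,12,8]),(1556,[]),(2162,[7,10,4,11]),(2152,[])],[5,13,5,12]),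
  (1,[3,6,10,3],[(2394,[]),(2340,[])],[13,5,14,0]),
  (4,[4,12,4,9,3,15,11],[(2362,[2,10,2,7]),(2386,[3,13,6,11]),(2218,[8,4,7,3,6])],[0,11,4,2,7]),
  (1,[3,4,6,2,10],[(2402,[]),(2317,[]),(2312,[]),(2304,[])],[8,13,10,13,6]),
  (2,[15,0,11,0,3,13,11,11],[(2406,[13,0,9,0]),(2196,[]),(2290,[13,7,4,10]),(2280,[])],[2,15,10,6,13]),
  (2,[0,4,14,0,17,3,5,9,6,3],[(2410,[0,2,12,0,15]),(2313,[]),(2317,[]),(2362,[0,8,13,3,11]),(2332,[])],[2,11,3,13,2]),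
  (1,[3,5,15,13],[(2414,[]),(2281,[]),(2272,[])],[4,4,15,13]),
  (100,[],[],[]),
  (1,[3,4,6,2,8],[(2422,[])],[]),
  (1,[],[(2426,[]),(304,[]),(304,[]),(2422,[10,3,13,15])],[]),
  (2,[8,0,7,7,14],[(2426,[6,0,5,5,12]),(300,[]),(594,[12,15,13]),(556,[])],[4,4,9,11,3]),
  (1,[3,8,1,2],[(2434,[])],[3,0,13,8,4]),
  (2,[5,15,10,8,15],[(2426,[3,13,8,6,13]),(304,[]),(301,[]),(304,[]),(1602,[5,10,14,13])],[4,15,11,2]),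
  (1,[2,7,11,11],[(2442,[])],[10,15,10]),
  (2,[13,15,17,5],[(2426,[11,13,15,3]),(304,[]),(301,[]),(1622,[8,5,6,10])],[0,13,6,9]),
  (2,[15,15,0,8],[(2426,[13,13,0,6]),(301,[]),(638,[6,6,10,15]),(552,[]),(2434,[10,9,5,9])],[]),
  (2,[0,17,6,16,8],[(2426,[0,15,4,14,6]),(301,[]),(304,[]),(304,[]),(300,[]),(2422,[0,8,0,7,15]),(2452,[])],[2,12,4,0,13]),
  (2,[6,13,7,17],[(2426,[4,11,5,15]),(646,[9,0,9,4]),(301,[]),(2422,[2,2,9,3,0])],[]),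
  (4,[4,15,11,13,11],[(2426,[2,13,9,11,9]),(304,[]),(2006,[0,7,15,12,3]),(2012,[]),(2074,[12,3,14,7]),(2064,[])],[3,3,0,10,12]),
  (1,[2,7,3,17,10],[(2466,[]),(2428,[])],[2,2,15,9]),
  (4,[0,7,10,0,10],[(2426,[0,5,8,0,8]),(304,[]),(646,[3,7,0,13,11]),(304,[]),(301,[]),(1602,[10,14,13,9]),(1604,[])],[4,13,15,2,14]),
  (4,[4,10,12,10],[(2426,[2,8,10,8]),(305,[]),(334,[3,7,3,9,3]),(922,[2,10,10,15,15]),(852,[])],[4,8,8,8,10]),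
  (1,[3,4,13,11],[(2478,[]),(2452,[]),(2428,[])],[3,5,5,3]),
  (6,[17,8,6,12],[(2426,[15,6,4,10]),(301,[]),(618,[0,3,4,2,4]),(552,[]),(552,[]),(2434,[0,11,9,15,11]),(2452,[])],[6,4,7,4,8]),
  (6,[17,8,10,15],[(2426,[15,6,8,13]),(301,[]),(594,[0,10,14,6,3]),(556,[]),(1626,[10,12,10,8])],[2,8,4,15,7]),
  (1,[2,1,13,2],[(2490,[]),(2452,[]),(2460,[]),(2452,[])],[9,11,5,0,11]),
  (6,[4,11,4,10,7],[(2426,[2,9,2,8,5]),(330,[10,2,4,6]),(2422,[0,2,0,2,11])],[2,0,3,5,15]),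
  (2,[4,0,12,17,2,13,9],[(2494,[2,0,10,15]),(1604,[]),(2474,[3,5,3,5,10]),(2452,[])],[2,6,10,15,6]),
  (4,[0,17,12,14,4,2,13,9],[(2494,[0,15,10,12,2]),(1654,[2,2,13,5,7]),(668,[]),(1070,[5,14,9,14,7])],[0,10,14,5,8]),
  (1,[3,7,14,2],[(2506,[]),(2452,[]),(2460,[])],[14,6,3,14]),
  (2,[7,7,4,16,6,3,5,13,10],[(2510,[5,5,2,14,4]),(1294,[3,5,9,11,15]),(1288,[])],[3,13,7,10,15]),
  (1,[3,8,15,7],[(2514,[]),(2460,[])],[4,6,8,6]),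
  (7,[5,5,16,3,5,13,10],[(2510,[3,3,14]),(1714,[2,4,6,6]),(1064,[]),(1298,[2,11,6,15,15])],[0,11,7,9,10]),
  (4,[6,14,8,17,3,5,3,12,8],[(2502,[4,12,6,15]),(2452,[]),(2446,[0,14,6,10,6]),(1605,[]),(2450,[0,9,2]),(2460,[])],[0,15,7]),
  (1,[2,6,11],[(2526,[])],[0,2,2,6,10]),
  (2,[0,7,5,9,7,3,4,14],[(2530,[0,5,3,7,5]),(2428,[]),(2470,[2,2,12]),(2064,[])],[2,6,6,11])]
theorem hE6 : allD2 lk B KW KW FN AN RL [] E6 540 = true := by decide +kernel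
def E7 : List (ℕ × Word × List (ℕ × Word) × Word) := [(1,[3,1,14,17,2],[(2534,[]),(2452,[]),(2460,[]),(2428,[])],[5,15,2,11,6]),
  (5,[5,7,5,10,8,3,4,14],[(2530,[3,5,3,8,6]),(2460,[]),(2452,[]),(2460,[]),(2538,[0,3,10,13,6]),(2064,[]),(2094,[4,0,14,12,4]),(2064,[])],[6,5,3,5]),
  (1,[3,15,15,2],[(2542,[]),(2460,[]),(2452,[]),(2428,[])],[5,15,15,11]),
  (2,[4,6,8,13,15,3,4,15,3,14],[(2546,[2,4,6,11,13]),(2064,[]),(2466,[2,11,3,10,8]),(2460,[])],[2,14,6,12,9]),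
  (2,[0,15,6,6,10,3,4,15,3,14],[(2546,[0,13,4,4,8]),(2534,[0,11,11,9,10]),(2460,[])],[12,11,2,0]),
  (100,[],[],[]),
  (1,[3,1,15,8],[(2558,[])],[]),
  (1,[],[(2562,[]),(2428,[]),(2558,[4,3,14,8,6])],[]),
  (1,[],[(2562,[]),(2452,[]),(2558,[0,6,0,7,0])],[]),
  (1,[],[(2562,[]),(2460,[]),(2558,[0,7,12,10,5])],[]),
  (2,[10,6,12,10,14],[(2562,[8,4,10,8,12]),(2452,[]),(2458,[2,6,9,3,3])],[0,11,14,3,15]),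
  (2,[0,4,14,17,12],[(2562,[0,2,12,15,10]),(2460,[]),(2498,[2,9,2,9,7]),(2558,[13,14,11,6])],[]),
  (2,[0,5,8,12,10],[(2562,[0,3,6,10,8]),(2578,[0,15,7,0,2])],[0,5,6,5,6]),
  (5,[0,8,7,15,16],[(2562,[0,6,5,13,14]),(2452,[]),(2460,[]),(2452,[]),(2438,[2,14,6,4,3]),(553,[]),(556,[]),(1158,[0,11,7,4])],[9,11,4,15]),
  (5,[4,16,15,5,7],[(2562,[2,14,13,3,5]),(2554,[2,9,0,11,13]),(2558,[15,4,7,10])],[7,5,6,3]),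
  (6,[8,5,9,16,7],[(2562,[6,3,7,14,5]),(2452,[]),(2518,[4,13,4]),(2522,[8,3,15,5]),(2578,[3,13,9,10])],[]),
  (2,[4,9,4,6,6,3,5,15,11],[(2594,[2,7,2,4,4]),(2596,[]),(2581,[]),(2596,[]),(2594,[0,14,4,15,9])],[3,9,14,6,12]),
  (100,[],[],[]),
  (1,[3,9,15,8],[(2606,[])],[]),
  (1,[],[(2610,[]),(2580,[]),(2606,[10,13,11,4])],[]),
  (1,[],[(2610,[]),(2596,[]),(2606,[9,11,14,4])],[]),
  (2,[4,17,7,7,17],[(2610,[2,15,5,5,15]),(2568,[]),(2596,[]),(2586,[0,8,13,10,8]),(2606,[2,4,0,4,9])],[]),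
  (2,[4,10,17,12,7],[(2610,[2,8,15,10,5]),(2596,[]),(2572,[]),(2602,[4,15,7,14]),(2606,[3,3,4,6,15])],[]),
  (100,[],[],[]),
  (1,[3,1,6,17,3],[(2630,[])],[]),
  (2,[11,13,5,17],[(2634,[9,11,3,15]),(2486,[0,15,12,12,0])],[11,9,6,5]),
  (2,[5,5,0,14,13],[(2634,[3,3,0,12,11]),(2460,[]),(2526,[15,13,11,15]),(2638,[0,15,9,11,7])],[]),
  (2,[16,10,6,5],[(2634,[14,8,4,3]),(2460,[]),(2550,[5,6,6,10]),(2460,[])],[6,13,8,4,3]),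
  (4,[12,8,4],[(2634,[10,6,2]),(2558,[2,4,8,4,6]),(2606,[4,13,10,4,9]),(2625,[]),(2621,[]),(2625,[]),(2612,[])],[0,2,15,10,2]),
  (1,[3],[(2650,[])],[0,10,10]),
  (2,[7,10,7,14,3,5,15,4],[(2654,[5,8,5,12]),(2616,[]),(2612,[]),(2620,[]),(2624,[]),(2620,[]),(2620,[]),(2610,[13,8,10]),(2581,[])],[8,13,9,7]),
  (1,[3,1,9,2],[(2658,[]),(2641,[])],[14,13,7,2]),
  (100,[],[],[]),
  (1,[3,1,9,1],[(2666,[])],[]),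
  (2,[0,4,16,4,10],[(2670,[0,2,14,2,8]),(300,[]),(930,[3,9,9,2,7]),(852,[])],[7,13,9,12]),
  (1,[3,15,11,2],[(2674,[])],[5,8,0,6,0]),
  (5,[0,13,5,9,14],[(2670,[0,11,3,7,12]),(298,[0,11,13,13,15]),(13,[]),(20,[]),(16,[]),(294,[0,8,0,14,8]),(305,[]),(300,[]),(2666,[0,4,9,13,7])],[]),
  (100,[],[],[]),
  (1,[3,5,15,2,6],[(2686,[])],[]),
  (1,[],[(2690,[]),(304,[]),(301,[]),(304,[]),(304,[]),(2686,[2,9,3,10])],[]),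
  (2,[5,17,17,11,11],[(2690,[3,15,15,9,9]),(304,[]),(300,[]),(2158,[2,6,4,13,5])],[0,4,2,11,14]),
  (2,[5,5,5,0,9],[(2690,[3,3,3,0,7]),(1094,[2,14,9,4]),(1060,[])],[0,5,9,6,11]),
  (1,[3,1,8,10,2],[(2702,[])],[8,0,15,4]),
  (2,[8,12,7,11,17],[(2690,[6,10,5,9,15]),(301,[]),(304,[]),(304,[]),(300,[]),(2146,[0,5,7,0,10]),(2152,[]),(2698,[0,6,2,9,6])],[]),
  (2,[5,12,15,13],[(2690,[3,10,13,11]),(898,[0,14,3,15,2]),(856,[])],[3,7,0,15]),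
  (4,[5,11,8,14],[(2690,[3,9,6,12]),(300,[]),(305,[]),(310,[12,7,2,2]),(304,[]),(2686,[0,6,3,0,9]),(2692,[])],[6,13,13,6]),
  (4,[17,7,13,17],[(2690,[15,5,11,15]),(304,[]),(300,[]),(310,[2,15,6,3,14]),(304,[]),(300,[]),(2686,[15,7,13,11]),(2692,[])],[8,8,10,5]),
  (4,[5,5,16,10,17],[(2690,[3,3,14,8,15]),(304,[]),(300,[]),(922,[0,11,15,7,0]),(856,[]),(856,[]),(2714,[0,12,3,10,6])],[2,14,4,2]),
  (7,[16,0,9,15],[(2690,[14,0,7,13]),(300,[]),(305,[]),(1110,[6,4,11,5]),(1064,[]),(2702,[3,8,12]),(2708,[]),(2692,[])],[3,10,15,9,10]),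
  (2,[0,9,12,16,15,3,1,3,12,8],[(2730,[0,7,10,14,13]),(2730,[4,15,15,4])],[2,6,13,10,15]),
  (6,[4,15,15,6,6,3,1,3,12,8],[(2730,[2,13,13,4,4]),(2692,[]),(2734,[2,7,2,14]),(2708,[]),(2692,[]),(2718,[7,0,14,13]),(2692,[])],[13,3,11,15]),
  (2,[0,12,17,14,12,3,5,10,16],[(2738,[0,10,15,12,10]),(2722,[9,3,7,13])],[0,14,4,11,15]),
  (2,[4,11,8,13,15,3,5,10,16],[(2738,[2,9,6,11,13]),(2734,[3,3,0,12,12])],[0,8,6,14,3]),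
  (2,[8,11,17,5,3,6,9,2,12],[(2746,[6,9,15,3]),(2726,[0,4,15,12,10])],[2,0,10,14,10]),
  (1,[3,6,11,3,7],[(2750,[])],[3,7,0,4]),
  (7,[8,14,16,14,9,3,11,3,15],[(2754,[6,12,14,12,7]),(2742,[12,15,0,14]),(2754,[6,14,12])],[2,8,4,13]),
  (2,[0,11,8,14,10,3,4,7,16],[(2758,[0,9,6,12,8]),(2734,[8,11,4,7]),(2692,[])],[14,13,0,15]),
  (4,[0,11,5,12,9,3,4,7,16],[(2758,[0,9,3,10,7]),(2708,[]),(2690,[0,15,9,12,0]),(304,[]),(301,[]),(1562,[0,8,12,5,2])],[3,14,14,13]),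
  (1,[3,5,3,6,9],[(2766,[])],[0,5,13,8,15]),
  (2,[13,16,6,10,2,1,17,3,5],[(2770,[11,14,4,8]),(1838,[2,0,13,11,14])],[9,14,7,4]),
  (1,[2,1,8],[(2774,[])],[0,11,13,13,5]),
  (6,[0,5,5,15,0,2,1,17,3,5],[(2770,[0,3,3,13,0]),(1540,[]),(1846,[7,9,3,11]),(1886,[4,10,9,5,14])],[12,4,7,9,2]),
  (1,[3,12,14],[(2782,[]),(2692,[])],[5,9,6,0]),
  (7,[0,13,10,13,17,3,5,2,11,4],[(2762,[0,11,8,11,15]),(2778,[11,2,12]),(1556,[]),(1910,[8,2,8,10])],[0,15,7,12,2]),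
  (1,[3,5,11,2,15],[(2790,[])],[0,5,11,5,5]),
  (2,[4,4,14,0,17,3,4,12,17],[(2794,[2,2,12,0,15]),(1914,[2,9,2,12,4])],[2,6,14,4,3]),
  (100,[],[],[]),
  (1,[3,16,2,8],[(2802,[])],[]),
  (1,[],[(2806,[]),(300,[]),(305,[]),(300,[]),(2802,[9,11,13,13])],[]),
  (2,[6,11,16,8],[(2806,[4,9,14,6]),(300,[]),(305,[]),(300,[]),(610,[4,6,14,0]),(553,[]),(556,[]),(552,[])],[13,0,4,0]),
  (1,[3,4,16,1,2],[(2814,[]),(2808,[])],[3,3,3,6,13]),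
  (2,[14,16,8,12],[(2806,[12,14,6,10]),(300,[]),(618,[2,11,4]),(552,[]),(552,[]),(556,[]),(2814,[0,4,15,13,4])],[]),
  (2,[11,13,6,10],[(2806,[9,11,4,8]),(300,[]),(342,[14,14,13,13]),(2802,[6,12,4,3])],[]),
  (4,[5,8,16,16,6],[(2806,[3,6,14,14,4]),(300,[]),(305,[]),(300,[]),(1750,[4,2,12,9,3]),(1768,[]),(1732,[]),(1754,[13,5,3,6]),(305,[]),(300,[])],[9,3,11,13]),
  (4,[17,9,16,13],[(2806,[15,7,14,11]),(301,[]),(1574,[0,4,14,4,3]),(1846,[5,12,15,3]),(820,[])],[2,10,15,4,4]),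
  (1,[3,1,15,8],[(2834,[])],[7,8,3,12]),
  (5,[0,11,14,10,6],[(2806,[0,9,12,8,4]),(300,[]),(1146,[13,11,3,6]),(1814,[8,12,8,5,9]),(856,[])],[2,12,4,0,13]),
  (6,[12,14,6,6],[(2806,[10,12,4,4]),(304,[]),(2174,[2,11,12,5,13]),(2196,[]),(2390,[3,5,14,12,14]),(2336,[])],[3,3,6,11,2]),
  (1,[3,9,1],[(2846,[]),(2820,[]),(2808,[])],[7,15,2,8]),
  (7,[4,11,13,4,7],[(2806,[2,9,11,2,5]),(314,[0,5,8,14,5]),(2830,[9,7,5,10])],[6,6,2,0]),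
  (1,[2,11,12,2],[(2854,[])],[0,11,8,3,15]),
  (7,[0,9,0,17,14,3,5,8,15],[(2858,[0,7,0,15,12]),(2850,[12,3,4,11]),(2340,[]),(2358,[2,8,6,0,6]),(2340,[]),(2336,[])],[9,11,8,6]),
  (1,[3,10,9],[(2862,[])],[0,2,15,7,12]),
  (7,[0,7,15,10,17,3,13,4,16],[(2866,[0,5,13,8,15]),(2336,[]),(2350,[4,15,2,15,12]),(2192,[]),(2234,[0,15,4,13,3]),(852,[])],[7,3,3,0]),
  (1,[3,5,1,7],[(2870,[]),(2824,[])],[3,15,5,11]),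
  (7,[0,7,15,7,13,3,16,16,2,8],[(2874,[0,5,13,5,11]),(926,[2,14,2,2,8]),(300,[]),(1278,[2,12,6,4,2]),(1805,[])],[2,2,9,2,15]),
  (1,[3,14,14,11],[(2878,[])],[3,13,8,12,14]),
  (2,[9,17,7,10,3,9,3,1],[(2882,[7,15,5,8]),(1142,[11,7,10,15])],[6,8,6,3,15]),
  (1,[3,1,4,3],[(2886,[])],[0,4,9,10,14]),
  (5,[13,14,4,8,3,9,3,1],[(2882,[11,12,2,6]),(2054,[0,2,13,15,0]),(1918,[5,6,0,5,10])],[0,9,4,8,12]),
  (1,[3,5,3,4,12],[(2894,[]),(2824,[])],[10,2,7,15]),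
  (4,[17,15,6,6,2,14,13],[(2898,[15,13,4,4]),(1856,[]),(1882,[4,12,2,7]),(1502,[3,5,11]),(552,[]),(552,[])],[0,14,0,12,3]),
  (1,[3,4,3,14,3],[(2902,[])],[5,13,15,0,15]),
  (2,[16,15,12,10,3,5,6,3,6],[(2906,[14,13,10,8]),(552,[]),(556,[]),(552,[]),(2902,[2,14,13,11,14]),(2820,[]),(2808,[])],[6,8,12,2,0])]
theorem hE7 : allD2 lk B KW KW FN AN RL [] E7 634 = true := by decide +kernel
def E8 : List (ℕ × Word × List (ℕ × Word) × Word) := [(2,[4,14,17,10,5,3,5,6,3,6],[(2906,[2,12,15,8,3]),(552,[]),(642,[4,7,2,10,7]),(304,[]),(301,[])],[5,15,13,5]),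
  (1,[3,1,3],[(2914,[]),(2824,[]),(2808,[])],[7,5,12,14]),
  (4,[0,10,14,16,16,3,5,6,3,6],[(2906,[0,8,12,14,14]),(552,[]),(552,[]),(2434,[12,4,12]),(2452,[]),(2428,[]),(2470,[6,9,15]),(2080,[])],[0,4,6,10]),
  (1,[3,4,6,3,12],[(2922,[]),(2824,[]),(2808,[])],[7,15,5,0]),
  (4,[0,14,6,13,3,5,6,3,6],[(2906,[0,12,4,11]),(556,[]),(552,[]),(1694,[2,4,14,3,15]),(1060,[]),(1722,[14,6,13,4]),(1352,[])],[10,14,0,4]),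
  (1,[2,14,14,2],[(2930,[]),(2824,[]),(2820,[]),(2808,[])],[2,5,8,2]),
  (7,[0,17,6,9,3,1,7,12],[(2934,[0,15,4,7]),(1374,[0,6,11,5,14]),(2930,[3,0,13,2,8])],[6,0,11,2]),
  (2,[5,13,5,8,14,3,7,2,16],[(2938,[3,11,3,6,12]),(2890,[0,4,12,5,0])],[2,2,12,7,11]),
  (1,[2,13,16,2],[(2942,[])],[15,6,5,5]),
  (2,[6,11,14,12,5,3,1,17,2],[(2946,[4,9,12,10,3]),(2590,[2,0,14,7]),(2568,[]),(2597,[]),(2568,[]),(2596,[])],[15,13,4,11]),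
  (1,[2,4,3,9],[(2950,[]),(2808,[])],[14,2,7,2]),
  (2,[9,17,7,0,3,1,13,17,2],[(2954,[7,15,5,0]),(2597,[]),(2568,[]),(2596,[]),(2568,[]),(2564,[]),(2950,[12,10,15,7]),(2820,[]),(2808,[])],[0,6,0,10,7]),
  (2,[0,10,14,13,16,3,1,2,1,3],[(2926,[0,8,12,11,14]),(2080,[]),(2078,[0,2,7,5,12])],[15,5,8,2]),
  (4,[8,11,0,17,0,2,1,3,4],[(2962,[6,9,0,15,0]),(2820,[]),(2818,[6,14,10,13]),(552,[]),(552,[]),(2190,[9,3,0,10]),(2196,[]),(2192,[]),(2196,[]),(2180,[])],[4,7,15,9]),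
  (1,[2,7,1],[(2966,[])],[2,0,3,10,5]),
  (7,[6,6,4,15,10,2,1,3,4],[(2962,[4,4,2,13,8]),(2820,[]),(2808,[]),(2958,[15,7,0]),(2808,[]),(2910,[0,15,12,3,4])],[0,8,4,0,7]),
  (1,[3,8,1,3],[(2974,[])],[12,15,15,8]),
  (5,[13,11,8,6,3,5,3,7,12],[(2978,[11,9,6,4]),(2838,[0,9,13,15,13]),(841,[]),(816,[]),(1746,[3,15,6,10,4]),(1768,[]),(1732,[])],[11,13,8,6]),
  (2,[4,10,16,13,15,3,1,7,3,17],[(2982,[2,8,14,11,13]),(2970,[3,6,12,7,12])],[7,14,8,4]),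
  (1,[3,16,5,3],[(2986,[]),(1768,[])],[3,8,2,10,15]),
  (2,[4,0,11,8,5,3,13,8],[(2990,[2,0,9,6,3]),(2254,[0,12,0,10,15])],[3,4,2,6,12]),
  (7,[9,11,7,3,15,15,3],[(2994,[7,9,5]),(1732,[]),(1754,[0,14,4,14]),(305,[]),(300,[]),(2666,[2,14,8,8,11])],[0,4,0,12,6]),
  (2,[4,10,14,11,11,3,1,9,15],[(2998,[2,8,12,9,9]),(2192,[]),(2196,[]),(2206,[0,15,10,4]),(1480,[])],[13,13,8,10]),
  (4,[4,11,7,8,15,3,5,15,3,12],[(3002,[2,9,5,6,13]),(2681,[]),(2678,[9,9,15,12]),(857,[]),(1702,[2,0,13,11,14]),(1060,[])],[2,4,12,14,11]),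
  (6,[6,5,15,17,5,3,5,6,2,15],[(3006,[4,3,13,15,3]),(1512,[]),(1530,[0,9,4,13,13]),(556,[]),(2190,[0,15,10,3]),(2192,[])],[0,4,9,9,13]),
  (5,[5,16,16,12,12,3,7,4,2,1],[(3010,[3,14,14,10,10]),(1060,[]),(1098,[12,5,10,3]),(301,[]),(304,[]),(1922,[12,4,3,3])],[13,13,0,9]),
  (2,[12,14,17,13,3,5,12],[(3014,[10,12,15,11]),(2262,[13,2,7]),(2284,[]),(2280,[]),(2272,[])],[0,10,9,3,3]),
  (5,[0,15,5,5,5,3,16,2,14],[(3018,[0,13,3,3,3]),(1936,[]),(1928,[]),(1974,[2,10,2,0,11]),(1856,[]),(2026,[8,8,14,6])],[14,0,12,5]),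
  (6,[11,14,13,10,3,1,6,4,2],[(3022,[9,12,11,8]),(2281,[]),(2285,[]),(2272,[]),(2418,[4,3,13,11]),(2340,[]),(2332,[]),(2398,[2,2,7,12])],[11,14,0,11]),
  (1,[3,11,2,1,4],[(3026,[]),(2012,[])],[0,8,14,14,8]),
  (7,[11,9,7,15,3,1,9,13],[(3030,[9,7,5,13]),(2170,[7,10,15,3]),(1998,[12,8,5,0]),(1988,[])],[2,6,13,3,7]),
  (7,[8,6,6,14,4,3,1,2],[(3034,[6,4,4,12,2]),(2042,[2,5,7,12,10]),(300,[]),(1574,[3,4,9,14,14])],[3,0,8,11]),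
  (1,[3,11,16,3,16],[(3038,[]),(1984,[])],[4,7,0,14,7]),
  (2,[0,12,14,6,14,3,5,11,3,11],[(3042,[0,10,12,4,12]),(1556,[]),(2766,[4,6,12,6,2])],[12,10,14]),
  (1,[3,8,3,17,11],[(3046,[]),(1993,[]),(1988,[])],[0,9,7,5,13]),
  (5,[0,5,15,13,16,3,5,14,3,11],[(3050,[0,3,13,11,14]),(2708,[]),(2706,[0,15,12,6,4]),(1060,[]),(2018,[3,7,12,4])],[0,6,3,11,7]),
  (1,[3,1,9,3,4],[(3054,[]),(1993,[])],[2,0,3,3,10]),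
  (4,[4,12,4,12,11,3,5,6,2,15],[(3058,[2,10,2,10,9]),(2042,[2,6,0,3,10]),(2098,[2,0,9,5,0])],[0,3,15,5,15]),
  (1,[2,15,17],[(3062,[]),(1992,[]),(2002,[0,10,12,14,14])],[]),
  (1,[3,13,10,3],[(2118,[]),(3065,[])],[3,8,2,15,2]),
  (1,[2,11,2],[(2134,[]),(3065,[]),(1984,[]),(3070,[0,6,5])],[]),
  (1,[2,7,14],[(2142,[]),(3065,[]),(1993,[])],[11,2,0]),
  (2,[0,10,5,8,13,3,8,3,17,11],[(3046,[0,8,3,6,11]),(3078,[3,7,4,6]),(3072,[])],[9,3,6,13]),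
  (4,[4,4,17,4,11,2,9,2,14],[(3082,[2,2,15,2,9]),(2708,[]),(2786,[11,4,3]),(1874,[14,5,10,12])],[2,9,11,12,11]),
  (1,[2,4],[(3086,[]),(2124,[])],[0,14,13,4,10]),
  (2,[0,4,4,6,4,3,4,6,3,12],[(2922,[0,2,2,4,2]),(2824,[]),(2806,[12,3,6,15]),(304,[]),(301,[])],[4,7,5,10,7]),
  (1,[2,9,2,12],[(3094,[]),(2080,[])],[9,11,12,12]),
  (2,[0,4,15,17,0,3,14,10,2],[(3098,[0,2,13,15,0]),(301,[]),(304,[]),(2102,[6,3,9,3]),(2124,[]),(2108,[])],[3,11,5,9,13]),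
  (1,[3,13,2,12],[(3102,[]),(2064,[])],[9,3,13,9,2]),
  (7,[0,10,13,11,16,2,5,13,3],[(3106,[0,8,11,9,14]),(2124,[]),(3090,[2,2,2,8,7]),(2798,[2,2,4,15,5]),(2708,[]),(2692,[])],[9,13,10]),
  (2,[11,12,14,14,2,13,9,3],[(3110,[9,10,12,12]),(2064,[]),(2542,[0,7,9,5,10]),(2460,[])],[0,3,7,9,14]),
  (2,[5,6,0,17,6,2,13,9,3],[(3110,[3,4,0,15,4]),(2064,[]),(2534,[2,10,5,12,3]),(2428,[])],[2,2,14,5]),
  (1,[3,10,8,2,6],[(3118,[])],[12,9,12,2]),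
  (7,[5,16,7,0,3,6,2,13,14],[(3122,[3,14,5,0]),(2486,[13,5,5,5]),(2460,[]),(2428,[]),(2482,[3,6,0,3,9]),(852,[])],[0,5,14,13,14]),
  (1,[3,8,1],[(3126,[]),(2692,[])],[4,7,13,11,8]),
  (2,[5,12,15,9,7,3,5,6,3,11],[(3130,[3,10,13,7,5]),(918,[11,9,15,2]),(856,[]),(852,[])],[2,9,5,13,11]),
  (1,[3,8,11,9],[(3134,[])],[2,15,3]),
  (5,[11,15,10,14,3,5,6,3,11],[(3130,[9,13,8,12]),(856,[]),(2842,[0,4,6,14]),(2820,[]),(2808,[]),(2918,[0,7,5,11,4]),(304,[]),(301,[]),(304,[]),(304,[]),(300,[])],[0,3,13,9,0]),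
  (1,[3,1,3,14,10],[(3142,[]),(2692,[])],[0,13,11,2]),
  (5,[6,5,12,9,17,3,5,6,3,11],[(3130,[4,3,10,7,15]),(852,[]),(886,[3,7,3,0]),(732,[]),(728,[]),(1014,[15,15,2,9]),(1009,[])],[5,2,9,4]),
  (4,[5,16,16,0,3,1,4,17],[(3150,[3,14,14,0]),(2692,[]),(3146,[2,10,6,13]),(2422,[12,14,2,10]),(2460,[]),(2428,[])],[15,4,0,4]),
  (1,[2,13,2,9],[(3154,[]),(1008,[])],[2,0,8,15,2]),
  (6,[7,10,16,6,6,3,8,6,13],[(3158,[5,8,14,4,4]),(2460,[]),(2428,[]),(3114,[12,12,9,4]),(2692,[]),(3138,[13,5,3,7])],[2,12,2,9,14]),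
  (1,[3,6,2,15],[(3162,[])],[0,7,2,8,6]),
  (4,[10,17,6,10,5,3,11,14,2],[(3166,[8,15,4,8,3]),(910,[3,3,7,14]),(241,[]),(236,[]),(228,[]),(678,[2,15,5,13,13]),(668,[]),(664,[])],[4,0,9,7,11]),
  (1,[2,13,3,10],[(3170,[]),(1008,[])],[3,7,0,14]),
  (2,[0,9,15,12,8,3,1,3,4,11],[(3174,[0,7,13,10,6]),(668,[]),(1326,[12,4,8,6])],[3,13,10,5,12]),
  (4,[4,15,16,7,8,2,13,3,13,9],[(3178,[2,13,14,5,6]),(1022,[4,3,9,13,8]),(364,[]),(1026,[7,0,5,7]),(1037,[]),(1049,[]),(1032,[])],[0,9,7,11,4]),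
  (1,[3,5,8,1,3],[(3182,[])],[8,4,0]),
  (2,[0,12,14,6,10,3,6,1,3,4],[(3186,[0,10,12,4,8]),(1036,[]),(1033,[]),(1046,[3,3,5,9,9]),(840,[]),(816,[])],[7,2,4,9]),
  (1,[3,1,3,8,4],[(3190,[])],[0,3,3,8,4]),
  (2,[5,8,10,6,14,3,4,3,4,3],[(3194,[3,6,8,4,12]),(840,[]),(816,[]),(1186,[5,5,7,5])],[2,6,6,3,7]),
  (4,[0,7,15,15,6,3,9,7,14],[(3198,[0,5,13,13,4]),(1318,[4,13,6,11]),(732,[]),(728,[]),(882,[3,8,12,9,7]),(857,[]),(852,[])],[0,14,2,9,9]),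
  (1,[3,1,5,11],[(3202,[]),(1168,[])],[2,8,3,14,7]),
  (2,[13,14,16,13,3,11,2,10,15],[(3206,[11,12,14,11]),(852,[]),(1410,[10,8,4,10]),(1353,[])],[6,5,11,12,4]),
  (2,[0,15,4,10,13,2,5,2,16,3],[(3210,[0,13,2,8,11]),(1214,[0,10,9,12,5])],[5,5,10,10]),
  (7,[7,10,12,17,13,3,5,15,3,1],[(3214,[5,8,10,15,11]),(1402,[0,13,6,10,4]),(1353,[]),(1634,[0,6,0,7,2]),(1604,[]),(1592,[])],[2,12,7,12,2]),
  (2,[0,15,9,7,13,3,16,2,16],[(3218,[0,13,7,5,11]),(1178,[3,3,3,14,11]),(540,[]),(516,[])],[10,14,5,7]),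
  (2,[5,14,14,0,3,1,3],[(3222,[3,12,12,0]),(1604,[]),(2450,[12,2,14,14]),(2460,[]),(2428,[])],[3,15,8,7]),
  (6,[12,8,5,17,3,5,2,8,1],[(3226,[10,6,3,15]),(512,[]),(540,[]),(530,[0,11,14,0,14]),(184,[]),(181,[]),(470,[10,4,0,3]),(476,[])],[5,15,4,0]),
  (1,[3,1,17,9],[(3230,[]),(2460,[]),(2646,[4,0,2,6])],[]),
  (1,[],[(710,[]),(3233,[]),(2654,[12,10,13])],[]),
  (1,[3,1,2,1],[(982,[]),(3233,[]),(2641,[]),(2662,[0,15,3,3,12])],[]),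
  (1,[3,5,15,3,12],[(3241,[]),(2594,[11,7,0,12,3]),(3240,[]),(960,[]),(989,[]),(960,[])],[5,14,14,4])]
theorem hE8 : allD2 lk B KW KW FN AN RL [] E8 728 = true := by decide +kernel
end
end CA.J4N
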