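import Cfsg.Agent.Lib.Spor.J4D0
import Cfsg.Agent.Lib.Spor.J4D1
import Cfsg.Agent.Lib.Spor.J4D2
import Cfsg.Agent.Lib.Spor.J4D3
import Cfsg.Agent.Lib.Spor.J4D4
import Cfsg.Agent.Lib.Spor.J4D5
import Cfsg.Agent.Lib.Spor.J4R
import Cfsg.Agent.Lib.Spor.J4M24

/-! The fourth Janko group: the index of `2¹¹:M₂₄` and the orbits of `M₂₄` on its cosets. -/

set_option autoImplicit false
set_option maxRecDepth 100000

namespace CA.J4O
open Equiv CA.CNet CA.CWord CA.CLevel CA.CSimple CA.CPoint CA.CTodd CA.CPres CA.CLow CA.TCos CA.J4M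
open CA.J4Rel (rels)

noncomputable section

abbrev N := C.grp gens
theorem hq : ∀ r ∈ J4TC.r7, C.ev r = 1 := fun r hr =>
  Ctx.eq_of_eqW hC (lall_iff.1 r7 r ((by decide +kernel : ∀ r ∈ J4TC.r7, r ∈ rels.take 7) r hr))
theorem gW (i : ℕ) : C.g i = C.ev (subst gens (nth W [] i)) := by
  by_cases hi : i < 9
  · rw [← (by decide +kernel : ∀ i < 9, nth W [] i = subst gens (nth W [] i)) i hi, ← Ctx.eq_of_eqW hC (hW i hi)]
    exact (ev_gen _ _).symm
  · obtain ⟨i, rfl⟩ : ∃ j, i = j + 9 := ⟨i - 9, by omega⟩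
    rfl
theorem mem (w : Word) : C.ev w ∈ N := ev_mem (fun i => gW i ▸ subst_mem_grp _ _ _) w
theorem ALL_eq : C.grp ALL = N := le_antisymm ((grp_le_iff _).2 fun w _ => mem w) (grp_mono _ (by decide))
theorem card_le : Nat.card (C.grp ALL) ≤ 244823040 := ALL_eq ▸ (J4M24.bound _ C.g hq).2
theorem card : Nat.card N = 244823040 := ALL_eq ▸ low0.card card_le
theorem base : IsBase N B := ALL_eq ▸ low0.2 card_le
def o : Fin C.n := ⟨0, by decide⟩
theorem trans (a : Fin C.n) : ∃ g ∈ N, g o = a := ALL_eq ▸ trans_of_clo hC (p := o) cl0 a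
theorem stab (g : Perm (Fin C.n)) (hg : g ∈ N) (h : g o = o) : g ∈ C.grp KW := by
  rw [← ALL_eq] at hg
  refine (stab_of_card (m := 3795) hKW (fix_of_mapsP hlk (p := o) fixKW) ?_
    (card_le.trans (Nat.mul_le_mul_left 3795 low1.1))).le ⟨hg, h⟩
  have : ∀ i, ∃ x ∈ C.grp ALL, x • o = i := ALL_eq ▸ trans
  simp only [this]
  rw [Nat.card_congr (Equiv.subtypeUnivEquiv fun _ => trivial), Nat.card_fin]; rfl

def ww : Word := [2,0,2,0,2,0,2,0,3,0]
def sw : Word := wpow ([2] ++ winv ww ++ [4] ++ ww) 3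
def hs : List Word := [[0], [2], sw]
def wd (R : List Word) (w : Word) : Word := R.foldl (fun w x => x ++ 2 * 2 :: w) w
def pwd : ℕ → ℕ → Word
  | 0, _ => []
  | f + 1, j => if j = 0 then [] else 2 * 2 :: (subst W (nth PW (0, []) j).2 ++ pwd f (nth PW (0, []) j).1)

variable {G : Type} [Group G] {g : ℕ → G} (hr : ∀ r ∈ rels, ev g r = 1)
include hr

theorem exφ : ∃ φ : N →* G, ∀ w, φ ⟨_, mem w⟩ = ev g (subst W w) := by
  obtain ⟨φ, hφ⟩ : ∃ φ : N →* G, ∀ v, φ ⟨_, subst_mem_grp C.g gens v⟩ = ev g (subst gens v) :=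
    DCos.hom_of_bound (gens := gens) J4M24.bound hq card.ge (g := g)
      fun r h => hr r ((by decide +kernel : ∀ r ∈ J4TC.r7, r ∈ rels) r h)
  refine ⟨φ, fun w => ?_⟩
  rw [ev_subst, show (⟨_, mem w⟩ : N) = ev (fun i => (⟨_, subst_mem_grp C.g gens (nth W [] i)⟩ : N)) w from
    Subtype.ext ((congrArg (ev · w) (funext gW)).trans (map_ev N.subtype (fun i => ⟨_, subst_mem_grp _ _ _⟩) w).symm), map_ev]
  congr 1; funext i
  refine (hφ _).trans ?_
  by_cases hi : i < 9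
  · rw [(by decide +kernel : ∀ i < 9, subst gens (nth W [] i) = nth W [] i) i hi]
  · obtain ⟨i, rfl⟩ : ∃ j, i = j + 9 := ⟨i - 9, by omega⟩
    rfl

def φ : N →* G := (exφ hr).choose
theorem hφ (w : Word) : φ hr ⟨_, mem w⟩ = ev g (subst W w) := (exφ hr).choose_spec w
theorem φ_mem (h : N) : φ hr h ∈ grp g gens := by
  obtain ⟨v, hv⟩ := exists_subst h.2
  rw [show h = ⟨_, mem _⟩ from Subtype.ext hv.symm, hφ, ev_subst, ev_subst]
  refine ev_mem (fun i => ?_) v
  rw [← ev_subst]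
  rcases i with _ | _ | i
  exacts [subst_mem_grp g gens [0], subst_mem_grp g gens [2], one_mem _]
theorem φ_surj {x : G} (hx : x ∈ grp g gens) : ∃ h, φ hr h = x := by
  have : grp g gens ≤ (φ hr).range := by
    rw [grp_le_iff]
    intro w hw
    exact ⟨_, (hφ hr w).trans (congrArg _ ((by decide +kernel : ∀ w ∈ gens, subst W w = w) w hw))⟩
  exact this hx
omit hr in
theorem N_le : grp g gens ≤ grp g hs := grp_mono _ (by simp [gens, hs])

theorem cent (v : Word) : ev g (subst W (subst KW v)) ∈ Subgroup.centralizer {g 2} := by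
  have h0 : grp g KW0 ≤ Subgroup.centralizer {g 2} := by
    rw [grp_le_iff]
    intro w hw
    obtain ⟨k, -, h⟩ := (by decide +kernel : ∀ w ∈ KW0, ∃ k ∈ [(18, 1), (16, 15)],
      triv rels (2 * 2 :: (w ++ 5 :: winv w)) k.1 k.2 = true) w hw
    have := ev_of_triv hr h
    rw [ev_cons, lv_even, ev_append, ev_cons, ev_winv, ← mul_assoc, ← mul_assoc, mul_inv_eq_one] at this
    exact Subgroup.mem_centralizer_singleton_iff.2 (mul_inv_eq_iff_eq_mul.1 this).symm
  rw [ev_subst, ev_subst]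
  refine ev_mem (fun i => ?_) v
  rw [← ev_subst]
  by_cases hi : i < 8
  · rw [(by decide +kernel : ∀ i < 8, subst W (nth KW [] i) = subst KW0 (nth V [] i)) i hi]
    exact h0 (subst_mem_grp _ _ _)
  · obtain ⟨i, rfl⟩ : ∃ j, i = j + 8 := ⟨i - 8, by omega⟩
    exact one_mem _

def S : Sys C N (G ⧸ grp g hs) KW KW where
  ρ := (MulAction.toPermHom G _).comp (φ hr)
  Z ξ := g 2 • ξ
  p j := ev g (pwd 12 j) • ((1 : G) : G ⧸ grp g hs)
  mem := mem
  tw v ξ := by
    show g 2 • φ hr _ • ξ = φ hr _ • g 2 • ξ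
    rw [hφ, smul_smul, smul_smul, Subgroup.mem_centralizer_singleton_iff.1 (cent hr v)]
  h0 h := (QuotientGroup.eq.2 (by simpa using N_le (φ_mem hr h)) :
    ((φ hr h * (1 * 1) : G) : G ⧸ grp g hs) = (1 * 1 : G))

theorem ρ_w (w : Word) (ξ : G ⧸ grp g hs) : (S hr).ρ ((S hr).w w) ξ = ev g (subst W w) • ξ := by
  show φ hr ⟨_, mem w⟩ • ξ = _
  rw [hφ]

theorem app_eq {R : List (Word × Word)} (h : ∀ x ∈ R, subst W x.2 = x.2 ∧ eqQ lk B x = true) (w : Word) (ξ : G ⧸ grp g hs) :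
    (S hr).app (R.map Prod.fst) (ev g w • ξ) = ev g (wd (R.map Prod.snd) w) • ξ := by
  induction R generalizing w with
  | nil => rfl
  | cons x R ih =>
    refine Eq.trans (congrArg ((S hr).app (R.map Prod.fst)) ?_) (ih (fun x hx => h x (by simp [hx])) (x.2 ++ 2 * 2 :: w))
    show (S hr).ρ ((S hr).w x.1) (g 2 • _) = _
    rw [(S hr).w_eq hlk base (h x (by simp)).2, ρ_w, (h x (by simp)).1, ev_append, ev_cons, lv_even, mul_smul, mul_smul]

theorem relS : ∀ R ∈ RL, (S hr).Rel R := fun R hR ξ => by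
  obtain ⟨P, -, rfl, h1, k, -, h2⟩ := (by decide +kernel : ∀ R ∈ RL, ∃ P ∈ RP, R = P.map Prod.fst ∧
    (∀ x ∈ P, subst W x.2 = x.2 ∧ eqQ lk B x = true) ∧ ∃ k ∈ [(0, 0), (21, 8), (20, 9), (23, 20), (23, 41), (22, 42), (22, 21)],
    triv rels (wd (P.map Prod.snd) []) k.1 k.2 = true) R hR
  have := app_eq hr h1 [] ξ
  rwa [ev_of_triv hr h2, ev_nil, one_smul] at this

theorem rel0 : (S hr).app R0 ((S hr).p 0) = (S hr).p 0 := by
  have := app_eq hr (R := RP0) (by decide +kernel) [] ((1 : G) : G ⧸ grp g hs)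
  refine this.trans ?_
  rw [show wd (RP0.map Prod.snd) [] = red 0 (subst hs (ww ++ [3, 4] ++ winv ww)) by decide +kernel, ev_red (by simp)]
  exact (QuotientGroup.eq.2 (by
    rw [mul_one, mul_one, mul_one]; exact inv_mem (subst_mem_grp g hs _)) :
    ((ev g (subst hs (ww ++ [3, 4] ++ winv ww)) * 1 : G) : G ⧸ grp g hs) = (1 * 1 : G))

theorem hA : ∀ e ∈ A, (S hr).Holds e := fun e he => by
  obtain ⟨a1, a2, a4⟩ := (by decide +kernel : ∀ e ∈ A, e.t = 1 ∧ e.h = [] ∧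
    pwd 12 e.j = 2 * 2 :: (subst W e.w ++ pwd 12 e.i)) e he
  refine ⟨fun h => by omega, fun _ => ?_⟩
  rw [a2, (S hr).w_nil, map_one, ρ_w]
  show g 2 • ev g _ • ev g (pwd 12 e.i) • ((1 : G) : G ⧸ grp g hs) = ev g (pwd 12 e.j) • ((1 : G) : G ⧸ grp g hs)
  rw [a4, ev_cons, lv_even, ev_append, mul_smul, mul_smul]

theorem holds : ∀ q < 3248, (S hr).Holds (F q) := by
  have h0 : ∀ q < 0, (S hr).Holds (F q) := by simp
  have h1 := allD2_sound hlk base (hA hr) (relS hr) (rel0 hr) h0 hD0 (t' := 108) rfl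
  have h2 := allD2_sound hlk base (hA hr) (relS hr) (rel0 hr) h1 hD1 (t' := 216) rfl
  have h3 := allD2_sound hlk base (hA hr) (relS hr) (rel0 hr) h2 hD2 (t' := 324) rfl
  have h4 := allD2_sound hlk base (hA hr) (relS hr) (rel0 hr) h3 hD3 (t' := 432) rfl
  have h5 := allD2_sound hlk base (hA hr) (relS hr) (rel0 hr) h4 hD4 (t' := 540) rfl
  have h6 := allD2_sound hlk base (hA hr) (relS hr) (rel0 hr) h5 hD5 (t' := 648) rfl
  have h7 := allD2_sound hlk base (hA hr) (relS hr) (rel0 hr) h6 hD6 (t' := 756) rfl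
  have h8 := allD2_sound hlk base (hA hr) (relS hr) (rel0 hr) h7 hD7 (t' := 864) rfl
  have h9 := allD2_sound hlk base (hA hr) (relS hr) (rel0 hr) h8 hD8 (t' := 972) rfl
  have h10 := allD2_sound hlk base (hA hr) (relS hr) (rel0 hr) h9 hD9 (t' := 1080) rfl
  have h11 := allD2_sound hlk base (hA hr) (relS hr) (rel0 hr) h10 hD10 (t' := 1188) rfl
  have h12 := allD2_sound hlk base (hA hr) (relS hr) (rel0 hr) h11 hD11 (t' := 1296) rfl
  have h13 := allD2_sound hlk base (hA hr) (relS hr) (rel0 hr) h12 hD12 (t' := 1404) rfl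
  have h14 := allD2_sound hlk base (hA hr) (relS hr) (rel0 hr) h13 hD13 (t' := 1512) rfl
  have h15 := allD2_sound hlk base (hA hr) (relS hr) (rel0 hr) h14 hD14 (t' := 1620) rfl
  have h16 := allD2_sound hlk base (hA hr) (relS hr) (rel0 hr) h15 hD15 (t' := 1728) rfl
  have h17 := allD2_sound hlk base (hA hr) (relS hr) (rel0 hr) h16 hD16 (t' := 1836) rfl
  have h18 := allD2_sound hlk base (hA hr) (relS hr) (rel0 hr) h17 hD17 (t' := 1944) rfl
  have h19 := allD2_sound hlk base (hA hr) (relS hr) (rel0 hr) h18 hD18 (t' := 2052) rfl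
  have h20 := allD2_sound hlk base (hA hr) (relS hr) (rel0 hr) h19 hD19 (t' := 2160) rfl
  have h21 := allD2_sound hlk base (hA hr) (relS hr) (rel0 hr) h20 hD20 (t' := 2268) rfl
  have h22 := allD2_sound hlk base (hA hr) (relS hr) (rel0 hr) h21 hD21 (t' := 2376) rfl
  have h23 := allD2_sound hlk base (hA hr) (relS hr) (rel0 hr) h22 hD22 (t' := 2484) rfl
  have h24 := allD2_sound hlk base (hA hr) (relS hr) (rel0 hr) h23 hD23 (t' := 2592) rfl
  have h25 := allD2_sound hlk base (hA hr) (relS hr) (rel0 hr) h24 hD24 (t' := 2700) rfl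
  have h26 := allD2_sound hlk base (hA hr) (relS hr) (rel0 hr) h25 hD25 (t' := 2808) rfl
  have h27 := allD2_sound hlk base (hA hr) (relS hr) (rel0 hr) h26 hD26 (t' := 2916) rfl
  have h28 := allD2_sound hlk base (hA hr) (relS hr) (rel0 hr) h27 hD27 (t' := 3024) rfl
  have h29 := allD2_sound hlk base (hA hr) (relS hr) (rel0 hr) h28 hD28 (t' := 3132) rfl
  have h30 := allD2_sound hlk base (hA hr) (relS hr) (rel0 hr) h29 hD29 (t' := 3240) rfl
  have h31 := allD2_sound hlk base (hA hr) (relS hr) (rel0 hr) h30 hD30 (t' := 3248) rfl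
  exact h31

omit hr in
theorem hj' : ∀ q < 3248, (F q).j < cls.length := fun q hq => by
  have := CMat.allR_spec hj hq
  rwa [Nat.blt_eq] at this

theorem hcls (j : ℕ) : (S hr).O (nth cls 0 j) = (S hr).O j ∨ cls.length ≤ j := by
  by_cases h : j < 22
  · left
    rcases (by decide +kernel : ∀ j < 22, nth cls 0 j = j ∨ ∃ q ∈ [14, 298], q < 3248 ∧ (F q).t = 0 ∧
      (F q).i = nth cls 0 j ∧ (F q).j = j) j h with h | ⟨q, -, a0, a1, a2, a3⟩
    · rw [h]
    · have := (holds hr q a0).1 a1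
      rw [a2, a3] at this
      exact (S hr).O_eq ⟨1, by simp⟩ ⟨_, this.symm⟩
  · exact .inr (Nat.not_lt.1 h)

theorem row (i : ℕ) (hi : i < 20) : (S hr).Row o 20 i (nth MM [] i) := by
  interval_cases i
  exacts [(S hr).row0 hC (by simpa [Sys.w_nil] using (hA hr ⟨1, 0, [], 1, []⟩ (by decide)).2 rfl) (by decide) (by decide),
    (S hr).row_of hC hlk rfl stab (holds hr) (hcls hr) hj' hR1, (S hr).row_of hC hlk rfl stab (holds hr) (hcls hr) hj' hR2, (S hr).row_of hC hlk rfl stab (holds hr) (hcls hr) hj' hR3, (S hr).row_of hC hlk rfl stab (holds hr) (hcls hr) hj' hR4, (S hr).row_of hC hlk rfl stab (holds hr) (hcls hr) hj' hR5, (S hr).row_of hC hlk rfl stab (holds hr) (hcls hr) hj' hR6, (S hr).row_of hC hlk rfl stab (holds hr) (hcls hr) hj' hR7, (S hr).row_of hC hlk rfl stab (holds hr) (hcls hr) hj' hR8, (S hr).row_of hC hlk rfl stab (holds hr) (hcls hr) hj' hR9, (S hr).row_of hC hlk rfl stab (holds hr) (hcls hr) hj' hR10,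 (S hr).row_of hC hlk rfl stab (holds hr) (hcls hr) hj' hR11, (S hr).row_of hC hlk rfl stab (holds hr) (hcls hr) hj' hR12, (S hr).row_of hC hlk rfl stab (holds hr) (hcls hr) hj' hR13, (S hr).row_of hC hlk rfl stab (holds hr) (hcls hr) hj' hR14, (S hr).row_of hC hlk rfl stab (holds hr) (hcls hr) hj' hR15, (S hr).row_of hC hlk rfl stab (holds hr) (hcls hr) hj' hR16, (S hr).row_of hC hlk rfl stab (holds hr) (hcls hr) hj' hR17, (S hr).row_of hC hlk rfl stab (holds hr) (hcls hr) hj' hR18, (S hr).row_of hC hlk rfl stab (holds hr) (hcls hr) hj' hR19]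

theorem hzz (ξ : G ⧸ grp g hs) : (S hr).Z ((S hr).Z ξ) = (S hr).ρ 1 ξ := by
  have := hr [2 * 2, 2 * 2] (by decide +kernel)
  rw [ev_cons, ev_gen, lv_even] at this
  show g 2 • g 2 • ξ = _
  rw [smul_smul, this]; simp

theorem all (ht : grp g [[0], [2], [4]] = ⊤) (ξ : G ⧸ grp g hs) : ∃ i < 20, ξ ∈ (S hr).O i := by
  obtain ⟨x, rfl⟩ := QuotientGroup.mk_surjective ξ
  have h1 : ∀ x ∈ grp g gens, ∀ ξ, (∃ i < 20, ξ ∈ (S hr).O i) → ∃ i < 20, x • ξ ∈ (S hr).O i := by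
    rintro x hx _ ⟨i, hi, h⟩
    obtain ⟨k, rfl⟩ := φ_surj hr hx
    exact ⟨i, hi, (S hr).O_smul h k⟩
  have h2 : ∀ ξ, (∃ i < 20, ξ ∈ (S hr).O i) → ∃ i < 20, g 2 • ξ ∈ (S hr).O i := by
    rintro _ ⟨i, hi, h, rfl⟩
    exact (row hr i hi).closed _ h
  have h3 : ∀ ξ, (∃ i < 20, ξ ∈ (S hr).O i) → ∃ i < 20, x • ξ ∈ (S hr).O i := by
    have hx : x ∈ grp g [[0], [2], [4]] := ht ▸ Subgroup.mem_top x
    have hw : ∀ w ∈ [[0], [2], [4]], w ∈ gens ∨ w = [2 * 2] := by decide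
    induction hx using Subgroup.closure_induction'' with
    | mem x hx =>
      obtain ⟨w, h, rfl⟩ := hx
      rcases hw w h with h | rfl
      · exact h1 _ (mem_grp _ h)
      · rw [ev_gen]; exact h2
    | inv_mem x hx =>
      obtain ⟨w, h, rfl⟩ := hx
      rcases hw w h with h | rfl
      · exact h1 _ (inv_mem (mem_grp _ h))
      · have := hr [2 * 2, 2 * 2] (by decide +kernel)
        rw [ev_cons, lv_even, ← ev_gen g 2] at this
        rw [← eq_inv_of_mul_eq_one_left this, ev_gen]; exact h2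
    | one => simp
    | mul x y _ _ a b => exact fun ξ h => by rw [mul_smul]; exact a _ (b _ h)
  have := h3 ((S hr).p 0) ⟨0, by decide, 1, by simp⟩
  rwa [show x • (S hr).p 0 = ((x * (1 * 1) : G) : G ⧸ grp g hs) from rfl, mul_one, mul_one] at this

theorem O0 : (S hr).O 0 = {(S hr).p 0} :=
  Set.eq_singleton_iff_unique_mem.2 ⟨⟨1, (S hr).h0 1⟩, by rintro _ ⟨k, rfl⟩; exact (S hr).h0 k⟩

def col : List ℕ := [0, 0, 1, 2, 1, 2, 4, 6, 6, 4, 4, 10, 11, 4, 3, 2, 3, 2, 3, 0]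
def pa : List ℕ := [0, 0, 1, 2, 1, 2, 4, 6, 6, 4, 4, 10, 10, 4, 4, 2, 2, 2, 3, 3]
def nn : List ℕ := [1, 3795, 318780, 1275120, 5100480, 1912680, 478170, 26565, 11385, 2550240, 2550240, 1771, 53130,
  212520, 7650720, 15301440, 40803840, 81607680, 12241152, 967680]
def mm (i j : ℕ) : ℕ := nth (nth MM [] i) 0 j

theorem A_of' {i j : ℕ} (hi : i < 20) (hj : j < 20) (hd : ∀ j' < 20, (S hr).O j' = (S hr).O j → j' = j ∨ mm i j' = 0) :
    (S hr).A i j = 64512 * mm i j := by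
  obtain ⟨M, hM, hc, h0⟩ := row hr i hi
  have h1 := Sys.fib (G := N) o {a | (M j).testBit a = true}
  have h2 := Nat.card_congr (MulAction.orbitProdStabilizerEquivGroup N o)
  have h3 : ∀ a, a ∈ MulAction.orbit N o := fun a => by obtain ⟨g, hg, e⟩ := trans a; exact ⟨⟨g, hg⟩, e⟩
  rw [Nat.card_prod, Set.eq_univ_of_forall h3, Nat.card_univ, Nat.card_fin, card] at h2
  replace h2 : 3795 * Nat.card (MulAction.stabilizer N o) = 244823040 := h2
  simp only [h3, true_and, Set.mem_ofPred_eq, card_mask hC] at h1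
  have h4 : (S hr).A i j = Nat.card {g : N // (M j).testBit (g • o : Fin C.n) = true} :=
    Nat.card_congr ((Equiv.inv N).subtypeEquiv fun h => ⟨fun hh => by
      obtain ⟨j', a1, a2⟩ := hc (h.1⁻¹ o)
      rcases hd j' a1 ((S hr).O_eq (hM j' a1 h a2) hh) with rfl | e
      · exact a2
      · rw [mm, ← h0 j' a1, cnt_eq (Ctx.ok_lt hC), Finset.card_eq_zero] at e
        exact absurd a2 (Finset.filter_eq_empty_iff.1 e (Finset.mem_univ _)), hM j hj h⟩)
  rw [h4, h1, h0 j hj, ← mm]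
  congr 1; omega

theorem A_of {i j : ℕ} (hi : i < 20) (hj : j < 20) (hd : ∀ j' < 20, (S hr).O j' = (S hr).O j → j' = j) :
    (S hr).A i j = 64512 * mm i j := A_of' hr hi hj fun j' a b => .inl (hd j' a b)

variable (hz : g 2 ∉ grp g hs)
include hz

theorem dist0 (j : ℕ) (hj : j < 20) (h : (S hr).O j = (S hr).O 0) : j = 0 ∨ j = 19 := by
  by_contra e
  obtain ⟨k, hk⟩ := (row hr j hj).pos _ hC trans hj ((by decide : ∀ j < 20, ¬(j = 0 ∨ j = 19) → mm j j ≠ 0) j hj e)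
  have a : (S hr).ρ k ((S hr).p j) ∈ (S hr).O j := ⟨k, rfl⟩
  rw [h, O0] at a hk
  rw [a] at hk
  have b : ((g 2 * (1 * 1) : G) : G ⧸ grp g hs) = (1 * 1 : G) := hk
  exact hz (by simpa using QuotientGroup.eq.1 b)

theorem ne19 : (S hr).O 19 ≠ (S hr).O 0 := fun h => by
  obtain ⟨k, hk⟩ := (row hr 19 (by decide)).pos _ hC trans (j := 3) (by decide) (by decide)
  obtain ⟨l, hl⟩ := (row hr 0 (by decide)).pos _ hC trans (j := 1) (by decide) (by decide)
  have a : (S hr).ρ k ((S hr).p 19) ∈ (S hr).O 19 := ⟨k, rfl⟩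
  rw [h, O0] at a
  rw [a] at hk
  rw [(S hr).h0] at hl
  have b := (S hr).A_congr ((S hr).O_eq hl hk) 0
  have c : (S hr).A 3 0 = (S hr).A 3 19 := by rw [Sys.A, Sys.A, h]
  rw [c, A_of' hr (by decide) (by decide) fun j a b => (dist0 hr hz j a b).imp id fun e => by rw [e]; rfl,
    A_of' hr (by decide) (by decide) fun j a b => (dist0 hr hz j a (b.trans h)).symm.imp id fun e => by rw [e]; rfl] at b
  exact absurd b (by decide)

theorem dist (j : ℕ) : j < 20 → ∀ j' < 20, (S hr).O j' = (S hr).O j → j' = j := by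
  induction j using Nat.strong_induction_on with | _ j ih => ?_
  intro hj j' hj' h
  rcases Nat.eq_zero_or_pos j with rfl | h0
  · exact (dist0 hr hz j' hj' h).resolve_right fun e => ne19 hr hz (e ▸ h)
  · obtain ⟨a1, a2⟩ := (by decide +kernel : ∀ j < 20, 0 < j → nth col 0 j < j ∧
      ∀ j' < 20, 64512 * mm j' (nth col 0 j) = 64512 * mm j (nth col 0 j) → j' = j ∨ j' < j) j hj h0
    have b := (S hr).A_congr h (nth col 0 j)
    have c := ih _ a1 (a1.trans hj)
    rw [A_of hr hj' (a1.trans hj) c, A_of hr hj (a1.trans hj) c] at b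
    exact (a2 j' hj' b).elim id fun l => (ih j' l hj' j hj h.symm).symm

theorem cardO (j : ℕ) : j < 20 → Nat.card ((S hr).O j) = nth nn 0 j := by
  induction j using Nat.strong_induction_on with | _ j ih => ?_
  intro hj
  rcases Nat.eq_zero_or_pos j with rfl | h0
  · rw [O0]; simp [nn]
  · obtain ⟨a1, a2, a3⟩ := (by decide +kernel : ∀ j < 20, 0 < j → nth pa 0 j < j ∧ 0 < 64512 * mm j (nth pa 0 j) ∧
      64512 * mm j (nth pa 0 j) * nth nn 0 j = 64512 * mm (nth pa 0 j) j * nth nn 0 (nth pa 0 j)) j hj h0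
    have l := a1.trans hj
    refine Nat.eq_of_mul_eq_mul_left a2 ?_
    rw [a3, ← ih _ a1 l, ← A_of hr hj l (dist hr hz _ l), ← A_of hr l hj (dist hr hz _ hj), Sys.A_mul, Sys.A_mul,
      (S hr).c_symm (hzz hr)]

theorem index (ht : grp g [[0], [2], [4]] = ⊤) : (grp g hs).index = 173067389 := by
  have := (S hr).O_fin
  have : Function.Bijective fun x : Σ i : Fin 20, (S hr).O i => x.2.1 := by
    constructor
    · rintro ⟨i, ξ, a⟩ ⟨j, η, b⟩ (rfl : ξ = η)
      obtain rfl : i = j := Fin.ext (dist hr hz j j.2 i i.2 ((S hr).O_eq a b))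
      rfl
    · intro ξ
      obtain ⟨i, hi, h⟩ := all hr ht ξ
      exact ⟨⟨⟨i, hi⟩, ξ, h⟩, rfl⟩
  rw [Subgroup.index, ← Nat.card_congr (Equiv.ofBijective _ this), Nat.card_sigma]
  rw [Finset.sum_congr rfl fun (i : Fin 20) _ => cardO hr hz i i.2]; decide +kernel

omit hz in
theorem orbit_eq (i : ℕ) : MulAction.orbit (grp g gens) ((S hr).p i) = (S hr).O i := Set.ext fun ξ => by
  constructor
  · rintro ⟨⟨x, hx⟩, rfl⟩
    obtain ⟨k, rfl⟩ := φ_surj hr hx
    exact ⟨k, rfl⟩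
  · rintro ⟨k, rfl⟩
    exact ⟨⟨_, φ_mem hr k⟩, rfl⟩

end
end CA.J4O
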