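import Cfsg.Agent.Lib.Spor.J4N1
import Cfsg.Agent.Lib.Spor.J4N2
import Cfsg.Agent.Lib.Spor.J4N3
import Cfsg.Agent.Lib.Spor.J4NM
import Cfsg.Agent.Lib.Spor.J4O

/-! The fourth Janko group: `M₂₄` has index at most `2¹¹` in the subgroup `2¹¹:M₂₄` of the presented group. -/

set_option autoImplicit false
set_option maxRecDepth 100000

namespace CA.J4N
open Equiv CA.CNet CA.CWord CA.CLevel CA.CSimple CA.CPoint CA.CTodd CA.CPres CA.CLow CA.TCos CA.J4M CA.J4O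
open CA.J4Rel (rels)
open Pointwise

noncomputable section

abbrev N2 := C2.grp gens
theorem hq2 : ∀ r ∈ J4TC.r7, C2.ev r = 1 := fun r hr =>
  Ctx.eq_of_eqW hC2 (lall_iff.1 r72 r ((by decide +kernel : ∀ r ∈ J4TC.r7, r ∈ rels.take 7) r hr))
theorem gW2 (i : ℕ) : C2.g i = C2.ev (subst gens (nth W [] i)) := by
  by_cases hi : i < 9
  · rw [← (by decide +kernel : ∀ i < 9, nth W [] i = subst gens (nth W [] i)) i hi, ← Ctx.eq_of_eqW hC2 (hW2 i hi)]
    exact (ev_gen _ _).symm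
  · obtain ⟨i, rfl⟩ : ∃ j, i = j + 9 := ⟨i - 9, by omega⟩
    rfl
theorem mem2 (w : Word) : C2.ev w ∈ N2 := ev_mem (fun i => gW2 i ▸ subst_mem_grp _ _ _) w
theorem le2 (T : List Word) : C2.grp T ≤ N2 := (grp_le_iff _).2 fun w _ => mem2 w
theorem ALL_eq2 : C2.grp ALL = N2 := le_antisymm (le2 _) (grp_mono _ (by decide))
theorem card_le2 : Nat.card (C2.grp ALL) ≤ 244823040 := ALL_eq2 ▸ (J4M24.bound _ C2.g hq2).2
theorem card2 : Nat.card N2 = 244823040 := ALL_eq2 ▸ low02.card card_le2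
def o2 : Fin C2.n := ⟨0, by decide⟩
theorem trans2 (a : Fin C2.n) : ∃ g ∈ N2, g o2 = a := ALL_eq2 ▸ trans_of_clo hC2 (p := o2) cl2 a
theorem stab2 (g : Perm (Fin C2.n)) (hg : g ∈ N2) (h : g o2 = o2) : g ∈ C2.grp KK := by
  rw [← ALL_eq2] at hg
  refine (stab_of_card (m := 1771) hKK (fix_of_mapsP hlk2 (p := o2) fixKK) ?_
    (card_le2.trans (Nat.mul_le_mul_left 1771 lowK.1))).le ⟨hg, h⟩
  have : ∀ i, ∃ x ∈ C2.grp ALL, x • o2 = i := ALL_eq2 ▸ trans2
  simp only [this]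
  rw [Nat.card_congr (Equiv.subtypeUnivEquiv fun _ => trivial), Nat.card_fin]; rfl

variable {G : Type} [Group G] (g : ℕ → G)

abbrev X := G ⧸ grp g gens
abbrev e (w : Word) : G := ev g (subst W w)
def pt (j : ℕ) : X g :=
  if _h : (nth PN (0, []) j).1 < j then g 2 • e g (nth PN (0, []) j).2 • pt (nth PN (0, []) j).1 else (1 : G)
theorem pt0 : pt g 0 = (1 : G) := by rw [pt, dif_neg (Nat.not_lt_zero _)]
theorem fix0 {x : G} (hx : x ∈ grp g gens) : x • pt g 0 = pt g 0 := by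
  rw [pt0]; exact (QuotientGroup.eq.2 (by simpa using hx) : ((x * 1 : G) : X g) = (1 : G))
theorem of_fix0 {x : G} (b : x • pt g 0 = pt g 0) : x ∈ grp g gens := by
  rw [pt0] at b
  simpa using QuotientGroup.eq.1 (b.symm : ((1 : G) : X g) = (_ * 1 : G))
def v : G := ev g (wd (RP0.map Prod.snd) [])

variable {g} (hr : ∀ r ∈ rels, ev g r = 1)
include hr

theorem exψ : ∃ φ : N2 →* G, ∀ w, φ ⟨_, mem2 w⟩ = e g w := by
  obtain ⟨φ, hφ⟩ : ∃ φ : N2 →* G, ∀ v, φ ⟨_, subst_mem_grp C2.g gens v⟩ = ev g (subst gens v) :=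
    DCos.hom_of_bound (gens := gens) J4M24.bound hq2 card2.ge (g := g)
      fun r h => hr r ((by decide +kernel : ∀ r ∈ J4TC.r7, r ∈ rels) r h)
  refine ⟨φ, fun w => ?_⟩
  rw [e, ev_subst, show (⟨_, mem2 w⟩ : N2) = ev (fun i => (⟨_, subst_mem_grp C2.g gens (nth W [] i)⟩ : N2)) w from
    Subtype.ext ((congrArg (ev · w) (funext gW2)).trans (map_ev N2.subtype (fun i => ⟨_, subst_mem_grp _ _ _⟩) w).symm), map_ev]
  congr 1; funext i
  refine (hφ _).trans ?_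
  by_cases hi : i < 9
  · rw [(by decide +kernel : ∀ i < 9, subst gens (nth W [] i) = nth W [] i) i hi]
  · obtain ⟨i, rfl⟩ : ∃ j, i = j + 9 := ⟨i - 9, by omega⟩
    rfl

def ψ : N2 →* G := (exψ hr).choose
theorem hψ (w : Word) : ψ hr ⟨_, mem2 w⟩ = e g w := (exψ hr).choose_spec w
theorem e_mem (w : Word) : e g w ∈ grp g gens := by rw [e, ← hφ hr]; exact φ_mem hr _
theorem ψ_mem (h : N2) : ψ hr h ∈ grp g gens := by
  obtain ⟨v, hv⟩ := exists_subst h.2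
  rw [show h = ⟨_, mem2 _⟩ from Subtype.ext hv.symm, hψ]
  exact e_mem hr _
theorem ψ_surj {x : G} (hx : x ∈ grp g gens) : ∃ h, ψ hr h = x := by
  have : grp g gens ≤ (ψ hr).range := by
    rw [grp_le_iff]
    intro w hw
    exact ⟨_, (hψ hr w).trans (congrArg _ ((by decide +kernel : ∀ w ∈ gens, subst W w = w) w hw))⟩
  exact this hx

def SN : Sys C N (X g) KW KW where
  ρ := (MulAction.toPermHom G _).comp (φ hr)
  Z ξ := g 2 • ξ
  p := pt g
  mem := mem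
  tw v ξ := by
    show g 2 • φ hr _ • ξ = φ hr _ • g 2 • ξ
    rw [hφ, smul_smul, smul_smul, Subgroup.mem_centralizer_singleton_iff.1 (cent hr v)]
  h0 h := fix0 g (φ_mem hr h)

theorem ρ_w (w : Word) (ξ : X g) : (SN hr).ρ ((SN hr).w w) ξ = e g w • ξ := by
  show φ hr ⟨_, mem w⟩ • ξ = _
  rw [hφ]

theorem e_eq {u w : Word} (h : eqQ lk B (u, w) = true) : e g u = e g w := by
  rw [e, e, ← hφ hr, ← hφ hr]; exact congrArg _ ((SN hr).w_eq hlk base h)

theorem app_eq {R : List (Word × Word)} (h : ∀ x ∈ R, subst W x.2 = x.2 ∧ eqQ lk B x = true) (w : Word) (ξ : X g) :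
    (SN hr).app (R.map Prod.fst) (ev g w • ξ) = ev g (wd (R.map Prod.snd) w) • ξ := by
  induction R generalizing w with
  | nil => rfl
  | cons x R ih =>
    refine Eq.trans (congrArg ((SN hr).app (R.map Prod.fst)) ?_) (ih (fun x hx => h x (by simp [hx])) (x.2 ++ 2 * 2 :: w))
    show (SN hr).ρ ((SN hr).w x.1) (g 2 • _) = _
    rw [(SN hr).w_eq hlk base (h x (by simp)).2, ρ_w, e, (h x (by simp)).1, ev_append, ev_cons, lv_even, mul_smul, mul_smul]

theorem relS : ∀ R ∈ RL, (SN hr).Rel R := fun R hR ξ => by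
  obtain ⟨P, -, rfl, h1, k, -, h2⟩ := (by decide +kernel : ∀ R ∈ RL, ∃ P ∈ RP, R = P.map Prod.fst ∧
    (∀ x ∈ P, subst W x.2 = x.2 ∧ eqQ lk B x = true) ∧ ∃ k ∈ [(0, 0), (21, 8), (20, 9), (23, 20), (23, 41), (22, 42), (22, 21)],
    triv rels (wd (P.map Prod.snd) []) k.1 k.2 = true) R hR
  have := app_eq hr h1 [] ξ
  rwa [ev_of_triv hr h2, ev_nil, one_smul] at this

theorem appv (ξ : X g) : (SN hr).app R0 ξ = v g • ξ := by
  have := app_eq hr (R := RP0) (by decide +kernel) [] ξ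
  rwa [ev_nil, one_smul] at this

theorem hA : ∀ f ∈ AN, (SN hr).Holds f := fun f hf => by
  obtain ⟨a1, a2, a3, a4⟩ := (by decide +kernel : ∀ f ∈ AN, f.t = 1 ∧ f.h = [] ∧ f.i < f.j ∧
    nth PN (0, []) f.j = (f.i, f.w)) f hf
  refine ⟨fun h => by omega, fun _ => ?_⟩
  rw [a2, (SN hr).w_nil, map_one, ρ_w]
  show g 2 • e g f.w • pt g f.i = pt g f.j
  rw [pt.eq_1 g f.j, dif_pos (by rw [a4]; exact a3), a4]

theorem holds : ∀ q < 812, (SN hr).Holds (FN q) := by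
  have h0 : ∀ q < 0, (SN hr).Holds (FN q) := by simp
  have h1 := allD2_sound hlk base (hA hr) (relS hr) rfl h0 hE0 (t' := 83) rfl
  have h2 := allD2_sound hlk base (hA hr) (relS hr) rfl h1 hE1 (t' := 167) rfl
  have h3 := allD2_sound hlk base (hA hr) (relS hr) rfl h2 hE2 (t' := 264) rfl
  have h4 := allD2_sound hlk base (hA hr) (relS hr) rfl h3 hE3 (t' := 356) rfl
  have h5 := allD2_sound hlk base (hA hr) (relS hr) rfl h4 hE4 (t' := 445) rfl
  have h6 := allD2_sound hlk base (hA hr) (relS hr) rfl h5 hE5 (t' := 540) rfl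
  have h7 := allD2_sound hlk base (hA hr) (relS hr) rfl h6 hE6 (t' := 634) rfl
  have h8 := allD2_sound hlk base (hA hr) (relS hr) rfl h7 hE7 (t' := 728) rfl
  exact allD2_sound hlk base (hA hr) (relS hr) rfl h8 hE8 (t' := 812) rfl

theorem edge : ∀ d ∈ ED, v g • e g d.2.1 • pt g d.1 = e g d.2.2.2.1 • pt g d.2.2.1 := fun d hd => by
  obtain ⟨⟨c, u, ls⟩, a1, a2⟩ := Sys.walk2_sound hlk base (holds hr) _ (lall_iff.1 hED d hd)
  simp only [fin, Bool.and_eq_true, decide_eq_true_eq] at a1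
  obtain ⟨⟨rfl, rfl⟩, a3⟩ := a1
  rw [← e_eq hr a3, ← ρ_w hr, ← ρ_w hr, ← appv hr]
  exact a2

theorem sfix {q : ℕ} (hq : q < 812) (h : (FN q).t = 0 ∧ (FN q).i = (FN q).j) :
    e g (FN q).h • pt g (FN q).j = pt g (FN q).j := by
  rw [← ρ_w hr]; exact ((holds hr q hq).1 h.1).symm.trans (congrArg _ h.2)

def Fx (T : List Word) (b : X g) : Prop := ∀ k : N2, k.1 ∈ C2.grp T → ψ hr k • b = b
theorem fx_of {T : List Word} {b : X g} (h : ∀ w ∈ T, e g w • b = b) : Fx hr T b := fun k hk => by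
  have : C2.grp T ≤ ((MulAction.stabilizer G b).comap (ψ hr)).map N2.subtype := by
    rw [grp_le_iff]
    exact fun w hw => ⟨⟨_, mem2 w⟩, (congrArg (· • b) (hψ hr w)).trans (h w hw), rfl⟩
  obtain ⟨x, hx, e⟩ := this hk
  obtain rfl : x = k := Subtype.ext e
  exact hx

omit hr in
theorem e_app (u w : Word) : e g (u ++ w) = e g u * e g w := by
  rw [e, e, e, ev_subst, ev_subst, ev_subst, ev_append]

theorem fx1 : Fx hr KK (e g w1 • pt g 3) := fx_of hr fun w hw => by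
  obtain ⟨q, -, a0, a1, a2, a3⟩ := (by decide +kernel : ∀ w ∈ KK, ∃ q ∈ [24, 25], q < 812 ∧
    ((FN q).t = 0 ∧ (FN q).i = (FN q).j) ∧ (FN q).j = 3 ∧ eqQ lk B (w ++ w1, w1 ++ (FN q).h) = true) w hw
  have := sfix hr a0 a1
  rw [a2] at this
  rw [smul_smul, ← e_app, e_eq hr a3, e_app, mul_smul, this]

theorem fx2 : Fx hr S2 (pt g 57) := fx_of hr fun w hw => by
  obtain ⟨q, -, a0, a1, a2, a3⟩ := (by decide +kernel : ∀ w ∈ S2, ∃ q ∈ [653, 656], q < 812 ∧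
    ((FN q).t = 0 ∧ (FN q).i = (FN q).j) ∧ (FN q).j = 57 ∧ (FN q).h = w) w hw
  have := sfix hr a0 a1
  rwa [a2, a3] at this

theorem tw (k : N2) (hk : k.1 o2 = o2) : v g * ψ hr k * (v g)⁻¹ ∈ grp g gens := by
  have a := edge hr _ ((by decide +kernel : ∀ d ∈ ED.take 2, d ∈ ED) _ (List.mem_of_getElem? (i := 1) rfl))
  have a : v g • e g w1 • pt g 3 = pt g 0 := a.trans (fix0 g (e_mem hr _))
  refine of_fix0 g ?_
  rw [mul_smul, mul_smul, inv_smul_eq_iff.2 a.symm, fx1 hr k (stab2 _ k.2 hk), a]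

omit hr in
def Ω (g : ℕ → G) : Set (X g) := (MulAction.orbit (grp g gens) (pt g 0) ∪ MulAction.orbit (grp g gens) (pt g 3)) ∪
  MulAction.orbit (grp g gens) (pt g 57)

omit hr in
theorem Ω_smul {x : G} (hx : x ∈ grp g gens) {ξ : X g} (h : ξ ∈ Ω g) : x • ξ ∈ Ω g := by
  rcases h with (⟨y, rfl⟩ | ⟨y, rfl⟩) | ⟨y, rfl⟩
  exacts [.inl (.inl ⟨⟨x, hx⟩ * y, mul_smul _ _ _⟩), .inl (.inr ⟨⟨x, hx⟩ * y, mul_smul _ _ _⟩),
    .inr ⟨⟨x, hx⟩ * y, mul_smul _ _ _⟩]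

theorem edgeΩ : ∀ d ∈ ED, v g • e g d.2.1 • pt g d.1 ∈ Ω g := fun d hd => by
  rw [edge hr d hd]
  refine Ω_smul (e_mem hr _) ?_
  rcases (by decide +kernel : ∀ d ∈ ED, d.2.2.1 = 0 ∨ d.2.2.1 = 3 ∨ d.2.2.1 = 57) d hd with h | h | h <;> rw [h]
  exacts [.inl (.inl (MulAction.mem_orbit_self _)), .inl (.inr (MulAction.mem_orbit_self _)), .inr (MulAction.mem_orbit_self _)]

theorem closed {T R : List Word} {b : X g} {sc : List ℕ} (hT : Fx hr T b) (hR : ∀ w ∈ R, v g • e g w • b ∈ Ω g)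
    (hc : sub (full C2.n) (C2.clo T sc (seeds R)) = true) {x : G} (hx : x ∈ grp g gens) : v g • x • b ∈ Ω g := by
  obtain ⟨h, rfl⟩ := ψ_surj hr hx
  obtain ⟨y, hy, a⟩ := Ctx.clo_spec hC2 _ _ _ (h.1⁻¹ o2) (sub_spec hc (by simp [testBit_full]))
  obtain ⟨m, hm, a⟩ := uni2_spec a
  rw [lmap_eq] at hm
  obtain ⟨w, hw, rfl⟩ := List.mem_map.1 hm
  rw [testBit_bit, decide_eq_true_eq, show ipt lk2 w 0 = _ from ipt_eq hlk2 w o2] at a
  let k : N2 := ⟨_, mem2 w⟩ * ⟨y, le2 T hy⟩ * h⁻¹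
  have b : (k⁻¹).1 o2 = o2 := by
    refine Perm.inv_eq_iff_eq.2 (Eq.symm ?_)
    show C2.ev w (y (h.1⁻¹ o2)) = o2
    rw [← Fin.ext a]; simp
  have c : h = k⁻¹ * ⟨_, mem2 w⟩ * ⟨y, le2 T hy⟩ := by simp only [k]; group
  have d := Ω_smul (tw hr _ b) (hR w hw)
  rw [c, map_mul, map_mul, mul_smul, mul_smul, hT _ hy, hψ]
  rwa [mul_smul, mul_smul, inv_smul_smul] at d

theorem vΩ {ξ : X g} (h : ξ ∈ Ω g) : v g • ξ ∈ Ω g := by
  rcases h with (⟨y, rfl⟩ | ⟨y, rfl⟩) | ⟨y, rfl⟩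
  · have := edgeΩ hr _ ((by decide +kernel : ∀ d ∈ ED.take 1, d ∈ ED) _ (List.mem_of_getElem? (i := 0) rfl))
    show v g • y.1 • pt g 0 ∈ _
    rw [fix0 g y.2]
    rwa [fix0 g (e_mem hr _)] at this
  · have := closed hr (fx1 hr) (fun w hw => ?_) cov1 (mul_mem y.2 (inv_mem (e_mem hr w1)))
    · rwa [mul_smul, inv_smul_smul] at this
    · obtain ⟨d, hd, a1, a2⟩ := (by decide +kernel : ∀ w ∈ R1w, ∃ d ∈ ED, d.1 = 3 ∧ eqQ lk B (d.2.1, w ++ w1) = true) w hw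
      have := edgeΩ hr d hd
      rwa [a1, e_eq hr a2, e_app, mul_smul] at this
  · refine closed hr (fx2 hr) (fun w hw => ?_) cov2 y.2
    obtain ⟨d, hd, a1, a2⟩ := (by decide +kernel : ∀ w ∈ R2w, ∃ d ∈ ED, d.1 = 57 ∧ d.2.1 = w) w hw
    have := edgeΩ hr d hd
    rwa [a1, a2] at this

theorem finN : Finite (grp g gens) ∧ Nat.card (grp g gens) ≤ 244823040 :=
  J4M24.bound G g fun r h => hr r ((by decide +kernel : ∀ r ∈ J4TC.r7, r ∈ rels) r h)

theorem orb_le {T : List Word} {b : X g} (hT : Fx hr T b) {L m : ℕ} (hL : L ≤ Nat.card (C2.grp T))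
    (hm : 244823040 < (m + 1) * L) : (MulAction.orbit (grp g gens) b).ncard ≤ m := by
  let := MulAction.compHom (X g) (ψ hr)
  have h1 : MulAction.orbit (grp g gens) b = MulAction.orbit N2 b := Set.ext fun ξ =>
    ⟨fun ⟨y, e⟩ => by obtain ⟨h, a⟩ := ψ_surj hr y.2; exact ⟨h, (congrArg (· • b) a).trans e⟩,
      fun ⟨h, e⟩ => ⟨⟨_, ψ_mem hr h⟩, e⟩⟩
  have h2 := Nat.card_congr (MulAction.orbitProdStabilizerEquivGroup N2 b)
  have h3 : Nat.card (C2.grp T) ≤ Nat.card (MulAction.stabilizer N2 b) :=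
    Nat.card_le_card_of_injective (fun x => ⟨⟨x.1, le2 T x.2⟩, hT _ x.2⟩) fun x y h =>
      Subtype.ext (congrArg (fun z => z.1.1) h)
  rw [Nat.card_prod, card2, Nat.card_coe_set_eq, ← h1] at h2
  by_contra c
  exact absurd (hm.trans_le ((Nat.mul_le_mul (Nat.not_le.1 c) (hL.trans h3)).trans h2.le)) (lt_irrefl _)

theorem Ω_fin : (Ω g).Finite := by
  have := (finN hr).1
  exact ((Set.finite_range _).union (Set.finite_range _)).union (Set.finite_range _)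

theorem Ω_card : (Ω g).ncard ≤ 2048 := by
  have a0 : MulAction.orbit (grp g gens) (pt g 0) = {pt g 0} :=
    Set.eq_singleton_iff_unique_mem.2 ⟨MulAction.mem_orbit_self _, by rintro _ ⟨y, rfl⟩; exact fix0 g y.2⟩
  have a1 := orb_le hr (fx1 hr) lowK.1 (m := 1771) (by decide)
  have a2 := orb_le hr (fx2 hr) lowS.1 (m := 276) (by decide)
  rw [show e g w1 • pt g 3 = (⟨_, e_mem hr w1⟩ : grp g gens) • pt g 3 from rfl, MulAction.orbit_smul] at a1
  have a3 := Set.ncard_union_le (MulAction.orbit (grp g gens) (pt g 0)) (MulAction.orbit (grp g gens) (pt g 3))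
  have a4 := Set.ncard_union_le (MulAction.orbit (grp g gens) (pt g 0) ∪ MulAction.orbit (grp g gens) (pt g 3))
    (MulAction.orbit (grp g gens) (pt g 57))
  rw [a0, Set.ncard_singleton, ← a0] at a3
  rw [Ω]; omega

theorem H_le : grp g hs ≤ MulAction.stabilizer G (Ω g) := by
  have h1 : ∀ x, (∀ ξ ∈ Ω g, x • ξ ∈ Ω g) → x ∈ MulAction.stabilizer G (Ω g) := fun x hx =>
    (MulAction.mem_stabilizer_set_iff_smul_set_subset (Ω_fin hr)).2 (by rintro _ ⟨ξ, h, rfl⟩; exact hx ξ h)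
  have h2 : grp g gens ≤ MulAction.stabilizer G (Ω g) := fun x hx => h1 x fun ξ => Ω_smul hx
  have h3 := h1 _ fun ξ => vΩ hr
  rw [grp_le_iff]
  intro w hw
  rcases (by decide +kernel : ∀ w ∈ hs, w ∈ gens ∨ w = J4O.sw) w hw with h | rfl
  · exact h2 (mem_grp _ h)
  · rw [v, show wd (RP0.map Prod.snd) [] = red 0 (subst gens (ww ++ [3]) ++ J4O.sw ++ subst gens (winv ww)) by decide +kernel,
      ev_red (by simp), ev_append, ev_append] at h3
    exact (Subgroup.mul_mem_cancel_left _ (h2 (subst_mem_grp _ _ _))).1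
      ((Subgroup.mul_mem_cancel_right _ (h2 (subst_mem_grp _ _ _))).1 h3)

theorem bound : Finite (grp g hs) ∧ Nat.card (grp g hs) ≤ 501397585920 := by
  obtain ⟨a1, a2⟩ := finN hr
  have h1 : MulAction.orbit (grp g hs) (pt g 0) ⊆ Ω g := by
    rintro _ ⟨x, rfl⟩
    exact (MulAction.mem_stabilizer_iff.1 (H_le hr x.2)).le ⟨_, .inl (.inl (MulAction.mem_orbit_self _)), rfl⟩
  have h2 : Function.Injective fun x : MulAction.stabilizer (grp g hs) (pt g 0) => (⟨x.1.1, of_fix0 g x.2⟩ : grp g gens) :=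
    fun x y h => Subtype.ext (Subtype.ext (congrArg Subtype.val h :))
  have := ((Ω_fin hr).subset h1).to_subtype
  have := Finite.of_injective _ h2
  have E := MulAction.orbitProdStabilizerEquivGroup (grp g hs) (pt g 0)
  refine ⟨Finite.of_equiv _ E, ?_⟩
  rw [← Nat.card_congr E, Nat.card_prod, Nat.card_coe_set_eq]
  exact Nat.mul_le_mul ((Set.ncard_le_ncard h1 (Ω_fin hr)).trans (Ω_card hr))
    ((Nat.card_le_card_of_injective _ h2).trans a2)

end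
end CA.J4N
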