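import Cfsg.Agent.Lib.Spor.J4M

/-! Double cosets of `M₂₄` in `J₄`: the facts. -/

set_option autoImplicit false
set_option maxRecDepth 100000
set_option linter.all false
namespace CA.J4N
open CA.CNet CA.CWord CA.CLevel CA.CSimple CA.CPoint CA.CLow CA.CTodd CA.TCos CA.J4M
noncomputable section

def G0 : List Fact := [⟨1,0,[],1,[]⟩,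
  ⟨1,1,[],0,[]⟩,
  ⟨0,1,[],1,[0]⟩,
  ⟨0,1,[],1,[5]⟩,
  ⟨0,1,[],1,[7]⟩,
  ⟨0,1,[],1,[9]⟩,
  ⟨1,1,[3,1,2],2,[]⟩,
  ⟨1,2,[],1,[3,1,2]⟩,
  ⟨0,2,[],2,[4,17,10,16,14]⟩,
  ⟨0,2,[],2,[0,4,6,5,5]⟩,
  ⟨0,2,[],2,[4,15,10,4,10]⟩,
  ⟨0,2,[],2,[5,8,8,17,5]⟩,
  ⟨0,2,[],2,[0,7,14,9]⟩,
  ⟨1,2,[3,12,12,2],3,[]⟩,
  ⟨1,3,[],2,[3,12,12,2]⟩,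
  ⟨0,3,[],3,[4,6,9,10,4]⟩,
  ⟨0,3,[],3,[5,17,10,13]⟩,
  ⟨0,3,[],3,[7,17,11,14]⟩,
  ⟨0,3,[],3,[8,13,8,4]⟩,
  ⟨0,3,[],3,[4,4,15,7,15]⟩,
  ⟨1,1,[3,1,2,1,3],1,[16,14,14,10,3,1,13,2,7]⟩,
  ⟨1,2,[3,13,2],2,[14,11,14,3,12,2]⟩,
  ⟨0,2,[],2,[5,12,4,13,17,3,12,2,1]⟩,
  ⟨1,3,[3,1,13,2,1],2,[4,13,8,10,8,3,12,12,2]⟩,
  ⟨0,3,[],3,[4,0,9,16,15,3,1,13,2,1]⟩,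
  ⟨0,3,[],3,[8,6,12,14,3,12,2]⟩,
  ⟨1,1,[3],4,[]⟩,
  ⟨1,4,[],1,[3]⟩,
  ⟨0,4,[],4,[5,17,10,17,10]⟩,
  ⟨0,4,[],4,[8,6,10,10,17]⟩,
  ⟨0,4,[],4,[4,9,15,10,8]⟩,
  ⟨0,4,[],4,[4,16,11,4,10]⟩,
  ⟨1,4,[3,13,2],4,[8,4,10,6,9,3,12,2]⟩,
  ⟨1,4,[3,15,11,3],4,[0,12,5,0,3,15,11,3]⟩,
  ⟨1,4,[3,13,2,10],4,[4,7,0,17,17,3,13,2,10]⟩,
  ⟨0,4,[],4,[0,13,7,12,16,3,1,13,2]⟩,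
  ⟨1,4,[3,12,2,1],4,[11,9,4,12,3,12,2,1]⟩,
  ⟨1,2,[2],4,[11,15,11,12,3,12,2,7]⟩,
  ⟨1,4,[3,9,9,2],2,[0,9,15,13,15,2]⟩,
  ⟨1,4,[3,9,2,9],4,[0,14,14,16,3,7,14]⟩,
  ⟨1,4,[3,1,2,1],4,[12,6,4,6,3,1,2,6,11]⟩,
  ⟨0,4,[],4,[6,5,16,10,8,3,4,10,17]⟩,
  ⟨1,2,[3,1,15,8],5,[]⟩,
  ⟨1,5,[],2,[3,1,15,8]⟩,
  ⟨0,5,[],5,[0,8,12,10,4]⟩,
  ⟨0,5,[],5,[7,15,5,16,5]⟩,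
  ⟨0,5,[],5,[0,12,8,12,6]⟩,
  ⟨0,5,[],5,[5,17,10,17,10]⟩,
  ⟨0,5,[],5,[11,16,13]⟩,
  ⟨1,5,[3,13,2,10],5,[5,13,8,10,14,2,11,12,2]⟩,
  ⟨0,5,[],5,[0,4,16,4,10,3,1,13,2]⟩,
  ⟨1,3,[2],5,[7,17,17,17,13,3,9,9,2]⟩,
  ⟨1,5,[3,9,9,2],3,[4,15,5,5,13,2]⟩,
  ⟨1,4,[3,1,2,11,4],5,[4,13,10,16,13,3,7,15,7]⟩,
  ⟨1,5,[3,17,6],5,[0,11,9,5,3,1,15,12]⟩,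
  ⟨1,2,[2,5,3,6],6,[]⟩,
  ⟨1,6,[],2,[2,5,3,6]⟩,
  ⟨0,6,[],6,[0,8,15,6,10]⟩,
  ⟨0,6,[],6,[4,0,16,4,16]⟩,
  ⟨0,6,[],6,[14,14,16,4]⟩,
  ⟨0,6,[],6,[4,17,8,5,10]⟩,
  ⟨1,5,[3,5,8,1],6,[4,15,17,0,16,3,1,13,2,7]⟩,
  ⟨1,6,[3,4,10,17,3],5,[7,16,8,15,3,5,8,1]⟩,
  ⟨1,5,[2,1,13],6,[17,11,16,8,2,9,3]⟩]
def G1 : List Fact := [⟨1,6,[2,8,3],5,[0,16,15,0,13,2,1,13]⟩,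
  ⟨1,3,[2,1,3],6,[7,8,6,3,10,14,2]⟩,
  ⟨1,3,[3],7,[]⟩,
  ⟨1,7,[],3,[3]⟩,
  ⟨0,7,[],7,[4,11,15,8,10]⟩,
  ⟨0,7,[],7,[9,16]⟩,
  ⟨1,7,[3,13,2],7,[5,17,14,16,3,1,13,2,1]⟩,
  ⟨1,6,[3,17,6],7,[5,15,13,6,3,12,2,12]⟩,
  ⟨1,5,[3,14],7,[8,16,5,12,6,3,1,13,2]⟩,
  ⟨1,1,[3,1,3],8,[]⟩,
  ⟨1,8,[],1,[3,1,3]⟩,
  ⟨0,8,[],8,[4,7,16,5]⟩,
  ⟨0,8,[],8,[10,10,7,4]⟩,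
  ⟨1,8,[3,1,2,1,3],8,[0,10,15,16,3,12,2,6]⟩,
  ⟨1,8,[3,12,2,5],8,[10,8,7,16,3,12,2,15]⟩,
  ⟨1,4,[3,1,2,1,3],8,[4,7,15,16,11,3,17,8,2]⟩,
  ⟨1,4,[2,6,3,7],8,[15,13,16,15,3,13,2,13]⟩,
  ⟨1,8,[3,13,2,13],4,[14,17,12,14,2,6,3,7]⟩,
  ⟨1,8,[3,13,2,9],8,[4,10,9,17,15,3,13,2,9]⟩,
  ⟨1,8,[3,6,8,6],8,[0,16,15,5,11,3,4,9,10]⟩,
  ⟨1,8,[2,7,1],8,[5,11,15,7,16,2,8,13]⟩,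
  ⟨1,8,[2,4,4],8,[12,15,11,9,3,9,7,7]⟩,
  ⟨1,8,[3,1,10,3],8,[6,8,14,9,16,3,1,10,3]⟩,
  ⟨1,4,[3,9,2,16],9,[]⟩,
  ⟨1,9,[],4,[3,9,2,16]⟩,
  ⟨0,9,[],9,[5,16,15,4,14]⟩,
  ⟨0,9,[],9,[4,10,0,13,6]⟩,
  ⟨0,9,[],9,[6,9,16,6]⟩,
  ⟨0,9,[],9,[5,8,6,15]⟩,
  ⟨0,9,[],9,[0,7,7,8,6,2,17]⟩,
  ⟨1,2,[2,17,14],10,[]⟩,
  ⟨1,10,[],2,[2,17,14]⟩,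
  ⟨0,10,[],10,[5,0,6,6,6]⟩,
  ⟨0,10,[],10,[5,10,15,11,14]⟩,
  ⟨0,10,[],10,[4,15,4,10]⟩,
  ⟨0,10,[],10,[10,6,14,13]⟩,
  ⟨0,10,[],10,[9,14,10,4]⟩,
  ⟨1,4,[3,16,12],10,[10,6,13,17,15,3,4,10,17,3]⟩,
  ⟨1,10,[3,4,10,17,3],4,[6,4,9,6,15,3,16,12]⟩,
  ⟨1,6,[3,13,2,10],10,[8,14,13,14,16,3,13,2,16]⟩,
  ⟨1,10,[3,12,2,4],6,[13,8,3,13,2,10]⟩,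
  ⟨1,10,[3,9,9,2,1],10,[0,14,5,10,12,3,13,2,15]⟩,
  ⟨1,10,[3,15,11,3],10,[5,10,15,11,14,3,15,11,3]⟩,
  ⟨1,6,[3,16,10,7],10,[4,14,9,17,15,3,10,14]⟩,
  ⟨1,10,[3,10,14],6,[0,4,10,13,10,3,16,10,7]⟩,
  ⟨1,4,[2,1],10,[0,16,13,14,6,3,1,9,6]⟩,
  ⟨1,10,[3],4,[12,8,16,10,2,1]⟩,
  ⟨0,10,[],10,[6,10,5,13,2,9,3]⟩,
  ⟨1,6,[3,7,11,16],10,[0,5,6,16,15,2,7]⟩,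
  ⟨1,10,[2,7],6,[0,17,8,15,11,3,7,11,16]⟩,
  ⟨1,8,[3,1,2,13],10,[13,7,16,15,3,11,2,16,1]⟩,
  ⟨1,10,[2,1,13,3],8,[12,4,16,5,3,1,2,13]⟩,
  ⟨1,6,[3,4,2,7],8,[0,14,13,16,6,3,1,2,8]⟩,
  ⟨1,5,[2,7,1],11,[]⟩,
  ⟨1,11,[],5,[2,7,1]⟩,
  ⟨0,11,[],11,[5,7,4,12,7]⟩,
  ⟨1,7,[3,1,2],11,[0,12,10,6,3,15,11,3]⟩,
  ⟨1,11,[3,15,11,3],7,[0,6,9,5,3,1,2]⟩,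
  ⟨1,11,[3,12,2,7],11,[5,16,14,9,6,3,1,13,2,7]⟩,
  ⟨0,11,[],11,[4,11,15,10,7,3,4,10,17,3]⟩,
  ⟨1,7,[3,1,2,1],11,[0,4,14,10,5,3,1,2,13,15]⟩,
  ⟨1,11,[3,15,11,2],7,[0,7,12,16,11,3,1,2,1]⟩,
  ⟨1,4,[3,7,1,14],12,[]⟩,
  ⟨1,12,[],4,[3,7,1,14]⟩]
def G2 : List Fact := [⟨0,12,[],12,[16,14,13,8]⟩,
  ⟨0,12,[],12,[8,6,10,10,17]⟩,
  ⟨0,12,[],12,[4,10,4,15]⟩,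
  ⟨1,5,[3,6,13,10],12,[12,6,0,10,2,14,16,2]⟩,
  ⟨1,12,[3,9,9,2],5,[6,14,17,4,15,3,6,13,10]⟩,
  ⟨1,9,[3,15,11,3],12,[9,16,10,10,3,13,2,14]⟩,
  ⟨0,12,[],12,[8,17,9,17,3,1,13,2]⟩,
  ⟨0,12,[],12,[4,11,5,10,15,2]⟩,
  ⟨1,2,[2,1,3],13,[]⟩,
  ⟨1,13,[],2,[2,1,3]⟩,
  ⟨0,13,[],13,[10,14,6,14]⟩,
  ⟨0,13,[],13,[4,4,0,5,5]⟩,
  ⟨1,10,[3,1,2,1,3],13,[7,5,6,16,14,3,13,2,11]⟩,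
  ⟨1,4,[3,5,12,5,2],13,[5,15,10,8,3,9,9,2,14]⟩,
  ⟨1,13,[3,1,15,12,3],4,[5,15,0,10,5,3,5,12,5,2]⟩,
  ⟨1,13,[3,1,5],13,[5,16,16,0,6,3,1,5]⟩,
  ⟨1,13,[3,12,12,5],13,[4,13,7,13,11,3,6,10,13]⟩,
  ⟨1,10,[3,5,8,1,3],13,[0,11,8,16,9,2,8,3,1]⟩,
  ⟨1,8,[2,9,10],13,[9,12,7,11,3,12,10]⟩,
  ⟨1,13,[3,12,10],8,[10,6,13,8,2,9,10]⟩,
  ⟨1,8,[2,1,4,6],13,[4,14,10,4,0,3,5,1,7]⟩,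
  ⟨1,13,[3,5,1,7],8,[0,5,11,15,5,2,1,4,6]⟩,
  ⟨1,8,[3,1,2,9],13,[5,12,7,4,2,1,3]⟩,
  ⟨1,13,[2,1,3],8,[5,6,13,4,3,1,2,9]⟩,
  ⟨1,8,[2,13,4,3],13,[0,9,0,9,10,2,5,3,4,8]⟩,
  ⟨1,13,[3,17,3,4],8,[15,17,5,15,2,13,4,3]⟩,
  ⟨1,8,[3,4,6,3,17],13,[0,7,16,4,16,3,6,2,7,11]⟩,
  ⟨1,13,[2,4,3,1],8,[16,8,17,4,3,4,6,3,17]⟩,
  ⟨1,8,[3,5,1,7,3],13,[4,6,8,10,5,3,6,10,3,1]⟩,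
  ⟨1,13,[2,13,9,2],8,[9,4,13,15,3,5,1,7,3]⟩,
  ⟨1,13,[3,7,2,16,11],13,[0,14,4,14,9,3,7,2,16,11]⟩,
  ⟨1,8,[3,5,14,3],13,[4,14,9,6,10,3,5,2,10,5]⟩,
  ⟨1,13,[3,7,4,2,1],8,[16,11,6,4,3,5,14,3]⟩,
  ⟨1,8,[3,1,16,2],8,[9,11,6,14,14,3,1,16,2]⟩,
  ⟨1,8,[3,1,14,3,6],8,[0,5,17,15,16,3,4,2,1,17]⟩,
  ⟨1,8,[3,15,2,8,5],8,[6,12,9,17,8,3,15,2,8,5]⟩,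
  ⟨1,2,[3,10,2,13],14,[]⟩,
  ⟨1,14,[],2,[3,10,2,13]⟩,
  ⟨0,14,[],14,[8,17,6,11]⟩,
  ⟨0,14,[],14,[11,13,15,15]⟩,
  ⟨0,14,[],14,[0,4,14,10,5]⟩,
  ⟨1,6,[3,1,2,1,3],14,[14,10,5,5,3,12,2,15]⟩,
  ⟨1,7,[3,10,4,9],14,[0,15,6,8,2,12,15]⟩,
  ⟨1,11,[3],14,[5,6,0,17,17,3,1,17,7]⟩,
  ⟨1,14,[3,4,16,1],11,[4,7,9,12,14,3]⟩,
  ⟨1,7,[2],14,[0,6,14,13,7,3,11,16,10]⟩,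
  ⟨1,14,[3,11,16,10],7,[6,10,14,11,6,2]⟩,
  ⟨1,7,[3,4,10,17],14,[6,8,11,15,3,7,7,14]⟩,
  ⟨1,11,[3,1,2,7],15,[]⟩,
  ⟨1,15,[],11,[3,1,2,7]⟩,
  ⟨0,15,[],15,[12,6,16,0,3,12,2,1]⟩,
  ⟨1,4,[3,4,3,1,2],16,[]⟩,
  ⟨1,16,[],4,[3,4,3,1,2]⟩,
  ⟨0,16,[],16,[0,5,7]⟩,
  ⟨0,16,[],16,[6,0,7,8,12]⟩,
  ⟨0,16,[],16,[5,11,12,6,12]⟩,
  ⟨1,16,[3,12,2,5],16,[11,11,13,15,6,3,13,2,16]⟩,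
  ⟨1,16,[3,13,2,16],16,[5,8,4,9,14,3,12,2,5]⟩,
  ⟨1,10,[3,10,7,1],16,[6,15,12,11,13,3,13,2,11]⟩,
  ⟨1,16,[3,13,2,11],10,[0,4,12,5,13,3,10,7,1]⟩,
  ⟨1,6,[3,5,9,6],16,[0,10,17,6,3,9,13,14]⟩,
  ⟨1,16,[3,9,13,14],6,[7,16,11,0,3,5,9,6]⟩,
  ⟨1,10,[2,15,11],16,[0,15,8,5,17,2,6]⟩,
  ⟨1,16,[3,9,1,12],10,[7,17,6,8,2,15,11]⟩]
def G3 : List Fact := [⟨1,6,[3,5,8,11],16,[4,14,7,10,16,2,8,6]⟩,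
  ⟨1,8,[3,1,15],16,[15,15,0,16,3,4,15,2,9]⟩,
  ⟨1,13,[2,12,2],16,[15,8,10,2,1,5,2]⟩,
  ⟨1,16,[3,1,2,6,2],13,[0,8,15,6,2,12,2]⟩,
  ⟨1,16,[3,1,2,1],16,[12,5,17,8,3,6,10,7]⟩,
  ⟨1,16,[3,6,10,7],16,[9,16,4,13,3,1,2,1]⟩,
  ⟨1,6,[2,7,9],16,[12,8,11,15,3,1,2,11,4]⟩,
  ⟨1,16,[3,1,2,11,4],6,[14,10,9,13,2,7,9]⟩,
  ⟨1,5,[3,5,8,1,3],16,[14,14,4,10,2,12,5]⟩,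
  ⟨1,16,[3,5,9],5,[8,14,5,17,3,5,8,1,3]⟩,
  ⟨1,4,[3,13,7,14],17,[]⟩,
  ⟨1,17,[],4,[3,13,7,14]⟩,
  ⟨0,17,[],17,[0,11,11,13,16]⟩,
  ⟨0,17,[],17,[0,4,11,7,7,16]⟩,
  ⟨1,4,[3,8,13],17,[4,8,5,16,9,3,1,13,2]⟩,
  ⟨1,17,[3,12,2,1],17,[11,8,5,17,14,3,12,2,1]⟩,
  ⟨1,12,[3,1,2],17,[0,15,13,10,14,3,13,2]⟩,
  ⟨1,17,[3,1,2],17,[0,11,17,5,9,3,12,2]⟩,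
  ⟨0,17,[],17,[0,8,5,17,10,3,1,2,5,10]⟩,
  ⟨1,4,[2,6,1,11],18,[]⟩,
  ⟨1,18,[],4,[2,6,1,11]⟩,
  ⟨0,18,[],18,[0,16,14,13]⟩,
  ⟨0,18,[],18,[8,6,6,4,10]⟩,
  ⟨1,18,[3,1,2,1,3],18,[0,4,15,17,6,3,13,2,7]⟩,
  ⟨1,16,[3,13,2],18,[4,17,15,8,10,3,7,14,3,8]⟩,
  ⟨1,18,[3,7,14,3,8],16,[7,9,10,17,6,3,13,2]⟩,
  ⟨1,4,[2,7,3],18,[4,17,5,10,16,3,13,2,5]⟩,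
  ⟨1,18,[3,12],18,[4,16,9,11,14,3,12]⟩,
  ⟨1,16,[3,5,1,17],18,[0,4,11,16,5,2,1,3,10]⟩,
  ⟨1,18,[2,1,3,10],16,[0,9,11,6,9,3,5,1,17]⟩,
  ⟨1,10,[3,5,11,4,3],18,[7,9,5,9,7,3,17,17,3]⟩,
  ⟨1,18,[3,17,17,3],10,[5,10,7,10,6,3,5,11,4,3]⟩,
  ⟨1,8,[3,1,9,7],18,[4,7,10,17,13,3,16,16,7]⟩,
  ⟨1,18,[3,17,8],8,[0,12,10,5,12,3,1,9,7]⟩,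
  ⟨1,6,[2,16,9,3],18,[16,16,13,3,1,2,5,6]⟩,
  ⟨1,18,[3,1,2,5,6],6,[12,17,17,2,16,9,3]⟩,
  ⟨1,18,[3,12,12],18,[11,16,13,3,12,12]⟩,
  ⟨1,18,[3,6,11,6],18,[9,17,9,17,3,6,11,6]⟩,
  ⟨1,8,[3,13,3,6],18,[8,0,8,0,3,11,16,4]⟩,
  ⟨1,18,[3,1,13],8,[4,11,7,7,17,3,13,3,6]⟩,
  ⟨1,8,[2,11,2],18,[0,16,15,0,13,3]⟩,
  ⟨1,18,[3],8,[0,13,14,17,0,2,11,2]⟩,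
  ⟨1,13,[3,5,3,6,14],18,[7,16,8,16,10,3,6,11,7,3]⟩,
  ⟨1,8,[2,14,11,2],18,[0,16,13,6,3,12,2,4,3]⟩,
  ⟨1,18,[3,5,2,14,4],8,[4,14,12,7,16,2,14,11,2]⟩,
  ⟨1,18,[3,8,13,2,9],18,[16,16,15,8,3,7,9,3,6]⟩,
  ⟨1,7,[3,1,2,11,4],19,[]⟩,
  ⟨1,19,[],7,[3,1,2,11,4]⟩,
  ⟨0,19,[],19,[4,11,9,5,12]⟩,
  ⟨1,19,[3,1,13,2],19,[5,16,16,16,9,3,1,13,2]⟩,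
  ⟨0,19,[],19,[0,15,7,0,13,3,1,13,2,1]⟩,
  ⟨1,14,[2,1,3],19,[0,15,10,16,3,12,2,7]⟩,
  ⟨1,11,[3,10,14,2],19,[4,9,7,11,11,3,12,2]⟩,
  ⟨1,19,[3,1,2,1],11,[0,14,17,9,15,3,10,14,2]⟩,
  ⟨1,19,[3,4,9,7],19,[6,11,4,14,6,3,5,9,1]⟩,
  ⟨0,19,[],19,[4,15,6,8,16,3,10,2,12]⟩,
  ⟨1,15,[3,1,2,1],19,[6,10,15,7,16,3,12,12,2]⟩,
  ⟨1,19,[3,12,12,2],15,[5,11,7,9,6,3,1,2,1]⟩,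
  ⟨1,4,[3,14,3,1],20,[]⟩,
  ⟨1,20,[],4,[3,14,3,1]⟩,
  ⟨0,20,[],20,[9,16,7,10]⟩,
  ⟨1,16,[3,7,14,3,8],20,[4,14,12,6,13,3,7,14,3,16]⟩,
  ⟨1,9,[3,1,2,1,3],20,[14,16,13,16,3,13,2,9]⟩,
  ⟨1,20,[3,13,2,9],9,[10,17,7,16,3,1,2,1,3]⟩]
def G4 : List Fact := [⟨1,9,[2],21,[]⟩,
  ⟨1,21,[],9,[2]⟩,
  ⟨0,21,[],21,[5,7,4,12,7]⟩,
  ⟨0,21,[],21,[0,5,5,5,15]⟩,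
  ⟨1,17,[3,8,4,14],21,[6,15,0,7,3,16,12]⟩,
  ⟨1,21,[3,16,12],17,[4,11,14,9,3,8,4,14]⟩,
  ⟨0,21,[],21,[10,4,10,12,3,1,2,8,4]⟩,
  ⟨1,2,[3],24,[]⟩,
  ⟨1,24,[],2,[3]⟩,
  ⟨0,24,[],24,[4,14,13,14,7]⟩,
  ⟨0,24,[],24,[4,11,15,8,10]⟩,
  ⟨1,14,[3,13,2,13],24,[6,17,15,10,4,3,7,14,3,4]⟩,
  ⟨1,24,[3,7,14,3,8],14,[16,7,12,14,3,13,2,13]⟩,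
  ⟨1,13,[3,1,2,1,3],24,[5,16,7,10,5,3,12,2,7]⟩,
  ⟨1,24,[3,13,2,10],13,[4,14,5,16,7,3,1,2,1,3]⟩,
  ⟨1,4,[3,14],24,[0,14,12,11,15,3,1,13,2]⟩,
  ⟨1,24,[3,1,13,2],4,[0,14,12,11,15,3,14]⟩,
  ⟨1,8,[3,7,11,16],24,[4,16,11,4,10,3,1,4,10]⟩,
  ⟨1,24,[3,4,10,17],8,[0,16,15,5,11,3,7,11,16]⟩,
  ⟨1,24,[3,12,10],24,[5,16,16,0,6,3,12,10]⟩,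
  ⟨1,24,[3,13,3],24,[0,8,8,12,3,13,3]⟩,
  ⟨1,8,[3],24,[17,7,17,12,2]⟩,
  ⟨1,4,[3,5,8,11],25,[]⟩,
  ⟨1,25,[],4,[3,5,8,11]⟩,
  ⟨0,25,[],25,[9,7,17,10]⟩,
  ⟨0,25,[],25,[8,10,5,6,8]⟩,
  ⟨0,25,[],25,[5,17,14,12,3,1,13,2]⟩,
  ⟨1,17,[3,5,16],25,[0,13,11,7,13,2,12,14,2]⟩,
  ⟨1,25,[3,12,2,12],17,[5,0,10,17,8,3,5,16]⟩,
  ⟨1,25,[2,11,12,2],25,[8,12,7,14,12,2,11,12,2]⟩,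
  ⟨1,8,[3,11,13,9],25,[4,9,13,7,17,3,1,4,10]⟩,
  ⟨1,25,[2],8,[13,16,6,16,3,11,13,9]⟩,
  ⟨1,25,[2,13,8],25,[11,17,9,13,3,4,17]⟩,
  ⟨1,13,[2,7,1],25,[0,8,16,8,12,3,9,2,9]⟩,
  ⟨1,4,[3,5,12,2,6],26,[]⟩,
  ⟨1,26,[],4,[3,5,12,2,6]⟩,
  ⟨0,26,[],26,[4,13,15,7,16]⟩,
  ⟨1,12,[3,1,2,1,3],26,[14,17,9,17,3,12,2,4]⟩,
  ⟨1,26,[3,12,2,4],12,[16,8,16,15,3,1,2,1,3]⟩,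
  ⟨1,26,[3,7,14,3,8],26,[5,11,5,16,13,3,7,14,3,8]⟩,
  ⟨1,17,[3,7,15],26,[0,9,17,5,17,3,12,2]⟩,
  ⟨1,26,[2,12],26,[4,17,8,6,6,2,12]⟩,
  ⟨1,26,[3,5,8],26,[0,10,17,6,3,14,1,5]⟩,
  ⟨1,26,[3,14,1,5],26,[7,16,11,0,3,5,8]⟩,
  ⟨1,26,[3,16,5],26,[4,0,5,6,9,3,1,5,8]⟩,
  ⟨1,26,[3,1,5,8],26,[6,9,7,14,5,3,16,5]⟩,
  ⟨1,26,[2,1,12,7],26,[0,14,0,5,13,3,5,10,14]⟩,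
  ⟨1,26,[3,5,10,14],26,[0,5,16,11,8,2,1,12,7]⟩,
  ⟨1,4,[2,16,9],28,[]⟩,
  ⟨1,28,[],4,[2,16,9]⟩,
  ⟨0,28,[],28,[4,0,16,4,16]⟩,
  ⟨1,28,[3,4,10,17,3],4,[0,5,12,5,9,3,10,8]⟩,
  ⟨0,28,[],28,[0,12,14,0,11,3,4,10,17,3]⟩,
  ⟨1,28,[3,13,2,12],17,[12,17,8,3,9,9,2,14]⟩,
  ⟨1,17,[3,7,14,3,8],28,[11,6,9,4,3,13,2,12]⟩,
  ⟨1,28,[3,17,10],25,[8,4,10,6,9,3,12,10]⟩,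
  ⟨1,25,[3,12,10],28,[8,4,10,6,9,3,17,10]⟩,
  ⟨1,28,[3,16,10,7],25,[0,14,6,4,14,3,17,15]⟩,
  ⟨1,28,[3,13,2,4],25,[12,17,12,17,2,14,16,2]⟩,
  ⟨1,25,[2,14,16,2],28,[16,13,16,13,3,13,2,4]⟩,
  ⟨1,28,[3,14,14,9],25,[0,5,12,5,9,3,1,10]⟩,
  ⟨1,25,[3,1,10],28,[4,8,8,0,15,3,14,14,9]⟩,
  ⟨1,28,[3,15,11,2],25,[0,16,15,16,10,3,1,2,6,11]⟩,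
  ⟨1,8,[3,7,17,13],28,[5,13,9,0,14,3]⟩]
def G5 : List Fact := [⟨1,4,[3,6,11,3],29,[]⟩,
  ⟨1,29,[],4,[3,6,11,3]⟩,
  ⟨0,29,[],29,[4,12,17,8]⟩,
  ⟨1,24,[3,14,9],29,[14,6,15,6,2,12,14,2]⟩,
  ⟨1,24,[3,5,8,2],29,[7,16,13,17,3,13,5,11]⟩,
  ⟨1,4,[2,15,9,3],30,[]⟩,
  ⟨1,30,[],4,[2,15,9,3]⟩,
  ⟨0,30,[],30,[4,4,14,16]⟩,
  ⟨1,16,[3,1,2,1,3],30,[0,4,6,16,12,3,13,2,11]⟩,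
  ⟨1,30,[3,13,2,11],16,[0,5,16,4,4,3,1,2,1,3]⟩,
  ⟨1,18,[3,12,2,12],30,[0,12,4,15,7,3,7,14,3,16]⟩,
  ⟨1,14,[3,5,9,14],30,[12,12,7,10,2,6,1]⟩,
  ⟨1,30,[2,6,1],14,[11,6,13,13,3,5,9,14]⟩,
  ⟨1,6,[3,16,2,14],31,[]⟩,
  ⟨1,31,[],6,[3,16,2,14]⟩,
  ⟨1,16,[3,15,8,3,13],31,[5,11,6,15,15,3,13,2,4]⟩,
  ⟨1,8,[2,4,11,2],32,[]⟩,
  ⟨1,32,[],8,[2,4,11,2]⟩,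
  ⟨0,32,[],32,[0,17,17,9,0]⟩,
  ⟨0,32,[],32,[11,7,7,7,16,3,12,2,5]⟩,
  ⟨1,13,[3,17,10,9],32,[16,11,5,16,3,12,2]⟩,
  ⟨1,18,[3,7,1,2],32,[17,11,12,15,3,12,12]⟩,
  ⟨1,32,[3,5,14,4],18,[7,15,11,4,6,3,7,1,2]⟩,
  ⟨1,32,[3,8,6,6],32,[6,8,6,15,13,3,8,6,6]⟩,
  ⟨1,18,[2,1,3,11],32,[6,6,12,9,10,3,5,12,11]⟩,
  ⟨1,32,[3,5,12,11],18,[6,12,9,14,13,2,1,3,11]⟩,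
  ⟨1,32,[3,5,6,17],32,[4,4,6,10,14,3,1,11,5]⟩,
  ⟨1,13,[3,14,16,15],32,[7,13,9,11,2,16,10]⟩,
  ⟨1,32,[3,4,15],13,[5,12,15,0,12,3,14,16,15]⟩,
  ⟨1,13,[3,1,17,2,11],32,[10,12,10,16,2,13,3,9]⟩,
  ⟨1,32,[3,7,2,5,10],32,[0,13,15,16,13,3,7,2,5,10]⟩,
  ⟨1,32,[3,6,3,1],32,[15,11,7,16,3,6,3,1]⟩,
  ⟨1,18,[3,6,1,3],32,[0,13,16,7,0,2,12,2,4]⟩,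
  ⟨1,18,[3,17,14,3],32,[14,9,6,4,3,1,2,11]⟩,
  ⟨1,32,[3,1,2,11],18,[5,7,8,15,3,17,14,3]⟩,
  ⟨1,16,[3,1,3,12,9],32,[0,15,0,8,2,13,9,3]⟩,
  ⟨1,32,[2,13,9,3],16,[9,0,14,0,3,1,3,12,9]⟩,
  ⟨1,6,[3,7,4,2,8],32,[9,13,5,16,3,15,15,3,16]⟩,
  ⟨1,32,[3,15,15,3,16],6,[17,4,12,8,3,7,4,2,8]⟩,
  ⟨1,16,[3,1,2],32,[15,15,12,14,3,10,16,4]⟩,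
  ⟨1,32,[3,8,6,11],16,[0,12,11,6,15,3,1,2]⟩,
  ⟨1,16,[3,5,12,15],32,[0,10,12,10,14,3,7,11,9]⟩,
  ⟨1,32,[2,4,8],16,[12,16,13,5,15,3,5,12,15]⟩,
  ⟨1,5,[3],32,[16,0,11,6,3,5,6,3,11]⟩,
  ⟨1,18,[3,4,13,17,3],32,[0,7,8,4,15,2,12,3,17,2]⟩,
  ⟨1,32,[2,11,16,2,13],18,[9,10,7,3,4,13,17,3]⟩,
  ⟨1,18,[3,4,17,14,2],32,[0,14,11,5,14,3,4,14,3]⟩,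
  ⟨1,32,[3,4,14,3],18,[5,16,0,10,13,3,4,17,14,2]⟩,
  ⟨1,4,[3],37,[]⟩,
  ⟨1,37,[],4,[3]⟩,
  ⟨0,37,[],37,[5,10,15,11,14]⟩,
  ⟨1,8,[2,8],37,[0,10,10,4,7,3,1,13,2]⟩,
  ⟨1,18,[2,7,9],37,[4,15,11,16,5,3,1,13,2,7]⟩,
  ⟨1,37,[3,1,13,2,7],18,[4,0,16,15,16,2,7,9]⟩,
  ⟨1,13,[3,13,9,9],37,[6,5,16,10,3,9,9,2]⟩,
  ⟨1,37,[3,9,9,2],13,[11,17,4,7,3,13,9,9]⟩,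
  ⟨1,37,[3,15,11,3],37,[0,11,14,0,4,3,15,11,3]⟩,
  ⟨1,32,[3,1,2,10],37,[0,12,11,4,17,3,8,4,15]⟩,
  ⟨0,37,[],37,[7,7,0,17,11,3,4,10,17]⟩,
  ⟨1,18,[2,17,14],37,[6,17,10,7,17,3,12,17,6]⟩,
  ⟨1,37,[3,5,7,10],18,[7,16,16,9,7,2,17,14]⟩,
  ⟨1,13,[3,9,15,10],37,[6,10,14,11,6,2,9,3]⟩,
  ⟨1,37,[3,14,2,14],13,[5,8,7,14,12,3,9,15,10]⟩,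
  ⟨1,4,[3,1,3],38,[]⟩]
def G6 : List Fact := [⟨1,38,[],4,[3,1,3]⟩,
  ⟨0,38,[],38,[0,9,10,13,5]⟩,
  ⟨1,17,[3,15,11,3],38,[4,4,8,12,5,3,4,10,17,3]⟩,
  ⟨1,38,[3,13,10,3],38,[0,4,11,7,7,16,3,13,10,3]⟩,
  ⟨1,37,[3,1,16,12],38,[13,8,14,6,4,3,13,2,14]⟩,
  ⟨0,38,[],38,[6,5,0,6,3,17,8,2]⟩,
  ⟨1,8,[3,6,10,5],38,[11,12,17,15,3,17,14]⟩,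
  ⟨1,38,[3,17,14],8,[11,12,17,15,3,6,10,5]⟩,
  ⟨1,38,[2,14,16],38,[0,16,10,6,6,2,14,16]⟩,
  ⟨1,8,[3,1,2],38,[5,17,10,13,3,1,2]⟩,
  ⟨1,38,[3,1,2],8,[5,17,10,13,3,1,2]⟩,
  ⟨1,38,[3,12,10,3],38,[0,5,7,3,12,10,3]⟩,
  ⟨1,4,[2,17,14],39,[]⟩,
  ⟨1,39,[],4,[2,17,14]⟩,
  ⟨0,39,[],39,[5,10,15,11,14]⟩,
  ⟨1,37,[3,4,2,15,6],39,[6,6,11,12,11,3,13,2,7]⟩,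
  ⟨1,8,[3,7,11,13],39,[4,8,5,16,9,3,4,10,17,3]⟩,
  ⟨0,39,[],39,[7,11,4,15,16,3,12,17,6]⟩,
  ⟨1,37,[3,7,15,7],39,[0,13,4,4,0,3,7,14,3,16]⟩,
  ⟨1,37,[3,13,2,9,11],39,[15,16,7,15,3,1,13,2]⟩,
  ⟨1,39,[3,1,13,2],37,[14,6,17,14,3,13,2,9,11]⟩,
  ⟨1,8,[3,4,17,13],39,[0,10,10,5,10,3,13,2,9,11]⟩,
  ⟨1,13,[3,6,12,17],39,[7,8,4,0,16,3,4,11,16]⟩,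
  ⟨1,39,[3,4,11,16],13,[8,4,13,11,15,3,6,12,17]⟩,
  ⟨1,32,[3,8,14,9],39,[6,6,6,13,10,3,15,2,7]⟩,
  ⟨1,39,[3,1,16,2,7],32,[6,15,13,4,16,3,8,14,9]⟩,
  ⟨1,30,[3,4,16,4,3],39,[5,13,11,15,3,16,16]⟩,
  ⟨1,39,[3,7],30,[4,15,4,13,3,4,16,4,3]⟩,
  ⟨1,14,[3,15,2,14],39,[0,11,13,6,0,3,4,13]⟩,
  ⟨1,39,[2,6,9],14,[4,0,11,9,12,3,15,2,14]⟩,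
  ⟨1,16,[3,4,3,4,4],14,[0,9,15,13,11,3,7,15,13]⟩,
  ⟨1,14,[3,7,11,13],16,[8,6,9,4,3,4,3,4,4]⟩,
  ⟨1,10,[3,1,9],14,[4,4,14,8,10,2,9,3,7]⟩,
  ⟨1,31,[3,1,5,5],14,[14,14,8,16,3,11,16,10]⟩,
  ⟨0,7,[],31,[5,0,11,14,4,2,9,3,7]⟩,
  ⟨1,24,[2,1,3],10,[5,16,5,9,3,6,13,15]⟩,
  ⟨1,10,[3,5,6,16],24,[5,5,0,6,17,3,1,8,15]⟩,
  ⟨1,18,[3,1,8,17],24,[0,7,5,10,3,17,3,14]⟩,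
  ⟨1,24,[3,7,13,3,9],18,[5,6,11,4,10,3,1,8,17]⟩,
  ⟨1,13,[3,12,10,8],24,[5,9,16,4,3,1,15,9,2]⟩,
  ⟨1,24,[3,5,1,13,2],13,[16,7,9,14,3,12,10,8]⟩,
  ⟨1,18,[3,5,12,3],24,[7,17,17,14,2,13,2,13]⟩,
  ⟨1,24,[3,4,3,14,5],18,[4,9,17,0,3,5,12,3]⟩,
  ⟨1,24,[3,10],24,[8,6,13,14,3,10]⟩,
  ⟨1,24,[3,10,4,9],24,[0,14,14,6,12,2,7,15]⟩,
  ⟨1,32,[3,14,3,12],24,[15,11,13,7,3,5,9,12]⟩,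
  ⟨1,24,[3,12,11,6],32,[16,7,5,10,3,14,3,12]⟩,
  ⟨1,4,[3,7,2,16,11],40,[]⟩,
  ⟨1,40,[],4,[3,7,2,16,11]⟩,
  ⟨0,40,[],40,[4,7,16,11,17]⟩,
  ⟨1,28,[3,1,2,1,3],40,[0,4,9,11,11,3,1,13,2,1]⟩,
  ⟨1,40,[3,1,13,2,1],28,[5,9,14,8,14,3,1,2,1,3]⟩,
  ⟨1,17,[3,13,2,10],40,[10,0,16,12,3,9,9,2,1]⟩,
  ⟨1,8,[3,4,12,9],40,[4,9,13,7,17,3,8,4]⟩,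
  ⟨1,40,[3,4,11],8,[5,12,9,16,7,3,4,12,9]⟩,
  ⟨1,24,[3,7,9,7],40,[0,17,4,16,7,3,5,12,16]⟩,
  ⟨1,24,[3,11,13,4],40,[0,12,7,7,0,3,5,3,1,15]⟩,
  ⟨1,40,[3,11,3,6],24,[0,14,10,9,17,3,11,13,4]⟩,
  ⟨0,40,[],40,[0,14,10,5,14,3,5,14,6]⟩,
  ⟨1,32,[3,5,14,2,9],40,[0,8,13,8,11,3,17,3]⟩,
  ⟨1,25,[3,7,3,8],32,[0,15,16,16,10,3,4,9]⟩,
  ⟨1,32,[3,4,14,6],25,[7,8,15,5,3,7,3,8]⟩,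
  ⟨1,28,[3,8,10],32,[4,0,16,6,14,3,1,6,17]⟩,
  ⟨1,32,[3,5,9,5],28,[6,8,5,15,6,3,8,10]⟩]
def G7 : List Fact := [⟨1,18,[3,16,2,14],28,[5,10,16,10,14,3,16,9]⟩,
  ⟨1,25,[3,12,11,6],28,[12,10,6,14,3,7,9,16]⟩,
  ⟨1,28,[3,7,9,16],25,[15,7,11,13,3,12,11,6]⟩,
  ⟨0,25,[],28,[17,13,11,4,3,1,5,12]⟩,
  ⟨1,25,[2,1,9,2],32,[4,16,0,14,13,3,5,9,5]⟩,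
  ⟨1,25,[3,5,3,7],18,[5,13,16,15,7,3,16,2,14]⟩,
  ⟨1,18,[2,13,9,3],25,[0,17,0,4,4,3,11,13,4]⟩,
  ⟨1,38,[3,7,13,7],18,[6,6,6,10,4,3,10,14,2]⟩,
  ⟨1,18,[2,1,3,4],38,[17,7,8,8,3,7,13,7]⟩,
  ⟨1,38,[3,4,6,5],18,[5,17,7,10,14,3,6,3]⟩,
  ⟨1,24,[2,1,9,2],38,[16,16,5,0,2,1,17]⟩,
  ⟨1,38,[3,5,15,9],38,[14,14,9,12,3,10,3]⟩,
  ⟨1,17,[2,14,14],38,[10,8,16,15,2,16,2,10]⟩,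
  ⟨1,38,[3,11,13,4,3],17,[4,8,15,2,14,14]⟩,
  ⟨1,4,[3,4,3,14,13],41,[]⟩,
  ⟨1,41,[],4,[3,4,3,14,13]⟩,
  ⟨0,41,[],41,[0,4,14,10,5]⟩,
  ⟨1,18,[3,5,12,6],41,[5,9,0,6,15,3,12,2]⟩,
  ⟨1,41,[3,13,2],18,[16,6,14,9,3,5,12,6]⟩,
  ⟨1,41,[3,9,9,2],41,[4,11,9,16,12,3,15,11,3]⟩,
  ⟨1,41,[3,15,11,3],41,[0,10,8,4,16,3,9,9,2]⟩,
  ⟨1,37,[3,5,2,14,4],41,[6,11,16,10,9,3,13,10,3]⟩,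
  ⟨1,41,[3,13,2,15],37,[7,11,7,11,16,3,5,2,14,4]⟩,
  ⟨1,17,[3,1,2,1,3],41,[6,11,11,17,10,2,12,14,2]⟩,
  ⟨1,12,[3,7,14,3,8],41,[0,12,10,9,4,3,12,2,1]⟩,
  ⟨1,41,[3,12,2,1],12,[4,4,9,6,8,3,7,14,3,8]⟩,
  ⟨1,41,[3,1,8,15],41,[4,6,14,7,10,3,1,8,15]⟩,
  ⟨1,41,[3,14,9],41,[4,6,14,7,10,3,14,9]⟩,
  ⟨1,41,[3,8,13,4],41,[7,0,13,6,3,8,13,4]⟩,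
  ⟨1,38,[3,1,9,3,15],41,[8,6,12,6,3,1,2,6,11]⟩,
  ⟨1,41,[3,7,14,4],41,[4,11,4,11,15,3,7,14,4]⟩,
  ⟨1,41,[3,4,9,7],41,[0,4,11,7,7,16,3,4,9,7]⟩,
  ⟨1,8,[3,1,2,1],42,[]⟩,
  ⟨1,42,[],8,[3,1,2,1]⟩,
  ⟨0,42,[],42,[5,10,15,5,6]⟩,
  ⟨0,42,[],42,[12,11,14,12,3,17,8,2]⟩,
  ⟨0,42,[],42,[5,16,10,16,10,3,1,13,2,1]⟩,
  ⟨1,18,[3,9,9],42,[0,14,10,13,3,13,2,4]⟩,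
  ⟨1,42,[3,4,10,17],18,[14,0,7,15,3,9,9]⟩,
  ⟨1,42,[3,1,2,1],42,[9,5,12,8,3,13,2]⟩,
  ⟨1,42,[3,8,4,8],42,[4,12,16,5,10,3,8,4,8]⟩,
  ⟨1,38,[3,7,5,7,2],42,[6,16,13,10,7,3,13,9,5]⟩,
  ⟨1,42,[3,13,9,5],38,[0,9,12,15,17,3,7,5,7,2]⟩,
  ⟨1,42,[3,1,3,6,9],42,[14,11,9,7,3,10,8,2]⟩,
  ⟨1,41,[3,12,12,2],42,[4,6,6,14,3,4,6,2]⟩,
  ⟨1,42,[3,15,9],41,[11,5,12,7,3,12,12,2]⟩,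
  ⟨1,42,[3,16,2,16],43,[]⟩,
  ⟨1,43,[],42,[3,16,2,16]⟩,
  ⟨0,43,[],43,[14,0,15]⟩,
  ⟨0,43,[],43,[4,7,4,17,6]⟩,
  ⟨0,43,[],43,[9,4,17,14,8]⟩,
  ⟨1,42,[3,8,13,2],43,[0,8,13,14,17,3,9,9,2,14]⟩,
  ⟨1,43,[3,1,4,15],43,[12,5,15,17,3,1,4,15]⟩,
  ⟨1,8,[3,5,12,2,6],45,[]⟩,
  ⟨1,45,[],8,[3,5,12,2,6]⟩,
  ⟨0,45,[],45,[4,8,6,9,14]⟩,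
  ⟨1,24,[2,16,2,7],45,[12,15,8,3,6,1,5]⟩,
  ⟨1,45,[3,6,1,5],24,[9,14,13,2,16,2,7]⟩,
  ⟨1,41,[3,7,10,17],45,[0,11,16,10,15,3,16,1]⟩,
  ⟨1,40,[3,5,8,3],45,[9,0,12,14,3,11,2,16]⟩,
  ⟨1,45,[3,11,2,16],40,[15,0,12,8,3,5,8,3]⟩,
  ⟨1,8,[3,14,3],45,[5,0,15,7,11,3,1,15,9,3]⟩,
  ⟨1,45,[3,1,15,9,3],8,[0,14,4,16,15,3,14,3]⟩,
  ⟨1,18,[3,1,4,10,2],45,[5,15,9,4,3,11,3,14,2]⟩]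
def G8 : List Fact := [⟨1,45,[3,11,3,14,2],18,[5,8,14,4,3,1,4,10,2]⟩,
  ⟨1,25,[3,13,4,3],41,[6,11,6,16,9,3,1,3,6,8]⟩,
  ⟨1,8,[3,6,10,2,8],47,[]⟩,
  ⟨1,47,[],8,[3,6,10,2,8]⟩,
  ⟨0,47,[],47,[4,0,11,9,17]⟩,
  ⟨1,13,[3,4,3,7],47,[4,14,11,6,16,2,14,16,2]⟩,
  ⟨1,45,[3,13],47,[16,4,11,7,3,13,2,4]⟩,
  ⟨1,47,[3,13,2,15],45,[7,10,4,17,13,3,13]⟩,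
  ⟨0,47,[],47,[4,8,7,10,3,12,2,7]⟩,
  ⟨1,47,[2,4],47,[11,8,10,3,5,6,10]⟩,
  ⟨1,47,[3,4,8,13],47,[8,15,17,7,8,3,4,8,13]⟩,
  ⟨1,47,[2,7,11],47,[8,0,13,9,2,7,11]⟩,
  ⟨1,8,[3,1,3,15,3],48,[]⟩,
  ⟨1,8,[3,5,12,5,3],49,[]⟩,
  ⟨1,49,[],8,[3,5,12,5,3]⟩,
  ⟨0,49,[],49,[5,6,0,6]⟩,
  ⟨1,48,[3,1,13,2,7],49,[10,0,16,9,3,13,10,3]⟩,
  ⟨1,49,[3,13,10,3],48,[5,9,14,11,3,1,13,2,7]⟩,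
  ⟨1,18,[3,1,6,5,3],49,[4,16,4,8,17,3,4,10,17,3]⟩,
  ⟨0,49,[],49,[4,9,10,9,14,3,17,8,2]⟩,
  ⟨1,48,[3,11,12,10],49,[4,17,7,8,2,11,2]⟩,
  ⟨1,49,[2,11,2],48,[9,6,16,5,3,11,12,10]⟩,
  ⟨1,48,[3,5,15],49,[7,15,15,8,10,2,7,14]⟩,
  ⟨1,49,[2,7,14],48,[0,4,4,6,10,3,5,15]⟩,
  ⟨1,8,[3,5,3,1,11],50,[]⟩,
  ⟨1,50,[],8,[3,5,3,1,11]⟩,
  ⟨0,50,[],50,[10,15,5,16]⟩,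
  ⟨1,8,[3,14,2,12],50,[11,17,12,10,2,12,14,2]⟩,
  ⟨1,38,[3,8,3],50,[4,16,14,3,12,2,4]⟩,
  ⟨1,42,[3,1,3,1,2],50,[4,7,9,12,14,3,5,7,10]⟩,
  ⟨1,50,[3,5,7,10],42,[0,13,7,0,16,3,1,3,1,2]⟩,
  ⟨1,8,[3,1,8,10,2],51,[]⟩,
  ⟨1,51,[],8,[3,1,8,10,2]⟩,
  ⟨0,51,[],51,[5,11,14,13,6]⟩,
  ⟨1,51,[3,13,2,9],51,[9,15,7,14,3,13,2,9]⟩,
  ⟨1,13,[3,5,2,11,13],51,[0,9,11,6,17,3,1,13,2,13]⟩,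
  ⟨0,51,[],51,[0,4,7,8,4,3,1,2,13]⟩,
  ⟨0,51,[],51,[0,16,6,16,3,12,2,5]⟩,
  ⟨1,37,[3,9,6],51,[6,9,14,8,5,3,9,9,2]⟩,
  ⟨1,51,[3,9,9,2],37,[0,17,0,9,13,3,9,6]⟩,
  ⟨1,51,[3,1,8,10,2],51,[8,12,4,9,3,12,6,17]⟩,
  ⟨1,51,[2,9,15,5],51,[5,8,8,4,3,1,10,3]⟩,
  ⟨1,51,[3,1,10,3],51,[5,8,8,4,2,9,15,5]⟩,
  ⟨1,37,[3,5,7,10,2],51,[0,13,7,0,16,3,1,15]⟩,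
  ⟨1,51,[2,13,11],37,[16,10,16,7,3,5,7,10,2]⟩,
  ⟨1,18,[3,1,3,5,3],51,[15,6,12,14,3,1,15,11]⟩,
  ⟨1,51,[3,5,12,9],18,[4,7,11,6,0,3,1,3,5,3]⟩,
  ⟨1,37,[3,1,17,6],51,[0,9,12,16,15,3,1,2,7,14]⟩,
  ⟨1,51,[2,8,13],37,[0,8,14,10,5,3,1,17,6]⟩,
  ⟨1,51,[3,6,8],51,[5,7,5,10,3,1,2,9]⟩,
  ⟨1,51,[2,9,10],51,[4,10,15,6,12,2,9,10]⟩,
  ⟨1,51,[2,1,2],51,[10,6,13,14,17,2,1,2]⟩,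
  ⟨1,51,[3,5,1,7,3],51,[17,13,6,3,5,1,7,3]⟩,
  ⟨1,51,[3,4,2,1,17],52,[]⟩,
  ⟨1,52,[],51,[3,4,2,1,17]⟩,
  ⟨0,52,[],52,[12,11,5,16]⟩,
  ⟨0,52,[],52,[0,17,15,16,4]⟩,
  ⟨1,51,[3,1,8,15,3],52,[11,6,8,4,3,1,13,2,7]⟩,
  ⟨0,52,[],52,[17,14,4,8,3,1,13,2,13]⟩,
  ⟨0,52,[],52,[4,12,10,12,17,3,5,7,5]⟩,
  ⟨1,51,[3,1,14,3,6],52,[17,7,15,16,3,13,2]⟩,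
  ⟨1,52,[3,1,2],52,[0,13,7,0,16,3,12,2]⟩,
  ⟨1,52,[3,1,7,11],53,[]⟩,
  ⟨1,53,[],52,[3,1,7,11]⟩]
def G9 : List Fact := [⟨0,53,[],53,[0,5,17,14,16]⟩,
  ⟨0,53,[],53,[0,16,15,5,11]⟩,
  ⟨0,53,[],53,[0,10,15,7]⟩,
  ⟨0,53,[],53,[4,8,0,15,9]⟩,
  ⟨1,52,[2,1],53,[4,4,0,9,13,3,1,13,2]⟩,
  ⟨1,51,[3,5,12,8],54,[]⟩,
  ⟨1,54,[],51,[3,5,12,8]⟩,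
  ⟨0,54,[],54,[0,5,17,14,16]⟩,
  ⟨0,54,[],54,[5,12,10,10]⟩,
  ⟨0,54,[],54,[0,16,14,8,16]⟩,
  ⟨1,51,[2,17,10],54,[0,14,13,16,3,12,2,7]⟩,
  ⟨1,54,[3,1,13,2],51,[0,11,0,8,2,17,10]⟩,
  ⟨1,51,[2,4,1],54,[4,8,4,4,7,3,9,9,2]⟩,
  ⟨1,54,[3,1,10,17],54,[0,15,4,17,5,3,6,8,1]⟩,
  ⟨1,53,[3,15,11],54,[5,0,8,5,2,16,9]⟩,
  ⟨1,25,[3,5,9,2,12],54,[15,15,15,17,2,6,13]⟩,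
  ⟨1,54,[3,15,11],25,[8,0,7,12,3,5,9,2,12]⟩,
  ⟨1,37,[3,10,8,3,14],54,[0,16,13,9,12,3,5,11,11]⟩,
  ⟨1,54,[3,9,3,1],37,[5,15,4,9,3,10,8,3,14]⟩,
  ⟨1,51,[3,11,1,2,1],54,[10,16,13,7,2,1,3,15]⟩,
  ⟨1,54,[2,1,3,15],51,[6,12,17,11,3,11,1,2,1]⟩,
  ⟨1,51,[3,1,3,14,10],54,[13,4,6,12,3,8,14,10]⟩,
  ⟨1,50,[3,6,10,3],54,[7,5,13,10,3,5,2,7,16]⟩,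
  ⟨1,54,[3,14,12,2],50,[0,17,6,14,3,6,10,3]⟩,
  ⟨1,51,[3,4,6,2,10],53,[4,14,10,4,2,13,11]⟩,
  ⟨1,53,[3,13,11,11],51,[5,0,5,11,16,3,4,6,2,10]⟩,
  ⟨1,52,[3,5,9,6,3],53,[7,0,15,5,10,3,1,2,5]⟩,
  ⟨1,54,[3,5,15,13],52,[0,8,17,6,9,3,4,3,8,12]⟩,
  ⟨1,52,[2],54,[14,16,7,7,3,5,15,13]⟩,
  ⟨1,8,[3,4,6,2,8],55,[]⟩,
  ⟨1,55,[],8,[3,4,6,2,8]⟩,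
  ⟨0,55,[],55,[12,5,15,17]⟩,
  ⟨1,13,[3,8,1,2],55,[5,0,15,10,6,3,17,8,2]⟩,
  ⟨1,55,[3,17,8,2],13,[7,11,14,0,4,3,8,1,2]⟩,
  ⟨1,39,[2,7,11,11],55,[12,17,12,3,1,15,12,3]⟩,
  ⟨1,55,[3,1,15,12,3],39,[13,16,13,2,7,11,11]⟩,
  ⟨1,39,[2,8],55,[0,6,10,14,12,3,1,13,2]⟩,
  ⟨0,55,[],55,[10,4,6,4,3,1,2,6,11]⟩,
  ⟨1,55,[3,1,2,1],55,[5,14,11,8,12,3,13,2]⟩,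
  ⟨0,55,[],55,[7,7,16,11,3,7,14,3,4]⟩,
  ⟨1,47,[2,7,3,17,10],55,[5,10,0,4,15,3,17,13]⟩,
  ⟨1,55,[3,7,16,13],47,[10,16,5,5,2,7,3,17,10]⟩,
  ⟨1,39,[3,5,8,1,2],55,[0,13,9,12,5,3,7,7,12]⟩,
  ⟨1,18,[3,4,13,11],55,[0,9,14,12,3,8,14,5]⟩,
  ⟨1,55,[3,16,2,11],18,[4,6,6,4,3,4,13,11]⟩,
  ⟨1,55,[3,13,2,11,2],55,[8,5,5,8,12,3,1,6]⟩,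
  ⟨1,39,[2,1,13,2],55,[6,0,6,0,10,3,15,16]⟩,
  ⟨1,55,[2,13,9],39,[0,6,10,15,10,2,1,13,2]⟩,
  ⟨1,55,[2,13,16],55,[5,13,7,14,11,2,13,16]⟩,
  ⟨1,55,[3,5,3,12,8],55,[13,8,12,8,3,7,4]⟩,
  ⟨1,24,[3,7,14,2],55,[8,4,6,14,7,3,15,2,1]⟩,
  ⟨1,55,[3,5,13,10],24,[17,4,9,17,3,7,14,2]⟩,
  ⟨1,29,[3,8,15,7],55,[8,8,4,16,3,5,1,3,12]⟩,
  ⟨1,55,[3,4,2,5,14],29,[7,12,5,16,3,8,15,7]⟩,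
  ⟨1,29,[3,6],55,[8,4,15,10,3,14,3,10]⟩,
  ⟨1,55,[2,6,11],55,[0,4,4,8,12,3,4,14]⟩,
  ⟨1,55,[3,4,14],55,[4,15,12,7,7,2,6,11]⟩,
  ⟨1,47,[3,1,14,17,2],55,[9,10,16,10,3,7,8,12]⟩,
  ⟨1,55,[3,4,3,5,5],47,[9,0,13,7,14,3,1,14,17,2]⟩,
  ⟨1,47,[3,15,15,2],55,[6,6,16,16,2,5,3,5]⟩,
  ⟨1,55,[3,4,15,3,14],47,[12,16,16,6,3,15,15,2]⟩,
  ⟨1,55,[3,9,3,5],55,[8,7,13,5,11,3,9,3,5]⟩,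
  ⟨1,55,[3,7,17],55,[4,8,6,4,7,3,6,9,2,9]⟩,
  ⟨1,55,[3,1,15,8],56,[]⟩]
def G10 : List Fact := [⟨1,56,[],55,[3,1,15,8]⟩,
  ⟨0,56,[],56,[6,5,16,10,8]⟩,
  ⟨0,56,[],56,[0,8,0,9,0]⟩,
  ⟨0,56,[],56,[0,9,14,12,7]⟩,
  ⟨1,55,[3,1,4,2],56,[0,11,9,7,0,3,1,13,2]⟩,
  ⟨0,56,[],56,[11,16,6,16,3,9,9,2]⟩,
  ⟨1,56,[3,12,2,6],56,[10,0,12,11,3,12,2,6]⟩,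
  ⟨1,25,[3,1,5,2,1],56,[17,14,16,12,3,6,14]⟩,
  ⟨1,56,[3,5,15,11],56,[5,12,4,13,17,3,8,4,7]⟩,
  ⟨0,56,[],56,[9,17,15,12,3,1,3,10,7]⟩,
  ⟨1,56,[3,7,5,14],56,[8,13,14,2,8,5]⟩,
  ⟨1,56,[3,9,15,8],57,[]⟩,
  ⟨1,57,[],56,[3,9,15,8]⟩,
  ⟨0,57,[],57,[7,12,14,13]⟩,
  ⟨0,57,[],57,[7,17,12,10]⟩,
  ⟨0,57,[],57,[0,5,15,10,3,13,2,10]⟩,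
  ⟨0,57,[],57,[11,6,15,15,6,3,12,2,16]⟩,
  ⟨1,55,[3,1,6,17,3],58,[]⟩,
  ⟨1,58,[],55,[3,1,6,17,3]⟩,
  ⟨1,55,[3,4,3,16,9],58,[5,14,17,6,13,3,13,2,9]⟩,
  ⟨0,58,[],58,[7,10,14,4,2,15,13]⟩,
  ⟨1,55,[3,1,3,6,9],58,[4,9,16,4,3,13,2,14]⟩,
  ⟨1,57,[3],58,[0,12,12,3,5,15,4]⟩,
  ⟨1,58,[3,5,15,4],57,[0,12,12,3]⟩,
  ⟨1,56,[3,1,9,2],58,[7,9,6,6,17,3,7,8,5]⟩,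
  ⟨1,58,[2,11,8],56,[5,8,14,17,3,1,9,2]⟩,
  ⟨1,8,[3,1,9,1],59,[]⟩,
  ⟨1,59,[],8,[3,1,9,1]⟩,
  ⟨1,18,[3,15,11,2],59,[7,10,0,8,0,3,15,11,3]⟩,
  ⟨1,59,[3,15,11,3],18,[0,9,0,11,6,3,15,11,2]⟩,
  ⟨0,59,[],59,[13,17,15,12,3,4,10,17]⟩,
  ⟨1,8,[3,5,15,2,6],60,[]⟩,
  ⟨1,60,[],8,[3,5,15,2,6]⟩,
  ⟨0,60,[],60,[4,11,5,12]⟩,
  ⟨1,50,[2,14,16,2],60,[17,6,16,9,3,1,13,2,7]⟩,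
  ⟨1,24,[3,1,8,10,2],60,[10,0,17,6,3,13,2,12]⟩,
  ⟨1,60,[3,13,2,12],24,[0,16,13,15,3,1,8,10,2]⟩,
  ⟨0,60,[],60,[7,7,7,7,13,3,1,13,2,1]⟩,
  ⟨1,18,[2,13,2,17],60,[6,10,15,15,16,3,12,2,5]⟩,
  ⟨1,60,[3,7,15,7],60,[4,6,9,10,4,3,7,15,7]⟩,
  ⟨1,60,[3,4,6,6],60,[5,12,9,16,7,3,4,6,6]⟩,
  ⟨1,60,[2,17,9,10],60,[10,13,11,16,11,2,17,9,10]⟩,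
  ⟨1,60,[3,1,3,12,8],60,[8,5,12,11,13,3,5,8,13]⟩,
  ⟨1,60,[3,5,2,6,10],60,[0,5,7,3,5,2,6,10]⟩,
  ⟨1,60,[3,5,10,16],60,[10,14,8,6,3,1,4,4]⟩,
  ⟨1,60,[2,9,3,6],60,[0,4,8,17,2,9,3,6]⟩,
  ⟨1,60,[3,6,9,2,12],60,[9,0,8,3,6,9,2,12]⟩,
  ⟨1,60,[3,6,11,3,7],60,[5,9,0,6,3,11,3,15]⟩,
  ⟨1,60,[3,11,3,15],60,[7,0,8,4,3,6,11,3,7]⟩,
  ⟨1,60,[3,4,7,16],60,[4,4,7,11,3,4,7,16]⟩,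
  ⟨1,60,[3,5,2,11,4],60,[5,14,11,9,16,3,5,2,11,4]⟩,
  ⟨1,38,[3,5,3,6,9],60,[0,7,15,10,17,2,1,17,3,5]⟩,
  ⟨1,60,[2,1,17,3,5],38,[0,5,6,10,7,3,5,3,6,9]⟩,
  ⟨1,38,[2,1,8],60,[0,13,15,15,7,3,1,9,3,7]⟩,
  ⟨1,60,[3,1,9,3,7],38,[5,12,16,15,13,2,1,8]⟩,
  ⟨1,41,[3,12,14],60,[4,9,13,6,13,2,13,3,9]⟩,
  ⟨1,60,[3,7,17,3],41,[0,9,10,6,3,12,14]⟩,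
  ⟨1,41,[3,5,11,2,15],60,[0,7,13,7,7,3,4,12,17]⟩,
  ⟨1,60,[3,4,12,17],41,[0,10,0,14,12,3,5,11,2,15]⟩,
  ⟨1,41,[2,7,3,6],60,[8,6,4,10,15,3,1,2,6,11]⟩,
  ⟨1,8,[3,16,2,8],61,[]⟩,
  ⟨1,61,[],8,[3,16,2,8]⟩,
  ⟨0,61,[],61,[11,13,15,15]⟩,
  ⟨1,13,[3,4,16,1,2],61,[8,7,11,13,3,12,2,7]⟩]
def G11 : List Fact := [⟨1,61,[3,1,13,2],13,[0,4,16,5,7,3,4,16,1,2]⟩,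
  ⟨0,61,[],61,[4,12,17,7,2,12,14,2]⟩,
  ⟨0,61,[],61,[14,6,11,14,3,9,9,2]⟩,
  ⟨1,8,[3,4,3,9],61,[4,15,8,0,9,3,6,10,8]⟩,
  ⟨1,17,[3,1,15,8],61,[9,10,5,14,2,6,6]⟩,
  ⟨1,61,[2,6,6],17,[15,4,11,8,3,1,15,8]⟩,
  ⟨1,18,[2,11,13],61,[8,11,5,5,17,3,7,15,13]⟩,
  ⟨1,54,[3,9,1],61,[0,5,12,10,5,3,7,15,7]⟩,
  ⟨1,61,[3,15,11],54,[11,5,16,8,3,9,1]⟩,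
  ⟨1,61,[2,11,12,2],61,[0,13,10,5,17,3,5,8,15]⟩,
  ⟨1,61,[3,5,8,15],61,[5,16,0,4,16,2,11,12,2]⟩,
  ⟨1,54,[3,10,9],61,[0,4,17,9,14,3,13,4,16]⟩,
  ⟨1,61,[3,13,4,16],54,[4,6,15,0,16,3,10,9]⟩,
  ⟨1,18,[3,5,1,7],61,[9,12,9,13,2,4,2,6]⟩,
  ⟨1,61,[3,16,16,2,8],18,[6,17,9,11,3,5,1,7]⟩,
  ⟨1,25,[3,14,14,11],61,[5,15,10,14,16,3,9,3,1]⟩,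
  ⟨1,61,[3,9,3,1],25,[0,10,14,6,9,3,14,14,11]⟩,
  ⟨1,25,[3,1,4,3],61,[0,6,11,12,16,3,17,15,16]⟩,
  ⟨1,61,[3,17,15,16],25,[0,6,12,8,4,3,1,4,3]⟩,
  ⟨1,41,[3,5,3,4,12],61,[4,8,16,5,12,2,16]⟩,
  ⟨1,61,[2,14,13],41,[16,8,5,13,3,5,3,4,12]⟩,
  ⟨1,13,[3,4,3,14,3],61,[7,15,17,0,17,3,5,6,3,6]⟩,
  ⟨1,61,[3,5,6,3,6],13,[10,13,7,17,17,3,4,3,14,3]⟩,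
  ⟨1,61,[2,11,8,3],61,[0,17,11,8,17,3,5,2,13,7]⟩,
  ⟨1,8,[3,1,3],61,[4,13,11,7,16,3,1,3,13,13]⟩,
  ⟨1,61,[3,6,1,2,1],8,[17,15,6,8,3,1,3]⟩,
  ⟨1,47,[3,4,6,3,12],61,[7,16,7,17,7,3,7,17,13]⟩,
  ⟨1,61,[3,1,2,1,3],47,[0,6,16,8,3,4,6,3,12]⟩,
  ⟨1,32,[2,14,14,2],61,[6,10,16,13,3,1,8,2,8]⟩,
  ⟨1,61,[3,1,7,12],32,[5,11,6,5,2,14,14,2]⟩,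
  ⟨1,61,[3,7,2,16],61,[4,10,15,6,12,3,7,2,16]⟩,
  ⟨1,25,[2,13,16,2],61,[17,8,7,7,3,1,17,2]⟩,
  ⟨1,61,[3,1,17,2],25,[6,6,9,16,2,13,16,2]⟩,
  ⟨1,56,[2,4,3,9],61,[4,14,9,4,4,3,12,17,2]⟩,
  ⟨1,61,[3,1,13,17,2],56,[5,8,5,17,2,4,3,9]⟩,
  ⟨1,61,[2,4,2,12],61,[5,0,11,4,13,3,1,5,5]⟩,
  ⟨1,45,[2,1,3,4],61,[0,17,0,17,17,3,1,4]⟩,
  ⟨1,51,[2,7,1],45,[4,0,5,12,7,2,5,10,3]⟩,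
  ⟨1,45,[2,5,10,3],51,[0,7,4,11,8,2,7,1]⟩,
  ⟨1,61,[3,8,1,3],45,[14,17,17,10,3,5,3,7,12]⟩,
  ⟨1,45,[3,5,3,7,12],61,[11,16,16,15,3,8,1,3]⟩,
  ⟨1,40,[3,1,7,3,17],45,[8,6,10,9,3,5,3,14,6]⟩,
  ⟨1,51,[3,16,5,3],40,[4,8,14,13,8,2,6,5,2]⟩,
  ⟨1,40,[3,13,8],51,[11,15,0,4,8,3,16,5,3]⟩,
  ⟨1,51,[3,15,15,3],40,[7,4,4,6,3,7,5,17]⟩,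
  ⟨1,59,[3,1,9,15],51,[0,16,12,8,15,3,15,9,3]⟩,
  ⟨1,37,[3,5,15,3,12],59,[7,8,6,5,3,10,4,9]⟩,
  ⟨1,24,[3,5,6,2,15],37,[15,5,11,14,3,11,2,17,8]⟩,
  ⟨1,51,[3,7,4,2,1],24,[0,8,15,17,12,2,9,3,6]⟩,
  ⟨1,42,[3,5,12],51,[8,10,7,7,3,11,3,9,15]⟩,
  ⟨1,52,[3,16,2,14],42,[4,10,13,9,14,3,1,16,8]⟩,
  ⟨1,45,[3,1,6,4,2],52,[8,6,15,0,2,7,3,11]⟩,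
  ⟨1,50,[3,11,2,1,4],45,[5,14,4,6,3,8,1,9]⟩,
  ⟨1,45,[3,1,9,13],50,[0,7,0,7,8,3,11,2,1,4]⟩,
  ⟨1,43,[3,1,2],45,[0,6,6,4,10,3,5,3,12,16]⟩,
  ⟨1,38,[3,11,16,3,16],43,[0,8,12,10,3,17,3,8,3]⟩,
  ⟨1,43,[3,5,11,3,11],38,[5,9,14,8,7,3,11,16,3,16]⟩,
  ⟨1,60,[3,8,3,17,11],43,[9,14,5,8,3,13,8,2,11]⟩,
  ⟨1,43,[3,5,14,3,11],60,[0,13,15,15,0,3,8,3,17,11]⟩,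
  ⟨1,45,[3,1,9,3,4],43,[5,15,9,7,3,4,2,12,11]⟩,
  ⟨1,43,[3,5,6,2,15],45,[5,5,10,13,9,3,1,9,3,4]⟩,
  ⟨1,48,[2,15,17],43,[0,17,13,13,6,3,5,14,12]⟩,
  ⟨0,43,[],48,[4,6,14,4,9,3,1,9,2,17]⟩,
  ⟨1,43,[3,4,6,15],49,[4,14,9,17,17,3,13,10,3]⟩]
def G12 : List Fact := [⟨0,49,[],49,[4,7,5,7,15,3,11,2,1,4]⟩,
  ⟨1,43,[3,5,6,17],49,[0,5,12,2,7,14]⟩,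
  ⟨1,49,[2,9,2,14],60,[4,0,12,15,4,3,7,17,2]⟩,
  ⟨1,41,[2,4],49,[5,7,15,12,11,2,12,14]⟩,
  ⟨1,49,[3],41,[8,10,5,10,7,2,4]⟩,
  ⟨1,8,[2,9,2,12],47,[4,15,9,17,3,10,16,14,3]⟩,
  ⟨1,47,[3,14,10,2],8,[15,15,12,10,2,9,2,12]⟩,
  ⟨1,49,[3,13,2,12],47,[5,9,0,14,17,3,8,7,2,6]⟩,
  ⟨1,47,[2,5,13,3],49,[0,9,17,4,13,3,13,2,12]⟩,
  ⟨1,60,[2,13,9,3],47,[0,4,16,0,10,3,11,13,4,3]⟩,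
  ⟨1,55,[3,1,9,2,17],60,[13,9,11,7,3,1,3,5,16]⟩,
  ⟨1,55,[3,10,8,2,6],60,[14,11,14,4,3,6,2,13,14]⟩,
  ⟨1,60,[3,6,2,13,14],55,[5,15,10,15,3,10,8,2,6]⟩,
  ⟨1,18,[3,8,1],60,[0,8,13,7,14,3,15,16,3]⟩,
  ⟨1,60,[3,5,6,3,11],18,[10,15,7,16,16,3,8,1]⟩,
  ⟨1,18,[3,8,11,9],60,[4,17,5,3,1,17,9,3]⟩,
  ⟨1,60,[3,1,17,9,3],18,[4,16,5,3,8,11,9]⟩,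
  ⟨1,8,[3,1,3,14,10],60,[7,7,4,11,0,3,17,2]⟩,
  ⟨1,60,[3,11,14,4,3],8,[5,12,14,0,3,1,3,14,10]⟩,
  ⟨1,20,[3,1,4,17],60,[7,16,4,17,3,6,9,16]⟩,
  ⟨1,55,[2,13,2,9],20,[4,12,6,12,10,3,9,5]⟩,
  ⟨1,20,[3,8,6,13],55,[0,7,7,16,4,2,13,2,9]⟩,
  ⟨1,18,[3,6,2,15],20,[0,9,4,10,8,3,11,14,2]⟩,
  ⟨1,20,[3,11,14,2],18,[4,9,4,13,7,3,6,2,15]⟩,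
  ⟨1,14,[2,13,3,10],20,[5,11,16,11,8,2,1,2,10]⟩,
  ⟨1,20,[3,1,3,4,11],14,[17,0,8,4,2,13,3,10]⟩,
  ⟨1,30,[2,13,3,13,9],20,[0,6,13,4,9,3,7,17,13]⟩,
  ⟨1,21,[3,5,8,1,3],30,[10,6,0,3,6,1,3,4]⟩,
  ⟨1,30,[3,6,1,3,4],21,[0,7,11,3,5,8,1,3]⟩,
  ⟨1,17,[3,1,3,8,4],30,[0,5,5,10,6,3,4,3,4,3]⟩,
  ⟨1,30,[3,4,3,4,3],17,[5,5,10,17,9,3,1,3,8,4]⟩,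
  ⟨1,26,[3,9,7,14],30,[4,11,6,11,3,5,12,3]⟩,
  ⟨1,18,[3,1,5,11],26,[5,14,11,12,6,3,1,4,8,3]⟩,
  ⟨1,26,[3,11,2,10,15],18,[5,12,12,11,4,3,1,5,11]⟩,
  ⟨1,32,[2,5,2,16,3],26,[14,0,12,5,3,4,6,2,4]⟩,
  ⟨1,26,[3,5,15,3,1],32,[8,14,10,5,3,17,2,12]⟩,
  ⟨1,39,[3,16,2,16],26,[0,15,6,8,16,3,1,2,12]⟩,
  ⟨1,12,[3,1,3],39,[8,13,4,4,3,1,5,16,3]⟩,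
  ⟨1,55,[3,5,2,8,1],12,[17,15,6,16,3,4,2,6,5]⟩,
  ⟨1,11,[3,1,17,9],55,[4,4,14,17,0,3,10,8,2]⟩,
  ⟨0,58,[],11,[12,15,11,11,3,9,9]⟩,
  ⟨0,57,[],15,[8,12,14,10,2,8,17,14]⟩,
  ⟨0,56,[],19,[4,6,10,3,1,11,13]⟩,
  ⟨1,19,[3,11,3,13,17],19,[7,17,17,6,3,5,15,3,12]⟩]
def GG : List (List Fact) := [G0, G1, G2, G3, G4, G5, G6, G7, G8, G9, G10, G11, G12]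
def FN : ℕ → Fact := fget GG
def AN : List Fact := [⟨1,0,[],1,[]⟩, ⟨1,1,[3,1,2],2,[]⟩, ⟨1,2,[3,12,12,2],3,[]⟩, ⟨1,1,[3],4,[]⟩, ⟨1,2,[3,1,15,8],5,[]⟩, ⟨1,2,[2,5,3,6],6,[]⟩, ⟨1,3,[3],7,[]⟩, ⟨1,1,[3,1,3],8,[]⟩, ⟨1,4,[3,9,2,16],9,[]⟩, ⟨1,2,[2,17,14],10,[]⟩, ⟨1,5,[2,7,1],11,[]⟩, ⟨1,4,[3,7,1,14],12,[]⟩, ⟨1,2,[2,1,3],13,[]⟩, ⟨1,2,[3,10,2,13],14,[]⟩, ⟨1,11,[3,1,2,7],15,[]⟩, ⟨1,4,[3,4,3,1,2],16,[]⟩, ⟨1,4,[3,13,7,14],17,[]⟩, ⟨1,4,[2,6,1,11],18,[]⟩, ⟨1,7,[3,1,2,11,4],19,[]⟩, ⟨1,4,[3,14,3,1],20,[]⟩, ⟨1,9,[2],21,[]⟩, ⟨1,2,[3],24,[]⟩, ⟨1,4,[3,5,8,11],25,[]⟩, ⟨1,4,[3,5,12,2,6],26,[]⟩, ⟨1,4,[2,16,9],28,[]⟩, ⟨1,4,[3,6,11,3],29,[]⟩, ⟨1,4,[2,15,9,3],30,[]⟩,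 ⟨1,6,[3,16,2,14],31,[]⟩, ⟨1,8,[2,4,11,2],32,[]⟩, ⟨1,4,[3],37,[]⟩, ⟨1,4,[3,1,3],38,[]⟩, ⟨1,4,[2,17,14],39,[]⟩, ⟨1,4,[3,7,2,16,11],40,[]⟩, ⟨1,4,[3,4,3,14,13],41,[]⟩, ⟨1,8,[3,1,2,1],42,[]⟩, ⟨1,42,[3,16,2,16],43,[]⟩, ⟨1,8,[3,5,12,2,6],45,[]⟩, ⟨1,8,[3,6,10,2,8],47,[]⟩, ⟨1,8,[3,1,3,15,3],48,[]⟩, ⟨1,8,[3,5,12,5,3],49,[]⟩, ⟨1,8,[3,5,3,1,11],50,[]⟩, ⟨1,8,[3,1,8,10,2],51,[]⟩, ⟨1,51,[3,4,2,1,17],52,[]⟩, ⟨1,52,[3,1,7,11],53,[]⟩, ⟨1,51,[3,5,12,8],54,[]⟩, ⟨1,8,[3,4,6,2,8],55,[]⟩, ⟨1,55,[3,1,15,8],56,[]⟩, ⟨1,56,[3,9,15,8],57,[]⟩, ⟨1,55,[3,1,6,17,3],58,[]⟩, ⟨1,8,[3,1,9,1],59,[]⟩, ⟨1,8,[3,5,15,2,6],60,[]⟩, ⟨1,8,[3,16,2,8],61,[]⟩]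
def PN : List (ℕ × Word) := [(0,[]), (0,[]), (1,[3,1,2]), (2,[3,12,12,2]), (1,[3]), (2,[3,1,15,8]), (2,[2,5,3,6]), (3,[3]), (1,[3,1,3]), (4,[3,9,2,16]), (2,[2,17,14]), (5,[2,7,1]), (4,[3,7,1,14]), (2,[2,1,3]), (2,[3,10,2,13]), (11,[3,1,2,7]), (4,[3,4,3,1,2]), (4,[3,13,7,14]), (4,[2,6,1,11]), (7,[3,1,2,11,4]), (4,[3,14,3,1]), (9,[2]), (9,[3,15,11]), (7,[2,1,3]), (2,[3]), (4,[3,5,8,11]), (4,[3,5,12,2,6]), (23,[3,1,2,5,6]), (4,[2,16,9]), (4,[3,6,11,3]), (4,[2,15,9,3]), (6,[3,16,2,14]), (8,[2,4,11,2]), (8,[3,11,9,2]), (8,[3,1,3,8,2]), (8,[3,15,2,5]), (8,[3,7,2,9,16]), (4,[3]), (4,[3,1,3]), (4,[2,17,14]), (4,[3,7,2,16,11]), (4,[3,4,3,14,13]),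 (8,[3,1,2,1]), (42,[3,16,2,16]), (42,[2,13,16]), (8,[3,5,12,2,6]), (8,[3,17,10,9]), (8,[3,6,10,2,8]), (8,[3,1,3,15,3]), (8,[3,5,12,5,3]), (8,[3,5,3,1,11]), (8,[3,1,8,10,2]), (51,[3,4,2,1,17]), (52,[3,1,7,11]), (51,[3,5,12,8]), (8,[3,4,6,2,8]), (55,[3,1,15,8]), (56,[3,9,15,8]), (55,[3,1,6,17,3]), (8,[3,1,9,1]), (8,[3,5,15,2,6]), (8,[3,16,2,8])]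
def fin (j : ℕ) (h : Word) (s : St) : Bool := decide (s.c = j ∧ s.ls = []) && eqQ lk B (s.u, h)
def ED : List (ℕ × Word × ℕ × Word × List (ℕ × Word)) := [(0, [], 3, [4,13,7,13,11], [(2,[]),(26,[12,6,12,3]),(54,[2,11,5,11,9])]),
  (3, [4,13,7,13,11], 0, [8,8,15,7,16], [(58,[2,11,5,11,9]),(88,[]),(88,[]),(88,[]),(30,[5,0,13,6]),(6,[6,6,13,5,14])]),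
  (57, [4,3,7], 57, [5,15,15,9,16,3,1,2,13,3], [(2625,[]),(2621,[]),(2610,[2,0,5,3,14]),(3240,[]),(989,[]),(960,[]),(3246,[0,5,0,13,3]),(998,[3,9,3,3,15]),(3237,[])]),
  (3, [10,4,15,13,11,3,17,17,3], 3, [0,9,0,14,8,3], [(64,[]),(262,[12,11,3,9]),(237,[]),(241,[]),(1334,[11,3,9,5]),(1673,[]),(270,[0,7,0,12,6])]),
  (3, [9,12,15,12,14,3,6,8,3], 57, [5,12,12,8,4,3], [(96,[]),(60,[]),(206,[7,10,13,8]),(470,[8,3,4,9]),(3233,[]),(2654,[0,9,3,13,6])]),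
  (3, [0,17,10,16,3,1,16,12], 3, [9,7,8,14,2], [(72,[]),(72,[]),(206,[3,13,7,0,13]),(218,[4,15,2,13]),(210,[2,14,12,15,2])]),
  (57, [0,9,6,15,7,3,5,11,1], 3, [6,6,16,8,3], [(2613,[]),(2621,[]),(2621,[]),(2625,[]),(2610,[3,9,15,5,12]),(3240,[]),(968,[]),(958,[0,2,11,2,11]),(270,[4,4,14,6])])]
theorem hED : lall ED (fun e => walk2 lk B KW KW FN 812 (fin e.2.2.1 e.2.2.2.1) e.2.2.2.2 ⟨e.1, e.2.1, R0⟩) = true := by decide +kernel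
end
end CA.J4N
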