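import Cfsg.Agent.Lib.Spor.J4N0

/-! Double cosets of `M₂₄` in `J₄`: derivations. -/

set_option autoImplicit false
set_option maxRecDepth 100000
set_option linter.all false
namespace CA.J4N
open CA.CNet CA.CWord CA.CLevel CA.CSimple CA.CPoint CA.CLow CA.CTodd CA.TCos CA.J4M
noncomputable section

def E0 : List (ℕ × Word × List (ℕ × Word) × Word) := [(100,[],[],[]),
  (1,[],[(2,[])],[]),
  (1,[],[(6,[]),(3,[0]),(2,[0])],[]),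
  (1,[],[(6,[]),(3,[2]),(2,[2])],[]),
  (1,[],[(6,[]),(3,[4]),(2,[4])],[]),
  (1,[],[(6,[]),(3,[6]),(2,[6])],[]),
  (100,[],[],[]),
  (1,[3,1,2],[(26,[])],[]),
  (1,[],[(30,[]),(17,[]),(13,[]),(8,[]),(26,[2,15,8,14,12])],[]),
  (1,[],[(30,[]),(12,[]),(16,[]),(8,[]),(26,[0,2,4,3,3])],[]),
  (1,[],[(30,[]),(20,[]),(16,[]),(12,[]),(26,[5,13,2,4,12])],[]),
  (1,[],[(30,[]),(16,[]),(20,[]),(17,[]),(26,[2,14,6,6,2])],[]),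
  (1,[],[(30,[]),(20,[]),(8,[]),(12,[]),(8,[]),(26,[0,5,12,7])],[]),
  (100,[],[],[]),
  (1,[3,12,12,2],[(54,[])],[]),
  (1,[],[(58,[]),(32,[]),(54,[2,4,7,8,2])],[]),
  (1,[],[(58,[]),(36,[]),(54,[3,15,8,11])],[]),
  (1,[],[(58,[]),(40,[]),(54,[13,8,14,4])],[]),
  (1,[],[(58,[]),(44,[]),(54,[3,7,10,7])],[]),
  (1,[],[(58,[]),(48,[]),(54,[2,2,13,5,13])],[]),
  (2,[0,10,5,6,16],[(6,[0,8,3,4,14]),(3,[]),(2,[]),(16,[]),(21,[])],[2,12,8,0,8]),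
  (3,[15,0,17,5],[(30,[13,0,15,3]),(21,[]),(13,[]),(17,[]),(26,[8,5,8,4]),(41,[])],[0,9,5,9,12]),
  (3,[4,0,17,17,7],[(30,[2,0,15,15,5]),(13,[]),(21,[]),(82,[8,5,12]),(8,[]),(21,[]),(12,[]),(26,[0,15,6,8,13])],[]),
  (3,[0,14,7,10,17,3,13,2],[(86,[0,12,5,8,15]),(54,[13,13,6,5]),(68,[])],[0,5,11,9,3]),
  (1,[3,1,13,2,1],[(94,[]),(54,[2,11,6,8,6])],[]),
  (2,[14,4,0,10],[(58,[12,2,0,8]),(88,[]),(86,[14,12,0,15]),(54,[11,5,10,8])],[]),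
  (100,[],[],[]),
  (1,[3],[(106,[])],[]),
  (1,[],[(110,[]),(13,[]),(8,[]),(12,[]),(106,[3,15,8,15,8])],[]),
  (1,[],[(110,[]),(17,[]),(12,[]),(17,[]),(8,[]),(106,[6,4,8,8,15])],[]),
  (1,[],[(110,[]),(8,[]),(13,[]),(8,[]),(12,[]),(8,[]),(106,[2,7,13,8,6])],[]),
  (1,[],[(110,[]),(17,[]),(8,[]),(17,[]),(17,[]),(8,[]),(106,[2,6,3,10,5])],[]),
  (2,[8,11,5,5,15],[(110,[6,9,3,3,13]),(17,[]),(12,[]),(8,[]),(17,[]),(106,[3,3,15,8,6])],[0,8,0,12,11]),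
  (2,[4,11,14,11,14],[(110,[2,9,12,9,12]),(12,[]),(16,[]),(16,[]),(12,[]),(12,[]),(106,[13,11,8,7]),(116,[])],[10,5,5,12]),
  (2,[8,15,15,11],[(110,[6,13,13,9]),(17,[]),(17,[]),(20,[]),(20,[]),(8,[]),(106,[9,10,3,13,13]),(116,[]),(112,[])],[4,9,11,4,4]),
  (2,[8,10,7,9,16],[(110,[6,8,5,7,14]),(8,[]),(13,[]),(82,[3,7,11,14,4]),(21,[]),(106,[0,3,10,3])],[]),
  (2,[13,4,7,5],[(110,[11,2,5,3]),(20,[]),(16,[]),(16,[]),(20,[]),(16,[]),(106,[2,0,11,15,15])],[3,3,3,6,13]),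
  (2,[4,4,4,16,4],[(110,[2,2,2,14,2]),(17,[]),(8,[]),(26,[5,11,7,9]),(89,[]),(89,[]),(40,[]),(32,[])],[5,10,12,8]),
  (1,[2],[(150,[]),(116,[])],[3,14,2,2,13]),
  (4,[6,12,17,7,17],[(110,[4,10,15,5,15]),(13,[]),(13,[]),(82,[2,4,7,15]),(12,[]),(21,[]),(17,[]),(13,[]),(13,[]),(106,[11,5,7,11])],[0,14,2,6]),
  (2,[0,16,9,15,16,3,9,2,9],[(158,[0,14,7,13,14]),(112,[]),(158,[2,6,13,15,4]),(116,[])],[2,7,8,10,15]),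
  (5,[5,10,5,13,10,3,1,2,1],[(162,[3,8,3,11,8]),(116,[]),(154,[6,15,2,15,5]),(48,[]),(40,[]),(40,[]),(150,[4,4,14,0,4]),(162,[15,8,15,9])],[]),
  (100,[],[],[]),
  (1,[3,1,15,8],[(170,[])],[]),
  (1,[],[(174,[]),(36,[]),(32,[]),(170,[0,6,10,8,2])],[]),
  (1,[],[(174,[]),(88,[]),(40,[]),(170,[0,13,7,15,6])],[]),
  (1,[],[(174,[]),(44,[]),(44,[]),(170,[0,10,6,10,4])],[]),
  (1,[],[(174,[]),(44,[]),(40,[]),(32,[]),(170,[3,15,8,15,8])],[]),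
  (1,[],[(174,[]),(48,[]),(89,[]),(48,[]),(45,[]),(170,[9,14,11])],[]),
  (2,[5,12,5,9,10],[(174,[3,10,3,7,8]),(89,[]),(41,[]),(32,[]),(170,[2,15,5,11,6]),(180,[]),(176,[])],[0,2,8,7]),
  (2,[4,6,6,10,0],[(174,[2,4,4,8,0]),(86,[0,13,2,8,13]),(88,[]),(41,[]),(170,[2,9,14,2,9])],[]),
  (2,[15,13,9,0],[(174,[13,11,7,0]),(54,[3,13,0,9,5]),(101,[]),(101,[])],[13,7,10,9]),
  (1,[2],[(206,[])],[5,15,15,15,11]),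
  (4,[0,7,5,11,7],[(174,[0,5,3,9,5]),(88,[]),(88,[]),(30,[13,15,11,4]),(13,[]),(21,[]),(12,[]),(8,[]),(106,[14,3,13,15]),(165,[])],[7,0,9,13]),
  (5,[4,11,12,6,16],[(174,[2,9,10,4,14]),(41,[]),(88,[]),(88,[]),(150,[0,4,14,2,14]),(214,[6,14,9,14,14]),(188,[])],[0,5,7,11,3]),
  (100,[],[],[]),
  (1,[2,5,3,6],[(222,[])],[]),
  (1,[],[(226,[]),(45,[]),(40,[]),(32,[]),(222,[0,6,13,4,8])],[]),
  (1,[],[(226,[]),(41,[]),(45,[]),(32,[]),(222,[2,0,14,2,14])],[]),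
  (1,[],[(226,[]),(88,[]),(44,[]),(36,[]),(222,[3,15,13,13])],[]),
  (1,[],[(226,[]),(48,[]),(45,[]),(36,[]),(222,[4,0,13,7,15])],[]),
  (2,[4,0,10,5,16],[(226,[2,0,8,3,14]),(44,[]),(48,[]),(170,[4,14,3,9]),(200,[]),(176,[])],[2,8,8,14,5]),
  (1,[3,5,8,1],[(246,[]),(240,[])],[12,7,15,4]),
  (2,[5,8,0,4,3,4,10,17,3],[(250,[3,6,0,2]),(192,[]),(218,[8,8,8,10]),(180,[])],[3,8,13,8]),
  (1,[2,1,13],[(254,[]),(228,[])],[0,11,12,15,0]),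
  (2,[11,8,17,6,16,2,8,3],[(258,[9,6,15,4,14]),(210,[8,6,8,10]),(96,[]),(68,[]),(64,[])],[11,14,13,15]),
  (100,[],[],[]),
  (1,[3],[(266,[])],[]),
  (1,[],[(270,[]),(73,[]),(64,[]),(68,[]),(266,[2,9,13,6,8])],[]),
  (1,[],[(270,[]),(100,[]),(68,[]),(72,[]),(76,[]),(60,[]),(266,[15,6])],[]),
  (2,[5,13,6,9,13],[(270,[3,11,4,7,11]),(76,[]),(69,[]),(72,[]),(266,[4,15,5,3,14]),(272,[])],[0,7,13,8,6]),
  (2,[17,8,0,7],[(270,[15,6,0,5]),(100,[]),(97,[]),(262,[9,3,13,13]),(241,[]),(232,[])],[2,10,3,13,7]),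
  (2,[5,11,4,11,15],[(270,[3,9,2,9,13]),(101,[]),(76,[]),(69,[]),(206,[0,13,4,11,12]),(180,[])],[0,3,0]),
  (100,[],[],[]),
  (1,[3,1,3],[(294,[])],[]),
  (1,[],[(298,[]),(21,[]),(13,[]),(16,[]),(12,[]),(12,[]),(294,[2,15,4,3])],[]),
  (1,[],[(298,[]),(16,[]),(21,[]),(12,[]),(21,[]),(12,[]),(294,[3,4,9,9])],[]),
  (2,[0,12,8,4,17],[(298,[0,10,6,2,15]),(17,[]),(8,[]),(21,[]),(12,[]),(8,[]),(294,[5,5,10,2]),(300,[]),(305,[])],[2,9,11,7,13]),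
  (2,[5,0,8,14],[(298,[3,0,6,12]),(16,[]),(13,[]),(20,[]),(294,[2,11,8]),(305,[]),(301,[])],[3,11,11,9,10]),
  (2,[6,14,17,8],[(298,[4,12,15,6]),(8,[]),(21,[]),(17,[]),(12,[]),(106,[15,7,12,2]),(125,[]),(112,[])],[6,12,4,7]),
  (2,[12,16,12,7],[(298,[10,14,10,5]),(20,[]),(17,[]),(20,[]),(8,[]),(106,[7,10,6,10]),(165,[]),(112,[])],[0,12,14,9,5]),
  (1,[2,6,3,7],[(322,[])],[13,11,14,13]),
  (2,[4,15,15,6,12],[(298,[2,13,13,4,10]),(16,[]),(16,[]),(13,[]),(21,[]),(8,[]),(294,[0,8,6,6,3]),(300,[])],[3,3,10,3])]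
theorem hE0 : allD2 lk B KW KW FN AN RL [] E0 0 = true := by decide +kernel
def E1 : List (ℕ × Word × List (ℕ × Word) × Word) := [(4,[9,15,7,10],[(298,[7,13,5,8]),(13,[]),(8,[]),(20,[]),(16,[]),(106,[0,8,15,7,11]),(140,[]),(116,[]),(318,[3,3,6,15,8]),(301,[])],[9,6,4,10]),
  (6,[11,15,8,14],[(298,[9,13,6,12]),(17,[]),(12,[]),(82,[8,4,4,4]),(20,[]),(17,[]),(17,[]),(8,[]),(12,[]),(8,[]),(294,[7,4,7,10]),(304,[]),(300,[])],[4,7,4,8]),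
  (6,[7,16,6,4,7],[(298,[5,14,4,2,5]),(21,[]),(13,[]),(21,[]),(13,[]),(106,[12,15,9]),(120,[]),(164,[]),(322,[8,0,10,12]),(301,[])],[9,11,14,10]),
  (7,[0,12,6,13,17],[(298,[0,10,4,11,15]),(17,[]),(20,[]),(16,[]),(106,[2,5,6,14,8]),(116,[]),(164,[]),(322,[4,2,8,2])],[2,11,4,8,13]),
  (100,[],[],[]),
  (1,[3,9,2,16],[(350,[])],[]),
  (1,[],[(354,[]),(112,[]),(350,[3,14,13,2,12])],[]),
  (1,[],[(354,[]),(116,[]),(350,[2,8,0,11,4])],[]),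
  (1,[],[(354,[]),(140,[]),(350,[5,15,6,5])],[]),
  (1,[],[(354,[]),(164,[]),(120,[]),(350,[12,5,7,2])],[]),
  (5,[4,9,14,7,7],[(354,[2,7,12,5,5]),(164,[]),(110,[7,3,5,11,9]),(21,[]),(13,[]),(20,[]),(12,[]),(8,[]),(106,[2,9,5,5,15]),(120,[]),(350,[13,5,0,11])],[]),
  (100,[],[],[]),
  (1,[2,17,14],[(378,[])],[]),
  (1,[],[(382,[]),(48,[]),(36,[]),(48,[]),(378,[3,0,4,4,4])],[]),
  (1,[],[(382,[]),(41,[]),(36,[]),(40,[]),(32,[]),(378,[3,8,13,9,12])],[]),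
  (1,[],[(382,[]),(44,[]),(48,[]),(45,[]),(40,[]),(378,[2,13,2,8])],[]),
  (1,[],[(382,[]),(88,[]),(44,[]),(48,[]),(44,[]),(32,[]),(378,[8,4,12,11])],[]),
  (1,[],[(382,[]),(89,[]),(44,[]),(89,[]),(45,[]),(32,[]),(378,[3,9,13,6])],[]),
  (2,[7,15,6,14],[(382,[5,13,4,12]),(45,[]),(88,[]),(44,[]),(150,[0,13,9,0,14]),(165,[])],[4,4,0,10,8]),
  (1,[3,16,12],[(406,[])],[8,4,11,15,13]),
  (2,[0,4,4,6,14],[(382,[0,2,2,4,12]),(44,[]),(44,[]),(222,[7,0,7,12]),(236,[]),(228,[])],[2,2,9,15]),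
  (1,[3,13,2,10],[(414,[]),(388,[])],[7,10]),
  (2,[6,11,15,15],[(382,[4,9,13,13]),(45,[]),(32,[]),(88,[]),(36,[]),(378,[0,7,11,12,11])],[2,15,15,10,4]),
  (2,[0,7,0,4,6],[(382,[0,5,0,2,4]),(44,[]),(32,[]),(44,[]),(378,[8,5,0,13])],[0,11,2,4,14]),
  (4,[0,9,5,11,12],[(382,[0,7,3,9,10]),(54,[0,9,11,3,4]),(100,[]),(97,[]),(76,[]),(60,[]),(262,[3,6,3,3,3]),(240,[])],[2,10,4,0]),
  (1,[3,16,10,7],[(430,[])],[2,12,7,15,13]),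
  (4,[11,17,9,7],[(382,[9,15,7,5]),(89,[]),(89,[]),(30,[2,0,8,0,7]),(20,[]),(17,[]),(8,[]),(13,[]),(106,[0,2,2,7,10,8])],[6,14,3,7,10]),
  (1,[2,1],[(438,[]),(400,[])],[9,15,7,11]),
  (7,[15,12,9,4],[(382,[13,10,7,2]),(30,[0,8,3,0,3]),(17,[]),(21,[]),(13,[]),(106,[3,10,8,8,15]),(141,[]),(438,[4,12,9,7,14])],[]),
  (7,[7,15,12,9],[(382,[5,13,10,7]),(54,[2,15,6,14,6]),(68,[]),(101,[]),(68,[]),(262,[14,11,12,10]),(240,[])],[6,11,8,13]),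
  (1,[3,7,11,16],[(450,[])],[0,3,4,14,13]),
  (2,[13,6,13,14,3],[(442,[11,4,11,12]),(120,[]),(322,[0,8,12,5,12])],[2,11,13,9]),
  (1,[3,1,2,13],[(458,[]),(444,[]),(392,[])],[2,15,3,11]),
  (2,[10,13,11,16,11,3,1,2,13],[(458,[8,11,9,14,9]),(434,[2,11,7,15,15]),(236,[]),(236,[]),(228,[])],[0,15,9,9,5]),
  (100,[],[],[]),
  (1,[2,7,1],[(470,[])],[]),
  (1,[],[(474,[]),(188,[]),(181,[]),(470,[3,0,12,5,14])],[]),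
  (2,[0,15,16,4],[(474,[0,13,14,2]),(184,[]),(192,[]),(290,[6,2,0,14])],[6,3,7,15,8]),
  (1,[3,1,2],[(482,[])],[0,10,8,4]),
  (2,[12,16,5,8],[(474,[10,14,3,6]),(200,[]),(180,[]),(176,[]),(470,[14,7,8,13])],[2,9,2,9,6]),
  (2,[17,11,12,12],[(474,[15,9,10,10]),(181,[]),(198,[3,14,11,3,15]),(470,[7,0,12,3])],[]),
  (2,[5,17,5,17,13,3,12,2,7],[(490,[3,15,3,15,11]),(492,[]),(486,[0,3,11,14]),(272,[])],[3,8,4,11,6]),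
  (1,[3,1,2,1],[(498,[]),(492,[])],[0,8,6,8,3]),
  (100,[],[],[]),
  (1,[3,7,1,14],[(506,[])],[]),
  (1,[],[(510,[]),(165,[]),(112,[]),(506,[7,10,13,15])],[]),
  (1,[],[(510,[]),(120,[]),(116,[]),(506,[6,4,8,8,15])],[]),
  (1,[],[(510,[]),(141,[]),(125,[]),(506,[2,8,2,13])],[]),
  (2,[0,5,17,14,17],[(510,[0,3,15,12,15]),(164,[]),(214,[0,11,14,4,9]),(188,[]),(200,[]),(181,[])],[5,0,6,15,3]),
  (1,[3,6,13,10],[(526,[]),(512,[])],[2,7,3,11,13]),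
  (2,[13,17,7,14],[(510,[11,15,5,12]),(120,[]),(350,[3,4,2,9,6]),(365,[])],[4,14,13,15,2]),
  (2,[4,11,0,8,0],[(510,[2,9,0,6,0]),(146,[10,10,5,3]),(124,[]),(506,[15,7,15])],[]),
  (4,[7,14,13,15],[(510,[5,12,11,13]),(154,[4,2,8,5,3]),(89,[]),(48,[]),(170,[4,10,7,4,6]),(180,[]),(200,[]),(192,[]),(526,[2,15,13,4,6])],[]),
  (100,[],[],[]),
  (1,[2,1,3],[(546,[])],[]),
  (1,[],[(550,[]),(45,[]),(36,[]),(32,[]),(546,[8,12,9,10])],[]),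
  (1,[],[(550,[]),(40,[]),(48,[]),(36,[]),(546,[2,2,0,3,3])],[]),
  (2,[6,9,14,14],[(550,[4,7,12,12]),(378,[0,11,12,12,4]),(396,[]),(384,[])],[0,13,4,9,7]),
  (2,[7,15,15,17],[(550,[5,13,13,15]),(45,[]),(88,[]),(44,[]),(150,[0,12,15,10,4]),(124,[]),(165,[])],[0,5,12,11]),
  (1,[3,5,12,5,2],[(566,[]),(552,[])],[2,9,0,12,2]),
  (4,[11,4,10,7],[(550,[9,2,8,5]),(45,[]),(32,[]),(378,[7,9,9,14]),(445,[]),(401,[]),(562,[10,15,2,14,8]),(552,[])],[6,6,0,2]),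
  (7,[0,10,13,10,5],[(550,[0,8,11,8,3]),(89,[]),(48,[]),(41,[]),(150,[3,14,14,8,13]),(116,[]),(164,[]),(566,[7,9,5,7]),(552,[])],[0,2,11,7,0]),
  (2,[14,7,7,9,3,1,15,12,3],[(570,[12,5,5,7]),(141,[]),(124,[]),(438,[8,7,2,14]),(444,[]),(392,[])],[6,10,4,6]),
  (6,[12,7,17,17,3,1,15,12,3],[(570,[10,5,15,15]),(140,[]),(124,[]),(116,[]),(130,[4,9,13,10,2]),(322,[0,3,8,11,7])],[2,2,8,11,2]),
  (1,[2,9,10],[(586,[])],[7,10,5,9]),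
  (7,[4,10,0,9,11,3,1,15,12,3],[(570,[2,8,0,7,9]),(164,[]),(116,[]),(134,[6,14,4]),(120,[]),(165,[]),(322,[2,5,15,3,12]),(301,[])],[4,14,2,7]),
  (1,[2,1,4,6],[(594,[])],[2,12,8,2,0]),
  (2,[0,7,15,9,7,3,5,1,7],[(598,[0,5,13,7,5]),(342,[3,9,15,7])],[5,11,4,12]),
  (1,[3,1,2,9],[(602,[])],[3,10,5,2]),
  (7,[0,10,7,9,6,3,5,1,7],[(598,[0,8,5,7,4]),(300,[]),(334,[0,2,4,0,13]),(342,[5,3,14,14,3]),(300,[])],[2,4,12,11,9]),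
  (1,[2,13,4,3],[(610,[]),(552,[]),(552,[]),(556,[])],[12,2,14,12]),
  (2,[0,8,15,16,10,3,17,3,4],[(614,[0,6,13,14,8]),(304,[]),(300,[]),(334,[4,4,6,5]),(301,[])],[11,13,8,0]),
  (1,[3,4,6,3,17],[(618,[]),(552,[]),(556,[])],[3,14,7,15]),
  (4,[4,10,9,16,14,3,17,3,4],[(614,[2,8,7,14,12]),(300,[]),(326,[7,14,13]),(124,[]),(124,[]),(318,[2,2,8,3,12]),(301,[])],[4,14,13,3,11]),
  (1,[3,5,1,7,3],[(626,[]),(552,[])],[12,10,3,6]),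
  (2,[4,17,11,13,2,13,9,2],[(630,[2,15,9,11]),(301,[]),(586,[15,2,14,14]),(552,[])],[14,10,8,13]),
  (2,[0,4,14,14,16,2,13,9,2],[(630,[0,2,12,12,14]),(300,[]),(338,[13,9,14,14]),(301,[])],[13,4,10,8]),
  (1,[3,5,14,3],[(638,[]),(552,[])],[3,5,8,15]),
  (5,[15,0,10,5,3,5,14,3],[(638,[13,0,8,3]),(570,[7,2,14,11,15]),(124,[]),(112,[]),(318,[0,8,4,4,2]),(304,[])],[0,14,11,2,0]),
  (2,[0,9,16,7,10,3,5,1,7,3],[(626,[0,7,14,5,8]),(556,[]),(590,[10,6,5,2]),(300,[])],[8,4,14,8,14]),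
  (2,[4,4,17,5,5,3,1,14,3,6],[(650,[2,2,15,3,3]),(300,[]),(346,[0,3,10,13,13])],[15,11,11,7]),
  (100,[],[],[]),
  (1,[3,10,2,13],[(658,[])],[]),
  (1,[],[(662,[]),(45,[]),(89,[]),(32,[]),(658,[8,5,14,7])],[])]
theorem hE1 : allD2 lk B KW KW FN AN RL [] E1 83 = true := by decide +kernel
def E2 : List (ℕ × Word × List (ℕ × Word) × Word) := [(1,[],[(662,[]),(89,[]),(44,[]),(89,[]),(44,[]),(658,[9,11,13,13])],[]),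
  (1,[],[(662,[]),(32,[]),(41,[]),(48,[]),(40,[]),(32,[]),(658,[0,2,12,8,3])],[]),
  (2,[4,6,5,13,9],[(662,[2,4,3,11,7]),(32,[]),(45,[]),(222,[8,10,12,0]),(241,[]),(237,[])],[4,8,8,10,4]),
  (5,[0,9,12,6,16],[(662,[0,7,10,4,14]),(32,[]),(89,[]),(32,[]),(222,[2,14,5,9,13]),(228,[]),(286,[4,3,5,2,13])],[0,15,10,4,11]),
  (7,[0,9,10,15],[(662,[0,7,8,13]),(32,[]),(170,[10,2,13,4]),(176,[]),(470,[15,2,11,6,15]),(492,[])],[3,10,4,15,11]),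
  (1,[3],[(686,[]),(672,[])],[0,11,5,0,14]),
  (2,[7,5,0,17,3,4,16,1],[(690,[5,3,0,15]),(492,[]),(502,[0,2,12,4,4])],[10,3,0,13]),
  (1,[2],[(694,[])],[0,4,12,11,5]),
  (3,[5,6,10,7,14,3,4,16,1],[(690,[3,4,8,5,12]),(502,[0,14,2,2])],[0,11,7,14,6]),
  (100,[],[],[]),
  (1,[3,1,2,7],[(706,[])],[]),
  (2,[0,9,7,16,13],[(710,[0,7,5,14,11]),(490,[4,0,14,5,13]),(706,[0,2,10,9,9])],[]),
  (100,[],[],[]),
  (1,[3,4,3,1,2],[(718,[])],[]),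
  (1,[],[(722,[]),(140,[]),(116,[]),(112,[]),(718,[0,3,5])],[]),
  (1,[],[(722,[]),(124,[]),(120,[]),(112,[]),(718,[4,0,5,6,10])],[]),
  (1,[],[(722,[]),(165,[]),(124,[]),(112,[]),(718,[2,9,4,6,6])],[]),
  (2,[0,5,7,4,10],[(722,[0,3,5,2,8]),(141,[]),(718,[12,8,4,6])],[0,12,6,5,13]),
  (1,[3,12,2,5],[(738,[])],[9,9,11,13,4]),
  (2,[0,8,0,15],[(722,[0,6,0,13]),(140,[]),(406,[4,6,10,4,10]),(400,[]),(388,[])],[3,0,15,3,12]),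
  (1,[3,10,7,1],[(746,[])],[4,13,10,9,11]),
  (4,[6,6,13,11],[(722,[4,4,11,9]),(154,[7,14,11,8]),(32,[]),(45,[]),(222,[0,15,5,14,14]),(241,[]),(236,[]),(240,[])],[0,6,11,6,12]),
  (1,[3,5,9,6],[(754,[])],[0,8,15,4]),
  (6,[11,12,9,12],[(722,[9,10,7,10]),(165,[]),(406,[13,7,8,5]),(445,[]),(422,[0,2,15,8,8]),(444,[])],[0,10,9,6,12]),
  (1,[2,15,11],[(762,[]),(732,[])],[7,5,14,4]),
  (2,[14,6,6,9,3,9,1,12],[(766,[12,4,4,7]),(434,[3,10,12,7,12]),(236,[]),(240,[])],[6,15,8,7]),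
  (2,[11,15,10,15,17,3,9,1,12],[(766,[9,13,8,13,15]),(444,[]),(392,[]),(462,[4,3,0,7,8]),(304,[]),(300,[])],[8,12,7,4]),
  (7,[5,17,8,12,3,9,1,12],[(766,[3,15,6,10]),(396,[]),(582,[3,15,0,2,0]),(552,[]),(574,[2,11,2,8]),(553,[])],[0,12,8,4,14]),
  (1,[2,12,2],[(778,[]),(732,[])],[0,6,13,4]),
  (4,[9,5,7,13,11,3,1,2,6,2],[(782,[7,3,5,11,9]),(606,[2,4,9,9]),(304,[]),(300,[]),(774,[0,8])],[10,3,9,15,2]),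
  (1,[3,1,2,1],[(786,[])],[10,3,15,6]),
  (5,[12,14,4,0,3,6,10,7],[(790,[10,12,2,0]),(750,[2,9,11,8,2]),(444,[]),(454,[13,5,7]),(241,[])],[0,4,14,11,13]),
  (1,[2,7,9],[(794,[])],[10,6,9,13]),
  (2,[6,15,16,10,8,3,1,2,11,4],[(798,[4,13,14,8,6]),(258,[8,15,7,11]),(188,[]),(180,[]),(180,[]),(176,[])],[12,14,14,14]),
  (1,[3,5,8,1,3],[(802,[]),(732,[])],[14,2,13,7]),
  (100,[],[],[]),
  (1,[3,13,7,14],[(810,[])],[]),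
  (1,[],[(814,[]),(164,[]),(124,[]),(810,[2,6,6,9,15])],[]),
  (1,[],[(814,[]),(141,[]),(125,[]),(810,[0,2,9,5,5,14])],[]),
  (2,[8,15,7,16,0],[(814,[6,13,5,14,0]),(116,[]),(138,[11,2,0,15])],[2,12,14,13,13]),
  (2,[6,9,7,16,15],[(814,[4,7,5,14,13]),(116,[]),(826,[4,4,4,12,12])],[3,13,7,12]),
  (2,[4,6,12,6,8],[(814,[2,4,10,4,6]),(506,[0,5,9,14,14]),(536,[])],[0,12,6,11,8]),
  (3,[5,5,12,12,12],[(814,[3,3,10,10,10]),(120,[]),(826,[2,2,12])],[0,8,8,2,10]),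
  (1,[3,1,2],[(838,[]),(816,[]),(830,[6,13,6,4])],[]),
  (100,[],[],[]),
  (1,[2,6,1,11],[(846,[])],[]),
  (1,[],[(850,[]),(112,[]),(846,[0,14,12,11])],[]),
  (1,[],[(850,[]),(140,[]),(116,[]),(846,[4,2,8,5,7])],[]),
  (2,[4,6,6,12,9],[(850,[2,4,4,10,7]),(120,[]),(846,[2,14,5,6,2]),(856,[])],[5,3,3,3,11]),
  (2,[0,4,6,12,4],[(850,[0,2,4,10,2]),(165,[]),(120,[]),(718,[0,14,3,12]),(728,[])],[3,11,14,13]),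
  (1,[3,13,2],[(866,[])],[2,15,13,6,8]),
  (2,[0,14,8,16],[(850,[0,12,6,14]),(140,[]),(116,[]),(130,[0,2,4,8,8]),(164,[]),(116,[]),(112,[])],[0,12,8,4,15]),
  (6,[10,17,0,16],[(850,[8,15,0,14]),(146,[2,0,5,15,7]),(140,[]),(120,[]),(116,[]),(846,[2,9,7,5])],[2,0,8,3,5]),
  (4,[4,6,15,15,17,3,12],[(878,[2,4,13,13,15]),(870,[2,11,7,10,8]),(732,[]),(790,[3,8,0,3,13]),(732,[])],[0,6,4,8,2]),
  (1,[3,5,1,17],[(882,[])],[0,2,9,14,3]),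
  (2,[11,17,7,5,2,1,3,10],[(886,[9,15,5,3]),(750,[0,15,11,6,6]),(444,[]),(388,[])],[0,6,14,8]),
  (1,[3,5,11,4,3],[(890,[])],[5,7,3,7,5]),
  (2,[5,5,0,4,11,3,17,17,3],[(894,[3,3,0,2,9]),(444,[]),(462,[11,7,10,7]),(304,[]),(301,[])],[2,9,4,8]),
  (1,[3,1,9,7],[(898,[]),(856,[])],[0,3,0,12,5]),
  (2,[9,6,4,13,3,17,17,3],[(894,[7,4,2,11]),(434,[0,2,4,15,11])],[3,7,9,3,4]),
  (1,[2,16,9,3],[(906,[])],[14,14,11]),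
  (4,[12,16,0,17,3,17,17,3],[(894,[10,14,0,15]),(444,[]),(418,[6,6,9,15,5]),(241,[]),(236,[]),(906,[2,9,2,13,9]),(856,[])],[5,13,2,12,12]),
  (6,[0,13,10,8,12,3,17,17,3],[(894,[0,11,8,6,10]),(410,[2,4,8,14,5]),(165,[]),(124,[]),(846,[3,3,12,5,0])],[2,13,2]),
  (7,[7,8,10,9,10,3,17,17,3],[(894,[5,6,8,7,8]),(445,[]),(418,[3,9,12,5,6]),(237,[]),(228,[]),(466,[6,5,10,4])],[7,9,6,14,3]),
  (1,[3,13,3,6],[(922,[]),(856,[])],[3,10,4,15,12]),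
  (2,[11,17,4,11,3,1,13],[(926,[9,15,2,9]),(314,[9,4,7,4]),(300,[])],[2,7,11,14,4]),
  (1,[2,11,2],[(930,[])],[0,14,13,0,11]),
  (2,[4,16,16,15,3,1,13],[(926,[2,14,14,13]),(304,[]),(301,[]),(618,[2,2,10,12])],[0,12,15,9,14]),
  (5,[12,6,12,4,3,1,13],[(926,[10,4,10,2]),(301,[]),(650,[2,9,6,15,10]),(304,[]),(301,[]),(334,[9,6,11,8,2]),(301,[])],[4,9,7,4,12]),
  (1,[2,14,11,2],[(942,[]),(856,[])],[6,3,11,2,15]),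
  (4,[12,8,8,3,5,2,14,4],[(946,[10,6,6]),(346,[3,14,11,5,7]),(304,[]),(301,[]),(942,[3,0,11,7,4]),(852,[])],[0,15,4,0]),
  (100,[],[],[]),
  (1,[3,1,2,11,4],[(954,[])],[]),
  (1,[],[(958,[]),(276,[]),(954,[4,12,5,13,13])],[]),
  (2,[6,13,11,16,6],[(958,[4,11,9,14,4]),(272,[]),(954,[0,11,2,12,4])],[0,3,3,9]),
  (2,[4,10,0,9,0],[(958,[2,8,0,7,0]),(282,[2,11,8]),(954,[4,8,14,5,13])],[]),
  (2,[16,6,5,13],[(958,[14,4,3,11]),(276,[]),(682,[3,3,3,12,10])],[0,2,8,5,8]),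
  (2,[0,17,12,5,8],[(958,[0,15,10,3,6]),(482,[15,13,5,11])],[3,4,15,6,9]),
  (1,[3,10,14,2],[(978,[]),(968,[])],[2,7,5,14,13]),
  (4,[5,17,10,9,6],[(958,[3,15,8,7,4]),(702,[10,3,3,8,13]),(672,[]),(974,[0,4,11,7,10]),(961,[])],[3,7,4,10,8]),
  (2,[4,15,16,15,3,4,9,7],[(986,[2,13,14,13]),(968,[]),(966,[4,7,5,10,7]),(968,[]),(960,[]),(986,[3,0,8,2,12])],[]),
  (2,[0,6,12,6,11,3,1,2,1],[(982,[0,4,10,4,9]),(706,[4,4,12,7]),(712,[])],[3,3,0,14,12]),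
  (1,[3,1,2,1],[(994,[])],[4,8,13,5,14]),
  (100,[],[],[]),
  (1,[3,14,3,1],[(1002,[])],[]),
  (1,[],[(1006,[]),(165,[]),(120,[]),(141,[]),(1002,[9,4,15,6])],[]),
  (2,[6,10,4,16,4],[(1006,[4,8,2,14,2]),(141,[]),(718,[0,5,6,14,11]),(728,[])],[4,10,14,2]),
  (2,[13,4,0,6],[(1006,[11,2,0,4]),(120,[]),(350,[2,11,3,10,8]),(368,[]),(360,[])],[2,12,14,7,13]),
  (1,[3,1,2,1,3],[(1018,[])],[12,14,11,14]),
  (100,[],[],[]),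
  (1,[2],[(1026,[])],[]),
  (1,[],[(1030,[]),(368,[]),(365,[]),(1026,[3,0,12,5,14])],[]),
  (1,[],[(1030,[]),(372,[]),(368,[]),(1026,[6,2,8,10,14])],[]),
  (4,[5,12,14,6,0],[(1030,[3,10,12,4,0]),(373,[]),(356,[]),(534,[4,3,5,8,3]),(536,[]),(516,[]),(834,[4,14,13,4]),(820,[])],[4,13,11,15,13]),
  (1,[3,8,4,14],[(1042,[])],[4,13,0,5]),
  (6,[0,6,10,13,8],[(1030,[0,4,8,11,6]),(354,[10,9,7,10]),(112,[]),(116,[]),(826,[5,12,11,15]),(820,[]),(1042,[4,4,6,5,12])],[]),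
  (100,[],[],[])]
theorem hE2 : allD2 lk B KW KW FN AN RL [] E2 167 = true := by decide +kernel
end
end CA.J4N
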