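import Cfsg.Agent.Lib.Spor.J4Mod
import Cfsg.Agent.Lib.Spor.J4Mat

/-! Order and simplicity of the fourth Janko group as a group of `112 × 112` bit matrices. -/

set_option autoImplicit false
set_option linter.all false
set_option maxRecDepth 100000

namespace CA.J4Ord
open Subgroup CA.CNet CA.CWord CA.CTodd CA.BitW CA.J4H CA.J4D CA.J4Dc CA.J4Mod CA.J4Mat

def d (i : Fin 7) : ℕ := [1, 15180, 32643072, 3400320, 28336, 54405120, 82575360].getD i 0

theorem hSR : ∀ i < 7, lall (S i) (fun e => eqM F (lapp e.1 (gl i)) (lapp (gl i) e.2)) = true ∧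
    lall (R i) (fun r => eqM F (32 :: lapp (winv r.2.1) (gl i)) (lapp r.2.2.2.1 (lapp (gl r.2.2.1) r.2.2.2.2))) = true :=
  fun i hi => by
    interval_cases i
    exacts [⟨hS0, hR0⟩, ⟨hS1, hR1⟩, ⟨hS2, hR2⟩, ⟨hS3, hR3⟩, ⟨hS4, hR4⟩, ⟨hS5, hR5⟩, ⟨hS6, hR6⟩]

theorem smallS : ∀ i < 7, ∀ w ∈ W i, ∃ e ∈ S i, e.1 = w ∧ ∀ a ∈ e.2, a < 32 := by decide +kernel

def nw : Word := [3,0,2,0,3,0,2,0,2,0,2,0,2,0,2,0,3,0,3,0,2,0,3,0,3,0,3,0,2,0,3,0,2,0,2,0,2,0,3,0,3,0,2,0,3,0,3,0,3,0,3]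

theorem subs : ∀ T : Finset (Fin 7), 0 ∈ T → (∑ j ∈ T, d j) ∣ 173067389 → ∑ j ∈ T, d j = 1 ∨ ∑ j ∈ T, d j = 173067389 := by
  decide +kernel

theorem main {G : Type} [Group G] [Finite G] {γ : ℕ → G} (hE : ∀ u v, eqM F u v = true → ev γ u = ev γ v)
    (hN : ∀ e, neM F e = true → ev γ e.1 ≠ ev γ e.2.1) (hT : grp γ [[0], [2], [32]] = ⊤) :
    IsSimpleGroup G ∧ Nat.card G = 86775571046077562880 := by
  have eq : ∀ u v, (u, v) ∈ eqs → ev γ u = ev γ v := fun u v h => hE u v (lall_iff.1 heq _ h)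
  have ne : ∀ u v, (∃ e ∈ nes, e.1 = u ∧ e.2.1 = v) → ev γ u ≠ ev γ v := by
    rintro _ _ ⟨e, he, rfl, rfl⟩
    exact hN e (lall_iff.1 hne _ he)
  have hγ : ∀ r ∈ relsH, ev γ r = 1 := fun r hr => hE r [] (lall_iff.1 J4Mat.hrel r hr)
  obtain ⟨P, _, _, δ, hδ, ht, hc, hq, hlo, hdec⟩ := model
  obtain ⟨φ, hφ⟩ := hom hδ hγ ht hc
  have n1 : ∀ u v, (∀ a ∈ u, a < 32) → (∀ a ∈ v, a < 32) → ev γ u ≠ ev γ v → ev δ u ≠ ev δ v := fun u v hu hv h e =>
    h (by rw [← hφ u hu, ← hφ v hv, e])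
  have hx : ev γ [0] ≠ 1 := ne [0] [] (by decide +kernel)
  have st := struct hδ ht hc hq (n1 [0] [] (by decide) (by decide) hx)
    (n1 _ _ (by decide) (by decide) (ne _ _ (by decide +kernel)))
  have inj : Function.Injective φ := by
    rcases st φ.ker with h | ⟨-, h | h⟩
    · exact absurd ((hφ [0] (by decide)).symm.trans (h (mem_grp δ (by decide)))) hx
    · exact (MonoidHom.ker_eq_bot_iff φ).1 h
    · exact absurd ((hφ [4] (by decide)).symm.trans (h.ge (mem_grp δ (by decide)))) (ne [4] [] (by decide +kernel))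
  let H := φ.range
  have mH : ∀ w : Word, (∀ a ∈ w, a < 32) → ev γ w ∈ H := fun w hw => ⟨_, hφ w hw⟩
  have cH : Nat.card H = 501397585920 := (Nat.card_congr (MonoidHom.ofInjective inj).toEquiv).symm.trans hc
  let A : Fin 7 → Subgroup G := fun i => (grp δ (W i)).map φ
  let g : Fin 7 → G := fun i => ev γ (gl i)
  let t := ev γ [32]
  have tt : t * t = 1 := (ev_append γ [32] [32]).symm.trans (eq _ [] (by decide +kernel))
  have ti : t⁻¹ = t := inv_eq_of_mul_eq_one_right tt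
  have hA : ∀ i, ∀ a ∈ A i, (g i)⁻¹ * a * g i ∈ H := fun i => by
    have : grp δ (W i) ≤ (H.comap (MulAut.conj (g i)⁻¹).toMonoidHom).comap φ := (grp_le_iff δ).2 fun w hw => by
      obtain ⟨e, he, rfl, h2⟩ := smallS i i.2 w hw
      have h3 := hE _ _ (lall_iff.1 (hSR i i.2).1 e he)
      rw [ev_lapp, ev_lapp] at h3
      show (g i)⁻¹ * φ (ev δ e.1) * (g i)⁻¹⁻¹ ∈ H
      rw [hφ _ (small i i.2 _ hw), inv_inv, mul_assoc, h3, inv_mul_cancel_left]
      exact mH _ h2
    rintro _ ⟨a, ha, rfl⟩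
    have := this ha
    rwa [mem_comap, mem_comap, MulEquiv.coe_toMonoidHom, MulAut.conj_apply, inv_inv] at this
  have g1 : g 1 = t := eq [34] [32] (by decide +kernel)
  have hcov : ∀ x, ∃ j, x ∈ DC H (g j) := by
    refine cover (K := A 1) (A := A) (t := t) 0 rfl tt (fun k hk => ?_) hA ?_ ?_ hT
    · have := hA 1 k hk
      rwa [g1, ti] at this
    · rintro i _ ⟨π, rfl⟩
      obtain ⟨κ, hκ, α, hα, r, hr, rfl⟩ := hdec i i.2 π
      obtain ⟨a1, a2, a3, a4⟩ := smallR i i.2 r hr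
      refine ⟨φ κ, ⟨κ, hκ, rfl⟩, φ α, ⟨α, hα, rfl⟩, (ev γ r.2.1)⁻¹, by rw [map_mul, map_mul, map_inv, hφ _ a2],
        ⟨_, a1⟩, _, mH _ a3, _, mH _ a4, ?_⟩
      have h3 := hE _ _ (lall_iff.1 (hSR i i.2).2 r hr)
      rw [show 32 :: lapp (winv r.2.1) (gl i) = [32] ++ lapp (winv r.2.1) (gl i) from rfl, ev_append, ev_lapp, ev_lapp,
        ev_lapp, ev_winv] at h3
      rw [mul_assoc, mul_assoc]
      exact h3
    · rintro _ ⟨w, hw, rfl⟩
      rcases (by decide : ∀ w ∈ [[0], [2], [32]], (∀ a ∈ w, a < 32) ∨ w = [32]) w hw with h | rfl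
      · exact Or.inl (mH w h)
      · exact Or.inr rfl
  have hb : ∀ j, (DC H (g j)).ncard ≤ d j * 501397585920 := fun j => by
    have := ncard_DC (H := H) (A := A j) (g := g j) (d := d j) (map_le_range _ _) (hA j) (by
      rw [cH, card_map_of_injective inj]
      exact le_trans ((by decide +kernel : ∀ j : Fin 7, 501397585920 ≤ d j * lo j) j) (Nat.mul_le_mul_left _ (hlo j j.2)))
    rwa [cH] at this
  have sd : ∑ j, d j = 173067389 := by decide +kernel
  have hle := card_le hcov hb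
  have pw : ∀ a k, (wpow [a] k, []) ∈ eqs → ev γ [a] ^ k = 1 := fun a k h => ev_wpow γ _ _ ▸ eq _ [] h
  have pr : ∀ a p, p.Prime → (wpow [a] p, []) ∈ eqs → (∃ e ∈ nes, e.1 = [a] ∧ e.2.1 = []) → p ∣ Nat.card G :=
    fun a p hp h1 h2 => by
      haveI := Fact.mk hp
      rw [← orderOf_eq_prime (pw a p h1) (ne _ [] h2)]
      exact orderOf_dvd_natCard _
  have d1 : 45581598720 ∣ Nat.card G := Dvd.dvd.trans (by decide) (cH ▸ card_subgroup_dvd_card H)
  have d2 : 11 ^ 3 ∣ Nat.card G := cube_dvd (a := ev γ [46]) (z := ev γ [50]) (c := ev γ [52]) (e := 2)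
    (pw _ _ (by decide +kernel)) (pw _ _ (by decide +kernel)) (pw _ _ (by decide +kernel))
    (by rw [← ev_append, ← ev_append]; exact eq _ _ (by decide +kernel))
    (by rw [← ev_append, ← ev_append]; exact eq _ _ (by decide +kernel))
    (by rw [pow_two, ← ev_append, ← ev_append, ← ev_append, ← ev_append]; exact eq _ _ (by decide +kernel))
    (by rw [← ev_append, ← ev_append]; exact ne _ _ (by decide +kernel))
  have d3 := pr 54 29 (by norm_num) (by decide +kernel) (by decide +kernel)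
  have d4 := pr 56 31 (by norm_num) (by decide +kernel) (by decide +kernel)
  have d5 := pr 58 37 (by norm_num) (by decide +kernel) (by decide +kernel)
  have d6 := pr 60 43 (by norm_num) (by decide +kernel) (by decide +kernel)
  have d7 := Nat.Coprime.mul_dvd_of_dvd_of_dvd (by decide +kernel) (Nat.Coprime.mul_dvd_of_dvd_of_dvd (by decide +kernel)
    (Nat.Coprime.mul_dvd_of_dvd_of_dvd (by decide +kernel) (Nat.Coprime.mul_dvd_of_dvd_of_dvd (by decide +kernel)
    (Nat.Coprime.mul_dvd_of_dvd_of_dvd (by decide +kernel) d1 d2) d3) d4) d5) d6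
  have cG : Nat.card G = (∑ j, d j) * 501397585920 :=
    le_antisymm hle (le_trans (by rw [sd]; decide +kernel) (Nat.le_of_dvd Nat.card_pos d7))
  refine ⟨?_, by rw [cG, sd]⟩
  haveI : Nontrivial G := ⟨⟨_, _, hx⟩⟩
  have reg : ∀ V : Subgroup G, V.Normal → V ⊓ H = ⊥ → Nat.card V = 1 ∨ Nat.card V = 173067389 := fun V _ h => by
    obtain ⟨T, h1, h2⟩ := card_over hcov hb cG (L := H ⊔ V) le_sup_left
    rw [card_sup h, cH] at h2
    have h3 := Nat.eq_of_mul_eq_mul_right (by decide) h2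
    have h4 := dvd_of_disj h
    rw [cH, cG, sd, mul_comm 173067389] at h4
    rw [h3] at h4 ⊢
    exact subs T ((h1 0).2 (one_mem _)) (Nat.dvd_of_mul_dvd_mul_left (by decide) h4)
  refine ⟨fun V hV => ?_⟩
  have mV : ∀ w : Word, (∀ a ∈ w, a < 32) → (ev δ w ∈ V.comap φ ↔ ev γ w ∈ V) := fun w hw => by rw [mem_comap, hφ w hw]
  have mN : ∀ w : Word, (∀ a ∈ w, a < 4) → ev δ w ∈ grp δ [[0], [2]] := fun w hw => ev_mem' fun a ha =>
    ev_gen δ _ ▸ mem_grp δ ((by decide : ∀ a < 4, [2 * (a / 2)] ∈ [[0], [2]]) a (hw a ha))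
  rcases st (V.comap φ) with h | ⟨h0, h | h⟩
  · have m : ∀ w : Word, (∀ a ∈ w, a < 4) → ev γ w ∈ V := fun w hw =>
      (mV w fun a ha => (hw a ha).trans (by decide)).1 (h (mN w hw))
    have q : ∀ x, x ∈ V ↔ QuotientGroup.mk' V x = 1 := fun x => (QuotientGroup.eq_one_iff x).symm
    have h1 := congrArg (QuotientGroup.mk' V)
      (eq (wpow ([2,1,2,1,3,1,2,1,3] ++ [32] ++ [2,0,3,0,2,0,3,0]) 3) [] (by decide +kernel))
    rw [ev_wpow, ev_append, ev_append, map_pow, map_mul, map_mul, (q _).1 (m _ (by decide)), (q _).1 (m [2,0,3,0,2,0,3,0] (by decide)),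
      one_mul, mul_one, ev_nil, map_one, pow_succ, pow_two, ← map_mul, tt, map_one, one_mul] at h1
    refine Or.inr (top_unique (hT.ge.trans ((grp_le_iff γ).2 fun w hw => ?_)))
    rcases (by decide : ∀ w ∈ [[0], [2], [32]], (∀ a ∈ w, a < 4) ∨ w = [32]) w hw with h | rfl
    · exact m w h
    · exact (q _).2 h1
  · have hb : V ⊓ H = ⊥ := eq_bot_iff.2 (by
      rintro _ ⟨h1, x, rfl⟩
      rw [mem_bot.1 (h.le (show x ∈ V.comap φ from h1)), map_one]; exact one_mem _)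
    rcases reg V hV hb with h1 | h1
    · exact Or.inl (card_eq_one.1 h1)
    · exact (no_reg h1 fun U hU hle => reg U hU (eq_bot_iff.2 ((inf_le_inf_right H hle).trans hb.le))).elim
  · have h1 : ev γ [4, 6] ∈ V := (mV _ (by decide)).1 (h.ge (by
      rw [show [4, 6] = [4] ++ [6] from rfl, ev_append]
      exact mul_mem (mem_grp δ (by decide)) (mem_grp δ (by decide))))
    have h2 := eq ([32] ++ [4, 6] ++ [32]) ([4, 6] ++ nw) (by decide +kernel)
    rw [ev_append, ev_append, ev_append] at h2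
    have h3 := hV.conj_mem _ h1 t
    rw [ti, h2, V.mul_mem_cancel_left h1] at h3
    have h4 : ev δ nw = 1 := mem_bot.1 (h0.le ⟨(mV _ (by decide +kernel)).2 h3, mN _ (by decide +kernel)⟩)
    exact absurd ((hφ nw (by decide +kernel)).symm.trans (by rw [h4, map_one]; rfl)) (ne nw [] (by decide +kernel))

theorem exists_J4 : ∃ H : Subgroup (GL (Fin 112) (ZMod 2)), IsSimpleGroup H ∧ Nat.card H = 86775571046077562880 := by
  obtain ⟨g, h0, hE, hN⟩ := exists_gl hI fun a ha => by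
    unfold F
    rw [nth_eq_getD]
    exact List.getD_eq_default _ _ (le_trans (le_of_eq rfl) ha)
  have gm : ∀ i, g i ∈ grp g [[0], [2], [32]] := fun i => by
    induction i using Nat.strong_induction_on with
    | _ i ih =>
      by_cases hi : i < 31
      · rcases (by decide +kernel : ∀ i < 31, [2 * i] ∈ [[0], [2], [32]] ∨ ∀ a ∈ D.getD i [], a / 2 < i ∨
          [2 * (a / 2)] ∈ [[0], [2], [32]]) i hi with h | h
        · exact ev_gen g i ▸ mem_grp g h
        · have := hE _ _ (CMat.allR_spec hD hi)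
          rw [ev_gen, nth_eq_getD] at this
          rw [this]
          exact ev_mem' fun a ha => (h a ha).elim (ih _) fun h => ev_gen g _ ▸ mem_grp g h
      · rw [h0 i (not_lt.1 hi)]; exact one_mem _
  let γ : ℕ → grp g [[0], [2], [32]] := fun i => ⟨g i, gm i⟩
  have e1 : ∀ w, (ev γ w).1 = ev g w := fun w => map_ev (grp g [[0], [2], [32]]).subtype γ w
  refine ⟨_, main (γ := γ) (fun u v h => Subtype.ext ((e1 u).trans ((hE u v h).trans (e1 v).symm)))
    (fun e h h' => hN e h ((e1 _).symm.trans ((congrArg Subtype.val h').trans (e1 _)))) ?_⟩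
  refine (card_eq_iff_eq_top _).1 ?_
  rw [← card_subtype, map_grp]
  rfl

end CA.J4Ord
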