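import Cfsg.Agent.Lib.Spor.TzDer
set_option autoImplicit false
set_option linter.all false
set_option maxRecDepth 100000
universe u
namespace CA.J4TC
open CA.CNet CA.CWord CA.CLevel CA.CSimple CA.CPoint CA.CTodd CA.TzDer
noncomputable section
def r7 : List Word := [[0,0], [2,2,2], [0,2,0,2,0,2,0,2,0,2,0,2,0,2,0,2,0,2,0,2,0,2,0,2,0,2,0,2,0,2,0,2,0,2,0,2,0,2,0,2,0,2,0,2,0,2], [1,3,0,2,1,3,0,2,1,3,0,2,1,3,0,2,1,3,0,2,1,3,0,2,1,3,0,2,1,3,0,2,1,3,0,2,1,3,0,2,1,3,0,2,1,3,0,2], [1,3,1,3,0,2,0,2,1,3,1,3,0,2,0,2,1,3,1,3,0,2,0,2,1,3,1,3,0,2,0,2,1,3,1,3,0,2,0,2], [0,2,0,2,0,3,0,2,0,3,0,2,0,3,0,2,0,2,0,3,0,2,0,3,0,2,0,3,0,2,0,2,0,3,0,2,0,3,0,2,0,3,0,2,0,2,0,3,0,2,0,3,0,2,0,3], [0,2,0,2,0,3,0,2,0,2,0,3,0,2,0,2,0,3,0,2,0,3,0,3,0,2,0,3,0,3,0,2,0,3,0,3]]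
def R1 : List Word := [[14,14,14], [30,30,30], [34,34,34], [38,38,38], [44,44,44], [48,48,48], [14,30,15,49], [15,34,1,1,31], [15,35,44,31,49], [44,30,44,30,39], [0,14,1,39,35,38], [34,0,15,39,31,0], [38,31,49,45,48,30], [48,45,38,44,49,45], [15,1,1,1,15,34,0], [44,1,14,38,34,30,48], [0,0,15,31,44,48,39,35], [14,31,44,30,14,31,44,30], [38,49,44,48,38,49,44,48], [48,39,34,38,48,39,34,38], [35,49,45,39,35,49,45,39], [30,0,39,35,1,1,34,1], [15,34,15,34,38,31,44,48,45], [35,0,0,0,15,30,14,1,34,38], [35,38,35,38,35,38,35,38,35,38], [45,48,45,48,45,48,45,48,45,48], [14,1,1,15,31,49,45,30,44,48], [0,0,0,0,0,0,0,0,0,0,0,0,0,0,0,0,0,0,0,0,0,0,0]]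
def σ : List Word := [[1,2], [0,0], [2,2,0], [2,0,0,3], [2,1,2,2,2,0,3], [2,1,3,0,0,2,0,3], [2,1,2,0,0,3,0,3], [2,1,2,1,2,0,3,0,3], [2,1,3,1,2,2,2,0,2,0,3], [2,1,3,1,3,0,0,2,0,2,0,3], [2,1,3,1,2,0,0,3,0,2,0,3], [2,1,3,1,3,1,2,2,2,0,2,0,2,0,3], [2,1,3,1,2,1,2,2,2,0,3,0,2,0,3], [2,1,3,1,3,1,3,0,0,2,0,2,0,2,0,3], [2,1,3,1,3,1,2,0,0,3,0,2,0,2,0,3], [2,1,3,1,3,1,2,1,2,0,3,0,2,0,2,0,3], [2,1,3,1,2,1,3,0,0,2,0,3,0,2,0,3], [2,1,3,1,2,1,3,1,2,0,2,0,3,0,2,0,3], [2,1,3,1,2,1,2,0,0,3,0,3,0,2,0,3], [2,1,3,1,2,1,2,1,2,0,3,0,3,0,2,0,3], [2,1,3,1,3,1,3,1,2,2,2,0,2,0,2,0,2,0,3], [2,1,3,1,3,1,3,1,3,0,0,2,0,2,0,2,0,2,0,3], [2,1,3,1,3,1,3,1,3,1,2,0,2,0,2,0,2,0,2,0,3], [2,1,3,1,3,1,3,1,2,0,0,3,0,2,0,2,0,2,0,3], [2,1,3,1,3,1,3,1,2,1,2,0,3,0,2,0,2,0,2,0,3]]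
def B : List (Word × ℕ × Word) := [([14,14,14], 3, [0,3,0,3]),
  ([30,30,30], 3, [0,3,0,2,0,2,0,3]),
  ([34,34,34], 3, [0,2,0,3,0,2,0,3]),
  ([38,38,38], 3, [0,3,0,3,0,2,0,3]),
  ([44,44,44], 3, [0,2,0,2,0,2,0,2,0,3]),
  ([48,48,48], 3, [0,3,0,2,0,2,0,2,0,3]),
  ([32,34,4,1,6,12,15,8,10,18,26,46,49,17,20], 13, [2,0,3,0,2,0,3]),
  ([32], 1, [2,0,3,0,2,0,3]),
  ([6], 1, [3]),
  ([12], 1, [3,0,3]),
  ([8], 3, [0,3]),
  ([10], 1, [2,0,3]),
  ([18], 1, [2,0,2,0,3]),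
  ([26], 1, [2,0,2,0,2,0,3]),
  ([46], 1, [3,0,2,0,2,0,2,0,3]),
  ([16], 3, [0,2,0,3]),
  ([20], 1, [3,0,2,0,3]),
  ([8,10,20,32,34,4,1,6,10,18,28,31,9,12,15], 13, [0,3,0,3]),
  ([28], 1, [3,0,2,0,2,0,3]),
  ([4,0], 3, []),
  ([11,9,15,8,10,35,16,42,44,27,23,31,22,26,49,47], 9, [0,2,0,3]),
  ([42], 1, [2,0,2,0,2,0,2,0,3]),
  ([22], 3, [0,2,0,2,0,3]),
  ([42,44,23,28,30,22,26,42,44,23,28,30,17,20,36,39,16,18,26], 13, [2,0,2,0,2,0,2,0,3]),
  ([36], 1, [3,0,3,0,2,0,3]),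
  ([6,12,14,4,6,10,20,36,39,24,32,35,25,36,38,2,5], 13, [3]),
  ([24], 3, [0,3,0,2,0,3]),
  ([2], 1, []),
  ([5,10,20,39,37,16,18,31,29,7,5,6,12,14,13,7,2,0,2,0], 9, []),
  ([6,12,15,8,10,20,32,34,2,5,6,12,15,4,1,1], 13, [0]),
  ([20,36,38,16,18,28,31,22,26,46,49,40,42,45,41,46,48,23,28,30,17], 13, [3,0,2,0,3]),
  ([40], 3, [0,2,0,2,0,2,0,3]),
  ([46,48,40,42,45,17,20,36,38,16,18,26,42,44,41,46,49,40,42,45,41], 13, [3,0,2,0,2,0,2,0,3]),
  ([6,12,14,8,10,20,36,38,24,32,34,16,18,28,30,22,26,46,48,40,42,44,4], 5, [0]),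
  ([5,6,15,8,18,31,22,42,44,43,41,46,48,47,19,17,20,39,24,35,21,7,2,0], 7, []),
  ([12,14,8,10,18,28,31,22,26,42,44,23,28,30,9,12,14,8,10,18,28,31,22,26,42,44,23,28,30,9], 11, [3,0,3]),
  ([20,36,38,16,18,26,46,49,40,42,44,41,46,48,17,20,36,38,16,18,26,46,49,40,42,44,41,46,48,17], 11, [3,0,2,0,3]),
  ([26,46,48,17,20,36,39,24,32,34,25,36,38,16,18,26,46,48,17,20,36,39,24,32,34,25,36,38,16,18], 11, [2,0,2,0,2,0,3]),
  ([16,18,26,46,49,40,42,45,17,20,36,39,24,32,35,16,18,26,46,49,40,42,45,17,20,36,39,24,32,35], 11, [0,2,0,3,0,2,0,3]),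
  ([6,12,14,4,1,6,10,20,36,39,24,32,35,4,1,6,10,20,32,34,2,0,2,5], 11, [3]),
  ([8,10,20,32,34,25,36,38,16,18,28,31,22,26,42,44,41,46,48,40,42,45,23,28,30,2,0,2,5,6,12,15], 11, [0,3,0,3]),
  ([2,0,2,0,2,5,6,12,15,8,10,18,28,30,9,12,14,4,6,10,20,32,34,25,36,38,24,32,35], 11, []),
  ([35,33,25,36,38,24,35,33,25,36,38,24,35,33,25,36,38,24,35,33,25,36,38,24,35,33,25,36,38,24], 9, [2,0,3,0,2,0,3]),
  ([45,43,41,46,48,40,45,43,41,46,48,40,45,43,41,46,48,40,45,43,41,46,48,40,45,43,41,46,48,40], 9, [2,0,2,0,2,0,2,0,3]),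
  ([6,12,15,8,10,18,28,31,22,26,46,49,40,42,45,23,28,30,22,26,42,44,41,46,48,9,12,14,4,1], 11, [0]),
  ([2,0,2,0,2,0,2,0,2,0,2,0,2,0,2,0,2,0,2,0,2,0,2,0,2,0,2,0,2,0,2,0,2,0,2,0,2,0,2,0,2,0,2,0,2,0], 5, [])]
def ds : List (ℕ × List (ℕ × ℕ × ℕ)) := [(17, [(1, 21, 0), (1, 23, 0), (1, 33, 0), (1, 15, 0), (0, 0, 3), (1, 17, 0), (1, 23, 0), (1, 25, 0), (1, 37, 0), (0, 0, 1), (1, 20, 0), (1, 19, 0)]),
  (7, [(1, 17, 0), (0, 0, 3), (1, 19, 0), (1, 21, 0), (0, 0, 1), (1, 23, 0), (1, 25, 0), (1, 27, 0), (1, 29, 0), (1, 31, 0), (0, 0, 1), (1, 32, 0), (1, 35, 0), (1, 1, 4)]),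
  (1, [(2, 42, 0)]),
  (23, [(1, 28, 0), (1, 26, 0), (0, 0, 1), (1, 27, 0), (1, 29, 0), (0, 0, 1), (1, 37, 0), (1, 49, 0), (0, 0, 1), (1, 32, 0), (1, 50, 0), (0, 0, 1), (1, 51, 0), (1, 33, 0), (0, 0, 1), (1, 34, 0)]),
  (27, [(1, 51, 0), (0, 0, 1), (1, 52, 0), (1, 45, 0), (0, 0, 1), (1, 53, 0), (1, 35, 0), (1, 51, 0), (0, 0, 1), (1, 52, 0), (1, 45, 0), (0, 0, 1), (1, 38, 0), (1, 41, 0), (1, 57, 0), (0, 0, 1), (1, 39, 0), (1, 33, 0), (1, 35, 0)]),
  (30, [(1, 27, 0), (1, 29, 0), (0, 0, 2), (1, 27, 0), (1, 33, 0), (1, 43, 0), (1, 59, 0), (0, 0, 1), (1, 63, 0), (1, 25, 0), (0, 0, 1), (1, 62, 0), (1, 59, 0), (0, 0, 1), (1, 65, 0)]),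
  (0, [(2, 50, 0)]),
  (36, [(1, 31, 0), (1, 33, 0), (0, 0, 1), (1, 35, 0), (1, 37, 0), (1, 47, 0), (1, 29, 0), (0, 0, 1), (1, 69, 0), (0, 0, 1), (1, 31, 0), (1, 33, 0)]),
  (36, [(0, 0, 1), (1, 39, 0), (1, 49, 0), (0, 0, 1), (1, 64, 0), (1, 47, 0), (1, 41, 0), (0, 0, 1), (1, 52, 0), (1, 32, 0), (0, 0, 1), (1, 33, 0), (1, 35, 0), (0, 0, 1), (1, 34, 0), (1, 32, 0), (1, 71, 0), (0, 0, 1), (1, 71, 0), (0, 0, 5), (1, 0, 5)]),
  (0, [(2, 56, 0)]),
  (40, [(1, 53, 0), (1, 69, 0), (0, 0, 1), (1, 51, 0), (1, 45, 0), (1, 57, 0), (0, 0, 1), (1, 65, 0), (1, 47, 0), (1, 49, 0), (0, 0, 1), (1, 83, 0), (1, 63, 0), (0, 0, 1), (1, 82, 0), (1, 49, 0), (0, 0, 1), (1, 64, 0), (1, 57, 0), (0, 0, 1), (1, 50, 0)]),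
  (43, [(1, 51, 0), (0, 0, 1), (1, 85, 0), (1, 65, 0), (0, 0, 1), (1, 52, 0), (1, 55, 0), (1, 71, 0), (0, 0, 1), (1, 53, 0), (1, 47, 0), (1, 49, 0), (1, 65, 0), (0, 0, 1), (1, 84, 0), (1, 51, 0), (0, 0, 1), (1, 85, 0), (1, 65, 0), (0, 0, 1), (1, 84, 0)]),
  (4, [(2, 62, 0)]),
  (46, [(1, 43, 0), (1, 45, 0), (0, 0, 1), (1, 47, 0), (1, 49, 0), (1, 59, 0), (1, 75, 0), (0, 0, 1), (1, 79, 0), (1, 41, 0), (0, 0, 1), (1, 57, 0), (1, 51, 0), (1, 63, 0), (0, 0, 1), (1, 71, 0), (1, 53, 0), (1, 55, 0), (0, 0, 1), (1, 89, 0), (1, 69, 0)]),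
  (0, [(2, 66, 0)]),
  (49, [(0, 0, 1), (1, 47, 0), (0, 0, 1), (1, 51, 0), (1, 55, 0), (0, 0, 1), (1, 75, 0), (1, 73, 0), (0, 0, 1), (1, 72, 0), (1, 92, 0), (1, 59, 0), (0, 0, 1), (1, 58, 0), (1, 54, 0), (1, 60, 0), (1, 63, 0), (0, 0, 1), (1, 83, 0), (0, 0, 1), (1, 62, 0), (1, 46, 0), (1, 85, 0)]),
  (0, [(2, 70, 0)]),
  (52, [(1, 53, 0), (0, 0, 1), (1, 55, 0), (1, 57, 0), (1, 59, 0), (1, 71, 0), (0, 0, 1), (1, 79, 0), (1, 61, 0), (1, 77, 0), (0, 0, 1), (1, 78, 0), (1, 71, 0), (0, 0, 1), (1, 54, 0), (1, 53, 0), (0, 0, 1), (1, 55, 0), (1, 57, 0), (1, 59, 0), (1, 71, 0), (0, 0, 1), (1, 79, 0), (1, 61, 0), (1, 77, 0), (0, 0, 1), (1, 78, 0), (1, 71, 0), (0, 0, 1), (1, 54, 0)]),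
  (54, [(1, 69, 0), (1, 85, 0), (0, 0, 1), (1, 67, 0), (1, 61, 0), (1, 63, 0), (1, 65, 0), (0, 0, 1), (1, 99, 0), (1, 79, 0), (0, 0, 1), (1, 98, 0), (1, 65, 0), (0, 0, 1), (1, 66, 0), (1, 69, 0), (1, 85, 0), (0, 0, 1), (1, 67, 0), (1, 61, 0), (1, 63, 0), (1, 65, 0), (0, 0, 1), (1, 99, 0), (1, 79, 0), (0, 0, 1), (1, 98, 0), (1, 65, 0), (0, 0, 1), (1, 66, 0)]),
  (56, [(1, 65, 0), (1, 67, 0), (0, 0, 1), (1, 68, 0), (1, 71, 0), (1, 87, 0), (0, 0, 1), (1, 91, 0), (1, 53, 0), (0, 0, 1), (1, 90, 0), (1, 87, 0), (0, 0, 1), (1, 69, 0), (1, 63, 0), (1, 65, 0), (1, 67, 0), (0, 0, 1), (1, 68, 0), (1, 71, 0), (1, 87, 0), (0, 0, 1), (1, 91, 0), (1, 53, 0), (0, 0, 1), (1, 90, 0), (1, 87, 0), (0, 0, 1), (1, 69, 0), (1, 63, 0)]),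
  (58, [(1, 71, 0), (1, 65, 0), (1, 67, 0), (1, 69, 0), (0, 0, 1), (1, 103, 0), (1, 83, 0), (0, 0, 1), (1, 70, 0), (1, 73, 0), (1, 89, 0), (0, 0, 1), (1, 93, 0), (1, 55, 0), (0, 0, 1), (1, 71, 0), (1, 65, 0), (1, 67, 0), (1, 69, 0), (0, 0, 1), (1, 103, 0), (1, 83, 0), (0, 0, 1), (1, 70, 0), (1, 73, 0), (1, 89, 0), (0, 0, 1), (1, 93, 0), (1, 55, 0)]),
  (60, [(1, 59, 0), (1, 61, 0), (0, 0, 3), (1, 59, 0), (1, 65, 0), (1, 75, 0), (1, 91, 0), (0, 0, 1), (1, 95, 0), (1, 57, 0), (0, 0, 3), (1, 59, 0), (1, 65, 0), (1, 75, 0), (1, 57, 0), (0, 0, 1), (1, 97, 0), (0, 0, 1), (1, 97, 0), (0, 0, 9), (1, 26, 3)]),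
  (0, [(2, 82, 0)]),
  (0, [(0, 0, 1), (1, 41, 0)]),
  (64, [(1, 69, 0), (1, 71, 0), (1, 81, 0), (1, 63, 0), (0, 0, 1), (1, 100, 0), (1, 97, 0), (0, 0, 1), (1, 79, 0), (1, 73, 0), (1, 85, 0), (0, 0, 1), (1, 93, 0), (1, 75, 0), (1, 91, 0), (0, 0, 1), (1, 110, 0), (1, 77, 0), (0, 0, 1), (1, 111, 0), (1, 91, 0), (0, 0, 1), (1, 92, 0), (1, 85, 0), (0, 0, 1), (1, 103, 0), (0, 0, 1), (1, 103, 0), (0, 0, 1), (1, 65, 0), (1, 67, 0), (0, 0, 7), (1, 46, 0)]),
  (66, [(1, 105, 0), (0, 0, 1), (1, 105, 0), (0, 0, 1), (1, 105, 0), (0, 0, 1), (1, 67, 0), (1, 69, 0), (0, 0, 1), (1, 71, 0), (1, 73, 0), (1, 75, 0), (1, 87, 0), (0, 0, 1), (1, 70, 0), (1, 69, 0), (0, 0, 2), (1, 67, 0), (1, 73, 0), (1, 83, 0), (1, 65, 0), (0, 0, 1), (1, 102, 0), (1, 99, 0), (0, 0, 1), (1, 103, 0), (1, 65, 0)]),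
  (0, [(2, 90, 0)]),
  (69, [(0, 0, 1), (1, 68, 0), (1, 106, 0), (1, 103, 0), (0, 0, 1), (1, 107, 0), (0, 0, 1), (1, 68, 0), (1, 106, 0), (1, 103, 0), (0, 0, 1), (1, 107, 0), (0, 0, 1), (1, 68, 0), (1, 106, 0), (1, 103, 0), (0, 0, 1), (1, 107, 0), (0, 0, 1), (1, 68, 0), (1, 106, 0), (1, 103, 0), (0, 0, 1), (1, 107, 0), (0, 0, 1), (1, 68, 0), (1, 106, 0), (1, 103, 0), (0, 0, 1), (1, 107, 0)]),
  (71, [(0, 0, 1), (1, 98, 0), (1, 118, 0), (1, 85, 0), (0, 0, 1), (1, 119, 0), (0, 0, 1), (1, 98, 0), (1, 118, 0), (1, 85, 0), (0, 0, 1), (1, 119, 0), (0, 0, 1), (1, 98, 0), (1, 118, 0), (1, 85, 0), (0, 0, 1), (1, 119, 0), (0, 0, 1), (1, 98, 0), (1, 118, 0), (1, 85, 0), (0, 0, 1), (1, 119, 0), (0, 0, 1), (1, 98, 0), (1, 118, 0), (1, 85, 0), (0, 0, 1), (1, 119, 0)]),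
  (73, [(1, 75, 0), (1, 77, 0), (0, 0, 1), (1, 79, 0), (1, 81, 0), (1, 83, 0), (1, 95, 0), (0, 0, 1), (1, 103, 0), (1, 85, 0), (1, 87, 0), (0, 0, 1), (1, 121, 0), (1, 101, 0), (0, 0, 1), (1, 102, 0), (1, 95, 0), (0, 0, 1), (1, 103, 0), (1, 85, 0), (1, 101, 0), (0, 0, 1), (1, 120, 0), (1, 87, 0), (0, 0, 1), (1, 78, 0), (1, 77, 0)]),
  (0, [(2, 98, 0)]),
  (76, [(1, 117, 0), (0, 0, 1), (1, 117, 0), (0, 0, 1), (1, 117, 0), (0, 0, 1), (1, 117, 0), (0, 0, 1), (1, 117, 0), (0, 0, 1), (1, 117, 0), (0, 0, 1), (1, 117, 0), (0, 0, 1), (1, 117, 0), (0, 0, 1), (1, 117, 0), (0, 0, 1), (1, 117, 0), (0, 0, 1), (1, 117, 0), (0, 0, 1), (1, 117, 0), (0, 0, 1), (1, 117, 0), (0, 0, 1), (1, 117, 0), (0, 0, 1), (1, 117, 0), (0, 0, 1), (1, 117, 0), (0, 0, 1), (1, 117, 0), (0, 0, 1), (1, 117, 0), (0, 0, 1), (1, 117, 0), (0, 0, 1), (1, 117, 0), (0, 0, 1), (1, 117, 0), (0, 0, 1), (1, 117, 0), (0, 0, 1), (1, 117, 0)])]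
def T : List (Word × ℕ) := [([14,14,14], 65),
  ([30,30,30], 67),
  ([34,34,34], 69),
  ([38,38,38], 71),
  ([44,44,44], 73),
  ([48,48,48], 75),
  ([14,30,15,49], 61),
  ([15,34,1,1,31], 59),
  ([15,35,44,31,49], 57),
  ([44,30,44,30,39], 55),
  ([0,14,1,39,35,38], 51),
  ([34,0,15,39,31,0], 45),
  ([38,31,49,45,48,30], 43),
  ([48,45,38,44,49,45], 41),
  ([15,1,1,1,15,34,0], 39),
  ([44,1,14,38,34,30,48], 35),
  ([0,0,15,31,44,48,39,35], 31),
  ([14,31,44,30,14,31,44,30], 29),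
  ([38,49,44,48,38,49,44,48], 27),
  ([48,39,34,38,48,39,34,38], 25),
  ([35,49,45,39,35,49,45,39], 23),
  ([30,0,39,35,1,1,34,1], 17),
  ([15,34,15,34,38,31,44,48,45], 15),
  ([35,0,0,0,15,30,14,1,34,38], 11),
  ([35,38,35,38,35,38,35,38,35,38], 9),
  ([45,48,45,48,45,48,45,48,45,48], 7),
  ([14,1,1,15,31,49,45,30,44,48], 3),
  ([0,0,0,0,0,0,0,0,0,0,0,0,0,0,0,0,0,0,0,0,0,0,0], 1)]
theorem hder : ∀ r ∈ R1, Der.{u} r7 (subst σ r) :=
  der_of (B := B) (by decide +kernel) (ds := ds) (T := T) (by decide +kernel) (by decide +kernel)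
namespace T0
noncomputable def A_0 : List (ℕ) := [nat_lit 0x2020120100a00]
noncomputable def A : List (List (ℕ)) := [A_0]
noncomputable def K_0 : List (ℕ) := [nat_lit 0x4060000]
noncomputable def K : List (List (ℕ)) := [K_0]
noncomputable def R_0 : List (Rule) := [Rule.mk (nat_lit 1) (nat_lit 19) (Steps.bwd (nat_lit 1) (Steps.bwd (nat_lit 1) Steps.nil)) (nat_lit 6) (nat_lit 0)]
noncomputable def R : List (List (Rule)) := [R_0]
def LW : List Word := [[], [38], [39]]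
def par : Par := ⟨9, 2, 11, 20, 511, 2047, 1048575⟩
theorem hpar : par.ok := by decide
theorem hR0_0 : lall (R) (fun l => lall l (ruleOK R1 LW par)) = true := by decide +kernel
theorem hR0 : lall (R) (fun l => lall l (ruleOK R1 LW par)) = true := hR0_0
theorem hR : RulesOK R1 LW par R := rulesOK_of rfl hR0
def cols : List (ℕ × ℕ) := [(512, 2)]
theorem hcols : lall cols (colOK R1 LW par) = true := by decide +kernel
noncomputable def JS0 : List ℕ := [nat_lit 0x401]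
theorem S0_c : blocks (facts 9 2 11 20 511 2047 1048575 9 511 1 1 A R 32) 32 JS0 257 = true := by decide +kernel
theorem S0 : On (Step.{u} R1 LW par A) 257 289 :=
  steps_of_blocks hpar hR S0_c (by decide +kernel)
theorem D0_c : allB (defOK 9 11 20 511 1048575 258 A K) 1 2 = true := by decide +kernel
theorem D0 : On (fun r => defOK par.W par.WL par.E par.mW par.mE 258 A K r = true) 256 384 :=
  On.of_allB D0_c
noncomputable def JW0 : List ℕ := [nat_lit 0x3e10042]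
theorem W0_c : blocks (rows 9 2 11 20 511 2047 1048575 10 1023 10 A 289 3 cols 128) 128 JW0 0 = true := by decide +kernel
theorem W0 : On (Row.{u} R1 LW par A 289 3 cols) 0 128 :=
  rows_of_blocks hpar (by decide) hcols W0_c (by decide +kernel)
theorem idx : Idx.{u} R1 [[38]] [] 3 :=
  idx_of_cert hpar hR (K := K) (by decide +kernel) (T := 258) (T' := 384) (by decide) D0
    (subs := []) (by decide +kernel) (T1 := 257) (by decide) (N := 289) S0
    (by decide) (n' := 128) (by decide) W0 (by decide +kernel) (by decide +kernel)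
end T0
namespace T1
noncomputable def A_0 : List (ℕ) := [nat_lit 0x3fa01c00e0a0bf01c2003817e60b04b02258539ea39f4b0a0db473e82411b690db8d1282401b710478480a0b8089a0450698a34b08a20150696835b02a1015422e811802a9005c230a1311ada047848281310679833862e812908fa04806eaa374090201606e8838102c10164246812402c90060248a326279a229514e88a82feab51515083206a2a15686404321455a156464241042aca873560a6afe6a031a11dfe6f3d34231561e7a28b057f190acab488b045828c8d14a831f19198c8915ac33f45118c7863e410318f18cfc67c211019fb0c89170c8b94cd98e29172c3271c5084a064461041c0a04a0250a05b094a04000b68018020a01081c0a0df021200441be80ed022a011808ca05a0832041c23ca057083a01400ae60561b298d90208c10519398c9820ac04f193105846c8611b08db024c3a881d52ada87383aa80920e72073c2ba615c215b10b0ab061cd2163058439a20900ae181a80d4c06b0b0985802a8c1552061902c2aac0682059105c830815920b905800d6c01d0b03040c39e80900819813c0a040150279824c124202a049b0158200204d02b1805c1da804d02d102e019c603d05c20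0d826240b410b2085c46ea0b510ba02ac16a803508090408468a0b4055882a84268102055080cc204404e05a1017806aa00d11598438158c0ad1101843415ac0330868814821c60b101b201480a4a051087a044051ea10c0882014c218605e028a80540bcc05f09a984d00bec01909a081980ce801c033082c0162c0340581810006860330199803414860300feb0284140602f050b032005e200c01818124092c04a064180ec09ac04e064980f009cc01401e1003c094c01301db02742d8406f037280782c8c16521c987a42cac06c0f4885b42dc806f0b6882640de409d04e180b813ac032017080b48fe81eb0f5282643d6817e04ca02682fc417f105a029c2fe4075053a80c40d080690aca85600d2801d04c1825c120c0910e998748122c0290e91056012e602c0ac2026c0d8806d036a80b4136807504d200b405a200b0142809c35081a90e0a822c3528084045980ac058c00a042100940566027013a8024044202101088020052802a03aa8080054800a0101807c0e4c0260129802404cc01f00f9801c03c201d00e8801c038a01b00da8018030a01700ba80140286013019200300486023011980200624013009980100242011008880100a6201a02028040032801a00d08058020600f01eb005802a600500b3003c01e60030070803401a20030062802c016a0020050802401220020042801c00ea0010030801400a20010022800c006a000001180040026000,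
  nat_lit 0x78b0bb4090a0470740811408e40ee03c2808492c64950c03060491264880c0b01d8910218a24a986140f2818a0c528b8c9de84f0410a8b889e081a6171183b85c6a3ff07730b9104a6492172305c0924245e22fa05c88bc218403b201dc30aa18403ba008430860820ec2073038481c329fa94f8386808c29f21530118408d0e32071c11a40280e3a8748a24c5666aa12181158a321302320705c267c340e322acf86230039322180600255843011599a7465552b33074caaa21cb2a62072c396a08f0e62025011e608e042b021827261b2043300943644175232185d0c28c461230185cc8c2c5330b9881c82e861e30f1b0790a6661bf0f3b07a08ba41720b8a81c42e441e829a187003d0c0980e01022c3c8c0970dfb03102f66074233b05e02ee60730bc305d40e6202003a1831018a403a062305d82ec80720ba90238128402b047180a0322a07b03da00880f420a003e10648144a02f2ef19774180c1fa2e9997483f4c0a02e908808bba61fd051a0808404a455226a1139620a4bd227205b097a619222aa85b8324c1f22dc989c03e4c09c138087e03f2809f0fc0832013e40d506a180fc1aac0cf01f880f8e328288143a83405108748128a094ad00887620d2aba10ec86ae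57423e08d5c46af7c1a1b80d5e424c37029d428346e56188b22018d865f544032204bea26ad72b1ad15f0486ad356a892c4a480bd125a0930638830307c28c1060687781821892874cc1331d298e90ef0429b1d2184cc264205f099b0929ef8c6a935418924d52c77e124882ec494629d14eb0a79aa26f987c03235129a705f46a33e6a0be275c7cc19b0cd86c6c47cd1be64eae628e82931d50ea6628d3aa3414451a20d314719d60eb0d05982899d720b2cf9936230955f3226c96ee31a44cac8eef3412baeddde869275d9cb56ae6cf5096a9a73dea067515a2b3e7510267507ceb1b24ea0228c3a899a44d244241348b1b28d94825736489df8efc66b00b43110d678669f221b0a6cd3e4b145b12115962846b014f30360d60c256126202ec4ac62553a931d00e7e62863a030a3050c40d012a982f81a080d13a411ce45da828339c90a3c506a0ce19920ccceb8a290199a042852080d30851042c51880d205e902f84aea10b05f100e02164051069280f81a6828f068a00f807c201006688330198203d05db02f04a0624f05e300dc49e20c6063a00e818c216f01d280e4072a00e01ba00e0536829c22b285bc53880d80b7a01fc1b040d90cda01f81b2404003f2808c104c0830d31069c842a15c186310088026153201305742a621521ffa069c2a420680d39020c2e06071041b00900e22070,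
  nat_lit 0x18710aacf26a2a51532036c54aa2ac1562037455640fc06e8810855a60e53f1b0b10fc4268677123cf9a38c73a79f21a14d0aa23c34308b1058660e416230c581c82044072983f81fcc0ff18b18b309bca4dd43f221fdde2a87b43fa5a050f6630f26ea867861ec31043e99fcc620c0fc3f9917b4bdc82042f690b301fec04c16630b34be06206166b039c40c40a515020a84584a0e3150a03681c680432fd98829cb8c5f82fb98824bf0cdfc1048829c41465ca2e53172dbf865c12e5b07e0b82c207108182a4904c20d2740868c9a084d124daafc09a281995f822dd0332419a26a21354334407e26aa91788dc246d5b8a91716ca846d236885e08b8645b63a1afb0d6ec6b8b4119aacd70c24f35591ab1f0286bb3561092cd76a6467b09cff27f6cb2221b9ac8d644cee95918cff67f86f977cbb3ba9dd2664747e1c83e26acf2d39a9a601e5ad4294c00ad8e41e6eeb775b3a8685273fd750b191ddd4c6c23239089ddbe8ee077629920ebc2ee077021904c9082533153088844260ae1113087015c40af1142889cc822225316a887443860ac10ea889844c80af1128894415e4034113919184a6a0bd35e31af5ed46f9335eb0945f2626c1358a1ac9f0cada035920935b40859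032328940b20c6c112a19b08d82c6b5361092657d866b635b3093a7fad1eb4649a35e3d6cf2e46b88f2546e8a381e489ad4d6a64577971afae3dcca3855908ffd470cbeb4bbb0dd92ea69741bb325d92e824975f59ad8d6c6cb644bb192656c8c45722c105c08ae624e126882f049cc45b41a292616e4849a24ca8618934845d0c32125c930a53424bb16143bc65862c2b117cb0c24d722d985c56e884d726ba866c53ec19fb40883f4408a0a407e203f41f2604b02598298098401407e8867c33c60800cfb036410040810d12068c10240240d18883441860a8106b05fc15020320549881c41040a6103b082c14ca0a506d0829014a4205021a804456e62b606db037055462a906e3010455220e615b18380634831b44e297bc63681012f7a0b2440aa0c9164b039808860e70733084c1ce22cb165188d042a82cb165a9a2519a6f3040729ec5012880a89c2bcad01482d6795a19e8f62a2d733d319ec5b6681633db08e102c2682798199f0cf8c23916b083a81d2a04516ba03a81e860f30799812024e405b075088e5e6ecf00737999e5e00c67f33c899444d4822a328888e047060b633f99948ca6c22a114882c4454c652733b1801ccc6e6530031a0dcca29cf329188e8474c23b34199a08476c0b611cb0db816c40b711e208f416e403611e89a20e74628434431ce450820cf142983c41e44048,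
  nat_lit 0x6c3a1601b12ad882c023619b108d666c31505e69a8d65a0b92cfdacaa56f6b3253a4ade21d841210b9095a2445222991102d2c4464a930d9888c255b5a099bf8dfcc3672222acfdae48d73a74acb31ae685769661c99567ea578932b49823a06950930325552a0293649ba0d6926c23661b3184712aa655d49c30d686b221181ad3157582ecd4657799571a8cc9572ae0873caba63682bb107683b2a0942b8b15c92a86d132b930761a2625772bc20768aee253e0ed10da06d0c3694ab9956c6d2c11c1b3b0d90238411d1b5209e023a405713c0832c4f6627a38a98acc4e6c0c91599037c196c03c13d30bf85fa60f617f317b81ec20f52ea21754da4a25a2eaa07ec4b4825b36ab17644b680c02ec9976125ed1858c21a14e30ac85842990be4bb061fc17ca0be859e9684168a8b42d0882ce16821fe859c47f588ea2064fea47f640caa16c80a8ab89d12c47d57084df88fa2f389be44e062ca31689c041a062d29fed79c87f63fd21fec0ca20640a3a851828a80640320807028c63e09b79cdbad06a31d1f2a29ed12ea8a053da219514088a118ea8c71142d1cb8431d776396ca5caee8bbc66dc6a725393219a2f6d3649519c3b26c8d15d8760b9ba2b888307370a9714b863d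78ae9a0c45d4c83062309355060c83132fb3b08c68664f76133bc8c9e24dd4189a9754bac6577791bbc4caec3d70a21066c7ae686643288c0d0ccc3e0628a3148feca4e1629213709c264b925d3064097064b726e1067896e61900c7881ec320c4b9630331868546b61630b13916c2245625c98680340c1a126c18674898a16b56f99059dcac94e56e9905529ccb4420a8856482c6451228b11496fc446654123078978a54260f214e4a8481c40e2b0230a7224640e2211948caa1745be3153caa041c90e428234a90c5495c8916ad5c4a4172d5216acb5c61ef0f7996bc3dc209b2d591525a5665652a4b0718aca25512a920724aa221d30e49153cb3261e62a7b11903cc21e52cb211983ca2098233116bcb5ec4185a2191208a4c16d2241080c406416a20e22bb9892939ca102b03e7388ab46079aacd0d4c401559992c0960a42d5772132485a842e26492d1d69084495a392c40892a16a6d624fb621cab119f6a2d8162284305b012c3561c842f5869115485ea16221822c41568442e217205882d4606e0b11058c2d6a19c58ab10c42c6619c218b2c50338207f0ce993649b2cb622721938c342c0802719216c7c0629f42da0bf0ff645da42c20bec3f641fc2eda97683f840a12ed10c3c5f6a0f517e213781ea204917d10ac055e60de15830a981bc20dd15728ab458ec2c83f798c38590c0e5,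
  nat_lit 0x2c5a079c9fa251f293993d89ecc1a827aa86a0378c52c29620704a3e61c129c10704a6e21c12c98878c6c0c5942ca1b6a5b52d3805479adf2700cd0329b30701a06257e41a9a0d0afca1dc0ee202543b6420b0eea825412c402c04a880b114cc31f27a106a09f261aa0d5b0210354a0849a21ae2688cd2465c4891ad2866b825c132e0e48c72305c1b11a15d2cb810451009c1122027234111a49888195234905d832a207d03eb0088ad0c1d4650095b43ae856d2b6ab2fd97c651265fa958cac681d12b1091fc3a2409121a10590900a17e2d0996803e6c5bc6f99b6f4b78c47f6de8ac84b4061ea240a2c85642a43621a98592214c7e53df18b163d0c8c619619f9118ccb0e3f2110b458a67e5598090fcfcacb0d21b290fc87e816721f085dc2ce406d0d6902142f2a0732629ae06108ab8a378a2e36460ab8b5c6a11b9716846b5c52ad948d6c46c5b599e3c8d8c1773c7891d170264670bd211d08e8a1af0d9a06d011040260da0875435e61ae1cb304b835c608509718174254812b0a028188656412b095a017010ec063031a006c0c4601b0309006c0c0201b2003054894ec42850095a32612ab414a78da36d1a2365b46110a0814615f21432c142be215e212210942bc206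b21290df931468b71bf3048d16e23861c3a049870c2327093284946f82123092908dc670a10d14a318d9d54662931b30880c52262819ca18a0c50a66832e188dccd0a231118a02cc4602332059900d4464433c19a284291b0c8d98fd1aee11b2c3325dc0a38066a88e04702a3b472a88f16fcaa3b197448f1478a0cf91d8633c476aa288678c33d47819d6c67ac10f3ad90a4068861120893014c222a05316a20b541d6368bb45883b2d145684b4490b480ba401902e080645aaa2dd0ad990785bcc2df1c61a0685bec0ec40d0a26083c641da21a44a224ea7ff89425a20ffe88001692a009000c89840418c65130ca6e18c8a25d12c6ae7573b29bed10312d07620b7083aa81716e20b7502e8e2f16e920618248e2e40c12065c5ca5d813299b6dc6685db71913ef4db666d5717a3ef5f7ab11d88f34150eac2c4b625293621028c4b2711a5892c464db62f9139189630548c61a1660a8c7f542c92169004912d42d10bf225a2a6f53718f7ad0e7686169b2012262713040231c5226028a1b431a9c14e0c89138a1a25d122c3de537b4db87bc21461ef9a9c58a044db538b4dbc9b6a4da72fb2ad189e64dab42893609b44c4d278a86995f0714f5f8b31f69ca74e463eb13be9c82c828a79a0863de934b626aa096696cc822791b20d904ca48641950369508c0ba06953a5816a4ad2b8095bd4908824,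
  nat_lit 0xb5490a1ce76a2846d519928686234247ca992ed50d6a6b53920e91f0834241d10bb468421123259da98c98c688b5311924c946d1c39e21926d4a41fd2ee087f4c92a7457de33e6d98666c5283a5a8ed48b6a2b51a153ad4476a169b334ddb506d312a711aa1a626d374f789aeda6ed6a13c13233c65e68d0467b3dfd1a026c3b509da82d40c6aa7bf9b455832cd1768b1da7da2ec6a8b4f9345243c8f7c68a13454d54c24968ab3d44d2666c67a8b3544d8c42563629be6e088274a7cdb3e60e94828a3a2a0a1ce88a71038820a24e42a27714508a24512827213ba0328b6e45b838f289d84e42271386a16e04e220c92dc107c84ec4204065280f10c823022fe30828604969eb4f101281ee204a2d309135648844f5ac9ad616a2cb52a119cfb16a4c44d9f612c456b06450228305b089ea16c8b81c5bd650cb299f91d00ad3a406eb4e081b9652c43aa010acba2de684321ea2cbad3621645972b77ad3496999ff2cf0964e4439593090e6d3296979e11ab5dbbca5b256bb21463066b1f428b10e563e443558f19678b3cc1e92cea87a45d6a0f0261b12a895284aa0c6081e832880a225515a62d3080e80781811c5e882e9174a8adcf7ec7c01ab18b80f80c2b6149a8a48ec485c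e14928350b9cc5cf13f99708b9ec1f92e1107d4b4ac1ec0fb2027ad2e44382e1a87d6d2c21f02d9210e03e0209c21c105943ea45c104f280b85c05695b4a903b6d2836935d9111fed26c0f6b491083041c82ff17f907a8b3e21ea8f98a6be0c68e124d78aea8b4641eb2d1087ad7546579aa69b99131ece1270889729c24ce64915356aa5fa6e63ad535149cc625fe7321b5d5aeacba0a291d145740c57966fb1608af2220b30793114c1ca586b48b180ed20420f301b39b9b228bb55daad170a2c8cc95aaad0919928c46a121b1168b8b15c622b246869c691b48d313512362b75942b2fb97da249a5f732fbc9ac8b755baaafcd0448bef5f9a12742ae40690ab081a57de28fc5f92c83c93ac49e5fb9afd893cc1875fb12dd28746bba635231ae8a2ac65635a13a18ca85fe27328688bfcc5ff40f11271774a835b478861da96c55f2af18740abeccbe0e808246d1c849c0c38861893845ff2699b10cbfec20c62189814b046482107a1814c0aa5a16df316903e261ec2d23168084ea426192a22d63b2ab0145aa22d96026ae045b1109084ca15e57032b856b66453421b10ec874616621db10d42cc206d4b932d752fa64545aeb2b7c8a8416e2299ab85b9a25a7570b1058b4e81ed0f6902683d8209a2902947c37080890dd1949cf9a8bfc64ca93f97f8859c27f206acb3821e70efa07803c08096,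
  nat_lit 0xb6010554812215519818426d7e232e4672a33558cc40b43a2902d4867346b5f3295549c73514a411061328241852ab469a6a231389a31cd1668acc4e6c1315f5b006d7f2beb3605afe28752f8a16290ea31a68d31bd01b026d985483162ad7a22142c53366158ed3b05621ab7a760d30756f099e9b307559aacb4c3260e713898633d0189ccf307a01232d198832e46591a2465c2109084b0140210a050b5e25aead762317289906d436ca1b5462b0cad188650e28a186d4a1c21b30da914483aca092b5d109ced7240e9b5c35adce68c8938a11a5c1126c3174b810dd2d6e76b6b5b30400630a10054a13499a64b6b5692a3499a4c4c1eb5aa5ad0a10c1b01d719418a8e21c6283186c2d6881c80d8106c4a16a50a54a8942476481b1284891803624086285111dc8c4a17336819c28ae6cb767fb99c256ecc460384889bce1466141332099cd36a6f6133a0315d1c6e8d310a0864c40265c74699864c32c21630c28858c2e421630b08858dec826e23ba85ec4dcc26fb59989847042237137b031c4c240c20612890c486421730d0885c602769eb591dabcfa8c8998e21c70d132c31a8e193c82d6276b0b5830406d5ea10178d119c11086313338208d08c64234337888d0c3e261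e4caa8e1cc3c221910cb02ac430a0ab74221844c26821432211915208a6123089084d93e86453080884cc8a422630910900428a0aa73a33ce5e70668079cb3fd8d00223b34099c18e0cc7077fb1b99ce0ec26d382b19444da40c71361994ccbac22d116182c845ac65c059080d589824d9135a09804c0a22b13e108acca8222bb5710a092c889654bd28ddc43640ac10d082b12ca836f1bba0484244c0581b788a00e66c3fa1fc9853c7f4c2801400847c43e40ad10f082b42428281140a83347ec828214111954d9a625932ab08ac4b240bf12c18cec676c10e19d2843a060a93139b33c6d26a71b178db19c636248867a3a1fc86244313443aa21862640fe44312270fe4a2ca11b088d57ca64a187e35ab6d5acf1db56119c49426667338a19c8a9a8d305002bc81a6087f0790219d0fe047f178ea19ccccc466774aa9fc4cce42313f890b24ce6a23533a2227046a20b533910d6126269301ac3045c74083a14ea2a3cc7428132479a1f7468223404ee09d60fba83401a0284d475441351d4884d526036ab1b0a046ad56239f08d10d791c663371af304d466e410c19b18ea0750c1341d3a84d07bac1451ee185402a0a0670a79019c29c20670a8b019c27e406209f1853429ac0660a628198d9065ec394b09ecbd8427670ca9d10e92874a5e4a40b6058a72f816a1d0ce5e873c3a195aa6d54873b,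
  nat_lit 0x736abcf6dd248a65d2b1a5cd2e8aff7ac12c115feaafe79d2350e3104a9e7222b50da88455a6a18956add0ab2b66ea337adceb6e2566ab6b6dcc96e46d6a54be4d2cd345c3334cedca70526999db8edc836a2b719b4d2a5e8d3669a154baaaa96e1a9714166dc4b6e18e9122b6dc228ad595a436d1b848dd9012c8059bc31ff900223763fe30c946e90cd240249b486d8a674f60d0da65eb1445e2289b54e0326c8260a12f097a8174732839a6521c85642a68f247930cf8734a33e95b1464936aa9b44d9b0e52dc064f427d206a872843954da28e551468cbc65e122e1fbe28b8b6f90a05046c37a1b830dc6536499bb6f0a66edba717d7ecb5b7183648b94938a2e6db8c99bb6d946fa2fa699d4ceb0e29338a38a4b61a5ac6e2c11f4b5925cc6f461224b9ac2de16e87bb3ce922acf78a7bb48010e04f762381b6d0c086b5c9021810ab9c458cb6d44d5a5b62db2b6d7b6c21f7edae76d3b6b104a471621293ef90b0d098884db6aa9ef509a82f63de98ad6da8a0e4b69b0e0109462f517b103d05ea63801bf88490700c2b5179a0ad456a40e015a083824ce89589342b9c12b08d4173819811ce2a727393a35090ba318f8c79a2ba78a720ca9ab3509a8225596a1348310bcd19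18649c36a322d19286d0a3b6da496d1b68a5b42da04046b678811a4186c3561ab47523246df98ea322ba012d1d345708c8d15e76cc3782be3d29283627c7a1ae529688d3469a8cc025aa12c09618cb5194c8bb45d18ca2d9c41061941a2ed36428a545db0cb6d9a272219698420d72872239128d96d98ce5b72da22b63a651ce4709a38114891ce8e72c76916288b24482c6f916483248df1a2e23b4b6cbb65a5b28616b6cab6510414648210555e1ab1ad92b6c8b6425b12d8e2aef20f9159d5e2a55c7df19b70e00c6df36f18978dbecaef12f09b74db86c17609a1b74dbaacb81b19046d976851165c1943ca20c1b32879959cacea1d42d9a2d7960644275af291509806c24b6330de12f8697b1bc325f52f6286e6121a5c8a2241d55afa21b90dca86d184221ad0da84277a732b595aa24129cd1aac905aaa9e21190574844215d54f2a8dd5acca9d1f9a2a7553a442bb62890ad0d62d405822cf8631c8b0b9f0a3502a66b0ef877a2c2a4a049557a7aac29616442c585090b06c489484a522b8870a8993523ac975326899492e92b0518291e29d32aaee3c48dd055da16b1ba045aa2d621018b5ac1eeb62101a82b4206a560b10488226157206a103957ca40720720558824c4082042055080e615420310552d862154194b0ca9590c40c23ca9032d84440cb608903118668c219530419184434b,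
  nat_lit 0x720923d8808c153201a854dbee8bdc47b12742180c7a14e8327465ae70be4e8b5c8617c47a01d12dc82e42971fb9028e8ee3ed71eb8f35c6ae3a47de860a430ac22b0bd86121e8a17a879fb8e118557b8a7de3d109e84bca86153d088aa8c2a42153ef10b08f3ea2a9b8db1e8de9667923d1b0aa8f242791b8d21e8057082b932da9f2057280e13e421f4c1c240e215e20af41c440433e908af6e32d69e15ea9e44fa682c23c888a94f4049471d19a4f128ec36149e0a4eee30892849ea8d72440492849420d546b86119b8b95c24d8ea960b8b2dc52e2a9710b8a25afae26b712b8925c3ae22b70db880dc3ae1e49616e08a586e1c970cb86a5c21180570a62f2dc26e18370bb858a582e14432ab8490d5ee10a36db83a24ed276a9164c4a4a313d8af8e65a34692e0c76c2439a21d2348528c94624755f1c694c8ea922c58182fd9459a8c91298d704b828890156032344851a42521263481a43044c68ea113b8230d8e468893a48b20d31228434c48988d31eec76ff7ce3258117c434f1a5104506922114b81a2405240a350480a5c086a0811510028d3ee043700b80a5b5ae0021131a790ca422aa054b7f94b552c6c36d926b24dd25c83571aba845cf2c681b40db0b806aa211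71aea0464232a0552472af617ae8e865ec1a411d0c4e879192a45646689397439184e442a93949d10d6d272235b13a90328e36a9d580b21c853aa25ef3dc10c1cbf462c1183b03e458222c0160297781f6a0fa3f709fb50e4a30a433a1fb4fda22c844910c5c61476fe182903e41f4a04bb7f35bf2dfa2346b7e35b4068c890048120dd6df643754b888dd462868888da0c6cd110d1111b9904806e421203f031f8593c76fa3f0b0b0edf427e888899f8cfd0b11588aa393e91651da7278db4d096d6f9b7cb0bd6df056dd4c420df46faa12348a90d4c22cc0541a9b04a9498a8bf45faa31071a832945e322f63ba71dc45eb0ca23b831ec8ef2232a3d82c543f31b21990c4c99642293cd8a888aa8890b9858c464e5272b229d8c6a8a7735a3511cc485fd730997f6dee45fdb7b097f6366c8b1b2f146f5ca08890b7a922a18f828a88de94761168c3248ec3306a48e8fd960d1dbcede848a7b799b06e10e68a945530c81152a320a78245a6de491d28b4b473d9204c9185b0a2ae2e28845648913e908a253688a1c73e39e68a66492324cc38ae88649a13edd1096f127d913f19288c9527e106ad92aae89b78a3265d124d456428dbc2de0d6eab7789978cbc96ee6ed1db69e8aceff3462bbfeddc4effb768bbfd9fc73e274633d627c42b05b7611a10c5c26848af9ae96dd656ea736239b6dd44604,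
  nat_lit 0x8a3941760ba875a4008be68eb4505b8d51a1f20b6d41a43e11b2aeb477598d60c226eb2ce56844a1df4efa429e3be08a7aeb08ffe4462c0f5ffe2ffe7ff25d5607a87418d3921e6eaea87a8d4221e50f24f5143d13772eaccddb6edb392dc9667429ea94118e98874d823ac118e9a828b82319d4952e275293f9c0ea076c73f81d29cfeeaa473f62989cfe42088ef80989c651de433dbaa11d4878883c57c2328be6746a7584b33234e84c2863a0a8a189f06c8e646b3e0d91c488153a9a8bd45c23c5517b1abc78a813d518328c44e8c7188091c044e30c71980891d114627753ba9b1d22ea4a74851e19db4eeec29a3b688bb8ee882ee17728bb6ea2773cba835d3ee9e66b7123b0920d4846a57bbabdd9eea86a57ba1370ce70428339b88a0cd4a424835399a98490c0ba35312cf0cc84332123203ddf44d4087401acd2810cb3c59a09779f428b3659aa910566c877946d90ccd1b42333220985a17348473239a1de8884cb3959c991316384f762198ac6e0b46ebc58db5d31d78463011f25d38c604ebbba70a4e2e9a774c827b1fac8966b4c3f5b1d4569825b1ba61d5ccb62a5b02d825d25b864b62ba5add26e944257ba48895c52ca75e06b3035c534629906bb00fc53223c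63b298a4c78ca27d2aa217aee90a4bf2f5a25c497e64beba3add1427a40d21458834ae8c9744ba2a5d06e884387ba19dd0ae84d6fbba0a5bec326c38625f15d01d2e861eba010e0ceccc9824c098df070661254c109d2ee7ea7302e421d2ce96296539818ceae7cc0cc13f283304fa80ccb9e98330d744250b9e08942e76d739b9d34d1ae7228cdb9c1c56d05e57378adb290ee6eb735b9b0995ae6a4618117282c9dfc6efd32c31965dee6ef632cb08b1dec266277e9997445e866233189a6ccc4a69534a10908484824334aa1861802ae8f747a18690c2431ab9a298681868039060900e6e66203934c109b8488a0b9122a1a6c174403705c880dee64ccaf9679c50d3926b6e7da349e1ddc73d693c35cc67ac2af75b71a051028d730b989dcbee60d143657b35d228651493bd10a70ef2229c8a4adbd6a68d2a04aeb49b2c88729f9363499e53e4b9fa28249a173e49a09503350503a699f4cfadcb13408d74b97b5cbae5cd729b969dca2e58899e48f34542e56772a8a83453ee545727b94a2bdee5056c8b9390b8d5eea4226ba1453a7c88c038a712085806a4a68a41267933c842257d32bd95ec8421253190855ea442129d09086e4c4aeeb92adc8ee48815ab9198c32e44230c7d3b4b665b069d296cb43a951644011f5090053a4371f4e99c2fe17ed0c08751a7403fec5e47211b904bc8c5e5,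
  nat_lit 0x874943a8f6e6df56fa096f5bead0be2dea16f975c88f72df137dd1ee921690b2cb7d70089db96fa2762f1e44725ccaae613b629da5cba11c9d20a7784ed08e948e4447347f1a7653b2c3a44ec28e92f1ca77c31c9ba2a80aab2d9d924e82bacb4039d023aca8069404596ad01a808d4cf9709d6d699ecc5dada8c745d14777c5cc13df1c062f7cbc6a47463a2b4ab6eaa1d7e9568c19697ad4b6a5a8f7b98b13e0d4a4af7b3af91aa5ef626a9bc63230611431e7b109ce9a3cc91e76ae217f0ad48862bc5932de3cead5a8caa32dd96e4a056ad1472d0c4a301431a1dec61a429d3bd88a763da342946b28cc6f1428c96a813546f122d51bc42dcf2f0e97847ca13e00dc42f80bc31de16f0ac94dbc22a536f06494dbc10a534f08c2a047aa0d0468a6344198923511aa28d43e828af13ba83a67c69c402200d05f9c4ac17e1eed7809350c9a52b47781bc0b5de2f007777bbfb5dfaefcc507a03b3412efa6d0568232cc5d644e8bbbe2b45280c905889593e698ba8e8b745941620b0c75782ba9d5da0a2757bbd95de6ef496a4bbc95ddeef0c54ebbbb349dcec67dc693b2b48fb830509e2241420a0a7530df214c4a64229a298ab3fc878475459609d52eec2ce03b9a1ce19c0275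367f92360eaaa28d8932c128ffc97758251c126eea474c6cda1632ee8a7fc6a69b158f5ea7ae86b22150f5ca2af42a32155b442b96bb9a5dc6ee4976ebb895dc2ee0446abb7a9102edc8471238aae1e1328b968961200972c28553c81b1550aac2f962a893798ac658d0f091630b1ac2fa2c623668ff868db6801bcf10b82ddcbb6a5cdeed8268379e1bbc1de0c656652a9958e9ca28b824b2165b34505682b146320aab1f8892a236e3f088d88ba247ee4624eef8af0bbbec6ab1f78fda236a3ee4bb6241b2ee176cd20059022a9954ca66a8d72dd82ed65573bb50d5ceed257675e393d428dc2f50bb415d5aece4311bb32dd6aeca4b455a30ad16ec89763bb1add86ec4975ebb0a0c46ec0af07783a3c20cd4af08bafadd7aebc4f9d7840be75e3e46745fc8a0113fe63b34f6b0ed876a61381db3153427023b41d99a80140883b41da2a81940a889b50321f52208b1c58e2a226a38cb00344d8a2691348fff801a1c46004b758388b1c4a00e7006389309ca00c300d8119b865624cf8cbae9dd6eeb8d60494d1be2ec08d0127c591c5aeb66f8c7b889ca5f18d011806a9c5ce2e827438b2c02e016874682091d5ce8c22886e01acc4eb2c75a598891016648b3322009ffd666480e5691cef5a6ac95f23b1ae75676444359d0910d2bed6e35ce92e1e77a72695c3a11a88d4cb888dd1c51d710c85a,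
  nat_lit 0x5f332f9ca5264bb5f3b125588e2bea5f525f06f82419125d88644a82838226109304982a4960cb8823ca7a253c687a97a0a7821c3be01defef7ec07a0c6a81e8c864ee53842914ef7ccfdab09956b9b7866f27ed32d6cde42d6d5ae235b6f7a40a20ff08288ae825736b6aadea6106ee55bd2d09e84e8b5a61524e06a96ad6b9c0a2dddad68d6c5bb92de18f066d13689b895c4ac5d33052974dc4845d337c23f896f044617f12b88cba241fa2e8087e9ad885737118974d6b444522ca88791acea5d22589063839484b20c7112c0964a44a5a5a5080894444b5a51154cbd062012a9b155040240a32f3b5eeef782972bdd9deeaf74d7b03b1ac19af7289909492ca4532083849489dedc7084385bdc1deca0cca994321111396a6244ebdbb5edaf6cd7b2bdab5ed2f68cc24bd989146f6477b1bd8b1302f60c203bd788648e1cc70f15d19f2ce1ec2716f6116e509c25b93e592d66036671e7fdb2d61b9cd7ae64b1b082f5cc5b9610112f583e670c386309c0e16a27073033859c2a65cd70b317ecb9a41f92e6087e511c903c18aa222e078497e1fda0de52fc47411bcaa5fd116888c4bf8c9fe500511e3a7a413609ab06083029d74eba875ebd69035052220d42da307c1bc0c5c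72e3187dcb8ec7620fb88355988915e2979b2964b6b083841aa5112888ca76538c72ca0acca6a7cb399594c54fd75c318b9d6e9536a7e93fdaa6cad44bd612329e9a71ee7a61c988d204f4ebd599d1e01cc7173a390a21e5ecd43931325424c28c63a682cf2e7968c7c53a2b1f25909534572110655c6d3c51f0a29cd4e6a4197c50ab955ca93c920ca10695cc241a513aaadef54840472d221aa334487655b8a1daf52c90f48798d2920c834748812bbdab6a56a7189176d0f0a877bd4083ed0ee46bcbd3a9aba08a274db0f9d8b69b0d4ed8158b2354162f836cc9d1ba9dad62d5a6b2d38f4a70905a73112e120362fbd321b8cdc6825f12f91b80dc226e0b169c13e7e8962fb17ad069eb8541abd28d06af48d1a9bd1a5e899cc85f613111b99a44ae597e521b98dcc46bd72c9425af444c6c7e48b1b1caac5f3bd0b5e7ef4048808d78a202f3ecc6cbcf15d80be6779dbceb17d4beca5f57aeb4ff0d34cf5e7af246b635257638d6ab95af383798bcd9906a7924f82bcd0be0af329798bcc29082f2e86bf21021af15e8af657b2a1af8d3c4246351a9af8d7e425235f0894af2cb794bcaa5e42f28978dbc9a5e4af248c5cbc8992e98b84c5d44f10c7113a231c9d092ae2f202c1970221711c0cae052e22380dc0a68fe5d622e003e885bd6fb2aeba1dccdf570999ede5dad5626d71c3a6ac4d2d7,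
  nat_lit 0xc04914ff010253fad79bcedceaa607303a39d1b20318524510688c02420e869356aec0c70ebb15b58b28307085b1635ffa10a27bc8759d6aeb584e66ad5b5ffcc044d4fc039e00b00c97fc2a59071ca9421c7c02b5fc30085801c019600b0044727c009366f000b0b6bffa5ff6ffc504cbfeadfeeff890b6bfd9a2b2ff428ac789ad05d34463d0524b4d347a028c88f4a47a91902a488f51333ca326557667b3485a7c85565bca34856fa2571690a15c4a8a4be69ebadfe55f28afabfc994feff0b7f7bfba5f9efec353fbfab5fcefe8318ebf9b0bf6fe42726a5fadf9d878d04e735356b6c54704bad6b54fe09657f0bf8a4132fe0474f82733551a9ead4d6a72dfb6a7e97ef8262dfba0404d3a3920b4eafde8d54bf71dfb2fdaa726bf635faefd6cd3abf5132f9e1a6d3c69e31555a76a555bf498eb2fd0d7e31d6104dafce454c1d598ff87fa21511ff35f8428683b11d8a84dd41297e5a132373efccb11c6e7a5324aae41cc88e21fd12b8c4fba648b2c94f4ca0c20d92ba521063b8506332c99642c923fa230403582085608294e2fca83b71dc104e476e21391d6b0eb826c77e409ba8ecafc8d7e2bf19df86fc4c139bf0906b8a06650d286b06c8a18a1b2bf035ef6fbe77d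dbef08782fbad7dc2cba5f72fb84614bed898524f2a9743b21c19e2aacbfd2511a7397fac9754e70cb520ce697793d24b525a8b647905a2fbac8e9437b202d24a86ed438bed13d76c8a7120a1c32dca2404976bec89e05ba8ac51bec35f46fae378d6eeadf56fac97d4bea9df4afa847efbe9a8c3afa4d7d0be89de5afa0c4dcbe79422d0be87818459447cf0222a03fb9adccf06a2a05b9b117622e5491a4922fb69224cdb22d105c48b22171a49aafb6a1ad50e8569d25aa1cccdaa4b0afddaf66d7a2bdb076daf4ccdb66da1474a3c251d28ea33699b88535be71245e46aad0266d0a46069a891748c094d122e447868112df0a6aa1c02ab08730b3085e32f1a5ef5852c6d0be690792c7ad4bdbe60d4da97ad29f4858a5606d6c36cbe5ac779e76c9a695132691346638e4d2347b071c212c1c79a57934cc681be51119d6fe24674af08db06d8626dbe4a5f1d74ea47bbe4105def8e97c523da103c820c156be32ae7973cb7c5be2885ec81e817c23f191f57446ba123c305ed742453323e985f48f821bc0beb01d02f8a07437ca91baf882266359a09a04d2c0c513428314720c9aa90f9a8f9354c9ab51f0ca2af8676d9885a4a2a514a9874c620dfd30e637d5f022f8492621855f0aa3a51d2a54160ea2faaf84a53b9fca403da70ad0d807a2fa1a1a6be65f412fa5a14853a5f491258a76a53a,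
  nat_lit 0x79b119fde6a267f52a34b1d384cff0a15b2d85fe0c7023812194d2de469537229938ca0c229327208a4c9a622960b1603662ed3529a9232d14a029ff4fd2b6b0760c8094fe1cc25322480a74a31c153244e6736d29589f768fbc46f1c80f052534b9019b54187674a74689a08169e244c5a8196756805418aff1bdde5f2b0ebb1a2c1f60fa4ca564e2b99534a32a342793cab05072c7795319e658e356bab5ab6e9b74867d303299f4cfc423a33e888e854647892909b388f12cdf76710a3d11e888f5a1c938f0bc4c1fea53ac7bd81484ac60492dc985064c32f01977dc6e2e362ef987f8bc28e3c71e2b0858426920c1390d39c6ca91b72322478bcc430a1bdb20ac7f8c14f415920b22b08aaa41610ba15542f4f347988fc47ec0b7c13282df04a6733c122e08f0469821c1116087042981fc1011ceb03e273a8b3320f1dc2868741e08bbd088880b34391a2303c381cc0e9a0db038d03741b08bb106e672b396109f4e56d025812a1cf606e48f939ea8a1501682f1179303c85e2a0f2178203c85de60f2959a2b5677c93bf569a904677ed3a59d2951d58b0c4dfa66b318a12ad47f5eb1c25d4ee4c5284b9d1fe1a85184a3fb40fa6fc8dd481f11d0a07e6e4b8c823f8f036485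f8c6ac22dfc877f57f18d1dac96b4756b7251da8ec2c6ba3a9ce89798b81ac0d2122d778a4845e79122c9168182247b121490a81802421860037a4180c0c886017766bcb5e5b12249d2a4895e51122703024894db2916a570d816c0b9a0c890e41812430860702cd43a41908bad06678155e43122302aa488813a4e299eed3e26a909593028d813c09b1590ac82cfe9c522a6d536a3f254e136e07e443f3173a83bc5d0882d17308dd8316618a7ab33d5ce7cc2857ab9459206c88398b2120ed072a838176203c5070515d8219c0ca064c82fc091a929494b14b41da60458fc44f05e2893c2296681f5b6aa07e91c348db192c1ba976948da468af9e0dc7080839348e246e291a4d09c546470d080c088adc61006bdf8a622dc41de20ee40f92081040a8c06dc320962a448258a88a095ff053cb4a8b254967cc7092ba992b495822e442811fe85eec2f817c0a1490a4c4925efa9248f8878107fe3445702042cdc07b60361fcccaaa7f9c419954cbf88830bc7701c780cc06b522f018d80bc05a3a557c864945fc1127c93e61880c4901e4310c4a12661952c996c38224a106146a468721aa2a1a301497ac0c1901dc304207743425f2e87eb5e4ac42d6bd42c93254081aee57726f2c9930ae790acd1878b41c60a30471878c3b462264a2eeb796099eebc875af4d3b26a175e72a74d430e3e54e2e75,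
  nat_lit 0xc2333850e34871b70a1491d51ac93c2fa208207d8414a4a33251c7d6c78a5460cdfa0ec738854d140ee710d09484a123cddb468e571cb177d1ca27843c51c254f18d0973c398a88544a0daad02584621e28823d5a1eb22424887442ac34cf5882ae869946a6236559c9389c62eb38ce338c5921627fece328c53390cf8442b73e088adcda6225b36a1b90df5486d27219beb854820db7dc89e71f5cc9d33ce20aa1106971b44129e60f3082a73cb90ab4f32a2a71541037054e20dc1d7884dc77c413b48e28d39cb0d2a1c229e10f088ca4dc2188e370847841c20b0f4596accb69509cd4196cc50e9a80e0ff08088c5c1f8a93549a6a4c1e8b050479ec3cc0a08818c2846297c1f1035c52ec3cd1e6a050079843921c928fa829280650a410f94294a0651f6b1c5707a45ef50f9942c77ea13b09da018427443b91dd18fd07728a0f88d128a1456c3f41fa905347e8c3c31e1a04f3078c06109e20f08784aa10c1d8c1fe6688a2883f89dc945047f2508127b541eaf1e78f13c7d404aa013b930a60ee2677014c30e14ee0507a9a52291e0f45065a259ae46898d571942126560ca6763ab89d49dba2a5aaa93b429cf2a67d7853b34acfae22bf3ec1952057cc2bf3ed19f6457ec0e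23ec927ae5e289ea658914313d4a3ab96e1a9e47c82a7a53c9a75963a280e4eb90e8d3acc3fe4f592750fa2a7d0c1d344067a07227880b1f4a44e3057a6d1ce2651ca9dd8c9b46529b88f348212b701e66cf346ae8a02a328316e79a319fa2dc93e39f193caebd62f2b42bb2a89d804ec1c1ca49f1d82463493e0c0c9544c3f64bc90ddd2f063f8c1c0a0407f0c14ec1ba1fb8f5a42d816c2a0405b29836c1b28b6c4b860c136ba3ed1f6a4bc8b068d43a56e69b68e4aa71d38e52cf1ce2a72902a28148a32a05a7ccd1b96ec1aafd580440855f9c6e56126abe55e8aaf263a6b958dc8a22e642d1aa659b2ccd72a447150e1a86d084b13250daad1877ac2d657991081550c9a3643a213dea698357a91321b06aa9c17aa23216272b83440690b5f06822d7c19b57964984f1baf2b595ecae95e6b3294ec2bccaf1f98ca2b1558a24a0c190a0b533464a88992203900a42d425418e24712c1271c42849dbac681340990b68f6662b116d30b6c56227b286e21ec8f64b0dd799219fa1ba8f374e513cdd0188c02c189dba494a2c01601139bd3826f29c180a70b05e382ec173062305a4a009869afec940649f5fd8bca5e52a679c1624a9254c89a7952ad77abbc8f0637f909a8cc2ae729520bc19e0c8fef73921c0cde846f5c15ab731fde2fdec1521bd5fbc270237a9099db984eee381a89b0e088f35,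
  nat_lit 0x7eeb37ca728d529a17a2f1aa5251eb9d51d5aaa764dbaab51b7c9be225bc6f931bd1b764d9e6c9a161db3c6a6a519b0f1d4d42a37a5ca3d11e88af43345908f946a63c81e430f262f8ac43940b47497247441a209515159c2acda2a2cee27708acd9bf92a3da46659b2cdb0798b3485442a22a32d63492996db947ba53231ee68d8c7aca806d1968c9b462736cab268c2aaca174b020a390af2df6cc6d7a9b9450aa568d3b13ca1c8da52a723391915c878e49775190a5dce266a7d6b534b3d4fac3e552d925d5b14297553e19ec9e62d130401a0c60e02426b7f70c190d9e8dfd7d293981bfaa5c26ff21d84ec2b0648322c18e9986e60ac60d94e26c913cb298d132278a89544aac70a98a8c418e1145418842c41620ad12d93a92854c230df30b4c5c82e49b841c1ed06793e8c1a20d08f437a192d91c202b6489b92e1a858542da169af1578c8b665b3291630b267f862db1380ff047f97c49b69cb0ecd945ec9d201b28c6b1a4013695b4e66b435a30934ff2ae3b89233166c306ffd87eb1f3dffa470f71d91784576c0e13e730b38f9e48343fe8a0d19e8a529a8db4380f6870e1870352ee1c2351fb251d8cac5c951fa8fad47aa3cacf9acc9d486a42b071b0f250c28602b6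7a191d0c56cec458a188d0ce8ca7084a19aada56d28459c2c1e14d6d04d85c2b8e159b38ad85c2b08d81b0a6d84c2a9613f0a8b40cc299543a8188b6ac29311656d4909884c2b6130a23850c280962f09e58152bfb0771b0845853cd1ad36166ab3759ba1faa22c33e13f511fade94d0ef34709a34d1a6f467a30cdc54ecca779b8aaef633c964b9ada2ef68c09461a41b2fd28c46bbe5de8921577c6bf4a30a2ef17e84bf55fa912789da61a5c2728f7cf00429f3bf88a7eb44923771f9a47123ac34e91db406a9c0743980d33901c8047c8aaf2d3be4de9603c26ad3bac06902ba771b23e9dead99647b14883724521291313e0f16c5f4434a0c18c10a210183283e65c889e14f090ea20182717a889bf6dfb6b01580aaa50128089411af904692822862c262612f096984ac252c8c559e4ad09de1bfd55a0c6077fa8bc8e73acd79c249b8a8ceacf229021b8a5e44cf2371489759c546d79496115edaf2d552aa92363de4627076c7a9610baec1fb2eb1961309026072c20960cb06a9a26339139c9cec1a2639a13ad6e0445c2758869434ac0810d2282060e29072c2390a54ed8a76b83689da4ed482953b48c1b852a40d63b58b2da0e06da46d189649b48d1512c920789b4a94340f11163d9f28d9f296933e99c2a58f67d12db4b1e45906cfaadbe8688f865b789170c164211109302a4422a0a9,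
  nat_lit 0x8db2d809f0e26b4b011d0f6a98cf60a1e93881c4085d170f8b8d1c42a5d171ab38c599cc518779b299c7b66a68533b4ae54d024d128c1945ca2ecccc52b8c52a986b14aad2a488229432b995c9a6dd998c8324dbb285d42e2a169089a3f51faa8fc6e1147e63f29234a2db4bcaca45135b288c4d65e4751da8eb47559f84f5ba7e1d7bdeb6cf53af7944e6ca872c29610a83d37ccca44ddb485657e49ec980ad9793dc92be97a12fce57c33809071c8351f6834347d13ba641a68ee4773483c88e4a189318b5ae720738fb262468a34490fb87d9592e71ecff7c33144f55e08644771b2045dc88642752a2d44c4aa624c32a3720c484ea193da53ad9f04cf96452d3ad9da4eeaa758bbaa682d40fb3a9d0268daae54ad3a5771ca895a6ac6a45994d26a865431cda66d2cedf88693b7def0b558aac23bb26f66eecc3213bb2bb82eec76a89cfa0f27078aeda58ae0f0676e3b731d79a34cd1b3e4a34fda7e25b47000b7fda7ac66d7861bc2cccac230785923a4cda6233336099ac466c0b3335a18b1d5e862a71c118a9d5a262a758218add5c463f767998e0c70c22131ba8885e4ecc9274b0ba54c3ab86331d1088b0c622223b42611cc7e622432029da8448c0ae111a82b95944d8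f7b31496d5a2cfe0921b2e85fc04fe17f091bd9fcc46f948c9c8a9fcad2ae66913a5e55c69ae4d7326bcd98862d74f998b5d6c262d8ce321ae2328b5f9f013d868006b2768eacff1a3ccdb26d932c9db8ecdb731610874c56221d6e411691fe647044032b735d44957089ea44f902242d989f0c36501ec810a2022dfa2828813a560b075a122cd1668194699a2c52428d106dc36e4519c312148ca468524398a34899e05516c30ab9e0a482ce785e25458b1242533600894d9ce2ce6a8b14255cf02e7773bb2cd1ee0c6bea8c33f29ed286a03502bdaa7a24f6a9ca8bdaa81e6b3aad91be8a8203539a04b54f29045136a9e354e2a7095396a392b1aa7235a6ad333e4e6544a1e5ca3426543c83be1dda84e9430d17050c910da6646aa68ff1c7f5b1ccdffb008be198d284e76ffa46be3fa3452c3023375f0a26b21e09a615446cb304c29261930c9287943ac02b0be985e8051c3bb0bc5646c2eac312c8c930386209e8e606b40ba05ac45967044429ee2ac01600287818488c2124ca35243620c21c68887872893949ca4afdeab823735dcec69cc2e1e16f0b6669c34e33d84df84f603799bf71ec0d0917ee0b1d1f10878684893e18f0cabec95e34bc53d283fe53c21dfd55e8a07988ab53140e83fd6a6135361b26cbd9e09ab566d4aa6a72624052028aacc6a424ede76e2d4e56619bd1592a40d,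
  nat_lit 0x927340c5f403879c3d961eb0f44736c3c8be86062d189c3c3221231255867d81a21eb0c911b3d510aba1a0a7f36a49d4f0ac26d4fa7a2ccf9ca6cd4d726917b94cca97e532a0f694c843f91ed085170eeca691f432a1951283e91f4905255148aa554408fd9542727e55188fdc7eea14e552b33b64fc6f957ca926cdf2c903b674ab93a7043558727097c1f6430bc7ea2b39d9d0ccd1a8833839c1c6aed576b40ae50694b95761cf499f62b529e9330d89948c36618b131c32cc4c92638aacd5d4641b72f117e496a478725b3063d82a2fc5259a12d096845d9257117ae3eac8d56112303981cb4aa790a43e8f9847cd87d0c5a69546d966d9b36d1b2c45886ca9ba14b10a1df6da23a12b68afc57e2a3c71e38471d38ea33295a84e5c6650b9725bc53869098a3c9530b1d39c31303dbf0a5f770d1173db94c8df6f7a96e8b74adc2c3b097e0b7681f346f9b1fd8fe65a36e291820bf2a20961b147a23c689b14d8a8e4c726a7e43f499fa1d0ac611447a984cbe4c20684419df68226e96a0a1cafeb3675b27181d04eba6542a73c937f2826d584ac215616b0a8f8a706897270ea93fec3a0be89c0265c3c39917157fe860c2e2907d9c04a60c30608848c1ace806d7b3f24c12c21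062014f76ce693365152ccde66c941299b9d029b6a4db6a78ad02a824333e51a236da67c362c6db11676bd2d5dca050d0267ba75dc79fa1a1961e280b9f59d3470e4364db1c2c3fec9a35aa87f9c8a26e04a749141d7b6bdad3c9a6ab31a69a2347eaed253528fc2c65a6a158ad8d04bf075cb31918c87284c388ae6987e44e62692866658c8ea775329899d4e8c443659135188824d431118868c46ce9f313a61c0c4c449dc382866970ac46951d1a8e5708743ba1d92e2e586aa39766a421147249161e5085014766b8e5c7311ba126741ca0e0ad22baad46668633a2a8cc321e5e0a9218948c4a5600318e5eb2a69891d33009d04b1399a3aa90e93cb49ca4e2ca653324389ae69c10ab2e560a7158975f0deb61ea2235829f5074e1b05350ca9c22c75a71231d58eaac744b48c4c9768c7ba3dcb20a8f742fbb3749898c4c840c3131b61bb0dc896f41508b9cadc656d6609b300e5cb02b81531d259806513857a540aa042cc2c3699b65984ccc336c889744baa6aba482afa5a1c853c688b342951c2ca437babe06cd0b5fec36249ceb7a5606939944c960ecfeac359d591fd4d3e3ab20c5b62daab1c98f14c7e356c87c98fb6165548738c7afa4e32718b86a676233b70d493fbc349cfef0d053fbc338cfedbb2d01b38f889dce406314444b222964ac4378dc22229114c3148de15532b6e754b,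
  nat_lit 0x8a9a2a7183071f146930cbe3e2d422a11336e5b724b435a1a20f5080283fc472a0fe82c916a59e92cf9ad0cd69aa49b891ad2c5708b51502107e22f041ea111e4c88e0c8b02470512848958e0ad62dfda8feeac58d93ac9c917ca0c93bb5ddac64d6c59b6299acacde66aab36ca36c51c28e1b365912cc2066c8d3ca9e48ffbabe1c076c0eb50680eb1c7e03876216e9b4ed27684ac99d99d78b11a5634af1355aa752aabf6e20a99a8f4d0eba3db57697a44bd32469af5685c2b665eab51fa7b06c759e51cf26cee74d8c4632eef11654b6636993a663694b6a5b2c8e585c8cc691ca4892376b2a391234d8f11478899b1b2993112545e9b31a99a6b84c69a2f2aeee6b4ca71a3eb53517a6ca656630cd914bc8a5f1ec285114bed35d9be9d7666baca68aec93b4a5ee6ef37692d769da6863b31daa9a550a6a8454218fa2980502f817a3e80e6466ce3671be8df464d1749fac96614a90c587311ed9e12c81586291e924b2540b866b38c219cd5863d488abac72367587234396c74909fb248d5c711070a9ab90c506152c79586fb1fba7bcccd088c29fbdfa6ce8f7e7a44d226850e87e59bf9e1d0c7b67f391ece1cac7b586f31f5e45ad0a485199e52148d0a185121e4e142679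385011e4e13e2793a920b429ede94909449a8a710e42a63ca08a9a66ad07f514b262a50ccb42c4332869684c985512aa89218cb885c42a1e9d448a3c13d390ab0f10a7a63d321e0a11851dd85911e68f48a2ab1e590501352b0cb86614428fd8879991f2524d23e43507240c78e55051e986593e94f5022adb091d86e03ec720b0d9400e218d1b7c421e20e36ed110c418d847104709e84f31f8a22087e27d329b46a8ed5619411b9a6ac2cdab7348bb8a47e2da949098d452468acf1a890d4924443e75419a6c07cec1484d808fc07e0aa970a5b01947dc8a425491cd095b8d1093ed9a90548443cd5209c4271022872884b4d0a6846a406d599a19480c3cf1e71850548a734064c2365db2e2eb5c401c345d6ac62c8688a3e242e6a4b759a19ad49643d196093f05a20d0135c9ad1366528da3a831d416abe5210a26ab68e136960eb072d415f824e5aa829403999653a69a70b17aac070709a00cf09e282a4c5aa19cdf0feab1f53f1bc4e28868158a2b4b425a0d0d73db19ed4564c0de3da8c2721ae67af3c6a1e38f1c82a484e2206e13a292d496a24b926652504991243e49e5421c3f150ae050c72ca10ae1f70fa487f8640a1feb3c6e3b8b9b211908c62f241f30bbc778c13a50d08f111c4d20433b199d5d26261c4ad88dadd32699274c1b25f0f8ae9764b89721c18d58c4b30c9c52cec36f,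
  nat_lit 0xac03598ac6e32a6b311d90ac84d41daf39bc91e482677761b5746762d53bae88cdaa19e67aa9dd8ccddd6827a5863b54b23c22d2ba961b5269144bdfa6fa58ca3c048cf65611421aa6a565b06358a658ad18cb149528294092a2602112a5c5025d5257a0634956c4ac603b454d8102aa9554a8fe62a8c826413327893c44bac4f228ea65c0d2a7aad0b63a1daaa199acb5765af8459952d30f554b06a571eab29654b24e7041718ba713867ba8b5b2e6a2fe884b4c1a8df1cd053415569ce5272cb395aba249f4ceec678793343ee8d8d64c5e22121d8dccbd45ea0d1821e46bcd89131fe179a33ab246206907c4aa77277131e98f6735a9b0b29894c44a6d1eca8f614c6b3629b12aaad55623fb5561ce466ce8a669c892d10cf0c2367940bf21f90af1878c219bde32a66f8789430a15647968551a4b2496d0e99cfa2b2956a4ab696b0a7466dacacbb3614d76ba075c9ae4b4a9276a8fdd565890394da63dd1f1a61398f4921b90e23179cba74caad42c85e994cc4977a357799facf3c298106fa3ac28b2a0f8d0815f8a4247e8a4f6a7b435db6382d1f98ded1f9c4d8b045fb0aab696eb6267134737ac4cb275e6f45897c4c2304712e4a836088a6a556c69d7957b4ac2560c9b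092ab2a36cccd3139891a8214107313c4b1328e626d2dc651a141137063962821141712a45004dca94bd6d8ad00782abcf1ce62fe4a2b1d4d5750647c5d4b2ecd766d4505d8214a8a54a1bb2958aabc376608a297206f5838c4bb5dfb123e9088d385ed9d19a83a4b482488af717bc45bba43a50729105420a0daad1e82acb3bacd2d610dfa2e3d423b45d528a853671ea17862ea510b8b29b58ea80ce416b1936b296eb3e89f422c327ce53099f4aac31ac0c56b2b61075dabc6d5d2b5b357dabe53edaa10cfb5738284a281306b0a00c47523a8ae6d736b44fa2794716786cad883a1c1cd5b069dc597b4b85254c35537db2505fd2d5b59e023851c2e8dd53f3a444e226cdc95d689695b92670b6e5a96f9bf485bf2dfb170186085c02e0110bd618242f51eb2f9099a41980cc201f499e4619612aca3651a298d4c6a8dfcc66663231933afdd7e3071839ac795316496f8f2923169f4527bb2b249b6436d894c4a323ea424d497a4bb2fdda028ff97fcad42b126545fa2fa59eea147509936ac837124d3658ac9d26ecf653f3a4d9cd966cad5098cb8b3b2a126cd766c114719aecac0293233b27566b1767713dd67e6af7458bb316c864a163c48aa7953c6c3d6c481a7807acca5b589910c53c052c84e198e6f11e239c1cdb271538c92794e29cb353ca72e96798bce65d272e89741454e59ad1d0,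
  nat_lit 0x209b10515b2d3c4a859c141b4c54432c8b3685b42cda26c18a06d43ad3297db928c14243251928b5996aa092ec9762cbae98452eb975aa7991d483aa4f30cb613ce52ed96d2a74a5b69595aca8d822b2cce2a77d92745df24a726ac1b55daae32e477c19968cb4cefa77d0d186bbed5f9afc9ccf5ee454f499dabdc548c8a3299e34cf6cd2d2978971a661330729794c2c4c6cd4d49aa4c1bc7e93474995fd2d26e932d636c5335646c6cd59271125646b2430e4ac89566a4ae30a3b11b439a05cd02f9589be829d4d477a3bb3e828f0d37253090f654d6cafa9b5b3446666360e92b1a4fb14a435d49f314f5f88c6e17e13544aa242ce4672194899cad514a8a137da6168a2e99c133066726d6081499cba7a8cc37c521e28b14628f7c511b0de3408df661b952ee978d1f08f80a34629ac8c0a2d158ca8e82bcc8711cdc5f988cfb679314b4a50ccf37f8aaebd6ae66615ab0914284a74885ed2c25c920a1837dfabba2414c8eb475b46c6410d019904b55eaaf436576f4996ddbd4d4f26f5a3fb2afcb2647f633a5df3c560761f0b0f6982d5a561eb34b9a5c501980cb4e8e7464ee855c998e9dd0a818a54ad6d181acbcf76833b44a2a451680c1c05dda275d838e289d602ed61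3ab61d9b6cda3484c50b549abb0560499e9d33a99cd525b041be9da16c999a928cd1da4065442be1b5f5afa6d7c8f91555714031f48fa2a35688a71d75572c6d23aeb52e991244a625228004038a01ac2cb5c0ae0a3a75d38306374eb188ab802ea548188d1e452c9099113246dd40342475189895d48746367ab14a68c64d0dae294302a4cd530a9815692b48919d7239179e33a286cad19ce49c8ace469c912be247acb7e6b7b15d1dccd236a6b14fa25c46eb67cfb1b2f13ec9fd9851c8d93face6391b0a4653eab2fe97f0b372a1e6db0ab1b5001b60259b6d89d59aa742d4894bb4c3667ed340ab33371d502d1e91f330f9d500cb7d69222df4a8c81c52a1887159448ca389f8a9a5024a921a910b421a10a53980422a655325387543a450270ed37cc4f34cae656ca1f6582142e6f853de8a014596484b17123d29a5d60493de4921bf81746c9455d20adf17a04bd15e8ac3054c023d97d21cdca6e454d070c317358ae6ac156d94f008284ada56d243da1eccd283e2a34a1a548548c4e91521a502548508a8ee537a89be83da53e5720d12c237b2e45dea4659392b09e5952c7cb39431ca52b22ae26b1215b1ac853bf65cacefa758b6076e9316aaa46cdd97818c56a2b49658b2c15799baec5ae561191e675ab3529d3acc7660aaca1650914c553e652b553ace3671a4bdd5eea2f7a90a7580,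
  nat_lit 0x960126f6640932150a28ee942683f493324a192ac264e5111a88665ad0248123288544263c01e031ca8e54c27c396a8f19bda6e1a802ab761bdcd1ab44693d7d86465bf8021d60aa5475f1a4a32fb6be235ffac11b7d29eab640a53142b6c825642a4f8c47655449ab9549d965870a7df9458c65a32ca8647b39d7cabe45562a7c13585aaa25686ab1ae71ac2656c8241a74ea862e09704a9719574c405ab29d9f6af0af5cb3eb525a158a797b1fb5976cbad1b08d80a20e16036425ff2cd72446d580929324e5828c9109c5b3654db08f947dc0b31d22467c74889a4d12686c2d9e3ace3a71cac2d616930b998eccc83e3b2ba4f8caf0c61d2152d0507155172983bd05271578ab9b52e4e86e218ab2afe88548ad181991cee00247117b60d7cebe6b040b13a471a08027457c822c4ac40d644a47b391e97c8eb861caca0a72635619e432b9245e290f5759abaa068719f90a1c8fe95e3534968b28f547eaa3e4ef330fa6588cad51329425f8ed3e7516b0f1145889fe956acce93fcd3045051caae608d30b9558d2ea974ac36a902c77cad221d66ac9d2f23beb33892d1a785284c35f671b14861aa5487678a33ca1ce4f0537391a6cdf4cfe77e6a24f64b07257ac7949524a8c93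a83ab41da3f8c8daa992c632104c7759ab1294d4a6b3514fc20f4c7a62a52675ab3a99d45446549aaa4a6b0ca5652b18f50eead0811ea12950ede44a21e9129393ecd2ff97f951c68e290b585a8c13cf36d0b485a1472a394912f44f88c75eaa4c257fd1b07e78c91a09e6b2c2e33ed503a8193309f74c74c7d7b3ec2638504daf72482aaf6b07783b92264ec090613bb2293d49e907e83f0a1d20c2c7718313421a25ed5dda65ad77539627661ceb133473cc4f74e22cb2ebfe8f7d7be89aaa89cd600b000cb9e5ce89e496724b6a302cfae8d92221e2f4917bb2c945eec16317b42490bcd09071777d68c4422eed2a38e394a8d630d3f69fb1c8b6c48363b98c14c6614cc794b1db4322660d660a760b2329c68f09b301d8da2c6a8da472323962e44ed876c2a780c7c263d31eabb6ddb649c8971ab392a2691c96442caca564ac8e27b886aa300484f4e420e719182f0764592f9659630d886c347fd76e27af7e824dc61e0ca609af0ae126c030a796233c29e147442a211ae15990c51588109f4d99aa518a63ab11acaa74488e41a279718d447a23b5122a7cd1c3a2413a49d245104501ab3519a64cd466a2b2c4faac63276f0bb15d8ab5cf763218d4c6aa6343729bf2144043bf6569267ea949387ae78bb0a6d0b500a80232ba57649b96570942e79ed241920958cec66b24694ea496e3c851e5,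
  nat_lit 0x9aaac69634aaea8561a3ac60b8305b583198add62ceb27650bb26b8ecea97548baa1d5089f99830d9a2cdc73009801501d3f253044fbb27c93e4d2f897c1d506bf65563aa0b35766f2b044b112c69ec32d06da5a358ba0a6d2e9972b415a3ec9641aca2d27df808e267d8a1b59f66afb2a822c409faacfc29c292a5a946367a58434f927ca967ab3d2d1571608acea2a9d152abad3b8b3f954bd0e251a3ad8339e63302869ad49397e90ccbdd8d1abf25bbe45b48ccb2efa342365cb2e2d9d2ce8533cb02ad9ee62aca0898a24cf2cdeb312af833d569f65039aceb38e9c74669634ca0910d2c6f5590d34b0ac1ed07797ab56e6620cc89a83b3396cbe31c997b355093e0d1c588191f4d3be29de4f89cbde27449f34f9a0eb53f669fa97d0aded6f6c95497d9c0064d635b3ad9ad52665cd673740b1835cfc8e7f73f8c88aa88cff5741b319e6984a49a4e954c6a8c2d68a98ad2a2cb6d19da8d152faa38751ba2c1c66e3362f0f787ac422210a8e195aa30cd86644c826420659868cc09267130ee520cd507ad13a3a2f2b1788bc2a1222ec917736b33ec9c7c759facfb48f247830078491d6feb7e4e9dadf353fa044d623a1ab50da86ccb709e62ab995f691bf8df8cd9e380c89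24a988d9e74850c1b0a2d642b209298a38351c60f8c7709871418a6e86f34adb2c4c2c60b1c39ba929f28c89292add13a65d22ce92adc35871d92c7a2c578bf528f29610b082d45e948361cafaa52e2c383008a5c152e6a2e4cea9c19565952283ee1f79052c7e263f054b32a5d4d8d33a9b6335ff15c3303aa8a3f11f86a6e16bb3484ea9cd32ab30ad57e64eb211a79ab252b7292759370bcea43a88fdac3a381a30c896693a935792d063704b69a034946261b30daba49d968ecc76634ecb15a29025a4b507a83c35d67eb11bbcdde8fd7c560d241fae8fd87f431be9c3c32afa6c8b1bdc3665d070e339e9cf4d58f73db38b1cf8860b7169b8b1c582fa99cf1b89dc4ec5d471329753156afa963ca3eadf5632617d499b4b15426d295d2309a59252ca613252bd84ec4c2a5824f22594b22c9160a43521a836b4870c8ba45cac4cb0bb53fdfe8695a97e0b4b5a5a854a69613441a24c93ec54a57e2bf034c1a6234cd4c78ced676b9d241dac35caae50bade7b6d58da1f23491a3ea6939ef9cf0d5fa698e4c7130c251ed237a6ba568ab42ae3f83793396a2acefd78731da51cca640834abb71dbac63ec5424ee67744eaac538cee5db8863e7560c211e844b679cb955429fcd64aa44a40d606a273d81c9bd5eafe3627afb2589ebee564fb27a446a6464df350aaa852772b32083524b01d56531d,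
  nat_lit 0x85c142e67eab12b9fd0d55aaacd24baabb56c1afc2e2baaa0d8a2a9ecd7db18a59c2648d06b8358bb70ece62943178b26ca02689b27fab26d9368d5564d153d69ee559b8b38a0f657a72854dd226ee6beb671b38a4f96c785644a2532e42150a795a24b2e3d71ed09a84d1426c8e06b944df9cb1073069be1cb884bd378c8f0334908c9e2091cd8e6ab121890a8e7473a2fc5ae08b007e911bacdd6c26337519ba61e6a7c2871b1ed1f9c3576abb2cf45bc2d463aba9589ac4cb1648132571ab8c3672b391ccb6cc6b24092024cbecc855e0abe95296bc68f047820d5a1e02d5e2781333f0cc0cf03af02548ddf86e00af09cde316a4fd7c5a13dba000cecfaeba3db9edc4f6fb3c9576de2aca839bc3586e03ca720b0eac032ba8cec7c59ac81e40eb1d6640913ca3b688e847410ce5d8ed5d3979b565eba4cf41ab69b6f9e82668a3451b6fdb7ecebe6f1218c4c628ebe75f1523eb96d52a4b53247da72d4a86401cd5e9d07385a738d69f164540ea072d036a18ccd97b20d41cd3acf637b18d14dbcad15fa29b4c4aaf2d568ab40c706b90753db12b58e6a7a2d537622bbe620eb5e8af423c921f050c3705aceca186a7a2857142bdc14c5c6a9413468f946ef587ca4e0d80c44a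ba52937ae5cccf259771279d3d0c3aa6c6b1605b1872792c089601252a355495b24b2492d0c492533d19e90c68d92434c8ebd4cf28b3814c8180ab4a3792a4b6e9445657a508d566ab872ec76ca18f539849cd4e6acb4e5a68c38969131e1d7a7547ae71caa98ecc9c363bb4f2c9d8cc7863331b469a4cf12aa41d275e246f17aa2b3ab6432b21890c2a3e11fea34582f31d6de2e55e43370b7a236a8e006f3996d9bd0cdb52db307c5bccab069d734eeeace2eb3ae19ceedd3c7481ae13516690256057c8b3e4918ec8c853f90f9acd6d678b3c1d1666eecf85a2cb56a5ef2270bab72d972aded4e46e33168d7c6abe25f12924d786b46aa352d1a68d25593ac9b546a8aecba89cc3537aab6d4dd997a51ae8d632875e02d196964b4b1a58ab0aa686d34494e0a672662cdf4b2434fa21942a2d9f51c97df24c6ba92fb253e8de6bcaa461d9bab305415b3e1d0ba9ccb6469ab8b1f6510cd729560c8cd35ad1e31c8b26b9358290a506a8ee2c3495c7214a11e5762c47e5d33414da0ec5372d4316a4b52c1ed683233d99ec29e5413aaa81540a3f55d5aaeaa53c499d6c9148cd562c3fd9cc8cc466e6caaf638b31ca9ba35da275231bd8e44d75a6f1552a95a2e1cac72b86ec50b66d85cb4dd184674aea57155250decddf4383249524ace76912acebf16233af9d7acd4e6a69354528a941a6a8d306,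
  nat_lit 0xf281bc13a609c01718274016202e0bf211fc3d6a1ea04ca87ac05a809903a905f82fe820b053a05fc134a0a700ea01a00d2a1590ac281a40586098014b024012261d30e91824412e41d20ac1025c0ea815800f201b00da801e04da81b405aa09b018a8268012a028042206a0352a1c10d4886a4116a1a90139822c056c02c0149021004a4029005300ac0102022005200a4054a075010280a800e602000fb01c804c60250049809800e201e0032807000aa0180021805006280320041809002640230188808c01880310020804802c205300d2810000c801900d20018020a01a0019804001ec03d00b1805400a601600188038004a00c005a002c004200a000a8020002200600028010000600200008002a02d13db049d822b886ea3b280c49a020746f662ab95dcae9103655932b2c7c70acb0a9ce92cfc354a4208c48e2d8d164891acfb21e8b0f39811c1f5fe47616a7b0bd9e40c90697f59b929c946fe6b21ad36e9b6937398d14c6d41c690e87aaa41520a8906486142dcf3c70bb94b0d28652ad32c7e3349dd32e438829291498d4462477b11b7b1da835536bbb553daf0d5512bd315eeaa69508ae63573dd74c62fa84241b20d827689db35466a324cef677ab3b95e4b3849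c22465e75052936a51b94532ccdf1949b560a528d2766b8a25aa4ec4e084b72928e4ee5493899b44d24e49589ac48b821bc6d5636f233b20b6a4de1c5b8ccb62fcd55589532cf665031608b0b20dead29577abb8b9f5cfac60cad8b534eb068dffa6995605be0b581ac0a51cdd9c46385e12af05c10958a89dac4eab14b6679380a59acce765ab2d1d19e8ce5468a3434bd661ed5413eb14415bf68c30a142d7b2bd89474a640bef2488cc4795a3467e79cd2457a499a3a48a6926350a8c2644ca9077b5a3db120e69f44fa1c895950c5069f82bf3562cb3f29fc2ac667e23592977b567a5e0b0a3882acfbe7de50828e6231325d4b22e85d957a24562fac37728991f58a6d370e91ee5c92a9732f5226a4bd24c793763339cdda26cf37433da1ed04f6d92e1264146caa469a4b2b69488ca459a433dc5ee6a94892f2a53ebf83676615a931098ca4c5617b3fe9ef4c6a77b6b57d6be834b2a1e1d84185873d3a5aad7d67a6caec74d34f46966cdbf76432d4e92aaff3addac9b5d36d5bcb3b1d7eeb78d5bdc5b33dcabf495fdafe94c56070473e8b11458dc0e3588a3e32f4a4a6d2549028a3928e6d1faa2e8aed9e2ccf179a7b292e6ec508f9ec9d0d9efc70928471c23611a67853c291e1a11e90b1858ad094ac0658e2c718785b3a8c50a6334ada8026b289f71ac4d654cb1958c8c28a7ee70b8,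
  nat_lit 0x34921959ddea68275dabbbd39e6ebb96ab55cdea0d2d53489bd40d92cb457ce9a204ea06f9d3a889d40518275134891a484824691364a1b284ae86c914f19df8536c1682219acf0d3e644335811a7d6288b6222b22c50d60629e12631ac04acc24c05f18958518c7523a019cfc50c674012a90a181a0425501f2034051e474839ca0bb45068739068a8a0c2148332199a9d70520a333147a0a400a2410a085a0a3007040bd05f2895c216a0be0692042c1a6a0d201f2834c19ca0d101e8833406ec0bb05e1894049e60bc0b78893c18c80c701d2031801ca03a007200dc1b0829b14e291582dea29c038205bc08040d806ca066c0fc80d903fa81f8048c0820419069834ea4210aeb0c3080464010a9990080d021530a920ffc34e81520ae2869c10661700389820c03e20710380807c046a07f01c281c017ea038020182fc6da89604b0aa73c73ea961098a0e7c23c436d1b721a24480836e120a89000a8811308a28d30696a11408f20d2c02e405402aa045c23080551ada8460262a35b05c2890407a60cf08020c5c0b0811f09028dd46e8a12009420dd0030405802ca048c24880591c0a849063e84f31902229d150a5fd6a2aa2a11608d4508210c8064288ab2aca0c84ab4a55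92159ac14ab0cd403421bbfde7a668457f0bcf51602afe0e6a956914aa8b0191aa2942086323191322b467e68a218f10c7c206431e19f88cf8220233f193b22e1172699b1c51a2e4644238a09408c8864ca381094a84a00b6a12902d2016c0228041021283801bea042026a037c0248045023200481daa0460282041820ea11e02ba841c02e605708d98d9409ec10408298c9c64c61051b210c982c2436402b3046c12481d40eaa956c39ca1d5048207380d4615d0b0b10ac85865580e6990b02b821cd0480857003ac06a035985840d0c1540aa9903081661550b01102c82e84180aca105c2c0606b0e7b0580206c1cf0499840c09e405000a9013c12620920150824c0ac2100026881580b4a0ed00c2016819c405a05c103380a480b802f104c4156821610ba88dc16aa21705a202d409c4101081288d006620ab0552084c20480aa05a2840806a80b401b280d4162622b019b02b015a6220086982b421c210d0290843801aa03600aa81480a6810f08828a3c218a110028984300bc605100cb01780be613509a1817c16021340332019c0388066058302c4068c0b0006980d009260a4064307f414260a001798284060202f006080c0026c04902518320028c04d02718324078604e01d900f001e403b01d98128064c03b04e905b00dea06e036305902ca64390f49859413221e90b6a05b80de816d,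
  nat_lit 0x531081c060a0a6020883681482041052a80c008680a50222810c1c062b7020b036c1b862aa1549837056c22a907308ad8202831a18daa270bdea31b102a17bc022a044164a0814426c2c9073181101ce60e61650839c59622ca0552885447aa2cb33e1a3345aea80e16b22025014b138795aa028f628f2b33d21ec4470c67a33d98b6d02c667b7980a058d042f301b7319f047222d6075283a424e82d7024183d00b640f3093883cc1d48127022a83a8cfecf377801b9bccf26f0011c099e4ca2826a11521944472623811d199fcca4c653115088a4162222a341b399cc006e6673299800ca42e654e78994816cc23a11d99a0cd04623b05b188e406c40b605ba08f047a80b7344a88f4d10673a14219a2050a228406788a141e240f2024103c4024a04803b083a008a2076023a80480f0804703ca81e030a649603b3060030264892441860492a24880c509254042a0791ffa862834c84ef2782a0845c4a4f017198b881dc62e30b8303b85c8682524918b90308249222f2117c2e4845e010a01d80eea1850c2281dc322618404a2076011881c20e1a94fca7ca1c30e5a14f8050408c046a071838e808d2a62871c3a6c5122b3135510c0a8ac455b181103862e13e19a070ab027c3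18021c990c08300190aa180acc6d3a2aa9959839c25550e5887383a4a54c0e62872c11ea1cc0141823c04ac085043184e43646086047106c83c66464299b18508c264600b9991842e82173039085d012ec1e30f2194cc130c1e70f4111742e4a171038a85c83d065340e0187a037e41c0045906fc37e61e40bb306fc188617b0bab119c2f06177039985e00e82073010081d018840c501d103102ea8176039205d410440940159020811cc07b0c8b0238104619103d201ec044807a03e28088144807c051a82883fa65de050303003f465d32e9187e8bba25d21010977405ea0a30b7288082d8844d2272ac4097aa44e22a992f4324645504e306483e465b9138187c819022700fc207e413e81f80172827c1aa60d401f98354020203f3a421c64510a28706828a2017a825135725a010eca41a5742a1d8d5a8ae812611ab8d5e8f8337021abdf04a6e05a29d069102c3114401b1b0bea688072b097d4d5a2e563a82be084a4a6ad125a8948176824b3bc20c70606a0f818228c0c53a630412530e9826663a51d211de053643a4099884c80be21333bf33df0d5266a812499aa4494224905d889281b0c29d3619b545f34cf8046a1a5360be68d47cc0c17ceb82f9812ab1b0cd886f9a3ac19d5e0a2d0523aa19d4c51a675414708a341a6228e7ccb1d620b270513ae1c165f3266c43bf0be64d94cddc,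
  nat_lit 0x233207942e8a466224316bc8a46b4420c3112089064520b51112040680a31012080c992841c55a23126738b420607ace709606c0f559b21a8802cab3577292c085aaaee0b1210b562044c95a3a2d208928b47217291256c08dac9f6ac439622b3ed58822c448aa4b60586a2c3885e8b0d218290bc2c4a43020112ad085c44020b5290b82d6616a036105882c6406c037185ad628cb152189858c33864310ce886700fe219d271b136434264e45b13138c9c661a11f01138d0b643e026f2216c61e47fb2ed2216014241fb0fe2976cbb4a1fc17da17685f8a2fb07aa8bf05f480f52f6a8be856062af06f18ac008420de06ea8ab81cac2c716419fbc61c62c807e10c38558a793152a0a981b682a5155a0ab01ba82ab156a83741fc62ad18b31f8c58827e2342a3b89e7ccd1c39d33cf8d0ca68511e29a1858862c307218b101ca20e402208394098c0fe07f98c5833ca4de43fabbc50f6a87f26e9a1ec61e64dd07e30c3c620687d3f998c4059847f32f6a17b840885ed166183fc1cec2cc166997c040c62cd102908181b482a0150a8b081c6a2a1052a038cb9465fb6fe33970bf065f7104997e04142209053888283f0c5ca2e59b7f0b8265cb105b170440e62100bfb120841a24e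80cca13409a2a49b5f8293449ae8bf003f1066433484d426aa06696e8a4d50bc091b88daab7122c22d948da845822e291b42e2645c35b1b1d049ec6b735c1da08d5666b812591aacd588f8135da1ab04a0a6bb7cb9bd85dd2d3fb591190dd6466b229fe0ac8e7fa33fc36133e5ddd46ee97759a3f2852d13579699cd53006f2d9078a6016c6320f323b3badd4274299fe9ba84c8e6eea3231191cc828edf7702bbb0e80275e77009d00c90aee0113a1920438c62a1111888415c622201a102b815ea2281288990444ca62d10e98870158621d112a089815e8225113a82bc4a6822712a2894c4a2c6bc35e9bda9f2666bd5740be4c49a86b13592be19b40a6b232323680d822ae805ea8950b20864635ab1640d82625436119b057d826c224c8afb08b6c6b679734ff63d668c946b9c7acd6a28d71e4a28dd47083c912719ad56c66f2e5f5b47b94702ab21ff8a8e12ecc9771bb1a5d52e863765f58a5d092e2beb22bb2d8d6c8697624c9ad908ae44580b81115c49c224d05e08938a68a83422ea2dc8934a4990c329268930818624ba12608bec4972c298778b0c658522d896189ae245b22f2add0346a4d706cb0a7c33e368107ea881009880fc053183e4028404b0260812c1fa804c052283f433e619e0401867c0484080040a068834680810cda868c41a620c0541883415220a8019082a440e4208,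
  nat_lit 0x625ab1298be908126d993889c8496262f8a5898968c5f26c2b12e0a8718c42c9c1505f8485942d2200a25a885a88eac4b54de6a6e5381da1ce28c2d34021c4c62606804b430c4c114236861ef329c1122671444b9a2447bc6a6f1ef88f7828c23df538931409b64a710cea936d89ece5f26c131249de2c4962485a15568cc4f2789b13c9de368526c093bc9b4a19d278a13689e4a4f14109abe09decbf163e9d3969c86c7d8a78d391904314f626a47bc34ca4f29a5a3135490d34b641193c99066c82a749320e81a94a8605a5035048ac0b0ec095c0ade8a486c32361cb00ad896c4296029d28d8859f9361a82e934d6b2a505daccad652b7ab599048856f256aa0903b284ad0b49911488861692231a54968224462ad8ad046c8c6fe2bc29110aec8d726b9ad3a6598ad7359f9cb324ca6b3f4aab49964c071d04a81c9806cc295049b224dc6b489361b398d986d069552aeb24e06b4235908c08d692aecc176a31abbcab86d462ae8957039e255d1b4115d83b4a1d90ec315c4ae46954689995c8a7c2d132bba15e03b4857704a28768238c3681b49a55cab6636908e18d9c0ae411c08ea0da84f0811d1b2a89e0196627b13999c545666273102b09cc4f442b306f909e84f460c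b2f7309e85fc62fd07b18bf809220f60fda1750baaa6d212d29754180825a12db1b54bb2c25b0fe197650b0c92f8c29c6110a671852ec1214c5f245d807aa0be459c82cfb4228b445a0b6843fda0b40fec42ce3faa447503287f53fd2a0649be840555c2ce8a23eaab83fb2447c34044df270231658b484e05e72b168ff6abce42da9fe803820650322851c28881450322051028ca06414f985194e4736f18e2da0d0ca83e553daa25d140aa7b18ea2281142831d52e322863967086aee9c72e6dc35dd7788cdb87c0ca728aeb45ee6c872a38761cd914b830ec737245710608e6e4331a9714ba715d418b0ba90602c4626a8a0c1de4c65f761198d0c9e6ec24188993c9ba28311ebb2974cae6ef27789995c7ae41440cd90f5d0cc28651818a1989b88c5162929fd89c2ac520d019384972c4ba0c8192e096e44dc0cf112dc320218f03d886409c8cc606309d0a96c26c6125c8ad848ac24b9040306809b264d80ce291308a26adf5a233b9529c6add20a9a53882c24150ac890582dac4512d792df8a728a8260f292f0a84ac1e232a1508388c1c50e1094e48c821c2046307108cca46523232df0a9e45500e4a872038cc5482a492e44b56aae20f7216a8b5e65ae0f7107bc13621ef2d5a07b882ea5ab2a49b4acaca65490e989594aa285520e4a154411aa1c92a7996643cc654f04c087983ca8596,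
  nat_lit 0x542883cb4ea6052d0336f8b4861f10f6196902bca42745b20c9516ab1d9580aa2d484c6b0156f922d88484adf5701909882ccae05709ad6c86ac84321d990e82cc643b0b3885995bec9725ae9a5f48a86b5d229911502dc44535708b734b4e2ae12d0a969c3d841ed0dc29480112a1ba28fa86e09ec61ba2ce21f357f8ac9927f2aff09fa84fe27c8967012c81df0f0293f4b16a1e00f3893e49faa58b2bf2162c35684fd293893f4a3e252727ab13d89ea84f5045186f0a3e852c29b914e0b2825934a1b0d80b28c9430f189651a06cda99c01aa3d6f87380681994d906a2d032bf0a0d490444980ef2877412aa1de0f3a15f83b681dc04aa076c90461dd04a902589f2c8a6279913d035044f318fb13e4354c1aba231cd1171274464a18ae248d6294323432e0970672469181ae0c8d06ae9044902282ec4468234a131032a8469262a86540f8c07d650195a12ae2ca02b68a55c124a1d72b1a95b597e6cbe2891b2fcac485630e8a1588868a1d1240210d0902a4800f5196848fec1f32de1b7cdb7a65bc2d00b6f564225a00bf2920487eab2121b190d561ad10a3f299ef961cd1e846318cb0fc868c616291f9085a42c53f28acc087e27e50b2190d887c843f0b3a10f835aa167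0bca06b42f4a179233993156cab08423721bc571ab2305c5aae357148b8b235a2e282eec46b2361adacf1e646c5c089e3c8e82b81039a85e8368a474044206cc36880880439022035ea1b4042986bc35cc396097306b810e612e02e204a8256a14008390cac2564107031284ac04c408702e9821c0c480630301018494e6400582b129c8504a01b462cc246ca294fb4625a35682b68c214190282be64280358857c2bc8424212a05795fca4251bf1a62916e637e1938a2dc70c838709320e180b2a12611008df02462220092a8164670812519ca8ce0440c29431b1baa8c52663610e098a4c50221c086a8ce4462a6283341997046e6668118208c41668230119282cc668823219aa8cd0664c8d846c9c7e977068d98288aee11c0305108528cd5144a8e019f20e551e2adf9451132e91e248a24762a3c51da68ec19e1a3b421ec33c19e9a3c0eb6633d1a211d6c5204344088b044821e410f08898446d1282d4076083aed12b68a16aa5a240b8405d40428b5483a615b07630b785be638c40d18b7c83c281a44c0907a250b1273ffac4a05a487ff16eaa02100082d253732001130680818c9a26112c231944b8a25a6dccae75378da205ba80ec16e2907502ea2dc7dea205d03242dd40c23049c5c8818717ab8b8daa6265719238ccbb68e3236d938c9f7a46db2ec2b8be25aafbd3fab447a0a82756,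
  nat_lit 0x19b10cdc21843361d3b0ea07b8c3dd0a2b0f702a2a1500a71053c27e615109f104fc29880cd09f3035419ec13e031104f8298c14d39499b20bd86729102117b0e20ae1914521d24e868bc9816ac0b0e5eb02d324a1cbc50e474339da5aa4e78a73b68e1b6a822423431a12a3e6d4e76a817695a9d07488f81a1220e8c96a3423261992ed4c664c39cb1930c9456a632491928508a73c2ee15a94e94a6497cc33ef1f366cc32a72141ed46b6a4b512da8ed4076a2b50b34d9a6e6da869891538d504d3169b8a7bcd762d377bfb1e0919e632f4681a33ed4228d03618da84492d6a03551bdfcd50cc1968b9b45ad3e6d1768a95a7da28921e7be23451a2a66aa6a8b3455ea266933631bd44d8a46c612b11b15f3630443a50be6ce8aa74a3a221d1450e874413921c40512a72106888a2851220d113ba8a244ec82770f9116dcb70a71e064889c84e2870d2dc209c44eca5b8065209d8196a0ca2fe0a19060425fc2ef28c081ee569eb4d0969889a369ab4bb2c908a06b59226b2d456a474239f61ad496b053ec58892d6089ec4504219c5c0874cb285949cfcad38569da011aca62de34025970c5bc2cca43d21a0da6cb64ab2eb4ba5a6ad32b3fe59312c9e784b6996ef1cf095ae6dd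e21cb2b5d0a2718358f9a14563c4b1f21a92c78b3ac59eb4c28bac328c4c30c6212a4954818c05008630954c19403e2065054244aab4c10a841e0b698174883c00f060f0079a8bd2d28a2e915b31efcf80635617019f001a8a29314921d88b9c82920fcb1738b9e627f2e11973cb8245c20fb316943e041f104e087c43e216960f6307d83ea81f60b295a5c870a5c304e0da583e085b221c207c03eaa43804f207d413ea09e07690b82d28969515bada50ac44bb217fb5a4c5fa569210610bf41ecc2ff107282a041ea20e2cf90bfd75431f34d7a418dc2489af2d11168d9be6baa6ba9d535cc8c98f7090b844b942e12a29348aab5472fd7319d6a9cc82e632ff0b990af2cd755d01d14a8a26ba02bc9b37c3b625793072183db22a60e73735a44c0656901079180d76a44825da89260b0cad918ae2aed588c8516664aad56848acc9a2e1d09188a745c26a33115234634e48d9a4688be291b5f7b4a157dc2bed24d0afb96ea245f0cd29359044ab755f9aa0897e48bf30ab1055c9362bef47e0926c93a8bf20c3b127493c6bf75fb1927a8744bf65ba150e89d08c6a635ad1458caac6b2732319430e849b24e1926c936168e0cca934cbfc84e6106317f8bfe481e24e2aee830c368f65f3352cabe655e0e81957c3a221d00c3a5a38938818741aa9270bfe64d3621997fcb042c43302896083ba6582,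
  nat_lit 0x55dac78880c8abb2fd93740b5445fb203317f0414c4062d6287b8b5aa5ac560996b42b456c420432b0482464110ab2103481caabe203a90382ae6412203a1022d86440608330ca48f2cac8b6095b0865468c346118ca866048c220495b0069643300848dafc65ca8ce43a32b1a68a6a438d335af94aa6a4e4ca125226a26a559a30cd46270334679834d15b02cd822be9b601afe657d8d30b5fd0ea85f12c5221d589c71a6aac9b605b30ca9010a0962a60ecac79d81ab115bc73b06cc0ab78cf42d987a035566618730789c1cc31e806c4e34493d0119688cc1972232d19aa32e08430426d7696bcb5d25aeca244513044286d8a28c8c51959a310a1c632b195b14503ac65140ea0943836621d40daa82203ac81b50eba875ad72b6ba18c25ae41d276b818bb1cd112671424b81a24ed6e49701ba15adc630d6b660f12a51a4cad322a3a3495a4c8547b5aab49839096b5b5a3142036063ae2830951c38c25060d835ad010c41b00d8a942c8c02a95284a0ec83628509285286c48c4850ab59a9188c2866d0230315cd6ec6ff73849add8e14270913789c2818a8266133a9a6cdeca26730c9ba38c40862110ca1881d1a262032e0ba34c30c61930b1185c8ee86f60b9adacc4dc847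7063b09b84de76b309288e084c2626f13010984184426001ca0308c34424318d10c046046301b4f35ac8634c7d444c9c7123866899b589470de4056b1b57b5ac11084f1a3381221059486703379118c432261f30f2a65470ea61e10c30864c26ae843092184c44c4644322aa410c2046113082327cc8a861030929914428861210aa8851fecce7479c9bce0d006f3934089a004762681136b1c18e0e6ff673399c1c4da6705136109b418e426c32e3197445a622c059188b416620b23298b1309b226531352831818ca26b135309accaaa26032a109f0caa56ae1b7a25912caa97a10d1086c6eea965140a0ddc242c12208f88dbc500c7331fd18fe429e63fa1402053019a828010f1087c0b0c12114128a0429c83f61412053819aa28232a99b344b2665512c1096417e425819d30cece6c9030338b1cd9e3669358d89bc6d13851b144323d1c1fc4312189aa21d10ca3133f922218ce4a7f205a888d8cce6be578eb43f2d5876ad25095ab0ce244a111aa19c4fe0854d6982a801e40ad3044e23c8059247f03f8a3c744624666333aba54fe2a667339a1fc4ce8a67311aa99d0ce48235165299c86b0693149818d6026483a01d0aa7511e6a3a11a0223cc22223411d30a770eb023a61a00844474aa3441a229f7474ac7dd1af28d0075243aa1cf8a4c2d56836108d25aac0aaa11a1af1a38c66e635e,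
  nat_lit 0x5d295ba514c4ba57ac21a5d5fe8f58212aabfe3108f3a6a1a4621e9c6e446a1935119bab6e8595ab376dc2b6e7b732ab35b5ab6e669b236b6a5ed269b72b2e19a66d6e5b711db95a686d33b510db8da68d52f82c934d2a5c9555b70a54ba0a476e2b709474a4028b2b19a123711bab2028648b37a3fe920046ea47fe402a8dd86da48061b6b0da3d82c36d97a67b065e332f656c8f111ccb27000baa1301cc984bc734812f1ccaa6c89e889b21ca1a6c936416e0b7030e651e46ca48c91485656c32151cd323c936a92b61caaa6d49f4c9b31ca1db809e863941ca313e89f284fa09710e5072a412e4519a6d197889b465d9b2e99746511288b32f1146a31e4522a28dfbe4cbc39a15b7c502473439a1a08c23ec370b6f14a6d33a76dd4cdb3f6524e4c1bb6d9db722fa56db8df145f5338c99d1b89a5b12d663711bd125ad2e6437a1baa25ccf3a90b73dda1e7515867bc3dd92402a6636da8108d4cde7ab5ae393ac0841c8a2c63efa26aedb0b6d9b6badb62da876d71c595b58f7a47df17b2213109ab6d53deaa13458647bd17999ef6da676d415ab5b4c700684a17a90bd81e842f51c008dfc2482380179a83cc5e8a2f315a10ad5a8292674ac2c9a1ce0a9587389b9c0c086e7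142ea1c9da84885d8049c63d86a73c5906354d5a842d412ac8b50a324c85e8c89c3261b471919060c36ada096d2b68adaded70b6d1b6795b411da320c457330d63a871926fc9c75115c70094578a2b864628af4a4a9bc1f1ea9494a422524e448f8f1b1a252d1a6836335caa34c0b8a12d194104a820c212a09505b38258a05c084184b065ac8ca45d9a2e865056ce08310ca117629b24528a2ece44232d19829ae44f0a722b5b15b323a68e5b456a474d1c251d38e71238466a68e118f2a292d96b1ce192222c5164a8908df2a2ca3b471be45c1c76ad8296cb18590c32d9496c143a20c2c64856ca55e35b22d92cabc20392af061876c9b63a5b22d8896c720fadb115e2841f609aabc582e6fbe577b1c00dbe66de12f19b7cdb8225e36e89b70ab8ac1365da9b746c4436365d8b2ed970acbb2b39b2e0a1ec5100d9b143cad0a5674be896c83e0c5b3581a16cd6bc8b035afaad792e464c04beb5b186f0697c4bd98de1848297b4370b090368451122a2ad7c610a86e436a8c21608886d54eb3d395ac2ad556b1ce6946ea82d2111108c7e66a9e54ea2a788242ad65591ab587e6a15220028fced8a4a9d5700a1ada802ae0213a2c1231cab049f0ac63aa6693e16a0254ce4a090ef585249412706f4f58512c2c6c4211b4a528d8a4ba894a4ca20e15326aa4792eaa64d5c4925d6e8223063c4b3a6,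
  nat_lit 0x3c8a5c681c282b815ca996cf90a2b916121f2008640e107120af057a80e2b8c89f4857a37193e9a8af4f22a7d33d021e44552a7a04a398e8d27869471ae0a4f06aa97184942a4f52025220494124046b8a92849d88d706ba635c1ab95c5df38a6c7b8aadc5ae28b715b89a5c52d7c9713b872dc4589c37106e095c3ee1c2c4eb86adc3ae12970d19512302e14ac5e4b00dc32e14970bb84adc2ae1097094b1adc22d56b70791a2a4ee3aa89899462a7b10e6ccb48d21dc1ad8471a48d2321cc61688734c99469251849937c72ca311666f8e4a5947552982c0c4589252dfb2294c4a61a2cd168a8b31b1b2530c243705b820aac0690690a1a99242522a29091a3b0d22468370448b2c8d122a891648992451f386f76b7f9be7065248be1a490d2ae049703480aa4806a0a9011a7a0d42daca200b80a8de9046b701b8025c06dac97001a7adb5822a834f08b2845649a56ff96a9493649a69634973493526ec92e1ac28d5c23240db3cb30ac054cc7961aeb206c6ac235508b88d585c0c35d08d284657aea48e5ec2af5e4426bd830993a1a466b23248aac8cdd0e923349ca3a1d208722149c924e8e36827580b29c6d3aab0163dc22754566a7b8183997e8582630707188b0458020e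3b6835a941f496a51851da96d4a16fe07da0b00604a2c0025a83ec59027ee3f6aa1c860a88673f6a0c14614a7edb5d922481f4630ab6910c141f256d2b7f183eada0d6feb7e0dbf468c36fc48128d192e689024b895bec1fe43144440c6d236628881b910dcc586c7e03f09b27adf467e18888dbe8fd0311144810c58be0ae50727a97c058c87e8a45a4455c9e948b7282b93c5eac84bb7c1dbe6dae56f8b6e95b5d094b17d8beaa621094c9881bf28df469889151a99845871ac3534622a93118828c41c69a2fc65288bf09530e3517888bc194322f117a71dd8ee1a2f58a831dc8f62477919491ec84393212224c8ba3f33444917428ba45d31f9990867e6643293d19088c86642ab2122248c54455244498c431127308b1898c6c4e57312b9adcc28e6279d33986cbc71b38ec1597a37a8e5063e15bd512091bd8ec1a2d248ed1d860d3491d8366c1a45395bcd836d087454b22aaaaad4f0648253c2de4b1cf8b4adbc9920d6cc72db3241920716927d13240f3a30b6648a45c508a8c9188a2a11514c71146a29473dd1231cf27da3249926a61c7442b24d9328e880d5913ec9f88c9464aa13f2de2ac95744adbc590a8e89279ab216dda76f07460dbbccbc2e8c73629979e8a6ddab6d1bd14d18cf45b7695bb9d186cfe9f11ba322be33e231715bb160a315f30215baedd48e6c736a5baab5cae6d,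
  nat_lit 0xb4e885a02d0169cb4e19109eec4b3958e0ace48668b1c0b1a90cd636705a75e1ac6dd764ebc318208fae9c8630ba6add3aae6774d3a8b413cfd6644b5a619faee982b4c2d88dd318beaa4e9a32cd3669a173a46693596e702d656b285ce634ccc8352aab20cade173b64185af94901716b85313898bca4e2b8b913886ae24e21b6b25892c6a96227905c4ee164c4f4b00b13e69617156270b1349c417094b105c209e2171262785c3189c44da62685c409b6170d26d05c3833a17117ce22c55eec6b1592692c565aa2b1558a85bfdf38174b2d821b1db8666c712b91b1ee9426c736385d25bb885b16e1a16c2e928dc358a9dd2ee92574a06b20a5807ec0d606b98a6853260d73b288a6478c276514908ce84fcc27f066289fc4fe173e0a698f1827c83c64b8a1550bd6b74825fa97ac32664bfba32dd1c516413dba2add1adf69745ba195d1070e5743b658dd0ae82a3860c9add0497cc346481312f897c61931c1912fae808e9730f25d00706c7664c11a6046f869824c130e0c67063834b28a608e96b73f32a21720e96865439829d2c4fc673013f35cf8198827c13e989f04f8173d19d189fae7a827db9e11aeae2c773bb9c9dceae7037394668dce22b6482fb9b9456cd24b73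71160dcd8cac222cb9aa9a4845c9735117a88b8cba6efe11631960cb26ef777b19965dfa2ef63310bbf4164a22f331a08bccc4866312129988d26469412111a4cd2aa24205ca0909802869530c230050c28e8f30d221846024861b5925cd2d5e773405d183dc1eec0c30612030ee6640c134c29b184888698122a8910172a24505c902e848680b96ba35cc995e72cf40a1a726e62cfb493c1bbba7ac72785b70cf595ee2b6e8a1b2052e607731b979dcc22866caf40e9450cef2477a8a492076a6891496a0b54d24cec95d9361d91253e726c4d014a7d73e945093422e7e5406d744d01ca805c2c81d4d02a67ee58a9a0b94b5cbee58572d21125cb229ec91e8a81dcaee54715017195caae4e9729b93adca15ee972757c2abdd0424d748a724f91806914e4cf2b00d03851484cf12070844aaf82532a678a984afa2119abe894c8af625389298a744af5b92a5c9ae48b7250ad29072e46b724b649dc8e1d4cfa796c9cb613a472d91f512a2d3a629d2b8f8a74cf42d0bf8601c3a8bcac1ff2f21b909c8265e44e813904806c40447b237dd7b888f64e81c302e42c9d04e89cb5e17c69d14a3942f8746a3a2b8fa5c82e34d71fb8e9dc78584571d3d124306184b61185eac308fbc90bd10a95c70c2aabdc15509e88f4285e530aa1e84fbca6153cfa1f78f40a79f15535c6cf466f4b3c919e8c54a2792,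
  nat_lit 0x59899d6451cc7593ff8acc48808b32599a11020baab339349ab4adc6cd354af991d96744b3b5ce9a57e77a4b9d5c394ef570c8b8723522e190b4c46a5c41c6ea28e6b8840b9451e0ba4817400a41755ce68af38a940266de54f0401144a14dc4a6e5381a9c14e01687898129c11422a7053805a185a622d21000828c5d6c2cf07828b3c1d062cf25510b3c54222cf4809a4005a2c0e8168283a059e1698167183a068c4113480a0d19200170316f90d181d0168408985bf468c170207d20b7861462de2ee10b783fa22de023103ac1d8404602285a285aa80e916a183a45a420e907c90b7060a22dc16f85bf05bc16a507585b3c08c168b07485a245b816d207605b405aa16b816e85b446e848084b80a020630c31908028c6501016b764832259cb6a8964579a25863216b644b05b318a0c753146a9d59a66d4435c32d10e0a494438942414a25a50525378c14a88616e582905a22aaa9127a971c49d15a51278e90c49e25016e289385b84ffe16e7400a8b49004a8013ad2200451ca75a82d9c6a90f8705bbad121f0d94575abac8c6b2112375990f2c224ef8477dbaaa5d61ffca88c3880bffdffc271081eabff90f4903d7a89469d0f2b757629a46a10f28c5343d2a1e4e82887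aba51dd59c96d7566ed996c5bb86ddb8231392e7aa2e4b81da4f54516874c3a6ac11e08ca74d5181c11aea82a9776fb49fe074d03b62995d560269210477a404eea8a8efba925d5027a83c4357b3e1145e733a7c1b4258e82c742646993e191c6c8d53a932391024a755178a8b878a2a2f1e2aa8c5460a3c53a91a8c0e32c27438c1c04a022671851894044e884a31ba935d4ceee6a3c3b699ddc52c276d17708a58532a774078a8bbaea077513828dd42e78775036215d3c4ca374f05d3091c49046a4352abdddee88f75352a3dd16c44f7439b91ce1eeca6a512419a9cd4c624836a91a984604664355a3e00d706f807c005a08d88226559e11b5448ca69f36808968ba4a70a355a9b6c07240c0060883001801733132a830c1eea2652eea8918174824659e33e8a8106e8059a1d0208822b343bca3e8566cab35220aacd91b448db2ef0910488464413bd22e688e6ab39221291cc22642dfb8108b7c400c38c1a7a8e30716438c09488e306f4c81a411aa0685be17001c605b59034170118c20b4c1d222d318b92245124289116985ae44e6271444885aece2816ba44b85af0e2ac8657901228238628a018eb0404638a10145005ac4202168318e85ac0c34c7783e910c1057a230418e05abcef0173418205c6460616b2181203e060260f807b903e009420f807c05a78d3ea5dd221205a00dc4168,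
  nat_lit 0x60c892e8974778ebc6ade3aef86639a032d015d6493b29d02d75a806b3a0596a500e8088b2d62eb501299e72e1ada9d33dd1435b58e88ba29c064b983be2de35baab1d1a55ab755a5e94ab60ca34be62c952d7bda4c59f086a527bd91d7e114778cb108c22a3ce36216e82c798ad4ad5c6ad215a940a578b65bac79d0c8919565ba2191ab4acb7431235690c6a8623bdac218602a863186a03ec580830d3bd90c351ac91ed46baa35aea2378abc4935411923751198aa35ef108331bc3ade22e78b78737113e51f1a578635c0de1af08d78547a91e1068aa8f53e808d14224634546a90cc4682c8f616111f74fbc27dd4e8b0e813a0a3a01d1b04c8744a1323ee85c74740172109905c813a643a14e908e851e6171e1d085c7cf2289d43d01a7513a8171a15e15a8d3ba67d01d321f4220067d23e91be35f1ac9dd35c13e36712d1009351c3dd2b4326a9348a568a9cd781bbc1de00a0ed77fbbd9ddf9662d4076821ddf5a0a6d0482c13ac9d16b77c895a501a0b0912b400944acef88c5d745a1df1a28ae8b82bb41620822d05bbca5dead489779bbb9dde15a4d7776939b9d8fb86d2769b09f720a02d369deacf118a0b050299206f8a62853239c294c5658443c3a98ddd8ee6a29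93ba29dcd9c0877339c233819fea7383aaa33fceaca7553ff2c498ffc82d13fe10b44e9822d116885dd6094a7fe3a71c128ff857756cd2366cb18b7742c69b53455ea7af3d7243590a887ae17cb21510aa2da2bb92ddcc8e2977223515dc6edcb76f2202ddb972ca4718962426572c912c894144b170eab9642a99e418aa685562b0b1549bc2c562c690784b18458d2f6b1634ff8a58c3a611ff224a67fc7781b4010f4285cbb625db6e6e976c79e0ddb0d062f3c652b3bc2092674e46db41263184d9a82b21d5a0aa905642cb236e0aa34433ab2415624ab0558fc2c4963ee91f846d245d22bc52318fdad8d63eeb1fb46c247dd76c648359032eda400cb207842aa99e0eb1ae18895da68dc4bc7bb3adda2ecc9767bb22dd9968c5765bad2dd92ec4b763bb0add8ae6c9762bb025d84622976033223c1de108664119219a8668666abaf25cdaebe822eb9aa5d7de10575e5fca3c7d3feabf95001a7fca9ac9ed1db18ed427063b61d9884e076823b33f82a81140aa3b45032a8162088a063ea24411ffe91c544d2c718636289b44d08c6e006a89a8012400ce22900213931c44e24700780319c4a04630068068c08e022cb127c61dd76024d75cb021ca69f167604bad93e2ce2c575b7c60bdc4e522f8c13a889d04e820ca806a4058e42900d38b21c5c4e88716820a402ce8c90416e029d18eb26dc0,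
  nat_lit 0x43d85d8d0fe176177905d79de2176232b1195c458265732b85cd905e62eabb62180ee6e660330185db576a915b8ada3645aca4d914668b645b221738797099f119c91ee8f6aa33021263314a68aac129a52347c693e38d702f8e4a6325346c6a94d55805e0e46817827c705e1929a17044a605e15192432d391123246c6178419898cc065a178a46485b351a6178719805e204a046b935d09ae4e44175135c85cf0e0a2f8f7c785d40d6e86f036211bc04ca26f037805d3cd48c9481b12dd2ae94a94a6ed8ad10b60a1ef0f7a96c42d6244b5a632d21690d3f45a31112568a244922485d95ae448939300c99e292b1d063e1474115031d08e805bd5b1052a06ba315d995ea5762bb05cca2844d463801bed1028d1428a1ac50a4f0c9707da2a5c1f044aee9e48abba28417304b805cc55dc179a44985cbd5ee67344d030e2d33ea38b21120e2d33c638b0ad19069f04172607d90c2c61840fb0adb107c840a41f35f9907c2b6215a0ad901a95ee882339a05ca6e5448231718a08c716172c20d05c915d01725186221d8d5c830c18585ea01f617225779107483e17970ad05e6c0d4179c41185c9c718172d55e29ab90ec172318605a01578c41e20e85b1c2b616c440d05ca0d5c16c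920f05b210ee6abc55e05e9d58c68776ad8ab19c628d5b6ae2b56cbb8ae3143c2177061aa878b400dea01f6368057391068d4e4af47b529a990ee2e2f71789af0840c15bbcba856ef36415bbce0856ef4ec41e357290782b6179820f05e650eea30dbd3a21def32b7a7822a2f1ec3eb0458279d87ec5ad4d8a768c0ae62c2a0ba769b66591a34eda371d3b4896cb4d5a719e961206b4eb168c2404be97a6371a97cdcaaa6e33709097ec5e362d5a62cfd20b6b62f7ae23d74d348f5cbd293d72f4897a5bd18de919ccb7a372ca3398d7a42623732b489f928fca37323f25cb2a6e62fb23965f9257a284b1b9558d8d7a18d795e82f3c779f2f995e7aec045f32fb35e74d346f5d12a11a6a3528f5e8d6a46a6eb2b1adbcc0de6ef3453c93572de66f2eb7982102de5d5e8842035e22bd0d3c8f6535f21a7848e66a335f11afef2ab796bca2de563a2979462e25e4ef22b7922709317113a489e9d014e849743790701a3810b88ae06702a97113b26e054eda2eb0b7c81f42deab7da17cd0ee6fa9b84e5aed2edab11b6ba1d275623db943a61d447b76fa8b7d0b7a2df55d7296f642c8bae4ec116f9bee49d847baa3d8682a8f75c02c85a5beab805cc24b7c8e6578f2392ae6474a29db4ed22e5cc34ae9023922769730a4724ec22e611fcd08990f323f8fa048fe1a28a3f93b0c9d955c14e818ba44e1,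
  nat_lit 0x4b885eec40065e7bdd8def12e437bb101b5ee9328a7631c225ee5320b292948aa6420cc7291bdc10e1070a57b8bd89dee2f6e70665a99190af64d7b7bd70ded9848d7b5bd99ded2f6437b32288decaf5ed7b126035ebef5e77b003e0debc4e2c70e38798ae8f96670f427137b203647cb5ac9406ce1aab587fda9c35b9c6ffb2dcb373af5c6c966101deb983e4c2025e9307ce16c70c2fdb3981c2c6e152e69b858b9845cd2e623570bf885cc81e2c01c62aa88e44620c54e82503c4bf20fec6f2897e445a8de52fea88b940225fe7aab280824940e8e9ea74e145a9d3cebab04d81d1c1824fe9060148a1d7452257ad3af20a456bc45ce6f0196d0b66c5b43b133780b8e65c60fb9971c13e21f7297ab310a0a652f4a22c96d0c670833bda420e4628944653a48c594eaca6282ab29dab42ca76529941594c74f97fb13299d6eceb831733ade9fa8eb7a9b253f5cccb53673a15eb1a88ae66465139d1e7052623402b985e74a68079713cbccf82f2f7a633d3519c6f4d96613d31e5e6f4c63191a4201c77ab3a39c03a01ad00e3a311d1de9c4c639311bcbdc88cf2f930b49892a0d261a68249858c694d057324f2d8f88ae6539a29d07c26a7457234b2229292c857192b908324ae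353aa8f8515ec3e1572aa9ccd6c2f8a57289ad8832aae50ad210655ce2ae655ba2a5c8086a9754b85ea944e6a31ba99a89d56e97aa8cd239690d4919a55b946688088ab735fb5ea521ec6bf4881a43c69469104883241883a491057899afd0d447b8183921aa1de47c0393089ed158248117fb0c001eca300174b1f0c56ea7c318005a4cf86169417010b841da22e117085a55b8265a22d13370d182ac5e8451b1798bc178c2712a30518048c11950a305182170a4b01478989e31e28f105c2db8245ae4b0896b8b5c170f33d8bcb43ba4580a7814cea6de333a53ab22bcbe64c6a43f0b1aaf42c4e8636293a18d4179e27405e7cbecc2082faa8820be6620810405e751f8a343320abb88c988228325988a0c944228324888a05da464841d0992045016a632405a9c44e16a838c8b681b403013477b3e0552e4f813a90be04e90c6acba9a9ab1f02175435605d488624b1235d1ac49ee266a47c621adce2c46b77c589adcd6e175b7c619bc0de0175d4a531b206c4a6c836391b204ae26c8725b17b1bb6a5ec36405d2a35ac87d72b2a1f6358487d8448a1f4bd8175643e85d64d94431043e08c404081768188883f4622419f18805d69e0ec87e8d72a1f8622887ebcf121f8be6287e43fa0c441fa17670cf85da6e6a865f1171997c61e17648d4921ed0fc176018885a04cbe175f78413bc9f3a2ef2,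
  nat_lit 0x31819a31270468c58db376aae68dda5a613768b622dda7a2a55ce042176ba9985da8d18174e6ed05d32ae616da7a285d345d422e907808baa2a06bef8a8220897de172b17192089046282241105ca830e40780c3081e00f0168f41a18bac5d6683540eb207903cc2e17472dba4cc6acfe32f2197edda465f77f8997ccbc461874609860d24c65e11721978cbe16ee30c05bbedda76916428da44c08420f30191810cbc17353492b9b0c068e6c417939b22b62e6cb4885bc1cda860310785bacc08169073605cdcc0616ea341939b5e782e6d73685db1ce247065cf32e7ef8aab9f5cf85f192ba2e674ac08da86d6895d08eb0dad2bcb7cb340b3cee3d8d2a24d21a68c71c69a41c788e38258238f4d318e3d2bc69a65bf95f2a3bca95ebe48a5786d8c11dbe490db0e0a636cbe2a5f26f8eaba721f15f208f6b7c70be211ec81ec410be2adf1973c66813831ae7881a37c50bd890342acc40f0be991f88f06ba25d0991e08eec47823e92e84a66447d0be891f0378217d0be305f44cc46f135889bc4de217c413421be4d6666f93588df104cc26b1126b1acc4d0c2694d5b0e41354721f51f1a6aaf862a3e9450df0cfbeb10b4c62ca2930ea98c5f08a61d310698745baaf809268be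05f0a124ca82abe119c9a3a4c5088e9be0a3074a74b7c25f424fe601ead38686ac03ca766d0d24b12fa17d28d0a29d22fa57cc653b24ab2f997ce652925d9af9c9ac2c475f5093597d4a4c124b2afa897657c1260a150432824c22608865070484c10cba8e080fa8197be00865c386253d29e2b43cbd0a53cbe03154caa8d7c00478df0031ad7bf321a9908e1086435ae29c216b6d7be7ed1584dfb46dbcad713f68de46fda58089bc9ada2b01229aad70ae88b5c0ff15ef5ada8574a13ab5b56f473087729ade9c4694275bba30aa702b54b6b5ace04ae68d6b23092dddc4a6c7836811b444b426d130533895c464e245bc21be1fc48b786b62bf88ba045d1711ab5b16b48e232caaad69ace85953852b59c96044b10c720728964818e5a5a92c8894ab4b5a5211282d6444a5a3aad28aa665e81009954c400420109110de0c32470c6e73187cb72a61f64b2187d840661f30f85eba0cc89959489a65481848b5b610a2d4616a32519210c9420a23251c290498708212630f05ed932a17b722888e1c8a257448e7322da3b4a8b645a85b0464a16ca26028e1824c17b81c385ec8980c1930c91064c0f821936122dd1ae8817b361235d1c97ec2032f5a880d16c16cb1c305ec432617afba305ed2e8e17b510185d212e4437556f85d08980174161205d152e249722f3b25c4bd617ba1ba85ef12e416fb,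
  nat_lit 0x10605bd8bfa1692735a9808c04ae62301208385fe8602bfd9180b00c580785b26018a94454bc021e015b3658043939600f002b802c0026006fe2b800bff25ffeffa97febfe2dff616cb7f1bfdadff1a9e57fb3de1dfec90237fa8f52bc4d49269a21e81a92668cca4952408f4119091e98f52232282eb1ea66799464aae6ccf2a2b333da7caefe5bcab4f9dfcab792b8a2de48ca2b7d690919a0ae224652a2ab48438a8545bfc915155f2b3d7bfcaabe48468af95f315fe6ff077f929f9dfe2fec97f7bf3a5fd85fad7f5bf98dfd231c37f3bf91dfcc4f637f2a5f9412697e303a61e252fdaa8cc3ca9fb39aab5a762a8259d6b4e9e504bbf825fc609897f08271c134e9e704e7869449597c31253fe334e8b18ad3a89285fa8e4ccd9b6a72b66efdecd9a8262b669a7417743fe05fadb3617ed6cd05fb8b1817ec6a72353ce4cad4e6aa254fefdeb04c39214082fdcb7efbf61dfb5a74d7ecbf51dfade1a57ea65f13c35a76cd3cbf41dfa475877e81d590eb15f457e709b10eac7fc23fd0a888ff8272c060bf12818026e806009b181800c017e40a1a818c10ea1431d928ec476e8a09a64a509a238adcf2ab1155d820911c3fa3257192434c9659329e9418441b5061a4215d24a0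c1dc1a831964850c29c232c89f6c7f40d6886b2fcaac10bf295efca70b7e51db90ee026cc3ad1d7304d826e6136bf2184dc272d7e4bf11df8efc277e228195f84a188538281b06f0a58c5030d71140ca18c50dbed9df80b2c57dfbee8df783c037dd2cba8794b30a597bed95f724f4b2794bb99d912ead1555fe9928939c6bfd8338a73a5a830674ba2c9ea416b2d4b23ac82ec809647a1ba59016e4d437a1c15f6a87076457ae950e224074383fb9448054037d93c0ab752fae77d8bea8df5efacadddbeaadf5af1a37d562895f50fde4c51be91df4c9b8d7d2be81df46fa0979688f95e5a1163796bcb05f3ef9e77d088f95f3e116885f3c0a422d8a2a78116731fdd2ec47f73c199fdd6e667833c229e0c952cb7366d9445e92294925f6a52448b2445aa869d24d9b4d50da871c2b692c750e6bd8d2597ee2d7b2bd9b5edaf4657b2c2935e99b48cdb0dc09478a3a21b828eaafd99b8a51d29a8afc97ecacdc681233708f057ce48bac8d4a682cda48c20d3522e89186812a45ca6a8d0229b294d5504a55629db0708a74a1c20e105f0838825415f5212f183a64bc25d912f032224bc25e05f04bc625420f2a9662f7a85982f1a9b41852a5e3254a917585284c32ca9130c3c824c326185f36f9a6c292ca95f3653ed63da5e8df32a6c34bd1b50a42d8064ba742eaa172ae63021ab9954cc47c868c,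
  nat_lit 0x41d93d5e2c8903641ca45905d8a8393bb942128b850163a3a2d5601c6b555aa85eace8ed043417b1cde064a73752521cdce6e181241da1dd16e2477484009dd0ee81811177220ed070a2ec142a0bb05ee8838821920e22ba5043c09340c9de029c98a58bbc105ed81241daa92a296a83b5e2931f9392314b4291c52c8b4ab6e5b6a116a298ab6d5f38d23a91ab6328a9252ee91a91528372d2357be706e840341ca470323791c1a68523432388a89c8e210038115b88c20103eb14c023883bd0a4881f1711207d04042e26dc2208189acdb88a894549ff0a70959f2bfe167c69511b3325448882b3e5bc92dea610cd132ba10764ae621d96b3995c0ae065952bab2d68b2ac5750ec995d4318a4ac412092b224c885017b92140ff442f707a30bdd05e82f844eb2130f7ad0ec426ac3b21d816d517c20ba81e8a2f85efb2149ff867c4c081bff0fd0cffcc0616042916d80f5fc343f995474ff8831b2ab01c310678e8e03b018780d166960317f0980b24f92f917f02be42659af91d2a8bf824fb2fe53fec49f0c4106240f241885f2a9250a96abe511831330a96c49424a1932c32ec4cb2499125022c23526eeb4776faab1dd8ee85f598a248bd3f78a2f517a17d4bfe152aede2577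c630896b2c42b42a818331558aac931497124b86ae41a12710868434217176302258e49a8c6049b8b06896ea9364ad30da9b8045a16df1d01c87c446a0bb891a88d417c82203059c2ee17710b385dbc880a1ad238986b40e61773238a05e435a176e0bc85dc973ec4765cf291d82f64476206891d974ecb9d23daae748ec17c55ce85f1d2bc495f1b60a57d2be17c94d20ae1a28ea9a362e222d1168179362e1c7623b0179225d23068ef8cc1b25d1b06d14e2c1960d05e4514e44babea8b211836178e3be2c21e3a27087bea9421d83216f425d05bcd90817d78e8a22a610e178d45385e40fcc17d845485e50640179588f922aa11628aabe9331509b8ac5488905f45154179662a05f42544911e88e8c779ce848674650a19c6a8c30543428c150ce17ac1828602a3bcc8be4af2a2f90d088be73a9a2f917c17cb1aa204586a68354c0528d510d0b80a0c11060dcea88687962d0fe64ab58899322859e58681099312ee573c2bb9992a4c9a310c8568c39c5a24c4518279c0c60a64a51877758c61eb5eb325af22bcb1e5a2f2c79d9d79071ec9a74d41aebe54e69a8ad78ca9dcea35afbe5a39d5b20860773a23641cc42d9027291228c004601bffb434ab567606bff358aec5874188429d8b21d630853de0c3aeb5655ac733156ac41c46000d111396308cf3873114614bfa22fd2fe908305fa16f7,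
  nat_lit 0x569a4efa77e8ad39cd34efe74ad39aa6694e968ea54cda669b1626fcd4cd81f342568fe6bd653ba13958c48a7784b929dd8a45097a3f94352308547f63134dfa07c937e6ea240f9ba825ad15811ec0f6042fa65e8c6423a82fe27f1a217a320685e17f121790be285e42f0606d6168ae3571a4638fc22edf16311f9862a40ff18a10c5457047c415d28384c22c7c47fe21c38f88670ec0611c3859a270e38706041110b0028012c445ffc71117ff21f8e222175862991f8ce7e27e33f185d5458e27eb43d30c390f2a30e18705d5e3bad1a86eeac6a190851a88438c6a09b8cc5362a2b14d0f217d38d405f558a617d23ae8a2a4ebea291a96ad2fd3364d7394d8b5cdae616de49b915e183425786a89158daa025632b185e2559ac5996d6a9664a0ec5082a7334c92b46d32283a86c0a9cad2687bb3495a6ec55269b295491a0455236189548492c551355295452bec55069aa9541a68855069999540b3216e628405dfc390650769905e04390854e0d805df95a4c547693a951da4c177869285e00aa416a12a885a80aa016e32a785b90a0e16b42a705ad457841c828305deca8e17770e485a8839016a30e305de411a16a40e385de8aeec4b857c93fe27964af937c33f8dfc8c6f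8a138c634a7e2d1529f934515f2cd169ebab458a7e8d165f313458a8a2d1668ba14fda2a180968a06021a2c17f929f85a7eb56d62a8692d8aac58d04bb15ac12e098304ba5fab4bd5f44d2f2a60b4bda2e17f882624130e9e304cb1505ffe09617fe456239a8f786e6a6a7939a8c042e6a69785f9d83217f7a9f952ae16cb04c82605fc1b34b0b6a9fa42d9aa870b6ad685ff5cd417fba5585fda09817f16cd06015b364d9b85b05fbea7e17fc6cd06001b3618046aa06019b3618014300601ce4e2726393909ece4c180213d8600e31c518f17eaa174e4e17f28c785fd231c285d17eb21710ba17f38c6a2171fc8685c42e05fd607ed08b8c6b40fd5c4303f3a11c0ff03691907f1a606c5fc581b42f90bf9fc8918dbfa9c635fc6cfe46358bf8e8ecb64b5e7a35ba8ec8bcfa3aad1d979874755e629228304848a24599228914181a9d11af30304981a245aaef179c4bcf24592f38908a48b0c19923c90884855dd912117742484c0c906f57744bbb274b2f2f0304bca95c226d96dca9b6a1d34ae302c78172431121d06478164198a0c85d628335e41d0e97746bc8c0ab2f2153690279c5333dd9fc2d522b2360505e858132b220b9c7e485649f134e29538aa9b1f92aa705ce83f217428b9c1dea2e88aa9a5e82424376173104845cc80ef0c5a8b9894e418b2530862c0f2618b47c9bd59eae673e,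
  nat_lit 0x3031981441e660633e919f81b4a2a33c4994859c4678985e8b3891e830bd23f12eb9758a47d2181202d93e2c9e90fb24013544c2125f926aa738311591814401c9e49a34d191ef9fb2c6f14cda9bc4de216dc8be92e3637c2b8d5c685b6d096c43e17aa90f856ac7be1c029ef9c9e27be07230b1458ca2c58bea2cc133a6b3021f05be4f7c16d316285b5166016dd21f85be1356910a3ef9c42947c4b0e9450ac38fca16d788505b6161c17c358685b64e3c47e03f0a443993c710e3f41443a222310e88705be9136cdac6d6116616c0a6107212ad80bc82bd83082b9096ec30c22313118c2e6a463130a118c4de646323185accafa41dc2f28b910c9845e0112b1908c86c225325310566104daa2f193470a842d1c6d531658d1e25972cb98b2c480459630909658b2c17050f01162842841e030905f7cb1417de0f005af442a461430a8985042817dd2cba0854c28171c10a85f70c2a17db2f285f80bc681ff2cc187fc3fc41ff051087fc3fe17bd6148c8591e8ac282f02a3d068288f45b9950e687052357ae8c8d646a17da71e12dccf0865e22f0b1789814b4a78f7ab0298128c0a256230258504c092f0330a16e44c286149b0a03fc65e02ef8b8ddc6c25df0ff31785230ae3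c08a90d3469c234d1a68609d842a91825f8b085c6c6c2108a9609c69c41154901b8d9c8c4f3b48f08d40bccae462f32179c40085e61bd91798614437b39aa8b50e68473514089cd4e6a16df4c02a0ac6f6a9801bd98de8244637b41598ff05d0482b41624561554882c1fcaaaa8d20823f1f5205407b883ea201a0f742a021081ee128dc792c13f7a689cce01e271835632bd4e90aaf5513a2bd54626af557a85d4c9124bc95e50af257921818419a9d0ce588d52813a9cb106c8ba5399a0ba0e7664a781bac57d74a181d41b1c57ce7684003a19100050e24000a610fc85d018253999a0b494e16aa8af8607080016a91f90608829823f34168609160a181e39d090ac7e6182154f0608ce744a9d2158608153a181f39d05b1443c862e31a2887c452c64f79b929edcdcce6f301ab9bd90a2e6f73785a45dfe4f0032f8bc01e0016ed31828878c5c423c342088f047816ec05bb08f847ea23e11f06098d1848ce467124e0d20cb0a7a7b1a40d20668f347b3d31e9ac68fc13308ff04878253999e09303e98230a61608b042414cb54ae08703c98207b294599088cc9e64f31a1ddc2a6417712bb850788ee1343a20f1012283c343b21105e2884411e91a1ed54b81ec0e1e07506c781c41b8a0d85d8283739591cb04fa472b81ba4094e7a903739f29cf45de280916b3202c5e2c2f2177a0bc277cb2b3,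
  nat_lit 0x42605ba494a484d6008a13509a1831252b0626272a80c16b9203101a280c406060d227269c17949c4e7068480db2bb60cebca524c78d95796cca9657af325996632b5e678facc6558aaac42052ab1533438324cd32fec940c99a4168a668712699a402a44c901c880525412014710818925430b98316c4a816a112a0710c3892d7337595884dd63428b759026a5966d52a04c5b467b315898b68f6222b13d909ec502cb0dc79929eca1baaf32ab5a43754f649ca252a203094a58316008e0c580484a5746ab00990a4c02c181270538429c1c17a60c3050b82fc169e0b8942d82e986960b5400530d5fdb128031064a09a28afede5233457952bca654cb82c952a4a9934e92a57f7a5778dfc46ff7832998534c32a47830a699ce4af066e6239c84ce46f437aae0ace042fef7ef260a8dea8fde6e629bd4e068dcc38229c0de6ab3d613629c11e6c942b7f823cd9e6a4f3652a8a9514a86c4a4e11a95189469c238132709fe0742b4b193fc04d887024b7a9b68ac4a96f2cf12a71b70459e428921485f048510b210bd086822f42b2290d05e8169b2b23074486818130e8860504bca0c113591c01ddca6e43272bbb9aa4cfbe36e29934c9c236913599b904c086e4327b1940c9a864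e1171193662e4c16c0694c5d4a0935265a229426182a504ff8cc31402a3b34fd14c1c76089fa44daa7e93f8c3b034292b1240651d99a58c7663b21829439917c08084a90103317c464aa87543aa8c2c812440a0aa8902881416c08d21a8063488ac750085c1916a4ac72060ab1d58e16c2563a2805588a40a56f3192882acade404b27f1b5449fc9840a7f252434f91c22253d320694f4a785ee5324c3841c232644dfc226a5a0a264532286fe4c92a6453246e94328b3a512ba49927dd99b69f7886da19a923791bccfbb6a81a37a40658299a59480daa0cc3b8f78a33c65ec8d16dc1a344b3248cc19710cbc212232f19785afcf02478215009e08f0417d94be93775bba45b245e1235a3b8c8d05933477164ca8d046b1ac9a4d4c97b4a48a642612cadd5a0aab754024add2140ab755ba168c1b29253929e294e4a705a351aa7747ba3b252d848a94b4a585d188a248d31c38a34d1a617442d312c8889a2b22592290dc2ca443721c090de7fccb239e12ac8d644169a21b85a5d64616994beb23246f0a8c946485b1a8522b5d5ae8c7b564c71ed8f6b2d416a0c8cc5a7a92dd26cab4f5a80ad3c8982b5058f2ad01680844c59ca2d025f275fe842b1de9eee72f9b032d8d2c0c4f9c83ead819938907da7cab27109e89a517b2a13de5478289639bcaa2b832c7ab58c571e6e956b2cfa36e8cfa859f,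
  nat_lit 0x1dfb0cd828663bf1d8a0efc274813b030a04e8774413a1dc90ee942083b93f914468786ca2b1fa10fd429a43f41e120f0c278d83c030b04f1450a3c23b90e0ee0fe9334514241fd420aa28507a2841312aa0f1bf126251664d3015e09534a9a21c84f7b0eb075889ec4f69a7b13d817e94c491095e3ca98978f21dc94048f1e33a13c78ee48a021d9aa80870ac77214c19dc4ee0629883291dc20f4934a523a41ea898744b5c89d1320cad44c6e894a1132a4dd1ab8b4195ba27571a939b745a56d52785399e54fae70a73ec09f5c57e27d82b2a9f6857c850807130af857e67da3ec98afd3a847d9658a4bc53d48cb14ee932c53d6a9ea4eb1cb714f223e453d0a9e56662b1d4eb1275c74649d61dab2758756a9eb4f5a29e8fa289eb6498b814efaac924ee894314f487d115e29f4644ea9085749e0e97062863c1d191a0fa4d83a8809cf4244e7101a6d0c89e0ae34da74413a10430861c4e0b1a51ea8a6947a9a1a51ea4669434a060d592ac616744a9859d10861664c99859a28c617745a985cc7286177451985cc2c16f130b85df1ab832e17479533e326a861430ac6520ae728e8ca24a39f1ab28e970b27713b87193596890f680a73e38b71d0163287057895ad371e66904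23a32c108cfccf334c88b575e6831948b70bcd22dca8428992c5babd653e3366b3b005f628577601a15c7ecc85731a13b01d82983993e23b052f2b27c3281a5e5544665093c12a892f26aa24bc125e46ee49781fc0e0e102023f83d6a60dcfdc87ad15791eb45b042af16c98b601d682d83f731ecc1bcc2b116c9123c5b6c0eb16d283ac5b280eb075860d85a8a2d939ab0b645b4b83636b90971f6aa6d738021b5ec1a8fb595bad83659e52b74e38cade57072b744f2c72538ea89e1ce2271d392a39c16d8a05502822db4e52a72628c89ca86e2c519612d3e68dc9b76157e4ac020412afe372cb0998eaaaf55908abd2038aaf5966731d8d50c6e572ad3214458c6aa354cb95bf4a27b475869ed4f685fa07fcc3b528190ed435c23b5030304e0272a1381db05f8c76a17e109c05f89968450d286932cd9682cb35ca9b2ce0baccb350e12e5508642f14218a109438b1708d7945c110031708b805e82f40ca1c2389287077a6a1c50db2cc908422f159932d1968c884250d927e943633071dea286d016c3bd579acf56500aaf3446146e9550697f9401aaa228ecaa89400b21d90e311e1c72a69590eac8627a2b21d34a8c877a923d4f06a8f5264c93d49ea8b8354e110e69382239a1cd060c305c43991cc860be58e89c07951a70138018284e0abd51d128f5444eaba39d1ca84c5d29213114c284c,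
  nat_lit 0x4a0a0d7c6bc435f5462a505228984c918b245159ea914c25a2451228184a4a208d87096d707b55b612d59eb84a918aab3d5a073bc7fa9ab41ceacad03838bfd6aa4d39d6bc9e125e46c6757911c811c526f227150b8a4bac2e2a6bc924b0af64d79791a5549b1e8f236c82b63cbacc5d73039175042025d42ea061203f6c5d610899758420384830388840b08ad90108a16103bc25842c1887798ce85831df2960cc1eac672733139d6e08c73275a2dc16de4b7063a293ac348c1a53b5a41c41ac584714aa9db20dc306d3b4a1da852a87693b5a8a560e4876b83809dad96c30706d20b68cb242da4526b3691b4aa5927c323694b2041e22c7a33e56da452d67d2b384b1eacfa6cfa163e0e42d9f6cf8c02e868ad9f5b7ad0d0c168b6f5f62982cbf4c20972d317ddc3225cf7098972d576471b38d31731c28a5cc2e606118b96272172e21ee13aa8e5c6fe11838424660f30718848422c21238d36119c28c71a13aa1c6928c4e14923925193de63ec5469a7bd51a48b369812a347d86a8d2f9a17d07d643ec0a510fad28c6a8c1f59a5186c2c94654618fad1c6c3eb83b0aa326fc30769c412a6a076538884a24254f14909476d142511e64eda71c9bb691ca6e3919baa3951ea28e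53c53238cf12478a15189e297aca52115199e310bec787151a8a8a21eb5a03f12443cfc4c79215530c48f46a312441a0c49104631218905c6cf38a7ab3d5aa20c55c87ab52e9448510e4a5d4422221510a83133d62a2161a6a7ac88da434d0f650d33f9ac46eb3872718c59d672314518b42c1462a31473ff7d534628f8247c236a09b4c4b626d47d719b51c86cfaa72193910bca4e4308c88a91f5c2fb93ce0beb9106a79c4412220ee3688823cba1e6054e879716399e6454e42a81d808ebc26e23b01de884ec77c23bd4d128ef934249a21c68a688282c3d01e8a8f4134418421e8061060e4500b48e132d6542c9a172c2a68471a49a1c210a68549ab1514d08610e2a2184491c06116542300e6232cd41cb0891cc21b39630887845950b610f0867844c210e10c71a38420a0b610596a8cb5287332d596c72a19a81b2d949a3350c1fa610118a983f1e89a93549863d10a098f3c28421410318850852e583e06b90a5c79883cd0a020f306a843cc1c910d52bbc51159ce1577a54caa8b9521aa2d516182c096a0e48292a3921f5285242908149032a052074041481d1205287da614a1d008f94e422e138778c3ba1dc27c0709ac63cf6ec7b8159b1edc7da83a24ea90e88bde23a21d1060f552043ed20208fb707a63ed432b0fb53aa583d1df9287d44e43c209e304f40c2a13d09e860f066cc13b,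
  nat_lit 0x694a54ace488279391a1c91a768d296b511c8d46443c713991c4ce2827136b519c4cae44d6a53e9b5a94fa4d72449929f54f8ca7d6c51296e1ba32d91f2b29f21b86a7c798999f8eb22f317991bcc50064f3218c0a254e02a803169a200dfdc870138011c05fdcaf359eb2bfb9bfa26e412ca9b3df4a86cf6fea3e95bfcadfd3b090ce8ec222922e12b7fa0c6a7617301c19299890647089d632b18d4cca260d632ca6913689e2594e384b13c6e60d31698a2eee44aa1c11e6a88958e12531588291c22698b10988224d364eab106896ac9d3b209d8d30870653b19a61250a49842e4b6168b90c5c970799725302b067707aa6052c8ce107081b83e1fa327d8340c3f4ec8b06870813d0d2f8b137a16244dd34851378dd2d0b16ca542ca16b46f56ca342d5e2b2f196ceab6662d9e16635a2c5b3fc1b16c5a047f835a1be24d62c5876ca1af669006d946d395201b4a4da7359b1ad0ff242d089221fe67fe51247feb44921fa761862cb3ff5ffa70fd3c193ff50884e3b2f092110fc0501a80d11c78e1e478315d99f3cf9c62bb15d30aeda7827ce3e799f38feec7ce3fe91f3cffa87fe168a1ff6a366cf4a5db546e1c067b48709c382c9430e1a8f8d92a2a4b62e67cad47ea42751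eacca547a0e23193820b5666860b521836a587a860906d838ad0c16ce7432a189ad9e8ca3431a198d19571430985b532dac8b2ab6b5b58614a29874335b8a50cd6d08b696c2961616d0385822ca2da06c03857c2b2b6730ac98516c2ae158afe6d85c0a961570a6b854a062e14ec1a585384c250316d4d85222cb2dab09eb0982c58e14709e98506c22e13db08657f2bf315fdaf44d843cd30a9cf564b4e3d2b0aacf32c79a85999e6966e24425a69c2ce22c8b373f524458fd4af4b34729fa858e47ea3471bd2aa66cf4a7a5a9a3847e268e7a31bc69e34668d346b3d1c47e468d7a3349414ec2f469b88a9da33cb3715deac67a8c0b35b5de251828c2d4835fa1d18977c2bbd2428aef97e8d46124f12fd17eab08a3c02afd49dac3dfc27313b57e044ed0a39e1387be87803c0229c6114a7803bf91e01c7eb5a22f10b8fdcb06e3fa702c01a848323b91d9a475238c91d720348ee03474e0a1c9c069c8085e23c223900f164e406ccad57a056926fb01ae1369dcb603a779d3b991e74ef27c3323ca4441b92909148a12c478c72c89e30f0e43063e411e2cf18678b3c598a8d0d2c78bbd32b049c5c45f42fa321a4c1088691832182060ea306714acb913c2af388c22a785c66300ca88b5670ce4292f49788d606bec85338b8b8cdc66d5114a02bf6e02a4abb80a89c6e02a8e316ada40546be8940,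
  nat_lit 0x8622591a60690c488b2cc0e7b8740b59aa502d6008b3859b92ce166a73dc2130ac001f423094362a4986a4a86c435a21b061020fa43c09099ca2ae342ee238d23b28e512f893945ca445f14521b94a39c8e52ab82b949b9ab1367ef2d5c1b98c5a637aa96983da85a62d399698b4c182b379a9bc84cca6f3134a1bf04c4a0c2121a8989f924efe6360bbfa8344ef77ae0bbdd9ccaefd77f05e8a352aef677b85e95dfa17a377b05e90c42450a310891dc4c2a6205bc891888c42b7a384089b8d30270834e20914d34424512a0891448a185b34e19a6cd36185c7cb92d6cc964ee73841bb9ddce66437b0b3b9cd38785c34d1616c4a8385b7b011a70df8269c1a6a9bf1ec066f37ee1bd829c02fdc63a0d382872cf88848a3e20f0c9091305a9e1a57872d493d1caf13d2327a53c2a7a475689e96a6229e07fa8aaf503acc45a98aa073bfa3530efea3c7519a9dfcbdc4e4c62b329aa6d4cc5686b34f061b2d0d64da14ace40232b39e0b4364f6070d96cf14f05b7633c19599cf05c98736a80a24da95aace4c9dbac052a768d489dba54ed598b3b72070ab31b766acc6f9b3761be273e655facea9fba8ac937a33f7685ed394a94b50bd6cc942fa94a50b226e952968d954a5be473a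aab5154edb74556a6f90b7c4b782df26dda1bd1b76a59f6de2b6edb3ccd935199b678d642a335351a8cc7b82a6a7c9b52e4d16af447a1a9a2c78e815152390f3c52e429806b88a60530183e9422c5f1886b284aa68ca44e9225c668c12d78b9c4d1831689cc0e5e427e2dbb1950e60c28a3a5a8a28514173f2e4b07dcb90a1f70fb86168c3c898f74b9a63c97c498f1c18a63d31e17403b108ce0eca87663b320a4cec6229314989d9027e83c751ab41a0ec8ca357a6928d4e662a3509fb0f216b6cfdf7ed2bf7dfbc8fdf37a9bf7dfbe17be37928999b78c59f73911819fbc97be37a9defaf7c182ac15987b4b4e782b9409c5f1cd63281a62b4a04bf02e5b70ab324639ece118b4ab8463a46e1170885bc9148513c8e92563298ab1d2a1f9512da66344b5c8b2e49a6a6b928d70aa8a4f031ae3322a0550204aa61fc0aa9954c18385dcb120d770cbb9a1f8b4cd6fc943fa20aadf9a6a9441a281510481e2acea2a1514159a240f5d3a51526fe93b8566a4dfda46537f5479348cb34c59b0f331669634a54458d12c6d6342433465aac69b6e859d5a8236de5324db720892b4a1ee539a68da43dca80ad1b9352346c38845402a089501a30654060eb31f9a32cc1d63f33464e782d198161ce6de94339b68c34e6e8e4b0ba8102d1c9f6c702085b93edaa6e6fb67dab3edaa6e9020a95ad4dda8c5537,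
  nat_lit 0x5939b71cc56462c7f9ab721fe6913540323fcd00c22d57510ba8626a880689b2a01a27caea274333a89b9a8ea265d2c4f5022913d89f2204491e48117432c4f891c61832479923901e6e8689e1203d148280f5eb9a03c5b0c80f8fd12f5e88051faa200af5e880b4ac8a0ad10287e9440a562c505bac9141684a52b0a72ad096689b340a346cd128c9146836e81b8044a06dc112c1b90dd286e4a4881b9291986e437218626783149c9ea2523c31306e8112d86229226188a46a557398a948caaea73173c21cc612a4cf0a8b2e1859cc2524673a42f0d804589a8b2339dcf0b516691239e2b644f7073b9d461ee06e7712391a82a306f70351b3dc1ed2d5187e533da4d4ca6a09ca94f4672a90687a1a4e56820740f59d1d042820d5b2ad30d042a70d409a9e1520a26c553c6a3a54e2a728d476ad9351ea72ae5171a2d4e6972d5a65ca14ca943c4b9450caa8787766a1950c18eed4326a1850e328616404a1921b12c80cd44d3e6679480240051ea999345be3fcd3325901ccc9bfe25c38b7b47f949251fe46e1c7fa8a435a2ad10c7f5b1c65836339b63a3facd8e8488d80635eac698feab7fd1b891fd636323709d0a8dc46e05e868a22cddc303337cb04d86066f261814662f8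551198f0530a6a236c33288c6fa49854c310df48742ad2208890e96507202595910edb1228c6595b361d9baad876c385ba1660cd866b9326193388986547b0fb12768b821a40a420fa4c913880aa44c8d089135749a44d226183a2880a1516d647ae15229e40f20a78f3cbac2b4f1ea2a45bf92e008ce2b805c005f288e6417a239085e82f4178f23612cd9f42cb6886212da8f462b6aa0632cdd66e1854a062c2cec1a50b3a870c2ce16618536c292d356d02b4d5a68616208a683327c106a8b164d994988b664910cbc75e42af1d0666bc784c351b9b08b46e6cc8614178e1815a370613dea0185541923312570d15ea1d2c57998818174191c57a2bc181627e33259b9c4dcf5acb3fbe84ccb59a132bfbe992ac49a45b373e238d48b6e78603e91617e660b1447262e311c88313041e3a2c1088e06035820180e16691fd0e1c27f43fa060317f0895c74a9a5712b8180b87e31f35e3aa7cd3e685ab49424bfc3388aff17f816acc28124c4b16293148a236a46c0239f6ce324c1b0aa930498861446c049306d486131228659408d20d806c263601cf8615d260185696b94d12c8c33442ca0612c6c016ab49d9a50e50ecb898052ae26688185e4a185c1d712185f86234a6e014929b8771ca6e536185d4ce1ca1f0beb287c2f95c1e014b85f80494028e2a300ac2e9c02a5ae585eb2314b5e1dc785d,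
  nat_lit 0x49d247e5560a3fd5d922ac1764b2f2a2daaeca8b674da9c49d16eca256524f694bc942032f27ad954759f8351d79b2b3f1eb674fcaf79bd6eca855ef89c95952584cf524df0cb0941e29be4dd8a7b257e29bba15acafe57eab61980a4afe5e8b301b2f2cbd13dca3ac4f7aa7ba5e889ee95f24bd241cb2be4771c8391f488fb1a1a23ea41a48fa7749483467a48ee4778a3b97e4c8ee223a91182d2a44759c3503563cc445222b2d002d04169037085a42d2169d4a892d692a224524aa10d9e610b263931ab44e4c6895159f2498e72032636b58ce421f6964c8d12d1826b6b1a29c7943eec96538f6b716198ae8cd6e89e935b979ec6442b392bc15e0441f5782a045dc6aaf077199909dc62b5b7cb8bb8ddc86ee37720d5c1d4aaee464fb3b916a24bd85a88979193eaea5312a3a94c488b536e41ad4d6a618655a8a1894c4898656e421891d44462467c249ee9d68cf86709b22a9d64cedb3ab4d0681ed675a369d9d6812746dad3ad1b5ca8b5a77bc2395221a958d9b49a9a5e7c4a869bd8aa1a4fed3698b324434fc2510d7bc11a9def02af4aee13d11dd82f447a206192b4c8f789bda5561e7c337baee161920f2aed5b150c1e4edc707983c3576e09c507814b31db857447c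993eaa5ee4d4b27d7078b469a346de02da1b468a80cd1a87ba9f25a4ac7c969faaa08aacad3f700299b5a7aae002e18b8029584d3d60e8b4f5a7a655669f1b4f4cca6f0c78599994998c66533693c2d1d2466d119899b0cd62233119308cccd6a83a757a99adc70ce392efb38e1eac6e3871c1a3e5074aeaf75723abdd5a4e387572bac0c548eae76793ab8c7e4ecf31bb18e1d2cd42d8deb3a59d2c6f273beb3c9cc3a2e9674a89874c3aa639111118e4c74263931c8618cc3a661c10c198770c6463a3b420a501ac429414a88a50528184731fa9da0c80663f11219900446c224148908841a8222111085eb452c822306b1888d594aac9206aab2957c4f6692d92af88204acf568110408206ad17f01c90e778d24337b13f81fc289ae95723f85fca4fe637c93f95744b2ae2c1314799bea51e66f214799ba651e28f06181754a47c5d7911f975e2bae4edaca9e778aba15d1121a08f04ba048b8ae8174017ce7f2aae89232c6fc1a6b2465fca69199151bf959a48dfe3b0a334a55c4cd274b94ab924046cc366126b924029ae12c29b31d3e86cc77393a7cc962e9f3980badaa6a719c55408fe429ec3fb44708dc47f6c3fc09108de46f2237888c954d56be303d3f7ac4650dc91199f023775606b3e0a0014f81ec254006e39d001a3c6d1d7aeab47564ecd1e6d91b48cb366db22d21371db902dc7,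
  nat_lit 0x82d05d720b44f3182d09d66b9aaebcb0515736b2e35cd7999d735c569597715ad666082ae2b3690bea28882b88a70b4ffec3cd00ca2224032018186f71935385f50a716805abea2888986fa1935112c146fa8a709d82a85e34e163a8d0be862b4e2275ab1d52d8adf1131b0dcd05483734b798dcc6e6186e4b4a0dc1158437024088dc06e017fa4b4a5fe92d2a82a3dcaa5a64e629695990aed17686b212409aed0f7467b937489ee9f7626e9131909901864263415261b92de882a2b70a0a92f42e3565f8a5e9982c56e173895b83ae656e9378b304a266cc139711cbce5c227eb01945569dccf8ab01abe29f14184d4b22c9be4deae1081521cba612502a660340a8e92ccc082293300e9a2cc0289ab30d984a51336ca9d31066d86dc36b1d0d792b0afa812cadec1ab5026611e1b4db26cc236d09b644ba26da362a89704b8825d2fa11b79adc4c1289e8b049824186636f138b9824c6e212fa1b88dc666e237105e984bea25e060a897c4ba80c136da8975a1cb4905f4ab439a224ca454713444a7a6d11547aaa3951ca3ec5472164cdee8a8e908326ee42ad210304139d8fb8c2c16ea916b6c02d37f6d68be25b4ecda86ea13754f0ecd31698b217db50503e3a1136a0dee46f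837b889a1b50c5932c9a1bdd1dea6f7939ad9a2b7a986c939a56f5f3855bdaff2c9ce7c6cb077f51e1aeac86feaa018d5922da34032199ac7563a6b1c421245b62da8b4698f2c5b5638b31e98f24fd2c5e931e98f9c6ad548d31fc2cb2a91ebe6aa49ff1446eb3853fe59294ffe2484b259fd9316d8b618679fd8c6b635a18689c60b479ebeaf5e34d2bd7d9d8b38cc352b3b30d2986a93db61a70ce58682d80b764e3e6dd939009c7c4ee272044419c81112701b38f1a224628c88959232c96370b4e08032c6e111430028db0a22a378888e81e246f1ad851bc8010c6dab6ed007adbac0f236c75b7aa58d52cd6629162c9b369cdf042687c4aade16f0b43d8c68d80ac043427aa59c6d9f0eb1b67c3a3e1ec04af877c40be1ea9876027c411ad1f12d43d6b60d53287a754c848b5531b78543d710136f1c3e8e207ee2b87cba28e1f71092189c42294171aa388597e4e352ee338d632a31667b28c65540a450f65b8943ca1e178b8cab3280ad441d6462a479949a51e69a80c79a3cc183f4629c79e3ce184028a13310a2e61b60db1946199c665b6670b4f0f9c2cce95cb3bcd4ce63db5341a99ca302a6826889461064c51795c8a95e440b4c38a42569644091488a52c882294899f40ea452999872b94db9b33136c49b7268326dd42e881e2682a85d42cd2111a1aa3f51b24dc28fc923669b4b1f9,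
  nat_lit 0x6c0061da70cad7f6fc24e19cb4adf86deab869c324e1a04f107cdb9465a52ddb3729b84adef6e0a3709b8485a20f9a16e8b7665ba72d8e1d91be433546f1237d1bec5bb2d19a37cbee4c7f2788b1fdb8aa5a36e2a397cbf28dc573b13714bee24f172fa17e4bf4a5f9605130da3d04c0a46430cb136228bf4612c78cfc8a9b108408cb065821501c920e4c25a639342728bd909ea84e3f4b269471cc7e938689fa458c67e97429abcdd0a31ba4460ba14f88ce854479224111e23162f92223dd08a88f72a117c8be2c5f2a0794221ca030888449c221ca0540fa3692f1a728734159d35045e4e741159db505189434149809d0528266b3b59d9b8c1c60d59b7d11d66cbb64e307188b8c2ba691b3b2f2574e82655d373ca36bcc128e79307139e68545413ac223f6ea22958470115612b0a4e02a19153beb0ab431a712d615c1a95858c5ab835f148e0d700b49c64e2d874c39ae1d70e89873700ae1d1bc02e017011b8043ec58732e2a2ffcc1885c52e19b808c1a260c109098359a4c51a13f91cc5cf0cfa5a8b2be95f4a186173c11825cee26093049b6bcc10c6098a42b10188084d261fa3102824967399b2a8aa66eb336af49ccdcb3a4db56db2d3c6c58341299f228d1b6c933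ea052b6da81475e9a0c357a566a340aa048acd67bacb009ee34f76b4e73ddaee35062c5653699b4953529aa4ee279facfad61eaf3f9f5aac3cfc08b0f2180ac3e9aa73ebad50e1cac9ab63887fad936bda70ff91414dc14e85228a68b57b6792d4d1a689d35635ed4d56328d3468fc95daa6a251f98d0b4d4634231a49ce8c68276931a1d726d447359bae49cc4c6461f8b1909a038715cd0934210aac3f61fa9de89a48c3f269a934988892c6753aba98c4caea7365a0cec4b086cb62211b2cc46662210d31890c4ac21a10d1988c334c21b26b2886cc4e821b3131886c4361870313b1b304b0c6273132189f0e0862626b2e1c1708cb85262128e98542a3a1e51a8e985444c4234b2e125866b84a1daadde586943b766acb0d476ca3c51e30f29472aecda32a3b347948a39359928e5476a3ca923128ee4646a3b915124297b2b482743b5201212cfe15c71c8c8df2cb8e849b1e25beed093a020c24e838b466aeaad072bac75d529d8b4328cc6d0c5e08d19890eabc65e2a921e43c2bc15e09b0009486bc160019290312c4a460015279eb24c0030eb3001eb2349e91d23d64d8caf5948e8c8e9d1ad23a7411183dd042c45a4f1ba0a68e8e824062ba0a93c93478adacd1e532b49ea4e1cc357f6749c94ca26653328b1a94d2a66563acf8b69c0954d6942d389fcab769636b3f98093416ac08b05a,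
  nat_lit 0x141061ece6c16ae44231b34caa187a7d091b35f4026cd366861e5108aec08c49bb01d8018787d831b52312885753c0a9e2622931153caaabd40e23b65020a7a64f42a04250b1288310a4a21cc89288944182e98692ff54002bfd5fe860b649c3155b018c93925e724e8c4b4939f422fa039b161ef0f2987ac3caa2130f0b8793d7140c56d630318189c0c0e6c70318c49e1e1f605189ac313ec13b24dde938b3811c02ae047d113811c0818740fb11710b8a25c42e2061ce7fc6e06703061d5c06b586869a5618f54b08886821eaa236b0d02af93524abc41df2af0961da8ea55e2af2b520ac2c1d051a11585a9c6561a7a1b935ca674f438d0c051a90ad47a9c14da9ca64e542f91394dc9a6e536a7b394dc984e4d1ed2a9994c88a651ed229915504a644bf28f6b0ee23da0a28e1dc7d021491f488fa15108a891f4a2a21514a3e91fba2a295422a881fb0aa85f2a6aa15520aa8c7ee2aa467c2b6292f2d27b5921341089e2b55821a2c9564a9032760a4fee4f873fb67633b06718aec193db49f27f61839760861aa4f81869552a0fdc7f0a3f793f32a959dad27e4bf949fa4fe327e7caa9b01f2caf955481aa69f2c4ffc54d1b938d80af969eaa3e599d24773674a1b026f6ace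96c08ce0aab02d817272cded5208e4e4398b938f3e2fb285e09e7dfa895a0b08a3f51c1ccce267135442a206ce8292333a1bfc351070693838b922e0e57612bb48382aed39732bb67a473d19e89abb15d8d2837a224a0c8384aec9e90b3ed6a433d22652932432ca4ca8f41b0c432a419603e8865898e61965750931d616caea5598aba8836a15a20e2906c31a24ad22288634f3245545ec8ad2d6966e5e2aa30728aa6a1ca0cb9072811e21ca0c6b06380f4a18e0e505f01820c4b129c292c541284b11db992c431c17bf25885f95cbcaa0960aab97a8408e5e25aa863c96ca4b5183112d6900cc1660b33a1c96c6c165c7092d982a64b698b9a82d416c3b760aa3059412ac153718b055f8a26e3371312cd824a4b30c7a12cc968818f25a2b03095ca4b4606292b831a84ae2601308a3ea6c0e6111c7d5e38ac2262e3308a1f4ac0e3e623c861f487cc15d91f32954b0fa62d0d2a9b6674aa786a1998e48a7cb1168996cccc8d3c15c29998f9a42bb6cb343f4f9ecd9645a136cdb2c6db32ce336cdb2a4d962c4136555e66d950ef9161cbe46588447a1620e1a4db46da11fa4b38adb4308a36d1d0855b4ada13a221f895b460623f15e388c0c62e2bc70ce64f1c38e919cd994a51613aa9c75c288ad466512b5242692de60794b7a334b2136fc8b7e1bf06a989c322a62012aa982fc13601cb62d80,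
  nat_lit 0xb088e208f24d09e887a44418f04f3faa39be99b56d547ab09ca09cd27561a6a8b9a5242323f6d48a48524469211a8b248d244835108b10d450cea9221f39aa0d36063e71c98a6c07e023930a5a0fc07dc214b0a53052d524a3ee5201aa4a684cadc88499f6d4824a421e69290621238814390c425e2853425260cd08d1e4dab2cb8b6ade7e6dab3b9929019d22a401e63290148ac3ce52190f3879e63ce6cb92915d6a2a4578a1a916680ca34ad62d6ca820b5ac9ca0d9ce824cb3aa08b5048f54d0d1868b42229e24e05649953c593044fe868a53c5d6a74f1a788620267cac98a7a33260b128c988ffb2a223d2ca895528b4887d2a51928caaa299e0aaa127b0b228a584cf867c914b191465202901b3843c4c096550a949c3bea5892c4a9621b2e85896cbabde2ab0ad9775a9e2021a26eb590b8c3451f032179a71c85d496ceb331623ace69c8a4b5251292dcb452c1688194f5a226d1084db3441b46ab93aafa4ca64205506aaf8d41999675066d1a557ec1c944d84d9d136026d09b7e0ad83aa0aafc1665a54165425505665ab328a2caccb7fd9332e74c4ffba131317a69c5426ab02cd3a68055609e10d581b48756078a24d01e28b87f58fabc507a24a4a8383460d6a8d07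08c1b2d5089e4b545aa8ad514946b549a68c60e306314553f261fde26787f8a2329fa66451448a29c51269a514540a9c5161aed14586b1451a5a069ca8a31cb4056467b63da98ac8562c2b286b89ed613830d73c694260f1a2b8a3c6b2e52132509984cb1e34548878d6d12367213a8da23c72c276138a78e3df93c89258c35640d895fe13ab09c3cb24271b38909d3c80c27525a279049918d6526ac3591ac9a4cd266c92d1aba24b526489334aa924ce49ea932927a3d3d270924f6301493e050587ea15940a204ed028a109318182e24b86a92d086842afbe86413ef90fe2fbe7df061f569e9421864161f6c30559e8b99d679652317371d9c5ccffc48461de0a11908a42f241f145a61f4483e29b08bc85e0a7fd41f1a868778683e3ff08ef143463bc1ddb0ef11c42a1a1e20a3891c463361d41a388cea623611b199d8ce0ce9333b319c0cec23a8749b19d93c2267674a0ba4d2b8295b1b58a570c382e9474bb1bfdd3086ff64b99bfcdfe187c74cb1885d30ce9974a1ba64c42ce987aa13a630f86e986740b25992e787c64b3325d92ec4fc7060b25cb902e0ca663383250229814c08b9ad0a0d18242b1215d0ac22fb79d0a5912cc88564b328dbd2cea9664b39a4bd28029679271a59dd842f5e98fb4485548b1213fc244858b67121890861651062fb46fe92214dc8288539b10a08caa4736,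
  nat_lit 0xa5b0d3629b0188bc459e2328bcd88c6369622e96c4c6d9ae2cc6d85cb4b691cab0ba3769239912246ed4c8d2249b19e22b11273639b316226720d366a2f14d9a6b88bcb5dda4d714be535c5e9a517a8fa745e9ad929794bc535a9ad8cd6a6ded35a6349297d7a6747d634351f54bccbd35328b31a6c82a65532b29787b08a5e52fa0f614d0ca5f9ae9cdf6bb2735d97b95765da452f77699bb48c768ed23b50bbccc76222383c2bb4ebb6ced31eda98ec7d06a8583012a114ce2a84534a8f6c7b443db0a288f6c7b618778300a99e58cd316ad28d2aea7e35a5a5fa53029808c3c5cd130f09a02c3c61e061c69809871a602c521880b4c07539530205e4ea73992c0bce62473213f89cc9f46673236731b3c4b2c6ce70211b39f4426ce7d1a9de4f52afa3862aa4fe1cc90a5862a43996d250e678489e9218a2f0933233c264b2b0c592ca439214092598669496681650cd86699ea619c70cdacdb4334f5270ce701b4338ef2a7a93d509ea6c72963a84fa58e5a92b09f3db12da6140cfa15b43428214070e43dab4392c92b63ab24a43961bc9649c440d926ae238888548d5ca28230a9a562437e1be2f3b7230c37da1270df3d9b437e1a8acd09ef2c350f5a90d43f71c3521a8183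79ef2e0de48633de88c1cf7aa20311888c0b7fa232b1188728ba41fa630e889a0bf4d802cfd3af5a3f3e26895eb402ac4d21d06fcb7f39c3a21bc4fe73d99437a1bc70e58513437a142d22d8521c28cf2870a43ca11e5454c27953ca8621cfaed0a2850a428969c50a13d58c28613e50a099a8d491a143335944b3dbd7c252894c38ca2666a72893ca1621d45273351e1928a4782413c5159ca1930ad2865a11e2194304b422238ad0944a53325128c51235c8a251e0aa89618cb0c851224320f4e70c886406214f4870c6859243194489885512146414482cbd3d3a2892192a7a73d311e9cf104f893c40b6b454467883c3a1e20f4c22ac84621e9a164b08c3c124230f4890b23d2a9e91200cfe67f33487d47ca3cb1e510f2c25a43901c81a6a6550a9a9865a433219887a88662c45cfd8b0cc81e89fb0fd82b5f88ba9fb058e87ec7241c45e22e691f48fb48faa1a923e7242247d23c491f7242a5c4bceae486680b9223c62cd09542478e196b2a84d8a4aa0f5090cb7301432cf50a51a66929ea0f2e27a880f9d84a03e301fb0d9c07e36e561b801946de36e91b8b08946e2c7031b88dc0620e36e688a445062129b82d75b2695016b543405a02861ca7a033eb9142c89d210b22887f91f46bda2f4b84f258e31065638b088d8e2c7018828861ac3e21887e08883443236e7884c419c6df1043883,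
  nat_lit 0x6129930898464cf267b066032e8198612a133ce1844cf5bfab0956fe889d946aadfdd20928d9470ca3531a328e7e9a26346fe898b4c5a26313184633319b1da0c7ec63310f998ccc64621f326918c845c263275fa53ea3ca8ebf8c98bafced890734c5ac1ce3caa98b34a9262e9f491e5a7d2b28232ab4fa8cbb21924da49639368bfc2854b656b10b595b12496565fa9c86d1f4d21b9089484b1286cd89091e2528c4ccd866c1c8497eed21229a934057e42d01a4b9bfe5a02749780e1483aa14501c66cb34068beaff96f79624e8be4defa852d17e41c550a66b9d42b124726da84b624a6ca7159a4d959ee7e6549b9b28b7114cc3365a848c65d9d8350966b93360a384cd79d5b335ca4c41ba677294999da8526560233ba756aac09b194eae7e673ab62c933b9eea4c5958b9cfcc8642b1727032c5c866a4324db90e5872c49b61ce104c073621300980623c7f429e34f2b0ea53c683a91d48624428623d64f020e9c7ac63a71d3862413c6989152db278c7ac78904f018f596244b134e19278259049c31cd8e23c738239b4e330e6e59a6a5b52d9a71538ac9c67a61271659829c59741a7965d22cf379c8cba5c52d2e897434b9259a52e88a994b36292d2cd60c2c54d82e4c1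825c0b0611a46c182549234a3e268d2468b234a3ba51f18460c7c5b72d1f1a111d08569e74226dca167963c8db9932936e56865265223a2d0c5e028408b52e23967a94168b522cf48884b3d2b8335a1ad27549a04135a62d42d697121b5a507eb16a41fa254888c883f177b20f507ca83dac5a499112891608e0a225063048947f6ac706b16afed380a3fb5c18958b88a0d62ec9c31141dd9285942e43bb50d2b10a8328c425a11b1098841886a0cb593a502964ea0ca621968494196c395065dda6a256c38bbb635c6eed36e33bb5b16ccde66b3362cca02d8b28d9b3599aa8cd628da3355af4acd50dbb146ca38c1b7644994719124c8a27b132259b26c8964a0b3669e42c94abe2d3c9b9c94f2b039d5f203a760780e34074e3ed01c9d31c071ba6671f6309374cb582dd36ec9b74e7688dc49d4a4ed276653b49d9b387dfb8d3b356494ecebc4588db1a15789bb22dd89d4951e9bb025b06e224ea6754b3a96e22b70cb44adc45e933705eee4ed3a3d1af4a8f6747a97cb51e97a4747b769351ec91a4bd25e9912357aa342e5b30af56c3e54e2a3e8d38a7b0d677639b2b9a794d3d8a711cf628bcd3705ddacdc2cee9370a6c1cdc26e0188cb3bb4f2a21833ca5729cf2a8183677c461d9de8caac6d7af946ee6c6731f9b1a46ae63e188a9b3146ae8bc31ab8d586226c3e347dc46253618da54d8,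
  nat_lit 0x9c48abf262654fc6518d3f29f81896295933dd9ee4aaf54d8ce25eb0d4fca7e33a315f82a9b979233dd9ee951d4590a629fa26afc9ed22bf1452afd14c533f467b4b1d5a8eacf698e04b82aed0d16d8de8c705eaab1c25b84c6fa6d331bd352389b608abf613aed2ddc4c9e26a6f4789954194deb12e9898608a625d56cac119579aad93ae72af4d834abe560766692a9cac257c56669c00d99accc725549e349565b8d6669899cc4940e4a081db0a822626589665194c4d370d23f91fb328d37ca5042822b291370aca31d88a6e137269b80d791411938589528013270a0a41af1cb1a6e5988a9b9297886f9a084ce1296a14b96d84fb55e412db030044830de8920c90618190dea14b437ca1bd045286f99c24b2467011480ea6252029005dd99f4875567fa33e8a64cd005b6314c96da6b6c22d22db1a0047033309bc15ce695ae739a9818cfaae73810a39ce8ac2e739e292ea5750d4567f20d15a3387456a2892ea19ba2ba85d49aea08f86ba9a2832ea4e0c4bb07388aec1766652a5d81aecc8fccbb0295a94a8376a52b294906ec37861bb045306f4a5ca4bb60e294b95142c1c5df9b071a1a4bbf242b2efd7b6d48424892f6d7b82bdb6861af6e838541d0c1a92457bc849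15ef2d22290eabdea442d21e1269487a0da5221694b41bb1a1d056828d4153d60c34a1a04fddaf11433ac6830ce86706236b3495e29d9a566a826b59a7ed89bcc4d226fb37ea09a6e30a6fd37e21bf5fd426fdab2248d5fd4723591a861adc7a2fea4239a1191c648471791a11dc7ac8474a290d8528a294471baa515a06894571b9c5d62eace3d71e238f6a805175aa01c59621655406b19d500b304d63a5b94aa296e31e96189d2de3d094b79f3a4fa161893e781514f9dac073e96afb3580ad6456c2b59b5783ae456b6ae995adabe93094fe2357ea844d5f5ce291d4a00ab9c3199140931825022811b280ad065020d6194008ea817a23a211d4a2e24755cd8945ca208b9b9e19513e38a53c383a34f0d5b0d0743b61c1d15ae4ad88c99ab602ccc43c21e310f565e6b2e5978b781c022b2f21e9acbd3b8cb2f49e945cd652493d495110f565a492a4951bfa4df6692aa8893fa5fd266fb54631bee780cfe9adab4f015a893c02e6b385cebe8e174548b855c2a275d70b15636226358d886b45c4fce42c63f389f9906ed160422a9f9e228c7e742721f9d06cadc9889aa0d9c2c31134271c44db922bad2d28b724b4a6dcb6e52372d83eadcb2df2b07cb80c1f40fa087cc13c21f40fa316fdbf453816fd2b84e31eadfa2df8b7e5bf025bf6182931d862ac305861170099a6a3d2661133433044cc,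
  nat_lit 0x5548c09d75852a29511278a2a88aa95552aaa620231544f13455104c6a9c8a99a0993c489e31d4a278a5c069e44f2aa79240832e04edb4b826b2355a87691efe1da2f229ac9c3b54b490ed50f2c3b5e3253621ec1296934e2a5a52d1cd65b1c335999334d651984d7c52cb29694b0c8e2902329607aa6a5852bb19bde32ca570a190f547ac23d552b98f554b28a1740f2296505c4a5924012ecc550c79d3de30ad0f76a2b43dd20ad0f7262b415a0627105ccbb43dd320b9ce0482e17a1a0bb138c7bb3de36270f72789c5da0c5ae50c3422a0c145fd680317f8b59a12e2fe716b599145ad0962a2ba0cac5fec9cd17f4c194a0930632838be0ae71094317c9421a60d8c889834c22a60e5045283300ab9a4c02868b73421805cd0ac6475cab9a0d168e681fe12ab555ad3959cb32ab66826aad7e50d5d28d873964be0c68aae8d46cb26355d282cb673a0b147d682c364c790aacf63ea564c33a93c861f6c7cc3e633c99e4c667711b319debd24f26a36151b578c546c6372af117a8cbc46371b1b58dc543b5c5931b89d26c6e5ea22f5491a8bd48790af528c030f28911c3c979a71225e6aaf30914abcd9b18af35bde4bbca2f8aef177818930c12923491aa48c0c1312307c4848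c1f11051c7c423e10d220f894eca3e2274886907c2214763e293b89dcaa74277206949da84ee63d913b98f44c7b9b09b1ee6b473615312298c7b28a621f1929894c683d90a228f65556aa639ad9cd8977a9362555a4e3e7208aab5560aaac7f62aac9c8b4d9e6cc93676ed94e454546f2833c1a8a9e4e2678794199e2aa42f287e40d549d268fc83e123c60cde87c2855a3c64f7e6f19878a1f06156b0f15bb143c4f7e90ab855142acf2c50aa9259c2aa8c4524b4961c92db5cad7b71524bb5af272ed976861265ac739d9ce9aad556ab39f96b22ad48064ab5b362cb5956c440396e9d9b18228d0e9bd134395062d0e6870625d822653c29e0626182244b24d4892c8964189b9bd2484e5bad2de4ebacb7a426189a9bd1cb7a5bc18999b69cb76cd8736d536b4db6ba0566c9ae9574276ad5c995234ed559293b595222b2e64cb5d94d390f626fab2a6545acdf55968a8b536aab2d5982acb1f18a9b48066a6d1efb0f909daa3e41f1a0f9028e63e41f2061393d2a3e353c30f8c28e83e3b200c2b692cd645a1b9486d8f4d2bc978953ea4f652f1978b31e97ea8c7a47d8a7aa43828fb90e127a9cbab21c84524870bf24e5d72f0b976b506e5da651d6a2992d4ca32c93bd254acef4330908bd9fa6cfc67e8b12a8282cfd2981b3f5e0accfd298233f0a60a66367f294c0a5e45304c50c75a910341f,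
  nat_lit 0x5d2a91e95fe292458112c0d60424274912ac090cecb0288c22c09248c351491b249248669245d21ae8dc6ecba35d22bf815a2aba46810ae909184bd05e8912314c08bd17d22a980d9e2fa453b1be926e4d0bc53b24dc9c305372a68138629984c5870c1d3358b06e1870bb38602a844052030901480a16c362bb31609becc579e01315d5b62c572d69b15c8288adb0aba9050bf4441456d117ea694aada87b0a84529430f63e2a8ae0ccca7c5694134a4a902d2969486275e1aad2a3ec234a9a50589d5088a52a5828a114deb4b060f4c9bd65291dc60fa27713b8341ed94c907b64e13274a002c9d64e862542f2446f2379ae41724c46f77aab4a4e46aef577a13bd4cba47253929b4fcf92672513c9032c4f042796549a5659544507283932a59542ca93941b2a4e48cca939410ae0f8847284ac99ca04f6c7281b5325652b2c95a81f8a5659724a85542315b23102d626b10aa79ac4ab9ba27ab58a088ad5e8222513d5e22cc36b224111982ad646b2295ba89e8d6465c1359277e4cb85cda32e4a206cb9959ab2e55a645c79df14b8677c2d5c56a2ab4c822aad483d2cb06758525d9d60ab05ba493aca832ceb2a5a2dd26e8b3749e06752380db548eaf82f038ad0d5f2a12d65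29b2ad94a4da9652b2b1d94aca418928ac1595acaed158af2ac5622b018338acaa0b1058b15a8acb456aae4915aa9394075ba6b572ab92ced2cb09572b2c2cd9e722b6586eb9aab0bce4dd79c89b75dbaccdd720499024812cac29d68ab0a60a73ad9d3a4eb662eb3ad9d38b6fa60a93a755eace9da0ab305682a14dda08653729b85df5942ad05650a1434a068ca154f9328554e44805d992a9d2f0ca9f29892a7d54e69781fc1aa9e71a8c1c5dfa4e36442538d5ee9488690aabdd248a2f75bde7485ac01b7beb00347a9d48d602cc436379530d98abced64277a1d07683ad5e77ee9579e1a035e77922bbdeba0af243b511960cb04ef3ae833bddd5e35c97619d742b926ec3867b3b0d59033b29d90cec676271ac56414ec6ba273b1759318add60b1ac8d62bababa291ac867ad746a7035d19dd9433e66e30cf8681c33dd6893bb75a298b1d6aaeb48638bad0f4a30c78f0a23023c091e1a960c785a56352ca9e1d4b213eb48a6a4b522a9148d536562522a9beacac8f02d37ec9494df6562c78118091e08f794781aa68cac3ed2b54ec6a760c9631270138052c59630cb16c5272c5825158a6940504a6023528223c94a0714230111a44c046042b8a0dbe2e282ea89b7d82625d925a0b04c95e2c0e2bba92bc970c4af257212bd8764c072559b02180e64ab0c6312ad8106c0760c3301e04e2c08,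
  nat_lit 0xa92b5822a4c75256859d498a764d0b6860b42ea4a6d0b94d3342da4035252be08770afa257c2be3348268e2d202cd1b481af8657caaa935f63e42d7d612347cd296b1f346a9c7ce3e617478f9247cea9ab1f246aa47ca80c38a08fa0d01a88a91f48eb9c7d23eab1f46be3511688854455c40d11555c43fc5570aab601891b48da251122528aae9911aab916831d78eb8b6ce644b1d7a972cc8a252b1baa162c4a500e83fc403aa5f226ea807415a201c5aa28078b00ccd90808b9c4202ae6a2d6a8409321254907ec8948b52a251128188eb0b159cec2c3394ae08d66eb589616b29ad85ab82d0c7a9635706b8095c174e25209d38a62274eaba72ca6d5c0ae01ba7645235c04820a40c68e29047528c8a64526ea09111c8a5fc2d2297501c889c6cd2227502ba7cc46aea091d8ba80e8eaea3751ac10eb8a8ea37520ba8cc4a2ea467a9ba928c66cf567a333d6846b4635df9518e7d8b5c5a93157161805526a9825211a7095307a2954c2b484f45723a56917d0ae478cea391dbae4e478cf121b233a519ead1ac675c8a75a355634e498164e459c91b914bccce455c914e495f04b9291e9a479c8c723da20b48f5ade74d67731b5bdadccd6f63535359dca4ee63218bb9a9ac6ee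68c833b9a5c454d69f414b89f3e72e29f3b4c29cc6ceb64feabad9d6c189f90f8be7dd6c6f9f731b627e3a8530a7f10cc293fa730a91b1a7f5888b2b68c82c8d9d4c323648c8ba99d4c69f597eaa7d65fcb2fd583a4bfaa1e32fe66e0d43eac6750f6d81d58eac8adb06d88b6c1b6a753aa9d336c4b362db199f9b6c652e353a6a40ca5d05a4d4b4cd0b52da9618321e40958546823c8ab31ccfd468d33f78995599b6ed5666d912a061ac2a895448c5194fc23e65409aa007cc6a81544b2a0597230bf85f8aa1550063e60a430f9a4aa2a80542b2a01a4825b36922b48ca8cad242cd0b6bda4425462a30aa95a46a5462a2a1518a8841c568e93dfda3c85432a1a3474a864544349a950d944334a9bd33288a088ca289faaa0e27e8d08409244fd5b86adb56e0ae0d0c62adc20a1ab70fb6a2c13ee29f6d0e44d258848b495a4a188154108f9d024481340908b692442a826842204a280a812a918d489a103523684ab420e26b0089c1240221b8338754c8c371532938254d2aa659984cb050fb4bde656b2f797b8627950eaa861f42aa1e6f88a8765834e1d43ed89e67414cad92c332b9be332c143e8cb08a024df2486537c490ac50248449249210abfd6faca855422b58cad8cd638b2aa0f22ccb1658b89421a2ea724271ba490a21ab2425d6aaeb08faabad23d105f08f48ba334b90911748847a,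
  nat_lit 0xb1d0d9aa930d66a56292fe89402bfaa4d352617f274985fd1d26a9326bfaac93526508e58a64718e29a4aed8a6b1b145c610c56367110c565c44ae212e8ab88ab248e22ac8a564a4aeb59149fa495e05c32578518c0ba14aa79449f124fc6ba293f49f862966d63623b119cf5e05c76239eb9c0b8e64d02e4d994ac6562cf7b52934ac5f2a32b18179cac59e074ea7d0353aa8ee6bd0a3c1d1ddf0853d75e834e22128cbd09eb951e1f0834785e81d1e2178d478211aa9854c04a611ee929ad4d673339b59a9ad5ecca6b999b2add44ed3339999cdada14d36b92b0cccec1c325649f162946ba493e84d91e397286b93a268d57aabc6fc47e099b85f846fc17e1134ba0324fc23709bf0aa248e5584b254499ca6ce471c8b394a446ce5a8a233a2a20951481495452670930b51724ce24de533899cb28ba052d3399f49cce545cd0296fb140a6054702961b9b0d986e84ca61b0629314644ca47b8932899418a24368c68290e53d45769cf527a86e0e8d034f5186e78a4c510e28d1ee38a261bb46829784c37a5d952f23e08cf37f8a47c2c8e314da2d1c535040d14da2d2bfc575eb45a9b09516a1c43474b1714b82408562ea6f8b1cd8f6d1e1b1914d861c04f199b114380f68d0e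25e60c388a5c27b4870b3f319f6a52d6792b3eda124cf26688b3c8a506cf2294114a437645285abb14a1fe24d007f889c0d9e68ff15abab3cd6ac4b572280ad5de0a6b575ab2507684aab5677a22d597b43425a0d9d0949662bd65eb092389208bda25a9af68f18abda24812d2c9202bd925aa1240922a490247092cdf7e50d97df8c4f98266fbf36ea3efd030afbf9050abc5986320a8d8b48291d6720919d8a3ae41068eb8181482241272089d1b4822412501766494825bd2d209abd23e79bd2b57a3a4937a4b8c2de96f51b7a61f84dea2db9b7aaaf8cdea6f5b16dcca8cdebabf237aeafc5291abf0d535fd8957eb0393fb1f3c2fec37fb3fb1f3ca6cb7cfabe7987cd2e2a61a30f89a42c3e61e9d3049a44c3d6972374a7588d2e80c9b328e3a70199d1a43f2b6893a355c94e8e99c54aa62d1533a3e8529aa030ca6a53418a0a9834e86a4cb3a1768a4e86bb073a19d08628480acab977412ae55e06ee832223ba29525484a548d9b5da094a96069d2a5f8ab4a9768b18e8c74ced02579303581c2c0d7681b034c88cc0d5ae0bb4036c451528b106d8a20471c42a09c72030cad5726340621ba501896c8c060e38701876894050e344ed1c509bb4602e671c38ea9c719923017aec3405ead8cdbaab5b55b2c26756cb36acb62c26966db09b5762bb078a1a983628667a55d8b0214cf6c10d4ce,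
  nat_lit 0x87123f4274450f087933c68f82d0f23e0abc6a1e067c18789c3c1f48d0f05e8a4d7a6bc8a609af2bfde71eb35e9b0229866c0b3669c82cd8258833608538cb1170a6f0aa21343d9a50d4426641b4a0f8a6cc896193320a2a8c2e66321456204acc68812531d99a91026669247199a2cb5a63a333599caccd9a82d31c57c27d53ea08af9aa6353eb2ab58eac92d6558a615956a7c76558e48d3ba390cb69a19b47225a051c85c61c72166c4b8c2360ae3113c6b8ca2432e3288e728d7481d11e890753e88215121d248638767a3a4a388aecf3ea89f507688a03501a2811962aa0328d9334d9a8451b3ea9b351dbc8cd476f336299f0cede76f19f55d7ec7d53200bb79d8a2640ae7a573cc6a8ec57631bb15d8c476877b2bb1a352cec631a93b0c43ea635372b18804c2c6e574999b95f90ca2051033c6195a8a2050f92880a12acad6579142d95e2caeaa52cb3dad4b54a9b425529ebc35cf9b4129a66d0313f56889cee05a292395daaf2615eb2bba8014ae270e936895da540195c92bb6572c90679eacae91f9cf3e4828923567a49060f65241b19941ee688ca424ce0ca7653a763392da58ce88cb6338f22ca761064e1756db4a755b6b1e48cba479118a51e456c1104d5244ad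9209990f15b2641356b8904c2aec4133d78aca27e4b0aa5df350088786ad99deb2b6642448f09088a3c11fa49d96ef123f4eb6c8fb90db2cb11f4ab2c66c22cb24246b2c59606252a16d46266c3542e868350b9e21d42db4cada52c92b6998a08da682a9369992a33290f0a82583c4a1e12c898788b2224fe64c09644b2465916d131645b42755a6c19b686b50d637b1bb485e69cb55aaad2d581b06955a6c1acca543aad832bf8b60d43a63be50e88f394862a1d50f1a876abeb654b2a24ca972029bd99524b09f6eb32a7dba4b054228fb75092411e0fe50473b90c11e08e183b509260ed424aa111dcaa84aaa0d251b32b55413ccb2eca612530d87c94c297e9530a5d652fdabd1cbadf3c92eb4758a3a91d4233b4f02a3a93cc88ea1d5227993cea3aa96d2279e5b6b2da4e92cb6eb2aae2aacb2d655df6759677dabbe8cb4aefb96b13becfb42a6377ca9f65df2865a77c23be5ab04ef96ac34799ba0cd5853913561aaeb1e163dab55ddf0d36153133be1e424ef833a8bbe045a465a32d89969df4867779323beabbe2efaa308d77ebbe746c9cb1d77ec30d5dfafcb58629e855f97b90d7e699c75f97b921a91ee28f7299d95271464933b5231ccedc9aca465192ccf6678aa32b349ccf272c3669986b59a6c72d12e799144b9006312e94b9c4b9330d13194c3266071249984cc8a662cd47298,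
  nat_lit 0x14ba9dbd396876f1cc91dbc7a4614214b98f494a0c3d21e93293d3ec43d2527127da5fe9415b1a24bfe8f652ffa38951ee1a4947185aa434a16ab0b43cdac2d4f3662a83dc91e6cf38679b85a23ee9f5e90b47a3942d23944f4744fa472a9d8d659a65953318b054cbb2c9d32d13eb17a8d92a27e25e889f3b00a27deaad5ef9e693d5584a53cd7fd3471e78c4ffa3861bfea3222c3147b930d49942c3561a8628e78cb3c5571acf19bec93c68cf9cf355d4d3cd4369467e340319fa81a4e6e0589503a811540cf3030af419b3ee4e86afb936ca3ee59846fb97dc861b6b5a2fba7d79bee8db2cfba7d78c1366382faf36a33ebe6388a12af72cc7208e931cabda57baaf650fcabd8b7aabca711a927b446a234c93292624932498a92d499ac93126a2a129288a4d60ee9251905255ecedc507744c91db8ec0431d8309413a0c23078148a9d80ebec76083121d80edab07670b91dd8eec50833bb28a68eeea77683f21dd949e32325282a93e0fca771830ac1fa0c470615010c188ef6d0628978afe5008312fa65b44bd396a4cd1ceaa72c762439d4dc08e7473a61301cf18e74260639e4e730e7938869c34e30cb3a40429c61cd9a711916a9c4a71949e614a4c73a6f94296c8e50c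686314536bfeb0b28462d7fdefab600a272bdf62a0544e8e10d139732744eb00245368b496009528d8025ce32a56022cb9e940d2e797024b9e40452ce8fc0cb6a59cd60cb14b4b393ce92ce5cc8c7c11a22b9941e8c5a172eab435cb89d393b4b1824282a76a30268507030c60624c71814e9b460636451268bd2c6c9f6091b28bd14e8a2f430f0424a45eac16565939e8c0da2c6483981b338ecff2d036424a9fe2244a8498bda21250904849179921222ee2fad8880c5de376d1778e3a2dfd13a91c74d29471d63064329fa0ac62c4853f6b1d8cfda6309624851acc6293450a68531ccc2c7670a6852b429944653309981d8ee18cd63ba71b4cc29d89636b30253b1e0e34ecb303538e59694e38fd959824aed174ac8ac5d108e51744718c5d22e818a68b92458d1c871638b9345cd08cd1728b91a39066ec8e47ab145c9db04f5631ea3b611d4aed8112098f8c7a222476d298f5db6aeda971a3b6d99832e39718b2c2a26b2e36722d44d9104523644093d6a2454ea6720d3aa9d46c886782322191cac8895914b4256431c84d99caca30092b227ba322d39ca4f7646213dc9f024f78c02b231390b1804d9a4601e5451806462a72138e89c8645a3232596ac8b784a4b2e1b070d73d79c361510d0d85db22edd76e84835dbaaa9e71aabb75940aedc564252e3da08ac9fa02f18878abf42156cfd0]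
noncomputable def A_1 : List (ℕ) := [nat_lit 0x3e308ae4cca2f0a3e322b6a1ec87c6520a9f1987427db87f143fcfa250fe88329f61a54ac3a786b30e89988c3a414320a45cac8285f2920a191628284bd1a0a1052c2e541308b945cc62e58ab0a0a5a9668298abb25ae4e8d1579db9455da9c315770f925b1c68296c4b5b49d2cc052748fd8c9d1c6a727481414eaa85633aa9d5061facac53e68ac0cf9a2ac6df19f31c55a936b1562150ac242bea42a208210aa0669319800ac0cd58a9033568940cebe6900184f0bdb2be6309eb13ad7ce080b62782024c62c4890406c493e41f2048c6811ad891630af909fb33e40d748f90b101cfda45a76208090d8809962c39a9b14fe697a33f99fc85f3291e6eb8a5f1d23d7d0d48f9412d2f9872d4bea5e9b0e6c8855a3854a58f6726763db24958f6ae2363db1e8622311093939c9a42a6726b3925562ce4e7903393ab08cf22590d3c8917a2b9245eb3d0575ac8bd264322f575b4f4279e4aeb20d9abae068d4af90a340d0e78503468c8c0d279a7034a57b485242652144790c85279e72149688d2bea6832d15f234b4547e4cad51f8a67d3bc8a3f1e5aa8fc74e49de9713277a6584a58a612ccb1440932c3728bf1c75c29f598214c154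1252ad505aa829414a3b74fe88ec97c0341157b0ce7ea48b66c96b2d49145443c35150a8a6668af285131289d44c23c21d90a7f945a8a267e39a89995aaa2654c0a8b13fa49fe5169bf1e614cfc7516328b4788ca2c956a28b13fc92ad985b27fa6086a0a9559cc127d232aba5d0cfa6a4094ba9e92d2ea670b5204619418dd3848c32b4a355cad2a8c36aca95a5ab085692b5095a536251df45f8c77dab2c8c34d4135659e22d598ef9b565aae530b98594b9297871df92d352f23e0d25a4a0149692ce325a9721c96928470d54a10bc161ce29426719a5090a6c9427f49338ea222ce386a9b38d7accce386aa9eb59e2b0d59ea143559e249a83d6ab3c4a508cf17e68bf31f9870e7873a9eda1d0b0e767da439df96a6e713121b9ccc646e713491be8df626fa37d1a4f5f9a66fa92c33f364a85258ac78c96127e7258ac7a5832c6a958f92a1c7f20ea7254766898e0c7cca3a51e1239170450756380c1d63f870753b6b41d68ee51fc9ac0c7f22c6d1fcb1a8c20a10230818411d4ca6ac9532962ad4ca0acd3569ab1c20a102d08254994d594a64a934fc1a94c7a68a534fb18ebc75ec9f81e9a85087a8a3d3a3b8cd619d652326758a93d9d6938883b233ad9d49358549a33aa6b08a931f72aa4d9c0d35852b333826a42a563ba9a958a64477514d09dd47a867750a128f514aa43d451e98f2db962f0c785b31fd482cf0c1e599334edea3cd,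
  nat_lit 0x314abab0c7c8eac3bb8bab1e84ceaa9cba3d0a8604f429cbaaaba368b397afb1587a0dacfff8e30d3f97be5489a450d2269fc7035a449d3f9d48d48981aac08ec48b03581b0c0d6afed03939f1c0e65d8357fb138cbb2beeb5f68e3257dabee9077928a57de93055f7b2795262646d64faf2a593d42a932393314c8c774aa159602cee5d56906a96023aad4264eab9902cb0172052c050a24c81428531e50a0cc7e6428a145098cc75c34aa136deb284c7748a139330b7cd2acb2665113499945692664ab21cb1444a9566a9225586d229561e01a889442d32d8121a0de04829529320c090e56702482012884e8a2a2109e10f0078223c013e30f00e54702367a91ca9c32672a29598fd4e5a4c1c3968aa287ea6a9f396a3869bda872d13ea9cb553ecded6f6b25e0b744ded6f70b7b600a47128028c011bdc7005446a4015be6b0052dd0b7b911a6dee43e337b911aa3154472a236376488dac1346f0e245004802330c9bf46c326fa1c012718552a68f0d4aa928752aa4a157caac45494af89d252926d494af8ad5e1eb8b5f1ac10d7c6bfe35826fa352469ea52dfaff9d3d5efa94f5a492d3d694cac087142d29ac8054a6a4fad9061605641a4fa38a1808949f8ef0d27e55252a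a954b3855922d2a94d594aa699672a961c8b0e187024cb9459b0e2216ac38b2cb4a2e516d4ec4c40ca2e32c29887b31c65a32eb19634f33d99ecec69e7b333d9dc844f67af92d3f69f0b5f2a7ead3e1aaa94f8770953e1aaaae41aa02b555aac2d556ab32d0d72ecd562b40b5590806d566b0b550e090cd617708b585ac46d61aa1b412172e50483a70c12217e7048aa1a3911e9c95438160d50dc12302c55d1b82674a8e0986092aea74a6aba55cb2aeaacacdb0ab23559647c5565abc1d596cfa7578a86959f6c8ad67d8560c2b2c7e90ac856ac2b2360d63fb2e9d976570565da800d97636090afa81246c1f6831b03cc2c2c2160a88285825835f6a90b085d09eb21a430bab211d1ca8e476629119affa636abfe9119489120c5223b313488decaa903481aabd24484906551a240d546ad959c5aaa8e4a4738b92913e59ff8525260a1c94a442d2525c71305096c2c149c59b05120ccc147dc14e2d98e338b7db89b60db02a3012e29b60d8ac6d87dc21b61f70b5ee98e2bee1f288fb835fb3e5121eaf947ca05ea5224c34a488b244a20049129180a44998e69121a53244641049118180a44585a691149a324d46b2c9341fd124d13c629349e39499e78e326057224f1e45e73c7616acf1e71c56589c70d79a71c9154554a4e3898a4c2d61711314f8e6cc728ab331cf8c47c715c89f1d702c7c7,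
  nat_lit 0x50b2cc9e4dcb4f3adc93d52b722e98937256e5928b26e93aa49b92c8326e90e94ca643a2c95ac3ac8762d0d21d908a4876b0e5032ac38c9f22d0b5879ff2561dc0c51868c3146064ead18642b246192da52756af125b52dac9688ab125a105229684b49a5a06e4696d40698dc86e4c4a3251a0e2031284a310c0928cc3622182432186dd96ae8a6862bb2cc6e8ecb76615758c6e6ecca0f13b30bd038ad481097a283654caa0f9d07e83cd41fa0fb2d25692644a5a4897ac95c2b495a51ad2683c8d0f7eb250797b6afd67eb2d211a1e8fd676b93f58dde4ed77ec21bbdfb038ac6878b43e9202fd87ebb548a4accfd7afc13f2df9654c17f41c959c3c4fe89578bfa127c6fe87f3b3fa0ba0ae1e70dad3665b834d970e1b86ead84e1c2e81b872b1ece1c73d19829cf66e7a10891828c16260a3051b9ee3f04e7b96d0b9edc40ce7b73e11d55c5aae7c5b7a39f2b344e2dac88b8b4bae6e2d71633880bae8e2c9cf0b8b273cd39f55ab4e79f52339e7133389df56b8ab369a31e5f5686d37d4abeadf546fa97d40e2aa57452bb95d0a6e695e92ba4e214b2659449c44e41309984c4edb613ab098984cc266139cf2184e51548809309e9606c27a581511e458b4b0965352c25a272c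a916230e697a922c9168c8b121a322d48598d2521cc3491a4b243521ca90d4aea24361fc890e6950a43a45c2d2ab0ba48ba14836177fa3585e9fecff438293fd1f1e2ff46991bfd25f889f575324bf1e2232fc6968bc46a5a54ff6e90d3fe20ccd2d3ec2b4b5a588d2d6962cc5a58cad2c2a5234b24acb522afc1d48aa4418a92a52b4b987aa54a80e9344aa4e2d126891b0f69826d1229eb344a4acb8a9afc2bdbe512b5f89ee9531188034c4b1514cd26685079a621d8aebb674c483fb5310c786ed531e1088cc76463c76bb18f2a486ed676b33b5dede6ed775b8bb5ab949196ae52d6367b6b5ca7b32572a7b6728a83a14f6d5fa33db8859cf6e2ca543ea1f1450234eb43e5bea50f9a3e48bc68f8a35a7c06d1f6eea347ca86ad1f9e19c69e34e73df9efb4f81606d3dfa6794f7dd1e33df57eb10915f8cafd83a0abf531ca98d1bfaa63a51e498e61814a3d8d4b4d7a6b3535e46e94d7a638b954bec2e58ad08c1ceb42951578725686b44b5a1837a9da5e1cb06f71c941bdade55157871d4559ccd51533413c39a422f0e3b60b490b66276c47310ce11cc2762834a2398ed4a8e683493e7e0d2321f3b2ac1a5dba676f9a913b754ac2edd4e59bb75474cedd9dd262a277293ba5c294ee9d6038a79dc8bac20d429cb75512e160d4d2c4785341a8ecc306a314b3aadd56ceac76e29d95d588edc,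
  nat_lit 0x5ff8aff89482bff5ffb4d310d04e835d10ba0e6986e83307b3a0e93ab34c8ff14d31ad0949daa38d519ad03547a8d33892a62751ab2d9d4c6a34765bad1b596d9e8551aa5f133d2336748ea471d162a38d5a4a2c354719e8751cad23516175254589e28d162336a86b8ce2c66e9ae319b7878d35d1c2af0f88411f6e2102c3a95a9c4218669108901b4ad5866ac7f785ab0cd8644c33264130c91d8320ba490c645862349261a29321812c4c8263a132099c6c342672866099ea4ce6039133960852907ac0ca425206afd4c71ca41876d29046f2bd69eb4afbb7ad24a3e2f08f5a8bc934762f22f7f7aca45e647471794242c5e646ed474a3a34a3e2f04d6f8bc0d45651e91788bb13ef17fc24a491d0c8e6472291d91e345dab3eb176424245d8dac225c36b89b59f5a66d6acf9bec9f646e3e71f3568221ece3e2f1138f9c7e2e3ea639567dcaa359f91e22476476923c8490c8f0f0c42a284931e98f10d0928038c24ab7eaf88a1cad6feb7c55bfadf1d0d5d3a55be8111d6fac94d5be395140899ea3022a1a9c08a1ccd022a1a8b45df4634355b8350d686c70c7b1c950dacea34369e614a627982faa57d9cf3237e93cc639acf315f653d8530aabec846cafb8dfaa24a380b1b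f8e01d82dc4a51c0b0a1c7011248ff84a9a22492a6a701401aa54dff089534aa0a54e748b57e9322ce9157453a47fb93fb6c284ff7b0a0bfb58f2ac787d6b1b4e5304faa7d4b582df56b60bb0a2582ec1618abc559d852394b614ac814566b202e228e535642cd49590898951c238834705e52d1c68e0abcaa381cc3a0f87470ad6941f1f74307c9871c1f20f6d07c9872d1926eab30e50114c394f853749ba8cdd29b87374adb13a42b6c30e58988c712b6c9375b18256d9e62b5b6b181419ac6035f59baa58c2a7cb630a322cdd6b749464afa8c19ab74b61cadc2d6ea52495ba748956de8f24e91adc1ba44c36ce917658d6e1d922637aeb23b25d9295d57ea15756c2035d5aea862bf15e6ec9b080e2beb6e54797ea0d8428f2d0c15e8b51e6970b6108040d292c3895f5a5c25872a2eb4b89c1a545e88c55179c1ace09522b383548937e952233819c12aa454848a9154a9aa51528a9541f7a2a507dea279392a8fbd52a83ef1f710fbd52aa7138042aa547e2ca9954d30fc553043f151608fc429663f154b1cdb1f882a965361aa587e0ca96535929b07ba2a6c9b61a9b255aca6c53994db270cd36c6c10e2ba6062d82aa8959deaa2340c6c02d546abc95517e18d3cd91e2d766bb1bf0ea9c8fc37e22bf0ea9c6d768cd335da6da354e7dbb553acc2337da799d98664e9661b2a2d9869e69327,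
  nat_lit 0x97f23aa4c4e2ea97540989e60c8ea897e2cc193f29306b370cc1a85cd66eb340d9ba600b2ff4fb2cc013f2a9f81d7aa7e660a49f94fb9a7da60229f71d79a7de5f0c9f7a87b61b2cd0954197c259a13e463ad4f99a7ca67252f8b0c8cbe2a8255fbab1955066f24db29bc8aa06c327379b1124de5abcb379b110d666c329622a1f2d88a67236197ffb5866a423520a5a1d2eaa4074b48a9352d20a6751f3aa9414dcf83053b171c14d3c852e57e0154caa644d3b9729d9063ec72e59ab34b951b051f68fb133fea565383acb154aea6eb1f6a95b47dab28539d7e01d651c4c9594b20ad651f802d3b7d8abf00dbccfc07d893895f6231c036f2bec5f5a8fb17d991f15faa6fb3a8223eccdacafb3a821557aa08344d7eaa541198cb50471313f56a24cfd5a51ace15b0493857e214e169468e279cf2528e76a34a35672ceee7ca31bf9b38cf9676a567a5841ab296104b0921512c2273e6b089f2b2c227c8d3e5c582d9ea8aab8b0a728d15574e7455a72359fdb28355db3f9d5768a8d55dad8159fda4e48718d19349ea5e55b0ad81d80633075b08cc25806330ae2d73e2c6623323198a43156a690c765c72f9521a9067486a42b521a84a3483a418af690d231998cc9c68e34291a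36d7ac68e7e42fcaaba0cfc9bbe95748d0ab77e4fa8ddf69f9377e3427199a013466678831a1b2e0cf12906965cb3a2517ecf6967498a9d816628d31598a159aa628363a50434c52cd29314b379553acde336d99d8cc4a624349caf81d9be9f6966f9a50ae4d7262ca2a7d9d7c2bded5f0651353ee9f6d37aa89953eecaa559d81c9544eb3a71c9a899d676298359d95d35675c74d2ba2f0138e8c982e3a7aa9b8e8d324f5a34c8ba39eb6a6997a9b1a64d30869912211a58d2ccf567abb1a58d2e269647c9486a06e321a7a9957ba434757fb079c869ea4d21a81cb37b1bd8d57fb078bf0e9e6360fabf9d83eaf6d60fb0f14bd6bec32f597a9a7c25ec72f566a9541e620765fa839cc4140c331061034c42cbe7507a8a3541ecbeb54297b2d97e9dc365f99394bd93e072f64f808eb53e229f0882327c2206906f881aa7c53beb1038811440ddb689df4efa4b8d3e2a9df1d38a77c75a29f17799a7c65f2513a4f994be65f4a9f34fdb27ce6567542aa11cbea5f4c9fb501927ec76069fb995a4be950e32fa5bd9942950e4b7b2311aded528cb7b935b4beebe672fb4ada49ae778326bad98cef265c75b3740a56cd444532e7409ccba82cd32e79393a04cf02e8174033a05cfc55b273f0bdc1214c95b4adb39f9214ae7e306a39f9cfe860d73fabfd6a88ae7faa21cd31ace55447419d51293acbff,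
  nat_lit 0x9438af1178054645e00cd0d780848630da2f018daabc0a5923a46b7094b26152d2ca96256489a19d2c653894b1a3214d0e538734352134d0e538ac328022ca7253a329c99814cc544633319989c32ac907331a48b4cc61947648a5bb5922194b0c93d3ac329f2430ca9f532c327d2d3ea74c94faab7433ea7c91cfa945a2f9292f9be4a024525fb100c97de66504f85a93cce8decebcae6b51be524546fa7c8d1beb2ed48c9801d232b2e9598acc238aeb30b37fb00ad662cf855985f889274c4c2bf1a72ad9ba7c834e6a172d396cf8d646a73359f282a567c9ab9d3994a6d3579abb4d46510335763e8ca2130cd28895623a72558b2ab4d62cab290492ac6c90cab135a69ac956926b541229ad1c89a6b5184c9ad1c810e4425a23914d618e4535ec391955aa6b245429ac50694c6141a3319935a28352b66a0d9d794bed58632fb97d862c6c3453ebb0d0cf42c34b001819ad86ac9a961a583090a48522b07215290a42bec429561210a48f2447a0be111e674e4bb1a8f0cee08f62ba65d89b41d74c6bb16df0aec5760cbb16839ae9a5d2cba66838d486a402d076833341cb50644f6e7916a1b9c25a8592196a03dac5a830313419ce42d062d49b3d9a0c65a9328116a5b1625a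929bb34199ecac8aa75ab3d8a542cf64f2894a904e42e54138a098900682721a2209c7eaa8275501364d5402cdf5d91aa815608aa09b9949b24d04ab15d58b5999be2d939cca2ead5626bab23e2aeadf0a8d8994f23e1653cb3996c92ca79b12929e86d94a79b248d939ccab648b0e8d929cc9aac5560cab16388ce666222c716389cdcd4f2d373275331c69ba94de639253768b634dd275106909d424e9639313a98e084eaa6f231ca9b84c72a56ad37a95a94ae611a52b6ad834adac715822b1c3595ac7242e52044e1b2f40b86dc3618adb142563a9b2b58e96d9389cda44fa77d40be9df4e18aab140c10a172962896c2d8a1846d0b99ba3308d8444c232600b08e95cb54d8f92d2ba33854ae43798c26a92519c49313a01d00486f4930a1bd0e0686f8d0b21bd0e26871438b0c252f848708d10a1c0612687073b321c124a6352912924950e469259a9ac89558638b19d78ab0e6a656179a98c29213c73afb1c24ebd4a29353528929494a223d39aa22946bda53547a58cd525f8d354981927e1b0429f84fc062ba6aa4a739aa8cdb14a473557c224d55d50b3558d2921d234a307e3118a82941671a598ba4695586aac2204aab0dd948ac382e22b2160cb05c55ea4170eb4305c5838ac19d606b067588bac5d946eb1315b3ac5d94aea9ae3abb28c6e2eca9d81571ecca35c7b269d71dd528b07,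
  nat_lit 0x9772d2949564c059731d29a5ca52e64f20cb9a5dc72e6a5134b9a5dc94a68902cbba5da52ee76c93636ab82d8d4f41b34db1a69e84f3b27a19a66d8d6c633634b02cd8c90d9363286e2d8c4e31b630b028d8a6c5a16043ba2581494949192522a3b37eb249c6aa89274941a49d24e17187eca24a648e69294952a4a6244492b9240a4ad256724a9249a4ac6acc92b9251c926536d2499ee1492a8d4324a92834929e9075ea7a4157a5e4c4f489241bd21e8ecf488910c922bd47248b27b492264055eab380d7aa668d5eab382d572942b670602a52869448c059c2ab015e484f25792919de944af25acaa3c9694294a2abd1528aab8b4a176c8d572aa0755c4e633b65db08ed94e62277947e89cc1cf1273139a439e9651a7365a289cd9692a7365a6549a9698c29a5a4d2d3945a4b4e5a492aaae724b49e7e52d27d30be99d7ad2c9ae733af5d704ebd7d31baf659272c9964b5739f5655ce9308d73a554a9c363b2caa98ec64ec63b0d349cf42c7663b9b1da4f24c77a718b1dc9d86c77a68331dc9d644ec0d2893b18f2c4ec6330939dcf454d2a691b1998ce2c667d33319aa90d4d278935521ad0754869f13c48cd42f12aa29bc4aa8855456b38d515e2e7545756a56224328ea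d90c94df64323661ac4248651f0b21990c1485a4302c2982f1c8611fe92189058a3fd1fe28ec82f223fd1eaa8ff82f0d791e2e305e47db4178cdcaf17337208cccda866e6f3b46d5b944de76f41b79cb6c6de86f3116d963ec66c78a299b14fc866c789999b0cd8187fae194c86cf4d3baa2aacee959c73ba9dd062c27726ace567062a2772533f7580ccfe67e18a7ab3a379a75c6de682e2b79aaced53a6d8b559e75a53ae5610cebaace73ae56734ebab8435677598d709d3cd5c375a1d70cc464e9e5050ba7ab846e9ea409d70ab52d5c25ecb5206902d4827c895206c0a4f917c89a9fd18e6f9135d33e45ac048c753f9a31c658c8c753fabe166eeaa7f53f129fe560566bb359cc56c0a766ba72959e28aa36789bb9d9e24d853779b98cdde8b273775d595165acc34597fc8bde4e162ff9ab713c32adc2dcbab79d5b9b8c956eb3a2d5bab52955db3fa56a692e356f6e31d5becfed56f6e3152317c64dc66e2b37197c6348c5f8a2f8c926abe35f11522d7c431da5e29af8a85a8be25f012f0d78654115e21af0c90e8bc3a34aaf0e8d453dc9f2152a295054e6a171d1aacf8946aa34a4a22ab69469ac99ce628ae75937123564dc8a54576058d15e7307457a2b3515d56253989340ce6295ad3989978ccb9444332faad9ca22ab632a06c40d56e65ed55ba6eb4cbe8d6b368a802d1ad788346b,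
  nat_lit 0xb0c0d08dbc27576abaa55daaead0e17e6355d5bc42de1aba9b786846cde1a8d955d6c4c551b8131d89ab8c9626395ac09a04ad026ae32d225d48b5c6a989598e93a3663b3935526b66d672b319d9ca65a7663b322d98e48049239200c0b6cc8d240a35a4902afa96649c515992bc6b57d6f5955f6bc65422af18ca1a05095e3782240a1e08af033302bc123822f0478099981e0251b544493c05e046f01ab533c05fb64f023798bc08cc06f0279b33c0845e466033089982bc0538a4448c6d5df8d5e0af0ad781e0695e0af0b3bf0e4a4efc32e8bbf236a6efcaea157863b635e178a9d786b4058b57b7962d20006f6e388940020023000aeb9c002388d000adc0d75ebae2ecb76aad75e0f2d5d77b72d7debecaf6e7eb9568292056127ec0d84ac2418acb3ca548acf2b61b9bc2d9e6bf096799ed159e5e2a266e6f40bc566f06f1589fb3c564aa53785400cde2c44501e80f1566640ed6128eb2d84ac2418b3aea1c07ac3a901e80fac07ac3a5300b0e8d01eba8961db0f2d8763b655d4ae9b57523acb8b3903927ba40e32f38eb247591d092078ed9c81d9028c81640ab17d49cac81640132057c0b1db45bb476d1d0a8b18d9aa3a0c6c4ec77639d74a5e66ec74f714bceba472f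3a4634bceba4351e9dc0d74aadad5d29910a85542a2f417a0b55b5bce556d6e50d5b680e756d99113d05b7e6f4175531a28d14cf4211f11a28d16268a2d0936fdb802dbf734ab788c02cde275f23789d7026313188baf4c62a63010f298c6b964ebea479572e926565b447125a86e2296a69c9a5aa47cc96a2aa134e4f322d39a98b34e5900d4e7a74332009e44c80a731b2029ced4e89ce953a2b2834e86c11d3a281c94e7a538d39e98658b2a071530d670b40e7b21d431a02d50c7b22bd8cd3aaf6466a8bd9048c469d34f09a75bd8669d7b1a1c2db928f635d18bd8e04a55f0b1294095bca75792db13795bcc2de5a299b79606ecde55d19514eaf27453b37b514eaf252b0b35955e6b90d5796daa55a2ad0953aae42d5a1d5e55c8ae48d722c4a75c8af815896a7a762589735896a7ab53b9d8ad4f6a7c353d762118d5d882ec332c23b10fb2aec48839298e20e27daacb1c41ddf6910787c2c41ebd0548587c357a2bce95e887c23bd4f9490f8b22943e1c164ad37058971cc746e0b55ca382dd98ae0b86195915c1470c3a942430dd92b0c385724e9215cb4a4a942c2b8f3050aea021382a1262e0aa941b829c12ce0aa522d4a1c1e55283e53301a1f2c7ca3e491f2857427ca5c20c3e61f2335ea529d292b4e34a761a0d2e69702c34a521b01980cd0f9a8ba43e694a8c066029301a94ab120,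
  nat_lit 0x6e0b51f24a64f777699494e40a725349d3494e40ab1faa39ac8154783205a39151cd7963473a2e9d1ce8baaeadaa2ad1763ee345d86c0bc59e2c73769a79bc5a5964f1633733c5a6ec734f759b4d3e6ecaa7e8a22cdd9b4253769ecb4239efcd3d99ec14f655f633d98639cf6611ccf7e7be93df8d542f7eadf9bdf9b28508eaae8c238f0a708e846b3a7ab86d08da6514236836308d3c2ac24211ea78515111e1611e4da18482c23ec6e908f858942ca162279ab1b9c2c56acb0b12b0315843a0c5606a691581a9825600f099580b1ccd9e6c9b1639b3a458e6ce09639b3a2d9ca1a156a2a1635a872eb3676438ad9d6d32367698c6c4c6991531a7dc34c6622353199a6d3eea00b334da6433ee9f7350064965401a310d00640474015951cfb88764b2a5958aca96266b2a58ca10c96308b199fb8ac667eed66bb3c34fde14433f785c2d912c40b0b89fa92c627ea33f4aaa1cfd67f493f5a6e2cfd563ab3fa9fd2be2eaa893fab188cfe9b5c4daf2cd136baaac6d7eb189555aaae7556874b555a49235576bf1d55dcf2d5576bf2b480af8ad7e2eb8b5faaa8b4456be2d55208435547139553e5b6354faa79d9c2c62754f9922d8c60d6d6319921cc8d55453247a78cc9142a732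4835a4e5de84906b3b38c1acc5ec76776e09d9ced06767317a0878c5c862f75c898bca02c5020d63140593e450164f0940540a65014fd913fc9fe4a03280193fc35884ff64d293fd9362eb964d3326e9f08c9ba7ba326a5be4c9aa7bacaf62ceb4f7ae0953de2ce944e95eac59d73291678b40c59e57852bd4dd0caf593a72bd4dd14af257ca9ba907326e872e89ba9af9588e6be336b9b01cd7d4c2935fb1e2cd7ece255c3b388cc86c78d671b3d259c6c789449854258f2b46563ca251d12a150544a69a8d12a258d44a8540b4d689290a8854ac2a28922ba76018d126134d4495c7991bd3084b8f9428ae3d7206b8f84d24b1137e909a3c7142688e0c3984dfb11c08de44700bc891c172664701cc326fd99049bf9618a6fc72e439809788e6137a63981cbaa3c1378a3974dda0e5d3786bee624126f247a29bc9059a6f136a32b5623a3c3ccd28c47334abc45e20a669787a19a4678466987b8bc41e20339a788abc418fc8f108e69228d8fc71cd473ac735890323d26b1b1216ea8c48473923a11ce23395f1a239dae025757e9335c16708d707e92529d8768fd27e893f48dd6698d7e889badfa666eb1b9b1badf9eafcea6193f3e81c2fcf7e7862c8dd2afcf37531b9df96c6ea7e811ba9e3026ea13199ba9f9c90f38719c3ccdd2cfce8718c38df9c70e38713438ea382fceabb0d472846359e,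
  nat_lit 0xa642b11e488b4c8a3a253222ec34c89221cf3924a52449128c912568724495a14ad536a52b49e71cad2a06d2b457594f3a79e33ce7a4b4f3a48acf4988793d251042f497a51bd26a6a524588c8c91644c72453509091cd4226a07b599a85ed886a1438a9a867c232269130c45924c72267b5ac899ed62f6b483abdac69049074840a41e44a69074fa349ae5f6c9f41d7127d13ea29f46541cbc238c4ca8a7f0b2a220a6ca8528b32a27e055579f80c9267e273f058b24fc24b0b3f058b12c5d62c24329f8a2c5a154ab164f90c4167f0550c9fc0d7fa5de73f88b124fe1654b3f89f8ad67a5deb3f18720cfc53d052ef9780cbbe2c472ef978127a220a92f098c2cbc1626b1059f7aac4e7de961791724fbec6a53ef8e61473639828a352a2c73258ed1cca63247325d452d89750a79ac5292ea9629cba9898b2ea485ac8ae176a90b915ac2ee17490bba42942ee9b2922bb060c8acddc4e263770bf55c3c66ee7d621bb8ddea6ee7d60d831c3c8fac7d6abeb1c3cae1d70ea9741c3a85e9724a3874f364e1d72494331c92310a2f4a392616eae492f5128f4402c5e92f4b17a8402a5ea1c8217a8dd845e9376189918f246ec37699bb1fa8c6ec7b791a8dedc26a3351862d1ed8ab3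473babdb2b404f697eb8bda5ed218b513229bbcdda8264376abda0dd0a6ed7d209bb4dd066e73740bf35f9826e813119ba1ed08f6935023da24b8925c92e2d7d2bf8b25c4a49497146c4e6851b0cd047906a3651aa28d9c9aaa369a49cd22bf85349b3b0cd2548873499a534d2548c4a471e792918cca4a447850a9126906a441e732912acc53487898cd22676d3487b993581ee628c77b9a57f24bc8f733522bdce4bc55fa92f0cf4ebf8925e92fac97abe8b5fc615952c1856344761a1b0ac99c8c2b6162b0ac98c4ba6263091ed85e64c65d6a131832aa4c6a5a930be8842c2f5d69b0be38ecc2f7bd1d7d1eda6f7a7bd0bde9ef2cf7aafa1bdb696acf6da1e0d7d2878cb77a1db50f2964343ca3c9d0f288454b5616313129684c2ca598b0b296a6c2c9e99d2d6bf453d3941b4f4dd346ec874d13a6cc444e9aa599ba6aaecce9aa5a0d2cdd9074b375f352cdd8e4ec831b0bb2292a52f4a4a8afcdd367495adda5255b90b495add957f6b763315a87b5946b7a96519399d946ca2186c74da56ee41ab5bb3110ba6eb7ace9bb3b359eec0ad676ade1d9dabf4d5fb7b92d7eebf618b6a4b956f2ade35bcafd9d6f2bf4d8b67b9357e9ef295fa7bca9a9ebfa8f79afeabdd6070b5fda86157fa070950c7baac0e1ec8903876a940e22c4b3f37ba2c5890725162a3e0b81e8f87205ac40d1f24a6747c,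
  nat_lit 0x87f1a83a1ea4fb387a89f1663670f5a5b243d5218b0f54829488920a2e7f4863241468e890548620d25216890c7db12432170279e3cf30aa0f3ac79e85c91e7a174679e94b2503a52cb14e4cbaca5a9ce9296aac8ca5a52a699757b14a5673e32957e31ca56984d29537293f19f8e2fc64cb9bf1abd6cfc68a72a65d32c4997292a33a4a4aaceb67529494d8085250dd11494d44ced47b131a89eda46a27b409a88d4666a276a33d8abdc4f627a98bd88d3a6f6276a23b54c788ed496e8bb51aee657aa84135dd9ac2d776bc1b5ddafacd77aa8135e272e2d782bd1b5e1b00cd78647915e9aec257a0edb15eaaa632dd6bdad54db5cd5538362554ea102cd6b3e95732a1a35ccae61d72dd7475cc762b5731d742ebaae59bae8ececebaa843572ea54d5088362d46676cb06c7630c1b276c75246c794ed959433b676b1cedaa3295f27b3a5466a305519677954615466cef481a33bca4cacef57912bcd5e424205601abc99dc8af29d42abca7084a929c20ab66750d3848f224e127508abe584a4ea293253a86a533f49ae0cd4a6a493528abe2d4a8ec9b52932c72941c41265a52669964b63265a932329394a1ca4e378d29394a0d92296232946b8b4a51ae245756b88b5c24eccd7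169ca35c64ec92774b7249dab1252764b7143cd2dc327293ba25b86e4a96eaf5ac9decb65277abc144ce1e652728999d6264e471336f20c4cd00ad1334b6ac9c92d0d272ac4ad946a1eb589abb9378dcfa2de36f1996d5bc86de3a003378eaf02de42da9b7916a6cde42daa87c4b6ca5b56f1116d62c238b78bf1cca1096517e5158c5fa254717ea78345fa252512a4000c4aa650712a790b44aa650aa1a6212cca266c33288130c09a65a31618b09d5dead271618b034586b8c5569ab4959c9bd0b5696dab55a6aeeb5e3abead5ddcfa7546ad89b9f5c04ce7daa33379e36ad546aa4156c6b1435b1aa31d6c6b06d5b1ac194f2ab06310ca69b560e35e9583a69a319a9a494d39a79534dbe04bde6f8096ed7fc6df0911a37c1d9cadf0ac094d3dd9cd581a2ea5605d9c8e075e123b39d9a4ece5e11519d7843468703a2f0890cabc2ac515521c0ea5c52e2ab821c0ece0889da3822276313bac5244ed01ab13b9382d62a4e09270b33ac9c24e2327097b1599e64e3667a339d99ecb4d2758c33596a9de565aa190d96a8ceb18b706ad19e8d0713a9879d1a2b72d468406b44e940c530f9880cc3e274730f6aeb4c3cfac82be3eb29fc1408a7d628421f593e447d66fd94f19bf62ffa901ab7ee56acdfb2e0237ee8504ed0a140ad7233c7428b25a50a291cb428af614e6ebd82f4aa47357b299095ec,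
  nat_lit 0xa809d405dc85501ab80d405974d501b04b5942b88d6099cb15826cd236097d39d826ca0d5c480b157128b835c4ae29d712ca093ff8c525942364365080834116c3ed01080794040e3030105e51c04198a45146628b310cb66cc566723315956acc572b93961cae25f6655b395e0de8e57655a1961d888cab284132ae65a563f8b08d8fec7e18b7b1f359fac2ad63eab2958fa47c363eb1f9d8facfcd6157f7158560c836158571d856cfc957db32259fa9bc367e3feaa105082a2f0420a0bdd07088418b60a1062d8716c8918c5b2c4cd16c8921c48cff29123ae2ac48e1e8532c87a0a9621e890f43e12c3d2604d4f67f934c0a60253024fb8cc099387302a7b33fc8e084ff27f98bfcab586ff2a7b253dd93494f67210d3da40c50739030d685398b20676cb48191cc92067f5b1bf524ecfeb68813fada582feb7f31bfadc94d4c1ad2b392947a4e4a2f50b92ac865674b218ccf217076439fba590e634b643a6d951a69b6359398d3536d8e294db98d25366456931a50714c6941cc3b8506b283a6364a0e]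
noncomputable def A : List (List (ℕ)) := [A_0, A_1]
noncomputable def K_0 : List (ℕ) := [nat_lit 0x1ef0fb06a63574b825a06ac27535c12f881032018f8c005fe68d71d0bb43205412ad0c746442fd19a0cd47da3ee1eb27613b41bc0dd10107f233f1a08d1441c210543aa2451c28f111088c4422320f4863843e21e2611af42be16110c886055c2ad5251e5d4922a20fe089444e21b10ea91148618d1830c203101812b89da42d816b1c80e602f817e0c2860c69234a0a38d1868816814e8a902ca16614819dc2a015109d04e429614309f17a0bce2aa0c986502801421650aa45b82de0999764bb05a02cb0b1c592131100883069c3500ff8834ba62a51538a985e82fb1728b9c2562af15804a04001fe0a9056427613c0cd06882881460b705b493c49b2ca9650b265920b805c8aac5550df063c3c21e30da06443da1ef08b05e02e61960ca85782c03541aa85702c42fe17e06e03723361a186ec37a115146888022215d0ad885c42c1fd10a85e430016a0b484742341630b2053c27013209804a8258137097849824e11c08d84b825a1290928490246122090844c22812008f843c22011e08c846022e112087043421810b085042421010708304142081030810404200000,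
  nat_lit 0x50133942ce40c2070a8052429164199fccf0c062e30a50c4467a2259128c1660a0a605342aa2b815e910087c2b615fc02d6d26003008d80bd25eb2f5133c9ac2e32e81f303541ac0a084fcb9462d0cc06a43482cb166332888645116d8b748ae4551700b8826a2b715aae35cec5faa38181e08c6088af1f48f9a59f2d08b18f647b72cf1670b62d962f19788268136101882e0350191a68d3c8284661a88d4882e4181078f0878943567acb38ba869053b0a5855046c236b3259de69172c0bcdc36e1a3158d8c5cc2e4709b8485ee2f90a40529a3ad1c15a168cb602b11590ab05562c01608ae857620210885502a615a20e10789e42412d918502ac15820d10743421992c416183501a32a9a04828a13d321190433c1a01030810e1e7123889c40e1870b9a6bec9f68fb324e92689384796d33ee9f765993871c354fcfa37d6beb0590b326c7b6402e216f13689b83188d4469966d0e48712cb966837e1c018f15fcafa1e00f11d70ea81e50f386d89904ca0d69c6d3081ec0f7253131c1f10f99574ab81750bb85e82f617411208a4fae7d60da86dc3601b20cb860830e192,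
  nat_lit 0x33792fc980409205101c962e2d717226513068c44aba6dd34e9974c2af4460e5134a1210d16e5a72db966d762eb1770bbc5ac6762a81548a7a53f1943c95eb8f5d1908c8caa855b291952495e4ad25812b07b63dd1988ccc66e40020122a0b703ef1f80f612e49717c33e213aa9d984b32a53b89de1a10cf5128893261cc81e48405203100c7f03fb1fd0d0067cfcf7e70ff47f8fd87683fb07ae3d91ad08ec4ce21210a2a2150cf977dc2a2a02457b3439a1591022a0bb09644b422853e9b1cd8c28a14588d06023021171d44ea6757341a9a54d076526313061a64c73629af92f2ac82621b08d802933cc9e70edc76d3b38c61a30d173d39ea4a73230917b0e4f30766621a136444f5a25c12e8e9c74d11308e04663831c709e051221c10d0da06d223913b89a04d2ab055caab548aa463cb29403d41f475a2a6460a3071850c306123160c51cfce581868cd15c0ae657252a296ced476b0bf8c486263971c78e487231888c38e6473417d3ab1d547263943b01d7cf067820c4862c6647780c240060003cb31299c069634c0a48f407a23481a38f6867035821c0a71984993,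
  nat_lit 0x102b69db50eba6499d60eb2f609711d49f4efa6416b972ed534ebb5cd31f62ffa7fc281e5cf2e99a8551492ef80a50d3018ca41228c9468e287138fa4bae9773b523c50329ab677b3f59d5f7adda7de4d05f6efb69b7c9446f30ed8682a11594ad67d2be8a2636f57d73f31e8530c89ebeadf54d936c92ccd668b2f5989ed1b4aeee7e69eedb22dab6d49c80e3e71638a89c84e226f4e8a7d4e4c7280fc595acaef53a03a3391a58e0c6f9674ad08c89503ed704ed16699b4d1290551451070de54f292c0960103ccb85381e6838289644b960d29c57e75da2c992283d3ae8dc43cc1e44aea5711688c13ad87d43eed2e69d13249984ce26593843661ae424a080e3a5f481c9c6530a9ca0f593749bc7294c49a2530ce154a5b85a6a69944c79931a901f20f826653309a34d1259176455e37e1bd8e487210e38720ac05623a61d2caee57c38c1c5cad456f11588b57627fd3701f610d25bb2cc200500e86d0d886bcc3e8580e687083b01da0e5072492627619d0cf0a8a7c20f40fad92a9603a11d104fe3e21f20ffd78820942d25aa2428374b9c1052d227313a1ae8f282d2,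
  nat_lit 0xc78980cbfc91548ba324bc8ad0b1797f0bf65e50ef941ca222f017952fe0b186880de045ce43c980f18d527641520994bc8e44a22520fa87ca46f28b144882c4651ad99187823c3314c98c78c3c8a1a5e6686ce1970c4b4085b79b966e4b8b5e5d6349b3dd9ec84054029d453045a67c91c48ce4702374b265952c6963b321996430a72cb149e8e30a721a3cd24f2b2c8284de39248bab35f4e74f1470e18f0c7c62a1e38d906ca3621b08be85eae176860baa8d35a273ca60e79f4c173d37e45f02f673639adcf0e775a88f28b825c80a7348da3ed1e694d4c500ad213ceac2689a5a2550afb96e38e2a8c8f0077a5a62d42c08baa5d715990f48a82c53c41ec05842c31748ba05783bc1aeb565ab036b1b5084c52e61030790e88ba6af3570a6453646454a33188544398e613c09e64ed11faa81546b0d2da16ccd4ab8a30a98582ae6791d896d4b7e5c954ed040832421211107c85c1a50d3dadb0465893101868b0a587418a0c0414c1d4299538a804376cd8a1d8c219c0cd91788bf524affa031020d28692203501e19f0ce9628ffc80b40520249509fe4fe881c410591,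
  nat_lit 0x31418d03ba6bb1eaa5d25483d21e9b0a84f8ffb6164a70fd63dc19c8f807be708540e4f7278cc4660baf13d0a006a0bb29d84ec57618a8c53c6ef206902c96e4b2812408c9764bd1508a7d9a4cd13411a11930c971e68f3e162a6d6423216516c0933e9a04799439a1dafe57f65c49544aa852a6bf36261672ecc8742199ed520a8f21e1131028815224913703d81f3061adcd0062133519a4b8e5c23371a58d2a602871c388884d426c190fd99a5f32fac036bf6384803641d6d0b672ff9f962ad2ba8510d786bf021810189b0fe4fd83797b0fdb57b6a8e63ccb44d1268135dc62ce43d7134c9aa50127b48b0b9f455a29af32d285d24220b3c88ce602e6172e5e590831718bc9b04d90d587403ae1a66d0350c59ca8366191148884522209b94e702cd6f5b7a888e4503dd5509ba10e1aa091619f10dc1708b7d9e8cf268028448ac5f72fb17bda882b915f2e31717499640d1be0125f9a38d1c99fd5a82fed05732b1588ae4115d9e6092fc3539a9b3e19f1457dbad1f18f8194ab147cf3e98b690748464229f39b12d883db1ec4f667bc3759ee58f947d6c5513f1e544e,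
  nat_lit 0x78693ba8c5116a22da29a36cd590e9e79e06f0888ab3a0b5a877ba7650727593bc6b6356463939b45b0dac1aef76222ee9884281427213d09484c29b3ba64476c87acde4c972fdb7ee12f19b27af8624e9cea117a92f891048670a4e41b40d9e2551300e0470515560c305c71638d1da29990d03b81dd0dfc6f109d68c8e1c71223a1410a104f23b51db9b504d426b558aabd564ab860ce6532a714d11f306b1351173d430a2f86a4747e5f0949ea51369091848ac7275ac19e0cc90b877e2a43ec3037538fc47e41d31858944ee677418abb49da23241938ca46334b4a654c2605c72d3971cace727893c3e17633919b8ccacf31ba5743981cca33caae529a949e198c2240a438ed85754eed7914aea5923d0948e9e76418a0c3462eef623f3bd5de86f437a9bc8ddc39c1d08e14ef477f67732d472d1898c558dac6b7269d6c6357d31928c895e6c1c480a1850bf14ca98c79a41072b16f8b70e6caf057692dc96a3811be92e4974f4a7a43c31e1231c91abaa9e54f447a13d01e7d3cc2c43c01de4efa77b32c9962511289801335e50d0426fdbb4cc482d732ab7b9bf030f,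
  nat_lit 0x2a52e0a126b66208127e1390a46af91d0954d971f09d00e5e734200a5bd2d936c549c1a653e956a20a504b6c5b91fb8fd92b295b450a794e44b909a4be1df0af897c56576c247924ea275def4baf84a4254c0d2c0652e2223469dbb5fdafaa42e2a16a3f79fba68834516f513a8ae45648ca4669755ff4c8663f0907933c886548d85be2de9ebcfe67f4cbd673b3669bacdcd8913704f0a7a53ce9d24f2666915efd5b3841b5fa0fd27e8a621f1937f1ff27813a6b6d2d2cc7263afee8223fbdd9d3747f6c443216bb46af1b85ac105682a89095e8af35e1a8d5468270560597ecf0abe5c3be65f30f96b3b469557f016808c05202718bc7a29c950ad7f65e9a1a1816605e98e7991422c2afabf162025812f14c970825b12e08dc48e248646ad795c4ae45361b30e0c231637ac48d966ca380ab495a223511b3959d3a6f137f0c1045eab45599d247527c83ad4ea22b6a6b38148aade6ea17505bd0e135154468b4ea2edb7868a19cd912069039b0e56b5874bc3ff8518ac658b2c5498a51d8672c8d64a6c965432a8d82c9d64e1ea8f56ced3b81dc8edef00780bbe618c850,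
  nat_lit 0xc302fb63cc3ab8e8473cdf66f85fc27ed766ecc392a33caca56156c4734ac6564acfd7c1a158afc6cdc59fe163938d4c290c6569953bb9d1b68e0552aa90ad856e1bdaf05760263439cff5dc66de36f9fec6607da3eca1c06fadd8c2816e8fa27d040120010349bc4a4a66928a947435a1bc3881c62c1186cc3a92e4d4a1790c01cf43c21e43982d80eca49d24c1dc0ef179839c862463072c924494b36b03d81c33b594aca0f2054624b15121733ec3e325aca3885f94eb25addeaf1648480a40a95e3a19d05fce78a7ea3f4c49427d1f38fa47c6af91f32ba55d4c546290a18fd47f94d7a5bafad807c0420e106d11f41510ca086e114b691d88ee6bc5e2af194982d16b12219118b64208949ca5240f7b4b8296d8b79259b8b0d32e2f76cb29913c8a04a9226ac93648a30cc3923cea830bbd133573f89f84c367deea97259bddca4e507513a8cbda36773439a48fa482530534d064eb775cc8b6d756bcc0dd37c5d84f546119105e2e3871c98cd4542d54c3953c95253b29f0c99ea4a3a793d4fa2d0e0d8b30cbde72f1e74e0cb065c547ab8c5ade5852186394a15fa548,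
  nat_lit 0x59b5a6aaa4eedbda3bbefe567fbf8d9d2aa194fbdadfc2f6f7ba371c75166a9b27bdbe0a21d882af757be8094dda07537a07f40abdc5a8575c7235f92fbd7d8beb7bebdf12ec727502a8193ee9f90fd35ef0df870b2c3c7d48162d7aa501a80b655a04bbf1e348d5c70c762a398de8ebe3ae8f747e8f4b9bd1988c7465a1b254334f335c5ef051826453b4526dce01701b4c9db4d3569b3771c7ea28514a85916e8b60e2bcba4815daccb6608f0a7f440e3ba9dd8cba3335c76862d0fa16161136694f68744ba25f0b3a67a9bd4e23a7647b248c2483e41e1d85ec6f621b98db46e4370458984d2c27c577c65f6eae8b5459e28e46b7589804c04ebc7624c614b83f21fb58334bd462d9e983aea2a28890266dbe89c04d4bc293c5c664e42c691804c89a843a207d0ec7f54e83fe68c0c7e2ef5a4207103a9d2d70539a9cf4da25ed2f44df2719388e916c498c4c5ce5471e25b262a633029c3ed11b0fc9cb45dc48300d52f9aa4d4a6aa9969b5288e0a4fcb325192e2fed476a3267d29a99e4cedb1ad8ac5762cdcc6e6599b69da695348d9aca8316333877eab5a58d32a8ad,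
  nat_lit 0x47d0746e3d496bc42855b9c51050e2851424c1c7a0e6190a51c426d90be5ab2d3b53cb30bb42852a1b1818c4c676331138c1a6192319f848c334aa92d48ebfd44834da0b90692b474aac2e30903281a43a11e3101a51c61a2008063f21fe9e607e3bfed425022f4e7a6a039e9685740bdb5ab1e4a662dd2229544202188dd702c9a688655d699b4b7a5c3ada9c2f40a81ad3a5c3210971bd925c981aa8220bd058e5d72f3fd6a752b05705da4f6a7c1b3dcd2eed87e72f8c879ff8ff75044b9a5d12e5a9cc6c67593ab9a8916ea8d544c27cc961990c924ab671eff10d747419159ac696321234a2e51e28d9496945768ae343ca3651f28f9cbba5db2eca5d52f2b8f52a9da4ed88f8486865d35e9a94d68f7d9e4fe6efdb402f53002ef0b2f1fd9f7c94a99c3931bb650040ed77a6819343fc4d2268f342b51344e86eac1928495e4a43741bd64da1dd27d879c33d588ac9565ab32d3b69c7d44a0e6faf9e62fda7e6f33768985be6ded60c7d7c4fabf0f457a1cc2e27713c8f4383ae076fdb7e57daa3af9d7ce667b04ad996265a65b494828852cb565cb30b0abe68b1e737,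
  nat_lit 0x9465b35af8604789d75566ee1d31e98ee0b305a32198fca1e3c5320191cc903801b7b3eda02d0367eb3fce7ce1ec236115a16d0d715d1a2a029eaa35d68e1429814c13a3e79b4c59dc4f42a5752c73d9282984e7e739b9c4e0ae675a4c2a1c934c7c22659e49383ba36c1720bae7c73a18c9c1856bb142d40ca7234a3a19cf0454737012fea87ec07c0c99a28eb47669660851fb52da973489a4065c516349960b450a262a897e6bdd5f8adb9e8d13f99ac3a889f51ac72493cb5761a2d516a4bbeb00581a3b64b12562ed9774b48bf66981171ba4453bd93385ba6cd466d9eb0c8a35c6ae8d9877f01c801a8edc8f47a2d3c1d210107e842429c77c36c1b708f48d042541ca104c22ce730c3338d6a6b0ad35694ca332765a1ac8d68ee1771311d892a92663b316ea242c215ad0c49643b9fccde89deee027438ca7ea2405842c1d53f124835aa9954eaa95862c3961e5b7a239a8d7c6b89470e408d506ac3501a7e4086b61d78ec0b80b4f34c1a5defca9e54dc383203644a08e53083623ca05ac8084c29a93b10908474384112085e997dd90c5fec3ac82942154c0c39122,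
  nat_lit 0x5c2a4229351de969401e0151bc7326072acb092a01d6a6d1b15acc3d04e37520db3ed9f25bb2d88aa30eab795bdb47bb36010b8632da3791e6d4c6a7b5267bf417a0b4f927c7613b0a45f62c11616eac7dac3d1ea9964accca1620b604edf362c8237648924572282e697391ae8c5424159aa228475e43f09f889b17a3b661f0753551bd816c174edcd7b892a2d94e63eb1e96be8d1a3fd502a0a5d13be256a168edbc7863bcc0b33f981b28522891648ca46d23e922823ab3959f62cb15c6ee7c163179fa50122293f282941b1638a19533928a1a930a5f5282e7acdac34e1aa46c3bb80ee043027493a49531a78e27e31b98e626d26880fe19cc6d26649d24f08d246b296a6ed738c108529284946e92a932da96d693e56d91cc8ea51828a1f70a1276829614c486d8da67e120cc9b25e313c2da16b2859325656b26dc47725af6d576e2ad8ca8d0fb79abce5bba59f43ac96cf12d83928c97b37da80ec6b9b5cde86683bc054b0dd80c9f64f1165a1346e45e24acdb53fe26e3bce5916ca42594f2912d95219cb0ab189aa2813b21d8f4e2a71e21b0ed4e750c3c6d49d247,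
  nat_lit 0x89ac3061843cecae50f0acf2ae4fe30157f8bfd2e2c3de1f196a955dbc2de4ca7accd66ab3785ac2de163131977cbc629f1a0c86be81a71ad6253573a436410f4fa853ca17b2d6e9ecd43df1c8166d0b288c1cf02a1ecab287d16d8b8611e54b3d3547479537eb11c54188cb86cea87b3b527f4e3786fc9ee5012b995ec5c6a9754c943b0051de4299a19bf4be46e684f57f201900e807ade2bf4386802c3d320d07c5bfad718967e099f4af25770a087ae05cca8dfa812c4e31038809f2c3289fc4fc27f93ee0f506eafc9fbcfd07ee3f663eaaf54d86a93542051990cc8dd8ccbca1b27513b32ff8d8aacba059c6cd066e43367e53f466613dc9f1512a2dd44edb5456a295151edebcd62b2f1ed275e7af35b6edb82d9a76398c4ccbbf6de36ed6fb109318660e5e71038a193683b68f647aa21d1101d58d13752340daf6d70b43144d063711b9d6148e74759f00dc87365ebd64ae5972b22454821a551e5c89ef8f7f54387230e1ba357cb9045ca2e63f486ec6921b70d936c1b64da66d52695caa43f336679c881a0924babf340a2c553cc106075730ba12f73516848b65,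
  nat_lit 0xea29694ab8c0af4d78ebd15e552c295aa3149b8fa91ec7d0b6012828fa7cc39f1d28e8875958e88d55608c51c28e18fd5d5439d1d05846e29710b1a3fcb0e3637b92dc923539929d74ebeb1158b8c9e5a24a7753baa5fe6eed923c57583ec21891a7c91fdeccf68a1762970d8a9a127e6324cec7963c45e26794f499cae82ff51958cc465232d70fb8015eafef7f69304986383566ab3c5a87475688bce152adb56ec90649660d30553a463ce62eeb984585aef0bf05269e98f469075cdaf792249184bea60253c781bd4c912f5aaabbd5deb32dd744ba2dd1a52b1528a8ae49bf8777a3c3c2511c88f18d921d1fe90149cb70e6af4ce1888c4061c65f33024e126ec9b28acb2e93c3d4432b17586afcacd809ed8651b4978447223a9324a9cb6e5df105573668b27d369aafbaf6ab88f77eca8053ff04e829de4a8beec184bdf11fe31977623afa3ef11e29c14dd8ab29729a94eae8774291ec0aa0574e6ba05cfd9b0cd6667d7463f11fa8fcdd2b27f747ba44ab4e0f527a213265934ffd6019990ccb0ac8584b5a523302c46e22adaf966c8c3029810c0b5ee4a2a51d1a1,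
  nat_lit 0x5782bbe130e29651d9ae846e343d69dc606372e8b6669ab4eefa78343167d5597cd1c85a88974b9c6c6022fce84741b34e3031824623c121ff11381e33a517b490ba65d3efc12d99c9635e92b6279c8e34ad135aa9c7b0dd8674b2b4f665e56f5c0bb256fe65d7e4ad0a144a686ed7745999faf6c7afbc359eb0a3fbf14b6afc72f7b32bf5ac8f940b9e3f6ae7723a505cd6e1875299d32ab15512feaaad65849299b366897c4a82611d6cb7a5bebbb1c560cb0a36af43aa6b175ab1858db18e1471128ff0e22264ad514189e876c26536de43aca626c5e964b30951ae55ba67156cab5c9957816331509c162eb2576b3ca88e3229d938b6fc61583789bc4ce64c767114907b09d852c3e8ee5e5e48c8fb72ab95ecd8f3b79f3cf4da224c411a0d58e8c734f141a32ab87a3a2c1952190f0856dc3b1547db93b8fcc3a4b6169c23e4eea77618e3bfddfcf6d7b83c861903256370ddc750e05195bb5de254b38c853270eb4fa81340b258273559c3e6ce672b63a39e2e9614b1c2f644b1713286eee1911ad8dcbcfdc5db6119f8ced88a744b3959ebc2a8f38c5a86e30f18831a,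
  nat_lit 0x938b89a13273d8e3caff10f88e5d5548b33b9a8c6a531295f626412b0129b44896f8a80d7ff38eb464e8e71939bc69d6ae11d08f9cace2de40f2346ca20e21162998f2deed1ce8c7f2b7de6772f4a7b4e7a73f36d9b3e0d110b311a79cde2743127c4627b53de9fa50227d93d9157ca1c3630178ff4582486ce366f8364dc72136ce913e22daab6d2a5752b672d8e67c5d9027493889c4ce1e70d3859c24d7663531b998638d6e1073746ab4dd20ff39275e3e222c46c8564372193726b0af415eb29b4941245be45ae63fda08a60e3c7cfd975db9780a8dbe523511a6b30bfdad0b449a16b906031010b8cb90a02b98ac7adc06e2b0ae6bd32d9f210bf336596ecb8c8b131617d5fd7fc57d2a704acb9a5ccad6d6b452abf409744aeb8e54ab6f5918db96e02e056bb6d9571ab858a06ce727bdc56276b07443a255dcc9456f2b76e1391a74f3952e156a6b5ab93a5f474a9d4d730e06704626c8a6b6f314732e335d3f6f7590de31152db89b262da7b73da652413eb23589ac325de07710456cab1d58b9b2682b1c162f03e58a44ad0f553b5922c8ade36ed593ac9ad698bc,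
  nat_lit 0x46e44e62696845a995b63c8b585a95f9a589577336d5e67f95af2850dd97849421be375dbb25bc5e52f3a85760095120629e54eeb49250d28c944c582170c3c92daba526135687b432238d7b44e648e21871b794524859b9eab61bb22aca96567913c7c2de7d7786bc3a17525f2019e12c05e932039b047ff0b895f49a5934e8d6cf617ad3584aaf79092bed84caeb5769fa6ffc9aebe8c722f9d5b2b34418aabd177bd03172f9f7d4a0cdb81792f6e7b9a1f1108e87445a0a1d0a52b7f0bf7e5f08f8703dd689684b534d3822c9d62ea6865d11710ec2465932f2d795b235e528bcb57987d8e12406ad3533db24299aaa68cfc5246e09c76baae8bae53b1d64672e33ed481ad5490a48852fd43283aeb8b5cdaddafd4e09ffb8d9c6aa21285a866b5ce3b72447b1466a1757fbd4664732451b1f1e2c9533a9fc59e2d30bacb2ded9e7432d855c2f0755390cbdbcb4a44520b2d576ca4cb6f5cee5ceae454b2a62e0d6b309bcd4d30dfd0d7025294cc956d9f7f23ea62ed3936ae41a92aa91da2024f52af35c7f510a235f36268896fa68b79ec48388f28eb2cbdcd87deeebac,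
  nat_lit 0xb39d53ccc572dbd8decddbd7ef9d85eeef7f1d3c56c781f09948ca4e20d8055f3af8e512805401b286212fcf040b19d5597c34dc5facaca91ef81af657b5412a0a4fc52a449ad78c3761b6d47322520d93e8004e9b155cd2e70c6876b498a9d562392a476666f6ff8eb474b1d910fb035ce63d6e6e7ab2336f3b95774bd8c2b97486a43c5f2d37829b4bdb92dc73687003c41e1ef0b245b4ddf86a2b5176062c038374602c761bd5d9aa4e667331980cc0b2ed973798b8e3dd28649adb70b44270382a896cdf0c92f9196a4d661d6c8e56fcb8215ef658deb5e5b00a3dcbe65faeb36b890ce5e9fc79638265d7683ea2fbd82ea51dc8914495bec9cf3ee8e5b1b58d84e5c18e4c50379376405a46741688ae7570e90b686c8b5b2ebea82498b4bfd316f36a5661ef0f987949617732a99588c1d4cac078c99ab4daeab5790828c916786e3e7205545a949a04bf25fd6ac5acb545cc2715733ca1198ead526f7bb654b00b3c1b6655a52f89cc68a9b5aeb949fa145f070c586199d2fdd1a16a5958d09a3ceada1d3474639c87e6bbd682b3b59ec59669322b02d772a37d1b48dd,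
  nat_lit 0x7f01a846fc3ae1d963f5a0f94bc80590f1fcc40a091aaf29594dca3640c84e6b193ae0ce8af459a2c3d42fb8a1a7b5a41904f175b8fce524f1123b91525321f3cc6e7a8f15cb5b6c934b46298f78b02655acd37896354f2d8456a9b61d9a9114b8fa251a7620f44374a3a59609033a7adc4ae050e688166269493d89ebaf9e9f07e2c01e15ea11510a0a43ee7a9984a83a065d27784ac8129d81abe5a55dd0606043486d20cf02b83fb86d3322970feb55556e96b1ca8e35b0aa0520eb64b97d756ff4a9c4abefbf985bb6cb719ba5f0872ba2a7675348d65232fd98b7c266442ef777ec0a54a20c727024c923a951767ae2c41a361608a5b4ef683448a9dfd2e697b624c7558967653bc830ceea9b367ac15da06fff800c013bc4fe4fc1c88ccac9f57a82843e5726b9339219fc4fe05e1c1c4d12371329aa449f2b035ddaefab52b715b9940ca0a6fcfa0ae244eb06d63ec1edebadf16a0a9b4502669972bb0382dc0d8f6b8255cde916fe908c84de956649e3667de636417792f56f957c9a40520e2177becaf5dfde2a7ddadd554cb1cce23ef5fd6a0d698893669e3ab7f3,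
  nat_lit 0x712dc318ef1ddbe350a98f76ddc776696dd12f1bafcf7a4fe925824412589563d8dcd7289d78a0c4fe0b0a1c50cb1e48de471050a77e03f024f72cd03dd6e92c4eb8dd55e4db269cb5e19a4d8c6b5f05601d230beb2cd271b3b959b0ee4161717278f757cab293aa6e2dab1a795b07225a5a1e376fa2d4f1724f7e9c9260eb073735b52602701d1635ec4afab1a504764db9f10b772bef61d30e74e8b72c90af4f241a0dd75aba95d7a12b54f2456eb6abb56dab5221b56b919c8782f4aa53c2e17466a33df4aa0146c82fc51b0a509f745c9aa7739179e8cf4aee95c8ae4ba01cff5acc8a435ece5781c182d2236d4c8c1e610f08595fcb0492a10577aab2417a0b7060a10ceef22664e8f1d6b70977a1c2051defb30e7c4b9974c70a2da25d94a662f927c9e39f1cb617b0c9782aed23b2a6d8861d31657085c863f792992a98e9d96d716ba5e2af17004840c21610708687ecf3a1530aa77d91a874995b670368eb4864f359cfee626435a4bdd428d524da328a027cedf427ccfda8c929994a49fa5351488a56274a07076892c9e628eaaa5d1ae797d0be25f21a9f209174,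
  nat_lit 0xb2a3b7f237930bf76472bc3728b835c1eee392ab595b7add57c78edd98e4dd95a7b561e24f588fa7dbcc9e6ae04c634f5717f8c1af13c3891f1aa8d3c9ae763582c5daf9a4998b494b62b29ef4a6b04e1ae47f98dc525c8e94b894bfc6332ac79b4c2ae14eadf56cbc75e3643591ec90dde6ebd7779005df57bf2b8bd7c5272db7d56fea2a9b82df06f79986fa749d8dac5063db560aaec152e34febbc8cc42f8afe294c518e11382e91f57aabd77e5c20d742b9f782b43e0363670bd9f4e5932f2e0fbadcbda525293cb65ba72d34ffb84566318f3ddb31567312d6d4cb7e34719f4cb1274e5df1f11bc24612715758576ac3e72e1895c2b551edab215aa6b0026b132a9994136fb1872c1f536cfbf1adc7de3f11cd8f9cc7409eecb5f4c7c5d88ccf1fc66f582a7e78659ad5e9b0c77aab6c5146fdb45c6dd586312514587d552a28514486ab1d9112a324135a0ef4b56147423957ad4f186a5bb21f98897c6d58aafb383a8754f6111695845c22a3bf7a2848de8f31114fbb7454ee315bbb1956fa07b2d7aa73551aad89cafed08283198bbdeccce65b7e1b33c89b36d607,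
  nat_lit 0x4c6a59d2cc9654b125612a295049b24d526292a494a491226910487a42921290548124011fc8f447923c11d88ea474a3911c48ca461a2fd17c8ba45ca2ad14c8a5452228d13e89c44da20910288043fa1b90d486642da1650ac85542a20fd05681340420110067ff3fe1fdcfcc7d53ea1f2cf947c93e21f0cf7a7b83cd9e4cf1c78d3c61d8ce7873b38e1c00dfe6fa37c9bccde06ea3749ba0dba6dc36b9ae4d546a93521a88d3c68e33f19f0cea67433919c4cae65631898b0b1858b2ac9560aae542292147ca264ae24c0ee46b2288bebe6b2da782da0e5f6f17384d9e5647e36f7cc942632f1d3877be45fd2b094a7c275762bb921ccb15211e678c8c6553f6ec363bbde24ceda17cdbd26586c9750b79a50a6c391da85dc78a3c39b3b82cfa24e51c974142367338356bb44a1ae4a30cd0d3f2dccd75b68e6b9a7d8e8b1fce6a739273a7f57496a8eddb0139171ef77c61fc231882df36fab70a9d380cb58e33b127642ae6dfad79f6ae627c21f16b7709b1e092fd509ab97d5c335b783675cd953dd773be04cbdeaf4ebb2548e736b57f9ee37daf96b1c82547f626f651,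
  nat_lit 0x6f1b789bc2de06efb779b9adcc6e5b729b92dc86e3b719b7edbe6db36d5b68db36d936c5b5adac6d53689b28d8e6c6b631b16d876c33615b08d826c0b5cdaded6d6b635a9ad2d686b3b599acad646b1b52da7ed3d69cb4c5a5ad2b695349da4ad1a68934219f4cf167833b19cccc065fb2f9978cb7659b2c9962cb0657b2b995acac655b281912c75638b1798b4c53628b11587ac3c61db0d1862c3061730b5856c24611b085840c1f60f305982ac14609b049822c0c5fa2fa97b6bd15e5af0177cbbd5de2ee5770bb75db2ed574eba65d2ae91744b9f5cbae5972ab945c9ae21700b7e5bbadd96eab745b9adc96c6b625a62d2d694b475a32d15688b425a0ad0167eb3e59dace963eb1e58d2be15ecaf25762ba15b8ad7561ab09578abb55d2a5d52ca91546aa31516a8253fa9f14f6a7a53ca9e14eea7353729a94cea65532298d4c4a6152f29754b8a4b5242909472a38513a89944aa24511288143ea1e50ea84141ea0e506a8313e89f34f927c53e09eb4f1a77d3ac9ce4e4a71d38c9c54e2270d3849c14e026f937a9ba4dca6e136e9b64daa6c134e9a14cba649322990,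
  nat_lit 0xcbae47717d8bdc59e27b0097dabbadd9aea574db9f5ceae53713b88d74eb855b5ada56ceb07578aaa54dea3f4d2a48d23a91b48ba4552068f9427a11507a81f40da044fde7ad3c99e44f0277d3989c04dee6ef3619afcd7a68d33d9934c5662530497ecbf25f72f99754aa652128f946c9d24cb25991e48ba44b21b90bc83241720a904c71637f1ab8c645762b313389644aa25311988c42ca14d07f83ec1ee0f307883bc1d60e5071838415e09703781b40d605f02280bbffdf92fc87e3bf19f8afc07dfbee5f60fa47d0bde5ecef617afbd6de78f3879bbcbde3af1978c3c5de2cf11783bc15dcced875fbacdd64eb17583abdd5cead7563a99d4aea474339f5ceae70736b9a9ccce62730b935c7ae28713b889c42e2070fb851bfedfe6f6b7b1bd2de86f3b799bcade4]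
noncomputable def K : List (List (ℕ)) := [K_0]
noncomputable def R_0 : List (Rule) := [Rule.mk (nat_lit 3) (nat_lit 41) (Steps.bwd (nat_lit 3) (Steps.bwd (nat_lit 3) Steps.nil)) (nat_lit 8) (nat_lit 0),
  Rule.mk (nat_lit 5) (nat_lit 41) (Steps.bwd (nat_lit 5) (Steps.bwd (nat_lit 5) Steps.nil)) (nat_lit 10) (nat_lit 0),
  Rule.mk (nat_lit 1) (nat_lit 41) (Steps.bwd (nat_lit 1) (Steps.bwd (nat_lit 1) Steps.nil)) (nat_lit 6) (nat_lit 0),
  Rule.mk (nat_lit 4) (nat_lit 86) (Steps.bwd (nat_lit 5) (Steps.fwd (nat_lit 24576) (Steps.bwd (nat_lit 1) (Steps.bwd (nat_lit 3) (Steps.fwd (nat_lit 40960) Steps.nil))))) (nat_lit 26) (nat_lit 0),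
  Rule.mk (nat_lit 3) (nat_lit 86) (Steps.bwd (nat_lit 6) (Steps.bwd (nat_lit 3) (Steps.bwd (nat_lit 5) (Steps.fwd (nat_lit 24576) (Steps.fwd (nat_lit 8192) Steps.nil))))) (nat_lit 27) (nat_lit 5),
  Rule.mk (nat_lit 6) (nat_lit 41) (Steps.bwd (nat_lit 6) (Steps.bwd (nat_lit 6) Steps.nil)) (nat_lit 11) (nat_lit 0),
  Rule.mk (nat_lit 5) (nat_lit 116) (Steps.bwd (nat_lit 1) (Steps.bwd (nat_lit 6) (Steps.bwd (nat_lit 3) (Steps.bwd (nat_lit 5) (Steps.bwd (nat_lit 1) (Steps.fwd (nat_lit 40960) (Steps.bwd (nat_lit 3) Steps.nil))))))) (nat_lit 36) (nat_lit 0),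
  Rule.mk (nat_lit 4) (nat_lit 86) (Steps.bwd (nat_lit 1) (Steps.bwd (nat_lit 3) (Steps.bwd (nat_lit 6) (Steps.fwd (nat_lit 24576) (Steps.bwd (nat_lit 5) Steps.nil))))) (nat_lit 26) (nat_lit 2),
  Rule.mk (nat_lit 4) (nat_lit 41) (Steps.bwd (nat_lit 4) (Steps.bwd (nat_lit 4) Steps.nil)) (nat_lit 9) (nat_lit 0),
  Rule.mk (nat_lit 4) (nat_lit 86) (Steps.bwd (nat_lit 2) (Steps.bwd (nat_lit 3) (Steps.fwd (nat_lit 40960) (Steps.bwd (nat_lit 3) (Steps.bwd (nat_lit 5) Steps.nil))))) (nat_lit 27) (nat_lit 3),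
  Rule.mk (nat_lit 1) (nat_lit 86) (Steps.bwd (nat_lit 3) (Steps.fwd (nat_lit 40960) (Steps.fwd (nat_lit 24576) (Steps.bwd (nat_lit 5) (Steps.bwd (nat_lit 4) Steps.nil))))) (nat_lit 26) (nat_lit 3),
  Rule.mk (nat_lit 2) (nat_lit 86) (Steps.bwd (nat_lit 3) (Steps.fwd (nat_lit 40960) (Steps.bwd (nat_lit 3) (Steps.bwd (nat_lit 5) (Steps.fwd (nat_lit 24576) Steps.nil))))) (nat_lit 27) (nat_lit 4),
  Rule.mk (nat_lit 5) (nat_lit 86) (Steps.bwd (nat_lit 4) (Steps.bwd (nat_lit 1) (Steps.bwd (nat_lit 3) (Steps.bwd (nat_lit 6) (Steps.fwd (nat_lit 24576) Steps.nil))))) (nat_lit 26) (nat_lit 1),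
  Rule.mk (nat_lit 6) (nat_lit 116) (Steps.bwd (nat_lit 3) (Steps.bwd (nat_lit 5) (Steps.bwd (nat_lit 1) (Steps.fwd (nat_lit 40960) (Steps.fwd (nat_lit 32768) (Steps.bwd (nat_lit 5) (Steps.bwd (nat_lit 1) Steps.nil))))))) (nat_lit 36) (nat_lit 2),
  Rule.mk (nat_lit 2) (nat_lit 86) (Steps.fwd (nat_lit 32768) (Steps.bwd (nat_lit 6) (Steps.bwd (nat_lit 3) (Steps.bwd (nat_lit 5) (Steps.fwd (nat_lit 24576) Steps.nil))))) (nat_lit 27) (nat_lit 4),
  Rule.mk (nat_lit 2) (nat_lit 41) (Steps.bwd (nat_lit 2) (Steps.bwd (nat_lit 2) Steps.nil)) (nat_lit 7) (nat_lit 0),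
  Rule.mk (nat_lit 5) (nat_lit 86) (Steps.bwd (nat_lit 4) (Steps.fwd (nat_lit 16384) (Steps.fwd (nat_lit 32768) (Steps.bwd (nat_lit 6) (Steps.fwd (nat_lit 24576) Steps.nil))))) (nat_lit 26) (nat_lit 1),
  Rule.mk (nat_lit 1) (nat_lit 116) (Steps.fwd (nat_lit 40960) (Steps.bwd (nat_lit 3) (Steps.fwd (nat_lit 49152) (Steps.bwd (nat_lit 1) (Steps.fwd (nat_lit 40960) (Steps.bwd (nat_lit 3) (Steps.bwd (nat_lit 5) Steps.nil))))))) (nat_lit 36) (nat_lit 1),
  Rule.mk (nat_lit 5) (nat_lit 86) (Steps.bwd (nat_lit 4) (Steps.bwd (nat_lit 1) (Steps.fwd (nat_lit 32768) (Steps.fwd (nat_lit 40960) (Steps.bwd (nat_lit 4) Steps.nil))))) (nat_lit 26) (nat_lit 1),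
  Rule.mk (nat_lit 5) (nat_lit 146) (Steps.bwd (nat_lit 4) (Steps.bwd (nat_lit 5) (Steps.fwd (nat_lit 24576) (Steps.bwd (nat_lit 5) (Steps.fwd (nat_lit 24576) (Steps.bwd (nat_lit 5) (Steps.bwd (nat_lit 4) (Steps.bwd (nat_lit 5) (Steps.bwd (nat_lit 4) Steps.nil))))))))) (nat_lit 50) (nat_lit 0),
  Rule.mk (nat_lit 4) (nat_lit 86) (Steps.fwd (nat_lit 8192) (Steps.bwd (nat_lit 3) (Steps.fwd (nat_lit 40960) (Steps.fwd (nat_lit 32768) (Steps.bwd (nat_lit 5) Steps.nil))))) (nat_lit 27) (nat_lit 3),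
  Rule.mk (nat_lit 2) (nat_lit 86) (Steps.bwd (nat_lit 3) (Steps.bwd (nat_lit 6) (Steps.fwd (nat_lit 32768) (Steps.bwd (nat_lit 5) (Steps.bwd (nat_lit 4) Steps.nil))))) (nat_lit 27) (nat_lit 4),
  Rule.mk (nat_lit 3) (nat_lit 86) (Steps.bwd (nat_lit 6) (Steps.bwd (nat_lit 4) (Steps.bwd (nat_lit 5) (Steps.bwd (nat_lit 4) (Steps.fwd (nat_lit 16384) Steps.nil))))) (nat_lit 26) (nat_lit 4),
  Rule.mk (nat_lit 5) (nat_lit 86) (Steps.bwd (nat_lit 4) (Steps.bwd (nat_lit 1) (Steps.bwd (nat_lit 3) (Steps.fwd (nat_lit 40960) (Steps.bwd (nat_lit 4) Steps.nil))))) (nat_lit 26) (nat_lit 1),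
  Rule.mk (nat_lit 4) (nat_lit 86) (Steps.bwd (nat_lit 2) (Steps.fwd (nat_lit 32768) (Steps.fwd (nat_lit 40960) (Steps.fwd (nat_lit 32768) (Steps.bwd (nat_lit 5) Steps.nil))))) (nat_lit 27) (nat_lit 3),
  Rule.mk (nat_lit 5) (nat_lit 86) (Steps.bwd (nat_lit 4) (Steps.fwd (nat_lit 16384) (Steps.fwd (nat_lit 32768) (Steps.fwd (nat_lit 40960) (Steps.bwd (nat_lit 4) Steps.nil))))) (nat_lit 26) (nat_lit 1),
  Rule.mk (nat_lit 3) (nat_lit 86) (Steps.bwd (nat_lit 6) (Steps.bwd (nat_lit 4) (Steps.bwd (nat_lit 5) (Steps.bwd (nat_lit 4) (Steps.bwd (nat_lit 1) Steps.nil))))) (nat_lit 26) (nat_lit 4),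
  Rule.mk (nat_lit 5) (nat_lit 116) (Steps.bwd (nat_lit 2) (Steps.bwd (nat_lit 6) (Steps.bwd (nat_lit 4) (Steps.bwd (nat_lit 5) (Steps.fwd (nat_lit 8192) (Steps.fwd (nat_lit 40960) (Steps.bwd (nat_lit 4) Steps.nil))))))) (nat_lit 37) (nat_lit 3),
  Rule.mk (nat_lit 4) (nat_lit 86) (Steps.bwd (nat_lit 1) (Steps.fwd (nat_lit 32768) (Steps.fwd (nat_lit 40960) (Steps.bwd (nat_lit 4) (Steps.bwd (nat_lit 5) Steps.nil))))) (nat_lit 26) (nat_lit 2),
  Rule.mk (nat_lit 3) (nat_lit 146) (Steps.bwd (nat_lit 6) (Steps.bwd (nat_lit 3) (Steps.fwd (nat_lit 40960) (Steps.bwd (nat_lit 3) (Steps.fwd (nat_lit 40960) (Steps.fwd (nat_lit 32768) (Steps.fwd (nat_lit 40960) (Steps.fwd (nat_lit 32768) (Steps.bwd (nat_lit 6) Steps.nil))))))))) (nat_lit 51) (nat_lit 0),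
  Rule.mk (nat_lit 2) (nat_lit 86) (Steps.bwd (nat_lit 3) (Steps.bwd (nat_lit 6) (Steps.bwd (nat_lit 3) (Steps.bwd (nat_lit 5) (Steps.fwd (nat_lit 24576) Steps.nil))))) (nat_lit 27) (nat_lit 4),
  Rule.mk (nat_lit 3) (nat_lit 86) (Steps.bwd (nat_lit 6) (Steps.fwd (nat_lit 24576) (Steps.bwd (nat_lit 5) (Steps.fwd (nat_lit 24576) (Steps.fwd (nat_lit 16384) Steps.nil))))) (nat_lit 26) (nat_lit 4),
  Rule.mk (nat_lit 1) (nat_lit 86) (Steps.bwd (nat_lit 3) (Steps.bwd (nat_lit 6) (Steps.fwd (nat_lit 24576) (Steps.fwd (nat_lit 49152) (Steps.bwd (nat_lit 4) Steps.nil))))) (nat_lit 26) (nat_lit 3),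
  Rule.mk (nat_lit 3) (nat_lit 86) (Steps.bwd (nat_lit 6) (Steps.fwd (nat_lit 24576) (Steps.fwd (nat_lit 49152) (Steps.fwd (nat_lit 24576) (Steps.bwd (nat_lit 1) Steps.nil))))) (nat_lit 26) (nat_lit 4),
  Rule.mk (nat_lit 6) (nat_lit 86) (Steps.bwd (nat_lit 3) (Steps.bwd (nat_lit 5) (Steps.fwd (nat_lit 24576) (Steps.fwd (nat_lit 8192) (Steps.bwd (nat_lit 3) Steps.nil))))) (nat_lit 27) (nat_lit 0),
  Rule.mk (nat_lit 4) (nat_lit 86) (Steps.bwd (nat_lit 1) (Steps.bwd (nat_lit 3) (Steps.fwd (nat_lit 40960) (Steps.bwd (nat_lit 4) (Steps.bwd (nat_lit 5) Steps.nil))))) (nat_lit 26) (nat_lit 2),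
  Rule.mk (nat_lit 3) (nat_lit 86) (Steps.bwd (nat_lit 6) (Steps.bwd (nat_lit 4) (Steps.bwd (nat_lit 5) (Steps.fwd (nat_lit 24576) (Steps.bwd (nat_lit 1) Steps.nil))))) (nat_lit 26) (nat_lit 4),
  Rule.mk (nat_lit 3) (nat_lit 86) (Steps.bwd (nat_lit 5) (Steps.fwd (nat_lit 24576) (Steps.fwd (nat_lit 8192) (Steps.fwd (nat_lit 32768) (Steps.bwd (nat_lit 6) Steps.nil))))) (nat_lit 27) (nat_lit 1),
  Rule.mk (nat_lit 5) (nat_lit 86) (Steps.bwd (nat_lit 4) (Steps.bwd (nat_lit 1) (Steps.fwd (nat_lit 32768) (Steps.bwd (nat_lit 6) (Steps.fwd (nat_lit 24576) Steps.nil))))) (nat_lit 26) (nat_lit 1),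
  Rule.mk (nat_lit 5) (nat_lit 146) (Steps.bwd (nat_lit 4) (Steps.bwd (nat_lit 5) (Steps.fwd (nat_lit 24576) (Steps.fwd (nat_lit 49152) (Steps.bwd (nat_lit 4) (Steps.bwd (nat_lit 5) (Steps.fwd (nat_lit 24576) (Steps.fwd (nat_lit 49152) (Steps.fwd (nat_lit 24576) Steps.nil))))))))) (nat_lit 50) (nat_lit 0),
  Rule.mk (nat_lit 1) (nat_lit 86) (Steps.bwd (nat_lit 3) (Steps.bwd (nat_lit 6) (Steps.fwd (nat_lit 24576) (Steps.bwd (nat_lit 5) (Steps.bwd (nat_lit 4) Steps.nil))))) (nat_lit 26) (nat_lit 3),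
  Rule.mk (nat_lit 4) (nat_lit 86) (Steps.bwd (nat_lit 2) (Steps.bwd (nat_lit 3) (Steps.fwd (nat_lit 40960) (Steps.fwd (nat_lit 32768) (Steps.bwd (nat_lit 5) Steps.nil))))) (nat_lit 27) (nat_lit 3),
  Rule.mk (nat_lit 5) (nat_lit 116) (Steps.bwd (nat_lit 2) (Steps.bwd (nat_lit 6) (Steps.fwd (nat_lit 24576) (Steps.bwd (nat_lit 5) (Steps.fwd (nat_lit 8192) (Steps.fwd (nat_lit 40960) (Steps.bwd (nat_lit 4) Steps.nil))))))) (nat_lit 37) (nat_lit 3),
  Rule.mk (nat_lit 2) (nat_lit 86) (Steps.bwd (nat_lit 3) (Steps.bwd (nat_lit 6) (Steps.bwd (nat_lit 3) (Steps.bwd (nat_lit 5) (Steps.bwd (nat_lit 4) Steps.nil))))) (nat_lit 27) (nat_lit 4),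
  Rule.mk (nat_lit 4) (nat_lit 86) (Steps.bwd (nat_lit 2) (Steps.fwd (nat_lit 32768) (Steps.fwd (nat_lit 40960) (Steps.bwd (nat_lit 3) (Steps.bwd (nat_lit 5) Steps.nil))))) (nat_lit 27) (nat_lit 3),
  Rule.mk (nat_lit 5) (nat_lit 146) (Steps.bwd (nat_lit 4) (Steps.fwd (nat_lit 49152) (Steps.fwd (nat_lit 24576) (Steps.bwd (nat_lit 5) (Steps.fwd (nat_lit 24576) (Steps.fwd (nat_lit 49152) (Steps.fwd (nat_lit 24576) (Steps.bwd (nat_lit 5) (Steps.bwd (nat_lit 4) Steps.nil))))))))) (nat_lit 50) (nat_lit 0),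
  Rule.mk (nat_lit 1) (nat_lit 86) (Steps.bwd (nat_lit 3) (Steps.fwd (nat_lit 40960) (Steps.bwd (nat_lit 4) (Steps.bwd (nat_lit 5) (Steps.bwd (nat_lit 4) Steps.nil))))) (nat_lit 26) (nat_lit 3),
  Rule.mk (nat_lit 1) (nat_lit 116) (Steps.bwd (nat_lit 6) (Steps.bwd (nat_lit 3) (Steps.bwd (nat_lit 5) (Steps.bwd (nat_lit 1) (Steps.fwd (nat_lit 40960) (Steps.bwd (nat_lit 3) (Steps.bwd (nat_lit 5) Steps.nil))))))) (nat_lit 36) (nat_lit 1),
  Rule.mk (nat_lit 6) (nat_lit 86) (Steps.bwd (nat_lit 4) (Steps.fwd (nat_lit 49152) (Steps.bwd (nat_lit 4) (Steps.bwd (nat_lit 1) (Steps.bwd (nat_lit 3) Steps.nil))))) (nat_lit 26) (nat_lit 5),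
  Rule.mk (nat_lit 3) (nat_lit 146) (Steps.bwd (nat_lit 6) (Steps.fwd (nat_lit 32768) (Steps.fwd (nat_lit 40960) (Steps.fwd (nat_lit 32768) (Steps.fwd (nat_lit 40960) (Steps.fwd (nat_lit 32768) (Steps.bwd (nat_lit 6) (Steps.fwd (nat_lit 32768) (Steps.bwd (nat_lit 6) Steps.nil))))))))) (nat_lit 51) (nat_lit 0),
  Rule.mk (nat_lit 4) (nat_lit 86) (Steps.bwd (nat_lit 2) (Steps.bwd (nat_lit 3) (Steps.bwd (nat_lit 6) (Steps.fwd (nat_lit 32768) (Steps.bwd (nat_lit 5) Steps.nil))))) (nat_lit 27) (nat_lit 3),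
  Rule.mk (nat_lit 5) (nat_lit 86) (Steps.bwd (nat_lit 4) (Steps.bwd (nat_lit 1) (Steps.fwd (nat_lit 32768) (Steps.bwd (nat_lit 6) (Steps.bwd (nat_lit 4) Steps.nil))))) (nat_lit 26) (nat_lit 1),
  Rule.mk (nat_lit 2) (nat_lit 86) (Steps.bwd (nat_lit 3) (Steps.bwd (nat_lit 6) (Steps.bwd (nat_lit 3) (Steps.fwd (nat_lit 49152) (Steps.fwd (nat_lit 24576) Steps.nil))))) (nat_lit 27) (nat_lit 4),
  Rule.mk (nat_lit 3) (nat_lit 86) (Steps.bwd (nat_lit 6) (Steps.fwd (nat_lit 24576) (Steps.fwd (nat_lit 49152) (Steps.fwd (nat_lit 24576) (Steps.fwd (nat_lit 16384) Steps.nil))))) (nat_lit 26) (nat_lit 4),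
  Rule.mk (nat_lit 5) (nat_lit 86) (Steps.bwd (nat_lit 4) (Steps.fwd (nat_lit 16384) (Steps.bwd (nat_lit 3) (Steps.bwd (nat_lit 6) (Steps.fwd (nat_lit 24576) Steps.nil))))) (nat_lit 26) (nat_lit 1),
  Rule.mk (nat_lit 4) (nat_lit 86) (Steps.fwd (nat_lit 8192) (Steps.bwd (nat_lit 3) (Steps.bwd (nat_lit 6) (Steps.fwd (nat_lit 32768) (Steps.bwd (nat_lit 5) Steps.nil))))) (nat_lit 27) (nat_lit 3),
  Rule.mk (nat_lit 5) (nat_lit 86) (Steps.bwd (nat_lit 4) (Steps.bwd (nat_lit 1) (Steps.bwd (nat_lit 3) (Steps.bwd (nat_lit 6) (Steps.bwd (nat_lit 4) Steps.nil))))) (nat_lit 26) (nat_lit 1),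
  Rule.mk (nat_lit 5) (nat_lit 146) (Steps.bwd (nat_lit 4) (Steps.bwd (nat_lit 5) (Steps.bwd (nat_lit 4) (Steps.bwd (nat_lit 5) (Steps.fwd (nat_lit 24576) (Steps.fwd (nat_lit 49152) (Steps.fwd (nat_lit 24576) (Steps.fwd (nat_lit 49152) (Steps.fwd (nat_lit 24576) Steps.nil))))))))) (nat_lit 50) (nat_lit 0),
  Rule.mk (nat_lit 1) (nat_lit 116) (Steps.bwd (nat_lit 6) (Steps.bwd (nat_lit 3) (Steps.fwd (nat_lit 49152) (Steps.fwd (nat_lit 16384) (Steps.fwd (nat_lit 40960) (Steps.bwd (nat_lit 3) (Steps.bwd (nat_lit 5) Steps.nil))))))) (nat_lit 36) (nat_lit 1),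
  Rule.mk (nat_lit 5) (nat_lit 146) (Steps.bwd (nat_lit 4) (Steps.bwd (nat_lit 5) (Steps.fwd (nat_lit 24576) (Steps.fwd (nat_lit 49152) (Steps.fwd (nat_lit 24576) (Steps.fwd (nat_lit 49152) (Steps.fwd (nat_lit 24576) (Steps.fwd (nat_lit 49152) (Steps.fwd (nat_lit 24576) Steps.nil))))))))) (nat_lit 50) (nat_lit 0),
  Rule.mk (nat_lit 5) (nat_lit 86) (Steps.bwd (nat_lit 4) (Steps.fwd (nat_lit 16384) (Steps.bwd (nat_lit 3) (Steps.fwd (nat_lit 40960) (Steps.bwd (nat_lit 4) Steps.nil))))) (nat_lit 26) (nat_lit 1),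
  Rule.mk (nat_lit 5) (nat_lit 146) (Steps.bwd (nat_lit 4) (Steps.bwd (nat_lit 5) (Steps.fwd (nat_lit 24576) (Steps.bwd (nat_lit 5) (Steps.fwd (nat_lit 24576) (Steps.bwd (nat_lit 5) (Steps.fwd (nat_lit 24576) (Steps.bwd (nat_lit 5) (Steps.fwd (nat_lit 24576) Steps.nil))))))))) (nat_lit 50) (nat_lit 0),
  Rule.mk (nat_lit 3) (nat_lit 86) (Steps.bwd (nat_lit 6) (Steps.fwd (nat_lit 24576) (Steps.bwd (nat_lit 5) (Steps.fwd (nat_lit 24576) (Steps.bwd (nat_lit 1) Steps.nil))))) (nat_lit 26) (nat_lit 4),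
  Rule.mk (nat_lit 5) (nat_lit 116) (Steps.bwd (nat_lit 2) (Steps.bwd (nat_lit 6) (Steps.fwd (nat_lit 24576) (Steps.bwd (nat_lit 5) (Steps.fwd (nat_lit 8192) (Steps.bwd (nat_lit 6) (Steps.fwd (nat_lit 24576) Steps.nil))))))) (nat_lit 37) (nat_lit 3)]
noncomputable def R_1 : List (Rule) := [Rule.mk (nat_lit 4) (nat_lit 86) (Steps.bwd (nat_lit 1) (Steps.fwd (nat_lit 32768) (Steps.bwd (nat_lit 6) (Steps.fwd (nat_lit 24576) (Steps.bwd (nat_lit 5) Steps.nil))))) (nat_lit 26) (nat_lit 2),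
  Rule.mk (nat_lit 3) (nat_lit 86) (Steps.bwd (nat_lit 6) (Steps.fwd (nat_lit 24576) (Steps.fwd (nat_lit 49152) (Steps.bwd (nat_lit 4) (Steps.bwd (nat_lit 1) Steps.nil))))) (nat_lit 26) (nat_lit 4),
  Rule.mk (nat_lit 5) (nat_lit 146) (Steps.bwd (nat_lit 4) (Steps.bwd (nat_lit 5) (Steps.fwd (nat_lit 24576) (Steps.bwd (nat_lit 5) (Steps.fwd (nat_lit 24576) (Steps.fwd (nat_lit 49152) (Steps.fwd (nat_lit 24576) (Steps.bwd (nat_lit 5) (Steps.bwd (nat_lit 4) Steps.nil))))))))) (nat_lit 50) (nat_lit 0),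
  Rule.mk (nat_lit 5) (nat_lit 116) (Steps.bwd (nat_lit 2) (Steps.fwd (nat_lit 40960) (Steps.fwd (nat_lit 24576) (Steps.bwd (nat_lit 5) (Steps.fwd (nat_lit 8192) (Steps.fwd (nat_lit 40960) (Steps.bwd (nat_lit 4) Steps.nil))))))) (nat_lit 37) (nat_lit 3),
  Rule.mk (nat_lit 2) (nat_lit 86) (Steps.bwd (nat_lit 3) (Steps.fwd (nat_lit 40960) (Steps.fwd (nat_lit 32768) (Steps.bwd (nat_lit 5) (Steps.bwd (nat_lit 4) Steps.nil))))) (nat_lit 27) (nat_lit 4),
  Rule.mk (nat_lit 6) (nat_lit 86) (Steps.bwd (nat_lit 4) (Steps.fwd (nat_lit 49152) (Steps.bwd (nat_lit 4) (Steps.fwd (nat_lit 16384) (Steps.bwd (nat_lit 3) Steps.nil))))) (nat_lit 26) (nat_lit 5),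
  Rule.mk (nat_lit 2) (nat_lit 116) (Steps.bwd (nat_lit 6) (Steps.bwd (nat_lit 4) (Steps.bwd (nat_lit 5) (Steps.bwd (nat_lit 2) (Steps.fwd (nat_lit 40960) (Steps.bwd (nat_lit 4) (Steps.bwd (nat_lit 5) Steps.nil))))))) (nat_lit 37) (nat_lit 0),
  Rule.mk (nat_lit 1) (nat_lit 86) (Steps.bwd (nat_lit 3) (Steps.bwd (nat_lit 6) (Steps.bwd (nat_lit 4) (Steps.bwd (nat_lit 5) (Steps.bwd (nat_lit 4) Steps.nil))))) (nat_lit 26) (nat_lit 3),
  Rule.mk (nat_lit 3) (nat_lit 86) (Steps.bwd (nat_lit 6) (Steps.bwd (nat_lit 4) (Steps.fwd (nat_lit 49152) (Steps.fwd (nat_lit 24576) (Steps.bwd (nat_lit 1) Steps.nil))))) (nat_lit 26) (nat_lit 4),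
  Rule.mk (nat_lit 6) (nat_lit 86) (Steps.bwd (nat_lit 3) (Steps.bwd (nat_lit 5) (Steps.bwd (nat_lit 4) (Steps.bwd (nat_lit 2) (Steps.bwd (nat_lit 3) Steps.nil))))) (nat_lit 27) (nat_lit 0),
  Rule.mk (nat_lit 3) (nat_lit 146) (Steps.bwd (nat_lit 6) (Steps.bwd (nat_lit 3) (Steps.bwd (nat_lit 6) (Steps.bwd (nat_lit 3) (Steps.fwd (nat_lit 40960) (Steps.fwd (nat_lit 32768) (Steps.fwd (nat_lit 40960) (Steps.fwd (nat_lit 32768) (Steps.fwd (nat_lit 40960) Steps.nil))))))))) (nat_lit 51) (nat_lit 0),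
  Rule.mk (nat_lit 1) (nat_lit 86) (Steps.bwd (nat_lit 3) (Steps.bwd (nat_lit 6) (Steps.fwd (nat_lit 24576) (Steps.fwd (nat_lit 49152) (Steps.fwd (nat_lit 24576) Steps.nil))))) (nat_lit 26) (nat_lit 3),
  Rule.mk (nat_lit 1) (nat_lit 116) (Steps.bwd (nat_lit 6) (Steps.bwd (nat_lit 3) (Steps.fwd (nat_lit 49152) (Steps.fwd (nat_lit 16384) (Steps.fwd (nat_lit 40960) (Steps.fwd (nat_lit 32768) (Steps.fwd (nat_lit 49152) Steps.nil))))))) (nat_lit 36) (nat_lit 1),
  Rule.mk (nat_lit 2) (nat_lit 86) (Steps.bwd (nat_lit 3) (Steps.bwd (nat_lit 6) (Steps.bwd (nat_lit 3) (Steps.fwd (nat_lit 49152) (Steps.bwd (nat_lit 4) Steps.nil))))) (nat_lit 27) (nat_lit 4),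
  Rule.mk (nat_lit 5) (nat_lit 86) (Steps.bwd (nat_lit 4) (Steps.fwd (nat_lit 16384) (Steps.fwd (nat_lit 32768) (Steps.bwd (nat_lit 6) (Steps.bwd (nat_lit 4) Steps.nil))))) (nat_lit 26) (nat_lit 1),
  Rule.mk (nat_lit 5) (nat_lit 146) (Steps.bwd (nat_lit 4) (Steps.bwd (nat_lit 5) (Steps.bwd (nat_lit 4) (Steps.fwd (nat_lit 49152) (Steps.fwd (nat_lit 24576) (Steps.bwd (nat_lit 5) (Steps.bwd (nat_lit 4) (Steps.fwd (nat_lit 49152) (Steps.fwd (nat_lit 24576) Steps.nil))))))))) (nat_lit 50) (nat_lit 0),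
  Rule.mk (nat_lit 5) (nat_lit 116) (Steps.bwd (nat_lit 2) (Steps.bwd (nat_lit 6) (Steps.fwd (nat_lit 24576) (Steps.fwd (nat_lit 49152) (Steps.bwd (nat_lit 2) (Steps.bwd (nat_lit 6) (Steps.fwd (nat_lit 24576) Steps.nil))))))) (nat_lit 37) (nat_lit 3),
  Rule.mk (nat_lit 3) (nat_lit 86) (Steps.bwd (nat_lit 5) (Steps.bwd (nat_lit 4) (Steps.bwd (nat_lit 2) (Steps.bwd (nat_lit 3) (Steps.bwd (nat_lit 6) Steps.nil))))) (nat_lit 27) (nat_lit 1),
  Rule.mk (nat_lit 5) (nat_lit 116) (Steps.fwd (nat_lit 8192) (Steps.fwd (nat_lit 40960) (Steps.fwd (nat_lit 24576) (Steps.bwd (nat_lit 5) (Steps.fwd (nat_lit 8192) (Steps.fwd (nat_lit 40960) (Steps.bwd (nat_lit 4) Steps.nil))))))) (nat_lit 37) (nat_lit 3),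
  Rule.mk (nat_lit 3) (nat_lit 86) (Steps.bwd (nat_lit 5) (Steps.bwd (nat_lit 4) (Steps.fwd (nat_lit 8192) (Steps.bwd (nat_lit 3) (Steps.bwd (nat_lit 6) Steps.nil))))) (nat_lit 27) (nat_lit 1),
  Rule.mk (nat_lit 6) (nat_lit 146) (Steps.bwd (nat_lit 3) (Steps.fwd (nat_lit 40960) (Steps.bwd (nat_lit 3) (Steps.bwd (nat_lit 6) (Steps.bwd (nat_lit 3) (Steps.fwd (nat_lit 40960) (Steps.bwd (nat_lit 3) (Steps.bwd (nat_lit 6) (Steps.bwd (nat_lit 3) Steps.nil))))))))) (nat_lit 51) (nat_lit 1),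
  Rule.mk (nat_lit 6) (nat_lit 41) (Steps.fwd (nat_lit 40960) (Steps.bwd (nat_lit 6) Steps.nil)) (nat_lit 11) (nat_lit 0),
  Rule.mk (nat_lit 4) (nat_lit 86) (Steps.bwd (nat_lit 2) (Steps.bwd (nat_lit 3) (Steps.fwd (nat_lit 40960) (Steps.bwd (nat_lit 3) (Steps.fwd (nat_lit 49152) Steps.nil))))) (nat_lit 27) (nat_lit 3),
  Rule.mk (nat_lit 2) (nat_lit 116) (Steps.bwd (nat_lit 6) (Steps.bwd (nat_lit 4) (Steps.fwd (nat_lit 49152) (Steps.fwd (nat_lit 8192) (Steps.fwd (nat_lit 40960) (Steps.bwd (nat_lit 4) (Steps.bwd (nat_lit 5) Steps.nil))))))) (nat_lit 37) (nat_lit 0),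
  Rule.mk (nat_lit 1) (nat_lit 86) (Steps.bwd (nat_lit 3) (Steps.bwd (nat_lit 6) (Steps.bwd (nat_lit 4) (Steps.fwd (nat_lit 49152) (Steps.fwd (nat_lit 24576) Steps.nil))))) (nat_lit 26) (nat_lit 3),
  Rule.mk (nat_lit 3) (nat_lit 146) (Steps.bwd (nat_lit 6) (Steps.bwd (nat_lit 3) (Steps.bwd (nat_lit 6) (Steps.fwd (nat_lit 32768) (Steps.fwd (nat_lit 40960) (Steps.bwd (nat_lit 3) (Steps.bwd (nat_lit 6) (Steps.fwd (nat_lit 32768) (Steps.bwd (nat_lit 6) Steps.nil))))))))) (nat_lit 51) (nat_lit 0),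
  Rule.mk (nat_lit 3) (nat_lit 86) (Steps.bwd (nat_lit 6) (Steps.fwd (nat_lit 24576) (Steps.fwd (nat_lit 49152) (Steps.bwd (nat_lit 4) (Steps.fwd (nat_lit 16384) Steps.nil))))) (nat_lit 26) (nat_lit 4),
  Rule.mk (nat_lit 5) (nat_lit 146) (Steps.bwd (nat_lit 4) (Steps.bwd (nat_lit 5) (Steps.fwd (nat_lit 24576) (Steps.bwd (nat_lit 5) (Steps.fwd (nat_lit 24576) (Steps.fwd (nat_lit 49152) (Steps.bwd (nat_lit 4) (Steps.fwd (nat_lit 49152) (Steps.fwd (nat_lit 24576) Steps.nil))))))))) (nat_lit 50) (nat_lit 0),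
  Rule.mk (nat_lit 1) (nat_lit 86) (Steps.fwd (nat_lit 32768) (Steps.bwd (nat_lit 6) (Steps.fwd (nat_lit 24576) (Steps.bwd (nat_lit 5) (Steps.bwd (nat_lit 4) Steps.nil))))) (nat_lit 26) (nat_lit 3),
  Rule.mk (nat_lit 5) (nat_lit 116) (Steps.bwd (nat_lit 2) (Steps.bwd (nat_lit 6) (Steps.fwd (nat_lit 24576) (Steps.fwd (nat_lit 49152) (Steps.fwd (nat_lit 8192) (Steps.fwd (nat_lit 40960) (Steps.bwd (nat_lit 4) Steps.nil))))))) (nat_lit 37) (nat_lit 3),
  Rule.mk (nat_lit 5) (nat_lit 146) (Steps.bwd (nat_lit 4) (Steps.bwd (nat_lit 5) (Steps.fwd (nat_lit 24576) (Steps.fwd (nat_lit 49152) (Steps.fwd (nat_lit 24576) (Steps.fwd (nat_lit 49152) (Steps.fwd (nat_lit 24576) (Steps.bwd (nat_lit 5) (Steps.bwd (nat_lit 4) Steps.nil))))))))) (nat_lit 50) (nat_lit 0),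
  Rule.mk (nat_lit 1) (nat_lit 86) (Steps.fwd (nat_lit 32768) (Steps.fwd (nat_lit 40960) (Steps.bwd (nat_lit 4) (Steps.bwd (nat_lit 5) (Steps.bwd (nat_lit 4) Steps.nil))))) (nat_lit 26) (nat_lit 3),
  Rule.mk (nat_lit 1) (nat_lit 86) (Steps.bwd (nat_lit 3) (Steps.bwd (nat_lit 6) (Steps.bwd (nat_lit 4) (Steps.bwd (nat_lit 5) (Steps.fwd (nat_lit 24576) Steps.nil))))) (nat_lit 26) (nat_lit 3),
  Rule.mk (nat_lit 5) (nat_lit 116) (Steps.bwd (nat_lit 1) (Steps.bwd (nat_lit 6) (Steps.fwd (nat_lit 32768) (Steps.bwd (nat_lit 5) (Steps.fwd (nat_lit 16384) (Steps.fwd (nat_lit 40960) (Steps.fwd (nat_lit 32768) Steps.nil))))))) (nat_lit 36) (nat_lit 0),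
  Rule.mk (nat_lit 3) (nat_lit 146) (Steps.bwd (nat_lit 6) (Steps.bwd (nat_lit 3) (Steps.bwd (nat_lit 6) (Steps.fwd (nat_lit 32768) (Steps.fwd (nat_lit 40960) (Steps.fwd (nat_lit 32768) (Steps.fwd (nat_lit 40960) (Steps.bwd (nat_lit 3) (Steps.fwd (nat_lit 40960) Steps.nil))))))))) (nat_lit 51) (nat_lit 0),
  Rule.mk (nat_lit 1) (nat_lit 86) (Steps.bwd (nat_lit 3) (Steps.bwd (nat_lit 6) (Steps.fwd (nat_lit 24576) (Steps.bwd (nat_lit 5) (Steps.fwd (nat_lit 24576) Steps.nil))))) (nat_lit 26) (nat_lit 3),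
  Rule.mk (nat_lit 1) (nat_lit 116) (Steps.bwd (nat_lit 6) (Steps.bwd (nat_lit 3) (Steps.fwd (nat_lit 49152) (Steps.fwd (nat_lit 16384) (Steps.fwd (nat_lit 40960) (Steps.bwd (nat_lit 3) (Steps.fwd (nat_lit 49152) Steps.nil))))))) (nat_lit 36) (nat_lit 1),
  Rule.mk (nat_lit 4) (nat_lit 86) (Steps.bwd (nat_lit 1) (Steps.bwd (nat_lit 3) (Steps.bwd (nat_lit 6) (Steps.fwd (nat_lit 24576) (Steps.fwd (nat_lit 49152) Steps.nil))))) (nat_lit 26) (nat_lit 2),
  Rule.mk (nat_lit 4) (nat_lit 86) (Steps.bwd (nat_lit 5) (Steps.bwd (nat_lit 4) (Steps.bwd (nat_lit 1) (Steps.bwd (nat_lit 3) (Steps.bwd (nat_lit 6) Steps.nil))))) (nat_lit 26) (nat_lit 0),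
  Rule.mk (nat_lit 5) (nat_lit 146) (Steps.bwd (nat_lit 4) (Steps.bwd (nat_lit 5) (Steps.bwd (nat_lit 4) (Steps.bwd (nat_lit 5) (Steps.bwd (nat_lit 4) (Steps.bwd (nat_lit 5) (Steps.bwd (nat_lit 4) (Steps.bwd (nat_lit 5) (Steps.bwd (nat_lit 4) Steps.nil))))))))) (nat_lit 50) (nat_lit 0),
  Rule.mk (nat_lit 4) (nat_lit 86) (Steps.bwd (nat_lit 5) (Steps.fwd (nat_lit 24576) (Steps.fwd (nat_lit 16384) (Steps.fwd (nat_lit 32768) (Steps.bwd (nat_lit 6) Steps.nil))))) (nat_lit 26) (nat_lit 0),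
  Rule.mk (nat_lit 5) (nat_lit 146) (Steps.fwd (nat_lit 24576) (Steps.fwd (nat_lit 49152) (Steps.bwd (nat_lit 4) (Steps.bwd (nat_lit 5) (Steps.fwd (nat_lit 24576) (Steps.fwd (nat_lit 49152) (Steps.bwd (nat_lit 4) (Steps.bwd (nat_lit 5) (Steps.bwd (nat_lit 4) Steps.nil))))))))) (nat_lit 50) (nat_lit 0),
  Rule.mk (nat_lit 1) (nat_lit 86) (Steps.bwd (nat_lit 3) (Steps.fwd (nat_lit 40960) (Steps.bwd (nat_lit 4) (Steps.bwd (nat_lit 5) (Steps.fwd (nat_lit 24576) Steps.nil))))) (nat_lit 26) (nat_lit 3),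
  Rule.mk (nat_lit 4) (nat_lit 86) (Steps.bwd (nat_lit 2) (Steps.fwd (nat_lit 32768) (Steps.bwd (nat_lit 6) (Steps.bwd (nat_lit 3) (Steps.bwd (nat_lit 5) Steps.nil))))) (nat_lit 27) (nat_lit 3),
  Rule.mk (nat_lit 1) (nat_lit 86) (Steps.fwd (nat_lit 32768) (Steps.fwd (nat_lit 40960) (Steps.bwd (nat_lit 4) (Steps.bwd (nat_lit 5) (Steps.fwd (nat_lit 24576) Steps.nil))))) (nat_lit 26) (nat_lit 3),
  Rule.mk (nat_lit 2) (nat_lit 116) (Steps.bwd (nat_lit 6) (Steps.bwd (nat_lit 4) (Steps.bwd (nat_lit 5) (Steps.bwd (nat_lit 2) (Steps.bwd (nat_lit 6) (Steps.fwd (nat_lit 24576) (Steps.bwd (nat_lit 5) Steps.nil))))))) (nat_lit 37) (nat_lit 0),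
  Rule.mk (nat_lit 5) (nat_lit 116) (Steps.bwd (nat_lit 1) (Steps.bwd (nat_lit 6) (Steps.fwd (nat_lit 32768) (Steps.bwd (nat_lit 5) (Steps.bwd (nat_lit 1) (Steps.fwd (nat_lit 40960) (Steps.fwd (nat_lit 32768) Steps.nil))))))) (nat_lit 36) (nat_lit 0),
  Rule.mk (nat_lit 5) (nat_lit 116) (Steps.bwd (nat_lit 1) (Steps.bwd (nat_lit 6) (Steps.fwd (nat_lit 32768) (Steps.bwd (nat_lit 5) (Steps.fwd (nat_lit 16384) (Steps.bwd (nat_lit 6) (Steps.bwd (nat_lit 3) Steps.nil))))))) (nat_lit 36) (nat_lit 0),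
  Rule.mk (nat_lit 4) (nat_lit 86) (Steps.bwd (nat_lit 2) (Steps.bwd (nat_lit 3) (Steps.bwd (nat_lit 6) (Steps.bwd (nat_lit 3) (Steps.bwd (nat_lit 5) Steps.nil))))) (nat_lit 27) (nat_lit 3),
  Rule.mk (nat_lit 2) (nat_lit 86) (Steps.bwd (nat_lit 3) (Steps.fwd (nat_lit 40960) (Steps.bwd (nat_lit 3) (Steps.fwd (nat_lit 49152) (Steps.fwd (nat_lit 24576) Steps.nil))))) (nat_lit 27) (nat_lit 4),
  Rule.mk (nat_lit 5) (nat_lit 146) (Steps.bwd (nat_lit 4) (Steps.bwd (nat_lit 5) (Steps.bwd (nat_lit 4) (Steps.bwd (nat_lit 5) (Steps.fwd (nat_lit 24576) (Steps.fwd (nat_lit 49152) (Steps.fwd (nat_lit 24576) (Steps.bwd (nat_lit 5) (Steps.bwd (nat_lit 4) Steps.nil))))))))) (nat_lit 50) (nat_lit 0),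
  Rule.mk (nat_lit 1) (nat_lit 116) (Steps.bwd (nat_lit 6) (Steps.bwd (nat_lit 3) (Steps.bwd (nat_lit 5) (Steps.bwd (nat_lit 1) (Steps.fwd (nat_lit 40960) (Steps.fwd (nat_lit 32768) (Steps.fwd (nat_lit 49152) Steps.nil))))))) (nat_lit 36) (nat_lit 1),
  Rule.mk (nat_lit 3) (nat_lit 146) (Steps.bwd (nat_lit 6) (Steps.bwd (nat_lit 3) (Steps.bwd (nat_lit 6) (Steps.bwd (nat_lit 3) (Steps.fwd (nat_lit 40960) (Steps.fwd (nat_lit 32768) (Steps.bwd (nat_lit 6) (Steps.fwd (nat_lit 32768) (Steps.fwd (nat_lit 40960) Steps.nil))))))))) (nat_lit 51) (nat_lit 0),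
  Rule.mk (nat_lit 1) (nat_lit 116) (Steps.bwd (nat_lit 6) (Steps.bwd (nat_lit 3) (Steps.fwd (nat_lit 49152) (Steps.fwd (nat_lit 16384) (Steps.bwd (nat_lit 6) (Steps.bwd (nat_lit 3) (Steps.bwd (nat_lit 5) Steps.nil))))))) (nat_lit 36) (nat_lit 1),
  Rule.mk (nat_lit 4) (nat_lit 86) (Steps.bwd (nat_lit 5) (Steps.fwd (nat_lit 24576) (Steps.bwd (nat_lit 1) (Steps.bwd (nat_lit 3) (Steps.bwd (nat_lit 6) Steps.nil))))) (nat_lit 26) (nat_lit 0),
  Rule.mk (nat_lit 5) (nat_lit 116) (Steps.bwd (nat_lit 2) (Steps.bwd (nat_lit 6) (Steps.fwd (nat_lit 24576) (Steps.bwd (nat_lit 5) (Steps.bwd (nat_lit 2) (Steps.fwd (nat_lit 40960) (Steps.bwd (nat_lit 4) Steps.nil))))))) (nat_lit 37) (nat_lit 3),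
  Rule.mk (nat_lit 3) (nat_lit 86) (Steps.bwd (nat_lit 6) (Steps.fwd (nat_lit 24576) (Steps.bwd (nat_lit 5) (Steps.bwd (nat_lit 4) (Steps.fwd (nat_lit 16384) Steps.nil))))) (nat_lit 26) (nat_lit 4),
  Rule.mk (nat_lit 1) (nat_lit 116) (Steps.bwd (nat_lit 6) (Steps.fwd (nat_lit 32768) (Steps.bwd (nat_lit 5) (Steps.fwd (nat_lit 16384) (Steps.fwd (nat_lit 40960) (Steps.fwd (nat_lit 32768) (Steps.bwd (nat_lit 5) Steps.nil))))))) (nat_lit 36) (nat_lit 1),
  Rule.mk (nat_lit 3) (nat_lit 146) (Steps.bwd (nat_lit 6) (Steps.bwd (nat_lit 3) (Steps.bwd (nat_lit 6) (Steps.bwd (nat_lit 3) (Steps.bwd (nat_lit 6) (Steps.bwd (nat_lit 3) (Steps.bwd (nat_lit 6) (Steps.bwd (nat_lit 3) (Steps.bwd (nat_lit 6) Steps.nil))))))))) (nat_lit 51) (nat_lit 0),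
  Rule.mk (nat_lit 5) (nat_lit 116) (Steps.bwd (nat_lit 1) (Steps.bwd (nat_lit 6) (Steps.fwd (nat_lit 32768) (Steps.fwd (nat_lit 49152) (Steps.bwd (nat_lit 1) (Steps.fwd (nat_lit 40960) (Steps.bwd (nat_lit 3) Steps.nil))))))) (nat_lit 36) (nat_lit 0),
  Rule.mk (nat_lit 4) (nat_lit 86) (Steps.fwd (nat_lit 16384) (Steps.bwd (nat_lit 3) (Steps.bwd (nat_lit 6) (Steps.fwd (nat_lit 24576) (Steps.bwd (nat_lit 5) Steps.nil))))) (nat_lit 26) (nat_lit 2),
  Rule.mk (nat_lit 3) (nat_lit 146) (Steps.bwd (nat_lit 6) (Steps.fwd (nat_lit 32768) (Steps.fwd (nat_lit 40960) (Steps.bwd (nat_lit 3) (Steps.bwd (nat_lit 6) (Steps.fwd (nat_lit 32768) (Steps.fwd (nat_lit 40960) (Steps.fwd (nat_lit 32768) (Steps.bwd (nat_lit 6) Steps.nil))))))))) (nat_lit 51) (nat_lit 0),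
  Rule.mk (nat_lit 3) (nat_lit 146) (Steps.bwd (nat_lit 6) (Steps.fwd (nat_lit 32768) (Steps.fwd (nat_lit 40960) (Steps.bwd (nat_lit 3) (Steps.fwd (nat_lit 40960) (Steps.fwd (nat_lit 32768) (Steps.fwd (nat_lit 40960) (Steps.bwd (nat_lit 3) (Steps.bwd (nat_lit 6) Steps.nil))))))))) (nat_lit 51) (nat_lit 0),
  Rule.mk (nat_lit 5) (nat_lit 116) (Steps.bwd (nat_lit 1) (Steps.bwd (nat_lit 6) (Steps.bwd (nat_lit 3) (Steps.fwd (nat_lit 49152) (Steps.bwd (nat_lit 1) (Steps.fwd (nat_lit 40960) (Steps.fwd (nat_lit 32768) Steps.nil))))))) (nat_lit 36) (nat_lit 0)]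
noncomputable def R_2 : List (Rule) := [Rule.mk (nat_lit 6) (nat_lit 86) (Steps.bwd (nat_lit 4) (Steps.bwd (nat_lit 5) (Steps.bwd (nat_lit 4) (Steps.bwd (nat_lit 1) (Steps.bwd (nat_lit 3) Steps.nil))))) (nat_lit 26) (nat_lit 5),
  Rule.mk (nat_lit 5) (nat_lit 116) (Steps.bwd (nat_lit 1) (Steps.fwd (nat_lit 40960) (Steps.fwd (nat_lit 32768) (Steps.fwd (nat_lit 49152) (Steps.fwd (nat_lit 16384) (Steps.bwd (nat_lit 6) (Steps.bwd (nat_lit 3) Steps.nil))))))) (nat_lit 36) (nat_lit 0),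
  Rule.mk (nat_lit 4) (nat_lit 86) (Steps.bwd (nat_lit 5) (Steps.bwd (nat_lit 4) (Steps.bwd (nat_lit 1) (Steps.fwd (nat_lit 32768) (Steps.bwd (nat_lit 6) Steps.nil))))) (nat_lit 26) (nat_lit 0),
  Rule.mk (nat_lit 3) (nat_lit 86) (Steps.bwd (nat_lit 6) (Steps.bwd (nat_lit 4) (Steps.fwd (nat_lit 49152) (Steps.bwd (nat_lit 4) (Steps.bwd (nat_lit 1) Steps.nil))))) (nat_lit 26) (nat_lit 4),
  Rule.mk (nat_lit 5) (nat_lit 116) (Steps.bwd (nat_lit 2) (Steps.bwd (nat_lit 6) (Steps.bwd (nat_lit 4) (Steps.fwd (nat_lit 49152) (Steps.fwd (nat_lit 8192) (Steps.fwd (nat_lit 40960) (Steps.bwd (nat_lit 4) Steps.nil))))))) (nat_lit 37) (nat_lit 3),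
  Rule.mk (nat_lit 5) (nat_lit 146) (Steps.bwd (nat_lit 4) (Steps.bwd (nat_lit 5) (Steps.fwd (nat_lit 24576) (Steps.fwd (nat_lit 49152) (Steps.bwd (nat_lit 4) (Steps.bwd (nat_lit 5) (Steps.bwd (nat_lit 4) (Steps.bwd (nat_lit 5) (Steps.bwd (nat_lit 4) Steps.nil))))))))) (nat_lit 50) (nat_lit 0),
  Rule.mk (nat_lit 6) (nat_lit 146) (Steps.bwd (nat_lit 3) (Steps.bwd (nat_lit 6) (Steps.bwd (nat_lit 3) (Steps.bwd (nat_lit 6) (Steps.fwd (nat_lit 32768) (Steps.fwd (nat_lit 40960) (Steps.fwd (nat_lit 32768) (Steps.fwd (nat_lit 40960) (Steps.fwd (nat_lit 32768) Steps.nil))))))))) (nat_lit 51) (nat_lit 1),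
  Rule.mk (nat_lit 3) (nat_lit 116) (Steps.bwd (nat_lit 5) (Steps.bwd (nat_lit 1) (Steps.fwd (nat_lit 40960) (Steps.bwd (nat_lit 3) (Steps.bwd (nat_lit 5) (Steps.bwd (nat_lit 1) (Steps.fwd (nat_lit 40960) Steps.nil))))))) (nat_lit 36) (nat_lit 3),
  Rule.mk (nat_lit 2) (nat_lit 86) (Steps.fwd (nat_lit 32768) (Steps.fwd (nat_lit 40960) (Steps.bwd (nat_lit 3) (Steps.bwd (nat_lit 5) (Steps.fwd (nat_lit 24576) Steps.nil))))) (nat_lit 27) (nat_lit 4),
  Rule.mk (nat_lit 5) (nat_lit 86) (Steps.bwd (nat_lit 4) (Steps.fwd (nat_lit 16384) (Steps.fwd (nat_lit 32768) (Steps.fwd (nat_lit 40960) (Steps.fwd (nat_lit 24576) Steps.nil))))) (nat_lit 26) (nat_lit 1),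
  Rule.mk (nat_lit 2) (nat_lit 116) (Steps.bwd (nat_lit 6) (Steps.fwd (nat_lit 24576) (Steps.fwd (nat_lit 49152) (Steps.fwd (nat_lit 8192) (Steps.fwd (nat_lit 40960) (Steps.fwd (nat_lit 24576) (Steps.bwd (nat_lit 5) Steps.nil))))))) (nat_lit 37) (nat_lit 0),
  Rule.mk (nat_lit 5) (nat_lit 146) (Steps.bwd (nat_lit 4) (Steps.bwd (nat_lit 5) (Steps.fwd (nat_lit 24576) (Steps.bwd (nat_lit 5) (Steps.bwd (nat_lit 4) (Steps.bwd (nat_lit 5) (Steps.fwd (nat_lit 24576) (Steps.bwd (nat_lit 5) (Steps.bwd (nat_lit 4) Steps.nil))))))))) (nat_lit 50) (nat_lit 0),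
  Rule.mk (nat_lit 6) (nat_lit 146) (Steps.bwd (nat_lit 3) (Steps.bwd (nat_lit 6) (Steps.fwd (nat_lit 32768) (Steps.fwd (nat_lit 40960) (Steps.fwd (nat_lit 32768) (Steps.fwd (nat_lit 40960) (Steps.fwd (nat_lit 32768) (Steps.fwd (nat_lit 40960) (Steps.fwd (nat_lit 32768) Steps.nil))))))))) (nat_lit 51) (nat_lit 1),
  Rule.mk (nat_lit 5) (nat_lit 116) (Steps.bwd (nat_lit 2) (Steps.bwd (nat_lit 6) (Steps.bwd (nat_lit 4) (Steps.bwd (nat_lit 5) (Steps.bwd (nat_lit 2) (Steps.bwd (nat_lit 6) (Steps.fwd (nat_lit 24576) Steps.nil))))))) (nat_lit 37) (nat_lit 3),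
  Rule.mk (nat_lit 5) (nat_lit 116) (Steps.bwd (nat_lit 2) (Steps.bwd (nat_lit 6) (Steps.fwd (nat_lit 24576) (Steps.fwd (nat_lit 49152) (Steps.bwd (nat_lit 2) (Steps.fwd (nat_lit 40960) (Steps.bwd (nat_lit 4) Steps.nil))))))) (nat_lit 37) (nat_lit 3),
  Rule.mk (nat_lit 5) (nat_lit 116) (Steps.bwd (nat_lit 2) (Steps.bwd (nat_lit 6) (Steps.bwd (nat_lit 4) (Steps.bwd (nat_lit 5) (Steps.bwd (nat_lit 2) (Steps.fwd (nat_lit 40960) (Steps.bwd (nat_lit 4) Steps.nil))))))) (nat_lit 37) (nat_lit 3),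
  Rule.mk (nat_lit 6) (nat_lit 116) (Steps.bwd (nat_lit 4) (Steps.bwd (nat_lit 5) (Steps.fwd (nat_lit 8192) (Steps.bwd (nat_lit 6) (Steps.fwd (nat_lit 24576) (Steps.bwd (nat_lit 5) (Steps.bwd (nat_lit 2) Steps.nil))))))) (nat_lit 37) (nat_lit 1),
  Rule.mk (nat_lit 1) (nat_lit 86) (Steps.fwd (nat_lit 32768) (Steps.bwd (nat_lit 6) (Steps.bwd (nat_lit 4) (Steps.bwd (nat_lit 5) (Steps.fwd (nat_lit 24576) Steps.nil))))) (nat_lit 26) (nat_lit 3),
  Rule.mk (nat_lit 3) (nat_lit 146) (Steps.bwd (nat_lit 6) (Steps.bwd (nat_lit 3) (Steps.bwd (nat_lit 6) (Steps.bwd (nat_lit 3) (Steps.bwd (nat_lit 6) (Steps.bwd (nat_lit 3) (Steps.fwd (nat_lit 40960) (Steps.bwd (nat_lit 3) (Steps.fwd (nat_lit 40960) Steps.nil))))))))) (nat_lit 51) (nat_lit 0),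
  Rule.mk (nat_lit 1) (nat_lit 116) (Steps.bwd (nat_lit 6) (Steps.bwd (nat_lit 3) (Steps.fwd (nat_lit 49152) (Steps.fwd (nat_lit 16384) (Steps.fwd (nat_lit 40960) (Steps.fwd (nat_lit 32768) (Steps.bwd (nat_lit 5) Steps.nil))))))) (nat_lit 36) (nat_lit 1),
  Rule.mk (nat_lit 5) (nat_lit 116) (Steps.bwd (nat_lit 1) (Steps.fwd (nat_lit 40960) (Steps.fwd (nat_lit 32768) (Steps.bwd (nat_lit 5) (Steps.fwd (nat_lit 16384) (Steps.bwd (nat_lit 6) (Steps.bwd (nat_lit 3) Steps.nil))))))) (nat_lit 36) (nat_lit 0),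
  Rule.mk (nat_lit 5) (nat_lit 146) (Steps.bwd (nat_lit 4) (Steps.bwd (nat_lit 5) (Steps.fwd (nat_lit 24576) (Steps.fwd (nat_lit 49152) (Steps.fwd (nat_lit 24576) (Steps.bwd (nat_lit 5) (Steps.bwd (nat_lit 4) (Steps.bwd (nat_lit 5) (Steps.bwd (nat_lit 4) Steps.nil))))))))) (nat_lit 50) (nat_lit 0),
  Rule.mk (nat_lit 6) (nat_lit 86) (Steps.bwd (nat_lit 4) (Steps.fwd (nat_lit 49152) (Steps.fwd (nat_lit 24576) (Steps.fwd (nat_lit 16384) (Steps.bwd (nat_lit 3) Steps.nil))))) (nat_lit 26) (nat_lit 5),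
  Rule.mk (nat_lit 5) (nat_lit 86) (Steps.bwd (nat_lit 4) (Steps.fwd (nat_lit 16384) (Steps.bwd (nat_lit 3) (Steps.bwd (nat_lit 6) (Steps.bwd (nat_lit 4) Steps.nil))))) (nat_lit 26) (nat_lit 1),
  Rule.mk (nat_lit 3) (nat_lit 146) (Steps.bwd (nat_lit 6) (Steps.bwd (nat_lit 3) (Steps.bwd (nat_lit 6) (Steps.bwd (nat_lit 3) (Steps.bwd (nat_lit 6) (Steps.bwd (nat_lit 3) (Steps.fwd (nat_lit 40960) (Steps.fwd (nat_lit 32768) (Steps.bwd (nat_lit 6) Steps.nil))))))))) (nat_lit 51) (nat_lit 0),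
  Rule.mk (nat_lit 6) (nat_lit 41) (Steps.bwd (nat_lit 6) (Steps.fwd (nat_lit 40960) Steps.nil)) (nat_lit 11) (nat_lit 0),
  Rule.mk (nat_lit 5) (nat_lit 116) (Steps.bwd (nat_lit 1) (Steps.bwd (nat_lit 6) (Steps.bwd (nat_lit 3) (Steps.fwd (nat_lit 49152) (Steps.bwd (nat_lit 1) (Steps.bwd (nat_lit 6) (Steps.bwd (nat_lit 3) Steps.nil))))))) (nat_lit 36) (nat_lit 0),
  Rule.mk (nat_lit 3) (nat_lit 146) (Steps.bwd (nat_lit 6) (Steps.bwd (nat_lit 3) (Steps.bwd (nat_lit 6) (Steps.bwd (nat_lit 3) (Steps.bwd (nat_lit 6) (Steps.bwd (nat_lit 3) (Steps.bwd (nat_lit 6) (Steps.fwd (nat_lit 32768) (Steps.fwd (nat_lit 40960) Steps.nil))))))))) (nat_lit 51) (nat_lit 0),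
  Rule.mk (nat_lit 3) (nat_lit 146) (Steps.bwd (nat_lit 6) (Steps.bwd (nat_lit 3) (Steps.bwd (nat_lit 6) (Steps.bwd (nat_lit 3) (Steps.bwd (nat_lit 6) (Steps.bwd (nat_lit 3) (Steps.bwd (nat_lit 6) (Steps.bwd (nat_lit 3) (Steps.fwd (nat_lit 40960) Steps.nil))))))))) (nat_lit 51) (nat_lit 0),
  Rule.mk (nat_lit 5) (nat_lit 146) (Steps.bwd (nat_lit 4) (Steps.bwd (nat_lit 5) (Steps.fwd (nat_lit 24576) (Steps.bwd (nat_lit 5) (Steps.bwd (nat_lit 4) (Steps.bwd (nat_lit 5) (Steps.bwd (nat_lit 4) (Steps.bwd (nat_lit 5) (Steps.bwd (nat_lit 4) Steps.nil))))))))) (nat_lit 50) (nat_lit 0),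
  Rule.mk (nat_lit 5) (nat_lit 146) (Steps.fwd (nat_lit 24576) (Steps.fwd (nat_lit 49152) (Steps.bwd (nat_lit 4) (Steps.bwd (nat_lit 5) (Steps.fwd (nat_lit 24576) (Steps.fwd (nat_lit 49152) (Steps.fwd (nat_lit 24576) (Steps.bwd (nat_lit 5) (Steps.bwd (nat_lit 4) Steps.nil))))))))) (nat_lit 50) (nat_lit 0),
  Rule.mk (nat_lit 5) (nat_lit 116) (Steps.fwd (nat_lit 8192) (Steps.fwd (nat_lit 40960) (Steps.fwd (nat_lit 24576) (Steps.fwd (nat_lit 49152) (Steps.bwd (nat_lit 2) (Steps.fwd (nat_lit 40960) (Steps.bwd (nat_lit 4) Steps.nil))))))) (nat_lit 37) (nat_lit 3),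
  Rule.mk (nat_lit 3) (nat_lit 41) (Steps.bwd (nat_lit 3) (Steps.fwd (nat_lit 32768) Steps.nil)) (nat_lit 8) (nat_lit 0),
  Rule.mk (nat_lit 6) (nat_lit 116) (Steps.bwd (nat_lit 3) (Steps.bwd (nat_lit 5) (Steps.bwd (nat_lit 1) (Steps.fwd (nat_lit 40960) (Steps.bwd (nat_lit 3) (Steps.bwd (nat_lit 5) (Steps.fwd (nat_lit 16384) Steps.nil))))))) (nat_lit 36) (nat_lit 2),
  Rule.mk (nat_lit 0) (nat_lit 101) (Steps.fwd (nat_lit 8192) (Steps.fwd (nat_lit 32768) (Steps.fwd (nat_lit 40960) (Steps.bwd (nat_lit 3) (Steps.fwd (nat_lit 49152) (Steps.bwd (nat_lit 4) Steps.nil)))))) (nat_lit 27) (nat_lit 3),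
  Rule.mk (nat_lit 1) (nat_lit 41) (Steps.bwd (nat_lit 0) (Steps.fwd (nat_lit 8192) Steps.nil)) (nat_lit 56) (nat_lit 0),
  Rule.mk (nat_lit 2) (nat_lit 41) (Steps.bwd (nat_lit 0) (Steps.bwd (nat_lit 1) Steps.nil)) (nat_lit 56) (nat_lit 0),
  Rule.mk (nat_lit 2) (nat_lit 116) (Steps.bwd (nat_lit 6) (Steps.fwd (nat_lit 24576) (Steps.fwd (nat_lit 49152) (Steps.bwd (nat_lit 2) (Steps.bwd (nat_lit 6) (Steps.fwd (nat_lit 24576) (Steps.bwd (nat_lit 5) Steps.nil))))))) (nat_lit 37) (nat_lit 0),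
  Rule.mk (nat_lit 5) (nat_lit 116) (Steps.bwd (nat_lit 1) (Steps.bwd (nat_lit 6) (Steps.bwd (nat_lit 3) (Steps.fwd (nat_lit 49152) (Steps.fwd (nat_lit 16384) (Steps.fwd (nat_lit 40960) (Steps.fwd (nat_lit 32768) Steps.nil))))))) (nat_lit 36) (nat_lit 0),
  Rule.mk (nat_lit 5) (nat_lit 146) (Steps.bwd (nat_lit 4) (Steps.bwd (nat_lit 5) (Steps.bwd (nat_lit 4) (Steps.bwd (nat_lit 5) (Steps.bwd (nat_lit 4) (Steps.bwd (nat_lit 5) (Steps.bwd (nat_lit 4) (Steps.bwd (nat_lit 5) (Steps.fwd (nat_lit 24576) Steps.nil))))))))) (nat_lit 50) (nat_lit 0),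
  Rule.mk (nat_lit 5) (nat_lit 146) (Steps.fwd (nat_lit 24576) (Steps.fwd (nat_lit 49152) (Steps.bwd (nat_lit 4) (Steps.bwd (nat_lit 5) (Steps.bwd (nat_lit 4) (Steps.bwd (nat_lit 5) (Steps.bwd (nat_lit 4) (Steps.bwd (nat_lit 5) (Steps.bwd (nat_lit 4) Steps.nil))))))))) (nat_lit 50) (nat_lit 0),
  Rule.mk (nat_lit 2) (nat_lit 41) (Steps.bwd (nat_lit 2) (Steps.fwd (nat_lit 8192) Steps.nil)) (nat_lit 7) (nat_lit 0),
  Rule.mk (nat_lit 5) (nat_lit 116) (Steps.bwd (nat_lit 2) (Steps.fwd (nat_lit 40960) (Steps.bwd (nat_lit 4) (Steps.bwd (nat_lit 5) (Steps.bwd (nat_lit 2) (Steps.fwd (nat_lit 40960) (Steps.bwd (nat_lit 4) Steps.nil))))))) (nat_lit 37) (nat_lit 3),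
  Rule.mk (nat_lit 3) (nat_lit 116) (Steps.bwd (nat_lit 5) (Steps.bwd (nat_lit 1) (Steps.fwd (nat_lit 40960) (Steps.bwd (nat_lit 3) (Steps.fwd (nat_lit 49152) (Steps.bwd (nat_lit 1) (Steps.fwd (nat_lit 40960) Steps.nil))))))) (nat_lit 36) (nat_lit 3),
  Rule.mk (nat_lit 2) (nat_lit 86) (Steps.fwd (nat_lit 32768) (Steps.fwd (nat_lit 40960) (Steps.bwd (nat_lit 3) (Steps.bwd (nat_lit 5) (Steps.bwd (nat_lit 4) Steps.nil))))) (nat_lit 27) (nat_lit 4),
  Rule.mk (nat_lit 2) (nat_lit 116) (Steps.fwd (nat_lit 40960) (Steps.fwd (nat_lit 24576) (Steps.fwd (nat_lit 49152) (Steps.bwd (nat_lit 2) (Steps.bwd (nat_lit 6) (Steps.fwd (nat_lit 24576) (Steps.bwd (nat_lit 5) Steps.nil))))))) (nat_lit 37) (nat_lit 0),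
  Rule.mk (nat_lit 3) (nat_lit 86) (Steps.bwd (nat_lit 5) (Steps.bwd (nat_lit 4) (Steps.bwd (nat_lit 2) (Steps.fwd (nat_lit 32768) (Steps.fwd (nat_lit 40960) Steps.nil))))) (nat_lit 27) (nat_lit 1),
  Rule.mk (nat_lit 5) (nat_lit 146) (Steps.bwd (nat_lit 4) (Steps.bwd (nat_lit 5) (Steps.fwd (nat_lit 24576) (Steps.bwd (nat_lit 5) (Steps.bwd (nat_lit 4) (Steps.bwd (nat_lit 5) (Steps.fwd (nat_lit 24576) (Steps.fwd (nat_lit 49152) (Steps.fwd (nat_lit 24576) Steps.nil))))))))) (nat_lit 50) (nat_lit 0),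
  Rule.mk (nat_lit 3) (nat_lit 146) (Steps.bwd (nat_lit 6) (Steps.fwd (nat_lit 32768) (Steps.fwd (nat_lit 40960) (Steps.bwd (nat_lit 3) (Steps.bwd (nat_lit 6) (Steps.bwd (nat_lit 3) (Steps.bwd (nat_lit 6) (Steps.bwd (nat_lit 3) (Steps.bwd (nat_lit 6) Steps.nil))))))))) (nat_lit 51) (nat_lit 0),
  Rule.mk (nat_lit 4) (nat_lit 41) (Steps.bwd (nat_lit 4) (Steps.fwd (nat_lit 24576) Steps.nil)) (nat_lit 9) (nat_lit 0),
  Rule.mk (nat_lit 2) (nat_lit 116) (Steps.bwd (nat_lit 6) (Steps.bwd (nat_lit 4) (Steps.bwd (nat_lit 5) (Steps.fwd (nat_lit 8192) (Steps.fwd (nat_lit 40960) (Steps.fwd (nat_lit 24576) (Steps.fwd (nat_lit 49152) Steps.nil))))))) (nat_lit 37) (nat_lit 0),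
  Rule.mk (nat_lit 5) (nat_lit 86) (Steps.bwd (nat_lit 4) (Steps.bwd (nat_lit 1) (Steps.fwd (nat_lit 32768) (Steps.fwd (nat_lit 40960) (Steps.fwd (nat_lit 24576) Steps.nil))))) (nat_lit 26) (nat_lit 1),
  Rule.mk (nat_lit 2) (nat_lit 116) (Steps.fwd (nat_lit 40960) (Steps.fwd (nat_lit 24576) (Steps.bwd (nat_lit 5) (Steps.fwd (nat_lit 8192) (Steps.fwd (nat_lit 40960) (Steps.fwd (nat_lit 24576) (Steps.bwd (nat_lit 5) Steps.nil))))))) (nat_lit 37) (nat_lit 0),
  Rule.mk (nat_lit 6) (nat_lit 86) (Steps.bwd (nat_lit 3) (Steps.fwd (nat_lit 49152) (Steps.fwd (nat_lit 24576) (Steps.bwd (nat_lit 2) (Steps.bwd (nat_lit 3) Steps.nil))))) (nat_lit 27) (nat_lit 0),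
  Rule.mk (nat_lit 5) (nat_lit 146) (Steps.bwd (nat_lit 4) (Steps.bwd (nat_lit 5) (Steps.fwd (nat_lit 24576) (Steps.fwd (nat_lit 49152) (Steps.fwd (nat_lit 24576) (Steps.fwd (nat_lit 49152) (Steps.bwd (nat_lit 4) (Steps.fwd (nat_lit 49152) (Steps.fwd (nat_lit 24576) Steps.nil))))))))) (nat_lit 50) (nat_lit 0),
  Rule.mk (nat_lit 5) (nat_lit 116) (Steps.bwd (nat_lit 2) (Steps.fwd (nat_lit 40960) (Steps.bwd (nat_lit 4) (Steps.bwd (nat_lit 5) (Steps.fwd (nat_lit 8192) (Steps.fwd (nat_lit 40960) (Steps.bwd (nat_lit 4) Steps.nil))))))) (nat_lit 37) (nat_lit 3),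
  Rule.mk (nat_lit 3) (nat_lit 86) (Steps.bwd (nat_lit 5) (Steps.bwd (nat_lit 4) (Steps.bwd (nat_lit 2) (Steps.fwd (nat_lit 32768) (Steps.bwd (nat_lit 6) Steps.nil))))) (nat_lit 27) (nat_lit 1),
  Rule.mk (nat_lit 1) (nat_lit 116) (Steps.bwd (nat_lit 6) (Steps.fwd (nat_lit 32768) (Steps.bwd (nat_lit 5) (Steps.fwd (nat_lit 16384) (Steps.bwd (nat_lit 6) (Steps.bwd (nat_lit 3) (Steps.bwd (nat_lit 5) Steps.nil))))))) (nat_lit 36) (nat_lit 1),
  Rule.mk (nat_lit 5) (nat_lit 146) (Steps.bwd (nat_lit 4) (Steps.bwd (nat_lit 5) (Steps.fwd (nat_lit 24576) (Steps.fwd (nat_lit 49152) (Steps.fwd (nat_lit 24576) (Steps.fwd (nat_lit 49152) (Steps.bwd (nat_lit 4) (Steps.bwd (nat_lit 5) (Steps.bwd (nat_lit 4) Steps.nil))))))))) (nat_lit 50) (nat_lit 0),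
  Rule.mk (nat_lit 5) (nat_lit 116) (Steps.bwd (nat_lit 1) (Steps.bwd (nat_lit 6) (Steps.fwd (nat_lit 32768) (Steps.fwd (nat_lit 49152) (Steps.fwd (nat_lit 16384) (Steps.bwd (nat_lit 6) (Steps.bwd (nat_lit 3) Steps.nil))))))) (nat_lit 36) (nat_lit 0),
  Rule.mk (nat_lit 6) (nat_lit 116) (Steps.bwd (nat_lit 3) (Steps.bwd (nat_lit 5) (Steps.fwd (nat_lit 16384) (Steps.bwd (nat_lit 6) (Steps.fwd (nat_lit 32768) (Steps.fwd (nat_lit 49152) (Steps.fwd (nat_lit 16384) Steps.nil))))))) (nat_lit 36) (nat_lit 2),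
  Rule.mk (nat_lit 2) (nat_lit 86) (Steps.fwd (nat_lit 32768) (Steps.bwd (nat_lit 6) (Steps.bwd (nat_lit 3) (Steps.bwd (nat_lit 5) (Steps.bwd (nat_lit 4) Steps.nil))))) (nat_lit 27) (nat_lit 4),
  Rule.mk (nat_lit 3) (nat_lit 116) (Steps.bwd (nat_lit 5) (Steps.bwd (nat_lit 1) (Steps.bwd (nat_lit 6) (Steps.fwd (nat_lit 32768) (Steps.bwd (nat_lit 5) (Steps.fwd (nat_lit 16384) (Steps.bwd (nat_lit 6) Steps.nil))))))) (nat_lit 36) (nat_lit 3),
  Rule.mk (nat_lit 1) (nat_lit 86) (Steps.bwd (nat_lit 3) (Steps.fwd (nat_lit 40960) (Steps.fwd (nat_lit 24576) (Steps.fwd (nat_lit 49152) (Steps.bwd (nat_lit 4) Steps.nil))))) (nat_lit 26) (nat_lit 3)]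
noncomputable def R_3 : List (Rule) := [Rule.mk (nat_lit 6) (nat_lit 116) (Steps.bwd (nat_lit 3) (Steps.fwd (nat_lit 49152) (Steps.fwd (nat_lit 16384) (Steps.bwd (nat_lit 6) (Steps.bwd (nat_lit 3) (Steps.fwd (nat_lit 49152) (Steps.bwd (nat_lit 1) Steps.nil))))))) (nat_lit 36) (nat_lit 2),
  Rule.mk (nat_lit 3) (nat_lit 86) (Steps.bwd (nat_lit 6) (Steps.bwd (nat_lit 4) (Steps.bwd (nat_lit 5) (Steps.fwd (nat_lit 24576) (Steps.fwd (nat_lit 16384) Steps.nil))))) (nat_lit 26) (nat_lit 4),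
  Rule.mk (nat_lit 4) (nat_lit 86) (Steps.bwd (nat_lit 5) (Steps.bwd (nat_lit 4) (Steps.bwd (nat_lit 1) (Steps.fwd (nat_lit 32768) (Steps.fwd (nat_lit 40960) Steps.nil))))) (nat_lit 26) (nat_lit 0),
  Rule.mk (nat_lit 4) (nat_lit 86) (Steps.bwd (nat_lit 1) (Steps.bwd (nat_lit 3) (Steps.fwd (nat_lit 40960) (Steps.bwd (nat_lit 4) (Steps.fwd (nat_lit 49152) Steps.nil))))) (nat_lit 26) (nat_lit 2),
  Rule.mk (nat_lit 5) (nat_lit 146) (Steps.bwd (nat_lit 4) (Steps.fwd (nat_lit 49152) (Steps.fwd (nat_lit 24576) (Steps.fwd (nat_lit 49152) (Steps.fwd (nat_lit 24576) (Steps.bwd (nat_lit 5) (Steps.bwd (nat_lit 4) (Steps.fwd (nat_lit 49152) (Steps.bwd (nat_lit 4) Steps.nil))))))))) (nat_lit 50) (nat_lit 0),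
  Rule.mk (nat_lit 5) (nat_lit 86) (Steps.bwd (nat_lit 4) (Steps.bwd (nat_lit 1) (Steps.bwd (nat_lit 3) (Steps.fwd (nat_lit 40960) (Steps.fwd (nat_lit 24576) Steps.nil))))) (nat_lit 26) (nat_lit 1),
  Rule.mk (nat_lit 5) (nat_lit 146) (Steps.fwd (nat_lit 24576) (Steps.fwd (nat_lit 49152) (Steps.bwd (nat_lit 4) (Steps.bwd (nat_lit 5) (Steps.bwd (nat_lit 4) (Steps.bwd (nat_lit 5) (Steps.fwd (nat_lit 24576) (Steps.bwd (nat_lit 5) (Steps.bwd (nat_lit 4) Steps.nil))))))))) (nat_lit 50) (nat_lit 0),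
  Rule.mk (nat_lit 5) (nat_lit 86) (Steps.bwd (nat_lit 4) (Steps.bwd (nat_lit 2) (Steps.fwd (nat_lit 32768) (Steps.fwd (nat_lit 40960) (Steps.bwd (nat_lit 3) Steps.nil))))) (nat_lit 27) (nat_lit 2),
  Rule.mk (nat_lit 1) (nat_lit 116) (Steps.bwd (nat_lit 6) (Steps.bwd (nat_lit 3) (Steps.fwd (nat_lit 49152) (Steps.bwd (nat_lit 1) (Steps.fwd (nat_lit 40960) (Steps.bwd (nat_lit 3) (Steps.bwd (nat_lit 5) Steps.nil))))))) (nat_lit 36) (nat_lit 1),
  Rule.mk (nat_lit 1) (nat_lit 41) (Steps.bwd (nat_lit 1) (Steps.fwd (nat_lit 16384) Steps.nil)) (nat_lit 6) (nat_lit 0),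
  Rule.mk (nat_lit 3) (nat_lit 86) (Steps.bwd (nat_lit 6) (Steps.fwd (nat_lit 24576) (Steps.bwd (nat_lit 5) (Steps.bwd (nat_lit 4) (Steps.bwd (nat_lit 1) Steps.nil))))) (nat_lit 26) (nat_lit 4),
  Rule.mk (nat_lit 3) (nat_lit 116) (Steps.bwd (nat_lit 5) (Steps.bwd (nat_lit 1) (Steps.bwd (nat_lit 6) (Steps.fwd (nat_lit 32768) (Steps.bwd (nat_lit 5) (Steps.bwd (nat_lit 1) (Steps.bwd (nat_lit 6) Steps.nil))))))) (nat_lit 36) (nat_lit 3),
  Rule.mk (nat_lit 5) (nat_lit 146) (Steps.bwd (nat_lit 4) (Steps.bwd (nat_lit 5) (Steps.fwd (nat_lit 24576) (Steps.bwd (nat_lit 5) (Steps.bwd (nat_lit 4) (Steps.bwd (nat_lit 5) (Steps.bwd (nat_lit 4) (Steps.fwd (nat_lit 49152) (Steps.fwd (nat_lit 24576) Steps.nil))))))))) (nat_lit 50) (nat_lit 0),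
  Rule.mk (nat_lit 5) (nat_lit 116) (Steps.bwd (nat_lit 2) (Steps.bwd (nat_lit 6) (Steps.fwd (nat_lit 24576) (Steps.fwd (nat_lit 49152) (Steps.bwd (nat_lit 2) (Steps.fwd (nat_lit 40960) (Steps.fwd (nat_lit 24576) Steps.nil))))))) (nat_lit 37) (nat_lit 3),
  Rule.mk (nat_lit 4) (nat_lit 86) (Steps.bwd (nat_lit 1) (Steps.fwd (nat_lit 32768) (Steps.fwd (nat_lit 40960) (Steps.fwd (nat_lit 24576) (Steps.bwd (nat_lit 5) Steps.nil))))) (nat_lit 26) (nat_lit 2),
  Rule.mk (nat_lit 0) (nat_lit 101) (Steps.bwd (nat_lit 4) (Steps.bwd (nat_lit 2) (Steps.bwd (nat_lit 3) (Steps.fwd (nat_lit 40960) (Steps.fwd (nat_lit 32768) (Steps.bwd (nat_lit 5) Steps.nil)))))) (nat_lit 27) (nat_lit 2),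
  Rule.mk (nat_lit 3) (nat_lit 41) (Steps.bwd (nat_lit 0) (Steps.bwd (nat_lit 4) Steps.nil)) (nat_lit 56) (nat_lit 0),
  Rule.mk (nat_lit 4) (nat_lit 41) (Steps.bwd (nat_lit 0) (Steps.fwd (nat_lit 32768) Steps.nil)) (nat_lit 56) (nat_lit 0),
  Rule.mk (nat_lit 2) (nat_lit 86) (Steps.bwd (nat_lit 3) (Steps.fwd (nat_lit 40960) (Steps.bwd (nat_lit 3) (Steps.bwd (nat_lit 5) (Steps.bwd (nat_lit 4) Steps.nil))))) (nat_lit 27) (nat_lit 4),
  Rule.mk (nat_lit 4) (nat_lit 116) (Steps.bwd (nat_lit 5) (Steps.fwd (nat_lit 8192) (Steps.bwd (nat_lit 6) (Steps.fwd (nat_lit 24576) (Steps.bwd (nat_lit 5) (Steps.fwd (nat_lit 8192) (Steps.bwd (nat_lit 6) Steps.nil))))))) (nat_lit 37) (nat_lit 2),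
  Rule.mk (nat_lit 5) (nat_lit 146) (Steps.bwd (nat_lit 4) (Steps.bwd (nat_lit 5) (Steps.bwd (nat_lit 4) (Steps.fwd (nat_lit 49152) (Steps.bwd (nat_lit 4) (Steps.bwd (nat_lit 5) (Steps.bwd (nat_lit 4) (Steps.bwd (nat_lit 5) (Steps.bwd (nat_lit 4) Steps.nil))))))))) (nat_lit 50) (nat_lit 0),
  Rule.mk (nat_lit 1) (nat_lit 116) (Steps.bwd (nat_lit 6) (Steps.fwd (nat_lit 32768) (Steps.bwd (nat_lit 5) (Steps.bwd (nat_lit 1) (Steps.bwd (nat_lit 6) (Steps.fwd (nat_lit 32768) (Steps.bwd (nat_lit 5) Steps.nil))))))) (nat_lit 36) (nat_lit 1),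
  Rule.mk (nat_lit 3) (nat_lit 86) (Steps.bwd (nat_lit 5) (Steps.bwd (nat_lit 4) (Steps.fwd (nat_lit 8192) (Steps.fwd (nat_lit 32768) (Steps.bwd (nat_lit 6) Steps.nil))))) (nat_lit 27) (nat_lit 1),
  Rule.mk (nat_lit 5) (nat_lit 146) (Steps.bwd (nat_lit 4) (Steps.bwd (nat_lit 5) (Steps.fwd (nat_lit 24576) (Steps.fwd (nat_lit 49152) (Steps.bwd (nat_lit 4) (Steps.bwd (nat_lit 5) (Steps.bwd (nat_lit 4) (Steps.fwd (nat_lit 49152) (Steps.fwd (nat_lit 24576) Steps.nil))))))))) (nat_lit 50) (nat_lit 0),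
  Rule.mk (nat_lit 1) (nat_lit 116) (Steps.bwd (nat_lit 6) (Steps.bwd (nat_lit 3) (Steps.fwd (nat_lit 49152) (Steps.bwd (nat_lit 1) (Steps.bwd (nat_lit 6) (Steps.bwd (nat_lit 3) (Steps.fwd (nat_lit 49152) Steps.nil))))))) (nat_lit 36) (nat_lit 1),
  Rule.mk (nat_lit 5) (nat_lit 86) (Steps.bwd (nat_lit 4) (Steps.bwd (nat_lit 2) (Steps.bwd (nat_lit 3) (Steps.fwd (nat_lit 40960) (Steps.fwd (nat_lit 32768) Steps.nil))))) (nat_lit 27) (nat_lit 2),
  Rule.mk (nat_lit 6) (nat_lit 116) (Steps.fwd (nat_lit 32768) (Steps.bwd (nat_lit 5) (Steps.bwd (nat_lit 1) (Steps.bwd (nat_lit 6) (Steps.bwd (nat_lit 3) (Steps.fwd (nat_lit 49152) (Steps.bwd (nat_lit 1) Steps.nil))))))) (nat_lit 36) (nat_lit 2),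
  Rule.mk (nat_lit 2) (nat_lit 86) (Steps.bwd (nat_lit 3) (Steps.bwd (nat_lit 6) (Steps.fwd (nat_lit 32768) (Steps.bwd (nat_lit 5) (Steps.fwd (nat_lit 24576) Steps.nil))))) (nat_lit 27) (nat_lit 4),
  Rule.mk (nat_lit 5) (nat_lit 116) (Steps.bwd (nat_lit 1) (Steps.bwd (nat_lit 6) (Steps.bwd (nat_lit 3) (Steps.fwd (nat_lit 49152) (Steps.fwd (nat_lit 16384) (Steps.fwd (nat_lit 40960) (Steps.bwd (nat_lit 3) Steps.nil))))))) (nat_lit 36) (nat_lit 0),
  Rule.mk (nat_lit 6) (nat_lit 116) (Steps.bwd (nat_lit 4) (Steps.bwd (nat_lit 5) (Steps.fwd (nat_lit 8192) (Steps.fwd (nat_lit 40960) (Steps.bwd (nat_lit 4) (Steps.bwd (nat_lit 5) (Steps.fwd (nat_lit 8192) Steps.nil))))))) (nat_lit 37) (nat_lit 1),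
  Rule.mk (nat_lit 0) (nat_lit 101) (Steps.fwd (nat_lit 8192) (Steps.bwd (nat_lit 3) (Steps.fwd (nat_lit 40960) (Steps.fwd (nat_lit 32768) (Steps.fwd (nat_lit 49152) (Steps.fwd (nat_lit 24576) Steps.nil)))))) (nat_lit 27) (nat_lit 3),
  Rule.mk (nat_lit 5) (nat_lit 146) (Steps.bwd (nat_lit 4) (Steps.bwd (nat_lit 5) (Steps.fwd (nat_lit 24576) (Steps.bwd (nat_lit 5) (Steps.bwd (nat_lit 4) (Steps.bwd (nat_lit 5) (Steps.bwd (nat_lit 4) (Steps.bwd (nat_lit 5) (Steps.fwd (nat_lit 24576) Steps.nil))))))))) (nat_lit 50) (nat_lit 0),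
  Rule.mk (nat_lit 2) (nat_lit 116) (Steps.fwd (nat_lit 40960) (Steps.bwd (nat_lit 4) (Steps.bwd (nat_lit 5) (Steps.fwd (nat_lit 8192) (Steps.fwd (nat_lit 40960) (Steps.fwd (nat_lit 24576) (Steps.bwd (nat_lit 5) Steps.nil))))))) (nat_lit 37) (nat_lit 0),
  Rule.mk (nat_lit 6) (nat_lit 116) (Steps.bwd (nat_lit 4) (Steps.bwd (nat_lit 5) (Steps.fwd (nat_lit 8192) (Steps.fwd (nat_lit 40960) (Steps.bwd (nat_lit 4) (Steps.bwd (nat_lit 5) (Steps.bwd (nat_lit 2) Steps.nil))))))) (nat_lit 37) (nat_lit 1),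
  Rule.mk (nat_lit 4) (nat_lit 86) (Steps.bwd (nat_lit 1) (Steps.fwd (nat_lit 32768) (Steps.fwd (nat_lit 40960) (Steps.bwd (nat_lit 4) (Steps.fwd (nat_lit 49152) Steps.nil))))) (nat_lit 26) (nat_lit 2),
  Rule.mk (nat_lit 6) (nat_lit 116) (Steps.bwd (nat_lit 4) (Steps.bwd (nat_lit 5) (Steps.bwd (nat_lit 2) (Steps.fwd (nat_lit 40960) (Steps.bwd (nat_lit 4) (Steps.fwd (nat_lit 49152) (Steps.bwd (nat_lit 2) Steps.nil))))))) (nat_lit 37) (nat_lit 1),
  Rule.mk (nat_lit 1) (nat_lit 86) (Steps.fwd (nat_lit 32768) (Steps.bwd (nat_lit 6) (Steps.bwd (nat_lit 4) (Steps.bwd (nat_lit 5) (Steps.bwd (nat_lit 4) Steps.nil))))) (nat_lit 26) (nat_lit 3),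
  Rule.mk (nat_lit 5) (nat_lit 86) (Steps.bwd (nat_lit 4) (Steps.bwd (nat_lit 2) (Steps.bwd (nat_lit 3) (Steps.bwd (nat_lit 6) (Steps.bwd (nat_lit 3) Steps.nil))))) (nat_lit 27) (nat_lit 2),
  Rule.mk (nat_lit 1) (nat_lit 116) (Steps.bwd (nat_lit 6) (Steps.bwd (nat_lit 3) (Steps.fwd (nat_lit 49152) (Steps.bwd (nat_lit 1) (Steps.bwd (nat_lit 6) (Steps.bwd (nat_lit 3) (Steps.bwd (nat_lit 5) Steps.nil))))))) (nat_lit 36) (nat_lit 1),
  Rule.mk (nat_lit 5) (nat_lit 41) (Steps.bwd (nat_lit 5) (Steps.fwd (nat_lit 49152) Steps.nil)) (nat_lit 10) (nat_lit 0),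
  Rule.mk (nat_lit 1) (nat_lit 116) (Steps.fwd (nat_lit 40960) (Steps.bwd (nat_lit 3) (Steps.fwd (nat_lit 49152) (Steps.fwd (nat_lit 16384) (Steps.fwd (nat_lit 40960) (Steps.fwd (nat_lit 32768) (Steps.bwd (nat_lit 5) Steps.nil))))))) (nat_lit 36) (nat_lit 1),
  Rule.mk (nat_lit 4) (nat_lit 86) (Steps.bwd (nat_lit 2) (Steps.bwd (nat_lit 3) (Steps.bwd (nat_lit 6) (Steps.bwd (nat_lit 3) (Steps.fwd (nat_lit 49152) Steps.nil))))) (nat_lit 27) (nat_lit 3),
  Rule.mk (nat_lit 5) (nat_lit 146) (Steps.bwd (nat_lit 4) (Steps.bwd (nat_lit 5) (Steps.bwd (nat_lit 4) (Steps.bwd (nat_lit 5) (Steps.bwd (nat_lit 4) (Steps.bwd (nat_lit 5) (Steps.bwd (nat_lit 4) (Steps.fwd (nat_lit 49152) (Steps.fwd (nat_lit 24576) Steps.nil))))))))) (nat_lit 50) (nat_lit 0),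
  Rule.mk (nat_lit 6) (nat_lit 146) (Steps.bwd (nat_lit 3) (Steps.bwd (nat_lit 6) (Steps.fwd (nat_lit 32768) (Steps.fwd (nat_lit 40960) (Steps.fwd (nat_lit 32768) (Steps.fwd (nat_lit 40960) (Steps.bwd (nat_lit 3) (Steps.bwd (nat_lit 6) (Steps.bwd (nat_lit 3) Steps.nil))))))))) (nat_lit 51) (nat_lit 1),
  Rule.mk (nat_lit 4) (nat_lit 86) (Steps.fwd (nat_lit 8192) (Steps.bwd (nat_lit 3) (Steps.bwd (nat_lit 6) (Steps.bwd (nat_lit 3) (Steps.fwd (nat_lit 49152) Steps.nil))))) (nat_lit 27) (nat_lit 3),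
  Rule.mk (nat_lit 6) (nat_lit 86) (Steps.bwd (nat_lit 3) (Steps.bwd (nat_lit 5) (Steps.bwd (nat_lit 4) (Steps.fwd (nat_lit 8192) (Steps.fwd (nat_lit 32768) Steps.nil))))) (nat_lit 27) (nat_lit 0),
  Rule.mk (nat_lit 6) (nat_lit 86) (Steps.bwd (nat_lit 4) (Steps.bwd (nat_lit 5) (Steps.fwd (nat_lit 24576) (Steps.bwd (nat_lit 1) (Steps.bwd (nat_lit 3) Steps.nil))))) (nat_lit 26) (nat_lit 5),
  Rule.mk (nat_lit 5) (nat_lit 146) (Steps.bwd (nat_lit 4) (Steps.bwd (nat_lit 5) (Steps.fwd (nat_lit 24576) (Steps.fwd (nat_lit 49152) (Steps.fwd (nat_lit 24576) (Steps.bwd (nat_lit 5) (Steps.bwd (nat_lit 4) (Steps.fwd (nat_lit 49152) (Steps.fwd (nat_lit 24576) Steps.nil))))))))) (nat_lit 50) (nat_lit 0),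
  Rule.mk (nat_lit 1) (nat_lit 116) (Steps.bwd (nat_lit 6) (Steps.bwd (nat_lit 3) (Steps.bwd (nat_lit 5) (Steps.fwd (nat_lit 16384) (Steps.fwd (nat_lit 40960) (Steps.bwd (nat_lit 3) (Steps.fwd (nat_lit 49152) Steps.nil))))))) (nat_lit 36) (nat_lit 1),
  Rule.mk (nat_lit 5) (nat_lit 116) (Steps.bwd (nat_lit 2) (Steps.bwd (nat_lit 6) (Steps.bwd (nat_lit 4) (Steps.bwd (nat_lit 5) (Steps.bwd (nat_lit 2) (Steps.fwd (nat_lit 40960) (Steps.fwd (nat_lit 24576) Steps.nil))))))) (nat_lit 37) (nat_lit 3),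
  Rule.mk (nat_lit 5) (nat_lit 146) (Steps.bwd (nat_lit 4) (Steps.bwd (nat_lit 5) (Steps.bwd (nat_lit 4) (Steps.fwd (nat_lit 49152) (Steps.bwd (nat_lit 4) (Steps.bwd (nat_lit 5) (Steps.fwd (nat_lit 24576) (Steps.bwd (nat_lit 5) (Steps.bwd (nat_lit 4) Steps.nil))))))))) (nat_lit 50) (nat_lit 0),
  Rule.mk (nat_lit 4) (nat_lit 86) (Steps.bwd (nat_lit 1) (Steps.fwd (nat_lit 32768) (Steps.bwd (nat_lit 6) (Steps.bwd (nat_lit 4) (Steps.bwd (nat_lit 5) Steps.nil))))) (nat_lit 26) (nat_lit 2),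
  Rule.mk (nat_lit 6) (nat_lit 86) (Steps.bwd (nat_lit 4) (Steps.bwd (nat_lit 5) (Steps.fwd (nat_lit 24576) (Steps.bwd (nat_lit 1) (Steps.fwd (nat_lit 32768) Steps.nil))))) (nat_lit 26) (nat_lit 5),
  Rule.mk (nat_lit 1) (nat_lit 116) (Steps.bwd (nat_lit 6) (Steps.fwd (nat_lit 32768) (Steps.bwd (nat_lit 5) (Steps.bwd (nat_lit 1) (Steps.fwd (nat_lit 40960) (Steps.fwd (nat_lit 32768) (Steps.fwd (nat_lit 49152) Steps.nil))))))) (nat_lit 36) (nat_lit 1),
  Rule.mk (nat_lit 3) (nat_lit 146) (Steps.bwd (nat_lit 6) (Steps.bwd (nat_lit 3) (Steps.bwd (nat_lit 6) (Steps.fwd (nat_lit 32768) (Steps.bwd (nat_lit 6) (Steps.bwd (nat_lit 3) (Steps.bwd (nat_lit 6) (Steps.bwd (nat_lit 3) (Steps.bwd (nat_lit 6) Steps.nil))))))))) (nat_lit 51) (nat_lit 0),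
  Rule.mk (nat_lit 5) (nat_lit 116) (Steps.bwd (nat_lit 2) (Steps.fwd (nat_lit 40960) (Steps.fwd (nat_lit 24576) (Steps.fwd (nat_lit 49152) (Steps.fwd (nat_lit 8192) (Steps.fwd (nat_lit 40960) (Steps.bwd (nat_lit 4) Steps.nil))))))) (nat_lit 37) (nat_lit 3),
  Rule.mk (nat_lit 6) (nat_lit 116) (Steps.bwd (nat_lit 3) (Steps.bwd (nat_lit 5) (Steps.fwd (nat_lit 16384) (Steps.bwd (nat_lit 6) (Steps.bwd (nat_lit 3) (Steps.fwd (nat_lit 49152) (Steps.fwd (nat_lit 16384) Steps.nil))))))) (nat_lit 36) (nat_lit 2),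
  Rule.mk (nat_lit 4) (nat_lit 116) (Steps.bwd (nat_lit 5) (Steps.bwd (nat_lit 2) (Steps.fwd (nat_lit 40960) (Steps.bwd (nat_lit 4) (Steps.bwd (nat_lit 5) (Steps.fwd (nat_lit 8192) (Steps.fwd (nat_lit 40960) Steps.nil))))))) (nat_lit 37) (nat_lit 2),
  Rule.mk (nat_lit 2) (nat_lit 86) (Steps.fwd (nat_lit 32768) (Steps.fwd (nat_lit 40960) (Steps.fwd (nat_lit 32768) (Steps.bwd (nat_lit 5) (Steps.bwd (nat_lit 4) Steps.nil))))) (nat_lit 27) (nat_lit 4),
  Rule.mk (nat_lit 5) (nat_lit 146) (Steps.fwd (nat_lit 24576) (Steps.fwd (nat_lit 49152) (Steps.bwd (nat_lit 4) (Steps.bwd (nat_lit 5) (Steps.fwd (nat_lit 24576) (Steps.fwd (nat_lit 49152) (Steps.fwd (nat_lit 24576) (Steps.fwd (nat_lit 49152) (Steps.fwd (nat_lit 24576) Steps.nil))))))))) (nat_lit 50) (nat_lit 0),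
  Rule.mk (nat_lit 6) (nat_lit 116) (Steps.bwd (nat_lit 4) (Steps.bwd (nat_lit 5) (Steps.bwd (nat_lit 2) (Steps.fwd (nat_lit 40960) (Steps.fwd (nat_lit 24576) (Steps.fwd (nat_lit 49152) (Steps.bwd (nat_lit 2) Steps.nil))))))) (nat_lit 37) (nat_lit 1),
  Rule.mk (nat_lit 5) (nat_lit 116) (Steps.bwd (nat_lit 2) (Steps.fwd (nat_lit 40960) (Steps.bwd (nat_lit 4) (Steps.fwd (nat_lit 49152) (Steps.bwd (nat_lit 2) (Steps.fwd (nat_lit 40960) (Steps.bwd (nat_lit 4) Steps.nil))))))) (nat_lit 37) (nat_lit 3),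
  Rule.mk (nat_lit 3) (nat_lit 146) (Steps.bwd (nat_lit 6) (Steps.bwd (nat_lit 3) (Steps.bwd (nat_lit 6) (Steps.fwd (nat_lit 32768) (Steps.fwd (nat_lit 40960) (Steps.fwd (nat_lit 32768) (Steps.fwd (nat_lit 40960) (Steps.fwd (nat_lit 32768) (Steps.fwd (nat_lit 40960) Steps.nil))))))))) (nat_lit 51) (nat_lit 0),
  Rule.mk (nat_lit 6) (nat_lit 116) (Steps.bwd (nat_lit 3) (Steps.bwd (nat_lit 5) (Steps.fwd (nat_lit 16384) (Steps.bwd (nat_lit 6) (Steps.fwd (nat_lit 32768) (Steps.bwd (nat_lit 5) (Steps.fwd (nat_lit 16384) Steps.nil))))))) (nat_lit 36) (nat_lit 2)]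
noncomputable def R_4 : List (Rule) := [Rule.mk (nat_lit 3) (nat_lit 86) (Steps.bwd (nat_lit 6) (Steps.bwd (nat_lit 4) (Steps.fwd (nat_lit 49152) (Steps.bwd (nat_lit 4) (Steps.fwd (nat_lit 16384) Steps.nil))))) (nat_lit 26) (nat_lit 4),
  Rule.mk (nat_lit 5) (nat_lit 86) (Steps.bwd (nat_lit 4) (Steps.bwd (nat_lit 2) (Steps.fwd (nat_lit 32768) (Steps.bwd (nat_lit 6) (Steps.bwd (nat_lit 3) Steps.nil))))) (nat_lit 27) (nat_lit 2),
  Rule.mk (nat_lit 5) (nat_lit 41) (Steps.fwd (nat_lit 49152) (Steps.bwd (nat_lit 5) Steps.nil)) (nat_lit 10) (nat_lit 0),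
  Rule.mk (nat_lit 6) (nat_lit 116) (Steps.fwd (nat_lit 32768) (Steps.bwd (nat_lit 5) (Steps.bwd (nat_lit 1) (Steps.fwd (nat_lit 40960) (Steps.fwd (nat_lit 32768) (Steps.bwd (nat_lit 5) (Steps.bwd (nat_lit 1) Steps.nil))))))) (nat_lit 36) (nat_lit 2),
  Rule.mk (nat_lit 3) (nat_lit 116) (Steps.bwd (nat_lit 5) (Steps.bwd (nat_lit 1) (Steps.bwd (nat_lit 6) (Steps.bwd (nat_lit 3) (Steps.fwd (nat_lit 49152) (Steps.bwd (nat_lit 1) (Steps.bwd (nat_lit 6) Steps.nil))))))) (nat_lit 36) (nat_lit 3),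
  Rule.mk (nat_lit 4) (nat_lit 146) (Steps.bwd (nat_lit 5) (Steps.bwd (nat_lit 4) (Steps.fwd (nat_lit 49152) (Steps.fwd (nat_lit 24576) (Steps.fwd (nat_lit 49152) (Steps.fwd (nat_lit 24576) (Steps.bwd (nat_lit 5) (Steps.bwd (nat_lit 4) (Steps.bwd (nat_lit 5) Steps.nil))))))))) (nat_lit 50) (nat_lit 1),
  Rule.mk (nat_lit 3) (nat_lit 86) (Steps.bwd (nat_lit 6) (Steps.fwd (nat_lit 32768) (Steps.bwd (nat_lit 5) (Steps.bwd (nat_lit 4) (Steps.fwd (nat_lit 8192) Steps.nil))))) (nat_lit 27) (nat_lit 5),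
  Rule.mk (nat_lit 1) (nat_lit 116) (Steps.bwd (nat_lit 6) (Steps.fwd (nat_lit 32768) (Steps.bwd (nat_lit 5) (Steps.bwd (nat_lit 1) (Steps.bwd (nat_lit 6) (Steps.fwd (nat_lit 32768) (Steps.fwd (nat_lit 49152) Steps.nil))))))) (nat_lit 36) (nat_lit 1),
  Rule.mk (nat_lit 3) (nat_lit 86) (Steps.bwd (nat_lit 5) (Steps.bwd (nat_lit 4) (Steps.fwd (nat_lit 8192) (Steps.fwd (nat_lit 32768) (Steps.fwd (nat_lit 40960) Steps.nil))))) (nat_lit 27) (nat_lit 1),
  Rule.mk (nat_lit 6) (nat_lit 116) (Steps.bwd (nat_lit 4) (Steps.bwd (nat_lit 5) (Steps.bwd (nat_lit 2) (Steps.fwd (nat_lit 40960) (Steps.fwd (nat_lit 24576) (Steps.fwd (nat_lit 49152) (Steps.fwd (nat_lit 8192) Steps.nil))))))) (nat_lit 37) (nat_lit 1),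
  Rule.mk (nat_lit 6) (nat_lit 146) (Steps.bwd (nat_lit 3) (Steps.bwd (nat_lit 6) (Steps.bwd (nat_lit 3) (Steps.bwd (nat_lit 6) (Steps.fwd (nat_lit 32768) (Steps.bwd (nat_lit 6) (Steps.bwd (nat_lit 3) (Steps.bwd (nat_lit 6) (Steps.bwd (nat_lit 3) Steps.nil))))))))) (nat_lit 51) (nat_lit 1),
  Rule.mk (nat_lit 4) (nat_lit 116) (Steps.bwd (nat_lit 5) (Steps.bwd (nat_lit 2) (Steps.bwd (nat_lit 6) (Steps.fwd (nat_lit 24576) (Steps.fwd (nat_lit 49152) (Steps.bwd (nat_lit 2) (Steps.fwd (nat_lit 40960) Steps.nil))))))) (nat_lit 37) (nat_lit 2),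
  Rule.mk (nat_lit 4) (nat_lit 86) (Steps.bwd (nat_lit 2) (Steps.fwd (nat_lit 32768) (Steps.fwd (nat_lit 40960) (Steps.bwd (nat_lit 3) (Steps.fwd (nat_lit 49152) Steps.nil))))) (nat_lit 27) (nat_lit 3),
  Rule.mk (nat_lit 2) (nat_lit 116) (Steps.bwd (nat_lit 6) (Steps.bwd (nat_lit 4) (Steps.fwd (nat_lit 49152) (Steps.fwd (nat_lit 8192) (Steps.fwd (nat_lit 40960) (Steps.bwd (nat_lit 4) (Steps.fwd (nat_lit 49152) Steps.nil))))))) (nat_lit 37) (nat_lit 0),
  Rule.mk (nat_lit 1) (nat_lit 116) (Steps.bwd (nat_lit 6) (Steps.bwd (nat_lit 3) (Steps.bwd (nat_lit 5) (Steps.fwd (nat_lit 16384) (Steps.bwd (nat_lit 6) (Steps.bwd (nat_lit 3) (Steps.bwd (nat_lit 5) Steps.nil))))))) (nat_lit 36) (nat_lit 1),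
  Rule.mk (nat_lit 5) (nat_lit 116) (Steps.bwd (nat_lit 1) (Steps.bwd (nat_lit 6) (Steps.bwd (nat_lit 3) (Steps.bwd (nat_lit 5) (Steps.fwd (nat_lit 16384) (Steps.fwd (nat_lit 40960) (Steps.bwd (nat_lit 3) Steps.nil))))))) (nat_lit 36) (nat_lit 0),
  Rule.mk (nat_lit 0) (nat_lit 101) (Steps.fwd (nat_lit 16384) (Steps.bwd (nat_lit 3) (Steps.bwd (nat_lit 6) (Steps.fwd (nat_lit 24576) (Steps.bwd (nat_lit 5) (Steps.bwd (nat_lit 4) Steps.nil)))))) (nat_lit 26) (nat_lit 2),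
  Rule.mk (nat_lit 1) (nat_lit 41) (Steps.bwd (nat_lit 0) (Steps.bwd (nat_lit 2) Steps.nil)) (nat_lit 56) (nat_lit 0),
  Rule.mk (nat_lit 2) (nat_lit 41) (Steps.bwd (nat_lit 0) (Steps.fwd (nat_lit 16384) Steps.nil)) (nat_lit 56) (nat_lit 0),
  Rule.mk (nat_lit 3) (nat_lit 146) (Steps.bwd (nat_lit 6) (Steps.bwd (nat_lit 3) (Steps.bwd (nat_lit 6) (Steps.fwd (nat_lit 32768) (Steps.bwd (nat_lit 6) (Steps.bwd (nat_lit 3) (Steps.fwd (nat_lit 40960) (Steps.bwd (nat_lit 3) (Steps.fwd (nat_lit 40960) Steps.nil))))))))) (nat_lit 51) (nat_lit 0),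
  Rule.mk (nat_lit 1) (nat_lit 116) (Steps.bwd (nat_lit 6) (Steps.bwd (nat_lit 3) (Steps.fwd (nat_lit 49152) (Steps.bwd (nat_lit 1) (Steps.fwd (nat_lit 40960) (Steps.fwd (nat_lit 32768) (Steps.bwd (nat_lit 5) Steps.nil))))))) (nat_lit 36) (nat_lit 1),
  Rule.mk (nat_lit 3) (nat_lit 116) (Steps.bwd (nat_lit 5) (Steps.bwd (nat_lit 1) (Steps.fwd (nat_lit 40960) (Steps.fwd (nat_lit 32768) (Steps.bwd (nat_lit 5) (Steps.fwd (nat_lit 16384) (Steps.bwd (nat_lit 6) Steps.nil))))))) (nat_lit 36) (nat_lit 3),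
  Rule.mk (nat_lit 3) (nat_lit 116) (Steps.bwd (nat_lit 5) (Steps.bwd (nat_lit 1) (Steps.fwd (nat_lit 40960) (Steps.bwd (nat_lit 3) (Steps.fwd (nat_lit 49152) (Steps.fwd (nat_lit 16384) (Steps.fwd (nat_lit 40960) Steps.nil))))))) (nat_lit 36) (nat_lit 3),
  Rule.mk (nat_lit 3) (nat_lit 146) (Steps.bwd (nat_lit 6) (Steps.bwd (nat_lit 3) (Steps.bwd (nat_lit 6) (Steps.fwd (nat_lit 32768) (Steps.fwd (nat_lit 40960) (Steps.fwd (nat_lit 32768) (Steps.fwd (nat_lit 40960) (Steps.fwd (nat_lit 32768) (Steps.bwd (nat_lit 6) Steps.nil))))))))) (nat_lit 51) (nat_lit 0),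
  Rule.mk (nat_lit 6) (nat_lit 116) (Steps.fwd (nat_lit 32768) (Steps.bwd (nat_lit 5) (Steps.fwd (nat_lit 16384) (Steps.bwd (nat_lit 6) (Steps.fwd (nat_lit 32768) (Steps.bwd (nat_lit 5) (Steps.fwd (nat_lit 16384) Steps.nil))))))) (nat_lit 36) (nat_lit 2),
  Rule.mk (nat_lit 3) (nat_lit 86) (Steps.bwd (nat_lit 6) (Steps.fwd (nat_lit 32768) (Steps.bwd (nat_lit 5) (Steps.fwd (nat_lit 24576) (Steps.bwd (nat_lit 2) Steps.nil))))) (nat_lit 27) (nat_lit 5),
  Rule.mk (nat_lit 4) (nat_lit 86) (Steps.bwd (nat_lit 5) (Steps.bwd (nat_lit 4) (Steps.fwd (nat_lit 16384) (Steps.bwd (nat_lit 3) (Steps.bwd (nat_lit 6) Steps.nil))))) (nat_lit 26) (nat_lit 0),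
  Rule.mk (nat_lit 3) (nat_lit 86) (Steps.bwd (nat_lit 5) (Steps.bwd (nat_lit 4) (Steps.bwd (nat_lit 2) (Steps.bwd (nat_lit 3) (Steps.fwd (nat_lit 40960) Steps.nil))))) (nat_lit 27) (nat_lit 1),
  Rule.mk (nat_lit 2) (nat_lit 116) (Steps.bwd (nat_lit 6) (Steps.fwd (nat_lit 24576) (Steps.bwd (nat_lit 5) (Steps.bwd (nat_lit 2) (Steps.bwd (nat_lit 6) (Steps.bwd (nat_lit 4) (Steps.bwd (nat_lit 5) Steps.nil))))))) (nat_lit 37) (nat_lit 0),
  Rule.mk (nat_lit 6) (nat_lit 116) (Steps.bwd (nat_lit 4) (Steps.bwd (nat_lit 5) (Steps.bwd (nat_lit 2) (Steps.bwd (nat_lit 6) (Steps.fwd (nat_lit 24576) (Steps.fwd (nat_lit 49152) (Steps.bwd (nat_lit 2) Steps.nil))))))) (nat_lit 37) (nat_lit 1),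
  Rule.mk (nat_lit 6) (nat_lit 86) (Steps.bwd (nat_lit 4) (Steps.bwd (nat_lit 5) (Steps.bwd (nat_lit 4) (Steps.fwd (nat_lit 16384) (Steps.bwd (nat_lit 3) Steps.nil))))) (nat_lit 26) (nat_lit 5),
  Rule.mk (nat_lit 0) (nat_lit 131) (Steps.bwd (nat_lit 6) (Steps.bwd (nat_lit 4) (Steps.bwd (nat_lit 5) (Steps.fwd (nat_lit 8192) (Steps.bwd (nat_lit 6) (Steps.fwd (nat_lit 24576) (Steps.bwd (nat_lit 5) (Steps.fwd (nat_lit 8192) Steps.nil)))))))) (nat_lit 37) (nat_lit 0),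
  Rule.mk (nat_lit 3) (nat_lit 41) (Steps.bwd (nat_lit 0) (Steps.fwd (nat_lit 24576) Steps.nil)) (nat_lit 56) (nat_lit 0),
  Rule.mk (nat_lit 4) (nat_lit 41) (Steps.bwd (nat_lit 0) (Steps.bwd (nat_lit 3) Steps.nil)) (nat_lit 56) (nat_lit 0),
  Rule.mk (nat_lit 5) (nat_lit 41) (Steps.bwd (nat_lit 0) (Steps.bwd (nat_lit 6) Steps.nil)) (nat_lit 56) (nat_lit 0),
  Rule.mk (nat_lit 4) (nat_lit 86) (Steps.bwd (nat_lit 5) (Steps.fwd (nat_lit 24576) (Steps.fwd (nat_lit 16384) (Steps.fwd (nat_lit 32768) (Steps.fwd (nat_lit 40960) Steps.nil))))) (nat_lit 26) (nat_lit 0),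
  Rule.mk (nat_lit 3) (nat_lit 86) (Steps.bwd (nat_lit 5) (Steps.fwd (nat_lit 24576) (Steps.bwd (nat_lit 2) (Steps.bwd (nat_lit 3) (Steps.fwd (nat_lit 40960) Steps.nil))))) (nat_lit 27) (nat_lit 1),
  Rule.mk (nat_lit 3) (nat_lit 146) (Steps.bwd (nat_lit 6) (Steps.bwd (nat_lit 3) (Steps.bwd (nat_lit 6) (Steps.bwd (nat_lit 3) (Steps.fwd (nat_lit 40960) (Steps.fwd (nat_lit 32768) (Steps.fwd (nat_lit 40960) (Steps.fwd (nat_lit 32768) (Steps.bwd (nat_lit 6) Steps.nil))))))))) (nat_lit 51) (nat_lit 0),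
  Rule.mk (nat_lit 5) (nat_lit 116) (Steps.bwd (nat_lit 1) (Steps.bwd (nat_lit 6) (Steps.bwd (nat_lit 3) (Steps.fwd (nat_lit 49152) (Steps.fwd (nat_lit 16384) (Steps.bwd (nat_lit 6) (Steps.bwd (nat_lit 3) Steps.nil))))))) (nat_lit 36) (nat_lit 0),
  Rule.mk (nat_lit 3) (nat_lit 116) (Steps.bwd (nat_lit 5) (Steps.bwd (nat_lit 1) (Steps.bwd (nat_lit 6) (Steps.bwd (nat_lit 3) (Steps.bwd (nat_lit 5) (Steps.bwd (nat_lit 1) (Steps.bwd (nat_lit 6) Steps.nil))))))) (nat_lit 36) (nat_lit 3),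
  Rule.mk (nat_lit 6) (nat_lit 116) (Steps.bwd (nat_lit 4) (Steps.fwd (nat_lit 49152) (Steps.fwd (nat_lit 8192) (Steps.bwd (nat_lit 6) (Steps.fwd (nat_lit 24576) (Steps.fwd (nat_lit 49152) (Steps.bwd (nat_lit 2) Steps.nil))))))) (nat_lit 37) (nat_lit 1),
  Rule.mk (nat_lit 3) (nat_lit 116) (Steps.bwd (nat_lit 5) (Steps.bwd (nat_lit 1) (Steps.fwd (nat_lit 40960) (Steps.bwd (nat_lit 3) (Steps.fwd (nat_lit 49152) (Steps.fwd (nat_lit 16384) (Steps.bwd (nat_lit 6) Steps.nil))))))) (nat_lit 36) (nat_lit 3),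
  Rule.mk (nat_lit 2) (nat_lit 116) (Steps.bwd (nat_lit 6) (Steps.bwd (nat_lit 4) (Steps.bwd (nat_lit 5) (Steps.fwd (nat_lit 8192) (Steps.fwd (nat_lit 40960) (Steps.bwd (nat_lit 4) (Steps.fwd (nat_lit 49152) Steps.nil))))))) (nat_lit 37) (nat_lit 0),
  Rule.mk (nat_lit 1) (nat_lit 116) (Steps.bwd (nat_lit 6) (Steps.fwd (nat_lit 32768) (Steps.bwd (nat_lit 5) (Steps.bwd (nat_lit 1) (Steps.fwd (nat_lit 40960) (Steps.fwd (nat_lit 32768) (Steps.bwd (nat_lit 5) Steps.nil))))))) (nat_lit 36) (nat_lit 1),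
  Rule.mk (nat_lit 5) (nat_lit 146) (Steps.bwd (nat_lit 4) (Steps.bwd (nat_lit 5) (Steps.bwd (nat_lit 4) (Steps.fwd (nat_lit 49152) (Steps.fwd (nat_lit 24576) (Steps.fwd (nat_lit 49152) (Steps.bwd (nat_lit 4) (Steps.bwd (nat_lit 5) (Steps.bwd (nat_lit 4) Steps.nil))))))))) (nat_lit 50) (nat_lit 0),
  Rule.mk (nat_lit 6) (nat_lit 146) (Steps.bwd (nat_lit 3) (Steps.bwd (nat_lit 6) (Steps.bwd (nat_lit 3) (Steps.bwd (nat_lit 6) (Steps.fwd (nat_lit 32768) (Steps.fwd (nat_lit 40960) (Steps.bwd (nat_lit 3) (Steps.bwd (nat_lit 6) (Steps.fwd (nat_lit 32768) Steps.nil))))))))) (nat_lit 51) (nat_lit 1),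
  Rule.mk (nat_lit 6) (nat_lit 86) (Steps.bwd (nat_lit 4) (Steps.bwd (nat_lit 5) (Steps.bwd (nat_lit 4) (Steps.fwd (nat_lit 16384) (Steps.fwd (nat_lit 32768) Steps.nil))))) (nat_lit 26) (nat_lit 5),
  Rule.mk (nat_lit 3) (nat_lit 146) (Steps.bwd (nat_lit 6) (Steps.fwd (nat_lit 32768) (Steps.fwd (nat_lit 40960) (Steps.bwd (nat_lit 3) (Steps.bwd (nat_lit 6) (Steps.bwd (nat_lit 3) (Steps.bwd (nat_lit 6) (Steps.fwd (nat_lit 32768) (Steps.bwd (nat_lit 6) Steps.nil))))))))) (nat_lit 51) (nat_lit 0),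
  Rule.mk (nat_lit 6) (nat_lit 86) (Steps.bwd (nat_lit 3) (Steps.bwd (nat_lit 5) (Steps.bwd (nat_lit 4) (Steps.fwd (nat_lit 8192) (Steps.bwd (nat_lit 3) Steps.nil))))) (nat_lit 27) (nat_lit 0),
  Rule.mk (nat_lit 6) (nat_lit 146) (Steps.fwd (nat_lit 32768) (Steps.bwd (nat_lit 6) (Steps.fwd (nat_lit 32768) (Steps.fwd (nat_lit 40960) (Steps.fwd (nat_lit 32768) (Steps.fwd (nat_lit 40960) (Steps.fwd (nat_lit 32768) (Steps.fwd (nat_lit 40960) (Steps.bwd (nat_lit 3) Steps.nil))))))))) (nat_lit 51) (nat_lit 1),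
  Rule.mk (nat_lit 2) (nat_lit 86) (Steps.bwd (nat_lit 3) (Steps.bwd (nat_lit 6) (Steps.fwd (nat_lit 32768) (Steps.fwd (nat_lit 49152) (Steps.fwd (nat_lit 24576) Steps.nil))))) (nat_lit 27) (nat_lit 4),
  Rule.mk (nat_lit 4) (nat_lit 86) (Steps.bwd (nat_lit 1) (Steps.fwd (nat_lit 32768) (Steps.bwd (nat_lit 6) (Steps.fwd (nat_lit 24576) (Steps.fwd (nat_lit 49152) Steps.nil))))) (nat_lit 26) (nat_lit 2),
  Rule.mk (nat_lit 4) (nat_lit 86) (Steps.fwd (nat_lit 49152) (Steps.fwd (nat_lit 24576) (Steps.bwd (nat_lit 1) (Steps.bwd (nat_lit 3) (Steps.bwd (nat_lit 6) Steps.nil))))) (nat_lit 26) (nat_lit 0),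
  Rule.mk (nat_lit 6) (nat_lit 86) (Steps.bwd (nat_lit 4) (Steps.fwd (nat_lit 49152) (Steps.bwd (nat_lit 4) (Steps.fwd (nat_lit 16384) (Steps.fwd (nat_lit 32768) Steps.nil))))) (nat_lit 26) (nat_lit 5),
  Rule.mk (nat_lit 3) (nat_lit 86) (Steps.bwd (nat_lit 5) (Steps.fwd (nat_lit 24576) (Steps.bwd (nat_lit 2) (Steps.fwd (nat_lit 32768) (Steps.bwd (nat_lit 6) Steps.nil))))) (nat_lit 27) (nat_lit 1),
  Rule.mk (nat_lit 1) (nat_lit 116) (Steps.fwd (nat_lit 40960) (Steps.fwd (nat_lit 32768) (Steps.fwd (nat_lit 49152) (Steps.bwd (nat_lit 1) (Steps.bwd (nat_lit 6) (Steps.bwd (nat_lit 3) (Steps.bwd (nat_lit 5) Steps.nil))))))) (nat_lit 36) (nat_lit 1),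
  Rule.mk (nat_lit 5) (nat_lit 116) (Steps.bwd (nat_lit 1) (Steps.bwd (nat_lit 6) (Steps.bwd (nat_lit 3) (Steps.bwd (nat_lit 5) (Steps.fwd (nat_lit 16384) (Steps.fwd (nat_lit 40960) (Steps.fwd (nat_lit 32768) Steps.nil))))))) (nat_lit 36) (nat_lit 0),
  Rule.mk (nat_lit 4) (nat_lit 86) (Steps.bwd (nat_lit 5) (Steps.bwd (nat_lit 4) (Steps.bwd (nat_lit 1) (Steps.bwd (nat_lit 3) (Steps.fwd (nat_lit 40960) Steps.nil))))) (nat_lit 26) (nat_lit 0),
  Rule.mk (nat_lit 5) (nat_lit 146) (Steps.fwd (nat_lit 24576) (Steps.fwd (nat_lit 49152) (Steps.fwd (nat_lit 24576) (Steps.fwd (nat_lit 49152) (Steps.fwd (nat_lit 24576) (Steps.bwd (nat_lit 5) (Steps.bwd (nat_lit 4) (Steps.bwd (nat_lit 5) (Steps.bwd (nat_lit 4) Steps.nil))))))))) (nat_lit 50) (nat_lit 0),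
  Rule.mk (nat_lit 3) (nat_lit 116) (Steps.bwd (nat_lit 5) (Steps.fwd (nat_lit 16384) (Steps.bwd (nat_lit 6) (Steps.fwd (nat_lit 32768) (Steps.bwd (nat_lit 5) (Steps.fwd (nat_lit 16384) (Steps.bwd (nat_lit 6) Steps.nil))))))) (nat_lit 36) (nat_lit 3),
  Rule.mk (nat_lit 5) (nat_lit 116) (Steps.bwd (nat_lit 1) (Steps.bwd (nat_lit 6) (Steps.bwd (nat_lit 3) (Steps.fwd (nat_lit 49152) (Steps.bwd (nat_lit 1) (Steps.fwd (nat_lit 40960) (Steps.bwd (nat_lit 3) Steps.nil))))))) (nat_lit 36) (nat_lit 0),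
  Rule.mk (nat_lit 4) (nat_lit 86) (Steps.fwd (nat_lit 16384) (Steps.fwd (nat_lit 32768) (Steps.bwd (nat_lit 6) (Steps.fwd (nat_lit 24576) (Steps.bwd (nat_lit 5) Steps.nil))))) (nat_lit 26) (nat_lit 2),
  Rule.mk (nat_lit 4) (nat_lit 146) (Steps.bwd (nat_lit 5) (Steps.fwd (nat_lit 24576) (Steps.fwd (nat_lit 49152) (Steps.fwd (nat_lit 24576) (Steps.fwd (nat_lit 49152) (Steps.fwd (nat_lit 24576) (Steps.bwd (nat_lit 5) (Steps.fwd (nat_lit 24576) (Steps.bwd (nat_lit 5) Steps.nil))))))))) (nat_lit 50) (nat_lit 1),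
  Rule.mk (nat_lit 0) (nat_lit 101) (Steps.bwd (nat_lit 3) (Steps.fwd (nat_lit 40960) (Steps.bwd (nat_lit 4) (Steps.bwd (nat_lit 5) (Steps.fwd (nat_lit 24576) (Steps.fwd (nat_lit 16384) Steps.nil)))))) (nat_lit 26) (nat_lit 3)]
noncomputable def R_5 : List (Rule) := [Rule.mk (nat_lit 6) (nat_lit 41) (Steps.bwd (nat_lit 0) (Steps.fwd (nat_lit 49152) Steps.nil)) (nat_lit 56) (nat_lit 0),
  Rule.mk (nat_lit 1) (nat_lit 86) (Steps.fwd (nat_lit 32768) (Steps.fwd (nat_lit 40960) (Steps.fwd (nat_lit 24576) (Steps.bwd (nat_lit 5) (Steps.bwd (nat_lit 4) Steps.nil))))) (nat_lit 26) (nat_lit 3),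
  Rule.mk (nat_lit 5) (nat_lit 116) (Steps.bwd (nat_lit 2) (Steps.bwd (nat_lit 6) (Steps.fwd (nat_lit 24576) (Steps.bwd (nat_lit 5) (Steps.bwd (nat_lit 2) (Steps.bwd (nat_lit 6) (Steps.fwd (nat_lit 24576) Steps.nil))))))) (nat_lit 37) (nat_lit 3),
  Rule.mk (nat_lit 3) (nat_lit 116) (Steps.bwd (nat_lit 5) (Steps.bwd (nat_lit 1) (Steps.fwd (nat_lit 40960) (Steps.fwd (nat_lit 32768) (Steps.bwd (nat_lit 5) (Steps.fwd (nat_lit 16384) (Steps.fwd (nat_lit 40960) Steps.nil))))))) (nat_lit 36) (nat_lit 3),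
  Rule.mk (nat_lit 6) (nat_lit 116) (Steps.bwd (nat_lit 4) (Steps.bwd (nat_lit 5) (Steps.bwd (nat_lit 2) (Steps.fwd (nat_lit 40960) (Steps.bwd (nat_lit 4) (Steps.bwd (nat_lit 5) (Steps.bwd (nat_lit 2) Steps.nil))))))) (nat_lit 37) (nat_lit 1),
  Rule.mk (nat_lit 6) (nat_lit 146) (Steps.bwd (nat_lit 3) (Steps.bwd (nat_lit 6) (Steps.bwd (nat_lit 3) (Steps.bwd (nat_lit 6) (Steps.bwd (nat_lit 3) (Steps.fwd (nat_lit 40960) (Steps.fwd (nat_lit 32768) (Steps.bwd (nat_lit 6) (Steps.fwd (nat_lit 32768) Steps.nil))))))))) (nat_lit 51) (nat_lit 1),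
  Rule.mk (nat_lit 2) (nat_lit 86) (Steps.fwd (nat_lit 32768) (Steps.bwd (nat_lit 6) (Steps.bwd (nat_lit 3) (Steps.fwd (nat_lit 49152) (Steps.bwd (nat_lit 4) Steps.nil))))) (nat_lit 27) (nat_lit 4),
  Rule.mk (nat_lit 6) (nat_lit 86) (Steps.bwd (nat_lit 4) (Steps.bwd (nat_lit 5) (Steps.bwd (nat_lit 4) (Steps.bwd (nat_lit 1) (Steps.fwd (nat_lit 32768) Steps.nil))))) (nat_lit 26) (nat_lit 5),
  Rule.mk (nat_lit 3) (nat_lit 146) (Steps.bwd (nat_lit 6) (Steps.fwd (nat_lit 32768) (Steps.fwd (nat_lit 40960) (Steps.fwd (nat_lit 32768) (Steps.fwd (nat_lit 40960) (Steps.fwd (nat_lit 32768) (Steps.fwd (nat_lit 40960) (Steps.fwd (nat_lit 32768) (Steps.bwd (nat_lit 6) Steps.nil))))))))) (nat_lit 51) (nat_lit 0),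
  Rule.mk (nat_lit 3) (nat_lit 116) (Steps.bwd (nat_lit 5) (Steps.bwd (nat_lit 1) (Steps.bwd (nat_lit 6) (Steps.bwd (nat_lit 3) (Steps.fwd (nat_lit 49152) (Steps.fwd (nat_lit 16384) (Steps.bwd (nat_lit 6) Steps.nil))))))) (nat_lit 36) (nat_lit 3),
  Rule.mk (nat_lit 2) (nat_lit 116) (Steps.fwd (nat_lit 40960) (Steps.bwd (nat_lit 4) (Steps.bwd (nat_lit 5) (Steps.bwd (nat_lit 2) (Steps.bwd (nat_lit 6) (Steps.fwd (nat_lit 24576) (Steps.bwd (nat_lit 5) Steps.nil))))))) (nat_lit 37) (nat_lit 0),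
  Rule.mk (nat_lit 2) (nat_lit 116) (Steps.fwd (nat_lit 40960) (Steps.bwd (nat_lit 4) (Steps.bwd (nat_lit 5) (Steps.bwd (nat_lit 2) (Steps.fwd (nat_lit 40960) (Steps.fwd (nat_lit 24576) (Steps.bwd (nat_lit 5) Steps.nil))))))) (nat_lit 37) (nat_lit 0),
  Rule.mk (nat_lit 5) (nat_lit 146) (Steps.bwd (nat_lit 4) (Steps.bwd (nat_lit 5) (Steps.bwd (nat_lit 4) (Steps.bwd (nat_lit 5) (Steps.bwd (nat_lit 4) (Steps.fwd (nat_lit 49152) (Steps.fwd (nat_lit 24576) (Steps.bwd (nat_lit 5) (Steps.bwd (nat_lit 4) Steps.nil))))))))) (nat_lit 50) (nat_lit 0),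
  Rule.mk (nat_lit 5) (nat_lit 116) (Steps.bwd (nat_lit 2) (Steps.fwd (nat_lit 40960) (Steps.bwd (nat_lit 4) (Steps.fwd (nat_lit 49152) (Steps.fwd (nat_lit 8192) (Steps.fwd (nat_lit 40960) (Steps.bwd (nat_lit 4) Steps.nil))))))) (nat_lit 37) (nat_lit 3),
  Rule.mk (nat_lit 1) (nat_lit 86) (Steps.bwd (nat_lit 3) (Steps.fwd (nat_lit 40960) (Steps.bwd (nat_lit 4) (Steps.fwd (nat_lit 49152) (Steps.fwd (nat_lit 24576) Steps.nil))))) (nat_lit 26) (nat_lit 3),
  Rule.mk (nat_lit 2) (nat_lit 116) (Steps.bwd (nat_lit 6) (Steps.bwd (nat_lit 4) (Steps.bwd (nat_lit 5) (Steps.fwd (nat_lit 8192) (Steps.bwd (nat_lit 6) (Steps.fwd (nat_lit 24576) (Steps.bwd (nat_lit 5) Steps.nil))))))) (nat_lit 37) (nat_lit 0),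
  Rule.mk (nat_lit 5) (nat_lit 146) (Steps.fwd (nat_lit 24576) (Steps.bwd (nat_lit 5) (Steps.fwd (nat_lit 24576) (Steps.bwd (nat_lit 5) (Steps.bwd (nat_lit 4) (Steps.bwd (nat_lit 5) (Steps.fwd (nat_lit 24576) (Steps.bwd (nat_lit 5) (Steps.bwd (nat_lit 4) Steps.nil))))))))) (nat_lit 50) (nat_lit 0),
  Rule.mk (nat_lit 2) (nat_lit 116) (Steps.bwd (nat_lit 6) (Steps.bwd (nat_lit 4) (Steps.bwd (nat_lit 5) (Steps.fwd (nat_lit 8192) (Steps.fwd (nat_lit 40960) (Steps.fwd (nat_lit 24576) (Steps.bwd (nat_lit 5) Steps.nil))))))) (nat_lit 37) (nat_lit 0),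
  Rule.mk (nat_lit 3) (nat_lit 146) (Steps.bwd (nat_lit 6) (Steps.fwd (nat_lit 32768) (Steps.fwd (nat_lit 40960) (Steps.bwd (nat_lit 3) (Steps.bwd (nat_lit 6) (Steps.bwd (nat_lit 3) (Steps.bwd (nat_lit 6) (Steps.bwd (nat_lit 3) (Steps.fwd (nat_lit 40960) Steps.nil))))))))) (nat_lit 51) (nat_lit 0),
  Rule.mk (nat_lit 3) (nat_lit 41) (Steps.fwd (nat_lit 32768) (Steps.bwd (nat_lit 3) Steps.nil)) (nat_lit 8) (nat_lit 0),
  Rule.mk (nat_lit 4) (nat_lit 116) (Steps.bwd (nat_lit 5) (Steps.bwd (nat_lit 2) (Steps.fwd (nat_lit 40960) (Steps.bwd (nat_lit 4) (Steps.bwd (nat_lit 5) (Steps.fwd (nat_lit 8192) (Steps.bwd (nat_lit 6) Steps.nil))))))) (nat_lit 37) (nat_lit 2),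
  Rule.mk (nat_lit 2) (nat_lit 86) (Steps.bwd (nat_lit 3) (Steps.fwd (nat_lit 40960) (Steps.bwd (nat_lit 3) (Steps.fwd (nat_lit 49152) (Steps.bwd (nat_lit 4) Steps.nil))))) (nat_lit 27) (nat_lit 4),
  Rule.mk (nat_lit 6) (nat_lit 116) (Steps.bwd (nat_lit 4) (Steps.bwd (nat_lit 5) (Steps.fwd (nat_lit 8192) (Steps.fwd (nat_lit 40960) (Steps.fwd (nat_lit 24576) (Steps.fwd (nat_lit 49152) (Steps.fwd (nat_lit 8192) Steps.nil))))))) (nat_lit 37) (nat_lit 1),
  Rule.mk (nat_lit 4) (nat_lit 116) (Steps.bwd (nat_lit 5) (Steps.bwd (nat_lit 2) (Steps.fwd (nat_lit 40960) (Steps.bwd (nat_lit 4) (Steps.fwd (nat_lit 49152) (Steps.bwd (nat_lit 2) (Steps.bwd (nat_lit 6) Steps.nil))))))) (nat_lit 37) (nat_lit 2),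
  Rule.mk (nat_lit 5) (nat_lit 146) (Steps.bwd (nat_lit 4) (Steps.bwd (nat_lit 5) (Steps.bwd (nat_lit 4) (Steps.bwd (nat_lit 5) (Steps.bwd (nat_lit 4) (Steps.bwd (nat_lit 5) (Steps.fwd (nat_lit 24576) (Steps.fwd (nat_lit 49152) (Steps.fwd (nat_lit 24576) Steps.nil))))))))) (nat_lit 50) (nat_lit 0),
  Rule.mk (nat_lit 2) (nat_lit 116) (Steps.bwd (nat_lit 6) (Steps.fwd (nat_lit 24576) (Steps.fwd (nat_lit 49152) (Steps.fwd (nat_lit 8192) (Steps.fwd (nat_lit 40960) (Steps.bwd (nat_lit 4) (Steps.bwd (nat_lit 5) Steps.nil))))))) (nat_lit 37) (nat_lit 0),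
  Rule.mk (nat_lit 3) (nat_lit 116) (Steps.bwd (nat_lit 5) (Steps.bwd (nat_lit 1) (Steps.bwd (nat_lit 6) (Steps.bwd (nat_lit 3) (Steps.bwd (nat_lit 5) (Steps.bwd (nat_lit 1) (Steps.fwd (nat_lit 40960) Steps.nil))))))) (nat_lit 36) (nat_lit 3),
  Rule.mk (nat_lit 0) (nat_lit 101) (Steps.bwd (nat_lit 3) (Steps.fwd (nat_lit 40960) (Steps.fwd (nat_lit 24576) (Steps.bwd (nat_lit 5) (Steps.fwd (nat_lit 24576) (Steps.fwd (nat_lit 16384) Steps.nil)))))) (nat_lit 26) (nat_lit 3),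
  Rule.mk (nat_lit 5) (nat_lit 116) (Steps.bwd (nat_lit 1) (Steps.fwd (nat_lit 40960) (Steps.fwd (nat_lit 32768) (Steps.bwd (nat_lit 5) (Steps.bwd (nat_lit 1) (Steps.fwd (nat_lit 40960) (Steps.bwd (nat_lit 3) Steps.nil))))))) (nat_lit 36) (nat_lit 0),
  Rule.mk (nat_lit 4) (nat_lit 86) (Steps.bwd (nat_lit 1) (Steps.bwd (nat_lit 3) (Steps.fwd (nat_lit 40960) (Steps.fwd (nat_lit 24576) (Steps.bwd (nat_lit 5) Steps.nil))))) (nat_lit 26) (nat_lit 2),
  Rule.mk (nat_lit 6) (nat_lit 116) (Steps.bwd (nat_lit 3) (Steps.bwd (nat_lit 5) (Steps.fwd (nat_lit 16384) (Steps.bwd (nat_lit 6) (Steps.fwd (nat_lit 32768) (Steps.bwd (nat_lit 5) (Steps.bwd (nat_lit 1) Steps.nil))))))) (nat_lit 36) (nat_lit 2),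
  Rule.mk (nat_lit 1) (nat_lit 116) (Steps.bwd (nat_lit 6) (Steps.fwd (nat_lit 32768) (Steps.bwd (nat_lit 5) (Steps.bwd (nat_lit 1) (Steps.bwd (nat_lit 6) (Steps.bwd (nat_lit 3) (Steps.bwd (nat_lit 5) Steps.nil))))))) (nat_lit 36) (nat_lit 1),
  Rule.mk (nat_lit 0) (nat_lit 161) (Steps.bwd (nat_lit 6) (Steps.fwd (nat_lit 32768) (Steps.fwd (nat_lit 40960) (Steps.fwd (nat_lit 32768) (Steps.bwd (nat_lit 6) (Steps.bwd (nat_lit 3) (Steps.fwd (nat_lit 40960) (Steps.fwd (nat_lit 32768) (Steps.bwd (nat_lit 6) (Steps.bwd (nat_lit 3) Steps.nil)))))))))) (nat_lit 51) (nat_lit 0),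
  Rule.mk (nat_lit 4) (nat_lit 116) (Steps.bwd (nat_lit 5) (Steps.fwd (nat_lit 8192) (Steps.bwd (nat_lit 6) (Steps.bwd (nat_lit 4) (Steps.bwd (nat_lit 5) (Steps.fwd (nat_lit 8192) (Steps.bwd (nat_lit 6) Steps.nil))))))) (nat_lit 37) (nat_lit 2),
  Rule.mk (nat_lit 0) (nat_lit 161) (Steps.fwd (nat_lit 32768) (Steps.fwd (nat_lit 40960) (Steps.fwd (nat_lit 32768) (Steps.bwd (nat_lit 6) (Steps.bwd (nat_lit 3) (Steps.bwd (nat_lit 6) (Steps.bwd (nat_lit 3) (Steps.fwd (nat_lit 40960) (Steps.fwd (nat_lit 32768) (Steps.fwd (nat_lit 40960) Steps.nil)))))))))) (nat_lit 51) (nat_lit 1),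
  Rule.mk (nat_lit 0) (nat_lit 56) (Steps.bwd (nat_lit 5) (Steps.fwd (nat_lit 0) (Steps.fwd (nat_lit 40960) Steps.nil))) (nat_lit 56) (nat_lit 0),
  Rule.mk (nat_lit 0) (nat_lit 56) (Steps.bwd (nat_lit 3) (Steps.bwd (nat_lit 0) (Steps.fwd (nat_lit 24576) Steps.nil))) (nat_lit 56) (nat_lit 0),
  Rule.mk (nat_lit 0) (nat_lit 161) (Steps.bwd (nat_lit 5) (Steps.bwd (nat_lit 4) (Steps.bwd (nat_lit 5) (Steps.bwd (nat_lit 4) (Steps.fwd (nat_lit 49152) (Steps.bwd (nat_lit 4) (Steps.fwd (nat_lit 49152) (Steps.bwd (nat_lit 4) (Steps.fwd (nat_lit 49152) (Steps.fwd (nat_lit 24576) Steps.nil)))))))))) (nat_lit 50) (nat_lit 1),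
  Rule.mk (nat_lit 0) (nat_lit 56) (Steps.fwd (nat_lit 40960) (Steps.fwd (nat_lit 0) (Steps.bwd (nat_lit 5) Steps.nil))) (nat_lit 56) (nat_lit 0),
  Rule.mk (nat_lit 0) (nat_lit 56) (Steps.bwd (nat_lit 1) (Steps.fwd (nat_lit 0) (Steps.bwd (nat_lit 2) Steps.nil))) (nat_lit 56) (nat_lit 0),
  Rule.mk (nat_lit 0) (nat_lit 56) (Steps.fwd (nat_lit 32768) (Steps.fwd (nat_lit 0) (Steps.fwd (nat_lit 24576) Steps.nil))) (nat_lit 56) (nat_lit 0),
  Rule.mk (nat_lit 0) (nat_lit 56) (Steps.bwd (nat_lit 4) (Steps.fwd (nat_lit 0) (Steps.fwd (nat_lit 32768) Steps.nil))) (nat_lit 56) (nat_lit 0),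
  Rule.mk (nat_lit 0) (nat_lit 56) (Steps.bwd (nat_lit 4) (Steps.fwd (nat_lit 0) (Steps.bwd (nat_lit 3) Steps.nil))) (nat_lit 56) (nat_lit 0),
  Rule.mk (nat_lit 5) (nat_lit 41) (Steps.bwd (nat_lit 0) (Steps.fwd (nat_lit 40960) Steps.nil)) (nat_lit 56) (nat_lit 0),
  Rule.mk (nat_lit 6) (nat_lit 41) (Steps.bwd (nat_lit 0) (Steps.bwd (nat_lit 5) Steps.nil)) (nat_lit 56) (nat_lit 0),
  Rule.mk (nat_lit 0) (nat_lit 56) (Steps.fwd (nat_lit 40960) (Steps.fwd (nat_lit 0) (Steps.fwd (nat_lit 49152) Steps.nil))) (nat_lit 56) (nat_lit 0),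
  Rule.mk (nat_lit 0) (nat_lit 56) (Steps.fwd (nat_lit 24576) (Steps.fwd (nat_lit 0) (Steps.fwd (nat_lit 32768) Steps.nil))) (nat_lit 56) (nat_lit 0),
  Rule.mk (nat_lit 0) (nat_lit 56) (Steps.fwd (nat_lit 49152) (Steps.fwd (nat_lit 0) (Steps.fwd (nat_lit 40960) Steps.nil))) (nat_lit 56) (nat_lit 0),
  Rule.mk (nat_lit 0) (nat_lit 161) (Steps.bwd (nat_lit 3) (Steps.bwd (nat_lit 6) (Steps.bwd (nat_lit 3) (Steps.fwd (nat_lit 40960) (Steps.bwd (nat_lit 3) (Steps.bwd (nat_lit 6) (Steps.fwd (nat_lit 32768) (Steps.fwd (nat_lit 40960) (Steps.fwd (nat_lit 32768) (Steps.bwd (nat_lit 6) Steps.nil)))))))))) (nat_lit 51) (nat_lit 1),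
  Rule.mk (nat_lit 5) (nat_lit 116) (Steps.fwd (nat_lit 8192) (Steps.fwd (nat_lit 40960) (Steps.bwd (nat_lit 4) (Steps.bwd (nat_lit 5) (Steps.bwd (nat_lit 2) (Steps.bwd (nat_lit 6) (Steps.fwd (nat_lit 24576) Steps.nil))))))) (nat_lit 37) (nat_lit 3),
  Rule.mk (nat_lit 0) (nat_lit 161) (Steps.fwd (nat_lit 32768) (Steps.fwd (nat_lit 40960) (Steps.bwd (nat_lit 3) (Steps.fwd (nat_lit 40960) (Steps.bwd (nat_lit 3) (Steps.bwd (nat_lit 6) (Steps.fwd (nat_lit 32768) (Steps.bwd (nat_lit 6) (Steps.bwd (nat_lit 3) (Steps.fwd (nat_lit 40960) Steps.nil)))))))))) (nat_lit 51) (nat_lit 1),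
  Rule.mk (nat_lit 0) (nat_lit 56) (Steps.bwd (nat_lit 6) (Steps.fwd (nat_lit 0) (Steps.bwd (nat_lit 5) Steps.nil))) (nat_lit 56) (nat_lit 0),
  Rule.mk (nat_lit 0) (nat_lit 56) (Steps.fwd (nat_lit 32768) (Steps.fwd (nat_lit 0) (Steps.bwd (nat_lit 4) Steps.nil))) (nat_lit 56) (nat_lit 0),
  Rule.mk (nat_lit 0) (nat_lit 56) (Steps.fwd (nat_lit 40960) (Steps.bwd (nat_lit 0) (Steps.bwd (nat_lit 5) Steps.nil))) (nat_lit 56) (nat_lit 0),
  Rule.mk (nat_lit 0) (nat_lit 56) (Steps.bwd (nat_lit 3) (Steps.fwd (nat_lit 0) (Steps.bwd (nat_lit 4) Steps.nil))) (nat_lit 56) (nat_lit 0),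
  Rule.mk (nat_lit 6) (nat_lit 146) (Steps.fwd (nat_lit 32768) (Steps.fwd (nat_lit 40960) (Steps.fwd (nat_lit 32768) (Steps.bwd (nat_lit 6) (Steps.fwd (nat_lit 32768) (Steps.fwd (nat_lit 40960) (Steps.fwd (nat_lit 32768) (Steps.bwd (nat_lit 6) (Steps.bwd (nat_lit 3) Steps.nil))))))))) (nat_lit 51) (nat_lit 1),
  Rule.mk (nat_lit 0) (nat_lit 101) (Steps.bwd (nat_lit 4) (Steps.bwd (nat_lit 2) (Steps.bwd (nat_lit 3) (Steps.bwd (nat_lit 6) (Steps.fwd (nat_lit 32768) (Steps.bwd (nat_lit 5) Steps.nil)))))) (nat_lit 27) (nat_lit 2),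
  Rule.mk (nat_lit 0) (nat_lit 56) (Steps.bwd (nat_lit 5) (Steps.fwd (nat_lit 0) (Steps.bwd (nat_lit 6) Steps.nil))) (nat_lit 56) (nat_lit 0),
  Rule.mk (nat_lit 0) (nat_lit 131) (Steps.fwd (nat_lit 40960) (Steps.fwd (nat_lit 24576) (Steps.fwd (nat_lit 49152) (Steps.bwd (nat_lit 2) (Steps.bwd (nat_lit 6) (Steps.fwd (nat_lit 24576) (Steps.fwd (nat_lit 49152) (Steps.fwd (nat_lit 8192) Steps.nil)))))))) (nat_lit 37) (nat_lit 0),
  Rule.mk (nat_lit 5) (nat_lit 86) (Steps.bwd (nat_lit 4) (Steps.bwd (nat_lit 2) (Steps.fwd (nat_lit 32768) (Steps.bwd (nat_lit 6) (Steps.fwd (nat_lit 32768) Steps.nil))))) (nat_lit 27) (nat_lit 2),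
  Rule.mk (nat_lit 5) (nat_lit 146) (Steps.fwd (nat_lit 24576) (Steps.fwd (nat_lit 49152) (Steps.bwd (nat_lit 4) (Steps.fwd (nat_lit 49152) (Steps.fwd (nat_lit 24576) (Steps.fwd (nat_lit 49152) (Steps.fwd (nat_lit 24576) (Steps.bwd (nat_lit 5) (Steps.bwd (nat_lit 4) Steps.nil))))))))) (nat_lit 50) (nat_lit 0),
  Rule.mk (nat_lit 0) (nat_lit 101) (Steps.bwd (nat_lit 1) (Steps.fwd (nat_lit 32768) (Steps.fwd (nat_lit 40960) (Steps.fwd (nat_lit 24576) (Steps.fwd (nat_lit 49152) (Steps.bwd (nat_lit 4) Steps.nil)))))) (nat_lit 26) (nat_lit 2),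
  Rule.mk (nat_lit 5) (nat_lit 146) (Steps.fwd (nat_lit 24576) (Steps.bwd (nat_lit 5) (Steps.bwd (nat_lit 4) (Steps.bwd (nat_lit 5) (Steps.bwd (nat_lit 4) (Steps.fwd (nat_lit 49152) (Steps.fwd (nat_lit 24576) (Steps.fwd (nat_lit 49152) (Steps.fwd (nat_lit 24576) Steps.nil))))))))) (nat_lit 50) (nat_lit 0),
  Rule.mk (nat_lit 5) (nat_lit 116) (Steps.fwd (nat_lit 8192) (Steps.bwd (nat_lit 6) (Steps.bwd (nat_lit 4) (Steps.bwd (nat_lit 5) (Steps.bwd (nat_lit 2) (Steps.bwd (nat_lit 6) (Steps.fwd (nat_lit 24576) Steps.nil))))))) (nat_lit 37) (nat_lit 3)]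
noncomputable def R_6 : List (Rule) := [Rule.mk (nat_lit 1) (nat_lit 86) (Steps.fwd (nat_lit 32768) (Steps.bwd (nat_lit 6) (Steps.fwd (nat_lit 24576) (Steps.bwd (nat_lit 5) (Steps.fwd (nat_lit 24576) Steps.nil))))) (nat_lit 26) (nat_lit 3),
  Rule.mk (nat_lit 2) (nat_lit 86) (Steps.bwd (nat_lit 3) (Steps.fwd (nat_lit 40960) (Steps.fwd (nat_lit 32768) (Steps.bwd (nat_lit 5) (Steps.fwd (nat_lit 24576) Steps.nil))))) (nat_lit 27) (nat_lit 4),
  Rule.mk (nat_lit 1) (nat_lit 116) (Steps.fwd (nat_lit 40960) (Steps.fwd (nat_lit 32768) (Steps.bwd (nat_lit 5) (Steps.fwd (nat_lit 16384) (Steps.bwd (nat_lit 6) (Steps.bwd (nat_lit 3) (Steps.fwd (nat_lit 49152) Steps.nil))))))) (nat_lit 36) (nat_lit 1),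
  Rule.mk (nat_lit 0) (nat_lit 101) (Steps.bwd (nat_lit 3) (Steps.bwd (nat_lit 5) (Steps.fwd (nat_lit 24576) (Steps.fwd (nat_lit 8192) (Steps.bwd (nat_lit 3) (Steps.bwd (nat_lit 6) Steps.nil)))))) (nat_lit 27) (nat_lit 0),
  Rule.mk (nat_lit 3) (nat_lit 86) (Steps.bwd (nat_lit 6) (Steps.bwd (nat_lit 3) (Steps.fwd (nat_lit 49152) (Steps.fwd (nat_lit 24576) (Steps.fwd (nat_lit 8192) Steps.nil))))) (nat_lit 27) (nat_lit 5),
  Rule.mk (nat_lit 1) (nat_lit 116) (Steps.bwd (nat_lit 6) (Steps.bwd (nat_lit 3) (Steps.fwd (nat_lit 49152) (Steps.bwd (nat_lit 1) (Steps.fwd (nat_lit 40960) (Steps.fwd (nat_lit 32768) (Steps.fwd (nat_lit 49152) Steps.nil))))))) (nat_lit 36) (nat_lit 1),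
  Rule.mk (nat_lit 6) (nat_lit 86) (Steps.bwd (nat_lit 3) (Steps.bwd (nat_lit 5) (Steps.fwd (nat_lit 24576) (Steps.fwd (nat_lit 8192) (Steps.fwd (nat_lit 32768) Steps.nil))))) (nat_lit 27) (nat_lit 0),
  Rule.mk (nat_lit 3) (nat_lit 146) (Steps.bwd (nat_lit 6) (Steps.bwd (nat_lit 3) (Steps.bwd (nat_lit 6) (Steps.bwd (nat_lit 3) (Steps.bwd (nat_lit 6) (Steps.fwd (nat_lit 32768) (Steps.fwd (nat_lit 40960) (Steps.fwd (nat_lit 32768) (Steps.bwd (nat_lit 6) Steps.nil))))))))) (nat_lit 51) (nat_lit 0),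
  Rule.mk (nat_lit 1) (nat_lit 116) (Steps.fwd (nat_lit 40960) (Steps.fwd (nat_lit 32768) (Steps.bwd (nat_lit 5) (Steps.fwd (nat_lit 16384) (Steps.fwd (nat_lit 40960) (Steps.fwd (nat_lit 32768) (Steps.bwd (nat_lit 5) Steps.nil))))))) (nat_lit 36) (nat_lit 1),
  Rule.mk (nat_lit 5) (nat_lit 86) (Steps.bwd (nat_lit 4) (Steps.bwd (nat_lit 2) (Steps.bwd (nat_lit 3) (Steps.bwd (nat_lit 6) (Steps.fwd (nat_lit 32768) Steps.nil))))) (nat_lit 27) (nat_lit 2),
  Rule.mk (nat_lit 1) (nat_lit 116) (Steps.bwd (nat_lit 6) (Steps.bwd (nat_lit 3) (Steps.fwd (nat_lit 49152) (Steps.bwd (nat_lit 1) (Steps.bwd (nat_lit 6) (Steps.fwd (nat_lit 32768) (Steps.bwd (nat_lit 5) Steps.nil))))))) (nat_lit 36) (nat_lit 1),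
  Rule.mk (nat_lit 5) (nat_lit 116) (Steps.bwd (nat_lit 2) (Steps.bwd (nat_lit 6) (Steps.fwd (nat_lit 24576) (Steps.fwd (nat_lit 49152) (Steps.fwd (nat_lit 8192) (Steps.bwd (nat_lit 6) (Steps.fwd (nat_lit 24576) Steps.nil))))))) (nat_lit 37) (nat_lit 3),
  Rule.mk (nat_lit 0) (nat_lit 161) (Steps.bwd (nat_lit 5) (Steps.fwd (nat_lit 24576) (Steps.fwd (nat_lit 49152) (Steps.fwd (nat_lit 24576) (Steps.fwd (nat_lit 49152) (Steps.fwd (nat_lit 24576) (Steps.bwd (nat_lit 5) (Steps.bwd (nat_lit 4) (Steps.bwd (nat_lit 5) (Steps.bwd (nat_lit 4) Steps.nil)))))))))) (nat_lit 50) (nat_lit 1),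
  Rule.mk (nat_lit 0) (nat_lit 56) (Steps.fwd (nat_lit 32768) (Steps.bwd (nat_lit 0) (Steps.fwd (nat_lit 24576) Steps.nil))) (nat_lit 56) (nat_lit 0),
  Rule.mk (nat_lit 0) (nat_lit 161) (Steps.fwd (nat_lit 49152) (Steps.bwd (nat_lit 4) (Steps.fwd (nat_lit 49152) (Steps.bwd (nat_lit 4) (Steps.bwd (nat_lit 5) (Steps.bwd (nat_lit 4) (Steps.fwd (nat_lit 49152) (Steps.fwd (nat_lit 24576) (Steps.fwd (nat_lit 49152) (Steps.fwd (nat_lit 24576) Steps.nil)))))))))) (nat_lit 50) (nat_lit 1),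
  Rule.mk (nat_lit 0) (nat_lit 56) (Steps.bwd (nat_lit 2) (Steps.fwd (nat_lit 0) (Steps.bwd (nat_lit 1) Steps.nil))) (nat_lit 56) (nat_lit 0),
  Rule.mk (nat_lit 0) (nat_lit 56) (Steps.bwd (nat_lit 3) (Steps.fwd (nat_lit 0) (Steps.fwd (nat_lit 24576) Steps.nil))) (nat_lit 56) (nat_lit 0),
  Rule.mk (nat_lit 0) (nat_lit 56) (Steps.bwd (nat_lit 1) (Steps.bwd (nat_lit 0) (Steps.bwd (nat_lit 2) Steps.nil))) (nat_lit 56) (nat_lit 0),
  Rule.mk (nat_lit 0) (nat_lit 56) (Steps.fwd (nat_lit 49152) (Steps.fwd (nat_lit 0) (Steps.bwd (nat_lit 6) Steps.nil))) (nat_lit 56) (nat_lit 0),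
  Rule.mk (nat_lit 0) (nat_lit 56) (Steps.bwd (nat_lit 6) (Steps.fwd (nat_lit 0) (Steps.fwd (nat_lit 49152) Steps.nil))) (nat_lit 56) (nat_lit 0),
  Rule.mk (nat_lit 0) (nat_lit 56) (Steps.bwd (nat_lit 1) (Steps.bwd (nat_lit 0) (Steps.fwd (nat_lit 8192) Steps.nil))) (nat_lit 56) (nat_lit 0),
  Rule.mk (nat_lit 0) (nat_lit 56) (Steps.fwd (nat_lit 8192) (Steps.fwd (nat_lit 0) (Steps.fwd (nat_lit 16384) Steps.nil))) (nat_lit 56) (nat_lit 0),
  Rule.mk (nat_lit 0) (nat_lit 56) (Steps.fwd (nat_lit 16384) (Steps.fwd (nat_lit 0) (Steps.fwd (nat_lit 8192) Steps.nil))) (nat_lit 56) (nat_lit 0),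
  Rule.mk (nat_lit 0) (nat_lit 56) (Steps.bwd (nat_lit 4) (Steps.bwd (nat_lit 0) (Steps.fwd (nat_lit 32768) Steps.nil))) (nat_lit 56) (nat_lit 0),
  Rule.mk (nat_lit 1) (nat_lit 116) (Steps.fwd (nat_lit 40960) (Steps.bwd (nat_lit 3) (Steps.fwd (nat_lit 49152) (Steps.bwd (nat_lit 1) (Steps.bwd (nat_lit 6) (Steps.bwd (nat_lit 3) (Steps.fwd (nat_lit 49152) Steps.nil))))))) (nat_lit 36) (nat_lit 1),
  Rule.mk (nat_lit 0) (nat_lit 161) (Steps.bwd (nat_lit 3) (Steps.bwd (nat_lit 6) (Steps.bwd (nat_lit 3) (Steps.bwd (nat_lit 6) (Steps.fwd (nat_lit 32768) (Steps.bwd (nat_lit 6) (Steps.bwd (nat_lit 3) (Steps.bwd (nat_lit 6) (Steps.bwd (nat_lit 3) (Steps.bwd (nat_lit 6) Steps.nil)))))))))) (nat_lit 51) (nat_lit 1),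
  Rule.mk (nat_lit 0) (nat_lit 71) (Steps.bwd (nat_lit 3) (Steps.fwd (nat_lit 0) (Steps.fwd (nat_lit 24576) (Steps.fwd (nat_lit 0) Steps.nil)))) (nat_lit 56) (nat_lit 0),
  Rule.mk (nat_lit 2) (nat_lit 116) (Steps.fwd (nat_lit 40960) (Steps.bwd (nat_lit 4) (Steps.fwd (nat_lit 49152) (Steps.bwd (nat_lit 2) (Steps.bwd (nat_lit 6) (Steps.bwd (nat_lit 4) (Steps.bwd (nat_lit 5) Steps.nil))))))) (nat_lit 37) (nat_lit 0),
  Rule.mk (nat_lit 2) (nat_lit 86) (Steps.fwd (nat_lit 32768) (Steps.bwd (nat_lit 6) (Steps.bwd (nat_lit 3) (Steps.fwd (nat_lit 49152) (Steps.fwd (nat_lit 24576) Steps.nil))))) (nat_lit 27) (nat_lit 4),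
  Rule.mk (nat_lit 4) (nat_lit 86) (Steps.bwd (nat_lit 5) (Steps.bwd (nat_lit 4) (Steps.fwd (nat_lit 16384) (Steps.fwd (nat_lit 32768) (Steps.bwd (nat_lit 6) Steps.nil))))) (nat_lit 26) (nat_lit 0),
  Rule.mk (nat_lit 5) (nat_lit 116) (Steps.bwd (nat_lit 1) (Steps.fwd (nat_lit 40960) (Steps.fwd (nat_lit 32768) (Steps.bwd (nat_lit 5) (Steps.bwd (nat_lit 1) (Steps.bwd (nat_lit 6) (Steps.bwd (nat_lit 3) Steps.nil))))))) (nat_lit 36) (nat_lit 0),
  Rule.mk (nat_lit 4) (nat_lit 146) (Steps.bwd (nat_lit 5) (Steps.bwd (nat_lit 4) (Steps.fwd (nat_lit 49152) (Steps.bwd (nat_lit 4) (Steps.bwd (nat_lit 5) (Steps.bwd (nat_lit 4) (Steps.bwd (nat_lit 5) (Steps.bwd (nat_lit 4) (Steps.bwd (nat_lit 5) Steps.nil))))))))) (nat_lit 50) (nat_lit 1),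
  Rule.mk (nat_lit 1) (nat_lit 116) (Steps.bwd (nat_lit 6) (Steps.bwd (nat_lit 3) (Steps.fwd (nat_lit 49152) (Steps.bwd (nat_lit 1) (Steps.fwd (nat_lit 40960) (Steps.bwd (nat_lit 3) (Steps.fwd (nat_lit 49152) Steps.nil))))))) (nat_lit 36) (nat_lit 1),
  Rule.mk (nat_lit 1) (nat_lit 116) (Steps.fwd (nat_lit 40960) (Steps.fwd (nat_lit 32768) (Steps.bwd (nat_lit 5) (Steps.bwd (nat_lit 1) (Steps.bwd (nat_lit 6) (Steps.fwd (nat_lit 32768) (Steps.bwd (nat_lit 5) Steps.nil))))))) (nat_lit 36) (nat_lit 1),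
  Rule.mk (nat_lit 4) (nat_lit 116) (Steps.bwd (nat_lit 5) (Steps.bwd (nat_lit 2) (Steps.bwd (nat_lit 6) (Steps.bwd (nat_lit 4) (Steps.fwd (nat_lit 49152) (Steps.bwd (nat_lit 2) (Steps.fwd (nat_lit 40960) Steps.nil))))))) (nat_lit 37) (nat_lit 2),
  Rule.mk (nat_lit 3) (nat_lit 116) (Steps.bwd (nat_lit 5) (Steps.bwd (nat_lit 1) (Steps.bwd (nat_lit 6) (Steps.fwd (nat_lit 32768) (Steps.bwd (nat_lit 5) (Steps.fwd (nat_lit 16384) (Steps.fwd (nat_lit 40960) Steps.nil))))))) (nat_lit 36) (nat_lit 3),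
  Rule.mk (nat_lit 4) (nat_lit 86) (Steps.fwd (nat_lit 16384) (Steps.fwd (nat_lit 32768) (Steps.fwd (nat_lit 40960) (Steps.bwd (nat_lit 4) (Steps.bwd (nat_lit 5) Steps.nil))))) (nat_lit 26) (nat_lit 2),
  Rule.mk (nat_lit 5) (nat_lit 146) (Steps.bwd (nat_lit 4) (Steps.bwd (nat_lit 5) (Steps.bwd (nat_lit 4) (Steps.fwd (nat_lit 49152) (Steps.fwd (nat_lit 24576) (Steps.fwd (nat_lit 49152) (Steps.fwd (nat_lit 24576) (Steps.fwd (nat_lit 49152) (Steps.fwd (nat_lit 24576) Steps.nil))))))))) (nat_lit 50) (nat_lit 0),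
  Rule.mk (nat_lit 6) (nat_lit 86) (Steps.bwd (nat_lit 4) (Steps.bwd (nat_lit 5) (Steps.fwd (nat_lit 24576) (Steps.fwd (nat_lit 16384) (Steps.fwd (nat_lit 32768) Steps.nil))))) (nat_lit 26) (nat_lit 5),
  Rule.mk (nat_lit 3) (nat_lit 146) (Steps.bwd (nat_lit 6) (Steps.bwd (nat_lit 3) (Steps.bwd (nat_lit 6) (Steps.fwd (nat_lit 32768) (Steps.fwd (nat_lit 40960) (Steps.bwd (nat_lit 3) (Steps.fwd (nat_lit 40960) (Steps.fwd (nat_lit 32768) (Steps.bwd (nat_lit 6) Steps.nil))))))))) (nat_lit 51) (nat_lit 0),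
  Rule.mk (nat_lit 4) (nat_lit 146) (Steps.bwd (nat_lit 5) (Steps.bwd (nat_lit 4) (Steps.fwd (nat_lit 49152) (Steps.bwd (nat_lit 4) (Steps.bwd (nat_lit 5) (Steps.fwd (nat_lit 24576) (Steps.fwd (nat_lit 49152) (Steps.fwd (nat_lit 24576) (Steps.bwd (nat_lit 5) Steps.nil))))))))) (nat_lit 50) (nat_lit 1),
  Rule.mk (nat_lit 6) (nat_lit 116) (Steps.fwd (nat_lit 32768) (Steps.bwd (nat_lit 5) (Steps.bwd (nat_lit 1) (Steps.fwd (nat_lit 40960) (Steps.fwd (nat_lit 32768) (Steps.fwd (nat_lit 49152) (Steps.fwd (nat_lit 16384) Steps.nil))))))) (nat_lit 36) (nat_lit 2),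
  Rule.mk (nat_lit 5) (nat_lit 116) (Steps.bwd (nat_lit 1) (Steps.bwd (nat_lit 6) (Steps.fwd (nat_lit 32768) (Steps.bwd (nat_lit 5) (Steps.fwd (nat_lit 16384) (Steps.bwd (nat_lit 6) (Steps.fwd (nat_lit 32768) Steps.nil))))))) (nat_lit 36) (nat_lit 0),
  Rule.mk (nat_lit 4) (nat_lit 86) (Steps.bwd (nat_lit 2) (Steps.fwd (nat_lit 32768) (Steps.bwd (nat_lit 6) (Steps.fwd (nat_lit 32768) (Steps.bwd (nat_lit 5) Steps.nil))))) (nat_lit 27) (nat_lit 3),
  Rule.mk (nat_lit 0) (nat_lit 161) (Steps.fwd (nat_lit 32768) (Steps.fwd (nat_lit 40960) (Steps.bwd (nat_lit 3) (Steps.bwd (nat_lit 6) (Steps.bwd (nat_lit 3) (Steps.bwd (nat_lit 6) (Steps.fwd (nat_lit 32768) (Steps.fwd (nat_lit 40960) (Steps.fwd (nat_lit 32768) (Steps.fwd (nat_lit 40960) Steps.nil)))))))))) (nat_lit 51) (nat_lit 1),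
  Rule.mk (nat_lit 5) (nat_lit 86) (Steps.bwd (nat_lit 4) (Steps.bwd (nat_lit 2) (Steps.fwd (nat_lit 32768) (Steps.fwd (nat_lit 40960) (Steps.fwd (nat_lit 32768) Steps.nil))))) (nat_lit 27) (nat_lit 2),
  Rule.mk (nat_lit 5) (nat_lit 146) (Steps.bwd (nat_lit 4) (Steps.bwd (nat_lit 5) (Steps.fwd (nat_lit 24576) (Steps.fwd (nat_lit 49152) (Steps.bwd (nat_lit 4) (Steps.fwd (nat_lit 49152) (Steps.fwd (nat_lit 24576) (Steps.fwd (nat_lit 49152) (Steps.fwd (nat_lit 24576) Steps.nil))))))))) (nat_lit 50) (nat_lit 0),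
  Rule.mk (nat_lit 3) (nat_lit 146) (Steps.bwd (nat_lit 6) (Steps.fwd (nat_lit 32768) (Steps.fwd (nat_lit 40960) (Steps.bwd (nat_lit 3) (Steps.bwd (nat_lit 6) (Steps.fwd (nat_lit 32768) (Steps.bwd (nat_lit 6) (Steps.bwd (nat_lit 3) (Steps.bwd (nat_lit 6) Steps.nil))))))))) (nat_lit 51) (nat_lit 0),
  Rule.mk (nat_lit 5) (nat_lit 116) (Steps.bwd (nat_lit 2) (Steps.bwd (nat_lit 6) (Steps.fwd (nat_lit 24576) (Steps.fwd (nat_lit 49152) (Steps.fwd (nat_lit 8192) (Steps.bwd (nat_lit 6) (Steps.bwd (nat_lit 4) Steps.nil))))))) (nat_lit 37) (nat_lit 3),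
  Rule.mk (nat_lit 4) (nat_lit 86) (Steps.bwd (nat_lit 1) (Steps.bwd (nat_lit 3) (Steps.bwd (nat_lit 6) (Steps.bwd (nat_lit 4) (Steps.bwd (nat_lit 5) Steps.nil))))) (nat_lit 26) (nat_lit 2),
  Rule.mk (nat_lit 3) (nat_lit 86) (Steps.bwd (nat_lit 6) (Steps.bwd (nat_lit 4) (Steps.fwd (nat_lit 49152) (Steps.fwd (nat_lit 24576) (Steps.fwd (nat_lit 16384) Steps.nil))))) (nat_lit 26) (nat_lit 4),
  Rule.mk (nat_lit 2) (nat_lit 116) (Steps.fwd (nat_lit 40960) (Steps.fwd (nat_lit 24576) (Steps.fwd (nat_lit 49152) (Steps.fwd (nat_lit 8192) (Steps.bwd (nat_lit 6) (Steps.bwd (nat_lit 4) (Steps.bwd (nat_lit 5) Steps.nil))))))) (nat_lit 37) (nat_lit 0),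
  Rule.mk (nat_lit 0) (nat_lit 161) (Steps.fwd (nat_lit 32768) (Steps.fwd (nat_lit 40960) (Steps.fwd (nat_lit 32768) (Steps.fwd (nat_lit 40960) (Steps.fwd (nat_lit 32768) (Steps.bwd (nat_lit 6) (Steps.bwd (nat_lit 3) (Steps.bwd (nat_lit 6) (Steps.fwd (nat_lit 32768) (Steps.fwd (nat_lit 40960) Steps.nil)))))))))) (nat_lit 51) (nat_lit 1),
  Rule.mk (nat_lit 6) (nat_lit 116) (Steps.fwd (nat_lit 32768) (Steps.bwd (nat_lit 5) (Steps.bwd (nat_lit 1) (Steps.fwd (nat_lit 40960) (Steps.bwd (nat_lit 3) (Steps.fwd (nat_lit 49152) (Steps.bwd (nat_lit 1) Steps.nil))))))) (nat_lit 36) (nat_lit 2),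
  Rule.mk (nat_lit 2) (nat_lit 116) (Steps.bwd (nat_lit 6) (Steps.bwd (nat_lit 4) (Steps.bwd (nat_lit 5) (Steps.bwd (nat_lit 2) (Steps.fwd (nat_lit 40960) (Steps.fwd (nat_lit 24576) (Steps.bwd (nat_lit 5) Steps.nil))))))) (nat_lit 37) (nat_lit 0),
  Rule.mk (nat_lit 5) (nat_lit 116) (Steps.fwd (nat_lit 8192) (Steps.bwd (nat_lit 6) (Steps.bwd (nat_lit 4) (Steps.bwd (nat_lit 5) (Steps.fwd (nat_lit 8192) (Steps.fwd (nat_lit 40960) (Steps.bwd (nat_lit 4) Steps.nil))))))) (nat_lit 37) (nat_lit 3),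
  Rule.mk (nat_lit 5) (nat_lit 146) (Steps.bwd (nat_lit 4) (Steps.bwd (nat_lit 5) (Steps.bwd (nat_lit 4) (Steps.bwd (nat_lit 5) (Steps.bwd (nat_lit 4) (Steps.fwd (nat_lit 49152) (Steps.bwd (nat_lit 4) (Steps.bwd (nat_lit 5) (Steps.bwd (nat_lit 4) Steps.nil))))))))) (nat_lit 50) (nat_lit 0),
  Rule.mk (nat_lit 2) (nat_lit 116) (Steps.fwd (nat_lit 40960) (Steps.bwd (nat_lit 4) (Steps.fwd (nat_lit 49152) (Steps.bwd (nat_lit 2) (Steps.fwd (nat_lit 40960) (Steps.bwd (nat_lit 4) (Steps.bwd (nat_lit 5) Steps.nil))))))) (nat_lit 37) (nat_lit 0),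
  Rule.mk (nat_lit 6) (nat_lit 146) (Steps.bwd (nat_lit 3) (Steps.bwd (nat_lit 6) (Steps.bwd (nat_lit 3) (Steps.bwd (nat_lit 6) (Steps.bwd (nat_lit 3) (Steps.bwd (nat_lit 6) (Steps.bwd (nat_lit 3) (Steps.bwd (nat_lit 6) (Steps.fwd (nat_lit 32768) Steps.nil))))))))) (nat_lit 51) (nat_lit 1),
  Rule.mk (nat_lit 4) (nat_lit 86) (Steps.bwd (nat_lit 2) (Steps.fwd (nat_lit 32768) (Steps.bwd (nat_lit 6) (Steps.bwd (nat_lit 3) (Steps.fwd (nat_lit 49152) Steps.nil))))) (nat_lit 27) (nat_lit 3),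
  Rule.mk (nat_lit 5) (nat_lit 146) (Steps.bwd (nat_lit 4) (Steps.bwd (nat_lit 5) (Steps.bwd (nat_lit 4) (Steps.bwd (nat_lit 5) (Steps.fwd (nat_lit 24576) (Steps.bwd (nat_lit 5) (Steps.fwd (nat_lit 24576) (Steps.bwd (nat_lit 5) (Steps.bwd (nat_lit 4) Steps.nil))))))))) (nat_lit 50) (nat_lit 0),
  Rule.mk (nat_lit 3) (nat_lit 116) (Steps.bwd (nat_lit 5) (Steps.bwd (nat_lit 1) (Steps.fwd (nat_lit 40960) (Steps.fwd (nat_lit 32768) (Steps.fwd (nat_lit 49152) (Steps.fwd (nat_lit 16384) (Steps.bwd (nat_lit 6) Steps.nil))))))) (nat_lit 36) (nat_lit 3),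
  Rule.mk (nat_lit 2) (nat_lit 116) (Steps.bwd (nat_lit 6) (Steps.bwd (nat_lit 4) (Steps.bwd (nat_lit 5) (Steps.fwd (nat_lit 8192) (Steps.fwd (nat_lit 40960) (Steps.bwd (nat_lit 4) (Steps.bwd (nat_lit 5) Steps.nil))))))) (nat_lit 37) (nat_lit 0),
  Rule.mk (nat_lit 3) (nat_lit 86) (Steps.bwd (nat_lit 6) (Steps.bwd (nat_lit 3) (Steps.fwd (nat_lit 49152) (Steps.fwd (nat_lit 24576) (Steps.bwd (nat_lit 2) Steps.nil))))) (nat_lit 27) (nat_lit 5)]
noncomputable def R_7 : List (Rule) := [Rule.mk (nat_lit 4) (nat_lit 86) (Steps.bwd (nat_lit 2) (Steps.bwd (nat_lit 3) (Steps.fwd (nat_lit 40960) (Steps.fwd (nat_lit 32768) (Steps.fwd (nat_lit 49152) Steps.nil))))) (nat_lit 27) (nat_lit 3),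
  Rule.mk (nat_lit 4) (nat_lit 41) (Steps.fwd (nat_lit 24576) (Steps.bwd (nat_lit 4) Steps.nil)) (nat_lit 9) (nat_lit 0),
  Rule.mk (nat_lit 5) (nat_lit 116) (Steps.bwd (nat_lit 1) (Steps.fwd (nat_lit 40960) (Steps.bwd (nat_lit 3) (Steps.fwd (nat_lit 49152) (Steps.bwd (nat_lit 1) (Steps.bwd (nat_lit 6) (Steps.bwd (nat_lit 3) Steps.nil))))))) (nat_lit 36) (nat_lit 0),
  Rule.mk (nat_lit 0) (nat_lit 161) (Steps.bwd (nat_lit 5) (Steps.bwd (nat_lit 4) (Steps.bwd (nat_lit 5) (Steps.bwd (nat_lit 4) (Steps.bwd (nat_lit 5) (Steps.bwd (nat_lit 4) (Steps.fwd (nat_lit 49152) (Steps.bwd (nat_lit 4) (Steps.bwd (nat_lit 5) (Steps.fwd (nat_lit 24576) Steps.nil)))))))))) (nat_lit 50) (nat_lit 1),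
  Rule.mk (nat_lit 5) (nat_lit 116) (Steps.fwd (nat_lit 16384) (Steps.bwd (nat_lit 6) (Steps.bwd (nat_lit 3) (Steps.bwd (nat_lit 5) (Steps.bwd (nat_lit 1) (Steps.bwd (nat_lit 6) (Steps.bwd (nat_lit 3) Steps.nil))))))) (nat_lit 36) (nat_lit 0),
  Rule.mk (nat_lit 2) (nat_lit 116) (Steps.fwd (nat_lit 40960) (Steps.bwd (nat_lit 4) (Steps.bwd (nat_lit 5) (Steps.fwd (nat_lit 8192) (Steps.bwd (nat_lit 6) (Steps.fwd (nat_lit 24576) (Steps.fwd (nat_lit 49152) Steps.nil))))))) (nat_lit 37) (nat_lit 0),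
  Rule.mk (nat_lit 4) (nat_lit 146) (Steps.bwd (nat_lit 5) (Steps.bwd (nat_lit 4) (Steps.bwd (nat_lit 5) (Steps.fwd (nat_lit 24576) (Steps.bwd (nat_lit 5) (Steps.bwd (nat_lit 4) (Steps.bwd (nat_lit 5) (Steps.bwd (nat_lit 4) (Steps.bwd (nat_lit 5) Steps.nil))))))))) (nat_lit 50) (nat_lit 1),
  Rule.mk (nat_lit 1) (nat_lit 116) (Steps.bwd (nat_lit 6) (Steps.bwd (nat_lit 3) (Steps.fwd (nat_lit 49152) (Steps.fwd (nat_lit 16384) (Steps.bwd (nat_lit 6) (Steps.fwd (nat_lit 32768) (Steps.bwd (nat_lit 5) Steps.nil))))))) (nat_lit 36) (nat_lit 1),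
  Rule.mk (nat_lit 3) (nat_lit 86) (Steps.fwd (nat_lit 40960) (Steps.bwd (nat_lit 4) (Steps.bwd (nat_lit 5) (Steps.bwd (nat_lit 4) (Steps.bwd (nat_lit 1) Steps.nil))))) (nat_lit 26) (nat_lit 4),
  Rule.mk (nat_lit 0) (nat_lit 56) (Steps.bwd (nat_lit 4) (Steps.fwd (nat_lit 24576) (Steps.fwd (nat_lit 24576) Steps.nil))) (nat_lit 9) (nat_lit 0),
  Rule.mk (nat_lit 0) (nat_lit 56) (Steps.fwd (nat_lit 49152) (Steps.bwd (nat_lit 0) (Steps.bwd (nat_lit 6) Steps.nil))) (nat_lit 56) (nat_lit 0),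
  Rule.mk (nat_lit 0) (nat_lit 56) (Steps.bwd (nat_lit 6) (Steps.bwd (nat_lit 0) (Steps.bwd (nat_lit 5) Steps.nil))) (nat_lit 56) (nat_lit 0),
  Rule.mk (nat_lit 0) (nat_lit 56) (Steps.bwd (nat_lit 2) (Steps.bwd (nat_lit 0) (Steps.fwd (nat_lit 16384) Steps.nil))) (nat_lit 56) (nat_lit 0),
  Rule.mk (nat_lit 0) (nat_lit 56) (Steps.bwd (nat_lit 5) (Steps.bwd (nat_lit 0) (Steps.fwd (nat_lit 40960) Steps.nil))) (nat_lit 56) (nat_lit 0),
  Rule.mk (nat_lit 0) (nat_lit 56) (Steps.bwd (nat_lit 2) (Steps.fwd (nat_lit 0) (Steps.fwd (nat_lit 16384) Steps.nil))) (nat_lit 56) (nat_lit 0),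
  Rule.mk (nat_lit 0) (nat_lit 56) (Steps.fwd (nat_lit 24576) (Steps.fwd (nat_lit 0) (Steps.bwd (nat_lit 3) Steps.nil))) (nat_lit 56) (nat_lit 0),
  Rule.mk (nat_lit 0) (nat_lit 131) (Steps.bwd (nat_lit 6) (Steps.fwd (nat_lit 24576) (Steps.bwd (nat_lit 5) (Steps.bwd (nat_lit 2) (Steps.bwd (nat_lit 6) (Steps.fwd (nat_lit 24576) (Steps.fwd (nat_lit 49152) (Steps.bwd (nat_lit 2) Steps.nil)))))))) (nat_lit 37) (nat_lit 0),
  Rule.mk (nat_lit 0) (nat_lit 161) (Steps.fwd (nat_lit 40960) (Steps.fwd (nat_lit 32768) (Steps.bwd (nat_lit 6) (Steps.bwd (nat_lit 3) (Steps.bwd (nat_lit 6) (Steps.fwd (nat_lit 32768) (Steps.fwd (nat_lit 40960) (Steps.bwd (nat_lit 3) (Steps.bwd (nat_lit 6) (Steps.bwd (nat_lit 3) Steps.nil)))))))))) (nat_lit 51) (nat_lit 0),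
  Rule.mk (nat_lit 0) (nat_lit 131) (Steps.bwd (nat_lit 2) (Steps.bwd (nat_lit 6) (Steps.fwd (nat_lit 24576) (Steps.bwd (nat_lit 5) (Steps.bwd (nat_lit 2) (Steps.fwd (nat_lit 40960) (Steps.bwd (nat_lit 4) (Steps.bwd (nat_lit 5) Steps.nil)))))))) (nat_lit 37) (nat_lit 3),
  Rule.mk (nat_lit 5) (nat_lit 146) (Steps.bwd (nat_lit 4) (Steps.bwd (nat_lit 5) (Steps.bwd (nat_lit 4) (Steps.fwd (nat_lit 49152) (Steps.fwd (nat_lit 24576) (Steps.bwd (nat_lit 5) (Steps.fwd (nat_lit 24576) (Steps.fwd (nat_lit 49152) (Steps.fwd (nat_lit 24576) Steps.nil))))))))) (nat_lit 50) (nat_lit 0),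
  Rule.mk (nat_lit 6) (nat_lit 116) (Steps.fwd (nat_lit 32768) (Steps.bwd (nat_lit 5) (Steps.bwd (nat_lit 1) (Steps.fwd (nat_lit 40960) (Steps.bwd (nat_lit 3) (Steps.bwd (nat_lit 5) (Steps.fwd (nat_lit 16384) Steps.nil))))))) (nat_lit 36) (nat_lit 2),
  Rule.mk (nat_lit 0) (nat_lit 131) (Steps.fwd (nat_lit 16384) (Steps.bwd (nat_lit 6) (Steps.bwd (nat_lit 3) (Steps.bwd (nat_lit 5) (Steps.fwd (nat_lit 16384) (Steps.fwd (nat_lit 40960) (Steps.fwd (nat_lit 32768) (Steps.bwd (nat_lit 5) Steps.nil)))))))) (nat_lit 36) (nat_lit 0),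
  Rule.mk (nat_lit 0) (nat_lit 56) (Steps.fwd (nat_lit 8192) (Steps.fwd (nat_lit 0) (Steps.bwd (nat_lit 1) Steps.nil))) (nat_lit 56) (nat_lit 0),
  Rule.mk (nat_lit 0) (nat_lit 56) (Steps.bwd (nat_lit 2) (Steps.bwd (nat_lit 0) (Steps.bwd (nat_lit 1) Steps.nil))) (nat_lit 56) (nat_lit 0),
  Rule.mk (nat_lit 3) (nat_lit 86) (Steps.bwd (nat_lit 5) (Steps.fwd (nat_lit 24576) (Steps.bwd (nat_lit 2) (Steps.bwd (nat_lit 3) (Steps.bwd (nat_lit 6) Steps.nil))))) (nat_lit 27) (nat_lit 1),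
  Rule.mk (nat_lit 4) (nat_lit 146) (Steps.fwd (nat_lit 49152) (Steps.fwd (nat_lit 24576) (Steps.fwd (nat_lit 49152) (Steps.fwd (nat_lit 24576) (Steps.bwd (nat_lit 5) (Steps.bwd (nat_lit 4) (Steps.bwd (nat_lit 5) (Steps.bwd (nat_lit 4) (Steps.bwd (nat_lit 5) Steps.nil))))))))) (nat_lit 50) (nat_lit 1),
  Rule.mk (nat_lit 0) (nat_lit 131) (Steps.fwd (nat_lit 8192) (Steps.fwd (nat_lit 40960) (Steps.bwd (nat_lit 4) (Steps.fwd (nat_lit 49152) (Steps.fwd (nat_lit 8192) (Steps.bwd (nat_lit 6) (Steps.fwd (nat_lit 24576) (Steps.bwd (nat_lit 5) Steps.nil)))))))) (nat_lit 37) (nat_lit 3),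
  Rule.mk (nat_lit 0) (nat_lit 101) (Steps.bwd (nat_lit 4) (Steps.bwd (nat_lit 2) (Steps.fwd (nat_lit 32768) (Steps.fwd (nat_lit 40960) (Steps.fwd (nat_lit 32768) (Steps.fwd (nat_lit 49152) Steps.nil)))))) (nat_lit 27) (nat_lit 2),
  Rule.mk (nat_lit 3) (nat_lit 86) (Steps.bwd (nat_lit 6) (Steps.fwd (nat_lit 32768) (Steps.bwd (nat_lit 5) (Steps.bwd (nat_lit 4) (Steps.bwd (nat_lit 2) Steps.nil))))) (nat_lit 27) (nat_lit 5),
  Rule.mk (nat_lit 0) (nat_lit 161) (Steps.fwd (nat_lit 32768) (Steps.fwd (nat_lit 40960) (Steps.fwd (nat_lit 32768) (Steps.fwd (nat_lit 40960) (Steps.bwd (nat_lit 3) (Steps.bwd (nat_lit 6) (Steps.fwd (nat_lit 32768) (Steps.bwd (nat_lit 6) (Steps.bwd (nat_lit 3) (Steps.bwd (nat_lit 6) Steps.nil)))))))))) (nat_lit 51) (nat_lit 1),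
  Rule.mk (nat_lit 0) (nat_lit 56) (Steps.fwd (nat_lit 32768) (Steps.bwd (nat_lit 0) (Steps.bwd (nat_lit 4) Steps.nil))) (nat_lit 56) (nat_lit 0),
  Rule.mk (nat_lit 0) (nat_lit 56) (Steps.fwd (nat_lit 16384) (Steps.bwd (nat_lit 0) (Steps.fwd (nat_lit 8192) Steps.nil))) (nat_lit 56) (nat_lit 0),
  Rule.mk (nat_lit 0) (nat_lit 56) (Steps.fwd (nat_lit 16384) (Steps.fwd (nat_lit 0) (Steps.bwd (nat_lit 2) Steps.nil))) (nat_lit 56) (nat_lit 0),
  Rule.mk (nat_lit 0) (nat_lit 101) (Steps.fwd (nat_lit 24576) (Steps.fwd (nat_lit 8192) (Steps.bwd (nat_lit 3) (Steps.fwd (nat_lit 40960) (Steps.fwd (nat_lit 32768) (Steps.bwd (nat_lit 5) Steps.nil)))))) (nat_lit 27) (nat_lit 2),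
  Rule.mk (nat_lit 3) (nat_lit 86) (Steps.bwd (nat_lit 6) (Steps.fwd (nat_lit 32768) (Steps.bwd (nat_lit 5) (Steps.fwd (nat_lit 24576) (Steps.fwd (nat_lit 8192) Steps.nil))))) (nat_lit 27) (nat_lit 5),
  Rule.mk (nat_lit 0) (nat_lit 161) (Steps.bwd (nat_lit 5) (Steps.bwd (nat_lit 4) (Steps.fwd (nat_lit 49152) (Steps.fwd (nat_lit 24576) (Steps.fwd (nat_lit 49152) (Steps.bwd (nat_lit 4) (Steps.fwd (nat_lit 49152) (Steps.fwd (nat_lit 24576) (Steps.bwd (nat_lit 5) (Steps.bwd (nat_lit 4) Steps.nil)))))))))) (nat_lit 50) (nat_lit 1),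
  Rule.mk (nat_lit 0) (nat_lit 131) (Steps.bwd (nat_lit 6) (Steps.bwd (nat_lit 3) (Steps.fwd (nat_lit 49152) (Steps.fwd (nat_lit 16384) (Steps.bwd (nat_lit 6) (Steps.fwd (nat_lit 32768) (Steps.bwd (nat_lit 5) (Steps.fwd (nat_lit 16384) Steps.nil)))))))) (nat_lit 36) (nat_lit 1),
  Rule.mk (nat_lit 5) (nat_lit 146) (Steps.bwd (nat_lit 4) (Steps.fwd (nat_lit 49152) (Steps.fwd (nat_lit 24576) (Steps.fwd (nat_lit 49152) (Steps.bwd (nat_lit 4) (Steps.bwd (nat_lit 5) (Steps.bwd (nat_lit 4) (Steps.bwd (nat_lit 5) (Steps.bwd (nat_lit 4) Steps.nil))))))))) (nat_lit 50) (nat_lit 0),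
  Rule.mk (nat_lit 5) (nat_lit 116) (Steps.bwd (nat_lit 1) (Steps.fwd (nat_lit 40960) (Steps.bwd (nat_lit 3) (Steps.bwd (nat_lit 5) (Steps.fwd (nat_lit 16384) (Steps.bwd (nat_lit 6) (Steps.bwd (nat_lit 3) Steps.nil))))))) (nat_lit 36) (nat_lit 0),
  Rule.mk (nat_lit 0) (nat_lit 131) (Steps.bwd (nat_lit 6) (Steps.bwd (nat_lit 3) (Steps.fwd (nat_lit 49152) (Steps.bwd (nat_lit 1) (Steps.fwd (nat_lit 40960) (Steps.bwd (nat_lit 3) (Steps.bwd (nat_lit 5) (Steps.fwd (nat_lit 16384) Steps.nil)))))))) (nat_lit 36) (nat_lit 1),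
  Rule.mk (nat_lit 0) (nat_lit 131) (Steps.bwd (nat_lit 6) (Steps.bwd (nat_lit 3) (Steps.bwd (nat_lit 5) (Steps.fwd (nat_lit 16384) (Steps.bwd (nat_lit 6) (Steps.fwd (nat_lit 32768) (Steps.fwd (nat_lit 49152) (Steps.bwd (nat_lit 1) Steps.nil)))))))) (nat_lit 36) (nat_lit 1),
  Rule.mk (nat_lit 6) (nat_lit 116) (Steps.fwd (nat_lit 24576) (Steps.fwd (nat_lit 49152) (Steps.fwd (nat_lit 8192) (Steps.fwd (nat_lit 40960) (Steps.bwd (nat_lit 4) (Steps.fwd (nat_lit 49152) (Steps.bwd (nat_lit 2) Steps.nil))))))) (nat_lit 37) (nat_lit 1),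
  Rule.mk (nat_lit 0) (nat_lit 101) (Steps.bwd (nat_lit 2) (Steps.fwd (nat_lit 32768) (Steps.fwd (nat_lit 40960) (Steps.fwd (nat_lit 32768) (Steps.bwd (nat_lit 5) (Steps.fwd (nat_lit 24576) Steps.nil)))))) (nat_lit 27) (nat_lit 3),
  Rule.mk (nat_lit 0) (nat_lit 131) (Steps.bwd (nat_lit 1) (Steps.fwd (nat_lit 40960) (Steps.fwd (nat_lit 32768) (Steps.bwd (nat_lit 5) (Steps.fwd (nat_lit 16384) (Steps.fwd (nat_lit 40960) (Steps.fwd (nat_lit 32768) (Steps.bwd (nat_lit 5) Steps.nil)))))))) (nat_lit 36) (nat_lit 0),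
  Rule.mk (nat_lit 0) (nat_lit 131) (Steps.bwd (nat_lit 2) (Steps.fwd (nat_lit 40960) (Steps.bwd (nat_lit 4) (Steps.bwd (nat_lit 5) (Steps.fwd (nat_lit 8192) (Steps.fwd (nat_lit 40960) (Steps.fwd (nat_lit 24576) (Steps.fwd (nat_lit 49152) Steps.nil)))))))) (nat_lit 37) (nat_lit 3),
  Rule.mk (nat_lit 1) (nat_lit 116) (Steps.fwd (nat_lit 40960) (Steps.fwd (nat_lit 32768) (Steps.bwd (nat_lit 5) (Steps.fwd (nat_lit 16384) (Steps.bwd (nat_lit 6) (Steps.fwd (nat_lit 32768) (Steps.bwd (nat_lit 5) Steps.nil))))))) (nat_lit 36) (nat_lit 1),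
  Rule.mk (nat_lit 2) (nat_lit 116) (Steps.bwd (nat_lit 6) (Steps.fwd (nat_lit 24576) (Steps.bwd (nat_lit 5) (Steps.fwd (nat_lit 8192) (Steps.bwd (nat_lit 6) (Steps.bwd (nat_lit 4) (Steps.bwd (nat_lit 5) Steps.nil))))))) (nat_lit 37) (nat_lit 0),
  Rule.mk (nat_lit 2) (nat_lit 116) (Steps.bwd (nat_lit 6) (Steps.fwd (nat_lit 24576) (Steps.fwd (nat_lit 49152) (Steps.bwd (nat_lit 2) (Steps.fwd (nat_lit 40960) (Steps.fwd (nat_lit 24576) (Steps.fwd (nat_lit 49152) Steps.nil))))))) (nat_lit 37) (nat_lit 0),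
  Rule.mk (nat_lit 6) (nat_lit 116) (Steps.bwd (nat_lit 4) (Steps.bwd (nat_lit 5) (Steps.bwd (nat_lit 2) (Steps.bwd (nat_lit 6) (Steps.bwd (nat_lit 4) (Steps.bwd (nat_lit 5) (Steps.bwd (nat_lit 2) Steps.nil))))))) (nat_lit 37) (nat_lit 1),
  Rule.mk (nat_lit 6) (nat_lit 86) (Steps.fwd (nat_lit 24576) (Steps.bwd (nat_lit 5) (Steps.fwd (nat_lit 24576) (Steps.fwd (nat_lit 16384) (Steps.bwd (nat_lit 3) Steps.nil))))) (nat_lit 26) (nat_lit 5),
  Rule.mk (nat_lit 0) (nat_lit 101) (Steps.fwd (nat_lit 32768) (Steps.fwd (nat_lit 40960) (Steps.fwd (nat_lit 24576) (Steps.bwd (nat_lit 5) (Steps.bwd (nat_lit 4) (Steps.fwd (nat_lit 16384) Steps.nil)))))) (nat_lit 26) (nat_lit 3),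
  Rule.mk (nat_lit 2) (nat_lit 116) (Steps.bwd (nat_lit 6) (Steps.fwd (nat_lit 24576) (Steps.fwd (nat_lit 49152) (Steps.fwd (nat_lit 8192) (Steps.bwd (nat_lit 6) (Steps.bwd (nat_lit 4) (Steps.bwd (nat_lit 5) Steps.nil))))))) (nat_lit 37) (nat_lit 0),
  Rule.mk (nat_lit 3) (nat_lit 116) (Steps.bwd (nat_lit 5) (Steps.bwd (nat_lit 1) (Steps.fwd (nat_lit 40960) (Steps.fwd (nat_lit 32768) (Steps.bwd (nat_lit 5) (Steps.bwd (nat_lit 1) (Steps.bwd (nat_lit 6) Steps.nil))))))) (nat_lit 36) (nat_lit 3),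
  Rule.mk (nat_lit 4) (nat_lit 116) (Steps.bwd (nat_lit 5) (Steps.bwd (nat_lit 2) (Steps.fwd (nat_lit 40960) (Steps.bwd (nat_lit 4) (Steps.fwd (nat_lit 49152) (Steps.bwd (nat_lit 2) (Steps.fwd (nat_lit 40960) Steps.nil))))))) (nat_lit 37) (nat_lit 2),
  Rule.mk (nat_lit 3) (nat_lit 146) (Steps.bwd (nat_lit 6) (Steps.fwd (nat_lit 32768) (Steps.bwd (nat_lit 6) (Steps.bwd (nat_lit 3) (Steps.fwd (nat_lit 40960) (Steps.fwd (nat_lit 32768) (Steps.fwd (nat_lit 40960) (Steps.fwd (nat_lit 32768) (Steps.bwd (nat_lit 6) Steps.nil))))))))) (nat_lit 51) (nat_lit 0),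
  Rule.mk (nat_lit 6) (nat_lit 146) (Steps.bwd (nat_lit 3) (Steps.bwd (nat_lit 6) (Steps.fwd (nat_lit 32768) (Steps.fwd (nat_lit 40960) (Steps.fwd (nat_lit 32768) (Steps.bwd (nat_lit 6) (Steps.bwd (nat_lit 3) (Steps.bwd (nat_lit 6) (Steps.bwd (nat_lit 3) Steps.nil))))))))) (nat_lit 51) (nat_lit 1),
  Rule.mk (nat_lit 5) (nat_lit 116) (Steps.bwd (nat_lit 1) (Steps.bwd (nat_lit 6) (Steps.bwd (nat_lit 3) (Steps.fwd (nat_lit 49152) (Steps.bwd (nat_lit 1) (Steps.bwd (nat_lit 6) (Steps.fwd (nat_lit 32768) Steps.nil))))))) (nat_lit 36) (nat_lit 0),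
  Rule.mk (nat_lit 2) (nat_lit 116) (Steps.bwd (nat_lit 6) (Steps.fwd (nat_lit 24576) (Steps.bwd (nat_lit 5) (Steps.fwd (nat_lit 8192) (Steps.bwd (nat_lit 6) (Steps.fwd (nat_lit 24576) (Steps.fwd (nat_lit 49152) Steps.nil))))))) (nat_lit 37) (nat_lit 0),
  Rule.mk (nat_lit 3) (nat_lit 146) (Steps.bwd (nat_lit 6) (Steps.bwd (nat_lit 3) (Steps.bwd (nat_lit 6) (Steps.bwd (nat_lit 3) (Steps.bwd (nat_lit 6) (Steps.bwd (nat_lit 3) (Steps.fwd (nat_lit 40960) (Steps.fwd (nat_lit 32768) (Steps.fwd (nat_lit 40960) Steps.nil))))))))) (nat_lit 51) (nat_lit 0),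
  Rule.mk (nat_lit 3) (nat_lit 86) (Steps.bwd (nat_lit 5) (Steps.bwd (nat_lit 4) (Steps.fwd (nat_lit 8192) (Steps.bwd (nat_lit 3) (Steps.fwd (nat_lit 40960) Steps.nil))))) (nat_lit 27) (nat_lit 1),
  Rule.mk (nat_lit 5) (nat_lit 116) (Steps.bwd (nat_lit 2) (Steps.bwd (nat_lit 6) (Steps.fwd (nat_lit 24576) (Steps.fwd (nat_lit 49152) (Steps.bwd (nat_lit 2) (Steps.bwd (nat_lit 6) (Steps.bwd (nat_lit 4) Steps.nil))))))) (nat_lit 37) (nat_lit 3),
  Rule.mk (nat_lit 5) (nat_lit 146) (Steps.bwd (nat_lit 4) (Steps.bwd (nat_lit 5) (Steps.bwd (nat_lit 4) (Steps.bwd (nat_lit 5) (Steps.fwd (nat_lit 24576) (Steps.fwd (nat_lit 49152) (Steps.bwd (nat_lit 4) (Steps.bwd (nat_lit 5) (Steps.bwd (nat_lit 4) Steps.nil))))))))) (nat_lit 50) (nat_lit 0),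
  Rule.mk (nat_lit 3) (nat_lit 146) (Steps.bwd (nat_lit 6) (Steps.bwd (nat_lit 3) (Steps.bwd (nat_lit 6) (Steps.fwd (nat_lit 32768) (Steps.fwd (nat_lit 40960) (Steps.bwd (nat_lit 3) (Steps.bwd (nat_lit 6) (Steps.bwd (nat_lit 3) (Steps.bwd (nat_lit 6) Steps.nil))))))))) (nat_lit 51) (nat_lit 0),
  Rule.mk (nat_lit 3) (nat_lit 86) (Steps.bwd (nat_lit 6) (Steps.bwd (nat_lit 3) (Steps.fwd (nat_lit 49152) (Steps.bwd (nat_lit 4) (Steps.fwd (nat_lit 8192) Steps.nil))))) (nat_lit 27) (nat_lit 5)]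
noncomputable def R_8 : List (Rule) := [Rule.mk (nat_lit 0) (nat_lit 161) (Steps.fwd (nat_lit 49152) (Steps.fwd (nat_lit 24576) (Steps.bwd (nat_lit 5) (Steps.bwd (nat_lit 4) (Steps.bwd (nat_lit 5) (Steps.bwd (nat_lit 4) (Steps.fwd (nat_lit 49152) (Steps.fwd (nat_lit 24576) (Steps.bwd (nat_lit 5) (Steps.bwd (nat_lit 4) Steps.nil)))))))))) (nat_lit 50) (nat_lit 1),
  Rule.mk (nat_lit 0) (nat_lit 56) (Steps.fwd (nat_lit 40960) (Steps.bwd (nat_lit 0) (Steps.fwd (nat_lit 49152) Steps.nil))) (nat_lit 56) (nat_lit 0),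
  Rule.mk (nat_lit 0) (nat_lit 56) (Steps.fwd (nat_lit 49152) (Steps.bwd (nat_lit 0) (Steps.fwd (nat_lit 40960) Steps.nil))) (nat_lit 56) (nat_lit 0),
  Rule.mk (nat_lit 0) (nat_lit 56) (Steps.bwd (nat_lit 1) (Steps.fwd (nat_lit 0) (Steps.fwd (nat_lit 8192) Steps.nil))) (nat_lit 56) (nat_lit 0),
  Rule.mk (nat_lit 2) (nat_lit 116) (Steps.bwd (nat_lit 6) (Steps.fwd (nat_lit 24576) (Steps.bwd (nat_lit 5) (Steps.fwd (nat_lit 8192) (Steps.bwd (nat_lit 6) (Steps.bwd (nat_lit 4) (Steps.fwd (nat_lit 49152) Steps.nil))))))) (nat_lit 37) (nat_lit 0),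
  Rule.mk (nat_lit 2) (nat_lit 116) (Steps.bwd (nat_lit 6) (Steps.fwd (nat_lit 24576) (Steps.fwd (nat_lit 49152) (Steps.bwd (nat_lit 2) (Steps.fwd (nat_lit 40960) (Steps.bwd (nat_lit 4) (Steps.fwd (nat_lit 49152) Steps.nil))))))) (nat_lit 37) (nat_lit 0),
  Rule.mk (nat_lit 5) (nat_lit 146) (Steps.bwd (nat_lit 4) (Steps.fwd (nat_lit 49152) (Steps.fwd (nat_lit 24576) (Steps.fwd (nat_lit 49152) (Steps.fwd (nat_lit 24576) (Steps.bwd (nat_lit 5) (Steps.bwd (nat_lit 4) (Steps.bwd (nat_lit 5) (Steps.bwd (nat_lit 4) Steps.nil))))))))) (nat_lit 50) (nat_lit 0),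
  Rule.mk (nat_lit 2) (nat_lit 116) (Steps.bwd (nat_lit 6) (Steps.fwd (nat_lit 24576) (Steps.fwd (nat_lit 49152) (Steps.fwd (nat_lit 8192) (Steps.bwd (nat_lit 6) (Steps.fwd (nat_lit 24576) (Steps.bwd (nat_lit 5) Steps.nil))))))) (nat_lit 37) (nat_lit 0),
  Rule.mk (nat_lit 5) (nat_lit 116) (Steps.bwd (nat_lit 2) (Steps.fwd (nat_lit 40960) (Steps.fwd (nat_lit 24576) (Steps.bwd (nat_lit 5) (Steps.bwd (nat_lit 2) (Steps.fwd (nat_lit 40960) (Steps.bwd (nat_lit 4) Steps.nil))))))) (nat_lit 37) (nat_lit 3),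
  Rule.mk (nat_lit 4) (nat_lit 86) (Steps.bwd (nat_lit 1) (Steps.bwd (nat_lit 3) (Steps.bwd (nat_lit 6) (Steps.bwd (nat_lit 4) (Steps.fwd (nat_lit 49152) Steps.nil))))) (nat_lit 26) (nat_lit 2),
  Rule.mk (nat_lit 5) (nat_lit 116) (Steps.fwd (nat_lit 8192) (Steps.fwd (nat_lit 40960) (Steps.bwd (nat_lit 4) (Steps.fwd (nat_lit 49152) (Steps.fwd (nat_lit 8192) (Steps.bwd (nat_lit 6) (Steps.bwd (nat_lit 4) Steps.nil))))))) (nat_lit 37) (nat_lit 3),
  Rule.mk (nat_lit 4) (nat_lit 146) (Steps.bwd (nat_lit 5) (Steps.fwd (nat_lit 24576) (Steps.bwd (nat_lit 5) (Steps.fwd (nat_lit 24576) (Steps.bwd (nat_lit 5) (Steps.bwd (nat_lit 4) (Steps.fwd (nat_lit 49152) (Steps.bwd (nat_lit 4) (Steps.bwd (nat_lit 5) Steps.nil))))))))) (nat_lit 50) (nat_lit 1),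
  Rule.mk (nat_lit 5) (nat_lit 86) (Steps.bwd (nat_lit 4) (Steps.bwd (nat_lit 2) (Steps.bwd (nat_lit 3) (Steps.fwd (nat_lit 40960) (Steps.bwd (nat_lit 3) Steps.nil))))) (nat_lit 27) (nat_lit 2),
  Rule.mk (nat_lit 1) (nat_lit 116) (Steps.fwd (nat_lit 40960) (Steps.fwd (nat_lit 32768) (Steps.bwd (nat_lit 5) (Steps.bwd (nat_lit 1) (Steps.fwd (nat_lit 40960) (Steps.bwd (nat_lit 3) (Steps.bwd (nat_lit 5) Steps.nil))))))) (nat_lit 36) (nat_lit 1),
  Rule.mk (nat_lit 6) (nat_lit 116) (Steps.bwd (nat_lit 4) (Steps.bwd (nat_lit 5) (Steps.bwd (nat_lit 2) (Steps.fwd (nat_lit 40960) (Steps.bwd (nat_lit 4) (Steps.fwd (nat_lit 49152) (Steps.fwd (nat_lit 8192) Steps.nil))))))) (nat_lit 37) (nat_lit 1),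
  Rule.mk (nat_lit 3) (nat_lit 116) (Steps.bwd (nat_lit 5) (Steps.bwd (nat_lit 1) (Steps.fwd (nat_lit 40960) (Steps.bwd (nat_lit 3) (Steps.fwd (nat_lit 49152) (Steps.bwd (nat_lit 1) (Steps.bwd (nat_lit 6) Steps.nil))))))) (nat_lit 36) (nat_lit 3),
  Rule.mk (nat_lit 4) (nat_lit 116) (Steps.bwd (nat_lit 5) (Steps.fwd (nat_lit 8192) (Steps.bwd (nat_lit 6) (Steps.bwd (nat_lit 4) (Steps.fwd (nat_lit 49152) (Steps.bwd (nat_lit 2) (Steps.fwd (nat_lit 40960) Steps.nil))))))) (nat_lit 37) (nat_lit 2),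
  Rule.mk (nat_lit 0) (nat_lit 101) (Steps.bwd (nat_lit 1) (Steps.fwd (nat_lit 32768) (Steps.fwd (nat_lit 40960) (Steps.bwd (nat_lit 4) (Steps.bwd (nat_lit 5) (Steps.bwd (nat_lit 4) Steps.nil)))))) (nat_lit 26) (nat_lit 2),
  Rule.mk (nat_lit 6) (nat_lit 86) (Steps.fwd (nat_lit 32768) (Steps.bwd (nat_lit 5) (Steps.bwd (nat_lit 4) (Steps.fwd (nat_lit 8192) (Steps.bwd (nat_lit 3) Steps.nil))))) (nat_lit 27) (nat_lit 0),
  Rule.mk (nat_lit 5) (nat_lit 116) (Steps.bwd (nat_lit 1) (Steps.bwd (nat_lit 6) (Steps.fwd (nat_lit 32768) (Steps.bwd (nat_lit 5) (Steps.bwd (nat_lit 1) (Steps.bwd (nat_lit 6) (Steps.fwd (nat_lit 32768) Steps.nil))))))) (nat_lit 36) (nat_lit 0),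
  Rule.mk (nat_lit 4) (nat_lit 116) (Steps.fwd (nat_lit 49152) (Steps.fwd (nat_lit 8192) (Steps.bwd (nat_lit 6) (Steps.fwd (nat_lit 24576) (Steps.fwd (nat_lit 49152) (Steps.bwd (nat_lit 2) (Steps.bwd (nat_lit 6) Steps.nil))))))) (nat_lit 37) (nat_lit 2),
  Rule.mk (nat_lit 1) (nat_lit 86) (Steps.fwd (nat_lit 32768) (Steps.bwd (nat_lit 6) (Steps.bwd (nat_lit 4) (Steps.fwd (nat_lit 49152) (Steps.bwd (nat_lit 4) Steps.nil))))) (nat_lit 26) (nat_lit 3),
  Rule.mk (nat_lit 0) (nat_lit 161) (Steps.bwd (nat_lit 5) (Steps.fwd (nat_lit 24576) (Steps.fwd (nat_lit 49152) (Steps.fwd (nat_lit 24576) (Steps.fwd (nat_lit 49152) (Steps.bwd (nat_lit 4) (Steps.fwd (nat_lit 49152) (Steps.bwd (nat_lit 4) (Steps.bwd (nat_lit 5) (Steps.bwd (nat_lit 4) Steps.nil)))))))))) (nat_lit 50) (nat_lit 1),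
  Rule.mk (nat_lit 0) (nat_lit 131) (Steps.bwd (nat_lit 1) (Steps.bwd (nat_lit 6) (Steps.bwd (nat_lit 3) (Steps.fwd (nat_lit 49152) (Steps.fwd (nat_lit 16384) (Steps.fwd (nat_lit 40960) (Steps.fwd (nat_lit 32768) (Steps.bwd (nat_lit 5) Steps.nil)))))))) (nat_lit 36) (nat_lit 0),
  Rule.mk (nat_lit 0) (nat_lit 56) (Steps.fwd (nat_lit 16384) (Steps.bwd (nat_lit 0) (Steps.bwd (nat_lit 2) Steps.nil))) (nat_lit 56) (nat_lit 0),
  Rule.mk (nat_lit 5) (nat_lit 86) (Steps.fwd (nat_lit 24576) (Steps.bwd (nat_lit 1) (Steps.fwd (nat_lit 32768) (Steps.fwd (nat_lit 40960) (Steps.bwd (nat_lit 4) Steps.nil))))) (nat_lit 26) (nat_lit 1),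
  Rule.mk (nat_lit 5) (nat_lit 116) (Steps.fwd (nat_lit 16384) (Steps.bwd (nat_lit 6) (Steps.fwd (nat_lit 32768) (Steps.fwd (nat_lit 49152) (Steps.bwd (nat_lit 1) (Steps.bwd (nat_lit 6) (Steps.bwd (nat_lit 3) Steps.nil))))))) (nat_lit 36) (nat_lit 0),
  Rule.mk (nat_lit 6) (nat_lit 116) (Steps.fwd (nat_lit 24576) (Steps.fwd (nat_lit 49152) (Steps.bwd (nat_lit 2) (Steps.fwd (nat_lit 40960) (Steps.fwd (nat_lit 24576) (Steps.fwd (nat_lit 49152) (Steps.bwd (nat_lit 2) Steps.nil))))))) (nat_lit 37) (nat_lit 1),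
  Rule.mk (nat_lit 3) (nat_lit 116) (Steps.bwd (nat_lit 5) (Steps.fwd (nat_lit 16384) (Steps.bwd (nat_lit 6) (Steps.bwd (nat_lit 3) (Steps.fwd (nat_lit 49152) (Steps.bwd (nat_lit 1) (Steps.fwd (nat_lit 40960) Steps.nil))))))) (nat_lit 36) (nat_lit 3),
  Rule.mk (nat_lit 0) (nat_lit 101) (Steps.bwd (nat_lit 1) (Steps.fwd (nat_lit 32768) (Steps.fwd (nat_lit 40960) (Steps.fwd (nat_lit 24576) (Steps.bwd (nat_lit 5) (Steps.fwd (nat_lit 24576) Steps.nil)))))) (nat_lit 26) (nat_lit 2),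
  Rule.mk (nat_lit 0) (nat_lit 131) (Steps.fwd (nat_lit 16384) (Steps.fwd (nat_lit 40960) (Steps.fwd (nat_lit 32768) (Steps.bwd (nat_lit 5) (Steps.fwd (nat_lit 16384) (Steps.bwd (nat_lit 6) (Steps.fwd (nat_lit 32768) (Steps.bwd (nat_lit 5) Steps.nil)))))))) (nat_lit 36) (nat_lit 0),
  Rule.mk (nat_lit 1) (nat_lit 116) (Steps.bwd (nat_lit 6) (Steps.fwd (nat_lit 32768) (Steps.bwd (nat_lit 5) (Steps.bwd (nat_lit 1) (Steps.fwd (nat_lit 40960) (Steps.bwd (nat_lit 3) (Steps.bwd (nat_lit 5) Steps.nil))))))) (nat_lit 36) (nat_lit 1),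
  Rule.mk (nat_lit 0) (nat_lit 161) (Steps.fwd (nat_lit 24576) (Steps.fwd (nat_lit 49152) (Steps.fwd (nat_lit 24576) (Steps.bwd (nat_lit 5) (Steps.bwd (nat_lit 4) (Steps.bwd (nat_lit 5) (Steps.bwd (nat_lit 4) (Steps.bwd (nat_lit 5) (Steps.fwd (nat_lit 24576) (Steps.fwd (nat_lit 49152) Steps.nil)))))))))) (nat_lit 50) (nat_lit 0),
  Rule.mk (nat_lit 0) (nat_lit 161) (Steps.bwd (nat_lit 3) (Steps.bwd (nat_lit 6) (Steps.bwd (nat_lit 3) (Steps.fwd (nat_lit 40960) (Steps.bwd (nat_lit 3) (Steps.bwd (nat_lit 6) (Steps.bwd (nat_lit 3) (Steps.fwd (nat_lit 40960) (Steps.fwd (nat_lit 32768) (Steps.bwd (nat_lit 6) Steps.nil)))))))))) (nat_lit 51) (nat_lit 1),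
  Rule.mk (nat_lit 5) (nat_lit 116) (Steps.fwd (nat_lit 16384) (Steps.bwd (nat_lit 6) (Steps.bwd (nat_lit 3) (Steps.fwd (nat_lit 49152) (Steps.bwd (nat_lit 1) (Steps.bwd (nat_lit 6) (Steps.fwd (nat_lit 32768) Steps.nil))))))) (nat_lit 36) (nat_lit 0),
  Rule.mk (nat_lit 0) (nat_lit 131) (Steps.fwd (nat_lit 32768) (Steps.bwd (nat_lit 5) (Steps.bwd (nat_lit 1) (Steps.bwd (nat_lit 6) (Steps.fwd (nat_lit 32768) (Steps.bwd (nat_lit 5) (Steps.bwd (nat_lit 1) (Steps.fwd (nat_lit 40960) Steps.nil)))))))) (nat_lit 36) (nat_lit 2),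
  Rule.mk (nat_lit 0) (nat_lit 161) (Steps.bwd (nat_lit 5) (Steps.fwd (nat_lit 24576) (Steps.fwd (nat_lit 49152) (Steps.fwd (nat_lit 24576) (Steps.bwd (nat_lit 5) (Steps.bwd (nat_lit 4) (Steps.bwd (nat_lit 5) (Steps.bwd (nat_lit 4) (Steps.fwd (nat_lit 49152) (Steps.bwd (nat_lit 4) Steps.nil)))))))))) (nat_lit 50) (nat_lit 1),
  Rule.mk (nat_lit 5) (nat_lit 116) (Steps.bwd (nat_lit 1) (Steps.fwd (nat_lit 40960) (Steps.bwd (nat_lit 3) (Steps.fwd (nat_lit 49152) (Steps.bwd (nat_lit 1) (Steps.fwd (nat_lit 40960) (Steps.fwd (nat_lit 32768) Steps.nil))))))) (nat_lit 36) (nat_lit 0),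
  Rule.mk (nat_lit 5) (nat_lit 146) (Steps.bwd (nat_lit 4) (Steps.bwd (nat_lit 5) (Steps.fwd (nat_lit 24576) (Steps.bwd (nat_lit 5) (Steps.fwd (nat_lit 24576) (Steps.bwd (nat_lit 5) (Steps.bwd (nat_lit 4) (Steps.fwd (nat_lit 49152) (Steps.fwd (nat_lit 24576) Steps.nil))))))))) (nat_lit 50) (nat_lit 0),
  Rule.mk (nat_lit 1) (nat_lit 116) (Steps.fwd (nat_lit 40960) (Steps.bwd (nat_lit 3) (Steps.bwd (nat_lit 5) (Steps.fwd (nat_lit 16384) (Steps.fwd (nat_lit 40960) (Steps.fwd (nat_lit 32768) (Steps.bwd (nat_lit 5) Steps.nil))))))) (nat_lit 36) (nat_lit 1),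
  Rule.mk (nat_lit 2) (nat_lit 116) (Steps.bwd (nat_lit 6) (Steps.bwd (nat_lit 4) (Steps.bwd (nat_lit 5) (Steps.bwd (nat_lit 2) (Steps.fwd (nat_lit 40960) (Steps.bwd (nat_lit 4) (Steps.fwd (nat_lit 49152) Steps.nil))))))) (nat_lit 37) (nat_lit 0),
  Rule.mk (nat_lit 6) (nat_lit 86) (Steps.bwd (nat_lit 3) (Steps.fwd (nat_lit 49152) (Steps.bwd (nat_lit 4) (Steps.bwd (nat_lit 2) (Steps.fwd (nat_lit 32768) Steps.nil))))) (nat_lit 27) (nat_lit 0),
  Rule.mk (nat_lit 5) (nat_lit 116) (Steps.bwd (nat_lit 1) (Steps.fwd (nat_lit 40960) (Steps.bwd (nat_lit 3) (Steps.fwd (nat_lit 49152) (Steps.fwd (nat_lit 16384) (Steps.fwd (nat_lit 40960) (Steps.fwd (nat_lit 32768) Steps.nil))))))) (nat_lit 36) (nat_lit 0),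
  Rule.mk (nat_lit 0) (nat_lit 161) (Steps.bwd (nat_lit 3) (Steps.bwd (nat_lit 6) (Steps.fwd (nat_lit 32768) (Steps.fwd (nat_lit 40960) (Steps.bwd (nat_lit 3) (Steps.bwd (nat_lit 6) (Steps.bwd (nat_lit 3) (Steps.fwd (nat_lit 40960) (Steps.fwd (nat_lit 32768) (Steps.fwd (nat_lit 40960) Steps.nil)))))))))) (nat_lit 51) (nat_lit 1),
  Rule.mk (nat_lit 3) (nat_lit 116) (Steps.bwd (nat_lit 5) (Steps.fwd (nat_lit 16384) (Steps.bwd (nat_lit 6) (Steps.bwd (nat_lit 3) (Steps.bwd (nat_lit 5) (Steps.fwd (nat_lit 16384) (Steps.bwd (nat_lit 6) Steps.nil))))))) (nat_lit 36) (nat_lit 3),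
  Rule.mk (nat_lit 2) (nat_lit 116) (Steps.bwd (nat_lit 6) (Steps.bwd (nat_lit 4) (Steps.bwd (nat_lit 5) (Steps.fwd (nat_lit 8192) (Steps.bwd (nat_lit 6) (Steps.fwd (nat_lit 24576) (Steps.fwd (nat_lit 49152) Steps.nil))))))) (nat_lit 37) (nat_lit 0),
  Rule.mk (nat_lit 5) (nat_lit 146) (Steps.bwd (nat_lit 4) (Steps.bwd (nat_lit 5) (Steps.bwd (nat_lit 4) (Steps.fwd (nat_lit 49152) (Steps.bwd (nat_lit 4) (Steps.bwd (nat_lit 5) (Steps.fwd (nat_lit 24576) (Steps.fwd (nat_lit 49152) (Steps.fwd (nat_lit 24576) Steps.nil))))))))) (nat_lit 50) (nat_lit 0),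
  Rule.mk (nat_lit 6) (nat_lit 146) (Steps.bwd (nat_lit 3) (Steps.bwd (nat_lit 6) (Steps.bwd (nat_lit 3) (Steps.bwd (nat_lit 6) (Steps.bwd (nat_lit 3) (Steps.fwd (nat_lit 40960) (Steps.bwd (nat_lit 3) (Steps.fwd (nat_lit 40960) (Steps.fwd (nat_lit 32768) Steps.nil))))))))) (nat_lit 51) (nat_lit 1),
  Rule.mk (nat_lit 2) (nat_lit 116) (Steps.bwd (nat_lit 6) (Steps.bwd (nat_lit 4) (Steps.fwd (nat_lit 49152) (Steps.bwd (nat_lit 2) (Steps.fwd (nat_lit 40960) (Steps.bwd (nat_lit 4) (Steps.bwd (nat_lit 5) Steps.nil))))))) (nat_lit 37) (nat_lit 0),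
  Rule.mk (nat_lit 2) (nat_lit 116) (Steps.bwd (nat_lit 6) (Steps.bwd (nat_lit 4) (Steps.bwd (nat_lit 5) (Steps.bwd (nat_lit 2) (Steps.bwd (nat_lit 6) (Steps.fwd (nat_lit 24576) (Steps.fwd (nat_lit 49152) Steps.nil))))))) (nat_lit 37) (nat_lit 0),
  Rule.mk (nat_lit 0) (nat_lit 101) (Steps.bwd (nat_lit 3) (Steps.fwd (nat_lit 40960) (Steps.fwd (nat_lit 32768) (Steps.bwd (nat_lit 5) (Steps.bwd (nat_lit 4) (Steps.fwd (nat_lit 8192) Steps.nil)))))) (nat_lit 27) (nat_lit 4),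
  Rule.mk (nat_lit 4) (nat_lit 146) (Steps.bwd (nat_lit 5) (Steps.fwd (nat_lit 24576) (Steps.fwd (nat_lit 49152) (Steps.bwd (nat_lit 4) (Steps.fwd (nat_lit 49152) (Steps.fwd (nat_lit 24576) (Steps.bwd (nat_lit 5) (Steps.bwd (nat_lit 4) (Steps.bwd (nat_lit 5) Steps.nil))))))))) (nat_lit 50) (nat_lit 1),
  Rule.mk (nat_lit 3) (nat_lit 146) (Steps.bwd (nat_lit 6) (Steps.fwd (nat_lit 32768) (Steps.bwd (nat_lit 6) (Steps.fwd (nat_lit 32768) (Steps.fwd (nat_lit 40960) (Steps.bwd (nat_lit 3) (Steps.bwd (nat_lit 6) (Steps.bwd (nat_lit 3) (Steps.fwd (nat_lit 40960) Steps.nil))))))))) (nat_lit 51) (nat_lit 0),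
  Rule.mk (nat_lit 4) (nat_lit 116) (Steps.bwd (nat_lit 5) (Steps.bwd (nat_lit 2) (Steps.fwd (nat_lit 40960) (Steps.fwd (nat_lit 24576) (Steps.fwd (nat_lit 49152) (Steps.bwd (nat_lit 2) (Steps.bwd (nat_lit 6) Steps.nil))))))) (nat_lit 37) (nat_lit 2),
  Rule.mk (nat_lit 1) (nat_lit 116) (Steps.bwd (nat_lit 6) (Steps.bwd (nat_lit 3) (Steps.bwd (nat_lit 5) (Steps.bwd (nat_lit 1) (Steps.bwd (nat_lit 6) (Steps.fwd (nat_lit 32768) (Steps.bwd (nat_lit 5) Steps.nil))))))) (nat_lit 36) (nat_lit 1),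
  Rule.mk (nat_lit 2) (nat_lit 86) (Steps.bwd (nat_lit 3) (Steps.fwd (nat_lit 40960) (Steps.fwd (nat_lit 32768) (Steps.fwd (nat_lit 49152) (Steps.fwd (nat_lit 24576) Steps.nil))))) (nat_lit 27) (nat_lit 4),
  Rule.mk (nat_lit 4) (nat_lit 86) (Steps.bwd (nat_lit 2) (Steps.bwd (nat_lit 3) (Steps.bwd (nat_lit 6) (Steps.fwd (nat_lit 32768) (Steps.fwd (nat_lit 49152) Steps.nil))))) (nat_lit 27) (nat_lit 3),
  Rule.mk (nat_lit 5) (nat_lit 146) (Steps.bwd (nat_lit 4) (Steps.fwd (nat_lit 49152) (Steps.bwd (nat_lit 4) (Steps.bwd (nat_lit 5) (Steps.bwd (nat_lit 4) (Steps.bwd (nat_lit 5) (Steps.bwd (nat_lit 4) (Steps.fwd (nat_lit 49152) (Steps.bwd (nat_lit 4) Steps.nil))))))))) (nat_lit 50) (nat_lit 0),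
  Rule.mk (nat_lit 2) (nat_lit 116) (Steps.fwd (nat_lit 40960) (Steps.bwd (nat_lit 4) (Steps.bwd (nat_lit 5) (Steps.fwd (nat_lit 8192) (Steps.bwd (nat_lit 6) (Steps.bwd (nat_lit 4) (Steps.bwd (nat_lit 5) Steps.nil))))))) (nat_lit 37) (nat_lit 0),
  Rule.mk (nat_lit 4) (nat_lit 86) (Steps.bwd (nat_lit 2) (Steps.fwd (nat_lit 32768) (Steps.fwd (nat_lit 40960) (Steps.fwd (nat_lit 32768) (Steps.fwd (nat_lit 49152) Steps.nil))))) (nat_lit 27) (nat_lit 3),
  Rule.mk (nat_lit 5) (nat_lit 146) (Steps.bwd (nat_lit 4) (Steps.bwd (nat_lit 5) (Steps.bwd (nat_lit 4) (Steps.bwd (nat_lit 5) (Steps.bwd (nat_lit 4) (Steps.bwd (nat_lit 5) (Steps.bwd (nat_lit 4) (Steps.fwd (nat_lit 49152) (Steps.bwd (nat_lit 4) Steps.nil))))))))) (nat_lit 50) (nat_lit 0),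
  Rule.mk (nat_lit 0) (nat_lit 101) (Steps.fwd (nat_lit 16384) (Steps.bwd (nat_lit 3) (Steps.bwd (nat_lit 6) (Steps.bwd (nat_lit 4) (Steps.bwd (nat_lit 5) (Steps.bwd (nat_lit 4) Steps.nil)))))) (nat_lit 26) (nat_lit 2),
  Rule.mk (nat_lit 2) (nat_lit 116) (Steps.bwd (nat_lit 6) (Steps.bwd (nat_lit 4) (Steps.bwd (nat_lit 5) (Steps.fwd (nat_lit 8192) (Steps.bwd (nat_lit 6) (Steps.bwd (nat_lit 4) (Steps.bwd (nat_lit 5) Steps.nil))))))) (nat_lit 37) (nat_lit 0),
  Rule.mk (nat_lit 2) (nat_lit 116) (Steps.bwd (nat_lit 6) (Steps.bwd (nat_lit 4) (Steps.bwd (nat_lit 5) (Steps.bwd (nat_lit 2) (Steps.bwd (nat_lit 6) (Steps.bwd (nat_lit 4) (Steps.bwd (nat_lit 5) Steps.nil))))))) (nat_lit 37) (nat_lit 0)]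
noncomputable def R_9 : List (Rule) := [Rule.mk (nat_lit 4) (nat_lit 86) (Steps.bwd (nat_lit 5) (Steps.bwd (nat_lit 4) (Steps.fwd (nat_lit 16384) (Steps.fwd (nat_lit 32768) (Steps.fwd (nat_lit 40960) Steps.nil))))) (nat_lit 26) (nat_lit 0),
  Rule.mk (nat_lit 1) (nat_lit 116) (Steps.bwd (nat_lit 6) (Steps.fwd (nat_lit 32768) (Steps.fwd (nat_lit 49152) (Steps.fwd (nat_lit 16384) (Steps.bwd (nat_lit 6) (Steps.bwd (nat_lit 3) (Steps.fwd (nat_lit 49152) Steps.nil))))))) (nat_lit 36) (nat_lit 1),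
  Rule.mk (nat_lit 1) (nat_lit 86) (Steps.bwd (nat_lit 3) (Steps.fwd (nat_lit 40960) (Steps.fwd (nat_lit 24576) (Steps.fwd (nat_lit 49152) (Steps.fwd (nat_lit 24576) Steps.nil))))) (nat_lit 26) (nat_lit 3),
  Rule.mk (nat_lit 4) (nat_lit 146) (Steps.bwd (nat_lit 5) (Steps.bwd (nat_lit 4) (Steps.bwd (nat_lit 5) (Steps.bwd (nat_lit 4) (Steps.fwd (nat_lit 49152) (Steps.fwd (nat_lit 24576) (Steps.bwd (nat_lit 5) (Steps.bwd (nat_lit 4) (Steps.fwd (nat_lit 49152) Steps.nil))))))))) (nat_lit 50) (nat_lit 1),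
  Rule.mk (nat_lit 0) (nat_lit 101) (Steps.fwd (nat_lit 32768) (Steps.fwd (nat_lit 40960) (Steps.fwd (nat_lit 32768) (Steps.fwd (nat_lit 49152) (Steps.bwd (nat_lit 4) (Steps.bwd (nat_lit 2) Steps.nil)))))) (nat_lit 27) (nat_lit 4),
  Rule.mk (nat_lit 0) (nat_lit 161) (Steps.bwd (nat_lit 5) (Steps.bwd (nat_lit 4) (Steps.bwd (nat_lit 5) (Steps.bwd (nat_lit 4) (Steps.bwd (nat_lit 5) (Steps.fwd (nat_lit 24576) (Steps.fwd (nat_lit 49152) (Steps.fwd (nat_lit 24576) (Steps.bwd (nat_lit 5) (Steps.bwd (nat_lit 4) Steps.nil)))))))))) (nat_lit 50) (nat_lit 1),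
  Rule.mk (nat_lit 4) (nat_lit 86) (Steps.fwd (nat_lit 49152) (Steps.bwd (nat_lit 4) (Steps.bwd (nat_lit 1) (Steps.fwd (nat_lit 32768) (Steps.bwd (nat_lit 6) Steps.nil))))) (nat_lit 26) (nat_lit 0),
  Rule.mk (nat_lit 0) (nat_lit 131) (Steps.bwd (nat_lit 6) (Steps.fwd (nat_lit 32768) (Steps.bwd (nat_lit 5) (Steps.fwd (nat_lit 16384) (Steps.bwd (nat_lit 6) (Steps.fwd (nat_lit 32768) (Steps.fwd (nat_lit 49152) (Steps.bwd (nat_lit 1) Steps.nil)))))))) (nat_lit 36) (nat_lit 1),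
  Rule.mk (nat_lit 5) (nat_lit 146) (Steps.fwd (nat_lit 24576) (Steps.fwd (nat_lit 49152) (Steps.bwd (nat_lit 4) (Steps.fwd (nat_lit 49152) (Steps.bwd (nat_lit 4) (Steps.bwd (nat_lit 5) (Steps.bwd (nat_lit 4) (Steps.fwd (nat_lit 49152) (Steps.fwd (nat_lit 24576) Steps.nil))))))))) (nat_lit 50) (nat_lit 0),
  Rule.mk (nat_lit 0) (nat_lit 131) (Steps.bwd (nat_lit 1) (Steps.fwd (nat_lit 40960) (Steps.fwd (nat_lit 32768) (Steps.fwd (nat_lit 49152) (Steps.bwd (nat_lit 1) (Steps.bwd (nat_lit 6) (Steps.bwd (nat_lit 3) (Steps.fwd (nat_lit 49152) Steps.nil)))))))) (nat_lit 36) (nat_lit 0),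
  Rule.mk (nat_lit 0) (nat_lit 131) (Steps.fwd (nat_lit 32768) (Steps.bwd (nat_lit 5) (Steps.fwd (nat_lit 16384) (Steps.fwd (nat_lit 40960) (Steps.fwd (nat_lit 32768) (Steps.bwd (nat_lit 5) (Steps.bwd (nat_lit 1) (Steps.fwd (nat_lit 40960) Steps.nil)))))))) (nat_lit 36) (nat_lit 2),
  Rule.mk (nat_lit 3) (nat_lit 116) (Steps.fwd (nat_lit 49152) (Steps.bwd (nat_lit 1) (Steps.bwd (nat_lit 6) (Steps.fwd (nat_lit 32768) (Steps.bwd (nat_lit 5) (Steps.bwd (nat_lit 1) (Steps.bwd (nat_lit 6) Steps.nil))))))) (nat_lit 36) (nat_lit 3),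
  Rule.mk (nat_lit 6) (nat_lit 116) (Steps.fwd (nat_lit 32768) (Steps.fwd (nat_lit 49152) (Steps.bwd (nat_lit 1) (Steps.bwd (nat_lit 6) (Steps.bwd (nat_lit 3) (Steps.fwd (nat_lit 49152) (Steps.bwd (nat_lit 1) Steps.nil))))))) (nat_lit 36) (nat_lit 2),
  Rule.mk (nat_lit 4) (nat_lit 146) (Steps.fwd (nat_lit 49152) (Steps.fwd (nat_lit 24576) (Steps.fwd (nat_lit 49152) (Steps.fwd (nat_lit 24576) (Steps.fwd (nat_lit 49152) (Steps.fwd (nat_lit 24576) (Steps.bwd (nat_lit 5) (Steps.bwd (nat_lit 4) (Steps.fwd (nat_lit 49152) Steps.nil))))))))) (nat_lit 50) (nat_lit 1),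
  Rule.mk (nat_lit 0) (nat_lit 101) (Steps.fwd (nat_lit 16384) (Steps.fwd (nat_lit 32768) (Steps.bwd (nat_lit 6) (Steps.bwd (nat_lit 4) (Steps.fwd (nat_lit 49152) (Steps.fwd (nat_lit 24576) Steps.nil)))))) (nat_lit 26) (nat_lit 2),
  Rule.mk (nat_lit 2) (nat_lit 116) (Steps.bwd (nat_lit 6) (Steps.bwd (nat_lit 4) (Steps.fwd (nat_lit 49152) (Steps.bwd (nat_lit 2) (Steps.fwd (nat_lit 40960) (Steps.fwd (nat_lit 24576) (Steps.fwd (nat_lit 49152) Steps.nil))))))) (nat_lit 37) (nat_lit 0),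
  Rule.mk (nat_lit 6) (nat_lit 116) (Steps.fwd (nat_lit 24576) (Steps.bwd (nat_lit 5) (Steps.bwd (nat_lit 2) (Steps.bwd (nat_lit 6) (Steps.fwd (nat_lit 24576) (Steps.bwd (nat_lit 5) (Steps.fwd (nat_lit 8192) Steps.nil))))))) (nat_lit 37) (nat_lit 1),
  Rule.mk (nat_lit 5) (nat_lit 146) (Steps.fwd (nat_lit 24576) (Steps.fwd (nat_lit 49152) (Steps.bwd (nat_lit 4) (Steps.bwd (nat_lit 5) (Steps.fwd (nat_lit 24576) (Steps.bwd (nat_lit 5) (Steps.bwd (nat_lit 4) (Steps.bwd (nat_lit 5) (Steps.fwd (nat_lit 24576) Steps.nil))))))))) (nat_lit 50) (nat_lit 0),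
  Rule.mk (nat_lit 1) (nat_lit 86) (Steps.fwd (nat_lit 32768) (Steps.fwd (nat_lit 40960) (Steps.fwd (nat_lit 24576) (Steps.bwd (nat_lit 5) (Steps.fwd (nat_lit 24576) Steps.nil))))) (nat_lit 26) (nat_lit 3),
  Rule.mk (nat_lit 2) (nat_lit 116) (Steps.fwd (nat_lit 40960) (Steps.bwd (nat_lit 4) (Steps.bwd (nat_lit 5) (Steps.bwd (nat_lit 2) (Steps.fwd (nat_lit 40960) (Steps.bwd (nat_lit 4) (Steps.bwd (nat_lit 5) Steps.nil))))))) (nat_lit 37) (nat_lit 0),
  Rule.mk (nat_lit 0) (nat_lit 161) (Steps.fwd (nat_lit 32768) (Steps.fwd (nat_lit 40960) (Steps.bwd (nat_lit 3) (Steps.bwd (nat_lit 6) (Steps.fwd (nat_lit 32768) (Steps.bwd (nat_lit 6) (Steps.bwd (nat_lit 3) (Steps.bwd (nat_lit 6) (Steps.fwd (nat_lit 32768) (Steps.bwd (nat_lit 6) Steps.nil)))))))))) (nat_lit 51) (nat_lit 1),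
  Rule.mk (nat_lit 1) (nat_lit 86) (Steps.bwd (nat_lit 3) (Steps.fwd (nat_lit 40960) (Steps.bwd (nat_lit 4) (Steps.fwd (nat_lit 49152) (Steps.bwd (nat_lit 4) Steps.nil))))) (nat_lit 26) (nat_lit 3),
  Rule.mk (nat_lit 6) (nat_lit 116) (Steps.bwd (nat_lit 3) (Steps.fwd (nat_lit 49152) (Steps.bwd (nat_lit 1) (Steps.fwd (nat_lit 40960) (Steps.fwd (nat_lit 32768) (Steps.bwd (nat_lit 5) (Steps.fwd (nat_lit 16384) Steps.nil))))))) (nat_lit 36) (nat_lit 2),
  Rule.mk (nat_lit 5) (nat_lit 86) (Steps.fwd (nat_lit 24576) (Steps.bwd (nat_lit 2) (Steps.fwd (nat_lit 32768) (Steps.bwd (nat_lit 6) (Steps.bwd (nat_lit 3) Steps.nil))))) (nat_lit 27) (nat_lit 2),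
  Rule.mk (nat_lit 2) (nat_lit 116) (Steps.bwd (nat_lit 6) (Steps.fwd (nat_lit 24576) (Steps.bwd (nat_lit 5) (Steps.bwd (nat_lit 2) (Steps.fwd (nat_lit 40960) (Steps.bwd (nat_lit 4) (Steps.bwd (nat_lit 5) Steps.nil))))))) (nat_lit 37) (nat_lit 0),
  Rule.mk (nat_lit 6) (nat_lit 146) (Steps.bwd (nat_lit 3) (Steps.bwd (nat_lit 6) (Steps.bwd (nat_lit 3) (Steps.fwd (nat_lit 40960) (Steps.fwd (nat_lit 32768) (Steps.fwd (nat_lit 40960) (Steps.fwd (nat_lit 32768) (Steps.fwd (nat_lit 40960) (Steps.bwd (nat_lit 3) Steps.nil))))))))) (nat_lit 51) (nat_lit 1),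
  Rule.mk (nat_lit 0) (nat_lit 161) (Steps.bwd (nat_lit 5) (Steps.fwd (nat_lit 24576) (Steps.bwd (nat_lit 5) (Steps.fwd (nat_lit 24576) (Steps.bwd (nat_lit 5) (Steps.bwd (nat_lit 4) (Steps.fwd (nat_lit 49152) (Steps.fwd (nat_lit 24576) (Steps.fwd (nat_lit 49152) (Steps.fwd (nat_lit 24576) Steps.nil)))))))))) (nat_lit 50) (nat_lit 1),
  Rule.mk (nat_lit 6) (nat_lit 116) (Steps.bwd (nat_lit 4) (Steps.bwd (nat_lit 5) (Steps.fwd (nat_lit 8192) (Steps.bwd (nat_lit 6) (Steps.bwd (nat_lit 4) (Steps.bwd (nat_lit 5) (Steps.fwd (nat_lit 8192) Steps.nil))))))) (nat_lit 37) (nat_lit 1),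
  Rule.mk (nat_lit 6) (nat_lit 116) (Steps.bwd (nat_lit 3) (Steps.bwd (nat_lit 5) (Steps.bwd (nat_lit 1) (Steps.fwd (nat_lit 40960) (Steps.fwd (nat_lit 32768) (Steps.fwd (nat_lit 49152) (Steps.fwd (nat_lit 16384) Steps.nil))))))) (nat_lit 36) (nat_lit 2),
  Rule.mk (nat_lit 6) (nat_lit 146) (Steps.bwd (nat_lit 3) (Steps.bwd (nat_lit 6) (Steps.fwd (nat_lit 32768) (Steps.fwd (nat_lit 40960) (Steps.bwd (nat_lit 3) (Steps.bwd (nat_lit 6) (Steps.fwd (nat_lit 32768) (Steps.fwd (nat_lit 40960) (Steps.bwd (nat_lit 3) Steps.nil))))))))) (nat_lit 51) (nat_lit 1),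
  Rule.mk (nat_lit 5) (nat_lit 116) (Steps.bwd (nat_lit 2) (Steps.fwd (nat_lit 40960) (Steps.bwd (nat_lit 4) (Steps.fwd (nat_lit 49152) (Steps.fwd (nat_lit 8192) (Steps.bwd (nat_lit 6) (Steps.fwd (nat_lit 24576) Steps.nil))))))) (nat_lit 37) (nat_lit 3),
  Rule.mk (nat_lit 4) (nat_lit 116) (Steps.bwd (nat_lit 5) (Steps.bwd (nat_lit 2) (Steps.fwd (nat_lit 40960) (Steps.fwd (nat_lit 24576) (Steps.bwd (nat_lit 5) (Steps.bwd (nat_lit 2) (Steps.bwd (nat_lit 6) Steps.nil))))))) (nat_lit 37) (nat_lit 2),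
  Rule.mk (nat_lit 5) (nat_lit 146) (Steps.bwd (nat_lit 4) (Steps.bwd (nat_lit 5) (Steps.fwd (nat_lit 24576) (Steps.bwd (nat_lit 5) (Steps.fwd (nat_lit 24576) (Steps.fwd (nat_lit 49152) (Steps.fwd (nat_lit 24576) (Steps.fwd (nat_lit 49152) (Steps.bwd (nat_lit 4) Steps.nil))))))))) (nat_lit 50) (nat_lit 0),
  Rule.mk (nat_lit 5) (nat_lit 116) (Steps.fwd (nat_lit 8192) (Steps.fwd (nat_lit 40960) (Steps.fwd (nat_lit 24576) (Steps.bwd (nat_lit 5) (Steps.bwd (nat_lit 2) (Steps.fwd (nat_lit 40960) (Steps.bwd (nat_lit 4) Steps.nil))))))) (nat_lit 37) (nat_lit 3),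
  Rule.mk (nat_lit 4) (nat_lit 146) (Steps.bwd (nat_lit 5) (Steps.fwd (nat_lit 24576) (Steps.fwd (nat_lit 49152) (Steps.bwd (nat_lit 4) (Steps.fwd (nat_lit 49152) (Steps.bwd (nat_lit 4) (Steps.bwd (nat_lit 5) (Steps.bwd (nat_lit 4) (Steps.bwd (nat_lit 5) Steps.nil))))))))) (nat_lit 50) (nat_lit 1),
  Rule.mk (nat_lit 0) (nat_lit 56) (Steps.fwd (nat_lit 32768) (Steps.fwd (nat_lit 32768) (Steps.fwd (nat_lit 32768) Steps.nil))) (nat_lit 8) (nat_lit 0),
  Rule.mk (nat_lit 6) (nat_lit 116) (Steps.bwd (nat_lit 3) (Steps.bwd (nat_lit 5) (Steps.bwd (nat_lit 1) (Steps.fwd (nat_lit 40960) (Steps.fwd (nat_lit 32768) (Steps.bwd (nat_lit 5) (Steps.fwd (nat_lit 16384) Steps.nil))))))) (nat_lit 36) (nat_lit 2),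
  Rule.mk (nat_lit 0) (nat_lit 161) (Steps.bwd (nat_lit 3) (Steps.bwd (nat_lit 6) (Steps.bwd (nat_lit 3) (Steps.bwd (nat_lit 6) (Steps.bwd (nat_lit 3) (Steps.bwd (nat_lit 6) (Steps.fwd (nat_lit 32768) (Steps.fwd (nat_lit 40960) (Steps.bwd (nat_lit 3) (Steps.fwd (nat_lit 40960) Steps.nil)))))))))) (nat_lit 51) (nat_lit 1),
  Rule.mk (nat_lit 2) (nat_lit 116) (Steps.fwd (nat_lit 40960) (Steps.bwd (nat_lit 4) (Steps.bwd (nat_lit 5) (Steps.bwd (nat_lit 2) (Steps.fwd (nat_lit 40960) (Steps.fwd (nat_lit 24576) (Steps.fwd (nat_lit 49152) Steps.nil))))))) (nat_lit 37) (nat_lit 0),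
  Rule.mk (nat_lit 3) (nat_lit 146) (Steps.bwd (nat_lit 6) (Steps.bwd (nat_lit 3) (Steps.bwd (nat_lit 6) (Steps.bwd (nat_lit 3) (Steps.bwd (nat_lit 6) (Steps.fwd (nat_lit 32768) (Steps.bwd (nat_lit 6) (Steps.bwd (nat_lit 3) (Steps.fwd (nat_lit 40960) Steps.nil))))))))) (nat_lit 51) (nat_lit 0),
  Rule.mk (nat_lit 2) (nat_lit 41) (Steps.fwd (nat_lit 8192) (Steps.bwd (nat_lit 2) Steps.nil)) (nat_lit 7) (nat_lit 0),
  Rule.mk (nat_lit 3) (nat_lit 146) (Steps.bwd (nat_lit 6) (Steps.bwd (nat_lit 3) (Steps.bwd (nat_lit 6) (Steps.fwd (nat_lit 32768) (Steps.fwd (nat_lit 40960) (Steps.bwd (nat_lit 3) (Steps.fwd (nat_lit 40960) (Steps.bwd (nat_lit 3) (Steps.fwd (nat_lit 40960) Steps.nil))))))))) (nat_lit 51) (nat_lit 0),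
  Rule.mk (nat_lit 4) (nat_lit 116) (Steps.bwd (nat_lit 5) (Steps.bwd (nat_lit 2) (Steps.fwd (nat_lit 40960) (Steps.bwd (nat_lit 4) (Steps.bwd (nat_lit 5) (Steps.bwd (nat_lit 2) (Steps.bwd (nat_lit 6) Steps.nil))))))) (nat_lit 37) (nat_lit 2),
  Rule.mk (nat_lit 2) (nat_lit 116) (Steps.fwd (nat_lit 40960) (Steps.bwd (nat_lit 4) (Steps.bwd (nat_lit 5) (Steps.fwd (nat_lit 8192) (Steps.bwd (nat_lit 6) (Steps.fwd (nat_lit 24576) (Steps.bwd (nat_lit 5) Steps.nil))))))) (nat_lit 37) (nat_lit 0),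
  Rule.mk (nat_lit 0) (nat_lit 131) (Steps.fwd (nat_lit 40960) (Steps.fwd (nat_lit 24576) (Steps.bwd (nat_lit 5) (Steps.bwd (nat_lit 2) (Steps.bwd (nat_lit 6) (Steps.bwd (nat_lit 4) (Steps.fwd (nat_lit 49152) (Steps.bwd (nat_lit 2) Steps.nil)))))))) (nat_lit 37) (nat_lit 0),
  Rule.mk (nat_lit 5) (nat_lit 116) (Steps.bwd (nat_lit 1) (Steps.fwd (nat_lit 40960) (Steps.fwd (nat_lit 32768) (Steps.bwd (nat_lit 5) (Steps.fwd (nat_lit 16384) (Steps.fwd (nat_lit 40960) (Steps.bwd (nat_lit 3) Steps.nil))))))) (nat_lit 36) (nat_lit 0),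
  Rule.mk (nat_lit 4) (nat_lit 86) (Steps.fwd (nat_lit 16384) (Steps.fwd (nat_lit 32768) (Steps.fwd (nat_lit 40960) (Steps.fwd (nat_lit 24576) (Steps.bwd (nat_lit 5) Steps.nil))))) (nat_lit 26) (nat_lit 2),
  Rule.mk (nat_lit 6) (nat_lit 116) (Steps.bwd (nat_lit 3) (Steps.fwd (nat_lit 49152) (Steps.fwd (nat_lit 16384) (Steps.bwd (nat_lit 6) (Steps.fwd (nat_lit 32768) (Steps.bwd (nat_lit 5) (Steps.bwd (nat_lit 1) Steps.nil))))))) (nat_lit 36) (nat_lit 2),
  Rule.mk (nat_lit 4) (nat_lit 116) (Steps.bwd (nat_lit 5) (Steps.bwd (nat_lit 2) (Steps.fwd (nat_lit 40960) (Steps.fwd (nat_lit 24576) (Steps.bwd (nat_lit 5) (Steps.fwd (nat_lit 8192) (Steps.bwd (nat_lit 6) Steps.nil))))))) (nat_lit 37) (nat_lit 2),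
  Rule.mk (nat_lit 6) (nat_lit 146) (Steps.bwd (nat_lit 3) (Steps.bwd (nat_lit 6) (Steps.bwd (nat_lit 3) (Steps.bwd (nat_lit 6) (Steps.bwd (nat_lit 3) (Steps.bwd (nat_lit 6) (Steps.bwd (nat_lit 3) (Steps.bwd (nat_lit 6) (Steps.bwd (nat_lit 3) Steps.nil))))))))) (nat_lit 51) (nat_lit 1),
  Rule.mk (nat_lit 0) (nat_lit 101) (Steps.bwd (nat_lit 3) (Steps.bwd (nat_lit 6) (Steps.fwd (nat_lit 24576) (Steps.fwd (nat_lit 49152) (Steps.bwd (nat_lit 4) (Steps.bwd (nat_lit 1) Steps.nil)))))) (nat_lit 26) (nat_lit 3),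
  Rule.mk (nat_lit 6) (nat_lit 116) (Steps.fwd (nat_lit 24576) (Steps.fwd (nat_lit 49152) (Steps.fwd (nat_lit 8192) (Steps.bwd (nat_lit 6) (Steps.bwd (nat_lit 4) (Steps.bwd (nat_lit 5) (Steps.fwd (nat_lit 8192) Steps.nil))))))) (nat_lit 37) (nat_lit 1),
  Rule.mk (nat_lit 0) (nat_lit 161) (Steps.bwd (nat_lit 4) (Steps.bwd (nat_lit 5) (Steps.fwd (nat_lit 24576) (Steps.fwd (nat_lit 49152) (Steps.fwd (nat_lit 24576) (Steps.fwd (nat_lit 49152) (Steps.bwd (nat_lit 4) (Steps.bwd (nat_lit 5) (Steps.bwd (nat_lit 4) (Steps.bwd (nat_lit 5) Steps.nil)))))))))) (nat_lit 50) (nat_lit 0),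
  Rule.mk (nat_lit 0) (nat_lit 131) (Steps.bwd (nat_lit 1) (Steps.bwd (nat_lit 6) (Steps.bwd (nat_lit 3) (Steps.bwd (nat_lit 5) (Steps.bwd (nat_lit 1) (Steps.bwd (nat_lit 6) (Steps.bwd (nat_lit 3) (Steps.bwd (nat_lit 5) Steps.nil)))))))) (nat_lit 36) (nat_lit 0),
  Rule.mk (nat_lit 1) (nat_lit 86) (Steps.fwd (nat_lit 32768) (Steps.bwd (nat_lit 6) (Steps.fwd (nat_lit 24576) (Steps.fwd (nat_lit 49152) (Steps.bwd (nat_lit 4) Steps.nil))))) (nat_lit 26) (nat_lit 3),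
  Rule.mk (nat_lit 0) (nat_lit 131) (Steps.bwd (nat_lit 1) (Steps.bwd (nat_lit 6) (Steps.fwd (nat_lit 32768) (Steps.fwd (nat_lit 49152) (Steps.bwd (nat_lit 1) (Steps.fwd (nat_lit 40960) (Steps.bwd (nat_lit 3) (Steps.bwd (nat_lit 5) Steps.nil)))))))) (nat_lit 36) (nat_lit 0),
  Rule.mk (nat_lit 0) (nat_lit 131) (Steps.bwd (nat_lit 6) (Steps.bwd (nat_lit 4) (Steps.fwd (nat_lit 49152) (Steps.fwd (nat_lit 8192) (Steps.fwd (nat_lit 40960) (Steps.fwd (nat_lit 24576) (Steps.bwd (nat_lit 5) (Steps.fwd (nat_lit 8192) Steps.nil)))))))) (nat_lit 37) (nat_lit 0),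
  Rule.mk (nat_lit 1) (nat_lit 116) (Steps.bwd (nat_lit 6) (Steps.bwd (nat_lit 3) (Steps.fwd (nat_lit 49152) (Steps.fwd (nat_lit 16384) (Steps.bwd (nat_lit 6) (Steps.bwd (nat_lit 3) (Steps.fwd (nat_lit 49152) Steps.nil))))))) (nat_lit 36) (nat_lit 1),
  Rule.mk (nat_lit 0) (nat_lit 161) (Steps.fwd (nat_lit 32768) (Steps.fwd (nat_lit 40960) (Steps.fwd (nat_lit 32768) (Steps.bwd (nat_lit 6) (Steps.bwd (nat_lit 3) (Steps.bwd (nat_lit 6) (Steps.bwd (nat_lit 3) (Steps.bwd (nat_lit 6) (Steps.bwd (nat_lit 3) (Steps.bwd (nat_lit 6) Steps.nil)))))))))) (nat_lit 51) (nat_lit 1),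
  Rule.mk (nat_lit 0) (nat_lit 131) (Steps.bwd (nat_lit 3) (Steps.fwd (nat_lit 49152) (Steps.bwd (nat_lit 1) (Steps.fwd (nat_lit 40960) (Steps.fwd (nat_lit 32768) (Steps.fwd (nat_lit 49152) (Steps.bwd (nat_lit 1) (Steps.bwd (nat_lit 6) Steps.nil)))))))) (nat_lit 36) (nat_lit 2),
  Rule.mk (nat_lit 6) (nat_lit 116) (Steps.bwd (nat_lit 3) (Steps.fwd (nat_lit 49152) (Steps.bwd (nat_lit 1) (Steps.fwd (nat_lit 40960) (Steps.fwd (nat_lit 32768) (Steps.fwd (nat_lit 49152) (Steps.fwd (nat_lit 16384) Steps.nil))))))) (nat_lit 36) (nat_lit 2),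
  Rule.mk (nat_lit 5) (nat_lit 116) (Steps.fwd (nat_lit 16384) (Steps.fwd (nat_lit 40960) (Steps.bwd (nat_lit 3) (Steps.fwd (nat_lit 49152) (Steps.bwd (nat_lit 1) (Steps.bwd (nat_lit 6) (Steps.bwd (nat_lit 3) Steps.nil))))))) (nat_lit 36) (nat_lit 0),
  Rule.mk (nat_lit 2) (nat_lit 86) (Steps.fwd (nat_lit 32768) (Steps.fwd (nat_lit 40960) (Steps.bwd (nat_lit 3) (Steps.fwd (nat_lit 49152) (Steps.fwd (nat_lit 24576) Steps.nil))))) (nat_lit 27) (nat_lit 4),
  Rule.mk (nat_lit 1) (nat_lit 116) (Steps.bwd (nat_lit 6) (Steps.bwd (nat_lit 3) (Steps.bwd (nat_lit 5) (Steps.bwd (nat_lit 1) (Steps.bwd (nat_lit 6) (Steps.bwd (nat_lit 3) (Steps.fwd (nat_lit 49152) Steps.nil))))))) (nat_lit 36) (nat_lit 1)]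
noncomputable def R_10 : List (Rule) := [Rule.mk (nat_lit 0) (nat_lit 161) (Steps.fwd (nat_lit 32768) (Steps.bwd (nat_lit 6) (Steps.bwd (nat_lit 3) (Steps.fwd (nat_lit 40960) (Steps.fwd (nat_lit 32768) (Steps.bwd (nat_lit 6) (Steps.bwd (nat_lit 3) (Steps.bwd (nat_lit 6) (Steps.bwd (nat_lit 3) (Steps.bwd (nat_lit 6) Steps.nil)))))))))) (nat_lit 51) (nat_lit 1),
  Rule.mk (nat_lit 1) (nat_lit 86) (Steps.fwd (nat_lit 32768) (Steps.bwd (nat_lit 6) (Steps.bwd (nat_lit 4) (Steps.fwd (nat_lit 49152) (Steps.fwd (nat_lit 24576) Steps.nil))))) (nat_lit 26) (nat_lit 3),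
  Rule.mk (nat_lit 2) (nat_lit 116) (Steps.fwd (nat_lit 40960) (Steps.bwd (nat_lit 4) (Steps.fwd (nat_lit 49152) (Steps.bwd (nat_lit 2) (Steps.bwd (nat_lit 6) (Steps.fwd (nat_lit 24576) (Steps.fwd (nat_lit 49152) Steps.nil))))))) (nat_lit 37) (nat_lit 0),
  Rule.mk (nat_lit 6) (nat_lit 116) (Steps.bwd (nat_lit 4) (Steps.bwd (nat_lit 5) (Steps.bwd (nat_lit 2) (Steps.bwd (nat_lit 6) (Steps.fwd (nat_lit 24576) (Steps.fwd (nat_lit 49152) (Steps.fwd (nat_lit 8192) Steps.nil))))))) (nat_lit 37) (nat_lit 1),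
  Rule.mk (nat_lit 2) (nat_lit 116) (Steps.bwd (nat_lit 6) (Steps.bwd (nat_lit 4) (Steps.fwd (nat_lit 49152) (Steps.fwd (nat_lit 8192) (Steps.fwd (nat_lit 40960) (Steps.fwd (nat_lit 24576) (Steps.fwd (nat_lit 49152) Steps.nil))))))) (nat_lit 37) (nat_lit 0),
  Rule.mk (nat_lit 6) (nat_lit 116) (Steps.fwd (nat_lit 24576) (Steps.fwd (nat_lit 49152) (Steps.bwd (nat_lit 2) (Steps.bwd (nat_lit 6) (Steps.fwd (nat_lit 24576) (Steps.fwd (nat_lit 49152) (Steps.bwd (nat_lit 2) Steps.nil))))))) (nat_lit 37) (nat_lit 1),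
  Rule.mk (nat_lit 6) (nat_lit 116) (Steps.bwd (nat_lit 4) (Steps.bwd (nat_lit 5) (Steps.bwd (nat_lit 2) (Steps.fwd (nat_lit 40960) (Steps.bwd (nat_lit 4) (Steps.bwd (nat_lit 5) (Steps.fwd (nat_lit 8192) Steps.nil))))))) (nat_lit 37) (nat_lit 1),
  Rule.mk (nat_lit 6) (nat_lit 116) (Steps.bwd (nat_lit 4) (Steps.fwd (nat_lit 49152) (Steps.fwd (nat_lit 8192) (Steps.bwd (nat_lit 6) (Steps.bwd (nat_lit 4) (Steps.bwd (nat_lit 5) (Steps.bwd (nat_lit 2) Steps.nil))))))) (nat_lit 37) (nat_lit 1),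
  Rule.mk (nat_lit 6) (nat_lit 146) (Steps.bwd (nat_lit 3) (Steps.bwd (nat_lit 6) (Steps.fwd (nat_lit 32768) (Steps.fwd (nat_lit 40960) (Steps.fwd (nat_lit 32768) (Steps.bwd (nat_lit 6) (Steps.bwd (nat_lit 3) (Steps.fwd (nat_lit 40960) (Steps.bwd (nat_lit 3) Steps.nil))))))))) (nat_lit 51) (nat_lit 1),
  Rule.mk (nat_lit 0) (nat_lit 101) (Steps.bwd (nat_lit 6) (Steps.fwd (nat_lit 24576) (Steps.fwd (nat_lit 49152) (Steps.fwd (nat_lit 24576) (Steps.fwd (nat_lit 16384) (Steps.fwd (nat_lit 32768) Steps.nil)))))) (nat_lit 26) (nat_lit 4),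
  Rule.mk (nat_lit 0) (nat_lit 101) (Steps.bwd (nat_lit 2) (Steps.bwd (nat_lit 3) (Steps.fwd (nat_lit 40960) (Steps.fwd (nat_lit 32768) (Steps.fwd (nat_lit 49152) (Steps.bwd (nat_lit 4) Steps.nil)))))) (nat_lit 27) (nat_lit 3),
  Rule.mk (nat_lit 5) (nat_lit 116) (Steps.bwd (nat_lit 1) (Steps.bwd (nat_lit 6) (Steps.bwd (nat_lit 3) (Steps.bwd (nat_lit 5) (Steps.fwd (nat_lit 16384) (Steps.bwd (nat_lit 6) (Steps.fwd (nat_lit 32768) Steps.nil))))))) (nat_lit 36) (nat_lit 0),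
  Rule.mk (nat_lit 0) (nat_lit 131) (Steps.bwd (nat_lit 1) (Steps.fwd (nat_lit 40960) (Steps.fwd (nat_lit 32768) (Steps.fwd (nat_lit 49152) (Steps.fwd (nat_lit 16384) (Steps.bwd (nat_lit 6) (Steps.bwd (nat_lit 3) (Steps.fwd (nat_lit 49152) Steps.nil)))))))) (nat_lit 36) (nat_lit 0),
  Rule.mk (nat_lit 2) (nat_lit 116) (Steps.fwd (nat_lit 40960) (Steps.bwd (nat_lit 4) (Steps.fwd (nat_lit 49152) (Steps.fwd (nat_lit 8192) (Steps.bwd (nat_lit 6) (Steps.fwd (nat_lit 24576) (Steps.fwd (nat_lit 49152) Steps.nil))))))) (nat_lit 37) (nat_lit 0),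
  Rule.mk (nat_lit 6) (nat_lit 116) (Steps.bwd (nat_lit 3) (Steps.fwd (nat_lit 49152) (Steps.bwd (nat_lit 1) (Steps.bwd (nat_lit 6) (Steps.bwd (nat_lit 3) (Steps.fwd (nat_lit 49152) (Steps.bwd (nat_lit 1) Steps.nil))))))) (nat_lit 36) (nat_lit 2),
  Rule.mk (nat_lit 0) (nat_lit 131) (Steps.bwd (nat_lit 1) (Steps.bwd (nat_lit 6) (Steps.bwd (nat_lit 3) (Steps.fwd (nat_lit 49152) (Steps.bwd (nat_lit 1) (Steps.fwd (nat_lit 40960) (Steps.fwd (nat_lit 32768) (Steps.fwd (nat_lit 49152) Steps.nil)))))))) (nat_lit 36) (nat_lit 0),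
  Rule.mk (nat_lit 5) (nat_lit 116) (Steps.fwd (nat_lit 16384) (Steps.bwd (nat_lit 6) (Steps.fwd (nat_lit 32768) (Steps.bwd (nat_lit 5) (Steps.bwd (nat_lit 1) (Steps.bwd (nat_lit 6) (Steps.fwd (nat_lit 32768) Steps.nil))))))) (nat_lit 36) (nat_lit 0),
  Rule.mk (nat_lit 5) (nat_lit 116) (Steps.bwd (nat_lit 2) (Steps.bwd (nat_lit 6) (Steps.bwd (nat_lit 4) (Steps.bwd (nat_lit 5) (Steps.fwd (nat_lit 8192) (Steps.fwd (nat_lit 40960) (Steps.fwd (nat_lit 24576) Steps.nil))))))) (nat_lit 37) (nat_lit 3),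
  Rule.mk (nat_lit 0) (nat_lit 101) (Steps.bwd (nat_lit 1) (Steps.bwd (nat_lit 3) (Steps.fwd (nat_lit 40960) (Steps.fwd (nat_lit 24576) (Steps.bwd (nat_lit 5) (Steps.bwd (nat_lit 4) Steps.nil)))))) (nat_lit 26) (nat_lit 2),
  Rule.mk (nat_lit 0) (nat_lit 131) (Steps.bwd (nat_lit 6) (Steps.fwd (nat_lit 32768) (Steps.bwd (nat_lit 5) (Steps.bwd (nat_lit 1) (Steps.bwd (nat_lit 6) (Steps.fwd (nat_lit 32768) (Steps.bwd (nat_lit 5) (Steps.fwd (nat_lit 16384) Steps.nil)))))))) (nat_lit 36) (nat_lit 1),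
  Rule.mk (nat_lit 1) (nat_lit 116) (Steps.bwd (nat_lit 6) (Steps.fwd (nat_lit 32768) (Steps.bwd (nat_lit 5) (Steps.fwd (nat_lit 16384) (Steps.fwd (nat_lit 40960) (Steps.bwd (nat_lit 3) (Steps.bwd (nat_lit 5) Steps.nil))))))) (nat_lit 36) (nat_lit 1),
  Rule.mk (nat_lit 6) (nat_lit 146) (Steps.bwd (nat_lit 3) (Steps.bwd (nat_lit 6) (Steps.fwd (nat_lit 32768) (Steps.fwd (nat_lit 40960) (Steps.fwd (nat_lit 32768) (Steps.bwd (nat_lit 6) (Steps.bwd (nat_lit 3) (Steps.fwd (nat_lit 40960) (Steps.fwd (nat_lit 32768) Steps.nil))))))))) (nat_lit 51) (nat_lit 1),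
  Rule.mk (nat_lit 1) (nat_lit 116) (Steps.bwd (nat_lit 6) (Steps.bwd (nat_lit 3) (Steps.bwd (nat_lit 5) (Steps.bwd (nat_lit 1) (Steps.bwd (nat_lit 6) (Steps.bwd (nat_lit 3) (Steps.bwd (nat_lit 5) Steps.nil))))))) (nat_lit 36) (nat_lit 1),
  Rule.mk (nat_lit 4) (nat_lit 116) (Steps.fwd (nat_lit 49152) (Steps.bwd (nat_lit 2) (Steps.fwd (nat_lit 40960) (Steps.fwd (nat_lit 24576) (Steps.bwd (nat_lit 5) (Steps.fwd (nat_lit 8192) (Steps.fwd (nat_lit 40960) Steps.nil))))))) (nat_lit 37) (nat_lit 2),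
  Rule.mk (nat_lit 0) (nat_lit 101) (Steps.fwd (nat_lit 16384) (Steps.bwd (nat_lit 3) (Steps.bwd (nat_lit 6) (Steps.fwd (nat_lit 24576) (Steps.bwd (nat_lit 5) (Steps.fwd (nat_lit 24576) Steps.nil)))))) (nat_lit 26) (nat_lit 2),
  Rule.mk (nat_lit 5) (nat_lit 146) (Steps.bwd (nat_lit 4) (Steps.bwd (nat_lit 5) (Steps.bwd (nat_lit 4) (Steps.fwd (nat_lit 49152) (Steps.fwd (nat_lit 24576) (Steps.fwd (nat_lit 49152) (Steps.fwd (nat_lit 24576) (Steps.bwd (nat_lit 5) (Steps.fwd (nat_lit 24576) Steps.nil))))))))) (nat_lit 50) (nat_lit 0),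
  Rule.mk (nat_lit 5) (nat_lit 146) (Steps.bwd (nat_lit 4) (Steps.fwd (nat_lit 49152) (Steps.fwd (nat_lit 24576) (Steps.bwd (nat_lit 5) (Steps.bwd (nat_lit 4) (Steps.bwd (nat_lit 5) (Steps.fwd (nat_lit 24576) (Steps.fwd (nat_lit 49152) (Steps.bwd (nat_lit 4) Steps.nil))))))))) (nat_lit 50) (nat_lit 0),
  Rule.mk (nat_lit 3) (nat_lit 116) (Steps.bwd (nat_lit 5) (Steps.bwd (nat_lit 1) (Steps.fwd (nat_lit 40960) (Steps.fwd (nat_lit 32768) (Steps.fwd (nat_lit 49152) (Steps.bwd (nat_lit 1) (Steps.fwd (nat_lit 40960) Steps.nil))))))) (nat_lit 36) (nat_lit 3),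
  Rule.mk (nat_lit 5) (nat_lit 116) (Steps.bwd (nat_lit 1) (Steps.fwd (nat_lit 40960) (Steps.fwd (nat_lit 32768) (Steps.fwd (nat_lit 49152) (Steps.bwd (nat_lit 1) (Steps.fwd (nat_lit 40960) (Steps.bwd (nat_lit 3) Steps.nil))))))) (nat_lit 36) (nat_lit 0),
  Rule.mk (nat_lit 0) (nat_lit 101) (Steps.fwd (nat_lit 16384) (Steps.fwd (nat_lit 32768) (Steps.fwd (nat_lit 40960) (Steps.fwd (nat_lit 24576) (Steps.bwd (nat_lit 5) (Steps.bwd (nat_lit 4) Steps.nil)))))) (nat_lit 26) (nat_lit 2),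
  Rule.mk (nat_lit 6) (nat_lit 86) (Steps.bwd (nat_lit 3) (Steps.fwd (nat_lit 49152) (Steps.bwd (nat_lit 4) (Steps.fwd (nat_lit 8192) (Steps.bwd (nat_lit 3) Steps.nil))))) (nat_lit 27) (nat_lit 0),
  Rule.mk (nat_lit 0) (nat_lit 131) (Steps.fwd (nat_lit 16384) (Steps.bwd (nat_lit 6) (Steps.fwd (nat_lit 32768) (Steps.fwd (nat_lit 49152) (Steps.fwd (nat_lit 16384) (Steps.fwd (nat_lit 40960) (Steps.fwd (nat_lit 32768) (Steps.bwd (nat_lit 5) Steps.nil)))))))) (nat_lit 36) (nat_lit 0),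
  Rule.mk (nat_lit 0) (nat_lit 161) (Steps.fwd (nat_lit 32768) (Steps.fwd (nat_lit 40960) (Steps.bwd (nat_lit 3) (Steps.fwd (nat_lit 40960) (Steps.fwd (nat_lit 32768) (Steps.bwd (nat_lit 6) (Steps.fwd (nat_lit 32768) (Steps.fwd (nat_lit 40960) (Steps.fwd (nat_lit 32768) (Steps.bwd (nat_lit 6) Steps.nil)))))))))) (nat_lit 51) (nat_lit 1),
  Rule.mk (nat_lit 0) (nat_lit 56) (Steps.fwd (nat_lit 8192) (Steps.bwd (nat_lit 0) (Steps.fwd (nat_lit 16384) Steps.nil))) (nat_lit 56) (nat_lit 0),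
  Rule.mk (nat_lit 6) (nat_lit 146) (Steps.fwd (nat_lit 32768) (Steps.fwd (nat_lit 40960) (Steps.bwd (nat_lit 3) (Steps.fwd (nat_lit 40960) (Steps.fwd (nat_lit 32768) (Steps.fwd (nat_lit 40960) (Steps.fwd (nat_lit 32768) (Steps.bwd (nat_lit 6) (Steps.bwd (nat_lit 3) Steps.nil))))))))) (nat_lit 51) (nat_lit 1),
  Rule.mk (nat_lit 6) (nat_lit 116) (Steps.fwd (nat_lit 32768) (Steps.bwd (nat_lit 5) (Steps.fwd (nat_lit 16384) (Steps.bwd (nat_lit 6) (Steps.bwd (nat_lit 3) (Steps.fwd (nat_lit 49152) (Steps.fwd (nat_lit 16384) Steps.nil))))))) (nat_lit 36) (nat_lit 2),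
  Rule.mk (nat_lit 2) (nat_lit 116) (Steps.bwd (nat_lit 6) (Steps.fwd (nat_lit 24576) (Steps.bwd (nat_lit 5) (Steps.bwd (nat_lit 2) (Steps.bwd (nat_lit 6) (Steps.fwd (nat_lit 24576) (Steps.fwd (nat_lit 49152) Steps.nil))))))) (nat_lit 37) (nat_lit 0),
  Rule.mk (nat_lit 2) (nat_lit 116) (Steps.fwd (nat_lit 40960) (Steps.bwd (nat_lit 4) (Steps.bwd (nat_lit 5) (Steps.bwd (nat_lit 2) (Steps.bwd (nat_lit 6) (Steps.fwd (nat_lit 24576) (Steps.fwd (nat_lit 49152) Steps.nil))))))) (nat_lit 37) (nat_lit 0),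
  Rule.mk (nat_lit 0) (nat_lit 131) (Steps.fwd (nat_lit 40960) (Steps.bwd (nat_lit 3) (Steps.fwd (nat_lit 49152) (Steps.fwd (nat_lit 16384) (Steps.fwd (nat_lit 40960) (Steps.fwd (nat_lit 32768) (Steps.bwd (nat_lit 5) (Steps.fwd (nat_lit 16384) Steps.nil)))))))) (nat_lit 36) (nat_lit 1),
  Rule.mk (nat_lit 1) (nat_lit 116) (Steps.fwd (nat_lit 40960) (Steps.fwd (nat_lit 32768) (Steps.bwd (nat_lit 5) (Steps.bwd (nat_lit 1) (Steps.bwd (nat_lit 6) (Steps.bwd (nat_lit 3) (Steps.fwd (nat_lit 49152) Steps.nil))))))) (nat_lit 36) (nat_lit 1),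
  Rule.mk (nat_lit 5) (nat_lit 146) (Steps.fwd (nat_lit 24576) (Steps.fwd (nat_lit 49152) (Steps.fwd (nat_lit 24576) (Steps.bwd (nat_lit 5) (Steps.bwd (nat_lit 4) (Steps.bwd (nat_lit 5) (Steps.bwd (nat_lit 4) (Steps.bwd (nat_lit 5) (Steps.bwd (nat_lit 4) Steps.nil))))))))) (nat_lit 50) (nat_lit 0),
  Rule.mk (nat_lit 5) (nat_lit 116) (Steps.fwd (nat_lit 16384) (Steps.fwd (nat_lit 40960) (Steps.fwd (nat_lit 32768) (Steps.bwd (nat_lit 5) (Steps.bwd (nat_lit 1) (Steps.bwd (nat_lit 6) (Steps.bwd (nat_lit 3) Steps.nil))))))) (nat_lit 36) (nat_lit 0),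
  Rule.mk (nat_lit 6) (nat_lit 116) (Steps.fwd (nat_lit 32768) (Steps.bwd (nat_lit 5) (Steps.bwd (nat_lit 1) (Steps.bwd (nat_lit 6) (Steps.fwd (nat_lit 32768) (Steps.bwd (nat_lit 5) (Steps.bwd (nat_lit 1) Steps.nil))))))) (nat_lit 36) (nat_lit 2),
  Rule.mk (nat_lit 0) (nat_lit 161) (Steps.bwd (nat_lit 5) (Steps.fwd (nat_lit 24576) (Steps.bwd (nat_lit 5) (Steps.fwd (nat_lit 24576) (Steps.fwd (nat_lit 49152) (Steps.bwd (nat_lit 4) (Steps.bwd (nat_lit 5) (Steps.bwd (nat_lit 4) (Steps.bwd (nat_lit 5) (Steps.bwd (nat_lit 4) Steps.nil)))))))))) (nat_lit 50) (nat_lit 1),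
  Rule.mk (nat_lit 0) (nat_lit 131) (Steps.fwd (nat_lit 16384) (Steps.fwd (nat_lit 40960) (Steps.bwd (nat_lit 3) (Steps.bwd (nat_lit 5) (Steps.bwd (nat_lit 1) (Steps.bwd (nat_lit 6) (Steps.fwd (nat_lit 32768) (Steps.bwd (nat_lit 5) Steps.nil)))))))) (nat_lit 36) (nat_lit 0),
  Rule.mk (nat_lit 2) (nat_lit 116) (Steps.fwd (nat_lit 40960) (Steps.fwd (nat_lit 24576) (Steps.bwd (nat_lit 5) (Steps.bwd (nat_lit 2) (Steps.bwd (nat_lit 6) (Steps.fwd (nat_lit 24576) (Steps.bwd (nat_lit 5) Steps.nil))))))) (nat_lit 37) (nat_lit 0),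
  Rule.mk (nat_lit 1) (nat_lit 116) (Steps.fwd (nat_lit 40960) (Steps.fwd (nat_lit 32768) (Steps.bwd (nat_lit 5) (Steps.fwd (nat_lit 16384) (Steps.fwd (nat_lit 40960) (Steps.bwd (nat_lit 3) (Steps.bwd (nat_lit 5) Steps.nil))))))) (nat_lit 36) (nat_lit 1),
  Rule.mk (nat_lit 2) (nat_lit 116) (Steps.bwd (nat_lit 6) (Steps.bwd (nat_lit 4) (Steps.fwd (nat_lit 49152) (Steps.bwd (nat_lit 2) (Steps.fwd (nat_lit 40960) (Steps.bwd (nat_lit 4) (Steps.fwd (nat_lit 49152) Steps.nil))))))) (nat_lit 37) (nat_lit 0),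
  Rule.mk (nat_lit 6) (nat_lit 86) (Steps.fwd (nat_lit 32768) (Steps.fwd (nat_lit 49152) (Steps.fwd (nat_lit 24576) (Steps.bwd (nat_lit 2) (Steps.bwd (nat_lit 3) Steps.nil))))) (nat_lit 27) (nat_lit 0),
  Rule.mk (nat_lit 5) (nat_lit 116) (Steps.fwd (nat_lit 16384) (Steps.bwd (nat_lit 6) (Steps.bwd (nat_lit 3) (Steps.fwd (nat_lit 49152) (Steps.bwd (nat_lit 1) (Steps.fwd (nat_lit 40960) (Steps.fwd (nat_lit 32768) Steps.nil))))))) (nat_lit 36) (nat_lit 0),
  Rule.mk (nat_lit 2) (nat_lit 86) (Steps.fwd (nat_lit 32768) (Steps.fwd (nat_lit 40960) (Steps.fwd (nat_lit 32768) (Steps.bwd (nat_lit 5) (Steps.fwd (nat_lit 24576) Steps.nil))))) (nat_lit 27) (nat_lit 4),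
  Rule.mk (nat_lit 1) (nat_lit 86) (Steps.fwd (nat_lit 32768) (Steps.fwd (nat_lit 40960) (Steps.bwd (nat_lit 4) (Steps.fwd (nat_lit 49152) (Steps.bwd (nat_lit 4) Steps.nil))))) (nat_lit 26) (nat_lit 3),
  Rule.mk (nat_lit 3) (nat_lit 116) (Steps.bwd (nat_lit 5) (Steps.bwd (nat_lit 1) (Steps.bwd (nat_lit 6) (Steps.bwd (nat_lit 3) (Steps.fwd (nat_lit 49152) (Steps.fwd (nat_lit 16384) (Steps.fwd (nat_lit 40960) Steps.nil))))))) (nat_lit 36) (nat_lit 3),
  Rule.mk (nat_lit 5) (nat_lit 86) (Steps.fwd (nat_lit 24576) (Steps.fwd (nat_lit 16384) (Steps.bwd (nat_lit 3) (Steps.fwd (nat_lit 40960) (Steps.bwd (nat_lit 4) Steps.nil))))) (nat_lit 26) (nat_lit 1),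
  Rule.mk (nat_lit 6) (nat_lit 116) (Steps.fwd (nat_lit 32768) (Steps.bwd (nat_lit 5) (Steps.fwd (nat_lit 16384) (Steps.fwd (nat_lit 40960) (Steps.bwd (nat_lit 3) (Steps.bwd (nat_lit 5) (Steps.bwd (nat_lit 1) Steps.nil))))))) (nat_lit 36) (nat_lit 2),
  Rule.mk (nat_lit 5) (nat_lit 146) (Steps.bwd (nat_lit 4) (Steps.bwd (nat_lit 5) (Steps.fwd (nat_lit 24576) (Steps.bwd (nat_lit 5) (Steps.bwd (nat_lit 4) (Steps.fwd (nat_lit 49152) (Steps.fwd (nat_lit 24576) (Steps.fwd (nat_lit 49152) (Steps.fwd (nat_lit 24576) Steps.nil))))))))) (nat_lit 50) (nat_lit 0),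
  Rule.mk (nat_lit 5) (nat_lit 116) (Steps.bwd (nat_lit 1) (Steps.fwd (nat_lit 40960) (Steps.bwd (nat_lit 3) (Steps.fwd (nat_lit 49152) (Steps.fwd (nat_lit 16384) (Steps.bwd (nat_lit 6) (Steps.fwd (nat_lit 32768) Steps.nil))))))) (nat_lit 36) (nat_lit 0),
  Rule.mk (nat_lit 6) (nat_lit 116) (Steps.bwd (nat_lit 4) (Steps.bwd (nat_lit 5) (Steps.bwd (nat_lit 2) (Steps.bwd (nat_lit 6) (Steps.bwd (nat_lit 4) (Steps.bwd (nat_lit 5) (Steps.fwd (nat_lit 8192) Steps.nil))))))) (nat_lit 37) (nat_lit 1),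
  Rule.mk (nat_lit 0) (nat_lit 101) (Steps.fwd (nat_lit 49152) (Steps.fwd (nat_lit 24576) (Steps.bwd (nat_lit 1) (Steps.fwd (nat_lit 32768) (Steps.fwd (nat_lit 40960) (Steps.fwd (nat_lit 24576) Steps.nil)))))) (nat_lit 26) (nat_lit 0),
  Rule.mk (nat_lit 0) (nat_lit 131) (Steps.fwd (nat_lit 40960) (Steps.fwd (nat_lit 24576) (Steps.bwd (nat_lit 5) (Steps.fwd (nat_lit 8192) (Steps.bwd (nat_lit 6) (Steps.fwd (nat_lit 24576) (Steps.fwd (nat_lit 49152) (Steps.fwd (nat_lit 8192) Steps.nil)))))))) (nat_lit 37) (nat_lit 0),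
  Rule.mk (nat_lit 0) (nat_lit 161) (Steps.fwd (nat_lit 32768) (Steps.fwd (nat_lit 40960) (Steps.bwd (nat_lit 3) (Steps.bwd (nat_lit 6) (Steps.bwd (nat_lit 3) (Steps.bwd (nat_lit 6) (Steps.bwd (nat_lit 3) (Steps.fwd (nat_lit 40960) (Steps.bwd (nat_lit 3) (Steps.fwd (nat_lit 40960) Steps.nil)))))))))) (nat_lit 51) (nat_lit 1),
  Rule.mk (nat_lit 0) (nat_lit 131) (Steps.bwd (nat_lit 1) (Steps.fwd (nat_lit 40960) (Steps.fwd (nat_lit 32768) (Steps.bwd (nat_lit 5) (Steps.fwd (nat_lit 16384) (Steps.bwd (nat_lit 6) (Steps.bwd (nat_lit 3) (Steps.fwd (nat_lit 49152) Steps.nil)))))))) (nat_lit 36) (nat_lit 0),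
  Rule.mk (nat_lit 1) (nat_lit 116) (Steps.fwd (nat_lit 40960) (Steps.bwd (nat_lit 3) (Steps.bwd (nat_lit 5) (Steps.bwd (nat_lit 1) (Steps.fwd (nat_lit 40960) (Steps.fwd (nat_lit 32768) (Steps.bwd (nat_lit 5) Steps.nil))))))) (nat_lit 36) (nat_lit 1),
  Rule.mk (nat_lit 6) (nat_lit 116) (Steps.bwd (nat_lit 3) (Steps.bwd (nat_lit 5) (Steps.fwd (nat_lit 16384) (Steps.fwd (nat_lit 40960) (Steps.fwd (nat_lit 32768) (Steps.fwd (nat_lit 49152) (Steps.bwd (nat_lit 1) Steps.nil))))))) (nat_lit 36) (nat_lit 2)]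
noncomputable def R_11 : List (Rule) := [Rule.mk (nat_lit 6) (nat_lit 146) (Steps.bwd (nat_lit 3) (Steps.bwd (nat_lit 6) (Steps.bwd (nat_lit 3) (Steps.bwd (nat_lit 6) (Steps.bwd (nat_lit 3) (Steps.bwd (nat_lit 6) (Steps.bwd (nat_lit 3) (Steps.fwd (nat_lit 40960) (Steps.bwd (nat_lit 3) Steps.nil))))))))) (nat_lit 51) (nat_lit 1),
  Rule.mk (nat_lit 2) (nat_lit 116) (Steps.fwd (nat_lit 40960) (Steps.fwd (nat_lit 24576) (Steps.fwd (nat_lit 49152) (Steps.fwd (nat_lit 8192) (Steps.bwd (nat_lit 6) (Steps.fwd (nat_lit 24576) (Steps.fwd (nat_lit 49152) Steps.nil))))))) (nat_lit 37) (nat_lit 0),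
  Rule.mk (nat_lit 0) (nat_lit 131) (Steps.bwd (nat_lit 1) (Steps.fwd (nat_lit 40960) (Steps.fwd (nat_lit 32768) (Steps.bwd (nat_lit 5) (Steps.bwd (nat_lit 1) (Steps.bwd (nat_lit 6) (Steps.bwd (nat_lit 3) (Steps.fwd (nat_lit 49152) Steps.nil)))))))) (nat_lit 36) (nat_lit 0),
  Rule.mk (nat_lit 2) (nat_lit 116) (Steps.fwd (nat_lit 40960) (Steps.fwd (nat_lit 24576) (Steps.bwd (nat_lit 5) (Steps.bwd (nat_lit 2) (Steps.fwd (nat_lit 40960) (Steps.bwd (nat_lit 4) (Steps.bwd (nat_lit 5) Steps.nil))))))) (nat_lit 37) (nat_lit 0),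
  Rule.mk (nat_lit 6) (nat_lit 116) (Steps.bwd (nat_lit 3) (Steps.bwd (nat_lit 5) (Steps.fwd (nat_lit 16384) (Steps.bwd (nat_lit 6) (Steps.fwd (nat_lit 32768) (Steps.fwd (nat_lit 49152) (Steps.bwd (nat_lit 1) Steps.nil))))))) (nat_lit 36) (nat_lit 2),
  Rule.mk (nat_lit 6) (nat_lit 116) (Steps.bwd (nat_lit 3) (Steps.bwd (nat_lit 5) (Steps.bwd (nat_lit 1) (Steps.bwd (nat_lit 6) (Steps.bwd (nat_lit 3) (Steps.fwd (nat_lit 49152) (Steps.fwd (nat_lit 16384) Steps.nil))))))) (nat_lit 36) (nat_lit 2),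
  Rule.mk (nat_lit 4) (nat_lit 146) (Steps.fwd (nat_lit 49152) (Steps.fwd (nat_lit 24576) (Steps.bwd (nat_lit 5) (Steps.bwd (nat_lit 4) (Steps.fwd (nat_lit 49152) (Steps.fwd (nat_lit 24576) (Steps.fwd (nat_lit 49152) (Steps.fwd (nat_lit 24576) (Steps.bwd (nat_lit 5) Steps.nil))))))))) (nat_lit 50) (nat_lit 1),
  Rule.mk (nat_lit 6) (nat_lit 116) (Steps.bwd (nat_lit 4) (Steps.fwd (nat_lit 49152) (Steps.bwd (nat_lit 2) (Steps.fwd (nat_lit 40960) (Steps.bwd (nat_lit 4) (Steps.bwd (nat_lit 5) (Steps.fwd (nat_lit 8192) Steps.nil))))))) (nat_lit 37) (nat_lit 1),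
  Rule.mk (nat_lit 0) (nat_lit 101) (Steps.fwd (nat_lit 32768) (Steps.bwd (nat_lit 6) (Steps.bwd (nat_lit 4) (Steps.fwd (nat_lit 49152) (Steps.fwd (nat_lit 24576) (Steps.bwd (nat_lit 1) Steps.nil)))))) (nat_lit 26) (nat_lit 3),
  Rule.mk (nat_lit 6) (nat_lit 86) (Steps.bwd (nat_lit 3) (Steps.bwd (nat_lit 5) (Steps.bwd (nat_lit 4) (Steps.bwd (nat_lit 2) (Steps.fwd (nat_lit 32768) Steps.nil))))) (nat_lit 27) (nat_lit 0),
  Rule.mk (nat_lit 6) (nat_lit 146) (Steps.bwd (nat_lit 3) (Steps.bwd (nat_lit 6) (Steps.bwd (nat_lit 3) (Steps.fwd (nat_lit 40960) (Steps.fwd (nat_lit 32768) (Steps.bwd (nat_lit 6) (Steps.bwd (nat_lit 3) (Steps.bwd (nat_lit 6) (Steps.bwd (nat_lit 3) Steps.nil))))))))) (nat_lit 51) (nat_lit 1),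
  Rule.mk (nat_lit 5) (nat_lit 86) (Steps.fwd (nat_lit 24576) (Steps.bwd (nat_lit 1) (Steps.bwd (nat_lit 3) (Steps.bwd (nat_lit 6) (Steps.fwd (nat_lit 24576) Steps.nil))))) (nat_lit 26) (nat_lit 1),
  Rule.mk (nat_lit 0) (nat_lit 131) (Steps.bwd (nat_lit 1) (Steps.fwd (nat_lit 40960) (Steps.bwd (nat_lit 3) (Steps.fwd (nat_lit 49152) (Steps.bwd (nat_lit 1) (Steps.bwd (nat_lit 6) (Steps.bwd (nat_lit 3) (Steps.fwd (nat_lit 49152) Steps.nil)))))))) (nat_lit 36) (nat_lit 0),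
  Rule.mk (nat_lit 0) (nat_lit 131) (Steps.bwd (nat_lit 2) (Steps.bwd (nat_lit 6) (Steps.bwd (nat_lit 4) (Steps.bwd (nat_lit 5) (Steps.fwd (nat_lit 8192) (Steps.bwd (nat_lit 6) (Steps.fwd (nat_lit 24576) (Steps.bwd (nat_lit 5) Steps.nil)))))))) (nat_lit 37) (nat_lit 3),
  Rule.mk (nat_lit 5) (nat_lit 146) (Steps.bwd (nat_lit 4) (Steps.fwd (nat_lit 49152) (Steps.bwd (nat_lit 4) (Steps.fwd (nat_lit 49152) (Steps.fwd (nat_lit 24576) (Steps.fwd (nat_lit 49152) (Steps.fwd (nat_lit 24576) (Steps.fwd (nat_lit 49152) (Steps.bwd (nat_lit 4) Steps.nil))))))))) (nat_lit 50) (nat_lit 0),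
  Rule.mk (nat_lit 6) (nat_lit 116) (Steps.fwd (nat_lit 32768) (Steps.bwd (nat_lit 5) (Steps.fwd (nat_lit 16384) (Steps.fwd (nat_lit 40960) (Steps.bwd (nat_lit 3) (Steps.bwd (nat_lit 5) (Steps.fwd (nat_lit 16384) Steps.nil))))))) (nat_lit 36) (nat_lit 2),
  Rule.mk (nat_lit 0) (nat_lit 131) (Steps.bwd (nat_lit 2) (Steps.bwd (nat_lit 6) (Steps.fwd (nat_lit 24576) (Steps.fwd (nat_lit 49152) (Steps.fwd (nat_lit 8192) (Steps.fwd (nat_lit 40960) (Steps.bwd (nat_lit 4) (Steps.bwd (nat_lit 5) Steps.nil)))))))) (nat_lit 37) (nat_lit 3),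
  Rule.mk (nat_lit 2) (nat_lit 86) (Steps.bwd (nat_lit 3) (Steps.fwd (nat_lit 40960) (Steps.fwd (nat_lit 32768) (Steps.fwd (nat_lit 49152) (Steps.bwd (nat_lit 4) Steps.nil))))) (nat_lit 27) (nat_lit 4),
  Rule.mk (nat_lit 5) (nat_lit 116) (Steps.fwd (nat_lit 8192) (Steps.fwd (nat_lit 40960) (Steps.bwd (nat_lit 4) (Steps.bwd (nat_lit 5) (Steps.bwd (nat_lit 2) (Steps.bwd (nat_lit 6) (Steps.bwd (nat_lit 4) Steps.nil))))))) (nat_lit 37) (nat_lit 3),
  Rule.mk (nat_lit 4) (nat_lit 86) (Steps.bwd (nat_lit 1) (Steps.bwd (nat_lit 3) (Steps.fwd (nat_lit 40960) (Steps.fwd (nat_lit 24576) (Steps.fwd (nat_lit 49152) Steps.nil))))) (nat_lit 26) (nat_lit 2),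
  Rule.mk (nat_lit 6) (nat_lit 116) (Steps.bwd (nat_lit 3) (Steps.bwd (nat_lit 5) (Steps.fwd (nat_lit 16384) (Steps.fwd (nat_lit 40960) (Steps.fwd (nat_lit 32768) (Steps.bwd (nat_lit 5) (Steps.bwd (nat_lit 1) Steps.nil))))))) (nat_lit 36) (nat_lit 2),
  Rule.mk (nat_lit 5) (nat_lit 146) (Steps.fwd (nat_lit 24576) (Steps.fwd (nat_lit 49152) (Steps.fwd (nat_lit 24576) (Steps.fwd (nat_lit 49152) (Steps.fwd (nat_lit 24576) (Steps.fwd (nat_lit 49152) (Steps.fwd (nat_lit 24576) (Steps.bwd (nat_lit 5) (Steps.bwd (nat_lit 4) Steps.nil))))))))) (nat_lit 50) (nat_lit 0),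
  Rule.mk (nat_lit 5) (nat_lit 116) (Steps.bwd (nat_lit 2) (Steps.fwd (nat_lit 40960) (Steps.bwd (nat_lit 4) (Steps.bwd (nat_lit 5) (Steps.bwd (nat_lit 2) (Steps.bwd (nat_lit 6) (Steps.fwd (nat_lit 24576) Steps.nil))))))) (nat_lit 37) (nat_lit 3),
  Rule.mk (nat_lit 0) (nat_lit 131) (Steps.fwd (nat_lit 49152) (Steps.fwd (nat_lit 8192) (Steps.bwd (nat_lit 6) (Steps.fwd (nat_lit 24576) (Steps.fwd (nat_lit 49152) (Steps.fwd (nat_lit 8192) (Steps.fwd (nat_lit 40960) (Steps.bwd (nat_lit 4) Steps.nil)))))))) (nat_lit 37) (nat_lit 2),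
  Rule.mk (nat_lit 2) (nat_lit 116) (Steps.bwd (nat_lit 6) (Steps.fwd (nat_lit 24576) (Steps.fwd (nat_lit 49152) (Steps.bwd (nat_lit 2) (Steps.fwd (nat_lit 40960) (Steps.fwd (nat_lit 24576) (Steps.bwd (nat_lit 5) Steps.nil))))))) (nat_lit 37) (nat_lit 0),
  Rule.mk (nat_lit 2) (nat_lit 116) (Steps.bwd (nat_lit 6) (Steps.fwd (nat_lit 24576) (Steps.fwd (nat_lit 49152) (Steps.bwd (nat_lit 2) (Steps.bwd (nat_lit 6) (Steps.fwd (nat_lit 24576) (Steps.fwd (nat_lit 49152) Steps.nil))))))) (nat_lit 37) (nat_lit 0),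
  Rule.mk (nat_lit 5) (nat_lit 116) (Steps.bwd (nat_lit 2) (Steps.fwd (nat_lit 40960) (Steps.bwd (nat_lit 4) (Steps.bwd (nat_lit 5) (Steps.fwd (nat_lit 8192) (Steps.bwd (nat_lit 6) (Steps.bwd (nat_lit 4) Steps.nil))))))) (nat_lit 37) (nat_lit 3),
  Rule.mk (nat_lit 3) (nat_lit 86) (Steps.bwd (nat_lit 6) (Steps.bwd (nat_lit 3) (Steps.fwd (nat_lit 49152) (Steps.bwd (nat_lit 4) (Steps.bwd (nat_lit 2) Steps.nil))))) (nat_lit 27) (nat_lit 5),
  Rule.mk (nat_lit 3) (nat_lit 146) (Steps.bwd (nat_lit 6) (Steps.bwd (nat_lit 3) (Steps.bwd (nat_lit 6) (Steps.bwd (nat_lit 3) (Steps.bwd (nat_lit 6) (Steps.bwd (nat_lit 3) (Steps.bwd (nat_lit 6) (Steps.fwd (nat_lit 32768) (Steps.bwd (nat_lit 6) Steps.nil))))))))) (nat_lit 51) (nat_lit 0),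
  Rule.mk (nat_lit 5) (nat_lit 146) (Steps.fwd (nat_lit 24576) (Steps.bwd (nat_lit 5) (Steps.fwd (nat_lit 24576) (Steps.fwd (nat_lit 49152) (Steps.bwd (nat_lit 4) (Steps.fwd (nat_lit 49152) (Steps.fwd (nat_lit 24576) (Steps.bwd (nat_lit 5) (Steps.bwd (nat_lit 4) Steps.nil))))))))) (nat_lit 50) (nat_lit 0),
  Rule.mk (nat_lit 6) (nat_lit 146) (Steps.bwd (nat_lit 3) (Steps.bwd (nat_lit 6) (Steps.fwd (nat_lit 32768) (Steps.fwd (nat_lit 40960) (Steps.fwd (nat_lit 32768) (Steps.fwd (nat_lit 40960) (Steps.fwd (nat_lit 32768) (Steps.fwd (nat_lit 40960) (Steps.bwd (nat_lit 3) Steps.nil))))))))) (nat_lit 51) (nat_lit 1),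
  Rule.mk (nat_lit 0) (nat_lit 101) (Steps.fwd (nat_lit 40960) (Steps.fwd (nat_lit 24576) (Steps.bwd (nat_lit 5) (Steps.fwd (nat_lit 24576) (Steps.fwd (nat_lit 16384) (Steps.fwd (nat_lit 32768) Steps.nil)))))) (nat_lit 26) (nat_lit 4),
  Rule.mk (nat_lit 6) (nat_lit 86) (Steps.fwd (nat_lit 32768) (Steps.bwd (nat_lit 5) (Steps.bwd (nat_lit 4) (Steps.bwd (nat_lit 2) (Steps.fwd (nat_lit 32768) Steps.nil))))) (nat_lit 27) (nat_lit 0),
  Rule.mk (nat_lit 0) (nat_lit 131) (Steps.fwd (nat_lit 16384) (Steps.bwd (nat_lit 6) (Steps.fwd (nat_lit 32768) (Steps.bwd (nat_lit 5) (Steps.bwd (nat_lit 1) (Steps.fwd (nat_lit 40960) (Steps.bwd (nat_lit 3) (Steps.bwd (nat_lit 5) Steps.nil)))))))) (nat_lit 36) (nat_lit 0),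
  Rule.mk (nat_lit 0) (nat_lit 161) (Steps.fwd (nat_lit 24576) (Steps.bwd (nat_lit 5) (Steps.fwd (nat_lit 24576) (Steps.bwd (nat_lit 5) (Steps.bwd (nat_lit 4) (Steps.bwd (nat_lit 5) (Steps.bwd (nat_lit 4) (Steps.bwd (nat_lit 5) (Steps.bwd (nat_lit 4) (Steps.fwd (nat_lit 49152) Steps.nil)))))))))) (nat_lit 50) (nat_lit 0),
  Rule.mk (nat_lit 2) (nat_lit 86) (Steps.fwd (nat_lit 32768) (Steps.bwd (nat_lit 6) (Steps.fwd (nat_lit 32768) (Steps.fwd (nat_lit 49152) (Steps.bwd (nat_lit 4) Steps.nil))))) (nat_lit 27) (nat_lit 4),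
  Rule.mk (nat_lit 4) (nat_lit 146) (Steps.bwd (nat_lit 5) (Steps.bwd (nat_lit 4) (Steps.bwd (nat_lit 5) (Steps.bwd (nat_lit 4) (Steps.bwd (nat_lit 5) (Steps.bwd (nat_lit 4) (Steps.fwd (nat_lit 49152) (Steps.bwd (nat_lit 4) (Steps.bwd (nat_lit 5) Steps.nil))))))))) (nat_lit 50) (nat_lit 1),
  Rule.mk (nat_lit 0) (nat_lit 161) (Steps.bwd (nat_lit 6) (Steps.bwd (nat_lit 3) (Steps.bwd (nat_lit 6) (Steps.fwd (nat_lit 32768) (Steps.bwd (nat_lit 6) (Steps.fwd (nat_lit 32768) (Steps.fwd (nat_lit 40960) (Steps.bwd (nat_lit 3) (Steps.bwd (nat_lit 6) (Steps.bwd (nat_lit 3) Steps.nil)))))))))) (nat_lit 51) (nat_lit 0),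
  Rule.mk (nat_lit 1) (nat_lit 116) (Steps.bwd (nat_lit 6) (Steps.fwd (nat_lit 32768) (Steps.fwd (nat_lit 49152) (Steps.bwd (nat_lit 1) (Steps.bwd (nat_lit 6) (Steps.fwd (nat_lit 32768) (Steps.fwd (nat_lit 49152) Steps.nil))))))) (nat_lit 36) (nat_lit 1),
  Rule.mk (nat_lit 0) (nat_lit 131) (Steps.bwd (nat_lit 6) (Steps.bwd (nat_lit 3) (Steps.fwd (nat_lit 49152) (Steps.fwd (nat_lit 16384) (Steps.bwd (nat_lit 6) (Steps.bwd (nat_lit 3) (Steps.bwd (nat_lit 5) (Steps.bwd (nat_lit 1) Steps.nil)))))))) (nat_lit 36) (nat_lit 1),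
  Rule.mk (nat_lit 6) (nat_lit 86) (Steps.bwd (nat_lit 3) (Steps.fwd (nat_lit 49152) (Steps.bwd (nat_lit 4) (Steps.bwd (nat_lit 2) (Steps.bwd (nat_lit 3) Steps.nil))))) (nat_lit 27) (nat_lit 0),
  Rule.mk (nat_lit 5) (nat_lit 116) (Steps.bwd (nat_lit 1) (Steps.bwd (nat_lit 6) (Steps.bwd (nat_lit 3) (Steps.bwd (nat_lit 5) (Steps.fwd (nat_lit 16384) (Steps.bwd (nat_lit 6) (Steps.bwd (nat_lit 3) Steps.nil))))))) (nat_lit 36) (nat_lit 0),
  Rule.mk (nat_lit 6) (nat_lit 116) (Steps.bwd (nat_lit 3) (Steps.bwd (nat_lit 5) (Steps.bwd (nat_lit 1) (Steps.fwd (nat_lit 40960) (Steps.bwd (nat_lit 3) (Steps.fwd (nat_lit 49152) (Steps.bwd (nat_lit 1) Steps.nil))))))) (nat_lit 36) (nat_lit 2),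
  Rule.mk (nat_lit 5) (nat_lit 146) (Steps.bwd (nat_lit 4) (Steps.bwd (nat_lit 5) (Steps.fwd (nat_lit 24576) (Steps.fwd (nat_lit 49152) (Steps.fwd (nat_lit 24576) (Steps.bwd (nat_lit 5) (Steps.fwd (nat_lit 24576) (Steps.bwd (nat_lit 5) (Steps.bwd (nat_lit 4) Steps.nil))))))))) (nat_lit 50) (nat_lit 0),
  Rule.mk (nat_lit 5) (nat_lit 146) (Steps.bwd (nat_lit 4) (Steps.bwd (nat_lit 5) (Steps.fwd (nat_lit 24576) (Steps.fwd (nat_lit 49152) (Steps.bwd (nat_lit 4) (Steps.bwd (nat_lit 5) (Steps.bwd (nat_lit 4) (Steps.bwd (nat_lit 5) (Steps.fwd (nat_lit 24576) Steps.nil))))))))) (nat_lit 50) (nat_lit 0),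
  Rule.mk (nat_lit 0) (nat_lit 101) (Steps.fwd (nat_lit 32768) (Steps.fwd (nat_lit 40960) (Steps.bwd (nat_lit 3) (Steps.bwd (nat_lit 5) (Steps.bwd (nat_lit 4) (Steps.bwd (nat_lit 2) Steps.nil)))))) (nat_lit 27) (nat_lit 4),
  Rule.mk (nat_lit 2) (nat_lit 116) (Steps.bwd (nat_lit 6) (Steps.bwd (nat_lit 4) (Steps.fwd (nat_lit 49152) (Steps.fwd (nat_lit 8192) (Steps.fwd (nat_lit 40960) (Steps.fwd (nat_lit 24576) (Steps.bwd (nat_lit 5) Steps.nil))))))) (nat_lit 37) (nat_lit 0),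
  Rule.mk (nat_lit 6) (nat_lit 116) (Steps.fwd (nat_lit 24576) (Steps.bwd (nat_lit 5) (Steps.fwd (nat_lit 8192) (Steps.bwd (nat_lit 6) (Steps.fwd (nat_lit 24576) (Steps.bwd (nat_lit 5) (Steps.fwd (nat_lit 8192) Steps.nil))))))) (nat_lit 37) (nat_lit 1),
  Rule.mk (nat_lit 3) (nat_lit 86) (Steps.bwd (nat_lit 5) (Steps.fwd (nat_lit 24576) (Steps.fwd (nat_lit 8192) (Steps.bwd (nat_lit 3) (Steps.bwd (nat_lit 6) Steps.nil))))) (nat_lit 27) (nat_lit 1),
  Rule.mk (nat_lit 6) (nat_lit 146) (Steps.bwd (nat_lit 3) (Steps.bwd (nat_lit 6) (Steps.bwd (nat_lit 3) (Steps.bwd (nat_lit 6) (Steps.fwd (nat_lit 32768) (Steps.fwd (nat_lit 40960) (Steps.fwd (nat_lit 32768) (Steps.fwd (nat_lit 40960) (Steps.bwd (nat_lit 3) Steps.nil))))))))) (nat_lit 51) (nat_lit 1),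
  Rule.mk (nat_lit 5) (nat_lit 146) (Steps.bwd (nat_lit 4) (Steps.fwd (nat_lit 49152) (Steps.bwd (nat_lit 4) (Steps.bwd (nat_lit 5) (Steps.fwd (nat_lit 24576) (Steps.fwd (nat_lit 49152) (Steps.fwd (nat_lit 24576) (Steps.fwd (nat_lit 49152) (Steps.bwd (nat_lit 4) Steps.nil))))))))) (nat_lit 50) (nat_lit 0),
  Rule.mk (nat_lit 3) (nat_lit 86) (Steps.fwd (nat_lit 40960) (Steps.fwd (nat_lit 32768) (Steps.bwd (nat_lit 5) (Steps.bwd (nat_lit 4) (Steps.fwd (nat_lit 8192) Steps.nil))))) (nat_lit 27) (nat_lit 5),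
  Rule.mk (nat_lit 6) (nat_lit 146) (Steps.bwd (nat_lit 3) (Steps.bwd (nat_lit 6) (Steps.bwd (nat_lit 3) (Steps.bwd (nat_lit 6) (Steps.fwd (nat_lit 32768) (Steps.fwd (nat_lit 40960) (Steps.fwd (nat_lit 32768) (Steps.bwd (nat_lit 6) (Steps.bwd (nat_lit 3) Steps.nil))))))))) (nat_lit 51) (nat_lit 1),
  Rule.mk (nat_lit 5) (nat_lit 146) (Steps.bwd (nat_lit 4) (Steps.bwd (nat_lit 5) (Steps.bwd (nat_lit 4) (Steps.fwd (nat_lit 49152) (Steps.fwd (nat_lit 24576) (Steps.bwd (nat_lit 5) (Steps.bwd (nat_lit 4) (Steps.fwd (nat_lit 49152) (Steps.bwd (nat_lit 4) Steps.nil))))))))) (nat_lit 50) (nat_lit 0),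
  Rule.mk (nat_lit 1) (nat_lit 116) (Steps.bwd (nat_lit 6) (Steps.bwd (nat_lit 3) (Steps.bwd (nat_lit 5) (Steps.fwd (nat_lit 16384) (Steps.fwd (nat_lit 40960) (Steps.fwd (nat_lit 32768) (Steps.bwd (nat_lit 5) Steps.nil))))))) (nat_lit 36) (nat_lit 1),
  Rule.mk (nat_lit 0) (nat_lit 131) (Steps.fwd (nat_lit 40960) (Steps.fwd (nat_lit 32768) (Steps.fwd (nat_lit 49152) (Steps.fwd (nat_lit 16384) (Steps.fwd (nat_lit 40960) (Steps.fwd (nat_lit 32768) (Steps.bwd (nat_lit 5) (Steps.fwd (nat_lit 16384) Steps.nil)))))))) (nat_lit 36) (nat_lit 1),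
  Rule.mk (nat_lit 0) (nat_lit 131) (Steps.fwd (nat_lit 40960) (Steps.fwd (nat_lit 32768) (Steps.bwd (nat_lit 5) (Steps.bwd (nat_lit 1) (Steps.fwd (nat_lit 40960) (Steps.fwd (nat_lit 32768) (Steps.bwd (nat_lit 5) (Steps.fwd (nat_lit 16384) Steps.nil)))))))) (nat_lit 36) (nat_lit 1),
  Rule.mk (nat_lit 2) (nat_lit 116) (Steps.fwd (nat_lit 40960) (Steps.bwd (nat_lit 4) (Steps.bwd (nat_lit 5) (Steps.fwd (nat_lit 8192) (Steps.fwd (nat_lit 40960) (Steps.bwd (nat_lit 4) (Steps.bwd (nat_lit 5) Steps.nil))))))) (nat_lit 37) (nat_lit 0),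
  Rule.mk (nat_lit 3) (nat_lit 86) (Steps.fwd (nat_lit 49152) (Steps.fwd (nat_lit 24576) (Steps.bwd (nat_lit 2) (Steps.bwd (nat_lit 3) (Steps.bwd (nat_lit 6) Steps.nil))))) (nat_lit 27) (nat_lit 1),
  Rule.mk (nat_lit 1) (nat_lit 116) (Steps.fwd (nat_lit 40960) (Steps.bwd (nat_lit 3) (Steps.bwd (nat_lit 5) (Steps.fwd (nat_lit 16384) (Steps.bwd (nat_lit 6) (Steps.bwd (nat_lit 3) (Steps.fwd (nat_lit 49152) Steps.nil))))))) (nat_lit 36) (nat_lit 1),
  Rule.mk (nat_lit 5) (nat_lit 86) (Steps.fwd (nat_lit 24576) (Steps.fwd (nat_lit 16384) (Steps.bwd (nat_lit 3) (Steps.bwd (nat_lit 6) (Steps.fwd (nat_lit 24576) Steps.nil))))) (nat_lit 26) (nat_lit 1),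
  Rule.mk (nat_lit 4) (nat_lit 146) (Steps.bwd (nat_lit 5) (Steps.fwd (nat_lit 24576) (Steps.fwd (nat_lit 49152) (Steps.fwd (nat_lit 24576) (Steps.fwd (nat_lit 49152) (Steps.fwd (nat_lit 24576) (Steps.bwd (nat_lit 5) (Steps.fwd (nat_lit 24576) (Steps.fwd (nat_lit 49152) Steps.nil))))))))) (nat_lit 50) (nat_lit 1),
  Rule.mk (nat_lit 5) (nat_lit 116) (Steps.fwd (nat_lit 8192) (Steps.bwd (nat_lit 6) (Steps.bwd (nat_lit 4) (Steps.bwd (nat_lit 5) (Steps.bwd (nat_lit 2) (Steps.bwd (nat_lit 6) (Steps.bwd (nat_lit 4) Steps.nil))))))) (nat_lit 37) (nat_lit 3),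
  Rule.mk (nat_lit 5) (nat_lit 146) (Steps.bwd (nat_lit 4) (Steps.fwd (nat_lit 49152) (Steps.bwd (nat_lit 4) (Steps.bwd (nat_lit 5) (Steps.fwd (nat_lit 24576) (Steps.bwd (nat_lit 5) (Steps.fwd (nat_lit 24576) (Steps.fwd (nat_lit 49152) (Steps.fwd (nat_lit 24576) Steps.nil))))))))) (nat_lit 50) (nat_lit 0)]
noncomputable def R_12 : List (Rule) := [Rule.mk (nat_lit 2) (nat_lit 116) (Steps.bwd (nat_lit 6) (Steps.fwd (nat_lit 24576) (Steps.bwd (nat_lit 5) (Steps.bwd (nat_lit 2) (Steps.fwd (nat_lit 40960) (Steps.bwd (nat_lit 4) (Steps.fwd (nat_lit 49152) Steps.nil))))))) (nat_lit 37) (nat_lit 0),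
  Rule.mk (nat_lit 4) (nat_lit 86) (Steps.fwd (nat_lit 49152) (Steps.fwd (nat_lit 24576) (Steps.fwd (nat_lit 16384) (Steps.fwd (nat_lit 32768) (Steps.bwd (nat_lit 6) Steps.nil))))) (nat_lit 26) (nat_lit 0),
  Rule.mk (nat_lit 5) (nat_lit 146) (Steps.fwd (nat_lit 24576) (Steps.fwd (nat_lit 49152) (Steps.bwd (nat_lit 4) (Steps.fwd (nat_lit 49152) (Steps.fwd (nat_lit 24576) (Steps.bwd (nat_lit 5) (Steps.bwd (nat_lit 4) (Steps.fwd (nat_lit 49152) (Steps.fwd (nat_lit 24576) Steps.nil))))))))) (nat_lit 50) (nat_lit 0),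
  Rule.mk (nat_lit 6) (nat_lit 146) (Steps.bwd (nat_lit 3) (Steps.fwd (nat_lit 40960) (Steps.fwd (nat_lit 32768) (Steps.fwd (nat_lit 40960) (Steps.fwd (nat_lit 32768) (Steps.fwd (nat_lit 40960) (Steps.fwd (nat_lit 32768) (Steps.fwd (nat_lit 40960) (Steps.bwd (nat_lit 3) Steps.nil))))))))) (nat_lit 51) (nat_lit 1),
  Rule.mk (nat_lit 2) (nat_lit 116) (Steps.fwd (nat_lit 40960) (Steps.fwd (nat_lit 24576) (Steps.fwd (nat_lit 49152) (Steps.bwd (nat_lit 2) (Steps.fwd (nat_lit 40960) (Steps.bwd (nat_lit 4) (Steps.bwd (nat_lit 5) Steps.nil))))))) (nat_lit 37) (nat_lit 0),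
  Rule.mk (nat_lit 0) (nat_lit 161) (Steps.bwd (nat_lit 4) (Steps.fwd (nat_lit 49152) (Steps.bwd (nat_lit 4) (Steps.bwd (nat_lit 5) (Steps.fwd (nat_lit 24576) (Steps.bwd (nat_lit 5) (Steps.bwd (nat_lit 4) (Steps.bwd (nat_lit 5) (Steps.bwd (nat_lit 4) (Steps.bwd (nat_lit 5) Steps.nil)))))))))) (nat_lit 50) (nat_lit 0),
  Rule.mk (nat_lit 6) (nat_lit 116) (Steps.bwd (nat_lit 4) (Steps.bwd (nat_lit 5) (Steps.fwd (nat_lit 8192) (Steps.bwd (nat_lit 6) (Steps.fwd (nat_lit 24576) (Steps.bwd (nat_lit 5) (Steps.fwd (nat_lit 8192) Steps.nil))))))) (nat_lit 37) (nat_lit 1),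
  Rule.mk (nat_lit 1) (nat_lit 116) (Steps.fwd (nat_lit 40960) (Steps.fwd (nat_lit 32768) (Steps.fwd (nat_lit 49152) (Steps.bwd (nat_lit 1) (Steps.bwd (nat_lit 6) (Steps.bwd (nat_lit 3) (Steps.fwd (nat_lit 49152) Steps.nil))))))) (nat_lit 36) (nat_lit 1),
  Rule.mk (nat_lit 0) (nat_lit 131) (Steps.bwd (nat_lit 6) (Steps.fwd (nat_lit 32768) (Steps.fwd (nat_lit 49152) (Steps.fwd (nat_lit 16384) (Steps.fwd (nat_lit 40960) (Steps.fwd (nat_lit 32768) (Steps.bwd (nat_lit 5) (Steps.fwd (nat_lit 16384) Steps.nil)))))))) (nat_lit 36) (nat_lit 1),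
  Rule.mk (nat_lit 2) (nat_lit 86) (Steps.fwd (nat_lit 32768) (Steps.bwd (nat_lit 6) (Steps.fwd (nat_lit 32768) (Steps.bwd (nat_lit 5) (Steps.fwd (nat_lit 24576) Steps.nil))))) (nat_lit 27) (nat_lit 4),
  Rule.mk (nat_lit 1) (nat_lit 116) (Steps.bwd (nat_lit 6) (Steps.bwd (nat_lit 3) (Steps.bwd (nat_lit 5) (Steps.fwd (nat_lit 16384) (Steps.bwd (nat_lit 6) (Steps.bwd (nat_lit 3) (Steps.fwd (nat_lit 49152) Steps.nil))))))) (nat_lit 36) (nat_lit 1),
  Rule.mk (nat_lit 2) (nat_lit 116) (Steps.bwd (nat_lit 6) (Steps.fwd (nat_lit 24576) (Steps.fwd (nat_lit 49152) (Steps.bwd (nat_lit 2) (Steps.bwd (nat_lit 6) (Steps.bwd (nat_lit 4) (Steps.fwd (nat_lit 49152) Steps.nil))))))) (nat_lit 37) (nat_lit 0),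
  Rule.mk (nat_lit 0) (nat_lit 131) (Steps.bwd (nat_lit 3) (Steps.fwd (nat_lit 49152) (Steps.bwd (nat_lit 1) (Steps.fwd (nat_lit 40960) (Steps.bwd (nat_lit 3) (Steps.fwd (nat_lit 49152) (Steps.bwd (nat_lit 1) (Steps.fwd (nat_lit 40960) Steps.nil)))))))) (nat_lit 36) (nat_lit 2),
  Rule.mk (nat_lit 4) (nat_lit 116) (Steps.bwd (nat_lit 5) (Steps.fwd (nat_lit 8192) (Steps.fwd (nat_lit 40960) (Steps.bwd (nat_lit 4) (Steps.fwd (nat_lit 49152) (Steps.fwd (nat_lit 8192) (Steps.fwd (nat_lit 40960) Steps.nil))))))) (nat_lit 37) (nat_lit 2),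
  Rule.mk (nat_lit 0) (nat_lit 131) (Steps.fwd (nat_lit 40960) (Steps.bwd (nat_lit 4) (Steps.fwd (nat_lit 49152) (Steps.fwd (nat_lit 8192) (Steps.fwd (nat_lit 40960) (Steps.bwd (nat_lit 4) (Steps.bwd (nat_lit 5) (Steps.bwd (nat_lit 2) Steps.nil)))))))) (nat_lit 37) (nat_lit 0),
  Rule.mk (nat_lit 2) (nat_lit 86) (Steps.fwd (nat_lit 32768) (Steps.bwd (nat_lit 6) (Steps.fwd (nat_lit 32768) (Steps.bwd (nat_lit 5) (Steps.bwd (nat_lit 4) Steps.nil))))) (nat_lit 27) (nat_lit 4),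
  Rule.mk (nat_lit 3) (nat_lit 146) (Steps.bwd (nat_lit 6) (Steps.bwd (nat_lit 3) (Steps.bwd (nat_lit 6) (Steps.fwd (nat_lit 32768) (Steps.fwd (nat_lit 40960) (Steps.fwd (nat_lit 32768) (Steps.bwd (nat_lit 6) (Steps.bwd (nat_lit 3) (Steps.fwd (nat_lit 40960) Steps.nil))))))))) (nat_lit 51) (nat_lit 0),
  Rule.mk (nat_lit 6) (nat_lit 146) (Steps.bwd (nat_lit 3) (Steps.bwd (nat_lit 6) (Steps.bwd (nat_lit 3) (Steps.fwd (nat_lit 40960) (Steps.bwd (nat_lit 3) (Steps.bwd (nat_lit 6) (Steps.fwd (nat_lit 32768) (Steps.bwd (nat_lit 6) (Steps.bwd (nat_lit 3) Steps.nil))))))))) (nat_lit 51) (nat_lit 1),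
  Rule.mk (nat_lit 4) (nat_lit 116) (Steps.bwd (nat_lit 5) (Steps.bwd (nat_lit 2) (Steps.fwd (nat_lit 40960) (Steps.fwd (nat_lit 24576) (Steps.fwd (nat_lit 49152) (Steps.fwd (nat_lit 8192) (Steps.bwd (nat_lit 6) Steps.nil))))))) (nat_lit 37) (nat_lit 2),
  Rule.mk (nat_lit 0) (nat_lit 101) (Steps.bwd (nat_lit 3) (Steps.bwd (nat_lit 6) (Steps.bwd (nat_lit 4) (Steps.bwd (nat_lit 5) (Steps.fwd (nat_lit 24576) (Steps.bwd (nat_lit 1) Steps.nil)))))) (nat_lit 26) (nat_lit 3),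
  Rule.mk (nat_lit 0) (nat_lit 131) (Steps.bwd (nat_lit 6) (Steps.bwd (nat_lit 3) (Steps.bwd (nat_lit 5) (Steps.bwd (nat_lit 1) (Steps.fwd (nat_lit 40960) (Steps.fwd (nat_lit 32768) (Steps.fwd (nat_lit 49152) (Steps.bwd (nat_lit 1) Steps.nil)))))))) (nat_lit 36) (nat_lit 1),
  Rule.mk (nat_lit 5) (nat_lit 116) (Steps.bwd (nat_lit 2) (Steps.fwd (nat_lit 40960) (Steps.fwd (nat_lit 24576) (Steps.bwd (nat_lit 5) (Steps.fwd (nat_lit 8192) (Steps.bwd (nat_lit 6) (Steps.fwd (nat_lit 24576) Steps.nil))))))) (nat_lit 37) (nat_lit 3),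
  Rule.mk (nat_lit 1) (nat_lit 41) (Steps.fwd (nat_lit 16384) (Steps.bwd (nat_lit 1) Steps.nil)) (nat_lit 6) (nat_lit 0),
  Rule.mk (nat_lit 1) (nat_lit 116) (Steps.bwd (nat_lit 6) (Steps.fwd (nat_lit 32768) (Steps.fwd (nat_lit 49152) (Steps.bwd (nat_lit 1) (Steps.fwd (nat_lit 40960) (Steps.fwd (nat_lit 32768) (Steps.bwd (nat_lit 5) Steps.nil))))))) (nat_lit 36) (nat_lit 1),
  Rule.mk (nat_lit 6) (nat_lit 116) (Steps.bwd (nat_lit 4) (Steps.bwd (nat_lit 5) (Steps.fwd (nat_lit 8192) (Steps.fwd (nat_lit 40960) (Steps.bwd (nat_lit 4) (Steps.fwd (nat_lit 49152) (Steps.bwd (nat_lit 2) Steps.nil))))))) (nat_lit 37) (nat_lit 1),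
  Rule.mk (nat_lit 5) (nat_lit 146) (Steps.bwd (nat_lit 4) (Steps.bwd (nat_lit 5) (Steps.fwd (nat_lit 24576) (Steps.fwd (nat_lit 49152) (Steps.bwd (nat_lit 4) (Steps.fwd (nat_lit 49152) (Steps.fwd (nat_lit 24576) (Steps.bwd (nat_lit 5) (Steps.bwd (nat_lit 4) Steps.nil))))))))) (nat_lit 50) (nat_lit 0),
  Rule.mk (nat_lit 0) (nat_lit 101) (Steps.fwd (nat_lit 32768) (Steps.fwd (nat_lit 40960) (Steps.fwd (nat_lit 32768) (Steps.bwd (nat_lit 5) (Steps.fwd (nat_lit 24576) (Steps.bwd (nat_lit 2) Steps.nil)))))) (nat_lit 27) (nat_lit 4),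
  Rule.mk (nat_lit 6) (nat_lit 116) (Steps.bwd (nat_lit 3) (Steps.bwd (nat_lit 5) (Steps.fwd (nat_lit 16384) (Steps.bwd (nat_lit 6) (Steps.bwd (nat_lit 3) (Steps.fwd (nat_lit 49152) (Steps.bwd (nat_lit 1) Steps.nil))))))) (nat_lit 36) (nat_lit 2),
  Rule.mk (nat_lit 5) (nat_lit 146) (Steps.bwd (nat_lit 4) (Steps.bwd (nat_lit 5) (Steps.bwd (nat_lit 4) (Steps.bwd (nat_lit 5) (Steps.fwd (nat_lit 24576) (Steps.fwd (nat_lit 49152) (Steps.fwd (nat_lit 24576) (Steps.fwd (nat_lit 49152) (Steps.bwd (nat_lit 4) Steps.nil))))))))) (nat_lit 50) (nat_lit 0),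
  Rule.mk (nat_lit 6) (nat_lit 116) (Steps.fwd (nat_lit 24576) (Steps.bwd (nat_lit 5) (Steps.fwd (nat_lit 8192) (Steps.bwd (nat_lit 6) (Steps.bwd (nat_lit 4) (Steps.fwd (nat_lit 49152) (Steps.bwd (nat_lit 2) Steps.nil))))))) (nat_lit 37) (nat_lit 1),
  Rule.mk (nat_lit 5) (nat_lit 116) (Steps.bwd (nat_lit 1) (Steps.bwd (nat_lit 6) (Steps.fwd (nat_lit 32768) (Steps.bwd (nat_lit 5) (Steps.bwd (nat_lit 1) (Steps.bwd (nat_lit 6) (Steps.bwd (nat_lit 3) Steps.nil))))))) (nat_lit 36) (nat_lit 0),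
  Rule.mk (nat_lit 2) (nat_lit 116) (Steps.bwd (nat_lit 6) (Steps.bwd (nat_lit 4) (Steps.fwd (nat_lit 49152) (Steps.bwd (nat_lit 2) (Steps.bwd (nat_lit 6) (Steps.fwd (nat_lit 24576) (Steps.fwd (nat_lit 49152) Steps.nil))))))) (nat_lit 37) (nat_lit 0),
  Rule.mk (nat_lit 1) (nat_lit 86) (Steps.bwd (nat_lit 3) (Steps.bwd (nat_lit 6) (Steps.bwd (nat_lit 4) (Steps.fwd (nat_lit 49152) (Steps.bwd (nat_lit 4) Steps.nil))))) (nat_lit 26) (nat_lit 3),
  Rule.mk (nat_lit 3) (nat_lit 146) (Steps.bwd (nat_lit 6) (Steps.bwd (nat_lit 3) (Steps.bwd (nat_lit 6) (Steps.fwd (nat_lit 32768) (Steps.fwd (nat_lit 40960) (Steps.fwd (nat_lit 32768) (Steps.fwd (nat_lit 40960) (Steps.bwd (nat_lit 3) (Steps.bwd (nat_lit 6) Steps.nil))))))))) (nat_lit 51) (nat_lit 0),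
  Rule.mk (nat_lit 2) (nat_lit 116) (Steps.bwd (nat_lit 6) (Steps.fwd (nat_lit 24576) (Steps.bwd (nat_lit 5) (Steps.fwd (nat_lit 8192) (Steps.fwd (nat_lit 40960) (Steps.bwd (nat_lit 4) (Steps.bwd (nat_lit 5) Steps.nil))))))) (nat_lit 37) (nat_lit 0),
  Rule.mk (nat_lit 4) (nat_lit 116) (Steps.fwd (nat_lit 49152) (Steps.bwd (nat_lit 2) (Steps.fwd (nat_lit 40960) (Steps.bwd (nat_lit 4) (Steps.bwd (nat_lit 5) (Steps.bwd (nat_lit 2) (Steps.fwd (nat_lit 40960) Steps.nil))))))) (nat_lit 37) (nat_lit 2),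
  Rule.mk (nat_lit 1) (nat_lit 86) (Steps.fwd (nat_lit 32768) (Steps.fwd (nat_lit 40960) (Steps.bwd (nat_lit 4) (Steps.fwd (nat_lit 49152) (Steps.fwd (nat_lit 24576) Steps.nil))))) (nat_lit 26) (nat_lit 3),
  Rule.mk (nat_lit 0) (nat_lit 161) (Steps.fwd (nat_lit 49152) (Steps.bwd (nat_lit 4) (Steps.bwd (nat_lit 5) (Steps.bwd (nat_lit 4) (Steps.fwd (nat_lit 49152) (Steps.fwd (nat_lit 24576) (Steps.fwd (nat_lit 49152) (Steps.fwd (nat_lit 24576) (Steps.fwd (nat_lit 49152) (Steps.bwd (nat_lit 4) Steps.nil)))))))))) (nat_lit 50) (nat_lit 1),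
  Rule.mk (nat_lit 6) (nat_lit 86) (Steps.fwd (nat_lit 24576) (Steps.fwd (nat_lit 49152) (Steps.bwd (nat_lit 4) (Steps.fwd (nat_lit 16384) (Steps.fwd (nat_lit 32768) Steps.nil))))) (nat_lit 26) (nat_lit 5),
  Rule.mk (nat_lit 5) (nat_lit 146) (Steps.bwd (nat_lit 4) (Steps.bwd (nat_lit 5) (Steps.bwd (nat_lit 4) (Steps.fwd (nat_lit 49152) (Steps.fwd (nat_lit 24576) (Steps.fwd (nat_lit 49152) (Steps.fwd (nat_lit 24576) (Steps.bwd (nat_lit 5) (Steps.bwd (nat_lit 4) Steps.nil))))))))) (nat_lit 50) (nat_lit 0),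
  Rule.mk (nat_lit 1) (nat_lit 116) (Steps.fwd (nat_lit 40960) (Steps.fwd (nat_lit 32768) (Steps.fwd (nat_lit 49152) (Steps.bwd (nat_lit 1) (Steps.fwd (nat_lit 40960) (Steps.fwd (nat_lit 32768) (Steps.bwd (nat_lit 5) Steps.nil))))))) (nat_lit 36) (nat_lit 1),
  Rule.mk (nat_lit 5) (nat_lit 116) (Steps.bwd (nat_lit 2) (Steps.bwd (nat_lit 6) (Steps.fwd (nat_lit 24576) (Steps.bwd (nat_lit 5) (Steps.fwd (nat_lit 8192) (Steps.bwd (nat_lit 6) (Steps.bwd (nat_lit 4) Steps.nil))))))) (nat_lit 37) (nat_lit 3),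
  Rule.mk (nat_lit 4) (nat_lit 146) (Steps.bwd (nat_lit 5) (Steps.fwd (nat_lit 24576) (Steps.fwd (nat_lit 49152) (Steps.fwd (nat_lit 24576) (Steps.fwd (nat_lit 49152) (Steps.bwd (nat_lit 4) (Steps.bwd (nat_lit 5) (Steps.bwd (nat_lit 4) (Steps.bwd (nat_lit 5) Steps.nil))))))))) (nat_lit 50) (nat_lit 1),
  Rule.mk (nat_lit 4) (nat_lit 86) (Steps.bwd (nat_lit 1) (Steps.fwd (nat_lit 32768) (Steps.fwd (nat_lit 40960) (Steps.fwd (nat_lit 24576) (Steps.fwd (nat_lit 49152) Steps.nil))))) (nat_lit 26) (nat_lit 2),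
  Rule.mk (nat_lit 5) (nat_lit 116) (Steps.fwd (nat_lit 8192) (Steps.fwd (nat_lit 40960) (Steps.bwd (nat_lit 4) (Steps.bwd (nat_lit 5) (Steps.fwd (nat_lit 8192) (Steps.fwd (nat_lit 40960) (Steps.bwd (nat_lit 4) Steps.nil))))))) (nat_lit 37) (nat_lit 3),
  Rule.mk (nat_lit 6) (nat_lit 116) (Steps.bwd (nat_lit 3) (Steps.bwd (nat_lit 5) (Steps.bwd (nat_lit 1) (Steps.bwd (nat_lit 6) (Steps.fwd (nat_lit 32768) (Steps.bwd (nat_lit 5) (Steps.fwd (nat_lit 16384) Steps.nil))))))) (nat_lit 36) (nat_lit 2),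
  Rule.mk (nat_lit 0) (nat_lit 101) (Steps.fwd (nat_lit 8192) (Steps.bwd (nat_lit 3) (Steps.fwd (nat_lit 40960) (Steps.bwd (nat_lit 3) (Steps.fwd (nat_lit 49152) (Steps.bwd (nat_lit 4) Steps.nil)))))) (nat_lit 27) (nat_lit 3),
  Rule.mk (nat_lit 5) (nat_lit 116) (Steps.bwd (nat_lit 2) (Steps.bwd (nat_lit 6) (Steps.bwd (nat_lit 4) (Steps.fwd (nat_lit 49152) (Steps.bwd (nat_lit 2) (Steps.fwd (nat_lit 40960) (Steps.bwd (nat_lit 4) Steps.nil))))))) (nat_lit 37) (nat_lit 3),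
  Rule.mk (nat_lit 6) (nat_lit 116) (Steps.bwd (nat_lit 4) (Steps.bwd (nat_lit 5) (Steps.bwd (nat_lit 2) (Steps.fwd (nat_lit 40960) (Steps.fwd (nat_lit 24576) (Steps.bwd (nat_lit 5) (Steps.fwd (nat_lit 8192) Steps.nil))))))) (nat_lit 37) (nat_lit 1),
  Rule.mk (nat_lit 0) (nat_lit 101) (Steps.fwd (nat_lit 32768) (Steps.bwd (nat_lit 6) (Steps.bwd (nat_lit 4) (Steps.bwd (nat_lit 5) (Steps.bwd (nat_lit 4) (Steps.fwd (nat_lit 16384) Steps.nil)))))) (nat_lit 26) (nat_lit 3),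
  Rule.mk (nat_lit 5) (nat_lit 116) (Steps.bwd (nat_lit 1) (Steps.fwd (nat_lit 40960) (Steps.bwd (nat_lit 3) (Steps.bwd (nat_lit 5) (Steps.bwd (nat_lit 1) (Steps.bwd (nat_lit 6) (Steps.bwd (nat_lit 3) Steps.nil))))))) (nat_lit 36) (nat_lit 0),
  Rule.mk (nat_lit 1) (nat_lit 116) (Steps.bwd (nat_lit 6) (Steps.bwd (nat_lit 3) (Steps.bwd (nat_lit 5) (Steps.bwd (nat_lit 1) (Steps.fwd (nat_lit 40960) (Steps.fwd (nat_lit 32768) (Steps.bwd (nat_lit 5) Steps.nil))))))) (nat_lit 36) (nat_lit 1),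
  Rule.mk (nat_lit 1) (nat_lit 116) (Steps.bwd (nat_lit 6) (Steps.fwd (nat_lit 32768) (Steps.bwd (nat_lit 5) (Steps.fwd (nat_lit 16384) (Steps.bwd (nat_lit 6) (Steps.bwd (nat_lit 3) (Steps.fwd (nat_lit 49152) Steps.nil))))))) (nat_lit 36) (nat_lit 1),
  Rule.mk (nat_lit 4) (nat_lit 86) (Steps.bwd (nat_lit 5) (Steps.fwd (nat_lit 24576) (Steps.fwd (nat_lit 16384) (Steps.bwd (nat_lit 3) (Steps.fwd (nat_lit 40960) Steps.nil))))) (nat_lit 26) (nat_lit 0),
  Rule.mk (nat_lit 3) (nat_lit 146) (Steps.fwd (nat_lit 40960) (Steps.fwd (nat_lit 32768) (Steps.fwd (nat_lit 40960) (Steps.fwd (nat_lit 32768) (Steps.fwd (nat_lit 40960) (Steps.bwd (nat_lit 3) (Steps.fwd (nat_lit 40960) (Steps.fwd (nat_lit 32768) (Steps.bwd (nat_lit 6) Steps.nil))))))))) (nat_lit 51) (nat_lit 0),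
  Rule.mk (nat_lit 3) (nat_lit 146) (Steps.bwd (nat_lit 6) (Steps.bwd (nat_lit 3) (Steps.fwd (nat_lit 40960) (Steps.bwd (nat_lit 3) (Steps.fwd (nat_lit 40960) (Steps.fwd (nat_lit 32768) (Steps.bwd (nat_lit 6) (Steps.fwd (nat_lit 32768) (Steps.bwd (nat_lit 6) Steps.nil))))))))) (nat_lit 51) (nat_lit 0),
  Rule.mk (nat_lit 5) (nat_lit 116) (Steps.bwd (nat_lit 1) (Steps.bwd (nat_lit 6) (Steps.bwd (nat_lit 3) (Steps.bwd (nat_lit 5) (Steps.bwd (nat_lit 1) (Steps.bwd (nat_lit 6) (Steps.bwd (nat_lit 3) Steps.nil))))))) (nat_lit 36) (nat_lit 0),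
  Rule.mk (nat_lit 5) (nat_lit 116) (Steps.bwd (nat_lit 2) (Steps.bwd (nat_lit 6) (Steps.fwd (nat_lit 24576) (Steps.fwd (nat_lit 49152) (Steps.fwd (nat_lit 8192) (Steps.fwd (nat_lit 40960) (Steps.fwd (nat_lit 24576) Steps.nil))))))) (nat_lit 37) (nat_lit 3),
  Rule.mk (nat_lit 4) (nat_lit 86) (Steps.fwd (nat_lit 16384) (Steps.bwd (nat_lit 3) (Steps.fwd (nat_lit 40960) (Steps.fwd (nat_lit 24576) (Steps.bwd (nat_lit 5) Steps.nil))))) (nat_lit 26) (nat_lit 2),
  Rule.mk (nat_lit 5) (nat_lit 116) (Steps.bwd (nat_lit 2) (Steps.bwd (nat_lit 6) (Steps.bwd (nat_lit 4) (Steps.bwd (nat_lit 5) (Steps.bwd (nat_lit 2) (Steps.bwd (nat_lit 6) (Steps.bwd (nat_lit 4) Steps.nil))))))) (nat_lit 37) (nat_lit 3),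
  Rule.mk (nat_lit 1) (nat_lit 116) (Steps.bwd (nat_lit 6) (Steps.fwd (nat_lit 32768) (Steps.fwd (nat_lit 49152) (Steps.fwd (nat_lit 16384) (Steps.fwd (nat_lit 40960) (Steps.fwd (nat_lit 32768) (Steps.bwd (nat_lit 5) Steps.nil))))))) (nat_lit 36) (nat_lit 1),
  Rule.mk (nat_lit 6) (nat_lit 116) (Steps.fwd (nat_lit 32768) (Steps.fwd (nat_lit 49152) (Steps.fwd (nat_lit 16384) (Steps.bwd (nat_lit 6) (Steps.fwd (nat_lit 32768) (Steps.fwd (nat_lit 49152) (Steps.bwd (nat_lit 1) Steps.nil))))))) (nat_lit 36) (nat_lit 2),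
  Rule.mk (nat_lit 2) (nat_lit 86) (Steps.bwd (nat_lit 3) (Steps.bwd (nat_lit 6) (Steps.fwd (nat_lit 32768) (Steps.fwd (nat_lit 49152) (Steps.bwd (nat_lit 4) Steps.nil))))) (nat_lit 27) (nat_lit 4),
  Rule.mk (nat_lit 5) (nat_lit 116) (Steps.bwd (nat_lit 1) (Steps.bwd (nat_lit 6) (Steps.fwd (nat_lit 32768) (Steps.bwd (nat_lit 5) (Steps.fwd (nat_lit 16384) (Steps.fwd (nat_lit 40960) (Steps.bwd (nat_lit 3) Steps.nil))))))) (nat_lit 36) (nat_lit 0)]
noncomputable def R_13 : List (Rule) := [Rule.mk (nat_lit 6) (nat_lit 86) (Steps.bwd (nat_lit 3) (Steps.fwd (nat_lit 49152) (Steps.fwd (nat_lit 24576) (Steps.fwd (nat_lit 8192) (Steps.bwd (nat_lit 3) Steps.nil))))) (nat_lit 27) (nat_lit 0),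
  Rule.mk (nat_lit 6) (nat_lit 146) (Steps.fwd (nat_lit 32768) (Steps.fwd (nat_lit 40960) (Steps.bwd (nat_lit 3) (Steps.bwd (nat_lit 6) (Steps.bwd (nat_lit 3) (Steps.bwd (nat_lit 6) (Steps.bwd (nat_lit 3) (Steps.bwd (nat_lit 6) (Steps.bwd (nat_lit 3) Steps.nil))))))))) (nat_lit 51) (nat_lit 1),
  Rule.mk (nat_lit 0) (nat_lit 161) (Steps.bwd (nat_lit 6) (Steps.fwd (nat_lit 32768) (Steps.fwd (nat_lit 40960) (Steps.fwd (nat_lit 32768) (Steps.fwd (nat_lit 40960) (Steps.fwd (nat_lit 32768) (Steps.fwd (nat_lit 40960) (Steps.fwd (nat_lit 32768) (Steps.bwd (nat_lit 6) (Steps.bwd (nat_lit 3) Steps.nil)))))))))) (nat_lit 51) (nat_lit 0),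
  Rule.mk (nat_lit 5) (nat_lit 146) (Steps.bwd (nat_lit 4) (Steps.bwd (nat_lit 5) (Steps.fwd (nat_lit 24576) (Steps.bwd (nat_lit 5) (Steps.bwd (nat_lit 4) (Steps.fwd (nat_lit 49152) (Steps.fwd (nat_lit 24576) (Steps.bwd (nat_lit 5) (Steps.bwd (nat_lit 4) Steps.nil))))))))) (nat_lit 50) (nat_lit 0),
  Rule.mk (nat_lit 3) (nat_lit 146) (Steps.bwd (nat_lit 6) (Steps.fwd (nat_lit 32768) (Steps.fwd (nat_lit 40960) (Steps.fwd (nat_lit 32768) (Steps.fwd (nat_lit 40960) (Steps.fwd (nat_lit 32768) (Steps.fwd (nat_lit 40960) (Steps.bwd (nat_lit 3) (Steps.bwd (nat_lit 6) Steps.nil))))))))) (nat_lit 51) (nat_lit 0),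
  Rule.mk (nat_lit 2) (nat_lit 116) (Steps.fwd (nat_lit 40960) (Steps.bwd (nat_lit 4) (Steps.fwd (nat_lit 49152) (Steps.bwd (nat_lit 2) (Steps.fwd (nat_lit 40960) (Steps.bwd (nat_lit 4) (Steps.fwd (nat_lit 49152) Steps.nil))))))) (nat_lit 37) (nat_lit 0),
  Rule.mk (nat_lit 6) (nat_lit 146) (Steps.bwd (nat_lit 3) (Steps.bwd (nat_lit 6) (Steps.bwd (nat_lit 3) (Steps.bwd (nat_lit 6) (Steps.bwd (nat_lit 3) (Steps.fwd (nat_lit 40960) (Steps.fwd (nat_lit 32768) (Steps.fwd (nat_lit 40960) (Steps.fwd (nat_lit 32768) Steps.nil))))))))) (nat_lit 51) (nat_lit 1),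
  Rule.mk (nat_lit 4) (nat_lit 116) (Steps.bwd (nat_lit 5) (Steps.bwd (nat_lit 2) (Steps.bwd (nat_lit 6) (Steps.fwd (nat_lit 24576) (Steps.bwd (nat_lit 5) (Steps.bwd (nat_lit 2) (Steps.bwd (nat_lit 6) Steps.nil))))))) (nat_lit 37) (nat_lit 2),
  Rule.mk (nat_lit 2) (nat_lit 86) (Steps.fwd (nat_lit 32768) (Steps.fwd (nat_lit 40960) (Steps.fwd (nat_lit 32768) (Steps.fwd (nat_lit 49152) (Steps.bwd (nat_lit 4) Steps.nil))))) (nat_lit 27) (nat_lit 4),
  Rule.mk (nat_lit 6) (nat_lit 116) (Steps.bwd (nat_lit 4) (Steps.bwd (nat_lit 5) (Steps.bwd (nat_lit 2) (Steps.bwd (nat_lit 6) (Steps.fwd (nat_lit 24576) (Steps.bwd (nat_lit 5) (Steps.fwd (nat_lit 8192) Steps.nil))))))) (nat_lit 37) (nat_lit 1),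
  Rule.mk (nat_lit 6) (nat_lit 146) (Steps.bwd (nat_lit 3) (Steps.bwd (nat_lit 6) (Steps.bwd (nat_lit 3) (Steps.bwd (nat_lit 6) (Steps.bwd (nat_lit 3) (Steps.bwd (nat_lit 6) (Steps.bwd (nat_lit 3) (Steps.fwd (nat_lit 40960) (Steps.fwd (nat_lit 32768) Steps.nil))))))))) (nat_lit 51) (nat_lit 1),
  Rule.mk (nat_lit 5) (nat_lit 86) (Steps.fwd (nat_lit 24576) (Steps.fwd (nat_lit 8192) (Steps.fwd (nat_lit 32768) (Steps.bwd (nat_lit 6) (Steps.bwd (nat_lit 3) Steps.nil))))) (nat_lit 27) (nat_lit 2),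
  Rule.mk (nat_lit 6) (nat_lit 86) (Steps.bwd (nat_lit 3) (Steps.fwd (nat_lit 49152) (Steps.bwd (nat_lit 4) (Steps.fwd (nat_lit 8192) (Steps.fwd (nat_lit 32768) Steps.nil))))) (nat_lit 27) (nat_lit 0),
  Rule.mk (nat_lit 2) (nat_lit 116) (Steps.bwd (nat_lit 6) (Steps.fwd (nat_lit 24576) (Steps.bwd (nat_lit 5) (Steps.fwd (nat_lit 8192) (Steps.fwd (nat_lit 40960) (Steps.bwd (nat_lit 4) (Steps.fwd (nat_lit 49152) Steps.nil))))))) (nat_lit 37) (nat_lit 0),
  Rule.mk (nat_lit 4) (nat_lit 116) (Steps.bwd (nat_lit 5) (Steps.bwd (nat_lit 2) (Steps.bwd (nat_lit 6) (Steps.fwd (nat_lit 24576) (Steps.bwd (nat_lit 5) (Steps.fwd (nat_lit 8192) (Steps.fwd (nat_lit 40960) Steps.nil))))))) (nat_lit 37) (nat_lit 2),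
  Rule.mk (nat_lit 6) (nat_lit 116) (Steps.bwd (nat_lit 3) (Steps.fwd (nat_lit 49152) (Steps.fwd (nat_lit 16384) (Steps.fwd (nat_lit 40960) (Steps.bwd (nat_lit 3) (Steps.fwd (nat_lit 49152) (Steps.bwd (nat_lit 1) Steps.nil))))))) (nat_lit 36) (nat_lit 2),
  Rule.mk (nat_lit 5) (nat_lit 146) (Steps.bwd (nat_lit 4) (Steps.bwd (nat_lit 5) (Steps.fwd (nat_lit 24576) (Steps.fwd (nat_lit 49152) (Steps.fwd (nat_lit 24576) (Steps.bwd (nat_lit 5) (Steps.fwd (nat_lit 24576) (Steps.fwd (nat_lit 49152) (Steps.fwd (nat_lit 24576) Steps.nil))))))))) (nat_lit 50) (nat_lit 0),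
  Rule.mk (nat_lit 2) (nat_lit 116) (Steps.fwd (nat_lit 40960) (Steps.bwd (nat_lit 4) (Steps.fwd (nat_lit 49152) (Steps.fwd (nat_lit 8192) (Steps.fwd (nat_lit 40960) (Steps.bwd (nat_lit 4) (Steps.bwd (nat_lit 5) Steps.nil))))))) (nat_lit 37) (nat_lit 0),
  Rule.mk (nat_lit 4) (nat_lit 116) (Steps.bwd (nat_lit 5) (Steps.bwd (nat_lit 2) (Steps.bwd (nat_lit 6) (Steps.bwd (nat_lit 4) (Steps.bwd (nat_lit 5) (Steps.fwd (nat_lit 8192) (Steps.fwd (nat_lit 40960) Steps.nil))))))) (nat_lit 37) (nat_lit 2),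
  Rule.mk (nat_lit 5) (nat_lit 116) (Steps.bwd (nat_lit 2) (Steps.fwd (nat_lit 40960) (Steps.fwd (nat_lit 24576) (Steps.fwd (nat_lit 49152) (Steps.bwd (nat_lit 2) (Steps.fwd (nat_lit 40960) (Steps.bwd (nat_lit 4) Steps.nil))))))) (nat_lit 37) (nat_lit 3),
  Rule.mk (nat_lit 1) (nat_lit 116) (Steps.bwd (nat_lit 6) (Steps.bwd (nat_lit 3) (Steps.fwd (nat_lit 49152) (Steps.fwd (nat_lit 16384) (Steps.bwd (nat_lit 6) (Steps.fwd (nat_lit 32768) (Steps.fwd (nat_lit 49152) Steps.nil))))))) (nat_lit 36) (nat_lit 1),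
  Rule.mk (nat_lit 6) (nat_lit 116) (Steps.bwd (nat_lit 3) (Steps.bwd (nat_lit 5) (Steps.bwd (nat_lit 1) (Steps.bwd (nat_lit 6) (Steps.bwd (nat_lit 3) (Steps.bwd (nat_lit 5) (Steps.bwd (nat_lit 1) Steps.nil))))))) (nat_lit 36) (nat_lit 2),
  Rule.mk (nat_lit 2) (nat_lit 116) (Steps.bwd (nat_lit 6) (Steps.bwd (nat_lit 4) (Steps.fwd (nat_lit 49152) (Steps.bwd (nat_lit 2) (Steps.bwd (nat_lit 6) (Steps.bwd (nat_lit 4) (Steps.bwd (nat_lit 5) Steps.nil))))))) (nat_lit 37) (nat_lit 0),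
  Rule.mk (nat_lit 1) (nat_lit 116) (Steps.fwd (nat_lit 40960) (Steps.bwd (nat_lit 3) (Steps.bwd (nat_lit 5) (Steps.bwd (nat_lit 1) (Steps.bwd (nat_lit 6) (Steps.fwd (nat_lit 32768) (Steps.bwd (nat_lit 5) Steps.nil))))))) (nat_lit 36) (nat_lit 1),
  Rule.mk (nat_lit 2) (nat_lit 116) (Steps.bwd (nat_lit 6) (Steps.fwd (nat_lit 24576) (Steps.fwd (nat_lit 49152) (Steps.bwd (nat_lit 2) (Steps.fwd (nat_lit 40960) (Steps.bwd (nat_lit 4) (Steps.bwd (nat_lit 5) Steps.nil))))))) (nat_lit 37) (nat_lit 0),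
  Rule.mk (nat_lit 4) (nat_lit 146) (Steps.bwd (nat_lit 5) (Steps.bwd (nat_lit 4) (Steps.bwd (nat_lit 5) (Steps.bwd (nat_lit 4) (Steps.fwd (nat_lit 49152) (Steps.bwd (nat_lit 4) (Steps.fwd (nat_lit 49152) (Steps.fwd (nat_lit 24576) (Steps.fwd (nat_lit 49152) Steps.nil))))))))) (nat_lit 50) (nat_lit 1),
  Rule.mk (nat_lit 4) (nat_lit 146) (Steps.bwd (nat_lit 5) (Steps.fwd (nat_lit 24576) (Steps.fwd (nat_lit 49152) (Steps.fwd (nat_lit 24576) (Steps.bwd (nat_lit 5) (Steps.fwd (nat_lit 24576) (Steps.fwd (nat_lit 49152) (Steps.bwd (nat_lit 4) (Steps.bwd (nat_lit 5) Steps.nil))))))))) (nat_lit 50) (nat_lit 1),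
  Rule.mk (nat_lit 6) (nat_lit 116) (Steps.bwd (nat_lit 3) (Steps.bwd (nat_lit 5) (Steps.bwd (nat_lit 1) (Steps.bwd (nat_lit 6) (Steps.fwd (nat_lit 32768) (Steps.fwd (nat_lit 49152) (Steps.bwd (nat_lit 1) Steps.nil))))))) (nat_lit 36) (nat_lit 2),
  Rule.mk (nat_lit 0) (nat_lit 101) (Steps.bwd (nat_lit 1) (Steps.bwd (nat_lit 3) (Steps.bwd (nat_lit 6) (Steps.fwd (nat_lit 24576) (Steps.fwd (nat_lit 49152) (Steps.bwd (nat_lit 4) Steps.nil)))))) (nat_lit 26) (nat_lit 2),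
  Rule.mk (nat_lit 5) (nat_lit 116) (Steps.fwd (nat_lit 8192) (Steps.bwd (nat_lit 6) (Steps.bwd (nat_lit 4) (Steps.bwd (nat_lit 5) (Steps.bwd (nat_lit 2) (Steps.fwd (nat_lit 40960) (Steps.bwd (nat_lit 4) Steps.nil))))))) (nat_lit 37) (nat_lit 3),
  Rule.mk (nat_lit 5) (nat_lit 116) (Steps.bwd (nat_lit 1) (Steps.fwd (nat_lit 40960) (Steps.fwd (nat_lit 32768) (Steps.fwd (nat_lit 49152) (Steps.bwd (nat_lit 1) (Steps.fwd (nat_lit 40960) (Steps.fwd (nat_lit 32768) Steps.nil))))))) (nat_lit 36) (nat_lit 0),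
  Rule.mk (nat_lit 0) (nat_lit 56) (Steps.bwd (nat_lit 4) (Steps.bwd (nat_lit 4) (Steps.fwd (nat_lit 24576) Steps.nil))) (nat_lit 9) (nat_lit 0),
  Rule.mk (nat_lit 0) (nat_lit 101) (Steps.bwd (nat_lit 4) (Steps.bwd (nat_lit 5) (Steps.fwd (nat_lit 24576) (Steps.bwd (nat_lit 1) (Steps.bwd (nat_lit 3) (Steps.bwd (nat_lit 6) Steps.nil)))))) (nat_lit 26) (nat_lit 5),
  Rule.mk (nat_lit 6) (nat_lit 146) (Steps.fwd (nat_lit 32768) (Steps.fwd (nat_lit 40960) (Steps.bwd (nat_lit 3) (Steps.fwd (nat_lit 40960) (Steps.bwd (nat_lit 3) (Steps.fwd (nat_lit 40960) (Steps.bwd (nat_lit 3) (Steps.bwd (nat_lit 6) (Steps.bwd (nat_lit 3) Steps.nil))))))))) (nat_lit 51) (nat_lit 1),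
  Rule.mk (nat_lit 0) (nat_lit 131) (Steps.bwd (nat_lit 6) (Steps.fwd (nat_lit 24576) (Steps.bwd (nat_lit 5) (Steps.bwd (nat_lit 2) (Steps.fwd (nat_lit 40960) (Steps.fwd (nat_lit 24576) (Steps.fwd (nat_lit 49152) (Steps.fwd (nat_lit 8192) Steps.nil)))))))) (nat_lit 37) (nat_lit 0),
  Rule.mk (nat_lit 6) (nat_lit 146) (Steps.bwd (nat_lit 3) (Steps.bwd (nat_lit 6) (Steps.fwd (nat_lit 32768) (Steps.bwd (nat_lit 6) (Steps.bwd (nat_lit 3) (Steps.bwd (nat_lit 6) (Steps.bwd (nat_lit 3) (Steps.bwd (nat_lit 6) (Steps.bwd (nat_lit 3) Steps.nil))))))))) (nat_lit 51) (nat_lit 1),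
  Rule.mk (nat_lit 0) (nat_lit 131) (Steps.bwd (nat_lit 2) (Steps.bwd (nat_lit 6) (Steps.bwd (nat_lit 4) (Steps.bwd (nat_lit 5) (Steps.fwd (nat_lit 8192) (Steps.fwd (nat_lit 40960) (Steps.bwd (nat_lit 4) (Steps.fwd (nat_lit 49152) Steps.nil)))))))) (nat_lit 37) (nat_lit 3),
  Rule.mk (nat_lit 0) (nat_lit 161) (Steps.fwd (nat_lit 49152) (Steps.fwd (nat_lit 24576) (Steps.bwd (nat_lit 5) (Steps.fwd (nat_lit 24576) (Steps.fwd (nat_lit 49152) (Steps.bwd (nat_lit 4) (Steps.bwd (nat_lit 5) (Steps.bwd (nat_lit 4) (Steps.fwd (nat_lit 49152) (Steps.fwd (nat_lit 24576) Steps.nil)))))))))) (nat_lit 50) (nat_lit 1),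
  Rule.mk (nat_lit 0) (nat_lit 131) (Steps.fwd (nat_lit 40960) (Steps.fwd (nat_lit 32768) (Steps.bwd (nat_lit 5) (Steps.bwd (nat_lit 1) (Steps.bwd (nat_lit 6) (Steps.bwd (nat_lit 3) (Steps.bwd (nat_lit 5) (Steps.bwd (nat_lit 1) Steps.nil)))))))) (nat_lit 36) (nat_lit 1),
  Rule.mk (nat_lit 6) (nat_lit 116) (Steps.bwd (nat_lit 4) (Steps.bwd (nat_lit 5) (Steps.fwd (nat_lit 8192) (Steps.fwd (nat_lit 40960) (Steps.fwd (nat_lit 24576) (Steps.fwd (nat_lit 49152) (Steps.bwd (nat_lit 2) Steps.nil))))))) (nat_lit 37) (nat_lit 1),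
  Rule.mk (nat_lit 0) (nat_lit 131) (Steps.bwd (nat_lit 2) (Steps.bwd (nat_lit 6) (Steps.fwd (nat_lit 24576) (Steps.bwd (nat_lit 5) (Steps.fwd (nat_lit 8192) (Steps.fwd (nat_lit 40960) (Steps.bwd (nat_lit 4) (Steps.fwd (nat_lit 49152) Steps.nil)))))))) (nat_lit 37) (nat_lit 3),
  Rule.mk (nat_lit 5) (nat_lit 116) (Steps.bwd (nat_lit 2) (Steps.fwd (nat_lit 40960) (Steps.fwd (nat_lit 24576) (Steps.fwd (nat_lit 49152) (Steps.bwd (nat_lit 2) (Steps.bwd (nat_lit 6) (Steps.bwd (nat_lit 4) Steps.nil))))))) (nat_lit 37) (nat_lit 3),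
  Rule.mk (nat_lit 1) (nat_lit 116) (Steps.bwd (nat_lit 6) (Steps.fwd (nat_lit 32768) (Steps.fwd (nat_lit 49152) (Steps.bwd (nat_lit 1) (Steps.bwd (nat_lit 6) (Steps.fwd (nat_lit 32768) (Steps.bwd (nat_lit 5) Steps.nil))))))) (nat_lit 36) (nat_lit 1),
  Rule.mk (nat_lit 5) (nat_lit 116) (Steps.bwd (nat_lit 2) (Steps.bwd (nat_lit 6) (Steps.bwd (nat_lit 4) (Steps.fwd (nat_lit 49152) (Steps.fwd (nat_lit 8192) (Steps.fwd (nat_lit 40960) (Steps.fwd (nat_lit 24576) Steps.nil))))))) (nat_lit 37) (nat_lit 3),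
  Rule.mk (nat_lit 6) (nat_lit 86) (Steps.bwd (nat_lit 4) (Steps.fwd (nat_lit 49152) (Steps.fwd (nat_lit 24576) (Steps.fwd (nat_lit 16384) (Steps.fwd (nat_lit 32768) Steps.nil))))) (nat_lit 26) (nat_lit 5),
  Rule.mk (nat_lit 4) (nat_lit 116) (Steps.bwd (nat_lit 5) (Steps.fwd (nat_lit 8192) (Steps.fwd (nat_lit 40960) (Steps.bwd (nat_lit 4) (Steps.bwd (nat_lit 5) (Steps.bwd (nat_lit 2) (Steps.bwd (nat_lit 6) Steps.nil))))))) (nat_lit 37) (nat_lit 2),
  Rule.mk (nat_lit 5) (nat_lit 146) (Steps.fwd (nat_lit 24576) (Steps.fwd (nat_lit 49152) (Steps.bwd (nat_lit 4) (Steps.bwd (nat_lit 5) (Steps.bwd (nat_lit 4) (Steps.bwd (nat_lit 5) (Steps.fwd (nat_lit 24576) (Steps.fwd (nat_lit 49152) (Steps.fwd (nat_lit 24576) Steps.nil))))))))) (nat_lit 50) (nat_lit 0),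
  Rule.mk (nat_lit 5) (nat_lit 116) (Steps.bwd (nat_lit 1) (Steps.fwd (nat_lit 40960) (Steps.fwd (nat_lit 32768) (Steps.fwd (nat_lit 49152) (Steps.fwd (nat_lit 16384) (Steps.fwd (nat_lit 40960) (Steps.bwd (nat_lit 3) Steps.nil))))))) (nat_lit 36) (nat_lit 0),
  Rule.mk (nat_lit 6) (nat_lit 116) (Steps.bwd (nat_lit 4) (Steps.bwd (nat_lit 5) (Steps.fwd (nat_lit 8192) (Steps.fwd (nat_lit 40960) (Steps.bwd (nat_lit 4) (Steps.fwd (nat_lit 49152) (Steps.fwd (nat_lit 8192) Steps.nil))))))) (nat_lit 37) (nat_lit 1),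
  Rule.mk (nat_lit 3) (nat_lit 116) (Steps.bwd (nat_lit 5) (Steps.bwd (nat_lit 1) (Steps.fwd (nat_lit 40960) (Steps.fwd (nat_lit 32768) (Steps.fwd (nat_lit 49152) (Steps.bwd (nat_lit 1) (Steps.bwd (nat_lit 6) Steps.nil))))))) (nat_lit 36) (nat_lit 3),
  Rule.mk (nat_lit 6) (nat_lit 116) (Steps.bwd (nat_lit 3) (Steps.fwd (nat_lit 49152) (Steps.fwd (nat_lit 16384) (Steps.fwd (nat_lit 40960) (Steps.bwd (nat_lit 3) (Steps.bwd (nat_lit 5) (Steps.bwd (nat_lit 1) Steps.nil))))))) (nat_lit 36) (nat_lit 2),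
  Rule.mk (nat_lit 6) (nat_lit 146) (Steps.bwd (nat_lit 3) (Steps.bwd (nat_lit 6) (Steps.fwd (nat_lit 32768) (Steps.bwd (nat_lit 6) (Steps.fwd (nat_lit 32768) (Steps.bwd (nat_lit 6) (Steps.bwd (nat_lit 3) (Steps.bwd (nat_lit 6) (Steps.bwd (nat_lit 3) Steps.nil))))))))) (nat_lit 51) (nat_lit 1),
  Rule.mk (nat_lit 2) (nat_lit 116) (Steps.bwd (nat_lit 6) (Steps.fwd (nat_lit 24576) (Steps.fwd (nat_lit 49152) (Steps.fwd (nat_lit 8192) (Steps.fwd (nat_lit 40960) (Steps.bwd (nat_lit 4) (Steps.fwd (nat_lit 49152) Steps.nil))))))) (nat_lit 37) (nat_lit 0),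
  Rule.mk (nat_lit 3) (nat_lit 146) (Steps.bwd (nat_lit 6) (Steps.fwd (nat_lit 32768) (Steps.fwd (nat_lit 40960) (Steps.fwd (nat_lit 32768) (Steps.fwd (nat_lit 40960) (Steps.bwd (nat_lit 3) (Steps.bwd (nat_lit 6) (Steps.bwd (nat_lit 3) (Steps.bwd (nat_lit 6) Steps.nil))))))))) (nat_lit 51) (nat_lit 0),
  Rule.mk (nat_lit 0) (nat_lit 161) (Steps.fwd (nat_lit 24576) (Steps.fwd (nat_lit 49152) (Steps.fwd (nat_lit 24576) (Steps.bwd (nat_lit 5) (Steps.fwd (nat_lit 24576) (Steps.fwd (nat_lit 49152) (Steps.fwd (nat_lit 24576) (Steps.bwd (nat_lit 5) (Steps.bwd (nat_lit 4) (Steps.bwd (nat_lit 5) Steps.nil)))))))))) (nat_lit 50) (nat_lit 0),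
  Rule.mk (nat_lit 5) (nat_lit 116) (Steps.bwd (nat_lit 1) (Steps.bwd (nat_lit 6) (Steps.bwd (nat_lit 3) (Steps.bwd (nat_lit 5) (Steps.bwd (nat_lit 1) (Steps.bwd (nat_lit 6) (Steps.fwd (nat_lit 32768) Steps.nil))))))) (nat_lit 36) (nat_lit 0),
  Rule.mk (nat_lit 0) (nat_lit 131) (Steps.bwd (nat_lit 6) (Steps.bwd (nat_lit 4) (Steps.fwd (nat_lit 49152) (Steps.bwd (nat_lit 2) (Steps.fwd (nat_lit 40960) (Steps.bwd (nat_lit 4) (Steps.bwd (nat_lit 5) (Steps.fwd (nat_lit 8192) Steps.nil)))))))) (nat_lit 37) (nat_lit 0),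
  Rule.mk (nat_lit 5) (nat_lit 86) (Steps.fwd (nat_lit 24576) (Steps.bwd (nat_lit 2) (Steps.bwd (nat_lit 3) (Steps.fwd (nat_lit 40960) (Steps.fwd (nat_lit 32768) Steps.nil))))) (nat_lit 27) (nat_lit 2),
  Rule.mk (nat_lit 0) (nat_lit 131) (Steps.fwd (nat_lit 40960) (Steps.bwd (nat_lit 3) (Steps.fwd (nat_lit 49152) (Steps.fwd (nat_lit 16384) (Steps.bwd (nat_lit 6) (Steps.bwd (nat_lit 3) (Steps.fwd (nat_lit 49152) (Steps.fwd (nat_lit 16384) Steps.nil)))))))) (nat_lit 36) (nat_lit 1),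
  Rule.mk (nat_lit 1) (nat_lit 116) (Steps.fwd (nat_lit 40960) (Steps.fwd (nat_lit 32768) (Steps.bwd (nat_lit 5) (Steps.bwd (nat_lit 1) (Steps.fwd (nat_lit 40960) (Steps.fwd (nat_lit 32768) (Steps.bwd (nat_lit 5) Steps.nil))))))) (nat_lit 36) (nat_lit 1),
  Rule.mk (nat_lit 3) (nat_lit 116) (Steps.bwd (nat_lit 5) (Steps.bwd (nat_lit 1) (Steps.fwd (nat_lit 40960) (Steps.fwd (nat_lit 32768) (Steps.bwd (nat_lit 5) (Steps.bwd (nat_lit 1) (Steps.fwd (nat_lit 40960) Steps.nil))))))) (nat_lit 36) (nat_lit 3),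
  Rule.mk (nat_lit 3) (nat_lit 116) (Steps.bwd (nat_lit 5) (Steps.bwd (nat_lit 1) (Steps.bwd (nat_lit 6) (Steps.bwd (nat_lit 3) (Steps.bwd (nat_lit 5) (Steps.fwd (nat_lit 16384) (Steps.bwd (nat_lit 6) Steps.nil))))))) (nat_lit 36) (nat_lit 3),
  Rule.mk (nat_lit 2) (nat_lit 116) (Steps.fwd (nat_lit 40960) (Steps.bwd (nat_lit 4) (Steps.fwd (nat_lit 49152) (Steps.bwd (nat_lit 2) (Steps.bwd (nat_lit 6) (Steps.fwd (nat_lit 24576) (Steps.bwd (nat_lit 5) Steps.nil))))))) (nat_lit 37) (nat_lit 0),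
  Rule.mk (nat_lit 3) (nat_lit 116) (Steps.bwd (nat_lit 5) (Steps.fwd (nat_lit 16384) (Steps.bwd (nat_lit 6) (Steps.fwd (nat_lit 32768) (Steps.fwd (nat_lit 49152) (Steps.bwd (nat_lit 1) (Steps.fwd (nat_lit 40960) Steps.nil))))))) (nat_lit 36) (nat_lit 3)]
noncomputable def R_14 : List (Rule) := [Rule.mk (nat_lit 0) (nat_lit 161) (Steps.bwd (nat_lit 5) (Steps.fwd (nat_lit 24576) (Steps.bwd (nat_lit 5) (Steps.fwd (nat_lit 24576) (Steps.bwd (nat_lit 5) (Steps.bwd (nat_lit 4) (Steps.bwd (nat_lit 5) (Steps.fwd (nat_lit 24576) (Steps.fwd (nat_lit 49152) (Steps.fwd (nat_lit 24576) Steps.nil)))))))))) (nat_lit 50) (nat_lit 1),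
  Rule.mk (nat_lit 0) (nat_lit 56) (Steps.fwd (nat_lit 8192) (Steps.bwd (nat_lit 0) (Steps.bwd (nat_lit 1) Steps.nil))) (nat_lit 56) (nat_lit 0),
  Rule.mk (nat_lit 0) (nat_lit 131) (Steps.bwd (nat_lit 2) (Steps.bwd (nat_lit 6) (Steps.bwd (nat_lit 4) (Steps.bwd (nat_lit 5) (Steps.fwd (nat_lit 8192) (Steps.fwd (nat_lit 40960) (Steps.bwd (nat_lit 4) (Steps.bwd (nat_lit 5) Steps.nil)))))))) (nat_lit 37) (nat_lit 3),
  Rule.mk (nat_lit 0) (nat_lit 161) (Steps.bwd (nat_lit 4) (Steps.bwd (nat_lit 5) (Steps.bwd (nat_lit 4) (Steps.bwd (nat_lit 5) (Steps.bwd (nat_lit 4) (Steps.bwd (nat_lit 5) (Steps.bwd (nat_lit 4) (Steps.bwd (nat_lit 5) (Steps.bwd (nat_lit 4) (Steps.fwd (nat_lit 49152) Steps.nil)))))))))) (nat_lit 50) (nat_lit 0),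
  Rule.mk (nat_lit 0) (nat_lit 56) (Steps.bwd (nat_lit 5) (Steps.bwd (nat_lit 0) (Steps.bwd (nat_lit 6) Steps.nil))) (nat_lit 56) (nat_lit 0),
  Rule.mk (nat_lit 6) (nat_lit 146) (Steps.bwd (nat_lit 3) (Steps.fwd (nat_lit 40960) (Steps.fwd (nat_lit 32768) (Steps.bwd (nat_lit 6) (Steps.fwd (nat_lit 32768) (Steps.bwd (nat_lit 6) (Steps.fwd (nat_lit 32768) (Steps.bwd (nat_lit 6) (Steps.fwd (nat_lit 32768) Steps.nil))))))))) (nat_lit 51) (nat_lit 1),
  Rule.mk (nat_lit 6) (nat_lit 116) (Steps.bwd (nat_lit 4) (Steps.fwd (nat_lit 49152) (Steps.bwd (nat_lit 2) (Steps.fwd (nat_lit 40960) (Steps.bwd (nat_lit 4) (Steps.fwd (nat_lit 49152) (Steps.bwd (nat_lit 2) Steps.nil))))))) (nat_lit 37) (nat_lit 1),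
  Rule.mk (nat_lit 0) (nat_lit 131) (Steps.bwd (nat_lit 6) (Steps.bwd (nat_lit 3) (Steps.bwd (nat_lit 5) (Steps.bwd (nat_lit 1) (Steps.bwd (nat_lit 6) (Steps.fwd (nat_lit 32768) (Steps.fwd (nat_lit 49152) (Steps.fwd (nat_lit 16384) Steps.nil)))))))) (nat_lit 36) (nat_lit 1),
  Rule.mk (nat_lit 0) (nat_lit 131) (Steps.fwd (nat_lit 16384) (Steps.bwd (nat_lit 6) (Steps.bwd (nat_lit 3) (Steps.bwd (nat_lit 5) (Steps.bwd (nat_lit 1) (Steps.fwd (nat_lit 40960) (Steps.bwd (nat_lit 3) (Steps.fwd (nat_lit 49152) Steps.nil)))))))) (nat_lit 36) (nat_lit 0),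
  Rule.mk (nat_lit 2) (nat_lit 116) (Steps.bwd (nat_lit 6) (Steps.bwd (nat_lit 4) (Steps.bwd (nat_lit 5) (Steps.bwd (nat_lit 2) (Steps.fwd (nat_lit 40960) (Steps.fwd (nat_lit 24576) (Steps.fwd (nat_lit 49152) Steps.nil))))))) (nat_lit 37) (nat_lit 0),
  Rule.mk (nat_lit 0) (nat_lit 161) (Steps.bwd (nat_lit 3) (Steps.fwd (nat_lit 40960) (Steps.fwd (nat_lit 32768) (Steps.bwd (nat_lit 6) (Steps.bwd (nat_lit 3) (Steps.bwd (nat_lit 6) (Steps.bwd (nat_lit 3) (Steps.bwd (nat_lit 6) (Steps.bwd (nat_lit 3) (Steps.bwd (nat_lit 6) Steps.nil)))))))))) (nat_lit 51) (nat_lit 1),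
  Rule.mk (nat_lit 6) (nat_lit 146) (Steps.fwd (nat_lit 32768) (Steps.bwd (nat_lit 6) (Steps.fwd (nat_lit 32768) (Steps.bwd (nat_lit 6) (Steps.fwd (nat_lit 32768) (Steps.fwd (nat_lit 40960) (Steps.fwd (nat_lit 32768) (Steps.fwd (nat_lit 40960) (Steps.fwd (nat_lit 32768) Steps.nil))))))))) (nat_lit 51) (nat_lit 1),
  Rule.mk (nat_lit 0) (nat_lit 131) (Steps.fwd (nat_lit 16384) (Steps.fwd (nat_lit 40960) (Steps.bwd (nat_lit 3) (Steps.bwd (nat_lit 5) (Steps.fwd (nat_lit 16384) (Steps.bwd (nat_lit 6) (Steps.bwd (nat_lit 3) (Steps.bwd (nat_lit 5) Steps.nil)))))))) (nat_lit 36) (nat_lit 0),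
  Rule.mk (nat_lit 0) (nat_lit 131) (Steps.bwd (nat_lit 2) (Steps.bwd (nat_lit 6) (Steps.fwd (nat_lit 24576) (Steps.bwd (nat_lit 5) (Steps.fwd (nat_lit 8192) (Steps.fwd (nat_lit 40960) (Steps.bwd (nat_lit 4) (Steps.bwd (nat_lit 5) Steps.nil)))))))) (nat_lit 37) (nat_lit 3),
  Rule.mk (nat_lit 5) (nat_lit 86) (Steps.fwd (nat_lit 24576) (Steps.bwd (nat_lit 1) (Steps.bwd (nat_lit 3) (Steps.bwd (nat_lit 6) (Steps.bwd (nat_lit 4) Steps.nil))))) (nat_lit 26) (nat_lit 1),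
  Rule.mk (nat_lit 5) (nat_lit 146) (Steps.fwd (nat_lit 24576) (Steps.fwd (nat_lit 49152) (Steps.bwd (nat_lit 4) (Steps.bwd (nat_lit 5) (Steps.fwd (nat_lit 24576) (Steps.bwd (nat_lit 5) (Steps.fwd (nat_lit 24576) (Steps.fwd (nat_lit 49152) (Steps.fwd (nat_lit 24576) Steps.nil))))))))) (nat_lit 50) (nat_lit 0),
  Rule.mk (nat_lit 0) (nat_lit 101) (Steps.bwd (nat_lit 3) (Steps.bwd (nat_lit 6) (Steps.fwd (nat_lit 24576) (Steps.fwd (nat_lit 49152) (Steps.fwd (nat_lit 24576) (Steps.fwd (nat_lit 16384) Steps.nil)))))) (nat_lit 26) (nat_lit 3),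
  Rule.mk (nat_lit 1) (nat_lit 116) (Steps.fwd (nat_lit 40960) (Steps.bwd (nat_lit 3) (Steps.bwd (nat_lit 5) (Steps.bwd (nat_lit 1) (Steps.fwd (nat_lit 40960) (Steps.fwd (nat_lit 32768) (Steps.fwd (nat_lit 49152) Steps.nil))))))) (nat_lit 36) (nat_lit 1),
  Rule.mk (nat_lit 4) (nat_lit 86) (Steps.fwd (nat_lit 49152) (Steps.bwd (nat_lit 4) (Steps.bwd (nat_lit 1) (Steps.fwd (nat_lit 32768) (Steps.fwd (nat_lit 40960) Steps.nil))))) (nat_lit 26) (nat_lit 0),
  Rule.mk (nat_lit 6) (nat_lit 146) (Steps.fwd (nat_lit 32768) (Steps.fwd (nat_lit 40960) (Steps.fwd (nat_lit 32768) (Steps.fwd (nat_lit 40960) (Steps.fwd (nat_lit 32768) (Steps.bwd (nat_lit 6) (Steps.fwd (nat_lit 32768) (Steps.bwd (nat_lit 6) (Steps.bwd (nat_lit 3) Steps.nil))))))))) (nat_lit 51) (nat_lit 1),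
  Rule.mk (nat_lit 0) (nat_lit 101) (Steps.bwd (nat_lit 5) (Steps.bwd (nat_lit 4) (Steps.bwd (nat_lit 1) (Steps.bwd (nat_lit 3) (Steps.bwd (nat_lit 6) (Steps.bwd (nat_lit 4) Steps.nil)))))) (nat_lit 26) (nat_lit 0),
  Rule.mk (nat_lit 2) (nat_lit 86) (Steps.fwd (nat_lit 32768) (Steps.fwd (nat_lit 40960) (Steps.bwd (nat_lit 3) (Steps.fwd (nat_lit 49152) (Steps.bwd (nat_lit 4) Steps.nil))))) (nat_lit 27) (nat_lit 4),
  Rule.mk (nat_lit 1) (nat_lit 86) (Steps.fwd (nat_lit 32768) (Steps.bwd (nat_lit 6) (Steps.fwd (nat_lit 24576) (Steps.fwd (nat_lit 49152) (Steps.fwd (nat_lit 24576) Steps.nil))))) (nat_lit 26) (nat_lit 3),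
  Rule.mk (nat_lit 0) (nat_lit 131) (Steps.bwd (nat_lit 6) (Steps.fwd (nat_lit 32768) (Steps.bwd (nat_lit 5) (Steps.bwd (nat_lit 1) (Steps.fwd (nat_lit 40960) (Steps.fwd (nat_lit 32768) (Steps.bwd (nat_lit 5) (Steps.fwd (nat_lit 16384) Steps.nil)))))))) (nat_lit 36) (nat_lit 1),
  Rule.mk (nat_lit 5) (nat_lit 146) (Steps.bwd (nat_lit 4) (Steps.fwd (nat_lit 49152) (Steps.bwd (nat_lit 4) (Steps.bwd (nat_lit 5) (Steps.bwd (nat_lit 4) (Steps.bwd (nat_lit 5) (Steps.bwd (nat_lit 4) (Steps.bwd (nat_lit 5) (Steps.bwd (nat_lit 4) Steps.nil))))))))) (nat_lit 50) (nat_lit 0),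
  Rule.mk (nat_lit 1) (nat_lit 116) (Steps.bwd (nat_lit 6) (Steps.bwd (nat_lit 3) (Steps.bwd (nat_lit 5) (Steps.fwd (nat_lit 16384) (Steps.fwd (nat_lit 40960) (Steps.bwd (nat_lit 3) (Steps.bwd (nat_lit 5) Steps.nil))))))) (nat_lit 36) (nat_lit 1),
  Rule.mk (nat_lit 1) (nat_lit 116) (Steps.fwd (nat_lit 40960) (Steps.fwd (nat_lit 32768) (Steps.bwd (nat_lit 5) (Steps.bwd (nat_lit 1) (Steps.bwd (nat_lit 6) (Steps.bwd (nat_lit 3) (Steps.bwd (nat_lit 5) Steps.nil))))))) (nat_lit 36) (nat_lit 1),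
  Rule.mk (nat_lit 6) (nat_lit 86) (Steps.bwd (nat_lit 3) (Steps.bwd (nat_lit 5) (Steps.fwd (nat_lit 24576) (Steps.bwd (nat_lit 2) (Steps.bwd (nat_lit 3) Steps.nil))))) (nat_lit 27) (nat_lit 0),
  Rule.mk (nat_lit 3) (nat_lit 146) (Steps.bwd (nat_lit 6) (Steps.fwd (nat_lit 32768) (Steps.fwd (nat_lit 40960) (Steps.fwd (nat_lit 32768) (Steps.bwd (nat_lit 6) (Steps.bwd (nat_lit 3) (Steps.fwd (nat_lit 40960) (Steps.fwd (nat_lit 32768) (Steps.bwd (nat_lit 6) Steps.nil))))))))) (nat_lit 51) (nat_lit 0),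
  Rule.mk (nat_lit 3) (nat_lit 146) (Steps.bwd (nat_lit 6) (Steps.bwd (nat_lit 3) (Steps.bwd (nat_lit 6) (Steps.bwd (nat_lit 3) (Steps.fwd (nat_lit 40960) (Steps.fwd (nat_lit 32768) (Steps.bwd (nat_lit 6) (Steps.bwd (nat_lit 3) (Steps.bwd (nat_lit 6) Steps.nil))))))))) (nat_lit 51) (nat_lit 0),
  Rule.mk (nat_lit 5) (nat_lit 146) (Steps.bwd (nat_lit 4) (Steps.bwd (nat_lit 5) (Steps.bwd (nat_lit 4) (Steps.bwd (nat_lit 5) (Steps.fwd (nat_lit 24576) (Steps.bwd (nat_lit 5) (Steps.bwd (nat_lit 4) (Steps.fwd (nat_lit 49152) (Steps.fwd (nat_lit 24576) Steps.nil))))))))) (nat_lit 50) (nat_lit 0),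
  Rule.mk (nat_lit 0) (nat_lit 131) (Steps.bwd (nat_lit 6) (Steps.bwd (nat_lit 3) (Steps.fwd (nat_lit 49152) (Steps.fwd (nat_lit 16384) (Steps.bwd (nat_lit 6) (Steps.bwd (nat_lit 3) (Steps.bwd (nat_lit 5) (Steps.fwd (nat_lit 16384) Steps.nil)))))))) (nat_lit 36) (nat_lit 1),
  Rule.mk (nat_lit 3) (nat_lit 86) (Steps.fwd (nat_lit 40960) (Steps.bwd (nat_lit 3) (Steps.fwd (nat_lit 49152) (Steps.fwd (nat_lit 24576) (Steps.bwd (nat_lit 2) Steps.nil))))) (nat_lit 27) (nat_lit 5),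
  Rule.mk (nat_lit 4) (nat_lit 116) (Steps.bwd (nat_lit 5) (Steps.fwd (nat_lit 8192) (Steps.bwd (nat_lit 6) (Steps.fwd (nat_lit 24576) (Steps.fwd (nat_lit 49152) (Steps.fwd (nat_lit 8192) (Steps.bwd (nat_lit 6) Steps.nil))))))) (nat_lit 37) (nat_lit 2),
  Rule.mk (nat_lit 1) (nat_lit 86) (Steps.fwd (nat_lit 32768) (Steps.fwd (nat_lit 40960) (Steps.fwd (nat_lit 24576) (Steps.fwd (nat_lit 49152) (Steps.bwd (nat_lit 4) Steps.nil))))) (nat_lit 26) (nat_lit 3),
  Rule.mk (nat_lit 3) (nat_lit 146) (Steps.bwd (nat_lit 6) (Steps.bwd (nat_lit 3) (Steps.bwd (nat_lit 6) (Steps.fwd (nat_lit 32768) (Steps.bwd (nat_lit 6) (Steps.fwd (nat_lit 32768) (Steps.fwd (nat_lit 40960) (Steps.fwd (nat_lit 32768) (Steps.bwd (nat_lit 6) Steps.nil))))))))) (nat_lit 51) (nat_lit 0),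
  Rule.mk (nat_lit 4) (nat_lit 86) (Steps.fwd (nat_lit 16384) (Steps.bwd (nat_lit 3) (Steps.fwd (nat_lit 40960) (Steps.bwd (nat_lit 4) (Steps.bwd (nat_lit 5) Steps.nil))))) (nat_lit 26) (nat_lit 2),
  Rule.mk (nat_lit 6) (nat_lit 86) (Steps.fwd (nat_lit 24576) (Steps.fwd (nat_lit 49152) (Steps.fwd (nat_lit 24576) (Steps.bwd (nat_lit 1) (Steps.fwd (nat_lit 32768) Steps.nil))))) (nat_lit 26) (nat_lit 5),
  Rule.mk (nat_lit 1) (nat_lit 116) (Steps.bwd (nat_lit 6) (Steps.fwd (nat_lit 32768) (Steps.fwd (nat_lit 49152) (Steps.fwd (nat_lit 16384) (Steps.bwd (nat_lit 6) (Steps.fwd (nat_lit 32768) (Steps.bwd (nat_lit 5) Steps.nil))))))) (nat_lit 36) (nat_lit 1),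
  Rule.mk (nat_lit 6) (nat_lit 116) (Steps.bwd (nat_lit 3) (Steps.fwd (nat_lit 49152) (Steps.bwd (nat_lit 1) (Steps.fwd (nat_lit 40960) (Steps.bwd (nat_lit 3) (Steps.bwd (nat_lit 5) (Steps.bwd (nat_lit 1) Steps.nil))))))) (nat_lit 36) (nat_lit 2),
  Rule.mk (nat_lit 5) (nat_lit 86) (Steps.fwd (nat_lit 24576) (Steps.fwd (nat_lit 16384) (Steps.fwd (nat_lit 32768) (Steps.bwd (nat_lit 6) (Steps.fwd (nat_lit 24576) Steps.nil))))) (nat_lit 26) (nat_lit 1),
  Rule.mk (nat_lit 0) (nat_lit 101) (Steps.bwd (nat_lit 2) (Steps.fwd (nat_lit 32768) (Steps.bwd (nat_lit 6) (Steps.bwd (nat_lit 3) (Steps.fwd (nat_lit 49152) (Steps.fwd (nat_lit 24576) Steps.nil)))))) (nat_lit 27) (nat_lit 3),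
  Rule.mk (nat_lit 5) (nat_lit 116) (Steps.fwd (nat_lit 8192) (Steps.bwd (nat_lit 6) (Steps.fwd (nat_lit 24576) (Steps.fwd (nat_lit 49152) (Steps.bwd (nat_lit 2) (Steps.bwd (nat_lit 6) (Steps.fwd (nat_lit 24576) Steps.nil))))))) (nat_lit 37) (nat_lit 3),
  Rule.mk (nat_lit 0) (nat_lit 131) (Steps.bwd (nat_lit 6) (Steps.bwd (nat_lit 3) (Steps.bwd (nat_lit 5) (Steps.bwd (nat_lit 1) (Steps.bwd (nat_lit 6) (Steps.fwd (nat_lit 32768) (Steps.bwd (nat_lit 5) (Steps.bwd (nat_lit 1) Steps.nil)))))))) (nat_lit 36) (nat_lit 1),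
  Rule.mk (nat_lit 5) (nat_lit 116) (Steps.bwd (nat_lit 2) (Steps.fwd (nat_lit 40960) (Steps.bwd (nat_lit 4) (Steps.fwd (nat_lit 49152) (Steps.bwd (nat_lit 2) (Steps.bwd (nat_lit 6) (Steps.bwd (nat_lit 4) Steps.nil))))))) (nat_lit 37) (nat_lit 3),
  Rule.mk (nat_lit 3) (nat_lit 116) (Steps.bwd (nat_lit 5) (Steps.fwd (nat_lit 16384) (Steps.bwd (nat_lit 6) (Steps.bwd (nat_lit 3) (Steps.bwd (nat_lit 5) (Steps.bwd (nat_lit 1) (Steps.bwd (nat_lit 6) Steps.nil))))))) (nat_lit 36) (nat_lit 3),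
  Rule.mk (nat_lit 0) (nat_lit 101) (Steps.fwd (nat_lit 16384) (Steps.fwd (nat_lit 32768) (Steps.fwd (nat_lit 40960) (Steps.bwd (nat_lit 4) (Steps.bwd (nat_lit 5) (Steps.fwd (nat_lit 24576) Steps.nil)))))) (nat_lit 26) (nat_lit 2),
  Rule.mk (nat_lit 0) (nat_lit 161) (Steps.fwd (nat_lit 32768) (Steps.fwd (nat_lit 40960) (Steps.bwd (nat_lit 3) (Steps.bwd (nat_lit 6) (Steps.bwd (nat_lit 3) (Steps.bwd (nat_lit 6) (Steps.bwd (nat_lit 3) (Steps.bwd (nat_lit 6) (Steps.bwd (nat_lit 3) (Steps.bwd (nat_lit 6) Steps.nil)))))))))) (nat_lit 51) (nat_lit 1),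
  Rule.mk (nat_lit 3) (nat_lit 116) (Steps.bwd (nat_lit 5) (Steps.bwd (nat_lit 1) (Steps.bwd (nat_lit 6) (Steps.bwd (nat_lit 3) (Steps.fwd (nat_lit 49152) (Steps.bwd (nat_lit 1) (Steps.fwd (nat_lit 40960) Steps.nil))))))) (nat_lit 36) (nat_lit 3),
  Rule.mk (nat_lit 0) (nat_lit 101) (Steps.fwd (nat_lit 40960) (Steps.fwd (nat_lit 24576) (Steps.bwd (nat_lit 5) (Steps.bwd (nat_lit 4) (Steps.fwd (nat_lit 16384) (Steps.fwd (nat_lit 32768) Steps.nil)))))) (nat_lit 26) (nat_lit 4),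
  Rule.mk (nat_lit 6) (nat_lit 146) (Steps.bwd (nat_lit 3) (Steps.bwd (nat_lit 6) (Steps.fwd (nat_lit 32768) (Steps.bwd (nat_lit 6) (Steps.fwd (nat_lit 32768) (Steps.bwd (nat_lit 6) (Steps.fwd (nat_lit 32768) (Steps.fwd (nat_lit 40960) (Steps.fwd (nat_lit 32768) Steps.nil))))))))) (nat_lit 51) (nat_lit 1),
  Rule.mk (nat_lit 5) (nat_lit 146) (Steps.bwd (nat_lit 4) (Steps.fwd (nat_lit 49152) (Steps.fwd (nat_lit 24576) (Steps.bwd (nat_lit 5) (Steps.bwd (nat_lit 4) (Steps.bwd (nat_lit 5) (Steps.fwd (nat_lit 24576) (Steps.bwd (nat_lit 5) (Steps.bwd (nat_lit 4) Steps.nil))))))))) (nat_lit 50) (nat_lit 0),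
  Rule.mk (nat_lit 3) (nat_lit 86) (Steps.fwd (nat_lit 40960) (Steps.bwd (nat_lit 4) (Steps.bwd (nat_lit 5) (Steps.bwd (nat_lit 4) (Steps.fwd (nat_lit 16384) Steps.nil))))) (nat_lit 26) (nat_lit 4),
  Rule.mk (nat_lit 5) (nat_lit 116) (Steps.bwd (nat_lit 1) (Steps.bwd (nat_lit 6) (Steps.fwd (nat_lit 32768) (Steps.bwd (nat_lit 5) (Steps.bwd (nat_lit 1) (Steps.fwd (nat_lit 40960) (Steps.bwd (nat_lit 3) Steps.nil))))))) (nat_lit 36) (nat_lit 0),
  Rule.mk (nat_lit 5) (nat_lit 116) (Steps.bwd (nat_lit 1) (Steps.fwd (nat_lit 40960) (Steps.bwd (nat_lit 3) (Steps.fwd (nat_lit 49152) (Steps.bwd (nat_lit 1) (Steps.bwd (nat_lit 6) (Steps.fwd (nat_lit 32768) Steps.nil))))))) (nat_lit 36) (nat_lit 0),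
  Rule.mk (nat_lit 2) (nat_lit 116) (Steps.fwd (nat_lit 40960) (Steps.fwd (nat_lit 24576) (Steps.bwd (nat_lit 5) (Steps.fwd (nat_lit 8192) (Steps.bwd (nat_lit 6) (Steps.fwd (nat_lit 24576) (Steps.fwd (nat_lit 49152) Steps.nil))))))) (nat_lit 37) (nat_lit 0),
  Rule.mk (nat_lit 4) (nat_lit 146) (Steps.bwd (nat_lit 5) (Steps.bwd (nat_lit 4) (Steps.bwd (nat_lit 5) (Steps.bwd (nat_lit 4) (Steps.bwd (nat_lit 5) (Steps.bwd (nat_lit 4) (Steps.fwd (nat_lit 49152) (Steps.fwd (nat_lit 24576) (Steps.fwd (nat_lit 49152) Steps.nil))))))))) (nat_lit 50) (nat_lit 1),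
  Rule.mk (nat_lit 0) (nat_lit 101) (Steps.bwd (nat_lit 2) (Steps.fwd (nat_lit 32768) (Steps.fwd (nat_lit 40960) (Steps.fwd (nat_lit 32768) (Steps.fwd (nat_lit 49152) (Steps.bwd (nat_lit 4) Steps.nil)))))) (nat_lit 27) (nat_lit 3),
  Rule.mk (nat_lit 4) (nat_lit 116) (Steps.bwd (nat_lit 5) (Steps.bwd (nat_lit 2) (Steps.bwd (nat_lit 6) (Steps.fwd (nat_lit 24576) (Steps.fwd (nat_lit 49152) (Steps.fwd (nat_lit 8192) (Steps.bwd (nat_lit 6) Steps.nil))))))) (nat_lit 37) (nat_lit 2),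
  Rule.mk (nat_lit 0) (nat_lit 101) (Steps.fwd (nat_lit 32768) (Steps.fwd (nat_lit 40960) (Steps.fwd (nat_lit 32768) (Steps.fwd (nat_lit 49152) (Steps.bwd (nat_lit 4) (Steps.fwd (nat_lit 8192) Steps.nil)))))) (nat_lit 27) (nat_lit 4),
  Rule.mk (nat_lit 1) (nat_lit 116) (Steps.bwd (nat_lit 6) (Steps.fwd (nat_lit 32768) (Steps.bwd (nat_lit 5) (Steps.bwd (nat_lit 1) (Steps.bwd (nat_lit 6) (Steps.bwd (nat_lit 3) (Steps.fwd (nat_lit 49152) Steps.nil))))))) (nat_lit 36) (nat_lit 1),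
  Rule.mk (nat_lit 3) (nat_lit 86) (Steps.fwd (nat_lit 40960) (Steps.fwd (nat_lit 24576) (Steps.fwd (nat_lit 49152) (Steps.fwd (nat_lit 24576) (Steps.bwd (nat_lit 1) Steps.nil))))) (nat_lit 26) (nat_lit 4),
  Rule.mk (nat_lit 2) (nat_lit 116) (Steps.fwd (nat_lit 40960) (Steps.bwd (nat_lit 4) (Steps.fwd (nat_lit 49152) (Steps.fwd (nat_lit 8192) (Steps.bwd (nat_lit 6) (Steps.fwd (nat_lit 24576) (Steps.bwd (nat_lit 5) Steps.nil))))))) (nat_lit 37) (nat_lit 0),
  Rule.mk (nat_lit 6) (nat_lit 146) (Steps.fwd (nat_lit 32768) (Steps.bwd (nat_lit 6) (Steps.fwd (nat_lit 32768) (Steps.fwd (nat_lit 40960) (Steps.bwd (nat_lit 3) (Steps.fwd (nat_lit 40960) (Steps.fwd (nat_lit 32768) (Steps.fwd (nat_lit 40960) (Steps.fwd (nat_lit 32768) Steps.nil))))))))) (nat_lit 51) (nat_lit 1)]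
noncomputable def R_15 : List (Rule) := [Rule.mk (nat_lit 5) (nat_lit 116) (Steps.fwd (nat_lit 8192) (Steps.fwd (nat_lit 40960) (Steps.bwd (nat_lit 4) (Steps.fwd (nat_lit 49152) (Steps.bwd (nat_lit 2) (Steps.fwd (nat_lit 40960) (Steps.bwd (nat_lit 4) Steps.nil))))))) (nat_lit 37) (nat_lit 3),
  Rule.mk (nat_lit 0) (nat_lit 131) (Steps.bwd (nat_lit 2) (Steps.fwd (nat_lit 40960) (Steps.bwd (nat_lit 4) (Steps.fwd (nat_lit 49152) (Steps.fwd (nat_lit 8192) (Steps.bwd (nat_lit 6) (Steps.fwd (nat_lit 24576) (Steps.fwd (nat_lit 49152) Steps.nil)))))))) (nat_lit 37) (nat_lit 3),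
  Rule.mk (nat_lit 6) (nat_lit 86) (Steps.fwd (nat_lit 32768) (Steps.fwd (nat_lit 49152) (Steps.bwd (nat_lit 4) (Steps.bwd (nat_lit 2) (Steps.bwd (nat_lit 3) Steps.nil))))) (nat_lit 27) (nat_lit 0),
  Rule.mk (nat_lit 6) (nat_lit 116) (Steps.fwd (nat_lit 32768) (Steps.bwd (nat_lit 5) (Steps.bwd (nat_lit 1) (Steps.bwd (nat_lit 6) (Steps.fwd (nat_lit 32768) (Steps.fwd (nat_lit 49152) (Steps.fwd (nat_lit 16384) Steps.nil))))))) (nat_lit 36) (nat_lit 2),
  Rule.mk (nat_lit 5) (nat_lit 116) (Steps.fwd (nat_lit 8192) (Steps.bwd (nat_lit 6) (Steps.bwd (nat_lit 4) (Steps.fwd (nat_lit 49152) (Steps.bwd (nat_lit 2) (Steps.fwd (nat_lit 40960) (Steps.bwd (nat_lit 4) Steps.nil))))))) (nat_lit 37) (nat_lit 3),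
  Rule.mk (nat_lit 5) (nat_lit 116) (Steps.bwd (nat_lit 2) (Steps.bwd (nat_lit 6) (Steps.bwd (nat_lit 4) (Steps.fwd (nat_lit 49152) (Steps.fwd (nat_lit 8192) (Steps.bwd (nat_lit 6) (Steps.bwd (nat_lit 4) Steps.nil))))))) (nat_lit 37) (nat_lit 3),
  Rule.mk (nat_lit 2) (nat_lit 116) (Steps.bwd (nat_lit 6) (Steps.bwd (nat_lit 4) (Steps.bwd (nat_lit 5) (Steps.fwd (nat_lit 8192) (Steps.bwd (nat_lit 6) (Steps.bwd (nat_lit 4) (Steps.fwd (nat_lit 49152) Steps.nil))))))) (nat_lit 37) (nat_lit 0),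
  Rule.mk (nat_lit 3) (nat_lit 146) (Steps.bwd (nat_lit 6) (Steps.bwd (nat_lit 3) (Steps.bwd (nat_lit 6) (Steps.fwd (nat_lit 32768) (Steps.fwd (nat_lit 40960) (Steps.bwd (nat_lit 3) (Steps.bwd (nat_lit 6) (Steps.bwd (nat_lit 3) (Steps.fwd (nat_lit 40960) Steps.nil))))))))) (nat_lit 51) (nat_lit 0),
  Rule.mk (nat_lit 5) (nat_lit 116) (Steps.fwd (nat_lit 16384) (Steps.fwd (nat_lit 40960) (Steps.fwd (nat_lit 32768) (Steps.fwd (nat_lit 49152) (Steps.bwd (nat_lit 1) (Steps.fwd (nat_lit 40960) (Steps.bwd (nat_lit 3) Steps.nil))))))) (nat_lit 36) (nat_lit 0),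
  Rule.mk (nat_lit 4) (nat_lit 86) (Steps.fwd (nat_lit 8192) (Steps.bwd (nat_lit 3) (Steps.fwd (nat_lit 40960) (Steps.bwd (nat_lit 3) (Steps.bwd (nat_lit 5) Steps.nil))))) (nat_lit 27) (nat_lit 3),
  Rule.mk (nat_lit 5) (nat_lit 116) (Steps.fwd (nat_lit 8192) (Steps.bwd (nat_lit 6) (Steps.fwd (nat_lit 24576) (Steps.fwd (nat_lit 49152) (Steps.bwd (nat_lit 2) (Steps.fwd (nat_lit 40960) (Steps.bwd (nat_lit 4) Steps.nil))))))) (nat_lit 37) (nat_lit 3),
  Rule.mk (nat_lit 5) (nat_lit 86) (Steps.bwd (nat_lit 4) (Steps.fwd (nat_lit 16384) (Steps.bwd (nat_lit 3) (Steps.fwd (nat_lit 40960) (Steps.fwd (nat_lit 24576) Steps.nil))))) (nat_lit 26) (nat_lit 1),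
  Rule.mk (nat_lit 5) (nat_lit 116) (Steps.bwd (nat_lit 1) (Steps.bwd (nat_lit 6) (Steps.bwd (nat_lit 3) (Steps.bwd (nat_lit 5) (Steps.bwd (nat_lit 1) (Steps.fwd (nat_lit 40960) (Steps.fwd (nat_lit 32768) Steps.nil))))))) (nat_lit 36) (nat_lit 0),
  Rule.mk (nat_lit 2) (nat_lit 116) (Steps.bwd (nat_lit 6) (Steps.bwd (nat_lit 4) (Steps.fwd (nat_lit 49152) (Steps.bwd (nat_lit 2) (Steps.bwd (nat_lit 6) (Steps.fwd (nat_lit 24576) (Steps.bwd (nat_lit 5) Steps.nil))))))) (nat_lit 37) (nat_lit 0),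
  Rule.mk (nat_lit 4) (nat_lit 86) (Steps.fwd (nat_lit 16384) (Steps.bwd (nat_lit 3) (Steps.bwd (nat_lit 6) (Steps.bwd (nat_lit 4) (Steps.bwd (nat_lit 5) Steps.nil))))) (nat_lit 26) (nat_lit 2),
  Rule.mk (nat_lit 1) (nat_lit 116) (Steps.bwd (nat_lit 6) (Steps.bwd (nat_lit 3) (Steps.fwd (nat_lit 49152) (Steps.bwd (nat_lit 1) (Steps.bwd (nat_lit 6) (Steps.fwd (nat_lit 32768) (Steps.fwd (nat_lit 49152) Steps.nil))))))) (nat_lit 36) (nat_lit 1),
  Rule.mk (nat_lit 3) (nat_lit 86) (Steps.fwd (nat_lit 40960) (Steps.bwd (nat_lit 4) (Steps.fwd (nat_lit 49152) (Steps.fwd (nat_lit 24576) (Steps.bwd (nat_lit 1) Steps.nil))))) (nat_lit 26) (nat_lit 4),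
  Rule.mk (nat_lit 3) (nat_lit 116) (Steps.fwd (nat_lit 49152) (Steps.bwd (nat_lit 1) (Steps.bwd (nat_lit 6) (Steps.bwd (nat_lit 3) (Steps.fwd (nat_lit 49152) (Steps.fwd (nat_lit 16384) (Steps.fwd (nat_lit 40960) Steps.nil))))))) (nat_lit 36) (nat_lit 3),
  Rule.mk (nat_lit 0) (nat_lit 131) (Steps.bwd (nat_lit 4) (Steps.fwd (nat_lit 49152) (Steps.bwd (nat_lit 2) (Steps.fwd (nat_lit 40960) (Steps.fwd (nat_lit 24576) (Steps.bwd (nat_lit 5) (Steps.fwd (nat_lit 8192) (Steps.fwd (nat_lit 40960) Steps.nil)))))))) (nat_lit 37) (nat_lit 1),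
  Rule.mk (nat_lit 6) (nat_lit 146) (Steps.bwd (nat_lit 3) (Steps.bwd (nat_lit 6) (Steps.fwd (nat_lit 32768) (Steps.fwd (nat_lit 40960) (Steps.bwd (nat_lit 3) (Steps.bwd (nat_lit 6) (Steps.bwd (nat_lit 3) (Steps.fwd (nat_lit 40960) (Steps.fwd (nat_lit 32768) Steps.nil))))))))) (nat_lit 51) (nat_lit 1),
  Rule.mk (nat_lit 0) (nat_lit 101) (Steps.bwd (nat_lit 2) (Steps.fwd (nat_lit 32768) (Steps.bwd (nat_lit 6) (Steps.bwd (nat_lit 3) (Steps.bwd (nat_lit 5) (Steps.fwd (nat_lit 24576) Steps.nil)))))) (nat_lit 27) (nat_lit 3),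
  Rule.mk (nat_lit 6) (nat_lit 146) (Steps.bwd (nat_lit 3) (Steps.bwd (nat_lit 6) (Steps.bwd (nat_lit 3) (Steps.fwd (nat_lit 40960) (Steps.fwd (nat_lit 32768) (Steps.fwd (nat_lit 40960) (Steps.fwd (nat_lit 32768) (Steps.bwd (nat_lit 6) (Steps.bwd (nat_lit 3) Steps.nil))))))))) (nat_lit 51) (nat_lit 1),
  Rule.mk (nat_lit 3) (nat_lit 86) (Steps.bwd (nat_lit 5) (Steps.fwd (nat_lit 24576) (Steps.fwd (nat_lit 8192) (Steps.fwd (nat_lit 32768) (Steps.fwd (nat_lit 40960) Steps.nil))))) (nat_lit 27) (nat_lit 1),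
  Rule.mk (nat_lit 1) (nat_lit 116) (Steps.fwd (nat_lit 40960) (Steps.bwd (nat_lit 3) (Steps.bwd (nat_lit 5) (Steps.bwd (nat_lit 1) (Steps.fwd (nat_lit 40960) (Steps.bwd (nat_lit 3) (Steps.bwd (nat_lit 5) Steps.nil))))))) (nat_lit 36) (nat_lit 1),
  Rule.mk (nat_lit 6) (nat_lit 116) (Steps.fwd (nat_lit 24576) (Steps.bwd (nat_lit 5) (Steps.bwd (nat_lit 2) (Steps.bwd (nat_lit 6) (Steps.fwd (nat_lit 24576) (Steps.fwd (nat_lit 49152) (Steps.fwd (nat_lit 8192) Steps.nil))))))) (nat_lit 37) (nat_lit 1),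
  Rule.mk (nat_lit 5) (nat_lit 116) (Steps.fwd (nat_lit 16384) (Steps.bwd (nat_lit 6) (Steps.bwd (nat_lit 3) (Steps.fwd (nat_lit 49152) (Steps.bwd (nat_lit 1) (Steps.fwd (nat_lit 40960) (Steps.bwd (nat_lit 3) Steps.nil))))))) (nat_lit 36) (nat_lit 0),
  Rule.mk (nat_lit 6) (nat_lit 146) (Steps.bwd (nat_lit 3) (Steps.fwd (nat_lit 40960) (Steps.bwd (nat_lit 3) (Steps.bwd (nat_lit 6) (Steps.fwd (nat_lit 32768) (Steps.bwd (nat_lit 6) (Steps.bwd (nat_lit 3) (Steps.fwd (nat_lit 40960) (Steps.bwd (nat_lit 3) Steps.nil))))))))) (nat_lit 51) (nat_lit 1),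
  Rule.mk (nat_lit 6) (nat_lit 86) (Steps.bwd (nat_lit 3) (Steps.fwd (nat_lit 49152) (Steps.fwd (nat_lit 24576) (Steps.fwd (nat_lit 8192) (Steps.fwd (nat_lit 32768) Steps.nil))))) (nat_lit 27) (nat_lit 0),
  Rule.mk (nat_lit 0) (nat_lit 101) (Steps.bwd (nat_lit 2) (Steps.fwd (nat_lit 32768) (Steps.fwd (nat_lit 40960) (Steps.fwd (nat_lit 32768) (Steps.bwd (nat_lit 5) (Steps.bwd (nat_lit 4) Steps.nil)))))) (nat_lit 27) (nat_lit 3),
  Rule.mk (nat_lit 3) (nat_lit 146) (Steps.bwd (nat_lit 6) (Steps.bwd (nat_lit 3) (Steps.bwd (nat_lit 6) (Steps.bwd (nat_lit 3) (Steps.fwd (nat_lit 40960) (Steps.fwd (nat_lit 32768) (Steps.fwd (nat_lit 40960) (Steps.bwd (nat_lit 3) (Steps.bwd (nat_lit 6) Steps.nil))))))))) (nat_lit 51) (nat_lit 0),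
  Rule.mk (nat_lit 5) (nat_lit 146) (Steps.bwd (nat_lit 4) (Steps.fwd (nat_lit 49152) (Steps.bwd (nat_lit 4) (Steps.bwd (nat_lit 5) (Steps.fwd (nat_lit 24576) (Steps.bwd (nat_lit 5) (Steps.fwd (nat_lit 24576) (Steps.bwd (nat_lit 5) (Steps.bwd (nat_lit 4) Steps.nil))))))))) (nat_lit 50) (nat_lit 0),
  Rule.mk (nat_lit 3) (nat_lit 86) (Steps.fwd (nat_lit 40960) (Steps.bwd (nat_lit 4) (Steps.fwd (nat_lit 49152) (Steps.bwd (nat_lit 4) (Steps.bwd (nat_lit 1) Steps.nil))))) (nat_lit 26) (nat_lit 4),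
  Rule.mk (nat_lit 5) (nat_lit 116) (Steps.bwd (nat_lit 2) (Steps.fwd (nat_lit 40960) (Steps.bwd (nat_lit 4) (Steps.bwd (nat_lit 5) (Steps.bwd (nat_lit 2) (Steps.fwd (nat_lit 40960) (Steps.fwd (nat_lit 24576) Steps.nil))))))) (nat_lit 37) (nat_lit 3),
  Rule.mk (nat_lit 6) (nat_lit 146) (Steps.bwd (nat_lit 3) (Steps.bwd (nat_lit 6) (Steps.fwd (nat_lit 32768) (Steps.fwd (nat_lit 40960) (Steps.fwd (nat_lit 32768) (Steps.bwd (nat_lit 6) (Steps.fwd (nat_lit 32768) (Steps.fwd (nat_lit 40960) (Steps.bwd (nat_lit 3) Steps.nil))))))))) (nat_lit 51) (nat_lit 1),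
  Rule.mk (nat_lit 6) (nat_lit 116) (Steps.bwd (nat_lit 4) (Steps.bwd (nat_lit 5) (Steps.bwd (nat_lit 2) (Steps.bwd (nat_lit 6) (Steps.bwd (nat_lit 4) (Steps.fwd (nat_lit 49152) (Steps.bwd (nat_lit 2) Steps.nil))))))) (nat_lit 37) (nat_lit 1),
  Rule.mk (nat_lit 0) (nat_lit 101) (Steps.fwd (nat_lit 32768) (Steps.fwd (nat_lit 40960) (Steps.fwd (nat_lit 32768) (Steps.bwd (nat_lit 5) (Steps.bwd (nat_lit 4) (Steps.fwd (nat_lit 8192) Steps.nil)))))) (nat_lit 27) (nat_lit 4),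
  Rule.mk (nat_lit 0) (nat_lit 131) (Steps.bwd (nat_lit 2) (Steps.fwd (nat_lit 40960) (Steps.fwd (nat_lit 24576) (Steps.bwd (nat_lit 5) (Steps.fwd (nat_lit 8192) (Steps.fwd (nat_lit 40960) (Steps.bwd (nat_lit 4) (Steps.fwd (nat_lit 49152) Steps.nil)))))))) (nat_lit 37) (nat_lit 3),
  Rule.mk (nat_lit 5) (nat_lit 86) (Steps.bwd (nat_lit 4) (Steps.fwd (nat_lit 8192) (Steps.bwd (nat_lit 3) (Steps.bwd (nat_lit 6) (Steps.bwd (nat_lit 3) Steps.nil))))) (nat_lit 27) (nat_lit 2),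
  Rule.mk (nat_lit 5) (nat_lit 116) (Steps.bwd (nat_lit 2) (Steps.fwd (nat_lit 40960) (Steps.fwd (nat_lit 24576) (Steps.fwd (nat_lit 49152) (Steps.fwd (nat_lit 8192) (Steps.bwd (nat_lit 6) (Steps.fwd (nat_lit 24576) Steps.nil))))))) (nat_lit 37) (nat_lit 3),
  Rule.mk (nat_lit 4) (nat_lit 116) (Steps.bwd (nat_lit 5) (Steps.fwd (nat_lit 8192) (Steps.bwd (nat_lit 6) (Steps.fwd (nat_lit 24576) (Steps.bwd (nat_lit 5) (Steps.bwd (nat_lit 2) (Steps.bwd (nat_lit 6) Steps.nil))))))) (nat_lit 37) (nat_lit 2),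
  Rule.mk (nat_lit 5) (nat_lit 146) (Steps.fwd (nat_lit 24576) (Steps.fwd (nat_lit 49152) (Steps.bwd (nat_lit 4) (Steps.bwd (nat_lit 5) (Steps.bwd (nat_lit 4) (Steps.fwd (nat_lit 49152) (Steps.bwd (nat_lit 4) (Steps.bwd (nat_lit 5) (Steps.bwd (nat_lit 4) Steps.nil))))))))) (nat_lit 50) (nat_lit 0),
  Rule.mk (nat_lit 0) (nat_lit 131) (Steps.fwd (nat_lit 40960) (Steps.fwd (nat_lit 32768) (Steps.bwd (nat_lit 5) (Steps.bwd (nat_lit 1) (Steps.bwd (nat_lit 6) (Steps.bwd (nat_lit 3) (Steps.fwd (nat_lit 49152) (Steps.bwd (nat_lit 1) Steps.nil)))))))) (nat_lit 36) (nat_lit 1),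
  Rule.mk (nat_lit 5) (nat_lit 116) (Steps.bwd (nat_lit 1) (Steps.fwd (nat_lit 40960) (Steps.fwd (nat_lit 32768) (Steps.fwd (nat_lit 49152) (Steps.bwd (nat_lit 1) (Steps.bwd (nat_lit 6) (Steps.bwd (nat_lit 3) Steps.nil))))))) (nat_lit 36) (nat_lit 0),
  Rule.mk (nat_lit 4) (nat_lit 86) (Steps.fwd (nat_lit 8192) (Steps.bwd (nat_lit 3) (Steps.bwd (nat_lit 6) (Steps.bwd (nat_lit 3) (Steps.bwd (nat_lit 5) Steps.nil))))) (nat_lit 27) (nat_lit 3),
  Rule.mk (nat_lit 0) (nat_lit 131) (Steps.fwd (nat_lit 32768) (Steps.bwd (nat_lit 5) (Steps.bwd (nat_lit 1) (Steps.fwd (nat_lit 40960) (Steps.fwd (nat_lit 32768) (Steps.fwd (nat_lit 49152) (Steps.bwd (nat_lit 1) (Steps.bwd (nat_lit 6) Steps.nil)))))))) (nat_lit 36) (nat_lit 2),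
  Rule.mk (nat_lit 0) (nat_lit 101) (Steps.fwd (nat_lit 32768) (Steps.fwd (nat_lit 40960) (Steps.bwd (nat_lit 4) (Steps.fwd (nat_lit 49152) (Steps.bwd (nat_lit 4) (Steps.fwd (nat_lit 16384) Steps.nil)))))) (nat_lit 26) (nat_lit 3),
  Rule.mk (nat_lit 5) (nat_lit 146) (Steps.fwd (nat_lit 24576) (Steps.fwd (nat_lit 49152) (Steps.bwd (nat_lit 4) (Steps.bwd (nat_lit 5) (Steps.bwd (nat_lit 4) (Steps.bwd (nat_lit 5) (Steps.fwd (nat_lit 24576) (Steps.fwd (nat_lit 49152) (Steps.bwd (nat_lit 4) Steps.nil))))))))) (nat_lit 50) (nat_lit 0),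
  Rule.mk (nat_lit 6) (nat_lit 86) (Steps.fwd (nat_lit 24576) (Steps.bwd (nat_lit 5) (Steps.bwd (nat_lit 4) (Steps.bwd (nat_lit 1) (Steps.fwd (nat_lit 32768) Steps.nil))))) (nat_lit 26) (nat_lit 5),
  Rule.mk (nat_lit 0) (nat_lit 101) (Steps.fwd (nat_lit 32768) (Steps.bwd (nat_lit 6) (Steps.bwd (nat_lit 3) (Steps.bwd (nat_lit 5) (Steps.bwd (nat_lit 4) (Steps.fwd (nat_lit 8192) Steps.nil)))))) (nat_lit 27) (nat_lit 4),
  Rule.mk (nat_lit 5) (nat_lit 116) (Steps.fwd (nat_lit 16384) (Steps.fwd (nat_lit 40960) (Steps.bwd (nat_lit 3) (Steps.fwd (nat_lit 49152) (Steps.fwd (nat_lit 16384) (Steps.bwd (nat_lit 6) (Steps.bwd (nat_lit 3) Steps.nil))))))) (nat_lit 36) (nat_lit 0),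
  Rule.mk (nat_lit 1) (nat_lit 86) (Steps.bwd (nat_lit 3) (Steps.fwd (nat_lit 40960) (Steps.fwd (nat_lit 24576) (Steps.bwd (nat_lit 5) (Steps.fwd (nat_lit 24576) Steps.nil))))) (nat_lit 26) (nat_lit 3),
  Rule.mk (nat_lit 0) (nat_lit 161) (Steps.fwd (nat_lit 49152) (Steps.fwd (nat_lit 24576) (Steps.fwd (nat_lit 49152) (Steps.bwd (nat_lit 4) (Steps.bwd (nat_lit 5) (Steps.bwd (nat_lit 4) (Steps.bwd (nat_lit 5) (Steps.fwd (nat_lit 24576) (Steps.bwd (nat_lit 5) (Steps.fwd (nat_lit 24576) Steps.nil)))))))))) (nat_lit 50) (nat_lit 1),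
  Rule.mk (nat_lit 5) (nat_lit 116) (Steps.bwd (nat_lit 2) (Steps.bwd (nat_lit 6) (Steps.bwd (nat_lit 4) (Steps.bwd (nat_lit 5) (Steps.fwd (nat_lit 8192) (Steps.bwd (nat_lit 6) (Steps.fwd (nat_lit 24576) Steps.nil))))))) (nat_lit 37) (nat_lit 3),
  Rule.mk (nat_lit 3) (nat_lit 86) (Steps.bwd (nat_lit 5) (Steps.fwd (nat_lit 24576) (Steps.fwd (nat_lit 8192) (Steps.bwd (nat_lit 3) (Steps.fwd (nat_lit 40960) Steps.nil))))) (nat_lit 27) (nat_lit 1),
  Rule.mk (nat_lit 4) (nat_lit 116) (Steps.bwd (nat_lit 5) (Steps.bwd (nat_lit 2) (Steps.bwd (nat_lit 6) (Steps.fwd (nat_lit 24576) (Steps.bwd (nat_lit 5) (Steps.fwd (nat_lit 8192) (Steps.bwd (nat_lit 6) Steps.nil))))))) (nat_lit 37) (nat_lit 2),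
  Rule.mk (nat_lit 6) (nat_lit 116) (Steps.fwd (nat_lit 32768) (Steps.fwd (nat_lit 49152) (Steps.fwd (nat_lit 16384) (Steps.bwd (nat_lit 6) (Steps.bwd (nat_lit 3) (Steps.bwd (nat_lit 5) (Steps.bwd (nat_lit 1) Steps.nil))))))) (nat_lit 36) (nat_lit 2),
  Rule.mk (nat_lit 6) (nat_lit 146) (Steps.bwd (nat_lit 3) (Steps.bwd (nat_lit 6) (Steps.fwd (nat_lit 32768) (Steps.bwd (nat_lit 6) (Steps.bwd (nat_lit 3) (Steps.bwd (nat_lit 6) (Steps.bwd (nat_lit 3) (Steps.fwd (nat_lit 40960) (Steps.fwd (nat_lit 32768) Steps.nil))))))))) (nat_lit 51) (nat_lit 1),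
  Rule.mk (nat_lit 5) (nat_lit 116) (Steps.bwd (nat_lit 2) (Steps.fwd (nat_lit 40960) (Steps.bwd (nat_lit 4) (Steps.fwd (nat_lit 49152) (Steps.bwd (nat_lit 2) (Steps.bwd (nat_lit 6) (Steps.fwd (nat_lit 24576) Steps.nil))))))) (nat_lit 37) (nat_lit 3),
  Rule.mk (nat_lit 0) (nat_lit 101) (Steps.fwd (nat_lit 32768) (Steps.bwd (nat_lit 6) (Steps.bwd (nat_lit 4) (Steps.bwd (nat_lit 5) (Steps.fwd (nat_lit 24576) (Steps.fwd (nat_lit 16384) Steps.nil)))))) (nat_lit 26) (nat_lit 3),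
  Rule.mk (nat_lit 6) (nat_lit 146) (Steps.bwd (nat_lit 3) (Steps.bwd (nat_lit 6) (Steps.bwd (nat_lit 3) (Steps.fwd (nat_lit 40960) (Steps.fwd (nat_lit 32768) (Steps.bwd (nat_lit 6) (Steps.fwd (nat_lit 32768) (Steps.fwd (nat_lit 40960) (Steps.fwd (nat_lit 32768) Steps.nil))))))))) (nat_lit 51) (nat_lit 1),
  Rule.mk (nat_lit 4) (nat_lit 86) (Steps.bwd (nat_lit 2) (Steps.fwd (nat_lit 32768) (Steps.bwd (nat_lit 6) (Steps.fwd (nat_lit 32768) (Steps.fwd (nat_lit 49152) Steps.nil))))) (nat_lit 27) (nat_lit 3),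
  Rule.mk (nat_lit 5) (nat_lit 116) (Steps.bwd (nat_lit 2) (Steps.bwd (nat_lit 6) (Steps.fwd (nat_lit 24576) (Steps.bwd (nat_lit 5) (Steps.bwd (nat_lit 2) (Steps.bwd (nat_lit 6) (Steps.bwd (nat_lit 4) Steps.nil))))))) (nat_lit 37) (nat_lit 3),
  Rule.mk (nat_lit 6) (nat_lit 116) (Steps.bwd (nat_lit 3) (Steps.fwd (nat_lit 49152) (Steps.bwd (nat_lit 1) (Steps.bwd (nat_lit 6) (Steps.bwd (nat_lit 3) (Steps.bwd (nat_lit 5) (Steps.fwd (nat_lit 16384) Steps.nil))))))) (nat_lit 36) (nat_lit 2),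
  Rule.mk (nat_lit 6) (nat_lit 116) (Steps.fwd (nat_lit 24576) (Steps.fwd (nat_lit 49152) (Steps.bwd (nat_lit 2) (Steps.bwd (nat_lit 6) (Steps.bwd (nat_lit 4) (Steps.bwd (nat_lit 5) (Steps.fwd (nat_lit 8192) Steps.nil))))))) (nat_lit 37) (nat_lit 1)]
noncomputable def R_16 : List (Rule) := [Rule.mk (nat_lit 6) (nat_lit 146) (Steps.bwd (nat_lit 3) (Steps.bwd (nat_lit 6) (Steps.bwd (nat_lit 3) (Steps.bwd (nat_lit 6) (Steps.fwd (nat_lit 32768) (Steps.fwd (nat_lit 40960) (Steps.bwd (nat_lit 3) (Steps.fwd (nat_lit 40960) (Steps.bwd (nat_lit 3) Steps.nil))))))))) (nat_lit 51) (nat_lit 1),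
  Rule.mk (nat_lit 3) (nat_lit 146) (Steps.bwd (nat_lit 6) (Steps.fwd (nat_lit 32768) (Steps.fwd (nat_lit 40960) (Steps.fwd (nat_lit 32768) (Steps.bwd (nat_lit 6) (Steps.fwd (nat_lit 32768) (Steps.bwd (nat_lit 6) (Steps.fwd (nat_lit 32768) (Steps.bwd (nat_lit 6) Steps.nil))))))))) (nat_lit 51) (nat_lit 0),
  Rule.mk (nat_lit 0) (nat_lit 131) (Steps.bwd (nat_lit 5) (Steps.bwd (nat_lit 2) (Steps.bwd (nat_lit 6) (Steps.fwd (nat_lit 24576) (Steps.fwd (nat_lit 49152) (Steps.bwd (nat_lit 2) (Steps.fwd (nat_lit 40960) (Steps.bwd (nat_lit 4) Steps.nil)))))))) (nat_lit 37) (nat_lit 2),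
  Rule.mk (nat_lit 6) (nat_lit 146) (Steps.bwd (nat_lit 3) (Steps.bwd (nat_lit 6) (Steps.fwd (nat_lit 32768) (Steps.fwd (nat_lit 40960) (Steps.fwd (nat_lit 32768) (Steps.bwd (nat_lit 6) (Steps.fwd (nat_lit 32768) (Steps.fwd (nat_lit 40960) (Steps.fwd (nat_lit 32768) Steps.nil))))))))) (nat_lit 51) (nat_lit 1),
  Rule.mk (nat_lit 5) (nat_lit 86) (Steps.bwd (nat_lit 4) (Steps.fwd (nat_lit 8192) (Steps.bwd (nat_lit 3) (Steps.fwd (nat_lit 40960) (Steps.fwd (nat_lit 32768) Steps.nil))))) (nat_lit 27) (nat_lit 2),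
  Rule.mk (nat_lit 6) (nat_lit 116) (Steps.bwd (nat_lit 3) (Steps.fwd (nat_lit 49152) (Steps.bwd (nat_lit 1) (Steps.fwd (nat_lit 40960) (Steps.fwd (nat_lit 32768) (Steps.bwd (nat_lit 5) (Steps.bwd (nat_lit 1) Steps.nil))))))) (nat_lit 36) (nat_lit 2),
  Rule.mk (nat_lit 6) (nat_lit 116) (Steps.bwd (nat_lit 3) (Steps.fwd (nat_lit 49152) (Steps.fwd (nat_lit 16384) (Steps.fwd (nat_lit 40960) (Steps.bwd (nat_lit 3) (Steps.fwd (nat_lit 49152) (Steps.fwd (nat_lit 16384) Steps.nil))))))) (nat_lit 36) (nat_lit 2),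
  Rule.mk (nat_lit 2) (nat_lit 116) (Steps.bwd (nat_lit 6) (Steps.fwd (nat_lit 24576) (Steps.bwd (nat_lit 5) (Steps.bwd (nat_lit 2) (Steps.bwd (nat_lit 6) (Steps.fwd (nat_lit 24576) (Steps.bwd (nat_lit 5) Steps.nil))))))) (nat_lit 37) (nat_lit 0),
  Rule.mk (nat_lit 3) (nat_lit 116) (Steps.bwd (nat_lit 5) (Steps.fwd (nat_lit 16384) (Steps.fwd (nat_lit 40960) (Steps.bwd (nat_lit 3) (Steps.fwd (nat_lit 49152) (Steps.bwd (nat_lit 1) (Steps.fwd (nat_lit 40960) Steps.nil))))))) (nat_lit 36) (nat_lit 3),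
  Rule.mk (nat_lit 4) (nat_lit 116) (Steps.bwd (nat_lit 5) (Steps.bwd (nat_lit 2) (Steps.fwd (nat_lit 40960) (Steps.fwd (nat_lit 24576) (Steps.fwd (nat_lit 49152) (Steps.fwd (nat_lit 8192) (Steps.fwd (nat_lit 40960) Steps.nil))))))) (nat_lit 37) (nat_lit 2),
  Rule.mk (nat_lit 6) (nat_lit 116) (Steps.bwd (nat_lit 3) (Steps.bwd (nat_lit 5) (Steps.bwd (nat_lit 1) (Steps.fwd (nat_lit 40960) (Steps.bwd (nat_lit 3) (Steps.bwd (nat_lit 5) (Steps.bwd (nat_lit 1) Steps.nil))))))) (nat_lit 36) (nat_lit 2),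
  Rule.mk (nat_lit 3) (nat_lit 146) (Steps.bwd (nat_lit 6) (Steps.bwd (nat_lit 3) (Steps.bwd (nat_lit 6) (Steps.bwd (nat_lit 3) (Steps.fwd (nat_lit 40960) (Steps.fwd (nat_lit 32768) (Steps.bwd (nat_lit 6) (Steps.fwd (nat_lit 32768) (Steps.bwd (nat_lit 6) Steps.nil))))))))) (nat_lit 51) (nat_lit 0),
  Rule.mk (nat_lit 5) (nat_lit 116) (Steps.fwd (nat_lit 8192) (Steps.bwd (nat_lit 6) (Steps.fwd (nat_lit 24576) (Steps.bwd (nat_lit 5) (Steps.fwd (nat_lit 8192) (Steps.fwd (nat_lit 40960) (Steps.bwd (nat_lit 4) Steps.nil))))))) (nat_lit 37) (nat_lit 3),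
  Rule.mk (nat_lit 0) (nat_lit 101) (Steps.bwd (nat_lit 1) (Steps.bwd (nat_lit 3) (Steps.fwd (nat_lit 40960) (Steps.bwd (nat_lit 4) (Steps.bwd (nat_lit 5) (Steps.fwd (nat_lit 24576) Steps.nil)))))) (nat_lit 26) (nat_lit 2),
  Rule.mk (nat_lit 5) (nat_lit 116) (Steps.bwd (nat_lit 2) (Steps.fwd (nat_lit 40960) (Steps.bwd (nat_lit 4) (Steps.bwd (nat_lit 5) (Steps.bwd (nat_lit 2) (Steps.bwd (nat_lit 6) (Steps.bwd (nat_lit 4) Steps.nil))))))) (nat_lit 37) (nat_lit 3),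
  Rule.mk (nat_lit 1) (nat_lit 116) (Steps.fwd (nat_lit 40960) (Steps.fwd (nat_lit 32768) (Steps.bwd (nat_lit 5) (Steps.fwd (nat_lit 16384) (Steps.fwd (nat_lit 40960) (Steps.bwd (nat_lit 3) (Steps.fwd (nat_lit 49152) Steps.nil))))))) (nat_lit 36) (nat_lit 1),
  Rule.mk (nat_lit 5) (nat_lit 146) (Steps.fwd (nat_lit 24576) (Steps.bwd (nat_lit 5) (Steps.bwd (nat_lit 4) (Steps.bwd (nat_lit 5) (Steps.bwd (nat_lit 4) (Steps.fwd (nat_lit 49152) (Steps.bwd (nat_lit 4) (Steps.bwd (nat_lit 5) (Steps.bwd (nat_lit 4) Steps.nil))))))))) (nat_lit 50) (nat_lit 0),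
  Rule.mk (nat_lit 5) (nat_lit 146) (Steps.bwd (nat_lit 4) (Steps.bwd (nat_lit 5) (Steps.fwd (nat_lit 24576) (Steps.fwd (nat_lit 49152) (Steps.bwd (nat_lit 4) (Steps.fwd (nat_lit 49152) (Steps.bwd (nat_lit 4) (Steps.bwd (nat_lit 5) (Steps.bwd (nat_lit 4) Steps.nil))))))))) (nat_lit 50) (nat_lit 0),
  Rule.mk (nat_lit 3) (nat_lit 146) (Steps.bwd (nat_lit 6) (Steps.bwd (nat_lit 3) (Steps.bwd (nat_lit 6) (Steps.fwd (nat_lit 32768) (Steps.bwd (nat_lit 6) (Steps.bwd (nat_lit 3) (Steps.fwd (nat_lit 40960) (Steps.fwd (nat_lit 32768) (Steps.bwd (nat_lit 6) Steps.nil))))))))) (nat_lit 51) (nat_lit 0),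
  Rule.mk (nat_lit 6) (nat_lit 116) (Steps.bwd (nat_lit 4) (Steps.bwd (nat_lit 5) (Steps.fwd (nat_lit 8192) (Steps.bwd (nat_lit 6) (Steps.fwd (nat_lit 24576) (Steps.fwd (nat_lit 49152) (Steps.fwd (nat_lit 8192) Steps.nil))))))) (nat_lit 37) (nat_lit 1),
  Rule.mk (nat_lit 5) (nat_lit 116) (Steps.bwd (nat_lit 2) (Steps.fwd (nat_lit 40960) (Steps.fwd (nat_lit 24576) (Steps.bwd (nat_lit 5) (Steps.bwd (nat_lit 2) (Steps.fwd (nat_lit 40960) (Steps.fwd (nat_lit 24576) Steps.nil))))))) (nat_lit 37) (nat_lit 3),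
  Rule.mk (nat_lit 1) (nat_lit 116) (Steps.bwd (nat_lit 6) (Steps.fwd (nat_lit 32768) (Steps.bwd (nat_lit 5) (Steps.fwd (nat_lit 16384) (Steps.fwd (nat_lit 40960) (Steps.fwd (nat_lit 32768) (Steps.fwd (nat_lit 49152) Steps.nil))))))) (nat_lit 36) (nat_lit 1),
  Rule.mk (nat_lit 5) (nat_lit 116) (Steps.fwd (nat_lit 16384) (Steps.bwd (nat_lit 6) (Steps.fwd (nat_lit 32768) (Steps.bwd (nat_lit 5) (Steps.fwd (nat_lit 16384) (Steps.fwd (nat_lit 40960) (Steps.fwd (nat_lit 32768) Steps.nil))))))) (nat_lit 36) (nat_lit 0),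
  Rule.mk (nat_lit 6) (nat_lit 116) (Steps.bwd (nat_lit 4) (Steps.fwd (nat_lit 49152) (Steps.fwd (nat_lit 8192) (Steps.fwd (nat_lit 40960) (Steps.fwd (nat_lit 24576) (Steps.bwd (nat_lit 5) (Steps.bwd (nat_lit 2) Steps.nil))))))) (nat_lit 37) (nat_lit 1),
  Rule.mk (nat_lit 4) (nat_lit 116) (Steps.bwd (nat_lit 5) (Steps.fwd (nat_lit 8192) (Steps.bwd (nat_lit 6) (Steps.fwd (nat_lit 24576) (Steps.fwd (nat_lit 49152) (Steps.fwd (nat_lit 8192) (Steps.fwd (nat_lit 40960) Steps.nil))))))) (nat_lit 37) (nat_lit 2),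
  Rule.mk (nat_lit 5) (nat_lit 116) (Steps.fwd (nat_lit 8192) (Steps.bwd (nat_lit 6) (Steps.fwd (nat_lit 24576) (Steps.fwd (nat_lit 49152) (Steps.fwd (nat_lit 8192) (Steps.bwd (nat_lit 6) (Steps.bwd (nat_lit 4) Steps.nil))))))) (nat_lit 37) (nat_lit 3),
  Rule.mk (nat_lit 5) (nat_lit 146) (Steps.bwd (nat_lit 4) (Steps.fwd (nat_lit 49152) (Steps.fwd (nat_lit 24576) (Steps.fwd (nat_lit 49152) (Steps.bwd (nat_lit 4) (Steps.bwd (nat_lit 5) (Steps.fwd (nat_lit 24576) (Steps.bwd (nat_lit 5) (Steps.bwd (nat_lit 4) Steps.nil))))))))) (nat_lit 50) (nat_lit 0),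
  Rule.mk (nat_lit 6) (nat_lit 116) (Steps.bwd (nat_lit 3) (Steps.bwd (nat_lit 5) (Steps.bwd (nat_lit 1) (Steps.fwd (nat_lit 40960) (Steps.bwd (nat_lit 3) (Steps.fwd (nat_lit 49152) (Steps.fwd (nat_lit 16384) Steps.nil))))))) (nat_lit 36) (nat_lit 2),
  Rule.mk (nat_lit 4) (nat_lit 116) (Steps.bwd (nat_lit 5) (Steps.bwd (nat_lit 2) (Steps.bwd (nat_lit 6) (Steps.bwd (nat_lit 4) (Steps.bwd (nat_lit 5) (Steps.bwd (nat_lit 2) (Steps.bwd (nat_lit 6) Steps.nil))))))) (nat_lit 37) (nat_lit 2),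
  Rule.mk (nat_lit 0) (nat_lit 161) (Steps.bwd (nat_lit 4) (Steps.bwd (nat_lit 5) (Steps.bwd (nat_lit 4) (Steps.fwd (nat_lit 49152) (Steps.bwd (nat_lit 4) (Steps.bwd (nat_lit 5) (Steps.bwd (nat_lit 4) (Steps.fwd (nat_lit 49152) (Steps.fwd (nat_lit 24576) (Steps.bwd (nat_lit 5) Steps.nil)))))))))) (nat_lit 50) (nat_lit 0),
  Rule.mk (nat_lit 0) (nat_lit 56) (Steps.bwd (nat_lit 4) (Steps.bwd (nat_lit 0) (Steps.bwd (nat_lit 3) Steps.nil))) (nat_lit 56) (nat_lit 0),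
  Rule.mk (nat_lit 2) (nat_lit 116) (Steps.bwd (nat_lit 6) (Steps.fwd (nat_lit 24576) (Steps.bwd (nat_lit 5) (Steps.bwd (nat_lit 2) (Steps.bwd (nat_lit 6) (Steps.bwd (nat_lit 4) (Steps.fwd (nat_lit 49152) Steps.nil))))))) (nat_lit 37) (nat_lit 0),
  Rule.mk (nat_lit 1) (nat_lit 116) (Steps.fwd (nat_lit 40960) (Steps.fwd (nat_lit 32768) (Steps.bwd (nat_lit 5) (Steps.fwd (nat_lit 16384) (Steps.fwd (nat_lit 40960) (Steps.fwd (nat_lit 32768) (Steps.fwd (nat_lit 49152) Steps.nil))))))) (nat_lit 36) (nat_lit 1),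
  Rule.mk (nat_lit 6) (nat_lit 146) (Steps.bwd (nat_lit 3) (Steps.bwd (nat_lit 6) (Steps.bwd (nat_lit 3) (Steps.bwd (nat_lit 6) (Steps.bwd (nat_lit 3) (Steps.fwd (nat_lit 40960) (Steps.fwd (nat_lit 32768) (Steps.fwd (nat_lit 40960) (Steps.bwd (nat_lit 3) Steps.nil))))))))) (nat_lit 51) (nat_lit 1),
  Rule.mk (nat_lit 1) (nat_lit 116) (Steps.bwd (nat_lit 6) (Steps.bwd (nat_lit 3) (Steps.bwd (nat_lit 5) (Steps.fwd (nat_lit 16384) (Steps.bwd (nat_lit 6) (Steps.fwd (nat_lit 32768) (Steps.bwd (nat_lit 5) Steps.nil))))))) (nat_lit 36) (nat_lit 1),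
  Rule.mk (nat_lit 5) (nat_lit 86) (Steps.fwd (nat_lit 24576) (Steps.bwd (nat_lit 1) (Steps.bwd (nat_lit 3) (Steps.fwd (nat_lit 40960) (Steps.bwd (nat_lit 4) Steps.nil))))) (nat_lit 26) (nat_lit 1),
  Rule.mk (nat_lit 0) (nat_lit 101) (Steps.bwd (nat_lit 4) (Steps.bwd (nat_lit 2) (Steps.fwd (nat_lit 32768) (Steps.fwd (nat_lit 40960) (Steps.fwd (nat_lit 32768) (Steps.bwd (nat_lit 5) Steps.nil)))))) (nat_lit 27) (nat_lit 2),
  Rule.mk (nat_lit 0) (nat_lit 131) (Steps.bwd (nat_lit 3) (Steps.fwd (nat_lit 49152) (Steps.fwd (nat_lit 16384) (Steps.bwd (nat_lit 6) (Steps.bwd (nat_lit 3) (Steps.fwd (nat_lit 49152) (Steps.bwd (nat_lit 1) (Steps.bwd (nat_lit 6) Steps.nil)))))))) (nat_lit 36) (nat_lit 2),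
  Rule.mk (nat_lit 4) (nat_lit 146) (Steps.bwd (nat_lit 5) (Steps.bwd (nat_lit 4) (Steps.bwd (nat_lit 5) (Steps.bwd (nat_lit 4) (Steps.fwd (nat_lit 49152) (Steps.fwd (nat_lit 24576) (Steps.bwd (nat_lit 5) (Steps.bwd (nat_lit 4) (Steps.bwd (nat_lit 5) Steps.nil))))))))) (nat_lit 50) (nat_lit 1),
  Rule.mk (nat_lit 4) (nat_lit 86) (Steps.fwd (nat_lit 8192) (Steps.fwd (nat_lit 32768) (Steps.bwd (nat_lit 6) (Steps.bwd (nat_lit 3) (Steps.fwd (nat_lit 49152) Steps.nil))))) (nat_lit 27) (nat_lit 3),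
  Rule.mk (nat_lit 6) (nat_lit 116) (Steps.bwd (nat_lit 3) (Steps.fwd (nat_lit 49152) (Steps.fwd (nat_lit 16384) (Steps.bwd (nat_lit 6) (Steps.bwd (nat_lit 3) (Steps.fwd (nat_lit 49152) (Steps.fwd (nat_lit 16384) Steps.nil))))))) (nat_lit 36) (nat_lit 2),
  Rule.mk (nat_lit 0) (nat_lit 56) (Steps.fwd (nat_lit 24576) (Steps.bwd (nat_lit 4) (Steps.fwd (nat_lit 24576) Steps.nil))) (nat_lit 9) (nat_lit 0),
  Rule.mk (nat_lit 0) (nat_lit 131) (Steps.bwd (nat_lit 6) (Steps.bwd (nat_lit 3) (Steps.bwd (nat_lit 5) (Steps.fwd (nat_lit 16384) (Steps.fwd (nat_lit 40960) (Steps.bwd (nat_lit 3) (Steps.bwd (nat_lit 5) (Steps.fwd (nat_lit 16384) Steps.nil)))))))) (nat_lit 36) (nat_lit 1),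
  Rule.mk (nat_lit 4) (nat_lit 146) (Steps.fwd (nat_lit 49152) (Steps.bwd (nat_lit 4) (Steps.bwd (nat_lit 5) (Steps.fwd (nat_lit 24576) (Steps.fwd (nat_lit 49152) (Steps.fwd (nat_lit 24576) (Steps.fwd (nat_lit 49152) (Steps.fwd (nat_lit 24576) (Steps.bwd (nat_lit 5) Steps.nil))))))))) (nat_lit 50) (nat_lit 1),
  Rule.mk (nat_lit 1) (nat_lit 116) (Steps.bwd (nat_lit 6) (Steps.fwd (nat_lit 32768) (Steps.fwd (nat_lit 49152) (Steps.bwd (nat_lit 1) (Steps.fwd (nat_lit 40960) (Steps.bwd (nat_lit 3) (Steps.fwd (nat_lit 49152) Steps.nil))))))) (nat_lit 36) (nat_lit 1),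
  Rule.mk (nat_lit 6) (nat_lit 146) (Steps.bwd (nat_lit 3) (Steps.bwd (nat_lit 6) (Steps.fwd (nat_lit 32768) (Steps.fwd (nat_lit 40960) (Steps.bwd (nat_lit 3) (Steps.fwd (nat_lit 40960) (Steps.fwd (nat_lit 32768) (Steps.fwd (nat_lit 40960) (Steps.bwd (nat_lit 3) Steps.nil))))))))) (nat_lit 51) (nat_lit 1),
  Rule.mk (nat_lit 0) (nat_lit 101) (Steps.bwd (nat_lit 3) (Steps.bwd (nat_lit 6) (Steps.fwd (nat_lit 24576) (Steps.fwd (nat_lit 49152) (Steps.bwd (nat_lit 4) (Steps.fwd (nat_lit 16384) Steps.nil)))))) (nat_lit 26) (nat_lit 3),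
  Rule.mk (nat_lit 6) (nat_lit 116) (Steps.fwd (nat_lit 32768) (Steps.bwd (nat_lit 5) (Steps.bwd (nat_lit 1) (Steps.bwd (nat_lit 6) (Steps.bwd (nat_lit 3) (Steps.bwd (nat_lit 5) (Steps.bwd (nat_lit 1) Steps.nil))))))) (nat_lit 36) (nat_lit 2),
  Rule.mk (nat_lit 3) (nat_lit 146) (Steps.bwd (nat_lit 6) (Steps.bwd (nat_lit 3) (Steps.fwd (nat_lit 40960) (Steps.fwd (nat_lit 32768) (Steps.bwd (nat_lit 6) (Steps.bwd (nat_lit 3) (Steps.bwd (nat_lit 6) (Steps.bwd (nat_lit 3) (Steps.bwd (nat_lit 6) Steps.nil))))))))) (nat_lit 51) (nat_lit 0),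
  Rule.mk (nat_lit 1) (nat_lit 116) (Steps.bwd (nat_lit 6) (Steps.fwd (nat_lit 32768) (Steps.bwd (nat_lit 5) (Steps.bwd (nat_lit 1) (Steps.fwd (nat_lit 40960) (Steps.bwd (nat_lit 3) (Steps.fwd (nat_lit 49152) Steps.nil))))))) (nat_lit 36) (nat_lit 1),
  Rule.mk (nat_lit 4) (nat_lit 116) (Steps.bwd (nat_lit 5) (Steps.bwd (nat_lit 2) (Steps.fwd (nat_lit 40960) (Steps.fwd (nat_lit 24576) (Steps.bwd (nat_lit 5) (Steps.bwd (nat_lit 2) (Steps.fwd (nat_lit 40960) Steps.nil))))))) (nat_lit 37) (nat_lit 2),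
  Rule.mk (nat_lit 0) (nat_lit 161) (Steps.fwd (nat_lit 40960) (Steps.fwd (nat_lit 32768) (Steps.fwd (nat_lit 40960) (Steps.fwd (nat_lit 32768) (Steps.bwd (nat_lit 6) (Steps.bwd (nat_lit 3) (Steps.bwd (nat_lit 6) (Steps.bwd (nat_lit 3) (Steps.bwd (nat_lit 6) (Steps.bwd (nat_lit 3) Steps.nil)))))))))) (nat_lit 51) (nat_lit 0),
  Rule.mk (nat_lit 6) (nat_lit 116) (Steps.bwd (nat_lit 4) (Steps.fwd (nat_lit 49152) (Steps.bwd (nat_lit 2) (Steps.fwd (nat_lit 40960) (Steps.fwd (nat_lit 24576) (Steps.fwd (nat_lit 49152) (Steps.bwd (nat_lit 2) Steps.nil))))))) (nat_lit 37) (nat_lit 1),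
  Rule.mk (nat_lit 6) (nat_lit 146) (Steps.bwd (nat_lit 3) (Steps.bwd (nat_lit 6) (Steps.fwd (nat_lit 32768) (Steps.fwd (nat_lit 40960) (Steps.bwd (nat_lit 3) (Steps.fwd (nat_lit 40960) (Steps.fwd (nat_lit 32768) (Steps.bwd (nat_lit 6) (Steps.bwd (nat_lit 3) Steps.nil))))))))) (nat_lit 51) (nat_lit 1),
  Rule.mk (nat_lit 5) (nat_lit 146) (Steps.bwd (nat_lit 4) (Steps.fwd (nat_lit 49152) (Steps.bwd (nat_lit 4) (Steps.bwd (nat_lit 5) (Steps.bwd (nat_lit 4) (Steps.fwd (nat_lit 49152) (Steps.fwd (nat_lit 24576) (Steps.fwd (nat_lit 49152) (Steps.bwd (nat_lit 4) Steps.nil))))))))) (nat_lit 50) (nat_lit 0),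
  Rule.mk (nat_lit 6) (nat_lit 116) (Steps.bwd (nat_lit 3) (Steps.fwd (nat_lit 49152) (Steps.bwd (nat_lit 1) (Steps.bwd (nat_lit 6) (Steps.fwd (nat_lit 32768) (Steps.fwd (nat_lit 49152) (Steps.fwd (nat_lit 16384) Steps.nil))))))) (nat_lit 36) (nat_lit 2),
  Rule.mk (nat_lit 3) (nat_lit 146) (Steps.bwd (nat_lit 6) (Steps.bwd (nat_lit 3) (Steps.fwd (nat_lit 40960) (Steps.bwd (nat_lit 3) (Steps.bwd (nat_lit 6) (Steps.bwd (nat_lit 3) (Steps.bwd (nat_lit 6) (Steps.bwd (nat_lit 3) (Steps.fwd (nat_lit 40960) Steps.nil))))))))) (nat_lit 51) (nat_lit 0),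
  Rule.mk (nat_lit 2) (nat_lit 116) (Steps.bwd (nat_lit 6) (Steps.fwd (nat_lit 24576) (Steps.bwd (nat_lit 5) (Steps.fwd (nat_lit 8192) (Steps.bwd (nat_lit 6) (Steps.fwd (nat_lit 24576) (Steps.bwd (nat_lit 5) Steps.nil))))))) (nat_lit 37) (nat_lit 0),
  Rule.mk (nat_lit 3) (nat_lit 116) (Steps.bwd (nat_lit 5) (Steps.fwd (nat_lit 16384) (Steps.bwd (nat_lit 6) (Steps.bwd (nat_lit 3) (Steps.bwd (nat_lit 5) (Steps.fwd (nat_lit 16384) (Steps.fwd (nat_lit 40960) Steps.nil))))))) (nat_lit 36) (nat_lit 3),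
  Rule.mk (nat_lit 4) (nat_lit 116) (Steps.bwd (nat_lit 5) (Steps.bwd (nat_lit 2) (Steps.bwd (nat_lit 6) (Steps.fwd (nat_lit 24576) (Steps.fwd (nat_lit 49152) (Steps.bwd (nat_lit 2) (Steps.bwd (nat_lit 6) Steps.nil))))))) (nat_lit 37) (nat_lit 2),
  Rule.mk (nat_lit 6) (nat_lit 116) (Steps.bwd (nat_lit 4) (Steps.bwd (nat_lit 5) (Steps.bwd (nat_lit 2) (Steps.bwd (nat_lit 6) (Steps.bwd (nat_lit 4) (Steps.fwd (nat_lit 49152) (Steps.fwd (nat_lit 8192) Steps.nil))))))) (nat_lit 37) (nat_lit 1),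
  Rule.mk (nat_lit 4) (nat_lit 116) (Steps.bwd (nat_lit 5) (Steps.fwd (nat_lit 8192) (Steps.bwd (nat_lit 6) (Steps.fwd (nat_lit 24576) (Steps.fwd (nat_lit 49152) (Steps.bwd (nat_lit 2) (Steps.fwd (nat_lit 40960) Steps.nil))))))) (nat_lit 37) (nat_lit 2),
  Rule.mk (nat_lit 5) (nat_lit 146) (Steps.fwd (nat_lit 24576) (Steps.fwd (nat_lit 49152) (Steps.bwd (nat_lit 4) (Steps.fwd (nat_lit 49152) (Steps.bwd (nat_lit 4) (Steps.bwd (nat_lit 5) (Steps.bwd (nat_lit 4) (Steps.bwd (nat_lit 5) (Steps.bwd (nat_lit 4) Steps.nil))))))))) (nat_lit 50) (nat_lit 0),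
  Rule.mk (nat_lit 3) (nat_lit 116) (Steps.bwd (nat_lit 5) (Steps.fwd (nat_lit 16384) (Steps.bwd (nat_lit 6) (Steps.fwd (nat_lit 32768) (Steps.bwd (nat_lit 5) (Steps.bwd (nat_lit 1) (Steps.fwd (nat_lit 40960) Steps.nil))))))) (nat_lit 36) (nat_lit 3)]
noncomputable def R_17 : List (Rule) := [Rule.mk (nat_lit 5) (nat_lit 146) (Steps.bwd (nat_lit 4) (Steps.fwd (nat_lit 49152) (Steps.fwd (nat_lit 24576) (Steps.bwd (nat_lit 5) (Steps.fwd (nat_lit 24576) (Steps.bwd (nat_lit 5) (Steps.fwd (nat_lit 24576) (Steps.bwd (nat_lit 5) (Steps.fwd (nat_lit 24576) Steps.nil))))))))) (nat_lit 50) (nat_lit 0),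
  Rule.mk (nat_lit 6) (nat_lit 86) (Steps.fwd (nat_lit 32768) (Steps.bwd (nat_lit 5) (Steps.fwd (nat_lit 24576) (Steps.bwd (nat_lit 2) (Steps.fwd (nat_lit 32768) Steps.nil))))) (nat_lit 27) (nat_lit 0),
  Rule.mk (nat_lit 0) (nat_lit 101) (Steps.fwd (nat_lit 24576) (Steps.fwd (nat_lit 8192) (Steps.fwd (nat_lit 32768) (Steps.fwd (nat_lit 40960) (Steps.fwd (nat_lit 32768) (Steps.bwd (nat_lit 5) Steps.nil)))))) (nat_lit 27) (nat_lit 2),
  Rule.mk (nat_lit 6) (nat_lit 146) (Steps.fwd (nat_lit 32768) (Steps.fwd (nat_lit 40960) (Steps.bwd (nat_lit 3) (Steps.fwd (nat_lit 40960) (Steps.fwd (nat_lit 32768) (Steps.bwd (nat_lit 6) (Steps.bwd (nat_lit 3) (Steps.bwd (nat_lit 6) (Steps.bwd (nat_lit 3) Steps.nil))))))))) (nat_lit 51) (nat_lit 1),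
  Rule.mk (nat_lit 5) (nat_lit 116) (Steps.fwd (nat_lit 16384) (Steps.bwd (nat_lit 6) (Steps.bwd (nat_lit 3) (Steps.fwd (nat_lit 49152) (Steps.bwd (nat_lit 1) (Steps.bwd (nat_lit 6) (Steps.bwd (nat_lit 3) Steps.nil))))))) (nat_lit 36) (nat_lit 0),
  Rule.mk (nat_lit 3) (nat_lit 116) (Steps.bwd (nat_lit 5) (Steps.fwd (nat_lit 16384) (Steps.fwd (nat_lit 40960) (Steps.fwd (nat_lit 32768) (Steps.bwd (nat_lit 5) (Steps.bwd (nat_lit 1) (Steps.bwd (nat_lit 6) Steps.nil))))))) (nat_lit 36) (nat_lit 3),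
  Rule.mk (nat_lit 4) (nat_lit 86) (Steps.fwd (nat_lit 49152) (Steps.fwd (nat_lit 24576) (Steps.bwd (nat_lit 1) (Steps.fwd (nat_lit 32768) (Steps.bwd (nat_lit 6) Steps.nil))))) (nat_lit 26) (nat_lit 0),
  Rule.mk (nat_lit 0) (nat_lit 161) (Steps.bwd (nat_lit 3) (Steps.bwd (nat_lit 6) (Steps.fwd (nat_lit 32768) (Steps.bwd (nat_lit 6) (Steps.bwd (nat_lit 3) (Steps.fwd (nat_lit 40960) (Steps.bwd (nat_lit 3) (Steps.bwd (nat_lit 6) (Steps.bwd (nat_lit 3) (Steps.fwd (nat_lit 40960) Steps.nil)))))))))) (nat_lit 51) (nat_lit 1),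
  Rule.mk (nat_lit 0) (nat_lit 131) (Steps.bwd (nat_lit 1) (Steps.fwd (nat_lit 40960) (Steps.bwd (nat_lit 3) (Steps.bwd (nat_lit 5) (Steps.bwd (nat_lit 1) (Steps.bwd (nat_lit 6) (Steps.fwd (nat_lit 32768) (Steps.bwd (nat_lit 5) Steps.nil)))))))) (nat_lit 36) (nat_lit 0),
  Rule.mk (nat_lit 0) (nat_lit 101) (Steps.fwd (nat_lit 24576) (Steps.fwd (nat_lit 49152) (Steps.bwd (nat_lit 4) (Steps.fwd (nat_lit 16384) (Steps.bwd (nat_lit 3) (Steps.bwd (nat_lit 6) Steps.nil)))))) (nat_lit 26) (nat_lit 5),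
  Rule.mk (nat_lit 5) (nat_lit 116) (Steps.bwd (nat_lit 1) (Steps.fwd (nat_lit 40960) (Steps.fwd (nat_lit 32768) (Steps.bwd (nat_lit 5) (Steps.fwd (nat_lit 16384) (Steps.fwd (nat_lit 40960) (Steps.fwd (nat_lit 32768) Steps.nil))))))) (nat_lit 36) (nat_lit 0),
  Rule.mk (nat_lit 5) (nat_lit 116) (Steps.bwd (nat_lit 1) (Steps.fwd (nat_lit 40960) (Steps.bwd (nat_lit 3) (Steps.fwd (nat_lit 49152) (Steps.fwd (nat_lit 16384) (Steps.fwd (nat_lit 40960) (Steps.bwd (nat_lit 3) Steps.nil))))))) (nat_lit 36) (nat_lit 0),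
  Rule.mk (nat_lit 6) (nat_lit 116) (Steps.bwd (nat_lit 4) (Steps.bwd (nat_lit 5) (Steps.fwd (nat_lit 8192) (Steps.bwd (nat_lit 6) (Steps.fwd (nat_lit 24576) (Steps.fwd (nat_lit 49152) (Steps.bwd (nat_lit 2) Steps.nil))))))) (nat_lit 37) (nat_lit 1),
  Rule.mk (nat_lit 1) (nat_lit 116) (Steps.fwd (nat_lit 40960) (Steps.bwd (nat_lit 3) (Steps.fwd (nat_lit 49152) (Steps.fwd (nat_lit 16384) (Steps.fwd (nat_lit 40960) (Steps.bwd (nat_lit 3) (Steps.bwd (nat_lit 5) Steps.nil))))))) (nat_lit 36) (nat_lit 1),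
  Rule.mk (nat_lit 6) (nat_lit 116) (Steps.bwd (nat_lit 3) (Steps.bwd (nat_lit 5) (Steps.fwd (nat_lit 16384) (Steps.fwd (nat_lit 40960) (Steps.bwd (nat_lit 3) (Steps.fwd (nat_lit 49152) (Steps.fwd (nat_lit 16384) Steps.nil))))))) (nat_lit 36) (nat_lit 2),
  Rule.mk (nat_lit 4) (nat_lit 146) (Steps.bwd (nat_lit 5) (Steps.fwd (nat_lit 24576) (Steps.fwd (nat_lit 49152) (Steps.bwd (nat_lit 4) (Steps.fwd (nat_lit 49152) (Steps.bwd (nat_lit 4) (Steps.bwd (nat_lit 5) (Steps.fwd (nat_lit 24576) (Steps.bwd (nat_lit 5) Steps.nil))))))))) (nat_lit 50) (nat_lit 1),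
  Rule.mk (nat_lit 0) (nat_lit 131) (Steps.fwd (nat_lit 40960) (Steps.fwd (nat_lit 24576) (Steps.bwd (nat_lit 5) (Steps.bwd (nat_lit 2) (Steps.bwd (nat_lit 6) (Steps.fwd (nat_lit 24576) (Steps.bwd (nat_lit 5) (Steps.fwd (nat_lit 8192) Steps.nil)))))))) (nat_lit 37) (nat_lit 0),
  Rule.mk (nat_lit 3) (nat_lit 146) (Steps.bwd (nat_lit 6) (Steps.bwd (nat_lit 3) (Steps.bwd (nat_lit 6) (Steps.bwd (nat_lit 3) (Steps.bwd (nat_lit 6) (Steps.fwd (nat_lit 32768) (Steps.bwd (nat_lit 6) (Steps.fwd (nat_lit 32768) (Steps.bwd (nat_lit 6) Steps.nil))))))))) (nat_lit 51) (nat_lit 0),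
  Rule.mk (nat_lit 0) (nat_lit 101) (Steps.bwd (nat_lit 2) (Steps.fwd (nat_lit 32768) (Steps.fwd (nat_lit 40960) (Steps.fwd (nat_lit 32768) (Steps.fwd (nat_lit 49152) (Steps.fwd (nat_lit 24576) Steps.nil)))))) (nat_lit 27) (nat_lit 3),
  Rule.mk (nat_lit 5) (nat_lit 86) (Steps.bwd (nat_lit 4) (Steps.fwd (nat_lit 8192) (Steps.bwd (nat_lit 3) (Steps.fwd (nat_lit 40960) (Steps.bwd (nat_lit 3) Steps.nil))))) (nat_lit 27) (nat_lit 2),
  Rule.mk (nat_lit 0) (nat_lit 131) (Steps.fwd (nat_lit 40960) (Steps.fwd (nat_lit 24576) (Steps.bwd (nat_lit 5) (Steps.bwd (nat_lit 2) (Steps.fwd (nat_lit 40960) (Steps.bwd (nat_lit 4) (Steps.fwd (nat_lit 49152) (Steps.bwd (nat_lit 2) Steps.nil)))))))) (nat_lit 37) (nat_lit 0),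
  Rule.mk (nat_lit 5) (nat_lit 116) (Steps.bwd (nat_lit 1) (Steps.fwd (nat_lit 40960) (Steps.fwd (nat_lit 32768) (Steps.bwd (nat_lit 5) (Steps.fwd (nat_lit 16384) (Steps.bwd (nat_lit 6) (Steps.fwd (nat_lit 32768) Steps.nil))))))) (nat_lit 36) (nat_lit 0),
  Rule.mk (nat_lit 3) (nat_lit 146) (Steps.bwd (nat_lit 6) (Steps.bwd (nat_lit 3) (Steps.bwd (nat_lit 6) (Steps.fwd (nat_lit 32768) (Steps.bwd (nat_lit 6) (Steps.bwd (nat_lit 3) (Steps.bwd (nat_lit 6) (Steps.fwd (nat_lit 32768) (Steps.bwd (nat_lit 6) Steps.nil))))))))) (nat_lit 51) (nat_lit 0),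
  Rule.mk (nat_lit 5) (nat_lit 116) (Steps.bwd (nat_lit 2) (Steps.fwd (nat_lit 40960) (Steps.fwd (nat_lit 24576) (Steps.fwd (nat_lit 49152) (Steps.fwd (nat_lit 8192) (Steps.bwd (nat_lit 6) (Steps.bwd (nat_lit 4) Steps.nil))))))) (nat_lit 37) (nat_lit 3),
  Rule.mk (nat_lit 0) (nat_lit 161) (Steps.fwd (nat_lit 32768) (Steps.fwd (nat_lit 40960) (Steps.fwd (nat_lit 32768) (Steps.fwd (nat_lit 40960) (Steps.bwd (nat_lit 3) (Steps.bwd (nat_lit 6) (Steps.bwd (nat_lit 3) (Steps.bwd (nat_lit 6) (Steps.fwd (nat_lit 32768) (Steps.bwd (nat_lit 6) Steps.nil)))))))))) (nat_lit 51) (nat_lit 1),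
  Rule.mk (nat_lit 0) (nat_lit 101) (Steps.bwd (nat_lit 6) (Steps.fwd (nat_lit 24576) (Steps.fwd (nat_lit 49152) (Steps.bwd (nat_lit 4) (Steps.bwd (nat_lit 1) (Steps.bwd (nat_lit 3) Steps.nil)))))) (nat_lit 26) (nat_lit 4),
  Rule.mk (nat_lit 4) (nat_lit 86) (Steps.bwd (nat_lit 5) (Steps.bwd (nat_lit 4) (Steps.fwd (nat_lit 16384) (Steps.bwd (nat_lit 3) (Steps.fwd (nat_lit 40960) Steps.nil))))) (nat_lit 26) (nat_lit 0),
  Rule.mk (nat_lit 3) (nat_lit 146) (Steps.bwd (nat_lit 6) (Steps.fwd (nat_lit 32768) (Steps.fwd (nat_lit 40960) (Steps.fwd (nat_lit 32768) (Steps.fwd (nat_lit 40960) (Steps.bwd (nat_lit 3) (Steps.bwd (nat_lit 6) (Steps.fwd (nat_lit 32768) (Steps.bwd (nat_lit 6) Steps.nil))))))))) (nat_lit 51) (nat_lit 0),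
  Rule.mk (nat_lit 1) (nat_lit 116) (Steps.bwd (nat_lit 6) (Steps.fwd (nat_lit 32768) (Steps.bwd (nat_lit 5) (Steps.fwd (nat_lit 16384) (Steps.bwd (nat_lit 6) (Steps.fwd (nat_lit 32768) (Steps.bwd (nat_lit 5) Steps.nil))))))) (nat_lit 36) (nat_lit 1),
  Rule.mk (nat_lit 3) (nat_lit 116) (Steps.bwd (nat_lit 5) (Steps.fwd (nat_lit 16384) (Steps.fwd (nat_lit 40960) (Steps.bwd (nat_lit 3) (Steps.bwd (nat_lit 5) (Steps.fwd (nat_lit 16384) (Steps.bwd (nat_lit 6) Steps.nil))))))) (nat_lit 36) (nat_lit 3),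
  Rule.mk (nat_lit 6) (nat_lit 116) (Steps.bwd (nat_lit 3) (Steps.bwd (nat_lit 5) (Steps.fwd (nat_lit 16384) (Steps.fwd (nat_lit 40960) (Steps.bwd (nat_lit 3) (Steps.bwd (nat_lit 5) (Steps.bwd (nat_lit 1) Steps.nil))))))) (nat_lit 36) (nat_lit 2),
  Rule.mk (nat_lit 4) (nat_lit 86) (Steps.bwd (nat_lit 5) (Steps.fwd (nat_lit 24576) (Steps.bwd (nat_lit 1) (Steps.fwd (nat_lit 32768) (Steps.bwd (nat_lit 6) Steps.nil))))) (nat_lit 26) (nat_lit 0),
  Rule.mk (nat_lit 5) (nat_lit 146) (Steps.bwd (nat_lit 4) (Steps.bwd (nat_lit 5) (Steps.bwd (nat_lit 4) (Steps.fwd (nat_lit 49152) (Steps.bwd (nat_lit 4) (Steps.fwd (nat_lit 49152) (Steps.bwd (nat_lit 4) (Steps.bwd (nat_lit 5) (Steps.bwd (nat_lit 4) Steps.nil))))))))) (nat_lit 50) (nat_lit 0),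
  Rule.mk (nat_lit 0) (nat_lit 161) (Steps.bwd (nat_lit 3) (Steps.bwd (nat_lit 6) (Steps.bwd (nat_lit 3) (Steps.bwd (nat_lit 6) (Steps.bwd (nat_lit 3) (Steps.bwd (nat_lit 6) (Steps.fwd (nat_lit 32768) (Steps.fwd (nat_lit 40960) (Steps.bwd (nat_lit 3) (Steps.bwd (nat_lit 6) Steps.nil)))))))))) (nat_lit 51) (nat_lit 1),
  Rule.mk (nat_lit 0) (nat_lit 131) (Steps.bwd (nat_lit 2) (Steps.bwd (nat_lit 6) (Steps.bwd (nat_lit 4) (Steps.fwd (nat_lit 49152) (Steps.fwd (nat_lit 8192) (Steps.fwd (nat_lit 40960) (Steps.fwd (nat_lit 24576) (Steps.fwd (nat_lit 49152) Steps.nil)))))))) (nat_lit 37) (nat_lit 3),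
  Rule.mk (nat_lit 6) (nat_lit 116) (Steps.bwd (nat_lit 3) (Steps.fwd (nat_lit 49152) (Steps.bwd (nat_lit 1) (Steps.fwd (nat_lit 40960) (Steps.fwd (nat_lit 32768) (Steps.fwd (nat_lit 49152) (Steps.bwd (nat_lit 1) Steps.nil))))))) (nat_lit 36) (nat_lit 2),
  Rule.mk (nat_lit 0) (nat_lit 101) (Steps.bwd (nat_lit 3) (Steps.bwd (nat_lit 6) (Steps.fwd (nat_lit 24576) (Steps.bwd (nat_lit 5) (Steps.bwd (nat_lit 4) (Steps.fwd (nat_lit 16384) Steps.nil)))))) (nat_lit 26) (nat_lit 3),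
  Rule.mk (nat_lit 6) (nat_lit 146) (Steps.fwd (nat_lit 32768) (Steps.fwd (nat_lit 40960) (Steps.fwd (nat_lit 32768) (Steps.fwd (nat_lit 40960) (Steps.bwd (nat_lit 3) (Steps.bwd (nat_lit 6) (Steps.bwd (nat_lit 3) (Steps.fwd (nat_lit 40960) (Steps.fwd (nat_lit 32768) Steps.nil))))))))) (nat_lit 51) (nat_lit 1),
  Rule.mk (nat_lit 1) (nat_lit 116) (Steps.bwd (nat_lit 6) (Steps.fwd (nat_lit 32768) (Steps.fwd (nat_lit 49152) (Steps.bwd (nat_lit 1) (Steps.fwd (nat_lit 40960) (Steps.bwd (nat_lit 3) (Steps.bwd (nat_lit 5) Steps.nil))))))) (nat_lit 36) (nat_lit 1),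
  Rule.mk (nat_lit 6) (nat_lit 146) (Steps.bwd (nat_lit 3) (Steps.bwd (nat_lit 6) (Steps.bwd (nat_lit 3) (Steps.fwd (nat_lit 40960) (Steps.bwd (nat_lit 3) (Steps.fwd (nat_lit 40960) (Steps.bwd (nat_lit 3) (Steps.bwd (nat_lit 6) (Steps.bwd (nat_lit 3) Steps.nil))))))))) (nat_lit 51) (nat_lit 1),
  Rule.mk (nat_lit 6) (nat_lit 86) (Steps.bwd (nat_lit 4) (Steps.bwd (nat_lit 5) (Steps.fwd (nat_lit 24576) (Steps.fwd (nat_lit 16384) (Steps.bwd (nat_lit 3) Steps.nil))))) (nat_lit 26) (nat_lit 5),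
  Rule.mk (nat_lit 6) (nat_lit 146) (Steps.bwd (nat_lit 3) (Steps.fwd (nat_lit 40960) (Steps.fwd (nat_lit 32768) (Steps.fwd (nat_lit 40960) (Steps.bwd (nat_lit 3) (Steps.fwd (nat_lit 40960) (Steps.fwd (nat_lit 32768) (Steps.bwd (nat_lit 6) (Steps.bwd (nat_lit 3) Steps.nil))))))))) (nat_lit 51) (nat_lit 1),
  Rule.mk (nat_lit 3) (nat_lit 86) (Steps.fwd (nat_lit 40960) (Steps.fwd (nat_lit 24576) (Steps.fwd (nat_lit 49152) (Steps.bwd (nat_lit 4) (Steps.bwd (nat_lit 1) Steps.nil))))) (nat_lit 26) (nat_lit 4),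
  Rule.mk (nat_lit 0) (nat_lit 101) (Steps.fwd (nat_lit 32768) (Steps.bwd (nat_lit 6) (Steps.bwd (nat_lit 4) (Steps.bwd (nat_lit 5) (Steps.fwd (nat_lit 24576) (Steps.bwd (nat_lit 1) Steps.nil)))))) (nat_lit 26) (nat_lit 3),
  Rule.mk (nat_lit 4) (nat_lit 86) (Steps.bwd (nat_lit 1) (Steps.fwd (nat_lit 32768) (Steps.bwd (nat_lit 6) (Steps.bwd (nat_lit 4) (Steps.fwd (nat_lit 49152) Steps.nil))))) (nat_lit 26) (nat_lit 2),
  Rule.mk (nat_lit 2) (nat_lit 116) (Steps.bwd (nat_lit 6) (Steps.fwd (nat_lit 24576) (Steps.bwd (nat_lit 5) (Steps.fwd (nat_lit 8192) (Steps.fwd (nat_lit 40960) (Steps.fwd (nat_lit 24576) (Steps.fwd (nat_lit 49152) Steps.nil))))))) (nat_lit 37) (nat_lit 0),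
  Rule.mk (nat_lit 2) (nat_lit 116) (Steps.bwd (nat_lit 6) (Steps.fwd (nat_lit 24576) (Steps.fwd (nat_lit 49152) (Steps.fwd (nat_lit 8192) (Steps.fwd (nat_lit 40960) (Steps.fwd (nat_lit 24576) (Steps.fwd (nat_lit 49152) Steps.nil))))))) (nat_lit 37) (nat_lit 0),
  Rule.mk (nat_lit 4) (nat_lit 86) (Steps.bwd (nat_lit 5) (Steps.fwd (nat_lit 24576) (Steps.fwd (nat_lit 16384) (Steps.bwd (nat_lit 3) (Steps.bwd (nat_lit 6) Steps.nil))))) (nat_lit 26) (nat_lit 0),
  Rule.mk (nat_lit 0) (nat_lit 161) (Steps.fwd (nat_lit 24576) (Steps.fwd (nat_lit 49152) (Steps.bwd (nat_lit 4) (Steps.bwd (nat_lit 5) (Steps.fwd (nat_lit 24576) (Steps.fwd (nat_lit 49152) (Steps.fwd (nat_lit 24576) (Steps.fwd (nat_lit 49152) (Steps.fwd (nat_lit 24576) (Steps.fwd (nat_lit 49152) Steps.nil)))))))))) (nat_lit 50) (nat_lit 0),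
  Rule.mk (nat_lit 0) (nat_lit 101) (Steps.fwd (nat_lit 32768) (Steps.bwd (nat_lit 6) (Steps.bwd (nat_lit 3) (Steps.bwd (nat_lit 5) (Steps.fwd (nat_lit 24576) (Steps.fwd (nat_lit 8192) Steps.nil)))))) (nat_lit 27) (nat_lit 4),
  Rule.mk (nat_lit 0) (nat_lit 131) (Steps.fwd (nat_lit 8192) (Steps.bwd (nat_lit 6) (Steps.fwd (nat_lit 24576) (Steps.fwd (nat_lit 49152) (Steps.fwd (nat_lit 8192) (Steps.fwd (nat_lit 40960) (Steps.fwd (nat_lit 24576) (Steps.bwd (nat_lit 5) Steps.nil)))))))) (nat_lit 37) (nat_lit 3),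
  Rule.mk (nat_lit 2) (nat_lit 116) (Steps.fwd (nat_lit 40960) (Steps.fwd (nat_lit 24576) (Steps.bwd (nat_lit 5) (Steps.bwd (nat_lit 2) (Steps.fwd (nat_lit 40960) (Steps.fwd (nat_lit 24576) (Steps.fwd (nat_lit 49152) Steps.nil))))))) (nat_lit 37) (nat_lit 0),
  Rule.mk (nat_lit 3) (nat_lit 116) (Steps.bwd (nat_lit 5) (Steps.fwd (nat_lit 16384) (Steps.bwd (nat_lit 6) (Steps.bwd (nat_lit 3) (Steps.fwd (nat_lit 49152) (Steps.fwd (nat_lit 16384) (Steps.bwd (nat_lit 6) Steps.nil))))))) (nat_lit 36) (nat_lit 3),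
  Rule.mk (nat_lit 5) (nat_lit 116) (Steps.fwd (nat_lit 16384) (Steps.fwd (nat_lit 40960) (Steps.fwd (nat_lit 32768) (Steps.bwd (nat_lit 5) (Steps.fwd (nat_lit 16384) (Steps.fwd (nat_lit 40960) (Steps.bwd (nat_lit 3) Steps.nil))))))) (nat_lit 36) (nat_lit 0),
  Rule.mk (nat_lit 3) (nat_lit 116) (Steps.bwd (nat_lit 5) (Steps.fwd (nat_lit 16384) (Steps.bwd (nat_lit 6) (Steps.fwd (nat_lit 32768) (Steps.fwd (nat_lit 49152) (Steps.bwd (nat_lit 1) (Steps.bwd (nat_lit 6) Steps.nil))))))) (nat_lit 36) (nat_lit 3),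
  Rule.mk (nat_lit 3) (nat_lit 146) (Steps.bwd (nat_lit 6) (Steps.bwd (nat_lit 3) (Steps.fwd (nat_lit 40960) (Steps.fwd (nat_lit 32768) (Steps.fwd (nat_lit 40960) (Steps.fwd (nat_lit 32768) (Steps.bwd (nat_lit 6) (Steps.bwd (nat_lit 3) (Steps.bwd (nat_lit 6) Steps.nil))))))))) (nat_lit 51) (nat_lit 0),
  Rule.mk (nat_lit 3) (nat_lit 146) (Steps.bwd (nat_lit 6) (Steps.fwd (nat_lit 32768) (Steps.fwd (nat_lit 40960) (Steps.bwd (nat_lit 3) (Steps.fwd (nat_lit 40960) (Steps.fwd (nat_lit 32768) (Steps.bwd (nat_lit 6) (Steps.bwd (nat_lit 3) (Steps.bwd (nat_lit 6) Steps.nil))))))))) (nat_lit 51) (nat_lit 0),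
  Rule.mk (nat_lit 6) (nat_lit 116) (Steps.fwd (nat_lit 32768) (Steps.bwd (nat_lit 5) (Steps.bwd (nat_lit 1) (Steps.bwd (nat_lit 6) (Steps.fwd (nat_lit 32768) (Steps.fwd (nat_lit 49152) (Steps.bwd (nat_lit 1) Steps.nil))))))) (nat_lit 36) (nat_lit 2),
  Rule.mk (nat_lit 4) (nat_lit 116) (Steps.bwd (nat_lit 5) (Steps.bwd (nat_lit 2) (Steps.bwd (nat_lit 6) (Steps.fwd (nat_lit 24576) (Steps.fwd (nat_lit 49152) (Steps.fwd (nat_lit 8192) (Steps.fwd (nat_lit 40960) Steps.nil))))))) (nat_lit 37) (nat_lit 2),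
  Rule.mk (nat_lit 4) (nat_lit 146) (Steps.bwd (nat_lit 5) (Steps.fwd (nat_lit 24576) (Steps.fwd (nat_lit 49152) (Steps.bwd (nat_lit 4) (Steps.bwd (nat_lit 5) (Steps.bwd (nat_lit 4) (Steps.bwd (nat_lit 5) (Steps.bwd (nat_lit 4) (Steps.bwd (nat_lit 5) Steps.nil))))))))) (nat_lit 50) (nat_lit 1),
  Rule.mk (nat_lit 6) (nat_lit 116) (Steps.bwd (nat_lit 4) (Steps.fwd (nat_lit 49152) (Steps.bwd (nat_lit 2) (Steps.bwd (nat_lit 6) (Steps.fwd (nat_lit 24576) (Steps.fwd (nat_lit 49152) (Steps.bwd (nat_lit 2) Steps.nil))))))) (nat_lit 37) (nat_lit 1),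
  Rule.mk (nat_lit 6) (nat_lit 86) (Steps.fwd (nat_lit 32768) (Steps.bwd (nat_lit 5) (Steps.fwd (nat_lit 24576) (Steps.fwd (nat_lit 8192) (Steps.fwd (nat_lit 32768) Steps.nil))))) (nat_lit 27) (nat_lit 0),
  Rule.mk (nat_lit 5) (nat_lit 116) (Steps.fwd (nat_lit 16384) (Steps.fwd (nat_lit 40960) (Steps.fwd (nat_lit 32768) (Steps.bwd (nat_lit 5) (Steps.fwd (nat_lit 16384) (Steps.bwd (nat_lit 6) (Steps.fwd (nat_lit 32768) Steps.nil))))))) (nat_lit 36) (nat_lit 0),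
  Rule.mk (nat_lit 5) (nat_lit 86) (Steps.bwd (nat_lit 4) (Steps.fwd (nat_lit 8192) (Steps.bwd (nat_lit 3) (Steps.bwd (nat_lit 6) (Steps.fwd (nat_lit 32768) Steps.nil))))) (nat_lit 27) (nat_lit 2)]
noncomputable def R_18 : List (Rule) := [Rule.mk (nat_lit 2) (nat_lit 86) (Steps.fwd (nat_lit 32768) (Steps.bwd (nat_lit 6) (Steps.fwd (nat_lit 32768) (Steps.fwd (nat_lit 49152) (Steps.fwd (nat_lit 24576) Steps.nil))))) (nat_lit 27) (nat_lit 4),
  Rule.mk (nat_lit 1) (nat_lit 116) (Steps.fwd (nat_lit 40960) (Steps.fwd (nat_lit 32768) (Steps.fwd (nat_lit 49152) (Steps.fwd (nat_lit 16384) (Steps.bwd (nat_lit 6) (Steps.fwd (nat_lit 32768) (Steps.fwd (nat_lit 49152) Steps.nil))))))) (nat_lit 36) (nat_lit 1),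
  Rule.mk (nat_lit 2) (nat_lit 116) (Steps.fwd (nat_lit 40960) (Steps.bwd (nat_lit 4) (Steps.fwd (nat_lit 49152) (Steps.bwd (nat_lit 2) (Steps.fwd (nat_lit 40960) (Steps.fwd (nat_lit 24576) (Steps.fwd (nat_lit 49152) Steps.nil))))))) (nat_lit 37) (nat_lit 0),
  Rule.mk (nat_lit 3) (nat_lit 86) (Steps.fwd (nat_lit 40960) (Steps.bwd (nat_lit 4) (Steps.bwd (nat_lit 5) (Steps.fwd (nat_lit 24576) (Steps.bwd (nat_lit 1) Steps.nil))))) (nat_lit 26) (nat_lit 4),
  Rule.mk (nat_lit 6) (nat_lit 116) (Steps.bwd (nat_lit 3) (Steps.fwd (nat_lit 49152) (Steps.bwd (nat_lit 1) (Steps.bwd (nat_lit 6) (Steps.bwd (nat_lit 3) (Steps.fwd (nat_lit 49152) (Steps.fwd (nat_lit 16384) Steps.nil))))))) (nat_lit 36) (nat_lit 2),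
  Rule.mk (nat_lit 1) (nat_lit 116) (Steps.fwd (nat_lit 40960) (Steps.fwd (nat_lit 32768) (Steps.fwd (nat_lit 49152) (Steps.bwd (nat_lit 1) (Steps.bwd (nat_lit 6) (Steps.fwd (nat_lit 32768) (Steps.bwd (nat_lit 5) Steps.nil))))))) (nat_lit 36) (nat_lit 1),
  Rule.mk (nat_lit 0) (nat_lit 101) (Steps.fwd (nat_lit 16384) (Steps.fwd (nat_lit 32768) (Steps.fwd (nat_lit 40960) (Steps.fwd (nat_lit 24576) (Steps.fwd (nat_lit 49152) (Steps.fwd (nat_lit 24576) Steps.nil)))))) (nat_lit 26) (nat_lit 2),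
  Rule.mk (nat_lit 2) (nat_lit 116) (Steps.bwd (nat_lit 6) (Steps.fwd (nat_lit 24576) (Steps.fwd (nat_lit 49152) (Steps.bwd (nat_lit 2) (Steps.bwd (nat_lit 6) (Steps.bwd (nat_lit 4) (Steps.bwd (nat_lit 5) Steps.nil))))))) (nat_lit 37) (nat_lit 0),
  Rule.mk (nat_lit 6) (nat_lit 116) (Steps.fwd (nat_lit 32768) (Steps.bwd (nat_lit 5) (Steps.bwd (nat_lit 1) (Steps.bwd (nat_lit 6) (Steps.bwd (nat_lit 3) (Steps.bwd (nat_lit 5) (Steps.fwd (nat_lit 16384) Steps.nil))))))) (nat_lit 36) (nat_lit 2),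
  Rule.mk (nat_lit 5) (nat_lit 116) (Steps.bwd (nat_lit 1) (Steps.fwd (nat_lit 40960) (Steps.bwd (nat_lit 3) (Steps.fwd (nat_lit 49152) (Steps.fwd (nat_lit 16384) (Steps.bwd (nat_lit 6) (Steps.bwd (nat_lit 3) Steps.nil))))))) (nat_lit 36) (nat_lit 0),
  Rule.mk (nat_lit 3) (nat_lit 146) (Steps.bwd (nat_lit 6) (Steps.fwd (nat_lit 32768) (Steps.bwd (nat_lit 6) (Steps.bwd (nat_lit 3) (Steps.fwd (nat_lit 40960) (Steps.fwd (nat_lit 32768) (Steps.bwd (nat_lit 6) (Steps.bwd (nat_lit 3) (Steps.bwd (nat_lit 6) Steps.nil))))))))) (nat_lit 51) (nat_lit 0),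
  Rule.mk (nat_lit 6) (nat_lit 146) (Steps.fwd (nat_lit 32768) (Steps.fwd (nat_lit 40960) (Steps.fwd (nat_lit 32768) (Steps.fwd (nat_lit 40960) (Steps.fwd (nat_lit 32768) (Steps.fwd (nat_lit 40960) (Steps.bwd (nat_lit 3) (Steps.fwd (nat_lit 40960) (Steps.bwd (nat_lit 3) Steps.nil))))))))) (nat_lit 51) (nat_lit 1),
  Rule.mk (nat_lit 0) (nat_lit 101) (Steps.bwd (nat_lit 1) (Steps.fwd (nat_lit 32768) (Steps.fwd (nat_lit 40960) (Steps.bwd (nat_lit 4) (Steps.bwd (nat_lit 5) (Steps.fwd (nat_lit 24576) Steps.nil)))))) (nat_lit 26) (nat_lit 2),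
  Rule.mk (nat_lit 0) (nat_lit 131) (Steps.bwd (nat_lit 2) (Steps.fwd (nat_lit 40960) (Steps.bwd (nat_lit 4) (Steps.bwd (nat_lit 5) (Steps.bwd (nat_lit 2) (Steps.bwd (nat_lit 6) (Steps.fwd (nat_lit 24576) (Steps.fwd (nat_lit 49152) Steps.nil)))))))) (nat_lit 37) (nat_lit 3),
  Rule.mk (nat_lit 2) (nat_lit 116) (Steps.fwd (nat_lit 40960) (Steps.fwd (nat_lit 24576) (Steps.fwd (nat_lit 49152) (Steps.bwd (nat_lit 2) (Steps.fwd (nat_lit 40960) (Steps.bwd (nat_lit 4) (Steps.fwd (nat_lit 49152) Steps.nil))))))) (nat_lit 37) (nat_lit 0),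
  Rule.mk (nat_lit 6) (nat_lit 86) (Steps.fwd (nat_lit 24576) (Steps.fwd (nat_lit 49152) (Steps.bwd (nat_lit 4) (Steps.fwd (nat_lit 16384) (Steps.bwd (nat_lit 3) Steps.nil))))) (nat_lit 26) (nat_lit 5),
  Rule.mk (nat_lit 0) (nat_lit 131) (Steps.fwd (nat_lit 16384) (Steps.bwd (nat_lit 6) (Steps.bwd (nat_lit 3) (Steps.bwd (nat_lit 5) (Steps.fwd (nat_lit 16384) (Steps.bwd (nat_lit 6) (Steps.bwd (nat_lit 3) (Steps.fwd (nat_lit 49152) Steps.nil)))))))) (nat_lit 36) (nat_lit 0),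
  Rule.mk (nat_lit 5) (nat_lit 116) (Steps.bwd (nat_lit 2) (Steps.fwd (nat_lit 40960) (Steps.fwd (nat_lit 24576) (Steps.bwd (nat_lit 5) (Steps.bwd (nat_lit 2) (Steps.bwd (nat_lit 6) (Steps.fwd (nat_lit 24576) Steps.nil))))))) (nat_lit 37) (nat_lit 3),
  Rule.mk (nat_lit 6) (nat_lit 86) (Steps.bwd (nat_lit 4) (Steps.fwd (nat_lit 49152) (Steps.bwd (nat_lit 4) (Steps.bwd (nat_lit 1) (Steps.fwd (nat_lit 32768) Steps.nil))))) (nat_lit 26) (nat_lit 5),
  Rule.mk (nat_lit 6) (nat_lit 116) (Steps.fwd (nat_lit 24576) (Steps.fwd (nat_lit 49152) (Steps.bwd (nat_lit 2) (Steps.bwd (nat_lit 6) (Steps.fwd (nat_lit 24576) (Steps.fwd (nat_lit 49152) (Steps.fwd (nat_lit 8192) Steps.nil))))))) (nat_lit 37) (nat_lit 1),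
  Rule.mk (nat_lit 5) (nat_lit 116) (Steps.bwd (nat_lit 1) (Steps.fwd (nat_lit 40960) (Steps.bwd (nat_lit 3) (Steps.fwd (nat_lit 49152) (Steps.bwd (nat_lit 1) (Steps.fwd (nat_lit 40960) (Steps.bwd (nat_lit 3) Steps.nil))))))) (nat_lit 36) (nat_lit 0),
  Rule.mk (nat_lit 5) (nat_lit 146) (Steps.fwd (nat_lit 24576) (Steps.fwd (nat_lit 49152) (Steps.bwd (nat_lit 4) (Steps.bwd (nat_lit 5) (Steps.bwd (nat_lit 4) (Steps.fwd (nat_lit 49152) (Steps.fwd (nat_lit 24576) (Steps.bwd (nat_lit 5) (Steps.bwd (nat_lit 4) Steps.nil))))))))) (nat_lit 50) (nat_lit 0),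
  Rule.mk (nat_lit 5) (nat_lit 146) (Steps.fwd (nat_lit 24576) (Steps.bwd (nat_lit 5) (Steps.bwd (nat_lit 4) (Steps.fwd (nat_lit 49152) (Steps.fwd (nat_lit 24576) (Steps.fwd (nat_lit 49152) (Steps.fwd (nat_lit 24576) (Steps.bwd (nat_lit 5) (Steps.bwd (nat_lit 4) Steps.nil))))))))) (nat_lit 50) (nat_lit 0),
  Rule.mk (nat_lit 6) (nat_lit 86) (Steps.bwd (nat_lit 4) (Steps.fwd (nat_lit 49152) (Steps.fwd (nat_lit 24576) (Steps.bwd (nat_lit 1) (Steps.fwd (nat_lit 32768) Steps.nil))))) (nat_lit 26) (nat_lit 5),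
  Rule.mk (nat_lit 3) (nat_lit 116) (Steps.fwd (nat_lit 49152) (Steps.fwd (nat_lit 16384) (Steps.bwd (nat_lit 6) (Steps.fwd (nat_lit 32768) (Steps.bwd (nat_lit 5) (Steps.bwd (nat_lit 1) (Steps.bwd (nat_lit 6) Steps.nil))))))) (nat_lit 36) (nat_lit 3),
  Rule.mk (nat_lit 0) (nat_lit 161) (Steps.fwd (nat_lit 49152) (Steps.fwd (nat_lit 24576) (Steps.fwd (nat_lit 49152) (Steps.fwd (nat_lit 24576) (Steps.bwd (nat_lit 5) (Steps.fwd (nat_lit 24576) (Steps.fwd (nat_lit 49152) (Steps.bwd (nat_lit 4) (Steps.bwd (nat_lit 5) (Steps.bwd (nat_lit 4) Steps.nil)))))))))) (nat_lit 50) (nat_lit 1),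
  Rule.mk (nat_lit 0) (nat_lit 131) (Steps.bwd (nat_lit 1) (Steps.fwd (nat_lit 40960) (Steps.bwd (nat_lit 3) (Steps.bwd (nat_lit 5) (Steps.fwd (nat_lit 16384) (Steps.fwd (nat_lit 40960) (Steps.fwd (nat_lit 32768) (Steps.bwd (nat_lit 5) Steps.nil)))))))) (nat_lit 36) (nat_lit 0),
  Rule.mk (nat_lit 0) (nat_lit 101) (Steps.bwd (nat_lit 4) (Steps.bwd (nat_lit 2) (Steps.fwd (nat_lit 32768) (Steps.fwd (nat_lit 40960) (Steps.bwd (nat_lit 3) (Steps.bwd (nat_lit 5) Steps.nil)))))) (nat_lit 27) (nat_lit 2),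
  Rule.mk (nat_lit 5) (nat_lit 146) (Steps.bwd (nat_lit 4) (Steps.bwd (nat_lit 5) (Steps.bwd (nat_lit 4) (Steps.fwd (nat_lit 49152) (Steps.bwd (nat_lit 4) (Steps.fwd (nat_lit 49152) (Steps.fwd (nat_lit 24576) (Steps.bwd (nat_lit 5) (Steps.bwd (nat_lit 4) Steps.nil))))))))) (nat_lit 50) (nat_lit 0),
  Rule.mk (nat_lit 0) (nat_lit 101) (Steps.fwd (nat_lit 24576) (Steps.fwd (nat_lit 49152) (Steps.fwd (nat_lit 24576) (Steps.bwd (nat_lit 1) (Steps.bwd (nat_lit 3) (Steps.bwd (nat_lit 6) Steps.nil)))))) (nat_lit 26) (nat_lit 5),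
  Rule.mk (nat_lit 5) (nat_lit 86) (Steps.fwd (nat_lit 24576) (Steps.bwd (nat_lit 2) (Steps.bwd (nat_lit 3) (Steps.bwd (nat_lit 6) (Steps.bwd (nat_lit 3) Steps.nil))))) (nat_lit 27) (nat_lit 2),
  Rule.mk (nat_lit 4) (nat_lit 116) (Steps.bwd (nat_lit 5) (Steps.bwd (nat_lit 2) (Steps.fwd (nat_lit 40960) (Steps.fwd (nat_lit 24576) (Steps.fwd (nat_lit 49152) (Steps.bwd (nat_lit 2) (Steps.fwd (nat_lit 40960) Steps.nil))))))) (nat_lit 37) (nat_lit 2),
  Rule.mk (nat_lit 1) (nat_lit 116) (Steps.bwd (nat_lit 6) (Steps.fwd (nat_lit 32768) (Steps.bwd (nat_lit 5) (Steps.fwd (nat_lit 16384) (Steps.fwd (nat_lit 40960) (Steps.bwd (nat_lit 3) (Steps.fwd (nat_lit 49152) Steps.nil))))))) (nat_lit 36) (nat_lit 1),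
  Rule.mk (nat_lit 5) (nat_lit 146) (Steps.bwd (nat_lit 4) (Steps.bwd (nat_lit 5) (Steps.bwd (nat_lit 4) (Steps.fwd (nat_lit 49152) (Steps.bwd (nat_lit 4) (Steps.bwd (nat_lit 5) (Steps.bwd (nat_lit 4) (Steps.fwd (nat_lit 49152) (Steps.fwd (nat_lit 24576) Steps.nil))))))))) (nat_lit 50) (nat_lit 0),
  Rule.mk (nat_lit 0) (nat_lit 131) (Steps.fwd (nat_lit 16384) (Steps.fwd (nat_lit 40960) (Steps.fwd (nat_lit 32768) (Steps.fwd (nat_lit 49152) (Steps.fwd (nat_lit 16384) (Steps.fwd (nat_lit 40960) (Steps.fwd (nat_lit 32768) (Steps.bwd (nat_lit 5) Steps.nil)))))))) (nat_lit 36) (nat_lit 0),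
  Rule.mk (nat_lit 3) (nat_lit 86) (Steps.fwd (nat_lit 40960) (Steps.bwd (nat_lit 3) (Steps.bwd (nat_lit 5) (Steps.bwd (nat_lit 4) (Steps.bwd (nat_lit 2) Steps.nil))))) (nat_lit 27) (nat_lit 5),
  Rule.mk (nat_lit 3) (nat_lit 86) (Steps.bwd (nat_lit 6) (Steps.bwd (nat_lit 3) (Steps.bwd (nat_lit 5) (Steps.fwd (nat_lit 24576) (Steps.bwd (nat_lit 2) Steps.nil))))) (nat_lit 27) (nat_lit 5),
  Rule.mk (nat_lit 2) (nat_lit 116) (Steps.bwd (nat_lit 6) (Steps.bwd (nat_lit 4) (Steps.fwd (nat_lit 49152) (Steps.fwd (nat_lit 8192) (Steps.bwd (nat_lit 6) (Steps.fwd (nat_lit 24576) (Steps.fwd (nat_lit 49152) Steps.nil))))))) (nat_lit 37) (nat_lit 0),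
  Rule.mk (nat_lit 5) (nat_lit 116) (Steps.bwd (nat_lit 2) (Steps.bwd (nat_lit 6) (Steps.fwd (nat_lit 24576) (Steps.bwd (nat_lit 5) (Steps.bwd (nat_lit 2) (Steps.fwd (nat_lit 40960) (Steps.fwd (nat_lit 24576) Steps.nil))))))) (nat_lit 37) (nat_lit 3),
  Rule.mk (nat_lit 5) (nat_lit 146) (Steps.bwd (nat_lit 4) (Steps.fwd (nat_lit 49152) (Steps.fwd (nat_lit 24576) (Steps.bwd (nat_lit 5) (Steps.bwd (nat_lit 4) (Steps.fwd (nat_lit 49152) (Steps.fwd (nat_lit 24576) (Steps.fwd (nat_lit 49152) (Steps.bwd (nat_lit 4) Steps.nil))))))))) (nat_lit 50) (nat_lit 0),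
  Rule.mk (nat_lit 3) (nat_lit 146) (Steps.bwd (nat_lit 6) (Steps.fwd (nat_lit 32768) (Steps.fwd (nat_lit 40960) (Steps.fwd (nat_lit 32768) (Steps.fwd (nat_lit 40960) (Steps.bwd (nat_lit 3) (Steps.fwd (nat_lit 40960) (Steps.fwd (nat_lit 32768) (Steps.bwd (nat_lit 6) Steps.nil))))))))) (nat_lit 51) (nat_lit 0),
  Rule.mk (nat_lit 6) (nat_lit 146) (Steps.bwd (nat_lit 3) (Steps.bwd (nat_lit 6) (Steps.bwd (nat_lit 3) (Steps.bwd (nat_lit 6) (Steps.fwd (nat_lit 32768) (Steps.fwd (nat_lit 40960) (Steps.bwd (nat_lit 3) (Steps.bwd (nat_lit 6) (Steps.bwd (nat_lit 3) Steps.nil))))))))) (nat_lit 51) (nat_lit 1),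
  Rule.mk (nat_lit 6) (nat_lit 146) (Steps.bwd (nat_lit 3) (Steps.bwd (nat_lit 6) (Steps.fwd (nat_lit 32768) (Steps.bwd (nat_lit 6) (Steps.bwd (nat_lit 3) (Steps.fwd (nat_lit 40960) (Steps.bwd (nat_lit 3) (Steps.bwd (nat_lit 6) (Steps.bwd (nat_lit 3) Steps.nil))))))))) (nat_lit 51) (nat_lit 1),
  Rule.mk (nat_lit 3) (nat_lit 146) (Steps.bwd (nat_lit 6) (Steps.fwd (nat_lit 32768) (Steps.fwd (nat_lit 40960) (Steps.fwd (nat_lit 32768) (Steps.bwd (nat_lit 6) (Steps.bwd (nat_lit 3) (Steps.bwd (nat_lit 6) (Steps.bwd (nat_lit 3) (Steps.bwd (nat_lit 6) Steps.nil))))))))) (nat_lit 51) (nat_lit 0),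
  Rule.mk (nat_lit 1) (nat_lit 116) (Steps.fwd (nat_lit 40960) (Steps.bwd (nat_lit 3) (Steps.fwd (nat_lit 49152) (Steps.bwd (nat_lit 1) (Steps.bwd (nat_lit 6) (Steps.fwd (nat_lit 32768) (Steps.bwd (nat_lit 5) Steps.nil))))))) (nat_lit 36) (nat_lit 1),
  Rule.mk (nat_lit 3) (nat_lit 146) (Steps.bwd (nat_lit 6) (Steps.bwd (nat_lit 3) (Steps.bwd (nat_lit 6) (Steps.bwd (nat_lit 3) (Steps.bwd (nat_lit 6) (Steps.fwd (nat_lit 32768) (Steps.fwd (nat_lit 40960) (Steps.fwd (nat_lit 32768) (Steps.fwd (nat_lit 40960) Steps.nil))))))))) (nat_lit 51) (nat_lit 0),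
  Rule.mk (nat_lit 5) (nat_lit 146) (Steps.bwd (nat_lit 4) (Steps.bwd (nat_lit 5) (Steps.fwd (nat_lit 24576) (Steps.bwd (nat_lit 5) (Steps.fwd (nat_lit 24576) (Steps.fwd (nat_lit 49152) (Steps.bwd (nat_lit 4) (Steps.bwd (nat_lit 5) (Steps.bwd (nat_lit 4) Steps.nil))))))))) (nat_lit 50) (nat_lit 0),
  Rule.mk (nat_lit 6) (nat_lit 116) (Steps.fwd (nat_lit 32768) (Steps.bwd (nat_lit 5) (Steps.bwd (nat_lit 1) (Steps.fwd (nat_lit 40960) (Steps.fwd (nat_lit 32768) (Steps.bwd (nat_lit 5) (Steps.fwd (nat_lit 16384) Steps.nil))))))) (nat_lit 36) (nat_lit 2),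
  Rule.mk (nat_lit 6) (nat_lit 146) (Steps.bwd (nat_lit 3) (Steps.fwd (nat_lit 40960) (Steps.fwd (nat_lit 32768) (Steps.bwd (nat_lit 6) (Steps.bwd (nat_lit 3) (Steps.fwd (nat_lit 40960) (Steps.bwd (nat_lit 3) (Steps.bwd (nat_lit 6) (Steps.bwd (nat_lit 3) Steps.nil))))))))) (nat_lit 51) (nat_lit 1),
  Rule.mk (nat_lit 6) (nat_lit 116) (Steps.bwd (nat_lit 3) (Steps.bwd (nat_lit 5) (Steps.fwd (nat_lit 16384) (Steps.fwd (nat_lit 40960) (Steps.fwd (nat_lit 32768) (Steps.fwd (nat_lit 49152) (Steps.fwd (nat_lit 16384) Steps.nil))))))) (nat_lit 36) (nat_lit 2),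
  Rule.mk (nat_lit 3) (nat_lit 146) (Steps.bwd (nat_lit 6) (Steps.bwd (nat_lit 3) (Steps.fwd (nat_lit 40960) (Steps.bwd (nat_lit 3) (Steps.bwd (nat_lit 6) (Steps.bwd (nat_lit 3) (Steps.fwd (nat_lit 40960) (Steps.fwd (nat_lit 32768) (Steps.bwd (nat_lit 6) Steps.nil))))))))) (nat_lit 51) (nat_lit 0),
  Rule.mk (nat_lit 6) (nat_lit 146) (Steps.bwd (nat_lit 3) (Steps.fwd (nat_lit 40960) (Steps.bwd (nat_lit 3) (Steps.bwd (nat_lit 6) (Steps.fwd (nat_lit 32768) (Steps.fwd (nat_lit 40960) (Steps.fwd (nat_lit 32768) (Steps.fwd (nat_lit 40960) (Steps.bwd (nat_lit 3) Steps.nil))))))))) (nat_lit 51) (nat_lit 1),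
  Rule.mk (nat_lit 0) (nat_lit 101) (Steps.bwd (nat_lit 3) (Steps.fwd (nat_lit 40960) (Steps.fwd (nat_lit 32768) (Steps.fwd (nat_lit 49152) (Steps.bwd (nat_lit 4) (Steps.fwd (nat_lit 8192) Steps.nil)))))) (nat_lit 27) (nat_lit 4),
  Rule.mk (nat_lit 6) (nat_lit 116) (Steps.bwd (nat_lit 3) (Steps.bwd (nat_lit 5) (Steps.bwd (nat_lit 1) (Steps.bwd (nat_lit 6) (Steps.bwd (nat_lit 3) (Steps.bwd (nat_lit 5) (Steps.fwd (nat_lit 16384) Steps.nil))))))) (nat_lit 36) (nat_lit 2),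
  Rule.mk (nat_lit 0) (nat_lit 101) (Steps.fwd (nat_lit 49152) (Steps.bwd (nat_lit 4) (Steps.fwd (nat_lit 16384) (Steps.fwd (nat_lit 32768) (Steps.fwd (nat_lit 40960) (Steps.bwd (nat_lit 4) Steps.nil)))))) (nat_lit 26) (nat_lit 0),
  Rule.mk (nat_lit 0) (nat_lit 131) (Steps.bwd (nat_lit 6) (Steps.bwd (nat_lit 3) (Steps.bwd (nat_lit 5) (Steps.fwd (nat_lit 16384) (Steps.fwd (nat_lit 40960) (Steps.bwd (nat_lit 3) (Steps.fwd (nat_lit 49152) (Steps.fwd (nat_lit 16384) Steps.nil)))))))) (nat_lit 36) (nat_lit 1),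
  Rule.mk (nat_lit 5) (nat_lit 116) (Steps.fwd (nat_lit 16384) (Steps.fwd (nat_lit 40960) (Steps.bwd (nat_lit 3) (Steps.bwd (nat_lit 5) (Steps.bwd (nat_lit 1) (Steps.bwd (nat_lit 6) (Steps.bwd (nat_lit 3) Steps.nil))))))) (nat_lit 36) (nat_lit 0),
  Rule.mk (nat_lit 6) (nat_lit 116) (Steps.bwd (nat_lit 3) (Steps.fwd (nat_lit 49152) (Steps.fwd (nat_lit 16384) (Steps.bwd (nat_lit 6) (Steps.fwd (nat_lit 32768) (Steps.fwd (nat_lit 49152) (Steps.bwd (nat_lit 1) Steps.nil))))))) (nat_lit 36) (nat_lit 2),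
  Rule.mk (nat_lit 3) (nat_lit 146) (Steps.bwd (nat_lit 6) (Steps.fwd (nat_lit 32768) (Steps.fwd (nat_lit 40960) (Steps.fwd (nat_lit 32768) (Steps.bwd (nat_lit 6) (Steps.bwd (nat_lit 3) (Steps.fwd (nat_lit 40960) (Steps.bwd (nat_lit 3) (Steps.bwd (nat_lit 6) Steps.nil))))))))) (nat_lit 51) (nat_lit 0),
  Rule.mk (nat_lit 0) (nat_lit 131) (Steps.bwd (nat_lit 2) (Steps.bwd (nat_lit 6) (Steps.bwd (nat_lit 4) (Steps.bwd (nat_lit 5) (Steps.bwd (nat_lit 2) (Steps.bwd (nat_lit 6) (Steps.fwd (nat_lit 24576) (Steps.bwd (nat_lit 5) Steps.nil)))))))) (nat_lit 37) (nat_lit 3),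
  Rule.mk (nat_lit 5) (nat_lit 146) (Steps.bwd (nat_lit 4) (Steps.fwd (nat_lit 49152) (Steps.bwd (nat_lit 4) (Steps.bwd (nat_lit 5) (Steps.fwd (nat_lit 24576) (Steps.fwd (nat_lit 49152) (Steps.fwd (nat_lit 24576) (Steps.fwd (nat_lit 49152) (Steps.fwd (nat_lit 24576) Steps.nil))))))))) (nat_lit 50) (nat_lit 0),
  Rule.mk (nat_lit 0) (nat_lit 101) (Steps.bwd (nat_lit 2) (Steps.fwd (nat_lit 32768) (Steps.fwd (nat_lit 40960) (Steps.bwd (nat_lit 3) (Steps.fwd (nat_lit 49152) (Steps.bwd (nat_lit 4) Steps.nil)))))) (nat_lit 27) (nat_lit 3),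
  Rule.mk (nat_lit 3) (nat_lit 146) (Steps.bwd (nat_lit 6) (Steps.bwd (nat_lit 3) (Steps.bwd (nat_lit 6) (Steps.bwd (nat_lit 3) (Steps.bwd (nat_lit 6) (Steps.fwd (nat_lit 32768) (Steps.fwd (nat_lit 40960) (Steps.bwd (nat_lit 3) (Steps.bwd (nat_lit 6) Steps.nil))))))))) (nat_lit 51) (nat_lit 0),
  Rule.mk (nat_lit 4) (nat_lit 146) (Steps.bwd (nat_lit 5) (Steps.bwd (nat_lit 4) (Steps.bwd (nat_lit 5) (Steps.bwd (nat_lit 4) (Steps.bwd (nat_lit 5) (Steps.bwd (nat_lit 4) (Steps.fwd (nat_lit 49152) (Steps.fwd (nat_lit 24576) (Steps.bwd (nat_lit 5) Steps.nil))))))))) (nat_lit 50) (nat_lit 1)]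
noncomputable def R_19 : List (Rule) := [Rule.mk (nat_lit 6) (nat_lit 86) (Steps.bwd (nat_lit 3) (Steps.fwd (nat_lit 49152) (Steps.fwd (nat_lit 24576) (Steps.bwd (nat_lit 2) (Steps.fwd (nat_lit 32768) Steps.nil))))) (nat_lit 27) (nat_lit 0),
  Rule.mk (nat_lit 0) (nat_lit 161) (Steps.fwd (nat_lit 49152) (Steps.bwd (nat_lit 4) (Steps.fwd (nat_lit 49152) (Steps.bwd (nat_lit 4) (Steps.bwd (nat_lit 5) (Steps.fwd (nat_lit 24576) (Steps.bwd (nat_lit 5) (Steps.fwd (nat_lit 24576) (Steps.fwd (nat_lit 49152) (Steps.fwd (nat_lit 24576) Steps.nil)))))))))) (nat_lit 50) (nat_lit 1),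
  Rule.mk (nat_lit 1) (nat_lit 116) (Steps.fwd (nat_lit 40960) (Steps.bwd (nat_lit 3) (Steps.fwd (nat_lit 49152) (Steps.bwd (nat_lit 1) (Steps.bwd (nat_lit 6) (Steps.bwd (nat_lit 3) (Steps.bwd (nat_lit 5) Steps.nil))))))) (nat_lit 36) (nat_lit 1),
  Rule.mk (nat_lit 0) (nat_lit 131) (Steps.bwd (nat_lit 1) (Steps.fwd (nat_lit 40960) (Steps.fwd (nat_lit 32768) (Steps.bwd (nat_lit 5) (Steps.bwd (nat_lit 1) (Steps.fwd (nat_lit 40960) (Steps.fwd (nat_lit 32768) (Steps.fwd (nat_lit 49152) Steps.nil)))))))) (nat_lit 36) (nat_lit 0),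
  Rule.mk (nat_lit 5) (nat_lit 86) (Steps.fwd (nat_lit 24576) (Steps.bwd (nat_lit 1) (Steps.fwd (nat_lit 32768) (Steps.fwd (nat_lit 40960) (Steps.fwd (nat_lit 24576) Steps.nil))))) (nat_lit 26) (nat_lit 1),
  Rule.mk (nat_lit 6) (nat_lit 116) (Steps.bwd (nat_lit 4) (Steps.fwd (nat_lit 49152) (Steps.fwd (nat_lit 8192) (Steps.fwd (nat_lit 40960) (Steps.bwd (nat_lit 4) (Steps.bwd (nat_lit 5) (Steps.bwd (nat_lit 2) Steps.nil))))))) (nat_lit 37) (nat_lit 1),
  Rule.mk (nat_lit 4) (nat_lit 146) (Steps.bwd (nat_lit 5) (Steps.fwd (nat_lit 24576) (Steps.fwd (nat_lit 49152) (Steps.bwd (nat_lit 4) (Steps.bwd (nat_lit 5) (Steps.bwd (nat_lit 4) (Steps.bwd (nat_lit 5) (Steps.fwd (nat_lit 24576) (Steps.bwd (nat_lit 5) Steps.nil))))))))) (nat_lit 50) (nat_lit 1),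
  Rule.mk (nat_lit 1) (nat_lit 116) (Steps.fwd (nat_lit 40960) (Steps.bwd (nat_lit 3) (Steps.fwd (nat_lit 49152) (Steps.fwd (nat_lit 16384) (Steps.bwd (nat_lit 6) (Steps.bwd (nat_lit 3) (Steps.fwd (nat_lit 49152) Steps.nil))))))) (nat_lit 36) (nat_lit 1),
  Rule.mk (nat_lit 5) (nat_lit 116) (Steps.bwd (nat_lit 1) (Steps.bwd (nat_lit 6) (Steps.fwd (nat_lit 32768) (Steps.fwd (nat_lit 49152) (Steps.fwd (nat_lit 16384) (Steps.bwd (nat_lit 6) (Steps.fwd (nat_lit 32768) Steps.nil))))))) (nat_lit 36) (nat_lit 0),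
  Rule.mk (nat_lit 0) (nat_lit 161) (Steps.fwd (nat_lit 49152) (Steps.fwd (nat_lit 24576) (Steps.bwd (nat_lit 5) (Steps.fwd (nat_lit 24576) (Steps.bwd (nat_lit 5) (Steps.bwd (nat_lit 4) (Steps.fwd (nat_lit 49152) (Steps.bwd (nat_lit 4) (Steps.fwd (nat_lit 49152) (Steps.fwd (nat_lit 24576) Steps.nil)))))))))) (nat_lit 50) (nat_lit 1),
  Rule.mk (nat_lit 2) (nat_lit 116) (Steps.bwd (nat_lit 6) (Steps.bwd (nat_lit 4) (Steps.fwd (nat_lit 49152) (Steps.fwd (nat_lit 8192) (Steps.bwd (nat_lit 6) (Steps.bwd (nat_lit 4) (Steps.bwd (nat_lit 5) Steps.nil))))))) (nat_lit 37) (nat_lit 0),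
  Rule.mk (nat_lit 5) (nat_lit 116) (Steps.bwd (nat_lit 2) (Steps.bwd (nat_lit 6) (Steps.bwd (nat_lit 4) (Steps.fwd (nat_lit 49152) (Steps.fwd (nat_lit 8192) (Steps.bwd (nat_lit 6) (Steps.fwd (nat_lit 24576) Steps.nil))))))) (nat_lit 37) (nat_lit 3),
  Rule.mk (nat_lit 5) (nat_lit 116) (Steps.bwd (nat_lit 2) (Steps.fwd (nat_lit 40960) (Steps.bwd (nat_lit 4) (Steps.fwd (nat_lit 49152) (Steps.bwd (nat_lit 2) (Steps.fwd (nat_lit 40960) (Steps.fwd (nat_lit 24576) Steps.nil))))))) (nat_lit 37) (nat_lit 3),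
  Rule.mk (nat_lit 5) (nat_lit 146) (Steps.bwd (nat_lit 4) (Steps.fwd (nat_lit 49152) (Steps.bwd (nat_lit 4) (Steps.bwd (nat_lit 5) (Steps.bwd (nat_lit 4) (Steps.fwd (nat_lit 49152) (Steps.fwd (nat_lit 24576) (Steps.bwd (nat_lit 5) (Steps.bwd (nat_lit 4) Steps.nil))))))))) (nat_lit 50) (nat_lit 0),
  Rule.mk (nat_lit 4) (nat_lit 146) (Steps.bwd (nat_lit 5) (Steps.bwd (nat_lit 4) (Steps.fwd (nat_lit 49152) (Steps.fwd (nat_lit 24576) (Steps.fwd (nat_lit 49152) (Steps.fwd (nat_lit 24576) (Steps.fwd (nat_lit 49152) (Steps.fwd (nat_lit 24576) (Steps.bwd (nat_lit 5) Steps.nil))))))))) (nat_lit 50) (nat_lit 1),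
  Rule.mk (nat_lit 0) (nat_lit 131) (Steps.fwd (nat_lit 40960) (Steps.fwd (nat_lit 32768) (Steps.bwd (nat_lit 5) (Steps.fwd (nat_lit 16384) (Steps.fwd (nat_lit 40960) (Steps.fwd (nat_lit 32768) (Steps.bwd (nat_lit 5) (Steps.fwd (nat_lit 16384) Steps.nil)))))))) (nat_lit 36) (nat_lit 1),
  Rule.mk (nat_lit 5) (nat_lit 116) (Steps.bwd (nat_lit 1) (Steps.fwd (nat_lit 40960) (Steps.fwd (nat_lit 32768) (Steps.bwd (nat_lit 5) (Steps.bwd (nat_lit 1) (Steps.bwd (nat_lit 6) (Steps.fwd (nat_lit 32768) Steps.nil))))))) (nat_lit 36) (nat_lit 0),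
  Rule.mk (nat_lit 3) (nat_lit 116) (Steps.bwd (nat_lit 5) (Steps.bwd (nat_lit 1) (Steps.bwd (nat_lit 6) (Steps.fwd (nat_lit 32768) (Steps.fwd (nat_lit 49152) (Steps.bwd (nat_lit 1) (Steps.fwd (nat_lit 40960) Steps.nil))))))) (nat_lit 36) (nat_lit 3),
  Rule.mk (nat_lit 4) (nat_lit 116) (Steps.bwd (nat_lit 5) (Steps.fwd (nat_lit 8192) (Steps.bwd (nat_lit 6) (Steps.fwd (nat_lit 24576) (Steps.bwd (nat_lit 5) (Steps.bwd (nat_lit 2) (Steps.fwd (nat_lit 40960) Steps.nil))))))) (nat_lit 37) (nat_lit 2),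
  Rule.mk (nat_lit 4) (nat_lit 146) (Steps.fwd (nat_lit 49152) (Steps.fwd (nat_lit 24576) (Steps.bwd (nat_lit 5) (Steps.bwd (nat_lit 4) (Steps.fwd (nat_lit 49152) (Steps.bwd (nat_lit 4) (Steps.bwd (nat_lit 5) (Steps.bwd (nat_lit 4) (Steps.bwd (nat_lit 5) Steps.nil))))))))) (nat_lit 50) (nat_lit 1),
  Rule.mk (nat_lit 1) (nat_lit 116) (Steps.fwd (nat_lit 40960) (Steps.fwd (nat_lit 32768) (Steps.fwd (nat_lit 49152) (Steps.fwd (nat_lit 16384) (Steps.bwd (nat_lit 6) (Steps.bwd (nat_lit 3) (Steps.bwd (nat_lit 5) Steps.nil))))))) (nat_lit 36) (nat_lit 1),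
  Rule.mk (nat_lit 2) (nat_lit 116) (Steps.bwd (nat_lit 6) (Steps.bwd (nat_lit 4) (Steps.bwd (nat_lit 5) (Steps.bwd (nat_lit 2) (Steps.bwd (nat_lit 6) (Steps.bwd (nat_lit 4) (Steps.fwd (nat_lit 49152) Steps.nil))))))) (nat_lit 37) (nat_lit 0),
  Rule.mk (nat_lit 6) (nat_lit 116) (Steps.bwd (nat_lit 3) (Steps.fwd (nat_lit 49152) (Steps.fwd (nat_lit 16384) (Steps.bwd (nat_lit 6) (Steps.bwd (nat_lit 3) (Steps.bwd (nat_lit 5) (Steps.fwd (nat_lit 16384) Steps.nil))))))) (nat_lit 36) (nat_lit 2),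
  Rule.mk (nat_lit 5) (nat_lit 146) (Steps.fwd (nat_lit 24576) (Steps.fwd (nat_lit 49152) (Steps.fwd (nat_lit 24576) (Steps.fwd (nat_lit 49152) (Steps.fwd (nat_lit 24576) (Steps.fwd (nat_lit 49152) (Steps.fwd (nat_lit 24576) (Steps.fwd (nat_lit 49152) (Steps.bwd (nat_lit 4) Steps.nil))))))))) (nat_lit 50) (nat_lit 0),
  Rule.mk (nat_lit 3) (nat_lit 116) (Steps.bwd (nat_lit 5) (Steps.fwd (nat_lit 16384) (Steps.fwd (nat_lit 40960) (Steps.fwd (nat_lit 32768) (Steps.bwd (nat_lit 5) (Steps.fwd (nat_lit 16384) (Steps.bwd (nat_lit 6) Steps.nil))))))) (nat_lit 36) (nat_lit 3),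
  Rule.mk (nat_lit 0) (nat_lit 131) (Steps.fwd (nat_lit 8192) (Steps.fwd (nat_lit 40960) (Steps.bwd (nat_lit 4) (Steps.bwd (nat_lit 5) (Steps.bwd (nat_lit 2) (Steps.fwd (nat_lit 40960) (Steps.fwd (nat_lit 24576) (Steps.fwd (nat_lit 49152) Steps.nil)))))))) (nat_lit 37) (nat_lit 3),
  Rule.mk (nat_lit 2) (nat_lit 116) (Steps.bwd (nat_lit 6) (Steps.bwd (nat_lit 4) (Steps.fwd (nat_lit 49152) (Steps.bwd (nat_lit 2) (Steps.fwd (nat_lit 40960) (Steps.fwd (nat_lit 24576) (Steps.bwd (nat_lit 5) Steps.nil))))))) (nat_lit 37) (nat_lit 0),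
  Rule.mk (nat_lit 6) (nat_lit 116) (Steps.bwd (nat_lit 3) (Steps.fwd (nat_lit 49152) (Steps.bwd (nat_lit 1) (Steps.bwd (nat_lit 6) (Steps.bwd (nat_lit 3) (Steps.bwd (nat_lit 5) (Steps.bwd (nat_lit 1) Steps.nil))))))) (nat_lit 36) (nat_lit 2),
  Rule.mk (nat_lit 3) (nat_lit 86) (Steps.bwd (nat_lit 5) (Steps.fwd (nat_lit 24576) (Steps.bwd (nat_lit 2) (Steps.fwd (nat_lit 32768) (Steps.fwd (nat_lit 40960) Steps.nil))))) (nat_lit 27) (nat_lit 1),
  Rule.mk (nat_lit 4) (nat_lit 86) (Steps.bwd (nat_lit 5) (Steps.fwd (nat_lit 24576) (Steps.bwd (nat_lit 1) (Steps.fwd (nat_lit 32768) (Steps.fwd (nat_lit 40960) Steps.nil))))) (nat_lit 26) (nat_lit 0),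
  Rule.mk (nat_lit 1) (nat_lit 116) (Steps.bwd (nat_lit 6) (Steps.fwd (nat_lit 32768) (Steps.fwd (nat_lit 49152) (Steps.fwd (nat_lit 16384) (Steps.bwd (nat_lit 6) (Steps.fwd (nat_lit 32768) (Steps.fwd (nat_lit 49152) Steps.nil))))))) (nat_lit 36) (nat_lit 1),
  Rule.mk (nat_lit 5) (nat_lit 116) (Steps.bwd (nat_lit 1) (Steps.bwd (nat_lit 6) (Steps.fwd (nat_lit 32768) (Steps.fwd (nat_lit 49152) (Steps.bwd (nat_lit 1) (Steps.bwd (nat_lit 6) (Steps.bwd (nat_lit 3) Steps.nil))))))) (nat_lit 36) (nat_lit 0),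
  Rule.mk (nat_lit 6) (nat_lit 86) (Steps.fwd (nat_lit 32768) (Steps.bwd (nat_lit 5) (Steps.bwd (nat_lit 4) (Steps.bwd (nat_lit 2) (Steps.bwd (nat_lit 3) Steps.nil))))) (nat_lit 27) (nat_lit 0),
  Rule.mk (nat_lit 1) (nat_lit 116) (Steps.bwd (nat_lit 6) (Steps.fwd (nat_lit 32768) (Steps.fwd (nat_lit 49152) (Steps.fwd (nat_lit 16384) (Steps.bwd (nat_lit 6) (Steps.bwd (nat_lit 3) (Steps.bwd (nat_lit 5) Steps.nil))))))) (nat_lit 36) (nat_lit 1),
  Rule.mk (nat_lit 0) (nat_lit 131) (Steps.bwd (nat_lit 3) (Steps.fwd (nat_lit 49152) (Steps.fwd (nat_lit 16384) (Steps.fwd (nat_lit 40960) (Steps.fwd (nat_lit 32768) (Steps.bwd (nat_lit 5) (Steps.fwd (nat_lit 16384) (Steps.fwd (nat_lit 40960) Steps.nil)))))))) (nat_lit 36) (nat_lit 2),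
  Rule.mk (nat_lit 3) (nat_lit 86) (Steps.fwd (nat_lit 40960) (Steps.fwd (nat_lit 32768) (Steps.bwd (nat_lit 5) (Steps.fwd (nat_lit 24576) (Steps.bwd (nat_lit 2) Steps.nil))))) (nat_lit 27) (nat_lit 5),
  Rule.mk (nat_lit 3) (nat_lit 146) (Steps.bwd (nat_lit 6) (Steps.bwd (nat_lit 3) (Steps.bwd (nat_lit 6) (Steps.fwd (nat_lit 32768) (Steps.bwd (nat_lit 6) (Steps.bwd (nat_lit 3) (Steps.bwd (nat_lit 6) (Steps.bwd (nat_lit 3) (Steps.fwd (nat_lit 40960) Steps.nil))))))))) (nat_lit 51) (nat_lit 0),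
  Rule.mk (nat_lit 6) (nat_lit 146) (Steps.bwd (nat_lit 3) (Steps.bwd (nat_lit 6) (Steps.bwd (nat_lit 3) (Steps.bwd (nat_lit 6) (Steps.fwd (nat_lit 32768) (Steps.bwd (nat_lit 6) (Steps.fwd (nat_lit 32768) (Steps.bwd (nat_lit 6) (Steps.fwd (nat_lit 32768) Steps.nil))))))))) (nat_lit 51) (nat_lit 1),
  Rule.mk (nat_lit 3) (nat_lit 146) (Steps.bwd (nat_lit 6) (Steps.fwd (nat_lit 32768) (Steps.bwd (nat_lit 6) (Steps.fwd (nat_lit 32768) (Steps.fwd (nat_lit 40960) (Steps.fwd (nat_lit 32768) (Steps.fwd (nat_lit 40960) (Steps.fwd (nat_lit 32768) (Steps.bwd (nat_lit 6) Steps.nil))))))))) (nat_lit 51) (nat_lit 0),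
  Rule.mk (nat_lit 6) (nat_lit 146) (Steps.bwd (nat_lit 3) (Steps.bwd (nat_lit 6) (Steps.fwd (nat_lit 32768) (Steps.bwd (nat_lit 6) (Steps.fwd (nat_lit 32768) (Steps.bwd (nat_lit 6) (Steps.fwd (nat_lit 32768) (Steps.bwd (nat_lit 6) (Steps.fwd (nat_lit 32768) Steps.nil))))))))) (nat_lit 51) (nat_lit 1),
  Rule.mk (nat_lit 3) (nat_lit 146) (Steps.bwd (nat_lit 6) (Steps.fwd (nat_lit 32768) (Steps.fwd (nat_lit 40960) (Steps.fwd (nat_lit 32768) (Steps.bwd (nat_lit 6) (Steps.fwd (nat_lit 32768) (Steps.fwd (nat_lit 40960) (Steps.bwd (nat_lit 3) (Steps.bwd (nat_lit 6) Steps.nil))))))))) (nat_lit 51) (nat_lit 0),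
  Rule.mk (nat_lit 0) (nat_lit 131) (Steps.fwd (nat_lit 16384) (Steps.bwd (nat_lit 6) (Steps.bwd (nat_lit 3) (Steps.fwd (nat_lit 49152) (Steps.bwd (nat_lit 1) (Steps.bwd (nat_lit 6) (Steps.fwd (nat_lit 32768) (Steps.bwd (nat_lit 5) Steps.nil)))))))) (nat_lit 36) (nat_lit 0),
  Rule.mk (nat_lit 6) (nat_lit 146) (Steps.bwd (nat_lit 3) (Steps.fwd (nat_lit 40960) (Steps.fwd (nat_lit 32768) (Steps.bwd (nat_lit 6) (Steps.fwd (nat_lit 32768) (Steps.fwd (nat_lit 40960) (Steps.bwd (nat_lit 3) (Steps.fwd (nat_lit 40960) (Steps.bwd (nat_lit 3) Steps.nil))))))))) (nat_lit 51) (nat_lit 1),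
  Rule.mk (nat_lit 6) (nat_lit 116) (Steps.fwd (nat_lit 24576) (Steps.fwd (nat_lit 49152) (Steps.bwd (nat_lit 2) (Steps.fwd (nat_lit 40960) (Steps.bwd (nat_lit 4) (Steps.fwd (nat_lit 49152) (Steps.bwd (nat_lit 2) Steps.nil))))))) (nat_lit 37) (nat_lit 1),
  Rule.mk (nat_lit 6) (nat_lit 146) (Steps.bwd (nat_lit 3) (Steps.bwd (nat_lit 6) (Steps.fwd (nat_lit 32768) (Steps.bwd (nat_lit 6) (Steps.fwd (nat_lit 32768) (Steps.fwd (nat_lit 40960) (Steps.bwd (nat_lit 3) (Steps.fwd (nat_lit 40960) (Steps.fwd (nat_lit 32768) Steps.nil))))))))) (nat_lit 51) (nat_lit 1),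
  Rule.mk (nat_lit 0) (nat_lit 161) (Steps.fwd (nat_lit 32768) (Steps.fwd (nat_lit 40960) (Steps.fwd (nat_lit 32768) (Steps.fwd (nat_lit 40960) (Steps.fwd (nat_lit 32768) (Steps.bwd (nat_lit 6) (Steps.fwd (nat_lit 32768) (Steps.fwd (nat_lit 40960) (Steps.bwd (nat_lit 3) (Steps.fwd (nat_lit 40960) Steps.nil)))))))))) (nat_lit 51) (nat_lit 1),
  Rule.mk (nat_lit 1) (nat_lit 116) (Steps.bwd (nat_lit 6) (Steps.fwd (nat_lit 32768) (Steps.bwd (nat_lit 5) (Steps.fwd (nat_lit 16384) (Steps.bwd (nat_lit 6) (Steps.fwd (nat_lit 32768) (Steps.fwd (nat_lit 49152) Steps.nil))))))) (nat_lit 36) (nat_lit 1),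
  Rule.mk (nat_lit 5) (nat_lit 146) (Steps.fwd (nat_lit 24576) (Steps.fwd (nat_lit 49152) (Steps.fwd (nat_lit 24576) (Steps.bwd (nat_lit 5) (Steps.fwd (nat_lit 24576) (Steps.bwd (nat_lit 5) (Steps.fwd (nat_lit 24576) (Steps.bwd (nat_lit 5) (Steps.bwd (nat_lit 4) Steps.nil))))))))) (nat_lit 50) (nat_lit 0),
  Rule.mk (nat_lit 1) (nat_lit 116) (Steps.fwd (nat_lit 40960) (Steps.bwd (nat_lit 3) (Steps.fwd (nat_lit 49152) (Steps.bwd (nat_lit 1) (Steps.fwd (nat_lit 40960) (Steps.bwd (nat_lit 3) (Steps.fwd (nat_lit 49152) Steps.nil))))))) (nat_lit 36) (nat_lit 1),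
  Rule.mk (nat_lit 5) (nat_lit 116) (Steps.bwd (nat_lit 2) (Steps.fwd (nat_lit 40960) (Steps.bwd (nat_lit 4) (Steps.bwd (nat_lit 5) (Steps.fwd (nat_lit 8192) (Steps.bwd (nat_lit 6) (Steps.fwd (nat_lit 24576) Steps.nil))))))) (nat_lit 37) (nat_lit 3),
  Rule.mk (nat_lit 0) (nat_lit 101) (Steps.bwd (nat_lit 3) (Steps.bwd (nat_lit 6) (Steps.bwd (nat_lit 3) (Steps.bwd (nat_lit 5) (Steps.fwd (nat_lit 24576) (Steps.fwd (nat_lit 8192) Steps.nil)))))) (nat_lit 27) (nat_lit 4),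
  Rule.mk (nat_lit 2) (nat_lit 116) (Steps.fwd (nat_lit 40960) (Steps.bwd (nat_lit 4) (Steps.bwd (nat_lit 5) (Steps.bwd (nat_lit 2) (Steps.bwd (nat_lit 6) (Steps.bwd (nat_lit 4) (Steps.bwd (nat_lit 5) Steps.nil))))))) (nat_lit 37) (nat_lit 0),
  Rule.mk (nat_lit 3) (nat_lit 146) (Steps.bwd (nat_lit 6) (Steps.bwd (nat_lit 3) (Steps.bwd (nat_lit 6) (Steps.bwd (nat_lit 3) (Steps.fwd (nat_lit 40960) (Steps.bwd (nat_lit 3) (Steps.bwd (nat_lit 6) (Steps.bwd (nat_lit 3) (Steps.bwd (nat_lit 6) Steps.nil))))))))) (nat_lit 51) (nat_lit 0),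
  Rule.mk (nat_lit 5) (nat_lit 146) (Steps.bwd (nat_lit 4) (Steps.bwd (nat_lit 5) (Steps.fwd (nat_lit 24576) (Steps.bwd (nat_lit 5) (Steps.bwd (nat_lit 4) (Steps.bwd (nat_lit 5) (Steps.bwd (nat_lit 4) (Steps.fwd (nat_lit 49152) (Steps.bwd (nat_lit 4) Steps.nil))))))))) (nat_lit 50) (nat_lit 0),
  Rule.mk (nat_lit 6) (nat_lit 146) (Steps.fwd (nat_lit 32768) (Steps.fwd (nat_lit 40960) (Steps.bwd (nat_lit 3) (Steps.bwd (nat_lit 6) (Steps.bwd (nat_lit 3) (Steps.bwd (nat_lit 6) (Steps.bwd (nat_lit 3) (Steps.fwd (nat_lit 40960) (Steps.bwd (nat_lit 3) Steps.nil))))))))) (nat_lit 51) (nat_lit 1),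
  Rule.mk (nat_lit 4) (nat_lit 116) (Steps.bwd (nat_lit 5) (Steps.fwd (nat_lit 8192) (Steps.fwd (nat_lit 40960) (Steps.bwd (nat_lit 4) (Steps.bwd (nat_lit 5) (Steps.bwd (nat_lit 2) (Steps.fwd (nat_lit 40960) Steps.nil))))))) (nat_lit 37) (nat_lit 2),
  Rule.mk (nat_lit 6) (nat_lit 146) (Steps.bwd (nat_lit 3) (Steps.bwd (nat_lit 6) (Steps.bwd (nat_lit 3) (Steps.fwd (nat_lit 40960) (Steps.bwd (nat_lit 3) (Steps.bwd (nat_lit 6) (Steps.bwd (nat_lit 3) (Steps.bwd (nat_lit 6) (Steps.fwd (nat_lit 32768) Steps.nil))))))))) (nat_lit 51) (nat_lit 1),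
  Rule.mk (nat_lit 6) (nat_lit 146) (Steps.bwd (nat_lit 3) (Steps.fwd (nat_lit 40960) (Steps.fwd (nat_lit 32768) (Steps.fwd (nat_lit 40960) (Steps.bwd (nat_lit 3) (Steps.fwd (nat_lit 40960) (Steps.fwd (nat_lit 32768) (Steps.fwd (nat_lit 40960) (Steps.bwd (nat_lit 3) Steps.nil))))))))) (nat_lit 51) (nat_lit 1),
  Rule.mk (nat_lit 5) (nat_lit 116) (Steps.fwd (nat_lit 8192) (Steps.bwd (nat_lit 6) (Steps.bwd (nat_lit 4) (Steps.fwd (nat_lit 49152) (Steps.fwd (nat_lit 8192) (Steps.fwd (nat_lit 40960) (Steps.bwd (nat_lit 4) Steps.nil))))))) (nat_lit 37) (nat_lit 3),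
  Rule.mk (nat_lit 3) (nat_lit 146) (Steps.bwd (nat_lit 6) (Steps.fwd (nat_lit 32768) (Steps.fwd (nat_lit 40960) (Steps.fwd (nat_lit 32768) (Steps.fwd (nat_lit 40960) (Steps.bwd (nat_lit 3) (Steps.fwd (nat_lit 40960) (Steps.fwd (nat_lit 32768) (Steps.fwd (nat_lit 40960) Steps.nil))))))))) (nat_lit 51) (nat_lit 0),
  Rule.mk (nat_lit 5) (nat_lit 86) (Steps.fwd (nat_lit 24576) (Steps.fwd (nat_lit 8192) (Steps.bwd (nat_lit 3) (Steps.bwd (nat_lit 6) (Steps.bwd (nat_lit 3) Steps.nil))))) (nat_lit 27) (nat_lit 2),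
  Rule.mk (nat_lit 6) (nat_lit 146) (Steps.bwd (nat_lit 3) (Steps.fwd (nat_lit 40960) (Steps.fwd (nat_lit 32768) (Steps.bwd (nat_lit 6) (Steps.fwd (nat_lit 32768) (Steps.fwd (nat_lit 40960) (Steps.bwd (nat_lit 3) (Steps.bwd (nat_lit 6) (Steps.bwd (nat_lit 3) Steps.nil))))))))) (nat_lit 51) (nat_lit 1),
  Rule.mk (nat_lit 1) (nat_lit 116) (Steps.fwd (nat_lit 40960) (Steps.fwd (nat_lit 32768) (Steps.fwd (nat_lit 49152) (Steps.fwd (nat_lit 16384) (Steps.fwd (nat_lit 40960) (Steps.fwd (nat_lit 32768) (Steps.bwd (nat_lit 5) Steps.nil))))))) (nat_lit 36) (nat_lit 1),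
  Rule.mk (nat_lit 4) (nat_lit 86) (Steps.fwd (nat_lit 16384) (Steps.fwd (nat_lit 32768) (Steps.bwd (nat_lit 6) (Steps.bwd (nat_lit 4) (Steps.bwd (nat_lit 5) Steps.nil))))) (nat_lit 26) (nat_lit 2)]
noncomputable def R_20 : List (Rule) := [Rule.mk (nat_lit 4) (nat_lit 146) (Steps.bwd (nat_lit 5) (Steps.bwd (nat_lit 4) (Steps.bwd (nat_lit 5) (Steps.fwd (nat_lit 24576) (Steps.fwd (nat_lit 49152) (Steps.fwd (nat_lit 24576) (Steps.bwd (nat_lit 5) (Steps.fwd (nat_lit 24576) (Steps.bwd (nat_lit 5) Steps.nil))))))))) (nat_lit 50) (nat_lit 1),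
  Rule.mk (nat_lit 6) (nat_lit 146) (Steps.bwd (nat_lit 3) (Steps.bwd (nat_lit 6) (Steps.bwd (nat_lit 3) (Steps.bwd (nat_lit 6) (Steps.bwd (nat_lit 3) (Steps.bwd (nat_lit 6) (Steps.fwd (nat_lit 32768) (Steps.bwd (nat_lit 6) (Steps.bwd (nat_lit 3) Steps.nil))))))))) (nat_lit 51) (nat_lit 1),
  Rule.mk (nat_lit 6) (nat_lit 116) (Steps.bwd (nat_lit 4) (Steps.fwd (nat_lit 49152) (Steps.bwd (nat_lit 2) (Steps.bwd (nat_lit 6) (Steps.bwd (nat_lit 4) (Steps.bwd (nat_lit 5) (Steps.bwd (nat_lit 2) Steps.nil))))))) (nat_lit 37) (nat_lit 1),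
  Rule.mk (nat_lit 5) (nat_lit 116) (Steps.bwd (nat_lit 2) (Steps.fwd (nat_lit 40960) (Steps.fwd (nat_lit 24576) (Steps.fwd (nat_lit 49152) (Steps.bwd (nat_lit 2) (Steps.bwd (nat_lit 6) (Steps.fwd (nat_lit 24576) Steps.nil))))))) (nat_lit 37) (nat_lit 3),
  Rule.mk (nat_lit 1) (nat_lit 116) (Steps.fwd (nat_lit 40960) (Steps.fwd (nat_lit 32768) (Steps.fwd (nat_lit 49152) (Steps.fwd (nat_lit 16384) (Steps.bwd (nat_lit 6) (Steps.fwd (nat_lit 32768) (Steps.bwd (nat_lit 5) Steps.nil))))))) (nat_lit 36) (nat_lit 1),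
  Rule.mk (nat_lit 5) (nat_lit 116) (Steps.fwd (nat_lit 8192) (Steps.bwd (nat_lit 6) (Steps.fwd (nat_lit 24576) (Steps.fwd (nat_lit 49152) (Steps.bwd (nat_lit 2) (Steps.fwd (nat_lit 40960) (Steps.fwd (nat_lit 24576) Steps.nil))))))) (nat_lit 37) (nat_lit 3),
  Rule.mk (nat_lit 4) (nat_lit 146) (Steps.fwd (nat_lit 49152) (Steps.bwd (nat_lit 4) (Steps.bwd (nat_lit 5) (Steps.fwd (nat_lit 24576) (Steps.fwd (nat_lit 49152) (Steps.fwd (nat_lit 24576) (Steps.fwd (nat_lit 49152) (Steps.bwd (nat_lit 4) (Steps.bwd (nat_lit 5) Steps.nil))))))))) (nat_lit 50) (nat_lit 1),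
  Rule.mk (nat_lit 0) (nat_lit 101) (Steps.bwd (nat_lit 3) (Steps.bwd (nat_lit 6) (Steps.fwd (nat_lit 24576) (Steps.fwd (nat_lit 49152) (Steps.fwd (nat_lit 24576) (Steps.bwd (nat_lit 1) Steps.nil)))))) (nat_lit 26) (nat_lit 3),
  Rule.mk (nat_lit 6) (nat_lit 86) (Steps.bwd (nat_lit 3) (Steps.bwd (nat_lit 5) (Steps.fwd (nat_lit 24576) (Steps.bwd (nat_lit 2) (Steps.fwd (nat_lit 32768) Steps.nil))))) (nat_lit 27) (nat_lit 0),
  Rule.mk (nat_lit 4) (nat_lit 86) (Steps.fwd (nat_lit 8192) (Steps.fwd (nat_lit 32768) (Steps.fwd (nat_lit 40960) (Steps.bwd (nat_lit 3) (Steps.bwd (nat_lit 5) Steps.nil))))) (nat_lit 27) (nat_lit 3),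
  Rule.mk (nat_lit 6) (nat_lit 116) (Steps.fwd (nat_lit 24576) (Steps.fwd (nat_lit 49152) (Steps.bwd (nat_lit 2) (Steps.fwd (nat_lit 40960) (Steps.bwd (nat_lit 4) (Steps.bwd (nat_lit 5) (Steps.bwd (nat_lit 2) Steps.nil))))))) (nat_lit 37) (nat_lit 1),
  Rule.mk (nat_lit 6) (nat_lit 146) (Steps.bwd (nat_lit 3) (Steps.fwd (nat_lit 40960) (Steps.fwd (nat_lit 32768) (Steps.fwd (nat_lit 40960) (Steps.bwd (nat_lit 3) (Steps.fwd (nat_lit 40960) (Steps.bwd (nat_lit 3) (Steps.bwd (nat_lit 6) (Steps.bwd (nat_lit 3) Steps.nil))))))))) (nat_lit 51) (nat_lit 1),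
  Rule.mk (nat_lit 5) (nat_lit 116) (Steps.bwd (nat_lit 2) (Steps.bwd (nat_lit 6) (Steps.bwd (nat_lit 4) (Steps.fwd (nat_lit 49152) (Steps.bwd (nat_lit 2) (Steps.fwd (nat_lit 40960) (Steps.fwd (nat_lit 24576) Steps.nil))))))) (nat_lit 37) (nat_lit 3),
  Rule.mk (nat_lit 2) (nat_lit 116) (Steps.bwd (nat_lit 6) (Steps.bwd (nat_lit 4) (Steps.fwd (nat_lit 49152) (Steps.fwd (nat_lit 8192) (Steps.bwd (nat_lit 6) (Steps.bwd (nat_lit 4) (Steps.fwd (nat_lit 49152) Steps.nil))))))) (nat_lit 37) (nat_lit 0),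
  Rule.mk (nat_lit 6) (nat_lit 116) (Steps.fwd (nat_lit 24576) (Steps.fwd (nat_lit 49152) (Steps.bwd (nat_lit 2) (Steps.bwd (nat_lit 6) (Steps.fwd (nat_lit 24576) (Steps.bwd (nat_lit 5) (Steps.fwd (nat_lit 8192) Steps.nil))))))) (nat_lit 37) (nat_lit 1),
  Rule.mk (nat_lit 5) (nat_lit 116) (Steps.bwd (nat_lit 2) (Steps.fwd (nat_lit 40960) (Steps.fwd (nat_lit 24576) (Steps.bwd (nat_lit 5) (Steps.bwd (nat_lit 2) (Steps.bwd (nat_lit 6) (Steps.bwd (nat_lit 4) Steps.nil))))))) (nat_lit 37) (nat_lit 3),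
  Rule.mk (nat_lit 2) (nat_lit 116) (Steps.bwd (nat_lit 6) (Steps.fwd (nat_lit 24576) (Steps.fwd (nat_lit 49152) (Steps.fwd (nat_lit 8192) (Steps.bwd (nat_lit 6) (Steps.fwd (nat_lit 24576) (Steps.fwd (nat_lit 49152) Steps.nil))))))) (nat_lit 37) (nat_lit 0),
  Rule.mk (nat_lit 1) (nat_lit 116) (Steps.bwd (nat_lit 6) (Steps.fwd (nat_lit 32768) (Steps.fwd (nat_lit 49152) (Steps.bwd (nat_lit 1) (Steps.bwd (nat_lit 6) (Steps.bwd (nat_lit 3) (Steps.bwd (nat_lit 5) Steps.nil))))))) (nat_lit 36) (nat_lit 1),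
  Rule.mk (nat_lit 3) (nat_lit 116) (Steps.bwd (nat_lit 5) (Steps.fwd (nat_lit 16384) (Steps.fwd (nat_lit 40960) (Steps.fwd (nat_lit 32768) (Steps.fwd (nat_lit 49152) (Steps.bwd (nat_lit 1) (Steps.bwd (nat_lit 6) Steps.nil))))))) (nat_lit 36) (nat_lit 3),
  Rule.mk (nat_lit 3) (nat_lit 146) (Steps.bwd (nat_lit 6) (Steps.fwd (nat_lit 32768) (Steps.fwd (nat_lit 40960) (Steps.bwd (nat_lit 3) (Steps.bwd (nat_lit 6) (Steps.fwd (nat_lit 32768) (Steps.bwd (nat_lit 6) (Steps.fwd (nat_lit 32768) (Steps.bwd (nat_lit 6) Steps.nil))))))))) (nat_lit 51) (nat_lit 0),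
  Rule.mk (nat_lit 4) (nat_lit 146) (Steps.bwd (nat_lit 5) (Steps.bwd (nat_lit 4) (Steps.bwd (nat_lit 5) (Steps.bwd (nat_lit 4) (Steps.bwd (nat_lit 5) (Steps.bwd (nat_lit 4) (Steps.bwd (nat_lit 5) (Steps.bwd (nat_lit 4) (Steps.fwd (nat_lit 49152) Steps.nil))))))))) (nat_lit 50) (nat_lit 1),
  Rule.mk (nat_lit 5) (nat_lit 116) (Steps.fwd (nat_lit 8192) (Steps.bwd (nat_lit 6) (Steps.bwd (nat_lit 4) (Steps.bwd (nat_lit 5) (Steps.fwd (nat_lit 8192) (Steps.bwd (nat_lit 6) (Steps.fwd (nat_lit 24576) Steps.nil))))))) (nat_lit 37) (nat_lit 3),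
  Rule.mk (nat_lit 1) (nat_lit 116) (Steps.bwd (nat_lit 6) (Steps.bwd (nat_lit 3) (Steps.bwd (nat_lit 5) (Steps.bwd (nat_lit 1) (Steps.fwd (nat_lit 40960) (Steps.bwd (nat_lit 3) (Steps.fwd (nat_lit 49152) Steps.nil))))))) (nat_lit 36) (nat_lit 1),
  Rule.mk (nat_lit 6) (nat_lit 116) (Steps.fwd (nat_lit 24576) (Steps.bwd (nat_lit 5) (Steps.bwd (nat_lit 2) (Steps.fwd (nat_lit 40960) (Steps.bwd (nat_lit 4) (Steps.fwd (nat_lit 49152) (Steps.bwd (nat_lit 2) Steps.nil))))))) (nat_lit 37) (nat_lit 1),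
  Rule.mk (nat_lit 0) (nat_lit 131) (Steps.bwd (nat_lit 4) (Steps.bwd (nat_lit 5) (Steps.bwd (nat_lit 2) (Steps.fwd (nat_lit 40960) (Steps.bwd (nat_lit 4) (Steps.fwd (nat_lit 49152) (Steps.bwd (nat_lit 2) (Steps.bwd (nat_lit 6) Steps.nil)))))))) (nat_lit 37) (nat_lit 1),
  Rule.mk (nat_lit 5) (nat_lit 146) (Steps.bwd (nat_lit 4) (Steps.fwd (nat_lit 49152) (Steps.bwd (nat_lit 4) (Steps.bwd (nat_lit 5) (Steps.fwd (nat_lit 24576) (Steps.bwd (nat_lit 5) (Steps.bwd (nat_lit 4) (Steps.bwd (nat_lit 5) (Steps.fwd (nat_lit 24576) Steps.nil))))))))) (nat_lit 50) (nat_lit 0),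
  Rule.mk (nat_lit 3) (nat_lit 146) (Steps.bwd (nat_lit 6) (Steps.fwd (nat_lit 32768) (Steps.fwd (nat_lit 40960) (Steps.bwd (nat_lit 3) (Steps.fwd (nat_lit 40960) (Steps.bwd (nat_lit 3) (Steps.bwd (nat_lit 6) (Steps.bwd (nat_lit 3) (Steps.bwd (nat_lit 6) Steps.nil))))))))) (nat_lit 51) (nat_lit 0),
  Rule.mk (nat_lit 0) (nat_lit 101) (Steps.fwd (nat_lit 8192) (Steps.bwd (nat_lit 3) (Steps.bwd (nat_lit 6) (Steps.bwd (nat_lit 3) (Steps.fwd (nat_lit 49152) (Steps.bwd (nat_lit 4) Steps.nil)))))) (nat_lit 27) (nat_lit 3),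
  Rule.mk (nat_lit 6) (nat_lit 86) (Steps.bwd (nat_lit 4) (Steps.fwd (nat_lit 49152) (Steps.fwd (nat_lit 24576) (Steps.bwd (nat_lit 1) (Steps.bwd (nat_lit 3) Steps.nil))))) (nat_lit 26) (nat_lit 5),
  Rule.mk (nat_lit 3) (nat_lit 116) (Steps.bwd (nat_lit 5) (Steps.fwd (nat_lit 16384) (Steps.fwd (nat_lit 40960) (Steps.bwd (nat_lit 3) (Steps.bwd (nat_lit 5) (Steps.bwd (nat_lit 1) (Steps.bwd (nat_lit 6) Steps.nil))))))) (nat_lit 36) (nat_lit 3),
  Rule.mk (nat_lit 0) (nat_lit 131) (Steps.bwd (nat_lit 2) (Steps.bwd (nat_lit 6) (Steps.fwd (nat_lit 24576) (Steps.bwd (nat_lit 5) (Steps.bwd (nat_lit 2) (Steps.bwd (nat_lit 6) (Steps.fwd (nat_lit 24576) (Steps.bwd (nat_lit 5) Steps.nil)))))))) (nat_lit 37) (nat_lit 3),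
  Rule.mk (nat_lit 6) (nat_lit 146) (Steps.bwd (nat_lit 3) (Steps.fwd (nat_lit 40960) (Steps.fwd (nat_lit 32768) (Steps.bwd (nat_lit 6) (Steps.bwd (nat_lit 3) (Steps.fwd (nat_lit 40960) (Steps.bwd (nat_lit 3) (Steps.fwd (nat_lit 40960) (Steps.bwd (nat_lit 3) Steps.nil))))))))) (nat_lit 51) (nat_lit 1),
  Rule.mk (nat_lit 4) (nat_lit 146) (Steps.bwd (nat_lit 5) (Steps.fwd (nat_lit 24576) (Steps.fwd (nat_lit 49152) (Steps.bwd (nat_lit 4) (Steps.fwd (nat_lit 49152) (Steps.bwd (nat_lit 4) (Steps.bwd (nat_lit 5) (Steps.bwd (nat_lit 4) (Steps.fwd (nat_lit 49152) Steps.nil))))))))) (nat_lit 50) (nat_lit 1),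
  Rule.mk (nat_lit 0) (nat_lit 131) (Steps.bwd (nat_lit 6) (Steps.bwd (nat_lit 3) (Steps.fwd (nat_lit 49152) (Steps.fwd (nat_lit 16384) (Steps.bwd (nat_lit 6) (Steps.bwd (nat_lit 3) (Steps.fwd (nat_lit 49152) (Steps.fwd (nat_lit 16384) Steps.nil)))))))) (nat_lit 36) (nat_lit 1),
  Rule.mk (nat_lit 1) (nat_lit 116) (Steps.bwd (nat_lit 6) (Steps.bwd (nat_lit 3) (Steps.bwd (nat_lit 5) (Steps.fwd (nat_lit 16384) (Steps.bwd (nat_lit 6) (Steps.fwd (nat_lit 32768) (Steps.fwd (nat_lit 49152) Steps.nil))))))) (nat_lit 36) (nat_lit 1),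
  Rule.mk (nat_lit 2) (nat_lit 116) (Steps.bwd (nat_lit 6) (Steps.bwd (nat_lit 4) (Steps.fwd (nat_lit 49152) (Steps.bwd (nat_lit 2) (Steps.bwd (nat_lit 6) (Steps.bwd (nat_lit 4) (Steps.fwd (nat_lit 49152) Steps.nil))))))) (nat_lit 37) (nat_lit 0),
  Rule.mk (nat_lit 3) (nat_lit 86) (Steps.bwd (nat_lit 6) (Steps.bwd (nat_lit 3) (Steps.bwd (nat_lit 5) (Steps.bwd (nat_lit 4) (Steps.fwd (nat_lit 8192) Steps.nil))))) (nat_lit 27) (nat_lit 5),
  Rule.mk (nat_lit 6) (nat_lit 116) (Steps.bwd (nat_lit 3) (Steps.bwd (nat_lit 5) (Steps.fwd (nat_lit 16384) (Steps.fwd (nat_lit 40960) (Steps.fwd (nat_lit 32768) (Steps.bwd (nat_lit 5) (Steps.fwd (nat_lit 16384) Steps.nil))))))) (nat_lit 36) (nat_lit 2),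
  Rule.mk (nat_lit 1) (nat_lit 116) (Steps.fwd (nat_lit 40960) (Steps.bwd (nat_lit 3) (Steps.fwd (nat_lit 49152) (Steps.bwd (nat_lit 1) (Steps.fwd (nat_lit 40960) (Steps.fwd (nat_lit 32768) (Steps.bwd (nat_lit 5) Steps.nil))))))) (nat_lit 36) (nat_lit 1),
  Rule.mk (nat_lit 6) (nat_lit 116) (Steps.fwd (nat_lit 32768) (Steps.fwd (nat_lit 49152) (Steps.fwd (nat_lit 16384) (Steps.bwd (nat_lit 6) (Steps.fwd (nat_lit 32768) (Steps.bwd (nat_lit 5) (Steps.bwd (nat_lit 1) Steps.nil))))))) (nat_lit 36) (nat_lit 2),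
  Rule.mk (nat_lit 5) (nat_lit 116) (Steps.bwd (nat_lit 1) (Steps.fwd (nat_lit 40960) (Steps.fwd (nat_lit 32768) (Steps.fwd (nat_lit 49152) (Steps.fwd (nat_lit 16384) (Steps.fwd (nat_lit 40960) (Steps.fwd (nat_lit 32768) Steps.nil))))))) (nat_lit 36) (nat_lit 0),
  Rule.mk (nat_lit 6) (nat_lit 86) (Steps.fwd (nat_lit 32768) (Steps.bwd (nat_lit 5) (Steps.fwd (nat_lit 24576) (Steps.bwd (nat_lit 2) (Steps.bwd (nat_lit 3) Steps.nil))))) (nat_lit 27) (nat_lit 0),
  Rule.mk (nat_lit 6) (nat_lit 116) (Steps.fwd (nat_lit 24576) (Steps.bwd (nat_lit 5) (Steps.bwd (nat_lit 2) (Steps.fwd (nat_lit 40960) (Steps.fwd (nat_lit 24576) (Steps.bwd (nat_lit 5) (Steps.bwd (nat_lit 2) Steps.nil))))))) (nat_lit 37) (nat_lit 1),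
  Rule.mk (nat_lit 1) (nat_lit 116) (Steps.fwd (nat_lit 40960) (Steps.fwd (nat_lit 32768) (Steps.bwd (nat_lit 5) (Steps.fwd (nat_lit 16384) (Steps.bwd (nat_lit 6) (Steps.bwd (nat_lit 3) (Steps.bwd (nat_lit 5) Steps.nil))))))) (nat_lit 36) (nat_lit 1),
  Rule.mk (nat_lit 6) (nat_lit 116) (Steps.bwd (nat_lit 4) (Steps.fwd (nat_lit 49152) (Steps.bwd (nat_lit 2) (Steps.fwd (nat_lit 40960) (Steps.bwd (nat_lit 4) (Steps.bwd (nat_lit 5) (Steps.bwd (nat_lit 2) Steps.nil))))))) (nat_lit 37) (nat_lit 1),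
  Rule.mk (nat_lit 6) (nat_lit 116) (Steps.bwd (nat_lit 3) (Steps.fwd (nat_lit 49152) (Steps.fwd (nat_lit 16384) (Steps.fwd (nat_lit 40960) (Steps.fwd (nat_lit 32768) (Steps.bwd (nat_lit 5) (Steps.bwd (nat_lit 1) Steps.nil))))))) (nat_lit 36) (nat_lit 2),
  Rule.mk (nat_lit 6) (nat_lit 116) (Steps.fwd (nat_lit 24576) (Steps.fwd (nat_lit 49152) (Steps.fwd (nat_lit 8192) (Steps.fwd (nat_lit 40960) (Steps.bwd (nat_lit 4) (Steps.bwd (nat_lit 5) (Steps.bwd (nat_lit 2) Steps.nil))))))) (nat_lit 37) (nat_lit 1),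
  Rule.mk (nat_lit 6) (nat_lit 146) (Steps.fwd (nat_lit 32768) (Steps.bwd (nat_lit 6) (Steps.fwd (nat_lit 32768) (Steps.bwd (nat_lit 6) (Steps.bwd (nat_lit 3) (Steps.fwd (nat_lit 40960) (Steps.bwd (nat_lit 3) (Steps.bwd (nat_lit 6) (Steps.bwd (nat_lit 3) Steps.nil))))))))) (nat_lit 51) (nat_lit 1),
  Rule.mk (nat_lit 3) (nat_lit 86) (Steps.fwd (nat_lit 40960) (Steps.bwd (nat_lit 3) (Steps.fwd (nat_lit 49152) (Steps.bwd (nat_lit 4) (Steps.bwd (nat_lit 2) Steps.nil))))) (nat_lit 27) (nat_lit 5),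
  Rule.mk (nat_lit 3) (nat_lit 146) (Steps.bwd (nat_lit 6) (Steps.bwd (nat_lit 3) (Steps.fwd (nat_lit 40960) (Steps.fwd (nat_lit 32768) (Steps.fwd (nat_lit 40960) (Steps.bwd (nat_lit 3) (Steps.bwd (nat_lit 6) (Steps.bwd (nat_lit 3) (Steps.fwd (nat_lit 40960) Steps.nil))))))))) (nat_lit 51) (nat_lit 0),
  Rule.mk (nat_lit 5) (nat_lit 146) (Steps.bwd (nat_lit 4) (Steps.bwd (nat_lit 5) (Steps.bwd (nat_lit 4) (Steps.bwd (nat_lit 5) (Steps.bwd (nat_lit 4) (Steps.fwd (nat_lit 49152) (Steps.fwd (nat_lit 24576) (Steps.fwd (nat_lit 49152) (Steps.fwd (nat_lit 24576) Steps.nil))))))))) (nat_lit 50) (nat_lit 0),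
  Rule.mk (nat_lit 0) (nat_lit 131) (Steps.fwd (nat_lit 40960) (Steps.bwd (nat_lit 3) (Steps.fwd (nat_lit 49152) (Steps.fwd (nat_lit 16384) (Steps.bwd (nat_lit 6) (Steps.bwd (nat_lit 3) (Steps.fwd (nat_lit 49152) (Steps.bwd (nat_lit 1) Steps.nil)))))))) (nat_lit 36) (nat_lit 1),
  Rule.mk (nat_lit 1) (nat_lit 116) (Steps.bwd (nat_lit 6) (Steps.bwd (nat_lit 3) (Steps.bwd (nat_lit 5) (Steps.bwd (nat_lit 1) (Steps.bwd (nat_lit 6) (Steps.fwd (nat_lit 32768) (Steps.fwd (nat_lit 49152) Steps.nil))))))) (nat_lit 36) (nat_lit 1),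
  Rule.mk (nat_lit 4) (nat_lit 116) (Steps.bwd (nat_lit 5) (Steps.fwd (nat_lit 8192) (Steps.bwd (nat_lit 6) (Steps.bwd (nat_lit 4) (Steps.fwd (nat_lit 49152) (Steps.bwd (nat_lit 2) (Steps.bwd (nat_lit 6) Steps.nil))))))) (nat_lit 37) (nat_lit 2),
  Rule.mk (nat_lit 6) (nat_lit 146) (Steps.bwd (nat_lit 3) (Steps.bwd (nat_lit 6) (Steps.fwd (nat_lit 32768) (Steps.bwd (nat_lit 6) (Steps.bwd (nat_lit 3) (Steps.fwd (nat_lit 40960) (Steps.fwd (nat_lit 32768) (Steps.bwd (nat_lit 6) (Steps.bwd (nat_lit 3) Steps.nil))))))))) (nat_lit 51) (nat_lit 1),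
  Rule.mk (nat_lit 6) (nat_lit 116) (Steps.fwd (nat_lit 32768) (Steps.fwd (nat_lit 49152) (Steps.fwd (nat_lit 16384) (Steps.fwd (nat_lit 40960) (Steps.fwd (nat_lit 32768) (Steps.fwd (nat_lit 49152) (Steps.bwd (nat_lit 1) Steps.nil))))))) (nat_lit 36) (nat_lit 2),
  Rule.mk (nat_lit 3) (nat_lit 146) (Steps.bwd (nat_lit 6) (Steps.fwd (nat_lit 32768) (Steps.bwd (nat_lit 6) (Steps.fwd (nat_lit 32768) (Steps.fwd (nat_lit 40960) (Steps.fwd (nat_lit 32768) (Steps.bwd (nat_lit 6) (Steps.bwd (nat_lit 3) (Steps.fwd (nat_lit 40960) Steps.nil))))))))) (nat_lit 51) (nat_lit 0),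
  Rule.mk (nat_lit 1) (nat_lit 116) (Steps.fwd (nat_lit 40960) (Steps.fwd (nat_lit 32768) (Steps.fwd (nat_lit 49152) (Steps.bwd (nat_lit 1) (Steps.fwd (nat_lit 40960) (Steps.bwd (nat_lit 3) (Steps.fwd (nat_lit 49152) Steps.nil))))))) (nat_lit 36) (nat_lit 1),
  Rule.mk (nat_lit 1) (nat_lit 116) (Steps.fwd (nat_lit 40960) (Steps.bwd (nat_lit 3) (Steps.fwd (nat_lit 49152) (Steps.fwd (nat_lit 16384) (Steps.bwd (nat_lit 6) (Steps.bwd (nat_lit 3) (Steps.bwd (nat_lit 5) Steps.nil))))))) (nat_lit 36) (nat_lit 1),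
  Rule.mk (nat_lit 3) (nat_lit 86) (Steps.bwd (nat_lit 6) (Steps.bwd (nat_lit 3) (Steps.bwd (nat_lit 5) (Steps.bwd (nat_lit 4) (Steps.bwd (nat_lit 2) Steps.nil))))) (nat_lit 27) (nat_lit 5),
  Rule.mk (nat_lit 5) (nat_lit 116) (Steps.bwd (nat_lit 1) (Steps.fwd (nat_lit 40960) (Steps.fwd (nat_lit 32768) (Steps.fwd (nat_lit 49152) (Steps.bwd (nat_lit 1) (Steps.bwd (nat_lit 6) (Steps.fwd (nat_lit 32768) Steps.nil))))))) (nat_lit 36) (nat_lit 0),
  Rule.mk (nat_lit 2) (nat_lit 116) (Steps.fwd (nat_lit 40960) (Steps.fwd (nat_lit 24576) (Steps.bwd (nat_lit 5) (Steps.bwd (nat_lit 2) (Steps.bwd (nat_lit 6) (Steps.bwd (nat_lit 4) (Steps.bwd (nat_lit 5) Steps.nil))))))) (nat_lit 37) (nat_lit 0),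
  Rule.mk (nat_lit 5) (nat_lit 116) (Steps.bwd (nat_lit 2) (Steps.bwd (nat_lit 6) (Steps.bwd (nat_lit 4) (Steps.fwd (nat_lit 49152) (Steps.bwd (nat_lit 2) (Steps.bwd (nat_lit 6) (Steps.bwd (nat_lit 4) Steps.nil))))))) (nat_lit 37) (nat_lit 3),
  Rule.mk (nat_lit 0) (nat_lit 161) (Steps.bwd (nat_lit 3) (Steps.bwd (nat_lit 6) (Steps.fwd (nat_lit 32768) (Steps.fwd (nat_lit 40960) (Steps.fwd (nat_lit 32768) (Steps.fwd (nat_lit 40960) (Steps.fwd (nat_lit 32768) (Steps.bwd (nat_lit 6) (Steps.bwd (nat_lit 3) (Steps.fwd (nat_lit 40960) Steps.nil)))))))))) (nat_lit 51) (nat_lit 1)]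
noncomputable def R_21 : List (Rule) := [Rule.mk (nat_lit 4) (nat_lit 146) (Steps.bwd (nat_lit 5) (Steps.fwd (nat_lit 24576) (Steps.bwd (nat_lit 5) (Steps.bwd (nat_lit 4) (Steps.fwd (nat_lit 49152) (Steps.fwd (nat_lit 24576) (Steps.bwd (nat_lit 5) (Steps.bwd (nat_lit 4) (Steps.bwd (nat_lit 5) Steps.nil))))))))) (nat_lit 50) (nat_lit 1),
  Rule.mk (nat_lit 0) (nat_lit 101) (Steps.bwd (nat_lit 3) (Steps.fwd (nat_lit 40960) (Steps.bwd (nat_lit 4) (Steps.fwd (nat_lit 49152) (Steps.fwd (nat_lit 24576) (Steps.fwd (nat_lit 16384) Steps.nil)))))) (nat_lit 26) (nat_lit 3),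
  Rule.mk (nat_lit 6) (nat_lit 146) (Steps.bwd (nat_lit 3) (Steps.bwd (nat_lit 6) (Steps.fwd (nat_lit 32768) (Steps.bwd (nat_lit 6) (Steps.bwd (nat_lit 3) (Steps.fwd (nat_lit 40960) (Steps.fwd (nat_lit 32768) (Steps.bwd (nat_lit 6) (Steps.fwd (nat_lit 32768) Steps.nil))))))))) (nat_lit 51) (nat_lit 1),
  Rule.mk (nat_lit 4) (nat_lit 146) (Steps.bwd (nat_lit 5) (Steps.bwd (nat_lit 4) (Steps.fwd (nat_lit 49152) (Steps.bwd (nat_lit 4) (Steps.fwd (nat_lit 49152) (Steps.fwd (nat_lit 24576) (Steps.bwd (nat_lit 5) (Steps.bwd (nat_lit 4) (Steps.fwd (nat_lit 49152) Steps.nil))))))))) (nat_lit 50) (nat_lit 1),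
  Rule.mk (nat_lit 5) (nat_lit 86) (Steps.bwd (nat_lit 4) (Steps.fwd (nat_lit 8192) (Steps.fwd (nat_lit 32768) (Steps.fwd (nat_lit 40960) (Steps.bwd (nat_lit 3) Steps.nil))))) (nat_lit 27) (nat_lit 2),
  Rule.mk (nat_lit 5) (nat_lit 116) (Steps.bwd (nat_lit 2) (Steps.bwd (nat_lit 6) (Steps.bwd (nat_lit 4) (Steps.bwd (nat_lit 5) (Steps.fwd (nat_lit 8192) (Steps.bwd (nat_lit 6) (Steps.bwd (nat_lit 4) Steps.nil))))))) (nat_lit 37) (nat_lit 3),
  Rule.mk (nat_lit 3) (nat_lit 86) (Steps.fwd (nat_lit 40960) (Steps.fwd (nat_lit 32768) (Steps.fwd (nat_lit 49152) (Steps.fwd (nat_lit 24576) (Steps.bwd (nat_lit 2) Steps.nil))))) (nat_lit 27) (nat_lit 5),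
  Rule.mk (nat_lit 3) (nat_lit 86) (Steps.fwd (nat_lit 40960) (Steps.fwd (nat_lit 32768) (Steps.fwd (nat_lit 49152) (Steps.bwd (nat_lit 4) (Steps.bwd (nat_lit 2) Steps.nil))))) (nat_lit 27) (nat_lit 5),
  Rule.mk (nat_lit 3) (nat_lit 146) (Steps.bwd (nat_lit 6) (Steps.bwd (nat_lit 3) (Steps.bwd (nat_lit 6) (Steps.fwd (nat_lit 32768) (Steps.bwd (nat_lit 6) (Steps.fwd (nat_lit 32768) (Steps.bwd (nat_lit 6) (Steps.fwd (nat_lit 32768) (Steps.bwd (nat_lit 6) Steps.nil))))))))) (nat_lit 51) (nat_lit 0),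
  Rule.mk (nat_lit 2) (nat_lit 116) (Steps.fwd (nat_lit 40960) (Steps.fwd (nat_lit 24576) (Steps.fwd (nat_lit 49152) (Steps.fwd (nat_lit 8192) (Steps.bwd (nat_lit 6) (Steps.fwd (nat_lit 24576) (Steps.bwd (nat_lit 5) Steps.nil))))))) (nat_lit 37) (nat_lit 0),
  Rule.mk (nat_lit 6) (nat_lit 116) (Steps.bwd (nat_lit 4) (Steps.fwd (nat_lit 49152) (Steps.fwd (nat_lit 8192) (Steps.bwd (nat_lit 6) (Steps.fwd (nat_lit 24576) (Steps.bwd (nat_lit 5) (Steps.bwd (nat_lit 2) Steps.nil))))))) (nat_lit 37) (nat_lit 1),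
  Rule.mk (nat_lit 1) (nat_lit 116) (Steps.fwd (nat_lit 40960) (Steps.bwd (nat_lit 3) (Steps.bwd (nat_lit 5) (Steps.fwd (nat_lit 16384) (Steps.bwd (nat_lit 6) (Steps.bwd (nat_lit 3) (Steps.bwd (nat_lit 5) Steps.nil))))))) (nat_lit 36) (nat_lit 1),
  Rule.mk (nat_lit 3) (nat_lit 116) (Steps.bwd (nat_lit 5) (Steps.fwd (nat_lit 16384) (Steps.fwd (nat_lit 40960) (Steps.bwd (nat_lit 3) (Steps.fwd (nat_lit 49152) (Steps.fwd (nat_lit 16384) (Steps.bwd (nat_lit 6) Steps.nil))))))) (nat_lit 36) (nat_lit 3),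
  Rule.mk (nat_lit 4) (nat_lit 146) (Steps.fwd (nat_lit 49152) (Steps.bwd (nat_lit 4) (Steps.bwd (nat_lit 5) (Steps.bwd (nat_lit 4) (Steps.fwd (nat_lit 49152) (Steps.fwd (nat_lit 24576) (Steps.fwd (nat_lit 49152) (Steps.fwd (nat_lit 24576) (Steps.bwd (nat_lit 5) Steps.nil))))))))) (nat_lit 50) (nat_lit 1),
  Rule.mk (nat_lit 1) (nat_lit 116) (Steps.bwd (nat_lit 6) (Steps.fwd (nat_lit 32768) (Steps.fwd (nat_lit 49152) (Steps.bwd (nat_lit 1) (Steps.fwd (nat_lit 40960) (Steps.fwd (nat_lit 32768) (Steps.fwd (nat_lit 49152) Steps.nil))))))) (nat_lit 36) (nat_lit 1),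
  Rule.mk (nat_lit 3) (nat_lit 86) (Steps.fwd (nat_lit 40960) (Steps.fwd (nat_lit 32768) (Steps.bwd (nat_lit 5) (Steps.bwd (nat_lit 4) (Steps.bwd (nat_lit 2) Steps.nil))))) (nat_lit 27) (nat_lit 5),
  Rule.mk (nat_lit 3) (nat_lit 146) (Steps.bwd (nat_lit 6) (Steps.bwd (nat_lit 3) (Steps.bwd (nat_lit 6) (Steps.bwd (nat_lit 3) (Steps.bwd (nat_lit 6) (Steps.fwd (nat_lit 32768) (Steps.bwd (nat_lit 6) (Steps.bwd (nat_lit 3) (Steps.bwd (nat_lit 6) Steps.nil))))))))) (nat_lit 51) (nat_lit 0),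
  Rule.mk (nat_lit 5) (nat_lit 116) (Steps.bwd (nat_lit 2) (Steps.bwd (nat_lit 6) (Steps.bwd (nat_lit 4) (Steps.fwd (nat_lit 49152) (Steps.bwd (nat_lit 2) (Steps.bwd (nat_lit 6) (Steps.fwd (nat_lit 24576) Steps.nil))))))) (nat_lit 37) (nat_lit 3),
  Rule.mk (nat_lit 5) (nat_lit 146) (Steps.bwd (nat_lit 4) (Steps.fwd (nat_lit 49152) (Steps.fwd (nat_lit 24576) (Steps.bwd (nat_lit 5) (Steps.bwd (nat_lit 4) (Steps.fwd (nat_lit 49152) (Steps.fwd (nat_lit 24576) (Steps.fwd (nat_lit 49152) (Steps.fwd (nat_lit 24576) Steps.nil))))))))) (nat_lit 50) (nat_lit 0),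
  Rule.mk (nat_lit 1) (nat_lit 116) (Steps.fwd (nat_lit 40960) (Steps.bwd (nat_lit 3) (Steps.bwd (nat_lit 5) (Steps.bwd (nat_lit 1) (Steps.bwd (nat_lit 6) (Steps.fwd (nat_lit 32768) (Steps.fwd (nat_lit 49152) Steps.nil))))))) (nat_lit 36) (nat_lit 1),
  Rule.mk (nat_lit 0) (nat_lit 131) (Steps.fwd (nat_lit 8192) (Steps.bwd (nat_lit 6) (Steps.fwd (nat_lit 24576) (Steps.fwd (nat_lit 49152) (Steps.fwd (nat_lit 8192) (Steps.fwd (nat_lit 40960) (Steps.bwd (nat_lit 4) (Steps.bwd (nat_lit 5) Steps.nil)))))))) (nat_lit 37) (nat_lit 3),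
  Rule.mk (nat_lit 0) (nat_lit 131) (Steps.fwd (nat_lit 8192) (Steps.fwd (nat_lit 40960) (Steps.bwd (nat_lit 4) (Steps.bwd (nat_lit 5) (Steps.fwd (nat_lit 8192) (Steps.fwd (nat_lit 40960) (Steps.fwd (nat_lit 24576) (Steps.fwd (nat_lit 49152) Steps.nil)))))))) (nat_lit 37) (nat_lit 3),
  Rule.mk (nat_lit 0) (nat_lit 131) (Steps.fwd (nat_lit 8192) (Steps.fwd (nat_lit 40960) (Steps.bwd (nat_lit 4) (Steps.bwd (nat_lit 5) (Steps.fwd (nat_lit 8192) (Steps.fwd (nat_lit 40960) (Steps.bwd (nat_lit 4) (Steps.bwd (nat_lit 5) Steps.nil)))))))) (nat_lit 37) (nat_lit 3),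
  Rule.mk (nat_lit 4) (nat_lit 116) (Steps.fwd (nat_lit 49152) (Steps.fwd (nat_lit 8192) (Steps.bwd (nat_lit 6) (Steps.fwd (nat_lit 24576) (Steps.fwd (nat_lit 49152) (Steps.bwd (nat_lit 2) (Steps.fwd (nat_lit 40960) Steps.nil))))))) (nat_lit 37) (nat_lit 2),
  Rule.mk (nat_lit 4) (nat_lit 146) (Steps.fwd (nat_lit 49152) (Steps.fwd (nat_lit 24576) (Steps.bwd (nat_lit 5) (Steps.bwd (nat_lit 4) (Steps.bwd (nat_lit 5) (Steps.bwd (nat_lit 4) (Steps.fwd (nat_lit 49152) (Steps.fwd (nat_lit 24576) (Steps.bwd (nat_lit 5) Steps.nil))))))))) (nat_lit 50) (nat_lit 1),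
  Rule.mk (nat_lit 4) (nat_lit 146) (Steps.bwd (nat_lit 5) (Steps.fwd (nat_lit 24576) (Steps.bwd (nat_lit 5) (Steps.fwd (nat_lit 24576) (Steps.bwd (nat_lit 5) (Steps.bwd (nat_lit 4) (Steps.bwd (nat_lit 5) (Steps.bwd (nat_lit 4) (Steps.bwd (nat_lit 5) Steps.nil))))))))) (nat_lit 50) (nat_lit 1),
  Rule.mk (nat_lit 5) (nat_lit 116) (Steps.bwd (nat_lit 1) (Steps.bwd (nat_lit 6) (Steps.fwd (nat_lit 32768) (Steps.fwd (nat_lit 49152) (Steps.fwd (nat_lit 16384) (Steps.fwd (nat_lit 40960) (Steps.fwd (nat_lit 32768) Steps.nil))))))) (nat_lit 36) (nat_lit 0),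
  Rule.mk (nat_lit 3) (nat_lit 146) (Steps.bwd (nat_lit 6) (Steps.bwd (nat_lit 3) (Steps.fwd (nat_lit 40960) (Steps.fwd (nat_lit 32768) (Steps.bwd (nat_lit 6) (Steps.bwd (nat_lit 3) (Steps.fwd (nat_lit 40960) (Steps.bwd (nat_lit 3) (Steps.bwd (nat_lit 6) Steps.nil))))))))) (nat_lit 51) (nat_lit 0),
  Rule.mk (nat_lit 4) (nat_lit 146) (Steps.bwd (nat_lit 5) (Steps.fwd (nat_lit 24576) (Steps.bwd (nat_lit 5) (Steps.fwd (nat_lit 24576) (Steps.bwd (nat_lit 5) (Steps.bwd (nat_lit 4) (Steps.bwd (nat_lit 5) (Steps.fwd (nat_lit 24576) (Steps.fwd (nat_lit 49152) Steps.nil))))))))) (nat_lit 50) (nat_lit 1),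
  Rule.mk (nat_lit 1) (nat_lit 116) (Steps.bwd (nat_lit 6) (Steps.fwd (nat_lit 32768) (Steps.fwd (nat_lit 49152) (Steps.fwd (nat_lit 16384) (Steps.fwd (nat_lit 40960) (Steps.fwd (nat_lit 32768) (Steps.fwd (nat_lit 49152) Steps.nil))))))) (nat_lit 36) (nat_lit 1),
  Rule.mk (nat_lit 6) (nat_lit 146) (Steps.bwd (nat_lit 3) (Steps.bwd (nat_lit 6) (Steps.bwd (nat_lit 3) (Steps.fwd (nat_lit 40960) (Steps.bwd (nat_lit 3) (Steps.bwd (nat_lit 6) (Steps.bwd (nat_lit 3) (Steps.bwd (nat_lit 6) (Steps.bwd (nat_lit 3) Steps.nil))))))))) (nat_lit 51) (nat_lit 1),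
  Rule.mk (nat_lit 6) (nat_lit 116) (Steps.bwd (nat_lit 3) (Steps.bwd (nat_lit 5) (Steps.fwd (nat_lit 16384) (Steps.fwd (nat_lit 40960) (Steps.bwd (nat_lit 3) (Steps.fwd (nat_lit 49152) (Steps.bwd (nat_lit 1) Steps.nil))))))) (nat_lit 36) (nat_lit 2),
  Rule.mk (nat_lit 6) (nat_lit 146) (Steps.bwd (nat_lit 3) (Steps.bwd (nat_lit 6) (Steps.fwd (nat_lit 32768) (Steps.bwd (nat_lit 6) (Steps.fwd (nat_lit 32768) (Steps.fwd (nat_lit 40960) (Steps.fwd (nat_lit 32768) (Steps.bwd (nat_lit 6) (Steps.bwd (nat_lit 3) Steps.nil))))))))) (nat_lit 51) (nat_lit 1),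
  Rule.mk (nat_lit 1) (nat_lit 116) (Steps.fwd (nat_lit 40960) (Steps.bwd (nat_lit 3) (Steps.bwd (nat_lit 5) (Steps.bwd (nat_lit 1) (Steps.bwd (nat_lit 6) (Steps.bwd (nat_lit 3) (Steps.fwd (nat_lit 49152) Steps.nil))))))) (nat_lit 36) (nat_lit 1),
  Rule.mk (nat_lit 1) (nat_lit 116) (Steps.fwd (nat_lit 40960) (Steps.fwd (nat_lit 32768) (Steps.bwd (nat_lit 5) (Steps.bwd (nat_lit 1) (Steps.fwd (nat_lit 40960) (Steps.bwd (nat_lit 3) (Steps.fwd (nat_lit 49152) Steps.nil))))))) (nat_lit 36) (nat_lit 1),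
  Rule.mk (nat_lit 3) (nat_lit 146) (Steps.bwd (nat_lit 6) (Steps.bwd (nat_lit 3) (Steps.bwd (nat_lit 6) (Steps.fwd (nat_lit 32768) (Steps.bwd (nat_lit 6) (Steps.bwd (nat_lit 3) (Steps.fwd (nat_lit 40960) (Steps.fwd (nat_lit 32768) (Steps.fwd (nat_lit 40960) Steps.nil))))))))) (nat_lit 51) (nat_lit 0),
  Rule.mk (nat_lit 6) (nat_lit 146) (Steps.bwd (nat_lit 3) (Steps.fwd (nat_lit 40960) (Steps.fwd (nat_lit 32768) (Steps.fwd (nat_lit 40960) (Steps.bwd (nat_lit 3) (Steps.bwd (nat_lit 6) (Steps.fwd (nat_lit 32768) (Steps.bwd (nat_lit 6) (Steps.bwd (nat_lit 3) Steps.nil))))))))) (nat_lit 51) (nat_lit 1),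
  Rule.mk (nat_lit 0) (nat_lit 101) (Steps.bwd (nat_lit 4) (Steps.bwd (nat_lit 2) (Steps.bwd (nat_lit 3) (Steps.bwd (nat_lit 6) (Steps.bwd (nat_lit 3) (Steps.fwd (nat_lit 49152) Steps.nil)))))) (nat_lit 27) (nat_lit 2),
  Rule.mk (nat_lit 0) (nat_lit 131) (Steps.fwd (nat_lit 40960) (Steps.bwd (nat_lit 4) (Steps.fwd (nat_lit 49152) (Steps.fwd (nat_lit 8192) (Steps.fwd (nat_lit 40960) (Steps.bwd (nat_lit 4) (Steps.bwd (nat_lit 5) (Steps.fwd (nat_lit 8192) Steps.nil)))))))) (nat_lit 37) (nat_lit 0),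
  Rule.mk (nat_lit 5) (nat_lit 116) (Steps.fwd (nat_lit 16384) (Steps.bwd (nat_lit 6) (Steps.bwd (nat_lit 3) (Steps.fwd (nat_lit 49152) (Steps.fwd (nat_lit 16384) (Steps.bwd (nat_lit 6) (Steps.bwd (nat_lit 3) Steps.nil))))))) (nat_lit 36) (nat_lit 0),
  Rule.mk (nat_lit 5) (nat_lit 146) (Steps.bwd (nat_lit 4) (Steps.bwd (nat_lit 5) (Steps.bwd (nat_lit 4) (Steps.bwd (nat_lit 5) (Steps.bwd (nat_lit 4) (Steps.bwd (nat_lit 5) (Steps.fwd (nat_lit 24576) (Steps.bwd (nat_lit 5) (Steps.bwd (nat_lit 4) Steps.nil))))))))) (nat_lit 50) (nat_lit 0),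
  Rule.mk (nat_lit 2) (nat_lit 116) (Steps.bwd (nat_lit 6) (Steps.fwd (nat_lit 24576) (Steps.bwd (nat_lit 5) (Steps.fwd (nat_lit 8192) (Steps.fwd (nat_lit 40960) (Steps.fwd (nat_lit 24576) (Steps.bwd (nat_lit 5) Steps.nil))))))) (nat_lit 37) (nat_lit 0),
  Rule.mk (nat_lit 4) (nat_lit 116) (Steps.bwd (nat_lit 5) (Steps.fwd (nat_lit 8192) (Steps.bwd (nat_lit 6) (Steps.fwd (nat_lit 24576) (Steps.fwd (nat_lit 49152) (Steps.bwd (nat_lit 2) (Steps.bwd (nat_lit 6) Steps.nil))))))) (nat_lit 37) (nat_lit 2),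
  Rule.mk (nat_lit 0) (nat_lit 101) (Steps.fwd (nat_lit 32768) (Steps.fwd (nat_lit 40960) (Steps.fwd (nat_lit 32768) (Steps.fwd (nat_lit 49152) (Steps.fwd (nat_lit 24576) (Steps.fwd (nat_lit 8192) Steps.nil)))))) (nat_lit 27) (nat_lit 4),
  Rule.mk (nat_lit 6) (nat_lit 116) (Steps.bwd (nat_lit 4) (Steps.bwd (nat_lit 5) (Steps.fwd (nat_lit 8192) (Steps.bwd (nat_lit 6) (Steps.bwd (nat_lit 4) (Steps.bwd (nat_lit 5) (Steps.bwd (nat_lit 2) Steps.nil))))))) (nat_lit 37) (nat_lit 1),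
  Rule.mk (nat_lit 2) (nat_lit 116) (Steps.bwd (nat_lit 6) (Steps.fwd (nat_lit 24576) (Steps.fwd (nat_lit 49152) (Steps.fwd (nat_lit 8192) (Steps.bwd (nat_lit 6) (Steps.bwd (nat_lit 4) (Steps.fwd (nat_lit 49152) Steps.nil))))))) (nat_lit 37) (nat_lit 0),
  Rule.mk (nat_lit 3) (nat_lit 86) (Steps.bwd (nat_lit 6) (Steps.fwd (nat_lit 32768) (Steps.fwd (nat_lit 49152) (Steps.fwd (nat_lit 24576) (Steps.bwd (nat_lit 2) Steps.nil))))) (nat_lit 27) (nat_lit 5),
  Rule.mk (nat_lit 1) (nat_lit 116) (Steps.bwd (nat_lit 6) (Steps.fwd (nat_lit 32768) (Steps.fwd (nat_lit 49152) (Steps.fwd (nat_lit 16384) (Steps.fwd (nat_lit 40960) (Steps.bwd (nat_lit 3) (Steps.fwd (nat_lit 49152) Steps.nil))))))) (nat_lit 36) (nat_lit 1),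
  Rule.mk (nat_lit 4) (nat_lit 116) (Steps.bwd (nat_lit 5) (Steps.fwd (nat_lit 8192) (Steps.bwd (nat_lit 6) (Steps.bwd (nat_lit 4) (Steps.bwd (nat_lit 5) (Steps.bwd (nat_lit 2) (Steps.fwd (nat_lit 40960) Steps.nil))))))) (nat_lit 37) (nat_lit 2),
  Rule.mk (nat_lit 0) (nat_lit 101) (Steps.bwd (nat_lit 5) (Steps.fwd (nat_lit 24576) (Steps.bwd (nat_lit 2) (Steps.bwd (nat_lit 3) (Steps.fwd (nat_lit 40960) (Steps.bwd (nat_lit 3) Steps.nil)))))) (nat_lit 27) (nat_lit 1),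
  Rule.mk (nat_lit 1) (nat_lit 116) (Steps.bwd (nat_lit 6) (Steps.bwd (nat_lit 3) (Steps.bwd (nat_lit 5) (Steps.fwd (nat_lit 16384) (Steps.fwd (nat_lit 40960) (Steps.fwd (nat_lit 32768) (Steps.fwd (nat_lit 49152) Steps.nil))))))) (nat_lit 36) (nat_lit 1),
  Rule.mk (nat_lit 0) (nat_lit 101) (Steps.fwd (nat_lit 8192) (Steps.fwd (nat_lit 32768) (Steps.bwd (nat_lit 6) (Steps.fwd (nat_lit 32768) (Steps.bwd (nat_lit 5) (Steps.fwd (nat_lit 24576) Steps.nil)))))) (nat_lit 27) (nat_lit 3),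
  Rule.mk (nat_lit 2) (nat_lit 116) (Steps.bwd (nat_lit 6) (Steps.bwd (nat_lit 4) (Steps.fwd (nat_lit 49152) (Steps.fwd (nat_lit 8192) (Steps.bwd (nat_lit 6) (Steps.fwd (nat_lit 24576) (Steps.bwd (nat_lit 5) Steps.nil))))))) (nat_lit 37) (nat_lit 0),
  Rule.mk (nat_lit 6) (nat_lit 116) (Steps.bwd (nat_lit 4) (Steps.fwd (nat_lit 49152) (Steps.fwd (nat_lit 8192) (Steps.bwd (nat_lit 6) (Steps.bwd (nat_lit 4) (Steps.fwd (nat_lit 49152) (Steps.bwd (nat_lit 2) Steps.nil))))))) (nat_lit 37) (nat_lit 1),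
  Rule.mk (nat_lit 6) (nat_lit 116) (Steps.bwd (nat_lit 3) (Steps.fwd (nat_lit 49152) (Steps.bwd (nat_lit 1) (Steps.bwd (nat_lit 6) (Steps.fwd (nat_lit 32768) (Steps.bwd (nat_lit 5) (Steps.bwd (nat_lit 1) Steps.nil))))))) (nat_lit 36) (nat_lit 2),
  Rule.mk (nat_lit 0) (nat_lit 131) (Steps.fwd (nat_lit 16384) (Steps.fwd (nat_lit 40960) (Steps.fwd (nat_lit 32768) (Steps.fwd (nat_lit 49152) (Steps.fwd (nat_lit 16384) (Steps.bwd (nat_lit 6) (Steps.bwd (nat_lit 3) (Steps.bwd (nat_lit 5) Steps.nil)))))))) (nat_lit 36) (nat_lit 0),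
  Rule.mk (nat_lit 5) (nat_lit 116) (Steps.bwd (nat_lit 1) (Steps.fwd (nat_lit 40960) (Steps.bwd (nat_lit 3) (Steps.bwd (nat_lit 5) (Steps.bwd (nat_lit 1) (Steps.fwd (nat_lit 40960) (Steps.bwd (nat_lit 3) Steps.nil))))))) (nat_lit 36) (nat_lit 0),
  Rule.mk (nat_lit 3) (nat_lit 146) (Steps.bwd (nat_lit 6) (Steps.bwd (nat_lit 3) (Steps.bwd (nat_lit 6) (Steps.bwd (nat_lit 3) (Steps.fwd (nat_lit 40960) (Steps.bwd (nat_lit 3) (Steps.fwd (nat_lit 40960) (Steps.fwd (nat_lit 32768) (Steps.bwd (nat_lit 6) Steps.nil))))))))) (nat_lit 51) (nat_lit 0),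
  Rule.mk (nat_lit 5) (nat_lit 86) (Steps.fwd (nat_lit 24576) (Steps.fwd (nat_lit 16384) (Steps.fwd (nat_lit 32768) (Steps.fwd (nat_lit 40960) (Steps.bwd (nat_lit 4) Steps.nil))))) (nat_lit 26) (nat_lit 1),
  Rule.mk (nat_lit 3) (nat_lit 86) (Steps.fwd (nat_lit 40960) (Steps.fwd (nat_lit 24576) (Steps.bwd (nat_lit 5) (Steps.bwd (nat_lit 4) (Steps.bwd (nat_lit 1) Steps.nil))))) (nat_lit 26) (nat_lit 4),
  Rule.mk (nat_lit 4) (nat_lit 146) (Steps.fwd (nat_lit 49152) (Steps.bwd (nat_lit 4) (Steps.bwd (nat_lit 5) (Steps.fwd (nat_lit 24576) (Steps.fwd (nat_lit 49152) (Steps.fwd (nat_lit 24576) (Steps.bwd (nat_lit 5) (Steps.bwd (nat_lit 4) (Steps.bwd (nat_lit 5) Steps.nil))))))))) (nat_lit 50) (nat_lit 1),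
  Rule.mk (nat_lit 0) (nat_lit 161) (Steps.fwd (nat_lit 49152) (Steps.bwd (nat_lit 4) (Steps.bwd (nat_lit 5) (Steps.bwd (nat_lit 4) (Steps.bwd (nat_lit 5) (Steps.fwd (nat_lit 24576) (Steps.bwd (nat_lit 5) (Steps.bwd (nat_lit 4) (Steps.fwd (nat_lit 49152) (Steps.fwd (nat_lit 24576) Steps.nil)))))))))) (nat_lit 50) (nat_lit 1),
  Rule.mk (nat_lit 4) (nat_lit 116) (Steps.bwd (nat_lit 5) (Steps.bwd (nat_lit 2) (Steps.bwd (nat_lit 6) (Steps.bwd (nat_lit 4) (Steps.fwd (nat_lit 49152) (Steps.bwd (nat_lit 2) (Steps.bwd (nat_lit 6) Steps.nil))))))) (nat_lit 37) (nat_lit 2),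
  Rule.mk (nat_lit 1) (nat_lit 116) (Steps.bwd (nat_lit 6) (Steps.fwd (nat_lit 32768) (Steps.fwd (nat_lit 49152) (Steps.bwd (nat_lit 1) (Steps.bwd (nat_lit 6) (Steps.bwd (nat_lit 3) (Steps.fwd (nat_lit 49152) Steps.nil))))))) (nat_lit 36) (nat_lit 1)]
noncomputable def R_22 : List (Rule) := [Rule.mk (nat_lit 6) (nat_lit 116) (Steps.fwd (nat_lit 32768) (Steps.fwd (nat_lit 49152) (Steps.fwd (nat_lit 16384) (Steps.bwd (nat_lit 6) (Steps.bwd (nat_lit 3) (Steps.fwd (nat_lit 49152) (Steps.bwd (nat_lit 1) Steps.nil))))))) (nat_lit 36) (nat_lit 2),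
  Rule.mk (nat_lit 3) (nat_lit 146) (Steps.bwd (nat_lit 6) (Steps.bwd (nat_lit 3) (Steps.fwd (nat_lit 40960) (Steps.bwd (nat_lit 3) (Steps.bwd (nat_lit 6) (Steps.fwd (nat_lit 32768) (Steps.bwd (nat_lit 6) (Steps.bwd (nat_lit 3) (Steps.bwd (nat_lit 6) Steps.nil))))))))) (nat_lit 51) (nat_lit 0),
  Rule.mk (nat_lit 4) (nat_lit 146) (Steps.bwd (nat_lit 5) (Steps.fwd (nat_lit 24576) (Steps.bwd (nat_lit 5) (Steps.bwd (nat_lit 4) (Steps.bwd (nat_lit 5) (Steps.bwd (nat_lit 4) (Steps.fwd (nat_lit 49152) (Steps.fwd (nat_lit 24576) (Steps.bwd (nat_lit 5) Steps.nil))))))))) (nat_lit 50) (nat_lit 1),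
  Rule.mk (nat_lit 3) (nat_lit 86) (Steps.fwd (nat_lit 40960) (Steps.fwd (nat_lit 24576) (Steps.bwd (nat_lit 5) (Steps.fwd (nat_lit 24576) (Steps.bwd (nat_lit 1) Steps.nil))))) (nat_lit 26) (nat_lit 4),
  Rule.mk (nat_lit 5) (nat_lit 116) (Steps.bwd (nat_lit 1) (Steps.fwd (nat_lit 40960) (Steps.bwd (nat_lit 3) (Steps.bwd (nat_lit 5) (Steps.fwd (nat_lit 16384) (Steps.fwd (nat_lit 40960) (Steps.bwd (nat_lit 3) Steps.nil))))))) (nat_lit 36) (nat_lit 0),
  Rule.mk (nat_lit 5) (nat_lit 146) (Steps.bwd (nat_lit 4) (Steps.fwd (nat_lit 49152) (Steps.fwd (nat_lit 24576) (Steps.fwd (nat_lit 49152) (Steps.fwd (nat_lit 24576) (Steps.bwd (nat_lit 5) (Steps.fwd (nat_lit 24576) (Steps.bwd (nat_lit 5) (Steps.bwd (nat_lit 4) Steps.nil))))))))) (nat_lit 50) (nat_lit 0),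
  Rule.mk (nat_lit 1) (nat_lit 116) (Steps.fwd (nat_lit 40960) (Steps.bwd (nat_lit 3) (Steps.bwd (nat_lit 5) (Steps.bwd (nat_lit 1) (Steps.bwd (nat_lit 6) (Steps.bwd (nat_lit 3) (Steps.bwd (nat_lit 5) Steps.nil))))))) (nat_lit 36) (nat_lit 1),
  Rule.mk (nat_lit 2) (nat_lit 116) (Steps.fwd (nat_lit 40960) (Steps.bwd (nat_lit 4) (Steps.fwd (nat_lit 49152) (Steps.fwd (nat_lit 8192) (Steps.fwd (nat_lit 40960) (Steps.fwd (nat_lit 24576) (Steps.bwd (nat_lit 5) Steps.nil))))))) (nat_lit 37) (nat_lit 0),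
  Rule.mk (nat_lit 6) (nat_lit 146) (Steps.bwd (nat_lit 3) (Steps.bwd (nat_lit 6) (Steps.fwd (nat_lit 32768) (Steps.bwd (nat_lit 6) (Steps.bwd (nat_lit 3) (Steps.fwd (nat_lit 40960) (Steps.fwd (nat_lit 32768) (Steps.fwd (nat_lit 40960) (Steps.fwd (nat_lit 32768) Steps.nil))))))))) (nat_lit 51) (nat_lit 1),
  Rule.mk (nat_lit 5) (nat_lit 116) (Steps.bwd (nat_lit 1) (Steps.bwd (nat_lit 6) (Steps.fwd (nat_lit 32768) (Steps.fwd (nat_lit 49152) (Steps.bwd (nat_lit 1) (Steps.fwd (nat_lit 40960) (Steps.fwd (nat_lit 32768) Steps.nil))))))) (nat_lit 36) (nat_lit 0),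
  Rule.mk (nat_lit 3) (nat_lit 146) (Steps.bwd (nat_lit 6) (Steps.fwd (nat_lit 32768) (Steps.fwd (nat_lit 40960) (Steps.bwd (nat_lit 3) (Steps.bwd (nat_lit 6) (Steps.fwd (nat_lit 32768) (Steps.fwd (nat_lit 40960) (Steps.bwd (nat_lit 3) (Steps.bwd (nat_lit 6) Steps.nil))))))))) (nat_lit 51) (nat_lit 0),
  Rule.mk (nat_lit 4) (nat_lit 146) (Steps.bwd (nat_lit 5) (Steps.bwd (nat_lit 4) (Steps.bwd (nat_lit 5) (Steps.bwd (nat_lit 4) (Steps.bwd (nat_lit 5) (Steps.bwd (nat_lit 4) (Steps.bwd (nat_lit 5) (Steps.bwd (nat_lit 4) (Steps.bwd (nat_lit 5) Steps.nil))))))))) (nat_lit 50) (nat_lit 1),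
  Rule.mk (nat_lit 3) (nat_lit 146) (Steps.bwd (nat_lit 6) (Steps.fwd (nat_lit 32768) (Steps.fwd (nat_lit 40960) (Steps.fwd (nat_lit 32768) (Steps.fwd (nat_lit 40960) (Steps.fwd (nat_lit 32768) (Steps.bwd (nat_lit 6) (Steps.bwd (nat_lit 3) (Steps.bwd (nat_lit 6) Steps.nil))))))))) (nat_lit 51) (nat_lit 0)]
noncomputable def R : List (List (Rule)) := [R_0, R_1, R_2, R_3, R_4, R_5, R_6, R_7, R_8, R_9, R_10, R_11, R_12, R_13, R_14, R_15, R_16, R_17, R_18, R_19, R_20, R_21, R_22]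
def LW : List Word := [[], [38], [39], [44], [45], [48], [49], [38], [39]]
def par : Par := ⟨13, 4, 17, 30, 8191, 131071, 1073741823⟩
theorem hpar : par.ok := by decide
theorem hR0_0 : lall (R) (fun l => lall l (ruleOK R1 LW par)) = true := by decide +kernel
theorem hR0 : lall (R) (fun l => lall l (ruleOK R1 LW par)) = true := hR0_0
theorem hR : RulesOK R1 LW par R := rulesOK_of rfl hR0
def cols : List (ℕ × ℕ) := [(8192, 2), (24576, 4), (40960, 6)]
theorem hcols : lall cols (colOK R1 LW par) = true := by decide +kernel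
noncomputable def JS0 : List ℕ := [nat_lit 0x18ad3160000cc6698ac01a62c0c56001315c62b00300003158004c6518d1319862b4c56005315c62b40198af315c008c5818af00462d4c58001000662c00498b13160004c59001231960040c5800c00000030c64800f315e02c0058011002062c0c5780a316262c00198b4316200c00118b10040000c58809000062c8c5a8004317e02000018c100186304c5a98b4316001cc5a18b000262c8c58006000062c00098bb317e62f4c5898b000a62c8c58803316662c80118b20008001400218b200862ccc59003316862cc0118b5316800cc5b18b500462dcc5b001,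
  nat_lit 0x18ae315804000018ac0120000c5d800e317462b00c800e3158008c5718ac0120000c56002000c631400d18cd3158060c5898ac00262b8c56006000062b00098ad00040050c6018ac02e0000c5601000000048c6018b83158058c5798ac0120000c56009000062b4c5e0011002a05400018ab00462b0000001b004e6390c6f800f317462ac0a001a31b2009cc5618ab02662d0c56002315c62b0048001315800800000013162635c00298ad0000048c560004000c0008c55811315c62ac008002315601800018ab02062d0c5618ab0000000807801e31a00074c6818d2315662a80718ac315600cc5718ac0120000c56002,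
  nat_lit 0x315a62b00098b2315a004c5798ad00c0000c56801000062bcc580003315a08800018ad00663cc0040007315c62b41098b3315a01800298ad00262bcc56806000062b40098ae31fa642001e18ad0400000c5681031f66418c7818ad000007c00018eb31fa012cc7f0050009e63bcc5601e316e62b00318b4315804000318ac00462b8c56006000062b00080000014631cc6318ac03662b8c56003000062b0048000002e631000398ac03a0058c6198c631e66384c5718ac0380000c56001000000fcc7898df315806cc6198ac00662b8c56009000062b0010000002462f800098ac03462f8c56009,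
  nat_lit 0x18ac00400000030005316062b00980063158024c5898ac020000cc56002315c62b001800031580240000001315e6318c56024000062b8c91192b00be6340c5602b000062d0c5a800d31580a800318ac00462c4c56001315c62b0030000315800400018ae317862f8c56022000062b00198ad0000003cc5d18ac052003800698ba00bc64440030005315a62b01418b13158008c5718ac0120000c56002315a0008c86990b315809c00018ac0020000c85990c00bc62b01318ae315801800018ac0020000c588055321062b01298ae315800c00018ac012012002a0052315c62b01200003158018000190b00a86408c56023,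
  nat_lit 0xc5f18ad01262c8c56801315e62b4030000315a00400018af3160000cc56822000062b40198b800120020c5718ad04262d4c56806000c62b40098af315a01800018ad00262b80010059320a62b40b98af315a04000018ad0120158c8218ae000062b4198000315e0160c8d806f00ba0158c8198ad0640000c5680600000010c8c8056315a0c4c5798ad0020000c568103264648cc5898af315a07c00018ad00601a4035193a32786484c5798ad0600000c56803315c0000000991e315a0bc000006d00fa64b8c97993a00dc00bcc5682e00d864b000b8002315a0b400018ac020000000a8079325262b01618c03158024c5b98ac02062b8c56009,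
  nat_lit 0xc5700300a60150c810032002a62ccc5703b316062b8030000315c00400018b03180004cc57022000062b80198af00000048c5f18ae0520044c5f98da31b86378ca798b1315e62b81d0000315c008000002f31ba636cc57013005e62b80498b0315c02400018ae004000002d809a32a462b81c98d8315c02400018ae0120000c6b0058012e02741c0027315a008c5798ad0120000c56802315c633cc66801e315a0dcc6818ad00262c8c56801315e62b4030000315a004c5718bc31886318c56836000062b40818ba31840058c5718ad06a631cc56806315e62b4048000315a00800000683256630cc56834,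
  nat_lit 0x635cc57009316062b8048000315c00800018d331aa0004c5701a31a262b80498b0315c04000018ae0120000c6718cf31a262b80c801e315c008c5f98ae01262c0c57009000062b80100003176003800098ae07a62e4c57009316062b8080000315c02400018b6316e0028c5702a000c62b80118b3315c004c5818ae00c0000c57001000062c0c6d002d315c08800018ae00662bc000002c31b062b814802b31b26374c7298e7003c0008c5798ae0780000c57002315e62d4c598003315c0dcc5c98ae00262ccc57006316062b8008000315c040c700017316a62c0c57035,
  nat_lit 0x186019803018af08462c4c57803000062bc0480003220018c06018af082643c031198f33560394c5898af0800000c578010000662ccd480e3315e0fc00018af00662bc0001993334e662405999201e466b4cd580ea33300008c5798ae07c0000c57002315e024c04a199e315c034c9f98ae00262c0c57009000062b8010000001a62f000098ae03462f0c57009316062b8080000315c02400018b9001262e0c57019001262b80118b0315c02400018ae0040000c74803d000262b81e98b3315c024c5818ae0200000c57009000062c0c728039315c0a800018ae00462bc000005f00e86624cbd003731c662b80a005e324001e002f98ae07a6424c57001,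
  nat_lit 0xc5a18ac01262c4c56010000662b00498ae315804000018ac0040000c5718b13378009801298ac0880000c57195a015e62b01500003158008c568000328066f4086995b015a6560c56043327e042ccdd98ad3158034c5718ad00662c0c57006000062b800800000100070c5a18ae03662c0c57003000062b80480003192006400298ae03a62bcc57002318e62bc0498b1315e02400018af0040000c618016000262bc1e98c1315e024c5898af0200000c57809000062f8c5f8012315e0a800718af00462e8c57806316e62bc080006315e008c5898af00c0000c57801,
  nat_lit 0x18ac0020000c5718b0000862b0248000315800c00f18cd315e62b8c56048000062b0080058016e65e4c6698cb315a62b0238000315802400e000a316a62b4c56008000c62b00098ae315801800018ac00262b4001002831ae62b00b98ae315804000018ac0120094c6b18ad000062b0198000315c006cc69003a004c0094c6a98ac0640000c5600600006300c6800193158118c5898ac00262b8c56006000062b00098ad000462f8c5c98ac02e0000c56010000062f0007000d3158114c5e98ac01262b8c56010000062b004800031740030c5c98ac0320030c56002315c62b004800031580080001961016c0004c5603d,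
  nat_lit 0x18ae315e009cc56022000062b00198db005a00b0c5698ac0426360c56006316262b00098ae315801800018ac0020000c5718af000662b0110000315800c00518b7001662b4c5604c316e62b00300093158004c5898ac00262b8c56006000062b0008000315c62bc00198ac0440000c5600331b6636400118ad31580a4c5718ac00c0000c5600131ac636001900310060633cc568000315812c00018bf318e6324c56022317a62b00198ba3158018c5718ac0120000c56002315a0008001800931580dcc5718ac0020000c560060000001cc8098ff3158128c5898ac00262b8c56006,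
  nat_lit 0xae019cc8a00583158068c5e98ac01262b8c56009000062b0010000317262ec00098ac03462dcc56009315c62b0080000315802400018b4316a62dcc56019000c62b00118b13158004c5718ac00c0000c56001000062b8c6f0032315808800018ac00662b4000003131b862b014803031ba00d80298041008062bcc5698ac0a00000c5600200000160c878050315813cc7518ac01262b8c56009000062b00118ad316662c400198ac06e62dcc56001316262b00318ae315800400018ac020015c00398b3315c62b0270000315800ccd49a0502a4016400298b13158134c5718ac00c0000c56001,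
  nat_lit 0x9a0312693cd189a30030605c8c56855013206200bd98ae315a15000018ad012000000098af33da62b4120000315c67b80ca1a51032e05e0298000316862d400698ac0540018c56002316262b00098ae315801800018ac0020000c5719e5027062b0110000315800cc568000026e678cc56029026c6790cf419ee0296001800298ad31580f0c5898ac00462b8c56009000062b00118ad0004051c09f18ac06e0000c5600100000514cf899ef3158148c5718ac00c0000c560010000677ccf281423158088c5718ac0060000c5600900000500cf119dc315802009f99e1026405e805218ae315814400018ac0020000d140178014462b0111919315800cc5718ac0120000c56002,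
  nat_lit 0x18cb3160040c5a98b000262c8c58006000062c0008000316462cc00198b00440000c580033188002c00518b13160084c5c98b000c0020c58001316a62c00318b2316004000018b000402e4caf0011031805e8c5918b00a20000c58001316268d40c5017831600d800018b002068cc0c41a28316000001a800031720640d1e018e347668ccd1398af0b462dcc57806316862bc0098b1315e01800018af0020000c5898b3000862bc248000315e00cd1a8189316462c4c57859000062bc08009632be02bc0568187316062bc2c0000315e024d19018702ec62c4c57857000062bc081a28344262bc000800203e0000c57856,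
  nat_lit 0x62c806d01c934d262c406803f3162004c6498b101262ccc58809000062c4010000318a005800098b107a630cc58809316662c4080000316202400018c031820048c5882a001c62c40118bc3162018c5c98b10200018c58802316662c4030000316200400019e0335e66b4c58825316662c4018000316202400000fc33586774c5882401f666accef1a40032862ccc5885e000062c4008000025268f80c918b10840000c58803316200000c89a3c024e1740c81a3d03480688d269a46000462c4c5805c000062c00118b10048009401098b006e6344c58001316462c00300003160004c58801c349e068cc5805b,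
  nat_lit 0xc5a98b701b262cc248000316600cce59986330862d4c59861000062cc080000029667e80bb1984330462cc238002316600800018b3006051c00000013168005830000031666a040f99aae03ea0794298000317262e800698b10540018c58802316c62c40098b3316201800018b10020000c598010318262c4128000316200cc59000031820038c5882f31800038c60999901e6001800298b2316217cc5b18b100462ccc58809000062c40118b2000403bc07318b106e0000c58801000003b4cce199a3162148c5998b100c0000c58801000062e0cc800ea3162088c5998b10060000c58809005c03a0cc698b53162020c5998b10120000c58802,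
  nat_lit 0x5316800800198b401262d4c5a00102cc686c0b600213168114000000102d40080c5982f00006860d0c81643166064d0b9a183482677009618c73166188c5a98b300c0000c59801000062dc00680043166088c5a98b30060000c59809317062f400518b4316619800618b300262ecc59801316a62cc030000316600cd2c81ae033e002400298b83166194c5a98b300c0000c59801000062d4c5b0003316608800018b30060310cb78002316862cc3218b5316601800018b300265b006099c3338a046808c98b4000062cc3198b40004000c08b98b302e62d4c59810000062cc04800033866714d1618b30326708ce2017d33140370c5a98b30c40000c59801,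
  nat_lit 0x316e62d4030000316a00400018b7031268dcc5a825000062d4018007000868dc0c398b50d662dcc5a809000062d4010000316e07880dd98b507a0004c5a8093464060c0c21a8d03c062d400018b600041a80001a6834d4077cc5a069316c62d0030000316800400018b6036c6994c5a025000062d00198b5000006dc0da18b405e06d80db81b803726964cf919f0316a62d034002c3168008c5f98b400262e4c5a002316c62d0048000316800800018b6317e62f4c5a013000062d004800000286304c5e98b40ce62d8c5a006000062d0008000316c62dc00898b40440000c5a0030036633c00e18b53168130c6798b400c62e8c5a003,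
  nat_lit 0x317000cc5c800000f602a4c5c02f00f402a40b19a1335f0681cd0298b931701cc00718b80046304c5c006317c62e0018005317000800198b801262e4c5c00135de07f4d55000f31701c8000000135480038c5b80b000007d40fd9aed316e1c40fa01fa047c67f40a618b9316e1c000018b700262e00010003029262dc0b98b9316e04000018b70120000cfb19f835d262dc1519f533ee08e4d5e820f317262dc378000316e00400018b931760830c5b849000062dc01823235726adcc5c98b70900000c5b81000006a6c0f71ae4356e6ad4c5b86e000462dc010000316e00cd498000000262e00c786d000062dcd718241048408f00f485300000038c61000c316a1b000518b500462e8c5a801,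
  nat_lit 0x18ba317001800018b80020000c5e000d000862e01118ba317000c00018b801262f4c61000a317262e03318c63170004c6018b800262e8c5c006000062e001993e011802340048005317a62e03b18ba317001800018b80020000c5d18bb000662e0110000317000cc6218c2000462e4c5c029317462e00300003170004c5f98c1001464ec05c18c7317862e8c5c075000062e0081a2032ce6314c5d18b803e0000c5c003340a682c0b99a2032ca630cc5c074317a62e00118ba317002400018b80040000c5d00b2015e62e01e80003170024000193132c002c0c5c069317462e0030000317000400018ba015664b8c5c025,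
  nat_lit 0x618ba01262f0c5d006000062e80098bb3182630000218ba0f26308c5d010000c62e80118bf317400cc5e18ba0040000c5d00104446b8cc5e98bb317414800018ba012000000098bd022a62e80e8000317805d80cf1a4e046462e83c0000001a631400598ba0d80024c5d002317862e803000031740040000113023e66f0c5d01b000862e80198bc317402400018ba0040000c5e017631b062e80c000231740240018000338e046408686d338c046408d1a2102e662e400018ba00041a8000000c003805c8c5c077317462e0030000317000400018ba31760024c5c022000062e001801331986338c5c98b8098633cc5c006,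
  nat_lit 0x31ec62ec0098bd317601800018bb00262f0001000334ae62ec3c98bd317604000018bb01200000d29a53029862ec3618ea3176008c6018bb00262f4c5d806000062ec008000317a62f800198bb0440000c5d8030014631800598bc3176130c6318bb00c0024c5d801318062ec0098bd317601800018bb0020000c5e98be000662ec110000317600c018802a000462f0c5d84c317a62ec0300003176004013802e006e6398c6e002331780000c5d87b3178004c00a18da31761e4c6698bb02062f8c5d809000462ec010000317600c00018bc319468c40c3018334461e8000000c00166304c5d013,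
  nat_lit 0xca918bc02062f8c5e009000062f001000001306cacca718bc0300260c5e009318262f00098be317801800018bc0020000c5f18bf000662f0110000317800cda18003000462f4c5e021317c62f003000031780040001b4036840aecd9c828c0298052cc5e07e328262f003193e3178004c9d98bc00c64e0c5e003317c62f00480003178008000192734e60004c5e01a324a62f00498be317804000018bc0120000c91192334de62f00c80683178008c5f98bc0060008c5e002000062f0048000317a6444c8780550fa0000cde81c805460474ce398bb0f86468c5d801,
  nat_lit 0x62ec0480000002003405298bb0d800000061960054c092c12518bb1046318c5d801318662ec0318c0317600cc5e98bb0120000c5d80601ec66a4cd398bc317620400018bb0046694063197800246304c5e98bb1000000c5d801000062f4c5f0003317608800018bb00665c8007000d317862ec2618c9317601800598bb0026300c5d802000062f00118bd00046530ca518bc04e0000c5e00100006528ca700973178098c5f18bc00c0000c5e001317a00080469947317805cc5f18bc0200000c5e0090114023cc5e800031780cc00019640142028004f9b32011e0238c5e07f317c62f00300003178004c5e809d013c6584c5e079,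
  nat_lit 0xc5e001000062f8c5f81eb317812400018bc0066b08d601a96317a62f0240001317801800098bc0026a4cd5e9abf04260848cbf80c7317800004398bc000400a4cbe98bb0f20000c5d8100000009c061997331760b0c6198bb0126300c5d810000662ec0498bd317604000018bb0040000c5e98bf36ca0ae0db118bb0bc0000c5e98dc004862ec15000031760080000001005002cccb6802300446368c5d8860000009ccb582ad3176090013196a018c032cc6298bd317621400018bb0020000d8180c9318662ec4218c6317600c00498bb00462f4c5d806000062ec0098bc000a0018c6198bb0f26300c5d810317a62ec01000031760240601afa317c62f0c5d883,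
  nat_lit 0x35a6e8817818d8317c0a8c6318be0126300c5f009000062f80118bf000408e800998be06e6300c5f001000062f803023700226304c5f98be0940000c5f00200000034c660001317c068c6698be0126300c5f010000062f804800031940024c6418be032002cc5f002318062f8048000317c0080001a4b03400004c5f03d318662f80498c0317c04000018be0120000c601a47033862f8150000317c008c60000231820b64dc59a4803346914c5f08c000062f8080000317e6e10ddc828d050e6b584598be37060bcc00098bd1140008c5e801000062f40818bf317a0000dc002f01126dfc1831bd1377a08a8c6018bc11062f8c5e006,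
  nat_lit 0x618199034337dc0694c6118c1122005cc6080231a663040318d0318204000718c10046328c60806318e6304080005318200800198c10126308c608010002000816118d03182058de71bc636de633cc6004800000b04de29bcd31800741601bc4379468b8d1618c2318024000018c00020000de31a2c345463001298c2318000c00018c001200000bb1a293786630012017534500c5c0c9818d3184630047800031800040001bbe0322062cc600223184630001800031800240001a3e031c6eecc60008347a06341891bb836c26304c6008e000263000300013180004daf1bb5377a0c4c18902fb05f4630000008d318000080d802f8317e05cc6018bf0200000d2d009,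
  nat_lit 0x3184008c6198c9318e000cc61037319a63080098c73184018c6218c20020000c6101033bc001cc6498c431840d400018c20066a180ec0272024c0014c6398c20ec6310c61006000063080080003188631402c98c20440000c6100335d8016002c98c33184084c8a18c200c6440c61001321463080118c73184004c6218c200c0000c6100100006310c628026318408800018c20066e100128026318663081098e53184018c7098c20206310c6100900006308010000318e6958c6298c20306314c6100900046308030000318400cd2918c3318400000c1892,
  nat_lit 0x3184024000000c00386b7cc6106731886308030000318400400018c4318a0024c610220000630801801331ac6360c6198c20986364c6100631886308030000318400400018c6001a0010c61022318863080180003184024c6398cc0014630cc6106631a063080098ca3184004c6218c200c0000c61003018c67a0cf48009000a631cc6109431886308030000318400400018c4318a000cc610220000630801809c32ae0008c6198c20c86310c61006000063080099540132655c09919e232546318c6218c21260000c6101004f6049cc9418c4318413800018c2006085c10c022436500494c9318c20ec6310c61009,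
  nat_lit 0x630c08000032d602b805698c308a02c0c61809318a630c0480003186008000000d31a20004c6181a31a2630c0498c5318604000018c30120000c670009319a630c0c80093186008c6298c30120000c61802000063d401a000131860f4c6418c30126314c618100000630c048000318a63c401818c30540000c618023188000004b00bd342200e801718ef318625804a997801800258c6183d318c630c018002318600800018c30120000c6218e831cc00883e800002946d3c1cb0398071863084a994a3184004c6698c2002631cc6100231886308048000318400800018c435c26380c61013,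
  nat_lit 0xc6280900006b2810c0204318a074d648217042a6fa400118c6318a0acc6398c500c0000c6280137cc6fa01a5834c37c86f8cc630000318a270c63000200066f74c62879318e6314080000318a024000032c06646f64c6287106560cc41a69c2c07006328c6289b000a6314008000318a004c63032038520df0c6285b34a063104d0000318804018e9c2606f4631000004e00006694d16836f06ea719ce1383793186264c6298c300c0000c6180100000db0d1519a23186094cbc98c30066314c618090000630c010000045e0da805a18c31306314c618090000630c03000032de0d9c11618c312e6320c61801318a630c0300003186004c62000232da65a0c61817,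
  nat_lit 0x631cc64000f318a08800018c50060088c740023318c63142618e8318a018c6518c5004631cc62809000063140118c60004002400918c506e0000c628010000001cc6f18dc318a148c6398c500c0000c628010000632400b0004318a088c6398c50060000c628093194633c00998c6318a19800a98c50026334c62801318e6314030000318a00c1839bb737d8004800718ca318a250c6398c500c0000c628010000631cc68800c318a08800018c50066fd0df9000b319e63141498cd318a04000318c5004631cc6280600006314008000040e086cd5a98c5036631cc62803,
  nat_lit 0x18cb318c004c6418c600c0000c63001000063201181ae1318c09400018c600600100009ae1045c6318358001318c024d6f822d35c06b8811898c60000631c00109f00006338c6c8230318a1a4c6398c500c0000c62801318c000800198cb318a05cc6398c50200000c628090000003000598d1318a06400618c50046340c62803001263140498c7318a02400018c50040000c6b8013000263141e98ca318a024c6398c50200000c628090000631cc69800f318a0a800018c500400000008002004063acc6a000d31a263144f00000002639411318c503a0000c720260375c0c20d6798c511e0074c740006318c6314120000318a004c6500090014004401198d6318c0000c6289d,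
  nat_lit 0x63340010003010e63300b98ce319804000018cc0120000ca4194a33c463300c994732920490051196431ae63305380093198004c6898cc0026338c6600600006330008000319c633c00198cc0440000c6600332ae655400118cd31980a4c6718cc00c0000c6600132a46550049809f32b66568c668000319827000018ce31a06538c660220000633001994b012a0224c6718cc0980000c660100000673008801140126021cc660a6001063300100033198018c66800114a000c0000a401d2000000098cd047400085199bd02000404ce0810800066324510003319028400018c800665d40000001319208d836800031900c78dec1cbd065604145000000016634000498c60d8001cc63002,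
  nat_lit 0x6340c670060000633800800031a0634401118ce0440000c67003005263d801518cf319c130c7b18ce00c63a8c6700331a06338048000319c00800018d932c40004c6701a31ae63380498d0319c04000018ce0120000c6a18d532bc63380c8005319c008c6898ce0020000c670090278654c00118d0319c0b400018cd0206338000194c32946334161950027404ec09e19f132b2655cc6718cd1500038c6680231ac63340318d3319a00c00298cd004000cc66809319c63340099e60250679000c18cd0e400000009995002e633005800001a20498cf218cc0e2034009299e5329e0228c6718cc0e00000c66001,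
  nat_lit 0x31a26338048002319c00800018ce0200000c6780030012000c00118d015c63380011cbb38d46334138000319a0040001cb907740ed8c66826319e6334030000319a004c670356081472d8c6681700006334080354081072d8c6718cd02c6338c6689a080a633400018cd080a2b4c6604603a3274582321d1231982b000118cc0126334c660030000634400c80b832f002ccc668ab00020038c6e000c319a1b0c6718cd1540024c6700231a663380098d0319c01800018ce0020000c68000f31ba6338128000319c00c003000331ba0034c6706b0000633c01000031a263c8c6c18cf0260004c6780931b20028005801631e0633c00018d000042a4000002531e263bcc67067,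
  nat_lit 0x31a40040001ca438ea71ccc6902531a8634801800031a402400003c238e47284c690240004634801000031a400c1df00000002634ce6902f00006348e6984293a7c11f8e3684400006358c6b800931a00a800298d00046348c6800600006340008000356a732c20f98d00440000c6800331a0000020f1cc935660a420e9cca39ba7318e5f1cbc00046340c678b031a2633c010000319e004e5c9cbb31a46340c678af0000633c048000000263481b398cf03a0000c68836a3990731c20998cf1560000c6a98d6001c633c150005319e008c6898cf00c0000c6780100006f901b11c0e319e09400018cf006633c0001c0e06c06f88179c0d06c00d8420a9cc10010001cc6798ce10c6350c67002,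
  nat_lit 0x62a6f1418d9d4e09440bf000298d431a62dc00198d30040000c698090002000817c849f31a61c400518d2020000017b84950904106820c98d21046350c6900100006348030000000c126817a18d216c0018c6900131aa634804800231a400800018d20200000c6a9d483ac87528203840616a6350ea384a2322663445a1d413a8475842569d4631a4634459991009407514c6898d002e6344c680b231a4634455000007bc103820a1cc139800ec01d798d21626364c6900631ac634808000231a4008c6998d20060000cb780aa3956634804196e0152100420403d831a8634828800031a4004000040c080c0f58c6902231a8634801800031a40240001c8708061024c69008390c1008e541c7738ea6350c6908e,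
  nat_lit 0xc6980331a80000ea4849b31a60bcea4049b09387564eac048f00166350c6988631bc634c01000931a6004c6d98d300c6360c6980131aa634c03000031a6004c6a01a034d669a4c698170000634c08019e34d206a4c6a98d302c0000c6980331a8000024201ae34ce069cc698ba09067530c6b18d431a62e400018d3012000000098d637a8634c12000031aa6f54ead1d4b093c634c5c000031c2638800998d30540030c6980231bc634c0098d831a6008c6a98d30120000c6980200006354d601abe31a604c00018d3012000018d1abf357c634c3398d531a601800018d30020000c6a9bc6062e634c11000031a600cc6a0000062c6f10c69829,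
  nat_lit 0x73b02381d1e098e1364c6a18d217a634cc6909a0000634c00800031aa635800198d30440000c69803320e641400118d431a60a4c6a98d300c0000c6980132046410019034c37f66428c6a000031a6270c6b0003000863f8c6987931a8634c5518d631a804000018d401200000130346069a6350360025068a6ff41a81c0131aa63505e035431a826800019d9089a73e8c6a025000063500198d4000073e822599d705e73e4225844c3ac212d418b800231a8634c5d98d531a600800018d30020c5025918d631a8634c29000031a6024000000131ac128cc6981d0000635425304c53ae27574c698900000636cc6e001331a60a800318d30046360c6980131aa634c03000031a600400018d5093a7524c69825,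
  nat_lit 0x635c0000002004063c824000131e4768427a9da209ee13941b398d618a0054c6a80931e0767c27898db31aa31000018d400663642779d9b31aa63503098d531a8268c6a1d9909dc7664c6a0c331ea13bcecc98d531a8308c6a98d41646358c6a8aa0004635801800031ac0180001c0a06c60d9000e801831d63041a901b300046358c6a84c31ae635403000031aa0040d8034f06aa7608e06835c31ac0000c6a87b0000635c1521c0b31aa0fc00018d5006000ce0283580544635460000500000aa0db002a601e0000c6b80231a8634c0001c0206aa6d741521b5e054c1a81a804ce31ae634cc69067000063480498d3000008d426318d20d808d0eb984e33b227624c6a18d217e634cc690aa0004634c03000031a604026a18d531a600002148be,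
  nat_lit 0x31b40010d49800131b20dc00118d90020000c6c81001326364000000135200b000001d10a0076b8eac196c31b0330c7218d800c6384c6c00131b4636003000031b0004000193932700168c6c0cb327463606518da31b001800018d8002636427401c9038663602d800031b004027301c735126368c6c04e0000636001800000947660ec901c5350e63606480493b2e7664c6c98d81906364c6c0aa000263640118d9000063a427f9dab31cc0044008000118e63a0ed58501321063606318e231b0004c6d18d80120000c6c00200000018c6e98da31b004c00398d8012000cc6c00331b26360048000000400800118eb31d80070c6b81a,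
  nat_lit 0x637801000031c06f18da618de0260010c6f009001800046918e600003441469b4b00000034c7398e51a06d28146828e05f86f04c6d800031b8003054800006166f08de018da0ce6398c6d00631c6636808000731b4008c7018da0066370c6d00600006368008000327864ec03318da19664f4c6d0ca0000636804800032306e7817498da19e645cdce804236740c00c6e18da19c0000c6d00100006370d9c02fe31b408800018da006636c00082fd366c636814804331b200417d9bb30a121428ed99db100c66368c6c8cd003063640118db31b201800018d90020058c770015326663643c98df31b2008c6d98d90120000c6c802,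
  nat_lit 0xdc1999b6c0000000c0f598e10dc63840009bd500e801e46998e000000c70de983190ba0c6cdea039836e46dc0003000531c0637c6c18e431be008c7098df0120000c6f80231c00008db61aac31be09c00018df0020000db501e8354a637c6b98e131be01800018df00200001c79b6936ce637c0d800331be00cc7098df00c0000c6f80306126f0c186000000046388c6f8d631be00001531b64071418015282a636be6d74008000731c2637cc6f0d50000637801000031c66ddcc7118de030000cc6f00931be637855000031be00cdb998df00000004005092000063c8ddc02f8375e0aecc6f0d431c0637803000031bc004c6f9b5536a60018c6f01700006378081b5336a2001400598de1a66380c6f009,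
  nat_lit 0xd78ecd01cf352a074cc7218e21ba6628c710aa0004638803000031c4040e03000131c40000d490dc039e77bc2a40549380e0000c708db0000014401192a325602d0c7018df1b46380c6f8aa31c4638001800031c0024c7398ec0016638cc7006631c2638055000c31c2004c7498e1002638cc7080600006384019b7605760af0c75800531cc63846c98e331c201800018e10020000c7198e40006638411000031c200cc85190800046388c7082931c6638403000031c2004c829907005c0ce4db9991731c40000c7089c000001fcca9803c31c232cca898e11940000c7318e70018638415000531c2008c7198e100c0000c70810,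
  nat_lit 0x18e9078e7978e199ba005c4384c7403c60a1a71e0c738b431d00004e2a9c7631ce02c1e298e6142714c1e0050b0a1876e0edb037a31ce639870001a31cc008c7418e600c0000c7300131f0005800b9c2c31cc1e4c7418e60040000c7300900007364e6d842f31cc1a4c7418e600c0000c7300131ce00340071cd631cc05cc7798e6020000cc7300631d200045280050000290ca0800031c863b0f0900041be65602be85983cae1598c7598e31bc0018c7100931ce638808000331c4008c7218e20060000c7100900000004c729e0b31c409000018e43c187880f0f9e0531c4070000041c371a0b40c71033083863880118e331c4040000035f3b367674c7102d,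
  nat_lit 0x562113ce7e98e731cc058c7398e613463b8c7380131d6639c03000131ce004c7418e71540000c751979014263a011000031d000cc748000014065dcc74029013e65e0ce71e350b12002000398ea31d00f0ce198e819463bcc7400231d863a004800131d0008c7498e815463a80010583004c63a41b800031d2004000058132186428c7485231d663a403000031d2004c7519c33c5415f8c74836000063a40819c13c5015f4c7518e906a63a8c7489a001063a801000331d401800018ea01200040010428084e63a8719cd431d200c00082e505cc0df82b39cd531d238821318e80120000c74010,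
  nat_lit 0x3afc12a4eaa98e931ce0d400018e70060000c749d2909a8129cea998e71280000c7498ea31d8639c09800031ce024e931d7f000663a0c738c331d4639c04800231ce00800018e70060000c7418f03ca017acf0f84df1d20000003000531d4639809800631cc024c7598e6020000cc7300231d0639801800031cc024000000131d2791cc73024000063a02cd1e4a0b4e7444c7308f0000087810f9bc431cc1b0d7098e61d00000c73003000011442c61d10062a6f44c730e708a0162c2c898e731cc398c7398e61540000c7380308aa63bcc738000002439401d9e460b661674f2118ee31cc390c7598e600263a0c73006000063980098e705661144e7e98e602e0000c73010,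
  nat_lit 0x18e731cc2a801098e7004641cc738063208639c0098e931ce02400018e700463a0c7718ec0006639c1b98f231ce004c7618e700c63a4c738010000639c081d60000e63b8c7498e706a0000c7380306b213f8ed61d60000a63b0c738e731d2639c03000031ce00400018e931d4000cc738220000639c0184b100120020c7418e709863bcc73806000c639c0098e931ce01800018e700263a00011d53094e639c2d98e931ce04000018e7012754025298e80000639c750000095012b8ec19d813af2754425218e70f663a4c738060000639c0098e83b0012ac25298e706c0000c73810,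
  nat_lit 0x198e8020000cc7400010aba14a07680003acc0182ad86313dc218bc31706220bb2639cc730ec34bc7b402ec18e631ca370c7318e51340000c7300131ce0128025826331cc1e4c9818e6020648cc73002324063980498e831cc02400018e60040000c7d991e000263980d18f731cc024c7418e60200000c7a98f83236639c0c800d31ce008c7918e700263b4c738030008639c0118e80004000cc7618e70f263a4c738100000639c0480000002000c28098e70d800000011dae0b7479a0d4018e70e00000c7380131d063a8001842431ce1e4e6b98e600c0000c7301031ce0000e6a1be431cc0b02101cd409f613f0ed29d4c321863a4c730eb,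
  nat_lit 0x9ce30bc67a482151cdd39b663a479800039c47a3c2f018e919e7384f471e883c507898c7598e91e40000c74801001a15acf131e2431d206cc7598e90120000c74802000063b82f89da131d2060c7618e90120008c74803000063a4019db30a10777c0ef800109da76647898e800026ab00ef81e105200040000e835546aacf4985e63d287a582f518e731cc3c027484ed0bd26398c728ef31da63947418e631ca2a8c7418e60060000c7300900001598f0b055b31cc0742b29e150b907a3c2f198e831cc23c00018e6002639cf459e8d0bc263981b000031cc040f449e8b0bc0639cc7303531ce63984d000031ce018daf1b5f3d1863a0c738ee31d4639c7418e831ce2a8c749a633daa7a24c740c2,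
  nat_lit 0x18e802078e430e1ebb31d263a01a98e931d026800018fa3210007cc7486931d663a403000031d2004c750005000c63dcc7481731dc63a408000331d2024c7598e90200000c74802000063ac2210391072070fcc7485e0000005000998fd31d206400a18e900463f0c7480331da63a40098ea31d2018c75000231ee63c8c74817000063a408000031ea002800498e908a0030c7480931d663a404800031d20080001ce439cc0004c7481a31e263a40498ee31d204000198e901263acc74810000063a401000031d663b4f4781d5354a63a422000031d67374e6f98e90320000c74802,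
  nat_lit 0x63b0c75006000063a800800035c26b8010798ea1966b88c750ca000063a8019c3b3c2878f8f1c80003a7274f47b000100003a02c405893ca4168cf2986360c4663a4c740963a6c122031118e831ce3d4c7f18e71d063a0c738aa31f463a00818ec31d002400098e800463a4c740aa000063d000398ec31d204cc7918e9012001cc7480631da63a40198eb31d201800018e900264c03131936000063a40b80000094024c7618eb000216a4c740f431d263a05505ab0cda19f4f96057031d463a448800231d200800018e90120000022192f0c3e64a80e8043325c7b30310060d31d463a02f000031d0004c749e3b0c3c182cc74036,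
  nat_lit 0x639c080056090874ecc7418e702c63a0c7389a000063a00800003264011c02318e808a74f8c740b231d263a05518eb31d200c00018e90046bb0d771af00c6c7b90c7518e90c463a8c7489a00000018002800331d406800318ea01263bcc75010000663a80118ec31d42a800018ea012000000098ed0c6863a80e800031d87b8431c841639a263a87c00003a6274c8f3698ea03211ecc7500231d863a803000031d400400018ec31da000cc75022000063a801849e09300008c7598ea09863b0c75006000063a800849509367538ea69d48091e63ac00018ea1ee63ac2c88008091a63a80b800031d40402c780063a7e750cc75016,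
  nat_lit 0x63a8c74006000063a000800031d4774029018e80440000c74003001c002c28f9dce31d0190c7518e80120000c74002000e63c8295853131d00f4c7598e80020000c7400932127c0c32a9b1731d031000018e70066c543299eff31d0639c3098e831ce268c7498e81540004c748090a267710ee41dd10a4463a400018ea00043f00001e6c0a501484c7406931d663a003000131d0004d8298e819463a40011e6a3cd063a00b800031d00400001e680b7000bcc8c0fb3cd07dc4f7f1ef60c9063a0c738fa31d0639c55048a31e063a400098e80586704c738a133827c78fae1f1c0c8c63b8c738f931d2639c03000031ce004c740058090c74ecc73817,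
  nat_lit 0x63a8f9106df3f1a7e40d8b02b00006b94d73021431d00a810818e80040000c789f213ea61a98df798e80bc0018c7718e9000063a0751d8f3df07be432206433de463b8c7698e81fe63a8c74006000063a00098e90c3618fcf6318e802e0000c740100c3218f4f7698e931d0058c7498e813463b0c74810000463a401000031d2024000000138ac1460c7681d00007154ee4038f389c0e28c740fe31da63a004800331d0018c7518e80020000c740030a247140c74800031d01200001dd93ef21af0ee21c4f31d03f4c7698e8020000cc7400231d463a001800031d0024000000131d67760c74024000063a8eec9f720d8c774cc7405e00000054c7e801331d01b000898e800463b4c74001,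
  nat_lit 0xc7618ea0060000c7500931de63d000498eb31d419800598ea00263c8c7500131d863a803006d3b3c767c004800531e063ac4a18ed31d601800018eb0020000c7698ee000663ac11000031d600ced01d9e000463b0c7582931da63ac03000031d6004ecd9d9d09d413f8ed21da331d80000c7589c31d800080019d9731d61e4c7698eb0200000c758090000137c275861f31d61b026f04ea3d9c197cf8718ec31d61c0c7618eb1340000c7600900180034c7f062931d8074c7918ec020001cc76002000463b003000031d8004001066131de00040000cb3644094412a1b24048e000cc75900000663a850800031d400c1210000000263ac32e860,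
  nat_lit 0x263ac3541fb00e081ab41f603eb31c40c8c7198e215463a0c718060006638c0098e531c602400018e300463983511faa355e638c139aad3f521a84c7218e32026390c718b231ca63905518eb31ca018c7318e5134639cc730aa0000639c0098e80c921a10f9898e702e0004c7381031d0639c5506460d027cc0c8718e802c6430c74003003e63a00118e931d0268c7818e900263b4c74806000263a40098ea31d22a800018ec31da0024c75022000063a801801231fc004cc7598ea09863f8c7500631d863a803000031d400400018ee00180010c75022,
  nat_lit 0xed08661000063a4c7410700006e108182b005621a3cc7418e71cc63a0c738aa000063a00198ea31d00000d78821e05e085815b82b83e7e7da435e068c31d2639c83000031cc00800018e831d20014c7301a000063980486880d7063acc7398e60ce0000c7300931ce00001b29c2a31cc1c41b2036b0d847da0fb218e831cc414c7398e61540000c741cb93ed87db83611f5a128000000198ea004e63980d000331cc024c7418e60120000c73002000072d035c190e31cc04c1f883f631da0028c7303331d0639804800031cc00800000043a520004c7309831d0639804800031cc0401f6000231cc0004e93016000068fc03046c0e0a7f003899caf0000639082000031c840c000000231d863b8c71102,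
  nat_lit 0x231d800801698ec154000000098f000f8000cc76800002463b00011b92001e63ac0898ed31d600400018eb00c6e3cdc89f8431d863ac771b5d31d63a0d8e18ed31d600000e8092356617a82f49e96363a63b0c7510a000063a404800031e463ccc7a98e9032001cc7480231dc63a40098eb31d201800018e90020000c759b13047663a411000031d200cc75800104746c44c74829370863a4550238362272fc118022f360463b0c7518e90740000c74802000063dcc7c98f631d204c00718e901263c0c74806000a63a401800531d2004c7618e900463a8c748aa000619902761d9f31d4424c75000109d47678c74867321664303649f13000263a8c74908,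
  nat_lit 0x7e28fc6800331e863c886800031e2040c7900013f120c70c788d337d263c0509f893f167e40fd006f30dba0014c7898f007863d4c7800231e463c004800031e0008c7886d90dde63d8c7800d000063c00086d70dda63ccc7898f00a40004c780090002019cc798004000c138c77800032a07ea8ca3024329e1bf4fd79fb13f3063bcc7710c31de63b855000031e0158000868c0dde1bd43a91fa70df2652cc7710b32747e9037c194a31da0d434506ed326063b8c76852000063b4048000000263bce3318ed0480000c771c670df21be0fcf192d0bc0000c7a18f5001863b015000631d8008c7898ec00263b8c76006000063b000800031dc71781cc98ec0440000c7600331da00001cc1c5c31d80a41cb9c5d38d41b78fc598f3000863b4c760b0,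
  nat_lit 0xc7b98f61540d0ce07000231f063dc3218f931ee01800018f7002702c1a01c0f0df07e9800d98f8000063dc8a000031f2642c00c98f70920000c7b8033f441bd0c85190931ee16400018f70040004c83070c00ca63dc0c194c31ec024c8198f60120000c7b00900006404c81070832400a800698f5004000cc7a802000c00048998f7000044817b800031e663e4c7b80042220000cc69fcd3fe01d0c3a21c0e22063e4c7880131ec63c40318f331e200400018f10201be4cc418f531e663c416000031e200c36f86e00df81c60cc318f331e243cc79800032bc0260c7902932ba660cfd286f73f4c1bfc37c98f331e43c01e618f20046654fcc86e90dce1b74c7998f221c0000c79009,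
  nat_lit 0xc7c990031fc0014c7c0373b4a63e4000800231f007cc7f98f71420000c7f87283fb01694ed298f722c63f0c7b80631f263dc00800031ee040f37800231f463e4c7b8dc000063dc0186fe3f987f342dc800031f063dc3d00000432008d7f9b000b2663dcc7b0da31ee63d85518f931ee02400018f700463e02ff1fae31fe63dc13800031ee0042fe1fac000c63e0c7b8d7000063dc0498fc320a0038c7c18f70cc0040c7b801320663dc0098f931ee01800018f70061be0fd71faf320a0024c8018f722a63e4c7b806000063dc00800031fa63f800398f70440010c7b80331f063dc048000335e40c0629e553f7c63dcc7b0c8,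
  nat_lit 0x414fe707470e461c88fe89a5a320863d08c190131e8018c7a98f415463ecc7a80131f063d40318f631ea2a8c7b99533fd41cf0c7b036000063d80819513fd01cecc7b98f606a63dcc7b09a000063dc0098f800041c58fe218f702e0000c7b81000001c50fe21a4d31ee058fe11fc431f863e0c7b8c3000063dc0498f800007b3838f18f705a7b34fe69ff30e8e1cd4c7c98f722e63e0c7b8aa000063e00198f800001c80fe680950ba1c7cfe71ffb3f947f2030c001b31f063dc14191231ee008c8198f700463e4c7b809000063dc0118f8001263fc00118f706e001cc7b80131f063dc55000331f0040c7d18f80120000c7c002,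
  nat_lit 0x33202268c811901004000400180113872640492990507380044e1c1900248000c001123320e00049100090000484cb18752400480203ac190131fa0000900007320c0e5cc8018fc23e63f4c7e00132a00e58e3398fd31f83700008002072863f0c7d84831f863ec4d000038c20e4cca698fc0546404c7e002000463f003000031f8004df007e237c663f000001700020d54e14064a41266f88c7d91e37be63e859000031f4040c7d0001000802741a79c2306a44740021ff507187160c7c91c00040004e2c9c5731f046ccbb00001420e20ff9000131ee00008d19820ec8804c3bb0744000063d88c800000d0008cac195900da63d4c7a0da31ea63d055000031ea040d318171320a63d400004e,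
  nat_lit 0x3202640055000032020080080016002a6458c80813321e6404010000320200800002223612641cc80839321064040480053202018000190100c000400206e90dc664045b00063200004c8119000026c0810d9902000064042c80003f261b9cfc482240434640494990332020400001901012640800006dc0dc464043886db07560eb43b5a0193206640494190232022a80031902012641cc8101000066408011904320400c00019020120000000800232b2640812000000026568e3a1c73073c64085c00010004000c00e19020d80000c8190300000004c8aa0140ece648cc8092700000064c891c7107466574caa805d320249800d990100c0034c80809,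
  nat_lit 0x190131fe04000018ff0120000c809c0f382263fc0c800031fe00800000010f080d6ce17035c381e7034c7f92d000080c83c9878731fe0650188792407c6444007990031fe1bc003190100040034c7f817000063fc018000321864383c619130022641896190b321a80e0c8118fe1b40000c7f00100cc03f501a878731fc108c7f18fd13463fcc7f0aa000063fc0080003206642400498ff0920004c7f803320063fc55202d3212641cc8319000c26408c800100000640004800032ac655c03d19000540174c8000200006400081c17405e1dfc3be990332026400958000320002400003a2060203a8c80019074464000100003200024c80800001b2037cc8006c01b0672d02807a40ef06408c8012a,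
  nat_lit 0x327a650502da05931fe3b8c81000301ca6754c80817320a64040800013202024c8119011540384ce9990300006408198000320801f43de206a33a60384ce919022600000c81006000065c83dd007b320425cc8219020021e7cc8319040000640c16196f40ce1f3103c87a2320a640c7c99043206268ca18044320a0008c8212f0008640c590000320840c00100013382650cc81102000066fc0319bf0f52815c3d3a056387c6420c80800025c64040018004320c64003c99033200040cb919001940000c80009000000041b2805b32001b00000364068e7d8435a9c2f320026cc8099000021e483cf204e386c64000b000900141e34e1a98ff0906404c7f809000063fc0100003826705400098ff0346410c7f809,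
  nat_lit 0xe6999081d01ed10321909000064201980003218059d04e87f00f6a1ed103199080640010c8400632126420011908000000080758164000264209c0001396c72e00c9990726e058904c03e403246418349cb407c8825c0b0990626c0000cef000933bc00009a9907320a01800019050020000006000433b66414211907320a00c0001905012675c0730001001264149a191e00360024000800426600000010060004641503287c60f741ee5034191d000e4c8000000132080e28001190200003c407080e400e00004c809310002640050800032028184cea006e0260000016802c325863fc0c802d31fe00800018ff012645503007b0320a63fc62000031fc00cc8187ae40b863fcc7f06131fe63f84d0000000264fc02098ff09e6400c7f8b2,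
  nat_lit 0xc868103e3e6434000000101f603c00019f4101c8390433066632184f0c87190c00c0000c860030000643904581c401f067c0c8607a000066fcce000cb3218068063190c0126434c860aa0b8c16e8c8b190f321a0d4000190d00664dcd05811b000c16e0c8a190d09a6438c868aa32206438030000321c00400019103ce016ecc8702200006438018003018a16e8f37190e05264c800005cb3d0e79e41600000008008c86990c000003082db9e733cee7a142e493b33720334c87190c32164e8000190b0120000c969a000222642c15192c33fe02bc00200cc3386642c9c990c3216018c86199e00046708c858200000642c08199c00000320cdf99b603e00040000e8334066843f2a094414e81e103b190a32120e806280c940ea6424c84081,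
  nat_lit 0x1915363008ac00099141140014c8a001322e6450080000322800801e20a041446460c8a0130000644c04991400006c48112991305a6c44d8b07ec414a1fd4c8a99132886450c898aa00006458de29bc832280640001914004000000085013b8e84b0de71bc6378664503980000a00140434d991408213fc2801f453e8619e8c8b19142860000c8a001000017d0fa08678322832c000191400600100031f303e7e17c8a1001000045040070001244646000012137221cc4c88000032220030a000013e561a0908ea11e10e221ac398190f27e0b78c87002322c6438011911321c00c001190e0040000c8700900006440003010000064f800099110cd81744f461e79321a4f4d52190d1540008c86801,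
  nat_lit 0x6464c8c0aa0000646400992740ce202d05c99191846490c8c8103234646455191c3234024000191a00400000030005323a64680980063234024002191a0040000cf510301e807e90619a08323440800019190120000000991b100e64640e8000323420290c420ea1074681455800000a4014ccaf99180d86568c8c0e8000064600820570ff682acc8c00001b80000c8c991a416a82dc3fe07fb4154645ca48000322e018edf04fe41666460c8b94836ee645c74191a0004645c0009ea228e0000f4c8063d401a9907008323ec070541971916322a518001191500c0000c8a8030ffa6458c8a800038221201a0085b10b885e50561915322851414b19140040000c8a002,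
  nat_lit 0x64804180872423e6b54c8f090000000c4019194b323c1b0ca4191e1d00b4016888371070838d0709934323e6478340019323c008c92191e012001cc8f00200046478030000323c004d64a12e35a864780000c2000207240e51e7e425e6b4cc8e945030464700480003238040000191d0010064c0e101c3038c52cc8e000702ba0004c8d8110008646c0080013236040000991b00605ccc8d8001000605645f19970126024800080001800004d3ca115425a8448d351919294664cc8c0e8323e6460031b46323032800219180066464c8c00100ce65c040d191932304cc032881a41906460c8b8483230645c4d00003234831c0e99a46029e64603d0000004a64e801499180340184c8c009,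
  nat_lit 0xc8f80300006484f8e806f00ea70ecc8f92c0000647c01000000021bf8fda08873f607c74f8d991f29a000037e9fb10c74647c2086fc3f60014402c1bd43242647c470000323e004000192500ac6f48c8f825000a647c019922323e024001191f0040000c8f81000006480cb320fb32b8655801d14c323e65944261963323c2d0c99801405ca013cc8f02f32c4647450992f323a040ca5191d1d00000c8e8020000647cc901922323a04c000191d01208001068003323c6474338003323c008000991e006647cc8f0aa00006480c93a0e60e087ee0d80894000000140021922323c04c002991e0126488c8f0100004647801191f323c00c0000001324220b4c8f01d,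
  nat_lit 0x647800991f326c000cc90991e2026508c8f0103240647801000032666500010991f0d26480c8f8063240002c0061931323e05cc95191f0206484c8f8090000647c010000000c0014c91991f0260018c8f8093248647c080003323e008c90991f0060000c8f80900000004c911fc6323e09000019213f8e7f4046a071e323e5380000011002064c0c8f8190022647c011921323e018000191f00200003241fbf0e14647c21192c323e00c005991f0126484c8f8090000647c0100003e467c94000991f0346498c8f8093242647c080000323e02400119233e3e7c84c8f819,
  nat_lit 0x1991e0040000c8f0100002648509508e242ba856d02f952323a0000c900879425c81143c920420ab8544c8fa12843146c08c8e0c60f6625110f788e0424e6474c8e15035fe8621093191c3236308c8e191b1641328ece887a10e8646ca7991c32362a8000191e00027bd4c8e0190002647001191c0000647509088720c747be431d9ef30be647043808d3362e646c0681e43236004c8f191c00c0000c8e00100026480c9080043238088c8e991c1540000c8e803325c0028004991e323a084c93991d00c001cc8e801323e6474030000323a004c8f0003002664d4c8e8173242647408191e323a268000191e012003c009191f0000647819800032480018c9c801400260048008991e0646480c8f006,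
  nat_lit 0x899373274004c008192e323e0000c8f118323e000cc91800b323c16c000991e020647cc8f0aa00006480004800b32505580001ac9119685d84631a20323c554c92991e00c6480c8f0060000647800991f00040710d5d991e02e6480c8f010000064780481c13574647c000991e0660000c909540002647800007c040e26ae40e01ab8323a54c3df801232466478c8e84a00006474010002002215b8005991d07a6478c8e8060000649c0038006323c114c96191e0126480c8f0060000647800991f00060010f17991e0f26484c8f0100002647804800032406c3044181f835cc64787c00000ac881283cd191e0140018c8f00232406478080000323c024000192100061580c8f02a,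
  nat_lit 0x119240040000c92010000264b8007000d39441140009925324c0bd4c9181a002064880480003244024de7a1e537b6648cc910c30000648804992300046f883be192205a0bc0c9081005e20f30001000337aa0bb8c9095837be879049e0936126a6f58c90144324c22950aa1920000005ce58a20d44a089984d52153323e55c174991e012647cc8f0aa00006480c91889a425a2200e4b08500006480dde9bc7323c064000191e0040004de602e44298852816f1bc5377664786a991f323c2a8de502e242962270c8f01d32526478030009323c004c91991e0026480c8f0060000647800800032406484001991e0440000c8f00332740050001191f323c084c90191e00c0000c8f001,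
  nat_lit 0x19290120000c951c4a442c70c4af0000325685d4e20834d069864a0ae80043250004c94992813464a800092200040000689c2a4420711000019263250570e21896712d2273513ea170324a56cc931925164649cc930aa3388671815502b737366e68c940000324e270000192932566e48c938220000649c01a058055a0a98c9499270980000c93810000084d844407ac05560a90c9395a0004649c010000324e00c4420000000264a0e0c02f0000649ce0c895543ea23a509e0b8000064b4c979932324a064003192500464a8c92801324e6494030000324a004000192738200c98c928220000649401992600000c94e0719250520c90e079e04128487b8dec192a324e6494ac800032480240000004002664c8c9201d,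
  nat_lit 0x1128e99044c0000009c1080220002504ca500002461124e9784473a5c21dc1df0001325e652cca496107800ef10c9994a325c35c1de891943266524c96867325e64b4048000325a008c97000b34966934c96827001664b4008001325a008c97192d1540000c991931000264b84c1932325c024000192e020154c0009930325e64b80b1b4a04b224c4f130000325e64b8b00000325e40c001000134826908c96902000004c82b1a3f437886f848989120aa0153cc96000011a64b000103330a9a64ac0b992d3256040000192b0120cc0f0e9e1f325c64ac1500023256018000192b002152910f1e1f000200001f800106a470f41ae21b70a9664a8af854b3252284c9619290060008c94802,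
  nat_lit 0x3d80028a40bb0001407c96b3d4c0010d0b9690bf40010d0816a3d7c000cd0a16901e60008529ebe0002683cb405ec00026834b385f4000003b4b21fb63f6e238c37a80003464248cd0b9a10341659808b800324468bc00112102480004899a3c00004480048000022659407080043274590c9b80031a400140010d1327200045280050000448cfd21c7123285d446408c942de0000c9919332c623050be9936326464c44180003262024c9900000dce2354c9886c0dcc86090c208d911d664ccc9892a326464c4550000425e86650ca21870ec464c8b11934326401800019320020000c9a044b425464c81f8000326400c00283c210f61124c990c0,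
  nat_lit 0x6570001000332c0656c3c995d32b6040000195b012000000088f84348656c38800011ee0534d339f0f3e26656c5e196032b6004cae995b00c0000cad801000065750d021a232b6088000195b00600a90cc88f3433c656c1085f10be47e1830886120c267b90003030b2a2661c0001233dde000802f16f330c000452805d0000290f77000233045c018200022826fb40009230c3a000402b96f3db6001c08016b0c26002407e16e02120028b69a2400125b0d0a80082266898003912344c001cb68106000c5b03010006342c590d0f800614a03fc0028a40c100018d0896a,
  nat_lit 0xd7a7e04000068b38967104bc868a0d182098412a0db00041af835e9f802f00e7800191307380008891f7a00045b435b00012d81ae40009c822ee720c00206b42ec7dec00183992e0670800196d022a000c52811500042910ca000238ee5bd0ca800101385d50c9800534645d0472800407185c0ea600031a471c400112108c80004899d4a00004490c688e211dc24f90e189160000857c2309d482e624550e0000113f68ab445c08b62e4000c0011223aac000452846c0000448487a1e912742450ff207270dac6578cae80002e2754c3919f9832ba657002802f3fc01c9436a195c0e400000009fe00da6656c0580000e447f78016995b0e21c84fee802e11fa659ccae995b1360000cad801,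
  nat_lit 0x6630cc500600006628008000332287cc4a3998a0440010cc5003331866280480003314008cc68942443867f0cc50273316662855218b005825090f6998b0c800b0cc50a133166628048000331640c014893c442c67d4cc497c3532001c529a96000c2900bc80062da05f400296c05140010899b8100064480bb00032da05d800116c0c0400040bb16b3d9e0000d479693da07b64f7d1f0300040db813401732f60dac0018d238a60008891c4800062940d1000222418a800103662f471380009120c5e00041ab16b3df40000e21169,
  nat_lit 0xe73888a080a88f03f0199c3336618cf822390fbe666cccd18512902508007209a33340d4f8d00140fbe8264ccc8643344666403199f333204000219990040000ccc809000406600b400883332028cdf99980206664ccc0aa00fe1dcd10680090026666cccc88e0000666400999a4412001c00899991840014ccc8103daa666455208d00024883e8000024224c849c00003e16001504598443dc882d10489580002665800498344040000cca80080c74608004003f004724400008f3433c1b08c088f2433a00051142226394c0eb0c007ca410c25d11118979445067d00019f052fe67d40008a501a80000891f830d7c18cc00019f133e65f800000d02066630000219b45a428944751f810d7818c4bea19a144628a4ec0198b01a0330cc50b2,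
  nat_lit 0x666cccd0aa0000666c048000000266c849d999b03a0000cd8899514a08bf0f89999b120004ccd719a9001a666c7519a73336024cd2999b00c6688ccd801333e666c03199c3336268000199c0026675110a1ea43d06670610000333804110fa1e812746678cce0dc000066700180010004260d10fa1e612706670b00000333a40c0000981447a679cccd902130088f11208985125a8768cd099a03336460cce999b00c0000ccd801333812bc494a1d5333605c000199b02012b4493a1d53338666c0b199c3336268000199c002000004f99d301426670210000333800ccce00000140674404e85d013e674848f21cb44e088ad114999c33360e90ac999b1d00004ccd801,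
  nat_lit 0xcce8101348267510d199f333a138000199d0060000ede897a44a0266d10c199d31676f04bc89a3333c6674c5199e333a2a8cd0999e0120008ccf00200006678018000333e66f112ca20209b6770cc48000000a001000a999d0340014cce80933406674080002333a008000199d012000000099b644a266b0120000336a26944bc89733b6a6670478017333e6678001999c1d467e11200984000466702d999c333601800000c02a8260511ea25b135889304cf99af33366668c4199f44922678cd7199a06a0000cd0a249335a66641099a01336891ccce99991d4666cccc8090000666401199a132e894ccff199904e0054ccc801334466646520d8103e2654ccd999930e6668ccc89a,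
  nat_lit 0x8100008890409000a504e7880042467db00019cef3220a3000194138960008919c38000248434d800006ac640fb51f6b0d781a5cfb21f6200140a10142828831e7e5436520480d687dec0002251144269112780040d721cf4fc106ac3000af400294105760010919bbd0006488fae80031a47d940010a50d2a0004521f58000a0ae0b782be00087d64c71bbd000834815d80031a26efc0010a50576000489068400026eb4b39f5200000aa8b2068300000008001a244448a26644c982b737566340001f530047dcc34c869700b801504c4999e0c40001120899544766674042240132889144d0896c333e6674c60000333a004ccf09a6133e25a8cce85b,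
  nat_lit 0x1d9000316c404a0014f23998404c0010689b6d0008294d9e80041a46db4001821f2ea029c0010a543a40020fbb9970148003412d99604b60030052195049000306902480016484279800a226776400491238920024529f6e00122950d200090d4059c35000081a41a700038d13ed8001889024c000c44c12500052247dc00029b5b3281a78002023a3261a5c001834732070f40011f643241028001069731c7df00011c392d41aa80009c392ea1a580029cf02e81a7c002033f2c81028001913,
  nat_lit 0x99ed00267b8cf68aa33de0008e039c0933dc16c00019ee0200000e028306380867b827000033dc02400006fb00127e8c02299e33de67b403000033da004cf7000200a21be0cf6817000067b4080000009e7f0c37486de1f6013ccf60093f4a00e00080d240a61e3c36a8036072071b895a04e0daa7e8c01a02be33a7e7436706cf00001b3cfce06cb3387f0037d00000df47f001a86f300004840011fc400047efccd86f5000229437a80001481bd4fdd9f9a0d9600a806086f00dec7f08fe099a0182006c0180b60d7c7e3000a237715962650cc855e000e5b42b300062d879340028d13c9600108985620006448da080061a21d9000396d,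
  nat_lit 0x19f333e201800019f10020000cf985260ac667c412800033e200c00605623c921490cf882f33f267c40319f633e2004cf999f100c0000cf880133e40024d2280aa33e216c00019f1020001cd2180a933e667c427000033e200cf00077d0aca0004d2080a733e2684dc7800019467c4cf800013c7e7908300000371e0242aa9e3c3c76154c4e6a279014267bccf71a0000067b804809f44ee67c4cf799ee1060000cf700900000004001a2a333dc1c4000000213f428c451089c933dc67c00019ee0020004372006100c667b80d806333da268cf799ed0060000cf68090000003c02e86e033da074007005c006a24890ec091533da2e0cfa19ed00267c4cf6806,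
  nat_lit 0x133f067e400519f60340018cfa809000067d4048a07147867e8cfb19f50ce0000cfa80933ea000037806ef01d269437784dc35aa0008cfa800433e83e8fe02306461228fd17319f633e6690cf98001035628bcd6881d000006ac0481a914728b9c51da2e333e467c4d199f233e22a800000013be677d4cf902d000077c808a209340188020cf911033ee67c80099f433e401800019f20020000cfa05043bda67c812800033e400ccf980003bda1408cf902f3bd81408281893143cc12a0cfa99f333e435400019f20040000cfa19f533ee67c809800033e402425221e2000667cccf908333ea67c804800233e400800019f20060000cf980030ae28788495892a3440000cf99a27345267c409800033e2024000056601126894cf8883,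
  nat_lit 0x67d001a24a14ae8c0ccfa99f40c267d4cfa09a00006ab853da32915066b58cfa916000667d40319f633ea0400000003012000ccfb0000404867d019a02500bc01740518000000467d4d500000140291517800a30ba027c52222f145ea29cd18f870e33e867c8d4800033e2008000000433ee0468cf881a000867c40499f533e2024cf919f11540000cf900200001c1d18c1aa133e40d0feb070833e60000cf90ea000067d0cfa80133fa829a4feb870733e46a000019f200c7190e33001133e667c8d39a0433e4008d0099f200467e0cfa01033ea67d055000033ee029851e00ba34a867d447800033f267e8cfe19f50320004cfa80233ec67d4551a4034848af51768a41141867e4cfb99f634c0000cfb002,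
  nat_lit 0x1a0f33ee02400b99f70046828cfb80133f267dc01000033ee02400020c042d422bccfb869340867dc031a0133ee00c00019fd34d60004cfb81a33f667dc0499f833ee04000019f800401bc038007f019c1dd403d1a6733f267e06a800333f000800019f80120004d3200770ee467e0d6007f33ee040d310075407c22803f819f933ee6ac00019f70020000cfc99fb416467dc24800033ee00d0ac089c113a67e4cfb848000067dc08000133f200403b4889a113667dc37089b33ec268cfb800e4064002ccfb03701bc67f8004000933ec0b0d0119f514267e4cfa80134e067d465000033ea0240e8a30714b28930cfa824,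
  nat_lit 0x67f4cfe09a350467f465000033fc0242e09eaa33fe0000cff033000002641d11caa0b867aa82e09ea933fc6c0d0019fe00c0000cff0010000729c1cf809633fc10800019fe00667f80001a89073a72942e9a88393c0e8007000e2465e2a0ccff19fd35e0374cfe8e8000067f40480003404000cd8099fd0480018cfe80233fc67f4551a0033fc00c000012b0046b18d63a35435a067f4d7000033f8024000000133fc8c98cfe024000067f51938ab246c02a98d668b8000000ccd131a2833f606406919fb0040010cfd80233f60008690004000244ccfd8000224832d066880d101881403c19a1d33f20000cfc1ad33f00098d09800133ee0dc01219f70020068cfb810,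
  nat_lit 0x6ec00008a43d1c000cde21740b46000815117005680004691bd30000344f451e8c0b522a4d19f800234046f60dee02b236a68040008a91153417b02f005df368000c0011bd837ac68002a0a8f46760688dea99ff0ce6800000001033e8ce454699fe00006cc00021f315c28e3854b0a8c33fa4a40b22345153467f8cfe83533fc67f44d00003400680400199fe0440000cff003015a005000999ff33fc130d0899fe00c0044cff00133fe67f8031a0b001c1740f5b99fe02e6800cff006000067f8008009013a0278d4719fe196680ccff010000a67f801000033fc024d008a90152c8cf0cff0ea353a67f455000033fa02400005db14fe2aa4d529b20bb429f854b0a92151867f4cfe1b1,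
  nat_lit 0x6aa0241aa81ce46c02ad4d0882a34226840550000133c89551179a11010000cd0880200026844019a1234222a9129000000026848d8986b00006844db4a249132026444cd1b800006844d0b0abc34380a80001a0f00405d4d881b11442206151b30aba3428683c1e1a10341e2a8d0e1a1d46ca6844d0803503048d8c55b9a10341e130d081a0f1340000d0a05bd000a24c50f69a1236e684c2de1ea33d4268485a001546a42a982dd1a121808194d08801342468445505b30f2c818c2dc000137ae0a9cdb02b0000a44cde780042246f1c002141054a000c919bc900065b4de300022d87a5400202a92ee7a440021bc52d47a4800182a52ea0a500010a5,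
  nat_lit 0xd0900900006964d2d1a573424678d0a1a1200c0000d090010000685002a1a5634240940001a120066854000805700a46848179a1334242a802a80560c628e0856b062c342c6850d0992d0000684c010000342a68580029a130340000d098090c502b48d0c1a14342619c0001a13012685000001771570684c36017646ca2c011d2a37d342a684ca51a1434262a80001a1609ca772cd0a02500006850019a150000772c2719a1405e772827184e409ce6854000000134306850dc8000000a001031f1a140260014d0a009342e685008000234280080001a1401200000009a160ac07c80120000342a15782b09aae0174684c7f0000342a00044431a130540004d09802342600000e90ab646c485144412146110831c0e8a362156e6850d090c6,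
  nat_lit 0xd0f9a210002686c0d1a1d34360240001a1b0200be00001a1b343868787d800000a040cd2f004b34be181d1d01a2634386868d0c9bd00006864010000000e0018d0e9a19026001cd0c809343e68640800043432008d0e1a190060004d0c80903f66864740000000268751cb9a190480000d0e0aeb163208180ee1a191fc0010d0c80013e6068a4de000002e4158f970aeb162a8e751ce2397472a6860d0b9bb00a88e451ca1a17342c138d2805f847226858d0a864342c68544d0896112e8630000000b34380020dd0065342a0004465a18d0586898d121a23000200001788c911a62ce91f5a3c23614684c66000d3424008d0e9a12002685cd090023428684804800034240080001a1434b20160d0901a,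
  nat_lit 0x1a1a34360014d0c01a000068600489ec47566874d0c9a181060000d0c009343200000ef81fa34301b00ef1bed16ca2c345861a1a34306f8d0c9a181540000d0c80200006950d2b1a22343204cd291a190126868d0c809343423dd0dc800034320dc0151a1a020686cd0d0aa004e686c080028343600cd0e9a1b0120000d0d8023438007cfa71a48343609cd1b1a1b00268b0d0d809344c686c0480093436008d119a1b00c6880d0d801343a686c0300003436004d0e1c1838440c10d0d8360000686c081c1638400c0cd0e9a1b06a0000d0d803000068740021c1c383c0c04d0d894,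
  nat_lit 0x1339bc3481e90445b28b5e1652685cd0b1af36b668587400000028708d159a2c345c8f4cd0a9c1342a6850551a15002868b11e89a141880000d0b1a26164e68ac0099a1425800000028004000e68500d00053428024d0b9a140200008d0a00200006850048000000268811e61a170480000d0fa3cd16468f0115f1a13038001cd0e1a160002684c751a1434262a80eba3c3478a8ff11e48b1c34366868d0a099342e6850031a1534282a8d0b010f47882c60d0a85b0000685408010d47842c5cd0b1a1509c6858d0a89a00008af04eb2291342c7004ffa3c616302c58d0c9a17342c6fc0001a160120000da2010335f46858169b45342c3a0d0d000147682c18d0b82f3430685c5523b2160a2c1858923af13e0686cd0c9a181aa0000d0c002,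
  nat_lit 0x517a2e9000221cd0dfa1bd045a714d11800019484d909a08520000695c2e9a54000a5b401d00042d800d80018a53498000852000500045b401a80012d884680001a4d2d2847842ea12b1096067ce7e0095000000040011c40000686859d0b8417069010d5388f00006928d259a4d34300640181a180040000d0c9a1e000e04a83e800004ec2dcc5c19b8603d6685ce19a25342e004d0d9a1700c0008d0b803351c685c650001342e004dc923de47c02db01381a20342e618d8c241404de687cd0b18534306858030000342c0040001a1c379009b4d0b02200086858019a17342c0240001a2820600480f523d6342c6854811a16342a2a8d0b800004d06f08d0b029,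
  nat_lit 0x1c8900144885b0000a1a41524004801932c00640041c8732a78f80048a50aa0002400f1ce0b34002000f1cd3cf8001c00f19204d6001c1a896442780018e341910a8c001891a405000a0d88b7854600082d54c70542000850509d00030a8a5ad09a00023c645a4434000138d0640d1a00020a7e73000a00010a7a72c00c00001a278ac000001739400000008003000868b4e4800135661614f3ba4e018687a18e400010004000c05483ff0c066ae4d599a2938e0270d14002000068a4003887a439626d0d1404400000298e858b2c3f1a0900079a270040000d13803014400340071a28168818109a88864264216c004a3f21688718de3000014608ba802100f,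
  nat_lit 0x2bc8023114e85dc44e81ff0006458e3d800528271f000212338ec0010a08354000648cd48000314a01d80011120bfe00081ac1d00bfe0004e3a991393a001cd461923dc8003c1b39933918003868836400205b4e40000f2d80d940070d239060034689c98001a345210000d06f05d4d28800f14a725c0078a5005e0040b6806a001e5b0d41000e1a200b4007112005a0038528361001c348272800d06bc5a4e3d800c22671f400591204e6002c1aa9cf16c800301b716716c8002ce44164,
  nat_lit 0xd240009120ad2000813e96f3cbe000413f17704f80000521e5b0006705cba1c17000448813d800122609ec0000a40abe79600009c4217f6926d23c82793ac7054140841707ce0c240001ead3aa1714000002048c6f8c124000245008a3c640a27d3d58750123800144fe27351478643872000001227d1396273d14f229c000270d8c009eb453a8a6c0001c330c201bc00009a453200045cc1a86350a3d40c500012266dfc00011213b28a504ea001017362f3123b9b7e3a6243c003836b0018184469891400000db81b78536124723000116c09160004899d8c000044848821d543a624310e9000106e472281b51c893a423e448521d100000dc40b03590002504e3b8000246246d0f5092543bc0000001836238ec744f780004000015e848b01f,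
  nat_lit 0x33a0004691b92000034504f89a90f8200001b69b913b8827c0000093922000891030900022941b380001481eec56ba38e158e2b000009ef406cc76d1bb8abf00007bcc58494f0c127c4c000011902342ae11b8a376157c76808c1b2b00007c50f890180c507a08005a36e0238764d9a00052246cd00028a5023c001489811e0008290e9f00042827510001923084a0008d971d808520004d971953a6c0004d949913654000cea01cc083e000808c193363e000c529e7400062942b9800336425d408700031a215fc00281093ae04280021e7032a15c0002010d2ce15f40019b1b2c871c80010a5,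
  nat_lit 0x14ec0014e0f1d004fe001089827d0006448581000903ac59cde600082240748004113465800280eb97a37a2002cb69bc100145b00ec80091a46b7c0041130192001c892323000e3491d80006378676057b000503927800ed00051a407600020d1463e0018de196b35bc001489a31a000a0738b51bc300088c6cef89bd00086f18bd01d4000644cde280022248c5800101c62ce296000081c62c826f800181cd2d626f800101c52d272740008a506e8000052227c44f689d84d720a3000472680e59bbd03927781b780030f8889bd1399dd,
  nat_lit 0xadf00001d50bba3a647022b10002a5040eb41d6501d9e538b60000018af246fe8df400002be1ca0af800216d056e000c529c590004448e3680022da0b3c0009231576000015d17515762af12880ab6000670501651c6617e671a8f22312188494606310ab50004702c871cc44a1c2ad00009c0a366704039c00073e12016cf19c0e000448810d8001226086400011200a60004e0316f042600009085b43d5a00043990219042478802b00052da015000216c06b8000c529c93000444814d000628270d40029234024001014b99101be0010b69c24000648c142000214a0a100008a40e50000cde81e1,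
  nat_lit 0xecf00002247cec001047d2d4766c0008a506f200008906533e761964522808807167628ecc9ec08e40004899d90000044918180850710761d2aa1d8f3d6909c5c2242a00be2c5d1d523a61b222311f6881900b6263d128898a298148c14c829b000271e02722b2127209840001c770980b8060f003f154a27e449c02603d4041800191300760008891b160004504d8c000124620b400001012ee2af91fc8d4e47fa2d10000a4c6362c7a408100022826c5c000923362a000090a3f81684976059a802d49823058d8a9e815b02b791cf23a800041d850219e747422b98573a3a7000081285c30a8f46927983b08005244811c0021210ec2000c89a04700044483ac000222680fc0009124740000501e970,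
  nat_lit 0x6c6404a343197a95b006f1b193786c64d8c0aa3aea32f12b500dc36304d00001b1800c0000d8d22963e3e0010f90000362e004eeb257c3b9a6c5c0000170000257d116a21e06887730d8b1f101b46c5808062c01962840001df602077dd20a04eb018c958465923383e07d0c32e0ce517c60015213a0e13de2f8c00109e5454e8a88148bdd17c6000107c0d6d4c362348f70811000650507980022461fc800116d10180004b6248e000083b8eba48b00042024b5a0ea000244d07500002241058e9a00b43d7833c06788d2041d27b4005a31101260e700000c241e6358c6b20d7614a002481cd8de37140004918174000048423f800337107301bb8002246766c000913,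
  nat_lit 0x1b274a140cc8e401b2620271f8d9289a39046c9455059b000200000011b2733a0004d931e584b683418f2d855b3d326c90fb9e9a36462680001b2300c8aa4068a5b13caa6c8c4080003644024f29a5af3cba6c8cd910c300006c88049b2200006c9cd951b2b03a6c98d918001000403280659b213ec001430ca5ba19fe33f8f2c9b203ea0004d911efe3e02182021b9b2025210d4d8f80900006c7c081b213640000430a06100c066c7cfa1cb73972315462b24ff49fa6c8cd901b1f1d60a640851b22363e6c788f8002363c0080001b1e0060000d8fa4f916808ff85a7a40122a000022a2348019c6c740980d7363a2c80821b1d19400100008d2363a00006880481610012c0009b1b00047cc0001cb500201251e1a4ff188c3114d8e9b19288000cd8c809,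
  nat_lit 0x6cd4e2ba56438c26cd05a00083668004d9a9b3400407640ec0005366a6cd08481d914bc6cd4d9a1b332740000d998090002000ce28a55e38b40b40001b332060004e2780b346688ca118f1b311ba6f98d980ca389a956865724a1493a2fa4d98800036607ecd988004000a926cd9807936666cc00800003660018f5225d54c0434a4f591b3236604280001b2f01200005f12495406a6cbc388001365e0080009b2f02079a82b5056b00041d0d017203249242f7c9d9f320c821570f3280010e8480acfd202b00027aa0d99800e1b800002b49033d4c6cc4000a47b17c492550159f9484e2dbcd95000100080d45dc1fa200020000001864000400282d2067d0d067db5211242636507e00569b271428ac515989ef365a6c9c1a8006364c0040021b260200000d93001,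
  nat_lit 0xd9e9b3b00c0000d9d801367832545a40b42367616cd9e1b3b1540000e02809422c90045a28c9236744d0d9d000000020d00e6f1caa057072ac15d0a900007378e7080013672068d9f1b390126cecd9c81000006ce404800036767368e6e9b390320000d9c802000000041a51ceb4b2673e0e6d9cd836727f8000034906a073a4d9c9b206900d3c0001c6a13a08a50d9c9fd04e40000d9c9b3a00066080001c6700473881a41ce34b1a3384e73800136706cdc219b38366e008e728cdf16d06ce0d9b9fc069090852119b37366c20c0009b360126cdcd9b0aa3a681004201252f366c6c8fbd00010000000909b947000284d8428a52a10c42184430085f366a0c83469b3400c6cd8d9a00600006cd00080004a4c21350991b34108949cd9a0ca,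
  nat_lit 0xd9e8006367e0004d9e03700066cf000800036780403771b3d0002000cd9e02c36886cec008001000c8e5057b8af63ffa6cec829b3c36762a8d9e9b3c00c6d38656255836860010da01b3c1b26cf4d9e00600006cf8d9f9fac36780880001b3c0062b1047f06c0367a6cf0260000367801835f08fc15842b206f38c9f15e26cf00001f80000325464b0aef367606d2a09b3b1946cf4d9d80600006cec009b3e425c000c41d9b3b1846cf0d9d8aa00006cf008212b0000847c41b1b3c3040000d9e1030000000464e211f423a3980000c9b4a8e951464ba544425c84b4d9d1ff36786ce80300003674004d9da5424a883260d9d03600006ce80825404a84325cd9d9b3a06a6cecd9d09a,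
  nat_lit 0x13840024db417700580024a09b69001029401600071486d880039233b2a001801217700440018a09d8d000c5b422f00052d8246000304662d011980031b5f39811980028022406117c0029b5a3987628002001b406003400304584046d1c0030a512340018ec71940db60014ec716b3f92001022d1690b28000c899b410006504ec0000236845bcf4f8001000675c00180000b20780ebe844f3afc1168195854e0a9e79ac0001b3d4020c785828002367c6cf1000000367800c368801200266cf4d9e04c369c6cf0031b433678008d9f1b3c0120000d9e002,
  nat_lit 0x45a5816f3b446dc019816d36de2a85a5240a47f80094ed89b7136de2400001b6f0026dc059d00233b5e6dbc0b835236de2a906a264b1b3600a110e89453fe68190468df741581efc000a59a3724814dc600032826e3400112300a0000491005000004850520009007681001b80092446dbc0041214048003052873b0016448fe5800b2d81b700051133f94002489002e001444c01600092241ec80049b6e2e88268004002f2e000cc0038a436dc002c5286ca001c5b4fdf800d2d887f400606ce2d424800059fbe2ea6dac0059231388002801216f,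
  nat_lit 0x224744928fe11fc8b5a16620014db99b6f0780004db700936de6db855000000060048dc19b6f03a6dc4db780200006dbc008b2b16a86e08db81b6f0a4003cdb780936e26dbc04800036de00800007b519b00004db789836f66dbc049b7636de040db81b6f002826420425a736e06dbc0f8ac94b4a33e4db79b6e0426dbcdb709a36ec6dbc55000036de0240001b730f58333cdb783300026dbc011b7036de2a800000010004000d04b257c19981ea4db820700000004db9a59e36e00900001b724b3e33d471ea40436e0070000209319903338db800807f86dc0011b7236e00400001b700120000db92404168e6dc015000036e00080000002169a2d39204a407168a9008db809e,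
  nat_lit 0x6de4dbb80600006ddc00800436f2000d2bd1b770f20000dbb803000233192c6258a49622fcc4a6a0e00006dec010cc44b143368dbb1b7541a6dd8dba8aa00046dd804800036ec00c0000001000427104798e50000000514c25c44b8633552c28cbf36ea83000009c200ac77d050ba2eb0fce82d14b25c21a22967cdba20a000a6dcc019b7536e600c0001b7300400c400000024b3233506699b7333e0000dd08063bc001505b58d121a2234406879b7336e42352cc0d0a1a1a6dc8db885936e46dc44d000036e625e12e48d1b1a346ead04800036f06df00071b71054001cdb880236e86dc403000136e20400009b710021ae06ec26850e9089044b49b71410000111ea24012d06dc011000036e000cdb80000449088f911d829,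
  nat_lit 0x36fe34e12f48d3a4bca3064dbda11000431cd296a4d918389354dbd21000006de801880136f86de80000c4f1ca94a533b8dcd1b989790dbd9b7941e6de8dbc89a36f86de803000036f40040001b7c0de07f9cdbd02500006de8019b7b00007f9c3771b7a05e7f983771fe73fe01be4319800336f66de82f800036f4008dbd9f3b4d4e7fc8dbd0b436f60004519063136f402cf9c1b7914228c11818df5146e28e051c800336f66de466800036f00240000015371c3360dbc02436f26de0010a3514681ffcdc51b782128c2c51ea0e737126ddc9d1b8536ee024dbf9b770046de4dbb80900006ddc011b78000a96080009b7706e000cdbb80136f26ddc08000036ee024dbc0000000295f8dbb8710000334066926721b7a7998dbb9f5,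
  nat_lit 0x37060040010006371e0034dc18cb37086e0c551f700ea21d5c3ac8b2500026e110a0001370632800081dd0e8a1d5c591a1300026e28004885337040b042a9b810026e10dc080900026e040122f937022a80001b8f4bee6e18dc0818370c6e040480053702018dc11b81004000109a001109284e0410882042126e04dc01be00006e0001a5f037106e0000007b112489887590eb94ef03510dc39b7f1bc6e0cdbf80100006dfc009b804bc497ac69e1b7f06c8408dbf09a00006df80825df4bd097b8dc01b7e06a0000dbf00345428a893b30d344bcc97b0dbf04d36fc6df44d1b7f000229400180001482858dbe000037002014dbea12,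
  nat_lit 0x3f8a001c5206d2001044c4ce00082261b180041e752ce153000396c03b60018911e70000a44c2a4000422489dc0021fbe3281b300018d2132a0008fe51cf3f9600044c9a193f92000c1b916a03a400083641df3acc00045283700000290363201c403a00010aa086b1a0275910c073e406815e8000001e1b86e7400096d00340000b605770e7280c02b9000237106e50432801b373685c0009b8737268544433021405c15c00000001166285800023f516562c651ed01fe0ade8540061b8400c0024dc200237146e10031b8637080180001b840020000dc300050ce06e10128000370800d02307553ee8000cdc214f,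
  nat_lit 0xea40008ed59950dd6000828116e0dd00004f2f1d00a0200003741653fcc9c78ff99ff1003e9a886faa6a31bee140110800012f800d12e00094b1226ec4dea46848d88802d7000124216b800192245520008f659770b5a000489824f00004484e3a2a7139a000069ea5f64bee16ad0fa2b800022944ee000014825cd129800113c4278515b21e45f2000000a25112e006013078001456427810e859c00000184eaa2bb4b2e2790006a60c1ab68704298858000a7f6c3729fe50dc686c2b49e8f3d24001036ca1a3fa400186906d6000a44cfea00042247f380020a50d9a000c520558000e5b42ac00061a407440029fcb3be79f00021fc93241b1c004121,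
  nat_lit 0x298000913383600008924ba000000100030996014e0288e0ca2437a2000060a0bfd17f01806098c144ca4994c6d18d9d10f40004de805f37a06f3c04800037a040c000899144fe70a4de717c44f889ec00126584f9699586d0a2300060008910003000244cde60000224263113d26664f4899a86de84ca42b66f28000222379436686ca087137920d8e1d9bc91546f2cde480600006f2401815f1a8297d00219ed40b6e6f24738043379200c2e6025b04b07b5c01f9bd900aa52c3be876100009ad0704a6af3b3c200eda800922476d40048a53ccc002469050a0010344f33000714a79840039413cd4001891050c000a29428600041481bb40021224098000ced59d8,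
  nat_lit 0x492ea0d1a1a328bb8def9f537c26f7c03000037be0040001be137c60014def84900006f7c01a2f4000c6f88df09bdf0c20000def001000034585378a7237bc4692e78d931a328bcc0019bdf37bc8a4df01bde0120000def00300026f7cdf3a6744fec8ccc525228000000080100020010001cdf01bdc0266f700000a0d45d428282e8a0c45d62884511233a1a0e99b8df19bdb44e0018ded00937be6f6808000337b4008dee1bda0060000ded00900000004deea66837b40900001bdc1b7099ac6de1bff37b423c0000a5a465e2964ded071465e6f687424c21800001c6e326531b426f69131c1400025b404d80002d83618601a4c249800004054a62001460288e09225498292fc00000a70154180e0e80031a402580010d1,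
  nat_lit 0x2c6f98081bf537cc00c0091be60040000df51bed00106f9811000237cc00c0001be60046f9c0020c1800026f98089d3b3a720014df49be60900000df30104a986f980000001182a03c00024dd4ace32a86558c9137ca8b4df39be500c0000df28a100060008910003000244cdf2000022474c0e9903490690304926a0c1049a66f8800022c37c400080018c0d37c205cdf19be10200000df0809000093346058bd937c20652660c0a17a200000011be337c28ac5e60465455c0010df0a2a4ba434852ed9be237c03700001bdf002000515589c54ac86f7c5c9d8837bc3a00161bde1346f80def01000006f78049be1000200080051bde0d86f7cdef0aa,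
  nat_lit 0x37d2004df523d94d5837f0df483600066fa408000337d200051bd237c37800011bc00646f0a0f07c9284250949aa86fc9be837ce8c11ea26a71bf06f9cdf303537ce6f984d000537d6001002e1be702e31b40011bea37d26f9c0b000037ce00c549a36c1bfa94b40001be837ce3580000057004709c02c08d137ce6f986d1be737cc2a80031be70046fb0df380137d26f9c03000037ce0040001be94be034e0df382200006f9c019be8000034dd2f71be705234d92f7a5f31a8497e80021bea37d06f9d17800037ce0080001be9380628d8df381300006f9c0480004bec8c50e009be71066fa8df380600026f9c08000137ce004e97a5aa19de975c69d25f237ce8b8df3a5ea1a7297c4df30c2,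
  nat_lit 0x3810000891801c0002488e02000024290051ff000037da6fb800d23300008ff0818b2316448fd53640e1800320060df61beb0787004df580237f66fac049bed37d60240009bf800146fc0df601338926fb0551bf437d80240041bec00c6fc4df600337de6fb003000137d80400009bec0028ead1f08e224d7e6ff40009bec4646fc535e1bfc00006fac610000001e024df69beb00001d9cdf50f40ed48e794268f9f47146fb0df50e4479e6fa865000137d4008000000a37ec381c7130e29391c8c40049bf54d6a6facdf481837d46fa455000037d401846b08da1c020008df50b600006fa40080001bfe87190e21be90a46facdf4806,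
  nat_lit 0x78e000316d087e0014b60458000a0044c89bff000a5b4dfb80042d8002c00216d37ee000cb6000b000610e501045000046fecb81e2e00020020b79e4500006fdcbb844b086c6fbc0001bf0000c5000000e250488309d2758d0d089610d4df723437ea6fb8011bf237dc0240009bee0046fbcdf70aa37e000047118e1a37de0dc0000e224da69b44df805237e26fc0031bf147a89b207101bf006c0000df801047a49b1870f9bf137e00d4df89bf01340000df880137e40020003002637e20800009bf102019a4df8810000a000c0121bf337e207c0001bf10068a254152876480c00040111bf10e8007c001941,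
  nat_lit 0x8002197802f0e66015448c08ece020000000232ed2c00e5000095f537a0e421c86395d3788c3938068e92be0e3f016c056ce01a39000670080800003804008e01a6ef4de21a78e0108a0d3c700459015601629bb071d9c014700000e000014dd69bb4e111c0138002bc0001c0001270140038008004270007a1c0238000180001c0000622e10d00f434dea09852839c0046e0001280250518846ffc11025c37fe00c0009c00001407f823815600006ffc0041d3704003000000e374de6a2047221c1837fa8d8e021bfd00c6ffcdfe80600006ff4009bfe00040058e021bfd02e6ffcdfe81000006ff4048013380a6ff80009bfd0660000e9695403e611942331e5308b679480039c0337f88d400b00032267018001112,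
  nat_lit 0x7058e0500938167028551c0c0006001001b9c0b02e7038e058103818702c080000381a8340734086b42c6702c7c0000386200fc23c9c0b032000ce058020000702c048000381a0004e171c0b0320004e0580238160000e060e614e3000dc23a003a38583cce05a7121ec48324e050b4007c00fd38b0e5f38141144211c0900209fce04803000c702401000038120040008c1e49d893a8e0481b0bf070204d1c0a381000c0001c080120000610a4e8183470200e8c2049ce93a46221c0e381470204280003810004e1ea6fa18847030e04101000e701c4d000000020080008c3f4dee725ce030340cb226085ca0002380c398e039c050120004e02803,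
  nat_lit 0xe0b0030000055c0af9cdd38300a4e6da0d104e27064e0c2410000706004a29b1362003864c9c180cc0038e0b8ca0016705c080009382e040e0f9c1700c7070e0b8013832705c030000382e0040001c193836006ce0b8490000705c01801f384e7094e0c9c170c20000e0b81004c48334004800d384a708ce0b8470014002106602611c821151e78af415ea000c7bc2826419290064500000f96098914684a000c002055825444bf097cd2a723f419600048920cb0002294555800141927351c680004192649062800100062aad29e8aa947c1f0c00000200020a5073b8e781ee83dd5410281e41868f4000238a0120a4873a004f009c702d1e000e38140400001c13000c0014e05045,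
  nat_lit 0xf761ef02b524e4182c183c3c7078f000a001d231cfc00065b40bb00022d870880008d2003a000068877d41d21f740009c1c384091400007db38483905e108cb437c23350761cf6383c706922000038320080009c3138640a20e0c81a3834706455001638340240069c1a004002ce0d00200067068049c1b3834004000800838440024e0d0d302fa05a00050008383290c0031c2702ce05f0e0c80838387064031c1a38320041471db310507068e0c93345540a004131c1938301840009c2202c4270013f8825383054133c8dbf1bce09fced80825382e908e0c8000000299d46dea678382e4f4000815f137c9c4938326f5382e26c1661c160067074e0b00138307058030000382c0040001c1a39be0580e0b022,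
  nat_lit 0x11600021214256001c892129000e790cb28826000c44c07f8006148209400384542dc118400316c3ce800146880fe0008294f20800442467602120003103e780404800301ee64420e00031a484840011e352d23eec0011e332ea20080031cda328206c0031e302dc847800284152f403ec00211301f6000c521cdc0006504e6e8002246200800080f52de840400000f52ea83f00c10000187a9650683a5cb39b49200c087f40000333861e2474a1030bc617057a0006002000312c052c000c899dc5000444800500022da002800096c0f760000e11975,
  nat_lit 0x16f22f805f124c200067d9c26a24c03900004899d49000044828300013a90734f7f80012da9efc0019efa2d22fa800205042ce141000196c3df8000868a4bd000413f8b384fe00023485f300003dea5d525d0f0a3a9c06fc0029f653df213f12581a5000a5b4ea100042d875080018a5038000085201b700045b40dc00012d815b000181b42d615b40011d352d206b80008a5035e0000891f5942e885c80001d2a102c06ac0d624a034600002b81f5c0ada6042b79f5d18d231a86770c5c003e74980d1249085e000069082a00027920b59e4800003450960004085a5b8f23800324479b400296d,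
  nat_lit 0x71ec080eef4f603bf4e3f000046ae71ed2c8000000440ce3d000018a08d8c535a58189e31301081d883b3471e8000800038f221ce530f044f889f14ece0001000095ce3c8ee43b340890e3c0c2044871dc4d1d8238ee2a802e005310242040e3ba5602740004b6813a00005b041f00023a405ac09d00012267480000112428020e441d2218108221240221d1e026c74752a809b394e9eb9456216000767ab0a6087210e6211841f003409d8139d2a0d5700007ad5135a26d4a67ad04c1a2690654955035380064c3035592923380000268f8b0ddb4e5e99b400087e014da9443ee87dc0d4832106a900040fba9403cc00012261a7c0001121b56353c00087da41e61e592780000fb07090780cd200029835307a6144c2a36a46a6a4e19a2000130626090042175305a608004a84fcf0682e94b2a600268a18a431e7dc800b81c619d2934fb304d500002de9258035,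
  nat_lit 0x12e09c8619414d829ba6064c1072180c8000390a0406a80de64d9235cc6b60006390a1600031c841340ee40020b23d4498746ad0d5b1ac8000510825c44200004b6891600005b06b026234c50359800000014f1a248048c220e4b600013c60b39484006e8678ed64f5a9ebd3df0f0e38fe71f86e9c7f38fc2680001c7f0027200707884542a671fc61215138fc2680039c7e0207210e3f006390071f803000038fc0040001c8039040010e3f049000071f8018a8346de7204e401c7e0900000703083c107e71f88d26c31d689d9d1b7a36d38fe71f919000338fc024e401c8246bc001ce3f07200022a00539800638fa02c0049c7c00229f91af9c7f38fa71f03880000adc1582b7236046c429fc53f0a7d46ba71f4e3da5a,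
  nat_lit 0x72ac79d27f04fc27764e498073932724c009c9639260180009c930060004e49801490c9c3938827e7394c7254e4987439369f90e529c9439240140001c92006724c00000020046724824000139423cc13f128cb502439553871c924c29f40e490ca393e9f7ce4a000239246f00001c910200000e490f2b4fb89f682700004b6c96c8665836f06e072413025be3920268e489c901540000e499030000000468d0334066a7964e4825f0002342d2e88d0c39200892e89c8f00c34392f80d2500068c4c5161c8f22a039d2f58d27000009b827026d3bbc777c00200064bd23ca92f60d264bc09a81359dde000600140b1ded04f809f4001000409009f80000a119e83c992f28002000232c000027b0ac06b12130b3d0002000867f1c884ba33f8e438a1167406a13fd8f4c516a9f30e43939,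
  nat_lit 0x92945e3a4a84cdc99c81ff1ca8394e0000f42a663d0c3ef9461901a40840004e5326500200008a0800c000248ce52800024480f9460a03400080038e52233394a0008691cb2000229400f000014880bc0001ca24c81a4ce4d8000000472f801d0008393e002531800100703c5879c1c9a1309fa4e4c8b2397600f06d1266439328e40001c9802099886d003ef393272601a8002393001800000050067260e4b8000042608447f29f8417400c4e5b0004392e7258c38000392c008e4c8013394c7290e4b0b4392e725855209f00020008e4c1c970d60048e4b0a10000725800927ec1a0c1e883c1a620000728538e8e643b060a80069c94004725ce4a0030004725001000039280240001c953932001800807d,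
  nat_lit 0x72c0e5789a396c72c00480053960018e599cb000672c4e58006173c9fc94098044396c0000e5815200000010049cb1396000011039caf36488206558caa13f272c8e581caf2140000e57802000072c4e69281f1edc7354e5785e000072c516c89f1395e0a80001caf004000c0021cb11ec841504f989ef45ae72bc4601a21dba00011d5a3a70a40000e57269000272b9409846b4488895056008b000072b54090f6539965780010f5704369e7d3cba793395601c64fa572209c3d78e55a3841de412147e8f5d39541ad4069ca914290145918b252046a0053ff9caa000072a5341caa0004000c00a1ca902e72ace54810000072a404800039561a8c0079ca9032003ce54802407481c8350000a1cfc9cf063c267179492a000083630be403cf4380012440d7c000121,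
  nat_lit 0xe5a809000072d9347269000129bc00000013a7693fc60f8c1e39689b80021cb400272d000116c00060004691cb3000034408f21f4214488200752688000072c536a6874d12000ce589cb015e72cce58009000472c001000039600400001cb31efe3de43298db91b8c9b0e590f7e5084745ce578273a2aa1047be9cb0395e404e581caf16472c8e598f7c505a72bc1a800d397c3df14161cae09872bce570aa001672f14159cb0395e0d4e581caf13472c4e580aa0002301c7858f861f68771ce58a6b008272c0011cb439600180009cb000272c4e580aa000072cc002000239620880001cb100608cd2738001000472c432000049bc005272823149062e8d40e0f7e50403db8e5826a,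
  nat_lit 0x5df00040594b51d70000205850ca87b00020570e7819f00060584bd287f00047594bb9d6b00024480ae800122676240019d693b00620001015b3c076140010a53b0a00109189c600060610bba2be00040604eb818100022900bf000328209100011d7e2e0002c000922398200009085ea0d7c1b58001800100129cc0001cbe0ac001c0bc0dbe4d0299f121c8b52084672e9392322083c90dc2111cb90428168e5c001000072e0048004000472e40fd1cb84780000e5b81003f072dc00081721b700b00009cb8000c72f134a1dda396c9c40b80138215ca57910980f6396a3300000c234a0630a85f3016f396a9c0e5c1cb50060008e5a802,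
  nat_lit 0x167001248cec10009282059c0041233b22001c891dad00165b00ea800a2267718004912492a0024ed197a0364002c691daf00144480d6000d3b125ac0d6000c02fa5a4ec5800c244060000592102fc002889816e00124482bd000903365a8fc6800803325d4ecd000714a05dc00396c0362001cebc970035e0020919da6000e348ed480061a2767400301712dc067000281722f403540021d9232406a8002016b2c8178c00201652de059400191302c2000ced1198035c0008eb5975,
  nat_lit 0xe91000e2f18bba743000c26a8cb2751000a8aa8b424a8000a8f6ccc24a900082bb0ef85e0000644c57700033ff26411ea80023ff465c7450002494859d39e0001177659145780010bee5a87fe80003fea5d47fea8ab51520035259291f178c2ee92501ff44ea9ae5454000c495e162938c0e564e80000eaa0103e380fe51268131495a2f1800295a0000013003004900000cd4f591eb02907a8c1998e5f09728274e7e00411ce76100039123b08001c5281b0000e5b4ed880062d876c8002922035e00108981aa00064485de00032442ef00011d7c39a928c0009d7c3242ee000481ab3a006ac0040bb82ca7620005141,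
  nat_lit 0x1ff800022942f20000224979c68990284ee000345fc0bf93fec9d84e000112da270000816c0c1a0040a0860a0022505003801024280280089234032004c91a002002650526480132822f6c00912317c60044528be300202905f180102829328007923413e003ca086ac001c48d15d000d2448adc0061211d3c003115896b15f600302fe1cb47ce002c68a3de001617e1018af700143491f1800b0bf2740304800b282801c00512315e2002430316f15de0020ff91774ea4002125796f,
  nat_lit 0x4bc0009133b5a00008903ee4a241af435e000112dc04b0095a7c44ea00007420ac00045b106f80011a283840018d244f0000839f1690eae000489a0f1000044878c8f254fc09f7d3e60f1000021d0039fa0dd4f69f24787800041c4a5e14c221384f4837800096d0e7e0000b61e61000c1cf8bb013b000c5b4f2d80052d805c80020a502ea000c89027700065040bf80022461ce400082742de1cdc0001e572ee839107103fc3e6800004ca228102f89e41fe80003fca17400b98603fc817402e8804a03f477e410103f907f8218ff280490048bf00008a5140a0000890e091c149b44000898a451a281917d2781c1e04f93a4002e1c422f80af27461d0800b4710277,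
  nat_lit 0x3ad67598031d683acc00400022b83840010eb49e854efc75951e00003ac80413be1e8300087598eb2016000075900801eb48f211384da0000000275914289b213508dfd15481643d0075914200003ac602414b82a9015002aceb1833052c0aa005380a91db63b811eb8d64fc6000008231114da8d8c002272a1e983c99418a0e462029b11b1000209829cc534800000c07c494100a7000634805280021a202980009133aba0000890a6414dc8d951b2235b14bc0b7c04e00a80146a051dc80000127de852f0a6b46aa02487522861e669fa0008a10242001d99400a3e1e669f9c007801b1340266437000012de04113e227e00141d30206a7f11ba00001fb1f3100060b01fa9f3000089ffd4520fe111c09f922e0fed1fd8a28528c83f300029f4097800324476b4001121,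
  nat_lit 0x4d680361f740000eb621300001358010f635044a4340029d6a0340000eb480900020008ebc1d7a3ad23100069d68006000482b916b520e40e00069d6851075cceb38095212759c55250d4a1e415ceb800073ad2759c3780003ace0040001d693ad60010eb38490000759c01811e3ad875a8eb49d670900000eb38104306215460990523ad475a0eb3a3f0000759c048000020a76b80821d670e276b8eb38e83ad675a4eb38000204024946f9031233441414811d683acca1ceb39d6613475a0eb38b2000075a8585a3cb3ad00600001d6801200005700ae5161275a03b80003ad00180001d6a457e2704233a3c615bca180001d6702075e874727533ace00006e00003adc7a293c18ec11d1e3a393a91d662920020eb3006,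
  nat_lit 0x5234419c00027af1dc29e8876f28e19f80008a0a5dd000248c1ae0000148418c001035a3a08ca00008a506a0000089291520cc41bd4938004065e8c9119328d1072000d4941208558aaac926ca8c1450000489a3270000448838000006568c808d4232651675dc00096d00100000918328000012300031d73000ea2819480000201228002000200022c701a8000480415858d0e7f4e889cfc73c9fb73f6200040002723f6228ac248848900000d8000048500c1215213103c209045f083410673ada75b1449d6d3ad82680001d6d0022f685ee80023adc75b45c9d6f3ada0240001d6d020000061a251d5232309d2870c292b430cd28e29163adc75b00c000b4a32946d48a9d6c0547ff02f18fd01f8e00080021d6d47e0018000006,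
  nat_lit 0x3bdc77c14b010b123429b14004a92000004fcefb81453be4074ef78145149c000c0269db40096a44ed7000324476800041224aa20024689dac001248d1a600080084740021000724231980038d24a96001889a54c000a448016800522677bc00300292de00a40029211bc8001401c97a14840010ed01d7166000140151643bd00010eca9cf004e000c89241000067644b211bc0008009cb59d93000644920900033b225a8592800200405d4ec8800114a90440009d8f3b02c9c0001d8f3243e2d423a848001aa99c8f32a93481ea40005033a465c46d919a95e4f700001492aacc559caaf127118c20e0a495491291d000c9ed877aa8f,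
  nat_lit 0x3b740403d4a7231cac21440030355196001000288501caa9c9073227204e32a6855d00012268ebc0001125190000400123af15742ae14c80003b6a40c0008c2902cea3f8824a901519049c00023bc002309d28ca51a185a94546159db3000076c8c41db30004000d2899db20f276d0ed9010000076c8048000184c943c00b1db20d830952870007008c01100219db213601085ae836906ce00f48d80004aa6708634800044d0a97512f0c444cea9785a70b4a486a000463429818d231ac000a8e80d2815dc5d02974a9e31a06350000205e03c8170b45003030746102556248c9548634a963fd8a3a94730b44002e53c1f103e33ebe24c400091264332a5429780032da866800112309c60004912197000048512411a0234c9b24007112253a0865d4a1de9000229409b000022431ac0001def3be2a57cef3a93,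
  nat_lit 0xf9180002240dc01b9800f00007ce083b1f240674a80ee9000100000d5c1ab15606ac0d541aba6014c00773400300093b929a00059dc800c0000ee40021d7e9e1c8791e603b900600001dc70120758688837f20de771c0c80013b8c0400011fa74bf83438ee329f20d80df12fca5f83b8a0581be1dc41427718ee2001000077100180073b8c77140001dc40c27e8489a8f8e08ec0014ee29dc44b8000cee2002000a0004899dc400004481af80003b848bb1177000353c0004ee18d5720ce419948f9f3a53a880046e07ad139e7700a780023b7e0040001dbf02098c4edf800045ce8ba444a2e6000289641c68d584c6476f94e000100068ba11708246078a7d0d2c9dbd0000000917389cb0c00004428a72810ac176c49f2769126e76f14d800008f47084278e574e4a1eacedd8ea,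
  nat_lit 0xfba03a31f6c00046688161f343e7d43b000019a012066790045182a3094d690ce00020d247da2a33bfc77fc87c90cd000053c1a38fb20000aaf14c08af461400045289f000002901a0800213dea88f94800214a931c0010a518900010f9317717b4000c19f1d7067c0009262195133c000c89a2bd000444862200023e465d0f9180011a47c90000a2ba3b08af8000033b3c28aec00003342ee26080021f1b3287d800018d2071c000868844a000244cfdc000022425f515a899313061b6c001800100240e34fae2a100220000001068a41481b4000000e2060040ee800060da677387320e63b9a0240019dcd0200cf0000913,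
  nat_lit 0x4862000c688447000629422380021489c74001242d2dc39000008b342f43fb80001fbf2ee3fb87f7a8aa515000051bba8e048682cd12152ac1a4a98382778d38514e00011ba04714cc000c91237300044851ba000114a29900000a41fc6a28c0010c6201e0088011123724301eb486ca99021ba95380008fe15563f8000089a9458c009c16000000040084d3a2c4004e45d5514aa2a1fc4aa84d3000018be31711a206b18bc317c6300c61003a0d68011a2c2134aaa528b914f53fe00684de89b7136caa061480032da30e800116c4a4a0004910c3b000048529b128b251c435c00a29fa229630dd53a4d049aa93600070de51bd09b4553099c00360d4800400990a4414a8d0a5c72206a31c00203ab006000b952800008b2158fe5a8571f2c00002be906720daa912dd80003faca1587ca8b603ee3c793f102e11f42a1e000122e,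
  nat_lit 0x1fd3000083bc37286e056683b837200583f6a31748c00457564a339466002601b879305f0c8c0056a330806002505e1188000a272129c8e3958800000e09a42700ff954a8a33472f00183fb8ac07fe0ffd517e398c0078a8d4732abc7372741000428a8303aa8a42847d000580001540a383ff21ea04ec001d22a000955c90b80009414860000091a73c00042ce0b78b38000244d2170000224399d39e0e6a4e6600052260a8c166cab51c980082828e4c00392316a0001ca0a447000c48d1c70005148911000296d486e0010b624200008488594800324239500018a7f2de3928003a4373a09c880030b3e32239380028a7e32039380020a7c32e90c00020d2,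
  nat_lit 0x5380087b6238a1294a3e881f8fee3c66ae40001e320060004000267c1b2678c814a67b4cf84c3d5de1329577240e5457000057000011391c211c889bc0009f1c3c600cc0009e300020c10f18000044ae2448471226d56e895852b80013e2e78bc9280013c5e00800000013c60a7f49312b1046e06fc0001e2f53f40c0c17e2b600001575046855c3c5a1c50469e2d1d00001234825850f878b412246804aea1f406829eb3c5e78b42f00003c5a0040000fb9019ca7a4f16842000078b401800053cc44cc0660fb74ee44c489c1e303c5a78b03380003c58024f1600011b5e9a3c6d802d00009b64aa0dad05eea7b889f29f13c5878a95a9e2b3c542a94921066462c8c4517f9e2d3c562400001e2b00200004f6a30f45fa78ac0d80003c5600c02e873513ba8c344f5ab4,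
  nat_lit 0x1db00008b627a6000244d3d48000224403c0010ed42d69e980008a54f4800005228d02068a34c0020bc7499093253d22be0ed8194925e24bb00003084c080012da146800016c4970000915816a0a1a000489a2b0000044925b064c0eb4a6b00050e3e4e2c93b828b22ad57a36240030a51b120014520d89000a48c6e200042269a980019121b32000cb68d9a00045b085a80014cfe5ad4b780004d045a54b829a121d200005f826831b30365d5e0bf5000250526f0000246a67c3a48748000238c45f9abb42b2000001a7091fe83fe95e2a6853c72000540267a57849a10f1c000000a18ac00009a000400047b7a83801e030cd29eaba,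
  nat_lit 0xaa3f22f0a8ac8ba9e6a4be79ac67d25e519f679a81b25e53cd20182489e691540008001819c1d6479a42a0d7c55d606687589e682363c5d5929277248435ecf3400000b000010c82ae91af4799c4b9e693cce0040001e67020a108f419e680000799c16218c1b2099c133600003d04799d630f79050400040000d82042000d2b912e44a9029b8f889e6658a09fcf328a103282d580ce019d001600b432d2c44a940004528c60000029133200080054195d2b5254843c7f500008a507d800005226601af4000c57b82ff20120ffcfe92c3182200005502b247f200093500dba1b729a8d610af047ee2bcc000800309c0000000856000285ec3280c7949a69345267a3f715e2b04000217a4314ab60917aadb4cba3743b300201421e44160287017be196800d8c125802f292618bcf001a96cc287854157e3b5800196d,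
  nat_lit 0x1e90000044873ea7560006962c4c78fa950da7a3d688aa800063278000a99802c8dd495e2b6a1850000864f258c464a6615162a1d15e61b340008c9c5a0152c0000021936962d2c82591194c32800020aa31548b3c644000122695bc000112000e9628004a90e26f6b09d5e7a56e59c2a74000921153a000c91000300048ee8bb854200022952b20000224960c64c8003208a39d53a58e700a80b352c10c980004a4140180ea4b04000548200301e10b3000000ab00ca4080159e760000a8d48c0a5854b02325565aa343cec00253ea1e7559499900542900005279d01aa07e51fc40f00141e73098159d05280033ceaa9388ce20e439015940008d241420000688efc57523ea000200010ac6b24002000013414e078412ca56f44bf47d3000259000040010003000846342ea86900002c800000013cd8129c2528fc91f94ae907d1ac7,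
  nat_lit 0x4de40008528e080002290f9980022460a040008e0654409fc0009411de60000f979704f883bb47758fee18a40010f96827d5b0315129f80001a7e4b215bc23465ae00140000a31469e1b5c0f80003d2c00800300014a80a2c07f58c4f0daa8d34517ad604ee12a45090a0a000c000129d2d54a7c3fa07fb80000008034f4900001a7400bd44d8ff8517a39c69caa7023827a4cf488d74c424d6d53a1e923d204e80a71e9000c7a44f480b20cfaa40c821014c3d200d40001e900207d845910b1f001a2ac8f489e905600000f48009479e004c001224a3d20b500001e8f00689200000017195c32d0308016195a0000001224f10b621656980003d1ca9388cd259e5a4000400c80c620f611a00591e8c2b002c0f458e8002c7a2c03298521909a18009a59509c00a4000913,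
  nat_lit 0x47aa80100003d5400c0001eab3d66356c6aba64141042500000006000a7ab4f54813000c7aa4049eae3d520400019ea90047aacf5480300007aa404800000027ab00079ea903a0000f558d541a4e983868e1ea91fc0000f55800146da7aa41500013d52008f5480004c78aa555488d5a0040006d1b5ade4c7647815499eaa3d5003400000073847ab0f5691de55227a9d1c9ea73d4c2a866209b81f543e9400006b000000040080013d524769546aa8823a87b2c04e9ea55baa1c083c90ce5318a4e083a9ea600027a944e9ea63d480180000322526841ccf522dc4824ae9497a91dd23ac7a94f5210e4c607a905900003d6600877e00083e7612e4511a3493d46b6c0001f3d0207d895569f6d00009c0162127035b40000fb5a6905d6a9dc7120000587e4e4d37f2d9,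
  nat_lit 0x11f7555a47e4f5884200007ac4019eb1000047e155591f50ba47dd5562abd242648289019eb33d627ac0d300003d600080001efc3dfa0350f5801a019c7ac00481983d600400011eb00120004001262709d47ac0698a5b1a8434f42749eaf18000013140d4114b47abc20a6271a8013b05de84f8032a7abd6b81953d5c2a800080020184002cf570d300487b28061000a3d5a90c0001eee3d92008cf56808017e0020f590004000a7ab8f5693d3d5c226c1961fa83d5a0d8fd49eac00c0000f5601011300ca4f5680003d580d4000a5d019f0978c02083283d58a3cfd19eab0020000f55803000002e0f6000184b9433a52e68e73dca7aa87400003d587ab4f581eaa0260000f55009073e14080021eab3d5419cf571eaa0120174f550aa,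
  nat_lit 0x1ed83db6ab6cf7200013d78b800001edb0027b889139216242aab28f5e1eba5387aecf5d0aa3d7a7aec0300003d760413548dcd1bb28ae0f5f1ebc3d768a40001ebb0120000f5e80021a3e7aec1500003d7600846083533db07af0f5d83900000214010f8d50b40b980051ebc00047ae89380023d7400c000002700c009c1a882e5000e7ae45b1f8c05b80b800029eb80907ae8f5b80100007adc0491ff5584483048f1eb7054000cf5b01000067ad800082df3f8c3a800002db0ac0b74919123124604ddc907120d3d6a7ad16f8919240e4830f5a1eb31b87ad0f5989a219ca67d4ce80023d681292fc00764dbc0008f5987253ce44a86fa80013d6430000001242069b6c039a5f7555e47ecf599eb13180000f58801,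
  nat_lit 0x86200000ca000600002ada0de07ae1742ad20df179896906598bd149a600000010b700002f48010c404a7a002cf9c9ed33140424f6900900007b480480013da82f405e79ed20329338f6881000107b44011ef30002294021000022494e000080432ea7bc40000a51862000802116e3e5e000491010000004852980c3317882f145e31eca00007bac02400ff5c67ba8f792ae903a07b24630bf13d900241a880001d0147800116c1802000489a50100004492af00023dc25bc017800122600bc0000a418c8319863712283da40064000002d5c400ac00092243da20061709ebf00045b0f60000114a000c000112,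
  nat_lit 0x4880001097e7411808000097e64448780b6018e920c00020ab56d882a174000100002a905492ba56d2a2041e109373dd68c924000c51ac2004400623233dd4b9cf7503c1078024d4f748c2126a7ba04d00073dd004074c0001000e003cfc880f1d2e0000f739ee9001494c00180022461f9400091343f20000890e931e703e55439a874076a24b00019ee30000b990fbabaa2660af711721ee43dc4b181db83b612540004f708dc000c7b80509ee100022680009ee000080014fc38e546288c58f7a9ede00004bcf6f00023dbeabd4920124155e47bd0f6eae500027b7891e9f320148b900001edd55e648f5320a56000004a489f29ff226a1d64f6da6b04347b6c0300000ca80080010003125ca36c7fc87a73db450d0c506500000000918c82c00001940aa218a07b483842ae9ed80b60ee4f6b89a,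
  nat_lit 0xc0022416066c7c000583343dfe2840001eff0040000f80008321f643f14e0224415600005798af948227bf83880023dfc0080001efe0062bc000000013dfcac9c3580003dfaaca09a82bfc45dc0da0dc00003e547cacf969f2e03201e0f7d80200067bec031efd3df60040001efb020356531d1efc00007bec160004000e7bf400000024c727bed758002002c256948328f80f787bed75263f594c992d2f71efa0cc33fcf7c8ca00247be40080013df200c0009ef900c19d801300284682004000780000ec26991a1a341001e003974849f000248824f80002428c1c002a0903288250002941098a001089a0ae000644825080032da82ac001123,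
  nat_lit 0x203bd4fb1f100e200000771134225c1df50139f10136000000100100002c580731f7e3efa4683df0dc34d5432e871aa7203e1c8c8f870e2a1c689c7cf8681700007c34080e281c6438d0f879f0d02c0000f868033e20001000701fa1c6038c8f8696000007c34048004012600200019f0d21a0000f8601000020018049000354c60b0004920308981100f85af100064a29031043f3e141dd27b8bec1334411481f8003011cbc08d293fb59564ffc4ce0002011cb54002099f56844ad095c9fec3fd6bbcf8400022da001000096c3e0a0000690997594eacf84cd80003e08bb84cd1288567cacd49402b3625047c10f81aed23f21c3c9409f033e043bcf9c1f021d000053060d2101987c08ab000100047c1419da4200f4a9a503d41f025d81e8cf808b20000000c19d03403e021c400103391e7c14b5085a1043e021c120b0afe48380cdcf80872,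
  nat_lit 0x45700004908e0c0000103ce7a6f44de62c8d223000145688be047b2f811628b1d1668b250002001c0032f7164400000030005113c0b0f8f00001d02c845412c1c26deb0749b8a2e23e3800057b22f627083a0d1709f1b3f87c6c0010e8145c07c683388e13e323a044c22aa112c8aa517708f500087c640002f54ed04e0117900033e300151510001001401754398f9c1df80480001f1d2a8001cf8b000111d622357a00053e2a000047588f003623a91762c2813102618f8a80003e2c7c5179800103107ec80c32861081a7c513009833e26008f8b1f1300c7e58f898ca00007c4c0180013ea6ad4405580ad3ebe7c4c9600003e76008fa8ab4f253c7c4cf891ae3e267c48550e431c5c03d0fc29f873f0c0020f8980015e446d55392a9153fa03d00039f1222a7c48001800400107c443c9f153e20018f891f100200000f88009,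
  nat_lit 0x1e8f9d006421801e51c0807d57da84b4298852c0000c000000004012001126d24de11fe7ce00ca59700008ef445622aa0908ef045588ad3e6e000429421195fe2400f9b00000a4e14b04921130a5000040039f381204240c47f9f355fc8bfcf9a002000a7cd000005270a4cbf47ff0001002a3400000001153cb0d855288d35f8000047e01bb1ff6a33d7d9f323e600180001f300020000f9908fd11f27cc01100003e6000c00a801745f023ecf980644b1400013912d1f4e589c9071c2fa4e4251ad38200074b1230cfb300032da024c00116c3ec4000469008f00003452268b2a489e9bf537f8001013402417c8c89000e5b464480062d8960c0028d24b0e001068a2fa00085b447d00032d8226c001122,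
  nat_lit 0x1f423e800400001f40012374135c06da3e887d001500003e80005541aa853e880010fa007900047cfc0300003e7e040352a2123e7e000000082c00007d0154091be1b98372d35906d43e7cc100001f3e00200008e1aa8354fe7cf8291f403e7c0180001f3e0020000fa02a7923807cf81100003e7c00c0018000237ea9dcf9f064237ca9fc99baa75064c0c500001f3e0004c0c0000bcc06660c94189b023e7c7cf00300003e78004f9e800e00262f24f9e0173e8c7cf00800003e78024000800a0a6c14ecf9e1ac001a7cec5500073e76008f9e9f3b0020000f9d803000a00110889f3e3e760a51d69f3b1940000f9d81011f49e447531f3c00028438f9db01,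
  nat_lit 0x7d60fa68103e9e7d340300003e9a0413f394d95ba2a5800011f4e3e9aac0fa79f4d0120000fa6806211602dc4e523bb3ea67d38fa691e00067d34011f4f3e9a00c0001f4d01200000009f50001a7d340e80003e9e003876a0ed51d827d345580004a6e30640039f4d0540024fa680252c6001c080c1f4a6a00104dfa7af01e0d500000ca137a029c0000f1a0672aa808e9308500249d16642b2c0ff894c8000307426c00049100a30000344608252e0002000c00323b01d809ea44dc80a260c00000011f4620fca55d685108860a0004fa281724a6294b01e8000000402400123a7136626c8fa102d47487d040800014d7a30400b71f410d20570fa00023e847d000300003e80004fa080021ba69ae4fa0017,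
  nat_lit 0x95a5950b698aa8154523687d9187000e23b6aa7d53d91b754ee7d8d080f0212b0001800691ba1ca96706438c8800068c402407a80000329186a3130004a9396aaabd45112c2d18680015496289c6c6afd000032142b2a493eba00004a90efc129e2fe118923105ea0014001122000c0004899f5b00004484a713ef593ab25c9f4aa930006000986a7224e3c0658939118022fc7d6186250a5a00ab583ce0c7e54867d5d859f57263045f88be1f560b62bc0faa8064b1e7d545500070ae69d407329f5508a1e2454e243900007d818500100002504fae80002469208a182cde5b143c080001f533eb8c240001f510ac00002b5a9695bba54e16c714e14fd09f9d79056a52d0a5a8fa81f4f15e855c2b310973e9e7d392080003e9c0240049f573eb00008fa723c00007d340800003eac0014fa91f4d02c0030fa6809,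
  nat_lit 0x7dbc018ce44bd60024fb81f6f0c87ddcfb780600009d8c670a76300004d4fb81f6e00c0000fb700100007dc866ea7603edc0fcfb81f6e0060000fb70094eb839c066d1f6f3edcb500001f6e002978466d0cdc532242fc0031f6f00007db98880003ee07dc80021f6e0920000fb70032184a63cfb89f703edc1200001f6e020927c9f58f311e66a634fb79f6e4640000fb70092170a6346de00073edc0640001f6d02000146dd10b54bae13c988000004629a4916aaed246094600000165402252c0b180012d880340000d117f07da000026ab0cca140d006816161e9aa86dc82b8056a7d9c9d00003ecc00815a0f1f54fca9f0fb303400007d94049f66000400448df1f650d80008fb20aa,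
  nat_lit 0x3f08024fc28000252ead74fc2071252c4aac9b314e8582a7e18fc20cc3f0a7e105500003f0a00d0d600543f460001007936e40c6c600001f8462e00002b4856b1ce64db5611a00d2c085c80011f930b760140fd01f8262c00280018a5002c00085200160004504fc2800124685b40001f8332215948bd1179547e844c003001b3f06c5508304740002002516b8a424864a380051f7c00287e0800914700180010a08009000648cfbe000214a002c0008a43ef2000491846d00027ddce8046e00000014c8846c20247dcc00100033eeac50fbd000051da403022286b51d84031476a8ef20207dc40001f723ef227c0001f7419ce339864a02bd3ee0c4c0009f7000c0004fb8001000c7dd000200054ed03394fbd1f700000c480001f713ee40028fb7822,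
  nat_lit 0xf482584adcc00100013f44c6c00d8000004000095aab7956f04af1619937e18e27e80f31f8d3f140240001f8a0203d100009f8a000aae2491a2af54b29f980000b200007e255b612bb505a0a80001f87004000000112ce57164d7496292b956d47e1d8d0001571221404979f870d82198fc30102596ae195afab5d54647e20fc308e00007e18009f87253aad6d5181f8602e0000fc30102536ad648b01f8600000580001f8b5552aaac8f491ea2538457cfc287e00087e14031f863f0a2a80001f86006aa9d5529f8700027e18241f873f0a0040008c3f057a193858f2aa33f0ac6400002a14d2315461da5583f0e7e10270cbc3f083280001f840060000fc30c574ae630e12aa9f843160000fc31f87000a7e100d00003f0802462a13613f127e14fc2067,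
  nat_lit 0x3f8c82194a7e7400082c000000080080021f263e347c28f8450dc275c6519f9b644970cfcd00600027e70fcf00063f341240061f9900c0000fcc80307420e600011f9b3f32c840001f9902092bd6aba4bb42080e580001f996400000fce9c2000c3e287c20f7c3f304340001f970203de87c10f8900047e5c6980003f2c004000a0bb05d88308fcb0cb50d80004001828a25e08f48fcb31f137c7e54650000416c31a44e128601efa3e0d8f028800020e350799f9403e0004fca20f541e47e4c2620f23f26000105882865fa0004fc98000443c18ac1c9a0f541e67e4988a21d443e4ba4fc99f921dc0a08fc90020000000463e259c587a96652c8a58f3f24c740000c7b00040010fc92d42592ae3096a2b8f1e9a000463d31c18ee000ca0a596000448cfd200011a4007c0000d1,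
  nat_lit 0x3f64b0b84408b52156492859480003f6000800000015868b0d49c19377585cb0b0fd83280000b0cc9bdabf73f60021619137a2736a568006800e3f60100694263c0010af749912e946a62110003abdc2640c9c7e0a8e61ffe00155f11470525ac6004d00040063abc75907db00007ebd7200090002504fd600002461f61477abda57b64c7c98c80024c647eb0003b26263c4c600008d1d4c64c940000d1d012346c256a95452a641b40001316648af615ed2c5d3f4a00041a800020d45514a62c4421c643a098e95ae58bab16cfd19143f467e884d00003f460180009fa81960323404a26293f463f46891fa20120000fd10101adc35b466e00023f4432b8fd29f00000000c00800150c829d00af00b75b800000598101ef43ded62f808e190c9724fcf3233f3e0208642a5c83f3a1e442b1f9d1640000fce810,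
  nat_lit 0x4426d4bf2c7605e000484d109b11c495d93ee85f10bde7ed59580853f6800884c297b58ea4efd6421fb53f680714ce9fb41340000fda00900024d649cc2c143f681c4fe61fb31544d5c9cb13b827744f20fda1fb363e7ed0fd989a000c7ed0049fb93f680400019fb40047ed8fda00300007ed0048000000213c90c29fb4364000027884d716d8303129e9fb46548610279007f01267ed03300003f6600c048807d43087ed4fd984c00007ecc0180013f6a002c004a18009e07ecc8a807e3f642680002c3758720004fd901a3f747ec8049fb73f640400019fb20127ed0fd901000007ec80100003f687ed95fd217e09ba7ec85c00023f68b0c16191fb203201bc0000ca,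
  nat_lit 0x4221fc13f8000047f90e5000034842b28d85bf453e0a7ba49e3f7e7ef99880003f7c0084208842108e3e410fb9fc03f7ccc00001fbe00200047ca0f8e43ea7ef824a1f33f7a268fe41fbd0067f14fde8063f847ef4009fbf3f7a0180001fbd0020000fdf9fc100087ef42480003f7a00cfe21fc23f807efcfde86100007ef4082294225044940069fc03f7c7ef49580003f7a02400005d01f023e1cfde9b200107ef40100033f7a018fdf000114a000c0000a424ba00000009fde5826000997abcf262a4c49594a1e300067ee99700033f722840001fb9006171800000013fb4b03c1780003fb24f5c84405de0bba171d968034006400100011fb76580000fdb003,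
  nat_lit 0x1fd33faa501d66813832704b0fc18d33700047f440323cf137201ec0002ad835c482956a920516a07f48fe8000008e805d66514033fa27f3cd380003f9c024fe7940128224e20fe73364d387f387400243fc400a801585fb512e3eb40001fce1b0000030490356ae001000728f35d36a3d8fe685100087f34018004405001946f0000194ad4894800003f9e4018ab5a8df66a001c0011fca0002ab3d5fd133c56a64a3d4b24ef15fe35e40019fca3f9200019a2acd4760000cfe49fc85947f24fe40020004261121b0f081e0ac400008983105e01550020e50000260404a3aa48687f20fe31fc51860000fe2809000201a003528e13f8a1b14711fc40200198034000546fa21205111fc46660008fe20093f8a0008b6800500025b0fe100001a4996532c26434c840004fe0b32,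
  nat_lit 0x2b9925b27f800001fdf238ac700000b20000236462a123724a0cec46c0c530b68b07ca152cd93fbace8fee9fdc1547f79033110543e27f74630008000a000c0021fdd04203ccfee0a100087f7400029dd0a6c226128633953bca7808809fdb00001300008004073285a90b583ac42dca780fed33840c07f644d1fdb3fb20180001fd900285750b3039500007f6480800007267092392c4d272234acfec23c00187f5c081fdc3fae008fec9fd70120000feb8023fb000085da23d43fae0340001fd700200005d909bd13787f5d789fd93fae0180001fd702002690c6a02e000095245d79fd714c27511f480823fae000c9989d111ac807cfeb000264280b004d000200067f58078d1d2706b10418e000108a0258000001,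
  nat_lit 0x9f618cc7fb4ff59fea0a40000ff50090002000c0020f463fd41040000004004000400107515c08b8192df9fe90a21214ff40aa00040fa0215282b3fd02114149fe7134353006a290a2044407c0019fe7680000cff30ca3fcc000000a8c01fb2a42d483000002e00010cb149028c8518948529056320f842118f3e00007f8d9f80003fc8114c70708af08443cf59f00003fc400c0001fe4438811310da84523fc4cf40001fe20047f8c00000010a2e144c288851043847f880a0000438e146cff31fe20267f9cff100900067f88031fe43fc40040001fe200614590e11fe300007f88240000540244dc898051743827f898c9fe33fc404000000070040010000000258e644994ff1fe16780000ff10560002ae6c96d94252af250cca19201e3fc0a249da942328628074fef816,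
  nat_lit 0x8fdaace23f2ab3565c13fa00027fd4ffb200168616642cc073d3fea7fd057acb527f88c70ffa1ff32740008ff98093ff07ffc00580093fe6608000000c3ff60020ff925600167ff0ffe9ff63fe4704ffa1ff20060004ff900200007fcc006000b3ff633c000000d54fc469153caa783fe226c0059ff10027fe8ff881000007fc40100013fea002918c073a46287fc59821103fe02a8ff91ff00120000ff8006461853e16bdad053fec7fc4ff82ba00047fc0011ff13fe000c000000100044630ff8041000000048ceaa2e0a901524ff80403fe251188cfaa743fe03095391fef1341cb8ff7810000482302b00e727384e9400009fc02c27ed2089fed000004149ce2c62274a4e91a10104091a31a44fc9fec6820004ff58013fd600004fb898f57e696e12dba97,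
  nat_lit 0x60040018756466eb2f0a000d9a1b329ae4fffb4509727ff84d22e45b861b7058b0bbb177c7ff93d1ffe0f562ed098f1ffd3661d40ffe0063ffa7ff055000016220245db0bb217601e9cffd8660000892512508173ff6098ffe9ffb00c0000ffd80100007ff42d822463ff60940001ffb0067ff000005b00b5c7fec1785af0b6089142d9206f3ffe0004ffe1ffb6887ff0ffd8023ffa81b4066a07b3ff64240008b81019a81e8ffd0833ff67fe8000257049d407ed08810f16fe04e90351ffa3ff2b280011ff90040000ffc809000002c805c00b740d407503305a90b5e5008a021ffa3ff08500001ff80020000ffd11fa28027fe01280003ff000c00293fe597847e0ffc02f23f8ab448ff0000400a9dc00900012828008000123,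
  nat_lit 0x45e3a5b4178a802c36065640142a92d98656078c3954740000140143c8000a0091540001584923424660f294298e8020850d90052009000080202422672a1cb704a88ad4540128021a5202b40103a0000a0080022644a06acc927c2b0309a3a00866a8020004a011268a801c808007400e041006200700280250038060000801c00a00801d0519168f200702e000100381001cc518968f2008400e058408a00700c00010042c0058044cc9a48001000a1d94207040f40168019a420c12536b251648ac0057fc8019148001400a018000a005002afed5fe932d178e2f25004800b400a0001a3a00511700020003200406c00110020100000801008040700e4812c000273f1c6212098603c9000004102480710eb600011f810f121dcd184590002000200143ac035,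
  nat_lit 0x1538944411fe80600001850000850c103a1471fb223f900bb504032805c018000402e0240000006403a07f900b8244030805c0121ce0000328001201600020c9534882f000087380483234d2236495dea6ac402c8051a780004028024001201723441f6d00a03300008050018000402a46808d494455a0646e0d1000040260080f981f50002000d0098e6468e001932aa01300021900002135002901c44d293f5686ad1532a0d291a50804425aa7a46981d8c3b080034ca48041a70000402001932a265552be000d00834d0006803c008000401e40c000800052b83494690b4c52b641cc2da07572924b5291a1a00d0000d2c001a00e00048cf5006079000080300180000ea652383bd0028004e80843b0752291a524d006200b1cc80310058aa50f20df528727c91d969f2900618c,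
  nat_lit 0x5014001584455809b02c1e1476365501430100004d0851d0d94404e1e40000a31020a4b0b2d8c3d575a4e6562da0262560009012806404c80945521cd404c00000ed0b314dd89b994bac57096e87390e6202559487290120a100002fb10bd826604d00952ed8c50189c302d5e412fd40466180000003578e4bf10112dc0002000c002a1eb2a32872418bb52404200000010004003418000080041b1628cc81c29212ca0a495010328198e807c0480024d4e0d5c1ae201f0140d5500f01000000ce40126a406a80000002202140448074aea01d000042a4849835928442a14c8af61532a35446952a5d403c8071a880004036024000201d403c001500d82a0004806c01201b0002a9646930d4d0588068000117254ae45bc2e917154b0566ca2714481206000500d201916e806900c802120251188c92a6c403215000080002320a9ad00c067,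
  nat_lit 0x114085180a3200002b4906d0af4d5c0000001000a80f14710d300022dace10003407453956cfad9c5b2e80d89e83d81fd60fd0a6e20355a8b2e565b87f9000680d41608a1113c901c001203409080d101980100000004030001226ab82568c845759661fd5ab22c22ad455ad70f2d97406680c4512a09540e00000012030052a819504112409783fd546ea8dc1fe680c07fa0a151c8138d24ba8d41fe480bdaaa02f405c268000202f0040000001a1ae453eb839149a02f24e000400195450a63d6d78f293f14a286ad017047405ca4f052821aa405a308153202c1340000001202f00081d68d28001405c0015019a6bf149680adaa0a474054040001202a0120001015009405400011a72e2c468a0911a6ae2d2afcb861614202a4052d4c002202902080a90148aa26da33889cf202c40544cd5ed139e58c080ad014861,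
  nat_lit 0x59ce50b0b762cfa282e002d0261000016812c5080000582c5c53fa96c14fa87840000c0017e6aa06000bf10000875416502ce05c2d790e8000114a0b040000a44bc02fb05f5800046448739ae80004bba01897916231906320400007024642d7000000010004161c2c482f000000053108c340d84220c43707104636d6c0000585282cb3a5732942c599cd5130f8c340d8600110201bc000280fc080001407e00c00086c04c3a1af06ed147407e80f800023f947f818035f0c2f0afc160079d2835506680f901eb5a000080f404856e283eb33d598a03d1d4000101e010565eb334a0f203d40780d4000203c00cb3701eb1058407a80f08f800240780080009057207013d07890f10103ed6400010550806101c9fa2d011a44d6082a9036145880f101d013000088e0e10400527c40d0515203947880e501c0aa,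
  nat_lit 0x1381583f715292a5eb79d6f32de12a4681a1033b6449c0b778a91206740cc4cc28510372a40819903286109e081940308f30006505232000224600140008d2000a000090a8895f0e5b6423108b3000023cd230b6311e49180001a24953460dc477a45f00040e68002924d089889e0225b62072e890c002124c089634c1cd00011a4890c0000d111d249589308001072c8909b080005674550923ab1e40b200000010074447c56c000a08c00f4ac6d02c0261e14a02d7b30f260006001502c0940010815c4d2d6f296cb5c956e00021e3a3c7140096a494a820803500690000a08c7908f206843c5c00116d1e2e0004b62819000034403280015030d807f42f725edea160000806e00d252c000006d00d0019d03e81d410282100008c8d57d84c7464c35f001800350270001434a0b02ca0592000200010d2064,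
  nat_lit 0x832000f80210aa88b042a620876d400748be9c220e0a5590ee8000437809390dc3570496000489a1b900004490ed106c12ee005c901aee24dd486e1b4800041080089362b3b245c489c006910043bc97d5839226001843fc4a294f23000019380000949d00bc00009ae020ab9c9008db50002a99c030006254a54696ec1518145e465154f000225846008c9aa9d000237540b11bd5da8c05cb1589b000083745b426f900025b46e700002d846d8b4baf7c5dae9388000a6f81b9ad9c050800128282c4000123135293788faaadb000e9bc06e280a30142027db30dc200063486e000021a29ba80009134dd60000892af755e2020c040aad6000436fd37536523deab540008dbe1b8412136b00001649ba06de809a47b600056a0092000000c8f5161c22c64584002a06a00041d8002206900021fc10438ea,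
  nat_lit 0x9049002000082480480004126827504d800f0fa00040099244145858383f4a0916e0a60d0490004000a8244240010412028497b800e00140005120823001800240002242447e0fd1208346448442714bfa08e0000823c00436f00000f6c87e910553e023a1046b6e412a8234030000411a018000a0e041c20365046b6d41c2823004800001a2024067905f08d2554504580a4152822855208c4114004000208a02012080018002411882280b0000411400d5deb0332f0eac4c000800041143d8000a4960066a75c1e726f000000cc81a494006223a806a208900008221b600000002b7d0069a08806200050440012a72b7d4a9f2e020a32008d04436b0000a99c8c00004410e09428b2087194b7b96fb2e005c18832d04420875080001043802,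
  nat_lit 0x5bf68299052000042cc18428e24585ca2565cabe20a54146c6400020a201200000ff81fe435e82880c81ff414400800024382a80000001222e445882840d80004144001d06fae3c2b0a21387480010008829040a20a0026901104f8b20006827c04a0a1413e024000209f004000000080334802827c098001005a000d315a09f0e2000105a1030056000462215002b38b9310a8b392a10311931d80010016138000209e0ac0024005a09c000098a06192cf24c7698e5ba0000000601800185b759e030c13130461fc03f1d04c0001000a1387e10fc4000200000020290004007c4a1004d1fc83f1504b3731f86825400a0a8412c0008002209503e002504ba0960006825030a3034126284000907b52d642014b520a74126dc904a00064144829104933652c6a62c85410a60008824d049371,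
  nat_lit 0x13be00024b365a52cc80022469df00008b822d2395c0000b824089df072d8e5f1cdc00212d50b944b2cde48a180010a20143889bb10228400008a72a342294174287050c00001fd472791785456de038680001941428286aa31000025b927324ea55000013c2b171cca399800020b100101210590002244002800091300140000522782000282b8b78006000048489a2a1c00f025ad26e2bad49b0000905580056ee5554001800149aeaeb0390a862ae255dc28480011b825880000a100005548aac2e3e2af055dcabb15750a0edd9054a0a600c829d05300116fc9655705a0a7414c0d571d15542a9c829905284c4150002105615822aa65535052b75000091cc44b05244b24b821052115112e14d11778004000a82990523300000829000800042d00008001a0a40920001052003,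
  nat_lit 0x541a800c001a0d4006000106a00247baa2147bd800141a83194dda0d301243414ddabd100002dd460d28816f88348000000257a44be817800125eeaf404e490a622182db52cda0d110c2dc506800925eaaf404e8000341a06b000020cf02000044e712f208f24455a4902f524840c004d20ce15ea62084e2925013283349d000141980090660000087210e821d843c023084b509586808700004001abd8419606116f00032da10cc00116c0138000491009c000048425c2e312af2b8d000e008f012410c1bd8000012600951b114e00300088012b7a498ca8dc8a6801700443100002a460049e307328e6100082e345c925a31702e4c0021134b4c000c89259c00082945c280032242e1c00196c,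
  nat_lit 0x28001889a0eb000a4489a50005043c6509a400041e7e5e942e80031a2002400196d00140008b62c2e0002838cb4935b0000001ccb9359585ab0c49c6ac600a44c1214ab8004000ae0507180022da00200009220014000090a9496088a54c00020dc000c5714a917962f1a42c54c7000341b6e00000a0da004000106d8be61de2a0d89010f326fe83685f2a80d000683641b908105e62f9530020d903eb4f817a26054bfe836026000241ae00400020d7020000506b800017c0a020160bdf50123c3575fa81e41b08359bf000041ac02400001a803523bed06b02441ae83580120d8000200080d2a0d615e9d4c6e601a2034883549d20d600029d486e5a0d5014068106a0aa4ea037214430c2116f6835506a37d,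
  nat_lit 0x11a1800322612c80011120f240008528792000229124980030f245bd24d0002481e5dc3c880012261960000112114600092071940f1e000469240d0000345246a9122024404c9a6ac250002483957d240c708abb400094155da000091ac2200044808b79202000244d57580002244d209a4934f0002ab6c8f891f255d4e0d0d9000514a07000020a4044c00146901b100102900d880082da06c800396c55e800180d81694344001452ac29000e8794b58222000c34490b80061a448540028d155f800100d438255f2000d0ce195,
  nat_lit 0x3c600048981e300002905fa0e644f7e984d3050bf3000e07b40f5a1d57162fa80028a1046608c9105000026f84df89ce38a43c0001852802b000a4491f480052da1cdc00212347ca000c9081e800065b40f500022d897fc00081e82d29c0000081de39e9c0000021cf32e5d357fc174a4de40008397073003b8e251ec80022448f5c00194147b4000891a5c100021c94b78726000048467c8246003c4de49beac0f580e8f5dc42929117c928445900001422284dc38a614b38ae28000a49c33a0000000856493400087ee24140cc8295c94a8a5d5710e1924c80011fb60c6824197c493400007ed054b5c0a0d03ca0001282925c00096d11540015208974482c001124ab85,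
  nat_lit 0xb62835d806a42928520a4006c428e2c89d6ac825902b20002d28a41f0889e016d272517ea35146b00032784e4d467b07f2fa2a35400083ca0788e481e380032828bdc001123078800049103c100004847db00512746b23c9de03c2722a89966593f6598e0008683a6f30e8b3100008d064de433e4078002000000937e07e7567e01250f7a1f643ea07c16613900624082c107800f1266e3d66001ee0012a218b38af26451e26c4d8800122694d000011218a8315462e000127da5c0d7d8a53371c31540009134cdc00008913ea5f5eb2ec0000e301c6638d8629b8d27ca07a00f780004f70c293db8e2d00c884e8104800243d207e80f738c00c00184104000143d0c407ad820943e400010f389243c80000b6a1ef000607c4b381f100045b00f880012268784000112040000090ec1d0,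
  nat_lit 0x10857450a161000000c1310264069e0d1913a00000004e6800002bd2a889cd0ae000242ba85680b800242b22690bfa159194856800000010006b1609bc937a05788565cc800000025d8d32fa159072000562b137658608564120c4600025045a18000246a6a885610a6212a00009b9ac531684e609a5ac2d269800010ab3970000b0b40313871672b620006a15423ea64d0a98090212854c01800042a60050aa000d21aa16950a985b0014854803000042a404000510d25390409d498b96000005a18ba3e90cfe19f806f299f00004ba99a12e9271c000084ca99e0a40004a5b8004598ab31c9f4ac6740a52dd6bf000327e0b314acc2cc16d6a61800096d21060000b614b3000016694cfa9975308e542cc90c9000200016c594c6296a52d16bd394,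
  nat_lit 0x21c6438a04f5795216b36400010b58014f5a5f1c73ea16b000061400021725e4e30f14020e7c42d4d410b8216a00685b10b5006000085a80800c7432803190c9000342d685a823800042d4024001218f4cb230ad0b502a185685a455000001760090c626564cb0bc74b32216942d029c098216800c00010b40100000000c00204801a7a9cdd0b406e0004000c240035642d00340000001002000423f03530750859c2a216828204ecc987216706c11d90b309a0000859808140d2760afe8001800506a9d453a80d5d0000932926608c4338931c0000101ab6000800080054984537445ea830000000c030004217035ad3a6a1617389d2d0b00a100148580000130a261ab07899cb9b57d611b50b1800942be128458a277000600150af01f,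
  nat_lit 0x14001123000c0004692177000034514683510dba910c004800059980009d02178001c001c00280002802b3552b940128004fc400021744ee00009f705659eec660baa17534a5e00050b933142e485c404800000020080008008000e85d10b801311da93d927c08f150e203cc63e269342e0e7c003a16f01285d90b7810000885bc01217342de00c000a16f01285c10b78aa000000053460c7542e0074000268b05508b5521b243342e017863aa68b42e600050b81b242f0a054746217000020d4000000200200086468e6c1d0e39f583fa8151d1485b9cf0c8c00020000001217033a00050b7a1702cecbcc064426a14d4485b5cea6a342d8268000216c00c9a0d342167342da85b0d38c4242d80090b6a16c1540001104809,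
  nat_lit 0x10e43160090c60002226e44e1517913a021404310c5b4400100028084810b43143bd0ec218901244d150da1ea43168624068000431002400080040010121d0c40710914861c080002000c12113ba0d7b0298861c3800000f8800424384830008000c82a3a10004a5a4aa0218043c88d40d888bf118486112c9196623c52c56bf01bb49b8860c648003000c22f446021821968e290c089a00000005348003117493640dbad7805800050c0050a0c66ad994b1904d57e000000100200041414aea15c342fa2600daa17c01200040012e872b885714ae52ea10a0c85f03423b742f62c80002e852b8227190bd8242b7e26fc4a8000f430285f50bd862000085ec00a17c0004000c002a17b20285f10bd8100000b34404800000060029281217a0ae001c001941,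
  nat_lit 0x1ab433c00c003000923e6ab790cf1dd09f49a0d3408000577618522c800100c2d0933e8b470002aed8c3e2a5e63099f800006a348ac1a91d30adf00003285a2267f503c00048f62cfd55a4cd0000af0d0e8636d0505918a550a5410cb80005e181d0874085d5e161d094108745000200088f011e1432c2a1569219501200008ef2ac959f01725d291dd5590508130e0146029086503c000043260417aa21940002000d0c981f000e864800800158ca4e0163405e22d3486489526db43223a10c9219100c000110f00103c2887d110123b0bd207a10c880024320e9166fad3e636663f963581e643202cc00100032d329cf42f301e6431edad62f31a758d207910c70c2431e86385500014322b3b8a0bad3559b6863c1580000006024001a23e448008ad0c70190002bd3cb4a06845b3ce8c002218d00005a48b4c0482d22176d6732e9459d450410c63a2,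
  nat_lit 0xa9f1548055c008001267e00390db9030158000ca080aa000448c05580011a487f80000d11406513ca312d364c2400009f300a7758b31d66980054c1cc1ed3090a9275694b00008d0b0c70982cc1252b00009cdc68e0d170da342431b0a8d00000ce819e252c2720ce419d88ff000098252c0003000c0014352908311f29454a58a03000244d2ee80002244fa09f121a80004977d2ee3aa000400052ef25e01508ea4000016a0ac1a811aca2d105e402389efa1a575000010d200127ba4f8d6622cc3597c4f590d3a1a643483dc0002260012091965a2cba037e868c19800043440400deacb827a4868d0d113300020000550001579e4b9c11f8242279e868437106a1c903ddc0ddacb5279e8681d3abcd25caa2bc0d7a1a001a86810cf8b202ac1978b6596c8433e8e05ed16c55f0a5b1d0cf06b,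
  nat_lit 0x87280008a5000600008904bc576864715e90001438cec800004af2a8af40c9019275f7cbee50e321c476287150e20aa438a0008690383000244d19b80002245404c91b1cf5f72bed0b7ca1c5438600010e13b043840008003838043820dc00021c10020000002a338466c87042921c243822685c400012269af80001125f5886fc00028bc170e2e19d7a8bb5f4e5bb4b7716fa5f5a86f87d0f883014c8bd8ec992c2de286f5d700004486008927a61a00068c40497035f4378eb400021bc0202e2c5c7034d00009861599924e374000118581006980008000a1ba00000d4549a6194c42c22530e0a9c437400010dc8994374000c003261a43721e4007a1b813486e50dc010000086f4e10002152c2a6095821b70d800010db810,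
  nat_lit 0x2978b2caf1b14b000003580004b4255006a0e43000e87610ea2dc0000875000a1d515e054b0a97a1d402e23790e98060000874c080aed2a52b7f10eaa1d302c00010e980300048754b8b95252a4eb7e90e98d62a5687484d0000000a008002800743aa01b10e881a00008de00324a30d584e2d63680017382198000001439e873800013872706ed49c3138718505c4d7e9afd22e2c5c3d0e6bb40004873004a1cd43982a8000170c2e2687d10e68395f8c5c350eca1d7439a3a800021cc02087550ebafc5439a87301aa1cd439826800002aa00c44a087e90fc024496f44ed114143980001d98001000e450552021cb04a12a10e509a0000872801812b4b74a8fc89f000429e872400116c,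
  nat_lit 0x127587820f005ce90f3a3c0f6a879855000444a6c02068ea8e32ac000d129174d600c35793b8005000244d0f300002248a7c073000043c4878d0f2bba449c5d2580218596002bfcd7f821e243c2ee50f121e1164be606272ff02e64878417a1e243c22a800080041e603cc9845253543c4ce52e4081543c600050f106143c687840080004b9620a0412081410268785b409cc17869bf50f121e11b8a3f10f089a05e00bb917602c9000237700033b80000192881827043be0001169a60405928b51db82c1043a2f2537e000009800005e200143bc8774000826b43b806c135a1db13409a413522a204e02998b30af230002876c39abbe577ebc8800021da25e000052f002000a0004001141b283c9bd10ecbb600008768818004133a067807600eb01d487614e80de43ae00c04c00992cb22964000845,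
  nat_lit 0xc024bac3013017a0300062a1f377a000112580bf018887c883800043e6506567e81cf0c0c0734d1000443e600145e121f1034b0d961c17650dee87c09b21f00002b0d49a42a3008a87bc00013490dd642441793480dcebe20b6496ca30d0c450a0a21ee732000d0f6809000600046921ed000034537bb110282000010f58001778503c3412ffa5ffcc01d0f621ea77600010f5009015602b0ba1174843d40cc05721e915400010f480943d400011ce83e843d20b51ce239e60405da580121eb43d2ad50f521e915400010f500601d6896512e80ef43d4a7c00021e900203b512da25d43d687a46b800043d000800021ef43e087cd0f4013001887a004800443d00250f4a1e8002be9062d173d43d287a00b21ec2e7abfe10f421e70c23c790f3806,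
  nat_lit 0x5dc840cb0e000128a85394a202299441214515829340d8600057702ed22c16f10360000013458640000fd152641b05e18fd200022956930000224bb74b0c259c0002be54ce799c95a4af08002000216f89bb53770ad0006000537596a82da20a577c000100042424b128dc12160000740001120a2104424084a61d258c9e08000120a7092cb133358342df10fe934000087f0018b7a58304cc110021fc04287f50fe00900000e0001236206fc8d850fe21fb35c00010fd81011129500000a6dd58264cad0fd9f4000287ec080b6916c02d7c5af0006000a87ec00088887800330001a1fa0000221d882542112622552a200cd000487e48cab69000004000080020e00c0a8bb9a79e1a32efc00021f7206000037f176c269e87d40880012e9207dc0fb0b5777c00000f9317,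
  nat_lit 0xa264495524a217442c370285050b2246885910a8484430178c003221b0a14448910abc70000192c005221d2244a91910a07a0c9693d8315054f0aa2885910a3c60000885000a2150bf415342a7a214366000110a0100bf0152c2a7000044280d40002215243e48882f0854a0a9aa3c0002213006140551c111a0000885158d221322a000110a3170000192527685dc243cac6510907649da0000740000442446c955d098e2d665af1e280000008000828122100320001108002235caac0949aa3b2238a8c828000000004e7c00004fe20611100b6951b44208838068000441a0240000001001052f910686c0000001c55b0ac02a34b7bd106b3944208834008000441a02464e17752ef6c0c11068710000883008302e2ef2c0d1106a20c06ab9e4cdaae7c27ea3265817220c40a329581130242ef65ddd819220b09ab66110509a,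
  nat_lit 0x4446888403000044420040002223444800291108220000888401b04a001600251112221042889d1108064448888401800244420080002221012000000110c5310a435de78001218832ac8b911242244a901b5000053c270859280044442887d10f20a0000887800800011ce07080e2a21e5b8239d4e610ae21642c88000a21e79c000510e89a00005e00a7a150129eee9581e178029ca887910e80004438f352faa5fd2f38887510e187198488700100004438040000248b50aac678c93b1d35d2854924528546336345510dbcc54bc8868048000000200194640ed60b82298de580010006a1458cc0d11794000110c1030002a13cc7594250d509444a523c90000921000a84d63283445526112f5496886510c2215790885910a8aa,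
  nat_lit 0xbf517cc2f8d3a7025504f888e99a223a0006001013e22390f28c8111c006000088e008000000028c74128a7481a6000511b8094636093c5ebae120484090111b95d446e00080020240446c3d0000a2371b5c9f61431349000088d8215a3f247e6ad0000ad3d658a68618c6275a4468eed72e2e5b26ec001d3ea8dab446811c6d622331340000408317501837c86c32bd525f05604001af71c8e000489a85b00004495f012f52afc000142e285a7aaa16c722800526cc4da962c19ca5ca455f5ea0e4250b200109b2936905813d00010d248c4000452a45f0000291428800109e05a922f00001a2a14c6378c6e18ce3198000135f48baf4d626ac4a000000280ea80f4454000000ac48589ac500c4ca66b00028891e9000107068e0d51e911c7a200001c200347045a8c79ca5ae000a8899110bd0,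
  nat_lit 0x157b225000200013d8801077610a80012251449e469128a24e00c1cad12709a00001088010f3b52563ce0000224d04e000000200300200044008000310f4abb912633400009edc04800300088934009224b01400511250aa1e64a49479a00000004084000a24a001e005014a029347f21069492bdb000089240038905120e3f6863d3da0010891c0080070010002400400070d60e811d380002af255ec1192a91332b93d8c298d563049dc0000a3a17b22ff80000398073c9ca85f000a00003a05fea76e17e2000512221a1176000001a24000009d8513a007317da9d79ec27604ec4001c002223f7ae000511f002000088fc0020391447c020000800646545fe185a239e447a1c0000a23c194000d11e0010506000c0010000071a1381c603924e3c9c809d2825704fa88ec000bd6,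
  nat_lit 0x20f800005085bb52ce1948000a2617c019480000090000000d41a19465260090000225e00441dc83c305760aa5e55823b0451b560001ef8000506002470c8fd744ba000112e0710000000800628475092c7b94ba0fd644b8f78000225c00c0ef4002a26044bc897025225c44b62840002486020921cb3124890000899585c074561800001e301047985c011e10000616a5fe9131b0c44ba00005283b700020024c8225a000044941e000144a8895512ba2597ba894c0008e2202ba0570058000507240c71028376164c2ccbfc17f244a889491289a60000894401000000028a8405d225109e89491288b2453e8a8cbfa17ee44a2f711292251154a7287eb8d3c5aa4b65d3db2252734000112980050006894411000044a200ca55ad940004000d128829,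
  nat_lit 0x22100003a0000a27861beb6c827ba1a00000044048011537200055e12275364000115d80625884c4c455090a0016003d4dbbe308fe1200904000051fc0b07802da85b56001423a847f240ec7000188a24d207f002c005700aa00015ce036a1b64a6d6d294be00008fa410a3e800903118482894f4c0c2d1c0012da57c42cd53940001297c53214590e9d33814240000065b4400044a389441688ac400025fe020a6d0cd2324f1aaa89a4001800245c000802023e200843101cb0001007e8f981efa76b4ee52d4a5cb0cd44cc000040803d47c88f9587d98403082c339866226577235391320e80006899001000044c8024000876e4b409a2113200a0ee2898c08259d538aa77913400074a70898df0a26544c60180002263002000074128910bde898c65800044c600c00105f70bdca23c740142,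
  nat_lit 0x22922060018000899a01460265671ace27ce8a3c000026050c8a741f3085c0000268001a28c45160000a63081298a216813182621330264832d80004514bb00000657004195432986520008b70d145a289272000114480100001d6d6e014d94512108000228900600040002ddc5b7c1d642eaddb5bbac925925199e3330418d144000034c953c0058b20928000c0800e6000244d17080002240004001000558b04db897301b245c0f9562a8004000200017b430a091c0008b68e46000234942e00001a2a39882ca27e000400047223e400001c3c0100000002bda17f2afe75ec8bd882448e420e600017b397205fca418020905d44f4008000227a00430845bf31b84f5089e809800044f69a4000aea72f065e005be279644f2540617b1b516f69e5513c01b,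
  nat_lit 0x3f68531af222c8400012b00005e28550b1c16372c6c58d439c0006454200011500ff00008a891520004454012400022a00061df839a22a345448a80308000454004084a2f960064008c39922a1454054800022a00121cc4b17073a13788a807a0003453e00c000009f62ebbed14f00000006002d6b41480736000ca0496285df48a75ce09b70e6abbf0b12a29c4acbbdd14d8a109448a70004800b453612114ea29a002001d14dadbe29dc536da48006453453581ad912f64291d8001ad6028f026e422a47600025b424e80002d834f58a0315562a6904c000a4730938fa820000001d012651498000452853401ab2a5007f69031f4800100063951436a8721cae8a49f4078360b42008a7114e55b6a8a4919000045220196d9950429ca000914898704c80010004800245201c94e980020012000514780b,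
  nat_lit 0x4732063fc800400002eeac0e9268a2b80de94682c7858e00028ae810a2b8001400117de16f12dfea7cd9a80034a2401915a80012da00100000d249623fa800080054568000df896e709ce3fa400022b47e000014ec0021fd211a5231846a48ca8ac000022b10004fbc000046d48ca919115786745628abc030000455e004000035e087011a91578cb00008abc01a2af000011a421b035c28411a1230986b30d8c4a4c56986e455e8ab8780515455c00899b2c22000c5938d742f1f47d6c7d159800228200480008d24564000068ab8265f04ca400000050020fb800180021a49bfc0008a515e800005213255b08525c44409d0455c00040003ed00020019153000515e4fb000022a6206001115200010d6a1ad92ca22a37d68af91510ca,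
  nat_lit 0x8a4503462928b5e9567a2d07ee46b9167802498457a17638002000a97d9167bbd0e908b384d0002000a387caec15d71f600040020e1d5d7c578c17a2ce000c97f438da2cc7ec8b30a1687510e348b2c020714459400916580030e9c50ad165004555a8b247422ca459200800025f50021c80391a2c900008b20292428000002400029ea000202401f580853d200012c41922326097711633f5011ca9a088680051fee08c000283f62e3338c0c0e3c181000013fe0c853dc00006029032212000084f08a14ff40347f80001282a78400012354c4000915f867953d4a7a47fd2a3621363fb9fa2a610002001033c841003ea98000022bd4b163ff1f980020cee98a58f7993d65544415f90010001aa79833aa2bb30400040018ff70ce88ae817867245722840008ff40014003515c82a,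
  nat_lit 0x125a22e31640004001abb624fa8b8c1680ee45c42a8000abb457ccafa17cc96c745c4dc17ab16b25f0e8b8d1710dc00088b8400820d476407dc0012b8b26692380002baf047408ec1a3a3e97f44a7094d00010004326064d98ea491c1219fc9271575c000000081f6475e07d1fc0000192c039893a2bad0a8a04116e09a00009970030f151e4ea4f079222df00028b6d63294452840008000a2da016000116d9030000a50005700b3016a398116cbb6527ea50479829890d181a3916d000145b21d4603b24233222684345068d45b2134000000445b8a4e916c02200048b6001800008e040d23b81c2038c001c000a2d714069f8ab086850d0e8b60000321000000040080014e0465dccc232264d648b505f8001001600343a6a2d41841c81169806000000093480032ac0b919722067f0d028b49e701c045a226800022d24bf20020003256,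
  nat_lit 0x8bd401000a000e635517ba2f504e00017039c20016001c00298d345e8ff517a22f3154000917a00100008e402b01a003368e3444a190231fe8f5917980007f85414001000504688bc880a2f400065b400380022d88bc00008d20008000068ade931f6c6d11e7800045dcfec000022d0ac54459a4b3483514c61517722ec28a00011758090000bbfd7802f0245d6064b0fa2eb00400111758062d2e000c00222ee45d65586790004000a8bb517502f00148ba4508cf000048ba4000169417cbda4cecb28064f833cc000a2e81f200051738a100008ba00038497092203e5430b5400008ba17c696bd45cc06400122e6004001400009a21b428f51728000000447c000800345ce8ba17c616b82d72be2517214d,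
  nat_lit 0x8006074b0e941d403ac23005d4b068986095d4d9a8bfc9a087f45fc32800422fe0028c0117f00300008bf80100000006001d79c2f135e1e8bf99ca30045fc00400022fe02037886f5290b45fe8bf80b000045fc0194a49a446642cbb949e00010000ffc00096550b2e90d117e88405b28bf04d22fe45f800c00022fc012000000105932ca28bf07a00010b248c040048b5a4ee08bf1ff0000485c0252a2b214329e638517da3c0a548be8080000585055020e041b07de8be917c8052c9ebcacb2e03ef45f255800200055e6a0fb917c00b00008be001912f0002000917c98d70c021300000e800008bdcc6c9a9d66926a615928ab00005955792964945ea1b0b23a2f50048bdd17a809,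
  nat_lit 0x2cd00005b025b24d32c5ac724c86a30f000090f20182d11e8e3d25186800102c0b492220f47461800002c80000b0015fd2cb8e4e1e923d207a3a30b804953d18589a0304060c0c28cab0314062cc85a32d00006e4000003501200c93cd0011462c8c2438a30b461202400023090048c280030005461a8c245a000646120051872309020000d18480246168c240180004612024000000100042de51848080000000535208715dda581118494300020e2c002230b4612088002a30800c000118400303c0078400100010710190000245c0ac0e1956b915022a6ab74437a78a00028c1a00a3c8460a2851e9192163b88f30000278716e100118900000208f28c8f0e3b00008c3400a801468c00140002302319663215980000002008000930d3196c619180039,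
  nat_lit 0x8f840e781ce62988c80150003463e04000000213848cb4c95b1e763ca8c7875060b463a040596a9e25b3016b52ba8000463a6dc000257338416903230006000a8c70868000463604000180044b94001800602c4a4e000118d00ea0b1637000000c50048dcd1ba19331c508c62028001462e0252e28001000ca4886f78443462e26c073255b01d293d918b024000600004d063b02768c54000000123e0000000a3162c88bca5784161d5e068c50460000462abc98b2080034de000518c0006463445b157b231327a379148d16442c828c4ca78003462400518a2312020000118900946260001790163b46240b578faf2463a0c94d2cda3134624ad4000231200696658e7a314000c9125577a3121b209dc25d84ba00020b38166243d48720af6022f1549ac12e400002cd61490f800096d,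
  nat_lit 0x1f042b289f11ceb20163fa33609458b06f709fb16588cd59093714668284000a9421c1038243db1c900001ed98b914013fe647400100045c9e8cc86b09f54662018000a33263e44da964e39600008cc4c9ab1f063c40840012de129f6b9311978832abe8cb8012414045208a0002136663dc8cba040856465a01923f0005000c09b5196835272609a8135826c4658085568a32b1424e44134232b000491ec2702230442000021c24c733a10dd26305124a340995194800048f2902d6e90cc0002000d1f6ac8f04ca8ca2038265464e004001000e62ac0761193b9c103a9b0c40f81d6464c90c0eba3251428c9800000155686b3c8c2800100000d80010f3d07980c4123983074647019238a322002c2042d98009464a8c899f85b64af8001d192232109000009c09c2,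
  nat_lit 0x846940191a5a34a0043a580000b246920000bacb4a55f143d0bac2f7f03ee07e00f9240d469098000180012f706c5d84281ef468e4f02572347006000044f010113c226d382b0232ea88d180002850000be0da4f9753468a1191a32345002c8611a3800300028d14c1180d30100004000234429e00051a2b21837ead278df82f7f170000000180900064d782eb85d646840b40aaa341020c8491a08000300660203098021d205394a7314ea32ac8d00b10631467e3a0000233f020c094ba900005012604d86b895051ca01834a86b4592c000000130258168cf400014f65bb04e3c2e94f55bba6de5704147b5ad8001119ea33c44e8cf519e00212f0000001b0204676000131309740da98955e998ea6352c6a9810a33a814b59d4528003000a23e4ba623398120000468802119e00000010df81bf237e9498b78,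
  nat_lit 0xc048b9c2cd61004201001f84760225cdc9fe877046b8069749a35b0121db800001000000f9d806173427f4d24af52ede00068d691ac99e00008d6404800017684f7d671ac650822ecc9ef26110cd819b4001a3587f400011ab81000024df964a2c9665a2bb7cafa2fa46ac00009be937e220839d458996da5f722189be2c920cc48d5d1aa8130cce982d648866146aa8f11aaa3541540004748000b00148d540ca35746a8040747000900005f3d8502d3646a81bca48ad892924000800024346aa65cc26094ab46a67f00022e14000452a91a913a5b0e8d4474235700022940070000148b840000000146a065b91aac0e00008d3c00b982561ec485ca9340d0000a67cc85b1c9469a0cc325234d1d05d8981a00012d40cda17bc234d11c19251a60aa5ef25a44000000146a051c000234f2ebad2a4dfeb0355fac5bf17bbc0c,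
  nat_lit 0x9800200011c404a20943a3716a8374d4a20dd157648dc0de2df41c4624111b8000106a00011b815400022f549b8136f26e2531c481890246dd04d1bd2379003e1018ba90012000e8dbd1b741217a6003c003236e46da69c001a36d00400011b68090002000c007174e46da1b0004236c020000400617502ee2b43d684236c136c61c2c5858c000e8db010800946d600543c000216414a92aa852b190e000400113291498a5fa08aebc2fc2c2c8b05000158904ca6080000264e963c2c785913644c992c7000007f4581cb052ef281e5d100020003000216302700004b120182c5058c1c78a5dc5248a4700188d90000b6459e4b708a68005100a88d9d1b1a2946c60018029a36646c405c004236113400011b08100006014174da37e46c205802423600028d80000a37d593a03ac2b925786b2013d717096a60308d7c5ca37b5d3025a980ba35e48201080000aa,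
  nat_lit 0xdf4000c5054b28005246386400229632ee334c00216d19a8000cb628ad000434945e00011a2a6100000cd03c23848cae32190004000145531b000000340100080004000c31e13c300d08e060a9957642ec4d8033238035800011c0903000600042d101bd5ec606fd1bf8510c5c8df80801180000018000000102324ec89da0ef00020010aa23f52f86256164d000b00148dec84000403420018004237a09222f80008002196400000ba9f523a43fe87f38002000232c4ab80005138330065a0409032a26c65f840b2c3000b51c3a3776be00011bb003005800111bb0000033612154133d736563d549bb000346eb05187fb10163088dd51ba0da00008dcc0480010006a528d7231cc03a00000008020002a5219c89ae862fe62ed1b8885,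
  nat_lit 0x6701b54c588e851d00164b8806dc328a3a0473e18400200054b0816ec0db0650473e8a49a40ef41de6a8400d92629473c4b1224239d1348e780000014a48cb9027ba39c00006cc00093441f90cfa0d1504f647370612bea39a01265dc001239d47388e680b0000473400d7dcb3d0364865fc000239b4735058000239c206000d1cd0000478c8e647317d86488c918cbd997a64728e6800123992305ef985c308d51980018cb8a3990dcc24cd890010533a65dd91ba39882c00011cc800432de8e5c128001472e00c5408edd1dc800051cbaca646265cd9158001472c1ac0001336004c8a4cb88e24001a33754638cd882e00018b5803051625318fd0e28532c3890003c160c0697c07fea997532aa64c0012324b76005000d800f000053c7110e21532000240068af1bec0014a08df4000848c6f7800314a37d00010a4,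
  nat_lit 0x207c00002382ea207c411a7312cb28ecc00023b4491008d811bc1e0002000d501aa0107005a6d1d941d4e668ec4740000476201926bb2ef661c692129e000247630707638ec8000e00091d80455760485d1d88001475e53c00000040040010762887610f4531d6e123ae05600280008a1000200111d723b02850b4d94311bf4d2a8eb00000003475aed4001000349ba68b99749210575448451d5c1b24128ea804800149b6cba07a6abca57924408a6000049b4cb9d975253119e00091d400200008ea00182f400000004ad8ae9b0900000ad815b5123abe40ce902f4834ba6974b090e654a8e9905090b474a32800023a50060edd1d280015920b2483000004d24025647098300020008001a52447470651d2000000c9ead31a03a40002000174800106ae037c1cea3a108494611d00060b38bfd096081b300088e851d00e7,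
  nat_lit 0x28fa478c268287a3c6020000d1e300200008f180480011dca0e797aca3c60660e711e28aa1dc60e717cfaf9e5f3a5ad51e2a8c00008f100196b314901e4c00023c549f88f10c30000478cc5c00123c60032007018a24fb478662c00023c30120000000a3c82cdc8f140e8000478ebe657cb8a420f1c8f085c0013478402400023c200659a91e2001100268f082423c5478200400023c100600391e124960486924d2b02fb00009cfd7a08b991a78976146082b0010268126800117543c2c8cfab8f55ff0817f4824c00002ea45d3216509e00005924993460cbac000a7381da20900020d24e68000c68823b00065b524580022d808ec0011414918000539841f,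
  nat_lit 0xb4dde1d98b54a3df08a42c5565800760685d3806012e000450409800012d8910c0000a5558c000809696a0260000489a44200004488540001025259121e80001a24299561800047ac098521e4255584429956190c502080004001000347aa1cc3aea3d401200011eab2e61f60040a1200000eb61d6937123d30321d711e98022f78000820ba58147a637000084170832136007d80ab4816c1400004154afe104c0ca061b4c4508c0038000004c24c00000024b8096fc0680011a1cad086859b3f67cec3cd84997b884404e51e7800200128f38160d14479a284000000600200185aa28fa19fc2d1d220a3cc2941c3c774903d081e00012dc852584296e0292052200001030d704080634941000023ca567a1458f8000001dc04120e1a2065b6cb648ac91434790b691e41a1a22b045091e385b,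
  nat_lit 0x7400012110f4000400e42a00380044008197a0f1a9c5538cc290020003ccbcb2e410ef0a02a2a5e70000979c2a28600a8c979400027724eea978c2a105444bcd09d3b88839239200012f200d0a8a15082a0000023985b355de12c000014f8018d8c66f6a5c400296cc5f6e4729cd892800045053ea000124623800001121b0800084921d0124a000489a7d100004494b4000047ce0030b5996c2124424861300000444c5c36106c34d38124d7cd000947ca0c036cafaa2d6000251f204247d08f8c0323e647c600d1f223e3020000400323e5000a8f8c38800047ca40c00223e300021994336047d47c4c7c8b52b6322f0316400084e626811c55b70c58000019000016a62a85a997d016af2d5c5ab57a7a3e000008f7c9323e0001a9bc43b3a3df02e00011ef810,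
  nat_lit 0xc8090500305d1000000c32a86570cac000ca6e94dc29b64e147219b066046934000a909521695c0010004000e00bc00f0be0002000c00219976604174a8b0cec00000004b62ab40002000992c99961a16be647b7951519d70b0000240e206000801524150082439801c240c0e0000038607043328c9582126d00e12945011f96c15f5a902c6b00254d7c092cb5fa40a036ca28ce5b28d0f2c000414e82a75f893dc0019410534000891a660000248832b00002429c70b6baf7a00189e7003524f4052f0ac3c7271a0f2800044ba93a65988cd131f06215f6400143c88be12f25accb6400040f2017400f80012265acc0009135f5a00092009cf48020004b58a19003a000cb696c20004006cb4a3ff00022951fd800014821ec001001a2dc8ff8000923,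
  nat_lit 0x25f94854268000242a0064b08419278710680000240000603800400224294e081d1d2140224850000000970739f6d6a97d38001036000000100600041c84cdab2780e485c64b5e43000029bb98b800150825b497de27060e80908d47a6eb0e381d0537ea42205200092110030000908801a9ee1cf0a0f4000150e5c1ea629de88832d74be080020006642908800116d000e0004910008000048540b1b57139c0008000800585e00000010060006907565696b21df03ca953389c548370b84e5241a002bde8b578ef200089069a6891a5c145424002241902c000520c001488811000c1259f48300000000b0b00003bb97caaca7482e35c26c800000c000120b86420bb253f570295041b6000120a8030caa195832c00014c58177120ac2d,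
  nat_lit 0x1799243e0200004cd819b65e063fa07f1a43e6540000b251c264e866ac51e800b487a8f0001a43c020000121e01050aa6891972800100062be921e23215f490ec4d0006147066956e18cd2620583c0008005146ccb743589c000003a121c00022d8000c000913486e000089160a334c66d593d327064d666805190000486b0d05181a1666c46a90d51a43548690cd21aa4341549aac35206a24d5290d51c0001486800584d9854625824545a0a43548689e83530b32168090d1219adc0d62001545428a6486605800324335150a29521904c2a40b88970e00004864a29d4520a6000091fd34811148fe046c3560001167890c037314d69066c7135480005146a286190b3a485c000400106ab07200000010010004125024b09131236a27544fa8a148590c48df11bf57b44e3041b083d4858a540008003106e20ed215849,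
  nat_lit 0x2406afe922c245400020b000009272a8a08da26284f133a24399b7120048ac914a1c800048a4004000a45423fccdb122903f1216914403000048a200c00714d0355a47ed2288c0000814198e386f54df42f8001850531e6c714c7805d000298b4030000000214000060004489c000095abfa57e40008001a44d290913522600900000020048000489613f090111f702a00000020020008531d9b4278d48920d186d17f400001df539e077f4e70c8139d2a12314a9bd00002ddc61b50e1223800000049b9837b02f00021500ba730383988b7756ee14c4488d0dd6ec244516414f8ba614be000c9115960000488800c00214bc2e92336d5f80290008000450972960245c9d808974729740008000800086c66d993b94b848820000420002335866ad9388ba0296e91021aadce487e02400080025e68593121f819,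
  nat_lit 0x26288619464f2469054215d2340aa0000062001186110ac0dc88d82f7b2d26919c5c000048cc040b48af77206a00002a9b0dc55dcd6400024654d20001232800900165fe4bf9855114c00083e6836c23565a34819246312a000800230f3000c918c1630ef61e26020002a4620989ded2308010002601d877b0ed48c20200002463004c3b800087c44f8cbee0a9aa46038621683e32777000200141a800000020180011854626a212042a87c44eeb018c0009ec19a4323d22eae9619a0cc00728c8f48b8b486448c8c5266323922d8c0191c91685080060000329872a4590000000800206100020008270b0d8311cc39922c43c5340ca11948328a07525fed22bc3b00020008cde299f48ae129320923a2492192122b9820002915800938e5f105a78dcf28280008915a1d092768a0a09c001a45507e915522a006,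
  nat_lit 0x635ac6e0c6eb1b600009ead3d74400feed0c4dbc9b6c4cbe0004c6d8fd021c049427700006366636cc70a6e49f200000100000004108c09781305f96bf1c0f4019887e0004211012b025413acd280004c04009301341020ec110d30b247348e21bc000247100200012398003000891c424800048e200cbe5843f48e40005238848000491c0508002198c32f167630b2087a91c0a2a60f48de02400c001b0fcc21e9237871003c91b808247748dc040000030c0020c257690311265a91b4d9800848d8019238246c004000d23600926520015237a47048d8b48000a46d000491bd23582f000c91a850a46b00020008993246a0d891b0002885552b89e343ec246a87c000083334120fb61f693c5a4693eab30099aac83565291b1235246987a00012348020000000927233c3360e1f9923485e,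
  nat_lit 0x5fbc37c86f8888a492a0d445524940029254008024d000492500b000d04949558000a4930c2011d2490a14950c4c0081abc7000e09212aa3310000147081851a0002091c62caa0d18ae371e22820a4c2c9a10000024072e0000105006041411c52988001000a95352a582404a951100808000134000c000aeaf123094bd650000122c9a4ad795b0638600000020242047e9500028013638c63b8c758fb49120004910016000048411d823e00009215243001588608f411f023f4a929838212842600249210a6810402101094008a48323e003d2410092bc014846f08002022b1094f329e81bc0000526b9a749b000054f404f24cc65080898000004a79827704e709cac6d4003a4d80252935a2084e8000c3a0c6d18d86364635c00106b000097f40807fb4f6000058d798ea15a1048000001,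
  nat_lit 0x13e249f194000124f8030ba21fe92500001493e120000a49e142000575336013aa2b9503fc249e1c80005742157453b69278150d62493a2a8ab98db51198234c46aa49f493acf0000249d002000010908d111a692740d8000493a00c000249e506e233c1082b400022350470906e49381dc00080020020a0cc466a83549382e941b249b134927125124a00006926c1ba4a24936005250249b00c927524d8010000926c0808bc0012927924ea49b09c000124d8032ac655946d308bc000e927124d9c80018001c004a49d49360d445928211166927124d04c5250a4a4e111b3049348e05949bf669aa6cbd24c86b4ac8926050925519d233dc029281d115e9261ac8153089400a400200010006925c4a281c492c01800224af1156a06924b341,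
  nat_lit 0x24b7000229400680002249844000a4b32de00440001214c1a0ef45a1000e4960004225098a24e84858000b1b031a4c6cc8aa59c000229414e0000148484d6381277513000052ce829d4b3512544a80004b3c0a812cc06400002578010e8454de256c000259a4b0965c000800c5c54b8d5718895b4760a652cb00000016b89c30a4aa0004488003800114a001c0000a44b240a5414c2590051c000000124a94950929e2400014950d0392c6828c1ae00012539b5136ae566623a4a2494001800024a0002000125124a349489280248000494000d4098880110292852500481102928003087f4940025590a4a00000000400f81f000000747482ab81dd23ec524fc464942927c030000493e004000028304fc006d24f83f,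
  nat_lit 0xa000001200040029b77687a933cd9000000060080019b7537122d4993db275498c6c4292000000600000010008205ac878ca3970e89c0004003947f03a493106408da49862c80018000142ab4477a2ad6498400000b80025c123cf18f2990455aa9306268ef449802c8001102c5d2e55ed26002d175c92fc550000204a40c814ae945d30c080b9f0248497d13000024bd00600000008003000a9b101780014b0402400080030a90019529d8063497624012232670482390125d06c000413fc3a1874249740653aea4b9020000014290309f81d0008d88af5070d06d25c44b509892dc650001496e00525b83c4188e0f2d30ca615496e68525b9301188c0f0d25b079000092d80812ff1888bae130b00040580058001122,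
  nat_lit 0x131626461c8d29902f228cd1b12a2000249b830d26f24db004936c00116c000800046924da000034529f9bac68d46ebda2b24e00000936228a4df3730936926c24d715e0030005800549ae935920800249ac02400080022d9ebf1863302c000000057e32f732ce20a40002fc52cdcbda42e79a850b8e171526a4505f88bdc462f34443720d13526a3fa0008934c550002077ac5841dda7a409c00041de316262be59553ba859375e2c0926924d121223115710b0049a29340cf00000002000d2699b8c0c0000526780900029345a210c775aac31e526789062be61e45812efa499c3a800011e057ec9f492670710fc69338740b4a000001935e03104bd80c200008000564f13c7d62b2500025b4d95219cf4998b5d2f4a4cb154097d2cc001600020000c10fa716c0932c000a4ca172004d264802,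
  nat_lit 0x93a54a80104020493a01b000049d00414a70102020293a0000035000093b1a3a9bba68dc6ec92a9810049ce62000324e700c93a52738060000939c00800051c6000c00224e7366003400091349da00008928e000009395a371bb349d914d470a8e52ae6ba5974c346d49c8dc527224e316448284071bb2375e938d1c08f43752d1b4dd724e205e938d2710aa0000938c018feb4c88938c000000309000007f00ff556dcad8d321a4e228aad587ee32df49cc9388162b542c16682d272a4e10c8000527000149c2938055000012d825bc4b924e13ba25a000080020bb8581cd03a4e154a9cb0000800012cea2e0ce8966516e25ac4b0a55002489384000a4e08a4938526f806000016d4091812249be70138eb1ac0b780004002272849bea942411aa066d66a5c2ea85d449bc0ec00093175a344c5938e845,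
  nat_lit 0x250a49f601800080224a1c944527d83400000080e125081392a41948224fa0cc000127c8035204a4104e324fb49f213000024f900616b8000000400349411481a4f939016a82d62a7e1ce600001200001822c5c6090c1300c80194001000549eecd139485ae0002001127b005144693d403000049ea40c00180022d828680008d2524e0000688c9453f4326158b8f3749e40008000455000293c4de39606524b1513802b610a9a158c174a72249de19400002084b541695277022041200000180004e145d5486131fc322e1e9474857249d8009279255d49e000012762e3124e8c2000024ed62e000c54b89fd521c27aca8624ea258b8b527489a000093a4048000152ad528e4ca90f03a2a51aa48aa2020c041127524e80bc0001274001,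
  nat_lit 0x3ea85662ca06e8a4100024a1c12894680130024000928695605f0004000700014a1890c0000012004003c0082cd56c8a76658eca50b31800192858020000942c048004000a005d2c6a50b06600492850100000942d8b80010004005009d013302649424c587774a1026800080100ca6b180925006a4a11160000001038400356ff94750d58941d1e00004a0c04035514735bfe00140000450000000800800224f8073849c889805e6983d30625048ae0b99281806000407600eca5ab4a0606c0ea250213451b0002a51a37cad290df025028ac96a52808ca0000940c0480004b529d55372a50001096a13aa031a28d2b7cc00080337ea95e4001800200022098ce80000c7201940d281c027004d92bc8001000095d28925100048008d27e05b,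
  nat_lit 0x11397a66d4cd6949c5ca5280a740d6933525268b69d2c2c4858a0000000c25f26df52e9494000272d0a9816342ea72c4e5ab12162391100a7414dd292a5241b09ca81aa85364a48948cd380034a460092922523002443029b271d4bca948c2704b700009c6d2f225220c897880011230436000452821b00002902598000220e14c429725df8b4b0f0786ab04000c130536ea6d51ce999400500021a144b749780001ac2c5c78e0f030002001825b2b41e020000048003000434932e800114a0d8c0000a41dfc3c5d57f8f011a943ad41b20331000400022c800106600d90a49265a03a0000196802065c0d88ab4800a000a0009289a09000094480800004a260014c42037306e80d95bfa5120008c5a80e0251101a17b819087d9000494459fb2354fec9fd0000a5100c29441287801,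
  nat_lit 0x129a1ba84a7e94c80c00004a64024000024000286e992994604a6894c80300004a6400529980064a7208f5299101000294c808052858229bbc2532c5b4c0294ca2f80034a6c980411ca5315a4000153c9c24a62000800483874a601b0003252f020002000088a6114ea9b86e1a52f4d60019340b52233ac67706e2a52e8bc00040000aa000a000c0020384115acf39296ada1144a218454288c115622c529645d679c94ac03037f00020000001252e28e000529680074dde0048006a5344cf094aa2e037c4a52268001252900c000129480368aa6e5cdd01ba34a5400040003354be2004937500024a50db400025270120001374001136f8949c33a5294a4e018000252700294a000180084dca949c3c80004a4e040000800609829b8929382c,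
  nat_lit 0x51f210c52a500000012464c8c5acad23151980041194393c9b7d2a48234dba952050801700065052a480022460018000922001e000068a69f230846300010000000919400106b1514622e808226a04a8719008403964d300e852a1064595495045088a40d7c4aa965ea54104200252a00a1510ecd6c44786bc2550b2ec004b3a093812680002547002667400a00012420050001922092c00092a29910026000489a5450000449378146a25584aa894e0001000c951231acb22536000000280170b2000c0011220008000489a536000044894bacae252a4a50356b6055514aa2529a00008c494d129b0003001e94cc0ba5404a64268000253202094cc000000b1bac94c80b000b4a7a00352a00244000894d5299a5328c20001299002,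
  nat_lit 0xd335a909c655d50003c001255d46460f4c1f184015d89584001255c1741364ab9800d0000956c0d8000001402400507ac50661e912ad06c0004956408000009fe15940d074e588a1ec03d72838506c95692ac4010f40a0bd41aa5594aae1380002557020307d59b255a00020011418a5578101340000803000200108e60005000e0b14ed255500000008ab406d00040cd133f033566c46a3c3cba9d94aa8cac3cc255300400008e4903238e00012aaa56d4c7009c12a90820002000c60b2e6d2cdc58f8aaf11c7238d1a060a800200020010026035000000080080020094013d3bd0dac56be36a5598254f73ca9092a709a4a9e00ed2b326b44a9c6cd2b7a54d13400012a68100070958c1daa54f4a9a4cc000254d00621a844e8434000295841d9a54d8ceb328959a54f000200101a802e0008001800000030b20004004006,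
  nat_lit 0x30db818903109a5450d495b84888104ada2c800000f9384976541100fe000295b02b80014ad62a80001b8c0d9c1b3007e46b0dacc174001000454b4a9712b518b103657c85e10bc94ad20945e1a56813400012b4856000200143391a6903289e442d302a94acf1a856b02a90b480aa12b314f000619c080e86174acc35d2b32bfa57f618592b28c3000219b880e2bf94aca20d5fba5641d000012b2006000000040c69a620cd71a4001256300200000c4269668c7d7d9afb02d0e02b2852b130c00005cac3802ca04ac21080002561006000488811120dfc5ca50b2561000600140d6256006e457d2af8b20000957c0080000004983c0cea55f3b200012af80600020008e060eb54abee716b4a55e002000826e801,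
  nat_lit 0x25874afa0252c2a57d00600212be802000095f4048006000eacfc757257d0663abd2be0aa4afc95f00300024af8005762372e2ad878896510eb14af91b80008002567416788970eb14af708d64b36cb59403abd2bd0200002d1e42ccb72a3cfcbb052bd1fd00006ecce105924af400006b425791e83590602aa7b67b46ec82c8a5792ae08b0006000e021c95e06300064af0024000257801200052bd0880112c95e00c887a4aee2a8000257700400041250889513895dc1a087a4aec02532e882450e800252bb46d000095d401800750e4207c40eb04004200013ba2690aac7358d2508900000088c1123234bbe0008918004000234807e80002422231997286b4ade000000146c,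
  nat_lit 0x9638018b432c6c58f17af800d4b2096383b00024b1a0192c70000002a31db102c124b18000061000023e8b474eb11d685822962e26ad1d5a46d2a92c8258b06ad299a541be34b1e962826258c4b14004000258a00664ac4bf294c0002962830897c0000268000258a6948b4748f4097c5294478000258802000052c5000a001ed284dee258814c4b1d2c389a4b1000200058beb4b0e044c238239001096252c381f6a2831b400425884b0c190000a58500241188222c24187eca84cdd25858de00080a032a033729610210c364b060186db94f61b76713463400034b0708009e012f025408cc11900014b04bdd2c1258100c000011a15418ccaa68cfd80004b0012400032e33841694de005a3000495fc8680004afc04000005a1377ed228de48d3,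
  nat_lit 0x400125a24b4a0ac015727a60aac968421a7a84b4002400025a0000e713400193e0002968577f008c0114977c5b4c7601540aa415625a14b3c0d4001259d00200012ce8102abe9674000000238902f8000b50c6a907378e6e95604b391d400095b30a769e6815202a74b38251483a59b00c56c92cd8020b44000008340c681c5f4c0000b575ed23a263a25a0000229400800001485f40d9f901400089668009a59f001f1cd92699646534e0d994800054b2e1d12ca80012da00140000d26506e0c594680024b280012390aa31544ca28cd20001098964c000922000600009099a104d69a514b88012001e963c000259000051c40000009002600392c74704b2096380300004b1c0052c81212002400192c705b24da96380800004b1c040907800f4b2496412c704e,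
  nat_lit 0x4fde174c2fca5af000237000000020020008d5c3396356cce55b1492940bee96b63c8992132c6adc000800016c96ed2f88007000896b01b25ac4b5601964210a8672696ac00102c3562ce44d59a5aa000208400025aa2a800092f625eb010897a963f10a2672096a23c0000000c0412d425a7000097b004625ee01207bd2f48010000a969d2d3469000496980100004b4c04000025a74b5a002005083d307a29b12d325ac4b5600152d28374fe8969800080024b4a07d2d625a400200000038328064c75542f425a48ee96a12d20064b4c96900080004b4804000680064b4e96952d2035000097ac018308061497f800500044b4a968ce400004b4600d2d30004000c96952d18480000968c0800730dc06b5c00080020008968d1480044b4426800083254da608099d8156,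
  nat_lit 0x17031ed95c16b8049f3078f1564fad7d426630004970c7a00004b8400c00026612d062d885b22b402ec5a0000780004b826796710000012003000425c14b80000019916559c2c284dcf9ba30d3c00017780000d42158350a86453b22888003a5c0000a96f92deadf000096f000800055ee36cdab58db2742317d8cf1c4836880024000a5bb2a059a17caaf97000c0014000a5ba0f400000030094b7400054e88a1a4b720744b125b8006a73d4ea2a233252c8512dd25b88f600012db80200020009a091b403686311d2db8b855d496d80800015c3050082e125b605400002dd903280200012e3034416d00d192dabc60042006c002000327f44ffca00c7a4b680004e5835721ec02f92d980006ae4ab8461e0296ae217cc2fa05f50bf417ed40525bc4b64381300000d501296ed2d8c69002a96c059297f35780018001a5b006c96c12d7806,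
  nat_lit 0x1087a61f460a8dc2190b5f0ec19d896f04b5e52eba5d5500b5b9bbfad784bac97500280004ba800c00000025ae848e92ea0643554ce4800293ef4ba835c20ca76800064fb92e9883000097480113ec00009754e96b5ed6ee848d63fa5d20004018000041362e6ac4f66b63e14b800092e780001acb8109f913eb0002973a3f000162fcc63871091c65a5a46f136000015ee0098be318c312800012e580d000010040184095b50745139c00004b9697286b00004e6a40c1cd1b736bbe97292e49024b9497245525cb000a3dc47b325ca0b600012e501000063dbc7b70f6d57cc1380018000142463cd421b554b9000004200025abe7aedbb3375736a8971e3e91914b8c024000800217ee65ad2e302a239297140800014b8a008000000127dabea97d4968632da65a05fa47c,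
  nat_lit 0x5d58df6cf9937de66260010001c8500029e9cd6ab3ba3553210000049200612305648a28001097bd72925ec4f42e9ca1e2e50287c97ac210ba44bd401800002ec4d2ce1da0c9aa1000097a5832174290600005d1a69286eb92ca1d25e900001380000002002000854a8a97661c5e49830974160c097963ca9ed144aa7c12f280001b800052f30a7d24ac4ea851429ee53de9790a48a2b4bc626800025e300cb9145c9125314f4978c40841b4bc40256c500011fb250d92f10815c949784048e63000000c47018000004a1c8ad4125f5b2d20892508df2ffe00043424814bbc001187f80000d0639434430c56c5c61f8000000361fc3f400204451a2a11182248160006111156e8c0861b60bc70800044bb4000405e26304c5c970bfd08d9248800112ecc802ff6606c6e280024bb047c001a5d716400012eb903,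
  nat_lit 0x25fd01297f80008002000e97f43605984bf804000026013adad8b4eb9261b4bf84592ffa5fc00c00052fe010000297f0009bab714a7fd8e4d34c1000297f0df8bcb19ead30000025fb03600015b01c219a433415aeb6234bf48f12fd25f915400012fe103000897e800091bf23825fc52fcb394c30986402f806700028e002b006300ca019800002f00006e7c00991564006451a521bcf000497dc00025f6622430cddf9bc0000097d80d80006940024de634a163f800092fa8f4000097d001800063f46f2ccc086244ac643430b951e2a3ebc4d2fa25f34d600012f98105e225478ce1aff1175600112f991d000097c803000200a8014d30725f226201512f88a13566ce5800180074be207c5d625f00026aa400009a,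
  nat_lit 0x14652c20004262a6130ce9f853090e814dea8e931780005ab8678844a48600000004bc2a62d008e1200008893012c28cbc200404ec40018004a60f14e22d48a68dea001e98380e80034c1a00d42b800124417c8000121228e45286f3000b000017c6218003000439a46238beb55fea155de80014eb800456b8ad415aa000800200064c10a94195a608000600153038cb000a9818030002373cd1cda39084c09c0004dce884214d44acd0b00010004000c6ef1142228645108a2a6041d66e793018b21bb2ae7c6eda6030000124000a6052e86c17c6e08dda4c051f55cf26010120005300810000298040091d11b0c6f2db1c0d9660b898060426013ae8365582da6000f236493000100004d278de6047c046ee58000b49d379411e083ba7700a8987802aa5ff4bfc2bcde3b6334c3e97f92fe883,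
  nat_lit 0x262400400048910c5a17bcac581d22624914b6580012625000298906e1bc44c46005a5cb95b6fd27ced6cc80004c4722400026232060004001ac18583498848102d2216042c965fad90243498843b00005b14b63c90ca620380b61d3108001000400187b2262023ab04d30f80600041598907ad854c3e3bc00200064c46158930f845611a157d41d85614c3c3002b2261d002a0e930e8aa0f30c40c6e03086613c5df130ea9d0002000c2adb0894c383d0000000100400042acae8a4c8c01c8246261b678000530e9d97506a986c09a8334c342c800012492490b6e530d01924949868010151000c0020260261a0f212f130c806161c0ec536f00021ade41b9642a3707669e1536e80004d4ca6094be4880298000489a6a300004480ea26d94fc20008000014a90e00013501c2,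
  nat_lit 0x6f9da5e1be8695a0bfc57d80055e56bca5cf8afa000854ccb340fc1082e198823af2c0002294a9600001480bec57b80012a6054bd79548d000054c004af252a4c00040012aa9066000131a8560000b19d6330fcc1f7a54a579395252a492316332c651f905549319bf61f9cc1b07e315514c640117a326320000ae7d5d1089573c257c000800031544789318944000236a44ae924d249c0cc0002bd5004369c4ad86730cca4988790a62f3566414c9091a31ec098b81200024c5a00d90d19234c5a0000002835000662b98e118c7325064893164061eb8467cc8f32194c561843c5a62a0026d89a2234380ee098a839076d0ed66d543b7a6297e60001314001240047e800280044c50089314262700c47d08eb174f4c4e00089999136412c1b531300010c20001313154000047d48fe91ed2066be3c817174c4c4922c8fa11fb000698953120ef,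
  nat_lit 0x1c0f10c22cf13288000098000460c0c1e2b5cbe8064b8bf0167099403daad84c9e019329a64f00c9941327801538a0f815a826514c9e0b0ad48c191826994132704c000099380800044ca0717864a0c171822993904000300002693bb34da380a18d545700014c9a55d47980001d0992c000264c6a5ad4bd8fb98f631fe63f04fa64b38b2d4ac001264a06eb48889b1c5a6a5699281480044c92004001264902000013248104cec0205a9100005c904c606ddc8f261a99200001c536a4a07ce291151229e6fcc00580014c8e4a89852646004b8fcab59565002054d5cb841e0012040002a64f01200015b281058aa7c4dbe1ac46000854c4006a32588c0004528f9500004497b41c7d6a96bcd17972f2c00023e524700002a5a00240050afc79e0000012103,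
  nat_lit 0x1c103808002592463be480004001000047f02c961caa4500000b2591e63b18f618f731f0d5b132e8002000cee4cd199a425acd35d32e00000006e680011c9a6ad8d5a932d85200046078607b5694cb4904147a7711804300c6020c05303a000532d0eb392e3014c0e00004cb247c000290e206a43148480014e7a085410d2658672000532ca907303021dda485824cae000000186f0090000862102dc50f415f143ea6561a89c6d32a8e80026004400931183028a40d32aa2e0dcc99504d265c4ca800c0032654004995932a0060000995000a6550004000d32ca6540f2995932a010000099500480000002000d3c6a6540e2000000102f050780ae8152a65433e000132a00156bcc42800300024ca80d932a265300c00000018010006c41cbe20bc1564c2efd3c402ea4ca4c8948186f41674994800082c,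
  nat_lit 0xb1700042b6409e013d0e6e1740002676000cb5dc8c58c5f18acefd33a800523080e0933a011276e99cc59052c6bf8787133aa67367e1310f0e36da4ce899c82400004ce2004000117f06fc0d8d33893711a299c44d30b567425e480008d5557fc99c5c52bfc4ce026802f800400060018bc8a7f0002a1c03900d610e2d210000054800602240442c2a585656c97d3266d0ca99b4abd80565f4299b02da68c4cd6268000b1fc59400040388041000048840131fa593c001c0362692009699a64900404cd02a8006a6680069a653340ca000a002001802d000244d33d80002240010c7a2c97000210295bd267b00572453448000154001037e86fc0df625347dac991fc6000d48a86ff642c7c0000006,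
  nat_lit 0x2d34709a00009a38080259000e3055347a68e03e00013470060002002151889a54d1d2604d1a68d01230440020b2221444456992df724f0445560f80014ef925d60f000004a69de81288be0000303401000000029a29a0c1dcc4eee093d3bc025192c00013449b2f1d8a60189f0002625a81d106e332034729a1e4a89964d0c00c0041dc76d18d0513430481d849a1450aacf00065b457600022469a0c0008d215d8000090aba218da31b04ba00004d02f904b9ab9f573a00200048ae615d6ab293401b954262bb45752ac94cfe4bc574267e16447056d511c40000b72410adca0296052137a80005b52470e4a2da65b4825a8000267c17c000950600600009bc008048008fa7aad4a501414cf20001902b9400021ce80a0267892604f933b8b2,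
  nat_lit 0x29aa40081810304060c91180015ea89aa4fd2b2b244600017a9a6a804054d97a8800116da488a4fab2300024885b2000024254c8c1ca6a70000ac805b1c9e00040000508b60564ea7213518000172000000100154d4a007000d001b10129a8a4e8001000601a136226a20e20005350810000201995e6958d3670562d3508bc4d820194008001200420d4007801000201a00010d24d74000489a6bb0000449492000100c85a935c00001a24b7098704e85cf0000135bc9c4d60000452805a00002909832e786e1414e000126b700c29aba4da6b0000448935700032829abc0011230a66000402c16f00b000009085310a664f0db83b9316278004400100004d55268000800f002ca8a95de0c7f00a9265348025c0014002d3478c2,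
  nat_lit 0x100900047855a30a6d34d720cc025a6b81549ae4001028a052a9ae22da7bd4d6e00935c26b70041eb14d407ad00029adc578b2a561a1eb400026b648200014d21c204fa9ec143f93a04d6acb000026b40064e7943ea6b500009ad02400016106c210b7e2ed850f89ad08f27ac4d662c8a4ea6b31540000001001000016901cca8e40bb2f454eab24a3296a17421c04344d626180000b7f16f010c935804200009ac0018000086aa1645bb0b7d4ee10c59ec33da4d609abc4180004d5e0253578000000600085fd9a50004000d9d9389b1d386bb53574a037d87da9c1439d94254cf59356b7200000008df5b81a56fe6c80009bea3ecec5dd8b7984e4d58b6c74b26ab154d33cdf531d263a29aac7500004d540418e7b1d0699c0fcd355035,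
  nat_lit 0x35ea39ced6e405500ad00029b403700144da80034000a6cf20e00013e29c20014b4648330b504d9c07400026cd0062d38832106000069b340580004d980040010287090c12213660490000416c01105c20c000080e301c803a89b2c0381d94d943280e100012269da000011220b8b43c000026b04c816502c981c094600040000e84f709ee831006210c46ada4fc02b6e4d8d28882a2d8d3efeadb536292f00049b10048001176cacb002f00602ac00005da8006000a4fe52b2b693ef645f47c6a6c2482ac753608e820bab430136a9100004000c5d94a127ea0004001805900b61ad78a8000004000402babfd5bc247d81b8860f1f000015921c216822d145a000634d788f000026bb020018459f0b444f7e9aec0b00004d7400414800064d7a000135d025,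
  nat_lit 0x4001065617c6aa014a483bf78a000000180900021948a081ff02348cec000294c2061940a072dc207c423f14fd26e494e28e847d000100069b8c19acf636dcd15852e0a5911f000025300004dc6158001001255622889370ae90bd29b800088f154bca97d530a6e0000000083a00014dc0abf0479a6df1aecdb0412a6df0002a7844900004dc201800228e41cf04e5cd4108234dbb13411980020af00018003a6dd008018694918bb0464000547285760ae411411880000aec000c3ef8e50aea00083f0a9de67eeb5c93d79fd0ade15cc2ba80010fbac282380003000400042b999d4db000000328e012ecd1b5a393461000200012b80010c28a47001c26d594a9ba936a0065246a7a03ff00004daa1f5d36a2b00000175c0806794da8000536b07d653a49b4d1f80045a507fc169726d341a001013f2af10cee9b48a400013a34d7a958b028e94800014a1010,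
  nat_lit 0xe9d0701000c00219a2b1a94ec41b96033896743085a99a10001345c6a80048003282001c0011234e0000049100070000484d22b33b3488000c000a6fe8ca00014cd8064df8000cd1438f6428ce3e502394694df72a999f38f6408c51a137d0356a809be4508000663a158d1214620deaa65937c3410dea9bdc0086f23a68750077100030c2a12c139800600023ad0126a7cc1ecb74875b97994dea0008998eb42f32c48d37a0001090000137a15400069f6d56bb59a0cd419a433417964de52a46cf874e535c5f1cbcb31204de24ad378800004daa1141b204804d8a11849e2a901dc2659999319624de12a13eb8003664a6585377c9800080028004800750ca1140018009001629142a706000009db001996364d8c9b5b1ea6ec00002929c90a4914ea12918a4a6eb7eca54832c04a462909ba83bab054dd23a142f0000000228fc2a42b3,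
  nat_lit 0x26d04c40964000271736600001288094e2e000000195d14e2c1b000115e737d6d345a6934d44e2cdc8126a7151d00040008a71a0012b7b88eca7151b2230d38a09a00129c500180024e2e004c008009009c000538b000d0018300810800723860a3c4a3271226e0020008828f128a9c443489434e20008005800e4e24000139700754e5ea98185a834061c9c3c00084e59ae02e541a270e00000a4001800c53faa7ed4f987d150680c31386add555aaac04aa830050620c2d38604d01689c2c4d0e9b4e16041386a70b00c000146b80617ea11ec04100024e142d80022709002000139705600fe71b1c4d9479720e4be4002270800052ac9251d6e6c7e08c54f980024e0ef393e7824704a6622097b00024e0c9083e4a9ef53e2000138284900001f4c0492f440a0e4059a4a7041d40025381810,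
  nat_lit 0x1a7162c20b2494585cb6eb4e5813539600036dc4787539585b00009cac0800016dc0787185b309209c000940ab5321da8cb389ab272a252474d3948090002002c0069c934e521b0146272802000240059c93417e7a40f47a7287d600013938033d1add48f48000035a8dcc59df2370000a5158b85d20006000825e372e3cd46b4a5680003ce4795814b806452901764c49e723cd879382d427230267b50f6c20b25e309c884085d04e420256908f735a7a9c840008dc0000000800800204fe0a0875d113b3c643dc969da71f958452938f09a000243ac879a8024e3c06c13ca71d134000138e80300049c7800310f021d0e8d38f8000020bb149a0acbc11ce9c6c000000345c0008002825537709c6a300f914e32009641164b2c9e040087580014e32a0138ca71800c00013fc154,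
  nat_lit 0x29d00235048851f4aa7446588d1650000139f856b0cdcc4f8af00035280e14cb6ab0ca15209cf46e85784e7832800100040908119939e02c5360a6c823504654e761842b3a73a1420004234a9b0535c9ce8af000051e440c23f846152707db8fbb8bd24e721c000027380062f40fba1f71514e0e3d39d27380e800000060090014003539eb7e14e6e0900002736006df7d39d800300049cd830a9334e6a005445838f0722a2686adac9a6fba9ce40008bb0abad7d9b2b20983e3a9ce000044d0000001c0480004e66b7748a6273205400000010020004b7a08abade97268b7d48a52ddb4e632bd5c92730164000939937d820ee716da9fa730056b79569d0ed338aa9cbc388ed14e5c2a80000d575926355539706c1aa69cb80130c52d9e5b3986016ca6ddc9cbc001a72e95c00040000aa668469147020e016dc8787d396b75,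
  nat_lit 0x27e9225a073c001a75421a00013a9810000207344b332d1337c34c000a9a80cc29fad3a920d03989d440480004ea200400083270654197032d1c900000c918b83261590ad3c00280024ea29d3c3b00004e9e00c748814000029d413a782100029d3c03013e1d1e34a8695a7a54f4800113a780009669f7cac1b009601429bc001274e9649e9008a27a200049d34ab001600100018000a74c486000000190300080018009a9c201bc9ded3a5b3906de00005531ea318a00000872891105ca9396d0001000600454a7385f2a4c581453631ea9622370005000b4e9000042400004f34004085a79b1564acf85558aaa4e8e00153a305a00129d144d00020000328b210003554e001000025600020014aa34347536d10157b857e15489d09190005131415f4551a741036c260b501c7a2f4ac5040002aa39602350000002,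
  nat_lit 0x2000a9db1c1515ac316a0d3c1a107300020010002899551bc104000010920600080018e971d0eb508742a7685ae00053dd80128dcc7c0a3138383ee87d8d3b3a064f76e0d4fb99f624ecc0d8749276500cd1c1110b4694eca0000028efd1e0e6e79a448f0468d09d925b0001000a3898dc027630909d940050e375af49d8c57a7631c4c38e16bca762274b5dd3b08e800000008b6430c523e20a53b080061c68388d3b01241c3e9d7c0100034ebe00986100012445b080001216cd8d9a497800020000c3025a800125de12a15eb8bdc17bc5b2d7f80005dac7089761d900350c3493ad10d00069d64080000010c0400e101c54eb0000000101f00029d6000181ca4fd807213f581c54eaf2d186681a34fd407113ab0d30000b3dc0085c40b5e0720000275521200000e41c2,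
  nat_lit 0x10964f0a008001068b19d2bff8e95360f602216084a800104dc09b5859816212800003448ce729801800002dfd0046e75a400002000813cc27e068897236eda3980000006a57427c295941200053c038423efe6e35a480004efe7dfda3d1b9764200086e0001406a29df63828b04ef800985a169f2d3c1ff1a3b9f7c4ef8cf567e277b134000545628ae105e9dec112a804ef4018000277a0060030007034e5156a2a41482c2000650543300022460afc0009220550000068aa9f71ae80748082dc800080afd431cb8202a000c15f2862054c2f87460001282b51c000123202400053b8a7725a923a2a5b800100003a080890126a44259ca57298d4f8a00193b794d05700af13e200054edc204001a76d012b3ac6d6a8e207ce00001a0289d3f4a2780000e8,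
  nat_lit 0x37ef4d2dfb00050000000a2edca3800139c2440c882000a5b800040000aa220037b06f6b2d821aec0253ce4205d1a2a0c9930a81600e53353cdbd0000266c886ab0074f341e4343a79913400008690100dba1b68748182d2b1c72f53cc46f0006b890ac69cbc4f2e089ad1279600c48c4000006000045949b2882039b843e087ccba22cc9e5001800e00069e5000028fb02c0f61559889c556c099400127931b6ceb40000ca0002002000387db2332b929a3937c0000a15c01000100000944128278f07a000800207d904a209415b00010008024db0345468aa001000087d90fd08a00002a730fc8d661ae80410fa6000074000050a00971a2b1e2737ca6f98df387d4822a13c001278a5c0a9e240c80004f10041701a78800026d9da2902c5098096542728501c16000d3c390c36ca21c0b5d96b62d6a000d3c31f5,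
  nat_lit 0x380002285301a4ae40c6923591bfe011000580004f6404c000000900656c0e7127be004800013d927b166a00003568020d50000d3d8a7b34f6004c00200012269ec000011217a44cb978f00004f5c9ebe5f2f1d5e3c8531cff3b8c73e4e7c0fdda7ad97ab50d3d60b24f5a9eb0550000007237d5a569bc40c000013d688dd5a3e9eb0418000006e15969880020006c12d42501fb4f56f8ca8cb04a000400056971331f763ef13d500005a5a1206f68df21be02ff00008fbb4f523f4a8ba7a816407f0000913508a0000890bf85a5a9e9c0001e3c04f8a1c94224bc24a45d54baba7a500000580000b882232446d9e897cc2eb05d593d24bb170c9e9003000057d40095f427a40002d53ce32b2644f467f40d6a7a202064e496eaee5127a0000c10000562a550498b00e0d1e2ee53d011a,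
  nat_lit 0x29a2136c26e15b927c798226e13e300100064f509eaa8944f8c06c14727c513400015b71031366511c5e5913d3fdce2793e209b5f569f0c6500004f860400000001000605b00b40ad00009f100018a26542819c0cefb2fe4f85300000816a02ce7e2cfc681794f849b86058754572800053e104800029f045080014f8454518272c260ea4ae488f2c8421e66ab8aad27c07fa00013df8102ab06ab19d52e550002139613b04a2a209ef8000835000043ac00800400106fada671be9721cc128a8727bc97e0af53dd80669b20004529bf20000448fb9800100086f9da651bf197c000172600670720cc146483295b1e6fa13dbc07056c0128df434cb4f6c0b0000800237d6d3293da82937c69ed00080006992011c159a7b405a6fa1a63b4bd6976b50c00127b45ae00013d9810,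
  nat_lit 0x2a3e1472a6093f1000100049f819005fa542017d45a1b55f5acc9f7d858002572251cca3a35636abc9f7c8f2d644fbc2c8000851e002e9f893ef02d091a9f745529bb003000000050979000c9f756b80080036006800e27e02ac001c00d000c4fbad0495a13353fee80389fd02b10000a5856aa9615446ad6d5ae20b021ec43e0000a8af2fe0ae545c02be1f5043e400028ae63c000172f90312e4000c00082a90554de93eb000105460a8984495552e5ebe9453029e0b8ecf9d3ea8520542a2999f433e64fa830c17327d31d000008070025fc851a00000004215e0bac177972000400404e214585fbc2f8000800c3849f3c000000d138ad56195d999b4a800313e8000168069f389d34014f9a3a0d811ea43c060004001050b000a4b0001847c570c6f44de80fb000411ec4f7b4c3698a1802840002000811d93e54806718ce2823904704f923d423aa7c81640000282006,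
  nat_lit 0xe8a0065d74e5c9ab5678600042a829eb06001719e000000a9ea7aa528000114640cbd11197391200042a6cc553d6000452854e00002904d8ab8c1364000c29fb3c23564a7a662000253b8c5c0010006149c29315e48fb0002001425004a11ea80a429ba7ed00009fbd00686d4fdce35100a9e646e7014d53f641900309fac0100004fd600c0000a48148ca64005783f25032cd052427ea004b15c6198c3700049fa80680024fd202400027e962e000434a9c5038ace7e50a30f4e986000034b069e1324a9146786950d3a261c00200064fd09f994909151210a5bc000000b33a00180009414fcc000091a96c564e2418227ab6a00000008003800800093080002a32206a5bc006a8bd4fce9f850680064fc0024001a7e000c9f853f0006,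
  nat_lit 0xc00100075b46319c6340f09990a8c09b72f7c501e000430800000080040020e391c6e1de1559b7980ee44dc54069f70b24a0300300a900003299a61a372f2438e00008000000619400082765192158540502253fca0240328c81b662b6061600025014a0259a803e5010018000a809406230e44e589ca2b1e720000000400400109ba2f785eeea018098c2858c8000800016fb2dfaab06190588000000c0000a4357a8238c4732b3954ca5816308c2558c6000540181126e0a00804800350049a400080033b10d9bdb3382c147600005900016cdc6764ced19db16eab0a5cc6abcd98e0001b368829104e20cd62f8c211c27611b3591ba4356e979c73a7fd63e0004138a82100ea399c72825b0002000d3ff054604de9ff26328bc4ff6024000a7fc0a8ca7a02a5ab60000003804800e4ffe00715c327f9048000802e954,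
  nat_lit 0x40010002b71450480fd58a881e000200008c79bf769500ad77691ed126053885ca8a4e50473240002822006afcdb879e2e0002000121ab10562edcccf2b14495044a0848b8000504000800008f31dca157cf15b8f56ac0c018121447503ecb0000281e006511581102fd0004a078178000503a004000a81f5046298d40e82205f4c07d812391640ceb21940e8a70004a07001aae755d4002c00100000b6000940e885b564a3138006281b6a0298d5fa0a66503ca068260007503200400028190061a7cf2c373200023de5726a8191ceb8c80008a51eec000052372f3cac1a740002c724258710d71824a00001a758b80010000000d63f39e74256b1c12100010bbc17482e8a814234162540980626e6be0540a000157d2296d409c8857d2a048030a55001aa05540a00031b817800000ca,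
  nat_lit 0x22eda6850be005d128383ce000941c0010242049055a0ab1585ea0e800328380002bd4fe5b893711a7f04d28aed6506f32d41bb88234a0bb5541b1b3222ea0d44d0000506a041c3f9a4d000000096528350000bb44aa111126e4bdf4630a833184318541909a000000140080032a5454aca9a283103627254180066e9e79c5b95b7273c8aa0d8008a8300004d2dc92a063209ea4bc0032834505eb688662139426cb038003800f505c1d1417032e0008a0c941685b001ea0b04d0000505804019580010014000d416156000aa0ac00832b56ae764c60c0a69000200218f00040002505415000024600054140829106a20d958e000b0018dc6c0014ca2112628cd658a5e14c220a1413ca114c8cc40ea30826504c125414282600c7014dfd91930008a0983930a323e2bbc4001a8254ac0001412001,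
  nat_lit 0x140e2198433800600003000000002002000889bb41e6840d09918934116820a12991088550920180018d855ac0dd994248225de6a1204d000056a840c430085f5090000495b375e508e67c6c028460064adc0000e800000020f09b6fa44c8dbf9b7b09590e1b3380039e126dee28014220410000a10c0189fe6dea783c001a84318000014210015086c28d854153150840d968a2841134dbc800080025086001584fa84199a0c594200103c14dbbc4f933a33536cea54204cc0000a0fc0833a735346a5c18b83150000a0fc8700005268024a90b09a0006000941f0190000a0f40800000002547844d1b9108a000541e009612c547444b30d833d4566141e08500060010004112150761b0093a83a020000141d2690000a0e8001022a51bc089c6a926c,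
  nat_lit 0x19337114e231432286316800006900021a3a00080021fb13f7ce2314313cd0002312d66aa90604440cc0000d1a0043125669800b001c33f456d28609a2457d0b63a2615b0a17c208ad550bc00c234000553b008995a506000020820db7b53352fa02000028fb206081c105a9e253c01198000a9d363e118d4ef84650000117d8829d200025b422980002d8a76d6868cf40008000010fa9d108a534000105f6162217e041c0be000217d4587ac0d10020a40022854000017cd59602f0be62c34510ac0c58f80670001000350a733c00328521d0000146700603322c3c000800350a247c00228501640004001800219d4b1e036000050a040c000800059fe33986722cfd509cfac6738ac415802af8509086a56bca138000087000000100050868509a0fc001284d006000142680335f8d04d4268000140ed8ecea72a8,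
  nat_lit 0x113862ed820e911d2a6c34b45143c800061600081081d2e5a26a1e02508e511ceb44c66aa87705eb44143b0a150eea1d8009c0850f8a1e8006a876058001943c00090018a1d42415dd000450485f000124642f000012100000005bc21ea3191275f4fcb95d26b5657690080006f06de18f4f377d082de09bc29ea21954d310ddfa8707eaa1c4001a8743800a1bc16800050de00c00107b30f6ac758bf897f0640735400102012df06045912182250dc9ad43834ff771cee15dc0b23450daad558fa86c1d0a428917b4f337f0d3ed437286c200001143600060012a1ac6998f10014a1b4004286a0d6000c0050d28001a002c7d800200123155670291109023b000000950ce00000038c5318a231486960d5e11e33500028fc032964825a3e9b6e50cd34c001000069587225a53347b50cb3483dc000019400014328002100cace83e1ab1b6300001431802,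
  nat_lit 0x653631cd687800000080840000c7d00cb43c001a88c0012a22e6090420014002d446a88a09c6bac005800c5118a224308003511000400007534d239b944400010008a21c16000a510c004001288b65e266a99a29904510c528400a8850047b6cf6e37bd22100008001a88519200154420060000bcd02b10371a306b84000a88330e00054410a10000000400128830010001d443b3fb35bf36000000010004019144093462327189e1834f800ca00040004d7510263d0005000651000d9450287f00c000143f81031e2001c003288050fe0d4000287f00c000002e1add35aca1fc5b00000006004000158061ec017144d11a29bc899dcd200b719ba23cd43ecd6575ec8455d988df11dc23c543e3350002a1f466d88f150f6094478a87a134000d43d003,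
  nat_lit 0x4120095150004800c800e514a1b0005a8a40200000404269419ae6350643225000800d145925951720004528048000029001b003200026018c1b98386498011e6d002b000650545500022460074000922004e000090b21d7304000144d800900370bc0a41d2e2cae39f000c800851352e8000800c0016002144c84e14d82cd44c0201c513242453412ef12fc806d44c19e0002a26800b0022010851c00028995138007c00f27700062b345658acf6a12204144b271000cda8cede9db73b6c203944acd956d2a25001289500000196493a8643a0ea30eda8003000501c10aa08841044d7c52f12e751248c43f687ef04f6b15897292e7512317400095c614b84b9544808414baa23c0315c37004c4c4ade80155124a23c3b0000511e0404062b6300160001ae91fa33ab26e80bf81805f0000040028dc,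
  nat_lit 0x518aa2e003000000929a4f9238053e4eafd40090001516e1b8000a8b6134000145b800751720038208002000a07280ea91e603a2a2d58f9e6319d26ae8673a8b502cc7286759ab819cca2d030800151660046111f6e106e20d4b372a6f51668a5bc4378b2cdaa9b94590170a18a2c44d000019c2018d592b460e4800194584980004a2bc0480015160cf4ceec161e5a400014578ce53dfcdf7c1080020e401cb152ba8ad0cea4d00db01b91ee877559e828ad480000806380c33e027bec67128ac1ce1c6d4558060000a3b08180be0000a2ad45680065260a2a92f800111cc7cedc05b7df017ea3a66e0a2e58a2a2a8000a8a936400054540ca000022b04558a2d5150774471381219963da80d80000515136c00001ac01206b034d86a40000a29c050000570655041537043c200001453101,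
  nat_lit 0x4a7f4c9022b16e0adc0553993d0008a7697b390be519eb48f6c0c355ed442f546714f0790a334008000519c0fbd50583ea4de00095063a464654ef61be128cc680a75485b8c313da8a32d05000300120fa41f528cb05e0fb54650a10010000001afdd519200014650b7e0d6a324a1f02e405caa6ac93c28c83ec207d09d39fe73f084d093c28c7812b9ed4630e800022078412081b101834c000081d1042207d6e3029103620ac0008b7851893781ef28c30046f31a710b750002001102c88286f80008e96361b6b18b56c0b00013a56728c5b7acf92847488e908aa50072a3026eb6163a5a2a8c01c28bf66ca34545f002000006f80189a6586a268c00600090002a2f43b28bd517801800009060032002145f01b6e1cf36db85875a6e2278a545da7a00007895b881e285174b709ea98f465be0104025802051747e800080490094007d45c820,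
  nat_lit 0x7048e085c080065477000051cc940000001d012000c00080025f62a39404311b19c20ddc18c800904d0a3967128e5534609c413a28e402ec16547189a0000a3a401308d5366000870393b7276aa3896b800551c204000428e1006000014d2690554a6d415680035bf84ec8701a8304d20980000030f06165bf82b9c5d062000014cd026804bf3849d730445bf200054e703115396900000029d0200c59711a8db000037e816000107e80fd81fc2e285c44a369ab13506004b88871f28d90d60f10000a8d90000b7cc242df41bf63b147642e790000a36143800051b040c00100050016df4519c37ce575d3805d0ba2642c455a01f683c051ac11d68f0ba8174c7f441f583c551ab37c000317f07d60ef946a0c200000f9c082a0954100f8c5a628d40006a34d20000351a42680008002000aa80198a0d3000000054692f6c5ede50800028d12180bda57b410bd60e851794684c7,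
  nat_lit 0x19f19a495ce2a3e547c0660002a3e000aec35fde48657f388390004a3e2168e9517ba20e800028f7202000041c1c257b4004c00a28ff51ec6f0003a8f5020000147a809000800184f9ac8351ea3a84f328f41540000001006000627bc22e845851e6ba422b28f200269019ef237967b4c97163fa8f26b8a3d80058009106aa3c42709ea51e02840050001242a3c800192257a8000947797700100004528008000029041b3a745478108020f000151d6a3ba71b6681728188030f2bc90004000c8a841d12e84694411800109caf200000010000a3ad94c32a331146e097e791a31042460001a8e600ca3a14730010000a39801b29f6528a39c00028e60900001474000351e22da9949a8e66320001473010,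
  nat_lit 0x65afe24fc6fb061f565c186d596a90d0fc000c0010aa0000bb80030f4625b84b9497212df5cde07a948580029d05400a810003000807954d4a90a4b2cff1a02174c069a0d3c0f42909864a6900f101e3534ea4203c81e5520e018dcea9080002dee90b7035b520efe94d1a906154499cdd81758000600019f8000000800400231c82b5cefa119b934a2690c3f14824e76968a40c03000064d2158935126844aa5e50d292b910e46a4080004e60002a40d4828a2e5202089653290000c000148000357261c8038f29025200084000290002070915d3075b00001c7838e290040c1c955c580000ea6ae8c0787520ea031c993a0e9a0000ae289507220e4a000547f0000052b9c074e8e9e34a0cfa800328fe0008a3f6728000000600400080820e4c1c90391ce40000a4a00829280106b00443d985f0002a3e895985f64e8617800028f902e0000c381c2,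
  nat_lit 0xa491491006552807b54e18002524600214912501ec43d8477b8ac60008a48d490c32000ea4804d000003d2040c8c332c322e2b080008003523e11c0008ac00b7e16f813c827604eb1740002cf70042af82de8477523ea474be000052380240000001568e190d48e01d0000ad183222b4c58a811d548e3540c72ad180012b615238090000291b006ad7c00006385236001830ab430c6c0004e25355f3892ada0400023000244d491800022418cc31aa9170000a47c526292300433a800c291d622a544400014f000000040080010c5218b8d5706470c7218dc31929149d20034004a917566ea450d986245226269b099d0d6c120b1430b18f50000c8000033090ac63d000500055226a445a088350e3e000400129100c8acc54878a15afeb6080048002521e16d487a90e00c0000003001,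
  nat_lit 0x3a987540ec6b1684798e769d82158003a9370010a4d11c0002526a0010003a93305ea64949900100005fa0e129320004000c42929310e200000020005000e2814160002021ccfcda2433f73408a4c21f0000583e8625d24380567eaa4bca5085701f0a610081010b0000a4bc8f0000525e40c00000021044c63d1703b985c7849c00089ff599228054c601105314a625496cbf06b40d6c5b32b6d000200114968d9537ea4b00306690010001c002292c7b8386d71f39e40004a4ac1a8e1e73c48458000a92a042a4a94948010000a4a82b000200080020a34afee2282bfb54dca9284e4446c88c2fec5370a49c1a89f7597e27d54dba9260520004002b3c84220a4997886680cd2ad8d49700075250a498c58002524a0197e5910f524a000400182c5fce518800080000004130000a92555ba09f4947827a5f8cbf21491ceb339ca48850800052440040000009000cab69491026,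
  nat_lit 0x529400081f1a94803200014a4002381cd4a54daa949529003400029492060000000801652a00078099294727aa520e0d191307bca51cd98000529840c001800220da7c79c039970528c241542a945154be98000000200140ed849000100120edc2050d7e20ecbe9e078000528c70800303b20c8887394a10ea0004a504080000328a158f1317cf05f800054a02ca439419015340001527e1c8000009b2060eac00000035dec3ce878aa93e38600015330060756a9a01d88b5e5ab4a964002a93e527b3b447903800008a4f549e33f0fdc0e04001293c5276165bdab9aa7b2a7bd81c000015276a14e10b5425d1023c41be80015274e9c000037d384a94d6aa0b575d78a4e4718000527000d75d0b555aa2a94800004800000db400800e001aa4ed49ba93630a000149a806,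
  nat_lit 0x77f62eb448522ad1116cc00043da295d0f432b004a07b25840a5706107b60f62024c655000007ab5e00008b2546e67a17090ca8000200081444ef00000009519afa65aee074000aa325f46b8486548ca85c1e82400002840120014000346a35a4a55815000300043497d5000114a416c0000a468cc6b38d71b47f208cbe997d390510004000277000120a0417082dafa703a00015150025f38bea97d5b01422aea5454a80620000a540031154535000154a8a9501eaa5494a80020000040c048101037e0400001a94f21a00014a7010000203f80e181bf71ba0b14d080e2000200114a685401f627a00008003529830c070800000600002cd38264a3e9489ee0b7ef22a167d59605963e68a528088000529202400000015296d4b94a48240000a528cc01f273e50e059c0b8b8,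
  nat_lit 0xad38001941569c000891859e00024882cf0000242cfa5234b3e452ea00042ce4f300001674032b590c54325904684bc67c4a5cd2eaf630002000ccf1a97205ecf7d4b88a100003eb40100080012cfd0d031a7a3582a5c2791abd48c4f438d60a96f37868714b70aa21964339cb2000352dc00200074f100001ec8818000000867dd9fdbab667fe68190d80010f481ec904607b003600003ceb170f4027743c907d6000e00094b4c235ea8b0bc004000252d032d4b4296700c0000002954000e3bd177207f752cc0955610000134a9802182bab550a0db800007b35e01f3800000200000008002100d630040448178f9b0fa13c000080031f0c331d54015e0000a58881800406dc0da9c679fea6ba4a5806e87f552be00c000b75f2ae655c48043be,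
  nat_lit 0xf40b1043d1800053241240002c410123e84bf117df000aa6440c8000532004000197dd66285f881670fb41b8000c000800604b21ead62307a9588b3dc6c38d7e41b800080002430008095c12c20df531abc598717da21c483794c6004735aa62c7400030b5a66bccd819b133645f61986298b9eccc2d4c50000055e0ab015382a83e8094812a17d66614a6247782af531400082a6ab4056b8a625b505a9335416a02d32988478ad714c3810567c15502a9854f00020d561d079f04a0a6180008350000001800800668f0cfc8cf982500f3cb0e412729849eae39cfff87f90f441e70126a9830ca0aa14c109a34188af8e70842800007fb5c6a10f71a8000179084290850bf5790000c001ea600000054672d0e358ff6a7267e691d19f7b3ee52fe308cf7a97e134001c0028b9d0006e8686e2d9316eeb6a80013a190c2000045181071aae34c2a099f000042e6c5bacf47430f52de903d1c67dc00045ccc89,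
  nat_lit 0x8c58bbce7676ecdd4d6a9a66fc0000e1c355c06e0b8b06348c6855cd5701b883730002a694731975115289c14d2a9a41ea00002e285c45c3c0dec1be2ab90dc4de14d1802000037802b12ee3e7cabf957ea9a259411314d08a155f600004d0001051aaff05ca8b9b079aabec9480013e1c5868857299f03242954cf0103e1a7c2800035726b0271894cf0fe389000054cf028f54e6c28e2380000004a67d4d006d0000bb64818eae04fea9a9535a99b11400214cd0091132a66801800654d40a201432df05a40015534828e04ee09a15a2e1c54e20aa40001fb6713c7ee954389a0000001400300090c000005760025aec2bb08a3800000043694ca0000050609f16d90d591aad2201412a66532ca6514c98830000a64c0480010004132c268a9930e200014ca1030000132426716066fc67be14c919f,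
  nat_lit 0x8c0a9bb0002bd4c5152d4416285800002f540ac3d78a7c14f729ecd6508c111812300a6e67d085d610046008bfa9b830400094db8013740d4b9271bd6167c200114dbc08745491b9e8eb2a00bb200094db280678092b19ef8002536a1e54daa9b400c00002eb95467b892a4ddd23da70787d514da000053672b94da00020006e0e94d98795368a6cc0800005c6c7080001f4f706c6aa54d906c3e9ce0d400029b5572e1764633c45000aa6c4000349769321b5a4a8000012000088230421c2c23540ea9b0535c00800029ae02000040012bdc0ce819d82700040bae129487fa9ad172000460c04a521fca6b0cf0000123615860b091b229048d9d9e93840ba2a6ac0004f9000231c02e72b8c53540895c629a900c00014d48030002001c2e605cb18da0a54d40000535489d54d78245352c14448eada816aa004d4d3cf8,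
  nat_lit 0x1840000012000424304830902ab2c0e80005c5c40d71480020006a7400028aaf539c4f40008484090011f951581900001c0481848208fc0308894bba860caa731e68000539600d831a2e5773cab4000129cc53963654e629cb0020001565006000000085568aa753942d80002ac92a80c59b059cec179e002400280030004a7267e0aad15621b7837706f00000a7202380005846024000000253902f2c0e63a50002a71c5e88709585e1c183824fb0000000c0480031792d819b0429c419e0004001b01f603042985f0000000442c180e90ad0baa70d05701c7178aa708922de953823a0850a9c1004000000b00370947d914e200000782446182a280076e0ed56208000000612000007440ac1d103ad000c5380a6f5ee0f6200060014004a9bc06a002d4dd801,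
  nat_lit 0x2000cf27374d53ce3d06e129e61940000001802000646fccf495623cf44c314f28fe6e8e79308ffb0d353c843589c29e30200004001000358dc225d676889a617aa78c5d91bc53c402400000010ec66b6d4f10f400001d88de2957a63e855e54f136a58d4224c44a000053c41980002ced002a788000b4ba3c54a78442084853c0018d62000016400041d8057a631e152e80000056060081d685740002b395dff9a9153ba898041a9dc00600000bf80302f8000c0012b543ac68d0567135500001290003387611a2127d5a7cff000e002018a8fb953b20342500415091ebe714ec12f54a6a75c5914ce08dcace4000800303e00000008560002000c188047908ea11d0a64846d566f3f80000002061e3ec87d6cfd00001270aa2b496c12ab3418529d202e0c294e889a,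
  nat_lit 0x847a1abc696a6b8ce0329fc690000dc8ebebf4abc9575ac8a9fb22c00016928060b90172d5ea13ac62e0c108855a9fa00014094fd0003000ec1014fc8792154a7e04d000053f00400000004214c331466382c0006c0f0853a02e722afaf5c8c868d53ef40407929f600400014fb00300004288660ae9479208f5d7518760000a7d401000053ec05cc0ba10a084800094fb30d30030a7d00c8307000032800029f461a2c34803faa1c061a1e800029f2004a99d7eeafdb009aa7c80680041aa0e8706a60d4e2ac000c6a7ba2542a285493b816a6a9c6ed400180012aca98d7edb5500004000121814654a8050000229ee3b221884bc2d3f0006a7b59b29ed53d8008001000853dec3244530450002001c00591c754000bcf2937511b8ed5294f513700080008001b54953d3378000329b1256e3694f6871653424a86f7a13a742885854f4070,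
  nat_lit 0x3d825699de5aa10541c0d40002a0e00621444281dea3d7c5691de4aa0e6aab24550689a000019680495a06f625689de32a0c382c5d95058aa00002f785ee9c550d46724cfbb5ba680e1f903ee2a0b54141d800080020fb8b30d50502c0008a8303ee2cc254121300002cc25416000d5048085982a828000014f54e64975504d0454e6a9d55072a0b00000d40000003002000c3fbacd747208e35660acbf0faea81def015e540c2686e02ccf0fe4a8180000dc0002a8203cc9b1136081fb966587f1540a0c83f7aa04134000d5020060000a818e10001000400c8018aa031c6a84d50100300026be0d7ca2006b201e4d5015030060a80404b4e50002053d5352a0102c051c00194154ce0008918143000244c0a180001486bb94fe8000000617300a0a3e,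
  nat_lit 0x12095130b23d26de61a92b5236a42116c00091d3654d48022d0000544a1740002b8800c1175a77800a00167539542aa2312204e95110090000ab040186ee0dda1bc563a800168fc6988c1ac750000698c001326505e698800115b735dc3f74498946c0e08b1d1cc9a61000256d9a749af305e00004ab9030000000cd59205a728a8189a3d870000256ccaa1a4268be26704c88973220ea8684a0001000625c88832a195b8c24150c006000000100050fb9776c6b9cd73254000600244aeb07c542e0696b62a16164000400404d209a654cc698000000e13400328067052001d50a009542aa8505514592abcc81c0168029123600043b002600502468000320928e00017e00565f6e0000001230c6416c8259039f10000ae5c8184c800bac1f1ce739cd3d9aa842793bcc461656a0f61aa0f1d40001507010,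
  nat_lit 0xa8f551e09a0000a8f8818003000a5cc47ea1cf76c44a8f19cb2ed2e0288b0f5e80011a6b051d7abaf73d7800012180000002004000b3131346e548afdb27258b21a3951ccf50dce00100028076547209403b2a381340009642001000000598b9ea93d58a989530aa3600001bd91b86f5590800040262a3517201ed51a002008a010c02200026620cc3cb902a6000007f134846508d0ab600008042007c00fe4401f100002a841a8000546000080038fb00002104010841417282fd517aa2e07200015179030004d235a51be144ad2e6b15168dd6cbcedd1ec715b503da0009516a505f8a3ebc969820503da000951612c001ac6680f58000545612400001e938407ad93cab9f0008a8a8208000545200c0012b9d2cc2c9d895fa7708ce11a423b2b950902ae64241ab9b5450ca15c7847a0904ae6951392f,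
  nat_lit 0x258000009a237c822dcbe396e62fe00084ae9f1000225644ac208262fc1c40000959206255c4ab0001557a4b098be92c0436000155d8030000a938000825372d01215268000561e094d58901705578aaec0b4d0704a281f925ebd72723ca93552641d0000a93008391c49747264000000331dabc1e6b000454a08d5de0ca35528ea92800098e931cc5bbc22aa49000063a97822f0309063a5b0f1ceb6c3e73b400280070016a920ff0683000400180052a4725e00295230b23890000c00003c2078052b488ad0602300000080001388a2da45b82aa10228d08ca580006bc440ce218b6716de000552100d5484a904048000263ac6b498d8a583c1a782e82931d3b9cdbbd520aa40068000152090300000008d639a3034347ee551faea000046fd88111c2547e1088dfb56436e000055203c09547e324d602a3e1340001ab080376ec8ab5dbc9bb5780a8d1151e8d9,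
  nat_lit 0x2b22000229411880002247d480000002699ed36959048d0000d1b48194f054d200040022a68072ac7d53380900027ec0fe038a854ce774535aa6600ce259c4a9fa31ec23f14000aa6646208c01170a5a1810e724000aa6566a00007e09c241c0e720001800554c80a97522a63154c3d88b8116f61e4000506e8c176f830500019411828000891aea1000248860b000024245a08b180050002000974fd0866045588aaf955531fc711552e8f600040018e22b5de54b806c6062a5b134000152e3170004a970131397972f8b72152d4231392a9640300000004a96c006aac703a000552d000e5e2ed0c8c7c2a581fc70f9aec98f6685ca95c0c800b54ae0240052b1904be09881411470012ac6012e026404d208496280020008257c000817,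
  nat_lit 0x3a148bf117b8b360cf00001541058000019d8e113e72dcccbf40012a810d800015400100000cbed980ad200fa01380002a7f0120004002117a620e19ce85000054fe40c00111782124d29ce7f365954fa374000051b0a327d1828b91a5d7230789a78c3f0054000553e10e62280090014800054f62100000027384aa1004280080004a9e91e000054f204000000065534e69105c0fb000ca9e00480a303e6f1515460002a1200001ff01064a2f0f51bc00800002000c026229552eaa580000002009605c000007c004aa4dcceb99f49def698e66aa730c4aa151c63c4d4712a9c89a003254e23280002a74716a7f35bf105e55e013b00002a700201b88044000000020020a7caa72480000437006df0dc2021c8f80073570d3783652a6e08ad0e953680170a67d8dc2d000114da29c5704280,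
  nat_lit 0x11f02410004aa64002325000401bdb2a0bdb17c60b0000806e396e01c955a9420000c474e1006c396ad949b451b8c371c00100002a9535200000008090002b7100bf225b55280cc0009b8b126824a154a069124caa4c01000055260180002c040940b0196039b833712adc9c48011001e00115490c00004aa440086596b48b1bc300230a77b2aa451700655552003d5499d1c4614aa422eaa9026c68c21debaa8f184c53000380093e5e4bf9904aa8fa1a4d815470aa0e04000c0086f25caeb9700002f64042bd8c0002db9079cde3858f0b1a1630b97286091e0002000c03587001b1e363685ad9162920000001006a76a00018a390300060011907166665c428495443e700d001b00373380550e1c4508aa8615400018a08011f0c488402e2a9c000230802d000013400015420003643610c802d2a9a6320001541010,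
  nat_lit 0x8df7b5df01f4aab824024a555a284000051a3846fb1af02aaf0000aab0198000000c0040020647593e34c955588417f0bb6400001035f50f6597cf0e755f2041189eaaf600002fd85f750f6cda000c001000601f00d5da8227d769aaac5558001a55508c8321ad5d0b4810f012bb136554e0ec0010019555c006155301b0108aa944d2b605b00ad7411f80ed37c0aa96872aae003aaa980009be16baaaa91deaaed55462682862c3b0a20000c000a43000a0010001b5ca55440000002b0b0008efd1dfc232c55420980009bd246468cad5504605870aa7c741bd037426e80dcf9b9e0028005954f800010eaa7c00200080030aa783caaa7553a0180002a9d0200004002aaa4554600345f000200020095c932a9c3b2000800faaa6724aaa6d9b0022003c000554d8000184c5319ba33732f0c47c00002a9a1bc0000008802553caa740002b4e569808e954c89b,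
  nat_lit 0x22ac4539e509149558a5585243c9f47b845215622436228ab0c50800100240b4956300093920001563317001e236956380155a184549560d120004c44c8a5915055800948a3aabf00cb428dadb56c184a308ca29aabfa2245088f20ba415ac2b4593f2abe0caaaf83650c2128a2aaf42d91c955782680000003004000c16702d305aeae943632abba200aa155d01000004b6d6d908b9681e62419a31f425b4b6c445d02c65572260163aab8164002955d08cd000400012182c0616605004e780005e200016da10311920004001863d0c7418ed55aca7057e0b0816282cc55681c56d82ab50004d09dccc20ae5568fe87b09ddc3bb4dbe55598196dd4aac85506c90d94ddb8f27800108a1c3d67ab7703c9c0000a78000556255000000035b2822404512e185b562309557cbf00040948f28376b555e3bc0022ab337dc03ed557933,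
  nat_lit 0xaada000aaef016482cb5a3e1c8156c51407e8ab5c03000055ae019b4eb6a75772000956bc930000ab58048000576e7420e80aad68c0ab6156b0060000ab5800800005860b055da2ad6092000156b0030000000815e82bf058212156b001105a60b1156ab365d32ab50742ad755a80080002bfa4d20ea95fc03a60a7c090400000014760005569800d0022ae00040000000a40c003aad25756326864e20af55a113011d0d40414a82a5567a0a1a7cab38652ebf1704e57c00080040587c41caca0760000000c10800066bcd0b0b951eab72b081d50e1745576e0b255d72acb1b8005d5da82c7575aab2990800255920055ba80001540aa95640000000200141600000006b9650870c9a0556ab1e8980005750018160ad5441ec4525563187,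
  nat_lit 0x16afaaf300c000557a0253000cabd5a4800055e60d557d30d885680008208841668fcabc43b895655e00090ca0a5e0b5e0004001024f55e08c81a82aef00c00040f12cde0b60b2e59f824b5f4036095c1aaee35c078557680956fe07780f00012002253cc08181167f8001161cbb2908353c400d0001168e148028f00c2ff2000400caaef002e2f85a300001d0005d576800a67f05fc4bf7b3f563e00380048ca31fcf005704000417f0bc0c4dc16005740ae415f2e01000218dc31b2a8000018e00106322328187800112945c08246e8b06190002c784948928e566186000012925c04248030b1df251e000400281d303a2b33037800255c2daa0e8b9a045a400055701d0b24f4c7690b20df55ba0000003aae01caab78e849279639cc73493f17ea41bcab728a8004080264dda5520e3738eab6c6601cf55b40085bb200671fa0ff8001000100061d81ff80010000000956d99d,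
  nat_lit 0x1a3c0002561826f5585af16f0a62b4000800758b01c970e0003244000c0010d1123e000452891f0000290c541e63360a6c1cf3e2c55000400028cae1700002c8000acf70a7414e048e8cf000010608185390a784f4527f2e695ca8ac099c8000560200d72909ce18622670001000156030c8d102b0000c00055808b442b8c68849f0000000440c0018b44360c6c0cd829a3455fc4f57472afd19400015d0020f23547bb479992fba300024001000501a6abf01aaed655f6004000000400c001810402060402ea6d0da80d45670abe96fba9d7536034d59baaf902cc30c84a80d1566cabe02c80cc55ee004001aaf90f34ad1408486ce55eea3c32e045e58b61b3957b33f3f981b3d68d86cd55ea1841012af4002000157a0036eca7938f2800020008024957a517,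
  nat_lit 0x1695ce725072328a4ac8de5e2295830468ac7c068e96563c2c80000003564200215c91a50004ac815913ae475c287b158e8b827cc8dd1e20957f56381c4117ab1b154000958f36a56d50ac6c0c8000563600c0002b1c6d4626d1736ae715ce0cf40002b1a004000400236aa43ba8868e5a36a46d42ac6879800002fc02400136a87584885958c8cf1e98000055000102eeb6dded53da57b46f034dbb6a5757edc04e5a2b17000205e28681755b6a93b8d4cab167980004001b6fd3964ac568e9a9856282c80002b7f002253c4ab0955646ab8ac00618b96f22ac4e2b8cbf3b9032f800134846f20ac48d0b3a732a6d324ca200050008001c26b4810002294c5b000014864f4001000100080014c5ad1c0000ac3caa00020006d1f0003000c58ba108c20fab0da36107558609a5cbe1804301860518acd509aa01a0e561946800018b16a7e6835585831,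
  nat_lit 0x2ea6cf48bae21db439c5d8959c80000a52e7d66aa4e37e30d02959c17c1796eb090e61760566e69d9ed2b361640000002006000ace612e3188b566ad05d590b033116d1c959a03503ac075cc45b47156660a4b72ab32002000c245b3932dc6acc82505f42dbe5b819c8ab310d65b955980a100203419c9a800156601915982b2f0020000002806000e36ed1a2a2dc565c2d98718b2345b8eed959682c164a2c8d16e3bb556581306da2fec56580005c9782c1fe836e00018000725c085c968cfe0010acac17502eb05e80bc9595520574cb03c17982f156528e1b4481a5581e0bc159402f1b64ac9c508a8c000244d76400002244135947b28c00002001eb932e15d8f47c2ac05565b80000c00100c2ade15756de8002000202c00010490024e300008002789c4fb416dab21a3cb009590002,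
  nat_lit 0x1adeaeff157200115a88b60776b1d9d66800256a00d50f03acb43c400055a7821569ead38008000156c01855a006b000a00195a6823439ab4bc004ab4e569860830c8616000ead355a5a5600026a15ad31ebd4108b900001a84350a6d35230a5656c6018002fad550b3000095a4a7100c64d88308800356907f15a42b470040008307159f0b1ab3f47d80010c1acd402c432d41ca00003058095a4abc684892e43121ead155a21f60000ad1008021c000200000023c5509c0009c1285300432ad0c65abe256840180032eba5d6e1329e1323535684820f8238253e16e0a47c70f915682455e12ab4000c000966e2cdd0a56e0815a0e89567e00041082bdb0c2000166c80959b2b3682948bd2000c001c7448e87567b48407c2b3c1d0000d66ca4e7747e5978e3484c66b000004f681026907bf9938932f00005d519e89ef,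
  nat_lit 0x2000c005ab6c358a6b10dca9b94380017d73a092d1b8e2e40001000a00167e800080090014d7716648410000ada88180000008177169785d9173cbd3cf380012f0e31857bb2b6838000005d2010680c7f387fa8ff817d07e795b252400042fa05f39f9d56c6125c58ab62134bf75e40a3ac00260040d5e2b626eabd885f80bee38c00034d5d2b61a460008009000e3574ad80111aba56be018003816c6e8add0ca058c0c56be9655b3823d0aa8592c62baf6c56bc195617800019400006bdb0037cdc5718ae4b75c128cb286c28d8138b2ad70453b370b066ad80022b5ba3a00095ad0090000059001016205b0152d67f023556c0ad644000016b8c000c003ab580106aac0009416b86000091b6617f6e9c31b3800020000d70dae1522000000100300060028f1ac00d2b5416c71ac7d38faa56b4ad4c1aa369787a8da95acab52098004d5a8801,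
  nat_lit 0x858ae0003000009d61583f295bc31f400115bfcc1144ed3f4c8fab8056fc1380002b7d0020004c7b98f837f8adf42934fa3236000c000800369f6adf637073156f80180002b7d0006adf4000277000200140c192f656f620c7f1ab7a004aded5bd00600004fd06cc800356f4468801b5c70f0eb10c155800156f28a562002a305424fc06cb800156f01e800030200123658001800225daaddc0e8b4156ec00d938800000400049f3b2ea167e4ba809800027d002489f113b227400095b9ad400001f0c01b448689cb9b42f7ad40000244dcccad4100000058b3094f56e00000002525000617bc38709615d1025415b7bae1284adb80100000008040007800a001617902f2ad3956daa9569cab6c00cd86c000002,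
  nat_lit 0x100c0004ad8220f441812f001e9c411c4c3bcd5fb5f63588d7e8000ab95a4ce1c800280030002ae50c10000000200800080033ea8e1e0fad3671572623cd64b5fa40f2e5e40088009572624000108120ac6ae555c90710012ae445500005c2240c40785605c2e8f214093c9a57201c00012b8f00600000fe0566cf04018412881e571c3b84112e19104620795c6a430932ae30508000000601800285145d7216f95c5b412ca01565703855857140a56a82b89142000c981b2896518ae26609c5603ec07dc0fd2b88058739db6e81f803f2ae1c32385a570c0040002066384e8a10a016610006ae149a0000570800c000965f7450c6048a8021000610942018402080c10295c194a678a596c2e19a9f57041a5696856a58640969276bdb057049019e233d849d8f6bd5c08c2,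
  nat_lit 0xaf08011c401f2015491660a540424aeae948000575400c001000432b200015d50616d2a71ece3e369b0000000ccac28700020840109b69e39042b41060a41041464c95d40af041a08481fd9931574e30da8caba6004000033f002000600040010047266a408d5d28ab0ed8ae90550002042208403bf063f5b1cae902f2bbb57462a8000067701219d033aa4864a30ae8a369849574200c0012ba102000008a180640c40e40120819d57408a9071aba0000600155cf82c033cae780080c0000000c000b56e6ade67d8cfdb58768ce4b0000ac337be494c4be720e457391d4cf8ab9b004065800000600008088ace314b046ab0f411d5280000ae6401800105e00bb017420cb738280829380013888393ce4d2b981ae22615cb8e8,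
  nat_lit 0x400159aa0c22181ae8d9871f02578400040018c20000af08e100010cb074a9b961d2d705aaf01b7382e577e00832a800000c0001802865e0cb8b6b96d68656a5632f1e74a4171968aef4ab00020008f3a4659abbc7e60008004361735b8765c228001000e3978004abbf0900011bd8146828c0aee97880046c2acd84a2fabb99bc44615dc0e85ffa195d5ee006d5dce26855dc4e2577038ec71c8e38576e0d984a2bb600c0000d6a8021cac0004007800e38a0390d5daadb1334aed0082bb500007630d688e55a54ddf9deda2f1271a2260000800069c0005b51b69a112aaec94fae6357622855daabb1002c23871e1c49000eaec4228f961f2e711c0032bb00d600095d78010000aef00836997142da74e40000632c0aeba530003575e0014cafabad092d5015d609a,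
  nat_lit 0x4af60048001671a78f0e3f8e6572c00019c637d96184399410949167120000001abd60ce00015f000200ce6b7303352dcba5800715ef1f1e27baaf541ebd0b000200119942bd4062cc915e98b20000000d7dd00ef227ecdfc89ec2300082e004a8070557a4060002800e633629c15e8d1d14dcaf4059000057a2af4c00416c10fa00080063b6476c655059e92bcf12a54f1d3b953d2a84af3996153d579a00d5e82bcd002af395e68060002257576caed7115006c00004f862eb4a823c847844ea00155e62bcb3905ae4f9800045796af28e000f601f200115e5abca0588c31ddc00055794af241493bb6fe8795cf2f3bb70008af2580af4714d4b1f963d80f60002af211babc8578e018000b79a002b555ade2e4c0004001cf94abc654a32fc00200063e50af143cadb4000400400180060cbab6d032fb96,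
  nat_lit 0xf3bb2df3800012756204cada58326857d20000eec37cd860b10c094012a000c000817981d695cc9995f3800203e1b3c36806d257cc000424000057cc55000005470a924988931b4ac302cc98d5f24310a8c00d0019800057c91a40000127004048c090abe500020008b742be344c0a355f100300020e9c1d882bd0576d2515f152e2fd4af8400800057c200d5f0800000060e8967a0e50004b3c8a7c14f90226045008b811a57c08f561aabdf012000011a80959de53d19d7800357bcff40002bdd02000059d6b3ae6760b42d690002002600605ca2fcb0454af7296822857b62c8000800f001cf4695ed833001eaf68552be057b4008001abda00400015ed0090002af70a4c339057b40cc0032bd915400055ed93df5b761838307abd91200e155ec0aa,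
  nat_lit 0xb00560302e91f96b0026f318c57fe008000b88f791a7d7516f8dbf5b7ebbc00011b73eea7dc8fb7b9af2c40e9c008abfd0040000ac78217042c084a98ae080d4ab825608000e0024aff11882023b167624fab000e57feafec7b0006006400300082bfa10807755fc8060000afe404802e00600021ec8abf9066000d5fc0100000afe001802b005a001525fa6b21f4c3e96430003595e00dec600030054000418c1330000b3880303161b80371985830ad03a800180010028a60469c00100030002009c7280030000268013802f0098b038fa4800000023880000001496cf61e0c1bd843ecc7d888d202e0002afbc04bd840004afc193d268348f8afbc4101cd614c37158552bee65860055f68ca000249f099713341f58f60125852f00041474707927c57d80cd939abeb15400016c18020a323814000000f00240ec55f533c,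
  nat_lit 0x8160564410006c47d08f8582cf70ea014a75dd8bba960a8353f86528447d2ee958280a40002e9c0ac20c8ec3b784294624f4000ac135d6bb9c4a5893e0002b0483580005dfc009b0f9aa32cb29278662892a58223e00002c1002024a0469aed25baa00040012c109b6904c84f909d212cb04009859e001400100032c0f23ecb556070090692cd959af000037c86f99b7b0e76dda0024000ac0d25ee958000ac0f26bc4d6c4a02b400000018e100020006cccda30b45a25e6b02a1f12f158120080002c0b20600080019059195011b96b2ac0899811ad6038aa5b8c6b2db1e185e328ae315603b010004d52cca238c4580c32c8a2ac05134f699ed2a4cf000600189a9ac0508e65182eb05d100004d409a9ac0425800002e700336ba6d70daf00010006cc149a72a8000200148de1f7a3efc05800000047124f2411d5142,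
  nat_lit 0x1f960000551467000400047e631ad09c00018d69545d7ebaf84318af3585832d7ea2c2b00c00057d18a7e63523f1652000014f89a453f315b5f3abaa00e580015853020000ac2800c072440208695d8a21bc4028eb158500002990001374406400c936496256b09d8e2fc9584c285613ac260060004001b6393582033caf0000584c40c00200c9018c063d64d9b9d58481f0068ac6701a66e79611b2c0000bbf04b009543575390483800b0008000831d31915844e280083dbc429018d031e8fa758423d847208e30c70c63d6100c25c1c0000080000001000283218645169818bd570007001288482f9ac1e04eb7ed60e809000462c1078b9f641de51c00098af73ec57fcb008210008000cf5823815836764bb9b84f70a08e0160d1240bf4b064012c190000005c25384c2ee040b0000017,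
  nat_lit 0x162380631a21b0c36006cb588ed04d621ac24bca63ed623133440e8865f5518fa588a120be12c4400200002ff9c21c32c438004000658860740002c4200600100030e160bf08658301d830008000c000b54802c14c4004ac400000d51c243548468814d16ed2dd90010b0fe1eb3e14cb10235ac02c3e04e000961e80900002a80818e0f0be2866c76a9ef16062b0f0428004000e00245e0ac3b0e2002400096c5876000068863a5caa3c257c400025872b680003d340000b73c81800200086be53e7c0824fa8d5dccf8a245ca014996e680011b8524836a05245b9800002c80000a4200561aac340002b6696198cb5b36b0c8032d985b343b0d89e1ae16274bf640002c32a66000057a90315eeb0c80008dc81e94b715618b1f61c0376cca6356300060d46e40dfb3298d588001029,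
  nat_lit 0x1d42b17001800103f007ec1fe83fb72c00000fbacef118c233010ac5c58b40240002c5a0200028003800200000e001c103074ceb570000010000000080f2af855ab00d816ad14b00020791b932cea58ae09c4c702b103de07ad62b0970002538c0f201e359c646800007914d2d04ceee94fc132abd5c4c5ac548dc00001ddaf561314b14c1000000008d9280ea83ae5ad8b5be4400036c92074c0edac5207200000f7371e03b8b1441881ee31d407140002c510a800000e69c26c8e80d5ca9000658a04d00002c4f0060011ca8203259a606fc109a7b4be26b056270001108000400009a73cca37946fc1c87d6c6afd6262c8000263608a78c5458960d0d5e2c4a012d554c6bac4c0004b1289a0000589200c0002c4a6aa806083563a30002000de04a7ad80c88c956245365fde2c3058594ae0300d549624535,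
  nat_lit 0x10008b4bd6980fb75e48b1b45e08cd58d8328000ac6c00216a4b5912671f000024001ac6c6186dc18dc00080004b1ac2dac6b58d4018000000300200116b0033b04f4b1a44213d1279800316348001266b1a4002ac6a58d0000014b6d550bd0429317262d7de2ce200052c67a72e144f2f1e2b0004000d6342c664b211d16df047627844f200042c6563000196320060002ce8c9f793ee11ec3ec00193c52794ce956318e627e4b18804892e14e83dcc0012c6267eb74c25ab1aa0002b18424000158c028400080025dee41785398a711ee14e19bebee64c42b19962f8c40004b17801800010a215842793b066eecde59bd93c04c3ab17962ed3758c49875f702c5d58b818562eac5c134000962e8020000b17404800058bcfb75f6fb3bd19e0000a1c1439380c7014e03ac5c24ecef562e0a1,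
  nat_lit 0x200030008b218eeeb7ef59068b80002c8300680c5caa2025000ab20c00436e1a74254c00300025e789b7dfceaf372a023484a88952000a000465ac800000018468094b129415a82b39b980000b540008d991af06e55b83be00000c4258b8d961b7816ac2d380040004b1f03d37073730db640002c7b18400000018090000bd7d8bf0ea458f402049e80001d00001b6a9b941d86bd700c1b60110623880012c7805a000163b8100000238043e8f29594011563c2c76012000563b00336b621f846e80001e4cc688dada0e607e019802e000058ea174000005a0ac000800208e25e5eb1cc77ac9600002a981700040006b24c02f8350004b7e40080030010002414202820502b1c1042f3311c22395065b9ed04feb1bd4004d205060a0013fac6e06cb4b963680658de000000088e311babcc163693d,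
  nat_lit 0x80077aaa31a424c849a0936be80002c9a6fd655090ee15592aae4b0002bd5348da11ed64c03d33a067513c6320d592e3bd905ac961640005af40cdd3278d70cc9fb5a379c0000ce6b5e619bad21cabf157aa76d79866d8385070cb250068d2059262c81c200001540005af135e419b00e082700010006b24d11aa3a619b8b246268cda59200240002c900201d183a4874b1e363c380018000646000dd45c2004462b23d4f820c1e0488e5d92ac8e03eb4ac0fe22397648b234260f0559182840002c8c002d2a540634b9000200000bba85529aa53a110c0c3697000014380002bfc0247618ec1632c0009644b2c0000b22001800063283af8762108a052c64c75eb1956fe60000001107d0824b21cd48000632040c4a88010001e000d64308a0002b21459000159109a59232782807841d483a32420f3c7775642539,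
  nat_lit 0x2dec4e48b942595d4f16bd2cad13472445838b0500060015e132cad810385565609a0000b2b0019214277646d000080024670f0891b800227d676b5be1304605800049f537c423844ea02ebc201c2038447091c97000e000c002aca95da153d6540b20004b2a825c800b00129589f5b3be0a9a00080003f30006724d86e054d594c4dc00204ba61a415316528695c90b290740001119c23246ffaca4092380165189a5eba236446c0001000812c96518f60968b2884d000100086768469b05005eb28dd76049818c2b28484aca1001c00286302ca048212b164f8025940eba4004800c593e30c7fd2c9e1d0000d64f00200020009d733ae82bf03ec000000143ca338587b0480002b27004bae375caeb9e10e3ac24384b2709c800c001a67510ff2c9b8da339964d003,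
  nat_lit 0x2cc6598800c0002cc4012000000080030e1eb3100e80000004c55d94290a32312b3100e0002598c0c8c190acc4032b6d56618100000000c010003093a4860f0888dc5c8ab30a9f80010e1800300070e2c4556289a9f00000e1000291c7a39637c26f8194870a001400386212cc0072c37d65f809000c4ccc99a2690000049400000020ee042b5b2a9a4e34a0fd513478c700021dbc855bfcd46fa9bc0002f102061db485486f761ac543586cacbb6d800097750003000eb2e8198c3a59722a800006fd004bb9c0000003055a0a996c1bc6da7a00003800561b265ab0e5230d2596ce7070e000b0004001565a84e05560020001800459680846192cb3142000165b800d785cb2d465ae5b0abc320972b8552393cb2ca1680022f6a83f8e4f2cb1084c32d65809a5ca4d928d23054272867ea16582067a06fded35b08973924e50d657874,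
  nat_lit 0x3f3459b2000566d3cc50d6000000200959b08101fdf266b7e6c7dc566bb4f6716b3587400010006b361bcb9c5c08a00000010003000a006c30000100040014004acd8090e1221e5facd4a82b8dd6698e80000000966f072867004d7166982b0006b34c04801600000009bc89c5605e000166a1030006001003623dd794a349d668ccc38a2de3cb76b14359a00cc000000c020003509c2cd1000643a023eaccfa1c000403610e708f8b338422cf0599a2680348f2063f00010006000f599a5800001e4a70b8b3c00358481e3800005900030004489665800114a00080000a41e2ec7c078a3a4274a884c9098ba5159900002a000005992000d0972cc710800056638031fe2e45c7f50c24425ae930000b8a1b7a84b1d258000598c3940002f0e0acbc302b183245b76b329662acc41c8000d662002,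
  nat_lit 0x10b8201ef83911abe2c5858a50501b400017170c7218e03bf463cc58083cb8b93933fe85c54000806d0db59e2b3c0001000001b605969a00022da035400096c0002000091040f07180f61700800100015096982d2c0196c9d02bf800259d6a700012cea1d0000974a05735d2ec13cab00015d26ba542ba057d4eeb7f01e9267b5d22b3a07a856959ce2c9fa32ceb0024002800198279acb3ac00b000900041ac0002ce5206000400284d10998132c263180c12a000000180100020de01b9adf159c406db509ab96d4a0edd70334ca59c4c316fdb97d3fc81459a64158959c261967083c45c08d3216700360f34b37c030000001e008003ace07e7aff2d384ae0259bc1781e0acdd154ce48b44353a69dcb3746e0004000c4db5a76acdc052d39d66d8a1000600202462e3f09160b0001000708fe11f45e105d,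
  nat_lit 0x217bc16d82da2d0a044bb216848060000c3b98b8be117dc2fc036706d10002b42073ad085a0e0180000bf417eabe817cf53c0b10bad42c68001000a52f968323221d83b2c9818fa81f5452f9682bbd00040020005ad0b5a182b400080070010006807a82900086af0c821cff5a062e400200096cae73f968124116e6b404740000092c125c5cd0b7516ee2dc5188495092c2479680ad000266adcc7f00050000b3fc9780005a0040c0012d02003020297bc881059fcdc00001c3a001cb51c0094e46f570789021a3ef337a000567e8b30014f354cde000059f8308000000301200049cca6904d2c8190d90000272e0099dbbcbc547ca88e1683fb359f2200cdc19b933749b5967c008215eb3dc6500005dc60085898b1800021214241af4f59ec2ac1102cf50200000000a6900120e401ca84155ca21204241352,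
  nat_lit 0xfa1000000c5df84615a4200000072165a48738dc0f020f042011816902c80008b480001845d5a3e0357352d1e1640000b2a3172ca809b813634c60008000968e9155cd032c800180015a3880168e000000238b5d60babf698400000d80002a5c158657314b19264164a40b45a000ab46968cd43290451fc0022d195a30cfda2b147d0004b46168b859099255dda72156128f8000568bbce70ea5439a31948128f8000568b4df000051e4e1345428f651d9cc0ad155a8000d68a0036722000d68a000118ba0b0000312e0ac3164834b2a420ca4198000ad12838e5f0a38b4500002b445f9800025d240ca3ab44d0dde1bb87a62f315a20100000ad0f020000179686da0014b4456e2f2e647c3d2c37881ab0354b43a8880020de206a80d4ad0d044b6356860065b4884190718bdf0b7016d96863755e647085bcc1918322c16d1685b0b,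
  nat_lit 0x28ad16138c26d6f40167edcf165e2880006ec06ddcdbb39b00000ff001b20400040005b061b7736ecdd7a4100020006c274735ad37a8a610477732011cceb4d8978e6a5a6a2c969b35eb307a60fd69a8c200002b44818ad26134c26c0ce8004000ab4d01588c65a660411dd25d14ce20660000816459c8b3dfa1819700001200002dab002066800180012ef2b4c29e177b5a5e018bbb00001d0000569800120018d7740d0000001402569680031f5ef47569607100023eb1ef807830f022b40000fab4a10f7b9ef302964f44bd0e309c6a5ece00116953531f5690d12343a6a5b4e00116949055a52b4a0012da10000019788092d125811882322d270004cc4000ad9f03220640397b3f0000b679a3301960328ad16ceb465290ed198a46801200080019692544000800256928006201af7a5ee5c3a04f6c3c5879000064e45bad937b18,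
  nat_lit 0x49796a701062022e2000100035a9c3a80002d4e006c3fc5c300005aa00ce867d319961600016a6bfee7fe0db04d1c1a3662002e161100000002004000875a0eb8ffb16a58525a980cd172107545a966cc3abad4a13400016a50100662b8fc3a7800200084cd6a50000002683ce3a3458000400041f8000000401800184145cfc193d79b945b5a8c9c0a2cad45002be197c412f30004b514770a461482290c0012d440e4f1691b191ce0002b50d21800066d840c8e6236146d8fde5e3f80025a84ccc0002d4100600011c626a145fa49512e401b455eb5056a00020004001599f83dc632a0b0000800422d445ac17485d0002d7d4bc5a3885a7c764000b2341dd68e1d69eb366be63bad91980005a7b1a400003d620645948b30ad800120020002ad3c924000169d810,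
  nat_lit 0xd001eb5a4001ad668da00016b28030002b59c007000f69c2958001b11d174a2e8d6b2026000a83705d18ba25ac71c012202452c360e3c7c2328d5ac735800109a91f06ca316b102512ceb5844d337e45e6ddc06f20005000eb5868730591bb65485a6e0008000eb581deb2845abe018001bb665f421d457cd87471a749b0001224c449ebe7c16938ef67745800008000134c805be737da7b305464001ad5c828ed897ce87525ab8b56c0680005ab402400080020010c9e47b48410000b5688180020014faa9f5b25d85f34b560938000348a2e44006000aa8e7311eaba98c6fc24755a672d578100015bef11d4699ab5581f800700042680000046006cad4b970fee1fd40010001800009ac9c1939955600060009ee36e635968a9cad734db2a4ab5491f91d323ae96d59e3126824ceb54473ad513626d364a91ad5018454916a789a00022e19ffb3fff7ffadc716a7d46,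
  nat_lit 0x137361a281862e88180024b5ed2c80015afc205c008ad7a07e000000500300040004108351e047a80556bcb18740cb5e04d00010006141cad4021074a000000200200021414ad2be083ef688ed6bb0ab5e1eb5d455050400000240002d75101a20602828410004445199fb33d0dd8ba296b9b1f0730b5c8652d7400060028405ad7205ec5e16b88010000b5c4080000000e20206270c0718083015ac80065fded5d92433d716f2c6eacdd4ad705360010ae91baa3750b5be8e8004000028456b0ad52f50000800005b000620198bb0814618cd8c96b6c5f0ab47ff9cf917a55ad8114bd1ad6b142bfa1ab7bd680002b5ad6a00015ad43280000802100ebf9deb35481000312c406b749808c9e056b4a0826966d06022a7805ad0108077ad6713400088ee11db67280d1c1a2ad676380d1d6b30a1,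
  nat_lit 0x5ad5d82a1e37620b64c97a1ef5b240250f7938968744e41f2c9a53000047400036fc00cb9241330004000c5d059bb116108e8b64085a35414b2cdd0239ad8f042693db7cae4704c800081a99493294099013180010525cf400100010010124ca38000000c00400201490296cdc96c583f22bab62803025e0000019c511d6c1816bebc248000300050e0000013b00605240a62d880006097c130ad871ac09717a90600092cb618422ee35b0a268a61824e404cb628000b3f04b88099d0c2d890000120000000c00200280a08143028cb608ee8bf762bc2fed6c1000109c000000180100061a2c762926824cc49945fc0bf95b01525d0705775e5015ed8ad8bf85afe2518ae2d7e00c000da7934f40d0eb5f8112f7e5afa0180002d7e2060008002856d0ad215a0b71ad7c91415816bd803,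
  nat_lit 0x15f3c19f57d08bb55b575340012dab00c00097cc2f9a0ce219d02700015f2e19b83358cd54eec3bc00186620cccb6a44086665b502c8002000a1462b8340b433f0006002451a0a31146c08432e8000194b69400000056724cca482e332ba9800119c78a6e1532b690ec800460562a7054c2da30d220b00000031b8e373030a9179000200000010945b44b97c00aada65b420d8244ada000c20a4000006000015017d4351e02b2b80851354b0002b678082f470b28164cb8700010e4b964007ad9e5b3a00041a80005e5e55029d05370a6c575c8fb11f80018b6716cd9fb3522dc5cd3e9a600018b66d6cd03b0000b66403000031a0da5d2ef9cef039eb89094b69723e647d00042d9806a95f9f301a5a000eb65c322d985b2c004000916714c202396e0980a0125528000116708f4bbb05af8b602eab4b08b28a5f46b421596ca011,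
  nat_lit 0x447f0adc100008e9904eba05910f299e521472220e00000b00000002550001800c001c3f796df025000207acaeeb58e68b607400001e9004b9309ee80ec2c2255e4abd2dbc272001d6dd8030002b6ec080001002655203bc1585130c498583b08b5b748a4000afe7160cc2296dc825126cb6e04d0719000000da94b52c5b720000ab915700e3c664aba8ff51fe800080000c00012fb6c0011f3a5b6a150002000313b07ce56da0c365fab6cc74000013ac00c000000100080015f6b8290000000d6d935252a86d4848de33b813b153800100037db297d131138f95b60fd48fd946c67b647f96d783367b8b6b85500010c1c182da8fadae04417f56d68060000b6b40180006a3654e4304060b04254dda8f09ee0000b6b041800062ae0256d600000002b6b96d586c,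
  nat_lit 0x56eb06fd5fec1be02700005baa1be470e0e19746000837e028b0b9eb74c4185cd5ba400810a80040002000d7f906f95ba48197f92dd100c000c1088a64452878d1723add13faf70126bae480324b7407501925b9e2a80002e6c384083000400095ba0b7389a00035b9a3296e80009000429d84b5096b12ee23c0002e2200624cc499093163a0499000080055ee29d493180000008b72c5f000107a2e1f92599263a9000001e7269079c9d2200a22757718ee296e3950083c89cddc5bb895b8c06c0002dc500cee1ce4e80035b8cb714d380005b8a0096e334b86972d2dd6e28b48120000400180045b8a130a3c2dc41429f2512d080d101ed2cc0010001182d3ee109295868c84434a3badc3a9eb70de55bca96968b7080bb4b25b822680012dc102000016e0810,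
  nat_lit 0x55396f689a00002c8cb0d96182a9d54102a20835bda00084f0b1d05bd8474115822f2be2d6a0623b1d15bd639c3a289de13bec7396f50205f0215601a483460004114007000015412ac00100010010d3eca380005bd0550001204c409a81f16f30170954b794033a46000004000114c6298e2c3058da040747edfc0002e5c020bf79acf3598000400156f10001464530ca620385067ab78408b4f200080004001ade01ea00041142e84044c29d8270004491026d819daddf0a8ba1208330dd0674b7786183375bba0080002dde001200184778f9b38421e96ee8008000c00356ee0da490626ca0812e805bb6204000bd6f305c860618e2a7071cc22c00024817ada536009e813c5c6e2e9eb6982c6cc404296ec8c60216b760590001000c174d7cd05d002c001c38081110214b75c132dd70ba6043c084add6248b8916ea8e8,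
  nat_lit 0xb00100014000ae0218000017c090309b20004001098e40a8e945700ca700001364818003000800283a2b0385eb4b802a904665bfe040000103116e413e97be04924124834905b84438e600156ff0942d36033806480055bfa0896feadfc00c2200003800022d6cf448f80005bf87096fd0001018663699e74700000b8d0aa00c3019061b85cdb1951732b7ed6fcadf8aa2c0bd8c88b985bf4b7e01a8004000cc6496fcadf70c800016fb810612ed1c1a3980000008c6416fbaa500040019761089825c011400080050546c278446848000c830d8cb09405bea2e56fa82a7174224fd6fa45b127ab7cc0100005be85578aae35554ac000905f8b9f0548b7c834829c5be2008397072c08e20004aac955b5be23d81722df000c554daa7354d5be0000430800008d85517a1047d08fc120862631d55bde00116f709d,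
  nat_lit 0xdb923725468cf19d7200026e46624c2bb2fb7568cee097d10cb002eb858000048baa81228251ae215c3ab8548e09a8134c008170e2e148b600004d190313422689883a5240002000970a80095c2754c003ae12164000170989d54028274020800313aa7bccf79438d7626b8448817c56d845f310b9ae10010ec3d7078ca0014001000100035c1e0a5a3a2e0e142b8390072eb5045e803dd11ae0e9de000c117aeb4401ab8342489cd5c180180002e0d206000c8490dfd45ecf05d7472e0b76c06fd7050037c40f89216ab697230c00097052500d78c03580706c111220009704c161bde5dd88c200005c106cc0000890012c2b814600030004b81c0e80005c0c00c00000010516ce6c85a8600002b81404828861542230006b3df22f2b815af80060014002c0072e04082000570180319b6c8a8847b2260a060005701ac5,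
  nat_lit 0xb55c5c26804ea0a40008000c0001c05cbc02bc85090a22346000c0014d710c02189bbc19bd798a001571611d24dcd744af68899287c0009715af728768ee5e6180035c540fd7152e2900c0005c0c80100020021716a58b3526827571432311f69610d49209c5c4e1e5714ae270040001713803000642e0014802500345097130002676c10c1c019b855df4d6571280001c548ca211532a26540a5c714bc45000cb895712054676642d80022e245c4716c0012e2301200057120028001800296900005c4600a4017afa4568000815804967cceb8863033b3737e7a780028009004ab8851495cc2b96508c000802c004cb8803d00245c3e26975c000114a08280000a40050b89800200015d6a9511f168209aaa0009da33b4e3d2ce6d9cb0001768a86a97590203042e9150181fb5000ab869eba1a755d0e7300022e198c0b86570c002,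
  nat_lit 0x400981fa2ac855843582e476d400017259c20020000d723829f5c8c31014fae451940014006a32b788ec34c1600040018f11c38e3065284b90c00022ad455c78e8007800cab0bbf40008a504f00000522e400000b9058648284050ae56813bd575c80c31c14c02975c7ecd814a2e3e0041c551923c3f0000a32a0c6af0a0dcbc3c0008a505620000523c3c4640000800017c2766645681585560000b8ed76436d62f809dc00080032026ce3841188205c72db841eae38004000171c00603d038c137c80025c7008c807337d10b0000971ba387c00214442a80015c6c53c000085500421559bd0a97025c04a9747ae356d4000571a0100008002800ae8c025004b800014462890d31120000100002a8096012802522a4c54800b75c63298a21b5194a2cf7f095980b85c604b0002346e151c02d5717884,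
  nat_lit 0x173114ca5cc00001276bde4788f359e240bd817ae001000195600020018004417682f0181394ae5a0000002800486d00080019457417327f04d0099f27285cb35680059f863f169418441a7235cb07d49a02e57004000000180900020018ae242e56a783d000000040040010ae11dd33303129dedaae54654a29e0b713f3331ab94c19bd915ca42a800000025ca6d57ca5f94c0298453b0a75d5900020009e6123af47608f55728cf26b8a56fc89c23d55ca06f000080035ca452e972804924ceb93c4d00005c9e00c7b894b86aaeb93c0000480002b9445bd926824ce499493214b65c9d1707b82e4d1340015726806000000180480030008c72c87b2e4c1c62dc972580300042dcd9468ad463362b40008b72158cc65456284800045f4d05f20c32f682dcd724a8816deb92004800100040061387ae4805439157238aa,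
  nat_lit 0x40734f37005992b899272e6b9d1400bfd5ce601800100bc5d5603057398225d56b9c8030000017000c29387e15ff214185158a2c5ce3174005ae7000c0001c7614514de69be56e1d003a04e3e53e08009000cb9bdac9e5e3cc2cab46a480090008b9b9858feb1450001c0022e6d06cb9b573600633169e3203f2e6c0004370c6b14a3294ab9ac000b210000b9acaa00021446eb90e08278a81809e8a03dae69162de41bc898f96f085280a512e6856034dc9a913504f089e1e03cae6721028805e212df0000b99e348000699000896e0fdf2b22339466f0cdd5ccd56c0002e65006336c545b1a1000200101e38be9aa80008c751b6e7048bf1022800131d26db8db88a8605f02d5641400a0008b98a6ea7de4fba9c98001ae61248b9857300020004005000980110020e580008013000eb9813978c024f82e0c5be83bf5cbd37493c94cb640c0ef972ecde,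
  nat_lit 0x44371a0ab4145d1c09486b2e8d134e678f120e7726f8d4d9a9c2e8d5b4952d4233d6847ec46149bcae8c74e00089c7b5346a6cba2c1135365d1401980b85283a66ba2c00201a65d144408bf2e8919400040ca81965ff8138dcb00000328bbf026d04d9746064d77d8006001044eda1d8ea07224ba1eae81a147da50e1c88ae865e2ba980008a500fa0000522ef70004001089b00815d4923400104d5317664b94fcb430225c95000084d2317012757f1849a09fcafc00004d20041348c5c25d50142ba001e80a25cfe2c804b800000600017f589af1360e55c619b489668132cefb397c0006b9f427c1153260b149f4d2e7c1dec65573d8b200002668081e013bf2b9e80000a3530ac96c1190a33146a28d973d800202cd83c0622e790000e5b8abab5b373677b8eff1df65cee00041080000006004001b29315482a8c55320743342e5d173ad5c,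
  nat_lit 0x8ee000200060381831826f5d4d5817ad827604e009bd7528d3637209d0138026e5d4830000080055d4c036d7524c15dbcba8c0091d90000024000813d027c0cb1a498240000490481813b02780ca062c111064d4ba803c00075d3e040000347262ed1a81ad00d001a4000147b41bc6680004069103024ebbb5777012a0000ba700010745d360004001ae9d51e73f40002e9b0ac000400105a90b5816ac068aed2019cba66af85cf019ebb44066ae9805800002d380a56b38ba6029304300002680002e9883aca44547ba2dd4bc8b000002e9600706ce1e72b1d470c80154872e96abc512174a8060002002c006277162a0104000000c00400080033ebc89949199214ae9312a462db0d118c4852ba4820aea35d223280000547603e152800453105440a7414f0ecc682ed05974822e20d2416cf3f0b761cfe3a49747a20,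
  nat_lit 0x2ebd5d78008000800608acbafc00582c00060b201633a155d7635c001845319d2e85175d45b05260a44149075f0ec8a0f575d40800061d843b1a83c5d720fc3af2eb800c0000227103089ebae000135be3420950175b89b0eb8bad80186a7615a3a6800380010e451999ba8ea0000c000035800000040040010c9019cacabd9572ffb08901129759cbf08aabac8030003001000119472eb2092ca3175889a00003a6c010e9966dc3a18bf0a272608ebac2ad80055d5e00c000328b0ac32346470c9382a66620cc319825d60babab0b3da33086605757aead2660a54f7399815d5cbab01480015d560058203c0744ec89f10e59fb25d5613400085190a2e146175504923b4f0fc00180053dc665f57552a560588e2de54998632fc65ed754a420000c1a134b06604e2baa000091df05800008ed856,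
  nat_lit 0x4d52820154000aed33f8013802800530000bb48338000001a70976a80b35da80001768a3900000010008002841abdb010faed01960875767806636626044c115e618e431c1767ada528ca5494a88099013aca617673340004f3806380c6e5d9a1086342ecc00cbbd5b009560014ebbe00592ecc21c9605f3d3cdf0008bb300552ecb6d602c976509a000007d98b843a60183aadaec00470000000daa80015288a55610d2edc0360001024b17840c026004b009f5de202957633180000bb140300a25de61d740002ec525e000187c80261f21d9d87e8772509853b97621390000bb0c0194ec823abb18000800416ca2d8eb10002056e0ad815902af72c000415b00035d84001d2b0000063c0257d287300b92470d75f8c31bdebaf8010000056270815602a90008000975e924,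
  nat_lit 0x628c981932583c0ce00085dd6f394bc296f845f08a40cc00085dd4dac0002eea0067d6dd4a8d23000200100dd0d69ac60009775b48c0c5ed64c2700015dd44511a428d204ee001800181a10344bb9c9b8008228c06880d0aee60d2bd8577280200000648e10002000200148a1af59378cc19407c0ed00bd08714abaee31b2000577d805f8438bb8810018c5dc201800000024d2000cf513a1c6b141891a40aee06b244f176f89a000108594a8005a5dec3014a7443271b6000d76f4605dbcbb740100022cde93b9261a4c26920004b3724ef7d84974d2b11ff00080004f4d2edb15e4f05a4285993d32bb6833859800002a800091fc6ce84efda4182c17042e1c70000055db00988fcb673669a001176bcde5daebb5801000300a2d7c5af9951d5a401380000aa5ee4089576b2ed55da8000402806e,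
  nat_lit 0x356bbfc4d00005dfe00c7d58b25000200000020290006001401281b95ef406cd7bc81a85dfd5945912efd14247fc4c98992000abbf46e30b7012402500022efc0c2000177d8015df800417802f015df60d97812efa00c487000009a0000bbe803600690bba0234047c4d0000bbe008000b5df6003800380000e40000001801000233cc03280685dec70178a2ef500ccbbc67a016502c4c7fceb1aef550abbd44f831fe3ac4bbd0d991625de60180002ef62060019779800165763d4d8fe2ef20a227a97788aa18cacaed95eaf7500000d400001c7002bdc80e2800e0018004c0082ef25de0bbbeb2422e033e003d778aeef266bd880d0800d5de0bbb82c80025dda005e8525af7a1c81f611d80c95ddb359792362c2b1abc8c06500c95dd83d8000c23b8472031d77581b,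
  nat_lit 0xffcbc5c0300016baa4ff4a48949372cabc5e0780006bb07089fc2f170000000978b1b20000d319a65866f28024fdd78b11e22f303c60a7af185e2c0d40002f1500200000080013140ebc556e001102c22c1c582c14b50e4bc54ad344700065b47f100022d83fb00008d21fd8000090b5ce27fc5010a03000864423f787efd675e2606f4002306660d42240e300022da071800096c5f1600006884570002be28cc30500000344005800a000e27f4000304faccc1400008a508ac00005209fa00080001783815508aa37c00189f513e84b91aa301535e0c35000316353d66162005e00ba5e0adc80a72f0400400004fa00613ea27f9a6e91d11f282cb05952f0300050d857791160ba00020002af045e0422c0a32f5b02a251685948b285e0317400080070006bc09780022,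
  nat_lit 0x377c571edde0000af2f7578bcb9e8031f5e5a268001377562e0f88fa63aba5e5800001a800200083884e6abac689e2eae9d5caf2b9ea5ef4bf597ed07c47d29d5c2f2a0ecd0d579489a0000bca403000300080a2c14b2f297380a5d7940a1282ed7b000c00165e508e112d141e002c0055793a560004bc9800afdf2f305e64eb9b97a0004bc99171f4b7fb2e9200042f260004bc94b02f297306e5e00002f24184000000180900069e94a0fb5ed6bde0740009d5a3abe31519e884500007565cba83840702181cb9b97e0012000d7900045e40bc7c010002000cef350b73b881f60004002b8b335c66bd01780076b5d020a0432f1d1aebc750dcc087810abc709d02a6000000c0002f1c529b086610b8210006d6a93cb21b65e351810d9af19004000178d31700020008a054207842aa52578c1c8,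
  nat_lit 0xbd18080001622436cd8af072409cc20021785335e8cbd1484861c3a3014cd7a2af440ce00097a18e8000414d43b7b1dd63b6cfc00085340edec5c83b3b210002c32d30830cd5e824bc297af4016400017a11c200060015a28bad25e7e15c7d7af3e020000c00000040000000c2600000008018002a017766a6e147e50fae5e7830587d85ee1f5cd13579d82c1f56bce80084120e2e000d79d000094ac1b020eb06f0bf438300012f3917ac19800680030004bce0ab201300120014000af37180000179b9030006001c55cb279760c146c28d56800020fb8fac1f555e6e088000000a62ec15c33407290e2038219ca2f337a000043af31470e1cbcc8659e332bd431fd96e0c1c7662bcc83707570ea21d4c3890e83401abcc521000218383069d97af30036ecb579789a2f910f70bf203e93ea07d3579788b,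
  nat_lit 0x92bb55e6ab8000d7ae37705eb6b697c880b8187631083ec17885eb439cbc5af5900c0004619b30918dcbd6ce0000018680419843609281830fc3ea17855eaedd40008c3f0fa65e117ab0222f08bd5403330b218e431427cb0cb09dcbd5484000109ecc328276af543ba13a97a98066192019c11032d66a90318d7a9d6a000400280040007660031957a90940c92bd444d000000140080002f515fd2017c25db0c55ea05380000006012000d7a8017a042ebd3d2082135e9c009964800015400044478890112222905680010006bd3c43e888811122228445af4cad2c7517a58090002000c43d19cf5e961b19112f4a154000443c388a7fb69bcdfef2f4a24e00083c7088210f0bd2817b1c75e92284000b0020518c6157a49480f14bd200480000c4802431206b26228000d7a386c,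
  nat_lit 0x1e9e750400280038004000abdccc632075ee404001d07c66408bdc80010165f0222bc45d2f710002184000000200200080030e5f1cbccf9472b08b66402bdbc5888b85edc2698ed882f106000157b71010000bdb40300036e4711edd36af6d30ecd30668163b3d08bdb0ab3a7574e6e9c8f41af6b05ecf917b50a10000d010e10e9a7dea55ba174af691c682657b40ca000a6bea11ca9668414b480021af952c8d659acab211ae40008b6a4f50002349f0a00001a2fc996b6a62e0000bd8d279d6c4c5afc800040005000c95117b156b4b60759129ebe557cacf9657b0b726730bd80740c4c0fc05e417b1000106a002d7b137765ec20000260000000400400115cf4374f789ded21be665c32157ae87b20eabd7003000201840440aecaf5c10857297ad806,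
  nat_lit 0xc00205ba505704449b22f8b9e41d2d7c50aa786488819e68ddf771c81697c551125d06c648cb919d2d5cee397c48d95f125241dc620585f100d989d2f87134002c000800329225bedb362f8711c52317c30aa00000028032f8604865c385a82f855942d5197ab73916a0be111c3b6223c65c385a7af830d6c794000003000cc25984a83d01024394003000314251a5b29955d0000c1b4dbb9b7590c000184bb1707a20008000af7f66426dd9835ba7079a2b7c1e9af7d000006c001003e04a69ca48bf03d25ef95b41e7af7b0120008004857317f8bdec1500025ef404000000080040010002803f1358c98c4d9af792862fe02b78000000800dc078000045a15c42b9856f9c8c051155bca10f0c23157c32f77256301c7358e6e3022231801caf762c0bdd846108c35f08bdd40b80365ee82680001e9f75067a682b593e,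
  nat_lit 0xc1bc16db07105a4216c7cc2fa3640000c42e885a1f2ebe8824892c5f42018000333b2062fe199c80020008e2ac60bafa066621557cf8030002f75d259887b6442e580003dd649622fb05f7021495e9f6048709025f3a46c4802f9c004000847e3247121232d45f000111f623fc47f38a405e23dc03480665f36be685788f81216ccbd7cd2f9918600057cc0e800022f6d9953328664e138000b30e49502f7d7cb9a76654be585900005f3870800a001e002400217ca90d000abe500800020b941725cc69c2328e00042e485c5629281986009fe13e487d9e1c2f9217227d21bb221d786ebe44cf30ca5f203a0000800b00260071d550d3001217002e1250c5f1e1480018001612c942d7c72416146be34740001000a00182de839e0fa0000003002,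
  nat_lit 0xb2e12d66ba24b14a2414469e852017dc0e800063c2da3934735f701087442fb700c00017dc10300060c18177082c1336c2517db2ea061ebed46524168b62b8e9687bbb30004bed4a805d70a0e1414717340e0004bed2a7bba68b70eec40002fb31840001a071c21c666ff17d980065f64020003afb11940000009010002000280000004388267400000d75fda00297d8d6f5fdb08920e30e331c5c6fdd7d71fa01d008d93ac81a7168cfd097d6c2300022d085a2bf415f594f0df92fab134cc506ef42521ad6cef86b7afabadc00046b3b3bd1adcbea81b30785f5226800000ff020bfc17f8afeb01d003880012fa894c00097d389a15a800005900005f4e001cb52b2f119e000800289342ea43b6476bafa533e53506010bfd000cbe94698bf8667e2ff8002afa448600057d1801,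
  nat_lit 0x24810010bf417e72fcd02c32fc00180045f9abf3190c250849ea491d3e00020006bf3118b9026c684dddeec80055f9abf2d4a907a6a30c018001afcb01a32edbc1247c0006bf2897afca5f9202406380001940004e1a3bf5018c031006400c43900000e1f0023864efcc3582fc75f8c6280002fc6020c6f4567b0c6000017482e72fc6618d3f80018002000c0de02720984132f5dc81a90372074bf1591bfb38d00b749f83103e2078bf107b000269f440d481c2fc319640e17e1006241280a4906920486c50d817e13c730126029bfb966a291caa657e0d70617abf004d0000000601800282420e8606717dfb4186b091e93c0819c5f7c07c0ccafbd0020010de5b99566f2017c04c2fbd2be343425e82af0556bef11c0297097c0ab41552fbb4ac0aa97dd0a10006597c96c92db5f746c80282fb900600017dc810,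
  nat_lit 0x8005a660296252d056800100144b757f3800d090bf8800000088068cff00e80077dd036959ff0da41b24bf86b88005547ab87601aa74367f4bf81080001813607397f800020fa000125200281320731832438259d6aafd7ef25f005cbf74083b80770480297ef2fdd1b50c206ccc02c0000bf704080007eae40c9692fdc00010c46386aa435fb6da951f00105fbebf7400003500000008008000294a52889682fd93ba528cc7416116f4206d80da2fd90dc0008bb081b50366bf600d81b05fae01800001e8006de6d854811b62e000257ec2fd607600097ea806000a00006505a10b5e16b94f429825fa80000c5800400130add4c0afd316cc089812298184b4bf481a928483f8a60612cafd109878117e8001153e16042bf80025fa03717e82fcf00215f000000600025c00ae00cc7153015f82be2ab,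
  nat_lit 0x17380105ce7b16d54800280070ab4bfec5584f30006001084d3554216e64d9a3316600022942770000148d530000800009e0c594276d74000200180038b7666e61040002ff82060010002b36f6a02d4007ee2ff57ea154c825b1860ab2bfd038b4185fe62a8000304e006c140036b01400d4d091aacaff26aa00085acb3642174bfc4110b6d5fe0269a11190a29880040001b5425fe07c19b1056705920000003908b5fdf5cc163000015400148438000001cbfdc9d613ad77ebfc000096d00140000b6108400040000003800e5fdd5c800392e84c6851257f50265fd42b0531914485fd3379a9d2fe81d000057f48015003007282700005fd0004c00d00200420008971bf3c157abf984193a85fca3a0005a01302ea05cc00a00115fca5697f52fe400cbf957f2002,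
  nat_lit 0x36d16da65210b8f0fa669fec049ba80026f803e95a7f3011044d3fd808006319c634d92187801b9a37258081f42de504a5420be7f1b9c373580792c000438986e58dc7601c088a6eb00d134955543d41630010000c002b00daea6c5dce2168f41da3114622300c3900009807001e004037806ec9db836e51d8621b00b000000182c800367685f34951a0e91884c029c3b00b003600645d0b00916830fd8040b2000a00700aa154d60104c4607154b2aa2553580380c4a8c7ba8aa8954c600cfcd834b005142008c01290a9601ac0140f8030003ed579806300409800618018010018c00c08300660060400003d987b2a1760004d507b328ea0a3a0475628c23d5801320042ec26415c02b92abcdca9800915000211d58a208f36000124479afff13411d40000030000159c2b504f209de38c026f54c0acc15a42b62ffe5ffa398a9688090ba200017fe11f,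
  nat_lit 0xc09c080001000a2d305a718670580009d2a88953becc0986b800263d01818efab02518618c18fd3027604cc09406ba5263cec79800030242900000300103168c2d2020083fc69f8000981192707f80feda7d800100060d41fbb4f91efa00000010210000c4f42b03d707b2c7c8312b02016c000180f8010c46c7c00f0b020603e150001301e1d000080f332e0129c25447d800103ca252c4a3c1e10c00008ee80df06e040a1c0f1301caecc29d80d8090002c0740038019603606400a301a020000c8c88ce10ca603a4071301a5b6c16d80c8100002d72ce4491921ec4b4800035ca0c2618418f1ab40000c05c0480010014002cd9a118b27c000180c90300020014baa80a6608c027d80a9e76088c0500180012904313c62730163800000005269,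
  nat_lit 0x581f8aa0000388c2f1b1f70bcaef871235930b741554004000b607c0ec84b3582000adb8981e8cb285ec0f0030003001640c05c0001226c1c40001120000c0e4001055066f4dc84a7f00b6af0c0e000090956afad5f07300000f9815884987c90f8e2a21c3db038000e001581b2c11216001c0030004606a1386d430350002000d81a0486daec0cc008001286834e1a1a427c7252c0cd898003120e24106d2b0321ae50cc21f8440089029dc0010001aeec0c4c3c3873001a0021c3a30314f400058b0b87230eec0c0110a7c605e018000302f006000c002187570dec5781080002372c5c4f309e5686459158168000000c3c4002a96325224a2d8162f10002cd48947928a60571800000a7800ccd4053c0e3b1cd0eff19ca8b5260540005a380866b401d002060b5216a2c0a41db029000800219c930280f22d4581389a,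
  nat_lit 0x30582060010feabbba114c2296030b05692add7603227694ec0c1549a00000026a83e177c2ec3bac15d82b000600110f41581b0546b2cf5cc02bb210370c34a1e8305330c116a1e643ce5602c148114059000400118c8045205e00000018090002001cc0f3c2478623d000000050040014c0e15b46f16de3cadf304e36211293eb2aeb55d4c13416c3b96098040c0900001940002028c05b2f0c749dd489d2a0f5014202d27650002c1286d000160922c8000800761bc080a061c0c24ed2be8c0a3c1a416000098240266090c11c01000153fa80c9f7f0b920904f4c9ea8254608ec118fe42da85b80949823304518600040fd20980120c1b87d800003f28261e09209a05e07dd821809000255195a9441975d4958000811227384e698214982e3ec1040480007468708227844e0bce0005820057,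
  nat_lit 0x62f4c1b4048000000e024003879f4098fc918360330f3ac1ac08000247d2e04d8380011001cc1b8006306b8ae00103d107a31780324c649306a6b2f91922d9eea0008c1ac00530691b2d0d58340060000c1a40028c903030084001800812bc6a09833c606b6cc198740000408ec5d309bf344c2c2ee8646000160ca251832b06400c0000c411a7634ead0bce038944b56fb5432186410004c18e5342fd0024004000600090004c18ab8066d648818fc000306120200018319c200040015b0711a860c015c540b05f0200000002006000a5015b76c39223a4474d82f4061900d0951eb380060ba4ccf68a3d47b9cdffd82e04814fac16c008004647ac8ec31b305b5d225404a7b3196630c1681a93fc27ec253198bb0590980011bb140686ec2c1642727644eda9da9bb03058042d06d82b8a1,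
  nat_lit 0x8aa0000080002000c0020007b866356826c4dd0f2a65321c2184230833f8d490796b2976106c20833800161023a000087004394f3eca0782f0004f5e5ebc235d7ee21c098401450dfec1fc048002000823b436f307f0321b6d83f0100000000c0100037af08dec86510c72190c1f4478ba560f82a8000307d548081e447487d0008627dc59100d245a400183dd7946b4f5d847cb56e60f407447bb0790065ecd002bbee8638c1e46e0004005c00c218db078052e2bd83b8a10000de38abf1fc573c0e779c298476f1a55f4d3e957660ec04cac095877d0c533583a8310054c1d0048002151e7e38fc60a7b08a0004547262c672e2a4814896a1be40ecd839b07221213498e983b160e4c1c461800260e03a000101f103e60eb9882156000207c0326325664b4ad0000800c7e7a0ed5837493,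
  nat_lit 0x30be41010201309b07ec70184d00600002e7c818ba10004000cd872491293ac264aeb755613000c0000bae206d05984c000214b6fe181a5b0976660d2184b00307c0c4600e381c6000211588c01cb039a071400002f0000c254aa0001000c1a485d80bb3682a2ea1a08b093af4000588881bc037ec24c06800464f807340e0309234e0001d680d090d4e1a98ee9d1e845ceb345d3868e0004c244371d613a3c7570087810e0004c242af010417541a30000308f04a00003448090d0f10243420683611ccb0000b08d006000a1162f57566ac235ee06800d02acda202b08c05258b98458a10000751004a1d443aa1c30006b08a1c600298448030000d4b00300060006c718dffb088a12a448e58ac91395ec21c0b1caa5923153ce5730860c2f9258428a1,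
  nat_lit 0x30008ab1d51130b216c397851aaa228612c2c40fb956146aa88e18430b00985cd58578010004c2bc00c39c87e4beb166bb5a10004c2bd1917358962afb03f387ea0004c2ba0b35a459b0d67c00030ad18400004af1c266d2cda889d914261584d000130ab00600018ae80604de09c132d80016154e7089f11370fce00058548c00000cbe88187e466c60000002054d6338c2a0a18002000854bc7fd09561a60004001952f2a6654d0a10012177c2ef5203b0a62120009f430b72480cc2949d1b1b6148008a4d80001d000000070bba16dcfa0ebd800e175a002c001b0a22bc000d8508ca00003151348ba9000e0000001bd9b03e0000007b0a36840001dd0800f0022c4840deb11d1c8ac279040001037cc470722309d044d3b184e00662365e6016782c90590100984e523,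
  nat_lit 0x3004000c53a801234406884c1130ca81e14c186481000008dd5ec5177c72ae49a99ec86e46e8f625cb28002619003400130c716400085af8ec412aa25399be094c47600045ae34d366021e29cfe99721ac29b875f85fa16bec314ec8b5b6188008000130a00d0e7098338d60008c30d4fbe4d304ae35800130c206a6080c11184c0002c30414b0c16180004000184900ce3449d5aaec14bac2fd65000614b0e6e052eb0be08a496c5308a5d14b8c2f46000036a48978d2f2a72253605e899a39b614a8000c0008eb202ccf1121ab0bb00003ac4308eae27b90130a983e304868c2e8488eac331666295ed30b9034294985c009000019283230644651b51d48941fd3c1e024c04aa7e4616e8fc002000781b90386077a7f1616d28462230b513400000010060004d4311ce3db66794071c0e2a86521aa43cf0d97375446c2cc00018b,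
  nat_lit 0xc7798f4085c10aa2442bb961c4d65dc12e4b8df83ce5f52448861c29e800124af890caedd8700420000c64081826a61c000059e4a8127d44c37e703e9f61bc3284f2127824ea001c0002430000000c0080036d6a5a09507026c04d0c62c13330dc230ce604afb183049cc61d8c4b0db41009d986d09a61b6006454636b161b416c92030d900c00009361036d88d91889d91a97b40005586c3160026c35c080000000801800305470a90c96986b0b66c3053fcd09b25a61aa3702ab05583422c96586a0610aa0c34c0080050018466c29fb0d316cce304ae919d0a7ac3480b2a1c542cd9b029e30d10b2c93d86800132680a418c4800261a00d4157028e05180005867821619ec338008000050c01814334e57b2200098668231d9229e0003000261988e05b430ce619a000586586b,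
  nat_lit 0x187c8000246000987b95962b30ecd92e23f5f0010c3e4001d7e6bdf0f5d0760ca7084e565187b285639714141a4041c2b24565187ac3264483298212959261e86cc00030f400c2bf5fac3f5a0006c3d097800161e602400000017eb0fd712e1d7b000200140dd01c063860740000003004000c0dc317262e8d621920b0f00bc0000000bf544b72ecac2280004b72d7dc82b90502088d799af281b5afa96e000180043e187c75dd930ee12006d40dc84bc0e38c3b438b85d61d82a800035f300496d52d9800661dc234446e30eb11e26958750100002c3a801800004f400340060008af87f58fed8ed06c9e438487030e91280004e7890de21b8c3a01b10d961ce01800010d902044a5c2b16754b40234446530e6410000df9d08d01192c39411337461c801800030e5206000c00216942d1c69c19dfb0e31ba23218710ca,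
  nat_lit 0x2dd89963b2c5621e2e400e8022622a000988813c4621eb689e2310e00c0005beb14e22d0ac442b78000002a9a4639837206e6ce6846313bf6218c8c0008457118a4ef988583f62bcc4284d32457344e68c0d531820368c428c3000257c406d18c23109044c61188400662fa51d0b230001000a59f98843018962c00245642cb29b259f1883d800004002dc2c16492c902b4000800a70b4594158305d00160015c23172b620a35d8828da270885ca98822412e50c40c01000562080044006310828e0011881800a001212b01084350004504ad080011a4e0140000d12c4e366d87f00000006567d9900022b41020d7ba40922080c3f6bfb5fe61f800862f0c5d05a0c728001000361f872187eb0fb00c00019278560944c3f987e800161f4ba4002b0f90020014000941,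
  nat_lit 0x3225624a3a000700110640422db1a003a624ac7c001058620accc7836502c0002161482c3620150a0bc2bfb2b727d511f18918af0b04d87223ec47b624430c00ab1211d000086a5bd2c645a0edc1600011a94f4bd0d9a1a30ba00144fd3d1d5794c47c130d477c8a5f995e4b11e9bcae8988e80200100010003320044e425c588ed1114b821359c589452072cf7988e0742068d829138096f62360884b6311a00c000000180100060038008377131991ae51e73f94623360988c25f97f165e14bc53f936230c2c01a3117134000588c860a65a2c45c12b11a622c26800131160060000a810566fd008cc11db2cb622a4c41a2b2c60c10181588a2566590c44c50b41a6fc6ae400000003266000588b319103821ccdbf12b8fb02118046737666226c4440f800762264f1d88931100980001887801,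
  nat_lit 0x5ef1fe2b14a0060c4f83880010030c50d484000234a000000f002002cc5054ca3dbd44fa89f189e2093a72c4ec5500023234e70cc7d0ebf6920004c8c97b81d803b0990991c322e65d5a48b1391726461083b99f6920c4e0338b5f626e3a0000000f00228d0989cd3c002a00a0014802f14fcd52189b3ce009e13c819d8337675821b589ac160008d11c53e354662681246c931331340000c790102520000c001000616ae0d5c63ac2371965bd817c129262628143afb3630f0e0c09a8e3724626013400102f805ec4a4189783f2514c4b803351a2eb4d451939804a169ec4b919207940fec8400010005466cc4b51bb4806258268001000764560df080502c000200181c0320c062a0a40000004012c4a8e7e9d2251dcc4a49d238c62503a00008003002400540248be0000000800a801600420a4000801462581884305860d44be73e5893583,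
  nat_lit 0x4002b1596e50497da48000000800191021dbd42c0009ee806bf5048c55833c1e262aa008001225f287050e50011ff76cb6b64000800013400098aa97cb29f2dca5b9131531c88970a1abdc51e9cc5485a125562a22c8000b151020000400615405ea0bc417935631b425f118a8320001ad5846d017c3629e125bd8314e134071c000913639400008917c92f8c00059e988b966fe07418e49ed0000e4d08197c32f900000d831b076e4e22d4c001c1000244d8e20000224002400100010000cccd8e1bdd0000000800209406de21b1c36186c06665618000800302e405d8ad707d0000c514818004313ea7f5517aa453338c50ec28d90628400c00089371272480c49dd84000024d401817e02f8c6a1c96b92c0004c5020b3e3f7c825ef4000313f2020001c94809,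
  nat_lit 0xc5c800489931322c5c005098e62de2a80009d108b06b36566f31db03236200001d103a24eebdccb98c851f161ce8745815b150d298b68c639523a64002000562d869c079316b164000451e346069850295690000147628f05bb0b75568d70800400020e581cb59be31691a8262426e210c79f83778399316822ecded8b38020000000401000173a284086fc8df41bfc8691e5800208b811585ba827d6430c59422199f10d0396c140b1640d809f98b18100ddccd74376800762c633c002b162006000800304e709c4cafc7d8001000a17c827504e8016001400380130028c5826eb1600e0a0050009b15f24800798af00200001b9837586ec12d2174000800362c21c098aea410c4ec5707406e30000008000b15c505411299a957b0000001004800483d03b10763315905426a98ac010,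
  nat_lit 0x1a12890a1216006ea825b87f54cc6c2d03d448634c61cfa33c81d683ac9af3c3188636c61826800a09d2f50a18c3185044cb458c209a0004001c7bd31d5026e0b000080066c46c94c17a82900184e2884f344663044718c12b3b213cd1158c0c5b1328c60074000100140038063111d1a60000004800563000470a10007270a4e1959bb17e0082d258be80265b01375c560001000804600073920004030933b80be017a3ec00080c14cee99d5df382f00060011b95125124a4c7118bd3b1017c445488b011562f24e98e0b1781d000018bc903000602ec880b4ec17922f298bb91069e0c5d801b23d699e2a45a438a8a26f4c5d903000314e41f403e88a616f5cc5d48ab1a4150c2a209bc31740b6000000131b902040b2416317400061d0c92531739bc29bd8b90020000c5c8010001671003e807e31b5848000039f009,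
  nat_lit 0x71934a92c597d08984ad0954689ec678fa000212b4254da27319d044d22d8ce006129aede8e220015634000218ce46e69da2d6c97f379e73a2c6758cdd230000c66803000500186a68d4e319a2626dc4db9410c353ec664ab1b7536e69facd4f31987e66a6d8cb8012faae5d0c7c18f6632e8e0bef29c8739663d58cb02f000ec65400800200c660a0c15a4b6058000403118263056e6642e8005000812b4254b1937ec017e01d04ab0950c6499b04af63223a1d3c800000600058c8805c4d5d00ecc73b9bd6f8e70425884b2000ac63c928001631c008000000365b410d0002b18f00011398c700040b8cd0ad8c680d503e174c2e30002631a4cdea132b7085e00058c60616318c62c0080000b820182e0890b0962cb518c5023863acb5c25904ab63126083b284b765aa12a98c4256,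
  nat_lit 0x677e1cb5b61000300042d9ff33fe5000a001d992b326636ed659ab11d264f00425c7c0528636ccd59ae852a6646cc918da836664ac6d00300011698d3f05a80b3304800012f68021694d3e9a7d8155641801558d935486a50d558e0003a63623a802231b01540005e13b3740c80a7f0f958a392960001e12064466e8742055c8a3052af0959b9064167dac6b81bb36c66da18e088231ad25edb398d600900047f3cfe8b57b19d40580009fce790a5d191580e5357ed56863bb1ab63547f1e411fd06ab0c6a98d493a0004c6a0740002000800280070a3517c00040018006002000501486140c3c1f5832131a606200098d28090000c6988180050012d259c6cab298820c69093863f0c6e18d9e0a31a31c619098d10ca00001329ced31a66349295979bf671b8c18699ad01ca6342e28265b2f609b01e200e581ca6340358000061a66b007218cf8c2,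
  nat_lit 0x282c7345900000008024002075767be2da98e60191404c72c550001000cc7318e700115a4000000280066398005d2b00022b2218c8b0931c99bce3998e400263900004ac7862e659205800080001d05639c51158b2b0aed24008000b6390c71821b2134202f4743960009638ec7146f000163880240000002000600080000606388001d8e4000e6386cd800831c21d000058e10020000c70c00333cb638410400180087686b6a8a0b94166383131c1131c000617819b1b3c40004c7009987210e461ca0000b1bf090c6fd8df00100001ccc0333c4703aecec00131bd30e6bf0b2d95750004c6f11c3a972ae055c8000b1bb0d60000ab90022ae459602f105e10bb0c6ed8dd32a000000140080030bb0177c2eb31b907ecd618dc006,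
  nat_lit 0xc798aa00026514d17444831e406c44e18f1806650e000055000007c2001d9d6375e23c409950403e0000c000d8f131e101a0c4d945b28a0000c780a4000004da008135026504c01939c6131e063bf628000000600200118f3001f2b5cc7780db8c163ba26800003d700ccbb4be703d507a6cb95971800963b8000ac483b8076a0edc1ce83b7000ec76e5300200042008000c03b7000ec7699e865126960ed4002b1d909200098ec00600045768aec95d86ef213800095d92b9e573099f0c000020ec0c57ba0a63ad261d0631d501200001d69c265b20ed00a6000863a8434002b1d30200009a38b63d1dd2d8f1cb000168e03badc48954a180d1b8926814563a4c74484890111f8050d8e8b1d023600058e78e8000205141d8322602920b00008134026a04f98e70f5,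
  nat_lit 0x63fe05080a332a404c8df958fdbbd25f8c7e84d341d009801258fdb1fa1681e38b4d81520000c7e4778000029e40c702b1f90002c80cae9804463f0fad900001e080000200008d30042009198a0007000090c0000003002000448d09171c04c7d411361f63e801846a347f658e0bfc09f013d63e81d98fa026c027404d98f9836648cc7c8030000661e40c1fb8015002609ddb00b29763e329c13631f015400358f80030000da507d1920a0013540f3eacdc41e1015a30ba6bf63def1dddd3bb711080b846c5a97a63dd0c800146178c2a9af58f681b526cc7b0030d8a33ace9849c80fb723d6c7b11fc6165a929aa08fd0d9523d6c7ad9a800371b23ed48f4b1ea0363edd8f489a000048000112016fbc09ec0050003000ac7a19c8d8a63ce00c132bcb663ce0001a30089604cb30c136826e04e6002000006b,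
  nat_lit 0x9ec0332bd74e6e9dccd2b2121dce285d27ba5031d0c8451c2c89299e6394c73b2100d666919078a100001ec190a000e6422774ed91daa3b503251a6c89b6641c7e80008c9769b026d590683f2d54c8304d35b96aa4d53c25033576948c8313d000209301275a4fb20b19623a1905006000012518bb34f09201d0da19b20c000cc8246b0002641001800132e58d071a15eab2d20002cb916de17b104d8858000b20970340c7d903136063ac8145900000008024002079f00b4015d90202d6410c80c55000100064c1413702781f6000000113056408001c24000126084c14ecd2f9a5f50f1543ceb201b181e6d9000e82604c80400088e511c623919003fe0622c7fc0809271248d8b000400010e409c4133b7e863fc00040b000063fc55000187922d3a5a54b4a394604d2df998fe58b,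
  nat_lit 0x6b4cc8a44d3229046c0d201a2bf3c046ec8a6a78348661c0d1c11ab22802e08c59138060000cc38030915122c001c000322623e00019139030008d22442f1865744a6189912c8a17f0c890650000770c6efc82e8a2aa626f250ccab4a7e6a24e4001322348061a21ce2ab930d224d8001322267a217d20109370000c8840d80006994708499257412e0000d91023c0000c87c08000112dcfe2dd2b18e802c25c4ac48002000ac8788e096d4adc0008002321d18647b190e00200060024ead3c5947b08f64ec323b0004001e1c9aa5c4a2f19392968946f14de208f1b21b64341508f4378a6f0cc86990c8c30004c860740002182639949dbb85205800046090ec26b3a306024000130b22488491b21634e304590a8090000f134e11d4c3410c85800432141d400259098aa]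
theorem S0_c : blocks (facts 13 4 17 30 8191 131071 1073741823 15 32767 11 2047 A R 32) 32 JS0 6583 = true := by decide +kernel
theorem S0 : On (Step.{u} R1 LW par A) 6583 19383 :=
  steps_of_blocks hpar hR S0_c (by decide +kernel)
noncomputable def JS1 : List ℕ := [nat_lit 0x181c3279e4f06c90974818f65529e2a08e324106a0574c8d278a8236c90014a5a1647e004001ba2911ce1a1d91fbdc162c1a2c3450687647c138edf86840d041a1991e8210702c8f000800010f8709a538022003a004191db2c0018c8e8018000647a003114d323ca78005c00a8016048e090011f3239a2249f01f0334807aa100011e3238a6a0008121823e0478c8dc2132cf646c0186400b16680c19f43deb461646cf1c4668de82db45861dbc07b7646b17400107b90f76d17d91a0250f68c8cc4d3b7b1a1cd014340927a4524c8cd52b45e2b72420c00080024520c8ca9abe6f6462018001000f002228ec83b00b7cd849d893a000264602d12d009231242002d9178976462c8b804800800040011ad50bfc6fac49b86c89681246d33998b000103e8a08490891d662a000026000000060040018237239047286028bff6b4e2ff9915376,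
  nat_lit 0x54a1a486490ec969b6bf9d64b20240000873384052592c80035496c960361aed64ae0401248a2f26fe4e20e3dbc1c0000580000101a00d0d01833436054cefad00a2b25583816742d10148028ac95022814564a6284000800b00184dc416e04100000030010002000cd7e1afbb3780858c944f3838b669210902113250658cdd59278030000a2de0e7a8af001154068e0d1a1a3c299c5363546649c8c884b909637ee420861b8a57649b4480010a6914d4d51192602514a8c92c4d0c3156aaadd4401b26500c6c92de3b5432314ceb002b326100bac92973b24a0ffec98c030b24902e018992409a514d071906d9dfe7966780192405e0098c91c0800011596d5849fa94020480001aaf0021592d57c01e32540074488d9228ab2a94e3e4aa3922364881b091032430200000002006,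
  nat_lit 0x43100c10ca124ba280008c9c974946f116e22d8001327106a22b04588dd60002c9c014b27064de004000367d00ce88d492273727a4c9ba608b0a27a6fbe89e9326d03e05fdf7c237e27a2c9b010800204c2133da21069572c000413004cd0d2cd10d3b826251781651935b26a238097c26784d164d4c9a433800264d03a000133f50b52cf2827a2e40002cfd02d733c809e8c840008850790a16919334980b44c99459000002bc0240ac000f0012001d93202a0004c98c08000067b81582aa38f9699c220993113100060014005087f64c237044132601420008982b8390c9219107d800126083051aee0c1209026fc4df09c164bec9788e3835706e271192f325d482000992e0e80004a4f612a368e1c86138000a93c52721bbda25ba3,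
  nat_lit 0xa7d000000400050a4bde46102f6700d00004294025ef0bddf17ae00159440f40002ca1c01800106780cfdec93d94428c84d509a3287b1a000c7420e83428ef779099b2860f4cd8594289a371aee50197c57b650abc5dc8b91d065b15e99420041d10ca0c0100010004432863f0a9d620000000090ca2096dd5024328106440c901913281008cd5194000200000010030006443c8860f8db27f73859988d391a67a90c9f83906336b602cbdea3b27d29e7c6593e0a100060adc73136b264f8b28da93b67369c397993d845324a64a4da60e5d64f40bc72db279142000015780905580ab44d5b53e64f03104d432771940004231b5797e108e4091512365f400002308a891d2c23bda7f88f6a0a1185abbbf04120ac9d40c33a76bc4d421a81b2742902401939809,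
  nat_lit 0x25ee0ac97b82bd975c0afcca8c5b3f4d2ea4a1742be32a20589fc0ba941b70af6ca8426342265400040013a5b306d11fe2411560002e969d2f983e34129de1394274692cca7d94f0af18dc31a838fb29e653a904001329c1d0000849509276a647070228001125224b0496c0110ba000480307210e32ca68d38717653202400004190121065e60102c2056ca6016b759652e041968000114a03780000a40008000000480f401d803746f80000008018003042b39d4d5bd94984a6ad6d5b5f7589f365241c8a09bee9461427c99488c013e0ca4050800306b837d03e0b290594e14896d12d50f82ca3c229b632a48e1343e0328e4ac10859468a100000d5404835206a614d8649b28c1c6d0a19458ca,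
  nat_lit 0x12aa7565e3815b628e3e315665d195807f316262d9d5298bd32deebf195784734fa6c50d8918ac754265c995736b32e0cab44d000000080180030ebe1cc639899560b61a8ed9f86a60e6065560d46aa36826dbc397d95504c6dbecaa40080032fe856f875832a95949d5526324c51d5ccaa0ab2d2c8c148588756b2a70d63ab99530a1000073cce13c7978fed8285f832a50cc2fc59520ca]
theorem S1_c : blocks (facts 13 4 17 30 8191 131071 1073741823 15 32767 11 2047 A R 32) 32 JS1 19383 = true := by decide +kernel
theorem S1 : On (Step.{u} R1 LW par A) 19383 19575 :=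
  steps_of_blocks hpar hR S1_c (by decide +kernel)
theorem D0_c : allB (defOK 13 17 30 8191 1073741823 6583 A K) 50 2 = true := by decide +kernel
theorem D0 : On (fun r => defOK par.W par.WL par.E par.mW par.mE 6583 A K r = true) 256 6656 :=
  On.of_allB D0_c
noncomputable def JW0 : List ℕ := [nat_lit 0x6511969765356526939c61cf9680968e8d3e96a365485c1f61fb654665376377655460df94d496b6655862486247653a92f861bd969296986542938e6545969c6390963c651d654a644f650996a6654c64bb8fb896aa8dc68dca6566656596c264b196c78e44654e647563cb96ae95cc63b396d1656e96c89608656c646964d3655060d364cf96b265576190641f655c9268641796be96c4656894ae656b96ca64db94c26365657095ee961c96d46572655b962696d86575967e6539653d6576969096a096dc657896b8969496e096a496a896ac6563657a96b096ce96e4657c96bc96c096e896d296d696da657e96de96e296ec96e696ea96ee6580,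
  nat_lit 0x8e3664a7655e64a4647b95f895fe64ae63438942642595c3642f95c06467963364d66487962f641d95ca5f9f60cf9247861e924260d4963764dc8b7e962b962890de618a92b0618992f28bd492f7642264214f5d92aa957d92f461126118911260fc60fb52fb641a957990fc6101957560f665609618636f517793d0627a94a8633193d496cd95d294b28b74963096359639962c64d963626361623594c057f15073639694f56347635794c5846864a295fd6177649464938a1c64bf64c060496499961a95e864df96b5925a9660655396bb60f8961e64cc93a6962264ca8c00964c64f6967864ff9650968b96728d2065339688623d6540969b95c6,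
  nat_lit 0x8d49481b8d465b9f59fd93a5939e93a190147f1062458bcc61a2930743c361946193471c61c093257cca61999321618e653e651b65017eb6938662308d8e938a622e969f6239936c937894ea638e6394636d94ee64f064ef964b64e290b250ef6520651f8cc664e596775f3995bb645e8de295ab95a888ca650c96678c6c6453966394e68aca96138ace8ad864b99610798a3abd5e2a5e325e318fb245c88dc579788dbc5c2359093b0d3af98dc93c7d45c45c25960f64b49412960b9606647d87488db88e4356265c155ca7956e95736147957e641595d15c5063cd952d587363c395299582642a5dcf64399586647085e663b5951585d263ab9511,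
  nat_lit 0x65066505914c60f2924460f192625fc99267923e64c29264625a93b54f30624c624b7f24962564c85f5b625164c693a26274627393cf5a3a5a392cfd964f64f464e1626964f28bfa6522967b905a6524967d8cda9654965996486213650e9072620f966865171a1c5b3b8d1f8d1c5b755b798f4261c5939b95c995c4646c8956643b646a966f65148c94966b644195a6935661f87f04623f935a6201904c61d193375ec161c7933396846530622123c9700e8d3d333f333d5b9557805c058daf8dc35c205c09936161fe57af935d8db67dc28d2a6529968d94ed638c637994d79326623b78bc60e192535e9d924a924f639294f190be637463735fed,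
  nat_lit 0x635294ad599293d8948b632f590763be92ea9492951c64778a48586f6354841c51cb94b08f6b5de28f6059a659a54ede927e64d48b6e64c564d093cc57e594bd583f584c635f94ba7ec057cb93939395939062335078845b2f4f3532521d57ef3dce7a3a845d93ab5df3507494f263985883634a948894a591d2628394a194b9635a921c94b562a7941c5049507f8467846252095229950695d564794099617992e3616f92c292df95da95df8a9695e2648595ed5c6c5c6b8e0d84388a185846961795fa92c864bd94f696146058605791cf75e091ba91bf95f7649c8a4495f391c68a3089ea647f648a89fe648d95e478ee915860ec5a4c925660ea,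
  nat_lit 0x53f053ed4ba5860e4f55350a786c60d04f6962aa50e250e6521b521850e55a4b8f6e5dea90da5e058f724389614455cf55d492ae61487bba7bbe92ef92f192ec61878bc65a065a047c386b784354931593107c7a647295cf5a3d5cad8e6d4f5f3c283c1f5ca0614c614b92a861404f644f664f404f44618c5fbb9282611c9285611a92725f7390fe5f9c3f2d910e5f9a913e914353e23b6552fd853f413852f3853b6418927487c89576957b5de13c2390e25f6e5f845f8390e6927161047952926d5f7f793e79165fc360f460c9637194d362c7636794cf83e1517a3aa183dd5175324f93d362787fe88be462767fde635094ab943a634e634d83f4,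
  nat_lit 0x8df0840e8df563d063cf87c08652952b8df28a37878a488d58638a4742df63c695258636558395218a40642663b163a347715dd18f5f5dc78f2c8f5b9595959256de58ea34b98ab953bc855a53af63b863b78f3285dc951385e286575444290d53a0539f3fe563ae950d85be85aa9509509b8e358e328b025c995c9c58d864aa9605955e5c8f96015c9b8a5895f064a08df695f4649e960264ac58f394a2634594a78e10633b949d894188f4893e5769881c4026642895855c19571595815631958f6432883e958b956a63dd6463646463ff6490648f95eb50ca610b95e1896a63c1646e91335fb8541391179114589360d860d74ac85fad92415f79,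
  nat_lit 0x32c78a3c8acd732a587758fd8ad78ad43b07590b5903405972552919291a291d3ac239c13ab879872b921e513abb79895e2c22af21ee8fb45e348eba58f98fb7731871845e2f8ffd45ca7da3213516bc16f63a9c3a57726c3a9a5c163aa5744c3649363f8ad35905518b59013aea500b83f33ae979a91371799279953a4c76743af7799745bf61fc7dca3c7e82864ea47da445c3795445f745fa45b98aac64b28ab08ac4960c64b69415941062ba4d7658cb62b8951663a195d7554217ca259e8746554467305c115c125569561e3ab5287b880a56287e865c1c8dc15c1b54518dbb56226412957187aa641063c995687a9c614392b35c4a5c4948aa,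
  nat_lit 0x5be65be51f6f938d622c91745bf7622a8d88622593975b9762296237939990469364620c898e9368620a621861bb937b621692347e3e61b1638a60a994c894cd94be93c096475b1f5eaf64ed96448b92625f963b90265f3c4883909a5f365efd8f0b5d7e314c946d83a8314b5be25be18d8b247f8cc25b14964364e83ea3963f8d703dc170ce5f405f3b90aa5f1590b564456450643795bd95ac64590baf8dda5c388cba5c3b8dde637d6442888e94da959e644c4ba95caa4bb12c2a49f14bae650a645d903096649675651919eb88ce8c6b47a757095aad95b3645688f295af88da1f2b84f494de638256c2638594e28ad158fe7d9e58fa8ac82d36,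
  nat_lit 0x60e460e3915c8c84925144e590c75f4e43f0902390205e1f924d60dc9248912460da5e8d5d3a90245f4690b690ba5f44923894d15e792e535fef916b74285fe591670f50708524ef43cf24f72c3d73532c222c205b9c5b9b2c1f59f38bcf4814840351aa48c693c393be48c5624162427efc901790125e902c582c795e8e2c4248797f5d2c412c832c3020e959f559f83d2f42ea42e861a47c3e93022eb7112f7cb97cbb7cb643c15ab55ac7471b922492298c9861be93047ed6932261c2931e6daa33127cc921e1428b44959301619c7c1892fd7c0023775fe16503965f8d5e64f9965b7eb57eb047b647b947990bb589b46226441f5c008da93428,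
  nat_lit 0x954095a2644a61f693597e6861f461cd93522c3a7f5b2c3e5ee65ee590695ec841b33b2261d461d37d1a5ecb9335897a904145476e6c5ebb904536cb61ca932f7f0a46b6932b5ebe652a8cfe8d027e66937c938193859372621f238081d5236c237e237d7c038cfb5b507eb2700a23c61bf75b2a5b2e013d3340334478635b2c8cdf46962661333b7633577030b61cbb894a895089555c0a5c0756a7568d8dad89527dde935e936357b857b7898b4190897c89818daa5c0c23615c0f8db2460d440e44108d8d05f9060745ec8d295b4754c15b838d266c90652e9687652c8cf896835b7f6388638794e98ecc61a794d978bb783e78b8395321e921ec,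
  nat_lit 0x36267fe4497e5a218bf12b4d8bf45a2b8bff24d980e324d68d632d0924d493c7626c5999021c5af65a2456935a335a234b5a90565ed656fc5ed15ed50bd735278cd95a298caa5b2764fc96578c1c64fa8d6a8c128bc4964064ea937f621c621593755b718cea36b1906a5eec46185eef906e938362227f549371936e8d0429831a2078d91a1e66e0821d5b3e8cef3f91737a8ced2cb95b6e60bc39405b6c5b764a538d168d191d00016d5b738d1b5dc45dc38f515db65d7b43725db993298f025ba68d4f244f578457836bc6643e959b8db088669597577e61d7651290669338966c96715bb25bb18d5b05578c905ade646195bf8f3c9598959d61f0,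
  nat_lit 0x75cc6044325e5c57649a5c4e407c25168a434090407b587191c460527612604360505c5e2e542e588a2f2e4d7434585d89e957d589e658153ba71132648295dd89c489ac95d989b06120928b3f9b582858273f93611795e789f878ed39a473dc39a7393d1191786a5fde39385af08ca55a815a4e8c0f44e3925960e892545ad160e65a495fdd965d8c3a56fb91445fd473a691485fd24a684a6a925f9261925c60ef3e099136913b5ddd61115fc160cc5fb7591148d05eff907f625c5f0193b003cb7f667f6b509f3fff488b84eb3fac3fb03fe17b683faf962193b28b105f5e8f8a90d739335ded90d393af62547f4c5a1993cb7fc05fd7627193c8,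
  nat_lit 0x93fc9401600962b1940862c4419f941862c2838f505a504b837d65c63371507c8395084f52268465355c522452230e4589c0522b89c35206844f520563bc951b630b63a863a73f8b7b877b84385b409a46ef0801617c617b40d1910a92e1409492db61728a0692d792d47b4c92dd617492b46133615a92c064808e0489ba21b12a8a589c8a9258a98a706488928889e075bb75b6321232154e8d8e0f8e068e0958b743c95c69505f51fa8447074f51ec47393de58a1b58441aaf51f1584251e68a2264968a2692cb61596162407f7b066160604a4a744a7891c0604191d191c891cb581b3f79605591c275df75da1896325b3264274691bd60463241,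
  nat_lit 0x6de039ad85fd835f4ee74edc8f675dda36fd4ec1598d599c4923599f8b6a7fb693c4626e89bd57ea899889b757e3355458357e928a137aec3db3583d584e8a213dd1585192bf3e3a7ebf3531167547cb47c12fe457ce89a13d8b3654899d47bb507a5cde5066666c03d4748f2f29748c2f4d35341671807d198f3f6d89bf58523ddf57ed2fb02fa980692fae8850567a2fb42fb374a82f982f9b0f8a5df58f7f79368f768f7b506c27838a4e8a532e5f2e4758816348630f516563236324598162d5947e632d607060764c71605c605b764462a493ff80c0605f93dd91cc91e463584b3f600394b6635c921f921a60ac47c9606760aa6321947d628d,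
  nat_lit 0x923b90ca78449479631e83089421941e8168636a94cb8486631394c762b717a8517881d64de283de517c79c13b3e3608797f797a360731e1326350383960395f78cb8df9670632505a1283e4363a8be05a1537364172496d325d9496949b5c9764a8634163334ef3943262e281e6943662e06327949f945e82324ff3519736205915599059948b638b60628093db82ca627e598b591f834c948294877bb4431961848af292e66182633863378388587a58798a4d58745861557f5867586d8a3851845a1a2dbd518351d02f6683e6841f40df137551cc8a251f975dd64a1c8f6d8f625ddf109e77491f815dd45dd31f838b5e8b6574e08b6859978b73,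
  nat_lit 0x9281611558b390ef5f76861690eb288f384b55ae542b41313f2e8d745bd591115f98910c541b5f9655c35fc452f94d6d1e86860653e053ee4d43860a79e33b6879da79df3b631934530452ff85408190853d41cb77c337c22c9537c5492431e352f6853714f01f48853341378bd860fe79345a0d926a61083f2787b487c72146214a55d93ad18f648f6972af2a0818e82a0b7aa23d4290e55f6c411981fa5f6a3c195f703a0771b490e85f86722290f690f92866720e5f8190fb39f9610285208526926e6106214317127951794e3a433a4753b390f571f090f25f7d8548341e2a1b3a343ef638c07b4f39f0791405455fc6914159ff7e32913d7e2e,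
  nat_lit 0x55d687c518417bb972d22a7440eb40cf3ca600827bbd710e261d40ed7b9c503c431583708374948f4a7b43167c4d7ba84f3347207c1c8fe74afe470c4a256f48470a42da7c3b401742d842d7749442e442e342e1150b15161514931961b47c8e930861ae4715930c61ac4359525f61de4a2e53bb8bdc4a2d8e4f5cb04f4d8e4b4f564f5a8e465ccf8e755cd28e714f6a3c2761343c4e7aa53d401e943c2e3c2b3c25331f3c1c3c1b929a92ad3cfd40e96129613e5ca84f6332fa40048e393d318ea9372150b24fb45cbb4f2e4f3f37d14df68f908f9537974f344f364f3a466d5e078f9791395fbe348d913591185fb361223f8892868a6e580b611e,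
  nat_lit 0x50c95e416c148fc8940380d2610e927b4eb857fb927757f54f848e605cc64f8350b12627578d951f50b55f895fa02d5213a27fc54133304774e24135589689da8a6b39fa39fe8a6793f14ad34acb912b5fb04ac4912791225f57415a90ec90f14c164d41816794dd4bc14ba73e0c53575659861253fe400366480c74350256ac888176ac860953de4a1938ce38cd2c5d447c53f7861d940462ae50d662ac9407900059ac50e18b76816257f652134a2261e593464a2144fb8c118f715de84125425d5de644ea5f6490dd5d035f625f612aca5f685f6790e14e0d8f8d5e03439643953dbf7c93431b43852d3c55bd87bd543387ba55cd5a088bd73dc2,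
  nat_lit 0x537901036e18540c86274f47682e4d664d6458da818a5c954a6e31355926593259318af64d6b3fbb58d258e058d18aa69561955c640287525c8164008e2f5c92313b8e2b8e26069b8a578a541a765885841851805c608e0106b25c545c533634188b8aba8abf3aef2a8658f15c7c8e1b3e4d5c705c6f5529633e949983a65c7394958e0a816c4b16818d88084b34571f3e5b595e3e62576657653e61562b880c56360a675bd02d34577957768dbf88ed571c533988e1544f5387545588105621640564308dee952e958c959148a28cb148a6859c564d48a5955063f687fc63f99554640c933e63df953f86a263d5953b5b8163d3955b5576955863fd,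
  nat_lit 0x8787559632c8876d6a3e2f342ad058595864613d63a595055135639b9501478b478e7e907e7b476f72e01f998f5d476c8f575dca3dda8f538f3e5db58f595dcc69e443695da08f2a8820642c3e895d8795886435536d5619885d56e088af568339c78ab539008d0734ba34b338df38ef787d8abd58ee38f353b585e51b6b8554531e531c63ba951985fa8f355d9f5da814cb2a345da68a9d58c838dc53ac2a3d43ef093b5a0e53b867f2092753b6447b448d3aa78659448f537576ae0c8e43d229097244724985c285c73ff885c8539185d179585a963ff332a57e5f3fe663ac544385b4950a950f572314c1803c85bd11f111ec538985a985a60333,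
  nat_lit 0x70e170dc25c2555955473cd65541874b16f50675067e067c0682062f067b8db56ff2259b87608e1f556b55655562875f73ac2d3a29163ab62d393aa968a10b880b867ec303d10b8544bb4780477e2d437e82477c5447865f3a6750a05cae50a44b9a4b9e50a387829564640a7a9b7a981aeb3d333d2b01cd89e48ded48b048bc5c478dea3b3b88b348a93e393e317f7f51b351ba51ad4818481757e8640e956d879687c387be55d2708c250b55d08de95c423b1d54407ed233eb6f50840c5c4c7b794012400150a7401055994958495732cc887556a032ce8a2c8a353c0f920d609a7c3c63c4559d862c952295274f7f06c92f2c8635112b11285419,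
  nat_lit 0x5022835b83561607834372d83b0379a528313b0e3b0915f2720233e428336b056b0213723af13af23ae53a501a3e79577a6b3cb13a4e72d72a7e2a7c2a8133a426356af4134f3afb6eb4799b3afd68a47dba7dc915de45cf45f582894ea22b0e3b814ea03c7a4eaa1963828a3df282824ea67dd0898715e045cc3af517c77b133df73a4a16bb16b83a4845f957a6033d7dcd0d1a0e8431263b277d9979ea359345b51a7e1a7d8aaf6f34210558e38ac38ac02a9258f525ae15cb940b4d9158d658df62b281108118940c62b54d75530c3b7f52c63ac13ad658ce8aa34d804d728a9f3abf94fa94ff34aa6c4317ce09816c4117cc17c83c4a3c49259d,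
  nat_lit 0x10a0109d6a19291e725710a5798d3ad33adc2fc239b278fb78ff39c839bf7984402152a52b9a2b997321731d71982b94724f29121e906e651e4e1e4237118fc13ac422a222a63b7622aa22a5220521ea21e321e549e4802521e65e4f8fba5f5122a138835d225d198ea45d208ac76faa1b5558f740234029275430c227582b8c2b892757220822036e9a6f782733211d5e718fe25e7770d725b825aa6f452138213616e06bfc6c0116be16b70ca616fd16f86c0579753a9629df3a587d36452879773a980421042929421a4016ee79812929293d3aa37983287616e472112e862e832879402b608991f8771577121e32359e3603774f6b08518883e2,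
  nat_lit 0x8026802d49e35ef995b789069052645b95b95b0b90285eac3e27902c5eaa1f3c1f3b6ea76cf119e619e888d7570e88867bc4570636c17e9f1545326f479b7ea736a2570c88d56fa876ee88d147a488e46454489f88fc95b095b53e225c343e10201320103e0f570588d93c5d88d25711566556f956f388dd1c9b8f9f1f2c84f34a073e0752b74025225794e163805f315f0f637e84e08dcd5c264056931294e592043c777d9c45bc30f2359745ba7b7b4014218d32cb7fc96f7e8a3f586a14cd6f2c586832c47a2f7a2a3c122bc62b9d73283bfb8a4b732468ba137c79a179a379983b0556c4889540667c3242cf7c3710ab10b210b010bb6a1a7250,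
  nat_lit 0x9471631682e083af50ed383e83a05092509044094ef782d08d848d878d803f245bdf440359d28ba53bd8248119e481db8cc55b12058b59c75b1033f059e564e68bb05a365a358bfd3ea060143ea48d6e5bdc33ad5b0f5bc859ed3dc40bf58d5d50fc50fb36b62596184e035690bd5f424a975f2e90ad3f055f2c5f2b707e5f3490b15f33908e90935bd795a5644888ac95a1954c406c15426b830da50bac68a90ba88ddd5c365c2b5afa56cd1ef68cae5b08350c5c3e5c3d8de56fc28de15b070fdf454f888d84b64b9d56b9637a84c884cc4c0780b501aa4baa4bac88494c108e485cb45cd08e524a13529890812c132c2c73567db962864ba0802e,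
  nat_lit 0x5ffc5ffb916e8da35bfa342d8d9f5bf58d3082eb4f0d44042e715b998d455b8d340f8d4193898da67e8e5ef25ef190755ec25eb945425ec5620290423f6a3f6e89df3f6957bb3550936b6208485957c16206898860bb931d5aa2916c61b9931a46d060b1937791705ffe78e8607f917660c27c1023957e3d3825380d467f77a05ff9921960a191fe60a76368631d901e93b662665f27886c8cca8ccf7f148cbe5b1d907b5efa3152903590323e978b918b8e6da459c30bce29e7626293bd7f8659b993b98b805ea083b07b2a4c2f510e4b5e7f5e114e7f635f1c5f1b4b665ef59078907d3142260175573140261b5d8231495d7c8f065d888f08260b,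
  nat_lit 0x922d60b9920e7f02619647f9480192fa61a043c47cb27cc1686447e343d17c98931661b623e0204923d91c221c171c1d7bfd429c330f53be33141c1421dc21c726b321de6f6d1f0f429a7bfb42994288428c7cfd7c0a619a403b344f92fe619e2eac0ab77c17745c113542b523d57bff78347bf6429f42a2824d4e662378915b8ca25b6b5bc48d6d4a1e5bb65bb521415bbb96538d5823bf47a83f013f027ea847b1328e700247b47e967e9d04501ef01eeb1ee957176edc0bb37ead47ac329b47af57df354c441c4f00442024582467246a5c0224698da4509883ad34274cde4cdd81134e1a44153ca1066b067206706ebd065c066f7eb85bed5ff4,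
  nat_lit 0x480a48117f0048c3569a2c8548cf51923f0d51a783ee362f93ba6264493d5eb446be46c223ca7ef246c1900d443d4cf05e87900a5e9a20df5e882a523ec0900e5e8b735d2c662c642c5a1c21735b2c7e2c7b73632c7673611c24487c487b226c2c482c4c7f595f10908c487720dc6f251cb12c8020e173658eea7c8c2c2e437e3fd143806f2720e608f359fb59f74f3946778bcb25e93d2d7a923d298dcf404a42e784be528f52903cf93d513cf3745f2eb40f7e65f4112d11302b1646242b182b158a72349f3d1f3d6e7a8e43bd7ac643b58c775ab838758c735ab30b545ae45ae38c9b5fe65ac85ab060b492278c5e60b2921491ec922060b75a84,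
  nat_lit 0x3950394d09bf0c2d68cd0c3542a971600c364a605abf5fe278b32e2709c439495ac52e2f8679867644cd5e935f4a5cf75f4990c490c9512e5cf4513290065e844c9925955e218fab1f335e178fa75fa25f558218911a5faa8ff241675e7f90115d288e925d278ec28ec68ecb90c390c08a1e8e8c5e9e5d2d60c65feb92325aa48c6348085ff25ff18fe85a95916974325acc5ae6375a2e3c2e3b1c775fe89163750a30e1915f2e3424f524f270870f52044b69bd17c216ec7083320b150724ed7cbf43cc13ee2c1a734f1ba82c185f0390950f4869b90f4124e40f4d2c2404560452044f66925be814e366908d432e698bc97b6246d611d324f04812,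
  nat_lit 0x14e9191f6ddb5773577a30b52f82749e8949933b8d52576f55755572887b8863246f1cbf568b886030a03a89894e577c7ddd7dda3c89460f46073b8c57b079906ce489820eb4898d6bb057b58984897702d10061418b41ae1f8968ec897857aa7ff74994236723561e776ff54609202f3c7970512462245e05f705fe05fc7053246423650608060406038ce48ce91a225b3c5b375b48346d54c386c545eb54b986c1555f875d54a95b7b55675b4038b15014344918be18bd18c28cf78cf426695b4d5b4f18a8546c554b8d25867095315b7d5d4e5d54082f5d3e5d3d2d2261aa930f7c5c5d43930b5d3821f021f56f71387b21f72e29681f09ae09c0,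
  nat_lit 0x61c841ef41e9932c93318f4e123529a4481e482222667f0646b547fe1cf77eee47fd52936e765eb35ebc7dc445e98d010be520265b558d115b6486b246b046af254d922a621a7e606205621047b3238f4dd916db4ddc4ddb203922e822e56fbd6ff8498222eb23cc701118e61bea237178dd460b8cfd297b23c26ee622f923c023ba0bec77ca480223c56d9f16631bf529848ce05b4a258070c5257f0138013565c52bfd3343335e33547637334a78656d7438b339ea3ef838b55b28297e23868cdc5b538cf23286328a4694469a7e557e5226632664257b712b265d196928ae762c76312972453033396cb230b830c8750f750c246c2cd68c4b1cbd,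
  nat_lit 0x1624162116288d4b5ba06b36568e88643175935161ec61d96f16905e5ee03dc942cd7c288d548d5741827b1c5baf5a432b6b2b6e1e300555055c055a8c935adc2b612b665ada2b635da58f2e5db2884a8f385db0643c8f548f0e63f0954f870463e263e187de63e76446934a33527d427daf46b2320245d57d92934e61ee2c3983e908257f6948882ee441989065419c41a05ee3906241a441a8904b906d5eea5ec7418d59498b254e9f8a7f3b2061f29355528b43cb7cbc7d19122a1221450390615ede5ecd904f79dc6eb241b8579d57a81e626e6b1e5e45351e657d4f36b26df61e671e701e6d1e6f903a903f46c67eda7eff46ba31ef36ce36cc,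
  nat_lit 0x30652fe95b56396e78d578d06cf91a261a2491e76073397378de397578e3055f66de0564821f821a4e2d4e3282214e2f5b428cf1344b89255745574c2986296b764329882cba2cb577ab0c1f2b648c3e922e60c0923160be469178a478a8393e394433c678ac32855aee5aec0913091b091e5d688ef567f07811382e2a2838315b458d128915573e3f731d051d0a1d027e4d468e392365d10156016a5a6f8c1e5a768f1e8f4d417e41db5dc18f4a4b7a5d8b8f414379437c06b6316f48434371899348577f268f495dbc37038f45453d7d4a260d43745d608efe5d638eec1fb42f5e2f5c5ba874968d4c1ed76b3a704570492450244b8042815730a7,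
  nat_lit 0x4cc080f980f48d675bbe76fe2d01739f027473982d0a138f4935626a7fa259a259a18b71361d6db88b67683d68380861021e021066037fe1497475aa497788691e568bb68bf956904b5c4fe883ca83ce5161269a907790585eb13d355ed24a4c88c75700411656fe88c543e45eda5ed9905d79d2905556f768b30bde0be268b10bd40bd25b248cd78cd2352435283e9d8bef2cfe70708cad5af832ed2d1a73a28c1b4a354a325a598ca65bb808055af58d605bc235ee3eed5a518bc38bc03db959ef7b2c2ddb2cb15b315b38772977266e5636af772b05b541885ee83e5f46c87e6b2437461a3fa13f863d3a90713f8c437b437646d55b5b34b65b5c,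
  nat_lit 0x48e948f2200b1dcb3ffd7b7752af851f3a3384ef52b2318c46ce3fab3f817b5b3fc60f993fc97b6b37b93fd53fda0e35321d7b643fde860c624e839c50ea93a86258309935114f595f5c5ce32d7b90d45f5990d95df75df820d68e7a8f805e0178a711ab7474392b393478985df08f796f226a708f75392e7f4062527f507f5693ac625674fe308f7f4b03b86a5e486b8beb5a1c398e8be75a17361724a57fba7fbf39964949494791555fda39909151914e8c243625376c73cc376b841572e87fe7497c08ac6b40497a361202922db173d94ca480dd2b4e5a2e73d233ba776a8be88bed915791525a1f24d302dd707d70796b1224e270744cab80fd,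
  nat_lit 0x413b2cc589f53f5e5821581f0efd39a28c3d5a7a5a792d8973df0ee12db873da2db32db63988398778eb4861118c119273e32d872dc62dcb38cb2fcd7cf67cf9392d239c3ef20bd95af23ef08ca0934187d047438c45474b474544f444f97d13080b21837cff92d1616844cf8c9f5ae85ad38c875acf8c2e63d6868044ed8b79494b59aa49415fca56f5398b53dc1f3f2d262d1f22cb914b5fd02ced73925fce2d174a674c5d0056809a93f2629c38c978f92f9d4c3839bd4a5b73b72d552b7d2d5b8919351554285fbc73389278927d86025de5912f35a34e315fb591314ab28ada8adf519083ed115003ce667503c903cd03c566777f0848861144,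
  nat_lit 0x274c2743124f1caf6dd075d5323e3bbf324275cb75c8168c3231113b10668dfd5c5a07db198a197f19896cd25e683bfd25112514245d7091708e251a081467a3080e0812510583bf05eb05f105f4499d05f34093604e75fc75fe2090299d76110ce168f832f391b9322b75c212e98dfa5c5c5c6247eb8dfe2e5d2e570cf4742c2e61743b2e4f31916e20756e3193757374372e500a4b1d722e4a048b2aaf89a5354b354e57d357d648924896580e5812362b89e22ebd3248323c54ba324672de10630af96a4250d3521157f389ab89a8488f57db520d47343bbc3bc089af3bb43bb857dd52e252e185239367899a3f9c73b489ef53c589f2581989fd,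
  nat_lit 0x75b33208042327994e89839322e651fd1673520051ff84423d806da222d9676b073c07508fed4ae0473054d4472d47338a1784441f7b58415c6489a652f430ba2ca06d276d241ab0844151f422d5843d089120678ffb5e744afa8230944b4af98a51587e2aef1c5b51c1585592c78a14584a615f92c4616c3e45615792bc7b033c060be13de18fee5e6c7b007b056afa3dd83de325198b074a733f778af8593435673f7d8af44a775942591d593d91b091b74a7c602d919691ad9186606d60355824582389fb1cb71ca189f13f7b356a7f13482c317c7f8540c26037604c6ac23258197a25133256322f168f12f31894189818916c826aa30153124d,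
  nat_lit 0x40a940a6293338506644385238593856782054db46f0409f3600218b771107ff679a0802928c9503576192e9618092e440cd40c97ba15f94726891025f925f8d3dfd954963ea86e661656170475d62f292d892a24775479e583249ae8a025830614f615c7af23be737147b4b7b483eef3ef592a792a44b1092a161367ce4929d6131892c7aca92b861546f87222422226f5b21ae6efa2a912a8c2a96789372dc21a958c08a953b3558be58bd2cd358c458c38a9958898a7d58a72a8f89dd58096f8e222f580d05150a05079631f80a07320d0a140a183210321875bd75b882524e8e33af0696069367358e025c6612b558ba8a7a8a8f2ca42ca38a8b,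
  nat_lit 0x5638881f4b40917f60064d99917b4b4b4aa091f191ee49ec6075608c91fc77b577b274f237a57ebd2e85606a91e1768a379b91dd47c6947b946a6319500d628f93eb4bd44bc393e762a2628b93f64031600b918574aa506191818b4759766c48941b62c0814a596b62be595704d050584bff4c00838c839150565051838b4b534a9a837f33754c8a03de013f0146014403240320031d337a0401031e506a946e947314014c8780bb67bb0852085076c13559357657cc35608448809f4c47355b0e3e69690e3b74620e4384616e8c86f71eed0e4769660e4a844a845125293baa3bae844d6aae597a5203473762f1946394659460630940a3401f800b,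
  nat_lit 0x4c3a80672c722c752faa4d596a261b744c3d62926291806a8853567820d40d6f56762fa556801c2d88542651884c567c50708e7c5ce53db43e482f96176b17612f9414a46b5f14a03c367a3d3c3569c90f8e0f8c8f7d8e82505d17713a2c3a2a666e11b93a285dee6a780c5b72387f3a485e46cc57be485d372c7767667a2781719e27863bf5587c2afa32b875fb32b51c6a2e45743162ef94674ac362ff630d94464aaa590c4aae532251624aad52208b4a8b4f14a78b16597f944562ea4b4d942f942c8b32601d91e8607a91eb607891da2bd0013b336314b14a1480bf80bc4c894c8d91d960624c5391d54c854c04600e600d8b280a6115678423,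
  nat_lit 0x49308b6d2cbf7fb57fb224fb493f7072685a506e899057c84362899457c64830482f35568a0f583878a28a0b8a0823b78a11583a12053d9c7aef00ab3d983d971bfc3dad7afd7ae60fee262d7763884f3c3937251c692aa47ad58f138f103d7f09252409240e3578240d76c37065249a24066bdb167a16762e9747c2328141e17f4530672fea2fc72fe3899e89b332793d943d937ae935d576ec7adf352e357a2404352c7f1a483c3f188d9547bc56104aa44b4e03ec6a53116303ae03aa03a703f203ef03f4667903d803d3674306c606c406d506dc06da06e367442f4a667d03fc03fa166e03f66bd94c5a4c598083198d199001293dd23ddc372a,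
  nat_lit 0x430672a050558a5d58872aed3c3160244008895f4b9640078a3b4049402c1b2f277e277c33567639277b361f51c636188ae68aeb361b2c096d802f6513881385137f404440437bad7baf7baa40dd6b07137a0fbd8add590e82bc6ec51f941f9187d287d5424d45879349424a6ec11f7e075f1f8f36f345a1774a36f5774d563a56174b31598e4ee3399a67823040303e267b267e303c599a7fa63f4f2cd873852cd51cd41cd21cc053d453d338e8399578f31ccf502793d7833c8363502a402e82c082c378722f124ee54a9f50c35dd84f1d5d0f5d1a50ba10a6370036fe82a94ec413ab82a54ebf07718b5a8b5d4fd27f9f492637bf7f9b413e4142,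
  nat_lit 0x373a32ad3735179c6c2f1797179f24a7814983da4971603a7fd87fdb24aa633c9440942a19ff8e2c8e314fba4fb982f782cf4ef02ef4943f943c8aa881bc62d881be4f944e555cee4dee4ded0d45943962de81dc81d262dc81e29481832c832e510d9456630693ec945a630449647fd5457349624e4618144ff6832b804e2f8483274e3551c451c3841059868b578b522f7b8ae31c4d4a8f627d948d430342fd80114eec4eeb49c58b128b596b8e8ae05989502f404059174055834b83222fe150134fe349539485632a603c8334632883387c4342ee759c40e440e36ada593e8b0d15af5922405319ac5f91617e40735939633594914dea4de98387,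
  nat_lit 0x786738be38a339e539d739e87b533efa39e70fab2862285f2fdb286538bb358835870fa7054266d666d9818738a1790e4674467237b58b2d286d3e68466a46693e6738863885784335a0359d388962bd63109468323973b88307443f4dbb4fcb17bb49894d452e3850958485278850895247810e62a9940f836f503442f917aa6c3117a76bff16de16dc503a837343104de481e1293979bd3b3779b017b23b3c1f621f6579be79c316f012ca6c0375a575a217931699836c50363958252312ba78c23955396475dc78c7206512a8395d78c43254324d65da018705ee05ec840b36396c3e12ec3637517e36434620363c48fa79ce376049798be312be,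
  nat_lit 0x27c172ac2a0c1be337d61be627d93d3e28053d48775c7aa69290612f3d44873f553a411b4e0672b26c9e81f64e092b35165827df7a333a127923146c3a02791d383729576f02730527ae27a427b028b028ab28b2285a2859720572067209285d38394c306f062870286f2794852d52ec76a067d652d152dc52ab52df851c530a5309854b52e652e52bf0010d0112010a010f559f87913a3a794579406c0f171603bf3835383c054e383b3a442c337948794b08c36b4a3a41794d53b12a2d223f67223b5828121b1e71dc28115f7a71e271e628f3852a52ee85444d87852e34184e242a32341a8da05bfc2a2272b706692a1572b52a11791339ec38b8,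
  nat_lit 0x6b2a55b187ad851a52d7852558dc8aab4d6e2fcf81ca4dd01e88292414fa3b603b6608961a9479e079e515001f553b5e281779d63b5c02ce02cb66356ccb1974193289cb4eb11960530685476cb0340b4d9250d53b903b8714ff79fa4d8e4ce72cab37c077c777c537c837c6349a8ce32ca721ad2c91736f2c9e7f9c7fa508d108a708d631f075a908d58534853938bd6b716b6214ec14f814f514eb1f4a6ead00f42d4f439a1f934a26934261e26746222d793318f718fa3a278bdf5a103aca8bdb223b2a253f285bcc3f2a438f55c455bb214555a27d0a879255a155a5215121492f4874892f46171553da53d986053acf80e84cb916682a0627b9,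
  nat_lit 0x3e29929340e65cbc5cc24f801d4a1d471d4e330032f96e0c02033d257a978ead5d128280371e7761371b8e5c8e9f4f214fb64f194db98e5f5cbf6e0a8e568e5b82d44dfa4df32a6b2a7637cf37cd45814e364df58fac5e0d90cf5e288fb143871837009337a718382ae177a737cb467046415e805e1d5e0f5ced5e118f9b45d97dc1348e73069128912d589a58993b018a8c58b58a9102cc58ab8a8771c85f7446533c213c1753f253fa53f98610288c7217288883c95110415638483845781d2d412d462d44439f73b03f5524b8706d24b35465546a24b48d838d7e5bda73ae8d788d7d91018640415239f739f55f8a863d3f5131c386392e0337bb,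
  nat_lit 0x175d344642ba30cb346142b85e618fe45e6e8feb5e5b5e644305438b474d214f2154213f56b6405c1e2b1ff440197b81400c1d4d7b7d2f3a2f2b2f541513151a151815091510150e0bf60bf20bef6f3121000bf08edc61b27c845d785d778f05876b55804bb85aa88c67471661a88ed8527b1bcb7b28435b7c607c5e7c7d4727213d8c89472530d95245934561e0528385e185de6cfc50a88e4c5cb25e145e135cd76dd25cd98e798e6e8e734f157a4c929e6138368872a63c4c4b8384787a4a3d3c7a9e7aa11e9a1e7d1e933178330b761f7a34449e368b7623331c331a61263d2779f202c16a407a7d3cfa7ab33cfe3cb37bb77402612c92977a10,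
  nat_lit 0x425455e5425a46e842624e3a8f9c90cd5f534f0f5d058ea14e518e988e9d5dfb90d13a217a1d3bf83bf67cdb11192ac982174e26821281fd4e0b3414164f8f848f897c9743577c948bbd59e83dbd2ac7181a7c913ee03edf7b3d2d3e24bd492955c087b33cf43cea87af3cee3f2321640227543f55ca704e183a182d6c5d69c40f89183f702d241c187b188724182a6c54b054af2a6f40bf7b9f37b78cc18ba23c933bee30053c940080008500881d561d5326021d5b261970fe72d52a7a2a71261e711167141ed840c740ca432a430d42f13216592f8b0142f642f504e77c4a00877c4f24b7136440da24c0404740d88c8a47225b6860ae8d1477c8,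
  nat_lit 0x589473003a0b8a6858918a6d3a103a0f2aea2af53a0d58073a0439fd6b5014663a3d791a62976300501b93f5629a80905fa64ad972cc4ad0911d4ad64ab85fae4abc13a182f882fd911e5fa83a1741594fd7831d4fe04fdf831b4bf64bf576aa80464bea804b628893e380383e0a574389165729565d6c34534f85913e0553f47cc21e8b0c850c82694368e10c8a0c8868df0c7e0c7c56aa32d78876887e88831751350676b16e320f26350956c8908b4a034a1738c3786969467cc444870ef71efb8615447890038ffe5e7c3ae15e3b5e7a6b2e4d3359a84d3e81653b964d3a4d39787e3bca520f845761e861e7934d39ef7e2b427587e341224126,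
  nat_lit 0x7d6882f536563f263db954a49e74f1a560e560587d8560c955756414fab61da42192f3361dd953d86ac86a1547544665499869e417063d89537868e867a953344478d2386b654f363f4955388165648882b36775578876303868e2863fa5c858fcb5e438eae8fc28fc750c6172c172117303c466cb880d1438d184b4c9b610c58b1588f3f5b670a4eb64eba829f829c89cf57fe17958e635cc48e505e3c8eb48e644f8a4f8c5cc8777a3751371c1d5c262371178963579037090fe00feb86198eb75d1c50b6564e548b54252d562cbd2d51494e7fc3081d13a413996b114fce49513cb9495a7fcf7a5c74eb28c6305074e5304407418633862e5416,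
  nat_lit 0x4e49822283a56c7a4e5d508f8e175c7630eb8e134e650d574d5091f460864d484d4712746e001d1d4d69942962ce818e561c561b3e9870f525ea20cf25ed3e5c6d903e768b2e419b8b3159603e5857264b1340a188f86124511d4b14893b2127772c5763893d880f545f49a93eb260824b2f2d2d452b7d3a684f0a6404328d7b5bd233f6894d30a919df865c5774544a1622571a161d0b8388ea88ef4a3c88bb4a407c7e20b34a3f865a544c2d2e4484448885bb8665545843dc866154533e718819881456345469562c546695676408877895638834876607d58de65c4448b65afd8cb95b008cb53e1b8693548c2cad536a53683b1f565088336fbe,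
  nat_lit 0x65b465b700fd581c85ec1d7e147e01a51d7c51a986290c4f538e4f49531728734f3c879509fa09f309f44ce380de4ce830e8752019fb752260208c6e0a01754f22c2253f31337551592832200e4d682c8aff72784cca80ff17414cc852b984f94d6281894d613fb87b577b548aa08aa539db8751874e738c5c888e255c8706805c9019f84a895005833f75557552313c8e1c5c8c87e88e205c8a09f66db11c3a1c381a786d0f1a747ed847e8320f07d807c76791673a673d06b112c200bf12bd39e0790a39e26c7d188866c439cb58ec241b72db2a882a8469b2564656435c7e88288e182d132d142d0f3e4f3e502d1155325531873933d633d3872f,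
  nat_lit 0x8f832ad438da53a985db43ed178672bd72ba2a276f94789d67f5093809347063249624910930092e0921531a8559531900c30928558b350466460c7968e30c9202fb1eff1f021ef21f01724719ae290e290b724b6e7229062904538c7b6e32b328952892721b84a91dd0289b784b38940f82389778483a617b728c565a9a8c595a987c6e32a332a66e4c3fea46a97e5c46ac46ab7e63858685b1306285f0537f865538fa34a985b3340c3410538114b714be14bc14b914c614c44a114a0e80414a0b4a0c6b9e11ef65b211f811f26a8b6a880101010565b9039a010746e40edb537268a22e9385a453763b9245e03408664a03360334149b803f147b,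
  nat_lit 0x1f9b1f841f9c55de87cf7e785dab5dc85ba4135a1359135e5d955da22a41109a5dba31550ff00fed0ff48f0d5d8013667c894366315149cf8f225d9a668c3e325c2e902f5ea83e8a4b2262cc4b1b4b21859653663e92880753614aa988b11f58561288030409668a56158905854f530e52c578fd39c439af2424702f24217ff07ff324225b5934c85b8a6bcf164c164a38f438f130927878787b1641278c1b191b226d6d6d681b2153141678248d2345854c531053483407855004f930f185f985f653cd53d18f312a4746f353ab8f29417d43fa5d9d8f262a37588a178c14c96b6414ce2a3b2a3872bf2a422a3f72c18a5a58c634a634ae8a9a58e4,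
  nat_lit 0x217c2178217151b951b651bc377051b42ac2400e919c60287fcc3cba2bcd731249557fcb3eb15b183e6d1d48569e0c8731e4887256a2585a42dc2f582bab3c047a292037203a3c0d92097dfa7750609760a2466f46236098775a7dee920a609c6672540f559b8cc9887848df289c518d48e74b88896089653db62f537aff01f201e901ed111f1126111b01d15594152615298784878967a90820081e2f3c2f312f3e02071124112272ef2ad82ad62ad22acf6628585e8a33841637738a2b2acc85d753a63db151368e905cf8639e94fd8570855e94f94a4541a34f04442c47867e88442b848d11f53e477db334942a9c0edd0ec12a9a43fd6a924da0,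
  nat_lit 0x689f0b800b7e0b8c0b7a0b8e47cd3f3f13e97ec747d03f0b287e287c6fdc7ced44be16317ce93d7b22917e8b47823d843cc43ccb184d7e85477a3783443247783f1578ae45223a543a6443483a534b99849f52555260849a15c4528884c352858781877e873c5593340368805589640641773d1d3d223d202ee02edf746f1ae76d381aec0130011e65c365eb01ce01335810489c3b4f7f8256e5573156e888b753593e3772e27b1b3e403e3f7b1749007f7b3e7c8c23362c363012906ab26ab5128e06c2708a47da7ed1250f2526250d709723115c4023083b2e85893b2d543c865113fa7ece47de47dc0b6f769333ed2837768c769177893764065f,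
  nat_lit 0x23276fde79f579f779f03b7d85fe399f3ad558cc4d883b6b18216b3c4d7f6d1484da52a64d7152c26f9c84fd84e852b5639c945492d217d17df446280988098409830979097d680f17c416f312de7a482a027ab13c505230432218cc6c9511cd7a4418cf7a4725c570e317d625cb25c825ce17da17d811c909aa17d225bd7af73daa3cd53ba93d023d5e87453ce020bf066d06670678753f672e31161f5d6eb71a4a6733068c068a75410685311a062a67190629236a236811c42353235e235c751d7518259942ae7a4230df555c555b03038756556c35ad875918c91b315548554c56322d3228a9162b2339724c29140b8b5a558c1475f975f632b6,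
  nat_lit 0x79ba3e143e8358ac828c3d6b43bf4e9c7b0e6bbb160b15f46e4b1e0015ff3dfb24553e2c0ea50eae06013df869863df50d080cfb690b0d066bf10cb2690d0d100d0e6c070d0c16ff1e0c1e0a15d60339664e033e0ea269850ea1690f0d1c02d30e8c0e9c0e9a697b0e680e863b2539b459583128754707e182853c723101534c3b2831183b823b8579f93b723b6f22c0359076d32b1067eb090a036f090d180b6d136d0c1a7b039025a525d068b6210821060d4b70d325a725a220fd21036f3338d46bcc78716c8025ad70db0e960e950e986bad15c7697e7a0681933b71248b705e58d4210d4ca94cd618184cd9810a811781142b434ceb4ce14cc5,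
  nat_lit 0x799f1357216a2dd4222015eb71f571ec15ec3b163b1579b31b5f40353ae715fa15f815f12844264a283f71fc28492855768f33e61863135513600ecb13636afc136e199515d36cd71eb11ec7199933a07673339f6cff1a441a4233a93ca23c913ca57a643cad02362a782a826f3a33a27679767733a6283b30e430e3263730e77cd3751e1332132f07ec6ae813411343134a6af7133b1a601a55178a1a5e1a531f4479aa3aff79b53b1a3b19753c00eb00f000e900ed0b960b917dbd45e445df2c6b2c684c2615dc160e0cc42c522c4b15db0e096fe8234c359a76db234b8290829502c34eac8293309f4ea8828f2b12196619650ead3b383b331035,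
  nat_lit 0x8909573216e37af53da83da40b6716b416b31b354d1e6bf203490ca30ca516fb3deb3dee17b06c3316c45116572e1701396d3a9430ab54487972729e299b727a727f4328430929a17d39452433bf5d538eef7d3e56e63b45360566826d33041f293f294829466687042604247468572a29410b0d1097725f16eb725c2927726b7266293a15c8097f15c36baa7ec43f43708124ea00cf2e7d503216912e7b2e8a092212d32e6c2e6a74467440744b9207608b6094889091fb770a0412040e040b3641041136461e3773f52b6d770935f835f61ad61acf36fb502049fa502d835d502414a283598354501e1b9b1b91501c6bb515f7688616056bb715fc,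
  nat_lit 0xa6a0a5c6851051a0a170a6d775777523707370b371210375e3e8fc53d4f7db73b8f79ee0c2b79ec3b7822ad76d52b086f6e41057bd378271f1d38604a598346501921f249da2e1349e849d910c58fd58fd21aa18ec18ebc5d258eb34f244f2a8eb95d1e8ea25cc15d0a4f232281229e229c6a1f10c010be6d631b5810bd76e2770635fa719431b86e702737750630c6750930c4275c2b847174714827317315272e27072b877317220a22071a921aa922016f771b5006376d611f141f131b53718727352717272b7183271f8ff78ff43a095e455e5c8fe025b525c677596f412117211e2129213b6f47212b212e009821316f4230cc16d516d816d6,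
  nat_lit 0x20f814e16f2a7a6f3cbc2b8b18e0203c20334e6c767a368c732d2bc51e60301330162ba6148814852ba47a273c0a368429762ba22ba068b80bfc0bf9138b13822031888a56ba1fa456b156bd889742d420fe7c3542d242c3230210ad2bd479051eac1eab6e7b2cea2ce610af725249f64a8b6a1d10b810b610a810a357b20ebb1098896d16d016cd16b16bf8292019e310946a17109189212beb3adb34055b6036ad2fc02fc52fbd78f739ba39b7249d39c239cc3aae3ab084df2974732313801e49731f1e3e18db2b972b9e1eb86e7d0eb71eb6758a31bc1e55274e1e4c1fa1719627521e782910232d31f490391e966e631e460d286e671e441e52,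
  nat_lit 0x1fc840f11fc341b74efc33ee75e73272154d788b390c3271390819c578870a410a26369e418736a9771e76e635ca35c822982297229a32680da075e33266228b269188e33c63207989273e213e1c88fb88404bec3d18154b1af53d1657503d370ccc68f50c980cca0bb1201488cd6ea21fd0258625857a5371467a503c5b570a7a56326b3c600cd53c644bdb4be67a5888bc88c139936b43143e0ffb144108b11c855e1a8fa34ced803049f54a056fce2334225b11b122506f9b5d335f0590af5f0d90887354773c8888609268c30c200ad70c230bff4b182b0c76d7700c12fc1d381d2f218f21921d301dc5200822166f7c22112214401c401b05df,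
  nat_lit 0x12890f5a128c128b230a22f00fdc69df0fdb84c5528c420b41eb7d5341dd52865d401dcf52784bb384761b5b84c701214032403684cb14804c8331c63cb62d487a6d01b001ac01a95670566f1c30317a7567317756755dac4bc95f1290914b8c734573422c062c0f2c0c2c0515a515a80309174f6ba02c288d3b5b9245e393e093e5606e8e698e664bfd69dc49d549f249ee802b802849dd14d580218023412d49e15ece56eb6ec68cd58cd05b228cbd8cb656ca5b175ea25b053e25892857543e805ea63e84725b1e841e8219d91e7e6ea51f426ea91f416cf319f201b42477247c19e18bb98bb4247b889356c056be35bf76e056b21fca24a37387,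
  nat_lit 0x32e776068baf3e753e7859dd74e72bb3301d30498b832bad3ea8918c6018918f60163e9e5bc62f428d684e69825133ab0a138bba8bbf314725fb59eb2ee330003b7a74c6300283b346f5510083b436b8772f36b56658059105946c670593185070cd70c62592035a0351035590b95156515a5f3f631b9477037c66e870d982af4a9825bb909e90a359c162605f255f172e0028e42e045bcf90a73f445bcb5f2990a97040244324e92c27412b88ab88a856d956dd3c5701bd154069350da60da374bf1e110baa683e0cda0cd85c2963e486e256ce56af0f5712835695886b1ef86e8f1ef58cb25b02483e76a834fb350054f854f71ed086fa954263ee,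
  nat_lit 0x8b873199318b3ebf36bd3ec63ec22a5f3ec480614c32281b805d781434424b6183c646f9487e7f612c34488448817f656a4d115411524b639097745470245f1990997a683cab4b65945993f882685ea55ef64b58181270fd25ff71fb2647283c8dd23e3d5d843ec83ecb7b2f8f145d925d6d7c8b315d436a21a4260771055081631450692d6d2d7282df2d69765a4f0350963ecd50f8314506bb76a77816781934fd508c83a3194b508a34f92dec03e2839850864efa4ef982d73ca982d321694dab82cc4ef433ff3f325bd870612488248659d624828ba0811e4d0124931a021a064ddf33f9872d33f566eb058e058c8b9f59cc248f8b9766e619ec,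
  nat_lit 0x698b0eb869887f28484c3552453a7d49436d306848657f472e7448517f39899757c422395aa606af8c5a60c492375abd7e357e303fbd463792233fd75ff63805430f0fc9394b78b778e411a1394f4332846e523a43364335397723912392237337fe5bf8341737fd7807343277ec77ef279327bd380777f377e737f477e2378e35db71528d9c91733787921760a477969213921091a05f4d94755053311e901a5e983f605f1f90a556a8887d288a5698569749738ccd5b1a3eb648407f2102e0364b5b0c317e4870486f7f53347159b6492d492e8b8459bf1bf91c061c041c0a1c091c035a8c42fe2bae29e329ea29e8021b3194490d8b8b59bc734a,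
  nat_lit 0x86f586e83ced1f0a1eef1f0c6e931f04086932a047aa329932967eaa7eaf8c375a72329c441b52578497476547a07cd8442482dc82e5245a6b3821741fa61fbd70541d5483ab27694cd4061f180e81084cd18135141b810d142b4e224e1f81fe3c6b7a5a7a637671672a339d29aa1b6e0e181f7336821dcd368179c890516ebb1f70133f6727066206607451744e14955bf08d993f1e6cbb194e194c8d968d9b21c18d925bf32a1234cc8d2c5b8882ef4f122f06820c82e94f0987154f0b4430743f6cac12d92e672e726ca48d395b901e808d358d32169314ef8d905bfe4cce81033422250024ff34213698369790371ed31271453e90498d0c6e94,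
  nat_lit 0x317342817bf95e268faf429721d26f6621d421d042906d967c097c0677401022688e7c0d19b08ae5403c7c2142be237534503452825d2eaa779f21b7378d779c432d21b86f610af00ab80ab40ab3028e0285028966202eb22eae0afa0af70af3701520411da519f1783238707828220f386e4294386921d87178271542a15ad48c7a42a736917cd444a236938e145c7818e218df18e4824f18dd66c85a884b075a8374872f442f40700723bc203530f830f58c0968ab0bbe0bc00bc3700923b86da044bc329180e480fb32921ee6045524c61ee480e120f30c0c0c0a0a8168bc5a5a8c18700523b20f2323a723b023ae442336a5065668ad0bc40bba,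
  nat_lit 0x4e9a4e9917bc43a534937cb5254b5ab67e4846988c748c79387822bf783d38737836783b8c648c69049c313f5aab469c8ed10aa50b5691609165387f5a9d470e5aae8c6106865aa07e40467d5a9e76ce9178607c60919200609e480c46bd7ef674ac47fb7eed157b47f17ee97ef548047c687ef17ee641f143c6589e150d15c143b843b60aa606b50a9f68620aac0aa947e647e5282747e07ed50ab143997c76130723e623e3701f20466eed204552da52bb701c23d723dc23da1c1a1c180ddc0a55379c1c1e85e853c23f6253c085eb3324165741021c127155715026b821bb21c521c8717f271926b526a526a8714f107d19011f111b451b3e6e97,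
  nat_lit 0xc670c450c6c2c8a73690c6b7b6c3fee3fec0e757fac7fb124d06c18493b5eb6903d579936d17edd7628701323d023ce5497444087775491549243f88b3b4d19444220ed25e625e48f37885625e32c612c6234812c6e2c6d2c706b5b14981496567e885920d82fa78e772fa02332225f226b2c4745d7348690845f0a2ce12c8e2c8620da6dd71cb41cb22c7c2ccd53625d5e5d5d1dc73fcc7b5f2d290f4b3fcf7b6113d220e420ee6f2920ea0f5508e708e467e30964096108ed20c913df6f215280527f46e73d583d577ab927f7520b7ab674612eb02eb90ef573d70ef2147614740ef07df746262b1e5b348ce734a03d6d7ac43d706b801afe1af6,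
  nat_lit 0x435f5d4d51406a8e057258485cfc5cfb8e8a5cf03da622dc347690835d2e673806ac068902f0069148066cb45a8b5e628c558c502eca05792e3f2e4977168c9c5aea2638263c3758375c375777822dcc2dcf73e52e362dd174271c6f1a6b1c726dc912306dc47d674569276a0f5f06bf20e315026b750f32157f1580156e13f213f013ec1bbd1ba36d8d6bc21ba073a987f587f2174269bb0f4e08e20f3c0f3769b70b0e13ae0f3f73512c1c173e24e6707b12956695045c045a2700716714e56b6a6b666b6d0479047e047c044c04480445687c7f312e6f7e6f46d309ee3fb63fd83fd36a8311da11d711d06a8111cf24fc24f917371d11886e56a4,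
  nat_lit 0x681d09ba09b8681b09b409b22f247156747e7482600076c826c178b51bd80c390c3168cf68c900e30c26231c0c3b23176fcb231b6a5c6f6321c221bf26da21bc26ef33d5629880885ac28c817bee1ddd8c7d4a5c33ce7683272527292e25741f3946394378b1682109c809ca8c7e8c83741a2186217b2e30547b49d349bd411141075478901d5e962681901943f52a4907cc5cf38e954a364a3872984d0581b74cef2c8d443580cf77a5379437925e245e231c8937b18fa9258d7bcb40fc17271f311f381f3635a581f44e2a43eb82144e28446a8673866a41684fdd41515e829009410b7e12900543db4f931a178ebf5d2b5d34513c8937575e514b,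
  nat_lit 0x6ee2202d6ee5252c24605ba2318989f705fb40c1541c3f06375e77871f6a3edc3edb1f69670c670f6708060d00b367115b3254bf3cd129667271295f2abb72e42abc2ab948952ab43bb354c511026a3086c3266e54bc86bd295d3b8a86b97dbe13e754ad86b14f89549d86ab7861785c01696c8e834e835383515016805418c418c16c7418d218d16c990be631a42978712f266a266718b218ae18a73cc87a713cc03cc6866c866f54cc54cb3d5b5470546f416351248ee08ee58ee35d568ed607ce07cb678d082b083007d10f3a73a02d1836d506a37c5b8ed55d466898801c49d74b711bdb21fc21f922b76faf21fb09c36a7503d71002485a28f7,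
  nat_lit 0x29c629c1729729c41c7c2cdd5a8e8c4f1c456caf191a06776b6f14e66b6019221921272c0052004e004b49807feb004c2f8059461fae74a72f9274a22f5b2f622f602f7974982f7e8d505bac30975ad95baa45ad874176de2856553d556f87655686885f5684002755708e231fc01fbe1f9f885a56881fb94d364d35815f796b3a8c78cc79673a87192a858d3ded3c877a613c8c3c8a45dd45e77db46cc83b6d79e91ebd6e8518a084815242199d19be19bb199e199a19976cd920aa20a96f150059005d65917ca743a81f876ec31f8c1f8a6653034603444990498d4992498e1f677ffb4e457fec1f612358555274b2235a6ff123510e216e6f0e1a,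
  nat_lit 0x6e251d9e13791da137d20f131c001bff25d26d9d1bf21bf016606bd5165f334918b1763b01a601a201a165e001af70c92bcb2583757b2bb974d570bc013616c716c36bf416cb6bf72be22be12bdf733f2bfa1ec1733c3361763e12b3807b76466d771b861b846c881b826d726bd1165416522bf97b503efc39782980238316d34de723858c395a740bfa71263289552c5504870933da469e7e576e5071287e5146794683469346a62559712c266c1a0d1a0570c170c370be2579265526580176265e265b0e6d6cc4196c196b057b09086cc72dbb32ab75f5762f3336762a27da333428a27d45453233b17503005130be192e19271929751b30dc1eaf,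
  nat_lit 0x127a12761273760b1e6b302832e432e21e6991078b0a3f8236c636c535e175a731ec31e836d3773636d636dd773836158b3f41f50fc441ec596c41f28b498b3841e63bbb59738b4531588f465dbe6a9b1232122e74b12fbe2fbb728329a600c54820115f11682fb874af22627ee247f623d374592ea62ea46df31cfa1cf81b637eeb71e8333233311bef1ea01e996e7468af0bbc0bca0bcd68b50bda202a20254dc281ad4dae236f5b5f24275b667e5a46a17e65084770a7254e6ffa4e38239781d8238d81e5472a54de7c2e6fbb22e022de310822da75331bec166d2c14397a238b78e177da78db297d197331a175777c27230722fb0be80bdc0bea,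
  nat_lit 0x20a56f0c01c52b6876e96e5a2b76339176698f3b5dae36ef9534953954b580022e2a8703870054fd550187e155e755f0524d55db55ee954556d5889a31f61f7c0df145387d4709d575af320432007d917d8e30bc45af36f70d6a458261ea7d8067ab01e5082647f21daf2ee641978b26595a8b21550d4dd282db369b0650551b41a787214f9755163694579a418e05752fdd8b22595558ae8a8339b942084d17420c12281c796dcb12186a976a94121e121b6a993b575edc6f0a1f526eaf11fa1f7436f11f4e191719181f4d81cd4dce0dbf4192579f897331f389711e8c1e5a6e6912b81e5832e836ab4c543369297045447d4d454105c41d081d06,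
  nat_lit 0x5d8e8f1b417834018f174b6b01dd65f101df01c3673f01e06e3d1dd812af1ddb7bed2f9f484848477f1e486c7f4f30577f327f3775587755370436f9710b2614261271070f0369a2487448730eeb5d748f010c045d725d714b0b1fb21fb16ecb1ed4703470391fa86ec91fa214211426142470436d7e0a6324492453704b1faa244c111d02c970463be84d2a81551fc64bf038ed3395815a4d2d8161162f163416321a9d16271a9b1aa46d2016371419141e141c1414140f1416456b459d933d20b820b767ca3dd7135d42c6597962c841813e577b2481712b81730a421d459a459976ea7d764e04055976d8359576dd8c8f6b7c1e2c01c101c801c6,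
  nat_lit 0x56e66e3056334ad2a2f0566458881f1423b458c4e018237785e4c28344c574b891e5756298e298b29452ca97372737714862cb62cb377af379e0533056177050c060c1c0c1b68c15a868c474b0c393a44c744ca392839270195767f33c86f3867ed090e09060911091809162653091d26562ba87124370d5d660c17155d8ef28ef74b7733fa8ef1264933e95d658ef977f638163441780877fa78131a3a1a371a3c89110d8f10ca573b57482be60167573c2cee2cf28912574005c605b605c8015f6df81d0e1d296dfa6f3f2246468c468a7e4f7e4a3833789f789a392165cf0164016265cd015c015a6a2910de10d68c338c3028ca4b79525a84b9,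
  nat_lit 0x760f32f032ee68610a8f0a9d0aa12d1d73a526a2269d257026a0516d83d3739a2d07752504f12d054a4b7a0c4eee43ff679f679c08068ca96798201c134d8d645bc036574836308735f035ed77037b447b4735e725f325f970fb7c81435d3dbb1e3b36bb77312de42de373f9024d087573ef2cc2737d2cc173752cae1d3c760d32ea1e3d0a391e241e221e1a6e521e1c73e12dc81e5c01734cb405b3870c871128607b10909d3f5d28fb293629343f8559243e2b8d0b8d0872422fe759522fdf2fd777a837a11a1405716cf71a1278d737a378d378ce396a728c29b539681a292a1d4e0e6cfb1a2c051f91de91e34a843982397d397e35f335f435b5,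
  nat_lit 0x2f26153a35e8027a027602732d02204c21d76b0f139e139c138d138713900e5b65c87fa11c596dbd072d6dbb1c54177c1c471c501c4e683b0a0e68340a090a0c07f30a340a320a1167bf0864086266010218021665ff0212020e080867a10221674f06fc06fa7fe331ea24840dec0deb694f8ba859e219fd43d512793e6f9449516b822683214fea221d2ee854d646fa74df303a30386b0c3c5826966edb200c1dbb200f332f3d384d14813d2fd1464441152fd9713d268426826ed11fd31fd61fd93b543b4d1a9f56ed88c345d27dad0bd148912673346f761833075b2035233d897aeb24ce24ca0a8a739724cd0a0b24be085724c832f4319d7615,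
  nat_lit 0x68d411840c502cf86b0a7395591282ac2cfb6ea11f261f1f1f29706b17a57fbd494424ad366d494224a839ab2cdb78f524dc4cb03ac68c275a575a62367036725a602f72778c377d778f377408cf2bf71bb22c022d9c2d9b2c0172eb262f2abe08b208ae08ab67db08c808c608cb14386b3e0294662365fc0297028d04e84ca22b52111380da4ca63b882b4680d9278527ad4ca14d0f02572db42d912da12dac2daa31fa676e31fc33d0768575ac3738776d27ec373237312ae95fcd5fd839a102d8663702d524de707724db5c8287f624e02cf62cf52ce42e9b84f74cc74cac174b1b9d80f780f24cbe13c96b1c4cbc35cd5bbc1350770176fc35ea,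
  nat_lit 0x6e371dc80acf49cb54fe3f743a2f79383a313f6452b01407141284ec84f13899389f78536aba388e388c0f950f920f9a241f7031702a3fe2242d3fc577b672ce77c10e330e380e36790d39de12ad321b321e75c11f071ee13fdc1d8b3ff47b66750130952f56350e76b374fc38e38e7f38e02f115ce18e814bf24bef80452d772d742d7c5ce88e854c025cdc5cdb38c70dca11a611a411a96a6811ac2f022eff66fa1a862249391e25d77894391c20d020cd20d26a6f6a6c05d111b50d670d897f3f7f3c0fe70acd71087f437f48484f48631b106d4d10161b0e6b7e3091119b74fb3089308c308b1525117e03b3117703b603bb66716a61118868d2,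
  nat_lit 0x40846150408640835e598fdc54ee4753475e474886ed474e547c867d2ac47d69421a421e2180723c2900218821856f5392cd8a0c476a49a6616644e17b3892ce616a5a5f8c205a6c1def8c2a5a6a44f6867f44e949ac547f86747fb9777228ad8ec52d250dd52c542c367359056d22ce22cc9147399d738854a58825366a398d803529a3807e4c518085795b3a77129e658c658f005580a493ee629e808b4c60129c758275872d59730f2b7e2b7b351c35183517339665e876b55426868b2d635430542f3f1373342bd82bec1ad32b7073111cc576e52b834ab17bde4fee00cb65a800d003c603bd03c1289e289928a01db61db56e313ffa7b753ff7,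
  nat_lit 0x2aa92aac0b2d2aab2aa310f62aa1840732b1323373ba323a58b843bb75d07b193e422a9e2a95222b2a986a44195b6cc369ff1060105d4cda250327f0845284553bc93ce857d00e3c2ec789a257d886e154e054d24dbe4dbd81b91136811c4d0c86c63ce786cb86ba3bb73ba52e9153cb85f53305331685ef73b373782d4c581689ed2cc7699d0efa0ef82ed02ecc2ec969950ec90ed20ed550820c7b0ee60ee300fe0ede69970ed7661302546610119e6a67119d6a65119411986a63118e09c705c32d8573c52dbf33592dc5764d336e764a0c8d4dcc2d21390f44977cee8a0144c94477239e239b23a27ad67add3659879c55e2476387cc55e02153,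
  nat_lit 0x6efd206e088e8ff15e6a6cdc2bba2bb57a232afe2b007a1f1977251d25200495080d67a5099b09a008102ef683b683bb944c62f6510365d70184018274212e2c060a7ffd1576099f499b7fff6aa81df06e4232c07277299272722092208f20940519727d6842207d4cfb81af68fb0cde0cdc322875c512dc322275bf087b2080322575c7050609e1322712f012ef12f412eb13376aef07fd5c5812e10ce20cef0cf268f2690369002e42742f27752e40120d1e08318e756d6e16130f1d9c1d9a1d9265861d983302761b319f91a9603032fc1d8e1d821d901d8c32bb32be0a470a4e0a4c6e151d780fb71d741d71161f66af04b104b466a5048c0489,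
  nat_lit 0x7123264e264c60387596759a91a591a27ce291ab6032757c6013601e31396dac1c9e1c9d76bb356832bd6e3f1de21de0902b7f2a1ddf3186756b00237569318231804a709105724040c47b9b1411603e91b591b24ffd91af412e1971196f19786ac712d012ce6ac46acf67046c840e936c87189a39dc39d900bd680d09051892097b188f12511256116112551252125831d6124a04e10149015101542748719304f526b12740273f1cad1c951ccd6dd91ca71cb8195e195d322d027f0283661f2e7e744902876a49113e113d11386a47077a0ce40ccf0ce66a03106b68fc66a904860498679307de049719846cd11983018119806ccc0892005f088d,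
  nat_lit 0xa026826683366cb0510050c677f079a079829dc29d9292f452072a41e3909d109d809d606948743121006a06737069c0f2e069969ae6ac112a512b615052c9d457d6b72320616e616e975b075b512e5191214f271ab18d5279682764e8b4aed4acf82756c963d867adb7ad822e32398164807380735073a0736075b1fde6769074a074867670742073f92bb6152408c86d863e8408b453651ee3538353e843a51f80757076207601a8e089b6d1d1a8c1ab31ab667cc1a976d1f1aa71a991aac206051f2353c3542843e51f61f7667de6ebf6fb91c0d1f797505718e27445e675e724aee5fa48ff88fd0822f822c432462f4944f82443dd45234374e,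
  nat_lit 0x7f107fa07ee5759891c89392dfe740109975f8f910931bb86f0954663ec6ffc82244e427e7f7cf427d2548186fd6a348a05582e70e838d2582c49ab92b73eeb4081074d3d9f7af1372637533da37a1569f23bec7a0f3be30b3b3d4a7aad1ae1775f371837165739928e613a801349c849b26081608e49b1919f60264a5044b47cd644b6929492997a1a7b413ee418cb3d747aba7ac815ee221e222675cf32360ed16f5d1ab5094b096a6805096920626ef8096739173925788c7897391a21120235736d1aab8a808a8550c57a8a6d40827f79b63b3179b958a18a897ca82cd02ccf73838a61588c3d0d18f8385489d921332232211b6f8a6f8d18ea,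
  nat_lit 0x330664d032e7654606076583377765303e803f003ff667f1403019d65a41405126175e580b680b940bd084a04df084c0848085508580141014e014c356d601032df76c7357c3575302c74d126dd302a80a12ada809d4c6e463d6b464c4580737537310c31050f600f6569c12ec20f6d2ebb22ff54f586f90e496adc7c457c4142ec188d1733696a6c173ce47a792ab10e413bad0e510e573ccd7a758b4d597c4fd962fb62fc825e40a556da7b828885143349c740ab49b6364549b549ba25cd384652ea28da781f384c02ea030d0314031267fb094c0949094f8a65171d385d7822385e86d746fd1db135fe2c1131ca770e3381779512f705e76ad3,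
  nat_lit 0x2bd2732e733114b214af817935fd91d66064688b0b340b32684d0a5e0a5915626b91155f880088054b46858a535e4b1e4d974d944b1d82bf4a9d4eda05ac82b482b92f6c2d9f49ea307f37982fd40fae76cb307d3076307530786068397176800a680c0f33e283450cbd1b43501193e9805662a093fb4b8b74b491834a8c94255062817a595d59680f6a05230530052e17ec13cf052d94175975813681464d1d4d21669704620464046704cf0a84298c31b531c5504c7b3026a78380538250f704d48383258f70ca504f838504380435043104cd1ac96d2f6d301acb4ed8764f33720ed8123871eb03dd0782076e677b66990468014303e403231550,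
  nat_lit 0x1c2e1c2a1c272a5656722a5a5cea5cd55ce78b153e4b663c0f627b1f748a6c2317681766175e17623a3614ac14a9149d10e51a516d01774336e6010936e9146b7a3f84714b802ae60d7e0d7a0d79692a0f902bee0d7469290d712b0518272b3f6c25171b176e7943793c3a3810050d77184203b403ad666a11bc11bb09a73a25793b0fd2100911be6a6a2f142f1a2f0484d96df00c5c09cd28f809982dc0372f776918ff1f181f16278a71a071a38397765c2b49342f839f2af91b3d6d582b2a6e451df61df41c6c1a736dc3945d6302827c85b951552ff38b558b50598462cb62d682f462e5943062ec5945942262d29195919235652bda73332bd7,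
  nat_lit 0x7067249416516a59117a1178117d71d071d5287565aa75ef75f332a8327f41e342776ffe427b4121427c48684867411e1d87327b75ed1f086e9075eb364c3650557b76b6364f7ae276f135d3205d268f76c4357e38e4787407477f1d483a48353f17092d859a23241165116a116d6a570785115a11596a51692f0d8503a803db2bf3106d71cb250927f406b906bd6741230e6fc506c118ec6ca106d906d271cd06ce06ca06df06ea66546bdd03f806f96d9b166406d727fe1173337980810de6694c4c57353719936cd46f886bb3160015d465c1012c012a737e7381735e6d6f1b720d9110dc10d80e5c6d711b7c1b7929be1b7672930d6c69270d4d,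
  nat_lit 0x29bb50034a862eed50280b374ecb8360836500410048004647f47ee50045800f49c03a7249c34ee182aa67841d3338d682c482c73980769434d734e687fb560a34e51ea26e796a0e494c4ec269ce389082a64ec6139a1396139313ad13b01394829a82a128bd41464ebd304e0ba2698c6b876777077407720d394eb34fd04fd4414d830e37ad77ba77bf7c9d413d148f7fa9493229c91739173c02d6255a25500a8643640ff37c87190457c20ffd582b583649990ee47888391012011208120666aa32f7761700a100ae00ac1bcc1bc51bfb7afb3da1253434743d7d3d8e372837230075262a711b10006dc11c631c6600c100c800c674c32ffa2416,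
  nat_lit 0x830c831332d2305c30557fc783334ff139d34fff833045660e5913180e2904dc04db66bb086740e17bb318357c4718301312130a131415ab15b215b0154815476b857c537c507a2472fb2b3a2b3643e92b381c3d2778719d27776d571b2c1b1c591a8ae90720591817571436749a38a74c24749d2f7524451b971b9e1b8d72c7073315312a4f7c2520f007086755023c070b7bb1085b6b01136a1368131013764ec869d70fc00fbe55ac23a146ea773e36e27d7f722728b828b607b007ac07a571397134122d2679267c25551fdd3042492b7851389c37bd6dcd1c7e1b7b1cc31cca1cc86de36ddc1cd653d686010035787638eb38e735c035bd2b74,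
  nat_lit 0x376e7df0462a7f74489b10543b4b37623b41776e373c776477708c176e126c3917a117b86c3717b617997fd6496827518198942662d0683109f909fe3c8f82f34f170cd20cd10cd682fb4fbe68f62eee50fe2ef3944362e8551d81bb4db74db14dc13bde7a0216ab4e4d82394e564e4f1a198e9b5d008e96691f0d480d4694354f9b4fa062db62e65c7a4dd66cf481ce83c5806c6c0c7d75457a31df49664578176c42264211421242047d6a420681e84dfc20c5823581ec49611423142e142c4ff417771a5883284ff84fed4c1e4c1d2f7d69161fad59821d942bb1431d3be474700c6037e94ee982c96b8a1559136d4267426c426a410141137bdd,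
  nat_lit 0x3085358576cd0540805e4c34054866db0547052b05360534053966d4053e286a2869720b7be446677e2d387622c94d244fc8830583002b5a2d602d5e444c444e54614d3c5e461b0b3ed17d0644da5bea77ea6ad07fee498619d76beb16ac16a016af8e8f16a243457c6a435012493b131a5717b417ad0cc27b3465a07b3769ef102c102a102f6eb919c71f5f3b4379c7077f31da31d831dd759e179a6c2a178f6c2d17a216c939ce6be5169616942475247812652524705c12a07c6d39633a5f77de78bf709229e1729a396612aa005b6abd7c64434278c8130337ed395a018e0175019005db05e505e812e36aed12e612c812c112c5377a77937790,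
  nat_lit 0x39c65ba666936de039f146e68d90c630111059e66ee66f1878c878f36e5422a422e54aa1710170d0b3d170e17196c1134383840343c17e62851720d05520550054d1464146913db2f8a74a1175a08c008bd67d9341c468422b014546592145018ef22316f9319ee2240223d71c3158527ce06540645064b79d93b5a6ca66c6f185e098c186171a717df71df280e0c9c665e280c6d52280971e166ec280b2819281c27bb279f71e527b627b5281f723528dd15522a202a1f2a302a2a72b972b029a9728f1b6d065b066567292a19820f2a173455382137fa6da87bd0410983491b8138b77bcf7910335b1b4739d579092e9923eb2e9c0fa966d20fac,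
  nat_lit 0x71d72806103e71b927be6d4e674906e606e406e918f11be41be977ce37da77d137d81bdf71c527d627d471d927c728037aaa7aaf1cc73d467aa91ea8553855350c19553687e455f835ab35b276206c9d18d86c9a29ff18d62a0e35a981f92a01165a16466bd327dc27e07bd779202b5979257d01170b23f42959296129942b5e2b5d23f72071208c208a71b327aa23fa71b127a627a12886288372157212288172210b240b180b260b2255f487362846284a2a596f090fca20961867284e17e5279a279171ad34d534f1343108ba08b608b552d485153f666e988511143d84fb52bc1dab84e784e41e4a4caf84fe8503851285173efe1b4f7641733a,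
  nat_lit 0xf9728f503115f203f523f5624b131b77591722b28e7026647d67ecd24338d733f4003c272657260292c69b00f340f31089c0898089512177ca43485037a0377035c0e894eaf19590e8e0e8b697d692c19250e917a013b9e11d98197819414bb74082e0e28d97ca311f714fd77bd37b2377834992ccb1c5321ab316375612c962c932a7308d367e108d808a108a567d341954d9c36c36eab14f71f4600fa00f600f3009c009b0097659e06e001fb18f521cc21ca223622356f916ca318fc182a88a288a54a1b80e776983ac821182114211143908fd85e567b327d0244dc529f52ac4cbb05bd80ec80f171d3280027f2166a16666bd70fc3278f71a9,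
  nat_lit 0x74663d043111612a8932890a377e35df7799351e7777338f919b32ff752c27fc27fb71cf65f901fe02007a667a9574846d3c5d10101d69f48eaa4f296c3b172f17be08851ae41ae25d085d074f9f064f4e1d821166f24db581b56609023202301d441d37022f5cb84f9d4e215cb64fa84fac4df0438365884e58823d457e77b937a9301f0094009065986f6921ce09332ade2ae2791f08ee7e0a7e0f8fa08fa544658e8920cb3cc28e868f996b24347b7db134823a183a1579271783177e799d32d4760332d127ee1efd27ea288428907e3776a438430328864286453f0e24bb54b22632706f24c424c25463547354764148414a542228e972376c60,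
  nat_lit 0x169f1882183304e4036566bd660d0242023e02457115660a404c405054e6346434684e5f5e515e5e431f8c528fdf3ee884314b0951df1ff66ed76ed41ff9256a1b0c1ff07b7f1fed151d6b7a1522153e153c11217df36b762b226f2f20f720fa25e070f125dd0d41433d7c833a6a7c70436184ad471117ef526b8ece5d4a0116527d84bd6d931bc81bc643527c79193d7c564330432e751230d7751025df49df5249277030d184c13cbf82ec82f13c543c531e4072a929fc29ee29f529f82840523d846c84834b84578e4b7f332c762771c01ecc1ec96e89079d1e7b19aa3310330d1c283308761d3171374a37493319029e0299029a662402ba6983,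
  nat_lit 0x4269426141e46be85cfe4e4b02b67928792d7931003d3a1f2b292b0772ff44a754fb86ff7ce17cde44b002b16a3b11158f875dfe7cfa44e75dfc410f29e559e629ec18167cdc44ac6c53181e181c18c618bb6c93216c6f4f21626607022a0228543a3f313f1d360c366421768fd7183d6c5a172a6c5718290f700f6e0f6969c20f670f776c636c5e18440f8669c70f7d242b2428703318788241187c72d12a682a66188518816c7f6e8a86af1edd3c9659c43c9a33bd8b9459d03bf07a177a123008300774c4659b008a008c6f4d2166215c26162609710d86a954a67370110744a81810061c061b06207b9931c1309a1eda2430126b675242f37c49,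
  nat_lit 0x722f28bf28bb307230703058025b683707546e041d35541486875482863018246c5518231c358a5e8a631457145f14622e1b026b3c994e6e284336864ab74c753024207e20764abb74cb301026e63c6f4fbc3c6c19874c734ae54160831941646918127c831551235746891a68f00cc60cc153553e1785930de40de00dc13166755f21980c810de30df61bb56d8b1bac6c1f6ba217523864782b1dbd1dc01db91dbf760132c20c730f2869ac0f2a10e14a01803769510df20dde0dcc0dc90dce253119dd257413fe13fc6b2c30a5815d309c3bcc3bd13bea7a093bd637e655f35606555587e755f60f441de57be1411c3acc55e887d656d0889f4253,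
  nat_lit 0x1aa22099209c20b0209b6f136bc4163a162c448386694474415f545625ef3e738662545a07d2678f07bb882c56540aaa5afe35133e008695443854851d3e6e021d3a678a07c522ec2312534b859987f956081dfb738e563f8827367a367987294d12445981304b6e5d964b72366f86b454b648b5351b564506a806a606a50388666503858fcf5e487ff410196c13171f3c440e2a69761943194818b6045f18496c654eb413210343829682992473077757fc104069f689cc89d1777c375577812628262567c469e30fe80d720fe20fd70d9a88305652559132355487869101d7305374ed1847270313a71d424f102d4a3c5f7a543c68304c74e928c2,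
  nat_lit 0x46307e010f426daf17911c326db51c361c436db31c3e14c307a707c807c100ba65a700b704fc04ea04fe212d39181bd70f397b203dff552a33f2180387305527873b4e6b873533b3296d552f873233b733c00f0133cb767c33c46be71688169c4e628249187504fa5c74332130ee752730ed823a823f119782464e5b824b0d5e69230d5973672c8821a71d261d241c8b1d121d145a521d1a1d196dfd70f770f225f0163f1bc3180c7b5c8edb20b59203800677323ebd3eba3eb84777545d866691f760847734452e452d7d41296f7d3d243a8d77243f2d2b4d3030b0814e4d28815330ac7094251f709919da01b96cef2d3073ab721c56f088bf4a46,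
  nat_lit 0x46a424123fc0537c85af85a253c885f3689c53c62e9417ae38f9498b82435bee8d363f1115a0159d15a2666603816a8c71db6c6811ea6a8611e511e8039800e703a48c2975f02e8d6e1b1d841d8028d6740c2e1128d479fe3ba0032c032a03260c9466500c91716d270514836b57027914796e1d1d886998149353ce204330d430d385573f0947ce12c64ce58b43745a11046a37110122c66fb122c51a01253c0915696d0e540e4e09ea09e309e5682a09f009ed6fb4299829964ccc4cc33fb42fcb874c555615ad15ba15b82ce22cdf15b770a3254819f76a2e110925412fc9833b29af8c709198602a062d3130256370b0754c313755ed87da5602,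
  nat_lit 0x688d68880b3804400437043b88b456e388b9040604036681498419d1326d163d1644164271a4279d71af167d1682168018776bde1b1a116f11741b666fe52342079f6be3168a167f66c304f604f36b591490148d6d0513256d02094556d788a717812a4572c372f12b262b2485d943f75159178817857a836f972244058367f90936094267f7093c034c67fd09520950548f869739b16cea5b8e2e89030f031a0318663f02fe02fc75e932741ecb1ee21ede1ecf19bc19c36ce9675a675d071f23556ba429020823721914476e3b1dd206aa0f850fa10fa4784d0fa3389274652ec12ec4716471690f807c73434c434a0f73129b43461e046e481e06,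
  nat_lit 0x2825282a2828689b0ae00b6c34cb34dc687671f7283407308c5d67163767360e742279cd0485734721726b9828fc217f771926433666495e495d7fd331bf496b7fd02bc973262bce31e60def37763c023c01110c2bbd757522bb462c7dfd358e461e67ee09b74b8752363c0901f401f165f701e301e765f3111710fd6a3d151f152e152c2ff42ff174bd020465fb01ee2b453a1a72ec02a402a302a62f7078571b9310fa10f910fe66ac1fe72533849152520a7b0ebd0b950ec23e7b36c94d9e871382e6819c55dc52590c03524f87cb4b6c13526af913318f218f1c25fd6dbe71131d593156315b315e8015800844ab49cd80176a768f255d9814d2,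
  nat_lit 0x40ee7bc135ae6c8c18b818b51b331b381b366fe3233c0a6f6fe123366a5a3282327d32af10c316090b7d0b740b710b780b726bbc161209ac68186b2713e513ea13e328a628a5721f32947cea44c022927acf6ef222d73d7917fa2289228d3d82716a5e527b3a7e81447320f53a633a8a29c38499525c0ae246df848e84930c140c1168bf19d46ced19cc0b100b070b12093f34d8876f1cfd4ed01c8c746c2edd36bf1ae91aee10076e5d6d3a1e2801180115011c65bf0124012265ef01ca01da65ed01d401d248fe105b0b437f784902361069bf0f5c0f586ab70f7b12933bd23bce2506708819522504535c8595535b13f7099113f847d812627ec8,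
  nat_lit 0x2273227c016e23473b74231f1a846d170c591a821a81180484dd52a2370e1ce052a06d104cb352c034c1225822551a9162f9945053a5462e358a7df868106813098b098f099368156ba9098715be72ab2a04194719a0522e3c3f18076c5117d470ef70e425db8f185d9049b96c441873051311e111e211cb09a509a26a7f159b801f25bf038b3cdf3ee6275f742b20bd6f1b20c220c06ca9672c19102e782e77191d3113753a31141fcc1f5b7281133c13396af1311c73bc7543312e312d233f06140626062476d1358c062319b219b96ce30e316a7d11c330c130da7516346342ad145b2f8c3c423c401e02553f875502db69b5068e664103040301,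
  nat_lit 0x574f575a3cae0cf80cf70cfc2022201f0d0b6bbf161015d934f434f30cb1009f00a600a43122312100a30d04690669090d0217036c096e4e0cf11e121e0e5a661a6d0caf120b120e033b0ebe0b9a0eab0ea80eb226ad3ed20e9f0d130d190d201eb26980273d69790e8202a969710e6a0e663124312b7549679507e207c230f62305310222bd79e722b9037803400375665d03720370090008ff67e980eb224a09031a66680a131c6d081a701a6f03960394038f0bc770e625d425d970ea70ed17fc6c4f6c4c67e708fa08f869210d5208f738d0786f6d2218a2189d189e15cd1dea1de73bd54d063bc66f371801210a81008105061322742278738b,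
  nat_lit 0x68830b1a0b166c73185c0b150ae768750ade69930ecc0adc6aff6758006315d06baf15cf6e830eb11ec21a4e1a4d766f1a3872871a1a02380224023a10f010eb0e812125449d44a144b244a544af670305e205e0132b05dc6ae71d406e0907f97a5f1347063c6aea6af309572add26de1344300a300d74c96ee03c661348177417736c2726fc716300ef00e100e565b13d147a8d0b92185818576c6d7b0b0cc93de7121c4d1b8145695b0a7004a60e03695d0e056fef6fea22f3695e23480e1035982b0b68c469730e700e72663302c602c41032102469f11add2ed82b1d8935575c3df0160d6d7b163916031dfe1dfc3e7f7b142f77436f484a3f7f,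
  nat_lit 0x3866782d271d717b6f7227206f3d212021226bfb16cf16c00b6967ac0b6a0d5516a76bed0cbe0cba0cb768ef0ca90cac68e868eb0c9b6ede7b0d12cd6bee890257343a7479683a8e66cd0516027129d0299f29cf51188efb29fb0efe0ee8699f8edf5d513e55041d79c51e726685041a041866890414042c2ed42ecf6df4452788fe5736890f890c3d7219cb5b8434c2687f0b0a0af4292372582930757f2d66040c294b726e29d36e5f1e340a2c730c2de173f21ad46d2c1ceb6d351ad800d4042f1ad01acd6bb8500e4a561b951b980d1f6bca1b8f6d7d73e82dd86f042dd673eb1d5071f3282e2822095b79af12431b5d1b561b6433b533b829f7,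
  nat_lit 0xd8c67ae693165e265e501b3108e10896a15108c1ea52be448547f3510928d0f5b62754a0b4e36a7772540ff7bdb79002294273810e61ec51ebb6e872be831d131d21e75227122610d2e0d2a0d276781677007a068570a7e0a7c051c050e66cf1050104d69f90c69103a103868c70c280c011f1b6e9c6e9f38626d98782426c826cc740f27235e364f1f5ccb8fbc5e4c6f9f227e0e0e6a2110b40cb86d651b60063235a735ba6f00758f758c2df90aea19a519a920046f8369e0190a221b26e570bb70b825728fdb5e547180717126e125896f7a220c1be16f7521fe1bd1190c1909190e0638063406311906190308da718b273a22856b5427137177,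
  nat_lit 0x68e40c9e0b9968410a3e0a3c201a20160a3b1fd41c7b1fcf257d258a6f6a35d035e21532269e2689269901b701bb65e7202020190bb756ee815029cb40f7143b7bc90ff8659469e71c411c816dcf5e187bf018f31c921c9680d54cfe81254c9d22526f9915e411af0d9511b2788f224e08355f0890873aad773b36d836da40f556b4069e0c120c090c2468710ac80ad812fe12f96ad521912196002d6f56337f337d76f36f541d6215941591159615926e346e3922196f806f85270f221331607563755a31696b6814df14db6ee8203f6eeb302e74ce13b36b5d148a149e42c57c3107294d9b7a0422fc7907790239d16e7f19b71ea610c72ce97391,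
  nat_lit 0x5210528052626bf26c40525454a1b281b493d9a847252383cb42bdd83256d831bb0165d66a3669e043c734d73482c16674c2c0a7657159e3b9c0ba06ce719c015a7664302f8030a6c1d174c17350fd80fd40fd18018801b41df26c326d426d22e17715880ab6b9d11d4159814d814d614d117486c1b173b174655ea23a54dd481d10df8705b6ab024718bac59e0729c35b135b835b6249f70691f357bc740f31fbb6ecc7bc31fc519f582d84f073277390a0ec40d98684420890a200a226acb133412d70a2b772077230bb835c635c5152165dd0198019622876fa70d9f20002687713f268d2401268b67d4812120726eff207a2074892b57520ce9,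
  nat_lit 0x812281272ffe0df58b9859ce057d05860584021532e032dd792f3a2237ab3ea71111301991f391a6919076089188601a918b2bb6302105aa05a705b02eea7ee1157203660362035f059700d9059a15651568185405a805a405a14c40806f05a204e22590256f665659c80de8036a0359036c0352034e034b6660037f666305810588057e5f2290a1704c659c8b888b8d2dfc2e0628d20b290b300b2e0b2b24461614703a703d1de91ded2441703f7a4f35ce15380da969370d9c0dab84bb0abd2ff73bda7a1942d186de54e2889c88a1781a32da32d976051281127e128671c727e827e62def2df2123d2df134fe09416aab126812662314230d0795,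
  nat_lit 0x37890aaf378a37843781779b7af93dae2a4d43e65e942d8b6023602e816a02e602e202df7f2c7f2f306e34737da929cd66dc1c101c0e8c4c5a906e1e06ff59ba06f070f925f6215e2a5425f42a515f062c576fc0114d114822ee114b11571141205b2058701b2ea0745223df23ee23ed114780706294353b2641263b71212de944d621617d345d6f8efd0ecf710321a1702723f00b6323f32d702d6e73c773c02d8329532dd32dde29552d6a15e233873384338831ab33822d5d0842083b084167b45d5b8ee93435780310ce76a234f627a373f073ec2dea7661758073fc839b5084261181a9440007b4812881b31d204cf83bdc28ce812b4d0308c5,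
  nat_lit 0x686f0ad20ad00ad523aa23a869380db20db00dbb693c36a167c1086a67bc5a655a7076865ac08c3423ad23b58495369d70561fb770596c4b17f217f0728429b80d8279cb3b48777877843b46367e67210648064c67250653065819516cb66cc16cbd195404468d2f5b86108b05ca1d231d2c74792f0d1d2b4f988e554e5219156caa04771dd5771a771d3328762533234498332b367d126e6aad126d306a74f474f9046f0474047204717442744542b142bc5abb3583784e7b597e0d463e3fbf7e07463522b569db66d00fce69d90fb40fc6398478e705691945380277e82f1937f22d952d9677e437f637f037ef12fb35d776f52f200cff689426b6,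
  nat_lit 0xa576846684b2c5f77ac77b17bd97bd4410d6fc82e1f7416717d272626ea66c104ee04ec714d26ae1707714b26aa204e107b6a07105f6d5f1b4c1b4a6d5d1b40169b428442837be87bea428640fb0f7502f51bd266c70504050236e01470050110206c0b170969ed1026101e0b3f658a0b44345680584e7331b031ae2d656f5f1aba21b50aec07250aee68660ac00abb68680ac5686b663102bc028a02b8662c662f2e9e70182ea868782e8137f8103069fb0b091da26e226e272547386c2243386b78396d283164782f6f64256070ad255f26c7271a271105080281050a8c485a9242fb752930fc23181bce17f76d95685968540a820f1d0f180f24,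
  nat_lit 0x813a813f2760736a2c9a2c981caa1ca81ca369a48ee70abf3fca7b2608de13d408f46b2108f008eb67e508be08dc108068020d930d9608fd096368070972096f65bc17ff6f1f20c7692413dd13e02ed62ed32ebe0eef682469a1746a2eda0e126d4470b4256d1af91afc185b6d476d4201bf1af31afa132770a5255204c522b37e44468804a2049e049b6b1913bc13b913bf4680081b7e047e390f460b1d467b7e3b2fb66aa407876b951578081902ed0f1643384340433f7c6207e50b480aa23479542d864720a220a76f0f070c6ad9130823e46da6702323e870211baf694b0dd60dd10dd9204a03a1115c70176de678310dfb0dda2e8e0b777663,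
  nat_lit 0x74152e182dfb2e222e21741d0269026d66196823026f09b02e1574042e1c09bd49d11f21812f4d0812856def6dec1c877bcd1f2440f92ac1373f1f2317c1172817256fb76fb2053d22d345d145da02f202ef02f61930192d0f9d66e5038d05763669777f374c6aa11246123e30ce1c7106cd01271a696d0b6dc71c746a9e27722767719b417427654565157c6b970f157e7711e746e26d8f6bc81bbf37d57c671bc116180d3c6bc0339b770d08e0108610856a110b21243c243926fe00f926fb046b04800459691d0d3e047b66a7049204900b000afd669a687a0b040b0311de6a8511dd15b511c715bc0c7068da68dd0adb0c430c46332627d131ff,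
  nat_lit 0x120343a612146ad7130c13041408499f80012301310a22f40e230e176963252e252b709b7ff949963e2e140c060f6b3506160611671300a900b100b413d013cc13cb29692b721ac310f210ef10d42670713371302ddc2962295b022d86a54a55785438ae02b32f6b38ac1940805b4c2c4c2a1723186b186e757831a331a76d5b1b3a18ac5d8c5d6b5d59082d083808360833011b083c0b610b640b5a0b5c5d440a750db58ed25d4818696c7717dd2f22748126bc2f09747a2f1e304a389a358020ac6f1117e10c400c3d68d10ae90c2f0c323be07a0b0c3f65ac65af00dd232130fa3ba2118003a311828053715a26f012966ab90f2c12991dd66e41,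
  nat_lit 0x35d935dd76f708cc08b967dd79d579d01ffd6e2b1cf41da91cf11cf21cfe15e8019228206ed31fda1e9e122212241e9c37ea77dc0bc8161a16170d3a37e00d4277d277d837e207e67531752e31060f1b0f1e06ec77cd69aa07010f090f0a69a9018c019b65df7651336c019f6a0808e96a133366336576496abf12b00f780e791b896d7918a46c8b0e250d8b1b7f18ab38d92d8f249973411b8b2bfe04a91e161e147e4746867a407e432897144d67b7084404d91a0b1a101a0e70a8256425571fe370ae2576018965d9015969750e7667b8713629b229b07290728872950d860d7d0d81030717556c212f8e146117596583002000246cde6ce119b5,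
  nat_lit 0x17065d365ca391378a1222810d06a2510cd1a636d07016166ff05d605d26a2b10db10e20c6e5a5c1c6074f730823080485274ee306019a26cdb65966990260e0c7709cf09d2025d723b68160f06025902520f04682909de09dc699b0eec09db1429143114340e7a0ea62457691569100d2370372434242f456d422d42256cbf19561936088867c6088a76657308338d088635c376fb1e211e1e1e2633983393765e338b76672b7936ec36eb774549a249a1157187dd70000317848b524b6ba6384f56d355a816a816a40d4f08290f0c07111c911dad6e2d550f871f0dc36e06551f87258140814312131d6d20a0209e0d6177470d5b018b13b613b4,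
  nat_lit 0x72a072767611c5726741fe00e631779177b1c4a1c49097167c3085e086f13c0144a01f902500240020d048f06f2674a06f706f56751219b6f592194945346f746ed1ffe1ffb27cc3b513b5271bc352076b93184685f0a980a960a900a8c0a8907eb07f607f41cdb1cde11871cdd3d4d7b42074576f835e5024a660f02490878087767640a370a310a426e616e58042b14431448006d144524112ffc6e551e180d2580ef4cb613bb723f28fe6b9a1a3429d629d46a2c29ad728b38a410d31b70693f0db80db6095c0976097468730ac70ae41a321a2a210e8931892e680875927595733666f905c005be66f705ba66f4549b4fa71d0d05cc05af05ce,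
  nat_lit 0x31b2758567b0766d31cf766a00cd751527620f216e2f1db30f111dc20647388a784733c212a612a300b839f2791903e769cd69ca0f9e03682a6406ee69650e2c0e2e792b3a1c301b27a92d781d64240223ff11a32f0037e50d300b500b4d68930b470b4b74736d1b1a8a0d5d1a88096d0c4a0d680d640d63686d0aca00de1b011b13665a1b161b156d5169e869eb1015118b16856be10c560c4d0c49125c758924ae37433740374471182621263002a0029d0291020a01fc01eb449a09e966be110e6a39110b2b5673032b412d9873cb2d9370282d8d73c902636617026513a96b1413c6661a661d027d6ef16eee205013170e52131a0ff61c5d1c5f,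
  nat_lit 0x2084208320862069206c22836cce197d19a6099d099509a80b412efc2efa65d5017e017a67a7017c0817125e125b6aa66fa56fa2206a0873087e087c68ff0cec0cea070e070702471da61d976e29002b00380036053b0a480a1d68490a500a441d6b6e1106196e0e1d6f1d7a0fb069d069d369d50fb80fb304b704ab74bb66b304c804c604b204a104a51058105369fd02bf6a3310f56a010aff1064305b305e107710461043103d24a1812c4d0a6dd41c832cc907170ec6698e294c73be336b66150260025e69450dc60dbd7cd07ce644c255aa879b48397d6d45701029294e1d677d0f41ff7d0c44df8c2d5a68740a0a530a9369491a2f22d0056a,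
  nat_lit 0x4c066b0691304bf66b704831ac11ac61ac4123a07931171078013236ae3131e6ae1130166a06a0d104a04040460046c1554154f6b88140a6b306b3313c26b1613c469610e1c08810e1f7534753914aa6c29014b741374100cab6638663b02e9012f27f93bf367ff0946095873fb2de621b367ce67d1089f205708a3205e3d123d1114dc7a85132d3d0b7cce44b809fc024e6763072f7145714023f9075d076807660758676d07536d2b1abc1ab87ad07ad33aab6c3c8fcc5e4a2df573fe31c9274b75a16fc67190741968ca228e7188718d1cd96dde6deb077c677907784cfc10696a4e74572ea2106e678707b7076507bd2d7f73c3679707dc07e8,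
  nat_lit 0x67c90882085d1560155b18536d551b2a1b260d340d2d07a32539713a4d266b93156a156c00434c2026bb2f0b77e10e6507b807af07b3105610836a0a078e722472290ba468a70b9f691b0d330d361abf37ae2a636a9111fd11fe1d6865a21d61006b007800761012100d0fff1ce51ce37f1907a828b4078852d22bf528c1107e669c1078696f0e600e5e29bc29b76d663c3c3c3b343b6f1920ba03b0100a0fe4182f747d2f1c2ef900290030002e1cef65846d186ece26761c653ed844d23ed704bb0e000a5b82b74ed21ced38aa785b2f6974f0307a306c2fd30dc433cc17ea17f517f817e86c476b1a74b63ece036004d604d366b90442043f0417,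
  nat_lit 0x9556ae51329216f711f711c2e0c0ba728cd219d755d21a2427e02e5316b0fbb20af37dc193b27c5158968850b1e01d87dfe7e0317e36896769f34ed144f463a08a9059c5250158300da00d600d36ef76ef46b5213d80d506b236b1e463313d76b4d1453006400690070006e7e731586158a063f0643671f6c7118646c6a27c271bb0e061adf27b30fcd2e0a0ca128e01a31054b20526d4b6c781b094e60168703833ed41705269519d219ce19c9433a77d41bdd05d8670105b9104e104510494c42300f806237de77d71bd54c2380504c3e420344d873f67d0512442df74200456e1241180903936f1d0c640c5566fc15566b8d6ade008f07040703,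
  nat_lit 0x790078d677d05990a780a7626d126cb26d604b904bc668e31a931ac71b669540dfd6957219e73e72950071507186756671a671d063b095e05d46801086d0e140e0d0b5868900d0068d66de41ca415e6225c6fa168530a7208716d3f101b1af06d370e0b1ada2fec0d176904662602ac02aa6fe7233a23401a653d0f7a890723007d675f071c071a0712147d1472205410ec10e809e61871186d152b0e7c0e6e0e7e75442d8186896b4f1458145c685c0dd2695269a70f0e01f702af662a02b413f56b286c59200620036ed91fef7a876db62536709d15371939193e0e271a461a49310f1d77374777741fe41fe8752b020804ac30ff0033003b003e,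
  nat_lit 0xa9b0a9569410073007b007e6b496b4401790b5f0ac30b5369580dff70b70a1f06416932]
theorem W0_c : blocks (rows 13 4 17 30 8191 131071 1073741823 16 65535 48 A 19575 5760 cols 42) 42 JW0 0 = true := by decide +kernel
theorem W0 : On (Row.{u} R1 LW par A 19575 5760 cols) 0 5796 :=
  rows_of_blocks hpar (by decide) hcols W0_c (by decide +kernel)
theorem idx : Idx.{u} R1 [[38], [44], [48]] [[38]] 5760 :=
  idx_of_cert hpar hR (K := K) (by decide +kernel) (T := 6583) (T' := 6656) (by decide) D0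
    (subs := [1]) (by decide +kernel) (T1 := 6583) (by decide) (N := 19575) (On.trans S0 S1)
    (by decide) (n' := 5796) (by decide) W0 (by decide +kernel) (by decide +kernel)
end T1
namespace T2
noncomputable def A_0 : List (ℕ) := [nat_lit 0x2ad0b6e36e0525d25c2accacc16766760b70b70851e51e42e18e1812642640b2fb2f854dd4dc29e69e610c50c50b85b85849a1c28cc0ec0ee3d03d0628fa8f9475878d8e12e12d14d14d60b18b1b529129184c64c6d1f11c642a1aa1a486c86d0e10e1091ef1ef4383b83a47547082a48a4811fe1fe2244244147747746c22c2221d413d4afaafa986d06d16e0ce0cd0351514382b8289c11c104e06e06702f1c8638138129c05c050e00e00e6ff6ff637b8c21d6596592c70c70d4de4de50ea0ea1c0c9bf96dfadfad6fc6fc4b7db7db87585a4a52652631e01e0301a02a186706716df4df4d1ce1ce50188f20c6946952b92b9271ed1ed281b01c9c0b9be52516516b1ea1ea701a8e511be1be14370370602e0c810a38a3a875475500640a0603702f100201bb40d80d9a008068b0046f74819019240104642b6ab6a111711708200200432432429f89f816a96a90a7fa7f84d24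d242576576133733709ea1ea0533d33c2ae8ae812cc2cc0ad92d90505505421220a466f66f6737ab7ab1bd1bd0a06633ec2f02f06953953b0154155a3ac3acc1f11f168d60d6300b18fd2c82c82864264248fa8faa05fc5fd230c2e2122822809b91b91053c53cade6de6314e14e10c28e59d8218212782782636836858d40d4340ad7950d16d16261861810ad0ad1c08c5dd8430430a37137140fb8fbb86486498052de4724d24d484304334f78f79430a30a702819359be9beb4db4db523b83b8e03303358160ba8cdacdacc2d02d0b0240e8224ca4c98b9cb9d6c92c92d17c17c50138d00d33133123d03d07035268204c04c1c0886cd2c5ac5ab1a91a970158d3b05a85a9a04827446f16f150a80a81808808c62b02b026f06f050c30c3200a0691631a31a502903058d78d7980b40c44294294202502d6816015ac0a80a960060529028028480181294090090a0061bc104c04c091e11e048748742b70b7014f64f60abeabe84b80b802a9aa9a10e60e60aa72a7059bd9bc29cc9cc10c10c109e89e884eb0eb02578578105b05b0804804840040b8436a36a41c91c930bc0bc38099bbd250850886ee6ee4b76b76a015c15d2010086124b24b21a41a4141b81b8603803820070443803123216b56b44222222201b01b3801028b0160139400e06a502c02c180280b1037c37cc0b20b2b6ec6ec682c005a40ec0ece00a044214c14c104884890038038e00207ed0056eb2029829a8034034c0020021000002180c00c08160161401004cb006027102102108018020e00e00e700000628028029400001060060063000,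
  nat_lit 0x29c5ba33a319d14aa440ace8ad73305a5ba23a22c020158ae86e8650085ff0ba13a1056b96b82b6cb6c117917909ac1ac0540540427907901084084096d96d84248248282c82c13a63a60917137888cc8cc8b68b6861d11d170e90e931d05d04a0b051ec2f52f56b6ab6ab17c97c9ae80e80c73f73f6b9f39f30145cf50e78e78973b73b439d39d25cb5ce4ae70e7037377371398b481dcd9cd9289089066346345b9ab9ab4141cd101bce66c287287513a93aa0760761c510510c04e16d38b78b7a4a0ca0dae64e64a731731382696794be8be865a05a062782785b949480ce5ce5d2c4ec4e7297297282893488b4cb4c48288284265265382414d258b98b96e60e60e0504ee613d13d35ca405d4e5ee5e6048048080388c09cb9cb94e5ae5a804d1f45943143141389b16532532605272c1395b9589ca813d600e09a900772a2b94b949401dca06092e4e12402400a23a2385c99c9829be9be16ea6ea0b4c34c0594d94c271071015c05c00a73a73850790782126126105d05d095a95a85c95c942e48e4810f50f50820824989ac9adc990990c6b66b62b8e1d431c8dc8da6e06e0c172172691539125c85c850beebee937537540e78e7a4115a4c29c29c240c00c029fd1fd0c948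9484088094922e22e301f8962080c80c4d0ad0a2244244382139031c7dc7d4364364870d1cd3a94294259ed9edae3ce3ca04471d738e38e2c119c6d635c35c502d71a5929929b496c7e92a26a267260260282309b88f3cf3c41de1de4020020382092d108548554284284604104108031208896c96d408a360b71971930239261011c114e088a6816036030aadaad849c89c8219419414c04c00b8c38c04bb4bb4264c64c12912910994994854614602caccac15175170a282280427827828a28a2141341308fc8fc840e03b045fe5fe471771732eeaeeb89c49c5845a08ec230230693c93cb012c12da46e46ec70d07741c31c3244d44d506f26f29183183429f29f2488883824dc4dc135b35b225ca5c95225224681c81c208f3ed4b8b38b18860075024c24c271571510940941c0e484d8922922a49249240b38b3b88a48a5807c46873dd3dd4b8a38a35c4dc4d411e11e703d7125911911b40f4a80ae22e22317571020e20e2187147156a46a46d219219501e0b80d0bd0bd27c87c8722d22d281f8d508f48f48490890841fd1fd381c11b246c46c562f0454c046046680310b108fc8fd43f83f860380380802911200f5c3ca07c1c6b70e70e3386b86b40fc0f9207a07a900503c381d81d0c0b0a6c227e27e12ad,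
  nat_lit 0x19d0a9da9d84384384266a66a10c70c70a7ba7b850ad0ac2f46f4617747a213d0bd091e81e80ca10a10e79f79f62b62b614861e798462462d62962963cebceb58a98a982eebe6935c35c42a42a424ce4ce5085485497934a613cbbce1de6de6d253c53c671c5ba436436408c40c4045ae5ae717179a40b93cc9d3413412c38c38d79879853cbbcb9c5d9949ac7cc7c97917965990990948808806f2af2a603d38132d4ad4ac64c47d2ae6ae6748d48d28bb9b1895195184aa4aa4455855838b80aba984d84cc2e062a279479453c9bc9a05d9e496392a7a24eb4eb10ba8bb24099e44a04cf20378f78f18133c711915914cf1af1ae507507606606614b68d958f18f18d46e46e63583583599999988f68f6d58258260bf0c7a44884890f16f16978a78a43c48a094500500683683620e4789319f99fad465465a2fa474825925913c43c408facface274f0e878678673c2bc2b05f1e10ef06f0697827826bc0bc0a8390390eee4f00d77f77f496c96cb8b68b6962fcb38b77e77e2bbebbe8ddf1df0c9d49d4b17a4c932862862ddeddeda2eaa5a30dc0dc495b15b1d0c10c0a2fc4c2223923921223bd25de5de56ef0ef0e17d3ca615f15f345e9ddd4486eec87722a259e99e9945f1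dd4cee6ee8477377368bf0bf3409c5f560e40e4b02777248138bd1409d57889c89c866a06a072b1ab1b17c57c4a87a5fac0fe0fe6ac02c031dc5dc5aee0ee0c4954956b4b34b309241910edeede92c82c8402e02e24b28b290edcedc93a376d2238238147307306ed8ed825ad0ff3a1a21a25daddacced4ed4b57257268b9bb4a03a08358a8ea8ea606606432a32a39b09b09848e5b074c24c24b1e31e349449454b5a2f6b5ef5ef6bb43b424e40e41c87a87ab2497675bb33b315d95d946ec8ec865f95f959211ad2c1c41c5a6ba6baa245763199119124f58f58e6f66f652497624917917ad6f96f9c2e695ec66866869210ba100f9d844ec0ec0a3a33a341233afacd78d78a48eebcb331331312507988a8ca8c448660c424a24a6924924b41085cd6490490b04224749231229c91090ca484484504222b1343b4391295294c640640e75d75d61e31e314a1dd718eb6eb6d75a75a63acbacb5d61d618414414d7577576399bab0cac0ac040aeeaa77547544ba9ba99866466565344c4875275213a8ba889d41d40e0a6e9ed74e74e4986986b8a1d9ac660260262a62a65ba1ba699cf9d306e96e96967d67d3ba53a515ccc548482482420900902381ba4a5d21d216220220e05a12b63a3ba3b5d0c6f4c05e4b0b741,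
  nat_lit 0xb558e08e0b602e02d237e37ee0d20d2580a039ae02a028a310310380980930410412c030281401e18634b04b048598599c2c82c8a0280cc2808808116a16a10178178e01300e98068065c02c02ba000f1d9009008d00c09a2401c01a81742a10021004b0b10b128088352c360360c02b002200d074200a80ab4050051a003000b7ff7ff5800808a4040041200201e700e00c28008050c005ff8cffaffae7fc7fc63fdbfd95fb04c98ff4ff4d49e49e62d9ad9b517917982ba2bad11a11a60103fca1fe1fe1244244286b46b44bfbbfba099c99d224e7ee35d35d310933fb1dfd5fd52fe8fe867f37f3589d89db407d68909d29d221ab1ab101603831fc9fc9483483487f17f173f83f831f8c524efdefde97ee7ee691f11f28499fb5685c85cd0b40b449a29a2b9fb1fb1604096257eb7eb1ac9ac9984104116032fd4b7e97e96bf43f428071f9c626626695e85e83bf33f314081f952726726b13c13c700f84e30418419a0321c0206b06b5093893a00744e1618c18c57e30ed58a40a418085f904212212201a021681000fac0780796004fc6901d01a280c80c94009f888fc2fc267e07e073efbefb0558558a1e06acc7de7de6aa9aa9b1551551a1d41d4c54f54f6ab0ab0b03edf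75022a22a911411443ee3ee25f6df6d0fb4fb497c93df22a62a615f65f64665065027d134b48a28a299f61f6161dc1dcd0fa27013ebbeb9c3d4d418facfaca32f32f42b52b5393f93f98f8afaa77d47d44be9be9b5f49f494fa2fa270f801358090093430830921ae1aee0f00f0587da1395f41f406d92d92655f55f587791c182ac2ad6238238d12e12e507bbe78c62c62d27887887083083287dab2a5f39f396f9af9ae0fa7cc6203203343bdf2c8a6ca6ca7a541013e53e529f25f2501f082eb7c87c82be2be3983f1f1881f81f8d0fb0fb680c07d2c3e43e56030f8a90f80f8480c07b9c3d9f104f86f8640ad0ad33e13e1383a43a5857257250597c163e03e035efdefd8f7cf7cd7bd7bd63de3de35d3deec2cf8cf8131c31c20758759405d504ef74f74929f29f314d1f12021c21c433033020f60f6380c28038ad0ad180aef72b7b87b86bdbbdba5ed9ed9c0b2f6a62587b433d9bd9adec9ec9af62f62a28429418f60f625ec1ec0ef5ef5e56ec7ae13d6bd689eb1eb08f56f5672b57aa4827884304adea48f50f50a11b11b315a94c2cac8ac8a0aef4eb27d27d30271ff098018004f4af4c404e7a52ba0bd20c9cc9cc60b00ea13733730b2532504cf4cf42adcadc12b32b30a5aa5a85ac5ac426c46c4119d,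
  nat_lit 0x895444a44a2624e24d11251249891891444844824c0d784311f11e152e52e2447447154c14c0711b11a2364341311b4462036436447b87b824604603916195b068868944ee4ee888b88b7445445305b193946c86c872318895b21b21b4b38b392f3d1103887887302544318598599710b10ad884884543e441a620a208f103102570d8803915c3fb17ad7ada45b0fc41f81f8518d18d188ac8b070fb0fa23003005181981a08c45b124630f8787b87b381fc3d1a1e61e5d0f10f0c8778772c2ec3b321d61d5b0e90e8c8738736c3943930438439b05f0e288708704c37c37a21ba1b92b0ab0a83f13f14844c36921b21b0b0d70d633e886a3c34c34a61a21a0d0cf0ceb866866685fc32a2192190455e55e22a12a1394dc31a218a189d0c30c2c08a8603a71271257e97e9b0810beb85e85e694a94aa4630631d0bb0bab0bb4e329971970e172170d0410b6b85a85a6c2cc2caa1361606b86b8694d44d43c2bc2b942ee15930ab0aab8318542429c29a81595a041e90a4b1bf8513427c280a13213da17709cb05384d3ba84261607ce003097096110d10d099d99d84df0df0309509415cb5cb0c24c24851c51c427de7de159f59f08db8db84cc0cc02a14a1418488480a3ea3e8611e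11c279c79c10858461422c2290e90e90c7e67e6e55055060db0db142861119087086d0620626031831b610a1098144144d8418416046420220fe0fd307d07c883d83d4c1e41e220ee0ed30427d0183a83a08e18e1920e60e4b07107034fb4fb14180891e0de0dd306d06c68358355c1a41a3422e0cd0a08a0825bd5bd11ed9ed9e004fb184bc4bca8328324418c18b82fc2fd80a680a767e67e4b19b19b4e28e295061060708a0bb5c17c17b443c43d2260260e0a10a1584617daccf8cf8b05d05c30bc0bc33ff878ae0b60b5a1e81e8a08982c1c15c15a60aa0a8f053052508c34e129aa9a8a0a20a0904f04e70854074c134132e096095c11704845255255411c1198214214201a24228228225410c10a022a081703f03e50533515a01201182341f040187c0408d08d68460463403422d60d80d8b00d08a48068449c220220e01b03c307081d11aa1aa10de8de8c968968e81c81c628e28e1434a06d82c82c8d31131161891893606a0698a3ca3cd0d30d3600a04aa0358359303303285155154c0c40c206e46e5215102e18168160c0ac0a92052050b027026328528510538d69da01a01261c61c68128125c08c08b60020410086872a3343344407c07ba03a03980221b6780d80d48aa8aab6032031414e14e7010,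
  nat_lit 0x9272c934930e496494522f24879239234c914911a4864857241240d90391f40c88c88a47a478413123ac91c91c5359b59a246e46dd235234c9019193c8c48c25781781ac0ac0aa9179173c8048b2d0fd0fda7d47d4991591572aeaaead7f987d678a78a59149141c89c899a44a4496f2122239109104c87c879e43a438abfd21a266c66c2466902a56196196afeafee9036c0648648635e4169c8580580a05b90b14854852a4264251201210b9079072c80c832e416414cc1720827966202305b05b57f97f9a299206b90290258a6480a640240122986fe72108ff347f47f39ba5ba5874e74e58e58fd60af0af363f23f191f71f6d8fa8fa62e52e5363e63e587551f088f78f74a48248202b02b131ed1ec88f58f54c698ec863d23d031e71e648f28f22c78c788e3c23c051cf1deb8ee8ee69c6030223b63b44a20a20221021038a6476323ae3ad51d51d484194197474c74b075c564f1d11d0947a47a6a30a30aa39e39cf19e410b4494496c7347325989989d1cb1cab3aa8e45c71c719638a38871c31c268e08e0593446f9a37a37971bb1bad8dc8dc546746d8c20020131b51b4707f07f29d546c9d05578927fe7feb8d88d871c60e03235e35da4d11ac48d58d5514e94e99054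58851a91a8a8d38d34467c692d4ad4aca3af1a268d08d069d51d534244e3162be2beb0911d74c67c67a4246338f19b19a70918cc0ad7ad78632e32c319519418c98c90c644640631e31c2434434120420409771770631a318257457418c58c50919119047b87b8255855811e11e109a69a68423a310d187186e8c28c26460c60950e4e358918918d8c08c060c70c7362fe2fd917d17cd43a43a604c45ea5831831117917898bb8bb433ab3aa628d104242842846a36a32c5d45d0cf54f5441a117278b88b84c5bc5b9a2da2d966dc6dcd0978b5445a45a09859858516716678178b26458c58aa2c22c10830830e302302604ac57a62ba2b9b15b15aa0d00d0384a185ada99a99a55c55c9679679721cc56162ae2ac715515463533535c4ec549a2a22a1616a86638a78a74a3aa3a9cb08b08a13082222d22d2145345312296294e11c37c98a48a459fd9fdb825c3518838838d89d08e0807207886f06f1514714680943955c5145114256285640e40e60398a0144fc4f8a27825d612c12cb00e094480744f16276274a01d138300e89b0c4d44d052e92e82c3cc3c14574570c4cc4c8509509425aa5aa14c64c60b44b4485b11b1026c06c0146f46f0a67267053d13d02d0cd0c11b8506344c44c3a25e25d912d12c5236,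
  nat_lit 0xa3723a23a3186d86ca2c1364c9b19b16cd84d8326be6bda22c22cc9ae9ae6964964b01ea6b5335935889ab9ab4cd54d521709709331f35219a89a821c11c11669e69c734d34c238609b3cd2cd2a6692690c374374b14343e44d1cd18a68a688534334279919a064cfccfaa67a67912c40fa799d99d4cce4ce344d666d3335334e160160583d0342e666664b331330340a40a31b51b52c1cc33c82ca2ca62ab2ab597f17f36570e38695895899979973ccb4cb141ea654f03a73092fc2fc59c19c1b81e4db1a0e7328499399354c94c91a0766447321320252f52f54c7cc7a01dc26440e80d2407b07b683d03d3402c1e5731d31cb00b6be091d91d8485c85c331b31a16316310ad1ad184e10e103319318198b98b0cc54c506626624331131019879870cc34c304d0cd0c330b30a19849840b8b4c18a60a6089303302698098074bfcbfb25fa5f8a922b02c97d97d6ac8ac8b1685685aaf2af2c97c97c6cbdcbdb084d0b132f52f489799794cbc4bc20df8df920ed2ee59769761cbacba8a5b89fce52c52c997497430a18a1ae5ce5cdb2ad2e4897197112ae2ae09735734e41c438c9709705312b12a25be5bdc70e70ec0771973b3533525621621a6ee6eea96e96e3805987ae5b65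b5b2d92d8996b96b7248a4e965aa5a872d32d269689685908cb39a59a5996e252ca306d06d4cb24b21c334334a426160239c39c1304b0490c24c24f2bcd4e99639635cb14b13a55997592c32c2d21196054afcaf9a57a57820772ba295c95c503b03b2002e56d670a70a507795a5ac1ac19a55e56452b12b022129576909cab2c79c79d60764245211211281dcaa8e55255060772a6445945934a94a93a54654592a12a0593f94f64a74a7353c53c58996996d6c16c164a6ca6b451051182ab298894b94b4a292292252a5293293292801194824a3ca395a69a68728d28c20a894539dd9dda6512510c154154b0a90a968aa113a08a250dd285284c93107839c59c5a46ec6eda05d282b3913916afc2fc26502501d27f27eb15593e5c9ec9e952a12a06336336649f49f5c97c9e2e4ee4edb19cc2035ee5ee49f71f71e4ea4e8a2aa970220f20f210849ca64e24e1726f26ee15462b6307307364bd62c926d26ca7962025900900964c64d57269268693242012e42e4085424cc9265264d15515458a98a9ac08a4c5214f260709892f28110b091875874c954954e2bd2bd60f90f9155764b98d50d50d3133136496c96b64b24b19257256d68e68e62ff495210210212a28a2883673674978978a24a64a532132504927,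
  nat_lit 0xa5a2bc152ca53a13a16862862e0e764c652c52c368c919494af4aea01a5515aa52a51694a958d4a94aa20e24d5252a52a35e0839d74a74a6b016a524872298843743742a64a641a51a5108ef8ef8523923826b26b21a50a500d27d2784d18d1821ca1ca110a10a08950950693a938349b49a1a4ca4c0d25d2584031030aba5494ca49a496d24524307cc7cda3ca3caca47a476b3c33c309ee9190adaada928128143683682691691514894889a29a430d21521058a18a094834825a40a401a702700a8d28fcf47d47c9a3da3d351e51e2e8ee8edaa714748a39a39121e21e08fe4fe4e9b1470ca37a37551b51b20e74e75d46b46aca2245c3b3fb3fa5329329a170170aa34a343d10d19ada21a21ad74d74955755772e92e92c9ee8c974634625a30a301ce0a9fae8be8bdae2ca36310c10c499d19d1d7f17f0a4f745c9a2da2d5d16516394e1a909457456aa2aa2a311f328893e93e954534528a21a285d13d139688a899744b44a64f8a2410ae0ae08ae438889f09f0d27b27b686fa9c2e88e88d61bf4449a21a21486fa5e9c37e88029769761a1fa1f0ac62c6054a54a42d8ad8a163d63d0d0f50f068768742bdabda13083080d0e50e0686e86c34354341a19a190d0c50c0685e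85c29569561a16a160cf150a8a85285094274266a12a12733733732846844b3e7420ca0fa0f6d0750732836835b419418c9d9a0b4505505268268250c6ac6a9a08a084503d03a677a818340b40a1a04a042501d019680a808740340229f86e83d00500267fe7fccf5417a80be0be10f48f48a7fa7f8f3c33fac9fc9fc52d62d62273a7ed33f53f4d9f99f954fc4fc1e75e7dd73ed3ecd9f59f54cfa4fa3a7ce7cd73b33e4b42242229861860c194194d3e33e2b2b955a24f84f81a7be7bd73dd3dcd9ed9ed54eb4f6267ae7acf3d53d459d99e914f44f40a79e79c93cd3cc79e22e86174974b4ae679493c93c8a9e39e334f14f10416678473c13c029df9df54ef4ef2275e774b3b13b8b9db9db33db36f0936136041bf3b447b69d9682ccec2675e75d20b33ac79d59d5382c95c0cadcadc60b33a8c9d39d32bd54e93674674593a13a0d9cf9cf64e74e734a227356f79398e7aa9cb24e54e51a7267257391390d9c79c754de4e31ca1a7156e9d388d7af9c30b764e109bb2705738138059be9bf5bd2cdf266f66f52dd937879bb9bb3b764dd15ebd0c82b1ab1a13cc3cc098f98f852fd2fc337337219b89b80cdbcdb866da6d826ec6ec13043040b4fb4f866d66d4336936819b39b30b6b36b0579979826a867060a3,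
  nat_lit 0x41d0919a410ac12c1087247246b03b03758158132c06c04ae7d600c500aff0a4d24d06bfabf8903edc87afdafd4d7e57e189d58bd15f75f62afaafa1076d7cbabe2be1809b5eebaf6af66d7ad7aa5f06bd0b5e75e63037af22578d789abc2bc175df5dedaeeaee5570d768ebb2bb135d75d67741aea123e23e0aba6ba4890a90a77e2ae8627757392b9ab9955cb5ca67e25a85d7257214136b8d7374da42ae2ae2113ed709c146b80609c59a1adfadf0d6f56f052f12f0216e16e1addadd0d6e56e06b6eb6c2bc6bc6164f64f0b0930906b6ab6835b35b216d96d90ab4ab486b62b602778778159e59e08f256b8929d29c82402406ad6ad6756ad6ab2b52b50a36886ecad3ad36d6956931c02b4515a15a096e66e6434eb4ea5b81b81159f59e93a147f0b40b40850d90d8959d59c5acdacd1d665660ab0d7692b2eb2e6acbacb58f10f1340d2b2915935922ac8ac81563d639eaad40d8812812a18018045635633ab16b15954f588aac3ac33d5356126b06b05c369580babfabf2d5f55f0eaf6af4d579578ba7b69e255dd5d9aaeaae97573572dab8ab85552d5b8eadaad9356b56a7ab4ab42b835598aacaac84d44d444ab1ab138f255832abeabdb4f755c4aadaad555655618792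aac755555422ea2ea51d09d0a2a9aaa4b54e41861eaaa820f5553a6a9aa99206b54a71e8aa418f30f30c0d6a8c2d18d1814284280d5155106a86a843541540136f36f0d4fd4f86a7aa78256256214234230d4ed4e854f14f02bb0bb015d15d10d4e54e05211ab9ccd2cd2c38f38f28d9d4db47407419535534da99a99654c54c36a5ea5d805aa889a96a96454ad4aa6a52a5115275269a7e342085305312a4aa48a0de0de3a91a9115445481ea3ea3d351d51c6036a8d4245a4589715714551951871ab1c76545d45aaa2aa2900ab512aa88a88381a543aea1aa19b50b50a9a84a8470d9d41ac32d1986bb6bb69a82a8238d754090fa4fa4e355500b263a7f63831e4986a8ee44c42c42aa7ea7e401a0b72c0969f454f94f82a7ba7b281a9ec18fd8fd9cb8eb8eca7aa7a2d32d3cb0e64e65b4f14f0c15b15b6d3bd3bb1565565b4ed4ecc782a75453a53a269ce9cd0c76c76935735740be53910cd8cd8b4e34e23a70a7013bb5379d5f95f92a1ca1c6a6ea6e5d36d36b439e9b109b49b425675671535d359c378185d4d54d4ca52a693d345342699e99dae20196ba66a666ad8ad8a5119119d4cb4cab782a645a4a24a1698e98c74c54c463be3be5d195309a98298174bf4beda5ea5e5071d2e8e97297134b74b67a5a,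
  nat_lit 0xbc05ad6ddfa56b6ef8a61461455adbbd25de5de1aeeeeedd775774cbb9bb92dceddc311dd1dda206206cbb7bb76ddb5db32ed6ed5b769768c59abb342f52f524f94f950dbedbe9bb2bb245d8dd8a53beec0975f75e5baebae1a68a688ae82eb4f759758944c44c35d5dd5ad811811b71575485f45f415d4dd488e8eea1974f74eaba6ba645d2dd2bae92e918268b487ba3ba34dd15d136e86e85574174073da51a5a2122136e7ee7d373d73ceb9db9d5acd22aaee72e70b7377363b9ab9a31ec9ecaee19a11a648648ab88b991dcc5cc26e5ee5ced5ad5a559a5b7108c288a4eb8eb9772d72ceb8ab9565ca5ca36e1ae4c8b60b60a113b9215c8dc8a93bd3bd07b5720bb8fb8f289a5c72ee36e34c7537182b8bb8b15c3a4b10ea4ea5ab34b34d111b8a5dc4dc4ac4444d127b47b49111b883db0dc396e1ae18a22370a311157c0dc25c206e0ee0c23023021b82b820dc0dc086e02e00240c40c1b7fb7f0dbf5bf06df6df436f96f81b7bb7b0dbd5bd06de6de436f16f01b77b770dbb5bb067d2dd4d6e96e8eb73b73644f5b932dc6dc5b6e16e0cb6fb6f6db75b732db6db5a6a76d8957057045b5db5a6daada916d36d29b44b683db3db3a6d9ad98d6cb6cabb64b646be3db1a2d8a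d88426c26c2b61b613888db032d7ed7d56bd6bc8b5db5d75ae5ae31fe6d6cf6b56b49b59b596dac5ac296cad5d76ad6acdb55b554daa5aa39fcad4cd6a56a4bb3cb5135a85a82dfb6d3c769d69c9b4db4d39a79a7941c2d3043bc3bc2b4bb4b25a55a51e7d2d253691690bb47b4773e3aea32d1ad19b6786642b45b4555a25a222cf6d0d768568457f9b415834da00acfecfc422767cb01bb3d480d88996cf2cf0a037676301b5b90a66a6686ceace82d98d981b39b390b0a30a04b0cb0c367167012c52c5098398386cdecdc25ac5ac132d32d0b0530506cdacd8366b66a15875870d9a59a04a52cccc5ba5baeb32b326598d9894a6acc1361f65e1b2eb2e2596d9696cb2cb076576562b1f3ad393f13f26caaca8d653652b73fb284593d938ac9ac98564b64a7affb246591d91a98d98d91645644eb21b2161425902ac7ec7cef6363cbb1db1d6d8e58e2416ac6cb6356343b19b19358c58c2ca5d524d62f62ebaf72ec1b11311250e10e0eded62c2b15b15158a58a114a94a8e529626cb12b12694bd888ac42c41561f61e87b12eb29425872dca934c561b61a2298b0c1828d8586c2ac282d1ed1e1456456099519506c26c24263663614b74b708e98e9855ed5ec21fa1fa1b08b080d83d8386c1ac18360b60a141d,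
  nat_lit 0x11e588e88eac0731f520398f85c7bc7b280e36b871eb1e838f38f21c78c780a1da1d871df1dc38ed8ec13693690e3ae3a8535935838e98e814a14a10e39e39849d89d82d56d561c72c72091ce38b31c31c0ae3f8dec3963966e3763731901901aa1aa1acc6dc6d692712731c831b105c65c69c6bc6b4635635271231a438d18d04c67c672e336330d7d97d8427d8ca7c64c644e31e319b18b18978c38c2d257c60462fe2f8b17b17858bb8ba725225c662e62e2949d49d18b78b6ec5ac5a638f62c9f16316128ce8cedc57c57509f09f1c957159b8ab8aa9250250738fe2a1714f14c78a58a46c51c515b8d6280f13f13d389d89c7c4dc4d2b9062625035035654a54ae2571a66625e25b5c69abcc4a38942c49c4956246242095711d788d88c571ec455e2262219ed310c4d7ad7a2254257592b12b2c11095520884a8571ac420e20e2084e80e8038818801c3fc3f0e1f61f04898898387b87a1c3cc3c0acaaca870ef0ec38758741c39c390b6db6d8573973838718701c37c370e1b61b06f130d458698684c33c3336196193b0c70c5986186053c0c2f62a2aa2b70bb0b9985b85ad6826826616616370af0ad98078548c29c294e146142309f09d381384c5c25c251e126120b067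08cf84584495765763610e10addab081024a24a2c1fc1f160f60f1ef3b0750b7d8387c1bc1b4b453453706b06958338327247c184b26b26b8f00f01780782ebc16c162e0ae0a8f053050d827826b7d246b222222219b29b297825824d760c111b2e32e2591d91ceb12b125c0339e16086080b03f03c981d81c7c0b12d4a902902f037035d805818a5165163605e05849192885815814ac09c094123e042f01f01cd80980c25ab5ab160060293013011b807806d246c025e00e00ac91b000afa4b323bffbff19235ff12ff6ff4c8d28d2ebfcbfc622722716f71a9597f77f6d4c14c165fd5fd36fe6fe58808808dbf8bf865e15fba2fdafd937eb7ea8bf4bf44de529992fcefccb7e57e43bf1bf115f05f81d64164137df7de6beebee5df6df6b6f06fb108e68e62bebbeb15f55f51ddb2fa597d17d0abe7be745f35f33af96f9584a37c87be3be34df15f136f86f8557c17c07bbfbdf6def5ef26f76f75d7b97b8bbc2bdb5ded5ed16f66f64660a60a6bd8bd859855eb990f6f5877ab7aa90c40c43dea5ea16f0af4c57a57a44b616e24aab2ab2ef46f45d7837a0cbcfbcf69855e712f36f35570f7982bcbbcb55e55e522efef257791790525121e5de3de39af0ef18578b78a2bbebc425e1de1b6f0af09ab5b782bbc0,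
  nat_lit 0xd4e4ea6ea69db39b38ba868d491a11a15ea66a6399cd92d9a97a96dd0f2dc26a56a5289335250849a90bd47d472a84ea31b5135144c1e3284d44d446ea1ea1b492d9cd7a85a84b24b5094a122122492f504f963a801d3fd3f0e9f69f074f74f43a79a781d3bd3b0b2d32d074eb4e828b48b41d39d39088288284f9cf9c3a71a701d37d370e9b69b074d74d43a69a681d33d33093a13a048d4fe19a65a64dd31d316300b00b74c34c1816c16cdcbed2f469769724b90b911a5ba5a9d2cd2c4695e95a73e34a83a53a521d28d282693e939749b4986a0aa0a2d15d254e926921b48f48d7a45a44d3fcd2146906900b47f47c5a3da3c7cfbd1d668e68e2b46f46d1a35a34ed19d19667a68c1d8e58e53a2fa2edd16d16568ae8a9f3cf4517a27a26dd12d124e88e88bb443441797ba1ebd0ed0e2e86e868f433430d6ada164d0ad0a3684e84af423421ba0fa0eacf2d061e82e82a7413410fa07a065cbdd02391ae80a740340179ff9fee3fccfe667ee7eb72233f0c46a46a1348cfb1e7d67d0b3e73e559f19f08cf31395e7be7b973d33d979eb9ea66ac60f2356356372f4ff179919e89cf3cf349a46791f3c73c4e6919e03348cef7677677333b73b4b9979d8ccebceb6e7567531005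005b9d39d2cce8ce86e73e73b32c739919cb9ca9ce4ce44671e71a738b3890d32d329cb84930e70e70851b11b099c19c05cdfcdf1e6f66f0917db74f9bb9ba9cdccdc366de6daf36b369b9619b28cd8cd8166be6b8b35b358f1364dac42642650c50c523357355d9a99a8ccaecd33e6966927347345b9a19a0a45f45f38dee67af33b339b99b99a9cccccc7665e65af2c7328b993992360260236646642cd2331cd98d98cb52652668a2e628f31331139879867cc2cc22e58e60a7303301797f97eecb0cbe665ee5eb4d232f09977976acbacba339965c887ac7ad597197081bdcb75e5b65b172bb2d57969968634ccb316596590b220d31b963962d06ecb05e57e57ac1bb2b9237b95a4caccac3655e55bb2ab2a999539525b5f5bc66546543729f29d994d94cdca5ca566526523728f28d96c19449ca1ca146506502727f27d193d93c9259c9d1a43243088eb270f9379369c9ac9a364ce4caf263261a23d92e8c96c96164ae4a8aaf32511927926ec92c9263f46489f243241391f91ed041c8e6e46e46a7233231d6bf916b45b45b2e456450f227224c766766bc7bc885dabe438f21b219390b90a7c84c842db0641a5b4db4d6af4af4e11e44b6641641371ecec1790390257e834a5e406401b1fb1fc58f98fcdb60,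
  nat_lit 0x6971b3596f2817c490493658c40655aa68aea40a081143c4a3e148c21d5c44f037031b81781569b29b2d2776656a3db49389dc17d65c09d891b53c20a31a318781381028c88c813d73d70b03ad018f0076d292a76a238d39f487a9afad765764c39028c41c83b70f01f018780b8083c03c0216746740f0070004bbcbbc3bffbfe15ec5ec0ae7999a03719c5c3a0a16a1b50d11a8b1352c7c07c1c2403f6b2813190eff6ff077f77f43bf9bf81dfbdfb0efd6fd077e77e4219c19c124f45842572570854ca0960c2c483df8df849711711c77d73c8829bee6df6df609426fa881377d17be7be657b13a55ef96f91b7bf7c45be1be02dee49b26f7ef7b6c78a356509bdc52ebded19426f60579d79c3bd7bd61deadea0a1aa1a877a77a422d62d61de8de80ef3ef385b69b683bcdbcc1de5de50a91291053b53b4220420414404400ef26f2076e778c4ac0ac04de2de236f0ef0bb7837819bbfbbe5dcbdde66eeeeeb77737719bb7bb6dddadda66eceecb5ee0c589bb1bb05dd7dd71bddeeb1f7577552533ba88dd3dd3123f23f0b74b748e561ba28110dd03ee7ee7a773b739ae7bb9a9dccdcc76e5ee5adee77297b93b9250ae0ae194ba9c93723720c50fb8e3dc6dc64ee2ee29f713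710af73b862dc2dc216e0ee093703700fb7a8529dbfdbf5a806df1b6f76f420afb7827b10ba59e19e19b6e36ec5b75b742db6db926dc6dc35ee76dd60afb6c52b2db51eda6da0c15f6ccdb65b64edb1db166d86d81764f6bd9b5db5cddaddad66d66d6376af6ad9b55b54dda9da96127ed42769f69d1b4db4c9da5da541a0ed21368f68cbb45b443da1da116cc6d025a51a50db3fb3ebd9ed9e6ebfecea35b3670fb37b369d9ad9a6ecceccab663660faf9b2ebd96d966ecaecaa7653651db27b26b24fd922ec8ec88f643640db1fb1eb71bd8e6c00ec68f6336312d7ed7e7d8bd8b2927b4aa762b6297b13b12ed7fd8866c3ec3b5c6f6189b0bb0aac7cd8446be6c1af60b608bafbb02224cd806927927b410f5fd7afdafcb043d7d4ebe6be2410f5ecdaf5af4ed79d7966bc6bc17560d999aefaeedd76d7666baebab75d35d19ae7ae6dd72d7266a1eb8a75c35c11adfade9d6ed6e40a2eb6875b35b03ad7ad64d6ad6a2eb4eb48f5a35a05ab9ace7d66d664eb2eb29b59359169ba9bad673d6346b16b10897c97c408c9b8ed61d616284eb01f57f57d3abdabcdd5dd5d56ae6ae1d09356d7ab5ab4dd59d5949ca1ca3b5635617a87aaebd56d562eaaeaa8f553550daa7aa6bd0fd5236a8ea8af543541b7fda9e3d4e,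
  nat_lit 0x54b10a7a0fa424c19cc636a5820dc4c568c3b4db99d13484854ad615f05f00b22322059dd718225ecee11a465709551550575d75c2ce4744825648f1341243a4f9d1882888d06c66264858be339309b5790c6b8cb041eb4e50f17717055dd5dc3c5bc5a1e2ce2c0f15f15878ab8a83c53c521e28e280f13f138789b8982c1ac1a117e3b82040acd9c6813d43c4bc4a1e24e240f11f118788b8882d9ed9e1e21e210f107100787f87c3c3dc3c149c49c09d52efb19c387523b43b460335bb12c484ea913cb2c6532ce0a19b4f011558cf340a902cfc39c38913113130d435da8de07d92308712b61761928c9b2cb1890400ab1058e705c4c75a68a622d229229c310caa44cb19040149522d89061d605030430282e10f0df0d8786b8683c33c3213613610878105ac5b4a283c31c301e17e170b5e35e05870cf086a46a455ac209528f3191d69c8007c2dc2c9e15e153852852945a95548c3cc60616b4a012bc894ad6cd3e5a18e680d59c5a62940140341309f0e4f677e62455846b0f200352991b5ad1632c5e14e14188388398c4db94880847ab23c6c66312ab224db4355c14863a93e33e33215a4c2d5e15e1bc27c269571571707ba51845652d8c3cadb0d3ba0af6053b59251fc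fd165f25f2d62362352170792435199d832a32ad43d5d5270970917847844651c51c252139b43122909c9311a049fc31291942df582f9fab0c94c95a4be89ab2e63ba22fb8a5b516d8996b2ca04b12f12f5aa685ca5058cb10cf4a80554f6616b3233230b8d9e82ce2524905025d4212b282916cbcd21bbc204347347313f954211ddb9c4b48d72de0fe0f48d18d1b85e520dabfa7fa33a76e3122da89117ed7ed46cc8e483bc19a5b379a20c99d13c8c3096434ec5c162fb346997f9b0d24c4c2e41a653a231018a353995886cc0cc034e6445498b98ba18cd7588d38d3854ce10b71bc1bc30d4163865e85e8641a6a1518f18f1939836869ce646d2b15fd4707707278378350b98b9895bf3af4a8d2ceb4b956fd0d9abbc96cd6cd49e89d888200f858b1e79693ca58a0f067060782f82c9c15c14539a39a183e1331c994dd15c13c128e08e08726da6db0ead5bd2778894d4fd4fd4ad2ad2b844d2f8e79a79a558f2e5132f32f09a381f900feb1ed3ac3ab483fa8eb4d8dad5262a43e203d3553b5bb5ba4894894c94c76c234c4ad58a7323254b98556d025a276aa6aa4a20840b4ef4ef52d3013eb1592f74967ae8244951d88952952a5e62c1582d95fa416d508a612cb694c2318683317324d9cb117c0fc0e5697,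
  nat_lit 0x45238d8231c671c6c808ce36624c043338d82219c680e063f405a213703c110a90a8867011424b4084324170e538c8e4a5c646c10e2005a81b004329260228c118018e08a9085413534186f29a104e9c402a687ba72ff2ff391a01d083b08d9846e460a1b1230491b023b4118019a08e578953e077480581da41dc0ec241c1be73ed02e3894001280740edc426444708f70d511a01f39c48dac6e220a8b2a0710401681c85c4009842e005821aa70d611b387b88a80f0242c578a2221755b878e4a9c3838d002c05880e319c1125b868c670015ae1a00a903e005381e0ce180e80e8c0a800a303a053094db851dbc05308e14358d2637095145b84a5be40d1a3c628e970703048e3018047087a9ae0c0a8713d02f50a881838720754e3a806ea1846fb084c01919bec155cdf6deee6fe16958b40122c5a4150807e010405403510f2002840e40e5a130072e00e05b201c81bb1be46e122323944119119037c0188472851d039205e30c8007582802920a10a1100b00b006ee057382b82b81bb414c60a601010530530375804080bc0d983ac3e2c0360363874012100d80dc604a008d03702c501a01aac0d1bdcc35800896f70e8088c8291c16002480a4066c1ac2f05316978246cc0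a9a33ede0917f175431f813045c46a5a35006241cb14a52f28bbb85e0099c2ee30c718502d5379014b864c69142d02eaa02602628ba811843a00ac4340130d00e268302d848989a06d444d005ac1b318d70d38a8243784e881bc1bc06f1027089d0018408c0aca348060803100440180021c0c410c605a05a30060036816801ac0ac00d20520065025091282d80b04378010405c0b0905704e437780e1c06c008e038086400601c082181390110109448c00ee05104e6b7602c341380590058006e02c004581a8010405800460160062022008181f81fb00fc0202dd6000100200558130132009c00d004c0067027000380400324018019600a000500600428020000c010001a000000b00000048003659daf9b1ca8ddc6e86b86b8494e2cc115aca31051a886154c5924ac69f8051d4ec92246da826d063a0a7ea019c234c9c215ebd2b43c12309cd216a8e551e06b00900743f6376a9aa2eb19f198c6c0c9ae75844530b3817b30b393c989d8448965966d3b19880ac2e90844792b28414b4540f1b71b078d78d43c69c681e33e330f19719078c78c43c61c6013b43b40f17f17858698682d22d22166828921c42ba857d47fc2966966124e3e619a79790c6658b06cce5f0212f4c361301f9256edb44684abb846ad,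
  nat_lit 0x79743c9bbb89e606d509a0f3281b517853ccb292d431ded6ca4e3a679579620bbbcb18531e40cf2c6fab5a922821c08208c47de3c46c62ae23de15720ac0119055de510ee662a3777171198abc9214f5e3d0f24f1e753d1765b8e8bb188a45d522ec444416877b211101e0c860861af2207ab7911752bc8b88b9e3dc38682a39256076f040bc303945e053082f02f0070a79028a60130de41e384284ec0278e2da62c13c629de5e312ef40e4d36502940c78a0907284648282ef0d5197894bbb38825e24fada48048443eb259489b820a88e80cd4f0eeec70e4782680b072240580580f02ee6a7847805973b24ade00a8949d4b38417e59c33ba3b0996705a08ef6e3c44c917d12969069c944508841a4c2826123930a1020988e4980c4c24c260462511130bb9b1de8f4dc7942e2477771053bb0be94a881156eeaee811707612bba013b5dcc09d62fa2f8977217a0aaf390a9c81c790e40e40072272018bd07a945e896c4abc87ac6960fe511787f25d88921a5faec0976e244483210185db56f9aae41e640ff03643b4951a9da4911c41a088225124a516c123b85edd9c8492ece630624133b386f18d685cc4ec6494c76235e7257922845d16b50746ec230440271bb08b995d7c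9010ebc48070f324129830213492810962e6084924704239228211490c0fc445650ec75775b53a43a235d71cf42eaca6857567545b7b0292c6644f48eaa552a26274f582cb762dd3c961454c4e2566b29b23a682d09d30240c37005c609005410a914d38441d158e92e82e12b06e50de8e92c960168a4b0538813d054414e09e88aa5cb90e8ae8a322e0086ba282d38a6802160b4010505641429d310b057fdca044de0b0c73e2f5531717aa4a6813da51e0a4973d13f239cb9835cd5cb08d20e56a734733191680439ccc1b84e640a4a16d1f4513c02eacb3c14045200922269052614d143393b805d41de09050ef0ef039780c141208b82090508a05104e402882881bbc05c409c02e4018002200b88c0c1b807062303e8503705028fa37b18a649b10e58092826c0493b9602794a2c141609e09c904d0072b9502e90144145c0a40a4e00705d2b943941402401c6e5004e50f5002701000494174ad420b01de50180f5100c02c01c940600e481de5724240138f09d05c79c780e4e4823240240182109d05c9c01c8092e1ed17237071b89d430dc4dc40e46362d3a825b48e7b8f21c889482d2645a622e04a6138916b0128710e094072a12c0447390023a873412d2e38e38c22a03d338eb87a5c746bca35c498c6f2,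
  nat_lit 0xbf2c293a82e14613450a109e384c0536c2785fae13814cf09a0a6584c8282c2387004e02078508c142c8418435413421a501c1b1b089080174d0884c2004404fa2095b06847c411207c541984438fb2084f06011aa40513f405d85d8e07c14dc1765f6408c2fb31f040f18bec6b4c1e2116282c07011a7046b101c2243049002312181f6a8f069b607e0814ffe1165820351411f03820d448b8e0f847c207c81e29f0006b4234035611637e508a05348450069c224034703c016281d0d260698b22a018591300effed81b02e48dc80724254038302f00ad81106b20d6c00aa040261887215070a71556811053a4088088101802aa0db011705ac01282081cc80280e6607400b3039a13b4282000418657862d4066287200508198055900e162e3c700f084d017282a2000b0040d4806b00a40350381c8f81ac50020165074001680a800ae0000052022002700f0707005006901c0029c036036300c00d2806035a002802c6014ffc77ca2b523ff3f630469fe92fca03cd13206b4933910a89a1fe504d04d007f801b4bfc9fb951c0730a7ee278d13b7e423fb084a968806dc0e01be223e02150a4bf1b9fb44e1420884eb7eb7eb5875a58ad57c3bd6962fd4675653433f500f89f9c0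858fca18ce09c12640938700c37c05861c003e51387e170768768c5283b50fc802e80ed0173bf209ba00840846090004d021002580f80125f8c008a034fc4614a7e2139402709f883c18ac2fbca7ce7de4ab287cb4d59f292fb41ec97dd08709efbe6b43b81b8e696faed27374123ebb98889c03d9c6a095eb7d366863e9be914919f450f92f6827d20fc53eabe2b804d05d4abe1d6b4272383bb011c348348e1c488470411f041211c07d09f3c3f18acaf90e7cc74e2a9b07b85f2d0406f681ea34100fa2a0b80dadf1df18a1d602e57c60fb218e075903ec061a1f8030b0fa294287c00c25f14060e1ee1be52b97a413e23a735ef1f01409ef8097aa73e6be082905eecff88a82c00a3e22b43180a8034664665a56854c62b47aa428002bb9ee5ed5ce500b467b505153d8bda1c96ded1ae40f68e0440f523da02888a5024ccf58f5c523a27313d73d530a201398f54210b7472b2708414205ea4a994530530a258298294b82894a61ca944fa50c627d7a741ff139a1e9cff8223e4e673fe7a42bd302c15e941606f48aa457a3372083ab8b155b1e404f44c54e16762960b38b381e748a5cc54430c62a231481fbcf141288d9af3cf28942a17c42f9a530c928c18694cd26429e6b6314f29e91e713ad4b745b4a79a,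
  nat_lit 0x2bc44abcab8c7e40edb2ae076b95603b29094aa947e40ec72ab2a6229d90a14a9ca6b8d68d69c28927ec14494e4c9c8a9b653c261329832219489376854a1012515721444e9188943932503c498ba504809493f27c415593e3499c859a4f855cd2782a82610605448ec8e8ca75c39b23a420d70e20f314ea0a9883d8144971264c9392017315c980562c550a40526a84208df449ac6f9d08242cb266044d93202258aa4988635408932631b899309304c670111e4c237dc2b42b4392f1502c97c6a085855758d1cd50a5866a84902c81364ba4293252420992a8ed0c942bfb6481bc09249208a91f210748ec8ba242637c4c0ac16a919901748b4842a44987c8bfcc3e6620162330fc818a446311b1d919ad8c45b233362308a43582d840b20ee6c037f0ad3c8521c3a42c71be044390b9032c8448321bc05e1120c2ee73de6f014820b115880531ac16440a90214c5c818a626404dfd23d4298737f2d2247fc72b23e457947fe2bc95e215f6c7ec6a263d633531f119a11d98d86c771339a3be3b520cc012a0608cd7476473a234c5e048c31a0a1591d771044692a3822b171c11c843aa89c34720111237ce3051b714c62cc2cc30f0c6cba29478491b31a0c5e252b70e04670635a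35111882c4317814c18b11c61634803d71a2122d8d009159c6048a475c244f19d14c51e18150c662d9123110e58874918a8a448c48df04b34e346f12cea14088bd09a0a209fdb4dba280917313ea8b500f74594519c3422bce40625878af09571859caa8d4c9a17158382b8a8816245484b890ce2704822072c1be8a2706a0141823a05c681e12e53958a1445044e22286270f14001cb097095484a0071627824471380dc189b89870d844b2c6c06c0112ee32b8963412c4b20911418c0131210f6989587b0af0b9624d06230c1ae1b2926904854464453412c9dd0096096088b2376c4543db8cacc0ce6c8578d64e16c7444bcf1a21dbe8b110e64488670e2c409158e20cac83100d0e21b88807381817122021f06bd70fe305687f702a150ba1fe1f030fce64873322c0b99180212940fc24582d862a103f48b601f9e1f21e8e1e90f424de87a2064017921e843da21d0eaa85584e6c3b07a24fc5d4130e2ea4186d8316c3341ab219a19990690d068348340433c26921a93a48bba45cb2a12a1682a3a190a8614150cb0c260bc8626c1ac1ab6185ffcd0c309ea86082f5c2e8453a17c22cd0b89c6b82081f5a71c2d99ce1ce4d0b617e285884f642b02b24ab6150855a55a085384d0c2a2b40dd34a6c6ad10a4a820,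
  nat_lit 0x3a3d3e816169ecf6047147b0412180121ec532b29d8e6549d07329a59a536d3caf9a0d5e9d56df74ea66ffa75481a016269d53a434e4862da6d3ed2537d35b405c06494d6e687a6ba5555361782018695154d34a4e0cb55151df518acef9e08f0974c84782a64326a8701a9921e9b07f07e31bda5e087a0de8697813094c21ce2a5da54652caa539930069221a8ca410d10d052b8718519439caaa297aba563ed152a87015354059b4a802cb0e70164d2929892881b782a62818d08e40c60d38b5310317498cf1492aa2da494d17511b69293e9348897a9a464bd0d21d16368ee890947e2b8aa3a4bd751c5149e8d13e148b9444ea3327b3826519109ee8c8c1c402c6a326e8329fa9c0946d3e1945d454923c6a4211e11e028acfb42d489b03651a276d06d063689e8a14e9ea705a28a26451207022898380f44802c50e20df6a7c06fad4e006c53e93e85a210df4d111f69d2f679ca956ab41a202b8150acf9b283283d339b38ada109d54d05cea86819b788dd09b0a0bd9d574febdb9e7ee74133e73b0e9f70652ce64dd2a7c6730b3e21d2b9f19f224ec95c1a7ca7842ab538639ec2b714f497411cba775c5d13ac19e50590cf0cdd2e775e9553b6a6c99db9dc436f15ba2770a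dcedbc57059da7b66cecce63275dd1573b13b0b1d80594cec4eb0e710164f3ac1c0e2b7059195c028389d5cc1a4eb39cc275634593a93a81cd5d1583b0e90a1d81d803a4ce8358d27396c68c6809cf7355ce70ec3673a7492e7cf6cc9d29c20ce5b9f26715d3cb382dd899be6ec3cde376166e9798a5a857855e68030a1940410ce05818593362a2fc9b149cc4c7366c94bd2b846ee89ad9750cd48dd3a5bce1dc3752e6b1ba00f204d84ca90fa5b9d3400f6a07d99b6cbe4bdb666d028a70f2b6936a96851b51c394daa02966d40d0407a0683034805181a033c300619e8014991086783c88e3a655c0bc578499514371c197e182581ed87306d8c65d96161b603b06650e19131ea5e837a00b0cc880788264028a0d272a507b07b284b805b41ee5a4a0f20f2e1430792cb4005ac1e5824a292e2c214998508a48a4826102c08022738722e07c39ce30496610d6c2d7d2aa298349164bdcbeaa58e5f52d4e3ced58195c49bf10ca10b1d0892ef2c4d973959213fcac2a5c88706ad8078e21c0763cb74aba865c1ddc61f2b6a9683d15a4e911ae5989b892cf2ac296595410584abb1a9ce15ccbae2c195e7134109cb009c4e58080b6072496020e1caecab1656e56912b32a8895a9543cac9e89084cf44b2aa3f253d1,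
  nat_lit 0x4774a88dc4b6ee2e4537636c29bb3b620dd85cb35812e30975b716abaab6175d45d0213bed445742752a5a4134728d5c828f651548b348aa6496332322aa382da12e2857336b025b73a96288dc7bae56e2037277243b515ad1dc95c516e42e39171970a8b8eb853dc619915258445a752222bb8a111489a0889ee20444b70f70ac9d41cc68841593473274d970b70a67c1b85493eb9526e16e1456b06643b851182dbb5a596ddddb02af94984b75b714da4d9f36dcad1536d36d81a147e845b65a3b6d92d0096d167eab6301c75b00052ad6d071d6a8ff2eb57b4355a94100ed4d0b976a0b5a4b517c715a7d9d8ad300299693684e5d4b441023ad922d10444666568650fc7c72da1ccc2ad06d0516816768b41b3b3da059f15f39f1d767c0e0b35341c6bf91a9adfc8038cfe513c57f27f2044ed9ea16c9fe5367b676e3a33a31d9e00d9444c03076776285587afe0adc94f96cc507896676209b30ae70d97a6990eb6c355651642d5f263642f92f902c89d01b6435c2eb2472e6d901423ac79d355630012bb1b49a22a4b9f08bb2c30562c5083b122eb7589d7f8ec45d3565d761c84d3b0c4587269842eec30e9a60ba3b0c68f129b585854d94d8161561680fbaf20d85d81ba772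77016053b6bb017a66d80ba696c05e9849053aedb000bb257f02886bfdb488dc95c4a62faf8316857c36740bd513a13a00af96346d7c13c1abe0bd515f209aeaf70251d79bd22ebd1ea055dd5e221ca0170d791440abb49bcd5d35c02aeaae8593d5723aba0528d5ca1566ae6ae6311c57086b9c9e14b50b50a1f42882ad44eeaeb8eb8d0da55c08ae3ae03b690271eb85e9875c0d4453bc3360966d520ab5eb4d23ac86e5a8f6f96a1b97526b3eb4529983d09ad11e80a3fd65a858c78da3c4bba75da1ab55650f43940ce84f587254dac4ac108fe8da12a96b04c3c0064bac10343560824baaf2af06e5357888101e0555e021a2af2b008e0d5806aa8aa4356034f04cdaaac2d3c0682ab71e61559d578c72c0c4755f552eab0aa50d5701a86aac78175520a0920c5a2590655216aa00d5354e06a7aa51e642d1274a07980e9c3cc06a3aa4a720d51b571960e55ccd5c366ca97a9b554054da40a87719536c429a93a5e42a223284d087b4d51d51ec3d051f6547d3e92a429f1551a1c6e1c7a7e3d4437836a25e1d75094eaea87a665d41d4199c5d774d50635824663e968fed409904d210d5025fe2a814a45d4001526a006d194ff4fee7006ff753fa9a28f269f8804806c4a7e1ab19dc949a85b85b914fa074816e,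
  nat_lit 0x3c567e1a4073ec4e556ac7f85139cf6444d678233d892cac1e690d6ac34859fe1a4273d33c824306907cf2c8a5658e7436ddb32d96ed962bb76b760673c4d233c0461d9e19e0272c24b1e78676b58273bcc2900426cefccb6673e75ab3033ad398395edcec1eb4b4ce722921339909089080ce534a4e731a50524f2fdb9b596646ddcb2566c9a5389b72e0e8be698acd3cae7667e5bab32332967678f6bcca89a2663e580b314d31998396cecbe70d265e65d20dd4799850639e8cbacba48ce65e1067067019766961cbc89b1e5ce58172df2d519662308cb51183e59e589c92f1ec99626983c7c06e69a60372f2c01b9395d95a222d72e1656e5429b4f2a1390623ad5bc1374e4f3f1a328b274b4c14c25c9d57a6e4c1a5932731fd592efd8ac94c7e5648e472dfa9fa5791c760a3b3bbd1645db01ed6322c96c19166b761183645dab2f223220c0dc6906c8811e1643e3f3320f205c89623c53b034a41a583720d28d2c58ff68a8c7ec7e1dbb00e371f8071623c4747c7d259463ebf4271f4070b8f89c216d71ae7638b8fb0938e59481a72c9c4c2566e37e24a71a9ed138d84b41c692a56e30e2193196f2098bad7aac6025c1930022b89704f918907f42c577b4562cb3daf15b1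1d58a24a6bc51c545a750bd2f15095c58a0f68cc4cc4670d35e419abef78a480480a6afc4a19fd1290f12895cb88ef666c44645762291815e3b114646188a8c437614622bb09f10c11164aee3c9255044292a607970d91ac3884b322c353c06615aa2a9481515225b802dc2fc0a4e13906a70aae10984d842e6546c27610ab92f0870189846b56ac20bdc560ee0ca3026f345835808ac1cc182bbbe0c35255a59b83182856c275f4e09afcab04db08b82782e4c03c173602acc9b05ef3828d78042c11bff11cf3b53b037011825b8148bc3bc40e05dd493031288779b79c34a2c0846035ffa3022ffcf80cb325c052466e023b236d1acf1aec8ec85c02c0273b5601157e4919780448c5c002461accdff0a886e4457fd7b8cbf8bfb52ab5fda5b8af01ad4b6809bf42384dfbafa054cef45b7db78c4bf0bea6dc2dc312faaf1557d97c28be9be91889df4bacece8dd7d37c08bca1cc15f0de1aaf918f177bf792abd8bdb25e15ed9af12e48d7b6be26bd757c25ebde08af5aea0f7434424ba8bd342ba5e91a8867d0d7a57422bd3bc363715e43af40918379d7949b40bcc15a05a002f2ef306398ed83bccbc12de490f22f1ad45043d6a27bc6b922de22d6b6f0d6b577824a29bbf5ad2ddf5a28aef6e7597688eea3ae,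
  nat_lit 0x73c0598026b8a0c79815ed62eb283008037614401d5ca1c0f5450c074a22d03d344d82cbc13420dc090085b0ef039c93981ed43d50e500920741270139431b26c5c16015e02360c7db2006f782c01d14ba0162423007a9cad06fb3d935ce81454e74e760b0fb1f3b9d6de09ce8a0c15ee09c0733cba3026c430c1341b815ce458104d018039c2429c9c0528a4e0fc2327004e113839401f5ec5c16460a20aef01c03d414201cb9ce80f6209a705104d0399026a013805c0e6e4e007e2af7059200382bb81440e5a09c0731ae7102682682b86b952f5215667a92382bd4d73837d5ea415ccf4c1df6dd756fbbd48f7d6c615be9be8a74db212efa1d2a37c77b5074bbda7df1b122a4d942377bec85651a5085deeb121ef6ee097790c583bd9b6a2de37b76eeceeeab6ff7752853b6eddde539098b6eab2cc8a3cbbab662cdd5dbb26eb6dd2b75372d5ba3ba0ab20b1f56e83dc2f72f734a55bb9ad20a7576ee6a4d202bac31c15db9447b9dca36dceda9b728f18db9056015392b416e3eda0b70ec017b7f63ec4297b9758f82bb6c7cf0cd63fb724b1fb1f06dc6dc876f5d595b7c274ddbcdbc1bab1580f6f02e91b77b6880badb43eddeda976e415dbb70568bdb70572edb6dab4c04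15c7b6a79e4db3d9366d4ed72b62b6b92d2bafcddaf1e046d464b07691c6cfb41b02ad9dd843ecc6cd348d7661246a46a0d99d8056ce6bebb65f60d5b1fb1e51c61c618e30e3036436409b2035cbd8fd9006c8ec7836486b97b25b1c5a5e8815ec76bf8b637628c4adb00c695d8276c44080761b6114682e58ad84d7f2ec18228b6046b8649a49a324f1ae2127e2397603600a4afb0031af0436ec0021af5ff5f4235a0869d7d72b26bdeac335cb5dd4343aee946ad4269b3645235c72c43adba98d4ddcf226b392e2358f58d18ae4b87c5725f0e2be2b83588970fac5a8aad63ceb426e6aea0d335711a92e1a2d5dd4456b0284bb56f5215aa7a1cbd53d5726a1eab986533c0daafaa4425a21526a93398b53f51188d5a8ee64bd41096e6a4a8514d2d5a92ce65d48cf15ea36790b5173c0a328496dd4424b5b399349509092d2a13a829bfe24b3ea093a392149bc84e84e874822741394e9a05ca5ca41a67a8034bad0b0ea065b342db4c95a01a649d01cc869fc678a74bf3c43a559fedd22cc73e92c4dab4873c5da3b9f07d156ac568c688174432f97a21a26d151d1068178a8834480bc1a239e8ed14cbd390ae87932f743ccc1e4966d0fcfb0e859fe0b41b409b579a04e04972a2681356334073ddd9fd9f8a219,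
  nat_lit 0xdbf6505a802e82ecb0740d3c2375627e05c2d8d94a87339a1ef41e91992ad04e5029821357e9a27e110913f0bb041fb1a39d66be1aeb2f66a7592f543acd583073072c0ed80620bcc2b404fa9423682f7415417be46a0b49b2505d0582c805b4140e0ae09f90180500bd9827ce7a8af653e447b29ed05884eaa1cec164ee773ca273b7b974ea82b827f50a573ab4160b00dd04cea9e19a7576e493ab40c0b2b13a6cf0bab02780ac073c2be4d28727d059501b905b009462d815a34162a1058d07b83334c354220a6c611019904e6d180c960165aeb8f6e975c9da23ae39d8dd1e72865373d6a0c8dcb6ba4175b0ab67c5455b60262ad1d8295694d821515a0655a27e084075904e81052d8d17c9c61a51ac30d2845986dc2b1d77495165b98c5b2d89a25968e602abc0d4c2100585108a7c1084135b0a7066413ed6000b2005951420290277816013f0f6409d9051502cb9d8275a754163f3c20dbcb85310514381d001381653420e74816c0579a0b01f0ca5d80ad3e20df4743058c897033332c582399da511c01c708fe3f3447f28d823f6beb11fb58408fe421447c8294074220074e29a03de02cb016a8a140b44b009c175c03db00430166b8d60ad3e2905674704e23d81dd0c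a6c139619009ec20a70ec3a403730ab40e9a510e20a63403ac13aac8296b1041461a0b219f1318683294c3413d24ea78c69ff2872cffa9c927fdd7413a970ab3c6286433ed968331c125c257a04d12b108053d8f0284ac10d0257020712babd3095b94904af25442575d8926c29c04dfd79109ac72824d64d60af105204fb8ec30144a1013ae0b2073a20a03e094401cfc16183b0e9009c574d30ec58094760bb023b137eb26b5365135ceda49ac160a4d6c00226b26b03d295082bd09cc845c0b0322e3a603e217434a5eb8d852e0ac0b18ce8685588e0332f2c5615623050abc7e1855cfa082aeddc21568b6c238118311c08f82d82ef44471620973c03a057a82c38020139a0100b4074f05903a202b026e9d0c0f5e0a609c202f04e18ec03734828139c50ec28830d04e602730a1c13d450e4ea07c05003943cff83720f1813a6cfa09c6b017116d70108b4138645a904122d89a059742d301204fc81dee50d27305a313992c149cc4ac15783a4c049258582493602bac160c0924d60746746057880e2846dfa122364b2811b23a388d94236c837c8d6409364b2005104ec0ec01cf9d180f4a45c07a429704eed89b0ba126cc5d1bda42e82841974572a44602ac16ec4700c8b284088c6fb9b2b4a10595b620a73b,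
  nat_lit 0x66e6139e22ac9cc16923b0a700b014c80519d1ab09ac37c13b65689110b4a388829b02886f48a22003621100ab088815c827a8ae013e40b2075c748058e12c01ed09cc1423bb6d1e61d805141358288844013e80b207b205a03d982d01d6ded0ceb7422575b19951050e8386707718338054a19ca8048ce3dbb4a0c7981bb40100a0c05805138e7a2a00dd4f50009a5a8063473a43ad81eccbd50e902dce63420a0507ef030b405b8c5a039ce1dc19c054dc4418770a0c1bb22dcc04d025582682702836a001974e900759634050813c185b8b401bbef6e78881dc037d02681ee05b815f0e76a02588804fdb9ea00940940e795d0473daf85b9e39e2c1367b9b110e78a88873b4c445888a22222013da074c73b9e210b6255845b05b0142ce8639d5a813845845a84a2138b0aa22484e24e2441bc3bae1882edd06c0a6d8368565c1b41b821803d1106c17e683602f241b0640e0d9378306d0c408788360427c1a821e6a00cf7093a329849d758605739274129415c45c90ae9fb30ee3ae043b4a4d3ba341a97b81105ad62d62dd205b9d421b8e3176bb013db89b05edc5d81b8ce90e16e7b858b76e8a45bb77ca2dc04aa9fb7b705b1013037142b8d1140aee0259d56812bdc30094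5b81b973f60b6300306e2421a834d01d21a71140dc902503dc980bac6c5b0b637b684b1b0571d8def186c6c22da1a41a608261bf641ac10260d42fcb06b0d6656816c06e558d836d67546543bc812a186e39c5045b86fc348104b0ccc1bf83504292b4021b3700e55fb7c62af0571157950836e4e2810de37e0834262409f956821b4abc1b7ab5aa68b2514b45df01da2ed99402e114e85a85e642d427942fe0c010e01140868053382989f81d4815c10c80a6502f84f1817dfa25796f810bcad160bbf01705b3db1a409444c204b4084019b8d61d6dc61ceb616810be17e085108a0438829821a4a6c0ea30d28053057043287a2213e1e4b09e190384f4de0c27a8f386f434da37a9c6c1bd82058de829986f40bc10995fc41bd0bb18dedfa285297941795682814ab3b38a507682da0094167ec6a916f9fb4bdc80c8280f1157422f666a11dde74fe02bb27f0ad173f97d4d27e3c6613f3aeac9f89f544fce54927eb8c413f1d682e38828a4fc222427e332193f5ac049f8a6c855a114085905303a8029821a802010a109e087a83e505d8de8207efa8e39639831cb57c10e5ad68472c73080622940b409f4515a0b782821ee413f40040a029f473d9d062dece8441888e78a9ed73b4cf6d888a7b6755c0af3f80db7,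
  nat_lit 0x16f202a9508c156ad4e71e390c17c1a80569d4c346d06cd836805ab1b4a86055802a81d0c4ad8df6210b6fb16d1b7d81ab86cc7a9a36671e0ab4ac020d981aaaa16a9d350a7428a85ac33d428be01c080ac15a43680a971cc0543b7d81d1c0d142100589108a7438840d981c1aa14154c39007850030380016829fc42014ea06a0a84033500201801e19a51453850682836fe681981601bfc0c9406600807871ac2819ec3b44f46b9827bb1eb13d29c06d0021984f4930a27a08a413d046189edd29e8b89e9a0964f0b04b0073025b951412c4ac60964e8204bd340825d12123b4a0c1414c6a763555a214581981bdc664a05427a071ba2e05d302581ca48dda4f42d8b27a0ae313d476828fca0d2c6ac6a0a0928b04f80d601bd00a80ea608c0755236682e918ac174b3920ba094605d273702507aa0128024c094092404a0071825138081289bc2095bee9affdd82d7fbdd92bff615575d8f66bae01c2dd71a60eebb1fc575d45a0ba7ba142f5a9b117acc9147c822273e4b9311f20881ab814d8b5c17a62ae063506e7d72385b09e811149dcb16c060051f5e218caaf6ca6556a2432a5ad19952803079b77543cc85291e6283628031b25401524ca0004ae16f05768b7a14ac5bd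8d41ba00b2816f3c330b7950905bdd0c62df40c216f04f04f781d305b409522da0b2716d74720b6cf2885b40cc0dea338075443838ee02918770a64a3b80ba079e04a039457f8375eeb818f8bd60ba8bb35116888a08b4f9017115c00bd2136111695795795fa584e191cb270534313808c294d0528ca682de0dce05248128129c0945b015d0c5e8a205386af5d16ad7ac024147b3b8da4a39235255d8a91593bd28ac6540b9228469418f3036fd400162fba0a28316f04ead051ca0f7c8c506936428300704f70b681cec7700dec01208877bb058880e02ebf7dcc26d9583136284109b11682d847a44fc8bca0dbe27003f529a02b94ac0829404a073da20057d87685568a11c09aa70e22d5eb0516025028f292816061bec9dc5385cee6a835a3f5052d1f7fa368f45605c89418282c14811102300bb0136065695c14ae04e9a1dafc809fe14a03ab1580c3b556815f40b210ed04d058f206a8748e5923a45c67298c58415351895040960882045a0a3b1d8329c156954e1a2189913b80a2326b506fa9b2437e8a50a6d4687536bd2329b5d40d4d9a3c17fd3d672b9422615c02cb4164a100f6e57009da0ed04f08b702c741694e90e40e258044692c0e903130a6018d854c0c5925b412c07a909610401460fa41258,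
  nat_lit 0xbb064f64f209884fc193fad62262d6d0931131035b327cfad959a323aac3091d11d02b335b0f93d93c0d9d045112c926049649641b027d6124c24c03c412624b80b7085c05c00d4a57d46a1ec718480480d4bd4bc0ad611872dc44d216e33d8eb7032865b8d572adc1a4116e092c6b714c065f548622fad2f82b546d0d4c0478a73423e2b9a1a0a8877611243a4d8821d049390eb480c8756e019e0bea0c9da60056a026106d1cd01455af6323c21d03965872c1309f940984fa904c04b3026003941307a480983680a6123c039582601ca87a48e5555a30beab850f48f4207a40d4e3d236841e90be05570f482a96a90a2123d43109aa430fb88482aa06cc63ef534d1d2033737eb7eb1bf47dc1580368e0491d2054cb7e81bf80dc157e256e1b4049054c11aa06d1ca883680aae0321d66819095b00c8421606406606fc03230190b68c0c826040642565034050055f64b087f44ac23fa3680d02032037dd61244ac0d0157a3c0512b27518958fe832544ac15820a03034275714982834a4d8b965265260730ac1213a93a9f363360e3b03b00cd9cb313a464405d21d201965b6ca4ba4ba33a46f7252e9e345966974378d78d1ea0679280828c48198198d0f578d66298bd259140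81028428480410fc3e838fc0c8fdf2c247e47e087e02a18cc075983b005ca1d81f830ec0ec03e36563b2d72d461ef5feacf71362e7be7b837dc3dca26c1ee203a88453e5c3da1f2c0fcef96bd647cb87e13e5be5821f17ac5a0fa543d801af1e95172283ef3c536161f60d2eb0b06979a4284bb3e1025da2a712ed19607b897033ccd2121ef9ee50f70f7067a689b333b3381a2999ecd13130314a8c604724544c318114510f10f28df8a8a86fc705a05e37ea02f02f04058e094704d21d150d58d8a82154454681962a343c915016cd0b51c10688454032f42d9c02216a0cbecb75808e5718044044196c02210ae2971050230202818314458140822c22c045e8a2a28633a1c020156d01006f30080531004004015259d0ea92a92705587c06a2722120de0482cd0a943e9044daaa4f480f5271368034cd7101a44d8c0d87ac206cc42a89ba930690d442226c0d019ac06c0cb90241c4dc4d829faa00b5c83c43a800341d720b31478c13483c63c608861ec30c9047307b069123d83d8916805540b45451c5a05a00f6151477b02a75953553a1c547dcc21286ee1f703760fb945a87ddc2523ee3ee06f9192721b9b4310dc781750b54e6a8543760d40eb286a2a141552398ba862a6582abd81c154020c0aa0ac5055,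
  nat_lit 0x4f6209f649255375c4ea9a8b6554dc8922a6aa68322b6502bf5a8a6d943750eb39262b51751545c04b882e04676afb89f257dcb801ac64b875f73fa12fb92f857dd7dc18ae6ea913ebc8094e633949697d884b5aa255f621522fb12d031997d81aa44aa1c895f642fd171a54a3125239aa500c6bc4950238e6831a84f9008e4aa70470470624010044f97d822f4d283694254512be280eb0b6b944acd2a9256256292b34a1874ab08189fb368c5524c682212b03628931c4b03a40d9f5f73970095831385e8608e4c410471ae70d7127b894010da4a0d2ab250c5506ce12b9894311ca4a035e4250d2a1928022036249601b3c49cc24c2e00390b8f2093010c189a2f4424c04706b5ed7b893810d849c27ae13d1ae0638928036009300e4049c0d7e1b2482189e831c08d54e1bb08770dda113868e8b06c810c0e3e05a91b2d8440d9386836606c81af83a2cd7c13d62da0d72d6d04f54b68bea95b41c632da2da0363d7d53b1e594734c52671a2b90135ac2c5226d7ea50b17e373eea1731f76d416fbafba07edcef20098240df15f146042f8a7b6c11c3be295ab1f984b9afd3932c34c34c664c6602b2633ad39319300cc17e649d99d825f98ec199dc896e6096097640e7733204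470d902f9484172b5220bbf4b44732498238236a11c01c488e5b61c47320419da82e07fe06e76491a6372482ad992423807e8c8a5649125a324b504f924fcc6c920202e4963d9324b5b4592599edbf5cd465fa8deaafd41b937ea0225bf50fa03fe937ac3bb24819637ea0cae0ee03fe0a2989bf5ac82f4470934b06e05fb1a2b8514081828a234b14523850a2d74985149bc0fb1608214517a06b56af35db8d30eedce1a276e34b05fb8a281fb1090e47004e0d6976e06aea1221d808e01a92ec20d6876006ae6ca286a44f5d8e0d7ea2421a906cae380361f63d227a4840d8c02b06cb63883623639a10c7b6708612120431ec0c2181ac410c01a1086d8971266cf3493010d649827a0d833eb06c68018365f5f1405a086902d1ae06c10d6880b42181002256824d0433926b8a94937618449a4980d7f02d06be9268204010c0de42a45088020109e887b8068439a0350bac01a0bb580d00d020bdf988bf57ea1392b0413f657499fb1ff184defd8626f26f03fde4936fd9fb157ef7ec0c93bf7064a3f6248e1f98d96242a9cc4cc448a10a10330f2c4c04027e3020020066109f8f308498679ce2a5810121100e80e8208a0c10fc611477e37e30410845032882ed24b201a0ca1259041f09ba42ec988e1761100ca0,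
  nat_lit 0x5d69680b32cb40b40110a0bad8854e06e2506011382904a9c29c044e14e105202ce0e91691462fc1eaca444fa53b0d2225d868d10ec2a6c7761c651d1a35e868d2215a46cc8ae536273629b3b0828a68d018864604536236044243da08c00fce460bd64230536062291f888c03dc246046007cb0cc628344c314f54f55465464a2da4104a8344b368c48d52469a3c3365cfc29b29b2948d5e30c46eef2cd8ed8e63bc4411dde0100cef0e1c5778778044091a1411c1156468e32523423403ba8f7a86bc86d035e1d091d50ff10ead0304754a8d43de35e070803640f78741c7bc6a4a3de02ce0e8a54687453b303a299561d03aa0a0514748740f781da6968a1d14c840e80e803838bd1f5b45044e3206e8794719401bed10c3240fdc08000ad040237602011b2c1008d5408046890401b240206c21c101c38c081102504019c202065e0c1003241b43abcd1173a3508bbb02445cb29022e6987117040038688b81dbb209a233994c1193b3588c80e18466eb8a2320dce14134c68a0855b05044716282a9aa14124b40a0ea09c504080a2822320c7bd6d10a095ab0500ecd428076091405e838a0010185005041924bf4314014003f32fd1106e948e3523688a171b456ca0d4a86d09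31433e5c0919fd9428cfe790867d83c233e33e0d452a359c78cf94a8dda4c352c5a61c703060e38e3b06bdda5435e54691af1af0545bb4aaa2ea2d45462d082a3055395195182a283a1340b40c7295019187fd02843fc3fc1408c78b7ee017707986f203cc06481e6ace20f3331606f12020379fb817bf7baa23e240311f11e289003cc14d61bc075e23e05ef12001cd08f12d5ed5e86af2157357b578dabca702d5ed5e0c686af094f12d19abf1a08d5f8d0229c25a094e6302085af41a4b5792b25a6c8492d12898969abc18ce5380c69216062f9292085496817900780c5e215062e94e3541af214d9035ee53d412329ea9e90a70a7940a8538079c05403cde5e34a80a80a4542ea422a36b191516d294f45c8ea7a454071153d03cd3c91c5c809882e4f20317236308b90b901e3c43443de70011ef0167383d2a35c1e9d98e0f4cab7071ef0425d2d15c1e9908e0ee0e078277950d83c6246c051c0f062fce7190276b8c8d801de87240f08f288719775338cbba11c65c640ee78c4d25477c23be2ce2d3a9df00efa9d4077e17a5ace3c6b1d8567018a8ec20c532535929e23a894c11018a5896d25325306288221894c950a4a64a6071a254612ab3da4b8d5f4d6176164d710e6222b67b375ec8f0c5525524cf6,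
  nat_lit 0x25406236d72c95494c0e3c4a06255257292a92a8311c951d8ad8c2cc56c63362b62b0318894144a9b368254254062a9282495f11db8da49cdc47dae5e23e23836bc6bc515043690e31ae48e2094086bede0879c4a0730147d10d7285046b86b810909fcb80614824088b22c3083081036002c012820500905e1804a184a025022d01301203ff800ac04e008c026186101381173e2809820020196f8af8a08051cb4bdd67da1798d948bcd52a9995a933ccaaf30347aa4d103b32a0a94354068fc0e83480a7d239651031ac62e0b6e8199076076105344ea729ab3b114d0ef04a68a68169904ed66b34e41e3335b4f18f18656904ee3c6a487042d25302168b9410b45a908508505248ec07270ba4992e5268c972863e71a42259f738cecfacfa0ce448403a582d087f725d00b4526705a00c102d0fe81d3016814965ea72b42b43ba41f01821cbeca10e0e0408700d1843b359c66021c103c74830f6198042315a043d83d8108a37e166b845115a3359e118f3846028fa13013010423c138ca994d4454c54c08281e33d196d31eb1060105644ae21e61b075619edb6b0c71975875880da71e0456184292b0cac8158c256a0351e606285433478078163c006aa1e03a140f0561836a0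420158a06a0ac21e00542dbc0c498934224c2560aa724d3126893036184a0249a49a07157ab1637a6f1a84e848c9bc536aa12a123ada6379574d74d24e6e2a624d5d33d410d71d74da51cba6ba631d21d219fb8e891db51c083a23a4e0311d0601881882a6a0e8f75d75c9b78d8625bc5bc0361493cf0464445b8209328493d5b4818818612674c8206206102adc08415415417010fe7b7fb7f087787782df8f3c16fa26e0b7c82310d681682dec6b416f43a2d0311c65ed46d438f6c6c1a7b6a7ab3db50631eded914f6cf3c87b67b608988986ed46d895519e487b62a0c5db2db22c4c1e7922622601b6679e508582329e7ed4346c06c070476f02823b7a0c11c1182de76a0610b6f241b01ad2055820b88f88f8191e24c0c90b6950355a2241a8cc840d577a106a11f703580e341af20d60d624e0c9106a05a2e40181ac2ac80d60d60c7e0ab10f05bc0478044100a03c00b7705005a50ef080d00d016963b08b4c2753da60ef0335ed3019b05267a4b4841dba8951762c4b8d49c49e512abe9206483e0cc00c05a600600db1b7140df4d8da8bfe93822576ea31fda4b10fe8958293725d14963fa0a4ca4b064b0060369006c1b461924113b1b08898898368b6885636b6a6560de12ec22b0136136101bc446ce2d0,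
  nat_lit 0x81a5db78c521f7db74eacafbe0cd5b6f5a8f59f3538d59419bb99edb48b47066a0deaad201b936917e87b480b135a400896d20e485690a3c0b704e305b93e70337002980dd6900bf51bd05b8808b01a732120d39884066b3e066de57b00281b816920d20cb7066066280d8336802819600e00cbfceb53f908f390695e9a834698c41ac995a0d3f9033033ad28348340c9889e665a65a32dcc46116e79667b730f725b9db9832d72acb6e826c4b74b74065625d104d1e346269a7e2134d0b089a09a03500415220a20a83a620640829f3842202201a707d00d37d3410e1c1d034d870c1a6b60a61c383830d90e1906c86c810728fa31524d12a8541d211f51f5175c72431b048210d80a2846c06c01609046339234a48d6a421c6b46b419cc354950a3e941fe1fe206a8ff1225011693fcd3255a3680a6d18ff1aba968c0d00b2d3bea9fe3ad0975019fefaa0d2513a73f0da1034883f01a48fc20d234fa3e4089d3b48c4e8b6ac25cb13a0f0487780ba43c03c016ccf8ee7dfb476bef8ab02d95f7c16c8fc267c7b4263f0da925f843f0cfc2f8e07e07e105a191ab89e766d24f24f20d9a7141b341241dc516d48490466e2fd248711990ea88ccd05246608082331b23919b88148cd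58084664660d84a6758b31682e99e99c1bc1b08671071006f09a198379fbcea68a687149608210e81896614c28c7c4b5a53e2bc511f11f102ef89f4e78278293eda2f6b041f6a58215b0cc10430560820d13040a4858218200e2ca10e0f556c587a87a81e7dd854ad89f4956ca4542b62b602912598d81981869674a548586bdae57f208ec00472ac822442a25a2596f94944e612ada39853093906caf988340ec441ae2c120d20d04af0a10a918aa4cc0041a460060020a108fa35ec4fd848442a5215c0a4c3de0ca225491cf12b0f60c27895060481f830a091c112841a930323106149230224cc0c1854600920d5ad0449106822409441122614c064bc950321829819019017b0488abc98af1df2df2949108f9842a478b041be558a10a12c945019c4b4614e55f25a7077aaf82f3c3bc17a04b64497d50609fafb184fc4fc1aa21de755e1124876e85984dc4e95a1626e7d0bd0b3810879b83d03cd229204290f32531ab3ab38d325324417648642626bf4d945942490934c4484530124224205869f5a072b17027d62801c5c526329392c2149d49d04b64a8e1a6c6160d333dac69b18cc34c4a6e67b25b062d8d3031599ec18964a60c5a25551298222494c930e4a69923253240112989d0494f1b5c4aa49cd255,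
  nat_lit 0xea59ff9c63553cffd6a9e718e56154f046c2b0823b899cc1f61f608ef6b4498e1339cc70c700fee52ae26785a593393382179208e9629627274ac31258933ac120f39a1d8b26c60259372c9875b049d09d624e9625127593209389381fac7e906a63f847f37f3706c86cb84a0321b06106030bf8312bf83f8282fc4a1cfe6250c01d12832c9882184a04e055a39ee3bc31484deddedacabcabc17b460a45e55e505ecded984f0ca8a279786313cc0b109e61b044f04f0178847e813c13c1e7be5a39fc5fc1d968fc847f17f103fb20d01fd5fccafe5968b7f37f203fa00715fce27c4fe7968c13b7f3044f08c204ef2cce2761ee413b1fd209c2420c4e04ec16e62700b75136200f80f82dd04dc19562300caaca4693808fac9c047d8fd36840ca92700651bf482d7c47c16b9a1ec071d485038eaa181c49c196b8fd2bb5ccf908998388354f43d66b56b80c8eb3d53f480da5fa49a0efd368457e9d1a709b88c344dc3dd626e03e6137138289baf31df9c4cc19f469017e735a06875aa283b5fa40ff3910b12e13a500f810a007c4dce03e26e0d19d0a180f89a0807df9c19f61bc0d0d0ed05aae44304e84b816ae272a13a01f068589d034304e8a2742740b567d5591c3ef932cc4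616fc2230cb42139480fe8cb8463464c270ab6412e01f368c80fa6d584b8c03c256201e12a080f00f0293979547262949393b4841c9a4f397944c98bca042c14a39305fa2f281fe85280fca026e0c97c56864c092c3245208192746e148b3b68a45f0a052044c8290192081171408a40a402fa43b417d17cad4e26bd4a7108902f9d38817ccd7a9be6045302292d1daf42e14990a6c84c81793a642b39532125c89904b634c84e0126435e853213201468ace5a34497251a12e14b8c698b8b98b80c63527063251a1096c96c18cabec96dc21653f0aaf288597fc6bfef1ac1794fa50bcab6245e68d102f2a6c717977430bcace145e411082f204e317997524afe09356d845d4b6c74695b642442db11c1d6d85e40ec32be09762302ad73228d6b96d80ec028415ae20d04bbad701e397fc2284d7aa5fa2163afd25ea57fd5b4ebfe28407420ee710b07d34859211642cbf40c605f6390b6421885847ca42cbfe0a4621603e6be6a17d97e90f9af9a1a467cd2e4206c907e80e081b223e57cd553733e9ab319f55954cfaf9ac48467d03ef2b2a521138dd502036ca817c75d40a4201f3aa04167c11643f84e46c1059e31579f854abd6a6655e55e05a91fc38cb8d21865c7f8b32e069519730118cb8cb81990028ab6d,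
  nat_lit 0x1b040d88169c6c48ccc36238831b153410d881c846c4cadaf1512aa78a78b060501fa1e288c0ef14bc2278a23603bb0d881c41e2810f667e523023003c4a882a8e59a0b4480c072132134c0e847a8198b50714a3c2605e2cc282f4528c178b4840bc0bc08a6925465a27992424260924b24a426826804934941016e57d3250072492805b0493b89864a01994e260c08713a242389c94025814402e26e2608ed9594107cad1c83c0ec841e160120f1f931081e89484083c12a80763210983090810802555de18079b1cb03c1b0481e23738864d958432360a219237290c81e01de48640f186ca61b023528d80d8033f02b045a150c635111a4a4809311240f3869203c024908230a4824802de233528fa23408f747d047c137b854ade142348fa811a83a388d08c98468070a2349a2411a34c188d63f88468468175c280c1b82b558dc1d50c6e2f19061c43c730e5ad21871950cc3ae84261d282d15294260a9053a854808922a44025152157305a9d53a200245b100bc4b8801594c404689a202281012114270901b8047200710240244612082210908727203a172e048c3816a31be60d3151401114ea4150548126216a093c8800468017a02442401138190938a2b941c512f284fd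350e17817660bc4070439a173032604816a01ec90c911538648698237843d82a213081510220382ac58854415011aa9c488201123c100e0824ec631805f19a802f091038185f8c0bc321a19071409eb08a406405f903213ec4190b8644de0bf126f05fb42ec4fc106402460bb0bc042b846821d32d1c18483480c27e4206106481f74075402600490130c840098451c04c318a0264d0e18c08a68c60e03063034811ba0a6c1bf0bf58df8a8824c002011ac0a6d0bf820041b87a202fc2fcc17e05e08ce0c8041826f021602ec106201a08750c203f8e5a3404804c0fc617e901283128090c60235c2ed8114034b08a1bf04270298218a081217e17e08368ce205f845021540480fe0178583108a042e85f820d60c410c306ac8621bf043bc6b0618a18810c70c488630bf7431c18b618e0d590c637eb8638621c31c6b0618e18c10cd0cc28d68621c33467120d424171fccc4e3f13aa61f8c7cacfc4e9ca7e27e208e518c646746eb613a4c1509d19c984e84e046e4331633a4c1621f1aee08a2b55c722031234c3c1c832832e0d71d7586b86b823a424541f23ae90f98d3407cc739c3e43e4119f118a8d28e458a00a00238c229c4d04cec26804859344559899c08011c44d0085a2670456469281203bc11c209008e0,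
  nat_lit 0x28505701168204c8b8102919822738a91bd7139820562ccef5a81e47ad7ae040b00705eb5075c124838d09207060491a9ac24b3ad4124834909200e304904998039eb4102e4acd4113965a08ae9990462d0e59c250e0930d9684989db024f2d1612612407f21fc204990338240ad5012001c07ac4110637967022d424c0fe714282b509003d582e8227df49491a1f0848d328124695a82281f294ae691a07d10f83ab988fa9f2905c1172ae607c97ca045c3eda047ed65afb6b6497db11f03ed13f09f6d6dc2fb6fb60b5811442d900da8452d110228b6407dc11c708a8973445447d822a4e0b115114059e80da44549a0e22b684511511503f48da20d785ec66bc956235ea1809af1af0285c91c648e23c2247b0e09239238321c91c190c48c0c8511f31d190b14e8e2e1223e7460c8411f045b9b730e8e2dcc74674608b60945d9d91f0ce8c20c551e638e0be38c1a5c11098f1c049017a17c801200c70419e3b020c99ca10715440830be18418418201099cb00915448040be1c02402022aececa6a71545b3b8ab205f1a7b2ab2ab1315417c48aa8aa0556a0e39075fc9a83a1da941d41d05aa0851006b4d061a4212d9fcdde6884b849b7716899bb8cba91f1073695315334db0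a2d870b562c0a00d2556bd58b477877867795ae81de4512547107b4848848642421261e71f728f38f31079c0d463cf5ae11e71e70552108b0dfcda926ff2d2637f07929bf9c2b07a8da943d46fe096895628f50f50256c830b2ac66c30c2aa310612748430830814e49d2a4e9b0c62a4eee39a7b7798d3c852a69e1e64b4f34f03775a78f3f93f8720c69e410601d34830799c419bb8c20c20c06ed9060c420068fa6803440f43452d46886a6a36a3d03d551a901a108080d0b7204240e8e2123d40a9001a053e084829f4c6953c93c8a1f833630fc4f1147e085863f03f009e335c68389aeb4d71df0abde67ee7685ef719faf7953aac38390e04ea17b17c48bd91b205ec390e2f742e417b17b03b91239321b21c848e316dc1478a4be7e0ca1f3c91cef9ef9e08952161cf1876a03b805ce1dc66c40ee0c218770f4883b842421dc1dc07e40fa25384f1103e9a7885a05a00abb05d493d04d109e90c844f419e127a278055d13d0200c12c15723d29237237055c55c3600eb784bf459a15fad9369668da28b346a5259a33e62cd5fa056f96683651a78d6180ba72cd7e4199b4f194cda85cb90eee43a173362cf15381278a78814e246c211e17d20720911ef0ef0cef16944278b0e4411b3b91c8da9c0446d4ced1b1,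
  nat_lit 0xa5f6aa1871a550d510ea862406543d8e2aa187a0950c6f42a865460883519710d8beb486f6398436078b21b543052f0d782208100c436e1c521b21b03bc0e4387246c823f0392e0301c318180180c6c86c8a36a9f641b557050c608e20630328e31836a08384fb18e4d0a8872463016d83920a14838250a469b856055ca80c80c50b54de327dd09153ee85089f69f60a13d274adbadb8c51f3b9c178178ec241471010dc210318318184d8484013cee6e120109b090520b8480260c25c240677812205900642f9e3d2a120a18209b07d046d105d14340e2523f23f06aa0fc035560181aacb7064fe1942a7f6a18d3f93f81aaeabea5b85b8520bcab201bf471513426ed5b889a068dadc0346941da7a82f2b3d464531ea09a10f512e867a82768337118399bbef90cddb74666e7a8078d634715d8b734aec4418576b58b2bb05a515d8ec24aecbd5057656872bb4ba315d99b832cf3f5a69225cc34913a59a4837a8d24d20c6920dc53492bb03a41a483220d24826e64c3d3f134427e099b93f04ccba4e98051335052ed86c99541749ca980a0a44c04c006932828d3f18e53150bcc7133133209980f884ccd202267a5a90f68a8068b89981f9c3d81a586900d1612e40971380c4b9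414425c820112e348067c87b834ac4b81a2b69aaa5a11773efeafa5f7c4e9cab61dad55bb4262ad88c2d56c8594ab6abc955b0fc32ad9381156c4b819f14b40b4eb47708bbef8357aa05822e036b11755b03f087e1445d6d4169e22e07c70ec188a88a8c3f29792ef0a8851b1544108d87e09511040f4244e03d157e1267c0661d4174544821a125a1801f250c50c03428d9441d661010eb0eb050e1c91d7ae86846cb4381365365050dd0d24083421b4359e49a1a0fc3d0d2f58a86a8604bd74340d075eb050cde1a4d792ac6bc2162a4ab1364a558c6192ae7a44b1695661519e618a8ac5827a054413ce1e870fa0fa385fa6f087e2798f00c3f068063362c03538120183e8700c0b2280616c0c0340302789265cb6b4b432485b51d2d27e0d3016d50b6a192e0ca013686527f3032a01961941f0a0ca01848655b620328470e194f9050ca02120650240c3283280f8a22e555b11c188be198ec9f0d4564f64e0c345f95257bafa52bf050c95ed8454af66863e92578304d4998528fa407d3b2c307c14a0331a26881f0470c5730fc52b9a4681f503e0165a354c0fc11f507e2b981f5505ce1f882020fc0fc03e50d531f28e8d87928f810a76d24142d719ca14440c50aa6c528504e21429168ca16f4c450a14e0aea,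
  nat_lit 0x3924d12cee3689021574487246a24a2405251e839c4dc4dcc0e7ba96072483b03b341181c5204c0ec0e071430154b7b12a949547d84387a0b21ca8e510e0f51c8710dca438106221c21c0547a92a8f4189527a036683d024f39e81e798f40214a7a072443d01b019e824808f406b427a07a0082324f40d98d9a208ce490a0eb6ea5074c032838999541d4648a0ebd435075070693af51146749c6a33a521519db05af565e1d7a9518cbd4a320d285ea06d89ed993f1418a9f89f80db207c50662821c3303301066c4a54a74a72a822829d411894ca08a0813933cf4301a4234e4e861c7266923393393189baf5353f17a9c266bd44d28d2722f5116a4bb57a8e5da5da0bb3d3d11c91930ed20e481a7c2681b48b48069fbf78c818f2501e0c0633db3cf1b0190e3208d895304704609703da29eca2aacfda899a7b07ec0b9c3d928431ec02e6c2181735736ea26a2619ec918388d54652b00a8634de08629ed14fa912072d2890a82744844803dd3481c72c9f9cd203960736beb134810e388740f1a43a7b2b21d111310edc394875a4017d443a0b8621c75c35c3380f00f017287b2933fb8a299f90d82e54cfc1720268651951905c78faaf6d85dd05e22ec124a63f53cc1bfb469c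635a6fe450e1a44124a4c8f1a48a05684a7a6e4315a60e68a7a4fac53c088c29e2a0514f15a18a7bcc299045d90c8294c264114f04978a7100890a92c84c8207971763b21484a8f78bc507bd266614e93e28a746f905380880de6854a1f564203c981ba07d4c5443ea7bc092990948c28a70242e54c230b51091c80f808e40bf385fc09da2ff12cc17f1b058bf8e4a45fc7d40f2806e717f23430bf823945fddd082fe282217f91d70c31083461838d630c392a186185048510d98618100a30c82a418690560a38bc2051e48d09f657021581c908ac0e402a245fc0e3230c070e14704830bc1c7253ec12482b00a151c903783cb046306301208322729519110b784c045bca54123f65831911d510c88b78247aa1883ab28e31d519105030ea82522a18929128e4a86947582a1502e51c7806d34d3432930a80949949825193bc4238a2a5c8111c2a8aa48254554552234372711acfd70dc9a4b46e446810308fa71b91c310dc9f4046e46e410759fae83a83a71a487a3805c3c5602e02e082d5265adc1fe39241751a920230c49055b5a4808a99241240168438c754454618720be8d518b64282e59c877f6160bbfbbf822d0ea1b4cfb628cbc2d050b919fb07247258a322e4851953d3a8ced8914654640f2445632a3,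
  nat_lit 0xc215921e182c4390d12484486076a10e061892101dadafd28680340c32434059400c830cf0d441fe1fe0b271d5059367ba4a54644164bbb052957bb214aa4d08a54144252a52a0aff8416e5780d282a8435215491670aa345285505502a3443d403c260901e01e3054854b8120551a0902a6d0eb048049ba78b849c3ac129f264c06b267049c093825381ac1272692a0a9caf4854897142a40416154152b0105800a4687888b682adc158020d0acce960560a92c2b03c4815891a30ac0ac04a10789829923481e2110b3eb9422246ca10c3c42add284020d942ce964a14a1033a1231015615609431be3083489b93ce4acd22607a491b920591048d0dc74881b235200b92b9123495c95ba486485cd1d242c22031a58ca18d22d21860a3a8a8645c3393418d2e189795e593244b164922922049b27d9de59e58124629017962684064e771477ad0479dcb00365f65f30c5e0d293cc91d09e61fc74f30bc7062e7734314084c18a29050c501318628eb083153cc18324d021d60c506120eb01c2cf0c24863ac2c240fd40eb0eb0cf0cf0ca3a63a6516f1d318b68190c74c0d921fa48e50fd0fd080c80c82c2297d838636861c35f528e187f02c1c70c14c083a21b40fa05830da02c14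3c02ac083870f041c41e487d11072018683846c141c41c053804910ad505c812470a933713941c29c284b64b64e0cc5b243655e6216c96cb41799f0eb014e8e54454460c3071b15116012a88a889519519054b02f34b694f4152b03a82daa93396d15e10b68b68132b6d230f889a1db4db48a8c95a0aa7a7d0453d53d04359f004389614e9b4afc85253ed2292a6d1cfc549414de11213ed3f105361f68209038821121120a552a95afd1a88d8f08f0ac0047ee041206281c9c9159a15a12a0eb6e95684d32adbb0238eb56b9a75a75cb3ad3ad05cb5c6aceb8eb8a75ca6881fc14938fe103107f08f9c47ec78b23f1fc03f7b02088fc8fc0fdcfdc16046041adbef6950a50a4ac09bda6604ba5709a09a2c4d04d0174976cc3a93a905daacd2d66aee98d5ab340bb46ad05dcacd02e75109a7b42220b9e3da05cfb0231109130c8848840bab6045a8d1ed2cf68f69d75628e3604b9735ee9f12ae5d7bd77af7aeb17b20322f8a17a1a14fdd6bcd72ea60060005cc5cb396b9811ab5d712c5ae1115ad719f996b85081732b5c0b8a5e669f21c938f90f90646b83280fe247387f0c5903f83e841fc03210fe12243b15e19dd892884ec4656d22f0fe03e7bb101e2c0fd045e460722f5e1111791781e296b94b5c46ab235,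
  nat_lit 0x20e05cbe39189b95754d1c40ae91555d7102ac3310fe405cafe87ec57f9037480abf824588819203242b90126e2130a8b24982ea484c0440d2209010490359a08800f48440446b04626104b3930030308a96446096922329e3111b5b1488c0f4a07a440091a6b3448d01e924680f9c45408c0966223038e0bb2c0f40f40f2b234091b172701f11501c485d5607c07a071d03e301f01f01c3c861a2e807ab17463e48ba013185d05d4a2e82e8079103e4113914200fb43dcaf2c96c57957906a5ea42484c7f15327326a23f2134838d49a01c4b68e0e247e099200b10389aa041c41c4103a0c8d009cf6224f1818c190c0dc93cbcae3033094a8f272118a1390f8f49c2655e62822af2af02905391a18037ac0c04e3586005fa830004921809c480c011238600459430138416a69c0d32e3fa21971290ccbb124265c11663fa0c0041019703128fe810b8c043d675b956f92f9156e7324abe5434acc90204e64e78a3324d20f993ace3cc921816648cf8732732419e4766c5b91195adce64996e56e41994474c6bd590311d47915dfe3c08efeefe08f11583b0b459890182d5315368c668bbc96356698b9b20fe18d9168c96c86ac612d5a328969b201a644b40d017ae32c80e205389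3886382b5e21c127308e08e082331388719919221c61c604652d7844499b9ab5e536a5af5044ad7ada216bd040eb5e9f665af4de2ad78890232d6bc1424ec8e112b4668892af2c44806cc22422651123a3188908902cf0448238d424111229b4a822822684a2bc83828e0adb05050c578960c07951d994f94ec20d20d0653138384b0910194a2580ca444b59030962c91257dcdc49c4e4e21426271128ad388910c9c489654e28af1a7127102f96fc10c00bf4bcc4cc45954954b95588fd6aad782d63c5565b1e08cb964112d8b20472a59060042c85e0b89458f017a2b200c82cf670a160eb450894417da4720bef14205f75f73b0773d9d7dd9ec5064cf55b45b45af3db3d9b83b2becc1d11f460eebd170748f0983b83a0d7bb5a48b98b982d656c92b7c23e75be27e12df2db856f96f80fb665661ef277652f8e1b09dc6a4c65671e61a227722938d1186cc8dc75f813452752752025885146e46e4821e21e713027510986ec240304c0bbb0196802b5002065a4d0e94a9486a936d4a2d2570416916902dad52456d59fcd5701395ab814aa95c03dccae026c5570bc322b809e0d5c15c019ef28edc0e1d5361b6079875651ce73d0e4bc30c21536e2fb2b085a3dcbf227eb5f95f906a86013890f035a486ae4c243,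
  nat_lit 0x144588a4a814450450127e42cb9509505a4224202545164c72672609521b91a2ca2c8c43c614421e53a110f10f04a98a88848a7988302302415118110145c2040a00a01706a2c123157c5d4707e94d785b10af843a64b71112a5bdd52474d2dc170e75a857b27e3abddd68d5ec74c1716af60b8c2476abe30315927225ac50a9c85635631a2db50132255348d41a3ac65489a4b2a32a034735c5a1faaf830fd0fd1abeabeb47b45ed8afabdeb57d5f132bea1e955f55f08afb9e2943d0fb3a1eabe82f5f5c4687aa6c243daf20a1ea1e82c2d8bd2c40da4262027d0b1031002b88dfc4da487a337f34d388c92428b30b31672093a539096921c81c8025a9da163f246e7957a3168fc8fcb6259498670e28a336ab5a203980a12d6802940d96b4806c06c05ad8062c1a10286310054419719720cc043b0f90a15a5f65f6327d802427c4010ada5a90783b83a280227d18460411c9f4f04e104104534518819a28342c208d14101210409993bb54014cc94d15028868a0d2c0b434504cc59da02d0528e1699dc40b40b405a0a173a03e03dc168022b0b40b404071dd982d0eed2104154508208204a2409342a95a9aab8ab8d4fe55c59378772d571aad383b7b896ab2d25e0edea1b077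560cdc4dc40d78bc306bce0e9af0af081af4808e23c23c75fc4d406ee2f71b2ea47c997520e34bacba82f74d6d12bf7e0cba595f093d93d86fc11cd24f72801b0e1d3488f08f0d1cc90ce6ba8e6235d69009ae9ae82fad904cd217d6824364111ad348118212982d202a0a4a60de4a53120997e4c18abf249235f9b46712088934907035c60c486d306c0161831232cc18b21460c0c883065f903b392081d93044260c60c076f4a634a01218e50250064c4bf038d3c0d73b7921b5dbf0058ede48cb76f5f933b7bb215dbf0442edeede0c025f8092a36e210190186bf0bec55f86c94214afc144fc549cae8722c57457404a0adc2ca503e16ae84ded5746c92aba2ba1557cb3172d459882cd05d41663bf958607f04efec2c22224060911111022cd03c811e01c108f23a32072c8150389cc481c11e07ad0b54a44a0701eb8d21c972d58d4b90b5625c8e0ad2e58e5297242a84b94890454e81952e46bc4972af2d35b35a61ad838acd6c92cc6b6c1e535b4b904541ad8343c85d1712062603c217210c01e1085c85ce4d6480b23bcc4311db57b08f88558d5e476a04123b435611db5abc8edc42ad7ae44e6ab65fe22731aad735ac00d56695f20d3355ddc0daf9aac8b9a4a2423b3e2510730024839ab5041d7ba520e,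
  nat_lit 0x3a66062a0a19075074c74c83a841d112520eb04b96c112dab619dcc5b03b05ad827d1d6c0470cb60a2a55b05b00640a8ab4340d4daa2b434a14402048a2678a0510d20e288be461445b928a23011051359c6288430214419f08a20a203324451ab66bf095b34a632d9931116cc90c6b6761c25b35b304a022f34450574d1a3100615d02e650d0aeb06ed17963765a461bb8a118dd82a886eee0823763760b81b81622f0aeb2e06284770370252d22d2487fdb49c3fd52441feb3225490ff05b52a4830d5529a94eaa2c63863862a527db858884169bc93ab50450459e88fcb823e259a11e77cc08fa325847a081823c330611e11e0a314061287600a11ae9b918034dc746ba6e201e910129ba9b9b7fe77c6bffc0f12f030587038539d47347230d3a3a38df8910a4cc6fcf472e26458b58624ee22238c8562ccb0d7fea905bff60722bf96ffc7f147d447e93ea99421f5102b87f1575a3f87d409931fc048ab47287289c864d627471ca5fe30e50e50243a4390274552c3135fa59898a128c4c85526264765313066198989d0243e444603ef4217636c062b91898331090dc9e660cd4f35205a799e294988e4db22228a8911d092c8880f824404d872226bc29115eb0c888a6185cd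e58a2e62e4417302618b9bb181e89b09cd80ca8d6c024363602b9024317d94d80db896c057633602fd024b53cc181a4c4091457f71af0a62cd7a4441430298a5f990942fcc8b9d7e52bd42982e607906c00610c9739234531891a6bcb48d220524692314c856ac4642d1ce24213f04961218244cd781206afed4af2206257afc824005300ebed840907668611024682408918c4406420c002581110121024ada39acd095e090122003e9491199a2771b24410ab922a2644910701e488e48d244cd009217131c910ae0648a48814483c8e93d93d58685b7b64f8341727d27c0b6e0b260a70a72637c558ea211fa9a3a15c4c7e9080a4fa608327d27c09832b910a70ae1c24c554e2b86a6e0d0b6e606800a2834034016da02808ad048500a86c9c05435ca02aa56c0db01504460242436c80d01b625870db38c286da711036c70461b6a0a10db15551019ab2480c36c115e406080d6ca6ab9befab2a3580f9500d6c7df6d353efe540357df7c19062aa809380d51ab1ab28554560c2bf15ae88c8af4c46295b22be230115c09098af38c2c57c57823483d4e3891be85614203ab0ab0824d4555c2ac044d15606b58ab03c245583c01269266415615604990e208554fb8e9c22aa64e14e1049d0aa9557a501c2282aac114,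
  nat_lit 0x33152be5f1a0696f09cb92b5ad5c96e25ae49af2972469417c824475c9bc732e489e117255c06b92494c1ed22f50f687f247b448903dab920bc34a210f68f681d895f163dc43891ee1ed30f701b147b914483dc540e2325ea4119020108c867064643dc0a8e34b0919119032f0ae8269792e92ba34b046288d04ae8ae818fe5dc111a11a04635d89875ae89aa0ebd6750730e1283de98541d41c17427b485684ef3ab4268895a15a017409ded5c309921ed10d113bc869c7bc10ce21a03c610d10dac86950cc434240521a21a06c717e955f0cc522faaf8a17d5be3151302ad059f65586d13455e0975730f5e13187afe16c3cd56a61ec1d4b0f2271587987817b88ae339e39e12b9e07855cd5cc1820cbe549449428c5abf9062c62c14c6316d5996c232cca57956670106d84b320c146c20602e018d2bd2bc182e87e57133be2abfd318d5fd5fc14c42fa65be57f187f0661ab46b44c5b41fc607217b20394f3050bc5d5c308ca4c18450c58c20b4106108886308308077b08e30c20c2180a2c6c5a12ac01d09d0906f18c09c44c6058163004c181181709b4f317426444b3cd9781a8e07221af1af208d48d46d66d6655eb271107893898ba42a044e25da966b1985e07335a48b5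7ad433094ad32bac34995ed31ccaccac158894ae22f66b71e89e334f4421507a254c43d13d10413990316bc2c12421588e4a52104a52a041d295294125437083ac2065103103948188e9c5a440cb590149588d84838ad4ad5c40c81c940e090495a9d328ad5ba5a828120b414414047f16910e98e9811fe81cd3a61137103903b1038241081c56a740e1bb22072070228434949123bc74891e71244a538522522415ae91270a90a912430ef202a4779683b502a1de8c470df476346f91f5437c12281be02f38df336106f8764437c7f6c47d48c523e8df023351f411489c6d47d47d6d408440cfa6a04611038c91c332e38e10180822ccc94118a82d27d08c31ff1ff020a49cc1054ba6082b08b11fb9fb820b0868422a398111511504638e110810744e43518e21cc8c908e65f136326f81319229078c91cc046446482f8474441583a261c611b10e8d40896d074487ba8e033dd20309ee9ee81db4735608a4f0d1cd23458e681e187340c4a39aada31cd14910e69a184734734130a6e05279279593c13c366148d1730a42ee56d985281e2720558556d0ab6acc860f0ea324b8750c9c89ac61d487a20ea017087507502bc836ca190190538c04b5107ed326568d04f2b52b40da520f39a093f8cd0656026826820959,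
  nat_lit 0x46105588bc06eb15eca8c239aa1d004748e8197087407401893440c71317850e7268207386d4e39c51641ce55a18e705f847387380f32978228b5fa094594582b79e648ab451647991d47484a6810751e64417e9a064f30ba126848b882e83b8c1741744012b5a3c554551c1b22a8449e1087138ad11455141985244ed51546a6116ea8019d0a1b1025c860e72a12e0ace23a21ca9ca82b34e845677664c69add55b4d14d19a68a7cad3581ce29f054614f9502ca7ce79053ed340b311d5214fd430ca7ca7c128f3f860cb0cb625d5332d2e9774c9749740a835dd295d97f90aecaec0e2e062a17803160e791a38b74b7583a2364c2dd22f196e96e95a1d0788d0ed0e0b33687396d84134f0c6a881a0760708435319e48420cd4c211c018106e0843c9747504210f24210a23c76050848ea19d8049223a9371217c83280925b422b020c856d03b92833ae068e618d18ebeb8954ae6046a5727c252b52b04c10eb975c6608dae3ae2437f43753153141459f5c58c522cecd711a53315317ba56a569c984808c4c2343721a21a39306fe9a34a984c1a540458d29af2469469417f37f2b4c24c2105c261119453608984984e62f62f611d317aaf06f054c40d7ac62f6205a34b47a97f8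5050bfc49675fe2dc12ff2ff03506ff4e6557fadbfd68f3347b47ac728729abf4394e13f55d48e52af1d5743bd0abaaba320757a3ac301c9081416c640ae2612056e26b5460eadaa081412506b686a86ab335410695aa25d48d504f626a86a804afd66a0861235a5a4d50b2d22d20497246b88e9af5ad7ed7ed44e6bf62e4b7131afdb38c8688686d43ca84096ea1b948092daa408d4b52012d06b06a3194806508a40a400d44394736e6a1b1b70b656db8dc456dc6dc06ac189b5b8b56185b3a86b2d92d906b916d035cc5f81ae82fe0d7589606bb1b3307e51a943f234291f91f906bbabe151a95d94be384675f15f106110d099951df1ba120d4e337d091af7b2a3351878c4ef827275ef38542f7ab91958d7bd2ae4ca895efd46197eabebb51b519c3db9e2ecf16545e78e78834759514ae59ec85725b83ab92f0195cada48ae41f035724ba12b944d855c95c8113523ac6c26b34b6136102471a2d92eb9ecb9756ac2cbacba833d73d937806ba35b6bfa4dfe5e039aac57142bb1fa915d1bf40aed1c9c57457414742b8b3033033102b55b9a955b44982982530035e4dfc83e1afeafe98980980c4c14c171a1b52b0d0c7f16686dc4a34355649a19ad18d0cd0c17f77f6535a1fc5dfdb52ac7f1a95291a44096a5,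
  nat_lit 0xa1a29aa32d0862018023103100d3bd3b1030171841801801a79a7822e33920971971834f59a127d6d8086686c0236012f119515d87808d843576958412f92fa1b09a8149c09c0625f6c96a709e2904501a94fa16d297d05b243e808a1df4011c2fa0fa00b440ec65b486c0c540361d1be2b4e0d815708e0571a972b16071f91f8d05605668af0af9057c57da0462bcb02315d50118ae2408c08c11fa140645e57b30ae4ee174214c4caf590095314fb4b6f0ae19184e94524575ad58c6a21ac62c60d186880ac16a6233a53a55b04adca9824a0cac12c120df23a51d1007698e952ed5b6c45e463d63d216ea5d292ecbacc97650854bb4bb06f71d2a1632434eb18c3e0df058c06f8a94b45294a4c2e4a525b695be1a94d132d630e492b189f0558c58c0512eb691b1582cea52b18261f4bb0b0fb0f8287d881c9cc49284e64e64aff2732da3d3994d1e9ccc1ca68e2a731e90da38f48e7a210a73d208f71ee0fcb4f706c187b82feb3dc08649ee11b18f70d04a7b87b808963db40d08d0a021a259410c54c231c3665bb42a238d98d99d4e8496ca746735d3a53a035088308af22a08579579487d2bc9042072caaf253c464123b39ad1ad08a7888c8c8489836d7641234992298949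a414d26d2675ae6d74b5f34421b5c9e42b9b61ca261261534458725a21ad98d10d106279370334434438fa0fa1cd74d74c6946ba363913719ae812524dc378d1bb1bc1a5ccac2997e5c4ecbecbe09729583b611ad8c6f0330402881e30cc1bc11a0a079c9c53a8e81e2f652d94ea693f91b113a991584649d4827129f6b360cc2d9b302d0cd981e466c60b0b3633603038a85c5440a8d2a25eb59515bfa0a881588544544087f5eb61e9842a8f4e8b927a67a60a2d0982d99104280e46c844100a812081bf210410411a2e3254c52d1686295e53b14df8898a58a417c124ac52b8df59e71f41d7d436d924a11421ce9252c64c64902291116cd6c30829b4d83a7221d8a8e68e418f09c873f943c063cb6b84fe4fe418f437e368b3f821fc9fc9022c449c7f2482d3f95d461fcb6428fe496927f2d1653f93f905a312f91b24fa065384bc85ba6c8412f044289795d984824bc104625e32bb3601897897988684bce2a9556712f21a30fb0fa987d6110c3ea3e929e71f638498499c11024c65d4975489312809ab1ab14614c72830a30a068c258a652a52529625d0e147429104a8a3b8a5d0a4615c52e3429df144869d29e4350a4d21ac08590d28424869740e4364341bda8f4e1de1de72308502d18479108c2d444461,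
  nat_lit 0x16e0dc697f988c48c482dc2f615160ad143e9d8204e0c08f0fa60023b03b346ec305a0c58c590a5395052b0ca82294adf132a32a1a1c8a8ec0e420d58725373551c390194f80c8547c083aa39df1951d5fcaa8e48c45475991aa39cf0551c51d6c0ca8e0bff60b2b0330302414fe0c4800d83dd133a754019d10ce8ce8c7420d8233a1cf10365400b50cfac8b7448435ba5ba10e78e7b074073ca39ebf8d1cf25c62fe293a57f0698abf87d625fc1400afe2fe031713e187a87a6a3d408549ea5d29cf50f50145d78c22813e2094094082f151cceadaada0bec47342ffb20957fd7fcad20c10e5ff53f5affaff828bc131a502502548d1772940ab6315b43d56adaada63a812060bc11ba44806c5824010041c038c10e00e00236d50d86827bc539c4dd726c339b536068569b07bc64d84d806a64ad0cf795f19212afae1851ed68c2b2a306173c5630aa4051852fd20c28c283518d98b213a9853de3c62178a6f2cf78f79642093ae2960ae694b2a4aca5934d052cd3c6296051214b02e8ca5ac58252c098c27f688513f930a49fca5816189a6727f247113fad9849fc9fc161c6cca91dc1b448c123357804b56bc12300c1cc0732f0361117815d86bc1858d4163c0620b12339815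780180882c0c2b3c05b02ac4958152bc8c0ac0a0c0329d15ad48eac91c7c4b23a7d471f16c53b3db3d85b247c46ae8358355f263212f8b1b0f381a944c76d292635b2413188a1c98d09ca4c6d924263047093193181f40361c29a2b4d14d3ce60a68a724535081029aac2714d0d328a681110534538629ac0a114d14d046f8f1b05687dd42b4516915addc28ad0ad01c2443481422be8c3010e301188724285788d0e47fe53fe08c29ffaa82d789540474874851fd1fd29f99f9b0224ea9c36c122d1b65e258db0aca46d88ad036c2ba51b602e20db159046d803d61422ba60a11b60440657b803c289a01e14208d108c5807807821072bda145162b0a20a2045911a08e0ce0cca6e604206430222399e4b0db8478860595ed8b2cea7458c59033b1069516212498b14dc3c58c58833ad060e124792e4188eb520c049022c1064e8307604418418047520e171b4f21177a23093c9383498118138f2601cca5e290e07d3a3683e84a2c1f452900fa168707d353303ec55141f406c80fa018307d3a1103e94d041f41f4167626ae39314a04ce9c982670515026b3cc6135d09289a80f904d44d8626a6bc21355eb089a89a82444a882a5ea5e117b9a138390bd8264033c40e4016107207204c89bd3a5b8d5126552dc3a1a,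
  nat_lit 0x560097e40320258bf01a1226a5096151204b0c08c2590bc412c12c09e65ef11ee89609775b255bb8c50d5a22591ad12d1152c449cab452aca4271d340758b6b85b4c6944243f0921221204f20b68484884813ca4bed1d342730b68b69898c35cc1b0184a0eb1e263108b1a588565ccc42c420acba9348b1d442058c0d0e2c606c416302418b1ab90858c1b822c62c6089b4a4286103610cec068e2181a4410c04b10860e1844304301a68a36b12c51b7258a8db091146c81a4a3663f9bb15adab459946ca8108ac3661345061500483028184bad231e24492eb2ea6830175b4ba94e10540a707456110229c24c9c2b8b3da2d283093121be7188989023acc4411d837cd1648c328b22d910593345a2c28be916102410b0c7aa809059920482c808c416210120b08334009011a82b0d1668d450b347aa459a39d02cc1f2716640620b32fc0c59989422cda12e4795ef323ca75151e51e468f23c6247916604699320878d1e40ef83c6070c22174ac46995c3197d0bf0ab815f85f804b89c388f94e1ceab8b9032791ba1b4429310dc0dc0870e6e0845966b09b804d84ece5154b0e52c20d95873230273951814a868c01b20b16460058a1ee02c5489d4602374e5c83876ae4180a9721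8950b907b875c85c804b7b128634d939a49a360e1c53db68e28e32c714cad438a3c081c53a138e2842907148e8438a96211c51c505619ee1e5bcf710c4a49aa3dc3655926926ac86429c68fa7ee95052bc7126ae994cc176d27ee35c83f75d339fb9fb82a084754156528d50a5155a8528514474474a9a22ba311d484605410b2c2a0450c1501500950033108ea7d8447447503828f8a3cf48512e9a42a42ad215423a90ae0a826f32428a295215214690a8f8248548505748540c514548614e4e0ad294975a09694a0548fb5a994170d3ed8026a7d27d2ca6d048aad0538e29b29b72832b42ce7534d89f8a0cc50741042da36e1cba4e75cbba4d6b5dd5dd051aaeeaca7327086525ea66102ed214d29524a41220815356aa611611055b01a08774774156e2a877181dd20aa244183292217752f98d1dd41758ee865187747740f903fc611548869e70763522077545296d2d19129430c887c1464464483223220b2cb696d9659614a507b0406d66a268060a0b4034002cd87bc766b62864e75b972c3a739961c571ca545d6e0602e8583003002c4c18165d25d2666b7966a4da222526d26d615cb0e415c62f3a98a989e880f20c83c52822e8587097417402cd110939dd21a90843b075c69d694eb0eb1571b71a800c,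
  nat_lit 0x6c04b2005241b4d0ce0daa60333f364099f99f82234cfd03a64fe406d06d119fafc20f64f650cbe642495895872a3aa3b88869b584428d6822150e3110910108840f4644385ee6b4246635a1832dad088414dc8d676b46b4060098e30bf43f9863882cd0fe12d6e1b210069930d8cbc43aa55e266c1af12b9897897802bc480ed1d5c3060ea8872c755788181e3aa08723c04b24ac49851c51ccc0a4e480ad3cf7056a0b1580ce9921209f894972a23a83077894188182a0ca0c0b7f346388f08f1d6f4d1843903900a4f359087c07c02940645ab7b6d2e5bd1ec1adeade8ca51419293468c85bd34658f203828d18d18c1823ded1a110a187a57f3017832da1cb4d4c0e50e4507280b243946a501caa9450e55492072a4d0c39439414a4258538d2eb09c68ac20e35784671a71a34ab15171cc6672ce6333980f67300d13997380883d180441ec199e37aa07a06e483d18d201e8e4ce0f4162607a01104cb1930c1e8e4840f4268107a7df716488bb4b241e816905920b47116608ba71b84591f5a22c036c11611704d70ef2445822d022c9086116413288b04410458fa4622c5fe21165b4088b08b02a051f4135e7f609b0398504b97e2425e639a12c12e09b109604d90642cdb41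e4c6da6fe536d39019b69b6825a649520f2714698e96960640148430c75c61157c691a71a705f1314a4634520e31b24a518d08a18c68e608634718231a31a08c90292c928c60c0a4651a326052d1941e7527f01bac7e07e163ef5c8262aa8c4315315206ad0dc8916692743748640e18fea07f84b1c3fc3fc30a91fe62428ff389c1240c3fc15684886812a920ff0486d46d01d8540318621b0a8da44906ec3484a320e880d236e403a23024db8559271860470d722c186b8568835cc0021ae1ae087d0d748758ebb14a54a581ae8fed47f185623fb2a2d1fd0f548fe690847f1443a3f92811a046bc6d028fe0cf1270521b0a91d0d9464486cd020d2a4360694a0c950d8db8683216aa0d20d241b70d53946d2c5c35459a46751f7430630620dc4dc41178cea7218218045d9ca9d9d46f1484ecea94270d0421384a1d09c1b4868205cd1bc1e760de01dac6f109c11460de71bc1ea30de106146f0d0412cb2faa45e6a74a2f0de0255917812c733c81bb95670170dd825886e9805c286b02e29649aa0a194d500b812e6040a14314448a1a0ba050c3f0e2866a8097496e18a1af58850cd942287244e5370df629ba9c2d4dcadd0a6edbc7537586229b8a1828694dc13b88f2d2fc383068409a98bf17bc85f963622fc,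
  nat_lit 0x4945182a4a39265250882c15a4494bac08c5a05095fd81ceafeafe23a53c448b10b12462d35582c42c472b81e970d915e1c8dd210446eba21237237054e0e72c739709a240a5ea22a5c249151c3208a81dce454454098f5c260ee0ce317098948b84b10c4671ea41bb9bba0870870135a3dc09ac4fe04d5ae11c79c79c135455e352f2714950ee0301d3700a2ac542215644008ab0ab03793790db81b803dc095a16e06e00370770432b5b6820e795a06e10738370d4412c2cc2c9a390e714ad4ad02974d3d0c0a7bc0a5c60505a6c848296c3a0d22e49049175b51c8bc8b82968264a73b24a139d5b762bda69b534ce7422389f8a43c4974a1e099b10f10f0c73a858443c48c1a25a71050b10b02910910848c4880a381ab2036253586ba264535c53461ae1ae3080d780aac6be28c06c0626032b18301d51d0be380c0c235f106041f891a1480d8a684065573203681c1023480c81144e01dac204534710090134abe681855f33c92af2af04cf8a42c8133f464088b2520420429c981c34810d69440211052012026ccf900ac0e00e164043f451c21fe401c2922d9ecfa0ca48d0263e823a511d8a13ab233d9b590d50cac82d25d6430f2ab21aad359023e8ac85be3d645ea1ab22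f08b5904784ac86a41d6440106b22aad10055900c1d8020563a7c22aad3282418af224f85874a099dda104d080882682609451e35228a28a88a19edc4b77e2433f33f05f9299916b96b817e64b815e05731b2d023286207350311184d5284885a940c4214a0590ca504b845282601a942fa094a0e8c2a50a5008c31884461c618c9718ed17837828a736d9231dd398603cef0701f01e31de4885c619300e30d7d0518674618c38c305d4c61311450e4c8a28a208c14511a5219b391468c9ca7cc98c53e53e052c0f7213f929d2efe5b294a74fe42a52a5207b952947b63f4254a353429699b2c1a8361666c910a0d852d40fd4cb84390540481e52c199722c2b25ccbb48b265c82a01b049974e8515c9cca4ae43a1c1d202cd0e92b9052cd34a43a6958c1d29aa40e90e9052a056983a03a00f8402220ad410524d0713126a914eb7348ad549430324d24d185faa710579b16464e12a196d15e0c4ab6a9a5a9b26c2d424f596a16a036a44a9c81e444bd8b41e4316b168ee085a1ac5a26473683684cb0b16b19f99f98352cfcd65d3856b3f33f1da39a38e80a7ca640208d31f2a02a9019019411a97282526395422422292e484c854c0dab1301735066c55203341b0e19a02840cd073186694e883341b520d819a0b5a,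
  nat_lit 0xd9b607610f2d7d1724abe8be80bc7c736e7f2b8371ccfe03b364c4c12623e31fc22f0db20988ad90d9053c55ce2b59b6d953e1630adb678ad5ce5c822e716d8f0e17394b18724a5ce5ce59e7ac5a1739a88f870bd655cec380917b361d4b9458ca5c48c252e13c0a97096b5785f654bc23aa65e15e22af089e097848bc186e3a6a13c11e489e2fa1c4f14b81816bc20c3613c04478380437223d423c3a6a88f5f43c47c4782ea94b48a5c55ed52d3050a13a1384d914b5a404a6060dc52e206e06e02238808ea2ca5e653033f19013148480880817e2a6042023020b70370054c0d914dccdcca64ead1432732702b401c9c6c86c844c12671dd12609c99cc70e9826d220fbc77087d87d831d9358417a6d210bd0bd063aa6b0d5b473469ad8e635f4c7332ab639a4804d6938e64ec448648668d26d62c6906901b5abead5f54863243243309536b5c90c4aac486695524312b252192181b5cd2a329a6956d430f035a5583d23c2390960f3571b6e1ca147206ac868c77233461c850f081a2078458ce3c20de334d1e105441a682a46e090344444d1a21a2184713b199487984ca556416526520559d59949d99d443444ec933627658fa13b0d7d49d904ee09682762af48d51680912d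6c06aa27c8155155105c9a258c39c39c691821cc9e91d55cf4873a67a457d13d278069e99e9061806e2039cad9cee886037cc0ca615b27f2cad8591456c12c72b61f8315b19b14ad9070856c1f432b6059115b0b604ad805581b856c0806164486e29794370370100e208a0bc138485e212882f115c21781780899104544cc4ca84e109503a0bd06bfc5fc22128af20c998788bd097471547183a5d32d2d7c85cc3b6c9983dba15326db6db203c506561e614cd9612116853078a9585584c34e52a31a767c10d38290469c69c0f76ac267bb0e74e180a8b43996f154da52ad4e84e86933cc7045b5614253e190a19119151c51cc895453a0350c9d035614e83e5a4929d3a056d42c08d825864930ac32c3033869594a6e732d0f715b587b80b3039839d61cc1ee0a7839861cc83dace6439814a67320cce398053c9cc38398e60c706a6e6398398227a27a1c3142e949a269844d13ac4268a68a06e12f089b459a62a328b38db1159ca2ca3d4c50b44dc892935b140562524859942ce0489167492047b0b3823d50a59913912c16f2b869d9a102824cf106933154d65f49461e207018f11354a7881d033c442009e21e202990f15631682c917e18b5b0fc8badc4f0b0ab00d04b6076075e16532950583604928928241c,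
  nat_lit 0x41a30fab1cac5c0c4188542e0e1f5d3058faa532c2c07d5616c976a0b64ba485b0789c2d8ac8c16c0ae50b6153205b1ef082d85cc216c16c0db60b028a9cd42b59cd6d42a7ace715315306b36b324d6d3758c1e2a0b60f35b06b2b0783590b5d85b00bcb2d80bb216c0de8cb616e445b093412d82d8057f26e90978b5cc9ba17c94dd6c24b39a6e38335425619a19a0d6115068668a82f59137562a0c5e339c39c2a6c2e3b180d54ccc06c060a7a3cf69ce1ce342b554c8738cfae44644672a98743154d058caa74f455535596aaa2a9829943a16aa8aa80a764d01a8f924a547d2559440e26c495605524aafca1256424e92a1d06495248224aada8d256494492a1741495495048bb8981dc16018c0e82ce58068262c030381dc5600cb00b000c2c39421b32a20c720710a06006051c561d3bd18bd1cb01b1465804c422c01410960160035b420d2f462fe21623576b7318ab3388b31c62b5fcb2d72d7582f114a0c2c310a24218812290c41009862108693bc818819aa0c442e718805a34c40cd106203bc43103bc1988062285ce9d125aec7672d731004078b982f558f1c2e24a2d171bc060b8ad6ac5c58bd42e2c40917163b40b896b829cc09817ac4b4c3086ac598412228c20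19126102e20bc130805e49b2a1ddc5c4a610d74622726e291391c8889daac244e44e0c720770981832080f87e50d188a281f94513b4617e1d0a1a3049d418414ea4ea055197624360bb16a5e5d8a4882ec2a5206114bb0cd91937938833632929b719534ca6048d939938630e1ee22521f288450ae9457452682ba05a395d17490ae8ae8192eb6ae49414e714ca8828a6585925322ba82991bf394c86990a650ec4532878129947e08c3195a2b45a698c2d664b616299051c947958586181ba6c5ee4cc4c26a662c1b1332b441b4c41e84cc3413a661ef1133039c4999b8014cc61606ea8c28375133012b5b6c13de0ba40abeda1c55c5601bac7bc0dba15706dd9ce256d4331473a73aa07c0c348e8a58367a40a4431682c70c30d65a441858c318254818a02640950953d648d5a835ab24e1ac356851562a3a8aae2894543581594a2a0a8c1ab040c8ef898a94c82c542d8d1df38a60efad42c77c134c3bf50051df03418efb150294477c15c90327a51a513a8aa47182b1238674c5a4348e21119c014ea11f16f58424322c19202960c890510ae6b916714714b5a851c22d42d4b56a16a1a218218c3a810c59b8ad4b8430b4126fa6fa9172b6961c08762ce049e547024a873813f809c09c08366c5c8d6d36d2cd9b,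
  nat_lit 0x4b15059a5802528044e1664ea50b32371859a57882cc8b1c1641acd0b23ce5059256242c8045016416609490d820590a80c2c8390416452c10b20b204cb9163435a65dc1ac0e830d60d6180a86b314a1498a1ac3248cfd4064174974886483594324324a1ab1ab59c01c038e0529147005dae6ce2ed3919176b0a85a31438445cc2ed2ee6335a2230bb8f38e4085da62ee53821771771044124c8a2e0d0e3291691b174b0885a4ca486979705dde4eb29b64612549d7f131846d8a33a36c48861b6204c043d06d92c26cfd5ac7148884aca445b9452252692911103948b3a98a458a4a522676429106c194894883746584e21a700671871824b0dd119584ca03b80ac071cc16a4ee06e0183c3701614c1d8adc00d62a93ccba4f3a524f32edc894b82771257a578a525049615a73a84940ad2a4a94418e453710722722841b5a808ea1c8a81e64954722b505391391587c21a1eda43e1aaecdc8794a94a057e93a965248dc72932920afc5d4593a1fcb09d09d1a1504e8527426f1a3fa3f8c9d138c23d0bea14e36022a71a7190d68d74a6ba7f4865a14471291ad34949b0584a46bab2525a15129129025365352b4224ee5915917278ac0b13c5a9d49e28bc94f14f104bea00a4231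06dad4e802b6a76a706756753906c2898836834a41b0924a0da6e1d06d06c1162836c3010626942980b818cc01a0c6012b0632ff48319509818c5b0a0c7b68406305718318898818cbf020c60c60b1b0a259809808210a5608144144e06f00f6837837301bc02960de152a06f06f06579e3052459d58c97336e2696756934a48b09a484d64d233e426926904bd8cf925ee5edcceb336d675579633ab3a825f2560c69b1b2e2d308e416982f10b4cb5065a65a608a5169504719d937448c5859ec526675dd16ad66e8998a44257ba3ba256751743a899301c5d091442c82c823063130b2e6088a1119d4908859a3844844111198a85ad8c2422ecd6c1309261594e907a888d908277c77c108260b52bfc8c215fd5fc12325b2a6964a74b4b16721a59860cd2d1e456968f0234b0fe09a598582d2cd2c077f2e7624ab24ad254f41c5cec0ed2e70665173847a4b9c18105ce42672e743f2973c9110b9d62c65ce40a22e75100973a4a81e00b9c0e26c5e86495313b24b05999254c48c9274a36494bb1324aad05925924144083cb12d41e62f0343a154d255c83cd2cd41e64d520f30e354058fd4a02c82950124349e41b2a0f2107818302e243c831519e428081e60f200eef704a315066398a98a9cb674c0c145a609cb4,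
  nat_lit 0x35a4b072ab158397d08c1c4ec260e4a10b071a4b927c6e5a93e324849f19b04b09021127d5c1c29ec1c0c7349f067e8a7833f97d0a6e46e455c99a071bd5c4b55b91dd6adcd7c456e3ae1ab71bd381d6681a0ea6eea07500b403a83b1c1d450c80ebace933d382199eab702ee1879a6e6d16c373cf659b989328dcc8f926e641c63736ac29b9b540cdcc1d412dca92e64a6d04b252dca19295b0ec942fc464a59c1b2519e826a0dcc12eac9409a93723a8f46c9147947883c2012d0653095832032381941f541d2622b06506559891893597edbd8cbea3cb65f65f040d09da8c481b1062419a731207d31891a994c482f886241063312ad1118912784c48d3d883062408aa1e42a0c20c02ab0e55c9123c8e5130d06289c9f2d44d2a0ca26a26093d50c721321299099099c2ec2eac22963e631f2898d8a85d982e8d7ce6be3ae235f5dc10eb8f88699aad885b937a0b543680cde8d506da0a92e9a96d04cd4adca26a55b0f3522fc49a959c1cd4cd482914a35a852be4113b6095302302296e44d1a8457e0c4223d4421121102e95089aa34570c30c2b8495c15c041e057ce0f0960d38b10e61c58eaace2c39d27162be838b3c031c595b88e2d62c271671609e9029183c03c0c630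1e1c71a12ce07800b603c03cac1e0e3120f0714607816d103c03c02638e31331c2b0907402368b00b03457e66d22be2be099a1c050348e018b24701265c38072d802f60e006e943e437561b802ab0dd02f686ee402088c375a3821ba338c4b8186ea0aa477d2e12ca497080b5290425c29528790791452016a82901df182809288140a40183c0a00c1f1df1e0f8f22b07b078e16a94440b5bcd185aa35882d4918216a16a0bce5ce213c9758d8d09e4e5d6958d65250c68bb31f288a48a542e82ec563e63e2914a43388a194867024503652685434092b849106ad841e4fe61ab346683694ab04341b5868a68ac1306dd4a930fa3949c45dcf42592d7a106b63d08ab2de85b4d4f4395097a118a43d099b8de85420a66ef4207df33703d0293accdccdcacf662ac4cfce34a67b4c9d33d33c19c4dba82b02b042b2a3f09595b242acaaca0dd20a7323f23f951f91f88ae83e2447e47e40d632d39385b25ccb4d921dd26e84a96cb6b4372601c7a8922d2b60dc04b61ea025fd244c2f256c096b59c32488bc825f85fc69222e024916e83aba041a4f19874e78caa453c649103ba21584f195d0140078c07a32872aa929c9154954813feaa4a5744ac1ad4aba1d2b141c495850a14ac4ac05e9a58a52c11490960dc874b0,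
  nat_lit 0xd672a7706f314d54d4face2a675355351b072508849d358224e24e0c743eb71312e698fa880427ee6e6860e5f4411fb1e154d54d54be8b18e34e61d41a72bd90d38d38175aa6ac33153522fa2f0a077c8bcca6a2e0763855032a8b1c257857852b2ca98559632822cb2cb01f64aa508b420a259645a0acb2cb034e516846d6cb4136b36b069d28628dacda9dae0a2051690cf6a880679543033d7ae0780408216939e02052c33d0299ae070e952936a61b5839acdac620c6d66d6080a40a68c20bab50285a52814814908e40c420520aa903103143be34e91a65d249f404735035035a8186fcd25622861bf1bfb01d9831831ac18e14e29973060d2318318301b58056a1a6a686116534a0e58e5914d034cea68a68712a2d4a1284939cd8a4aad6c550d6362a0e15b15b1418dab5272786c552d486639420ef8e5f61c4d54127d687117d88e1cffc49b486814f83ff3b62cf88db6cffc81c478eb3bc51a45d11de2c20ee894778b4873bc3bc05d1a7c10ffda89b3e27fed6a22db3aa9aa9a43a8ffdd3e292ec0ad0ad49ff284259e09f58a104e685083fe3a8433d954214200f4ecf657a72577292152b54906996a48a480c6128652920f49474096d63d24ec56784cf51c733ea0e38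a18e71c71c0ce3286593b2a1b86d49dd836a386b1b51b5052f8f4b49d89d9a3645c0e1f40c36a771433430d49dc5c05fc80630c3517f17f28744aad449c5fc52e02d4697f17f349b0df944d80ec926c95d11361ec3a65163193281c089949223cca1ec926509b012b84b860762e3283b4610c1da650144c0ec0aecaec0d134611d78abb0918451028c28c2057692e1abb2bb0c5c642615236d25343a91a9b48f75c38ca4696871c66291969a871f6b1a5325a8e26c29906d5a91909b09b01b55b543523523296998584680b4d63de056408e1a220158d9906a0e5040f6352338f07311b31a284d98751617c6cc70e51a939b304d34c852bce4f4c3a51ba2bd2269aa4b1874a596c3a898a61dbad3b0e8c5898745e02c3ac3a0bacbac614b2a4a12ad5259758b388604500328d28d19524a850c30132343b68b09b6ab434bb89c5c73a6da10740fb404c84ca10f515987a48ac54eb652396e1b6151588442c044b892111885053053281181d984220ece380381703b03b0cdf4df4a450d4471f42db18fa117887d173823e83e80c382db70ef8b638b6d90d85b66e4b2db2db0444967a53b8dc9a4626e4c64388961b9314b4dc8845c33614cd19b65d60cd9b62c66cda1233621a819b71820cd8b48466d5c1ac1c402a60e,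
  nat_lit 0x61142afad410c2957c651034c627b3ff433d9489c141a8ca8a07aa4450450045d28c34c4909c6a3065283290aa7193064b0c990b9664c61c632656a299319302048d4180ea65e907507503eb1bba4cbccd9065ea02532f0f462b51bd295a8cbc193666c756a81232b5187155a8d2c8ad4652356a1d80ab52b50327327161e897ab4755374a3a874951d51d414ac86635375370453a8da97517508ba890a85d45d44138079950cc25c2869556307b2ea083d83d82aaaaac80d2656106922319e3e401c1a41a4e446d26d5ff5d35b49b0435a4d74dc53cd28569369328e91ad10804804e4788b2b4853fb31041fe04f90e3544e84e8a3fb5e511ed1c6a4fedaa487f67f671163fb09ed1fda022d4e027f6c04830d3ff715635134ab0ae585581d2b2ac0565156156a4ab0194c55861a52ac6db21561882819487900ca61c70652ac04f8940841950896618b20830c600398603282f189ec26186180bf01030ac8081a806440c461a8ee33a9b8d2081a3b991dd5b8ec8a8eec3ac3ac62b737415af95b9c9be222c4df5ae5a6fa6fa937c85d09be4b654df4df05c4c9f39ba94798dd4cbeb6ea6ea05b7a6faae2537c418088e10c00c0039326f91b78ab0b78d78c93106e8226fb74212b1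3742dd070214dd4dd4120b2a113759cc6342ca256541c042610d0959442e04024b38d473b89312da999534da4d099299285ae4517640239a93250686694694547352d621284a15099094a1285aa905e2d3696aa0aa0b5478485aaa3c32d52d5046c9c71834933d280462a540738e59f003138bed01d45f61a692fb06c699f17d8210d8e5467c972933e675219f1668ccfb044467c446133e33e042219f1533c2f0899e99e082e349404b8690546912197448ae851a5dd221117f8d469468657650e17a10cb227fa7f9140198924d0cc471912953b3107eb95f859d8afcc52b57e54d42bf295995f875caafc87a457e37f1abf110b912551da892cbe94496c2422492f9d124d34a89264244490a21a249a0891248482892c02d46b1f5623585b2d1ac30548d6144546b36a72872053143833d6a1cafc0d71d6f3a872248256198944428d60d3050e06b8110823999882427a6088e605c200480938304309a182126c0c113b5860e982430649501829d070c134c2860860832d1889aa5e2c8c3342dd721c30b310e1a69687013054384380599228b188a3096c4435ad62226071760b215889888aa50a6682ec5012e4d9bd2b270ddd3937936907541a61ba9a62cdd41d419346ea0c9937a5ab32b60cdd4dd4a0ea67ae33e,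
  nat_lit 0x1f9210a10a0255ce34a882882512c4483a20a209d50550523023029aab0c634011e0b4f1c2c5a782642a55a3c15aad2ad19934da08780c9a33c1d0512f79e0884e44e447fea4e12ce2ce09b72f8b84e74198b8ec06cd06d0648569ff2741b419065027242ce64319fe2a98d8bd308ac862ee964364349b035f94d810f9099c99c09a307241b023782688d8013426c0b0fd36048bb9cc08ba5b11055a6c033576dc19b05f19f34d2894cd99a671a516172e48d2833496b5c2c2b920cd1bf860b0b0f2c586b20c2c37a85161bdb20b08b082f08584e6362a654a231b10af9950457da29a6365faa31b4f3498d8af82c252dd496e71884b70b5225ba510d2dcc6c183496e0bcdc1a10afde6a52dda6849187188bcd0dd429997620374bb09901900e3366801a3a19c306b4ce14b7a670d33706a699c0b9a0ce148c6670670326c066113616a049b083860cc4d8080806604ae9898c8388602cfccfc13773770989b2e11430c184a1867c150c50c0608b1f8c6e85d4e6d66d6763f30f6320b698dad9905ada6c6a247335d231ab041da4132544f6cf0e3281e561941940291c95d034834836786782b290d8b989cea1ac4e2ccc6272d05b138d338e5c951a72e458b39762705339cb20e5e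9a4e72e72e0a684b85afe12e2d2e0ee4a1ba970e1ab51330b19a330cbccbd83c862274611e43988a3621458d4141820c4b0090a25188988a91b16b0a622aa2e2a36734b599c7b9acd6c96d66d66b54568270d7aa2b471c6bc185a38e0c2e54570719b33967d511ab3e496c59f6735acf96ba967c4210b3eb3e0a741b620db8dbb184c6dc805c36e648947f3053e821c6dd2e4c36e36e0d03b8239981981c6881942616344259032f1106197b41a4cbc971ab34910609c75db5db3831840d818c18c0bb7103589c08190cbeaacc206a82aaaba1d121831e850c10c0143c1ac87cc0953be656405f31f3015926a0e41737761429bb95b5d1b186ee02820cb5046a7f865991b1f31c8d88d8e1dd46c50512361a7f0a1588d8a4a157a46c2282282033833788c4ac4a0cdf29b3292a92993193196c1098c629b4c648bd322a5318b61c99ead812d46c4259d16a98b607ad4d12d32968945f43448de9da27778cd12d120cb85b17280a5d3140432d6a02a020a6661c4ab1b0e045858708622c38566c5b22b0e35a356c95156b64b640c2fc1a497e97ea53ccbf4e0c65fc72fd8f40a6834b1875134011e63a808f262570f72be345ed845272071e839033f7308af7b58447e58c226ccb611390055ab0881da05508c226d8155f,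
  nat_lit 0x32b4a3d851911b91b9aa468f691c566633168e3999997a8cd60a8c56b06b0210de6f0d70886cf9bd9bc71af45f2354ae1a95197a828be7b0e37b58c61bd87020decf6486f67d4337b07609bda9bb4f5821567ac6f609940e039eb1c918f599a0a7acb1643d62e719eb1d288f5857027ac936e32232161911eb024893ece6442e6632214c29910bb8cc886304644290132232203cb0b9885dde8422ee2ee076307249b19d418d8cd8ccada9ac73762d72a4f27bb8c10509a6086e6c30468b59825e028c116e10608ae47304064318215490c1127866086080cf637610b90b9026d92fc2aa46c609b755204dcaa3026e0364c63e46e431f31f2059947a16358a14510510a28f28f5b64b64acbd4e38aa38b52338e6d529ab308113b8bd4a96050c32f50cb717fe98acbfcbfd6c0210eb3e533d317d16798cf501565f667cb40546b1af9202b5804cf54c022a686015353b00a77198045108c02c0436013750b00b008359d015c8d66ee46cc4056eb3adc910147c9cb72b0ee1f24e7522630ea939cba0ec38c96952b2830a95cc01469d4ac834e34e098152b194a80628200ecd010052a6080130284018b102002001bb00fe800c3b0703f9d7301fceb560fe758a07f00c046d1d4941fc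cbc80fe206307f16e083f83f82e366914826136741341304d2cd20ceb1211c26a26ab5c8431484b36db12488ac8924924743143138b398d04fa8fa8286269c648c57b1a18a188cd395a18820a7cd0e108f60709df2c3854f541c25b490e11e3387080b18384388a1c24f630e1191719aadeb4cd43b1866a702b335263519a83524cd43fd066a8687335172319aa9494cd43e0866aae433350e1051927d3831c2c5818e302b0c73bb50638412431eaad018e9f070c70c630638099431ccd416d2284e4f7cf66a7bb54313dcb4969eec3ca4f76ab4a7b88fa13dd6f8e9ef7a864f71612a7b91e113dda9069ee18e08021dd7215a36350ad01968561ac842b0953a15a180d0ad3dc159085607cc430384b2190d0750c8c27612c94323fa6ac6ac68c91459500482c8816552f68d68142c62105465406d6e4153805907a97ad05505565d8cac834f210732b0c33595891d8cacd84b656366532b302a19587c4acac53a4656656048e8d62114114108fc7aa33dc3dc1a28351907e5140a81e81e56a307941c7865a8d3c44ce13802880a209c086584e08e3c270613601e309c449284e04e14d34271289613871812070b16a20a481d105813820cc441213710a01db4851a9d642832e92142bc410a11b9c85160cc428d5c5214,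
  nat_lit 0x6956b108e62d884d44ac4253e46211d51b10a7405885884150c38e71c81c720d0b399071d4c8a5b638e84de3945b26b26ad4c87314cf8728c5323570a89acfa94c94c945aea64d2d3532716a966114c94c8e82282292b246750509531c284159c21a2bcd10d8fb58868508316043411f80aa92a52a532740512033c7e967d23fcb4590cf51b8295a10350d94408410e45945970eb85410da81d1814c6d4738707469b89b8341d17dcacdca6cc66e6be4b3736bb8a759b92daebb6766e5e04966337095d9ac46a98cdc43285962337215112d59b9cd62d62b4c66b16304358950dc395a5fe43856b148b69ba9ba8c8711958928ce614e81e2496a6a3b0d6484d46b20e2935967329ac9ac83521149436c130922b1b604a5915825319d5c4564d2d22b15f51159158266da588d143a8451f31b1b0c284953ccc70a636a3ee31b0cd598d98dad426425ca12a12e1d41d406ad85f03568e5146386380d5944e526094c08f15178e48418874f11613278a7b953c53c417a8b42959120142c8ac8ac915605a48a48ad1e728f20a4b60acd75685848ad82a35d6c14922ad095b04d6dab4221235a15a112d4ad08c7a9b6d0b422d061883fa0b3c37511a3dba1a97488e60ea26b3a6fa7b313d9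3d86a7e9bee4f64f672b72a0993d8fc4a85c85c109657d3a172171cd88de84d9c6c693623624839125b8d89481a6c45b2c3626dc59b12bea0d890d0c6c4d9c53624fe21b119d3867498d833a948b19d19c50ce8152467473d033a6ea719d1df30ce82694674e84833a3c4319d36206a18ce82a00788e6b27a46359359207187194f75519c41cb8666843f762a32a3317998f52d60c7a73382bc631e97e117b4b74eac039872dd63d69a8b1e188bd9f0cbb669821213a014782a7863c11854a9e1f2854f1663aa7c780310553c11ce54c84665054aeda6b1576d76c27464be94e41ac50d636108961199a4f08cc925c4665909233288452e0a8cca9e45db46622a7e208953d1ac2a9ea9e0c4246662de8980d6ad1989884bb626c23d52b52b528519846dc8b4be286a55473b52b528da956ac2d4ad4a0c062d22a2d303291691694a8e69e126002b08d08d284d3c69d405634a702b34c50658d2a032c0ac17c61960cd359908d2c9f194f8538aa7c2ac353e122129f29f024cc60d3adfade937914539bc9e984de4de41adc7a6240ad6e11e9b0e917cc5f02960abe145236c21c5a758c30db6c465eb2a14ca32f061ca65030ec830187496034eb6881b1fb1f89688f9c8824186647b63809ca8c2211ed1ed0b2c8f6148c,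
  nat_lit 0x2e44237a37834b404041462fa846e3380a968be9cc3c3a4d2da61e90653104987a3d156a4d2da6686fa833406a319a1b710cd106466683c423345f9099a19a030fcdf4e620d34a33856059b190f29580878207a6e4a3a821e20d508614878d45abe8be8d63d18f6ded8c7953d063c7348758318f6d661759c1ac63c63d65f8b905122c893b1a31a095859884c68a7ea6904480b1e32288d454fc423e6a2253f6e80b653651d169b2905524bea6ca6ca52722702188158dcb6c88812115b673503652da81a801824936731f6ca2186af90d11111108768e0943b3d86a1d9bdb90ed0ec67b453ee4ab38d430b2cd0927cea92904754715243639d51d504bd56914748748a3a9d061a3baf7851dd1dc1a0a36e851151106821d498ea90b8a74eb48c6e93a762d20449aed8e9c67e6270d3a75ca6b401f8b1a00ea96d00d0008f96e90b6ab749d9b11bc68dc146346f46f3374b4011ba5ba488e89e884744744062a28b8cb4cd9a65a694b32d5315196834a0cb488ce65a0d6532d2ec2196996832011d0aba290886800e65230a232c281185688c696e34f36e2b3eb3e886a59f4a65269e367d5f1523f04f0d148c092dac8fcd6d629d1b6b36b0d959b88e67aa30833d06c719eb148ce08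cf46c52adaa69f69f51408b99d8f50c08d3ec94e69f69f72a4b4f910ad371a2a032434dc0bd29751d0a9278ba9293cdc0849e49e0567b0899a7cc14a608d3e16299b31101314826d48081368dac93836d65956b6b2184557d0dacdac66d035439aa268acca81a0664c654e0683c34aa4984113357b4e956a9275ed479623f09b397b4550cbda40455ed5ed22f7af6887710c023b83b80a1d63d3342ea6a9a150e06d0ad0a0d4ed4e221c339890e194428708700d4f0fa4abd1f88d0e1989b24b24ad3f13a04994862b92d42f1a96a760c4b55b05a5aa21252d4778c96a74054b50b41a5aa5a833b8e80c3bc7405cee42e19d00351b0fc2506848848d53e0e16a1221e3aec542501fa3ac85095091a84b25b5340d6569a0a1264d04d006a39ac9c928928e3c444c21e2c3f08f10f1030fb0fc4bf274015f95f906201251f0f885ca44c07c422622620ba1bea30fcd2db87e8323c3fc3f19b72528549cc80c490640368a69619901d008c8153c264064008f04a5292420f0d29529d816016074a402a40869f9b4d64de927e6a5e738038039bd1c315b41b5c670c70c344c44c6b5b1aa31130d51a53adaed35458822dcb252db5d8110a60a60859c64a298127d14c2d3e863c834a34fa6510ea7b399d9ccf48ace63c0e621,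
  nat_lit 0x3a8103f9d40d274a6067509ace2984d64a6b25631358f392958c7cd4ac47a231f23d086511e905b8ca4847a5fe123d1c0951e958548f4160d1c23f34ab50e11cfccfcce65c2b2306f47a50788ac9c3c43c411d016c715934d18ac8ac9408d8a023741cea1bb159308722d30565168820a376645a35962dd22d396e96e9c236b74c4d054532dd2a28cf49a386a8ab1034055883a5793d1d620f5967aa7aae27f27f604d04d301309f563b2888d09a04f30ecab438764765c5dcc30b4711d95a840ec8c76125d03b206631d938c0b451eea9a29a28e6da37c268a5e218df1be10df54a1c6f8c44c37c45159be293a8df17f126f8bc4837c07621be14408df172c45106f808c2288042522f1917d1c448bcb96145e45e04249f7a1aa642583dca94359f64b08e3b259cac947cc8e2c96426d4712325ae5a8c3869d0b96878e4715b56238a77a91c515928e28e084711d62a38936911c51c417627bad5606df521db3335339339ad60bd4c6df470536fec999b7d414adbedbe0db0bb13a3823802ec90b0c4da4da4bb126d086b136a0c6d84424dabdae1813de18d02512d3e8c2d42a8974816a15438b51c0185a866c62d45da216a4c008b50b501c60f51acde34e666f66f04c0283b99bd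1218cde778966f51a4337ab0959bc99c6cdecde0ba264d6b69218ad9e59e569d0cf262a7056615714bacab9729255c50a82ae6d2395715702b8d231a1b631cb0db3f170c73313463836c1180a56b18e07950c71c8a46393a1031c182718e18d30c701494638260831c4d0318e39d10c724a84638638124a874e6803f1045fb40022f816d65844aa343a60c2a1d2d3996919d9aaf6776d2c043a29601602d9d9b85adc265486e14692b70b4791b85b8417fa8c0367631a2b3b33b148adb85281eacc65663053b70af291599598860ab2616942ab4b6202b1caac8fca6ae5da36951040955a8f08939830c58049c360c24e40ce02320939b11249cacea60c56749162b39d0c959d8a1ad8ac56719f58b2ab3b4594aac86c62ca524e24e2955b311095d9484d40d4416a06a005591840cf89644a84461855914bc1b3f2f18930930815b61700adc0b7080900902b752f10db6b4284bc4bc58d1195ad2f0288864264273204671aa0a33a4439620a2bc8cec5334670abb2a79519d819c5c8ab2e0ea15b6a582acad2c12c014ee5c8b5596c94b1a172312c0b9080c05c864483bb384da78856916908776826d44141358484d22561c2c4f34882871364145a09889a90510514b60370e5a463431721f28d3391bd41921eca46f,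
  nat_lit 0x1a06190178888a4680c24218861a0328303684a350a15798850850c11265a2a142140560160015446de232848d055085330dbc1d166de1d8a36f16a49b7957a0dbc558c6de1e0536f36f19b7a6608dbcca015406de0dc02b11073a6602a7c55d056217472b105721588318cac439c153c5620db40942211a11910914f1426abb093e04a66aec1112d761afcebb049e65d812a2aec198917619386bb0bb00bbc5cd4356b56ad03d03c1775778612a4a66dde1112eef1afcf77849e6bbc12a05dd99892ef19387778790833164e2198dde0362c1a84662470133133105de9ac2cd61938977a6b0664e16351ac310a4d60b6906b00e2735835805499ab1d244361092292290ac401610a07f99604b494b06b06a0ff3ad12c1a4d88eb4f30a55e43c26a349b4351b51a0c7da95c8a0d56d4505ad62280b8ad140c1128a08a00bc0469725fb55b12fd139697e16e94bf5e8325fa5f82ff156141d479865e54bf3b07ab31d2fef6c2a5452ca32a32a398290f34e38c3c2a2aa2a43760d0210f256183405c1a742742d1f50d961d0842b4c7c7cd663e640931f31f052419026920f54e92810ac3d56b151ea9ce9cf54f54146c10aca36a364b58a5eb9319ac4146e98c0a381a5705ba60b02dd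301616f7f8a0b707c305b85b82fe82dc897a4d857a15ed63360ee1c2dc13c83b84ee337143f10fb83b88e086a0c9b83ee31a822a08d40d4200cc0cdc39c39c06fd68a33412a2188ccdb46c4e466c68a2c942f02f0289215fce490d14a607248048c3038306c738cd14d14e51f08221b41b434620c99014c14c815e6c4235a36609ad13342d68d680b3a15e0972172055b0e094c68c6875f2dde3986b44b9b05a2586acbe49dde5b0097d6ef38acc425a5660aec2b32b45959ad624acc8310566d3c72b346c315986594accacc13f85f4469e69e69c12d130e088316704d92a38215a31c11c103770568134e70c114f14f04d3027848a99694a00c6ca65a628731b2d1358d90a58c6c2deb636634431b1d9958d9a808c6ca9a36362550b1b31b032255610c70a72548c0e772a9218b55488856aa4b78a552552053689d8454d0c54864b94e43a5ca2a1047d2d0c90c96b940e23356430687c9ab350c14cccb6e860a53306129771459476418480b40bc92d6061106d83098bb4bb040c2c5a854c3e74358a0f1d530b3944f4b10954c54c0a0c9ec1d70cf75810c4422d935975b6fb3e2b64f64d4399b2680644a662539832364ccc49b17b16e4a664c7253b1eb07087098578166d1fa5dd10fd215a944c7e9485674213c5,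
  nat_lit 0x10d6165165023ecb2424b8592905c0e941b196524b24391ca90b78c5486d34aa40969d520ac0ca90b7c45485291aa408bb8ce4b25a6720d6c339156599cb69a8ce55201950314833926c299c99b8cce45dc467250e133933903d09ae245204c900e626425232fd10993270860c5852880a7c22fd4ed3169a769548d44065fc5fc34ed51022768c69d48b7944afcdb4157e57e06f30b5918a97148db45f676da6da12492490379c5ac250c50c0de82a31a492921d48d248450c50e23bb5e710b398b0459c59c1bd85e041670b40978178054806504c9aa40438a38a20ca30c291f0f610242cd4138a2af52850dd9d429428133c7ecb09e47c72091f39571d80d892cb8eb4960ad524b1ff25258ca0e92c8ee44963fc124b24b0341971d27b0ab475c75c77090ae3911f19a88b8e242e3f65b16b0e1fb0cfd8fd8e64264073f608a09fb0be0d91d0d44c8eaba164764706f51fb296259a8a7ecb62c66a66a52a633535a98ab9acd47b0566a1c149f4b350d1f19a847d232e86696694335142a8cc09dd4cd234496692a36334ad4899a59a4ccfca001383385203c9c18c1ddb806dc070683830eb419f89da5060d3dc668668c0c252970f5aae1cda95714a9a282a55c1eb61a58f5b8529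570c3d629e95f833b38a7b6434cecbfd8676c02b33b33b069898aa5930cc10c98344764c2222b263168d9306ec4c98302164c64c05c1072b153153194d54d45316316583318b29544ef9462c6b8712d01e18968968c4b122ca25ac38b48b33141b28fb891b90fd413287e649921c121f9b8887a949c86e2562a34206d31a11a118ca0298c35a8f620a63e7730188294964f9c6a0c9fe83e74ff3b589e7a98613fd24e254294ff4193354b54990d85ac4c5e86a162f62f06f4a5d90f4d79cecd686c343517c1ef56f50957579c2abaaba0deb6a941039d998f7c81c4766b0ea4aa4134a550589d2a86e8a95475844aa18f1a55255026918fdcbe631ed5f32af62f98a4257ccca8cbe627855f31611af9a95097cd7cc17b69e8b64a6d75a7a31fbaf6c63dcc7e2fc750163f314e223ad5ed11d8b6e88e54974471a23a23b53209ada88e13690e244750711e39c388388ea7e80e23c14074321a03918f0d44880e778550d4c851e385c24f1d4fce78ea1c53c762811e3d2184f1cf1c1485484650ea42505c2642a9084f8c72d484853f53f189f35f154fdba1ca66d7cb5d36935b5f34a0480489dc70cdae86946d30a011ad1dab1a054d6cd28868829e734a29fa5a4da418d74d28c6901c83a6f2ad38c816bdad62340b5af,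
  nat_lit 0x95621606a2147c35043f802a20d4219186a19c14350ef90db41a850a32b66ad3ad38db156906a44890d09b1b95a302552c429691c214214e1b8376303a9ba98dd852587be236b3df54d6aa61ef998d8f7da9167bee3756b121ef9d21d2d4e91a75cadc60f616942ac9bca86e860d2374a1c81ba1ba06b79b8048288282a1c7d882b918411f6249ac54924d4482802d4930ac5a49a49833a545867d88b853ec3ec2a49b670d45c3fdab0cb0c34334932a2e2bd20f80f810b0ca76a3e05d8529da498db394ed092626cb5ab0e31188a98354d91b0e404864e48e4795a4722ca89bd23968fc4de848e48e510124fa92394a9627c3d8e31a39670f62fbb0cc1034abee27ce5f75f75b21320b9909909cda6912c5180d46a151caad0a8254c85485408a231059ca9cc94c3c3a540f672e807b396383d83d829a47c4272c9ba649e3960b2a1cb34c6990166346340c6e40d333725e94e584f8a97a78e25914bd0ac8ac88290c9494b22b22823c2410a2104d0ca35108e1348784442099321e02e0c148da486d2590519843b321d87d88b210ec25905900c772c8596a9640d104b21cbc225ae2c867c71ac34ead938cc5cdc06b056e06e02b270ca1d1a4e194a78976c53c469229e0709d4f14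f0e3c6748b5695d15aa09d721745a05cba287435d15d1192aa8b95a5586c86fc4ac31604b740b00b0086b00cc23ae718716015a40ada2b1056c39862b6064215b15b1284aaca949856dc7162b6618113758ad9d3842c52a827dc7f4e3ee3ee20449f718964414c7dcc6224ee2170a7727702634fe947dcbdca3fa3ee5b011f7045d57b869dcbdc75002873af7301357b95450c2027255ee5ee29fe30838b3990dcc20c20c51069a3902b4d353b5440c526c9e42cf5bc33173171993d93d64d8c9ec2995bc2b27996a993d93d4a62780e6d26121b723690d848c2d2c242a8a6120aa1858b093122d8496c3886cb1b9612721b30918f04da0cc255b474c06df436c9f29db651ddcad21e865693aa22b4ab4906e0ef04b02ad21581581056c0830d605665020c3d2b4b759e32cd2818dab566883d0a2242714e93288a8884340788c85e36ead4d68550db9d7057c551c275266484a63a9404f24b3925971542427cec3d84554ae39ec2515591caaf4a6256471d94b2e323a47647a088aac8e32ae5893a2aa1b9c25d154ec8e8aa14374590a2aa2ab0278278c01e8a491595502873a29310c0e78a1cc1cc54523d24a2ba2914e78279c8ac8aee09e5453b10a2bb5159914adbc464a1a04fb5a2ba2b948c8d3d46991f4e2ca,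
  nat_lit 0x7c584d84d946003186300050218057c08c00c002e1026cb708136a44709b322321035148e798136a5cd39e51653202972cb019d96a5c8b8b3ed3ed2a49252ad494a8dca4aa4ae5516a76b6da00a0d6d00424f2d5cc5966383200aa82465c8512aa0aa0e35922b5b3134c39568c81cd304fcc6983c65b4c34c01d7525ced307f076ea662334c34111a61008877c71ca402368084684684ab9011011a772d4d134c31a307fb96156f54d34b0cd5853ec52022c2a8fb0e2907d87d8086e69822921c428a144c88b8049ea5c05c07327a739c4297018b80b80664c22232e02911c521249c8c018244e74f429c4273a0408eb1a20420434f4102480c8812c2f040942062ac80e610221cc0811460456ca20438e11eb1614136824a89b49b544dcd74130a29e3ae92ab85164a796a608ded63929d514f325898e5b584d4e40416a76a704d999f1da9cb50e880880945f4cc2a65ac1ad17d17d6998cd2340423c721f202350f9879887c2c2b43e5b1321f21f02fe03fd83d0132d09941b0b56a2030265101c3d0a06e44040452c2a202c602fe0ab6288c618030b20c005bb8600601c34a300764b16a507604cb06013314a063d0950332b4281b271d40c330ca065b4550313812819890540d4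0c15a2820c39d22e7208139283d5708493c6fa16ce6ce6139139b49c89c9a09450c4062062387518030cc8ae5a664664d2e9558618025f99561560cbd0bd0c3fe4696a04a04b52fd0252980812115540922842049423d040a812d2a81d24a412cd34a94ae8708693ed9c759a49f134a8182870da09243494474f66ba394f2ab05ae8b5c8aac552349e1c46ada2fab071096d896e39c56824863b410e1a1a09a086a48a7ae6824994b01b01a5048311817a738c1215db69ff2ac2ccc9155c85ecf842781cc60f1217b176cd05ab2cb2cd69d341734eb4e8cd09a74a85e962269d44b137332720cad6aceb56a38757c5ab50928929c4944941840b56e5ab51c1092a8e205b09e04b92b92251c51c50b825a387e947163f43f4081c51c61f48699d3354706614610d51c6895b3ea2fb9a2cfec88bed0064824827053ae5b120972da5951f4d5cb68052e596530a559e52b94a4426bf57e0b5fb5f837949784874c96a43a678433c33c0d0350346348874a52b16559780d2219e495cecf235e843921b3a1cae1110e589468728be1439439066f30d8d9e59e466fc674d2e35fc39089089cce9808fbbc6fc260237e32e125c88df96b042c12f025ac37e4109109225e0e5d52f12f0a62742c494bb13825e4a5c12f4858c302,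
  nat_lit 0x6d342131e63991cf308aca31443cc440397505d24f3021187983a6c1325e560e99cf255ed3d9418c53e80c60c641cf1cf2c1f0371c520c82c29030f594807498a40a4012daa2c53973972a971f510f64f64472e72ea19362748c99092064cdf8e326b58119319304bc320155646516c80a1a56a250d1b1f253894351e86a1aa1a21846405130286a4dc033d2a1a6d070731d47329a84b594d5f18ca63dcb65318553299ef2594d2550ca6bf2765354e33299b31594d3cc8ca6ca60909158725b9c41463c4810b8003a212001d28928910c074d818a9caa033096091aa8211a18257b54846848126754e48d42a72875953981faa9c536654e68b1a523553877504c9212554e4523b72086956ad199014227cb420467709f0f6894a90816a54dd4a3f8676510bb7091ba911cececa5454311aa5ab28feacde959963facec352a5224ab32912d2d148981ec204810a5222ab487a154894886776186b4ed1cd6a3321c202dd0e1c468c44332d1a63a1d21d1d889595cacc34c86225260aa2b4709888ac14870c44a2b02b0729891334898b2444eed46e6d96ae1b1db6c8dab987d2db2942b3a14a1606ca198937137149ba802a3324011a1a35421004dc4a94280223712cd596e13b98b70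b71c51644ca3371f3101b9a10c7d47d46d3a3c443a169d30f11c2a88994c5844c1ae7226226398106ca91e47cd4b383e615531f3211d247147ccc39ca38b6275455530ab82ac2554c425cb46566d5a369e5ad1af92568cc350b46c0475a36892ad1aca9168d68c1bbdbbc35954353a652ca88e54e54187844c1638638061ea649433d0d56170992d1790ac30f99ca907cc7cdc86a86ae1e554150f28c0a47953e103ca18e71e510328f283d907941a463cad3c21e503508f28f282aad0d4612f556d43596d5b20a1aa94c10d58992da654353e0685ea011cdc9478e804a3c66d9627128f0748555989cc6f85ae26274cb52230501517cca58d52836e6db4c622f1af1b8ab50d988c0924c5e35e3636da45a978d9742b1255c518a18a1ab2b2e88629974abc6b78365d61242de2de255d19698daac5cc62862e697ab6ab58b9b5529c2daa435c5b62b6a9ab156d9829c2929a0a5631ed22a72b1ad8298296be230a560a6d25a3da76a98cdb498cccdc8d6166333369290198298288c66c2c363363310dd35708ab85f04c6655c317c6a6225db5319ad0ded88f8b18b47c3d323530be151f11f0a7a66f2166953c289da9e35baa4f9aa78c2c460a1833b27b279d4f93010aa95b225546120aaa2aa02b698ecc808300a4c0,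
  nat_lit 0x587133334005999998166aaa864ce5814aaa2f52d65d65ca6a2b8ae3e24e071fc19ead3813bd8b8ab8ad6144cf2b0a1a6b455c55d6c28c28d3e2614299f13294eb4c1c6c284ca63ac6141132b66049949941672586a4a22c34b36161a12a82c505862caa2c52ec7162b6214b14590858a790b1e163b5917b1db16f8b5545ac3c2e63b4bc51c783c9ce40e404606c4e33902d659661c82cb58b148b6499c32d62d6111098384884b35c60e49ec3072d45983b3e28c1c731260e60c83070643983a8298c1db7ca60e4420b3730706c9b1f09a643fcab04b0494cd5822ac0ac109325608ed3299e75823e559f216b38ef96094d5c5ac33e56ae416b266a5ab8e1080ef30c208308304c390e026210fc13123ee098a0d30a372370262e62c41a670810d30d304c615a0cbc4c35256851a804f28d193d146a56b0acd251a144628d28d3235b51b584db65cc26c2635834a40995b1c0da104182b2ed08859a2fa39d4199050610602d08d0815b01b75342342a5a11b390d08d080d4d5c32b1cb1c95a111c0e146146909a0a33a38a39b028d2ad88e88ea861b2ca22e5165197451d0c594944e27e6d543143749972cb084daa996749e4751ae596128a8081d07deb3cd6df59e2b56a200d679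679269a7de344609c71f786334fbcea567de11263ef68619f79f782ed98bcad0cd0cb2396861ddb35221a18b6d2db49de66da2f0736d36d38a9d624661ed7485d25d209fc20610951748652072e35d230f2aabaab94e6555d2bbaaae30e95573acba091d55d26446ac932112d49a3a4cacb856a165ce824b2ee3f733022cba8ba545da558a2ea2ec2502c26ae896139a0495c8584790e4022c223312808d614b08c870b0a2446686222316105118f2449966ba74465b14310a231c90d6c422283d055e75e752f42f38d6c4185c32ea98c1970e558cb98b1865d098432e32e0a6a1983af396288170b0c20b80b80b385ea530a30a1db3179d2266d6cd6cc43c436629c253d1b312a70d98b6d06cc527a30a210f1b30a4da85856cc42c69c3221110b1ba1670c858e2275dd4b5d1b5b49b889d8c7e710c38607769c4187b8e20cc14710c8ad53014f52d99a12ceecaf5257a57a33ad05b415ead99d60c98c257a57a52bd2bd0ad9a998d9152e9aa66710b6e853362c403ab8de4de9a6f2be6c3792af59bc9bc82681908878ebe6c9a00696998197b8cc0cc18c84da666e46e461968ca25841840c960694c6e44352b72372299483990a20a9ea0e63b9307cb23b0ee5971642e798d65c65c6b23b699d431430e84c84c2a6a,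
  nat_lit 0x4a863700151c66c709a950dccc4a84a809f8a541d70879ce9508dca4a80b072540b1992a10618c62950416a2606962962ad8cc5ad658a2d6c63316b1a898b5b45a8091a2d62d692dc63138b5b18b9849b4c8c6286ce6316e853189a7ad8c5ad86c626ee66312396acab60894c0d7048b88b8217d3531360acaad654acc6d82b2a55a16c12acaacaa508916d48509c2b6355813b28b28a5a989058ca2ca2c5763246342aed1546176968e0d08b5da6e20aed2ed39769768639e25495da59748952bb251f9a8908ce8ce81f43fe1a3380f20439340421c3b2110e10e047a47a1c078d094ba21bce0de3581b732cca5735461ccbedc4851820e2b5635611b893cd68d4b86b43b12142e19e625345369c17a7c0e4da4da233f1cc21428f30e206376839826942191349d59d1e544d2922e5a74b411252a9212d0268c166166e4b40f66a0ba5a2c3d92d143fa4caa4b426548fead3a920969d27544cad48e6e942972193499569d64ca75aa6e94a26b48251142c0a6d69448d452fd41a1146851051aa4f8e8d43da346a46a1aa72a69d495895ad18d1856e66e65b7029d94d91a31a3dc6c8b68c36569b21abb1090d5ca0e2dc4460f6e66b07b07b4d5db6d4c56c56833262b3a531a1918ac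5a04c56a68d62b53b1b15b1594fa9734ac56d4696ad49d49ea8951d274514493a93a213849d53589e29cf1020ce78aa7643433431055041842a82a8130cbdab1981986840255b99b057883e43e4a1f21f23a0a0f9204d87c8485e06e21f25d15158b2e21ad9a05085e254b5db42f589529db4f654ed6d3a72896b44ed41ca3272d4ed12085d45d472d44cb4370266b1339009c99a99ae3c85b15265ac0ad32d32dcd12c6ad63563532a6b1a9516d6d86c6a9f0b17967f28d51a8085f9acc67c88d6a35011b21a811020d40d410d666a0607034f31a833fb55b10a861681a8e522522721515ba8e9ce9d4ad27dea3ef6a94b3f9bb119fd4546cfea94267f67f121ca2e35aa428088b8992c0b83c92b3faae0d329328c696772e4e74e77268b54a932932969ce866b4ca4336273b4c24e114c16708708b29e4f46a19a19b4e113d1c7087083383631336ba261ce111a42144cfca4ed2fe0a34b6b14e18a3c2898a78643205c60942b4b840cadd2ad220c247530f3a3723a94a41749c24a24ae55701d602e092b15051d5a8e887c14740a36a3aae5991bd745824a8ea412512522e58afa426172dc244594d12243260912e52c48848811f55b2864d5ca3a932ac858ed564480e78075595594b6eb5320b3db742d4c3de3666]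
noncomputable def A_1 : List (ℕ) := [nat_lit 0x51061711b5a8b88b894a18c48350c50c06fc3123559c595ac48cb83624624295731209685890c31461a262460a43332e7a5ba573d8b9e954d5cf2bd72e7ae78c99573ca904b9ea3ad5cf33403058973d7d9cbecbecc4dc249128413138900be940c4c3ad6a46a45367358213ad87da7a485ea3243243af3192204ccc382648648106856068e30eb9c5380e94332332762e0b410cca11b0a041a100d00d0932843e521f8e010c596d56c30a723558546429c99c8db7525dadbcdbcc3926de29ea1408c7416356b1a7dce58d20509d38ada008cda5033e556e36926061b49b4a81cd0a90314ae6c45b45b3a4f8c91d16cb8da33a4f074a14d6333e05d3468018885eac78855002868c50c1b16d9945c306aca6183183201416e8460c28488ca8cae1b720e5b51982b4c14c158c00db2c3053926af31f130d394e521c069c55396101322b4c1c76472daada42ed1cb57952bd18438c393a9c7aacde84575450b062b1846983c060d43d8734510a49d293228990991808e4c8525b4df293225c349906adc4c84c830f926459180fc34d812ddc2cc26493df26e6a0a8c7850153a46844844209430c498636809089b31a898a40751f0d43a9015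d2cae8ae8aa2e54a73884f11152894113c44b1441041084e34e31900ac9a164ce99a20a20ad40e5934ac99f73164c4158032208c10510422c888239654f1188ca8ca94d50bc3a6aa6a9d3508e5c2089a895465e8726a2029935113889a89a84408505626a282b580cf9daa0a932b5893c472c58702c380c4449aab12d4d54d51aab9f7ad44538145d05d0a6a067912f719815045045a6fca2cd51751661141bf314598d82c36c3682c261b6255aac34bc418565e25e254ff59e72f3b0a28f958018db2bcee6df6df1a1f3269ca9db64454eaa812a72a7056c96509b7db11659a5b8b6c42be2b449d0381f0e81657c794b3a008451e52c620f28e94e79485263ca60429e514210f28ba067948c223ca66c09e51e50243416ce57c72012be2bd415f11a10af968ca57c786a2be2be52a485c2131816dc586586b3c12c362ad16195ad1a98a58658a84bb176232015a099019001b8e732355952d4b18978145ad3696d0e598d687687698a984b0c28b38c6ce6cee30936721478a490d9c1cc26ce6ce846a408418029e39451ba9aa28a26c5140d05a8a23521450538ca28a7c55141551a8a108094514ac2a28a28093e4094047169a1025a896dbad32c41d69958ef36eb9a650246d32d3235083776a042c43902101d8810810444e4086046a9e0902108c28108100a9d,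
  nat_lit 0x5a03acfad03592d681c9a0b4043c31d622d00ed9971cf6d63b6c0a91db3e730ed8dab876c76dca863b610cd1db133a8edad4f476c6b5e3b681a803340ed8cc28ed5a91676a76ad19808069dab1d94ed4ed4a80876a83d33b552f5aa408ed5765673e6bec39f39f683e1cfb8e809c9273e15a839f39f41391cf848e0e7c44d473e62d939f28bd9cf8d304d90673ebb253941bd12eca75297657654544bb2849d5d938952ec9167c1c8c6beb6ee35f54a22ecaecb5268d7cc1fc642935f4af19af9af88564d7d2ab46be360535f419127da0d7c5198bea28c83cf57008a3301a05196d1a28c388e1461461aa20a3246b8519638828ca1c414608108a3146c86d4a28cbd832a75ec42e2964997b186dcbd8bd8b1365ec30e023a257b16ad6bd8ce835ec2ef2a66977b5300bbd8a06812c2ef15969db9dba87f9065876e1e6b3b70ed29db9db94e94bbd05e05de957f60b4977830a0bbd85065debd823c02ef09e01e0037fd9d0ab8a62cd67467458d0b3a24c18b212ce89b0b6742ef12de33a056f16f01c0060e42ef5e0433a1538d9d0b24ece8ce826a66a60700b6e83808edc2c5cc5c0e033b7428697884edc8c4266666615f233320351b6acccc9b0c6661e0433336f7199999b89a8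cccc67266670e73335864199a81d056146664dcb67167168ce33890e794b4ace2ce293766711a2b956219c589d0a1619e350b2973a85a85857ccb80aa16a16b4da50b6343a8594bf942c62ca6c6d50b0d14868068b4a4146181a2a2e70d1489586886e34344344a7d21a243ec0d1500a06888d70344c79c24020d11f043500f8198447c06a088d831f069f30f801b287c03f523e0b84e1f026a71b78f82cce8ce964d4a7c326a26a4214135081249a8e5f84d4315626a321193524dc486124d43f6a3d661d70fd8fdb108c7edcd4807061fb12818fd8fe147ec69023f63f614091fb49910fd8d3c47ed05702c481fb4ee418c8672470433947d219c50b2014286714a38338338632419ce50a0ce5a03037a03390ad619c9b830ce1bc386703334c658ed4632632a35731922c10670879c79c1bf29120dfa4a706fda86837f06101bfa63213ec3ec06ff13f04c6584c2d4495c96135c36257257310ed2b9c8788e2e4ae4ae21bba57153512b942ae95c64050b31257366112b916041ac8b0e5e84d4722c1a6ad161a9c68b08b065fa458536cb0fa9160ced25043c642824310941249a0a08e45c504504c2f1282429d941397e0a08809a504649b2e8314131f1d890b88adbac20b2e22c9197136f88b88b884428bc272e2,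
  nat_lit 0x2c1097516089ab4b052106ad282c13c64960960b986cb05abd858255bd2c2596095fb1a04a94657ed3062bf6ca095f95fa13d8afdacec57ee57b2bf3a5115f857b8afcccc458092bf54211302a104741ab52a846b235420e322a12a1351c15092d46a84747759e62a132da98f16156cb6980d65b65b6977b2d95a910f86cb6cb6254865b1b6fb2da1ab8b590cb6c98b318318212898c1901cc54c6304764318318418418c2d4f8c61c63263010c63184a5423724c60b9964bed1e72e6060297317328bc4b9867665ccd54d54c697334ba0a21a5c43aed2ec6972ba734b9808da5cb116562d2e62b12b10703961b8b10b10660643212c42c40b519623816cb1080c858862c605c316216f11974b78c9b45baa2de622116f16504b79300e5bc5bc75542de586196f313b4b786b785bcd2cf169696f092243184098248248c0bc1247220a09b8490490859424873c21241ae5092140744910b9e248a4f6124309282908490b190daac5082c64e969631630cc30b1967f458ca60205c29632d5205394288b54b54510d5aa708d2d52856d6a8cb56b5491605aa38ebad53043c5458b54c0c34816b01240a40893b04e58902ae0b4810a77240a40b9209204e79c9c694812dc1a87a87a90dd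43cac9aa1ed0cf5106a87b152943cb808a1e528750f50f3a9528799568ac84a1e43250a40a4204280804290864e148148742c0a451b28522cf64290a46e14831c51c3685226c912d136426709b2263c4d9393c9759d36536525b09b2a24a6926a6c98f99364364a9b217ac4d95c462e69f2b5710c64ab88b88a5c55c42332a6cb031171122421880e0512107032e20d5516dceb88c7c16656654234b3291551994e3283a8a6654de4b32b32b9609994a4e4ccab5603635b32b4928869a492d04d2472503013b4925091a49a48489cd2451e969230e83492da288cd6d240bc805f009382f82f8cb6c17da5c40bea2dd05f091002f907d017ca5b84ee505f47b3276324b93b13b108229d8e17c4ec3a992761830d3b06af4a1694ec4636aac231ad52118d8b788c6528f6162a31ae7a0f08f0928b842653c21f361e11e1b4f08f09a1047aee31f65d5232333211918cdc8c88c831854645b6d23238e29190cb6aac0646451141eb9eba06dcf5d2c368c8860a46450f89ebb4214f5cc7767ae50b43d7190c86a0cf5cbc5a8c65fa34644394a3186698f08cd148c68c673633c2527c1e130c7d19041428c610a10a107022318ca1cf086716784436c46340749e204f09680a716b40c45243062d02c0a96816814aa8b408108,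
  nat_lit 0x2c441e6a5f20b112f8c61697c23914be591925f394fd2f82c7297c94235ed4a5f172a8bb93fd65ca5cc52e56244b2f1e08d979978ac84cbcd28b2dc6b2f0c5319799348cbc58a765e65e3a5d97294180b950c3e95422e507e71d383f30e9831580fc0be207e2c6083f09c381f8ad4c0fc748407e07e207b03f1846c1f8e0180fca3a510a503f3218563d2d52b1e884a58f58f39deac7b044d63ca43eb1e33881026ac79d5b0adceaca1eca72d3ab3ab11af9d59c410eac697e75612483ab32b71d624eada54ea3a49c451d51d230628e9434d475ca16a3aa6e051d30a6a8ea5a75474e3a4a3ac402351628eb5a8ced59a5cd6ad6ac5d83e4335ab2625ad52c02d6ad6a138e6b5735735aac889ad50d4c59e86b550a590f90fb87f4459243ed66221f0ec410f90fa146c87d6a2a43e91de21f69f490f8d04d080643edcc36b722512211129d398924e44ad6e76c16b72b71198b5add5f52d6edc0e6b76dc2b5bb5bad8948952afa44a55b30be59128ea308953cc644aca642252256a35112840f878946aa6b046b73555a6b31288d552b166aa6aa542b6b70a859aaa8b50d544d106aa86c16b713021aab47e0d55c6c06aa435607121aab4618ed8ed9a5f4810a3b627821db1db1c744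ed88cf876c821a3b6528a1db19b98204476c95a82e661b0a56b47a12b43f5a95a95a35f14ad6abf256a57012b5449e95ac0b24ad0a762569080d2b4a3f438454ad646097332311245918cd8a83866462be7323323385e991862fe7868646615533c30aa54209588c2ad7c76155f10b0ab0a85425855857ec2ae61561520b030a9856057ccc2ad5434826aa6b74a9cb1aa9051ad54d5452086aa5103b5518fed7644d5452e16aa45c71689688d178b4581005a2e6a92d1236403618b4417845a2b0e86aa2d142c396228b44ef4480a70893bd4a511de9de99320ef567d077a467b2da1040840a0ee4204876e102a00c08050409de38ef4205c77877a55670812808040981bc2056684776b0810a0484f807a827d160213e8b2809f09f41b804fb916c27c272213ec45a09f216184f98c0c814c13eb80d2f72f7527717bacb38bdd0c78aa082f72f70b2017b88318bddac9e5ee60622f719ae36a8cbdd7402d80ba025ba5da3ae824d357410446ba0ba0561b5d052d5ae835765740c2c0ba075dd5d0615896231740578495295273421b75a54b09b12a51c1a952952d5424a9323731c8d2a4be908ec8ec9365476505223b0d8e5379a8ecc70e4760e3323b1ee951d8d0588ec8ecc5434a91058a3b20ea0af828ec63432c1,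
  nat_lit 0x58e5b54ac730ca5638a3d6ab8558e590718f18f2cc78465a63c63c108031e10db18f15a38c786bfcc3e331e2bd5b508f931a85a84a3e4d42655d6a1120d350a1111a84e876d42d4426a171ed3509136ce748d42278b0da0da70ae22ca4368a3441b44dea0da0d9406d06d2005436967261b423670da6a9506d183b8368a17418230da546399183784c8cac88646646a49b3234a221919d4e4c8d85ca9fec3235cc6ac5a2b2d730f11ab98b9851f15cc51d8ae619958db04b98b5415cc3d262e621f91731730e74e74e0e0d5fd42b4ab4838397f42544bfa437914332feafead61d7f5a280bfa72c15fd31aa2fea4ebd4692bfa954c3af3af60851d834ebc3ccc75e86653af07f71d7ac28cebcebc6a0275e212d3af3ae72c59cebdb396b3ab3a558561c1aceacea167967448e8b3ab27259d1988ace854996752340464959d5bf12361e7ad6fc4808b7e9dee5bf5bf72e1adf9129d6fccb3eb7e72ee5bf5ae71d8a96fd779a46476ab5de6b01aef366b54ddb348850d9a52692ee3b66a1215b355a82d9ad3ec6cd3d66b6698289b357790268bbc212c5de71502ef1d3f17796d48bbc321b5de316b1e8a5778589c762762e4fb59961d89d8919a0ec4e31676236073b12add1d899514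63c47627c244bf3e239f0843a0f8505047c2d3253e13e150629f0ac44cf84a7967c233ab3e169d21d734f842112796796d56f3cb2b4ca348cf2cf2c4d24796353c3cb422c25720f2ce690b6073474fa39a49689cd30f5ce69c97a98ce39a2c449cd22708e68c006734562639a5b12ac52c53162d628a87cc30d58a4d352c52c51ca896288b3cb14344039a334bb4b838299ac1c16b1411bf1bf07062c5214193442b144ccc44920861332ea289989982d2a4cca51b266123813320120999c9764cc409f2c3213326da936c7cd09b617c14db4db0b7126d954453a4a9b656ec4db39d1a6da7eb536cdd10b4a0ea437450011ba0a18cdd0dd0c0ee6e8538537472b626db5128dd1486a8940e0843507049ba359fcdd12a606e8769f37463239dcb0dd15bd842ecb8c56f5592ab7ab7a99bd5bc81eeade564056f189dab788bd55bce798206756f09c522522504411129489689425e844a42652251d0d512882bc3e4444a69f3ad2a7ea95b93f4840eb4a23505a56903a7e8d57508ce9faadca5a55a562d29f1096952d0cb4ab4a637a4fd3b049d2313f53f58ad29fa50c944a2a32a252daa94e5689497cc6454fa325f25f102dc211679a136d3cd3cd6a242290cf352f4897c43e53cd3cd0a721e68c278f344ca879ab3cc,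
  nat_lit 0x483508ca41b850120ca15090661144835afeac3ad20cff58d467fab20e68571fe9fe90fccff4ebd07fa55423fd40a01fea8d38ff441187fa630944811feb71b9ab4c916dc6dc6b6855e65371a0091b8db8c8868dc675956e32a9db71a92a5b8cc6c884826e35fb08a01be394494496cf8a24e5285123256068194497eda43cbf696561ed62fd9681d7ec9296bf671cd5fb2e31afdafd94e854494a24bf6633a5121971a89046a54490b50a3415124726239a5c191c93a088e48e445614725851a39191991c8eb488e4a2c22a052392e9286686690cdc334a3e819a30151f48866976d03340b4419a06118cd0cd09750669c45c334d41019a28cca242c668d1100da688e31c0be71a219fa4d10d0d06887bab34434458431a224f64d1043e068861343442a8cb378cd1113d8b6289ed1530eb6a27b353113d13ce7d489e331b44f2a20227a07c513c48a489e66602a01227a59098b52c9040a9d6d4b269a42592592c2cd2c9483896413db4b222bd25914d291cca96472835c15c12b5fae088e4c480eb82b8085c119212e09b0157048714b82b82a1ee5c15a6e2e08cd99705c8d444ae5c168d63469d9b5a35a354d42b94268d31e5346a9d21a35a350c26d1a258e68d695c34694729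6406d1ad8076c366e0b6192491b0db0c8bf2d8656ea6c371f5361a8aa5b0da87ed8676686c36234b1031b0d030cc2ec2e65d22864b0ba922985c5618c2ec2e725661708f89248585d4e92a72c26853a3a56a9d29d0d82d4e941c0a74150853a2b5eab1154e8c506d7aa9c73141ec098a2b1a0c501bc46281c853140b7518a18a292fcc51640a628c60b314283331034c51980e762cc0818b66071e930fb998162d4cc0932c6605895b302fe89981629aac4cc0644066011d4ab131355af4aac4ac4856216262b1207a55895892dc2ac422a05626b0c2730d589339462e62cc317066598b97798c5cc5cc99a62ed0c431722e2b6d10c5d785688a88ad6b3445318b2229465ced4688a88a25a744571c7a228426d115499c88ab69c4451b5a9cca11151a52bacd1ed5d65f972eb321a1759a702dc8bacb12669c5324b4e0963d758adb2d388651581434e1e029a717858d38a3c55d663b734e34e38785a70caa8bacc2625d608eeaeb2101cee42bac942e10b37921bc14788de0de0a8366f0e4a1378521283ab0de09956216bfa337810b2a7ead28c42c324a216216138f10b103c885a4c9842d6b4e216810c01a4085b5705639970eb1cb1c76b658e69a1208acbd07d4c5e85e8e6c42f459cb2f1a0bd0bd040c4b1c9433,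
  nat_lit 0x24151fa9faa924cfd56bf064a95ba3f529541fa8c414225a7ea646533b6ca3226a26a1139504289a4aa244d33b5226a26a8a09134c88889ac25f44d2143a268d18d135cc14292e44d3ba6a391dd30794ee927aec3693ba32861dd0409cee8ee8e77277454f63ba13031dd1950584c4774410714b3f608a58a59043852ca214296e09f14b51db8a5986e452d23fc29674e314b60108a53052d898885ec4c65e76ae5b130f419899899c5aec4c14dc62652a53130859989927b6c4c317062640f8350218984c9425e25e801e12f3887097b5788418825e7be912f58118978979879940921dc8329502579428127f0d408d888a042a0750250210662813924d409a802a04534b50232652a6ad4082e5899a172d4cf2d8685ca67302e532ca172172a17e0b9205d05c953302e428b617230120b910d405c9cb55054e1720ec232c32c1034b032ccb1618c658850432c6ca7196196395cccb08d9a658658b32c3abb1962c51d13d4658a80a57b54049cf323215014e84a807867540540115baa034eed501c580a8064675405a4d0712d5014acecc84ea16646177332206a199064c8cc8b1026646272b321c0a9991984ed3adcc76614601330aed059859848d18cc8a2796612a28b30b985d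985431acc8537c661321cb30a58a5985872e458c66167a296b164319e87bc8cf4bbc567a5b2533d33d296f99e985aacf4466667a42bb0d3059e8a494418524d28d1096149148aca490a5a52472232921e3294914914598a482694524236e2923ac69479ca4968844ba4ba230c338592e9501897498484ba4b8e25d25d702292e909b8974c4544ba71d025d58d692ea8da41cd44ba3ba76503440b2834f159413a88ca0ca04236650294b32838bf1941a8f2ca0942865039323283060d6d98ca05e660b83875979979b8998bcd60ee0c422f35bc4179b091cbccbcc48045e6d4bb2f31b5a3620cbcd2c9268e68eb417347420d1a3b0774d1ce18468ed3461ab31a39a3898d4d1d28380dad34734719a38f808d1cd1c1c203e02e102a819a815414fad6656550a8482a811b195415408ea0aa16762550e0872a8082b15424f4915d2550dcec45834d6373ae235b9db9d478ac8c26e76864373b73a1a91b9da7cadce66ea6e72b61b738da717586dce992e1a31a361f40d1910300acc34634851a31a309418d188a0868d2c8c346b3bd1a3192a0d1a19d911d03468b886b967f3b5cb5c84e09ae44c0244e36b96b971cf35cb54b868d4a5ca5c0e0f6b92a2135c99130f2d6d72906450e4830ad02419d130e10e906370a483,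
  nat_lit 0x3e3404d18e91af4f8c48d47c6b4d43e36a4b9f1b9b78c742a8263a331431d12e518f1cc755c50ae2c76157118932b8ab8b1b755c482ec732e5716a262b8b20115c465c4ae2cb855710fb52b8a4c149e99ec4930c1814982423a4c24c1d1795e08b5867655780f90abc2bc04a419750af07e895782fa62bc191995e15e1cc0c930a2e9498617d24c182b95e1a5c8ae2a2e42e40709a4c10a492606722930e30a55f724c2519563528da6126ced4a35664a51a912928cc39894694670b04a3224da518ca0d28d094894414a34b63b0825b30964755a96caa274b63454a5b25b242d12d82cce96c26a44b66a03a5b1440d2d86b2e66034b66d8723936c20ef560c4db0d9016d82a5236c36c10afdb6148eadb0552a6d83218b6c254ddb60eb1eaaec6d80af3971857a0a61285415e93c20af0b01857a4f982bc2bcc33615e30110af7055193382bdac8cc1c6ea26b26b2235931c9dac9ac8e614d64a43d6b2590f359317d1ac8aaaca6ad6b262308b2a898588c7e0ec46b2a36232f9127e97ca1334be4e1a6c4635a3689217ca37b188cbe925f20c4a2f9367617c9ba08be4be4c9dcce213f44eb41fa044b8fd0fd064b27e8c3672f92b009fa21ac0fd02dd27e8e3f53f422d11fa19391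a80c7e81e4e5650f2587880bac3c83c904dc1e415630f212b1079355983c8c65a1e4506b0f21957a978c3c999d4978cce938f6673a6721f1d99c88c4ccecce567e66650ca8caa0e64654e88a0f2419502a10ca9c834654e14632a5bc51951952a6d333999a599c6d7eccee3946dc7333aea957517546c86306e5d56516aeaa3eb1754498abaa7f0a5d55d5537520688a395cca51c51cc5a328e29019470cb38a39a09e51ed28e4e1494736aa8a39a79851cd92728e28e3a14aeab0fed754ec4051c41391390708aea90ff0ff01c24baa16825d5427033c05754e6c4b04c7c839b30359cd85b98e6d78c873623ae39b39b72de1cd91318e6cc0f8736b15c39b5218299a8e6d095ca42a42c0d44e00a908d3114854848c2ea4261935214129a90ad07148548d0d44a521468709823d311a0285c8d08d0450a46839be2340d6a91a0a3248d085e24685351234187b147c48d03d6718965b08c48c491098624acb8312e18a18953080c4b40a0625866ea4ec1892df50b296fa4b152d105be45242df552396fad888b7cb7c4d345bee50d2df6b2016f95b10b7cc58a5c0b2df3255275992881a16cd064a64a858332509cb992914617e1664a17c63254272192992b874cfd488b4d7a73f540c09fa92d20fd50e847ea7d653f5,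
  nat_lit 0x6a65900052a11e51e41c2a4003269269070b3201c8008004cca400419f2002964100280e0800c3302d222005e822aaa9cb9555555c756aaab107555311eb43255555550472aaac53a55508748b2855548a46c60c60130f6301358318246558c105c88de86306664b1816f918c18c1cb64c60d6b463029783182cb4c7bd6c6094294a05217250212b528128169d6ce284a04a04156250242bd28025ba940626a4a02a11a500c9ec3846940252e01d3944094a769c4a466c225225213f3129185e894a454c4a546b6252c49e129220009494928cc4a2529f285a64f921d82abad3e5404c9f29f2e4fa4f93a25a7cadb613e468309f212c64f93197a7ca52f57fd29f2adc83403404b6832524d0031c6680c8a73406e611a01a0081b4d01c8e668051e4340320c1a02d4fd7fd6680b4cd27c6d06ad333fb1698de4ab4cb4ca3cd5a62085ad3053516986b4ab4c239944b3ad314011284420450072812801f339401401d36ca014d72500b44c28061aa14014de4a006d24502d28027c29b893e35b409f18d3ed9ac27c4a1293e13e287cc9f089b24f816ac27c4ace13e0d2d09f0465c098727c6867288a88b8efcefca4a4b2aa3bf3bf61df9df84de0efce20c77ea4223bf10411dfa1664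efdcd0c77e43ee08921df9be896119f42b0847a458458421922c215a9d611c6e6b08a44e5844a60ac21d55961181fe3d0c584400633385e8d0012f0c800800808c40011efa0039761001632a80015254da4a00236a51a575928da3f0846d6aa2236a410d1b588ce8da146246d46d123b236b917d1b4c8fa8dab24023b5a36883b4418065a20e47291075905083a9d3041c41ceb3c20e3582107291d883a167441c4b383ea21071964b341f5a4659934432caf0819647b18cb32e9c658658405432ce23d1966ac18cb14c6441c86326320e1419632e20cb2d61596d632cd4e76e533e4372a5e35b95b946cd2dca96116e55a12372a8e41b9586aedca14bd6e52b2db5215b95aace47a47a1256324211ea28248f4c11447a47ae583041591eb6304eb9b1844a0d5636c66a52b631899db19b192be8d8ca5356c65b5bb6314f55b186b9ad8cd53b3d96b6310935591591a41eac8c66456421c011415590df4cac83b895645640aac2b20970d59165c6ac83211564407913721590355248679090d5524406a8e2103546c461aaa4670d50a0106a86a88054355a3861aa549d0d531c806aad29549561aa7c6c50535531f1a1708f8d10907c61f233e33e3193218eb1850c75a41ca8cd31d157618ea0414c7421d47c663aa087,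
  nat_lit 0x67c6b0c8ad31865484ac32c32a1ad6192330b0c848f58652694c32368c61911eab0c9cb417ecec32cb244ca6e5132c953a9964a918cb2a4c76596593ae532c953119646ab830ed6591005ac5ac4a84016296200200615e10009f088028fd8400462e200701910069a7080396304008b0e2b841000bc1963a1f08b1cb1c4bbc564b2c742a3163a6790b1cc1dc58e58ee2cd2c7304a963a0b20b1d653058ea42618a5163a63a4f35699298e59e14c74c64263a638d09931d017098ec32a4c77211a639062531ccaca30664c748a11d79bc21228dd9698891492f448a59bb24504f81228acbcc84548a0b11a45055112282e06988988816b4c411f8a4534da1311a430988e1744c43b18a62057a13112c48cbc94c4655592ca89b9954791acaa9c6a6556555240b2ab12d9954e91ccaa15ea65541378c3059554ada320320c5cb3d808c80e038640c844320320519013020c80c8116ac640e31e320b4821905311a1728640a91aa1c24452a43c519522e418a90a902b54548e36a2a4515295209474a9120aa54831142a442538c120a9061d24ec66c91871eb20c392a2061ce04e30e30e255818729b48c42c61c6098632344d1824a740c1326a4608609283c304127d18212d00c134888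608cc8630454c218318c134298d84d85676c6c2d2f936173119b0998f4d8522e0a38936136041b095f10d848d066c20e473613c82970970a8dc8b858db45c2541e2e1682f97134b84ea145c28c8c2e12e13a0b17090b30b846a646c22417417070c96c83868b84270a70a0e1b2e140618aa04b8482d2b44212920b3980905b4b9c82ca210416522e20b20b19919058520c82dcb58416c03a20b2159105995e472cc416772a6bc6465b5e35e148b1af0e748d78664b6bc425ab5e35639af1c684d78434a41a235e14514d9c171c51467ac28a2ce294517fa8a28a2940c6514c4e028a20279451d9f0a2863b8d782429429070b945042542541c3051485800d8094519e14b457b98678678960259c11a91a910b94d48e5a46a4857034651a929e30d492ed66a40d8533c6c871a91a938ceccf1458c6a46311352503819e1d968d484a6667832e533c09c319e20fe85d02678412256f20942771511082465444124126465209202b10495128825c1c841293092096aa41049cc64825807237cc2096320975b59858c8bf96c64da466326322319372398c98c9cc2cc6466336325955b1928b705ad4c648f4b0a50a61852852b4564295c76e14ab4680a531c00eea4294a51414a02040a54770852900390a0801a128400b30b,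
  nat_lit 0x27807132e48389d4701c50aee10f9125071487c838b41401c54af00e2c290071596bb95dcc90caee9e0557757722c1a729c90539548929cac3f85771b09a729145139462aaaee24724e50a39239038b939509ba77014e553171dc15834ee1979877062053b841151dc1dc28ac8ee18314770740a3b819db9dc210306842770b36a10659b4acd3433166c8e56b36b3655fa59b322c2cd8596566c46d4b36d30c59b727aacd91b6cab08b36938523149b624e24e34f29271c7a693862ff49c4977172a52702b96938b6e849c2eb224e31a0d271710e938d9ed3286cf733c367953a1b3d697ad9e62a52734b67ae9a9b3d1d56d9ed9e86cf5f723679dd0db3d2704dc8dc80e1e69c070fac783881b3c2c86c860e214f52b2d1d2b13d4c31a9ea85054f50c5527aa7aa8f853d58c129ea734d4f5236527a8cc35b3c4d86d860e2266e0711abb038913d428ce8ce0e254f5408c96e053d44b4abbebbe41326790aef9671d77d77ced2cbbea6da5df496daefad43d77ca916bbe35c05df68b4316b577c76983b43b451ac1da695b8703476876884143b4a1da55a40ed2e39c768ae483b429611da1da070e8ed044c38746573c3a214be1d3aad2e39f8756ec2b88b76468d62362dda37ad6ec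adccb76912e5bb5bb71caadd8d6416ed023a38285bb44d384e90c88275130213a5d4409d09d222404e9403c275c25213ad01d09d304f04ea4cb0274e89c13ac02315e604eb2e04b2cc60e596596730805c6965965b4a28b2d2ca2596a6a62cb617516585b4cb2c81a659652d82d529659ef9d9c06790ce0ce093686700b15b3811545248ace0ce0c50f67029f6b380d6c19c1a8166ecd6704f07259278305c13c023a49e274f00c4427831cb13c13c12a309e0d4eb4f031922780d1ec65869e09de119e19e2220a1014678678e7be33ca2f419e4a450cf2d034679854a33c55ca19e19640cfb46784c52bc691481313783898898893504c4a9b829eb13149f6098a1b8c4c522c8262264d131131680f098847a96a548163d8c40b08e5a059711902d02ccdba816a6c540b1057205a02a84c54916816748b48b070e205b4dd902c822e238440b6bb120235da1b114948d7659e26bb6bb326235d90fb5aecacb2d76e5e36bb4a12b5db4ab5aece55ad76c22763f635d8fb30ac09b5c3ec694d1f64cb10fb035147d87d9406e3ec40d71f6299a0fb0c8b07d84c9c3ec71eb18938fb1c4b4df52912712700a38966421c4b4b84e2572d071271281a7389097f1c4b0560e25c6da712419338931c503c18e2586583c66b0e619,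
  nat_lit 0x58e226297a0d314d14e98a80824c54c5117da62b9965314a17098a62f34c558b91b82d315a6d2ac043c969b5880b4db4521a6cc59cd36d3632c969b59e434da0db5a6c25a2d36c1e169b217134d98b6d4c8cd369a485951a06a6935225349b8d09a47dab4d24d25a2e26925b3934829aa9a4d0ba4d230d2a69158a93486996caa34d2261632232230a754fdcc8897cd64437e2b22322299d9910ab84c88921764438bd1601d9104bdcad6216a56b56b5ab52b5b97895accb4eb48656b6831b222722d7c17c1cbe2be0843f5f05aebaf8295e0fd14be064c956b13972f812f997c1380abe0be0465a56b607a3220ce597c06ae6ad6454056b3ad42b5a1448dec2ad6b8c566512162e32c4b9719355ab8c4e455c64fb52e32e329b797198738b8c75c55c622acae30ce657190bd8bbe15c66774b3b9f7219dccf1cceecee32e66775a74b3ba13859dc8766cee62b75bb333b99ea575ca61c554554b2b02aa60fb15539358aa8c6d230e62aa65773002e6b995d1954cae9aa965734e632b91e9995d95ccaaac3c75d74e462ebb00a975caace554cb092aa25972ebaeb9575d75c8b2655470562aa2155b2bb0f8975c624e5543363657391cb2b90dcd95c6d50cae85551870b2b9d114c40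1f5674477a33a23a213601d135a64e89cdba74476173a2584a1d10d9ece882c0c74463b83a24a1614ba4e882b1091e91ea5bb48f6a46251b123d240e91eb8e248f30e5a4786db523d23cac4691e32442391a47a43b91f121d89a69f8c4875d41243a093921d658a90e90e45af4872aa62438c76d21c415290e73e85f53a43a13b9188281a8c4696c462460523123128db918983d68c4751746220e7a310d76918901a27b2146268329609c41da0d9a02d0654a86831b31341a7f29a0da0d43ced0665bd6835915b4190e59a0dccf2872e6836482acfb241cba1870ec9053e164851d1324124a99219214a3ec9065bf64860e4324119319206c5ac90e1a11ef732433911ae99c8cc7eb26267267153391b49d9c99c8e33ece4a3766725a1333914a719c9abf839ed6726355af22f238e086650bc8c5c75e45a34af22f204e9179169c2bc895f25e4117a2f235a79790a264bc832cf64f1af217d0596196106ec556d6584d6432c32c2c899960630ecb0d3696586298b2c04665960aa9056056586b53306b06b59e9835699ec1a63e43514b0698aad834ced0c1a71e360d1a923068a79d835391c9cacbea4e54e55b64272b83011a4c9ca9ca66e16ea3abbabba9a315ddcc4caee73f857761f01c7315dc7094aeec1a2278,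
  nat_lit 0x55712ca172b4ed1675c768d2253841cb6348b48a5af0ed161008e8a3b42892b489dca5a45194ed22b6ed69135f7348b15ad869869a8fcc34e6d66911ac4b0525868c3c6d2290253b4654430d30d218198696c1cc34624961a29bda1f8d8697b12768d2273b42d159da2e6118691950768b5843b457819da30d08574ed022ba2ba0e2f454504f342b5150ff5c8a898264543002a2a2ee311511518bce8a874a945421d022a0d0b8ed0429a29a0e306050718a5c038c883c1c661600e3439c071aa2a058258241c6c8a883426a10a2a144b15e8a25a8408a4d2892f35144b69b0a24a24ec64512358f2891173144a169ca2541ba512638404f1144aba949983e1caeaaecd57548c62ba985295d55d54d58aeac38d5753b0f2ba9116d5d46ac6aea85d763f0aba919147fc7fd20703feb4a01ff2a2b9f9347fd2cdc5f4966a0d40f170ffa59b02cd2c989661e4a4b33b672599c1192cc568a96696642314b338bf0ffa88007fd89d6966316e1ff39b78ff907407fc650296685011ff4157a96047fcf98446886673e652c41f315434f98f99a10e7cc959e3e65b569f328d34f99881e7cc13c33e6233e9f3158bda18a7cc5e4d1970616979326a0bc8a9ce5e491612f22f209b417924e1c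bc964425e4a5292f262a9179158a059ca5e4c58c46e62c6a5e372b58b0d454c58d60c62c62c3989b1611afd8b0a810c5886c662c5306b16085a18b0c63a818262c2f869df17c2471d3b185f05acd2f82f82a0017c1c188be0611a5f043e02f8407517c28b4cbe0c97895022f84c3226226198898d5c4986af414c35e33a61a619cbd130d2cb0986a2aa4c359b4a619485d30c6170986d6c42f46a619f930fccfc9c1e294663f258d29f91910cfc8fc8262e7e4a48f3f212901f92c224fc862ee7e4822930b41f9368b19fdb45a84698ed6d16b95368ad331b45b44eda0da245fc6d12a31368a0a05b454500da223cb60f1368aee15005771a81e254d5dc6382aee2f3b1771771290ebb8a3e75dc3aee2ee0d40d77026d4a0415dc54b61f3aa5b4fdd65daa96b14a54b3d862a5aa59d1f152c6822a9645d054b2aa52a5a0a7552d49a6a9660e535612a59608d07d07cccf2b90b41f2a7320fa303907d07dc92483ea42041f1191a0fac4d507c663483e80a5479420f833a4c80c8980ce642b067067298e03384c6819d463e0ce200a067418e8339cc7819da6460cee2b106720a985b1019d155aa58b9a952c433429636f2d4b14b16724a58959952c6a17a96196154b0ab3aa5835e75b11a96262a55f9439298a3d884c5,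
  nat_lit 0x6d4197cb6a11a25b50acaada8a6976d43193b4409b518e8a2e2316e63a5996b1d2ca318e8c20ac7469ca63a63a51feb1d31b858e8e7a6c74440263a19df31d20ed50982c74806962b4035975201b0b2d579a806cdae40340318b3a0190bc100cace88068404403536da018862500ccb8ac8424035047193a7fb4c9cf5d864ecaa53270685193993a8ca0c9d873464e46c13271959993a0e815b4264ebd2c1334581af4a27197a57a507a8bd226505e96b422f4b8c917a4e844bd236a75e90afdaf4998797a52cc0b1695e912349bdae73448cf15c24617a61232ea2891ae6b048c48d8b8824675cc123200e8918c48848d074eaa011233401a16a1698c09304485a4ce142d2003a16a169d9010b526a685ab42542d6296a16959290b4618e85ad30b0956a16a3c082951e0e65092c74784786a3c23c24e711e169f68f0a5b5478622ba3c04ce91e08cbe8f053250be2a3c240351bd2012c1414ec4800af5a4031cb5201200a21890044b148042f824029869200481a900621e496124031bb9ac88f4ec6eba426371d20b1baab118dd8dc85aec6e5170637535831b9984d8dd2c7ac6e76ab63763461b2318dd174abb476e745d0a40a2ea86a117544448ba29ca45d45d50a6a2e99461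1756a248ba40a045d1a2e22eb945d459c8bacc6547d3a57331a9d3598d0398cc68da56636865331b31a955598d840ecc6761f6632240b3185a7598d05ca32616630bd526b98cb135c60969ae9ae64ef4d72b6d26b84a9535d49b09ae25c24d742ab26bb583535dccf49ae44f232b226ba2994829b39c8a65dad453691622993f1514dad948a68a6a68145360e5a299c27914c85d28a632ba45341d4a1b8514cbd8c5eec5c32f64b4097b27c88bd9000e5ec5ec708c2f6497b17b2cbdcbd8a0c45ec31692f66b4d276b4bd93c88656bb074f23f30a7935fa13c8ec049e4d0e54f24da5279279290013c965f09e452dd4f2698b862353c920c6448448641b67159121bc1889088dc448448e03d224084611228a9c8904526448b26e2241a87112214386e90448cda92e96ca6336b502d9b59b4a5e2cda64ff66d09ddb36a92619b4433ccda831766d6aaf33690664bc88cda20251e601938809cd8440440102029f4210158e5080880a90cc404c25e202c3c310121228808d634405c936644e10142162f4356b9085b8da8427fcc4216a72a10a10a91510848d088425584421084a210a42790846c70842759b1a03a10aca34d3455dab2878aa5946e162ca2ca1cead650621cb28557559440822ca29b9d6504b8eb286266,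
  nat_lit 0x35cadb2db2d6796d9693a03294b65b5c35b2c985cd96d9636ba6cb233936595b45b2d0c2ad9626c76cb323135909b2db1dc4b2d8ec3b63616363aebb9b1d2a4ad8ed8e44806c7528c363a53c1b1c6962d8e22566c73b071b99db1db416d70d7236b86b8118535c38985ae0aa5ad70b6cc6b81913b5c04c61ae0cce2d2896b86b83b5c35c038dda513c6eb30c59e5986aed9ff35660c154b30a84c59859839d02cc0d501660a20cb308327598524a2cc096fd660c37c9fc259818a11461460902cfe96518902628c060214633bb8a30a31c67851842e428c31da1461c13ca31658c518a6d46975146221943e8f2dc886aded4436466221a0b9510c28d4886886a09a443635e2219d74510c883a886343244341d71240510d6498b2458cd5925926a748820d64923ccb24c4655925920a152c928fc1648498eb24359159241c136a21648fc0a7de7e0d6973f06274b3bb0fc0ae9a7e011253f03f052c69f81c828fc08a227e032713f042d620f84fc0ec907668cad3b237b49d904020ec93bd6764764b5c53b20b4c9d909710ec9a36e76465e33b22b2e9d90c5744746764da8c5ee6d46b012f735b50cf18da8da87382]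
noncomputable def A : List (List (ℕ)) := [A_0, A_1]
noncomputable def K_0 : List (ℕ) := [nat_lit 0x363373a0444844744644544344242b293548336e7e54a46326847449724943248443d1678f113b8e439d2088993fd49c1191448ed38f504e3d5f14e1464519e8d62551b4fbdd763b7d5dcc7753ba9102581a51b33fb4981f3b174f446513728355986386454b553d77e6a8b89cccd04ff4af4f24f14e3774e83d8743f6b545d74073f4e5500956ea2df87ff57454f4f5e0c24deca49e7eb4e77c115e61961851a6172982ed11230722462352f52e52d52b52a52942d1725392ef4574f6e0e68d68be1d7e05317bf7be7bd73b23f7664084df4fa37c3494ba95412577752c49b4e27c07daefd4f085136d5765779156aadf14ed29736a1332fb1181091292f91911c210e19811e1b02a911d2a81432412802922b324420f25d1231281062631a61102052042031152021ba20b1ae1ad11c1ac16b1aa14d14f1af13114b11b14a14914814710710814614515511449326749249123112411f48f48e10a2b511a4de4dd4674664da4d94d811110d4d71164d613210510410310210110010b10c000,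
  nat_lit 0xf091df21320cdd426d24a5d7176ec118a2af8d970e18fdd51e36651bb41ec451b786216075d9768d81be1ed9a66631c38eaa681dd16cde9ecc6b22cd6771901b11caa062e62e79612861bf2773651821b612f1d394b1e721d21e56a1e14fe6864fc6283016217397e85151b458657a1301d915d27821126014e27050e18e4bb21615b17e15abb71bd151e5a5edcfb162194ec63ff1c1730e5331942c787e94e7ccf016f1756f6eb73b265a1505a9459c66e744f8eb51521701ce23beb4aa499f18937e37d16335437a2f312e1793c216a33e33128b18821a2ca9362cb5d1db01591c516822a5e17d45201ea6817127db6786be4cc89a92b17a6a11543ca4895027177163091d71561851831eb113e6e14c4b54961b2de447674d7922643ae3ad200bc61db49f4be158c9349926aa8023daad4a44d1ec3550e6b45bb5f27e3038e2e9e22e49a230b7cdfdf273b15389bc3d1bffbfe45c4134cb1a92b21a77f848047fa565661203045515c558f8abe438e3494416e9249dcde4a9af4da8f1aebd,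
  nat_lit 0x2487d23747cb54e2c5e80f04e0bf1e2e3e40e61f06702193ddd66a255a1fa1397f842843165e02e1fccdbe0dc6eb313de73dfea40cf72ee39939a3583e0a4860c4ee2bd62be102c42c65e59d019bec93697f636bebcdfca4be01a4d62de076d4e0638670f1341a066843c82e82d38e29642940341196c31d5b46381ff6647d3ef22fde5e19230fbb8eb63353835b322142f3e46822ff2012ba2ac4122bf7945aa41f1c4e642532c22e4e78db9f311b8eadf0b2cc2cf2ae50f12c2c9dc98d3e9a795a3640fe998972b62422c35ecbed2cecd64092592454732ea238c682ad291dd62be15f4c5e2a2bb1f71e831838c26bd1555ce63bcf2612663a7300babbaaba9ba826e281355bc3d36be217325e12733333233032f12232e27b32d32c2622a320d4b2e901427ba3a838b45e240212c982282e96663f024334227f2175d532b21022918773eba1e15f1c22220a4c83d5e18b0714178c1e566c21b1787b920e26565022d75c75b6a772723935d97ceae320ea769c61caa06da66b27d71f71eea5,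
  nat_lit 0x68840ee58c8d6262828c1cd54c4931e72e8157cf025bff2e58872a23355d3a56e893d56ccddf07aed218e8b42ee3153047b1712275f055eaacaca932deb34564d19e3822151361ef269580e2080fe3038793a2f04e93266e4458d76def180b71e98907e0d9c0742e6f939edbde3e14de8f0fc10f2de32c05e37ac1a37135e1b67aab128e6c02ebdbf57d33bef097eba5de7b638bd773e77e2b92d7cc2c1be761fd0a4a09fc7373519637d165d67973a555ec029c78823e7647b57ca7ee3d35916c479916e58d34452523ce42784808287e2940718617728c96f64816d7c91697d6bf317f703d2d3b95e83ce400eaf608de63393483eb23734a8e82f2923488e17526633ea8533471a6a543662c3d477c031a1126e5f8e54aee527ad9575f3e9c3aa54d405ea958e8aa3e980019f9213fc507ddaa6033758546f5a6a47e695eea0a252478f29254e71ac8e3c3463d632880ee3ee8c433a085d6dd3e03e46d993c8e4a70b51e51f3e178250c31285263aafc771887a4a334b1c8075d263f3105d3,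
  nat_lit 0x1a246de231a45678a1e9d8983fa13fed96051f4f1d751ec7ab92b7da9df03c33944bc8fd29a138ee73785a75ae2848ca2a01cbd18d14e26918df4835f20bf18f359fa11ef9ae63dd19d606a521617508b9393290ebb60befbebaf03357b4325780de218929cd890611236728a07e85402524f08e504ac4f3340dcae137d0880710e087319bd3e73291e9e86b59befe9f72f4cf77eecfdbb9f6166e8a1fdab236f90ac7722b22c6b6eef8e93cf65c94eeb92351deeeec269dc214e599fedfaf249afd925829de3b469f1f9f25af5e0962e7feb30e545893666073b7e95c75b6bcfcb48e75bc89418f9decdeeeed69e5efc5f4cdf228bbc13ce0757dcb60fa0bacef17f1f74a24c24ee51b46e70ae3c07e2469b2d42a290de47b6af30ad2651da76e97e73508c2bf6657508a1d9b89addb23626308118fc38d2194b0f2679d3f93e8d7c973462c6760dcea96b853f1971befe2999ff6243ac4b86a364044c2ec1992bc24b30862c44f622234bb98ddec57d79a070553f452558b40f2a532c81e96,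
  nat_lit 0x2f76c9e3b8a9e555ad34b736288bd91daadf3ec2e1375ef735372b888ddb5d9aeef284a3db580117dee99c86895f96edecee34246f009409a9de5968ef1e45e7ba624c38b2967e0adc5b9978de3858b6ba1bc71a930ef594ddf75a07f1e4f29be3534155fc33ecb3e3a53140ac32f41a82e84ce19a90eabc6722f512185eb53dfb3d29d76d5e9be22ad87b64bd7a1dea5879bfe36398edaab0b4cf329a81cdb9ef184aaf2f7a2b35e1ce4181088e721e2fb64785a436d95c0e977623b37a43726d891d13eaa7a05c087a0e89ee5b7ff0a19c3d035fe87a8be254048d43f2ef846e9c25999171fc456e8e376e49482da445f3796e678e25a84f9293cb8b3b12ea14854863cc8f757b48313a13c47aeff8f6a213ea35c3cdb8e95c1e6e05431e688ae23a3c49693fee4bd868961f545054225cb3a8ec8ee5f57c35f7390efc67da1988d276bcdc5353b1e021cdaae76b5e1ee51ce1a5228acad33a925124fb5b51770426ce56ac26a8df991cbe4392dd8584ceb3f43bb603cc45609a1e6c2f142a,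
  nat_lit 0x1cf1c91c81c71c61c01b91b51ab19719619518417415715312d12b12a11710f29f6c1867e5d9b3e919f4e57b131fa9b1aec836c711feb9adad9c3e84bfa8022e2f2cc099d4f018d2ed4cfde33a50f36b694603e2f35e8f88c609e4d35974f6d7d447bbbaceaaec28b4e5cf33e1628fe194c76f2e824013b6bb5965ac4c8ebece0f1a370c770639b458a564f988e3f3778069939b2e44efa745c7829edff36ed42d59285df2f0c2d6a0c707e4e97417cb7660a8b532a60427cac9eecb8b9ae50d8ba55730b434275e656378d6ef41fb652ddfcedeeadd9ec813987af1b6db31178696433fe7d3b5df3e66f21699e67e481f6e1e76db66e04ce2ebeee8ef3250eb835a29d3d98a2e629c75e9b728fbcf9406164eebb65e123bdef65e618b18cbe518d3d888b356924f2bcb51ccf23a2d8702d3556ea67b7ea09f12b915cf057233ed3ef8cd2c0e6d78adc8e7fa1e9386cb6e56107113dc7fdf0debf17be4c645e11a4e3c99c61dc72cc8f722edc6556caa467721811f035b6ecae125bc57cd240d,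
  nat_lit 0x4db4d54d44d34d24d04ca4c94c64c24c14c04bf4b94b74b64b44b34b14ad4ab4a84a74a64a54a24a149549048d48c48b48a48748147e47d47c47947547247046c46b46a46946846145a45545445345144e44d44b44a44944444144043e43b43a43943843743643543042842742642542442342242142041d41c41b41a41941841741541441040c40b40a3f83f73f63f53f33f13ee3e63e53df3de3db3da3d73d43c73c63c53c13c03bf3be3bc3b83b03af3ab3a63a43a33a23a13a039f39e39c39b39739639539138a38938838538438138037f37b37137036c36836736436136035e35234f34e34d34c34734333d33c33a33832732532432332232131f31e31c31b31a31731631531431330e30d30c30a3063053022fe2fc2fa2f82f62e52e02df2de2dd2dc2db2da2d92d82d72d52d22d12d02c82c72b82b42b12b02ab2aa2a72a62a52a42a129529428d28a28927a27927427327227126f25f25624723222f22622522322021f2092072061f81f21f11ec1e41e21d81d61d51d41d21d11d0,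
  nat_lit 0x6c36c26bf6bd6bc6bb6b96b86b76b46b36b16b06af6ae6ad6ac6ab6a96a66a56a46a26a069d69a69869769669569469369269169068f68e68c68a68768568468368067f67e67c67b67667567467367167066f66e66d66966766166065f65e65b65965865665465364e64c64b64a64964764664464364264163e63d63c63663563463263162f62a62962762061e61d61b61a61661561461361260e6026016005ff5fe5fd5fc5fb5fa5f85f65f45f25eb5ea5e75e45e35e25e05df5de5dd5dc5db5da5d85d45d05cf5ce5cd5cc5cb5ca5c95c85c75c65c45c35c25c15be5bd5bc5bb5ba5b95b85b75b65b55b25b15b05af5ac5ab5a85a55a45a35a25a159e59d59c59b59a59859759659559459359259058c58a58358157f57e57957857557357257157056f56e56d56b56956856556456356256155b55a55455254c54954754654554454154053e53d53c53a53753653553452852752352151d51851651451351251151050b50a5095065055035014fd4f94f74ef4ec4eb4ea4e84e64e44e04dc,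
  nat_lit 0x86586186085f85d85c85b85a85985885785685585485084e84d84c84b84a84984884784684584484184083f83e83d83c83b83a83983883783483383283183082f82c82b82a82982882782682582482382282182081f81e81d81c81b81a81981881781681581481381280c80b80a8098058048037fc7fb7fa7f97f77f57f47f37f27f07ef7ed7ec7ea7e97e67e57e47e37e27e17df7de7dd7dc7d97d87cf7ce7cd7c87c77c67c57c47c27bc7b87b47b37b27b17b07af7ae7ac7ab7aa7a97a87a77a67a57a379f79e79c79b79a79879779679379179078f78b78978378178077f77d77c77b77a77977877676f76e76c76b76a76976876776576376176075f75e75a75975875675575475375274e74c74b74974874774674474374173d73c73873573473373272e72d72972672572472071d71c71971871571471370d70a7097087067017006ff6fe6fd6fc6fb6fa6f96f86f76f56f46f36f16f06ef6ee6eb6ea6e76e36e26e16e06df6de6dd6dc6d66d36d26d16d06cf6ce6cd6cc6c86c76c66c5,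
  nat_lit 0x9f79f59f39f29f09ef9ee9ed9ec9eb9ea9e99e89e79e69e59e49e39e29e19e09df9dd9db9da9d99d89d69d59d39d29d19cf9ce9cb9ca9c99c59c49c19be9bb9ba9b99b79b69b59b49b09ac9ab9aa9a79a59a49a39a299e99d99c99b99a99999899799699599499299199098f98e98d98c98b98a98998798698598498398298198097d97b97a97997897797597297197096e96d96a96696296095f95e95d95b95a95995895595395295195094f94c94a94994894794694594494394293f93e93c93b93793593493392f92e92c92a92892792692592292091f91e91b91a91991691491391291190f90c90b9099089069059049039029019008ff8fe8fa8f88f58f48f28f08ef8eb8e78e68e18e08df8de8dc8db8da8d78d58d18d08cf8ce8cc8cb8c98c88c78c68c58c48c38c08bf8be8bc8b78b68b18b08af8ad8a88a78a68a48a38a089f89e89d89c89b89589489389188f88a88988688588488388288187f87e87d87c87b87987887787687587487387287186f86e86d86c86b86a869868866,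
  nat_lit 0xb4bb4ab49b47b44b42b41b3fb3eb3db3cb3bb39b38b37b36b34b33b32b31b2fb2eb2db2cb2bb2ab29b28b27b26b25b24b23b22b21b20b1fb1eb1db1bb1ab19b18b16b15b14b11b10b0fb0eb0db0cb0bb0ab09b08b06b05b04b03b02b01b00affafeafdafbafaaf9af8af7af6af3af2af1af0aefaebaeaae9ae8ae7ae5ae4ae2ae0adeaddadcadbadaad9ad7ad6ad5ad4ad1ad0acfacdaccacbac7ac6ac5ac0abfabeabdabbabaab8ab7ab6ab5ab4ab3aafaaeaabaaaaa9aa8aa6aa5aa3aa2aa1a9fa9ea9da9ca9ba9aa99a98a97a96a95a94a93a92a91a90a8fa8ea8da8ca8aa89a88a87a86a85a84a83a82a81a7fa7ea7da7ca7ba7aa79a78a77a76a75a74a73a72a71a70a6fa6ea6da6ca6ba69a67a66a65a64a63a61a5fa5ea5da5ca5ba5aa59a58a57a55a54a51a4fa4ca49a45a44a42a41a3fa3ea3da3ca3ba3aa39a38a35a34a33a32a31a30a2fa2ea2ca2ba2aa29a28a27a26a25a24a23a22a20a1ca1ba1aa18a17a16a15a14a12a10a0fa0ea0da09a03a02a01a009fd9fb9fa9f99f8,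
  nat_lit 0xc9cc9bc9ac99c97c96c95c94c92c91c90c8cc8bc8ac89c88c87c86c85c84c83c82c80c7fc7ec7dc7cc7bc7ac79c76c74c73c72c70c6fc6ec6dc6cc6bc6ac69c65c64c63c62c61c60c5ec5dc5cc5bc5ac59c58c56c55c54c52c51c50c4fc4ec4dc4cc4bc4ac49c48c47c46c44c43c42c41c40c3fc3ec3cc3bc3ac39c38c37c36c35c34c32c31c30c2fc2ec2dc2cc2bc2ac29c28c27c25c24c23c22c21c20c1fc1ec1dc1cc1bc1ac19c18c17c16c15c14c12c11c0fc0ec0dc0cc0bc0ac06c04c02c01c00bfdbfcbfbbf9bf8bf7bf5bf4bf2bf0beebebbeabe9be8be6be3be1bdfbdebddbdcbdbbdabd8bd7bd6bd5bd4bd3bd2bd1bd0bcebccbcbbcabc9bc7bc5bc4bc2bc1bc0bbfbbebbdbbcbbbbbabb6bb4bb3bb2bb1bb0bafbaebadba7ba6ba4ba3ba2ba0b9fb9db9cb9bb98b97b96b95b94b93b92b91b90b8fb8db8cb8ab89b88b87b86b85b84b83b82b81b80b7eb7db7bb7ab79b78b77b75b74b73b70b6fb6eb6db6cb68b67b62b61b60b5db5cb5ab58b57b56b55b54b52b51b50b4fb4eb4d,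
  nat_lit 0xddcdd2dd1dd0dcfdcedcddc7dc4dc3dc2dc1dc0dbedbddbcdbadb8db7db6db4db3db1dafdaedacdabda6da5da3da2da1da0d9fd9ed9dd9cd9bd9ad98d97d96d95d94d93d91d90d8fd8ed8dd8cd8bd8ad89d88d85d84d83d82d81d80d7fd7ed7dd7bd7ad79d78d75d74d73d72d71d70d6fd6ed6dd6cd6bd6ad69d68d67d66d65d64d63d62d61d60d5fd5ed5dd5cd5bd5ad58d57d56d55d54d53d52d51d50d4fd4ed4dd4cd4bd4ad49d48d47d46d45d43d41d40d3fd3ed3dd3cd3bd3ad39d38d37d35d34d33d32d31d30d2fd2ed2cd2bd2ad29d28d27d26d25d24d23d22d21d20d1fd1ed1dd1cd1bd1ad19d17d16d13d12d11d10d0fd0ed0dd0cd0bd09d08d07d06d05d04d03d02d01d00cffcfecfacf8cf6cf5cf4cf3cf2cf1cefceececce9ce8ce7ce6ce5ce4ce3ce1cdfcdccdbcdacd9cd8cd7cd4cd3cd1ccfccecccccbccacc9cc8cc7cc6cc5cc3cc2cc1cc0cbfcbecbdcbccbbcbacb9cb8cb7cb6cb4cb3cb2cb1cb0cafcaecadcaccabcaaca9ca8ca7ca6ca5ca4ca3ca2ca1ca0c9fc9ec9d,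
  nat_lit 0xf34f16f15f14f13f12f11f10f0eee6ee4ee3ee2ee1ee0edfedeedded8ed7ed6ed5ed3ed2ed1ed0ecdec4eb2eb1eb0eaceabea4ea3e93e88e7ae79e60e5be3ae39e2ee2de2ce28e27e00df6df5dedde2de1de0dde]
noncomputable def K : List (List (ℕ)) := [K_0]
noncomputable def R_0 : List (Rule) := [Rule.mk (nat_lit 3) (nat_lit 43) (Steps.bwd (nat_lit 3) (Steps.bwd (nat_lit 3) Steps.nil)) (nat_lit 0) (nat_lit 0),
  Rule.mk (nat_lit 5) (nat_lit 58) (Steps.fwd (nat_lit 12288) (Steps.fwd (nat_lit 53248) (Steps.bwd (nat_lit 3) Steps.nil))) (nat_lit 12) (nat_lit 2),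
  Rule.mk (nat_lit 5) (nat_lit 43) (Steps.bwd (nat_lit 5) (Steps.bwd (nat_lit 5) Steps.nil)) (nat_lit 2) (nat_lit 0),
  Rule.mk (nat_lit 11) (nat_lit 73) (Steps.bwd (nat_lit 5) (Steps.fwd (nat_lit 36864) (Steps.bwd (nat_lit 11) (Steps.bwd (nat_lit 5) Steps.nil)))) (nat_lit 18) (nat_lit 3),
  Rule.mk (nat_lit 9) (nat_lit 88) (Steps.fwd (nat_lit 20480) (Steps.fwd (nat_lit 53248) (Steps.fwd (nat_lit 45056) (Steps.bwd (nat_lit 13) (Steps.bwd (nat_lit 5) Steps.nil))))) (nat_lit 24) (nat_lit 1),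
  Rule.mk (nat_lit 7) (nat_lit 43) (Steps.bwd (nat_lit 7) (Steps.bwd (nat_lit 7) Steps.nil)) (nat_lit 4) (nat_lit 0),
  Rule.mk (nat_lit 7) (nat_lit 73) (Steps.bwd (nat_lit 2) (Steps.bwd (nat_lit 2) (Steps.fwd (nat_lit 20480) (Steps.fwd (nat_lit 12288) Steps.nil)))) (nat_lit 14) (nat_lit 2),
  Rule.mk (nat_lit 8) (nat_lit 73) (Steps.bwd (nat_lit 11) (Steps.fwd (nat_lit 20480) (Steps.fwd (nat_lit 53248) (Steps.fwd (nat_lit 12288) Steps.nil)))) (nat_lit 16) (nat_lit 2),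
  Rule.mk (nat_lit 8) (nat_lit 43) (Steps.fwd (nat_lit 28672) (Steps.bwd (nat_lit 8) Steps.nil)) (nat_lit 5) (nat_lit 0),
  Rule.mk (nat_lit 11) (nat_lit 43) (Steps.bwd (nat_lit 11) (Steps.bwd (nat_lit 11) Steps.nil)) (nat_lit 8) (nat_lit 0),
  Rule.mk (nat_lit 1) (nat_lit 88) (Steps.bwd (nat_lit 3) (Steps.bwd (nat_lit 2) (Steps.bwd (nat_lit 10) (Steps.fwd (nat_lit 28672) (Steps.bwd (nat_lit 9) Steps.nil))))) (nat_lit 20) (nat_lit 1),
  Rule.mk (nat_lit 1) (nat_lit 88) (Steps.bwd (nat_lit 4) (Steps.bwd (nat_lit 10) (Steps.bwd (nat_lit 6) (Steps.bwd (nat_lit 1) (Steps.bwd (nat_lit 7) Steps.nil))))) (nat_lit 22) (nat_lit 2),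
  Rule.mk (nat_lit 12) (nat_lit 88) (Steps.bwd (nat_lit 13) (Steps.bwd (nat_lit 5) (Steps.bwd (nat_lit 9) (Steps.fwd (nat_lit 20480) (Steps.fwd (nat_lit 53248) Steps.nil))))) (nat_lit 24) (nat_lit 4),
  Rule.mk (nat_lit 3) (nat_lit 73) (Steps.bwd (nat_lit 13) (Steps.bwd (nat_lit 5) (Steps.fwd (nat_lit 45056) (Steps.bwd (nat_lit 7) Steps.nil)))) (nat_lit 17) (nat_lit 0),
  Rule.mk (nat_lit 2) (nat_lit 103) (Steps.bwd (nat_lit 2) (Steps.bwd (nat_lit 2) (Steps.bwd (nat_lit 4) (Steps.bwd (nat_lit 7) (Steps.bwd (nat_lit 1) (Steps.fwd (nat_lit 12288) Steps.nil)))))) (nat_lit 28) (nat_lit 2),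
  Rule.mk (nat_lit 3) (nat_lit 103) (Steps.bwd (nat_lit 9) (Steps.bwd (nat_lit 7) (Steps.bwd (nat_lit 5) (Steps.bwd (nat_lit 13) (Steps.bwd (nat_lit 11) (Steps.fwd (nat_lit 4096) Steps.nil)))))) (nat_lit 30) (nat_lit 3),
  Rule.mk (nat_lit 1) (nat_lit 118) (Steps.bwd (nat_lit 4) (Steps.bwd (nat_lit 6) (Steps.bwd (nat_lit 11) (Steps.bwd (nat_lit 13) (Steps.bwd (nat_lit 10) (Steps.fwd (nat_lit 28672) (Steps.bwd (nat_lit 1) Steps.nil))))))) (nat_lit 32) (nat_lit 2),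
  Rule.mk (nat_lit 11) (nat_lit 118) (Steps.bwd (nat_lit 5) (Steps.bwd (nat_lit 3) (Steps.fwd (nat_lit 20480) (Steps.bwd (nat_lit 11) (Steps.bwd (nat_lit 5) (Steps.bwd (nat_lit 3) (Steps.fwd (nat_lit 20480) Steps.nil))))))) (nat_lit 34) (nat_lit 3),
  Rule.mk (nat_lit 14) (nat_lit 58) (Steps.bwd (nat_lit 3) (Steps.bwd (nat_lit 5) (Steps.fwd (nat_lit 12288) Steps.nil))) (nat_lit 12) (nat_lit 0),
  Rule.mk (nat_lit 8) (nat_lit 73) (Steps.bwd (nat_lit 3) (Steps.bwd (nat_lit 5) (Steps.bwd (nat_lit 1) (Steps.bwd (nat_lit 1) Steps.nil)))) (nat_lit 15) (nat_lit 4),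
  Rule.mk (nat_lit 13) (nat_lit 118) (Steps.bwd (nat_lit 10) (Steps.bwd (nat_lit 7) (Steps.bwd (nat_lit 9) (Steps.bwd (nat_lit 13) (Steps.fwd (nat_lit 36864) (Steps.bwd (nat_lit 7) (Steps.fwd (nat_lit 40960) Steps.nil))))))) (nat_lit 38) (nat_lit 1),
  Rule.mk (nat_lit 13) (nat_lit 43) (Steps.bwd (nat_lit 13) (Steps.bwd (nat_lit 13) Steps.nil)) (nat_lit 10) (nat_lit 0),
  Rule.mk (nat_lit 14) (nat_lit 118) (Steps.bwd (nat_lit 12) (Steps.bwd (nat_lit 10) (Steps.fwd (nat_lit 28672) (Steps.fwd (nat_lit 53248) (Steps.fwd (nat_lit 45056) (Steps.fwd (nat_lit 36864) (Steps.fwd (nat_lit 28672) Steps.nil))))))) (nat_lit 40) (nat_lit 2),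
  Rule.mk (nat_lit 10) (nat_lit 118) (Steps.bwd (nat_lit 8) (Steps.bwd (nat_lit 2) (Steps.bwd (nat_lit 2) (Steps.bwd (nat_lit 7) (Steps.fwd (nat_lit 4096) (Steps.bwd (nat_lit 5) (Steps.fwd (nat_lit 8192) Steps.nil))))))) (nat_lit 42) (nat_lit 3),
  Rule.mk (nat_lit 4) (nat_lit 133) (Steps.bwd (nat_lit 7) (Steps.bwd (nat_lit 9) (Steps.fwd (nat_lit 20480) (Steps.bwd (nat_lit 11) (Steps.bwd (nat_lit 13) (Steps.fwd (nat_lit 45056) (Steps.fwd (nat_lit 12288) (Steps.bwd (nat_lit 7) Steps.nil)))))))) (nat_lit 44) (nat_lit 3),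
  Rule.mk (nat_lit 1) (nat_lit 148) (Steps.bwd (nat_lit 1) (Steps.bwd (nat_lit 4) (Steps.bwd (nat_lit 5) (Steps.bwd (nat_lit 3) (Steps.bwd (nat_lit 2) (Steps.bwd (nat_lit 7) (Steps.bwd (nat_lit 9) (Steps.fwd (nat_lit 28672) (Steps.fwd (nat_lit 8192) Steps.nil))))))))) (nat_lit 46) (nat_lit 3),
  Rule.mk (nat_lit 4) (nat_lit 118) (Steps.fwd (nat_lit 20480) (Steps.bwd (nat_lit 11) (Steps.bwd (nat_lit 13) (Steps.fwd (nat_lit 36864) (Steps.fwd (nat_lit 28672) (Steps.fwd (nat_lit 8192) (Steps.bwd (nat_lit 1) Steps.nil))))))) (nat_lit 32) (nat_lit 3),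
  Rule.mk (nat_lit 7) (nat_lit 88) (Steps.bwd (nat_lit 1) (Steps.bwd (nat_lit 4) (Steps.fwd (nat_lit 36864) (Steps.fwd (nat_lit 20480) (Steps.bwd (nat_lit 1) Steps.nil))))) (nat_lit 22) (nat_lit 1),
  Rule.mk (nat_lit 8) (nat_lit 148) (Steps.bwd (nat_lit 9) (Steps.bwd (nat_lit 8) (Steps.bwd (nat_lit 9) (Steps.bwd (nat_lit 8) (Steps.bwd (nat_lit 9) (Steps.fwd (nat_lit 28672) (Steps.bwd (nat_lit 9) (Steps.fwd (nat_lit 28672) (Steps.fwd (nat_lit 40960) Steps.nil))))))))) (nat_lit 48) (nat_lit 1),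
  Rule.mk (nat_lit 9) (nat_lit 43) (Steps.bwd (nat_lit 9) (Steps.fwd (nat_lit 40960) Steps.nil)) (nat_lit 6) (nat_lit 0),
  Rule.mk (nat_lit 2) (nat_lit 148) (Steps.bwd (nat_lit 2) (Steps.bwd (nat_lit 4) (Steps.bwd (nat_lit 6) (Steps.bwd (nat_lit 14) (Steps.fwd (nat_lit 45056) (Steps.bwd (nat_lit 5) (Steps.bwd (nat_lit 11) (Steps.bwd (nat_lit 13) (Steps.bwd (nat_lit 3) Steps.nil))))))))) (nat_lit 52) (nat_lit 2),
  Rule.mk (nat_lit 1) (nat_lit 343) (Steps.bwd (nat_lit 1) (Steps.bwd (nat_lit 1) (Steps.bwd (nat_lit 1) (Steps.bwd (nat_lit 1) (Steps.bwd (nat_lit 1) (Steps.bwd (nat_lit 1) (Steps.bwd (nat_lit 1) (Steps.bwd (nat_lit 1) (Steps.bwd (nat_lit 1) (Steps.bwd (nat_lit 1) (Steps.bwd (nat_lit 1) (Steps.bwd (nat_lit 1) (Steps.bwd (nat_lit 1) (Steps.bwd (nat_lit 1) (Steps.bwd (nat_lit 1) (Steps.bwd (nat_lit 1) (Steps.bwd (nat_lit 1) (Steps.bwd (nat_lit 1) (Steps.bwd (nat_lit 1) (Steps.bwd (nat_lit 1) (Steps.bwd (nat_lit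 1) (Steps.bwd (nat_lit 1) Steps.nil)))))))))))))))))))))) (nat_lit 54) (nat_lit 0),
  Rule.mk (nat_lit 5) (nat_lit 73) (Steps.bwd (nat_lit 1) (Steps.bwd (nat_lit 1) (Steps.fwd (nat_lit 28672) (Steps.fwd (nat_lit 16384) Steps.nil)))) (nat_lit 15) (nat_lit 1),
  Rule.mk (nat_lit 9) (nat_lit 43) (Steps.bwd (nat_lit 9) (Steps.bwd (nat_lit 9) Steps.nil)) (nat_lit 6) (nat_lit 0),
  Rule.mk (nat_lit 13) (nat_lit 43) (Steps.bwd (nat_lit 13) (Steps.fwd (nat_lit 57344) Steps.nil)) (nat_lit 10) (nat_lit 0),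
  Rule.mk (nat_lit 3) (nat_lit 58) (Steps.fwd (nat_lit 20480) (Steps.fwd (nat_lit 12288) (Steps.bwd (nat_lit 13) Steps.nil))) (nat_lit 13) (nat_lit 2),
  Rule.mk (nat_lit 3) (nat_lit 43) (Steps.bwd (nat_lit 3) (Steps.fwd (nat_lit 16384) Steps.nil)) (nat_lit 0) (nat_lit 0),
  Rule.mk (nat_lit 8) (nat_lit 73) (Steps.bwd (nat_lit 11) (Steps.bwd (nat_lit 6) (Steps.fwd (nat_lit 53248) (Steps.fwd (nat_lit 12288) Steps.nil)))) (nat_lit 16) (nat_lit 2),
  Rule.mk (nat_lit 5) (nat_lit 73) (Steps.bwd (nat_lit 11) (Steps.bwd (nat_lit 5) (Steps.fwd (nat_lit 36864) (Steps.bwd (nat_lit 11) Steps.nil)))) (nat_lit 18) (nat_lit 2),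
  Rule.mk (nat_lit 1) (nat_lit 88) (Steps.bwd (nat_lit 3) (Steps.bwd (nat_lit 2) (Steps.bwd (nat_lit 10) (Steps.bwd (nat_lit 8) (Steps.bwd (nat_lit 9) Steps.nil))))) (nat_lit 20) (nat_lit 1),
  Rule.mk (nat_lit 1) (nat_lit 88) (Steps.bwd (nat_lit 4) (Steps.bwd (nat_lit 10) (Steps.bwd (nat_lit 6) (Steps.fwd (nat_lit 8192) (Steps.bwd (nat_lit 7) Steps.nil))))) (nat_lit 22) (nat_lit 2),
  Rule.mk (nat_lit 0) (nat_lit 118) (Steps.fwd (nat_lit 16384) (Steps.fwd (nat_lit 4096) (Steps.fwd (nat_lit 28672) (Steps.bwd (nat_lit 3) (Steps.bwd (nat_lit 1) (Steps.bwd (nat_lit 1) (Steps.bwd (nat_lit 1) Steps.nil))))))) (nat_lit 29) (nat_lit 6),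
  Rule.mk (nat_lit 4) (nat_lit 43) (Steps.bwd (nat_lit 0) (Steps.fwd (nat_lit 16384) Steps.nil)) (nat_lit 56) (nat_lit 0),
  Rule.mk (nat_lit 9) (nat_lit 43) (Steps.bwd (nat_lit 0) (Steps.bwd (nat_lit 10) Steps.nil)) (nat_lit 56) (nat_lit 0),
  Rule.mk (nat_lit 14) (nat_lit 88) (Steps.bwd (nat_lit 12) (Steps.bwd (nat_lit 13) (Steps.bwd (nat_lit 5) (Steps.bwd (nat_lit 9) (Steps.fwd (nat_lit 20480) Steps.nil))))) (nat_lit 24) (nat_lit 3),
  Rule.mk (nat_lit 12) (nat_lit 88) (Steps.bwd (nat_lit 9) (Steps.bwd (nat_lit 11) (Steps.bwd (nat_lit 14) (Steps.fwd (nat_lit 45056) (Steps.bwd (nat_lit 13) Steps.nil))))) (nat_lit 26) (nat_lit 2),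
  Rule.mk (nat_lit 2) (nat_lit 103) (Steps.bwd (nat_lit 4) (Steps.bwd (nat_lit 7) (Steps.fwd (nat_lit 8192) (Steps.fwd (nat_lit 12288) (Steps.bwd (nat_lit 2) (Steps.bwd (nat_lit 2) Steps.nil)))))) (nat_lit 28) (nat_lit 4),
  Rule.mk (nat_lit 6) (nat_lit 73) (Steps.bwd (nat_lit 4) (Steps.bwd (nat_lit 7) (Steps.bwd (nat_lit 2) (Steps.bwd (nat_lit 2) Steps.nil)))) (nat_lit 14) (nat_lit 0),
  Rule.mk (nat_lit 6) (nat_lit 43) (Steps.fwd (nat_lit 20480) (Steps.bwd (nat_lit 6) Steps.nil)) (nat_lit 3) (nat_lit 0),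
  Rule.mk (nat_lit 13) (nat_lit 58) (Steps.fwd (nat_lit 16384) (Steps.bwd (nat_lit 6) (Steps.bwd (nat_lit 4) Steps.nil))) (nat_lit 13) (nat_lit 1),
  Rule.mk (nat_lit 2) (nat_lit 103) (Steps.bwd (nat_lit 3) (Steps.bwd (nat_lit 9) (Steps.bwd (nat_lit 7) (Steps.bwd (nat_lit 5) (Steps.fwd (nat_lit 57344) (Steps.bwd (nat_lit 11) Steps.nil)))))) (nat_lit 30) (nat_lit 2),
  Rule.mk (nat_lit 5) (nat_lit 118) (Steps.bwd (nat_lit 3) (Steps.bwd (nat_lit 6) (Steps.bwd (nat_lit 11) (Steps.bwd (nat_lit 5) (Steps.bwd (nat_lit 3) (Steps.fwd (nat_lit 20480) (Steps.bwd (nat_lit 11) Steps.nil))))))) (nat_lit 34) (nat_lit 0),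
  Rule.mk (nat_lit 10) (nat_lit 73) (Steps.bwd (nat_lit 11) (Steps.bwd (nat_lit 5) (Steps.bwd (nat_lit 11) (Steps.bwd (nat_lit 5) Steps.nil)))) (nat_lit 18) (nat_lit 0),
  Rule.mk (nat_lit 14) (nat_lit 118) (Steps.bwd (nat_lit 11) (Steps.bwd (nat_lit 13) (Steps.bwd (nat_lit 9) (Steps.bwd (nat_lit 14) (Steps.bwd (nat_lit 11) (Steps.fwd (nat_lit 57344) (Steps.bwd (nat_lit 9) Steps.nil))))))) (nat_lit 36) (nat_lit 2),
  Rule.mk (nat_lit 10) (nat_lit 118) (Steps.bwd (nat_lit 7) (Steps.bwd (nat_lit 9) (Steps.bwd (nat_lit 13) (Steps.bwd (nat_lit 10) (Steps.bwd (nat_lit 7) (Steps.bwd (nat_lit 9) (Steps.bwd (nat_lit 13) Steps.nil))))))) (nat_lit 38) (nat_lit 2),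
  Rule.mk (nat_lit 7) (nat_lit 43) (Steps.bwd (nat_lit 7) (Steps.fwd (nat_lit 32768) Steps.nil)) (nat_lit 4) (nat_lit 0),
  Rule.mk (nat_lit 14) (nat_lit 118) (Steps.bwd (nat_lit 12) (Steps.bwd (nat_lit 10) (Steps.bwd (nat_lit 8) (Steps.bwd (nat_lit 14) (Steps.bwd (nat_lit 12) (Steps.fwd (nat_lit 36864) (Steps.bwd (nat_lit 8) Steps.nil))))))) (nat_lit 40) (nat_lit 2),
  Rule.mk (nat_lit 14) (nat_lit 43) (Steps.bwd (nat_lit 14) (Steps.bwd (nat_lit 14) Steps.nil)) (nat_lit 11) (nat_lit 0),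
  Rule.mk (nat_lit 4) (nat_lit 133) (Steps.bwd (nat_lit 7) (Steps.bwd (nat_lit 9) (Steps.bwd (nat_lit 6) (Steps.bwd (nat_lit 11) (Steps.bwd (nat_lit 13) (Steps.fwd (nat_lit 45056) (Steps.fwd (nat_lit 12288) (Steps.bwd (nat_lit 7) Steps.nil)))))))) (nat_lit 44) (nat_lit 3),
  Rule.mk (nat_lit 1) (nat_lit 148) (Steps.bwd (nat_lit 1) (Steps.bwd (nat_lit 1) (Steps.bwd (nat_lit 4) (Steps.bwd (nat_lit 5) (Steps.bwd (nat_lit 3) (Steps.bwd (nat_lit 2) (Steps.bwd (nat_lit 7) (Steps.bwd (nat_lit 9) (Steps.bwd (nat_lit 8) Steps.nil))))))))) (nat_lit 46) (nat_lit 2),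
  Rule.mk (nat_lit 8) (nat_lit 148) (Steps.bwd (nat_lit 9) (Steps.bwd (nat_lit 8) (Steps.bwd (nat_lit 9) (Steps.bwd (nat_lit 8) (Steps.bwd (nat_lit 9) (Steps.bwd (nat_lit 8) (Steps.bwd (nat_lit 9) (Steps.bwd (nat_lit 8) (Steps.fwd (nat_lit 40960) Steps.nil))))))))) (nat_lit 48) (nat_lit 1),
  Rule.mk (nat_lit 13) (nat_lit 148) (Steps.bwd (nat_lit 12) (Steps.bwd (nat_lit 13) (Steps.bwd (nat_lit 12) (Steps.bwd (nat_lit 13) (Steps.bwd (nat_lit 12) (Steps.bwd (nat_lit 13) (Steps.bwd (nat_lit 12) (Steps.fwd (nat_lit 57344) (Steps.fwd (nat_lit 45056) Steps.nil))))))))) (nat_lit 50) (nat_lit 0),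
  Rule.mk (nat_lit 9) (nat_lit 88) (Steps.fwd (nat_lit 49152) (Steps.fwd (nat_lit 53248) (Steps.fwd (nat_lit 45056) (Steps.bwd (nat_lit 13) (Steps.bwd (nat_lit 12) Steps.nil))))) (nat_lit 26) (nat_lit 3),
  Rule.mk (nat_lit 10) (nat_lit 88) (Steps.bwd (nat_lit 11) (Steps.bwd (nat_lit 14) (Steps.bwd (nat_lit 11) (Steps.bwd (nat_lit 13) (Steps.bwd (nat_lit 12) Steps.nil))))) (nat_lit 27) (nat_lit 4)]
noncomputable def R_1 : List (Rule) := [Rule.mk (nat_lit 12) (nat_lit 43) (Steps.bwd (nat_lit 12) (Steps.fwd (nat_lit 45056) Steps.nil)) (nat_lit 9) (nat_lit 0),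
  Rule.mk (nat_lit 4) (nat_lit 148) (Steps.bwd (nat_lit 6) (Steps.bwd (nat_lit 14) (Steps.bwd (nat_lit 12) (Steps.bwd (nat_lit 5) (Steps.bwd (nat_lit 11) (Steps.fwd (nat_lit 57344) (Steps.bwd (nat_lit 3) (Steps.fwd (nat_lit 4096) (Steps.fwd (nat_lit 4096) Steps.nil))))))))) (nat_lit 52) (nat_lit 4),
  Rule.mk (nat_lit 7) (nat_lit 103) (Steps.fwd (nat_lit 8192) (Steps.fwd (nat_lit 12288) (Steps.fwd (nat_lit 4096) (Steps.fwd (nat_lit 4096) (Steps.fwd (nat_lit 4096) (Steps.bwd (nat_lit 4) Steps.nil)))))) (nat_lit 28) (nat_lit 6),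
  Rule.mk (nat_lit 1) (nat_lit 343) (Steps.bwd (nat_lit 1) (Steps.bwd (nat_lit 1) (Steps.bwd (nat_lit 1) (Steps.bwd (nat_lit 1) (Steps.bwd (nat_lit 1) (Steps.bwd (nat_lit 1) (Steps.bwd (nat_lit 1) (Steps.bwd (nat_lit 1) (Steps.bwd (nat_lit 1) (Steps.bwd (nat_lit 1) (Steps.bwd (nat_lit 1) (Steps.bwd (nat_lit 1) (Steps.bwd (nat_lit 1) (Steps.bwd (nat_lit 1) (Steps.bwd (nat_lit 1) (Steps.bwd (nat_lit 1) (Steps.bwd (nat_lit 1) (Steps.fwd (nat_lit 8192) (Steps.fwd (nat_lit 8192) (Steps.fwd (nat_lit 8192) (Steps.bwd (nat_lit 1) (Steps.bwd (nat_lit 1) Steps.nil)))))))))))))))))))))) (nat_lit 54) (nat_lit 0),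
  Rule.mk (nat_lit 6) (nat_lit 73) (Steps.bwd (nat_lit 12) (Steps.fwd (nat_lit 20480) (Steps.fwd (nat_lit 45056) (Steps.bwd (nat_lit 9) Steps.nil)))) (nat_lit 19) (nat_lit 2),
  Rule.mk (nat_lit 4) (nat_lit 58) (Steps.fwd (nat_lit 53248) (Steps.bwd (nat_lit 3) (Steps.bwd (nat_lit 5) Steps.nil))) (nat_lit 12) (nat_lit 3),
  Rule.mk (nat_lit 7) (nat_lit 73) (Steps.fwd (nat_lit 4096) (Steps.fwd (nat_lit 4096) (Steps.fwd (nat_lit 20480) (Steps.bwd (nat_lit 4) Steps.nil)))) (nat_lit 14) (nat_lit 2),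
  Rule.mk (nat_lit 12) (nat_lit 88) (Steps.bwd (nat_lit 13) (Steps.bwd (nat_lit 5) (Steps.bwd (nat_lit 9) (Steps.bwd (nat_lit 6) (Steps.fwd (nat_lit 53248) Steps.nil))))) (nat_lit 24) (nat_lit 4),
  Rule.mk (nat_lit 12) (nat_lit 43) (Steps.bwd (nat_lit 12) (Steps.bwd (nat_lit 12) Steps.nil)) (nat_lit 9) (nat_lit 0),
  Rule.mk (nat_lit 2) (nat_lit 73) (Steps.bwd (nat_lit 2) (Steps.fwd (nat_lit 20480) (Steps.fwd (nat_lit 12288) (Steps.bwd (nat_lit 7) Steps.nil)))) (nat_lit 14) (nat_lit 3),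
  Rule.mk (nat_lit 0) (nat_lit 118) (Steps.fwd (nat_lit 4096) (Steps.bwd (nat_lit 2) (Steps.bwd (nat_lit 2) (Steps.fwd (nat_lit 12288) (Steps.bwd (nat_lit 7) (Steps.bwd (nat_lit 1) (Steps.bwd (nat_lit 4) Steps.nil))))))) (nat_lit 28) (nat_lit 1),
  Rule.mk (nat_lit 1) (nat_lit 43) (Steps.bwd (nat_lit 0) (Steps.fwd (nat_lit 4096) Steps.nil)) (nat_lit 56) (nat_lit 0),
  Rule.mk (nat_lit 3) (nat_lit 43) (Steps.bwd (nat_lit 0) (Steps.bwd (nat_lit 4) Steps.nil)) (nat_lit 56) (nat_lit 0),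
  Rule.mk (nat_lit 0) (nat_lit 103) (Steps.bwd (nat_lit 8) (Steps.bwd (nat_lit 9) (Steps.bwd (nat_lit 1) (Steps.bwd (nat_lit 3) (Steps.fwd (nat_lit 4096) (Steps.fwd (nat_lit 36864) Steps.nil)))))) (nat_lit 20) (nat_lit 4),
  Rule.mk (nat_lit 7) (nat_lit 43) (Steps.bwd (nat_lit 0) (Steps.bwd (nat_lit 8) Steps.nil)) (nat_lit 56) (nat_lit 0),
  Rule.mk (nat_lit 0) (nat_lit 58) (Steps.bwd (nat_lit 9) (Steps.fwd (nat_lit 0) (Steps.fwd (nat_lit 36864) Steps.nil))) (nat_lit 56) (nat_lit 0),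
  Rule.mk (nat_lit 8) (nat_lit 43) (Steps.bwd (nat_lit 0) (Steps.fwd (nat_lit 32768) Steps.nil)) (nat_lit 56) (nat_lit 0),
  Rule.mk (nat_lit 8) (nat_lit 43) (Steps.bwd (nat_lit 8) (Steps.fwd (nat_lit 28672) Steps.nil)) (nat_lit 5) (nat_lit 0),
  Rule.mk (nat_lit 11) (nat_lit 73) (Steps.bwd (nat_lit 6) (Steps.fwd (nat_lit 53248) (Steps.fwd (nat_lit 12288) (Steps.fwd (nat_lit 28672) Steps.nil)))) (nat_lit 16) (nat_lit 3),
  Rule.mk (nat_lit 3) (nat_lit 88) (Steps.bwd (nat_lit 2) (Steps.bwd (nat_lit 10) (Steps.bwd (nat_lit 8) (Steps.bwd (nat_lit 9) (Steps.fwd (nat_lit 8192) Steps.nil))))) (nat_lit 20) (nat_lit 2),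
  Rule.mk (nat_lit 8) (nat_lit 103) (Steps.fwd (nat_lit 16384) (Steps.fwd (nat_lit 8192) (Steps.fwd (nat_lit 8192) (Steps.fwd (nat_lit 8192) (Steps.bwd (nat_lit 3) (Steps.bwd (nat_lit 2) Steps.nil)))))) (nat_lit 29) (nat_lit 2),
  Rule.mk (nat_lit 4) (nat_lit 103) (Steps.bwd (nat_lit 7) (Steps.fwd (nat_lit 8192) (Steps.fwd (nat_lit 12288) (Steps.fwd (nat_lit 4096) (Steps.fwd (nat_lit 4096) (Steps.fwd (nat_lit 4096) Steps.nil)))))) (nat_lit 28) (nat_lit 5),
  Rule.mk (nat_lit 14) (nat_lit 58) (Steps.fwd (nat_lit 16384) (Steps.bwd (nat_lit 5) (Steps.bwd (nat_lit 4) Steps.nil))) (nat_lit 12) (nat_lit 0),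
  Rule.mk (nat_lit 1) (nat_lit 88) (Steps.bwd (nat_lit 7) (Steps.fwd (nat_lit 8192) (Steps.fwd (nat_lit 12288) (Steps.fwd (nat_lit 36864) (Steps.fwd (nat_lit 20480) Steps.nil))))) (nat_lit 22) (nat_lit 0),
  Rule.mk (nat_lit 2) (nat_lit 103) (Steps.bwd (nat_lit 3) (Steps.bwd (nat_lit 9) (Steps.bwd (nat_lit 7) (Steps.bwd (nat_lit 5) (Steps.bwd (nat_lit 13) (Steps.bwd (nat_lit 11) Steps.nil)))))) (nat_lit 30) (nat_lit 2),
  Rule.mk (nat_lit 4) (nat_lit 118) (Steps.bwd (nat_lit 6) (Steps.bwd (nat_lit 11) (Steps.bwd (nat_lit 13) (Steps.bwd (nat_lit 10) (Steps.fwd (nat_lit 28672) (Steps.fwd (nat_lit 8192) (Steps.fwd (nat_lit 8192) Steps.nil))))))) (nat_lit 32) (nat_lit 3),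
  Rule.mk (nat_lit 4) (nat_lit 43) (Steps.fwd (nat_lit 12288) (Steps.bwd (nat_lit 4) Steps.nil)) (nat_lit 1) (nat_lit 0),
  Rule.mk (nat_lit 11) (nat_lit 118) (Steps.bwd (nat_lit 5) (Steps.bwd (nat_lit 3) (Steps.bwd (nat_lit 6) (Steps.bwd (nat_lit 11) (Steps.bwd (nat_lit 5) (Steps.bwd (nat_lit 3) (Steps.fwd (nat_lit 20480) Steps.nil))))))) (nat_lit 34) (nat_lit 3),
  Rule.mk (nat_lit 14) (nat_lit 118) (Steps.bwd (nat_lit 11) (Steps.bwd (nat_lit 13) (Steps.bwd (nat_lit 9) (Steps.bwd (nat_lit 14) (Steps.fwd (nat_lit 49152) (Steps.bwd (nat_lit 13) (Steps.bwd (nat_lit 9) Steps.nil))))))) (nat_lit 36) (nat_lit 2),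
  Rule.mk (nat_lit 14) (nat_lit 43) (Steps.bwd (nat_lit 14) (Steps.fwd (nat_lit 53248) Steps.nil)) (nat_lit 11) (nat_lit 0),
  Rule.mk (nat_lit 6) (nat_lit 88) (Steps.bwd (nat_lit 14) (Steps.bwd (nat_lit 12) (Steps.bwd (nat_lit 13) (Steps.fwd (nat_lit 24576) (Steps.bwd (nat_lit 9) Steps.nil))))) (nat_lit 24) (nat_lit 2),
  Rule.mk (nat_lit 1) (nat_lit 88) (Steps.bwd (nat_lit 7) (Steps.fwd (nat_lit 8192) (Steps.fwd (nat_lit 12288) (Steps.fwd (nat_lit 36864) (Steps.bwd (nat_lit 6) Steps.nil))))) (nat_lit 22) (nat_lit 0),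
  Rule.mk (nat_lit 10) (nat_lit 118) (Steps.bwd (nat_lit 8) (Steps.bwd (nat_lit 2) (Steps.bwd (nat_lit 2) (Steps.bwd (nat_lit 7) (Steps.bwd (nat_lit 2) (Steps.bwd (nat_lit 5) (Steps.fwd (nat_lit 8192) Steps.nil))))))) (nat_lit 42) (nat_lit 3),
  Rule.mk (nat_lit 7) (nat_lit 133) (Steps.bwd (nat_lit 9) (Steps.bwd (nat_lit 6) (Steps.bwd (nat_lit 11) (Steps.bwd (nat_lit 13) (Steps.fwd (nat_lit 45056) (Steps.fwd (nat_lit 12288) (Steps.bwd (nat_lit 7) (Steps.bwd (nat_lit 4) Steps.nil)))))))) (nat_lit 44) (nat_lit 4),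
  Rule.mk (nat_lit 9) (nat_lit 148) (Steps.bwd (nat_lit 8) (Steps.bwd (nat_lit 9) (Steps.bwd (nat_lit 8) (Steps.bwd (nat_lit 9) (Steps.bwd (nat_lit 8) (Steps.bwd (nat_lit 9) (Steps.bwd (nat_lit 8) (Steps.bwd (nat_lit 9) (Steps.bwd (nat_lit 8) Steps.nil))))))))) (nat_lit 48) (nat_lit 0),
  Rule.mk (nat_lit 13) (nat_lit 148) (Steps.bwd (nat_lit 12) (Steps.bwd (nat_lit 13) (Steps.bwd (nat_lit 12) (Steps.bwd (nat_lit 13) (Steps.bwd (nat_lit 12) (Steps.bwd (nat_lit 13) (Steps.bwd (nat_lit 12) (Steps.bwd (nat_lit 13) (Steps.fwd (nat_lit 45056) Steps.nil))))))))) (nat_lit 50) (nat_lit 0),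
  Rule.mk (nat_lit 4) (nat_lit 148) (Steps.bwd (nat_lit 6) (Steps.bwd (nat_lit 14) (Steps.bwd (nat_lit 12) (Steps.bwd (nat_lit 5) (Steps.fwd (nat_lit 49152) (Steps.bwd (nat_lit 13) (Steps.bwd (nat_lit 3) (Steps.bwd (nat_lit 2) (Steps.bwd (nat_lit 2) Steps.nil))))))))) (nat_lit 52) (nat_lit 4),
  Rule.mk (nat_lit 7) (nat_lit 103) (Steps.fwd (nat_lit 8192) (Steps.fwd (nat_lit 12288) (Steps.fwd (nat_lit 4096) (Steps.bwd (nat_lit 2) (Steps.bwd (nat_lit 2) (Steps.bwd (nat_lit 4) Steps.nil)))))) (nat_lit 28) (nat_lit 6),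
  Rule.mk (nat_lit 1) (nat_lit 343) (Steps.bwd (nat_lit 1) (Steps.bwd (nat_lit 1) (Steps.bwd (nat_lit 1) (Steps.bwd (nat_lit 1) (Steps.bwd (nat_lit 1) (Steps.bwd (nat_lit 1) (Steps.bwd (nat_lit 1) (Steps.bwd (nat_lit 1) (Steps.bwd (nat_lit 1) (Steps.bwd (nat_lit 1) (Steps.bwd (nat_lit 1) (Steps.bwd (nat_lit 1) (Steps.bwd (nat_lit 1) (Steps.bwd (nat_lit 1) (Steps.bwd (nat_lit 1) (Steps.bwd (nat_lit 1) (Steps.fwd (nat_lit 8192) (Steps.fwd (nat_lit 8192) (Steps.fwd (nat_lit 8192) (Steps.fwd (nat_lit 8192) (Steps.fwd (nat_lit 8192) (Steps.bwd (nat_lit 1) Steps.nil)))))))))))))))))))))) (nat_lit 54) (nat_lit 0),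
  Rule.mk (nat_lit 6) (nat_lit 58) (Steps.bwd (nat_lit 4) (Steps.bwd (nat_lit 13) (Steps.bwd (nat_lit 3) Steps.nil))) (nat_lit 13) (nat_lit 3),
  Rule.mk (nat_lit 6) (nat_lit 43) (Steps.bwd (nat_lit 6) (Steps.bwd (nat_lit 6) Steps.nil)) (nat_lit 3) (nat_lit 0),
  Rule.mk (nat_lit 3) (nat_lit 58) (Steps.bwd (nat_lit 6) (Steps.fwd (nat_lit 12288) (Steps.bwd (nat_lit 13) Steps.nil))) (nat_lit 13) (nat_lit 2),
  Rule.mk (nat_lit 2) (nat_lit 148) (Steps.fwd (nat_lit 4096) (Steps.bwd (nat_lit 4) (Steps.fwd (nat_lit 20480) (Steps.fwd (nat_lit 53248) (Steps.fwd (nat_lit 45056) (Steps.bwd (nat_lit 5) (Steps.bwd (nat_lit 11) (Steps.bwd (nat_lit 13) (Steps.bwd (nat_lit 3) Steps.nil))))))))) (nat_lit 52) (nat_lit 2),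
  Rule.mk (nat_lit 8) (nat_lit 43) (Steps.bwd (nat_lit 8) (Steps.bwd (nat_lit 8) Steps.nil)) (nat_lit 5) (nat_lit 0),
  Rule.mk (nat_lit 10) (nat_lit 88) (Steps.bwd (nat_lit 6) (Steps.fwd (nat_lit 53248) (Steps.bwd (nat_lit 11) (Steps.fwd (nat_lit 57344) (Steps.fwd (nat_lit 24576) Steps.nil))))) (nat_lit 25) (nat_lit 0),
  Rule.mk (nat_lit 10) (nat_lit 88) (Steps.bwd (nat_lit 8) (Steps.bwd (nat_lit 9) (Steps.bwd (nat_lit 1) (Steps.fwd (nat_lit 16384) (Steps.fwd (nat_lit 4096) Steps.nil))))) (nat_lit 20) (nat_lit 4),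
  Rule.mk (nat_lit 11) (nat_lit 118) (Steps.bwd (nat_lit 5) (Steps.bwd (nat_lit 3) (Steps.fwd (nat_lit 20480) (Steps.bwd (nat_lit 11) (Steps.bwd (nat_lit 5) (Steps.bwd (nat_lit 3) (Steps.bwd (nat_lit 6) Steps.nil))))))) (nat_lit 34) (nat_lit 3),
  Rule.mk (nat_lit 14) (nat_lit 118) (Steps.bwd (nat_lit 11) (Steps.bwd (nat_lit 13) (Steps.bwd (nat_lit 9) (Steps.fwd (nat_lit 53248) (Steps.fwd (nat_lit 49152) (Steps.bwd (nat_lit 13) (Steps.bwd (nat_lit 9) Steps.nil))))))) (nat_lit 36) (nat_lit 2),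
  Rule.mk (nat_lit 14) (nat_lit 118) (Steps.bwd (nat_lit 12) (Steps.bwd (nat_lit 10) (Steps.bwd (nat_lit 8) (Steps.bwd (nat_lit 14) (Steps.bwd (nat_lit 12) (Steps.fwd (nat_lit 36864) (Steps.fwd (nat_lit 28672) Steps.nil))))))) (nat_lit 40) (nat_lit 2),
  Rule.mk (nat_lit 10) (nat_lit 118) (Steps.bwd (nat_lit 8) (Steps.bwd (nat_lit 2) (Steps.bwd (nat_lit 2) (Steps.bwd (nat_lit 7) (Steps.fwd (nat_lit 4096) (Steps.bwd (nat_lit 5) (Steps.bwd (nat_lit 1) Steps.nil))))))) (nat_lit 42) (nat_lit 3),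
  Rule.mk (nat_lit 7) (nat_lit 133) (Steps.bwd (nat_lit 9) (Steps.bwd (nat_lit 6) (Steps.fwd (nat_lit 49152) (Steps.fwd (nat_lit 57344) (Steps.fwd (nat_lit 45056) (Steps.fwd (nat_lit 12288) (Steps.fwd (nat_lit 32768) (Steps.bwd (nat_lit 4) Steps.nil)))))))) (nat_lit 44) (nat_lit 4),
  Rule.mk (nat_lit 1) (nat_lit 148) (Steps.bwd (nat_lit 1) (Steps.bwd (nat_lit 1) (Steps.bwd (nat_lit 4) (Steps.bwd (nat_lit 5) (Steps.bwd (nat_lit 3) (Steps.bwd (nat_lit 2) (Steps.bwd (nat_lit 7) (Steps.bwd (nat_lit 9) (Steps.fwd (nat_lit 28672) Steps.nil))))))))) (nat_lit 46) (nat_lit 2),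
  Rule.mk (nat_lit 9) (nat_lit 148) (Steps.bwd (nat_lit 8) (Steps.bwd (nat_lit 9) (Steps.bwd (nat_lit 8) (Steps.bwd (nat_lit 9) (Steps.bwd (nat_lit 8) (Steps.bwd (nat_lit 9) (Steps.bwd (nat_lit 8) (Steps.bwd (nat_lit 9) (Steps.fwd (nat_lit 28672) Steps.nil))))))))) (nat_lit 48) (nat_lit 0),
  Rule.mk (nat_lit 2) (nat_lit 148) (Steps.bwd (nat_lit 2) (Steps.bwd (nat_lit 4) (Steps.bwd (nat_lit 6) (Steps.bwd (nat_lit 14) (Steps.bwd (nat_lit 12) (Steps.bwd (nat_lit 5) (Steps.fwd (nat_lit 49152) (Steps.bwd (nat_lit 13) (Steps.bwd (nat_lit 3) Steps.nil))))))))) (nat_lit 52) (nat_lit 2),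
  Rule.mk (nat_lit 7) (nat_lit 118) (Steps.fwd (nat_lit 40960) (Steps.fwd (nat_lit 53248) (Steps.fwd (nat_lit 45056) (Steps.bwd (nat_lit 5) (Steps.bwd (nat_lit 3) (Steps.bwd (nat_lit 2) (Steps.bwd (nat_lit 2) Steps.nil))))))) (nat_lit 33) (nat_lit 1),
  Rule.mk (nat_lit 4) (nat_lit 103) (Steps.fwd (nat_lit 4096) (Steps.bwd (nat_lit 2) (Steps.bwd (nat_lit 2) (Steps.fwd (nat_lit 12288) (Steps.fwd (nat_lit 32768) (Steps.bwd (nat_lit 1) Steps.nil)))))) (nat_lit 28) (nat_lit 1),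
  Rule.mk (nat_lit 3) (nat_lit 103) (Steps.fwd (nat_lit 4096) (Steps.bwd (nat_lit 8) (Steps.bwd (nat_lit 3) (Steps.bwd (nat_lit 1) (Steps.bwd (nat_lit 1) (Steps.bwd (nat_lit 1) Steps.nil)))))) (nat_lit 29) (nat_lit 0),
  Rule.mk (nat_lit 5) (nat_lit 58) (Steps.bwd (nat_lit 4) (Steps.fwd (nat_lit 53248) (Steps.fwd (nat_lit 16384) Steps.nil))) (nat_lit 12) (nat_lit 2),
  Rule.mk (nat_lit 9) (nat_lit 88) (Steps.bwd (nat_lit 6) (Steps.fwd (nat_lit 53248) (Steps.fwd (nat_lit 45056) (Steps.fwd (nat_lit 57344) (Steps.fwd (nat_lit 24576) Steps.nil))))) (nat_lit 24) (nat_lit 1),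
  Rule.mk (nat_lit 10) (nat_lit 88) (Steps.bwd (nat_lit 6) (Steps.fwd (nat_lit 53248) (Steps.bwd (nat_lit 11) (Steps.bwd (nat_lit 13) (Steps.fwd (nat_lit 24576) Steps.nil))))) (nat_lit 25) (nat_lit 0),
  Rule.mk (nat_lit 3) (nat_lit 88) (Steps.bwd (nat_lit 2) (Steps.bwd (nat_lit 10) (Steps.fwd (nat_lit 28672) (Steps.bwd (nat_lit 9) (Steps.fwd (nat_lit 8192) Steps.nil))))) (nat_lit 20) (nat_lit 2),
  Rule.mk (nat_lit 2) (nat_lit 103) (Steps.bwd (nat_lit 2) (Steps.fwd (nat_lit 4096) (Steps.bwd (nat_lit 4) (Steps.bwd (nat_lit 7) (Steps.bwd (nat_lit 1) (Steps.bwd (nat_lit 4) Steps.nil)))))) (nat_lit 28) (nat_lit 2),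
  Rule.mk (nat_lit 2) (nat_lit 73) (Steps.bwd (nat_lit 2) (Steps.bwd (nat_lit 6) (Steps.fwd (nat_lit 12288) (Steps.bwd (nat_lit 7) Steps.nil)))) (nat_lit 14) (nat_lit 3),
  Rule.mk (nat_lit 6) (nat_lit 118) (Steps.bwd (nat_lit 11) (Steps.bwd (nat_lit 13) (Steps.bwd (nat_lit 10) (Steps.fwd (nat_lit 28672) (Steps.fwd (nat_lit 8192) (Steps.fwd (nat_lit 8192) (Steps.bwd (nat_lit 4) Steps.nil))))))) (nat_lit 32) (nat_lit 4)]
noncomputable def R_2 : List (Rule) := [Rule.mk (nat_lit 6) (nat_lit 118) (Steps.bwd (nat_lit 11) (Steps.bwd (nat_lit 5) (Steps.bwd (nat_lit 3) (Steps.fwd (nat_lit 20480) (Steps.bwd (nat_lit 11) (Steps.bwd (nat_lit 5) (Steps.fwd (nat_lit 16384) Steps.nil))))))) (nat_lit 34) (nat_lit 2),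
  Rule.mk (nat_lit 4) (nat_lit 58) (Steps.bwd (nat_lit 13) (Steps.fwd (nat_lit 16384) (Steps.bwd (nat_lit 6) Steps.nil))) (nat_lit 13) (nat_lit 0),
  Rule.mk (nat_lit 7) (nat_lit 73) (Steps.bwd (nat_lit 2) (Steps.fwd (nat_lit 4096) (Steps.bwd (nat_lit 6) (Steps.bwd (nat_lit 4) Steps.nil)))) (nat_lit 14) (nat_lit 2),
  Rule.mk (nat_lit 4) (nat_lit 43) (Steps.bwd (nat_lit 4) (Steps.fwd (nat_lit 12288) Steps.nil)) (nat_lit 1) (nat_lit 0),
  Rule.mk (nat_lit 12) (nat_lit 73) (Steps.fwd (nat_lit 40960) (Steps.fwd (nat_lit 20480) (Steps.fwd (nat_lit 45056) (Steps.bwd (nat_lit 6) Steps.nil)))) (nat_lit 19) (nat_lit 0),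
  Rule.mk (nat_lit 5) (nat_lit 43) (Steps.bwd (nat_lit 5) (Steps.fwd (nat_lit 24576) Steps.nil)) (nat_lit 2) (nat_lit 0),
  Rule.mk (nat_lit 9) (nat_lit 118) (Steps.bwd (nat_lit 14) (Steps.bwd (nat_lit 11) (Steps.bwd (nat_lit 13) (Steps.bwd (nat_lit 9) (Steps.fwd (nat_lit 53248) (Steps.fwd (nat_lit 49152) (Steps.fwd (nat_lit 57344) Steps.nil))))))) (nat_lit 36) (nat_lit 1),
  Rule.mk (nat_lit 6) (nat_lit 88) (Steps.bwd (nat_lit 14) (Steps.bwd (nat_lit 11) (Steps.bwd (nat_lit 13) (Steps.bwd (nat_lit 5) (Steps.fwd (nat_lit 36864) Steps.nil))))) (nat_lit 25) (nat_lit 1),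
  Rule.mk (nat_lit 12) (nat_lit 88) (Steps.fwd (nat_lit 57344) (Steps.bwd (nat_lit 5) (Steps.bwd (nat_lit 9) (Steps.bwd (nat_lit 6) (Steps.bwd (nat_lit 14) Steps.nil))))) (nat_lit 24) (nat_lit 4),
  Rule.mk (nat_lit 9) (nat_lit 88) (Steps.bwd (nat_lit 11) (Steps.fwd (nat_lit 53248) (Steps.bwd (nat_lit 12) (Steps.bwd (nat_lit 13) (Steps.bwd (nat_lit 12) Steps.nil))))) (nat_lit 26) (nat_lit 3),
  Rule.mk (nat_lit 14) (nat_lit 118) (Steps.bwd (nat_lit 12) (Steps.bwd (nat_lit 10) (Steps.bwd (nat_lit 8) (Steps.fwd (nat_lit 53248) (Steps.fwd (nat_lit 45056) (Steps.fwd (nat_lit 36864) (Steps.fwd (nat_lit 28672) Steps.nil))))))) (nat_lit 40) (nat_lit 2),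
  Rule.mk (nat_lit 10) (nat_lit 118) (Steps.bwd (nat_lit 8) (Steps.bwd (nat_lit 2) (Steps.bwd (nat_lit 2) (Steps.bwd (nat_lit 7) (Steps.bwd (nat_lit 2) (Steps.bwd (nat_lit 5) (Steps.bwd (nat_lit 1) Steps.nil))))))) (nat_lit 42) (nat_lit 3),
  Rule.mk (nat_lit 7) (nat_lit 133) (Steps.bwd (nat_lit 9) (Steps.bwd (nat_lit 6) (Steps.fwd (nat_lit 49152) (Steps.bwd (nat_lit 13) (Steps.fwd (nat_lit 45056) (Steps.fwd (nat_lit 12288) (Steps.fwd (nat_lit 32768) (Steps.bwd (nat_lit 4) Steps.nil)))))))) (nat_lit 44) (nat_lit 4),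
  Rule.mk (nat_lit 12) (nat_lit 73) (Steps.bwd (nat_lit 9) (Steps.bwd (nat_lit 6) (Steps.bwd (nat_lit 12) (Steps.fwd (nat_lit 20480) Steps.nil)))) (nat_lit 19) (nat_lit 0),
  Rule.mk (nat_lit 6) (nat_lit 43) (Steps.bwd (nat_lit 6) (Steps.fwd (nat_lit 20480) Steps.nil)) (nat_lit 3) (nat_lit 0),
  Rule.mk (nat_lit 13) (nat_lit 148) (Steps.bwd (nat_lit 12) (Steps.bwd (nat_lit 13) (Steps.bwd (nat_lit 12) (Steps.bwd (nat_lit 13) (Steps.bwd (nat_lit 12) (Steps.bwd (nat_lit 13) (Steps.fwd (nat_lit 45056) (Steps.fwd (nat_lit 57344) (Steps.fwd (nat_lit 45056) Steps.nil))))))))) (nat_lit 50) (nat_lit 0),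
  Rule.mk (nat_lit 0) (nat_lit 103) (Steps.fwd (nat_lit 49152) (Steps.fwd (nat_lit 53248) (Steps.bwd (nat_lit 11) (Steps.fwd (nat_lit 57344) (Steps.bwd (nat_lit 12) (Steps.bwd (nat_lit 10) Steps.nil)))))) (nat_lit 27) (nat_lit 4),
  Rule.mk (nat_lit 12) (nat_lit 43) (Steps.bwd (nat_lit 0) (Steps.fwd (nat_lit 49152) Steps.nil)) (nat_lit 56) (nat_lit 0),
  Rule.mk (nat_lit 14) (nat_lit 43) (Steps.bwd (nat_lit 0) (Steps.bwd (nat_lit 13) Steps.nil)) (nat_lit 56) (nat_lit 0),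
  Rule.mk (nat_lit 4) (nat_lit 148) (Steps.bwd (nat_lit 6) (Steps.bwd (nat_lit 14) (Steps.bwd (nat_lit 12) (Steps.bwd (nat_lit 5) (Steps.bwd (nat_lit 11) (Steps.bwd (nat_lit 13) (Steps.fwd (nat_lit 16384) (Steps.fwd (nat_lit 4096) (Steps.bwd (nat_lit 2) Steps.nil))))))))) (nat_lit 52) (nat_lit 4),
  Rule.mk (nat_lit 1) (nat_lit 343) (Steps.bwd (nat_lit 1) (Steps.bwd (nat_lit 1) (Steps.bwd (nat_lit 1) (Steps.bwd (nat_lit 1) (Steps.bwd (nat_lit 1) (Steps.bwd (nat_lit 1) (Steps.bwd (nat_lit 1) (Steps.bwd (nat_lit 1) (Steps.bwd (nat_lit 1) (Steps.bwd (nat_lit 1) (Steps.bwd (nat_lit 1) (Steps.bwd (nat_lit 1) (Steps.bwd (nat_lit 1) (Steps.bwd (nat_lit 1) (Steps.bwd (nat_lit 1) (Steps.bwd (nat_lit 1) (Steps.bwd (nat_lit 1) (Steps.bwd (nat_lit 1) (Steps.bwd (nat_lit 1) (Steps.fwd (nat_lit 8192) (Steps.fwd (nat_lit 8192) (Steps.bwd (nat_lit 1) Steps.nil)))))))))))))))))))))) (nat_lit 54) (nat_lit 0),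
  Rule.mk (nat_lit 3) (nat_lit 103) (Steps.bwd (nat_lit 2) (Steps.fwd (nat_lit 28672) (Steps.fwd (nat_lit 16384) (Steps.bwd (nat_lit 1) (Steps.bwd (nat_lit 1) (Steps.bwd (nat_lit 1) Steps.nil)))))) (nat_lit 29) (nat_lit 0),
  Rule.mk (nat_lit 0) (nat_lit 103) (Steps.bwd (nat_lit 1) (Steps.bwd (nat_lit 3) (Steps.bwd (nat_lit 2) (Steps.fwd (nat_lit 36864) (Steps.fwd (nat_lit 28672) (Steps.fwd (nat_lit 40960) Steps.nil)))))) (nat_lit 20) (nat_lit 0),
  Rule.mk (nat_lit 2) (nat_lit 43) (Steps.bwd (nat_lit 0) (Steps.bwd (nat_lit 1) Steps.nil)) (nat_lit 56) (nat_lit 0),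
  Rule.mk (nat_lit 0) (nat_lit 118) (Steps.bwd (nat_lit 1) (Steps.bwd (nat_lit 1) (Steps.bwd (nat_lit 1) (Steps.fwd (nat_lit 16384) (Steps.fwd (nat_lit 4096) (Steps.fwd (nat_lit 28672) (Steps.bwd (nat_lit 3) Steps.nil))))))) (nat_lit 29) (nat_lit 3),
  Rule.mk (nat_lit 0) (nat_lit 58) (Steps.bwd (nat_lit 1) (Steps.fwd (nat_lit 0) (Steps.bwd (nat_lit 2) Steps.nil))) (nat_lit 56) (nat_lit 0),
  Rule.mk (nat_lit 5) (nat_lit 43) (Steps.bwd (nat_lit 0) (Steps.fwd (nat_lit 20480) Steps.nil)) (nat_lit 56) (nat_lit 0),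
  Rule.mk (nat_lit 14) (nat_lit 58) (Steps.fwd (nat_lit 16384) (Steps.bwd (nat_lit 5) (Steps.fwd (nat_lit 12288) Steps.nil))) (nat_lit 12) (nat_lit 0),
  Rule.mk (nat_lit 5) (nat_lit 73) (Steps.bwd (nat_lit 1) (Steps.bwd (nat_lit 1) (Steps.fwd (nat_lit 28672) (Steps.bwd (nat_lit 3) Steps.nil)))) (nat_lit 15) (nat_lit 1),
  Rule.mk (nat_lit 14) (nat_lit 58) (Steps.bwd (nat_lit 3) (Steps.bwd (nat_lit 5) (Steps.bwd (nat_lit 4) Steps.nil))) (nat_lit 12) (nat_lit 0),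
  Rule.mk (nat_lit 4) (nat_lit 58) (Steps.bwd (nat_lit 14) (Steps.fwd (nat_lit 16384) (Steps.bwd (nat_lit 5) Steps.nil))) (nat_lit 12) (nat_lit 3),
  Rule.mk (nat_lit 5) (nat_lit 73) (Steps.fwd (nat_lit 36864) (Steps.fwd (nat_lit 49152) (Steps.fwd (nat_lit 24576) (Steps.bwd (nat_lit 11) Steps.nil)))) (nat_lit 18) (nat_lit 4),
  Rule.mk (nat_lit 7) (nat_lit 73) (Steps.bwd (nat_lit 2) (Steps.bwd (nat_lit 2) (Steps.fwd (nat_lit 20480) (Steps.bwd (nat_lit 4) Steps.nil)))) (nat_lit 14) (nat_lit 2),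
  Rule.mk (nat_lit 8) (nat_lit 73) (Steps.bwd (nat_lit 11) (Steps.bwd (nat_lit 6) (Steps.bwd (nat_lit 14) (Steps.bwd (nat_lit 4) Steps.nil)))) (nat_lit 16) (nat_lit 2),
  Rule.mk (nat_lit 5) (nat_lit 73) (Steps.bwd (nat_lit 11) (Steps.bwd (nat_lit 5) (Steps.bwd (nat_lit 10) (Steps.bwd (nat_lit 11) Steps.nil)))) (nat_lit 18) (nat_lit 2),
  Rule.mk (nat_lit 5) (nat_lit 43) (Steps.fwd (nat_lit 24576) (Steps.bwd (nat_lit 5) Steps.nil)) (nat_lit 2) (nat_lit 0),
  Rule.mk (nat_lit 4) (nat_lit 88) (Steps.bwd (nat_lit 10) (Steps.bwd (nat_lit 6) (Steps.bwd (nat_lit 1) (Steps.bwd (nat_lit 7) (Steps.bwd (nat_lit 1) Steps.nil))))) (nat_lit 22) (nat_lit 3),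
  Rule.mk (nat_lit 2) (nat_lit 88) (Steps.bwd (nat_lit 10) (Steps.bwd (nat_lit 7) (Steps.bwd (nat_lit 9) (Steps.bwd (nat_lit 1) (Steps.bwd (nat_lit 4) Steps.nil))))) (nat_lit 21) (nat_lit 0),
  Rule.mk (nat_lit 0) (nat_lit 118) (Steps.fwd (nat_lit 32768) (Steps.fwd (nat_lit 8192) (Steps.bwd (nat_lit 4) (Steps.bwd (nat_lit 2) (Steps.fwd (nat_lit 4096) (Steps.fwd (nat_lit 4096) (Steps.bwd (nat_lit 4) Steps.nil))))))) (nat_lit 28) (nat_lit 5),
  Rule.mk (nat_lit 10) (nat_lit 43) (Steps.bwd (nat_lit 0) (Steps.bwd (nat_lit 9) Steps.nil)) (nat_lit 56) (nat_lit 0),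
  Rule.mk (nat_lit 1) (nat_lit 73) (Steps.bwd (nat_lit 1) (Steps.fwd (nat_lit 28672) (Steps.bwd (nat_lit 3) (Steps.fwd (nat_lit 24576) Steps.nil)))) (nat_lit 15) (nat_lit 2),
  Rule.mk (nat_lit 5) (nat_lit 73) (Steps.bwd (nat_lit 1) (Steps.fwd (nat_lit 8192) (Steps.fwd (nat_lit 28672) (Steps.bwd (nat_lit 3) Steps.nil)))) (nat_lit 15) (nat_lit 1),
  Rule.mk (nat_lit 0) (nat_lit 58) (Steps.bwd (nat_lit 6) (Steps.fwd (nat_lit 20480) (Steps.fwd (nat_lit 20480) Steps.nil))) (nat_lit 3) (nat_lit 0),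
  Rule.mk (nat_lit 5) (nat_lit 43) (Steps.bwd (nat_lit 0) (Steps.bwd (nat_lit 6) Steps.nil)) (nat_lit 56) (nat_lit 0),
  Rule.mk (nat_lit 10) (nat_lit 43) (Steps.bwd (nat_lit 0) (Steps.fwd (nat_lit 40960) Steps.nil)) (nat_lit 56) (nat_lit 0),
  Rule.mk (nat_lit 14) (nat_lit 88) (Steps.bwd (nat_lit 12) (Steps.bwd (nat_lit 13) (Steps.bwd (nat_lit 5) (Steps.fwd (nat_lit 40960) (Steps.fwd (nat_lit 20480) Steps.nil))))) (nat_lit 24) (nat_lit 3),
  Rule.mk (nat_lit 12) (nat_lit 88) (Steps.bwd (nat_lit 9) (Steps.bwd (nat_lit 11) (Steps.bwd (nat_lit 14) (Steps.fwd (nat_lit 45056) (Steps.fwd (nat_lit 57344) Steps.nil))))) (nat_lit 26) (nat_lit 2),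
  Rule.mk (nat_lit 2) (nat_lit 103) (Steps.bwd (nat_lit 2) (Steps.bwd (nat_lit 2) (Steps.bwd (nat_lit 4) (Steps.bwd (nat_lit 7) (Steps.bwd (nat_lit 1) (Steps.bwd (nat_lit 4) Steps.nil)))))) (nat_lit 28) (nat_lit 2),
  Rule.mk (nat_lit 10) (nat_lit 118) (Steps.bwd (nat_lit 7) (Steps.bwd (nat_lit 9) (Steps.bwd (nat_lit 13) (Steps.bwd (nat_lit 10) (Steps.bwd (nat_lit 7) (Steps.bwd (nat_lit 9) (Steps.fwd (nat_lit 57344) Steps.nil))))))) (nat_lit 38) (nat_lit 2),
  Rule.mk (nat_lit 2) (nat_lit 88) (Steps.bwd (nat_lit 10) (Steps.bwd (nat_lit 7) (Steps.bwd (nat_lit 9) (Steps.fwd (nat_lit 8192) (Steps.fwd (nat_lit 12288) Steps.nil))))) (nat_lit 21) (nat_lit 0),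
  Rule.mk (nat_lit 14) (nat_lit 118) (Steps.bwd (nat_lit 12) (Steps.bwd (nat_lit 10) (Steps.bwd (nat_lit 8) (Steps.bwd (nat_lit 14) (Steps.bwd (nat_lit 12) (Steps.bwd (nat_lit 10) (Steps.fwd (nat_lit 28672) Steps.nil))))))) (nat_lit 40) (nat_lit 2),
  Rule.mk (nat_lit 3) (nat_lit 58) (Steps.bwd (nat_lit 5) (Steps.fwd (nat_lit 12288) (Steps.bwd (nat_lit 14) Steps.nil))) (nat_lit 12) (nat_lit 1),
  Rule.mk (nat_lit 10) (nat_lit 118) (Steps.bwd (nat_lit 8) (Steps.fwd (nat_lit 4096) (Steps.fwd (nat_lit 4096) (Steps.bwd (nat_lit 7) (Steps.bwd (nat_lit 2) (Steps.bwd (nat_lit 5) (Steps.fwd (nat_lit 8192) Steps.nil))))))) (nat_lit 42) (nat_lit 3),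
  Rule.mk (nat_lit 4) (nat_lit 133) (Steps.bwd (nat_lit 7) (Steps.bwd (nat_lit 9) (Steps.bwd (nat_lit 6) (Steps.bwd (nat_lit 11) (Steps.bwd (nat_lit 13) (Steps.fwd (nat_lit 45056) (Steps.bwd (nat_lit 4) (Steps.bwd (nat_lit 7) Steps.nil)))))))) (nat_lit 44) (nat_lit 3),
  Rule.mk (nat_lit 4) (nat_lit 148) (Steps.bwd (nat_lit 5) (Steps.bwd (nat_lit 3) (Steps.bwd (nat_lit 2) (Steps.bwd (nat_lit 7) (Steps.bwd (nat_lit 9) (Steps.fwd (nat_lit 28672) (Steps.bwd (nat_lit 1) (Steps.bwd (nat_lit 1) (Steps.bwd (nat_lit 1) Steps.nil))))))))) (nat_lit 46) (nat_lit 5),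
  Rule.mk (nat_lit 9) (nat_lit 148) (Steps.bwd (nat_lit 8) (Steps.bwd (nat_lit 9) (Steps.bwd (nat_lit 8) (Steps.bwd (nat_lit 9) (Steps.bwd (nat_lit 8) (Steps.bwd (nat_lit 9) (Steps.fwd (nat_lit 28672) (Steps.fwd (nat_lit 40960) (Steps.fwd (nat_lit 28672) Steps.nil))))))))) (nat_lit 48) (nat_lit 0),
  Rule.mk (nat_lit 9) (nat_lit 88) (Steps.fwd (nat_lit 49152) (Steps.bwd (nat_lit 14) (Steps.fwd (nat_lit 45056) (Steps.bwd (nat_lit 13) (Steps.bwd (nat_lit 12) Steps.nil))))) (nat_lit 26) (nat_lit 3),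
  Rule.mk (nat_lit 2) (nat_lit 148) (Steps.bwd (nat_lit 2) (Steps.bwd (nat_lit 4) (Steps.bwd (nat_lit 6) (Steps.bwd (nat_lit 14) (Steps.bwd (nat_lit 12) (Steps.bwd (nat_lit 5) (Steps.fwd (nat_lit 49152) (Steps.fwd (nat_lit 57344) (Steps.bwd (nat_lit 3) Steps.nil))))))))) (nat_lit 52) (nat_lit 2),
  Rule.mk (nat_lit 1) (nat_lit 343) (Steps.bwd (nat_lit 1) (Steps.bwd (nat_lit 1) (Steps.bwd (nat_lit 1) (Steps.bwd (nat_lit 1) (Steps.bwd (nat_lit 1) (Steps.bwd (nat_lit 1) (Steps.bwd (nat_lit 1) (Steps.bwd (nat_lit 1) (Steps.bwd (nat_lit 1) (Steps.bwd (nat_lit 1) (Steps.bwd (nat_lit 1) (Steps.bwd (nat_lit 1) (Steps.bwd (nat_lit 1) (Steps.bwd (nat_lit 1) (Steps.bwd (nat_lit 1) (Steps.fwd (nat_lit 8192) (Steps.bwd (nat_lit 1) (Steps.bwd (nat_lit 1) (Steps.fwd (nat_lit 8192) (Steps.fwd (nat_lit 8192) (Steps.fwd (nat_lit 8192) (Steps.bwd (nat_lit 1) Steps.nil)))))))))))))))))))))) (nat_lit 54) (nat_lit 0),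
  Rule.mk (nat_lit 14) (nat_lit 88) (Steps.fwd (nat_lit 49152) (Steps.fwd (nat_lit 57344) (Steps.bwd (nat_lit 12) (Steps.bwd (nat_lit 10) (Steps.bwd (nat_lit 11) Steps.nil))))) (nat_lit 27) (nat_lit 0),
  Rule.mk (nat_lit 8) (nat_lit 103) (Steps.bwd (nat_lit 3) (Steps.bwd (nat_lit 1) (Steps.bwd (nat_lit 1) (Steps.fwd (nat_lit 8192) (Steps.bwd (nat_lit 3) (Steps.bwd (nat_lit 2) Steps.nil)))))) (nat_lit 29) (nat_lit 2),
  Rule.mk (nat_lit 2) (nat_lit 73) (Steps.bwd (nat_lit 2) (Steps.fwd (nat_lit 20480) (Steps.bwd (nat_lit 4) (Steps.bwd (nat_lit 7) Steps.nil)))) (nat_lit 14) (nat_lit 3),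
  Rule.mk (nat_lit 8) (nat_lit 73) (Steps.bwd (nat_lit 11) (Steps.bwd (nat_lit 6) (Steps.fwd (nat_lit 53248) (Steps.bwd (nat_lit 4) Steps.nil)))) (nat_lit 16) (nat_lit 2),
  Rule.mk (nat_lit 11) (nat_lit 43) (Steps.bwd (nat_lit 11) (Steps.fwd (nat_lit 49152) Steps.nil)) (nat_lit 8) (nat_lit 0)]
noncomputable def R_3 : List (Rule) := [Rule.mk (nat_lit 10) (nat_lit 88) (Steps.bwd (nat_lit 6) (Steps.fwd (nat_lit 8192) (Steps.bwd (nat_lit 7) (Steps.fwd (nat_lit 8192) (Steps.fwd (nat_lit 12288) Steps.nil))))) (nat_lit 22) (nat_lit 4),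
  Rule.mk (nat_lit 2) (nat_lit 103) (Steps.bwd (nat_lit 2) (Steps.bwd (nat_lit 2) (Steps.bwd (nat_lit 4) (Steps.bwd (nat_lit 7) (Steps.fwd (nat_lit 8192) (Steps.bwd (nat_lit 4) Steps.nil)))))) (nat_lit 28) (nat_lit 2),
  Rule.mk (nat_lit 4) (nat_lit 118) (Steps.bwd (nat_lit 6) (Steps.fwd (nat_lit 49152) (Steps.bwd (nat_lit 13) (Steps.bwd (nat_lit 10) (Steps.fwd (nat_lit 28672) (Steps.bwd (nat_lit 1) (Steps.bwd (nat_lit 1) Steps.nil))))))) (nat_lit 32) (nat_lit 3),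
  Rule.mk (nat_lit 5) (nat_lit 118) (Steps.bwd (nat_lit 3) (Steps.bwd (nat_lit 6) (Steps.bwd (nat_lit 11) (Steps.bwd (nat_lit 5) (Steps.bwd (nat_lit 3) (Steps.fwd (nat_lit 20480) (Steps.fwd (nat_lit 49152) Steps.nil))))))) (nat_lit 34) (nat_lit 0),
  Rule.mk (nat_lit 11) (nat_lit 118) (Steps.bwd (nat_lit 13) (Steps.bwd (nat_lit 9) (Steps.bwd (nat_lit 14) (Steps.fwd (nat_lit 49152) (Steps.fwd (nat_lit 57344) (Steps.fwd (nat_lit 40960) (Steps.fwd (nat_lit 53248) Steps.nil))))))) (nat_lit 36) (nat_lit 3),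
  Rule.mk (nat_lit 4) (nat_lit 133) (Steps.bwd (nat_lit 7) (Steps.bwd (nat_lit 9) (Steps.bwd (nat_lit 6) (Steps.bwd (nat_lit 11) (Steps.fwd (nat_lit 57344) (Steps.fwd (nat_lit 45056) (Steps.bwd (nat_lit 4) (Steps.bwd (nat_lit 7) Steps.nil)))))))) (nat_lit 44) (nat_lit 3),
  Rule.mk (nat_lit 11) (nat_lit 73) (Steps.fwd (nat_lit 24576) (Steps.bwd (nat_lit 11) (Steps.fwd (nat_lit 24576) (Steps.fwd (nat_lit 36864) Steps.nil)))) (nat_lit 18) (nat_lit 1),
  Rule.mk (nat_lit 5) (nat_lit 148) (Steps.bwd (nat_lit 3) (Steps.bwd (nat_lit 2) (Steps.bwd (nat_lit 7) (Steps.bwd (nat_lit 9) (Steps.fwd (nat_lit 28672) (Steps.bwd (nat_lit 1) (Steps.bwd (nat_lit 1) (Steps.bwd (nat_lit 1) (Steps.fwd (nat_lit 12288) Steps.nil))))))))) (nat_lit 46) (nat_lit 6),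
  Rule.mk (nat_lit 1) (nat_lit 88) (Steps.bwd (nat_lit 3) (Steps.bwd (nat_lit 2) (Steps.fwd (nat_lit 36864) (Steps.fwd (nat_lit 28672) (Steps.bwd (nat_lit 9) Steps.nil))))) (nat_lit 20) (nat_lit 1),
  Rule.mk (nat_lit 5) (nat_lit 58) (Steps.bwd (nat_lit 4) (Steps.fwd (nat_lit 53248) (Steps.bwd (nat_lit 3) Steps.nil))) (nat_lit 12) (nat_lit 2),
  Rule.mk (nat_lit 3) (nat_lit 88) (Steps.bwd (nat_lit 2) (Steps.bwd (nat_lit 10) (Steps.bwd (nat_lit 8) (Steps.fwd (nat_lit 40960) (Steps.fwd (nat_lit 8192) Steps.nil))))) (nat_lit 20) (nat_lit 2),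
  Rule.mk (nat_lit 3) (nat_lit 43) (Steps.fwd (nat_lit 16384) (Steps.bwd (nat_lit 3) Steps.nil)) (nat_lit 0) (nat_lit 0),
  Rule.mk (nat_lit 1) (nat_lit 88) (Steps.bwd (nat_lit 4) (Steps.fwd (nat_lit 36864) (Steps.fwd (nat_lit 20480) (Steps.fwd (nat_lit 8192) (Steps.bwd (nat_lit 7) Steps.nil))))) (nat_lit 22) (nat_lit 2),
  Rule.mk (nat_lit 6) (nat_lit 118) (Steps.bwd (nat_lit 11) (Steps.bwd (nat_lit 13) (Steps.bwd (nat_lit 10) (Steps.fwd (nat_lit 28672) (Steps.fwd (nat_lit 8192) (Steps.bwd (nat_lit 1) (Steps.bwd (nat_lit 4) Steps.nil))))))) (nat_lit 32) (nat_lit 4),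
  Rule.mk (nat_lit 6) (nat_lit 118) (Steps.bwd (nat_lit 11) (Steps.bwd (nat_lit 5) (Steps.bwd (nat_lit 3) (Steps.bwd (nat_lit 6) (Steps.bwd (nat_lit 11) (Steps.bwd (nat_lit 5) (Steps.bwd (nat_lit 3) Steps.nil))))))) (nat_lit 34) (nat_lit 2),
  Rule.mk (nat_lit 4) (nat_lit 58) (Steps.bwd (nat_lit 13) (Steps.bwd (nat_lit 3) (Steps.bwd (nat_lit 6) Steps.nil))) (nat_lit 13) (nat_lit 0),
  Rule.mk (nat_lit 14) (nat_lit 118) (Steps.bwd (nat_lit 11) (Steps.bwd (nat_lit 13) (Steps.bwd (nat_lit 9) (Steps.bwd (nat_lit 14) (Steps.bwd (nat_lit 11) (Steps.bwd (nat_lit 13) (Steps.bwd (nat_lit 9) Steps.nil))))))) (nat_lit 36) (nat_lit 2),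
  Rule.mk (nat_lit 10) (nat_lit 118) (Steps.bwd (nat_lit 7) (Steps.bwd (nat_lit 9) (Steps.bwd (nat_lit 13) (Steps.bwd (nat_lit 10) (Steps.fwd (nat_lit 32768) (Steps.fwd (nat_lit 40960) (Steps.bwd (nat_lit 13) Steps.nil))))))) (nat_lit 38) (nat_lit 2),
  Rule.mk (nat_lit 2) (nat_lit 88) (Steps.bwd (nat_lit 10) (Steps.bwd (nat_lit 8) (Steps.fwd (nat_lit 40960) (Steps.fwd (nat_lit 8192) (Steps.bwd (nat_lit 3) Steps.nil))))) (nat_lit 20) (nat_lit 3),
  Rule.mk (nat_lit 1) (nat_lit 148) (Steps.bwd (nat_lit 4) (Steps.bwd (nat_lit 5) (Steps.bwd (nat_lit 3) (Steps.bwd (nat_lit 2) (Steps.fwd (nat_lit 32768) (Steps.fwd (nat_lit 40960) (Steps.fwd (nat_lit 28672) (Steps.fwd (nat_lit 8192) (Steps.fwd (nat_lit 8192) Steps.nil))))))))) (nat_lit 46) (nat_lit 4),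
  Rule.mk (nat_lit 9) (nat_lit 148) (Steps.bwd (nat_lit 8) (Steps.bwd (nat_lit 9) (Steps.bwd (nat_lit 8) (Steps.bwd (nat_lit 9) (Steps.bwd (nat_lit 8) (Steps.bwd (nat_lit 9) (Steps.bwd (nat_lit 8) (Steps.fwd (nat_lit 40960) (Steps.fwd (nat_lit 28672) Steps.nil))))))))) (nat_lit 48) (nat_lit 0),
  Rule.mk (nat_lit 2) (nat_lit 148) (Steps.bwd (nat_lit 4) (Steps.bwd (nat_lit 6) (Steps.bwd (nat_lit 14) (Steps.bwd (nat_lit 12) (Steps.bwd (nat_lit 5) (Steps.bwd (nat_lit 11) (Steps.bwd (nat_lit 13) (Steps.bwd (nat_lit 3) (Steps.bwd (nat_lit 2) Steps.nil))))))))) (nat_lit 52) (nat_lit 3),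
  Rule.mk (nat_lit 3) (nat_lit 58) (Steps.bwd (nat_lit 5) (Steps.bwd (nat_lit 4) (Steps.bwd (nat_lit 14) Steps.nil))) (nat_lit 12) (nat_lit 1),
  Rule.mk (nat_lit 0) (nat_lit 88) (Steps.fwd (nat_lit 32768) (Steps.fwd (nat_lit 4096) (Steps.fwd (nat_lit 4096) (Steps.fwd (nat_lit 20480) (Steps.fwd (nat_lit 12288) Steps.nil))))) (nat_lit 14) (nat_lit 1),
  Rule.mk (nat_lit 1) (nat_lit 103) (Steps.fwd (nat_lit 8192) (Steps.fwd (nat_lit 8192) (Steps.bwd (nat_lit 3) (Steps.bwd (nat_lit 2) (Steps.bwd (nat_lit 8) (Steps.bwd (nat_lit 3) Steps.nil)))))) (nat_lit 29) (nat_lit 4),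
  Rule.mk (nat_lit 1) (nat_lit 73) (Steps.fwd (nat_lit 8192) (Steps.bwd (nat_lit 8) (Steps.bwd (nat_lit 3) (Steps.bwd (nat_lit 5) Steps.nil)))) (nat_lit 15) (nat_lit 2),
  Rule.mk (nat_lit 11) (nat_lit 73) (Steps.bwd (nat_lit 6) (Steps.fwd (nat_lit 53248) (Steps.bwd (nat_lit 4) (Steps.fwd (nat_lit 28672) Steps.nil)))) (nat_lit 16) (nat_lit 3),
  Rule.mk (nat_lit 4) (nat_lit 88) (Steps.bwd (nat_lit 10) (Steps.fwd (nat_lit 20480) (Steps.fwd (nat_lit 8192) (Steps.fwd (nat_lit 32768) (Steps.bwd (nat_lit 1) Steps.nil))))) (nat_lit 22) (nat_lit 3),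
  Rule.mk (nat_lit 2) (nat_lit 103) (Steps.bwd (nat_lit 2) (Steps.bwd (nat_lit 4) (Steps.bwd (nat_lit 7) (Steps.fwd (nat_lit 8192) (Steps.bwd (nat_lit 4) (Steps.bwd (nat_lit 2) Steps.nil)))))) (nat_lit 28) (nat_lit 3),
  Rule.mk (nat_lit 6) (nat_lit 73) (Steps.fwd (nat_lit 12288) (Steps.bwd (nat_lit 7) (Steps.bwd (nat_lit 2) (Steps.bwd (nat_lit 2) Steps.nil)))) (nat_lit 14) (nat_lit 0),
  Rule.mk (nat_lit 6) (nat_lit 73) (Steps.bwd (nat_lit 4) (Steps.bwd (nat_lit 7) (Steps.bwd (nat_lit 2) (Steps.fwd (nat_lit 4096) Steps.nil)))) (nat_lit 14) (nat_lit 0),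
  Rule.mk (nat_lit 8) (nat_lit 118) (Steps.fwd (nat_lit 8192) (Steps.fwd (nat_lit 8192) (Steps.bwd (nat_lit 7) (Steps.bwd (nat_lit 9) (Steps.fwd (nat_lit 4096) (Steps.bwd (nat_lit 6) (Steps.fwd (nat_lit 8192) Steps.nil))))))) (nat_lit 43) (nat_lit 2),
  Rule.mk (nat_lit 4) (nat_lit 58) (Steps.fwd (nat_lit 57344) (Steps.fwd (nat_lit 16384) (Steps.bwd (nat_lit 6) Steps.nil))) (nat_lit 13) (nat_lit 0),
  Rule.mk (nat_lit 7) (nat_lit 73) (Steps.bwd (nat_lit 2) (Steps.bwd (nat_lit 2) (Steps.bwd (nat_lit 6) (Steps.bwd (nat_lit 4) Steps.nil)))) (nat_lit 14) (nat_lit 2),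
  Rule.mk (nat_lit 4) (nat_lit 118) (Steps.bwd (nat_lit 6) (Steps.bwd (nat_lit 11) (Steps.bwd (nat_lit 13) (Steps.bwd (nat_lit 10) (Steps.bwd (nat_lit 8) (Steps.bwd (nat_lit 1) (Steps.bwd (nat_lit 1) Steps.nil))))))) (nat_lit 32) (nat_lit 3),
  Rule.mk (nat_lit 11) (nat_lit 118) (Steps.bwd (nat_lit 13) (Steps.bwd (nat_lit 9) (Steps.bwd (nat_lit 14) (Steps.bwd (nat_lit 11) (Steps.bwd (nat_lit 13) (Steps.fwd (nat_lit 40960) (Steps.fwd (nat_lit 53248) Steps.nil))))))) (nat_lit 36) (nat_lit 3),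
  Rule.mk (nat_lit 0) (nat_lit 103) (Steps.bwd (nat_lit 10) (Steps.bwd (nat_lit 7) (Steps.bwd (nat_lit 9) (Steps.bwd (nat_lit 1) (Steps.bwd (nat_lit 4) (Steps.fwd (nat_lit 4096) Steps.nil)))))) (nat_lit 21) (nat_lit 0),
  Rule.mk (nat_lit 13) (nat_lit 43) (Steps.bwd (nat_lit 0) (Steps.fwd (nat_lit 53248) Steps.nil)) (nat_lit 56) (nat_lit 0),
  Rule.mk (nat_lit 7) (nat_lit 88) (Steps.bwd (nat_lit 9) (Steps.bwd (nat_lit 1) (Steps.fwd (nat_lit 12288) (Steps.fwd (nat_lit 4096) (Steps.bwd (nat_lit 10) Steps.nil))))) (nat_lit 21) (nat_lit 2),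
  Rule.mk (nat_lit 10) (nat_lit 118) (Steps.bwd (nat_lit 8) (Steps.bwd (nat_lit 14) (Steps.bwd (nat_lit 12) (Steps.bwd (nat_lit 10) (Steps.fwd (nat_lit 28672) (Steps.bwd (nat_lit 14) (Steps.fwd (nat_lit 45056) Steps.nil))))))) (nat_lit 40) (nat_lit 0),
  Rule.mk (nat_lit 9) (nat_lit 88) (Steps.fwd (nat_lit 8192) (Steps.bwd (nat_lit 3) (Steps.fwd (nat_lit 4096) (Steps.bwd (nat_lit 10) (Steps.bwd (nat_lit 8) Steps.nil))))) (nat_lit 20) (nat_lit 0),
  Rule.mk (nat_lit 4) (nat_lit 73) (Steps.bwd (nat_lit 7) (Steps.fwd (nat_lit 4096) (Steps.bwd (nat_lit 2) (Steps.fwd (nat_lit 20480) Steps.nil)))) (nat_lit 14) (nat_lit 1),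
  Rule.mk (nat_lit 13) (nat_lit 58) (Steps.bwd (nat_lit 3) (Steps.fwd (nat_lit 20480) (Steps.bwd (nat_lit 4) Steps.nil))) (nat_lit 13) (nat_lit 1),
  Rule.mk (nat_lit 9) (nat_lit 133) (Steps.bwd (nat_lit 6) (Steps.bwd (nat_lit 11) (Steps.bwd (nat_lit 13) (Steps.fwd (nat_lit 45056) (Steps.bwd (nat_lit 4) (Steps.bwd (nat_lit 7) (Steps.fwd (nat_lit 12288) (Steps.fwd (nat_lit 32768) Steps.nil)))))))) (nat_lit 44) (nat_lit 5),
  Rule.mk (nat_lit 9) (nat_lit 43) (Steps.fwd (nat_lit 40960) (Steps.bwd (nat_lit 9) Steps.nil)) (nat_lit 6) (nat_lit 0),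
  Rule.mk (nat_lit 4) (nat_lit 43) (Steps.bwd (nat_lit 4) (Steps.bwd (nat_lit 4) Steps.nil)) (nat_lit 1) (nat_lit 0),
  Rule.mk (nat_lit 8) (nat_lit 148) (Steps.bwd (nat_lit 9) (Steps.bwd (nat_lit 8) (Steps.bwd (nat_lit 9) (Steps.bwd (nat_lit 8) (Steps.bwd (nat_lit 9) (Steps.bwd (nat_lit 8) (Steps.bwd (nat_lit 9) (Steps.fwd (nat_lit 28672) (Steps.bwd (nat_lit 9) Steps.nil))))))))) (nat_lit 48) (nat_lit 1),
  Rule.mk (nat_lit 5) (nat_lit 73) (Steps.fwd (nat_lit 8192) (Steps.fwd (nat_lit 8192) (Steps.bwd (nat_lit 8) (Steps.bwd (nat_lit 3) Steps.nil)))) (nat_lit 15) (nat_lit 1),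
  Rule.mk (nat_lit 0) (nat_lit 73) (Steps.fwd (nat_lit 16384) (Steps.fwd (nat_lit 20480) (Steps.fwd (nat_lit 12288) (Steps.fwd (nat_lit 57344) Steps.nil)))) (nat_lit 13) (nat_lit 1),
  Rule.mk (nat_lit 8) (nat_lit 43) (Steps.bwd (nat_lit 0) (Steps.bwd (nat_lit 7) Steps.nil)) (nat_lit 56) (nat_lit 0),
  Rule.mk (nat_lit 3) (nat_lit 148) (Steps.bwd (nat_lit 1) (Steps.fwd (nat_lit 8192) (Steps.bwd (nat_lit 4) (Steps.bwd (nat_lit 14) (Steps.fwd (nat_lit 45056) (Steps.fwd (nat_lit 20480) (Steps.bwd (nat_lit 11) (Steps.bwd (nat_lit 13) (Steps.fwd (nat_lit 24576) Steps.nil))))))))) (nat_lit 53) (nat_lit 7),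
  Rule.mk (nat_lit 11) (nat_lit 73) (Steps.bwd (nat_lit 5) (Steps.bwd (nat_lit 11) (Steps.bwd (nat_lit 5) (Steps.fwd (nat_lit 36864) Steps.nil)))) (nat_lit 18) (nat_lit 1),
  Rule.mk (nat_lit 13) (nat_lit 88) (Steps.bwd (nat_lit 5) (Steps.fwd (nat_lit 40960) (Steps.fwd (nat_lit 20480) (Steps.bwd (nat_lit 14) (Steps.bwd (nat_lit 12) Steps.nil))))) (nat_lit 24) (nat_lit 5),
  Rule.mk (nat_lit 4) (nat_lit 73) (Steps.bwd (nat_lit 8) (Steps.bwd (nat_lit 11) (Steps.fwd (nat_lit 20480) (Steps.fwd (nat_lit 53248) Steps.nil)))) (nat_lit 16) (nat_lit 1),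
  Rule.mk (nat_lit 11) (nat_lit 88) (Steps.bwd (nat_lit 14) (Steps.bwd (nat_lit 12) (Steps.fwd (nat_lit 57344) (Steps.fwd (nat_lit 45056) (Steps.bwd (nat_lit 9) Steps.nil))))) (nat_lit 26) (nat_lit 4),
  Rule.mk (nat_lit 8) (nat_lit 73) (Steps.bwd (nat_lit 11) (Steps.bwd (nat_lit 6) (Steps.bwd (nat_lit 14) (Steps.fwd (nat_lit 12288) Steps.nil)))) (nat_lit 16) (nat_lit 2),
  Rule.mk (nat_lit 3) (nat_lit 88) (Steps.bwd (nat_lit 2) (Steps.bwd (nat_lit 10) (Steps.bwd (nat_lit 8) (Steps.bwd (nat_lit 9) (Steps.bwd (nat_lit 1) Steps.nil))))) (nat_lit 20) (nat_lit 2),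
  Rule.mk (nat_lit 8) (nat_lit 103) (Steps.fwd (nat_lit 16384) (Steps.bwd (nat_lit 1) (Steps.fwd (nat_lit 8192) (Steps.bwd (nat_lit 1) (Steps.bwd (nat_lit 3) (Steps.bwd (nat_lit 2) Steps.nil)))))) (nat_lit 29) (nat_lit 2),
  Rule.mk (nat_lit 4) (nat_lit 88) (Steps.bwd (nat_lit 10) (Steps.bwd (nat_lit 6) (Steps.fwd (nat_lit 8192) (Steps.fwd (nat_lit 32768) (Steps.bwd (nat_lit 1) Steps.nil))))) (nat_lit 22) (nat_lit 3),
  Rule.mk (nat_lit 2) (nat_lit 103) (Steps.bwd (nat_lit 2) (Steps.bwd (nat_lit 2) (Steps.bwd (nat_lit 4) (Steps.bwd (nat_lit 7) (Steps.fwd (nat_lit 8192) (Steps.fwd (nat_lit 12288) Steps.nil)))))) (nat_lit 28) (nat_lit 2),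
  Rule.mk (nat_lit 3) (nat_lit 103) (Steps.bwd (nat_lit 9) (Steps.bwd (nat_lit 7) (Steps.bwd (nat_lit 5) (Steps.fwd (nat_lit 57344) (Steps.bwd (nat_lit 11) (Steps.fwd (nat_lit 4096) Steps.nil)))))) (nat_lit 30) (nat_lit 3),
  Rule.mk (nat_lit 4) (nat_lit 118) (Steps.bwd (nat_lit 6) (Steps.bwd (nat_lit 11) (Steps.fwd (nat_lit 57344) (Steps.fwd (nat_lit 36864) (Steps.bwd (nat_lit 8) (Steps.bwd (nat_lit 1) (Steps.bwd (nat_lit 1) Steps.nil))))))) (nat_lit 32) (nat_lit 3),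
  Rule.mk (nat_lit 4) (nat_lit 58) (Steps.fwd (nat_lit 57344) (Steps.bwd (nat_lit 3) (Steps.bwd (nat_lit 6) Steps.nil))) (nat_lit 13) (nat_lit 0),
  Rule.mk (nat_lit 11) (nat_lit 118) (Steps.bwd (nat_lit 13) (Steps.bwd (nat_lit 9) (Steps.fwd (nat_lit 53248) (Steps.fwd (nat_lit 49152) (Steps.fwd (nat_lit 57344) (Steps.fwd (nat_lit 40960) (Steps.fwd (nat_lit 53248) Steps.nil))))))) (nat_lit 36) (nat_lit 3)]
noncomputable def R_4 : List (Rule) := [Rule.mk (nat_lit 8) (nat_lit 118) (Steps.fwd (nat_lit 8192) (Steps.fwd (nat_lit 8192) (Steps.fwd (nat_lit 12288) (Steps.fwd (nat_lit 20480) (Steps.bwd (nat_lit 11) (Steps.fwd (nat_lit 57344) (Steps.bwd (nat_lit 10) Steps.nil))))))) (nat_lit 32) (nat_lit 0),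
  Rule.mk (nat_lit 8) (nat_lit 88) (Steps.fwd (nat_lit 40960) (Steps.fwd (nat_lit 8192) (Steps.bwd (nat_lit 3) (Steps.bwd (nat_lit 2) (Steps.bwd (nat_lit 10) Steps.nil))))) (nat_lit 20) (nat_lit 5),
  Rule.mk (nat_lit 10) (nat_lit 118) (Steps.bwd (nat_lit 8) (Steps.fwd (nat_lit 53248) (Steps.fwd (nat_lit 45056) (Steps.bwd (nat_lit 10) (Steps.bwd (nat_lit 8) (Steps.fwd (nat_lit 53248) (Steps.fwd (nat_lit 45056) Steps.nil))))))) (nat_lit 40) (nat_lit 0),
  Rule.mk (nat_lit 4) (nat_lit 118) (Steps.bwd (nat_lit 6) (Steps.bwd (nat_lit 11) (Steps.bwd (nat_lit 13) (Steps.fwd (nat_lit 36864) (Steps.fwd (nat_lit 28672) (Steps.fwd (nat_lit 8192) (Steps.bwd (nat_lit 1) Steps.nil))))))) (nat_lit 32) (nat_lit 3),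
  Rule.mk (nat_lit 3) (nat_lit 148) (Steps.bwd (nat_lit 2) (Steps.bwd (nat_lit 7) (Steps.bwd (nat_lit 9) (Steps.bwd (nat_lit 8) (Steps.bwd (nat_lit 1) (Steps.bwd (nat_lit 1) (Steps.fwd (nat_lit 8192) (Steps.fwd (nat_lit 12288) (Steps.bwd (nat_lit 5) Steps.nil))))))))) (nat_lit 46) (nat_lit 7),
  Rule.mk (nat_lit 13) (nat_lit 148) (Steps.bwd (nat_lit 12) (Steps.bwd (nat_lit 13) (Steps.bwd (nat_lit 12) (Steps.bwd (nat_lit 13) (Steps.bwd (nat_lit 12) (Steps.fwd (nat_lit 57344) (Steps.fwd (nat_lit 45056) (Steps.bwd (nat_lit 13) (Steps.bwd (nat_lit 12) Steps.nil))))))))) (nat_lit 50) (nat_lit 0),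
  Rule.mk (nat_lit 5) (nat_lit 88) (Steps.bwd (nat_lit 9) (Steps.bwd (nat_lit 6) (Steps.fwd (nat_lit 53248) (Steps.bwd (nat_lit 12) (Steps.bwd (nat_lit 13) Steps.nil))))) (nat_lit 24) (nat_lit 0),
  Rule.mk (nat_lit 9) (nat_lit 88) (Steps.fwd (nat_lit 49152) (Steps.fwd (nat_lit 53248) (Steps.bwd (nat_lit 12) (Steps.bwd (nat_lit 13) (Steps.bwd (nat_lit 12) Steps.nil))))) (nat_lit 26) (nat_lit 3),
  Rule.mk (nat_lit 14) (nat_lit 88) (Steps.bwd (nat_lit 12) (Steps.fwd (nat_lit 57344) (Steps.bwd (nat_lit 5) (Steps.bwd (nat_lit 9) (Steps.bwd (nat_lit 6) Steps.nil))))) (nat_lit 24) (nat_lit 3),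
  Rule.mk (nat_lit 0) (nat_lit 58) (Steps.bwd (nat_lit 13) (Steps.fwd (nat_lit 57344) (Steps.fwd (nat_lit 57344) Steps.nil))) (nat_lit 10) (nat_lit 0),
  Rule.mk (nat_lit 1) (nat_lit 343) (Steps.bwd (nat_lit 1) (Steps.bwd (nat_lit 1) (Steps.bwd (nat_lit 1) (Steps.bwd (nat_lit 1) (Steps.bwd (nat_lit 1) (Steps.bwd (nat_lit 1) (Steps.bwd (nat_lit 1) (Steps.bwd (nat_lit 1) (Steps.bwd (nat_lit 1) (Steps.bwd (nat_lit 1) (Steps.bwd (nat_lit 1) (Steps.bwd (nat_lit 1) (Steps.bwd (nat_lit 1) (Steps.bwd (nat_lit 1) (Steps.bwd (nat_lit 1) (Steps.bwd (nat_lit 1) (Steps.bwd (nat_lit 1) (Steps.bwd (nat_lit 1) (Steps.fwd (nat_lit 8192) (Steps.bwd (nat_lit 1) (Steps.bwd (nat_lit 1) (Steps.bwd (nat_lit 1) Steps.nil)))))))))))))))))))))) (nat_lit 54) (nat_lit 0),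
  Rule.mk (nat_lit 1) (nat_lit 103) (Steps.fwd (nat_lit 12288) (Steps.fwd (nat_lit 4096) (Steps.bwd (nat_lit 2) (Steps.bwd (nat_lit 2) (Steps.fwd (nat_lit 12288) (Steps.bwd (nat_lit 7) Steps.nil)))))) (nat_lit 28) (nat_lit 0),
  Rule.mk (nat_lit 10) (nat_lit 88) (Steps.bwd (nat_lit 6) (Steps.fwd (nat_lit 53248) (Steps.fwd (nat_lit 49152) (Steps.fwd (nat_lit 57344) (Steps.bwd (nat_lit 5) Steps.nil))))) (nat_lit 25) (nat_lit 0),
  Rule.mk (nat_lit 5) (nat_lit 73) (Steps.bwd (nat_lit 11) (Steps.bwd (nat_lit 5) (Steps.fwd (nat_lit 36864) (Steps.fwd (nat_lit 49152) Steps.nil)))) (nat_lit 18) (nat_lit 2),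
  Rule.mk (nat_lit 10) (nat_lit 73) (Steps.bwd (nat_lit 11) (Steps.bwd (nat_lit 5) (Steps.fwd (nat_lit 49152) (Steps.bwd (nat_lit 5) Steps.nil)))) (nat_lit 18) (nat_lit 0),
  Rule.mk (nat_lit 10) (nat_lit 43) (Steps.bwd (nat_lit 10) (Steps.bwd (nat_lit 10) Steps.nil)) (nat_lit 7) (nat_lit 0),
  Rule.mk (nat_lit 1) (nat_lit 88) (Steps.bwd (nat_lit 4) (Steps.bwd (nat_lit 10) (Steps.bwd (nat_lit 6) (Steps.bwd (nat_lit 1) (Steps.fwd (nat_lit 32768) Steps.nil))))) (nat_lit 22) (nat_lit 2),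
  Rule.mk (nat_lit 14) (nat_lit 88) (Steps.bwd (nat_lit 12) (Steps.fwd (nat_lit 57344) (Steps.bwd (nat_lit 5) (Steps.bwd (nat_lit 9) (Steps.fwd (nat_lit 20480) Steps.nil))))) (nat_lit 24) (nat_lit 3),
  Rule.mk (nat_lit 11) (nat_lit 88) (Steps.bwd (nat_lit 13) (Steps.bwd (nat_lit 5) (Steps.fwd (nat_lit 36864) (Steps.fwd (nat_lit 20480) (Steps.bwd (nat_lit 14) Steps.nil))))) (nat_lit 25) (nat_lit 3),
  Rule.mk (nat_lit 12) (nat_lit 88) (Steps.bwd (nat_lit 9) (Steps.bwd (nat_lit 11) (Steps.bwd (nat_lit 14) (Steps.bwd (nat_lit 12) (Steps.bwd (nat_lit 13) Steps.nil))))) (nat_lit 26) (nat_lit 2),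
  Rule.mk (nat_lit 5) (nat_lit 88) (Steps.fwd (nat_lit 40960) (Steps.bwd (nat_lit 3) (Steps.fwd (nat_lit 4096) (Steps.fwd (nat_lit 28672) (Steps.bwd (nat_lit 2) Steps.nil))))) (nat_lit 23) (nat_lit 2),
  Rule.mk (nat_lit 6) (nat_lit 73) (Steps.bwd (nat_lit 4) (Steps.bwd (nat_lit 7) (Steps.fwd (nat_lit 4096) (Steps.fwd (nat_lit 4096) Steps.nil)))) (nat_lit 14) (nat_lit 0),
  Rule.mk (nat_lit 2) (nat_lit 103) (Steps.bwd (nat_lit 3) (Steps.bwd (nat_lit 9) (Steps.bwd (nat_lit 7) (Steps.bwd (nat_lit 5) (Steps.bwd (nat_lit 13) (Steps.fwd (nat_lit 49152) Steps.nil)))))) (nat_lit 30) (nat_lit 2),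
  Rule.mk (nat_lit 4) (nat_lit 118) (Steps.bwd (nat_lit 6) (Steps.bwd (nat_lit 11) (Steps.bwd (nat_lit 13) (Steps.bwd (nat_lit 10) (Steps.bwd (nat_lit 8) (Steps.fwd (nat_lit 8192) (Steps.fwd (nat_lit 8192) Steps.nil))))))) (nat_lit 32) (nat_lit 3),
  Rule.mk (nat_lit 7) (nat_lit 73) (Steps.bwd (nat_lit 2) (Steps.fwd (nat_lit 4096) (Steps.fwd (nat_lit 20480) (Steps.bwd (nat_lit 4) Steps.nil)))) (nat_lit 14) (nat_lit 2),
  Rule.mk (nat_lit 14) (nat_lit 73) (Steps.fwd (nat_lit 12288) (Steps.fwd (nat_lit 28672) (Steps.bwd (nat_lit 11) (Steps.bwd (nat_lit 6) Steps.nil)))) (nat_lit 16) (nat_lit 0),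
  Rule.mk (nat_lit 8) (nat_lit 118) (Steps.bwd (nat_lit 14) (Steps.bwd (nat_lit 12) (Steps.fwd (nat_lit 36864) (Steps.fwd (nat_lit 28672) (Steps.bwd (nat_lit 14) (Steps.fwd (nat_lit 45056) (Steps.fwd (nat_lit 36864) Steps.nil))))))) (nat_lit 40) (nat_lit 1),
  Rule.mk (nat_lit 6) (nat_lit 73) (Steps.bwd (nat_lit 12) (Steps.bwd (nat_lit 9) (Steps.fwd (nat_lit 20480) (Steps.fwd (nat_lit 45056) Steps.nil)))) (nat_lit 19) (nat_lit 4),
  Rule.mk (nat_lit 13) (nat_lit 88) (Steps.bwd (nat_lit 12) (Steps.bwd (nat_lit 9) (Steps.bwd (nat_lit 11) (Steps.bwd (nat_lit 14) (Steps.fwd (nat_lit 45056) Steps.nil))))) (nat_lit 26) (nat_lit 1),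
  Rule.mk (nat_lit 4) (nat_lit 133) (Steps.bwd (nat_lit 7) (Steps.bwd (nat_lit 9) (Steps.bwd (nat_lit 6) (Steps.fwd (nat_lit 49152) (Steps.fwd (nat_lit 57344) (Steps.bwd (nat_lit 12) (Steps.fwd (nat_lit 12288) (Steps.bwd (nat_lit 7) Steps.nil)))))))) (nat_lit 44) (nat_lit 3),
  Rule.mk (nat_lit 1) (nat_lit 148) (Steps.bwd (nat_lit 1) (Steps.bwd (nat_lit 1) (Steps.bwd (nat_lit 4) (Steps.bwd (nat_lit 5) (Steps.fwd (nat_lit 16384) (Steps.fwd (nat_lit 4096) (Steps.bwd (nat_lit 7) (Steps.fwd (nat_lit 40960) (Steps.fwd (nat_lit 28672) Steps.nil))))))))) (nat_lit 46) (nat_lit 2),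
  Rule.mk (nat_lit 13) (nat_lit 148) (Steps.bwd (nat_lit 12) (Steps.bwd (nat_lit 13) (Steps.bwd (nat_lit 12) (Steps.bwd (nat_lit 13) (Steps.bwd (nat_lit 12) (Steps.bwd (nat_lit 13) (Steps.fwd (nat_lit 45056) (Steps.bwd (nat_lit 13) (Steps.bwd (nat_lit 12) Steps.nil))))))))) (nat_lit 50) (nat_lit 0),
  Rule.mk (nat_lit 10) (nat_lit 88) (Steps.bwd (nat_lit 11) (Steps.bwd (nat_lit 14) (Steps.fwd (nat_lit 49152) (Steps.bwd (nat_lit 13) (Steps.bwd (nat_lit 12) Steps.nil))))) (nat_lit 27) (nat_lit 4),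
  Rule.mk (nat_lit 2) (nat_lit 148) (Steps.bwd (nat_lit 2) (Steps.bwd (nat_lit 4) (Steps.bwd (nat_lit 6) (Steps.bwd (nat_lit 14) (Steps.bwd (nat_lit 12) (Steps.bwd (nat_lit 5) (Steps.bwd (nat_lit 11) (Steps.bwd (nat_lit 13) (Steps.bwd (nat_lit 3) Steps.nil))))))))) (nat_lit 52) (nat_lit 2),
  Rule.mk (nat_lit 5) (nat_lit 88) (Steps.bwd (nat_lit 9) (Steps.fwd (nat_lit 16384) (Steps.bwd (nat_lit 2) (Steps.bwd (nat_lit 8) (Steps.bwd (nat_lit 2) Steps.nil))))) (nat_lit 23) (nat_lit 2),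
  Rule.mk (nat_lit 4) (nat_lit 58) (Steps.bwd (nat_lit 13) (Steps.fwd (nat_lit 16384) (Steps.fwd (nat_lit 20480) Steps.nil))) (nat_lit 13) (nat_lit 0),
  Rule.mk (nat_lit 1) (nat_lit 88) (Steps.bwd (nat_lit 4) (Steps.bwd (nat_lit 10) (Steps.fwd (nat_lit 20480) (Steps.fwd (nat_lit 8192) (Steps.bwd (nat_lit 7) Steps.nil))))) (nat_lit 22) (nat_lit 2),
  Rule.mk (nat_lit 5) (nat_lit 88) (Steps.bwd (nat_lit 10) (Steps.fwd (nat_lit 20480) (Steps.fwd (nat_lit 53248) (Steps.bwd (nat_lit 11) (Steps.bwd (nat_lit 13) Steps.nil))))) (nat_lit 25) (nat_lit 5),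
  Rule.mk (nat_lit 4) (nat_lit 118) (Steps.bwd (nat_lit 6) (Steps.bwd (nat_lit 11) (Steps.bwd (nat_lit 13) (Steps.bwd (nat_lit 10) (Steps.fwd (nat_lit 28672) (Steps.fwd (nat_lit 8192) (Steps.bwd (nat_lit 1) Steps.nil))))))) (nat_lit 32) (nat_lit 3),
  Rule.mk (nat_lit 14) (nat_lit 58) (Steps.fwd (nat_lit 16384) (Steps.fwd (nat_lit 24576) (Steps.bwd (nat_lit 4) Steps.nil))) (nat_lit 12) (nat_lit 0),
  Rule.mk (nat_lit 11) (nat_lit 118) (Steps.bwd (nat_lit 5) (Steps.bwd (nat_lit 3) (Steps.bwd (nat_lit 6) (Steps.bwd (nat_lit 11) (Steps.bwd (nat_lit 5) (Steps.fwd (nat_lit 16384) (Steps.fwd (nat_lit 20480) Steps.nil))))))) (nat_lit 34) (nat_lit 3),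
  Rule.mk (nat_lit 2) (nat_lit 88) (Steps.bwd (nat_lit 10) (Steps.bwd (nat_lit 7) (Steps.bwd (nat_lit 9) (Steps.fwd (nat_lit 8192) (Steps.bwd (nat_lit 4) Steps.nil))))) (nat_lit 21) (nat_lit 0),
  Rule.mk (nat_lit 5) (nat_lit 88) (Steps.fwd (nat_lit 40960) (Steps.bwd (nat_lit 3) (Steps.bwd (nat_lit 2) (Steps.fwd (nat_lit 28672) (Steps.bwd (nat_lit 2) Steps.nil))))) (nat_lit 23) (nat_lit 2),
  Rule.mk (nat_lit 12) (nat_lit 88) (Steps.bwd (nat_lit 13) (Steps.bwd (nat_lit 5) (Steps.fwd (nat_lit 40960) (Steps.fwd (nat_lit 20480) (Steps.fwd (nat_lit 53248) Steps.nil))))) (nat_lit 24) (nat_lit 4),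
  Rule.mk (nat_lit 2) (nat_lit 118) (Steps.bwd (nat_lit 2) (Steps.bwd (nat_lit 7) (Steps.bwd (nat_lit 2) (Steps.bwd (nat_lit 5) (Steps.bwd (nat_lit 1) (Steps.fwd (nat_lit 36864) (Steps.fwd (nat_lit 28672) Steps.nil))))))) (nat_lit 42) (nat_lit 5),
  Rule.mk (nat_lit 4) (nat_lit 73) (Steps.bwd (nat_lit 7) (Steps.bwd (nat_lit 2) (Steps.bwd (nat_lit 2) (Steps.fwd (nat_lit 20480) Steps.nil)))) (nat_lit 14) (nat_lit 1),
  Rule.mk (nat_lit 7) (nat_lit 133) (Steps.bwd (nat_lit 9) (Steps.bwd (nat_lit 6) (Steps.bwd (nat_lit 11) (Steps.bwd (nat_lit 13) (Steps.fwd (nat_lit 45056) (Steps.fwd (nat_lit 12288) (Steps.bwd (nat_lit 7) (Steps.fwd (nat_lit 12288) Steps.nil)))))))) (nat_lit 44) (nat_lit 4),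
  Rule.mk (nat_lit 1) (nat_lit 148) (Steps.bwd (nat_lit 4) (Steps.bwd (nat_lit 5) (Steps.bwd (nat_lit 3) (Steps.bwd (nat_lit 2) (Steps.bwd (nat_lit 7) (Steps.bwd (nat_lit 9) (Steps.fwd (nat_lit 28672) (Steps.fwd (nat_lit 8192) (Steps.fwd (nat_lit 8192) Steps.nil))))))))) (nat_lit 46) (nat_lit 4),
  Rule.mk (nat_lit 2) (nat_lit 148) (Steps.bwd (nat_lit 4) (Steps.bwd (nat_lit 6) (Steps.bwd (nat_lit 14) (Steps.bwd (nat_lit 12) (Steps.bwd (nat_lit 5) (Steps.bwd (nat_lit 11) (Steps.bwd (nat_lit 13) (Steps.fwd (nat_lit 16384) (Steps.bwd (nat_lit 2) Steps.nil))))))))) (nat_lit 52) (nat_lit 3),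
  Rule.mk (nat_lit 2) (nat_lit 73) (Steps.fwd (nat_lit 20480) (Steps.bwd (nat_lit 4) (Steps.fwd (nat_lit 32768) (Steps.bwd (nat_lit 2) Steps.nil)))) (nat_lit 14) (nat_lit 4),
  Rule.mk (nat_lit 6) (nat_lit 118) (Steps.fwd (nat_lit 8192) (Steps.fwd (nat_lit 28672) (Steps.fwd (nat_lit 8192) (Steps.fwd (nat_lit 8192) (Steps.bwd (nat_lit 7) (Steps.fwd (nat_lit 40960) (Steps.bwd (nat_lit 2) Steps.nil))))))) (nat_lit 43) (nat_lit 0),
  Rule.mk (nat_lit 8) (nat_lit 73) (Steps.bwd (nat_lit 3) (Steps.bwd (nat_lit 5) (Steps.fwd (nat_lit 8192) (Steps.fwd (nat_lit 8192) Steps.nil)))) (nat_lit 15) (nat_lit 4),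
  Rule.mk (nat_lit 3) (nat_lit 73) (Steps.fwd (nat_lit 24576) (Steps.fwd (nat_lit 8192) (Steps.fwd (nat_lit 8192) (Steps.bwd (nat_lit 8) Steps.nil)))) (nat_lit 15) (nat_lit 0),
  Rule.mk (nat_lit 14) (nat_lit 58) (Steps.bwd (nat_lit 3) (Steps.fwd (nat_lit 24576) (Steps.bwd (nat_lit 4) Steps.nil))) (nat_lit 12) (nat_lit 0),
  Rule.mk (nat_lit 3) (nat_lit 88) (Steps.bwd (nat_lit 2) (Steps.bwd (nat_lit 10) (Steps.bwd (nat_lit 8) (Steps.fwd (nat_lit 40960) (Steps.bwd (nat_lit 1) Steps.nil))))) (nat_lit 20) (nat_lit 2),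
  Rule.mk (nat_lit 6) (nat_lit 118) (Steps.bwd (nat_lit 11) (Steps.bwd (nat_lit 13) (Steps.bwd (nat_lit 10) (Steps.fwd (nat_lit 28672) (Steps.bwd (nat_lit 1) (Steps.bwd (nat_lit 1) (Steps.fwd (nat_lit 12288) Steps.nil))))))) (nat_lit 32) (nat_lit 4),
  Rule.mk (nat_lit 11) (nat_lit 73) (Steps.bwd (nat_lit 5) (Steps.bwd (nat_lit 10) (Steps.bwd (nat_lit 11) (Steps.bwd (nat_lit 5) Steps.nil)))) (nat_lit 18) (nat_lit 3),
  Rule.mk (nat_lit 10) (nat_lit 118) (Steps.bwd (nat_lit 8) (Steps.bwd (nat_lit 2) (Steps.bwd (nat_lit 2) (Steps.fwd (nat_lit 32768) (Steps.fwd (nat_lit 4096) (Steps.bwd (nat_lit 5) (Steps.fwd (nat_lit 8192) Steps.nil))))))) (nat_lit 42) (nat_lit 3),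
  Rule.mk (nat_lit 5) (nat_lit 148) (Steps.bwd (nat_lit 3) (Steps.bwd (nat_lit 2) (Steps.fwd (nat_lit 32768) (Steps.fwd (nat_lit 40960) (Steps.fwd (nat_lit 28672) (Steps.fwd (nat_lit 8192) (Steps.fwd (nat_lit 8192) (Steps.fwd (nat_lit 8192) (Steps.fwd (nat_lit 12288) Steps.nil))))))))) (nat_lit 46) (nat_lit 6),
  Rule.mk (nat_lit 0) (nat_lit 163) (Steps.fwd (nat_lit 32768) (Steps.fwd (nat_lit 36864) (Steps.fwd (nat_lit 28672) (Steps.bwd (nat_lit 1) (Steps.bwd (nat_lit 4) (Steps.fwd (nat_lit 20480) (Steps.bwd (nat_lit 3) (Steps.bwd (nat_lit 2) (Steps.bwd (nat_lit 2) (Steps.bwd (nat_lit 2) Steps.nil)))))))))) (nat_lit 47) (nat_lit 9),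
  Rule.mk (nat_lit 4) (nat_lit 148) (Steps.bwd (nat_lit 6) (Steps.bwd (nat_lit 14) (Steps.bwd (nat_lit 12) (Steps.bwd (nat_lit 5) (Steps.bwd (nat_lit 11) (Steps.fwd (nat_lit 57344) (Steps.bwd (nat_lit 3) (Steps.bwd (nat_lit 2) (Steps.fwd (nat_lit 4096) Steps.nil))))))))) (nat_lit 52) (nat_lit 4),
  Rule.mk (nat_lit 7) (nat_lit 103) (Steps.fwd (nat_lit 8192) (Steps.fwd (nat_lit 12288) (Steps.bwd (nat_lit 2) (Steps.bwd (nat_lit 2) (Steps.fwd (nat_lit 4096) (Steps.bwd (nat_lit 4) Steps.nil)))))) (nat_lit 28) (nat_lit 6),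
  Rule.mk (nat_lit 8) (nat_lit 103) (Steps.bwd (nat_lit 3) (Steps.bwd (nat_lit 1) (Steps.bwd (nat_lit 1) (Steps.bwd (nat_lit 1) (Steps.bwd (nat_lit 3) (Steps.bwd (nat_lit 2) Steps.nil)))))) (nat_lit 29) (nat_lit 2),
  Rule.mk (nat_lit 3) (nat_lit 73) (Steps.bwd (nat_lit 5) (Steps.bwd (nat_lit 1) (Steps.bwd (nat_lit 1) (Steps.fwd (nat_lit 28672) Steps.nil)))) (nat_lit 15) (nat_lit 0)]
noncomputable def R_5 : List (Rule) := [Rule.mk (nat_lit 4) (nat_lit 58) (Steps.fwd (nat_lit 57344) (Steps.bwd (nat_lit 3) (Steps.fwd (nat_lit 20480) Steps.nil))) (nat_lit 13) (nat_lit 0),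
  Rule.mk (nat_lit 2) (nat_lit 73) (Steps.bwd (nat_lit 2) (Steps.bwd (nat_lit 6) (Steps.fwd (nat_lit 12288) (Steps.fwd (nat_lit 32768) Steps.nil)))) (nat_lit 14) (nat_lit 3),
  Rule.mk (nat_lit 7) (nat_lit 103) (Steps.fwd (nat_lit 8192) (Steps.fwd (nat_lit 12288) (Steps.bwd (nat_lit 2) (Steps.bwd (nat_lit 2) (Steps.bwd (nat_lit 2) (Steps.bwd (nat_lit 4) Steps.nil)))))) (nat_lit 28) (nat_lit 6),
  Rule.mk (nat_lit 10) (nat_lit 88) (Steps.bwd (nat_lit 8) (Steps.bwd (nat_lit 9) (Steps.bwd (nat_lit 1) (Steps.bwd (nat_lit 3) (Steps.bwd (nat_lit 2) Steps.nil))))) (nat_lit 20) (nat_lit 4),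
  Rule.mk (nat_lit 1) (nat_lit 88) (Steps.bwd (nat_lit 4) (Steps.bwd (nat_lit 10) (Steps.fwd (nat_lit 20480) (Steps.bwd (nat_lit 1) (Steps.bwd (nat_lit 7) Steps.nil))))) (nat_lit 22) (nat_lit 2),
  Rule.mk (nat_lit 5) (nat_lit 88) (Steps.bwd (nat_lit 9) (Steps.bwd (nat_lit 3) (Steps.bwd (nat_lit 2) (Steps.bwd (nat_lit 8) (Steps.bwd (nat_lit 2) Steps.nil))))) (nat_lit 23) (nat_lit 2),
  Rule.mk (nat_lit 13) (nat_lit 118) (Steps.bwd (nat_lit 10) (Steps.fwd (nat_lit 28672) (Steps.bwd (nat_lit 1) (Steps.bwd (nat_lit 1) (Steps.bwd (nat_lit 4) (Steps.fwd (nat_lit 20480) (Steps.bwd (nat_lit 11) Steps.nil))))))) (nat_lit 32) (nat_lit 6),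
  Rule.mk (nat_lit 0) (nat_lit 103) (Steps.bwd (nat_lit 10) (Steps.bwd (nat_lit 7) (Steps.bwd (nat_lit 9) (Steps.bwd (nat_lit 1) (Steps.fwd (nat_lit 12288) (Steps.bwd (nat_lit 2) Steps.nil)))))) (nat_lit 21) (nat_lit 0),
  Rule.mk (nat_lit 7) (nat_lit 88) (Steps.bwd (nat_lit 9) (Steps.fwd (nat_lit 8192) (Steps.fwd (nat_lit 12288) (Steps.bwd (nat_lit 2) (Steps.bwd (nat_lit 10) Steps.nil))))) (nat_lit 21) (nat_lit 2),
  Rule.mk (nat_lit 12) (nat_lit 118) (Steps.bwd (nat_lit 10) (Steps.bwd (nat_lit 8) (Steps.bwd (nat_lit 14) (Steps.bwd (nat_lit 12) (Steps.fwd (nat_lit 36864) (Steps.fwd (nat_lit 28672) (Steps.fwd (nat_lit 53248) Steps.nil))))))) (nat_lit 40) (nat_lit 3),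
  Rule.mk (nat_lit 10) (nat_lit 118) (Steps.bwd (nat_lit 8) (Steps.fwd (nat_lit 4096) (Steps.bwd (nat_lit 2) (Steps.bwd (nat_lit 7) (Steps.fwd (nat_lit 4096) (Steps.fwd (nat_lit 24576) (Steps.fwd (nat_lit 8192) Steps.nil))))))) (nat_lit 42) (nat_lit 3),
  Rule.mk (nat_lit 4) (nat_lit 133) (Steps.bwd (nat_lit 7) (Steps.bwd (nat_lit 9) (Steps.bwd (nat_lit 6) (Steps.bwd (nat_lit 11) (Steps.bwd (nat_lit 13) (Steps.fwd (nat_lit 45056) (Steps.fwd (nat_lit 12288) (Steps.fwd (nat_lit 32768) Steps.nil)))))))) (nat_lit 44) (nat_lit 3),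
  Rule.mk (nat_lit 5) (nat_lit 88) (Steps.bwd (nat_lit 9) (Steps.bwd (nat_lit 6) (Steps.fwd (nat_lit 53248) (Steps.fwd (nat_lit 45056) (Steps.fwd (nat_lit 57344) Steps.nil))))) (nat_lit 24) (nat_lit 0),
  Rule.mk (nat_lit 7) (nat_lit 118) (Steps.bwd (nat_lit 2) (Steps.bwd (nat_lit 5) (Steps.bwd (nat_lit 1) (Steps.fwd (nat_lit 36864) (Steps.fwd (nat_lit 28672) (Steps.fwd (nat_lit 4096) (Steps.fwd (nat_lit 4096) Steps.nil))))))) (nat_lit 42) (nat_lit 7),
  Rule.mk (nat_lit 10) (nat_lit 73) (Steps.bwd (nat_lit 11) (Steps.fwd (nat_lit 24576) (Steps.bwd (nat_lit 11) (Steps.bwd (nat_lit 5) Steps.nil)))) (nat_lit 18) (nat_lit 0),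
  Rule.mk (nat_lit 13) (nat_lit 88) (Steps.fwd (nat_lit 45056) (Steps.bwd (nat_lit 10) (Steps.bwd (nat_lit 11) (Steps.fwd (nat_lit 53248) (Steps.fwd (nat_lit 49152) Steps.nil))))) (nat_lit 27) (nat_lit 2),
  Rule.mk (nat_lit 6) (nat_lit 118) (Steps.bwd (nat_lit 11) (Steps.bwd (nat_lit 5) (Steps.bwd (nat_lit 3) (Steps.bwd (nat_lit 6) (Steps.bwd (nat_lit 11) (Steps.fwd (nat_lit 24576) (Steps.bwd (nat_lit 3) Steps.nil))))))) (nat_lit 34) (nat_lit 2),
  Rule.mk (nat_lit 14) (nat_lit 118) (Steps.bwd (nat_lit 11) (Steps.bwd (nat_lit 13) (Steps.bwd (nat_lit 9) (Steps.bwd (nat_lit 14) (Steps.bwd (nat_lit 11) (Steps.bwd (nat_lit 13) (Steps.fwd (nat_lit 40960) Steps.nil))))))) (nat_lit 36) (nat_lit 2),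
  Rule.mk (nat_lit 1) (nat_lit 88) (Steps.fwd (nat_lit 16384) (Steps.fwd (nat_lit 4096) (Steps.bwd (nat_lit 10) (Steps.fwd (nat_lit 28672) (Steps.bwd (nat_lit 9) Steps.nil))))) (nat_lit 20) (nat_lit 1),
  Rule.mk (nat_lit 1) (nat_lit 343) (Steps.bwd (nat_lit 1) (Steps.bwd (nat_lit 1) (Steps.bwd (nat_lit 1) (Steps.bwd (nat_lit 1) (Steps.bwd (nat_lit 1) (Steps.bwd (nat_lit 1) (Steps.bwd (nat_lit 1) (Steps.bwd (nat_lit 1) (Steps.bwd (nat_lit 1) (Steps.bwd (nat_lit 1) (Steps.bwd (nat_lit 1) (Steps.bwd (nat_lit 1) (Steps.bwd (nat_lit 1) (Steps.bwd (nat_lit 1) (Steps.bwd (nat_lit 1) (Steps.bwd (nat_lit 1) (Steps.bwd (nat_lit 1) (Steps.bwd (nat_lit 1) (Steps.bwd (nat_lit 1) (Steps.fwd (nat_lit 8192) (Steps.fwd (nat_lit 8192) (Steps.fwd (nat_lit 8192) Steps.nil)))))))))))))))))))))) (nat_lit 54) (nat_lit 0),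
  Rule.mk (nat_lit 3) (nat_lit 88) (Steps.bwd (nat_lit 2) (Steps.bwd (nat_lit 10) (Steps.fwd (nat_lit 28672) (Steps.fwd (nat_lit 40960) (Steps.bwd (nat_lit 1) Steps.nil))))) (nat_lit 20) (nat_lit 2),
  Rule.mk (nat_lit 2) (nat_lit 103) (Steps.bwd (nat_lit 3) (Steps.bwd (nat_lit 9) (Steps.bwd (nat_lit 7) (Steps.bwd (nat_lit 5) (Steps.fwd (nat_lit 57344) (Steps.fwd (nat_lit 49152) Steps.nil)))))) (nat_lit 30) (nat_lit 2),
  Rule.mk (nat_lit 6) (nat_lit 118) (Steps.bwd (nat_lit 11) (Steps.bwd (nat_lit 13) (Steps.bwd (nat_lit 10) (Steps.fwd (nat_lit 28672) (Steps.bwd (nat_lit 1) (Steps.bwd (nat_lit 1) (Steps.bwd (nat_lit 4) Steps.nil))))))) (nat_lit 32) (nat_lit 4),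
  Rule.mk (nat_lit 10) (nat_lit 118) (Steps.bwd (nat_lit 7) (Steps.bwd (nat_lit 9) (Steps.bwd (nat_lit 13) (Steps.fwd (nat_lit 36864) (Steps.bwd (nat_lit 7) (Steps.fwd (nat_lit 40960) (Steps.bwd (nat_lit 13) Steps.nil))))))) (nat_lit 38) (nat_lit 2),
  Rule.mk (nat_lit 6) (nat_lit 73) (Steps.bwd (nat_lit 12) (Steps.bwd (nat_lit 9) (Steps.bwd (nat_lit 6) (Steps.fwd (nat_lit 45056) Steps.nil)))) (nat_lit 19) (nat_lit 4),
  Rule.mk (nat_lit 13) (nat_lit 88) (Steps.bwd (nat_lit 12) (Steps.bwd (nat_lit 9) (Steps.bwd (nat_lit 11) (Steps.fwd (nat_lit 53248) (Steps.fwd (nat_lit 45056) Steps.nil))))) (nat_lit 26) (nat_lit 1),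
  Rule.mk (nat_lit 4) (nat_lit 73) (Steps.bwd (nat_lit 7) (Steps.fwd (nat_lit 4096) (Steps.fwd (nat_lit 4096) (Steps.fwd (nat_lit 20480) Steps.nil)))) (nat_lit 14) (nat_lit 1),
  Rule.mk (nat_lit 13) (nat_lit 58) (Steps.fwd (nat_lit 16384) (Steps.fwd (nat_lit 20480) (Steps.bwd (nat_lit 4) Steps.nil))) (nat_lit 13) (nat_lit 1),
  Rule.mk (nat_lit 11) (nat_lit 148) (Steps.bwd (nat_lit 13) (Steps.fwd (nat_lit 16384) (Steps.bwd (nat_lit 2) (Steps.bwd (nat_lit 2) (Steps.fwd (nat_lit 12288) (Steps.fwd (nat_lit 20480) (Steps.fwd (nat_lit 53248) (Steps.bwd (nat_lit 12) (Steps.fwd (nat_lit 24576) Steps.nil))))))))) (nat_lit 52) (nat_lit 9),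
  Rule.mk (nat_lit 4) (nat_lit 148) (Steps.bwd (nat_lit 14) (Steps.bwd (nat_lit 12) (Steps.bwd (nat_lit 6) (Steps.bwd (nat_lit 11) (Steps.bwd (nat_lit 13) (Steps.fwd (nat_lit 24576) (Steps.bwd (nat_lit 3) (Steps.fwd (nat_lit 8192) (Steps.fwd (nat_lit 8192) Steps.nil))))))))) (nat_lit 53) (nat_lit 0),
  Rule.mk (nat_lit 4) (nat_lit 133) (Steps.bwd (nat_lit 7) (Steps.bwd (nat_lit 9) (Steps.bwd (nat_lit 6) (Steps.bwd (nat_lit 11) (Steps.bwd (nat_lit 13) (Steps.bwd (nat_lit 12) (Steps.fwd (nat_lit 12288) (Steps.bwd (nat_lit 7) Steps.nil)))))))) (nat_lit 44) (nat_lit 3),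
  Rule.mk (nat_lit 0) (nat_lit 103) (Steps.bwd (nat_lit 11) (Steps.bwd (nat_lit 13) (Steps.bwd (nat_lit 5) (Steps.bwd (nat_lit 10) (Steps.fwd (nat_lit 20480) (Steps.fwd (nat_lit 53248) Steps.nil)))))) (nat_lit 25) (nat_lit 2),
  Rule.mk (nat_lit 6) (nat_lit 43) (Steps.bwd (nat_lit 0) (Steps.fwd (nat_lit 24576) Steps.nil)) (nat_lit 56) (nat_lit 0),
  Rule.mk (nat_lit 12) (nat_lit 43) (Steps.bwd (nat_lit 0) (Steps.bwd (nat_lit 11) Steps.nil)) (nat_lit 56) (nat_lit 0),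
  Rule.mk (nat_lit 1) (nat_lit 148) (Steps.bwd (nat_lit 4) (Steps.bwd (nat_lit 5) (Steps.bwd (nat_lit 3) (Steps.fwd (nat_lit 4096) (Steps.bwd (nat_lit 7) (Steps.fwd (nat_lit 40960) (Steps.fwd (nat_lit 28672) (Steps.fwd (nat_lit 8192) (Steps.fwd (nat_lit 8192) Steps.nil))))))))) (nat_lit 46) (nat_lit 4),
  Rule.mk (nat_lit 4) (nat_lit 148) (Steps.bwd (nat_lit 6) (Steps.bwd (nat_lit 14) (Steps.bwd (nat_lit 12) (Steps.bwd (nat_lit 5) (Steps.bwd (nat_lit 11) (Steps.fwd (nat_lit 57344) (Steps.bwd (nat_lit 3) (Steps.fwd (nat_lit 4096) (Steps.bwd (nat_lit 2) Steps.nil))))))))) (nat_lit 52) (nat_lit 4),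
  Rule.mk (nat_lit 7) (nat_lit 103) (Steps.fwd (nat_lit 8192) (Steps.fwd (nat_lit 12288) (Steps.fwd (nat_lit 4096) (Steps.fwd (nat_lit 4096) (Steps.bwd (nat_lit 2) (Steps.bwd (nat_lit 4) Steps.nil)))))) (nat_lit 28) (nat_lit 6),
  Rule.mk (nat_lit 6) (nat_lit 73) (Steps.fwd (nat_lit 45056) (Steps.bwd (nat_lit 6) (Steps.bwd (nat_lit 12) (Steps.bwd (nat_lit 9) Steps.nil)))) (nat_lit 19) (nat_lit 2),
  Rule.mk (nat_lit 8) (nat_lit 103) (Steps.fwd (nat_lit 16384) (Steps.fwd (nat_lit 8192) (Steps.fwd (nat_lit 8192) (Steps.bwd (nat_lit 1) (Steps.bwd (nat_lit 3) (Steps.bwd (nat_lit 2) Steps.nil)))))) (nat_lit 29) (nat_lit 2),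
  Rule.mk (nat_lit 1) (nat_lit 103) (Steps.fwd (nat_lit 8192) (Steps.bwd (nat_lit 3) (Steps.bwd (nat_lit 2) (Steps.fwd (nat_lit 28672) (Steps.bwd (nat_lit 3) (Steps.bwd (nat_lit 1) Steps.nil)))))) (nat_lit 29) (nat_lit 5),
  Rule.mk (nat_lit 14) (nat_lit 88) (Steps.bwd (nat_lit 12) (Steps.bwd (nat_lit 13) (Steps.bwd (nat_lit 5) (Steps.bwd (nat_lit 9) (Steps.bwd (nat_lit 6) Steps.nil))))) (nat_lit 24) (nat_lit 3),
  Rule.mk (nat_lit 14) (nat_lit 43) (Steps.fwd (nat_lit 53248) (Steps.bwd (nat_lit 14) Steps.nil)) (nat_lit 11) (nat_lit 0),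
  Rule.mk (nat_lit 3) (nat_lit 73) (Steps.bwd (nat_lit 13) (Steps.bwd (nat_lit 5) (Steps.bwd (nat_lit 12) (Steps.bwd (nat_lit 7) Steps.nil)))) (nat_lit 17) (nat_lit 0),
  Rule.mk (nat_lit 4) (nat_lit 103) (Steps.bwd (nat_lit 7) (Steps.fwd (nat_lit 8192) (Steps.fwd (nat_lit 12288) (Steps.bwd (nat_lit 2) (Steps.bwd (nat_lit 2) (Steps.bwd (nat_lit 2) Steps.nil)))))) (nat_lit 28) (nat_lit 5),
  Rule.mk (nat_lit 2) (nat_lit 73) (Steps.bwd (nat_lit 6) (Steps.bwd (nat_lit 4) (Steps.bwd (nat_lit 7) (Steps.bwd (nat_lit 2) Steps.nil)))) (nat_lit 14) (nat_lit 4),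
  Rule.mk (nat_lit 3) (nat_lit 103) (Steps.bwd (nat_lit 9) (Steps.bwd (nat_lit 7) (Steps.bwd (nat_lit 5) (Steps.bwd (nat_lit 13) (Steps.fwd (nat_lit 49152) (Steps.bwd (nat_lit 2) Steps.nil)))))) (nat_lit 30) (nat_lit 3),
  Rule.mk (nat_lit 4) (nat_lit 118) (Steps.bwd (nat_lit 6) (Steps.bwd (nat_lit 11) (Steps.bwd (nat_lit 13) (Steps.bwd (nat_lit 10) (Steps.fwd (nat_lit 28672) (Steps.bwd (nat_lit 1) (Steps.bwd (nat_lit 1) Steps.nil))))))) (nat_lit 32) (nat_lit 3),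
  Rule.mk (nat_lit 5) (nat_lit 118) (Steps.bwd (nat_lit 3) (Steps.bwd (nat_lit 6) (Steps.fwd (nat_lit 49152) (Steps.bwd (nat_lit 5) (Steps.fwd (nat_lit 16384) (Steps.bwd (nat_lit 6) (Steps.bwd (nat_lit 11) Steps.nil))))))) (nat_lit 34) (nat_lit 0),
  Rule.mk (nat_lit 13) (nat_lit 118) (Steps.bwd (nat_lit 10) (Steps.bwd (nat_lit 7) (Steps.bwd (nat_lit 9) (Steps.bwd (nat_lit 13) (Steps.fwd (nat_lit 36864) (Steps.fwd (nat_lit 32768) (Steps.fwd (nat_lit 40960) Steps.nil))))))) (nat_lit 38) (nat_lit 1),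
  Rule.mk (nat_lit 13) (nat_lit 88) (Steps.bwd (nat_lit 12) (Steps.bwd (nat_lit 9) (Steps.fwd (nat_lit 49152) (Steps.fwd (nat_lit 53248) (Steps.bwd (nat_lit 12) Steps.nil))))) (nat_lit 26) (nat_lit 1),
  Rule.mk (nat_lit 0) (nat_lit 58) (Steps.bwd (nat_lit 14) (Steps.fwd (nat_lit 53248) (Steps.fwd (nat_lit 53248) Steps.nil))) (nat_lit 11) (nat_lit 0),
  Rule.mk (nat_lit 13) (nat_lit 43) (Steps.bwd (nat_lit 0) (Steps.bwd (nat_lit 14) Steps.nil)) (nat_lit 56) (nat_lit 0),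
  Rule.mk (nat_lit 10) (nat_lit 118) (Steps.bwd (nat_lit 8) (Steps.bwd (nat_lit 2) (Steps.bwd (nat_lit 2) (Steps.bwd (nat_lit 7) (Steps.fwd (nat_lit 4096) (Steps.fwd (nat_lit 24576) (Steps.bwd (nat_lit 1) Steps.nil))))))) (nat_lit 42) (nat_lit 3),
  Rule.mk (nat_lit 9) (nat_lit 88) (Steps.fwd (nat_lit 8192) (Steps.fwd (nat_lit 16384) (Steps.fwd (nat_lit 4096) (Steps.bwd (nat_lit 10) (Steps.bwd (nat_lit 8) Steps.nil))))) (nat_lit 20) (nat_lit 0),
  Rule.mk (nat_lit 6) (nat_lit 88) (Steps.bwd (nat_lit 14) (Steps.bwd (nat_lit 11) (Steps.bwd (nat_lit 13) (Steps.bwd (nat_lit 5) (Steps.bwd (nat_lit 10) Steps.nil))))) (nat_lit 25) (nat_lit 1),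
  Rule.mk (nat_lit 9) (nat_lit 133) (Steps.bwd (nat_lit 6) (Steps.fwd (nat_lit 49152) (Steps.bwd (nat_lit 13) (Steps.bwd (nat_lit 12) (Steps.fwd (nat_lit 12288) (Steps.bwd (nat_lit 7) (Steps.bwd (nat_lit 4) (Steps.bwd (nat_lit 7) Steps.nil)))))))) (nat_lit 44) (nat_lit 5),
  Rule.mk (nat_lit 4) (nat_lit 148) (Steps.bwd (nat_lit 6) (Steps.bwd (nat_lit 14) (Steps.bwd (nat_lit 12) (Steps.bwd (nat_lit 5) (Steps.fwd (nat_lit 49152) (Steps.bwd (nat_lit 13) (Steps.fwd (nat_lit 16384) (Steps.bwd (nat_lit 2) (Steps.bwd (nat_lit 2) Steps.nil))))))))) (nat_lit 52) (nat_lit 4),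
  Rule.mk (nat_lit 11) (nat_lit 73) (Steps.bwd (nat_lit 5) (Steps.fwd (nat_lit 36864) (Steps.fwd (nat_lit 49152) (Steps.fwd (nat_lit 24576) Steps.nil)))) (nat_lit 18) (nat_lit 3),
  Rule.mk (nat_lit 0) (nat_lit 58) (Steps.bwd (nat_lit 12) (Steps.fwd (nat_lit 45056) (Steps.fwd (nat_lit 45056) Steps.nil))) (nat_lit 9) (nat_lit 0),
  Rule.mk (nat_lit 11) (nat_lit 43) (Steps.bwd (nat_lit 0) (Steps.bwd (nat_lit 12) Steps.nil)) (nat_lit 56) (nat_lit 0),
  Rule.mk (nat_lit 14) (nat_lit 43) (Steps.bwd (nat_lit 0) (Steps.fwd (nat_lit 57344) Steps.nil)) (nat_lit 56) (nat_lit 0),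
  Rule.mk (nat_lit 1) (nat_lit 343) (Steps.bwd (nat_lit 1) (Steps.bwd (nat_lit 1) (Steps.bwd (nat_lit 1) (Steps.bwd (nat_lit 1) (Steps.bwd (nat_lit 1) (Steps.bwd (nat_lit 1) (Steps.bwd (nat_lit 1) (Steps.bwd (nat_lit 1) (Steps.bwd (nat_lit 1) (Steps.bwd (nat_lit 1) (Steps.bwd (nat_lit 1) (Steps.bwd (nat_lit 1) (Steps.bwd (nat_lit 1) (Steps.bwd (nat_lit 1) (Steps.bwd (nat_lit 1) (Steps.bwd (nat_lit 1) (Steps.fwd (nat_lit 8192) (Steps.fwd (nat_lit 8192) (Steps.fwd (nat_lit 8192) (Steps.bwd (nat_lit 1) (Steps.bwd (nat_lit 1) (Steps.fwd (nat_lit 8192) Steps.nil)))))))))))))))))))))) (nat_lit 54) (nat_lit 0),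
  Rule.mk (nat_lit 6) (nat_lit 88) (Steps.bwd (nat_lit 1) (Steps.bwd (nat_lit 7) (Steps.bwd (nat_lit 1) (Steps.fwd (nat_lit 12288) (Steps.fwd (nat_lit 36864) Steps.nil))))) (nat_lit 22) (nat_lit 5),
  Rule.mk (nat_lit 4) (nat_lit 118) (Steps.bwd (nat_lit 6) (Steps.bwd (nat_lit 11) (Steps.fwd (nat_lit 57344) (Steps.fwd (nat_lit 36864) (Steps.fwd (nat_lit 28672) (Steps.bwd (nat_lit 1) (Steps.bwd (nat_lit 1) Steps.nil))))))) (nat_lit 32) (nat_lit 3)]
noncomputable def R_6 : List (Rule) := [Rule.mk (nat_lit 11) (nat_lit 118) (Steps.bwd (nat_lit 5) (Steps.bwd (nat_lit 3) (Steps.bwd (nat_lit 6) (Steps.bwd (nat_lit 11) (Steps.bwd (nat_lit 5) (Steps.fwd (nat_lit 16384) (Steps.bwd (nat_lit 6) Steps.nil))))))) (nat_lit 34) (nat_lit 3),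
  Rule.mk (nat_lit 7) (nat_lit 118) (Steps.bwd (nat_lit 9) (Steps.bwd (nat_lit 13) (Steps.bwd (nat_lit 10) (Steps.bwd (nat_lit 7) (Steps.bwd (nat_lit 9) (Steps.fwd (nat_lit 57344) (Steps.bwd (nat_lit 10) Steps.nil))))))) (nat_lit 38) (nat_lit 3),
  Rule.mk (nat_lit 7) (nat_lit 43) (Steps.fwd (nat_lit 32768) (Steps.bwd (nat_lit 7) Steps.nil)) (nat_lit 4) (nat_lit 0),
  Rule.mk (nat_lit 1) (nat_lit 148) (Steps.bwd (nat_lit 1) (Steps.bwd (nat_lit 4) (Steps.bwd (nat_lit 5) (Steps.bwd (nat_lit 3) (Steps.bwd (nat_lit 2) (Steps.bwd (nat_lit 7) (Steps.bwd (nat_lit 9) (Steps.fwd (nat_lit 28672) (Steps.bwd (nat_lit 1) Steps.nil))))))))) (nat_lit 46) (nat_lit 3),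
  Rule.mk (nat_lit 8) (nat_lit 148) (Steps.bwd (nat_lit 9) (Steps.bwd (nat_lit 8) (Steps.bwd (nat_lit 9) (Steps.bwd (nat_lit 8) (Steps.bwd (nat_lit 9) (Steps.bwd (nat_lit 8) (Steps.bwd (nat_lit 9) (Steps.fwd (nat_lit 28672) (Steps.fwd (nat_lit 40960) Steps.nil))))))))) (nat_lit 48) (nat_lit 1),
  Rule.mk (nat_lit 4) (nat_lit 148) (Steps.bwd (nat_lit 6) (Steps.bwd (nat_lit 14) (Steps.bwd (nat_lit 12) (Steps.bwd (nat_lit 5) (Steps.fwd (nat_lit 49152) (Steps.bwd (nat_lit 13) (Steps.fwd (nat_lit 16384) (Steps.fwd (nat_lit 4096) (Steps.fwd (nat_lit 4096) Steps.nil))))))))) (nat_lit 52) (nat_lit 4),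
  Rule.mk (nat_lit 8) (nat_lit 103) (Steps.fwd (nat_lit 16384) (Steps.bwd (nat_lit 1) (Steps.bwd (nat_lit 1) (Steps.fwd (nat_lit 8192) (Steps.bwd (nat_lit 3) (Steps.bwd (nat_lit 2) Steps.nil)))))) (nat_lit 29) (nat_lit 2),
  Rule.mk (nat_lit 14) (nat_lit 88) (Steps.bwd (nat_lit 12) (Steps.bwd (nat_lit 13) (Steps.fwd (nat_lit 24576) (Steps.bwd (nat_lit 9) (Steps.fwd (nat_lit 20480) Steps.nil))))) (nat_lit 24) (nat_lit 3),
  Rule.mk (nat_lit 4) (nat_lit 103) (Steps.bwd (nat_lit 7) (Steps.bwd (nat_lit 1) (Steps.bwd (nat_lit 4) (Steps.fwd (nat_lit 4096) (Steps.fwd (nat_lit 4096) (Steps.fwd (nat_lit 4096) Steps.nil)))))) (nat_lit 28) (nat_lit 5),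
  Rule.mk (nat_lit 6) (nat_lit 133) (Steps.bwd (nat_lit 11) (Steps.bwd (nat_lit 13) (Steps.fwd (nat_lit 45056) (Steps.bwd (nat_lit 4) (Steps.bwd (nat_lit 7) (Steps.fwd (nat_lit 12288) (Steps.fwd (nat_lit 32768) (Steps.bwd (nat_lit 9) Steps.nil)))))))) (nat_lit 44) (nat_lit 6),
  Rule.mk (nat_lit 4) (nat_lit 148) (Steps.bwd (nat_lit 6) (Steps.bwd (nat_lit 14) (Steps.bwd (nat_lit 12) (Steps.bwd (nat_lit 5) (Steps.bwd (nat_lit 11) (Steps.bwd (nat_lit 13) (Steps.bwd (nat_lit 3) (Steps.bwd (nat_lit 2) (Steps.bwd (nat_lit 2) Steps.nil))))))))) (nat_lit 52) (nat_lit 4),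
  Rule.mk (nat_lit 9) (nat_lit 118) (Steps.bwd (nat_lit 14) (Steps.fwd (nat_lit 45056) (Steps.bwd (nat_lit 5) (Steps.bwd (nat_lit 3) (Steps.bwd (nat_lit 2) (Steps.bwd (nat_lit 2) (Steps.bwd (nat_lit 7) Steps.nil))))))) (nat_lit 33) (nat_lit 2),
  Rule.mk (nat_lit 2) (nat_lit 73) (Steps.bwd (nat_lit 2) (Steps.bwd (nat_lit 6) (Steps.bwd (nat_lit 4) (Steps.fwd (nat_lit 32768) Steps.nil)))) (nat_lit 14) (nat_lit 3),
  Rule.mk (nat_lit 7) (nat_lit 103) (Steps.fwd (nat_lit 8192) (Steps.bwd (nat_lit 4) (Steps.bwd (nat_lit 2) (Steps.bwd (nat_lit 2) (Steps.bwd (nat_lit 2) (Steps.bwd (nat_lit 4) Steps.nil)))))) (nat_lit 28) (nat_lit 6),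
  Rule.mk (nat_lit 8) (nat_lit 103) (Steps.bwd (nat_lit 3) (Steps.bwd (nat_lit 1) (Steps.fwd (nat_lit 8192) (Steps.fwd (nat_lit 8192) (Steps.bwd (nat_lit 3) (Steps.bwd (nat_lit 2) Steps.nil)))))) (nat_lit 29) (nat_lit 2),
  Rule.mk (nat_lit 13) (nat_lit 43) (Steps.fwd (nat_lit 57344) (Steps.bwd (nat_lit 13) Steps.nil)) (nat_lit 10) (nat_lit 0),
  Rule.mk (nat_lit 10) (nat_lit 118) (Steps.bwd (nat_lit 8) (Steps.bwd (nat_lit 2) (Steps.bwd (nat_lit 2) (Steps.bwd (nat_lit 7) (Steps.bwd (nat_lit 2) (Steps.fwd (nat_lit 24576) (Steps.fwd (nat_lit 8192) Steps.nil))))))) (nat_lit 42) (nat_lit 3),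
  Rule.mk (nat_lit 4) (nat_lit 133) (Steps.bwd (nat_lit 7) (Steps.bwd (nat_lit 9) (Steps.bwd (nat_lit 6) (Steps.bwd (nat_lit 11) (Steps.bwd (nat_lit 13) (Steps.fwd (nat_lit 45056) (Steps.bwd (nat_lit 4) (Steps.fwd (nat_lit 32768) Steps.nil)))))))) (nat_lit 44) (nat_lit 3),
  Rule.mk (nat_lit 3) (nat_lit 73) (Steps.bwd (nat_lit 5) (Steps.fwd (nat_lit 8192) (Steps.bwd (nat_lit 1) (Steps.fwd (nat_lit 28672) Steps.nil)))) (nat_lit 15) (nat_lit 0),
  Rule.mk (nat_lit 9) (nat_lit 148) (Steps.fwd (nat_lit 28672) (Steps.fwd (nat_lit 8192) (Steps.fwd (nat_lit 8192) (Steps.fwd (nat_lit 8192) (Steps.fwd (nat_lit 12288) (Steps.bwd (nat_lit 5) (Steps.bwd (nat_lit 3) (Steps.bwd (nat_lit 2) (Steps.bwd (nat_lit 7) Steps.nil))))))))) (nat_lit 46) (nat_lit 0),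
  Rule.mk (nat_lit 1) (nat_lit 88) (Steps.fwd (nat_lit 16384) (Steps.fwd (nat_lit 4096) (Steps.fwd (nat_lit 36864) (Steps.fwd (nat_lit 28672) (Steps.bwd (nat_lit 9) Steps.nil))))) (nat_lit 20) (nat_lit 1),
  Rule.mk (nat_lit 13) (nat_lit 58) (Steps.bwd (nat_lit 3) (Steps.bwd (nat_lit 6) (Steps.bwd (nat_lit 4) Steps.nil))) (nat_lit 13) (nat_lit 1),
  Rule.mk (nat_lit 8) (nat_lit 73) (Steps.bwd (nat_lit 3) (Steps.fwd (nat_lit 24576) (Steps.fwd (nat_lit 8192) (Steps.fwd (nat_lit 8192) Steps.nil)))) (nat_lit 15) (nat_lit 4),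
  Rule.mk (nat_lit 6) (nat_lit 118) (Steps.bwd (nat_lit 11) (Steps.bwd (nat_lit 13) (Steps.fwd (nat_lit 36864) (Steps.fwd (nat_lit 28672) (Steps.fwd (nat_lit 8192) (Steps.bwd (nat_lit 1) (Steps.bwd (nat_lit 4) Steps.nil))))))) (nat_lit 32) (nat_lit 4),
  Rule.mk (nat_lit 8) (nat_lit 118) (Steps.bwd (nat_lit 14) (Steps.bwd (nat_lit 12) (Steps.fwd (nat_lit 36864) (Steps.fwd (nat_lit 28672) (Steps.fwd (nat_lit 53248) (Steps.bwd (nat_lit 12) (Steps.fwd (nat_lit 36864) Steps.nil))))))) (nat_lit 40) (nat_lit 1),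
  Rule.mk (nat_lit 10) (nat_lit 118) (Steps.bwd (nat_lit 8) (Steps.fwd (nat_lit 4096) (Steps.fwd (nat_lit 4096) (Steps.fwd (nat_lit 32768) (Steps.bwd (nat_lit 2) (Steps.fwd (nat_lit 24576) (Steps.fwd (nat_lit 8192) Steps.nil))))))) (nat_lit 42) (nat_lit 3),
  Rule.mk (nat_lit 9) (nat_lit 148) (Steps.bwd (nat_lit 8) (Steps.bwd (nat_lit 9) (Steps.bwd (nat_lit 8) (Steps.bwd (nat_lit 9) (Steps.bwd (nat_lit 8) (Steps.bwd (nat_lit 9) (Steps.fwd (nat_lit 28672) (Steps.bwd (nat_lit 9) (Steps.fwd (nat_lit 28672) Steps.nil))))))))) (nat_lit 48) (nat_lit 0),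
  Rule.mk (nat_lit 14) (nat_lit 88) (Steps.bwd (nat_lit 12) (Steps.bwd (nat_lit 13) (Steps.fwd (nat_lit 24576) (Steps.bwd (nat_lit 9) (Steps.bwd (nat_lit 6) Steps.nil))))) (nat_lit 24) (nat_lit 3),
  Rule.mk (nat_lit 2) (nat_lit 73) (Steps.bwd (nat_lit 6) (Steps.fwd (nat_lit 12288) (Steps.fwd (nat_lit 32768) (Steps.bwd (nat_lit 2) Steps.nil)))) (nat_lit 14) (nat_lit 4),
  Rule.mk (nat_lit 8) (nat_lit 103) (Steps.bwd (nat_lit 3) (Steps.bwd (nat_lit 1) (Steps.bwd (nat_lit 1) (Steps.bwd (nat_lit 1) (Steps.fwd (nat_lit 16384) (Steps.fwd (nat_lit 4096) Steps.nil)))))) (nat_lit 29) (nat_lit 2),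
  Rule.mk (nat_lit 5) (nat_lit 73) (Steps.bwd (nat_lit 1) (Steps.bwd (nat_lit 1) (Steps.bwd (nat_lit 8) (Steps.bwd (nat_lit 3) Steps.nil)))) (nat_lit 15) (nat_lit 1),
  Rule.mk (nat_lit 8) (nat_lit 103) (Steps.fwd (nat_lit 16384) (Steps.bwd (nat_lit 1) (Steps.bwd (nat_lit 1) (Steps.bwd (nat_lit 1) (Steps.fwd (nat_lit 16384) (Steps.bwd (nat_lit 2) Steps.nil)))))) (nat_lit 29) (nat_lit 2),
  Rule.mk (nat_lit 14) (nat_lit 118) (Steps.bwd (nat_lit 11) (Steps.bwd (nat_lit 13) (Steps.bwd (nat_lit 9) (Steps.bwd (nat_lit 14) (Steps.fwd (nat_lit 49152) (Steps.fwd (nat_lit 57344) (Steps.bwd (nat_lit 9) Steps.nil))))))) (nat_lit 36) (nat_lit 2),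
  Rule.mk (nat_lit 7) (nat_lit 118) (Steps.bwd (nat_lit 2) (Steps.bwd (nat_lit 5) (Steps.bwd (nat_lit 1) (Steps.fwd (nat_lit 36864) (Steps.fwd (nat_lit 28672) (Steps.bwd (nat_lit 2) (Steps.bwd (nat_lit 2) Steps.nil))))))) (nat_lit 42) (nat_lit 7),
  Rule.mk (nat_lit 4) (nat_lit 88) (Steps.fwd (nat_lit 36864) (Steps.fwd (nat_lit 20480) (Steps.fwd (nat_lit 8192) (Steps.bwd (nat_lit 7) (Steps.fwd (nat_lit 8192) Steps.nil))))) (nat_lit 22) (nat_lit 3),
  Rule.mk (nat_lit 0) (nat_lit 103) (Steps.fwd (nat_lit 20480) (Steps.fwd (nat_lit 8192) (Steps.bwd (nat_lit 7) (Steps.bwd (nat_lit 1) (Steps.fwd (nat_lit 12288) (Steps.bwd (nat_lit 10) Steps.nil)))))) (nat_lit 22) (nat_lit 4),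
  Rule.mk (nat_lit 14) (nat_lit 88) (Steps.bwd (nat_lit 11) (Steps.bwd (nat_lit 13) (Steps.fwd (nat_lit 45056) (Steps.fwd (nat_lit 36864) (Steps.bwd (nat_lit 11) Steps.nil))))) (nat_lit 27) (nat_lit 0),
  Rule.mk (nat_lit 5) (nat_lit 73) (Steps.fwd (nat_lit 45056) (Steps.bwd (nat_lit 7) (Steps.bwd (nat_lit 3) (Steps.bwd (nat_lit 13) Steps.nil)))) (nat_lit 17) (nat_lit 2),
  Rule.mk (nat_lit 1) (nat_lit 88) (Steps.bwd (nat_lit 4) (Steps.bwd (nat_lit 10) (Steps.bwd (nat_lit 6) (Steps.fwd (nat_lit 8192) (Steps.fwd (nat_lit 32768) Steps.nil))))) (nat_lit 22) (nat_lit 2),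
  Rule.mk (nat_lit 12) (nat_lit 88) (Steps.bwd (nat_lit 13) (Steps.fwd (nat_lit 24576) (Steps.bwd (nat_lit 9) (Steps.fwd (nat_lit 20480) (Steps.fwd (nat_lit 53248) Steps.nil))))) (nat_lit 24) (nat_lit 4),
  Rule.mk (nat_lit 6) (nat_lit 73) (Steps.fwd (nat_lit 45056) (Steps.fwd (nat_lit 20480) (Steps.bwd (nat_lit 12) (Steps.bwd (nat_lit 9) Steps.nil)))) (nat_lit 19) (nat_lit 2),
  Rule.mk (nat_lit 1) (nat_lit 118) (Steps.bwd (nat_lit 4) (Steps.bwd (nat_lit 6) (Steps.bwd (nat_lit 11) (Steps.bwd (nat_lit 13) (Steps.bwd (nat_lit 10) (Steps.bwd (nat_lit 8) (Steps.bwd (nat_lit 1) Steps.nil))))))) (nat_lit 32) (nat_lit 2),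
  Rule.mk (nat_lit 8) (nat_lit 73) (Steps.fwd (nat_lit 16384) (Steps.fwd (nat_lit 24576) (Steps.bwd (nat_lit 1) (Steps.bwd (nat_lit 1) Steps.nil)))) (nat_lit 15) (nat_lit 4),
  Rule.mk (nat_lit 1) (nat_lit 103) (Steps.fwd (nat_lit 16384) (Steps.fwd (nat_lit 4096) (Steps.fwd (nat_lit 28672) (Steps.bwd (nat_lit 3) (Steps.bwd (nat_lit 1) (Steps.bwd (nat_lit 1) Steps.nil)))))) (nat_lit 29) (nat_lit 6),
  Rule.mk (nat_lit 5) (nat_lit 73) (Steps.bwd (nat_lit 11) (Steps.fwd (nat_lit 24576) (Steps.fwd (nat_lit 36864) (Steps.fwd (nat_lit 49152) Steps.nil)))) (nat_lit 18) (nat_lit 2),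
  Rule.mk (nat_lit 9) (nat_lit 88) (Steps.bwd (nat_lit 11) (Steps.fwd (nat_lit 53248) (Steps.bwd (nat_lit 12) (Steps.fwd (nat_lit 57344) (Steps.fwd (nat_lit 45056) Steps.nil))))) (nat_lit 26) (nat_lit 3),
  Rule.mk (nat_lit 13) (nat_lit 118) (Steps.bwd (nat_lit 9) (Steps.bwd (nat_lit 14) (Steps.bwd (nat_lit 11) (Steps.bwd (nat_lit 13) (Steps.bwd (nat_lit 9) (Steps.bwd (nat_lit 14) (Steps.fwd (nat_lit 49152) Steps.nil))))))) (nat_lit 36) (nat_lit 0),
  Rule.mk (nat_lit 10) (nat_lit 118) (Steps.bwd (nat_lit 7) (Steps.bwd (nat_lit 9) (Steps.bwd (nat_lit 13) (Steps.fwd (nat_lit 36864) (Steps.fwd (nat_lit 32768) (Steps.bwd (nat_lit 9) (Steps.bwd (nat_lit 13) Steps.nil))))))) (nat_lit 38) (nat_lit 2),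
  Rule.mk (nat_lit 14) (nat_lit 118) (Steps.bwd (nat_lit 12) (Steps.bwd (nat_lit 10) (Steps.bwd (nat_lit 8) (Steps.bwd (nat_lit 14) (Steps.fwd (nat_lit 45056) (Steps.fwd (nat_lit 36864) (Steps.fwd (nat_lit 28672) Steps.nil))))))) (nat_lit 40) (nat_lit 2),
  Rule.mk (nat_lit 4) (nat_lit 133) (Steps.bwd (nat_lit 7) (Steps.bwd (nat_lit 9) (Steps.bwd (nat_lit 6) (Steps.bwd (nat_lit 11) (Steps.fwd (nat_lit 57344) (Steps.fwd (nat_lit 45056) (Steps.fwd (nat_lit 12288) (Steps.bwd (nat_lit 7) Steps.nil)))))))) (nat_lit 44) (nat_lit 3),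
  Rule.mk (nat_lit 14) (nat_lit 88) (Steps.bwd (nat_lit 11) (Steps.fwd (nat_lit 57344) (Steps.bwd (nat_lit 5) (Steps.bwd (nat_lit 10) (Steps.fwd (nat_lit 20480) Steps.nil))))) (nat_lit 25) (nat_lit 2),
  Rule.mk (nat_lit 1) (nat_lit 148) (Steps.bwd (nat_lit 1) (Steps.bwd (nat_lit 4) (Steps.bwd (nat_lit 5) (Steps.bwd (nat_lit 3) (Steps.bwd (nat_lit 2) (Steps.fwd (nat_lit 32768) (Steps.bwd (nat_lit 9) (Steps.fwd (nat_lit 28672) (Steps.fwd (nat_lit 8192) Steps.nil))))))))) (nat_lit 46) (nat_lit 3),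
  Rule.mk (nat_lit 1) (nat_lit 343) (Steps.bwd (nat_lit 1) (Steps.bwd (nat_lit 1) (Steps.bwd (nat_lit 1) (Steps.bwd (nat_lit 1) (Steps.bwd (nat_lit 1) (Steps.bwd (nat_lit 1) (Steps.bwd (nat_lit 1) (Steps.bwd (nat_lit 1) (Steps.bwd (nat_lit 1) (Steps.bwd (nat_lit 1) (Steps.bwd (nat_lit 1) (Steps.bwd (nat_lit 1) (Steps.bwd (nat_lit 1) (Steps.bwd (nat_lit 1) (Steps.bwd (nat_lit 1) (Steps.bwd (nat_lit 1) (Steps.bwd (nat_lit 1) (Steps.fwd (nat_lit 8192) (Steps.fwd (nat_lit 8192) (Steps.bwd (nat_lit 1) (Steps.bwd (nat_lit 1) (Steps.bwd (nat_lit 1) Steps.nil)))))))))))))))))))))) (nat_lit 54) (nat_lit 0),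
  Rule.mk (nat_lit 5) (nat_lit 73) (Steps.bwd (nat_lit 1) (Steps.fwd (nat_lit 8192) (Steps.fwd (nat_lit 28672) (Steps.fwd (nat_lit 16384) Steps.nil)))) (nat_lit 15) (nat_lit 1),
  Rule.mk (nat_lit 9) (nat_lit 88) (Steps.bwd (nat_lit 11) (Steps.fwd (nat_lit 53248) (Steps.fwd (nat_lit 45056) (Steps.bwd (nat_lit 13) (Steps.bwd (nat_lit 12) Steps.nil))))) (nat_lit 26) (nat_lit 3),
  Rule.mk (nat_lit 1) (nat_lit 118) (Steps.bwd (nat_lit 4) (Steps.bwd (nat_lit 6) (Steps.bwd (nat_lit 11) (Steps.bwd (nat_lit 13) (Steps.bwd (nat_lit 10) (Steps.fwd (nat_lit 28672) (Steps.fwd (nat_lit 8192) Steps.nil))))))) (nat_lit 32) (nat_lit 2),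
  Rule.mk (nat_lit 12) (nat_lit 148) (Steps.bwd (nat_lit 13) (Steps.bwd (nat_lit 12) (Steps.bwd (nat_lit 13) (Steps.bwd (nat_lit 12) (Steps.bwd (nat_lit 13) (Steps.bwd (nat_lit 12) (Steps.bwd (nat_lit 13) (Steps.fwd (nat_lit 45056) (Steps.fwd (nat_lit 57344) Steps.nil))))))))) (nat_lit 50) (nat_lit 1),
  Rule.mk (nat_lit 9) (nat_lit 88) (Steps.fwd (nat_lit 49152) (Steps.fwd (nat_lit 53248) (Steps.fwd (nat_lit 45056) (Steps.fwd (nat_lit 57344) (Steps.bwd (nat_lit 12) Steps.nil))))) (nat_lit 26) (nat_lit 3),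
  Rule.mk (nat_lit 11) (nat_lit 88) (Steps.bwd (nat_lit 13) (Steps.bwd (nat_lit 12) (Steps.bwd (nat_lit 10) (Steps.bwd (nat_lit 11) (Steps.fwd (nat_lit 53248) Steps.nil))))) (nat_lit 27) (nat_lit 1),
  Rule.mk (nat_lit 0) (nat_lit 163) (Steps.fwd (nat_lit 49152) (Steps.fwd (nat_lit 53248) (Steps.bwd (nat_lit 11) (Steps.bwd (nat_lit 14) (Steps.fwd (nat_lit 49152) (Steps.bwd (nat_lit 14) (Steps.bwd (nat_lit 11) (Steps.fwd (nat_lit 53248) (Steps.bwd (nat_lit 11) (Steps.fwd (nat_lit 53248) Steps.nil)))))))))) (nat_lit 51) (nat_lit 1),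
  Rule.mk (nat_lit 0) (nat_lit 103) (Steps.bwd (nat_lit 11) (Steps.fwd (nat_lit 53248) (Steps.fwd (nat_lit 49152) (Steps.bwd (nat_lit 13) (Steps.bwd (nat_lit 12) (Steps.bwd (nat_lit 10) Steps.nil)))))) (nat_lit 27) (nat_lit 4),
  Rule.mk (nat_lit 11) (nat_lit 43) (Steps.bwd (nat_lit 0) (Steps.fwd (nat_lit 45056) Steps.nil)) (nat_lit 56) (nat_lit 0),
  Rule.mk (nat_lit 14) (nat_lit 58) (Steps.bwd (nat_lit 3) (Steps.fwd (nat_lit 24576) (Steps.fwd (nat_lit 12288) Steps.nil))) (nat_lit 12) (nat_lit 0),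
  Rule.mk (nat_lit 11) (nat_lit 88) (Steps.bwd (nat_lit 14) (Steps.bwd (nat_lit 12) (Steps.bwd (nat_lit 13) (Steps.fwd (nat_lit 45056) (Steps.bwd (nat_lit 9) Steps.nil))))) (nat_lit 26) (nat_lit 4)]
noncomputable def R_7 : List (Rule) := [Rule.mk (nat_lit 12) (nat_lit 88) (Steps.fwd (nat_lit 36864) (Steps.bwd (nat_lit 11) (Steps.bwd (nat_lit 14) (Steps.fwd (nat_lit 49152) (Steps.fwd (nat_lit 57344) Steps.nil))))) (nat_lit 27) (nat_lit 3),
  Rule.mk (nat_lit 5) (nat_lit 58) (Steps.bwd (nat_lit 4) (Steps.bwd (nat_lit 14) (Steps.bwd (nat_lit 3) Steps.nil))) (nat_lit 12) (nat_lit 2),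
  Rule.mk (nat_lit 7) (nat_lit 73) (Steps.bwd (nat_lit 2) (Steps.bwd (nat_lit 2) (Steps.bwd (nat_lit 6) (Steps.fwd (nat_lit 12288) Steps.nil)))) (nat_lit 14) (nat_lit 2),
  Rule.mk (nat_lit 9) (nat_lit 88) (Steps.bwd (nat_lit 6) (Steps.bwd (nat_lit 14) (Steps.fwd (nat_lit 45056) (Steps.bwd (nat_lit 13) (Steps.bwd (nat_lit 5) Steps.nil))))) (nat_lit 24) (nat_lit 1),
  Rule.mk (nat_lit 10) (nat_lit 88) (Steps.bwd (nat_lit 6) (Steps.bwd (nat_lit 14) (Steps.bwd (nat_lit 11) (Steps.bwd (nat_lit 13) (Steps.bwd (nat_lit 5) Steps.nil))))) (nat_lit 25) (nat_lit 0),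
  Rule.mk (nat_lit 4) (nat_lit 73) (Steps.bwd (nat_lit 8) (Steps.bwd (nat_lit 11) (Steps.fwd (nat_lit 20480) (Steps.bwd (nat_lit 14) Steps.nil)))) (nat_lit 16) (nat_lit 1),
  Rule.mk (nat_lit 7) (nat_lit 118) (Steps.bwd (nat_lit 9) (Steps.bwd (nat_lit 13) (Steps.bwd (nat_lit 10) (Steps.bwd (nat_lit 7) (Steps.bwd (nat_lit 9) (Steps.fwd (nat_lit 57344) (Steps.fwd (nat_lit 36864) Steps.nil))))))) (nat_lit 38) (nat_lit 3),
  Rule.mk (nat_lit 10) (nat_lit 118) (Steps.bwd (nat_lit 8) (Steps.bwd (nat_lit 2) (Steps.bwd (nat_lit 2) (Steps.bwd (nat_lit 7) (Steps.fwd (nat_lit 4096) (Steps.fwd (nat_lit 24576) (Steps.fwd (nat_lit 8192) Steps.nil))))))) (nat_lit 42) (nat_lit 3),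
  Rule.mk (nat_lit 4) (nat_lit 133) (Steps.bwd (nat_lit 7) (Steps.bwd (nat_lit 9) (Steps.bwd (nat_lit 6) (Steps.fwd (nat_lit 49152) (Steps.bwd (nat_lit 13) (Steps.fwd (nat_lit 45056) (Steps.fwd (nat_lit 12288) (Steps.bwd (nat_lit 7) Steps.nil)))))))) (nat_lit 44) (nat_lit 3),
  Rule.mk (nat_lit 13) (nat_lit 148) (Steps.bwd (nat_lit 12) (Steps.bwd (nat_lit 13) (Steps.bwd (nat_lit 12) (Steps.bwd (nat_lit 13) (Steps.bwd (nat_lit 12) (Steps.bwd (nat_lit 13) (Steps.fwd (nat_lit 45056) (Steps.bwd (nat_lit 13) (Steps.fwd (nat_lit 45056) Steps.nil))))))))) (nat_lit 50) (nat_lit 0),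
  Rule.mk (nat_lit 2) (nat_lit 88) (Steps.bwd (nat_lit 5) (Steps.bwd (nat_lit 9) (Steps.fwd (nat_lit 16384) (Steps.fwd (nat_lit 4096) (Steps.fwd (nat_lit 28672) Steps.nil))))) (nat_lit 23) (nat_lit 1),
  Rule.mk (nat_lit 0) (nat_lit 118) (Steps.fwd (nat_lit 16384) (Steps.fwd (nat_lit 4096) (Steps.fwd (nat_lit 28672) (Steps.fwd (nat_lit 16384) (Steps.bwd (nat_lit 1) (Steps.bwd (nat_lit 1) (Steps.bwd (nat_lit 1) Steps.nil))))))) (nat_lit 29) (nat_lit 6),
  Rule.mk (nat_lit 6) (nat_lit 118) (Steps.bwd (nat_lit 11) (Steps.bwd (nat_lit 13) (Steps.fwd (nat_lit 36864) (Steps.fwd (nat_lit 28672) (Steps.fwd (nat_lit 8192) (Steps.fwd (nat_lit 8192) (Steps.bwd (nat_lit 4) Steps.nil))))))) (nat_lit 32) (nat_lit 4),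
  Rule.mk (nat_lit 6) (nat_lit 118) (Steps.bwd (nat_lit 11) (Steps.bwd (nat_lit 5) (Steps.bwd (nat_lit 3) (Steps.fwd (nat_lit 20480) (Steps.bwd (nat_lit 11) (Steps.fwd (nat_lit 24576) (Steps.fwd (nat_lit 16384) Steps.nil))))))) (nat_lit 34) (nat_lit 2),
  Rule.mk (nat_lit 7) (nat_lit 73) (Steps.fwd (nat_lit 4096) (Steps.fwd (nat_lit 4096) (Steps.bwd (nat_lit 6) (Steps.bwd (nat_lit 4) Steps.nil)))) (nat_lit 14) (nat_lit 2),
  Rule.mk (nat_lit 12) (nat_lit 148) (Steps.bwd (nat_lit 5) (Steps.bwd (nat_lit 11) (Steps.bwd (nat_lit 13) (Steps.fwd (nat_lit 16384) (Steps.fwd (nat_lit 4096) (Steps.fwd (nat_lit 4096) (Steps.fwd (nat_lit 12288) (Steps.fwd (nat_lit 20480) (Steps.fwd (nat_lit 53248) Steps.nil))))))))) (nat_lit 52) (nat_lit 7),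
  Rule.mk (nat_lit 13) (nat_lit 88) (Steps.fwd (nat_lit 24576) (Steps.bwd (nat_lit 9) (Steps.fwd (nat_lit 20480) (Steps.fwd (nat_lit 53248) (Steps.bwd (nat_lit 12) Steps.nil))))) (nat_lit 24) (nat_lit 5),
  Rule.mk (nat_lit 1) (nat_lit 343) (Steps.bwd (nat_lit 1) (Steps.bwd (nat_lit 1) (Steps.bwd (nat_lit 1) (Steps.bwd (nat_lit 1) (Steps.bwd (nat_lit 1) (Steps.bwd (nat_lit 1) (Steps.bwd (nat_lit 1) (Steps.bwd (nat_lit 1) (Steps.bwd (nat_lit 1) (Steps.bwd (nat_lit 1) (Steps.bwd (nat_lit 1) (Steps.bwd (nat_lit 1) (Steps.bwd (nat_lit 1) (Steps.bwd (nat_lit 1) (Steps.bwd (nat_lit 1) (Steps.bwd (nat_lit 1) (Steps.bwd (nat_lit 1) (Steps.fwd (nat_lit 8192) (Steps.fwd (nat_lit 8192) (Steps.fwd (nat_lit 8192) (Steps.fwd (nat_lit 8192) (Steps.fwd (nat_lit 8192) Steps.nil)))))))))))))))))))))) (nat_lit 54) (nat_lit 0),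
  Rule.mk (nat_lit 4) (nat_lit 103) (Steps.fwd (nat_lit 4096) (Steps.fwd (nat_lit 4096) (Steps.fwd (nat_lit 4096) (Steps.fwd (nat_lit 12288) (Steps.bwd (nat_lit 7) (Steps.bwd (nat_lit 1) Steps.nil)))))) (nat_lit 28) (nat_lit 1),
  Rule.mk (nat_lit 1) (nat_lit 88) (Steps.bwd (nat_lit 4) (Steps.bwd (nat_lit 10) (Steps.fwd (nat_lit 20480) (Steps.bwd (nat_lit 1) (Steps.fwd (nat_lit 32768) Steps.nil))))) (nat_lit 22) (nat_lit 2),
  Rule.mk (nat_lit 0) (nat_lit 118) (Steps.fwd (nat_lit 16384) (Steps.fwd (nat_lit 4096) (Steps.bwd (nat_lit 8) (Steps.bwd (nat_lit 3) (Steps.bwd (nat_lit 1) (Steps.bwd (nat_lit 1) (Steps.bwd (nat_lit 1) Steps.nil))))))) (nat_lit 29) (nat_lit 6),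
  Rule.mk (nat_lit 1) (nat_lit 118) (Steps.bwd (nat_lit 10) (Steps.bwd (nat_lit 8) (Steps.fwd (nat_lit 4096) (Steps.fwd (nat_lit 4096) (Steps.bwd (nat_lit 7) (Steps.bwd (nat_lit 2) (Steps.fwd (nat_lit 24576) Steps.nil))))))) (nat_lit 42) (nat_lit 2),
  Rule.mk (nat_lit 1) (nat_lit 73) (Steps.fwd (nat_lit 28672) (Steps.fwd (nat_lit 16384) (Steps.fwd (nat_lit 24576) (Steps.bwd (nat_lit 1) Steps.nil)))) (nat_lit 15) (nat_lit 3),
  Rule.mk (nat_lit 3) (nat_lit 103) (Steps.bwd (nat_lit 1) (Steps.bwd (nat_lit 1) (Steps.fwd (nat_lit 8192) (Steps.bwd (nat_lit 3) (Steps.fwd (nat_lit 4096) (Steps.bwd (nat_lit 8) Steps.nil)))))) (nat_lit 29) (nat_lit 3),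
  Rule.mk (nat_lit 8) (nat_lit 118) (Steps.bwd (nat_lit 14) (Steps.bwd (nat_lit 12) (Steps.fwd (nat_lit 36864) (Steps.bwd (nat_lit 8) (Steps.fwd (nat_lit 53248) (Steps.bwd (nat_lit 12) (Steps.fwd (nat_lit 36864) Steps.nil))))))) (nat_lit 40) (nat_lit 1),
  Rule.mk (nat_lit 1) (nat_lit 148) (Steps.bwd (nat_lit 4) (Steps.bwd (nat_lit 5) (Steps.bwd (nat_lit 3) (Steps.bwd (nat_lit 2) (Steps.bwd (nat_lit 7) (Steps.bwd (nat_lit 9) (Steps.bwd (nat_lit 8) (Steps.fwd (nat_lit 8192) (Steps.fwd (nat_lit 8192) Steps.nil))))))))) (nat_lit 46) (nat_lit 4),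
  Rule.mk (nat_lit 9) (nat_lit 148) (Steps.bwd (nat_lit 8) (Steps.bwd (nat_lit 9) (Steps.bwd (nat_lit 8) (Steps.bwd (nat_lit 9) (Steps.bwd (nat_lit 8) (Steps.bwd (nat_lit 9) (Steps.fwd (nat_lit 28672) (Steps.bwd (nat_lit 9) (Steps.bwd (nat_lit 8) Steps.nil))))))))) (nat_lit 48) (nat_lit 0),
  Rule.mk (nat_lit 6) (nat_lit 73) (Steps.bwd (nat_lit 12) (Steps.bwd (nat_lit 6) (Steps.bwd (nat_lit 12) (Steps.bwd (nat_lit 9) Steps.nil)))) (nat_lit 19) (nat_lit 2),
  Rule.mk (nat_lit 11) (nat_lit 88) (Steps.bwd (nat_lit 14) (Steps.bwd (nat_lit 12) (Steps.bwd (nat_lit 13) (Steps.bwd (nat_lit 12) (Steps.bwd (nat_lit 9) Steps.nil))))) (nat_lit 26) (nat_lit 4),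
  Rule.mk (nat_lit 8) (nat_lit 73) (Steps.bwd (nat_lit 11) (Steps.fwd (nat_lit 20480) (Steps.bwd (nat_lit 14) (Steps.fwd (nat_lit 12288) Steps.nil)))) (nat_lit 16) (nat_lit 2),
  Rule.mk (nat_lit 10) (nat_lit 88) (Steps.bwd (nat_lit 6) (Steps.fwd (nat_lit 8192) (Steps.fwd (nat_lit 32768) (Steps.bwd (nat_lit 1) (Steps.fwd (nat_lit 12288) Steps.nil))))) (nat_lit 22) (nat_lit 4),
  Rule.mk (nat_lit 6) (nat_lit 118) (Steps.bwd (nat_lit 11) (Steps.fwd (nat_lit 57344) (Steps.fwd (nat_lit 36864) (Steps.bwd (nat_lit 8) (Steps.fwd (nat_lit 8192) (Steps.fwd (nat_lit 8192) (Steps.bwd (nat_lit 4) Steps.nil))))))) (nat_lit 32) (nat_lit 4),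
  Rule.mk (nat_lit 11) (nat_lit 88) (Steps.bwd (nat_lit 14) (Steps.fwd (nat_lit 49152) (Steps.bwd (nat_lit 13) (Steps.fwd (nat_lit 45056) (Steps.bwd (nat_lit 10) Steps.nil))))) (nat_lit 27) (nat_lit 5),
  Rule.mk (nat_lit 13) (nat_lit 118) (Steps.bwd (nat_lit 10) (Steps.bwd (nat_lit 7) (Steps.fwd (nat_lit 40960) (Steps.fwd (nat_lit 57344) (Steps.fwd (nat_lit 36864) (Steps.fwd (nat_lit 32768) (Steps.fwd (nat_lit 40960) Steps.nil))))))) (nat_lit 38) (nat_lit 1),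
  Rule.mk (nat_lit 14) (nat_lit 118) (Steps.bwd (nat_lit 12) (Steps.bwd (nat_lit 10) (Steps.bwd (nat_lit 8) (Steps.bwd (nat_lit 14) (Steps.fwd (nat_lit 45056) (Steps.fwd (nat_lit 36864) (Steps.bwd (nat_lit 8) Steps.nil))))))) (nat_lit 40) (nat_lit 2),
  Rule.mk (nat_lit 4) (nat_lit 133) (Steps.bwd (nat_lit 7) (Steps.bwd (nat_lit 9) (Steps.bwd (nat_lit 6) (Steps.fwd (nat_lit 49152) (Steps.bwd (nat_lit 13) (Steps.bwd (nat_lit 12) (Steps.fwd (nat_lit 12288) (Steps.bwd (nat_lit 7) Steps.nil)))))))) (nat_lit 44) (nat_lit 3),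
  Rule.mk (nat_lit 1) (nat_lit 148) (Steps.bwd (nat_lit 1) (Steps.bwd (nat_lit 4) (Steps.bwd (nat_lit 5) (Steps.bwd (nat_lit 3) (Steps.bwd (nat_lit 2) (Steps.bwd (nat_lit 7) (Steps.fwd (nat_lit 40960) (Steps.bwd (nat_lit 8) (Steps.bwd (nat_lit 1) Steps.nil))))))))) (nat_lit 46) (nat_lit 3),
  Rule.mk (nat_lit 8) (nat_lit 148) (Steps.bwd (nat_lit 9) (Steps.bwd (nat_lit 8) (Steps.bwd (nat_lit 9) (Steps.bwd (nat_lit 8) (Steps.bwd (nat_lit 9) (Steps.bwd (nat_lit 8) (Steps.fwd (nat_lit 40960) (Steps.bwd (nat_lit 8) (Steps.fwd (nat_lit 40960) Steps.nil))))))))) (nat_lit 48) (nat_lit 1),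
  Rule.mk (nat_lit 9) (nat_lit 88) (Steps.bwd (nat_lit 11) (Steps.bwd (nat_lit 14) (Steps.fwd (nat_lit 45056) (Steps.fwd (nat_lit 57344) (Steps.bwd (nat_lit 12) Steps.nil))))) (nat_lit 26) (nat_lit 3),
  Rule.mk (nat_lit 10) (nat_lit 88) (Steps.bwd (nat_lit 11) (Steps.fwd (nat_lit 53248) (Steps.fwd (nat_lit 49152) (Steps.fwd (nat_lit 57344) (Steps.bwd (nat_lit 12) Steps.nil))))) (nat_lit 27) (nat_lit 4),
  Rule.mk (nat_lit 6) (nat_lit 148) (Steps.bwd (nat_lit 14) (Steps.bwd (nat_lit 12) (Steps.bwd (nat_lit 5) (Steps.fwd (nat_lit 49152) (Steps.bwd (nat_lit 13) (Steps.bwd (nat_lit 3) (Steps.fwd (nat_lit 4096) (Steps.fwd (nat_lit 4096) (Steps.fwd (nat_lit 12288) Steps.nil))))))))) (nat_lit 52) (nat_lit 5),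
  Rule.mk (nat_lit 11) (nat_lit 73) (Steps.bwd (nat_lit 6) (Steps.bwd (nat_lit 14) (Steps.fwd (nat_lit 12288) (Steps.bwd (nat_lit 8) Steps.nil)))) (nat_lit 16) (nat_lit 3),
  Rule.mk (nat_lit 9) (nat_lit 73) (Steps.bwd (nat_lit 6) (Steps.fwd (nat_lit 45056) (Steps.fwd (nat_lit 20480) (Steps.fwd (nat_lit 45056) Steps.nil)))) (nat_lit 19) (nat_lit 1),
  Rule.mk (nat_lit 11) (nat_lit 73) (Steps.bwd (nat_lit 5) (Steps.fwd (nat_lit 36864) (Steps.bwd (nat_lit 11) (Steps.fwd (nat_lit 24576) Steps.nil)))) (nat_lit 18) (nat_lit 3),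
  Rule.mk (nat_lit 1) (nat_lit 103) (Steps.fwd (nat_lit 16384) (Steps.fwd (nat_lit 4096) (Steps.bwd (nat_lit 8) (Steps.bwd (nat_lit 3) (Steps.bwd (nat_lit 1) (Steps.bwd (nat_lit 1) Steps.nil)))))) (nat_lit 29) (nat_lit 6),
  Rule.mk (nat_lit 10) (nat_lit 73) (Steps.bwd (nat_lit 11) (Steps.bwd (nat_lit 5) (Steps.bwd (nat_lit 11) (Steps.fwd (nat_lit 24576) Steps.nil)))) (nat_lit 18) (nat_lit 0),
  Rule.mk (nat_lit 3) (nat_lit 73) (Steps.bwd (nat_lit 5) (Steps.fwd (nat_lit 8192) (Steps.bwd (nat_lit 1) (Steps.bwd (nat_lit 8) Steps.nil)))) (nat_lit 15) (nat_lit 0),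
  Rule.mk (nat_lit 6) (nat_lit 88) (Steps.bwd (nat_lit 14) (Steps.bwd (nat_lit 12) (Steps.fwd (nat_lit 57344) (Steps.fwd (nat_lit 24576) (Steps.bwd (nat_lit 9) Steps.nil))))) (nat_lit 24) (nat_lit 2),
  Rule.mk (nat_lit 11) (nat_lit 88) (Steps.bwd (nat_lit 14) (Steps.bwd (nat_lit 12) (Steps.fwd (nat_lit 57344) (Steps.bwd (nat_lit 12) (Steps.bwd (nat_lit 9) Steps.nil))))) (nat_lit 26) (nat_lit 4),
  Rule.mk (nat_lit 4) (nat_lit 73) (Steps.fwd (nat_lit 28672) (Steps.bwd (nat_lit 11) (Steps.bwd (nat_lit 6) (Steps.bwd (nat_lit 14) Steps.nil)))) (nat_lit 16) (nat_lit 1),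
  Rule.mk (nat_lit 1) (nat_lit 88) (Steps.bwd (nat_lit 7) (Steps.bwd (nat_lit 1) (Steps.fwd (nat_lit 12288) (Steps.bwd (nat_lit 10) (Steps.bwd (nat_lit 6) Steps.nil))))) (nat_lit 22) (nat_lit 0),
  Rule.mk (nat_lit 13) (nat_lit 118) (Steps.bwd (nat_lit 10) (Steps.bwd (nat_lit 7) (Steps.bwd (nat_lit 9) (Steps.fwd (nat_lit 57344) (Steps.fwd (nat_lit 36864) (Steps.bwd (nat_lit 7) (Steps.bwd (nat_lit 9) Steps.nil))))))) (nat_lit 38) (nat_lit 1),
  Rule.mk (nat_lit 7) (nat_lit 133) (Steps.bwd (nat_lit 9) (Steps.bwd (nat_lit 6) (Steps.bwd (nat_lit 11) (Steps.bwd (nat_lit 13) (Steps.fwd (nat_lit 45056) (Steps.fwd (nat_lit 12288) (Steps.fwd (nat_lit 32768) (Steps.bwd (nat_lit 4) Steps.nil)))))))) (nat_lit 44) (nat_lit 4),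
  Rule.mk (nat_lit 10) (nat_lit 88) (Steps.fwd (nat_lit 49152) (Steps.fwd (nat_lit 53248) (Steps.fwd (nat_lit 49152) (Steps.bwd (nat_lit 13) (Steps.fwd (nat_lit 45056) Steps.nil))))) (nat_lit 27) (nat_lit 4),
  Rule.mk (nat_lit 13) (nat_lit 148) (Steps.bwd (nat_lit 12) (Steps.bwd (nat_lit 13) (Steps.bwd (nat_lit 12) (Steps.fwd (nat_lit 57344) (Steps.bwd (nat_lit 12) (Steps.bwd (nat_lit 13) (Steps.fwd (nat_lit 45056) (Steps.bwd (nat_lit 13) (Steps.bwd (nat_lit 12) Steps.nil))))))))) (nat_lit 50) (nat_lit 0),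
  Rule.mk (nat_lit 6) (nat_lit 148) (Steps.fwd (nat_lit 16384) (Steps.fwd (nat_lit 4096) (Steps.bwd (nat_lit 2) (Steps.bwd (nat_lit 2) (Steps.fwd (nat_lit 32768) (Steps.bwd (nat_lit 10) (Steps.fwd (nat_lit 28672) (Steps.bwd (nat_lit 1) (Steps.bwd (nat_lit 4) Steps.nil))))))))) (nat_lit 47) (nat_lit 5),
  Rule.mk (nat_lit 2) (nat_lit 103) (Steps.fwd (nat_lit 4096) (Steps.bwd (nat_lit 2) (Steps.fwd (nat_lit 12288) (Steps.fwd (nat_lit 32768) (Steps.bwd (nat_lit 1) (Steps.bwd (nat_lit 4) Steps.nil)))))) (nat_lit 28) (nat_lit 2),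
  Rule.mk (nat_lit 2) (nat_lit 88) (Steps.bwd (nat_lit 10) (Steps.bwd (nat_lit 7) (Steps.fwd (nat_lit 40960) (Steps.bwd (nat_lit 1) (Steps.bwd (nat_lit 4) Steps.nil))))) (nat_lit 21) (nat_lit 0),
  Rule.mk (nat_lit 11) (nat_lit 118) (Steps.bwd (nat_lit 5) (Steps.bwd (nat_lit 3) (Steps.fwd (nat_lit 20480) (Steps.bwd (nat_lit 11) (Steps.bwd (nat_lit 5) (Steps.fwd (nat_lit 16384) (Steps.fwd (nat_lit 20480) Steps.nil))))))) (nat_lit 34) (nat_lit 3),
  Rule.mk (nat_lit 8) (nat_lit 118) (Steps.bwd (nat_lit 14) (Steps.bwd (nat_lit 12) (Steps.fwd (nat_lit 36864) (Steps.bwd (nat_lit 8) (Steps.bwd (nat_lit 14) (Steps.bwd (nat_lit 12) (Steps.fwd (nat_lit 36864) Steps.nil))))))) (nat_lit 40) (nat_lit 1),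
  Rule.mk (nat_lit 10) (nat_lit 118) (Steps.bwd (nat_lit 8) (Steps.bwd (nat_lit 2) (Steps.bwd (nat_lit 2) (Steps.fwd (nat_lit 32768) (Steps.bwd (nat_lit 2) (Steps.fwd (nat_lit 24576) (Steps.fwd (nat_lit 8192) Steps.nil))))))) (nat_lit 42) (nat_lit 3),
  Rule.mk (nat_lit 1) (nat_lit 148) (Steps.bwd (nat_lit 1) (Steps.bwd (nat_lit 1) (Steps.bwd (nat_lit 4) (Steps.bwd (nat_lit 5) (Steps.bwd (nat_lit 3) (Steps.fwd (nat_lit 4096) (Steps.bwd (nat_lit 7) (Steps.fwd (nat_lit 40960) (Steps.bwd (nat_lit 8) Steps.nil))))))))) (nat_lit 46) (nat_lit 2),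
  Rule.mk (nat_lit 13) (nat_lit 148) (Steps.bwd (nat_lit 12) (Steps.bwd (nat_lit 13) (Steps.fwd (nat_lit 45056) (Steps.fwd (nat_lit 57344) (Steps.bwd (nat_lit 12) (Steps.bwd (nat_lit 13) (Steps.bwd (nat_lit 12) (Steps.fwd (nat_lit 57344) (Steps.bwd (nat_lit 12) Steps.nil))))))))) (nat_lit 50) (nat_lit 0),
  Rule.mk (nat_lit 2) (nat_lit 148) (Steps.bwd (nat_lit 2) (Steps.bwd (nat_lit 4) (Steps.bwd (nat_lit 6) (Steps.bwd (nat_lit 14) (Steps.bwd (nat_lit 12) (Steps.bwd (nat_lit 5) (Steps.fwd (nat_lit 49152) (Steps.bwd (nat_lit 13) (Steps.fwd (nat_lit 16384) Steps.nil))))))))) (nat_lit 52) (nat_lit 2)]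
noncomputable def R_8 : List (Rule) := [Rule.mk (nat_lit 13) (nat_lit 73) (Steps.bwd (nat_lit 5) (Steps.bwd (nat_lit 12) (Steps.fwd (nat_lit 32768) (Steps.fwd (nat_lit 16384) Steps.nil)))) (nat_lit 17) (nat_lit 1),
  Rule.mk (nat_lit 8) (nat_lit 73) (Steps.fwd (nat_lit 16384) (Steps.bwd (nat_lit 5) (Steps.bwd (nat_lit 1) (Steps.bwd (nat_lit 1) Steps.nil)))) (nat_lit 15) (nat_lit 4),
  Rule.mk (nat_lit 0) (nat_lit 118) (Steps.fwd (nat_lit 4096) (Steps.fwd (nat_lit 4096) (Steps.fwd (nat_lit 4096) (Steps.bwd (nat_lit 4) (Steps.bwd (nat_lit 7) (Steps.bwd (nat_lit 1) (Steps.bwd (nat_lit 4) Steps.nil))))))) (nat_lit 28) (nat_lit 1),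
  Rule.mk (nat_lit 1) (nat_lit 103) (Steps.bwd (nat_lit 4) (Steps.fwd (nat_lit 4096) (Steps.fwd (nat_lit 4096) (Steps.fwd (nat_lit 4096) (Steps.fwd (nat_lit 12288) (Steps.bwd (nat_lit 7) Steps.nil)))))) (nat_lit 28) (nat_lit 0),
  Rule.mk (nat_lit 11) (nat_lit 73) (Steps.bwd (nat_lit 5) (Steps.bwd (nat_lit 10) (Steps.fwd (nat_lit 49152) (Steps.fwd (nat_lit 24576) Steps.nil)))) (nat_lit 18) (nat_lit 3),
  Rule.mk (nat_lit 3) (nat_lit 73) (Steps.bwd (nat_lit 13) (Steps.bwd (nat_lit 5) (Steps.bwd (nat_lit 12) (Steps.fwd (nat_lit 32768) Steps.nil)))) (nat_lit 17) (nat_lit 0),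
  Rule.mk (nat_lit 2) (nat_lit 103) (Steps.bwd (nat_lit 3) (Steps.bwd (nat_lit 9) (Steps.bwd (nat_lit 7) (Steps.fwd (nat_lit 24576) (Steps.fwd (nat_lit 57344) (Steps.fwd (nat_lit 49152) Steps.nil)))))) (nat_lit 30) (nat_lit 2),
  Rule.mk (nat_lit 10) (nat_lit 73) (Steps.bwd (nat_lit 11) (Steps.bwd (nat_lit 5) (Steps.fwd (nat_lit 49152) (Steps.fwd (nat_lit 24576) Steps.nil)))) (nat_lit 18) (nat_lit 0),
  Rule.mk (nat_lit 14) (nat_lit 118) (Steps.bwd (nat_lit 11) (Steps.bwd (nat_lit 13) (Steps.bwd (nat_lit 9) (Steps.bwd (nat_lit 14) (Steps.fwd (nat_lit 49152) (Steps.fwd (nat_lit 57344) (Steps.fwd (nat_lit 40960) Steps.nil))))))) (nat_lit 36) (nat_lit 2),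
  Rule.mk (nat_lit 13) (nat_lit 88) (Steps.bwd (nat_lit 12) (Steps.bwd (nat_lit 10) (Steps.fwd (nat_lit 49152) (Steps.fwd (nat_lit 53248) (Steps.fwd (nat_lit 49152) Steps.nil))))) (nat_lit 27) (nat_lit 2),
  Rule.mk (nat_lit 1) (nat_lit 148) (Steps.bwd (nat_lit 1) (Steps.bwd (nat_lit 4) (Steps.bwd (nat_lit 5) (Steps.bwd (nat_lit 3) (Steps.bwd (nat_lit 2) (Steps.bwd (nat_lit 7) (Steps.fwd (nat_lit 40960) (Steps.fwd (nat_lit 28672) (Steps.bwd (nat_lit 1) Steps.nil))))))))) (nat_lit 46) (nat_lit 3),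
  Rule.mk (nat_lit 4) (nat_lit 148) (Steps.bwd (nat_lit 6) (Steps.bwd (nat_lit 14) (Steps.bwd (nat_lit 12) (Steps.bwd (nat_lit 5) (Steps.fwd (nat_lit 49152) (Steps.fwd (nat_lit 57344) (Steps.fwd (nat_lit 16384) (Steps.fwd (nat_lit 4096) (Steps.fwd (nat_lit 4096) Steps.nil))))))))) (nat_lit 52) (nat_lit 4),
  Rule.mk (nat_lit 3) (nat_lit 73) (Steps.bwd (nat_lit 5) (Steps.fwd (nat_lit 8192) (Steps.fwd (nat_lit 8192) (Steps.bwd (nat_lit 8) Steps.nil)))) (nat_lit 15) (nat_lit 0),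
  Rule.mk (nat_lit 8) (nat_lit 148) (Steps.bwd (nat_lit 1) (Steps.bwd (nat_lit 1) (Steps.fwd (nat_lit 8192) (Steps.bwd (nat_lit 4) (Steps.fwd (nat_lit 24576) (Steps.fwd (nat_lit 16384) (Steps.bwd (nat_lit 2) (Steps.fwd (nat_lit 32768) (Steps.bwd (nat_lit 9) Steps.nil))))))))) (nat_lit 46) (nat_lit 1),
  Rule.mk (nat_lit 0) (nat_lit 133) (Steps.bwd (nat_lit 5) (Steps.fwd (nat_lit 16384) (Steps.fwd (nat_lit 4096) (Steps.fwd (nat_lit 4096) (Steps.fwd (nat_lit 32768) (Steps.bwd (nat_lit 9) (Steps.bwd (nat_lit 14) (Steps.bwd (nat_lit 12) Steps.nil)))))))) (nat_lit 33) (nat_lit 4),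
  Rule.mk (nat_lit 6) (nat_lit 43) (Steps.bwd (nat_lit 0) (Steps.bwd (nat_lit 5) Steps.nil)) (nat_lit 56) (nat_lit 0),
  Rule.mk (nat_lit 2) (nat_lit 88) (Steps.fwd (nat_lit 24576) (Steps.fwd (nat_lit 40960) (Steps.bwd (nat_lit 3) (Steps.fwd (nat_lit 4096) (Steps.bwd (nat_lit 8) Steps.nil))))) (nat_lit 23) (nat_lit 1),
  Rule.mk (nat_lit 4) (nat_lit 118) (Steps.bwd (nat_lit 6) (Steps.bwd (nat_lit 11) (Steps.fwd (nat_lit 57344) (Steps.fwd (nat_lit 36864) (Steps.fwd (nat_lit 28672) (Steps.fwd (nat_lit 8192) (Steps.fwd (nat_lit 8192) Steps.nil))))))) (nat_lit 32) (nat_lit 3),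
  Rule.mk (nat_lit 3) (nat_lit 118) (Steps.bwd (nat_lit 6) (Steps.bwd (nat_lit 11) (Steps.bwd (nat_lit 5) (Steps.bwd (nat_lit 3) (Steps.fwd (nat_lit 20480) (Steps.bwd (nat_lit 11) (Steps.bwd (nat_lit 5) Steps.nil))))))) (nat_lit 34) (nat_lit 1),
  Rule.mk (nat_lit 10) (nat_lit 118) (Steps.bwd (nat_lit 7) (Steps.bwd (nat_lit 9) (Steps.bwd (nat_lit 13) (Steps.bwd (nat_lit 10) (Steps.fwd (nat_lit 32768) (Steps.bwd (nat_lit 9) (Steps.fwd (nat_lit 57344) Steps.nil))))))) (nat_lit 38) (nat_lit 2),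
  Rule.mk (nat_lit 1) (nat_lit 148) (Steps.fwd (nat_lit 8192) (Steps.fwd (nat_lit 8192) (Steps.fwd (nat_lit 12288) (Steps.fwd (nat_lit 24576) (Steps.fwd (nat_lit 16384) (Steps.fwd (nat_lit 4096) (Steps.bwd (nat_lit 7) (Steps.fwd (nat_lit 40960) (Steps.bwd (nat_lit 8) Steps.nil))))))))) (nat_lit 46) (nat_lit 2),
  Rule.mk (nat_lit 4) (nat_lit 148) (Steps.bwd (nat_lit 6) (Steps.bwd (nat_lit 14) (Steps.bwd (nat_lit 12) (Steps.bwd (nat_lit 5) (Steps.fwd (nat_lit 49152) (Steps.fwd (nat_lit 57344) (Steps.bwd (nat_lit 3) (Steps.fwd (nat_lit 4096) (Steps.fwd (nat_lit 4096) Steps.nil))))))))) (nat_lit 52) (nat_lit 4),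
  Rule.mk (nat_lit 1) (nat_lit 343) (Steps.bwd (nat_lit 1) (Steps.bwd (nat_lit 1) (Steps.bwd (nat_lit 1) (Steps.bwd (nat_lit 1) (Steps.bwd (nat_lit 1) (Steps.bwd (nat_lit 1) (Steps.bwd (nat_lit 1) (Steps.bwd (nat_lit 1) (Steps.bwd (nat_lit 1) (Steps.bwd (nat_lit 1) (Steps.bwd (nat_lit 1) (Steps.bwd (nat_lit 1) (Steps.bwd (nat_lit 1) (Steps.bwd (nat_lit 1) (Steps.bwd (nat_lit 1) (Steps.bwd (nat_lit 1) (Steps.bwd (nat_lit 1) (Steps.bwd (nat_lit 1) (Steps.fwd (nat_lit 8192) (Steps.fwd (nat_lit 8192) (Steps.fwd (nat_lit 8192) (Steps.fwd (nat_lit 8192) Steps.nil)))))))))))))))))))))) (nat_lit 54) (nat_lit 0),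
  Rule.mk (nat_lit 9) (nat_lit 88) (Steps.bwd (nat_lit 3) (Steps.bwd (nat_lit 2) (Steps.fwd (nat_lit 28672) (Steps.bwd (nat_lit 2) (Steps.bwd (nat_lit 5) Steps.nil))))) (nat_lit 23) (nat_lit 3),
  Rule.mk (nat_lit 6) (nat_lit 88) (Steps.fwd (nat_lit 53248) (Steps.bwd (nat_lit 12) (Steps.fwd (nat_lit 57344) (Steps.bwd (nat_lit 5) (Steps.bwd (nat_lit 9) Steps.nil))))) (nat_lit 24) (nat_lit 2),
  Rule.mk (nat_lit 12) (nat_lit 73) (Steps.bwd (nat_lit 6) (Steps.bwd (nat_lit 12) (Steps.bwd (nat_lit 9) (Steps.fwd (nat_lit 20480) Steps.nil)))) (nat_lit 19) (nat_lit 3),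
  Rule.mk (nat_lit 13) (nat_lit 148) (Steps.bwd (nat_lit 3) (Steps.bwd (nat_lit 2) (Steps.bwd (nat_lit 2) (Steps.fwd (nat_lit 12288) (Steps.bwd (nat_lit 6) (Steps.fwd (nat_lit 53248) (Steps.bwd (nat_lit 12) (Steps.bwd (nat_lit 5) (Steps.bwd (nat_lit 11) Steps.nil))))))))) (nat_lit 52) (nat_lit 0),
  Rule.mk (nat_lit 2) (nat_lit 103) (Steps.bwd (nat_lit 2) (Steps.fwd (nat_lit 12288) (Steps.bwd (nat_lit 7) (Steps.fwd (nat_lit 8192) (Steps.fwd (nat_lit 12288) (Steps.bwd (nat_lit 2) Steps.nil)))))) (nat_lit 28) (nat_lit 3),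
  Rule.mk (nat_lit 11) (nat_lit 118) (Steps.bwd (nat_lit 13) (Steps.bwd (nat_lit 10) (Steps.fwd (nat_lit 28672) (Steps.fwd (nat_lit 8192) (Steps.fwd (nat_lit 8192) (Steps.fwd (nat_lit 12288) (Steps.fwd (nat_lit 20480) Steps.nil))))))) (nat_lit 32) (nat_lit 5),
  Rule.mk (nat_lit 10) (nat_lit 118) (Steps.bwd (nat_lit 8) (Steps.bwd (nat_lit 2) (Steps.bwd (nat_lit 2) (Steps.fwd (nat_lit 32768) (Steps.bwd (nat_lit 2) (Steps.bwd (nat_lit 5) (Steps.fwd (nat_lit 8192) Steps.nil))))))) (nat_lit 42) (nat_lit 3),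
  Rule.mk (nat_lit 0) (nat_lit 118) (Steps.fwd (nat_lit 8192) (Steps.fwd (nat_lit 12288) (Steps.bwd (nat_lit 2) (Steps.bwd (nat_lit 2) (Steps.bwd (nat_lit 2) (Steps.fwd (nat_lit 12288) (Steps.bwd (nat_lit 7) Steps.nil))))))) (nat_lit 28) (nat_lit 6),
  Rule.mk (nat_lit 2) (nat_lit 43) (Steps.bwd (nat_lit 0) (Steps.fwd (nat_lit 8192) Steps.nil)) (nat_lit 56) (nat_lit 0),
  Rule.mk (nat_lit 1) (nat_lit 88) (Steps.bwd (nat_lit 4) (Steps.bwd (nat_lit 10) (Steps.fwd (nat_lit 20480) (Steps.fwd (nat_lit 8192) (Steps.fwd (nat_lit 32768) Steps.nil))))) (nat_lit 22) (nat_lit 2),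
  Rule.mk (nat_lit 8) (nat_lit 118) (Steps.bwd (nat_lit 1) (Steps.bwd (nat_lit 1) (Steps.fwd (nat_lit 32768) (Steps.bwd (nat_lit 9) (Steps.bwd (nat_lit 2) (Steps.bwd (nat_lit 6) (Steps.fwd (nat_lit 8192) Steps.nil))))))) (nat_lit 43) (nat_lit 2),
  Rule.mk (nat_lit 4) (nat_lit 118) (Steps.bwd (nat_lit 6) (Steps.bwd (nat_lit 11) (Steps.bwd (nat_lit 13) (Steps.bwd (nat_lit 10) (Steps.bwd (nat_lit 8) (Steps.fwd (nat_lit 8192) (Steps.bwd (nat_lit 1) Steps.nil))))))) (nat_lit 32) (nat_lit 3),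
  Rule.mk (nat_lit 8) (nat_lit 88) (Steps.bwd (nat_lit 9) (Steps.fwd (nat_lit 8192) (Steps.bwd (nat_lit 3) (Steps.bwd (nat_lit 2) (Steps.bwd (nat_lit 10) Steps.nil))))) (nat_lit 20) (nat_lit 5),
  Rule.mk (nat_lit 14) (nat_lit 118) (Steps.bwd (nat_lit 12) (Steps.bwd (nat_lit 10) (Steps.bwd (nat_lit 8) (Steps.bwd (nat_lit 14) (Steps.bwd (nat_lit 12) (Steps.bwd (nat_lit 10) (Steps.bwd (nat_lit 8) Steps.nil))))))) (nat_lit 40) (nat_lit 2),
  Rule.mk (nat_lit 8) (nat_lit 103) (Steps.bwd (nat_lit 3) (Steps.fwd (nat_lit 8192) (Steps.fwd (nat_lit 8192) (Steps.fwd (nat_lit 8192) (Steps.bwd (nat_lit 3) (Steps.bwd (nat_lit 2) Steps.nil)))))) (nat_lit 29) (nat_lit 2),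
  Rule.mk (nat_lit 14) (nat_lit 88) (Steps.bwd (nat_lit 11) (Steps.bwd (nat_lit 13) (Steps.fwd (nat_lit 45056) (Steps.bwd (nat_lit 10) (Steps.bwd (nat_lit 11) Steps.nil))))) (nat_lit 27) (nat_lit 0),
  Rule.mk (nat_lit 13) (nat_lit 73) (Steps.bwd (nat_lit 5) (Steps.fwd (nat_lit 45056) (Steps.fwd (nat_lit 32768) (Steps.bwd (nat_lit 3) Steps.nil)))) (nat_lit 17) (nat_lit 1),
  Rule.mk (nat_lit 4) (nat_lit 88) (Steps.bwd (nat_lit 10) (Steps.bwd (nat_lit 6) (Steps.bwd (nat_lit 1) (Steps.fwd (nat_lit 32768) (Steps.fwd (nat_lit 8192) Steps.nil))))) (nat_lit 22) (nat_lit 3),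
  Rule.mk (nat_lit 1) (nat_lit 73) (Steps.bwd (nat_lit 1) (Steps.bwd (nat_lit 8) (Steps.bwd (nat_lit 3) (Steps.bwd (nat_lit 5) Steps.nil)))) (nat_lit 15) (nat_lit 2),
  Rule.mk (nat_lit 8) (nat_lit 103) (Steps.fwd (nat_lit 16384) (Steps.bwd (nat_lit 1) (Steps.bwd (nat_lit 1) (Steps.bwd (nat_lit 1) (Steps.bwd (nat_lit 3) (Steps.bwd (nat_lit 2) Steps.nil)))))) (nat_lit 29) (nat_lit 2),
  Rule.mk (nat_lit 9) (nat_lit 88) (Steps.bwd (nat_lit 11) (Steps.fwd (nat_lit 53248) (Steps.fwd (nat_lit 45056) (Steps.fwd (nat_lit 57344) (Steps.fwd (nat_lit 45056) Steps.nil))))) (nat_lit 26) (nat_lit 3),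
  Rule.mk (nat_lit 13) (nat_lit 118) (Steps.bwd (nat_lit 9) (Steps.bwd (nat_lit 14) (Steps.bwd (nat_lit 11) (Steps.bwd (nat_lit 13) (Steps.fwd (nat_lit 40960) (Steps.fwd (nat_lit 53248) (Steps.fwd (nat_lit 49152) Steps.nil))))))) (nat_lit 36) (nat_lit 0),
  Rule.mk (nat_lit 5) (nat_lit 88) (Steps.bwd (nat_lit 10) (Steps.fwd (nat_lit 20480) (Steps.fwd (nat_lit 53248) (Steps.fwd (nat_lit 49152) (Steps.bwd (nat_lit 13) Steps.nil))))) (nat_lit 25) (nat_lit 5),
  Rule.mk (nat_lit 10) (nat_lit 118) (Steps.bwd (nat_lit 8) (Steps.bwd (nat_lit 14) (Steps.fwd (nat_lit 45056) (Steps.bwd (nat_lit 10) (Steps.bwd (nat_lit 8) (Steps.fwd (nat_lit 53248) (Steps.fwd (nat_lit 45056) Steps.nil))))))) (nat_lit 40) (nat_lit 0),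
  Rule.mk (nat_lit 4) (nat_lit 148) (Steps.bwd (nat_lit 5) (Steps.bwd (nat_lit 3) (Steps.bwd (nat_lit 2) (Steps.bwd (nat_lit 7) (Steps.bwd (nat_lit 9) (Steps.bwd (nat_lit 8) (Steps.fwd (nat_lit 8192) (Steps.bwd (nat_lit 1) (Steps.bwd (nat_lit 1) Steps.nil))))))))) (nat_lit 46) (nat_lit 5),
  Rule.mk (nat_lit 3) (nat_lit 133) (Steps.fwd (nat_lit 49152) (Steps.fwd (nat_lit 53248) (Steps.fwd (nat_lit 45056) (Steps.bwd (nat_lit 5) (Steps.bwd (nat_lit 10) (Steps.bwd (nat_lit 8) (Steps.bwd (nat_lit 3) (Steps.bwd (nat_lit 8) Steps.nil)))))))) (nat_lit 45) (nat_lit 0),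
  Rule.mk (nat_lit 5) (nat_lit 88) (Steps.bwd (nat_lit 10) (Steps.bwd (nat_lit 6) (Steps.fwd (nat_lit 53248) (Steps.bwd (nat_lit 11) (Steps.bwd (nat_lit 13) Steps.nil))))) (nat_lit 25) (nat_lit 5),
  Rule.mk (nat_lit 14) (nat_lit 88) (Steps.bwd (nat_lit 12) (Steps.bwd (nat_lit 13) (Steps.fwd (nat_lit 24576) (Steps.fwd (nat_lit 40960) (Steps.fwd (nat_lit 20480) Steps.nil))))) (nat_lit 24) (nat_lit 3),
  Rule.mk (nat_lit 11) (nat_lit 118) (Steps.bwd (nat_lit 5) (Steps.bwd (nat_lit 3) (Steps.bwd (nat_lit 6) (Steps.bwd (nat_lit 11) (Steps.fwd (nat_lit 24576) (Steps.fwd (nat_lit 16384) (Steps.fwd (nat_lit 20480) Steps.nil))))))) (nat_lit 34) (nat_lit 3),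
  Rule.mk (nat_lit 14) (nat_lit 148) (Steps.bwd (nat_lit 12) (Steps.bwd (nat_lit 5) (Steps.fwd (nat_lit 49152) (Steps.fwd (nat_lit 57344) (Steps.fwd (nat_lit 16384) (Steps.bwd (nat_lit 2) (Steps.bwd (nat_lit 2) (Steps.fwd (nat_lit 12288) (Steps.fwd (nat_lit 20480) Steps.nil))))))))) (nat_lit 52) (nat_lit 6),
  Rule.mk (nat_lit 1) (nat_lit 343) (Steps.bwd (nat_lit 1) (Steps.bwd (nat_lit 1) (Steps.bwd (nat_lit 1) (Steps.bwd (nat_lit 1) (Steps.bwd (nat_lit 1) (Steps.bwd (nat_lit 1) (Steps.bwd (nat_lit 1) (Steps.bwd (nat_lit 1) (Steps.bwd (nat_lit 1) (Steps.bwd (nat_lit 1) (Steps.bwd (nat_lit 1) (Steps.bwd (nat_lit 1) (Steps.bwd (nat_lit 1) (Steps.bwd (nat_lit 1) (Steps.bwd (nat_lit 1) (Steps.bwd (nat_lit 1) (Steps.fwd (nat_lit 8192) (Steps.fwd (nat_lit 8192) (Steps.fwd (nat_lit 8192) (Steps.fwd (nat_lit 8192) (Steps.bwd (nat_lit 1) (Steps.bwd (nat_lit 1) Steps.nil)))))))))))))))))))))) (nat_lit 54) (nat_lit 0),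
  Rule.mk (nat_lit 8) (nat_lit 88) (Steps.bwd (nat_lit 9) (Steps.bwd (nat_lit 1) (Steps.bwd (nat_lit 3) (Steps.bwd (nat_lit 2) (Steps.fwd (nat_lit 36864) Steps.nil))))) (nat_lit 20) (nat_lit 5),
  Rule.mk (nat_lit 7) (nat_lit 88) (Steps.bwd (nat_lit 9) (Steps.bwd (nat_lit 1) (Steps.bwd (nat_lit 4) (Steps.fwd (nat_lit 4096) (Steps.bwd (nat_lit 10) Steps.nil))))) (nat_lit 21) (nat_lit 2),
  Rule.mk (nat_lit 6) (nat_lit 118) (Steps.bwd (nat_lit 11) (Steps.fwd (nat_lit 57344) (Steps.fwd (nat_lit 36864) (Steps.fwd (nat_lit 28672) (Steps.bwd (nat_lit 1) (Steps.bwd (nat_lit 1) (Steps.bwd (nat_lit 4) Steps.nil))))))) (nat_lit 32) (nat_lit 4),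
  Rule.mk (nat_lit 5) (nat_lit 148) (Steps.bwd (nat_lit 3) (Steps.bwd (nat_lit 2) (Steps.bwd (nat_lit 7) (Steps.bwd (nat_lit 9) (Steps.fwd (nat_lit 28672) (Steps.bwd (nat_lit 1) (Steps.bwd (nat_lit 1) (Steps.bwd (nat_lit 1) (Steps.bwd (nat_lit 4) Steps.nil))))))))) (nat_lit 46) (nat_lit 6),
  Rule.mk (nat_lit 2) (nat_lit 148) (Steps.bwd (nat_lit 4) (Steps.bwd (nat_lit 6) (Steps.bwd (nat_lit 14) (Steps.bwd (nat_lit 12) (Steps.bwd (nat_lit 5) (Steps.fwd (nat_lit 49152) (Steps.fwd (nat_lit 57344) (Steps.bwd (nat_lit 3) (Steps.bwd (nat_lit 2) Steps.nil))))))))) (nat_lit 52) (nat_lit 3),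
  Rule.mk (nat_lit 0) (nat_lit 118) (Steps.fwd (nat_lit 16384) (Steps.fwd (nat_lit 4096) (Steps.fwd (nat_lit 28672) (Steps.bwd (nat_lit 3) (Steps.bwd (nat_lit 1) (Steps.bwd (nat_lit 1) (Steps.fwd (nat_lit 8192) Steps.nil))))))) (nat_lit 29) (nat_lit 6),
  Rule.mk (nat_lit 8) (nat_lit 88) (Steps.bwd (nat_lit 9) (Steps.fwd (nat_lit 8192) (Steps.fwd (nat_lit 16384) (Steps.fwd (nat_lit 4096) (Steps.fwd (nat_lit 36864) Steps.nil))))) (nat_lit 20) (nat_lit 5),
  Rule.mk (nat_lit 12) (nat_lit 88) (Steps.bwd (nat_lit 13) (Steps.fwd (nat_lit 24576) (Steps.bwd (nat_lit 9) (Steps.bwd (nat_lit 6) (Steps.bwd (nat_lit 14) Steps.nil))))) (nat_lit 24) (nat_lit 4),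
  Rule.mk (nat_lit 4) (nat_lit 118) (Steps.bwd (nat_lit 6) (Steps.bwd (nat_lit 11) (Steps.bwd (nat_lit 13) (Steps.fwd (nat_lit 36864) (Steps.fwd (nat_lit 28672) (Steps.bwd (nat_lit 1) (Steps.bwd (nat_lit 1) Steps.nil))))))) (nat_lit 32) (nat_lit 3),
  Rule.mk (nat_lit 10) (nat_lit 118) (Steps.bwd (nat_lit 7) (Steps.bwd (nat_lit 9) (Steps.bwd (nat_lit 13) (Steps.bwd (nat_lit 10) (Steps.bwd (nat_lit 7) (Steps.fwd (nat_lit 40960) (Steps.bwd (nat_lit 13) Steps.nil))))))) (nat_lit 38) (nat_lit 2)]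
noncomputable def R_9 : List (Rule) := [Rule.mk (nat_lit 1) (nat_lit 148) (Steps.bwd (nat_lit 1) (Steps.bwd (nat_lit 1) (Steps.bwd (nat_lit 4) (Steps.bwd (nat_lit 5) (Steps.bwd (nat_lit 3) (Steps.bwd (nat_lit 2) (Steps.bwd (nat_lit 7) (Steps.fwd (nat_lit 40960) (Steps.bwd (nat_lit 8) Steps.nil))))))))) (nat_lit 46) (nat_lit 2),
  Rule.mk (nat_lit 9) (nat_lit 148) (Steps.bwd (nat_lit 8) (Steps.bwd (nat_lit 9) (Steps.bwd (nat_lit 8) (Steps.bwd (nat_lit 9) (Steps.bwd (nat_lit 8) (Steps.bwd (nat_lit 9) (Steps.bwd (nat_lit 8) (Steps.fwd (nat_lit 40960) (Steps.bwd (nat_lit 8) Steps.nil))))))))) (nat_lit 48) (nat_lit 0),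
  Rule.mk (nat_lit 0) (nat_lit 163) (Steps.fwd (nat_lit 32768) (Steps.fwd (nat_lit 36864) (Steps.bwd (nat_lit 8) (Steps.bwd (nat_lit 1) (Steps.bwd (nat_lit 4) (Steps.bwd (nat_lit 6) (Steps.bwd (nat_lit 3) (Steps.bwd (nat_lit 2) (Steps.bwd (nat_lit 2) (Steps.bwd (nat_lit 2) Steps.nil)))))))))) (nat_lit 47) (nat_lit 9),
  Rule.mk (nat_lit 6) (nat_lit 148) (Steps.bwd (nat_lit 14) (Steps.bwd (nat_lit 12) (Steps.bwd (nat_lit 5) (Steps.bwd (nat_lit 11) (Steps.bwd (nat_lit 13) (Steps.bwd (nat_lit 3) (Steps.bwd (nat_lit 2) (Steps.fwd (nat_lit 4096) (Steps.fwd (nat_lit 12288) Steps.nil))))))))) (nat_lit 52) (nat_lit 5),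
  Rule.mk (nat_lit 13) (nat_lit 88) (Steps.bwd (nat_lit 5) (Steps.fwd (nat_lit 40960) (Steps.bwd (nat_lit 6) (Steps.bwd (nat_lit 14) (Steps.bwd (nat_lit 12) Steps.nil))))) (nat_lit 24) (nat_lit 5),
  Rule.mk (nat_lit 2) (nat_lit 103) (Steps.fwd (nat_lit 28672) (Steps.fwd (nat_lit 16384) (Steps.fwd (nat_lit 8192) (Steps.bwd (nat_lit 1) (Steps.bwd (nat_lit 1) (Steps.bwd (nat_lit 3) Steps.nil)))))) (nat_lit 29) (nat_lit 1),
  Rule.mk (nat_lit 0) (nat_lit 88) (Steps.bwd (nat_lit 12) (Steps.bwd (nat_lit 7) (Steps.bwd (nat_lit 3) (Steps.fwd (nat_lit 57344) (Steps.bwd (nat_lit 5) Steps.nil))))) (nat_lit 17) (nat_lit 2),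
  Rule.mk (nat_lit 1) (nat_lit 103) (Steps.fwd (nat_lit 12288) (Steps.bwd (nat_lit 2) (Steps.bwd (nat_lit 2) (Steps.bwd (nat_lit 2) (Steps.bwd (nat_lit 4) (Steps.bwd (nat_lit 7) Steps.nil)))))) (nat_lit 28) (nat_lit 0),
  Rule.mk (nat_lit 10) (nat_lit 88) (Steps.bwd (nat_lit 6) (Steps.bwd (nat_lit 1) (Steps.bwd (nat_lit 7) (Steps.bwd (nat_lit 1) (Steps.fwd (nat_lit 12288) Steps.nil))))) (nat_lit 22) (nat_lit 4),
  Rule.mk (nat_lit 4) (nat_lit 103) (Steps.bwd (nat_lit 7) (Steps.bwd (nat_lit 1) (Steps.fwd (nat_lit 12288) (Steps.bwd (nat_lit 2) (Steps.bwd (nat_lit 2) (Steps.bwd (nat_lit 2) Steps.nil)))))) (nat_lit 28) (nat_lit 5),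
  Rule.mk (nat_lit 6) (nat_lit 118) (Steps.bwd (nat_lit 11) (Steps.bwd (nat_lit 5) (Steps.bwd (nat_lit 3) (Steps.bwd (nat_lit 6) (Steps.bwd (nat_lit 11) (Steps.fwd (nat_lit 24576) (Steps.fwd (nat_lit 16384) Steps.nil))))))) (nat_lit 34) (nat_lit 2),
  Rule.mk (nat_lit 0) (nat_lit 103) (Steps.bwd (nat_lit 14) (Steps.bwd (nat_lit 11) (Steps.bwd (nat_lit 13) (Steps.bwd (nat_lit 5) (Steps.bwd (nat_lit 10) (Steps.bwd (nat_lit 6) Steps.nil)))))) (nat_lit 25) (nat_lit 1),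
  Rule.mk (nat_lit 0) (nat_lit 58) (Steps.bwd (nat_lit 9) (Steps.fwd (nat_lit 0) (Steps.bwd (nat_lit 10) Steps.nil))) (nat_lit 56) (nat_lit 0),
  Rule.mk (nat_lit 11) (nat_lit 88) (Steps.bwd (nat_lit 13) (Steps.fwd (nat_lit 24576) (Steps.fwd (nat_lit 36864) (Steps.fwd (nat_lit 20480) (Steps.bwd (nat_lit 14) Steps.nil))))) (nat_lit 25) (nat_lit 3),
  Rule.mk (nat_lit 5) (nat_lit 148) (Steps.bwd (nat_lit 11) (Steps.bwd (nat_lit 13) (Steps.fwd (nat_lit 16384) (Steps.fwd (nat_lit 4096) (Steps.fwd (nat_lit 4096) (Steps.fwd (nat_lit 12288) (Steps.fwd (nat_lit 20480) (Steps.fwd (nat_lit 53248) (Steps.fwd (nat_lit 45056) Steps.nil))))))))) (nat_lit 52) (nat_lit 8),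
  Rule.mk (nat_lit 0) (nat_lit 88) (Steps.bwd (nat_lit 1) (Steps.bwd (nat_lit 1) (Steps.fwd (nat_lit 28672) (Steps.fwd (nat_lit 16384) (Steps.bwd (nat_lit 5) Steps.nil))))) (nat_lit 15) (nat_lit 1),
  Rule.mk (nat_lit 7) (nat_lit 88) (Steps.fwd (nat_lit 8192) (Steps.bwd (nat_lit 4) (Steps.bwd (nat_lit 10) (Steps.fwd (nat_lit 20480) (Steps.fwd (nat_lit 8192) Steps.nil))))) (nat_lit 22) (nat_lit 1),
  Rule.mk (nat_lit 4) (nat_lit 103) (Steps.bwd (nat_lit 7) (Steps.fwd (nat_lit 8192) (Steps.bwd (nat_lit 4) (Steps.bwd (nat_lit 2) (Steps.bwd (nat_lit 2) (Steps.bwd (nat_lit 2) Steps.nil)))))) (nat_lit 28) (nat_lit 5),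
  Rule.mk (nat_lit 9) (nat_lit 118) (Steps.bwd (nat_lit 2) (Steps.fwd (nat_lit 20480) (Steps.fwd (nat_lit 8192) (Steps.fwd (nat_lit 28672) (Steps.bwd (nat_lit 1) (Steps.bwd (nat_lit 1) (Steps.bwd (nat_lit 7) Steps.nil))))))) (nat_lit 43) (nat_lit 6),
  Rule.mk (nat_lit 5) (nat_lit 88) (Steps.bwd (nat_lit 9) (Steps.bwd (nat_lit 3) (Steps.bwd (nat_lit 2) (Steps.fwd (nat_lit 28672) (Steps.bwd (nat_lit 2) Steps.nil))))) (nat_lit 23) (nat_lit 2),
  Rule.mk (nat_lit 10) (nat_lit 88) (Steps.bwd (nat_lit 8) (Steps.bwd (nat_lit 9) (Steps.fwd (nat_lit 8192) (Steps.fwd (nat_lit 16384) (Steps.fwd (nat_lit 4096) Steps.nil))))) (nat_lit 20) (nat_lit 4),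
  Rule.mk (nat_lit 10) (nat_lit 43) (Steps.fwd (nat_lit 36864) (Steps.bwd (nat_lit 10) Steps.nil)) (nat_lit 7) (nat_lit 0),
  Rule.mk (nat_lit 4) (nat_lit 118) (Steps.bwd (nat_lit 6) (Steps.bwd (nat_lit 11) (Steps.bwd (nat_lit 13) (Steps.fwd (nat_lit 36864) (Steps.fwd (nat_lit 28672) (Steps.fwd (nat_lit 8192) (Steps.fwd (nat_lit 8192) Steps.nil))))))) (nat_lit 32) (nat_lit 3),
  Rule.mk (nat_lit 8) (nat_lit 88) (Steps.fwd (nat_lit 40960) (Steps.bwd (nat_lit 1) (Steps.fwd (nat_lit 16384) (Steps.bwd (nat_lit 2) (Steps.bwd (nat_lit 10) Steps.nil))))) (nat_lit 20) (nat_lit 5),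
  Rule.mk (nat_lit 8) (nat_lit 103) (Steps.bwd (nat_lit 3) (Steps.fwd (nat_lit 8192) (Steps.fwd (nat_lit 8192) (Steps.bwd (nat_lit 1) (Steps.fwd (nat_lit 16384) (Steps.bwd (nat_lit 2) Steps.nil)))))) (nat_lit 29) (nat_lit 2),
  Rule.mk (nat_lit 0) (nat_lit 118) (Steps.bwd (nat_lit 2) (Steps.bwd (nat_lit 2) (Steps.fwd (nat_lit 12288) (Steps.bwd (nat_lit 7) (Steps.fwd (nat_lit 8192) (Steps.fwd (nat_lit 12288) (Steps.bwd (nat_lit 2) Steps.nil))))))) (nat_lit 28) (nat_lit 2),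
  Rule.mk (nat_lit 1) (nat_lit 43) (Steps.bwd (nat_lit 0) (Steps.bwd (nat_lit 2) Steps.nil)) (nat_lit 56) (nat_lit 0),
  Rule.mk (nat_lit 7) (nat_lit 43) (Steps.bwd (nat_lit 0) (Steps.fwd (nat_lit 28672) Steps.nil)) (nat_lit 56) (nat_lit 0),
  Rule.mk (nat_lit 8) (nat_lit 148) (Steps.bwd (nat_lit 9) (Steps.bwd (nat_lit 8) (Steps.bwd (nat_lit 9) (Steps.bwd (nat_lit 8) (Steps.fwd (nat_lit 40960) (Steps.bwd (nat_lit 8) (Steps.bwd (nat_lit 9) (Steps.fwd (nat_lit 28672) (Steps.fwd (nat_lit 40960) Steps.nil))))))))) (nat_lit 48) (nat_lit 1),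
  Rule.mk (nat_lit 1) (nat_lit 88) (Steps.fwd (nat_lit 16384) (Steps.bwd (nat_lit 2) (Steps.bwd (nat_lit 10) (Steps.bwd (nat_lit 8) (Steps.bwd (nat_lit 9) Steps.nil))))) (nat_lit 20) (nat_lit 1),
  Rule.mk (nat_lit 5) (nat_lit 73) (Steps.fwd (nat_lit 45056) (Steps.bwd (nat_lit 7) (Steps.fwd (nat_lit 16384) (Steps.bwd (nat_lit 13) Steps.nil)))) (nat_lit 17) (nat_lit 2),
  Rule.mk (nat_lit 11) (nat_lit 118) (Steps.bwd (nat_lit 13) (Steps.bwd (nat_lit 10) (Steps.bwd (nat_lit 8) (Steps.bwd (nat_lit 1) (Steps.fwd (nat_lit 8192) (Steps.fwd (nat_lit 12288) (Steps.fwd (nat_lit 20480) Steps.nil))))))) (nat_lit 32) (nat_lit 5),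
  Rule.mk (nat_lit 5) (nat_lit 73) (Steps.bwd (nat_lit 10) (Steps.bwd (nat_lit 11) (Steps.bwd (nat_lit 5) (Steps.bwd (nat_lit 11) Steps.nil)))) (nat_lit 18) (nat_lit 4),
  Rule.mk (nat_lit 11) (nat_lit 118) (Steps.bwd (nat_lit 5) (Steps.bwd (nat_lit 3) (Steps.bwd (nat_lit 6) (Steps.bwd (nat_lit 11) (Steps.fwd (nat_lit 24576) (Steps.bwd (nat_lit 3) (Steps.fwd (nat_lit 20480) Steps.nil))))))) (nat_lit 34) (nat_lit 3),
  Rule.mk (nat_lit 0) (nat_lit 58) (Steps.fwd (nat_lit 45056) (Steps.fwd (nat_lit 45056) (Steps.fwd (nat_lit 45056) Steps.nil))) (nat_lit 9) (nat_lit 0),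
  Rule.mk (nat_lit 0) (nat_lit 58) (Steps.fwd (nat_lit 20480) (Steps.fwd (nat_lit 0) (Steps.fwd (nat_lit 24576) Steps.nil))) (nat_lit 56) (nat_lit 0),
  Rule.mk (nat_lit 4) (nat_lit 43) (Steps.bwd (nat_lit 0) (Steps.bwd (nat_lit 3) Steps.nil)) (nat_lit 56) (nat_lit 0),
  Rule.mk (nat_lit 0) (nat_lit 88) (Steps.bwd (nat_lit 6) (Steps.fwd (nat_lit 45056) (Steps.fwd (nat_lit 20480) (Steps.fwd (nat_lit 45056) (Steps.bwd (nat_lit 9) Steps.nil))))) (nat_lit 19) (nat_lit 1),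
  Rule.mk (nat_lit 3) (nat_lit 58) (Steps.bwd (nat_lit 0) (Steps.bwd (nat_lit 4) (Steps.fwd (nat_lit 0) Steps.nil))) (nat_lit 56) (nat_lit 0),
  Rule.mk (nat_lit 7) (nat_lit 88) (Steps.bwd (nat_lit 9) (Steps.bwd (nat_lit 1) (Steps.fwd (nat_lit 12288) (Steps.bwd (nat_lit 2) (Steps.bwd (nat_lit 10) Steps.nil))))) (nat_lit 21) (nat_lit 2),
  Rule.mk (nat_lit 10) (nat_lit 118) (Steps.bwd (nat_lit 8) (Steps.fwd (nat_lit 4096) (Steps.fwd (nat_lit 4096) (Steps.bwd (nat_lit 7) (Steps.fwd (nat_lit 4096) (Steps.bwd (nat_lit 5) (Steps.fwd (nat_lit 8192) Steps.nil))))))) (nat_lit 42) (nat_lit 3),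
  Rule.mk (nat_lit 7) (nat_lit 133) (Steps.bwd (nat_lit 9) (Steps.bwd (nat_lit 6) (Steps.bwd (nat_lit 11) (Steps.bwd (nat_lit 13) (Steps.fwd (nat_lit 45056) (Steps.bwd (nat_lit 4) (Steps.bwd (nat_lit 7) (Steps.bwd (nat_lit 4) Steps.nil)))))))) (nat_lit 44) (nat_lit 4),
  Rule.mk (nat_lit 8) (nat_lit 148) (Steps.bwd (nat_lit 9) (Steps.bwd (nat_lit 8) (Steps.bwd (nat_lit 9) (Steps.bwd (nat_lit 8) (Steps.fwd (nat_lit 40960) (Steps.bwd (nat_lit 8) (Steps.bwd (nat_lit 9) (Steps.bwd (nat_lit 8) (Steps.fwd (nat_lit 40960) Steps.nil))))))))) (nat_lit 48) (nat_lit 1),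
  Rule.mk (nat_lit 13) (nat_lit 73) (Steps.fwd (nat_lit 24576) (Steps.bwd (nat_lit 12) (Steps.bwd (nat_lit 7) (Steps.bwd (nat_lit 3) Steps.nil)))) (nat_lit 17) (nat_lit 1),
  Rule.mk (nat_lit 10) (nat_lit 88) (Steps.bwd (nat_lit 6) (Steps.bwd (nat_lit 1) (Steps.bwd (nat_lit 7) (Steps.fwd (nat_lit 8192) (Steps.fwd (nat_lit 12288) Steps.nil))))) (nat_lit 22) (nat_lit 4),
  Rule.mk (nat_lit 1) (nat_lit 73) (Steps.bwd (nat_lit 1) (Steps.fwd (nat_lit 28672) (Steps.bwd (nat_lit 3) (Steps.bwd (nat_lit 5) Steps.nil)))) (nat_lit 15) (nat_lit 2),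
  Rule.mk (nat_lit 0) (nat_lit 118) (Steps.fwd (nat_lit 16384) (Steps.bwd (nat_lit 1) (Steps.bwd (nat_lit 1) (Steps.fwd (nat_lit 8192) (Steps.bwd (nat_lit 3) (Steps.bwd (nat_lit 2) (Steps.fwd (nat_lit 28672) Steps.nil))))))) (nat_lit 29) (nat_lit 2),
  Rule.mk (nat_lit 1) (nat_lit 118) (Steps.bwd (nat_lit 4) (Steps.bwd (nat_lit 6) (Steps.fwd (nat_lit 49152) (Steps.fwd (nat_lit 57344) (Steps.fwd (nat_lit 36864) (Steps.fwd (nat_lit 28672) (Steps.fwd (nat_lit 8192) Steps.nil))))))) (nat_lit 32) (nat_lit 2),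
  Rule.mk (nat_lit 6) (nat_lit 118) (Steps.bwd (nat_lit 11) (Steps.bwd (nat_lit 5) (Steps.bwd (nat_lit 3) (Steps.fwd (nat_lit 20480) (Steps.bwd (nat_lit 11) (Steps.bwd (nat_lit 5) (Steps.bwd (nat_lit 3) Steps.nil))))))) (nat_lit 34) (nat_lit 2),
  Rule.mk (nat_lit 13) (nat_lit 118) (Steps.bwd (nat_lit 9) (Steps.bwd (nat_lit 14) (Steps.bwd (nat_lit 11) (Steps.fwd (nat_lit 57344) (Steps.bwd (nat_lit 9) (Steps.bwd (nat_lit 14) (Steps.fwd (nat_lit 49152) Steps.nil))))))) (nat_lit 36) (nat_lit 0),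
  Rule.mk (nat_lit 5) (nat_lit 88) (Steps.fwd (nat_lit 36864) (Steps.fwd (nat_lit 20480) (Steps.bwd (nat_lit 14) (Steps.fwd (nat_lit 49152) (Steps.bwd (nat_lit 13) Steps.nil))))) (nat_lit 25) (nat_lit 5),
  Rule.mk (nat_lit 10) (nat_lit 118) (Steps.bwd (nat_lit 7) (Steps.bwd (nat_lit 9) (Steps.bwd (nat_lit 13) (Steps.fwd (nat_lit 36864) (Steps.bwd (nat_lit 7) (Steps.bwd (nat_lit 9) (Steps.bwd (nat_lit 13) Steps.nil))))))) (nat_lit 38) (nat_lit 2),
  Rule.mk (nat_lit 10) (nat_lit 118) (Steps.bwd (nat_lit 8) (Steps.bwd (nat_lit 14) (Steps.fwd (nat_lit 45056) (Steps.fwd (nat_lit 36864) (Steps.fwd (nat_lit 28672) (Steps.bwd (nat_lit 14) (Steps.fwd (nat_lit 45056) Steps.nil))))))) (nat_lit 40) (nat_lit 0),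
  Rule.mk (nat_lit 5) (nat_lit 88) (Steps.bwd (nat_lit 9) (Steps.bwd (nat_lit 6) (Steps.bwd (nat_lit 14) (Steps.fwd (nat_lit 45056) (Steps.bwd (nat_lit 13) Steps.nil))))) (nat_lit 24) (nat_lit 0),
  Rule.mk (nat_lit 1) (nat_lit 148) (Steps.bwd (nat_lit 4) (Steps.bwd (nat_lit 5) (Steps.bwd (nat_lit 3) (Steps.fwd (nat_lit 4096) (Steps.bwd (nat_lit 7) (Steps.bwd (nat_lit 9) (Steps.fwd (nat_lit 28672) (Steps.fwd (nat_lit 8192) (Steps.bwd (nat_lit 1) Steps.nil))))))))) (nat_lit 46) (nat_lit 4),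
  Rule.mk (nat_lit 2) (nat_lit 148) (Steps.bwd (nat_lit 2) (Steps.bwd (nat_lit 4) (Steps.bwd (nat_lit 6) (Steps.bwd (nat_lit 14) (Steps.bwd (nat_lit 12) (Steps.bwd (nat_lit 5) (Steps.bwd (nat_lit 11) (Steps.fwd (nat_lit 57344) (Steps.bwd (nat_lit 3) Steps.nil))))))))) (nat_lit 52) (nat_lit 2),
  Rule.mk (nat_lit 1) (nat_lit 343) (Steps.bwd (nat_lit 1) (Steps.bwd (nat_lit 1) (Steps.bwd (nat_lit 1) (Steps.bwd (nat_lit 1) (Steps.bwd (nat_lit 1) (Steps.bwd (nat_lit 1) (Steps.bwd (nat_lit 1) (Steps.bwd (nat_lit 1) (Steps.bwd (nat_lit 1) (Steps.bwd (nat_lit 1) (Steps.bwd (nat_lit 1) (Steps.bwd (nat_lit 1) (Steps.bwd (nat_lit 1) (Steps.bwd (nat_lit 1) (Steps.bwd (nat_lit 1) (Steps.bwd (nat_lit 1) (Steps.bwd (nat_lit 1) (Steps.bwd (nat_lit 1) (Steps.bwd (nat_lit 1) (Steps.fwd (nat_lit 8192) (Steps.bwd (nat_lit 1) (Steps.bwd (nat_lit 1) Steps.nil)))))))))))))))))))))) (nat_lit 54) (nat_lit 0),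
  Rule.mk (nat_lit 5) (nat_lit 73) (Steps.bwd (nat_lit 11) (Steps.bwd (nat_lit 5) (Steps.bwd (nat_lit 10) (Steps.fwd (nat_lit 49152) Steps.nil)))) (nat_lit 18) (nat_lit 2),
  Rule.mk (nat_lit 3) (nat_lit 88) (Steps.bwd (nat_lit 2) (Steps.fwd (nat_lit 36864) (Steps.bwd (nat_lit 8) (Steps.fwd (nat_lit 40960) (Steps.bwd (nat_lit 1) Steps.nil))))) (nat_lit 20) (nat_lit 2),
  Rule.mk (nat_lit 10) (nat_lit 88) (Steps.bwd (nat_lit 6) (Steps.bwd (nat_lit 1) (Steps.fwd (nat_lit 32768) (Steps.bwd (nat_lit 1) (Steps.fwd (nat_lit 12288) Steps.nil))))) (nat_lit 22) (nat_lit 4),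
  Rule.mk (nat_lit 0) (nat_lit 58) (Steps.fwd (nat_lit 12288) (Steps.bwd (nat_lit 0) (Steps.fwd (nat_lit 16384) Steps.nil))) (nat_lit 56) (nat_lit 0),
  Rule.mk (nat_lit 0) (nat_lit 58) (Steps.bwd (nat_lit 1) (Steps.bwd (nat_lit 0) (Steps.bwd (nat_lit 2) Steps.nil))) (nat_lit 56) (nat_lit 0),
  Rule.mk (nat_lit 0) (nat_lit 58) (Steps.bwd (nat_lit 7) (Steps.bwd (nat_lit 0) (Steps.fwd (nat_lit 28672) Steps.nil))) (nat_lit 56) (nat_lit 0),
  Rule.mk (nat_lit 0) (nat_lit 58) (Steps.bwd (nat_lit 8) (Steps.bwd (nat_lit 0) (Steps.bwd (nat_lit 7) Steps.nil))) (nat_lit 56) (nat_lit 0)]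
noncomputable def R_10 : List (Rule) := [Rule.mk (nat_lit 0) (nat_lit 58) (Steps.bwd (nat_lit 10) (Steps.fwd (nat_lit 0) (Steps.bwd (nat_lit 9) Steps.nil))) (nat_lit 56) (nat_lit 0),
  Rule.mk (nat_lit 0) (nat_lit 58) (Steps.fwd (nat_lit 57344) (Steps.fwd (nat_lit 0) (Steps.bwd (nat_lit 14) Steps.nil))) (nat_lit 56) (nat_lit 0),
  Rule.mk (nat_lit 0) (nat_lit 58) (Steps.fwd (nat_lit 8192) (Steps.bwd (nat_lit 0) (Steps.bwd (nat_lit 2) Steps.nil))) (nat_lit 56) (nat_lit 0),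
  Rule.mk (nat_lit 0) (nat_lit 58) (Steps.bwd (nat_lit 2) (Steps.fwd (nat_lit 0) (Steps.fwd (nat_lit 8192) Steps.nil))) (nat_lit 56) (nat_lit 0),
  Rule.mk (nat_lit 0) (nat_lit 58) (Steps.fwd (nat_lit 40960) (Steps.bwd (nat_lit 0) (Steps.fwd (nat_lit 36864) Steps.nil))) (nat_lit 56) (nat_lit 0),
  Rule.mk (nat_lit 0) (nat_lit 58) (Steps.bwd (nat_lit 10) (Steps.fwd (nat_lit 0) (Steps.fwd (nat_lit 40960) Steps.nil))) (nat_lit 56) (nat_lit 0),
  Rule.mk (nat_lit 0) (nat_lit 58) (Steps.bwd (nat_lit 13) (Steps.fwd (nat_lit 0) (Steps.bwd (nat_lit 14) Steps.nil))) (nat_lit 56) (nat_lit 0),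
  Rule.mk (nat_lit 0) (nat_lit 58) (Steps.fwd (nat_lit 49152) (Steps.fwd (nat_lit 0) (Steps.fwd (nat_lit 45056) Steps.nil))) (nat_lit 56) (nat_lit 0),
  Rule.mk (nat_lit 0) (nat_lit 58) (Steps.bwd (nat_lit 3) (Steps.fwd (nat_lit 0) (Steps.bwd (nat_lit 4) Steps.nil))) (nat_lit 56) (nat_lit 0),
  Rule.mk (nat_lit 0) (nat_lit 58) (Steps.bwd (nat_lit 2) (Steps.bwd (nat_lit 0) (Steps.fwd (nat_lit 8192) Steps.nil))) (nat_lit 56) (nat_lit 0),
  Rule.mk (nat_lit 0) (nat_lit 58) (Steps.fwd (nat_lit 32768) (Steps.fwd (nat_lit 0) (Steps.bwd (nat_lit 8) Steps.nil))) (nat_lit 56) (nat_lit 0),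
  Rule.mk (nat_lit 0) (nat_lit 58) (Steps.fwd (nat_lit 57344) (Steps.bwd (nat_lit 0) (Steps.fwd (nat_lit 53248) Steps.nil))) (nat_lit 56) (nat_lit 0),
  Rule.mk (nat_lit 0) (nat_lit 58) (Steps.bwd (nat_lit 8) (Steps.fwd (nat_lit 0) (Steps.fwd (nat_lit 32768) Steps.nil))) (nat_lit 56) (nat_lit 0),
  Rule.mk (nat_lit 0) (nat_lit 58) (Steps.fwd (nat_lit 4096) (Steps.bwd (nat_lit 0) (Steps.fwd (nat_lit 8192) Steps.nil))) (nat_lit 56) (nat_lit 0),
  Rule.mk (nat_lit 0) (nat_lit 58) (Steps.fwd (nat_lit 53248) (Steps.bwd (nat_lit 0) (Steps.bwd (nat_lit 13) Steps.nil))) (nat_lit 56) (nat_lit 0),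
  Rule.mk (nat_lit 0) (nat_lit 58) (Steps.bwd (nat_lit 9) (Steps.bwd (nat_lit 0) (Steps.bwd (nat_lit 10) Steps.nil))) (nat_lit 56) (nat_lit 0),
  Rule.mk (nat_lit 0) (nat_lit 58) (Steps.bwd (nat_lit 11) (Steps.fwd (nat_lit 0) (Steps.bwd (nat_lit 12) Steps.nil))) (nat_lit 56) (nat_lit 0),
  Rule.mk (nat_lit 0) (nat_lit 58) (Steps.bwd (nat_lit 4) (Steps.fwd (nat_lit 0) (Steps.bwd (nat_lit 3) Steps.nil))) (nat_lit 56) (nat_lit 0),
  Rule.mk (nat_lit 0) (nat_lit 58) (Steps.bwd (nat_lit 14) (Steps.bwd (nat_lit 0) (Steps.bwd (nat_lit 13) Steps.nil))) (nat_lit 56) (nat_lit 0),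
  Rule.mk (nat_lit 0) (nat_lit 58) (Steps.bwd (nat_lit 5) (Steps.fwd (nat_lit 0) (Steps.fwd (nat_lit 20480) Steps.nil))) (nat_lit 56) (nat_lit 0),
  Rule.mk (nat_lit 0) (nat_lit 58) (Steps.bwd (nat_lit 6) (Steps.fwd (nat_lit 0) (Steps.bwd (nat_lit 5) Steps.nil))) (nat_lit 56) (nat_lit 0),
  Rule.mk (nat_lit 0) (nat_lit 58) (Steps.fwd (nat_lit 4096) (Steps.fwd (nat_lit 0) (Steps.bwd (nat_lit 1) Steps.nil))) (nat_lit 56) (nat_lit 0),
  Rule.mk (nat_lit 0) (nat_lit 58) (Steps.bwd (nat_lit 4) (Steps.bwd (nat_lit 0) (Steps.bwd (nat_lit 3) Steps.nil))) (nat_lit 56) (nat_lit 0),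
  Rule.mk (nat_lit 0) (nat_lit 58) (Steps.fwd (nat_lit 49152) (Steps.bwd (nat_lit 0) (Steps.bwd (nat_lit 12) Steps.nil))) (nat_lit 56) (nat_lit 0),
  Rule.mk (nat_lit 0) (nat_lit 58) (Steps.bwd (nat_lit 12) (Steps.fwd (nat_lit 0) (Steps.fwd (nat_lit 49152) Steps.nil))) (nat_lit 56) (nat_lit 0),
  Rule.mk (nat_lit 0) (nat_lit 58) (Steps.fwd (nat_lit 53248) (Steps.bwd (nat_lit 0) (Steps.fwd (nat_lit 57344) Steps.nil))) (nat_lit 56) (nat_lit 0),
  Rule.mk (nat_lit 0) (nat_lit 58) (Steps.fwd (nat_lit 45056) (Steps.fwd (nat_lit 0) (Steps.fwd (nat_lit 49152) Steps.nil))) (nat_lit 56) (nat_lit 0),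
  Rule.mk (nat_lit 0) (nat_lit 58) (Steps.fwd (nat_lit 24576) (Steps.bwd (nat_lit 0) (Steps.fwd (nat_lit 20480) Steps.nil))) (nat_lit 56) (nat_lit 0),
  Rule.mk (nat_lit 0) (nat_lit 58) (Steps.fwd (nat_lit 20480) (Steps.bwd (nat_lit 0) (Steps.fwd (nat_lit 24576) Steps.nil))) (nat_lit 56) (nat_lit 0),
  Rule.mk (nat_lit 9) (nat_lit 43) (Steps.bwd (nat_lit 0) (Steps.fwd (nat_lit 36864) Steps.nil)) (nat_lit 56) (nat_lit 0),
  Rule.mk (nat_lit 3) (nat_lit 43) (Steps.bwd (nat_lit 0) (Steps.fwd (nat_lit 12288) Steps.nil)) (nat_lit 56) (nat_lit 0),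
  Rule.mk (nat_lit 0) (nat_lit 58) (Steps.fwd (nat_lit 12288) (Steps.bwd (nat_lit 0) (Steps.bwd (nat_lit 3) Steps.nil))) (nat_lit 56) (nat_lit 0),
  Rule.mk (nat_lit 0) (nat_lit 73) (Steps.bwd (nat_lit 6) (Steps.fwd (nat_lit 0) (Steps.bwd (nat_lit 5) (Steps.fwd (nat_lit 0) Steps.nil)))) (nat_lit 56) (nat_lit 0),
  Rule.mk (nat_lit 0) (nat_lit 73) (Steps.bwd (nat_lit 0) (Steps.bwd (nat_lit 5) (Steps.fwd (nat_lit 0) (Steps.bwd (nat_lit 6) Steps.nil)))) (nat_lit 56) (nat_lit 0),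
  Rule.mk (nat_lit 0) (nat_lit 58) (Steps.bwd (nat_lit 7) (Steps.fwd (nat_lit 0) (Steps.bwd (nat_lit 8) Steps.nil))) (nat_lit 56) (nat_lit 0),
  Rule.mk (nat_lit 0) (nat_lit 58) (Steps.fwd (nat_lit 57344) (Steps.bwd (nat_lit 0) (Steps.bwd (nat_lit 14) Steps.nil))) (nat_lit 56) (nat_lit 0),
  Rule.mk (nat_lit 0) (nat_lit 58) (Steps.bwd (nat_lit 6) (Steps.bwd (nat_lit 0) (Steps.fwd (nat_lit 24576) Steps.nil))) (nat_lit 56) (nat_lit 0),
  Rule.mk (nat_lit 0) (nat_lit 58) (Steps.bwd (nat_lit 14) (Steps.fwd (nat_lit 0) (Steps.fwd (nat_lit 57344) Steps.nil))) (nat_lit 56) (nat_lit 0),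
  Rule.mk (nat_lit 0) (nat_lit 58) (Steps.bwd (nat_lit 13) (Steps.bwd (nat_lit 0) (Steps.fwd (nat_lit 53248) Steps.nil))) (nat_lit 56) (nat_lit 0),
  Rule.mk (nat_lit 0) (nat_lit 58) (Steps.fwd (nat_lit 53248) (Steps.fwd (nat_lit 0) (Steps.fwd (nat_lit 57344) Steps.nil))) (nat_lit 56) (nat_lit 0),
  Rule.mk (nat_lit 0) (nat_lit 58) (Steps.bwd (nat_lit 2) (Steps.fwd (nat_lit 0) (Steps.bwd (nat_lit 1) Steps.nil))) (nat_lit 56) (nat_lit 0),
  Rule.mk (nat_lit 0) (nat_lit 58) (Steps.fwd (nat_lit 20480) (Steps.fwd (nat_lit 0) (Steps.bwd (nat_lit 5) Steps.nil))) (nat_lit 56) (nat_lit 0),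
  Rule.mk (nat_lit 0) (nat_lit 58) (Steps.bwd (nat_lit 11) (Steps.bwd (nat_lit 0) (Steps.fwd (nat_lit 45056) Steps.nil))) (nat_lit 56) (nat_lit 0),
  Rule.mk (nat_lit 0) (nat_lit 58) (Steps.fwd (nat_lit 45056) (Steps.fwd (nat_lit 0) (Steps.bwd (nat_lit 11) Steps.nil))) (nat_lit 56) (nat_lit 0),
  Rule.mk (nat_lit 0) (nat_lit 58) (Steps.fwd (nat_lit 16384) (Steps.fwd (nat_lit 0) (Steps.bwd (nat_lit 4) Steps.nil))) (nat_lit 56) (nat_lit 0),
  Rule.mk (nat_lit 0) (nat_lit 58) (Steps.bwd (nat_lit 12) (Steps.fwd (nat_lit 0) (Steps.bwd (nat_lit 11) Steps.nil))) (nat_lit 56) (nat_lit 0),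
  Rule.mk (nat_lit 0) (nat_lit 73) (Steps.bwd (nat_lit 11) (Steps.bwd (nat_lit 0) (Steps.fwd (nat_lit 45056) (Steps.fwd (nat_lit 0) Steps.nil)))) (nat_lit 56) (nat_lit 0),
  Rule.mk (nat_lit 0) (nat_lit 58) (Steps.fwd (nat_lit 8192) (Steps.fwd (nat_lit 0) (Steps.fwd (nat_lit 4096) Steps.nil))) (nat_lit 56) (nat_lit 0),
  Rule.mk (nat_lit 0) (nat_lit 43) (Steps.fwd (nat_lit 0) (Steps.fwd (nat_lit 0) Steps.nil)) (nat_lit 56) (nat_lit 0),
  Rule.mk (nat_lit 0) (nat_lit 58) (Steps.fwd (nat_lit 36864) (Steps.fwd (nat_lit 0) (Steps.fwd (nat_lit 40960) Steps.nil))) (nat_lit 56) (nat_lit 0),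
  Rule.mk (nat_lit 0) (nat_lit 73) (Steps.fwd (nat_lit 53248) (Steps.fwd (nat_lit 0) (Steps.bwd (nat_lit 13) (Steps.fwd (nat_lit 0) Steps.nil)))) (nat_lit 56) (nat_lit 0),
  Rule.mk (nat_lit 0) (nat_lit 58) (Steps.fwd (nat_lit 16384) (Steps.bwd (nat_lit 0) (Steps.bwd (nat_lit 4) Steps.nil))) (nat_lit 56) (nat_lit 0),
  Rule.mk (nat_lit 0) (nat_lit 73) (Steps.bwd (nat_lit 12) (Steps.bwd (nat_lit 0) (Steps.fwd (nat_lit 49152) (Steps.fwd (nat_lit 0) Steps.nil)))) (nat_lit 56) (nat_lit 0),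
  Rule.mk (nat_lit 0) (nat_lit 58) (Steps.bwd (nat_lit 12) (Steps.bwd (nat_lit 0) (Steps.bwd (nat_lit 11) Steps.nil))) (nat_lit 56) (nat_lit 0),
  Rule.mk (nat_lit 0) (nat_lit 58) (Steps.bwd (nat_lit 6) (Steps.bwd (nat_lit 0) (Steps.bwd (nat_lit 5) Steps.nil))) (nat_lit 56) (nat_lit 0),
  Rule.mk (nat_lit 0) (nat_lit 58) (Steps.fwd (nat_lit 12288) (Steps.fwd (nat_lit 0) (Steps.bwd (nat_lit 3) Steps.nil))) (nat_lit 56) (nat_lit 0),
  Rule.mk (nat_lit 0) (nat_lit 58) (Steps.bwd (nat_lit 13) (Steps.fwd (nat_lit 0) (Steps.fwd (nat_lit 53248) Steps.nil))) (nat_lit 56) (nat_lit 0),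
  Rule.mk (nat_lit 10) (nat_lit 58) (Steps.bwd (nat_lit 0) (Steps.bwd (nat_lit 9) (Steps.fwd (nat_lit 0) Steps.nil))) (nat_lit 56) (nat_lit 0),
  Rule.mk (nat_lit 0) (nat_lit 58) (Steps.bwd (nat_lit 14) (Steps.fwd (nat_lit 0) (Steps.bwd (nat_lit 13) Steps.nil))) (nat_lit 56) (nat_lit 0),
  Rule.mk (nat_lit 0) (nat_lit 58) (Steps.fwd (nat_lit 40960) (Steps.fwd (nat_lit 0) (Steps.fwd (nat_lit 36864) Steps.nil))) (nat_lit 56) (nat_lit 0),
  Rule.mk (nat_lit 0) (nat_lit 58) (Steps.bwd (nat_lit 7) (Steps.fwd (nat_lit 0) (Steps.fwd (nat_lit 28672) Steps.nil))) (nat_lit 56) (nat_lit 0),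
  Rule.mk (nat_lit 0) (nat_lit 58) (Steps.fwd (nat_lit 28672) (Steps.bwd (nat_lit 0) (Steps.fwd (nat_lit 32768) Steps.nil))) (nat_lit 56) (nat_lit 0),
  Rule.mk (nat_lit 0) (nat_lit 58) (Steps.bwd (nat_lit 1) (Steps.fwd (nat_lit 0) (Steps.fwd (nat_lit 4096) Steps.nil))) (nat_lit 56) (nat_lit 0),
  Rule.mk (nat_lit 0) (nat_lit 58) (Steps.bwd (nat_lit 4) (Steps.bwd (nat_lit 0) (Steps.fwd (nat_lit 16384) Steps.nil))) (nat_lit 56) (nat_lit 0)]
noncomputable def R_11 : List (Rule) := [Rule.mk (nat_lit 10) (nat_lit 58) (Steps.bwd (nat_lit 0) (Steps.fwd (nat_lit 40960) (Steps.fwd (nat_lit 0) Steps.nil))) (nat_lit 56) (nat_lit 0),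
  Rule.mk (nat_lit 3) (nat_lit 58) (Steps.bwd (nat_lit 0) (Steps.fwd (nat_lit 12288) (Steps.fwd (nat_lit 0) Steps.nil))) (nat_lit 56) (nat_lit 0),
  Rule.mk (nat_lit 0) (nat_lit 58) (Steps.bwd (nat_lit 11) (Steps.fwd (nat_lit 0) (Steps.fwd (nat_lit 45056) Steps.nil))) (nat_lit 56) (nat_lit 0),
  Rule.mk (nat_lit 0) (nat_lit 58) (Steps.bwd (nat_lit 6) (Steps.fwd (nat_lit 0) (Steps.fwd (nat_lit 24576) Steps.nil))) (nat_lit 56) (nat_lit 0),
  Rule.mk (nat_lit 0) (nat_lit 73) (Steps.bwd (nat_lit 0) (Steps.bwd (nat_lit 10) (Steps.fwd (nat_lit 0) (Steps.bwd (nat_lit 9) Steps.nil)))) (nat_lit 56) (nat_lit 0),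
  Rule.mk (nat_lit 0) (nat_lit 58) (Steps.bwd (nat_lit 10) (Steps.bwd (nat_lit 0) (Steps.fwd (nat_lit 40960) Steps.nil))) (nat_lit 56) (nat_lit 0),
  Rule.mk (nat_lit 0) (nat_lit 58) (Steps.fwd (nat_lit 53248) (Steps.fwd (nat_lit 0) (Steps.bwd (nat_lit 13) Steps.nil))) (nat_lit 56) (nat_lit 0),
  Rule.mk (nat_lit 0) (nat_lit 58) (Steps.bwd (nat_lit 3) (Steps.bwd (nat_lit 0) (Steps.fwd (nat_lit 12288) Steps.nil))) (nat_lit 56) (nat_lit 0),
  Rule.mk (nat_lit 0) (nat_lit 58) (Steps.bwd (nat_lit 3) (Steps.bwd (nat_lit 0) (Steps.bwd (nat_lit 4) Steps.nil))) (nat_lit 56) (nat_lit 0),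
  Rule.mk (nat_lit 0) (nat_lit 58) (Steps.bwd (nat_lit 9) (Steps.bwd (nat_lit 0) (Steps.fwd (nat_lit 36864) Steps.nil))) (nat_lit 56) (nat_lit 0),
  Rule.mk (nat_lit 0) (nat_lit 58) (Steps.bwd (nat_lit 11) (Steps.bwd (nat_lit 0) (Steps.bwd (nat_lit 12) Steps.nil))) (nat_lit 56) (nat_lit 0),
  Rule.mk (nat_lit 0) (nat_lit 58) (Steps.bwd (nat_lit 3) (Steps.fwd (nat_lit 0) (Steps.fwd (nat_lit 12288) Steps.nil))) (nat_lit 56) (nat_lit 0),
  Rule.mk (nat_lit 0) (nat_lit 58) (Steps.bwd (nat_lit 8) (Steps.fwd (nat_lit 0) (Steps.bwd (nat_lit 7) Steps.nil))) (nat_lit 56) (nat_lit 0),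
  Rule.mk (nat_lit 0) (nat_lit 58) (Steps.fwd (nat_lit 8192) (Steps.fwd (nat_lit 0) (Steps.bwd (nat_lit 2) Steps.nil))) (nat_lit 56) (nat_lit 0),
  Rule.mk (nat_lit 0) (nat_lit 58) (Steps.fwd (nat_lit 16384) (Steps.fwd (nat_lit 0) (Steps.fwd (nat_lit 12288) Steps.nil))) (nat_lit 56) (nat_lit 0),
  Rule.mk (nat_lit 0) (nat_lit 58) (Steps.fwd (nat_lit 32768) (Steps.fwd (nat_lit 0) (Steps.fwd (nat_lit 28672) Steps.nil))) (nat_lit 56) (nat_lit 0),
  Rule.mk (nat_lit 0) (nat_lit 58) (Steps.bwd (nat_lit 5) (Steps.fwd (nat_lit 0) (Steps.bwd (nat_lit 6) Steps.nil))) (nat_lit 56) (nat_lit 0),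
  Rule.mk (nat_lit 0) (nat_lit 58) (Steps.fwd (nat_lit 36864) (Steps.fwd (nat_lit 0) (Steps.bwd (nat_lit 9) Steps.nil))) (nat_lit 56) (nat_lit 0),
  Rule.mk (nat_lit 0) (nat_lit 58) (Steps.fwd (nat_lit 28672) (Steps.fwd (nat_lit 0) (Steps.fwd (nat_lit 32768) Steps.nil))) (nat_lit 56) (nat_lit 0),
  Rule.mk (nat_lit 0) (nat_lit 58) (Steps.fwd (nat_lit 24576) (Steps.fwd (nat_lit 0) (Steps.fwd (nat_lit 20480) Steps.nil))) (nat_lit 56) (nat_lit 0),
  Rule.mk (nat_lit 5) (nat_lit 58) (Steps.bwd (nat_lit 0) (Steps.bwd (nat_lit 6) (Steps.fwd (nat_lit 0) Steps.nil))) (nat_lit 56) (nat_lit 0),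
  Rule.mk (nat_lit 11) (nat_lit 88) (Steps.bwd (nat_lit 14) (Steps.bwd (nat_lit 11) (Steps.fwd (nat_lit 57344) (Steps.bwd (nat_lit 12) (Steps.bwd (nat_lit 10) Steps.nil))))) (nat_lit 27) (nat_lit 5),
  Rule.mk (nat_lit 9) (nat_lit 88) (Steps.bwd (nat_lit 11) (Steps.bwd (nat_lit 14) (Steps.bwd (nat_lit 12) (Steps.bwd (nat_lit 13) (Steps.bwd (nat_lit 12) Steps.nil))))) (nat_lit 26) (nat_lit 3),
  Rule.mk (nat_lit 6) (nat_lit 88) (Steps.bwd (nat_lit 14) (Steps.bwd (nat_lit 11) (Steps.fwd (nat_lit 57344) (Steps.bwd (nat_lit 5) (Steps.bwd (nat_lit 10) Steps.nil))))) (nat_lit 25) (nat_lit 1),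
  Rule.mk (nat_lit 9) (nat_lit 73) (Steps.bwd (nat_lit 6) (Steps.bwd (nat_lit 12) (Steps.bwd (nat_lit 6) (Steps.fwd (nat_lit 45056) Steps.nil)))) (nat_lit 19) (nat_lit 1),
  Rule.mk (nat_lit 10) (nat_lit 88) (Steps.bwd (nat_lit 6) (Steps.fwd (nat_lit 53248) (Steps.fwd (nat_lit 49152) (Steps.bwd (nat_lit 13) (Steps.bwd (nat_lit 5) Steps.nil))))) (nat_lit 25) (nat_lit 0),
  Rule.mk (nat_lit 14) (nat_lit 118) (Steps.fwd (nat_lit 45056) (Steps.bwd (nat_lit 5) (Steps.bwd (nat_lit 3) (Steps.bwd (nat_lit 2) (Steps.bwd (nat_lit 2) (Steps.bwd (nat_lit 7) (Steps.bwd (nat_lit 9) Steps.nil))))))) (nat_lit 33) (nat_lit 3),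
  Rule.mk (nat_lit 0) (nat_lit 58) (Steps.bwd (nat_lit 5) (Steps.bwd (nat_lit 5) (Steps.bwd (nat_lit 5) Steps.nil))) (nat_lit 2) (nat_lit 0),
  Rule.mk (nat_lit 0) (nat_lit 58) (Steps.fwd (nat_lit 57344) (Steps.fwd (nat_lit 0) (Steps.fwd (nat_lit 53248) Steps.nil))) (nat_lit 56) (nat_lit 0),
  Rule.mk (nat_lit 5) (nat_lit 73) (Steps.fwd (nat_lit 36864) (Steps.bwd (nat_lit 11) (Steps.fwd (nat_lit 24576) (Steps.bwd (nat_lit 11) Steps.nil)))) (nat_lit 18) (nat_lit 4),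
  Rule.mk (nat_lit 10) (nat_lit 118) (Steps.fwd (nat_lit 28672) (Steps.fwd (nat_lit 8192) (Steps.fwd (nat_lit 8192) (Steps.bwd (nat_lit 4) (Steps.bwd (nat_lit 6) (Steps.fwd (nat_lit 49152) (Steps.fwd (nat_lit 57344) Steps.nil))))))) (nat_lit 32) (nat_lit 7),
  Rule.mk (nat_lit 7) (nat_lit 148) (Steps.bwd (nat_lit 10) (Steps.fwd (nat_lit 28672) (Steps.fwd (nat_lit 8192) (Steps.fwd (nat_lit 12288) (Steps.fwd (nat_lit 20480) (Steps.bwd (nat_lit 3) (Steps.bwd (nat_lit 2) (Steps.bwd (nat_lit 2) (Steps.bwd (nat_lit 2) Steps.nil))))))))) (nat_lit 47) (nat_lit 0),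
  Rule.mk (nat_lit 0) (nat_lit 88) (Steps.bwd (nat_lit 1) (Steps.bwd (nat_lit 1) (Steps.fwd (nat_lit 28672) (Steps.bwd (nat_lit 3) (Steps.fwd (nat_lit 24576) Steps.nil))))) (nat_lit 15) (nat_lit 1),
  Rule.mk (nat_lit 12) (nat_lit 73) (Steps.fwd (nat_lit 32768) (Steps.bwd (nat_lit 3) (Steps.bwd (nat_lit 13) (Steps.fwd (nat_lit 24576) Steps.nil)))) (nat_lit 17) (nat_lit 3),
  Rule.mk (nat_lit 0) (nat_lit 88) (Steps.fwd (nat_lit 36864) (Steps.fwd (nat_lit 49152) (Steps.fwd (nat_lit 24576) (Steps.bwd (nat_lit 11) (Steps.bwd (nat_lit 5) Steps.nil))))) (nat_lit 18) (nat_lit 4),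
  Rule.mk (nat_lit 11) (nat_lit 88) (Steps.bwd (nat_lit 14) (Steps.fwd (nat_lit 49152) (Steps.fwd (nat_lit 57344) (Steps.bwd (nat_lit 12) (Steps.fwd (nat_lit 36864) Steps.nil))))) (nat_lit 27) (nat_lit 5),
  Rule.mk (nat_lit 0) (nat_lit 118) (Steps.fwd (nat_lit 32768) (Steps.bwd (nat_lit 1) (Steps.fwd (nat_lit 12288) (Steps.fwd (nat_lit 4096) (Steps.fwd (nat_lit 4096) (Steps.bwd (nat_lit 2) (Steps.fwd (nat_lit 12288) Steps.nil))))))) (nat_lit 28) (nat_lit 5),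
  Rule.mk (nat_lit 0) (nat_lit 58) (Steps.fwd (nat_lit 40960) (Steps.bwd (nat_lit 0) (Steps.bwd (nat_lit 10) Steps.nil))) (nat_lit 56) (nat_lit 0),
  Rule.mk (nat_lit 0) (nat_lit 58) (Steps.bwd (nat_lit 5) (Steps.bwd (nat_lit 0) (Steps.bwd (nat_lit 6) Steps.nil))) (nat_lit 56) (nat_lit 0),
  Rule.mk (nat_lit 0) (nat_lit 58) (Steps.fwd (nat_lit 49152) (Steps.bwd (nat_lit 0) (Steps.fwd (nat_lit 45056) Steps.nil))) (nat_lit 56) (nat_lit 0),
  Rule.mk (nat_lit 0) (nat_lit 73) (Steps.bwd (nat_lit 0) (Steps.fwd (nat_lit 45056) (Steps.fwd (nat_lit 0) (Steps.bwd (nat_lit 11) Steps.nil)))) (nat_lit 56) (nat_lit 0),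
  Rule.mk (nat_lit 0) (nat_lit 58) (Steps.bwd (nat_lit 5) (Steps.bwd (nat_lit 0) (Steps.fwd (nat_lit 20480) Steps.nil))) (nat_lit 56) (nat_lit 0),
  Rule.mk (nat_lit 0) (nat_lit 58) (Steps.fwd (nat_lit 40960) (Steps.fwd (nat_lit 0) (Steps.bwd (nat_lit 10) Steps.nil))) (nat_lit 56) (nat_lit 0),
  Rule.mk (nat_lit 0) (nat_lit 58) (Steps.fwd (nat_lit 4096) (Steps.bwd (nat_lit 0) (Steps.bwd (nat_lit 1) Steps.nil))) (nat_lit 56) (nat_lit 0),
  Rule.mk (nat_lit 0) (nat_lit 58) (Steps.bwd (nat_lit 13) (Steps.bwd (nat_lit 0) (Steps.bwd (nat_lit 14) Steps.nil))) (nat_lit 56) (nat_lit 0),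
  Rule.mk (nat_lit 0) (nat_lit 58) (Steps.bwd (nat_lit 2) (Steps.bwd (nat_lit 0) (Steps.bwd (nat_lit 1) Steps.nil))) (nat_lit 56) (nat_lit 0),
  Rule.mk (nat_lit 0) (nat_lit 58) (Steps.fwd (nat_lit 8192) (Steps.bwd (nat_lit 0) (Steps.fwd (nat_lit 4096) Steps.nil))) (nat_lit 56) (nat_lit 0),
  Rule.mk (nat_lit 0) (nat_lit 58) (Steps.fwd (nat_lit 12288) (Steps.fwd (nat_lit 0) (Steps.fwd (nat_lit 16384) Steps.nil))) (nat_lit 56) (nat_lit 0),
  Rule.mk (nat_lit 0) (nat_lit 58) (Steps.fwd (nat_lit 24576) (Steps.bwd (nat_lit 0) (Steps.bwd (nat_lit 6) Steps.nil))) (nat_lit 56) (nat_lit 0),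
  Rule.mk (nat_lit 0) (nat_lit 73) (Steps.bwd (nat_lit 6) (Steps.fwd (nat_lit 0) (Steps.fwd (nat_lit 24576) (Steps.fwd (nat_lit 0) Steps.nil)))) (nat_lit 56) (nat_lit 0),
  Rule.mk (nat_lit 0) (nat_lit 73) (Steps.bwd (nat_lit 13) (Steps.fwd (nat_lit 0) (Steps.fwd (nat_lit 53248) (Steps.fwd (nat_lit 0) Steps.nil)))) (nat_lit 56) (nat_lit 0),
  Rule.mk (nat_lit 0) (nat_lit 58) (Steps.bwd (nat_lit 4) (Steps.fwd (nat_lit 0) (Steps.fwd (nat_lit 16384) Steps.nil))) (nat_lit 56) (nat_lit 0),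
  Rule.mk (nat_lit 0) (nat_lit 58) (Steps.fwd (nat_lit 20480) (Steps.bwd (nat_lit 0) (Steps.bwd (nat_lit 5) Steps.nil))) (nat_lit 56) (nat_lit 0),
  Rule.mk (nat_lit 0) (nat_lit 58) (Steps.fwd (nat_lit 49152) (Steps.fwd (nat_lit 0) (Steps.bwd (nat_lit 12) Steps.nil))) (nat_lit 56) (nat_lit 0),
  Rule.mk (nat_lit 0) (nat_lit 73) (Steps.bwd (nat_lit 8) (Steps.bwd (nat_lit 0) (Steps.bwd (nat_lit 7) (Steps.fwd (nat_lit 0) Steps.nil)))) (nat_lit 56) (nat_lit 0),
  Rule.mk (nat_lit 0) (nat_lit 58) (Steps.fwd (nat_lit 45056) (Steps.bwd (nat_lit 0) (Steps.bwd (nat_lit 11) Steps.nil))) (nat_lit 56) (nat_lit 0),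
  Rule.mk (nat_lit 0) (nat_lit 58) (Steps.bwd (nat_lit 12) (Steps.bwd (nat_lit 0) (Steps.fwd (nat_lit 49152) Steps.nil))) (nat_lit 56) (nat_lit 0),
  Rule.mk (nat_lit 14) (nat_lit 88) (Steps.bwd (nat_lit 12) (Steps.bwd (nat_lit 13) (Steps.fwd (nat_lit 45056) (Steps.bwd (nat_lit 9) (Steps.fwd (nat_lit 49152) Steps.nil))))) (nat_lit 26) (nat_lit 5),
  Rule.mk (nat_lit 6) (nat_lit 88) (Steps.fwd (nat_lit 8192) (Steps.fwd (nat_lit 32768) (Steps.bwd (nat_lit 1) (Steps.bwd (nat_lit 4) (Steps.bwd (nat_lit 10) Steps.nil))))) (nat_lit 22) (nat_lit 5),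
  Rule.mk (nat_lit 8) (nat_lit 118) (Steps.fwd (nat_lit 8192) (Steps.fwd (nat_lit 8192) (Steps.fwd (nat_lit 12288) (Steps.fwd (nat_lit 20480) (Steps.bwd (nat_lit 11) (Steps.bwd (nat_lit 13) (Steps.fwd (nat_lit 36864) Steps.nil))))))) (nat_lit 32) (nat_lit 0),
  Rule.mk (nat_lit 0) (nat_lit 88) (Steps.bwd (nat_lit 7) (Steps.fwd (nat_lit 16384) (Steps.fwd (nat_lit 57344) (Steps.bwd (nat_lit 5) (Steps.fwd (nat_lit 45056) Steps.nil))))) (nat_lit 17) (nat_lit 3),
  Rule.mk (nat_lit 12) (nat_lit 88) (Steps.bwd (nat_lit 9) (Steps.bwd (nat_lit 11) (Steps.fwd (nat_lit 53248) (Steps.bwd (nat_lit 12) (Steps.bwd (nat_lit 13) Steps.nil))))) (nat_lit 26) (nat_lit 2),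
  Rule.mk (nat_lit 6) (nat_lit 73) (Steps.bwd (nat_lit 12) (Steps.bwd (nat_lit 9) (Steps.bwd (nat_lit 6) (Steps.bwd (nat_lit 12) Steps.nil)))) (nat_lit 19) (nat_lit 4),
  Rule.mk (nat_lit 0) (nat_lit 163) (Steps.bwd (nat_lit 3) (Steps.fwd (nat_lit 4096) (Steps.fwd (nat_lit 4096) (Steps.fwd (nat_lit 12288) (Steps.bwd (nat_lit 6) (Steps.bwd (nat_lit 14) (Steps.fwd (nat_lit 45056) (Steps.fwd (nat_lit 24576) (Steps.bwd (nat_lit 11) (Steps.bwd (nat_lit 13) Steps.nil)))))))))) (nat_lit 52) (nat_lit 0)]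
noncomputable def R_12 : List (Rule) := [Rule.mk (nat_lit 3) (nat_lit 58) (Steps.bwd (nat_lit 5) (Steps.bwd (nat_lit 4) (Steps.fwd (nat_lit 53248) Steps.nil))) (nat_lit 12) (nat_lit 1),
  Rule.mk (nat_lit 3) (nat_lit 58) (Steps.fwd (nat_lit 20480) (Steps.bwd (nat_lit 4) (Steps.bwd (nat_lit 13) Steps.nil))) (nat_lit 13) (nat_lit 2),
  Rule.mk (nat_lit 0) (nat_lit 88) (Steps.bwd (nat_lit 8) (Steps.bwd (nat_lit 3) (Steps.bwd (nat_lit 5) (Steps.bwd (nat_lit 1) (Steps.bwd (nat_lit 1) Steps.nil))))) (nat_lit 15) (nat_lit 3),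
  Rule.mk (nat_lit 0) (nat_lit 58) (Steps.bwd (nat_lit 7) (Steps.bwd (nat_lit 0) (Steps.bwd (nat_lit 8) Steps.nil))) (nat_lit 56) (nat_lit 0),
  Rule.mk (nat_lit 2) (nat_lit 88) (Steps.bwd (nat_lit 10) (Steps.fwd (nat_lit 28672) (Steps.fwd (nat_lit 40960) (Steps.bwd (nat_lit 1) (Steps.fwd (nat_lit 16384) Steps.nil))))) (nat_lit 20) (nat_lit 3),
  Rule.mk (nat_lit 9) (nat_lit 88) (Steps.bwd (nat_lit 3) (Steps.bwd (nat_lit 2) (Steps.bwd (nat_lit 8) (Steps.fwd (nat_lit 4096) (Steps.fwd (nat_lit 24576) Steps.nil))))) (nat_lit 23) (nat_lit 3),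
  Rule.mk (nat_lit 1) (nat_lit 118) (Steps.bwd (nat_lit 10) (Steps.bwd (nat_lit 8) (Steps.fwd (nat_lit 4096) (Steps.fwd (nat_lit 4096) (Steps.bwd (nat_lit 7) (Steps.bwd (nat_lit 2) (Steps.bwd (nat_lit 5) Steps.nil))))))) (nat_lit 42) (nat_lit 2),
  Rule.mk (nat_lit 14) (nat_lit 88) (Steps.fwd (nat_lit 45056) (Steps.bwd (nat_lit 13) (Steps.fwd (nat_lit 24576) (Steps.bwd (nat_lit 9) (Steps.fwd (nat_lit 20480) Steps.nil))))) (nat_lit 24) (nat_lit 3),
  Rule.mk (nat_lit 0) (nat_lit 133) (Steps.bwd (nat_lit 14) (Steps.fwd (nat_lit 45056) (Steps.bwd (nat_lit 13) (Steps.bwd (nat_lit 10) (Steps.fwd (nat_lit 53248) (Steps.bwd (nat_lit 12) (Steps.bwd (nat_lit 13) (Steps.fwd (nat_lit 36864) Steps.nil)))))))) (nat_lit 37) (nat_lit 0),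
  Rule.mk (nat_lit 8) (nat_lit 148) (Steps.bwd (nat_lit 1) (Steps.bwd (nat_lit 1) (Steps.bwd (nat_lit 1) (Steps.fwd (nat_lit 12288) (Steps.bwd (nat_lit 5) (Steps.bwd (nat_lit 3) (Steps.fwd (nat_lit 4096) (Steps.bwd (nat_lit 7) (Steps.bwd (nat_lit 9) Steps.nil))))))))) (nat_lit 46) (nat_lit 1),
  Rule.mk (nat_lit 0) (nat_lit 163) (Steps.fwd (nat_lit 32768) (Steps.bwd (nat_lit 10) (Steps.fwd (nat_lit 28672) (Steps.bwd (nat_lit 1) (Steps.fwd (nat_lit 12288) (Steps.fwd (nat_lit 20480) (Steps.bwd (nat_lit 3) (Steps.fwd (nat_lit 4096) (Steps.fwd (nat_lit 4096) (Steps.fwd (nat_lit 4096) Steps.nil)))))))))) (nat_lit 47) (nat_lit 9),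
  Rule.mk (nat_lit 2) (nat_lit 88) (Steps.bwd (nat_lit 8) (Steps.fwd (nat_lit 4096) (Steps.fwd (nat_lit 24576) (Steps.bwd (nat_lit 9) (Steps.bwd (nat_lit 3) Steps.nil))))) (nat_lit 23) (nat_lit 5),
  Rule.mk (nat_lit 0) (nat_lit 103) (Steps.bwd (nat_lit 5) (Steps.bwd (nat_lit 9) (Steps.fwd (nat_lit 16384) (Steps.fwd (nat_lit 4096) (Steps.bwd (nat_lit 8) (Steps.fwd (nat_lit 4096) Steps.nil)))))) (nat_lit 23) (nat_lit 1),
  Rule.mk (nat_lit 5) (nat_lit 58) (Steps.bwd (nat_lit 0) (Steps.fwd (nat_lit 20480) (Steps.fwd (nat_lit 0) Steps.nil))) (nat_lit 56) (nat_lit 0),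
  Rule.mk (nat_lit 5) (nat_lit 88) (Steps.bwd (nat_lit 10) (Steps.fwd (nat_lit 20480) (Steps.bwd (nat_lit 14) (Steps.bwd (nat_lit 11) (Steps.bwd (nat_lit 13) Steps.nil))))) (nat_lit 25) (nat_lit 5),
  Rule.mk (nat_lit 6) (nat_lit 88) (Steps.bwd (nat_lit 14) (Steps.fwd (nat_lit 45056) (Steps.bwd (nat_lit 13) (Steps.bwd (nat_lit 5) (Steps.fwd (nat_lit 40960) Steps.nil))))) (nat_lit 24) (nat_lit 2),
  Rule.mk (nat_lit 1) (nat_lit 88) (Steps.fwd (nat_lit 32768) (Steps.fwd (nat_lit 8192) (Steps.fwd (nat_lit 12288) (Steps.bwd (nat_lit 10) (Steps.bwd (nat_lit 6) Steps.nil))))) (nat_lit 22) (nat_lit 0),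
  Rule.mk (nat_lit 12) (nat_lit 118) (Steps.bwd (nat_lit 13) (Steps.bwd (nat_lit 10) (Steps.bwd (nat_lit 14) (Steps.bwd (nat_lit 12) (Steps.bwd (nat_lit 13) (Steps.fwd (nat_lit 36864) (Steps.bwd (nat_lit 14) Steps.nil))))))) (nat_lit 37) (nat_lit 2),
  Rule.mk (nat_lit 0) (nat_lit 58) (Steps.bwd (nat_lit 11) (Steps.fwd (nat_lit 49152) (Steps.bwd (nat_lit 11) Steps.nil))) (nat_lit 8) (nat_lit 0),
  Rule.mk (nat_lit 0) (nat_lit 103) (Steps.fwd (nat_lit 36864) (Steps.bwd (nat_lit 7) (Steps.bwd (nat_lit 9) (Steps.bwd (nat_lit 1) (Steps.bwd (nat_lit 4) (Steps.fwd (nat_lit 4096) Steps.nil)))))) (nat_lit 21) (nat_lit 0),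
  Rule.mk (nat_lit 3) (nat_lit 148) (Steps.fwd (nat_lit 4096) (Steps.bwd (nat_lit 7) (Steps.bwd (nat_lit 9) (Steps.fwd (nat_lit 28672) (Steps.fwd (nat_lit 8192) (Steps.bwd (nat_lit 1) (Steps.bwd (nat_lit 1) (Steps.fwd (nat_lit 12288) (Steps.fwd (nat_lit 24576) Steps.nil))))))))) (nat_lit 46) (nat_lit 7),
  Rule.mk (nat_lit 0) (nat_lit 103) (Steps.bwd (nat_lit 3) (Steps.bwd (nat_lit 2) (Steps.bwd (nat_lit 10) (Steps.fwd (nat_lit 28672) (Steps.bwd (nat_lit 9) (Steps.bwd (nat_lit 1) Steps.nil)))))) (nat_lit 20) (nat_lit 1),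
  Rule.mk (nat_lit 2) (nat_lit 73) (Steps.bwd (nat_lit 6) (Steps.bwd (nat_lit 4) (Steps.bwd (nat_lit 7) (Steps.fwd (nat_lit 4096) Steps.nil)))) (nat_lit 14) (nat_lit 4),
  Rule.mk (nat_lit 5) (nat_lit 118) (Steps.fwd (nat_lit 8192) (Steps.bwd (nat_lit 10) (Steps.fwd (nat_lit 28672) (Steps.fwd (nat_lit 4096) (Steps.fwd (nat_lit 4096) (Steps.bwd (nat_lit 7) (Steps.fwd (nat_lit 4096) Steps.nil))))))) (nat_lit 42) (nat_lit 1),
  Rule.mk (nat_lit 0) (nat_lit 88) (Steps.fwd (nat_lit 20480) (Steps.bwd (nat_lit 4) (Steps.bwd (nat_lit 7) (Steps.bwd (nat_lit 2) (Steps.bwd (nat_lit 2) Steps.nil))))) (nat_lit 14) (nat_lit 4),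
  Rule.mk (nat_lit 3) (nat_lit 88) (Steps.bwd (nat_lit 2) (Steps.fwd (nat_lit 28672) (Steps.bwd (nat_lit 2) (Steps.fwd (nat_lit 24576) (Steps.fwd (nat_lit 40960) Steps.nil))))) (nat_lit 23) (nat_lit 4),
  Rule.mk (nat_lit 0) (nat_lit 118) (Steps.bwd (nat_lit 2) (Steps.fwd (nat_lit 4096) (Steps.bwd (nat_lit 2) (Steps.fwd (nat_lit 12288) (Steps.bwd (nat_lit 7) (Steps.bwd (nat_lit 1) (Steps.bwd (nat_lit 4) Steps.nil))))))) (nat_lit 28) (nat_lit 1),
  Rule.mk (nat_lit 7) (nat_lit 103) (Steps.fwd (nat_lit 8192) (Steps.bwd (nat_lit 4) (Steps.fwd (nat_lit 4096) (Steps.bwd (nat_lit 2) (Steps.bwd (nat_lit 2) (Steps.fwd (nat_lit 12288) Steps.nil)))))) (nat_lit 28) (nat_lit 6),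
  Rule.mk (nat_lit 8) (nat_lit 118) (Steps.fwd (nat_lit 4096) (Steps.bwd (nat_lit 2) (Steps.bwd (nat_lit 7) (Steps.bwd (nat_lit 2) (Steps.fwd (nat_lit 24576) (Steps.fwd (nat_lit 8192) (Steps.bwd (nat_lit 10) Steps.nil))))))) (nat_lit 42) (nat_lit 4),
  Rule.mk (nat_lit 9) (nat_lit 88) (Steps.fwd (nat_lit 16384) (Steps.bwd (nat_lit 2) (Steps.bwd (nat_lit 8) (Steps.fwd (nat_lit 4096) (Steps.bwd (nat_lit 5) Steps.nil))))) (nat_lit 23) (nat_lit 3),
  Rule.mk (nat_lit 12) (nat_lit 73) (Steps.fwd (nat_lit 20480) (Steps.fwd (nat_lit 45056) (Steps.bwd (nat_lit 9) (Steps.bwd (nat_lit 6) Steps.nil)))) (nat_lit 19) (nat_lit 3),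
  Rule.mk (nat_lit 13) (nat_lit 88) (Steps.bwd (nat_lit 5) (Steps.bwd (nat_lit 9) (Steps.bwd (nat_lit 6) (Steps.bwd (nat_lit 14) (Steps.bwd (nat_lit 12) Steps.nil))))) (nat_lit 24) (nat_lit 5),
  Rule.mk (nat_lit 4) (nat_lit 58) (Steps.bwd (nat_lit 13) (Steps.bwd (nat_lit 3) (Steps.fwd (nat_lit 20480) Steps.nil))) (nat_lit 13) (nat_lit 0),
  Rule.mk (nat_lit 10) (nat_lit 88) (Steps.bwd (nat_lit 8) (Steps.fwd (nat_lit 40960) (Steps.fwd (nat_lit 8192) (Steps.bwd (nat_lit 3) (Steps.fwd (nat_lit 4096) Steps.nil))))) (nat_lit 20) (nat_lit 4),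
  Rule.mk (nat_lit 3) (nat_lit 148) (Steps.fwd (nat_lit 4096) (Steps.fwd (nat_lit 4096) (Steps.fwd (nat_lit 4096) (Steps.bwd (nat_lit 7) (Steps.bwd (nat_lit 10) (Steps.bwd (nat_lit 8) (Steps.fwd (nat_lit 8192) (Steps.bwd (nat_lit 4) (Steps.bwd (nat_lit 6) Steps.nil))))))))) (nat_lit 47) (nat_lit 6),
  Rule.mk (nat_lit 2) (nat_lit 103) (Steps.fwd (nat_lit 28672) (Steps.bwd (nat_lit 3) (Steps.bwd (nat_lit 1) (Steps.bwd (nat_lit 1) (Steps.bwd (nat_lit 1) (Steps.bwd (nat_lit 3) Steps.nil)))))) (nat_lit 29) (nat_lit 1),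
  Rule.mk (nat_lit 9) (nat_lit 88) (Steps.bwd (nat_lit 3) (Steps.bwd (nat_lit 2) (Steps.fwd (nat_lit 28672) (Steps.fwd (nat_lit 4096) (Steps.bwd (nat_lit 5) Steps.nil))))) (nat_lit 23) (nat_lit 3),
  Rule.mk (nat_lit 6) (nat_lit 88) (Steps.bwd (nat_lit 14) (Steps.bwd (nat_lit 12) (Steps.fwd (nat_lit 57344) (Steps.bwd (nat_lit 5) (Steps.bwd (nat_lit 9) Steps.nil))))) (nat_lit 24) (nat_lit 2),
  Rule.mk (nat_lit 10) (nat_lit 88) (Steps.bwd (nat_lit 6) (Steps.bwd (nat_lit 14) (Steps.bwd (nat_lit 11) (Steps.fwd (nat_lit 57344) (Steps.bwd (nat_lit 5) Steps.nil))))) (nat_lit 25) (nat_lit 0),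
  Rule.mk (nat_lit 0) (nat_lit 133) (Steps.fwd (nat_lit 8192) (Steps.fwd (nat_lit 8192) (Steps.fwd (nat_lit 12288) (Steps.bwd (nat_lit 6) (Steps.bwd (nat_lit 11) (Steps.fwd (nat_lit 57344) (Steps.fwd (nat_lit 36864) (Steps.bwd (nat_lit 8) Steps.nil)))))))) (nat_lit 32) (nat_lit 0),
  Rule.mk (nat_lit 4) (nat_lit 73) (Steps.bwd (nat_lit 7) (Steps.bwd (nat_lit 2) (Steps.bwd (nat_lit 2) (Steps.bwd (nat_lit 6) Steps.nil)))) (nat_lit 14) (nat_lit 1),
  Rule.mk (nat_lit 0) (nat_lit 73) (Steps.bwd (nat_lit 13) (Steps.fwd (nat_lit 16384) (Steps.bwd (nat_lit 6) (Steps.fwd (nat_lit 12288) Steps.nil)))) (nat_lit 13) (nat_lit 0),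
  Rule.mk (nat_lit 3) (nat_lit 58) (Steps.bwd (nat_lit 6) (Steps.bwd (nat_lit 4) (Steps.fwd (nat_lit 57344) Steps.nil))) (nat_lit 13) (nat_lit 2),
  Rule.mk (nat_lit 0) (nat_lit 88) (Steps.bwd (nat_lit 4) (Steps.bwd (nat_lit 8) (Steps.fwd (nat_lit 49152) (Steps.bwd (nat_lit 6) (Steps.bwd (nat_lit 14) Steps.nil))))) (nat_lit 16) (nat_lit 0),
  Rule.mk (nat_lit 0) (nat_lit 58) (Steps.fwd (nat_lit 24576) (Steps.fwd (nat_lit 0) (Steps.bwd (nat_lit 6) Steps.nil))) (nat_lit 56) (nat_lit 0),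
  Rule.mk (nat_lit 0) (nat_lit 88) (Steps.fwd (nat_lit 28672) (Steps.bwd (nat_lit 3) (Steps.bwd (nat_lit 5) (Steps.fwd (nat_lit 8192) (Steps.fwd (nat_lit 8192) Steps.nil))))) (nat_lit 15) (nat_lit 3),
  Rule.mk (nat_lit 0) (nat_lit 58) (Steps.fwd (nat_lit 4096) (Steps.fwd (nat_lit 0) (Steps.fwd (nat_lit 8192) Steps.nil))) (nat_lit 56) (nat_lit 0),
  Rule.mk (nat_lit 0) (nat_lit 118) (Steps.fwd (nat_lit 16384) (Steps.bwd (nat_lit 2) (Steps.fwd (nat_lit 28672) (Steps.fwd (nat_lit 16384) (Steps.bwd (nat_lit 1) (Steps.bwd (nat_lit 1) (Steps.bwd (nat_lit 1) Steps.nil))))))) (nat_lit 29) (nat_lit 6),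
  Rule.mk (nat_lit 0) (nat_lit 103) (Steps.fwd (nat_lit 8192) (Steps.fwd (nat_lit 32768) (Steps.fwd (nat_lit 8192) (Steps.bwd (nat_lit 4) (Steps.fwd (nat_lit 36864) (Steps.fwd (nat_lit 20480) Steps.nil)))))) (nat_lit 22) (nat_lit 5),
  Rule.mk (nat_lit 0) (nat_lit 133) (Steps.bwd (nat_lit 2) (Steps.bwd (nat_lit 7) (Steps.fwd (nat_lit 40960) (Steps.bwd (nat_lit 14) (Steps.bwd (nat_lit 12) (Steps.fwd (nat_lit 24576) (Steps.fwd (nat_lit 16384) (Steps.bwd (nat_lit 2) Steps.nil)))))))) (nat_lit 33) (nat_lit 7),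
  Rule.mk (nat_lit 0) (nat_lit 103) (Steps.bwd (nat_lit 7) (Steps.bwd (nat_lit 9) (Steps.fwd (nat_lit 8192) (Steps.bwd (nat_lit 4) (Steps.bwd (nat_lit 2) (Steps.bwd (nat_lit 10) Steps.nil)))))) (nat_lit 21) (nat_lit 1),
  Rule.mk (nat_lit 0) (nat_lit 58) (Steps.bwd (nat_lit 10) (Steps.bwd (nat_lit 0) (Steps.bwd (nat_lit 9) Steps.nil))) (nat_lit 56) (nat_lit 0),
  Rule.mk (nat_lit 0) (nat_lit 58) (Steps.bwd (nat_lit 8) (Steps.bwd (nat_lit 0) (Steps.fwd (nat_lit 32768) Steps.nil))) (nat_lit 56) (nat_lit 0),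
  Rule.mk (nat_lit 5) (nat_lit 88) (Steps.fwd (nat_lit 40960) (Steps.bwd (nat_lit 3) (Steps.bwd (nat_lit 2) (Steps.bwd (nat_lit 8) (Steps.bwd (nat_lit 2) Steps.nil))))) (nat_lit 23) (nat_lit 2),
  Rule.mk (nat_lit 3) (nat_lit 103) (Steps.bwd (nat_lit 1) (Steps.bwd (nat_lit 1) (Steps.fwd (nat_lit 8192) (Steps.bwd (nat_lit 3) (Steps.bwd (nat_lit 2) (Steps.bwd (nat_lit 8) Steps.nil)))))) (nat_lit 29) (nat_lit 3),
  Rule.mk (nat_lit 3) (nat_lit 73) (Steps.bwd (nat_lit 5) (Steps.bwd (nat_lit 1) (Steps.bwd (nat_lit 1) (Steps.bwd (nat_lit 8) Steps.nil)))) (nat_lit 15) (nat_lit 0),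
  Rule.mk (nat_lit 0) (nat_lit 58) (Steps.fwd (nat_lit 12288) (Steps.bwd (nat_lit 4) (Steps.bwd (nat_lit 4) Steps.nil))) (nat_lit 1) (nat_lit 0),
  Rule.mk (nat_lit 9) (nat_lit 73) (Steps.bwd (nat_lit 6) (Steps.fwd (nat_lit 45056) (Steps.bwd (nat_lit 6) (Steps.fwd (nat_lit 45056) Steps.nil)))) (nat_lit 19) (nat_lit 1),
  Rule.mk (nat_lit 0) (nat_lit 58) (Steps.fwd (nat_lit 40960) (Steps.bwd (nat_lit 9) (Steps.bwd (nat_lit 9) Steps.nil))) (nat_lit 6) (nat_lit 0),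
  Rule.mk (nat_lit 0) (nat_lit 88) (Steps.fwd (nat_lit 45056) (Steps.fwd (nat_lit 32768) (Steps.bwd (nat_lit 3) (Steps.fwd (nat_lit 57344) (Steps.bwd (nat_lit 5) Steps.nil))))) (nat_lit 17) (nat_lit 2),
  Rule.mk (nat_lit 2) (nat_lit 103) (Steps.fwd (nat_lit 28672) (Steps.fwd (nat_lit 16384) (Steps.bwd (nat_lit 1) (Steps.bwd (nat_lit 1) (Steps.bwd (nat_lit 1) (Steps.bwd (nat_lit 3) Steps.nil)))))) (nat_lit 29) (nat_lit 1),
  Rule.mk (nat_lit 0) (nat_lit 103) (Steps.fwd (nat_lit 40960) (Steps.bwd (nat_lit 3) (Steps.fwd (nat_lit 4096) (Steps.fwd (nat_lit 28672) (Steps.bwd (nat_lit 2) (Steps.fwd (nat_lit 24576) Steps.nil)))))) (nat_lit 23) (nat_lit 2),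
  Rule.mk (nat_lit 0) (nat_lit 58) (Steps.fwd (nat_lit 36864) (Steps.bwd (nat_lit 0) (Steps.fwd (nat_lit 40960) Steps.nil))) (nat_lit 56) (nat_lit 0),
  Rule.mk (nat_lit 0) (nat_lit 58) (Steps.fwd (nat_lit 45056) (Steps.bwd (nat_lit 0) (Steps.fwd (nat_lit 49152) Steps.nil))) (nat_lit 56) (nat_lit 0)]
noncomputable def R_13 : List (Rule) := [Rule.mk (nat_lit 0) (nat_lit 133) (Steps.bwd (nat_lit 7) (Steps.bwd (nat_lit 9) (Steps.fwd (nat_lit 4096) (Steps.bwd (nat_lit 6) (Steps.fwd (nat_lit 8192) (Steps.bwd (nat_lit 8) (Steps.fwd (nat_lit 8192) (Steps.fwd (nat_lit 8192) Steps.nil)))))))) (nat_lit 43) (nat_lit 4),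
  Rule.mk (nat_lit 0) (nat_lit 58) (Steps.fwd (nat_lit 36864) (Steps.bwd (nat_lit 0) (Steps.bwd (nat_lit 9) Steps.nil))) (nat_lit 56) (nat_lit 0),
  Rule.mk (nat_lit 0) (nat_lit 103) (Steps.fwd (nat_lit 49152) (Steps.bwd (nat_lit 13) (Steps.fwd (nat_lit 24576) (Steps.fwd (nat_lit 36864) (Steps.fwd (nat_lit 20480) (Steps.fwd (nat_lit 53248) Steps.nil)))))) (nat_lit 25) (nat_lit 2),
  Rule.mk (nat_lit 12) (nat_lit 73) (Steps.bwd (nat_lit 6) (Steps.bwd (nat_lit 12) (Steps.fwd (nat_lit 40960) (Steps.bwd (nat_lit 6) Steps.nil)))) (nat_lit 19) (nat_lit 3),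
  Rule.mk (nat_lit 7) (nat_lit 148) (Steps.fwd (nat_lit 36864) (Steps.bwd (nat_lit 7) (Steps.fwd (nat_lit 36864) (Steps.bwd (nat_lit 7) (Steps.bwd (nat_lit 10) (Steps.bwd (nat_lit 7) (Steps.bwd (nat_lit 10) (Steps.bwd (nat_lit 7) (Steps.bwd (nat_lit 10) Steps.nil))))))))) (nat_lit 49) (nat_lit 0),
  Rule.mk (nat_lit 0) (nat_lit 133) (Steps.fwd (nat_lit 57344) (Steps.fwd (nat_lit 36864) (Steps.bwd (nat_lit 7) (Steps.bwd (nat_lit 9) (Steps.bwd (nat_lit 13) (Steps.bwd (nat_lit 10) (Steps.bwd (nat_lit 7) (Steps.bwd (nat_lit 9) Steps.nil)))))))) (nat_lit 38) (nat_lit 0),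
  Rule.mk (nat_lit 0) (nat_lit 103) (Steps.fwd (nat_lit 36864) (Steps.bwd (nat_lit 6) (Steps.bwd (nat_lit 14) (Steps.fwd (nat_lit 49152) (Steps.fwd (nat_lit 57344) (Steps.fwd (nat_lit 24576) Steps.nil)))))) (nat_lit 25) (nat_lit 5),
  Rule.mk (nat_lit 12) (nat_lit 73) (Steps.bwd (nat_lit 9) (Steps.bwd (nat_lit 6) (Steps.bwd (nat_lit 12) (Steps.bwd (nat_lit 6) Steps.nil)))) (nat_lit 19) (nat_lit 0),
  Rule.mk (nat_lit 0) (nat_lit 103) (Steps.fwd (nat_lit 49152) (Steps.bwd (nat_lit 14) (Steps.bwd (nat_lit 11) (Steps.fwd (nat_lit 57344) (Steps.bwd (nat_lit 12) (Steps.bwd (nat_lit 10) Steps.nil)))))) (nat_lit 27) (nat_lit 4),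
  Rule.mk (nat_lit 0) (nat_lit 58) (Steps.bwd (nat_lit 14) (Steps.bwd (nat_lit 0) (Steps.fwd (nat_lit 57344) Steps.nil))) (nat_lit 56) (nat_lit 0),
  Rule.mk (nat_lit 3) (nat_lit 118) (Steps.bwd (nat_lit 6) (Steps.bwd (nat_lit 11) (Steps.bwd (nat_lit 5) (Steps.bwd (nat_lit 3) (Steps.bwd (nat_lit 6) (Steps.fwd (nat_lit 49152) (Steps.fwd (nat_lit 24576) Steps.nil))))))) (nat_lit 34) (nat_lit 1),
  Rule.mk (nat_lit 1) (nat_lit 118) (Steps.bwd (nat_lit 4) (Steps.fwd (nat_lit 20480) (Steps.bwd (nat_lit 11) (Steps.bwd (nat_lit 13) (Steps.fwd (nat_lit 36864) (Steps.fwd (nat_lit 28672) (Steps.fwd (nat_lit 8192) Steps.nil))))))) (nat_lit 32) (nat_lit 2),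
  Rule.mk (nat_lit 1) (nat_lit 103) (Steps.fwd (nat_lit 8192) (Steps.bwd (nat_lit 1) (Steps.bwd (nat_lit 3) (Steps.fwd (nat_lit 4096) (Steps.bwd (nat_lit 8) (Steps.bwd (nat_lit 3) Steps.nil)))))) (nat_lit 29) (nat_lit 4),
  Rule.mk (nat_lit 0) (nat_lit 88) (Steps.fwd (nat_lit 32768) (Steps.fwd (nat_lit 4096) (Steps.bwd (nat_lit 2) (Steps.fwd (nat_lit 20480) (Steps.bwd (nat_lit 4) Steps.nil))))) (nat_lit 14) (nat_lit 1),
  Rule.mk (nat_lit 8) (nat_lit 73) (Steps.fwd (nat_lit 16384) (Steps.bwd (nat_lit 5) (Steps.bwd (nat_lit 1) (Steps.fwd (nat_lit 8192) Steps.nil)))) (nat_lit 15) (nat_lit 4),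
  Rule.mk (nat_lit 1) (nat_lit 88) (Steps.fwd (nat_lit 12288) (Steps.bwd (nat_lit 10) (Steps.fwd (nat_lit 20480) (Steps.bwd (nat_lit 1) (Steps.bwd (nat_lit 7) Steps.nil))))) (nat_lit 22) (nat_lit 2),
  Rule.mk (nat_lit 0) (nat_lit 118) (Steps.fwd (nat_lit 16384) (Steps.bwd (nat_lit 2) (Steps.fwd (nat_lit 28672) (Steps.bwd (nat_lit 3) (Steps.fwd (nat_lit 8192) (Steps.bwd (nat_lit 1) (Steps.fwd (nat_lit 8192) Steps.nil))))))) (nat_lit 29) (nat_lit 6),
  Rule.mk (nat_lit 1) (nat_lit 118) (Steps.bwd (nat_lit 8) (Steps.fwd (nat_lit 8192) (Steps.bwd (nat_lit 1) (Steps.bwd (nat_lit 7) (Steps.bwd (nat_lit 9) (Steps.bwd (nat_lit 2) (Steps.fwd (nat_lit 20480) Steps.nil))))))) (nat_lit 43) (nat_lit 1),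
  Rule.mk (nat_lit 9) (nat_lit 88) (Steps.fwd (nat_lit 8192) (Steps.bwd (nat_lit 4) (Steps.fwd (nat_lit 4096) (Steps.fwd (nat_lit 36864) (Steps.fwd (nat_lit 32768) Steps.nil))))) (nat_lit 21) (nat_lit 3),
  Rule.mk (nat_lit 0) (nat_lit 58) (Steps.bwd (nat_lit 10) (Steps.fwd (nat_lit 36864) (Steps.fwd (nat_lit 36864) Steps.nil))) (nat_lit 7) (nat_lit 0),
  Rule.mk (nat_lit 10) (nat_lit 43) (Steps.bwd (nat_lit 10) (Steps.fwd (nat_lit 36864) Steps.nil)) (nat_lit 7) (nat_lit 0),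
  Rule.mk (nat_lit 1) (nat_lit 88) (Steps.fwd (nat_lit 16384) (Steps.bwd (nat_lit 2) (Steps.bwd (nat_lit 10) (Steps.fwd (nat_lit 28672) (Steps.bwd (nat_lit 9) Steps.nil))))) (nat_lit 20) (nat_lit 1),
  Rule.mk (nat_lit 1) (nat_lit 88) (Steps.fwd (nat_lit 32768) (Steps.bwd (nat_lit 1) (Steps.bwd (nat_lit 4) (Steps.bwd (nat_lit 10) (Steps.bwd (nat_lit 6) Steps.nil))))) (nat_lit 22) (nat_lit 0),
  Rule.mk (nat_lit 0) (nat_lit 103) (Steps.bwd (nat_lit 3) (Steps.fwd (nat_lit 4096) (Steps.fwd (nat_lit 36864) (Steps.bwd (nat_lit 8) (Steps.bwd (nat_lit 9) (Steps.bwd (nat_lit 1) Steps.nil)))))) (nat_lit 20) (nat_lit 1),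
  Rule.mk (nat_lit 4) (nat_lit 103) (Steps.bwd (nat_lit 7) (Steps.bwd (nat_lit 1) (Steps.bwd (nat_lit 4) (Steps.fwd (nat_lit 4096) (Steps.bwd (nat_lit 2) (Steps.bwd (nat_lit 2) Steps.nil)))))) (nat_lit 28) (nat_lit 5),
  Rule.mk (nat_lit 4) (nat_lit 88) (Steps.fwd (nat_lit 4096) (Steps.fwd (nat_lit 36864) (Steps.bwd (nat_lit 7) (Steps.bwd (nat_lit 9) (Steps.bwd (nat_lit 1) Steps.nil))))) (nat_lit 21) (nat_lit 5),
  Rule.mk (nat_lit 4) (nat_lit 103) (Steps.bwd (nat_lit 7) (Steps.bwd (nat_lit 1) (Steps.bwd (nat_lit 4) (Steps.fwd (nat_lit 4096) (Steps.bwd (nat_lit 2) (Steps.fwd (nat_lit 4096) Steps.nil)))))) (nat_lit 28) (nat_lit 5),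
  Rule.mk (nat_lit 12) (nat_lit 73) (Steps.bwd (nat_lit 7) (Steps.fwd (nat_lit 16384) (Steps.bwd (nat_lit 13) (Steps.bwd (nat_lit 5) Steps.nil)))) (nat_lit 17) (nat_lit 3),
  Rule.mk (nat_lit 0) (nat_lit 88) (Steps.fwd (nat_lit 24576) (Steps.fwd (nat_lit 36864) (Steps.fwd (nat_lit 49152) (Steps.bwd (nat_lit 5) (Steps.bwd (nat_lit 11) Steps.nil))))) (nat_lit 18) (nat_lit 3),
  Rule.mk (nat_lit 0) (nat_lit 73) (Steps.bwd (nat_lit 11) (Steps.fwd (nat_lit 0) (Steps.fwd (nat_lit 45056) (Steps.fwd (nat_lit 0) Steps.nil)))) (nat_lit 56) (nat_lit 0),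
  Rule.mk (nat_lit 0) (nat_lit 133) (Steps.fwd (nat_lit 16384) (Steps.fwd (nat_lit 20480) (Steps.fwd (nat_lit 49152) (Steps.fwd (nat_lit 24576) (Steps.fwd (nat_lit 16384) (Steps.fwd (nat_lit 20480) (Steps.fwd (nat_lit 49152) (Steps.fwd (nat_lit 24576) Steps.nil)))))))) (nat_lit 34) (nat_lit 0),
  Rule.mk (nat_lit 0) (nat_lit 148) (Steps.bwd (nat_lit 3) (Steps.bwd (nat_lit 8) (Steps.bwd (nat_lit 3) (Steps.fwd (nat_lit 49152) (Steps.bwd (nat_lit 14) (Steps.bwd (nat_lit 12) (Steps.bwd (nat_lit 5) (Steps.bwd (nat_lit 10) (Steps.bwd (nat_lit 8) Steps.nil))))))))) (nat_lit 45) (nat_lit 6),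
  Rule.mk (nat_lit 13) (nat_lit 73) (Steps.bwd (nat_lit 5) (Steps.bwd (nat_lit 12) (Steps.bwd (nat_lit 7) (Steps.fwd (nat_lit 16384) Steps.nil)))) (nat_lit 17) (nat_lit 1),
  Rule.mk (nat_lit 0) (nat_lit 88) (Steps.bwd (nat_lit 9) (Steps.bwd (nat_lit 6) (Steps.bwd (nat_lit 12) (Steps.fwd (nat_lit 20480) (Steps.fwd (nat_lit 45056) Steps.nil))))) (nat_lit 19) (nat_lit 0),
  Rule.mk (nat_lit 6) (nat_lit 73) (Steps.bwd (nat_lit 4) (Steps.fwd (nat_lit 32768) (Steps.bwd (nat_lit 2) (Steps.bwd (nat_lit 2) Steps.nil)))) (nat_lit 14) (nat_lit 0),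
  Rule.mk (nat_lit 14) (nat_lit 73) (Steps.bwd (nat_lit 4) (Steps.bwd (nat_lit 8) (Steps.fwd (nat_lit 49152) (Steps.fwd (nat_lit 20480) Steps.nil)))) (nat_lit 16) (nat_lit 0),
  Rule.mk (nat_lit 10) (nat_lit 88) (Steps.fwd (nat_lit 32768) (Steps.fwd (nat_lit 40960) (Steps.fwd (nat_lit 8192) (Steps.bwd (nat_lit 4) (Steps.fwd (nat_lit 4096) Steps.nil))))) (nat_lit 21) (nat_lit 1),
  Rule.mk (nat_lit 0) (nat_lit 103) (Steps.bwd (nat_lit 7) (Steps.bwd (nat_lit 1) (Steps.bwd (nat_lit 4) (Steps.bwd (nat_lit 10) (Steps.bwd (nat_lit 6) (Steps.fwd (nat_lit 8192) Steps.nil)))))) (nat_lit 22) (nat_lit 0),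
  Rule.mk (nat_lit 0) (nat_lit 118) (Steps.bwd (nat_lit 2) (Steps.fwd (nat_lit 4096) (Steps.bwd (nat_lit 4) (Steps.fwd (nat_lit 32768) (Steps.bwd (nat_lit 1) (Steps.bwd (nat_lit 4) (Steps.fwd (nat_lit 4096) Steps.nil))))))) (nat_lit 28) (nat_lit 2),
  Rule.mk (nat_lit 8) (nat_lit 73) (Steps.bwd (nat_lit 3) (Steps.fwd (nat_lit 24576) (Steps.bwd (nat_lit 1) (Steps.bwd (nat_lit 1) Steps.nil)))) (nat_lit 15) (nat_lit 4),
  Rule.mk (nat_lit 9) (nat_lit 88) (Steps.bwd (nat_lit 3) (Steps.fwd (nat_lit 4096) (Steps.bwd (nat_lit 8) (Steps.bwd (nat_lit 2) (Steps.fwd (nat_lit 24576) Steps.nil))))) (nat_lit 23) (nat_lit 3),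
  Rule.mk (nat_lit 0) (nat_lit 58) (Steps.fwd (nat_lit 40960) (Steps.bwd (nat_lit 9) (Steps.fwd (nat_lit 40960) Steps.nil))) (nat_lit 6) (nat_lit 0),
  Rule.mk (nat_lit 0) (nat_lit 58) (Steps.fwd (nat_lit 32768) (Steps.bwd (nat_lit 0) (Steps.bwd (nat_lit 8) Steps.nil))) (nat_lit 56) (nat_lit 0),
  Rule.mk (nat_lit 0) (nat_lit 58) (Steps.fwd (nat_lit 28672) (Steps.fwd (nat_lit 0) (Steps.bwd (nat_lit 7) Steps.nil))) (nat_lit 56) (nat_lit 0),
  Rule.mk (nat_lit 0) (nat_lit 58) (Steps.bwd (nat_lit 4) (Steps.bwd (nat_lit 4) (Steps.bwd (nat_lit 4) Steps.nil))) (nat_lit 1) (nat_lit 0),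
  Rule.mk (nat_lit 7) (nat_lit 118) (Steps.bwd (nat_lit 9) (Steps.bwd (nat_lit 14) (Steps.bwd (nat_lit 12) (Steps.bwd (nat_lit 5) (Steps.bwd (nat_lit 3) (Steps.fwd (nat_lit 4096) (Steps.fwd (nat_lit 4096) Steps.nil))))))) (nat_lit 33) (nat_lit 1),
  Rule.mk (nat_lit 9) (nat_lit 88) (Steps.bwd (nat_lit 1) (Steps.fwd (nat_lit 16384) (Steps.bwd (nat_lit 2) (Steps.bwd (nat_lit 10) (Steps.bwd (nat_lit 8) Steps.nil))))) (nat_lit 20) (nat_lit 0),
  Rule.mk (nat_lit 0) (nat_lit 118) (Steps.bwd (nat_lit 8) (Steps.fwd (nat_lit 16384) (Steps.fwd (nat_lit 8192) (Steps.bwd (nat_lit 1) (Steps.bwd (nat_lit 1) (Steps.fwd (nat_lit 16384) (Steps.bwd (nat_lit 2) Steps.nil))))))) (nat_lit 29) (nat_lit 1),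
  Rule.mk (nat_lit 0) (nat_lit 148) (Steps.bwd (nat_lit 10) (Steps.fwd (nat_lit 28672) (Steps.fwd (nat_lit 16384) (Steps.fwd (nat_lit 28672) (Steps.bwd (nat_lit 3) (Steps.fwd (nat_lit 49152) (Steps.bwd (nat_lit 14) (Steps.fwd (nat_lit 45056) (Steps.fwd (nat_lit 24576) Steps.nil))))))))) (nat_lit 45) (nat_lit 4),
  Rule.mk (nat_lit 6) (nat_lit 73) (Steps.fwd (nat_lit 45056) (Steps.bwd (nat_lit 6) (Steps.bwd (nat_lit 12) (Steps.fwd (nat_lit 40960) Steps.nil)))) (nat_lit 19) (nat_lit 2),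
  Rule.mk (nat_lit 5) (nat_lit 88) (Steps.bwd (nat_lit 10) (Steps.bwd (nat_lit 6) (Steps.bwd (nat_lit 14) (Steps.bwd (nat_lit 11) (Steps.bwd (nat_lit 13) Steps.nil))))) (nat_lit 25) (nat_lit 5),
  Rule.mk (nat_lit 11) (nat_lit 73) (Steps.bwd (nat_lit 5) (Steps.fwd (nat_lit 36864) (Steps.fwd (nat_lit 49152) (Steps.bwd (nat_lit 5) Steps.nil)))) (nat_lit 18) (nat_lit 3),
  Rule.mk (nat_lit 0) (nat_lit 103) (Steps.fwd (nat_lit 8192) (Steps.bwd (nat_lit 7) (Steps.bwd (nat_lit 1) (Steps.fwd (nat_lit 12288) (Steps.fwd (nat_lit 36864) (Steps.fwd (nat_lit 20480) Steps.nil)))))) (nat_lit 22) (nat_lit 5),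
  Rule.mk (nat_lit 10) (nat_lit 118) (Steps.bwd (nat_lit 14) (Steps.fwd (nat_lit 45056) (Steps.fwd (nat_lit 57344) (Steps.bwd (nat_lit 10) (Steps.fwd (nat_lit 53248) (Steps.fwd (nat_lit 45056) (Steps.fwd (nat_lit 57344) Steps.nil))))))) (nat_lit 37) (nat_lit 0),
  Rule.mk (nat_lit 8) (nat_lit 118) (Steps.bwd (nat_lit 1) (Steps.bwd (nat_lit 1) (Steps.fwd (nat_lit 12288) (Steps.fwd (nat_lit 20480) (Steps.bwd (nat_lit 11) (Steps.fwd (nat_lit 57344) (Steps.bwd (nat_lit 10) Steps.nil))))))) (nat_lit 32) (nat_lit 0),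
  Rule.mk (nat_lit 7) (nat_lit 148) (Steps.bwd (nat_lit 10) (Steps.fwd (nat_lit 32768) (Steps.bwd (nat_lit 10) (Steps.fwd (nat_lit 32768) (Steps.fwd (nat_lit 36864) (Steps.fwd (nat_lit 32768) (Steps.bwd (nat_lit 10) (Steps.bwd (nat_lit 7) (Steps.fwd (nat_lit 36864) Steps.nil))))))))) (nat_lit 49) (nat_lit 0),
  Rule.mk (nat_lit 4) (nat_lit 88) (Steps.bwd (nat_lit 2) (Steps.fwd (nat_lit 36864) (Steps.bwd (nat_lit 7) (Steps.fwd (nat_lit 40960) (Steps.bwd (nat_lit 1) Steps.nil))))) (nat_lit 21) (nat_lit 5),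
  Rule.mk (nat_lit 0) (nat_lit 58) (Steps.bwd (nat_lit 4) (Steps.bwd (nat_lit 4) (Steps.fwd (nat_lit 12288) Steps.nil))) (nat_lit 1) (nat_lit 0),
  Rule.mk (nat_lit 0) (nat_lit 88) (Steps.fwd (nat_lit 28672) (Steps.bwd (nat_lit 3) (Steps.bwd (nat_lit 5) (Steps.bwd (nat_lit 1) (Steps.bwd (nat_lit 1) Steps.nil))))) (nat_lit 15) (nat_lit 3),
  Rule.mk (nat_lit 8) (nat_lit 133) (Steps.bwd (nat_lit 3) (Steps.fwd (nat_lit 28672) (Steps.bwd (nat_lit 3) (Steps.bwd (nat_lit 11) (Steps.fwd (nat_lit 53248) (Steps.bwd (nat_lit 12) (Steps.fwd (nat_lit 24576) (Steps.bwd (nat_lit 10) Steps.nil)))))))) (nat_lit 45) (nat_lit 6),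
  Rule.mk (nat_lit 2) (nat_lit 103) (Steps.bwd (nat_lit 8) (Steps.bwd (nat_lit 3) (Steps.fwd (nat_lit 8192) (Steps.fwd (nat_lit 8192) (Steps.bwd (nat_lit 1) (Steps.fwd (nat_lit 16384) Steps.nil)))))) (nat_lit 29) (nat_lit 1),
  Rule.mk (nat_lit 0) (nat_lit 103) (Steps.fwd (nat_lit 36864) (Steps.bwd (nat_lit 8) (Steps.bwd (nat_lit 9) (Steps.fwd (nat_lit 8192) (Steps.fwd (nat_lit 16384) (Steps.fwd (nat_lit 4096) Steps.nil)))))) (nat_lit 20) (nat_lit 3),
  Rule.mk (nat_lit 0) (nat_lit 103) (Steps.bwd (nat_lit 6) (Steps.fwd (nat_lit 8192) (Steps.fwd (nat_lit 32768) (Steps.fwd (nat_lit 8192) (Steps.bwd (nat_lit 4) (Steps.fwd (nat_lit 36864) Steps.nil)))))) (nat_lit 22) (nat_lit 4),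
  Rule.mk (nat_lit 0) (nat_lit 103) (Steps.bwd (nat_lit 5) (Steps.fwd (nat_lit 36864) (Steps.fwd (nat_lit 20480) (Steps.fwd (nat_lit 53248) (Steps.bwd (nat_lit 11) (Steps.fwd (nat_lit 57344) Steps.nil)))))) (nat_lit 25) (nat_lit 4)]
noncomputable def R_14 : List (Rule) := [Rule.mk (nat_lit 6) (nat_lit 73) (Steps.bwd (nat_lit 12) (Steps.bwd (nat_lit 6) (Steps.fwd (nat_lit 45056) (Steps.fwd (nat_lit 40960) Steps.nil)))) (nat_lit 19) (nat_lit 2),
  Rule.mk (nat_lit 13) (nat_lit 133) (Steps.fwd (nat_lit 45056) (Steps.bwd (nat_lit 4) (Steps.bwd (nat_lit 7) (Steps.bwd (nat_lit 4) (Steps.fwd (nat_lit 32768) (Steps.bwd (nat_lit 9) (Steps.fwd (nat_lit 20480) (Steps.bwd (nat_lit 11) Steps.nil)))))))) (nat_lit 44) (nat_lit 8),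
  Rule.mk (nat_lit 10) (nat_lit 88) (Steps.bwd (nat_lit 11) (Steps.bwd (nat_lit 14) (Steps.bwd (nat_lit 11) (Steps.bwd (nat_lit 13) (Steps.fwd (nat_lit 45056) Steps.nil))))) (nat_lit 27) (nat_lit 4),
  Rule.mk (nat_lit 12) (nat_lit 88) (Steps.bwd (nat_lit 10) (Steps.bwd (nat_lit 11) (Steps.fwd (nat_lit 53248) (Steps.bwd (nat_lit 11) (Steps.fwd (nat_lit 57344) Steps.nil))))) (nat_lit 27) (nat_lit 3),
  Rule.mk (nat_lit 12) (nat_lit 73) (Steps.bwd (nat_lit 6) (Steps.bwd (nat_lit 12) (Steps.fwd (nat_lit 40960) (Steps.fwd (nat_lit 20480) Steps.nil)))) (nat_lit 19) (nat_lit 3),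
  Rule.mk (nat_lit 0) (nat_lit 148) (Steps.fwd (nat_lit 28672) (Steps.fwd (nat_lit 16384) (Steps.bwd (nat_lit 8) (Steps.fwd (nat_lit 16384) (Steps.fwd (nat_lit 49152) (Steps.bwd (nat_lit 14) (Steps.fwd (nat_lit 45056) (Steps.bwd (nat_lit 5) (Steps.fwd (nat_lit 36864) Steps.nil))))))))) (nat_lit 45) (nat_lit 5),
  Rule.mk (nat_lit 12) (nat_lit 73) (Steps.bwd (nat_lit 9) (Steps.bwd (nat_lit 6) (Steps.fwd (nat_lit 45056) (Steps.fwd (nat_lit 20480) Steps.nil)))) (nat_lit 19) (nat_lit 0),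
  Rule.mk (nat_lit 0) (nat_lit 118) (Steps.bwd (nat_lit 3) (Steps.bwd (nat_lit 2) (Steps.bwd (nat_lit 8) (Steps.bwd (nat_lit 3) (Steps.fwd (nat_lit 8192) (Steps.bwd (nat_lit 1) (Steps.bwd (nat_lit 1) Steps.nil))))))) (nat_lit 29) (nat_lit 6),
  Rule.mk (nat_lit 0) (nat_lit 88) (Steps.fwd (nat_lit 53248) (Steps.bwd (nat_lit 4) (Steps.fwd (nat_lit 28672) (Steps.fwd (nat_lit 49152) (Steps.bwd (nat_lit 6) Steps.nil))))) (nat_lit 16) (nat_lit 4),
  Rule.mk (nat_lit 0) (nat_lit 103) (Steps.bwd (nat_lit 6) (Steps.bwd (nat_lit 14) (Steps.bwd (nat_lit 12) (Steps.fwd (nat_lit 57344) (Steps.fwd (nat_lit 24576) (Steps.fwd (nat_lit 40960) Steps.nil)))))) (nat_lit 24) (nat_lit 1),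
  Rule.mk (nat_lit 2) (nat_lit 103) (Steps.fwd (nat_lit 4096) (Steps.bwd (nat_lit 2) (Steps.bwd (nat_lit 4) (Steps.bwd (nat_lit 7) (Steps.bwd (nat_lit 1) (Steps.fwd (nat_lit 12288) Steps.nil)))))) (nat_lit 28) (nat_lit 2),
  Rule.mk (nat_lit 0) (nat_lit 88) (Steps.bwd (nat_lit 2) (Steps.fwd (nat_lit 20480) (Steps.fwd (nat_lit 12288) (Steps.bwd (nat_lit 7) (Steps.fwd (nat_lit 4096) Steps.nil))))) (nat_lit 14) (nat_lit 3),
  Rule.mk (nat_lit 10) (nat_lit 88) (Steps.bwd (nat_lit 7) (Steps.bwd (nat_lit 9) (Steps.bwd (nat_lit 1) (Steps.bwd (nat_lit 4) (Steps.fwd (nat_lit 4096) Steps.nil))))) (nat_lit 21) (nat_lit 1),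
  Rule.mk (nat_lit 1) (nat_lit 88) (Steps.bwd (nat_lit 3) (Steps.fwd (nat_lit 4096) (Steps.bwd (nat_lit 10) (Steps.fwd (nat_lit 28672) (Steps.bwd (nat_lit 9) Steps.nil))))) (nat_lit 20) (nat_lit 1),
  Rule.mk (nat_lit 13) (nat_lit 118) (Steps.bwd (nat_lit 10) (Steps.bwd (nat_lit 7) (Steps.bwd (nat_lit 9) (Steps.fwd (nat_lit 57344) (Steps.fwd (nat_lit 36864) (Steps.fwd (nat_lit 32768) (Steps.fwd (nat_lit 40960) Steps.nil))))))) (nat_lit 38) (nat_lit 1),
  Rule.mk (nat_lit 6) (nat_lit 88) (Steps.bwd (nat_lit 1) (Steps.fwd (nat_lit 32768) (Steps.bwd (nat_lit 1) (Steps.bwd (nat_lit 4) (Steps.bwd (nat_lit 10) Steps.nil))))) (nat_lit 22) (nat_lit 5),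
  Rule.mk (nat_lit 7) (nat_lit 73) (Steps.bwd (nat_lit 2) (Steps.fwd (nat_lit 4096) (Steps.fwd (nat_lit 20480) (Steps.fwd (nat_lit 12288) Steps.nil)))) (nat_lit 14) (nat_lit 2),
  Rule.mk (nat_lit 0) (nat_lit 118) (Steps.fwd (nat_lit 28672) (Steps.bwd (nat_lit 3) (Steps.bwd (nat_lit 1) (Steps.fwd (nat_lit 8192) (Steps.bwd (nat_lit 1) (Steps.bwd (nat_lit 3) (Steps.bwd (nat_lit 2) Steps.nil))))))) (nat_lit 29) (nat_lit 1),
  Rule.mk (nat_lit 0) (nat_lit 103) (Steps.bwd (nat_lit 3) (Steps.bwd (nat_lit 2) (Steps.bwd (nat_lit 10) (Steps.bwd (nat_lit 8) (Steps.bwd (nat_lit 9) (Steps.fwd (nat_lit 8192) Steps.nil)))))) (nat_lit 20) (nat_lit 1),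
  Rule.mk (nat_lit 4) (nat_lit 88) (Steps.bwd (nat_lit 2) (Steps.bwd (nat_lit 10) (Steps.fwd (nat_lit 32768) (Steps.bwd (nat_lit 9) (Steps.fwd (nat_lit 8192) Steps.nil))))) (nat_lit 21) (nat_lit 5),
  Rule.mk (nat_lit 4) (nat_lit 103) (Steps.fwd (nat_lit 32768) (Steps.fwd (nat_lit 8192) (Steps.bwd (nat_lit 4) (Steps.bwd (nat_lit 2) (Steps.fwd (nat_lit 4096) (Steps.fwd (nat_lit 4096) Steps.nil)))))) (nat_lit 28) (nat_lit 5),
  Rule.mk (nat_lit 3) (nat_lit 103) (Steps.bwd (nat_lit 1) (Steps.bwd (nat_lit 1) (Steps.fwd (nat_lit 8192) (Steps.fwd (nat_lit 16384) (Steps.bwd (nat_lit 2) (Steps.bwd (nat_lit 8) Steps.nil)))))) (nat_lit 29) (nat_lit 3),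
  Rule.mk (nat_lit 0) (nat_lit 88) (Steps.bwd (nat_lit 1) (Steps.bwd (nat_lit 1) (Steps.bwd (nat_lit 8) (Steps.bwd (nat_lit 3) (Steps.fwd (nat_lit 24576) Steps.nil))))) (nat_lit 15) (nat_lit 1),
  Rule.mk (nat_lit 13) (nat_lit 58) (Steps.bwd (nat_lit 3) (Steps.bwd (nat_lit 6) (Steps.fwd (nat_lit 12288) Steps.nil))) (nat_lit 13) (nat_lit 1),
  Rule.mk (nat_lit 3) (nat_lit 73) (Steps.fwd (nat_lit 57344) (Steps.bwd (nat_lit 5) (Steps.bwd (nat_lit 12) (Steps.fwd (nat_lit 32768) Steps.nil)))) (nat_lit 17) (nat_lit 0),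
  Rule.mk (nat_lit 5) (nat_lit 73) (Steps.fwd (nat_lit 8192) (Steps.bwd (nat_lit 1) (Steps.fwd (nat_lit 28672) (Steps.bwd (nat_lit 3) Steps.nil)))) (nat_lit 15) (nat_lit 1),
  Rule.mk (nat_lit 0) (nat_lit 88) (Steps.fwd (nat_lit 16384) (Steps.bwd (nat_lit 5) (Steps.bwd (nat_lit 1) (Steps.bwd (nat_lit 1) (Steps.fwd (nat_lit 28672) Steps.nil))))) (nat_lit 15) (nat_lit 4),
  Rule.mk (nat_lit 11) (nat_lit 88) (Steps.bwd (nat_lit 14) (Steps.fwd (nat_lit 45056) (Steps.fwd (nat_lit 57344) (Steps.fwd (nat_lit 45056) (Steps.bwd (nat_lit 9) Steps.nil))))) (nat_lit 26) (nat_lit 4),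
  Rule.mk (nat_lit 13) (nat_lit 118) (Steps.fwd (nat_lit 32768) (Steps.bwd (nat_lit 9) (Steps.bwd (nat_lit 11) (Steps.bwd (nat_lit 13) (Steps.fwd (nat_lit 32768) (Steps.bwd (nat_lit 9) (Steps.fwd (nat_lit 49152) Steps.nil))))))) (nat_lit 41) (nat_lit 3),
  Rule.mk (nat_lit 0) (nat_lit 163) (Steps.bwd (nat_lit 1) (Steps.fwd (nat_lit 12288) (Steps.fwd (nat_lit 53248) (Steps.fwd (nat_lit 45056) (Steps.bwd (nat_lit 6) (Steps.fwd (nat_lit 49152) (Steps.fwd (nat_lit 57344) (Steps.fwd (nat_lit 24576) (Steps.bwd (nat_lit 3) (Steps.fwd (nat_lit 8192) Steps.nil)))))))))) (nat_lit 53) (nat_lit 8),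
  Rule.mk (nat_lit 7) (nat_lit 103) (Steps.bwd (nat_lit 1) (Steps.bwd (nat_lit 4) (Steps.bwd (nat_lit 2) (Steps.bwd (nat_lit 2) (Steps.bwd (nat_lit 2) (Steps.fwd (nat_lit 12288) Steps.nil)))))) (nat_lit 28) (nat_lit 6),
  Rule.mk (nat_lit 8) (nat_lit 88) (Steps.bwd (nat_lit 2) (Steps.fwd (nat_lit 24576) (Steps.fwd (nat_lit 40960) (Steps.bwd (nat_lit 3) (Steps.fwd (nat_lit 4096) Steps.nil))))) (nat_lit 23) (nat_lit 0),
  Rule.mk (nat_lit 3) (nat_lit 103) (Steps.bwd (nat_lit 1) (Steps.bwd (nat_lit 1) (Steps.bwd (nat_lit 1) (Steps.bwd (nat_lit 3) (Steps.fwd (nat_lit 4096) (Steps.bwd (nat_lit 8) Steps.nil)))))) (nat_lit 29) (nat_lit 3),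
  Rule.mk (nat_lit 5) (nat_lit 73) (Steps.bwd (nat_lit 1) (Steps.bwd (nat_lit 1) (Steps.bwd (nat_lit 8) (Steps.fwd (nat_lit 16384) Steps.nil)))) (nat_lit 15) (nat_lit 1),
  Rule.mk (nat_lit 0) (nat_lit 118) (Steps.fwd (nat_lit 16384) (Steps.bwd (nat_lit 2) (Steps.fwd (nat_lit 28672) (Steps.bwd (nat_lit 3) (Steps.fwd (nat_lit 8192) (Steps.fwd (nat_lit 8192) (Steps.fwd (nat_lit 8192) Steps.nil))))))) (nat_lit 29) (nat_lit 6),
  Rule.mk (nat_lit 7) (nat_lit 118) (Steps.bwd (nat_lit 9) (Steps.bwd (nat_lit 2) (Steps.bwd (nat_lit 6) (Steps.bwd (nat_lit 1) (Steps.fwd (nat_lit 28672) (Steps.bwd (nat_lit 1) (Steps.bwd (nat_lit 1) Steps.nil))))))) (nat_lit 43) (nat_lit 5),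
  Rule.mk (nat_lit 0) (nat_lit 58) (Steps.bwd (nat_lit 13) (Steps.fwd (nat_lit 57344) (Steps.bwd (nat_lit 13) Steps.nil))) (nat_lit 10) (nat_lit 0),
  Rule.mk (nat_lit 7) (nat_lit 73) (Steps.bwd (nat_lit 3) (Steps.fwd (nat_lit 57344) (Steps.fwd (nat_lit 24576) (Steps.fwd (nat_lit 45056) Steps.nil)))) (nat_lit 17) (nat_lit 4),
  Rule.mk (nat_lit 9) (nat_lit 133) (Steps.fwd (nat_lit 20480) (Steps.bwd (nat_lit 11) (Steps.fwd (nat_lit 57344) (Steps.fwd (nat_lit 45056) (Steps.fwd (nat_lit 12288) (Steps.bwd (nat_lit 7) (Steps.fwd (nat_lit 12288) (Steps.bwd (nat_lit 7) Steps.nil)))))))) (nat_lit 44) (nat_lit 5),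
  Rule.mk (nat_lit 5) (nat_lit 88) (Steps.bwd (nat_lit 9) (Steps.fwd (nat_lit 20480) (Steps.fwd (nat_lit 53248) (Steps.fwd (nat_lit 45056) (Steps.bwd (nat_lit 13) Steps.nil))))) (nat_lit 24) (nat_lit 0),
  Rule.mk (nat_lit 7) (nat_lit 118) (Steps.fwd (nat_lit 40960) (Steps.fwd (nat_lit 49152) (Steps.fwd (nat_lit 57344) (Steps.bwd (nat_lit 7) (Steps.bwd (nat_lit 9) (Steps.fwd (nat_lit 49152) (Steps.fwd (nat_lit 57344) Steps.nil))))))) (nat_lit 41) (nat_lit 0),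
  Rule.mk (nat_lit 10) (nat_lit 88) (Steps.bwd (nat_lit 7) (Steps.fwd (nat_lit 40960) (Steps.fwd (nat_lit 8192) (Steps.fwd (nat_lit 12288) (Steps.fwd (nat_lit 4096) Steps.nil))))) (nat_lit 21) (nat_lit 1),
  Rule.mk (nat_lit 6) (nat_lit 88) (Steps.bwd (nat_lit 1) (Steps.fwd (nat_lit 32768) (Steps.fwd (nat_lit 8192) (Steps.fwd (nat_lit 12288) (Steps.bwd (nat_lit 10) Steps.nil))))) (nat_lit 22) (nat_lit 5),
  Rule.mk (nat_lit 2) (nat_lit 88) (Steps.bwd (nat_lit 5) (Steps.bwd (nat_lit 9) (Steps.bwd (nat_lit 3) (Steps.fwd (nat_lit 4096) (Steps.fwd (nat_lit 28672) Steps.nil))))) (nat_lit 23) (nat_lit 1),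
  Rule.mk (nat_lit 0) (nat_lit 58) (Steps.bwd (nat_lit 6) (Steps.fwd (nat_lit 20480) (Steps.bwd (nat_lit 6) Steps.nil))) (nat_lit 3) (nat_lit 0),
  Rule.mk (nat_lit 0) (nat_lit 58) (Steps.fwd (nat_lit 32768) (Steps.bwd (nat_lit 0) (Steps.fwd (nat_lit 28672) Steps.nil))) (nat_lit 56) (nat_lit 0),
  Rule.mk (nat_lit 7) (nat_lit 118) (Steps.fwd (nat_lit 40960) (Steps.bwd (nat_lit 11) (Steps.bwd (nat_lit 13) (Steps.fwd (nat_lit 32768) (Steps.fwd (nat_lit 40960) (Steps.bwd (nat_lit 11) (Steps.bwd (nat_lit 13) Steps.nil))))))) (nat_lit 41) (nat_lit 0),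
  Rule.mk (nat_lit 0) (nat_lit 148) (Steps.bwd (nat_lit 4) (Steps.bwd (nat_lit 7) (Steps.bwd (nat_lit 4) (Steps.fwd (nat_lit 32768) (Steps.fwd (nat_lit 40960) (Steps.bwd (nat_lit 6) (Steps.bwd (nat_lit 11) (Steps.fwd (nat_lit 57344) (Steps.fwd (nat_lit 45056) Steps.nil))))))))) (nat_lit 44) (nat_lit 0),
  Rule.mk (nat_lit 7) (nat_lit 103) (Steps.fwd (nat_lit 8192) (Steps.fwd (nat_lit 12288) (Steps.fwd (nat_lit 4096) (Steps.fwd (nat_lit 4096) (Steps.bwd (nat_lit 2) (Steps.fwd (nat_lit 12288) Steps.nil)))))) (nat_lit 28) (nat_lit 6),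
  Rule.mk (nat_lit 2) (nat_lit 73) (Steps.bwd (nat_lit 6) (Steps.fwd (nat_lit 12288) (Steps.bwd (nat_lit 7) (Steps.bwd (nat_lit 2) Steps.nil)))) (nat_lit 14) (nat_lit 4),
  Rule.mk (nat_lit 0) (nat_lit 103) (Steps.bwd (nat_lit 2) (Steps.fwd (nat_lit 24576) (Steps.fwd (nat_lit 40960) (Steps.fwd (nat_lit 16384) (Steps.bwd (nat_lit 2) (Steps.fwd (nat_lit 28672) Steps.nil)))))) (nat_lit 23) (nat_lit 0),
  Rule.mk (nat_lit 7) (nat_lit 118) (Steps.fwd (nat_lit 40960) (Steps.bwd (nat_lit 14) (Steps.fwd (nat_lit 45056) (Steps.bwd (nat_lit 5) (Steps.bwd (nat_lit 3) (Steps.bwd (nat_lit 2) (Steps.fwd (nat_lit 4096) Steps.nil))))))) (nat_lit 33) (nat_lit 1),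
  Rule.mk (nat_lit 0) (nat_lit 103) (Steps.bwd (nat_lit 1) (Steps.fwd (nat_lit 12288) (Steps.bwd (nat_lit 2) (Steps.fwd (nat_lit 36864) (Steps.bwd (nat_lit 7) (Steps.fwd (nat_lit 40960) Steps.nil)))))) (nat_lit 21) (nat_lit 3),
  Rule.mk (nat_lit 4) (nat_lit 73) (Steps.bwd (nat_lit 8) (Steps.fwd (nat_lit 49152) (Steps.fwd (nat_lit 20480) (Steps.fwd (nat_lit 53248) Steps.nil)))) (nat_lit 16) (nat_lit 1),
  Rule.mk (nat_lit 0) (nat_lit 148) (Steps.fwd (nat_lit 49152) (Steps.fwd (nat_lit 53248) (Steps.fwd (nat_lit 45056) (Steps.fwd (nat_lit 24576) (Steps.fwd (nat_lit 36864) (Steps.fwd (nat_lit 28672) (Steps.bwd (nat_lit 3) (Steps.bwd (nat_lit 8) (Steps.fwd (nat_lit 16384) Steps.nil))))))))) (nat_lit 45) (nat_lit 0),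
  Rule.mk (nat_lit 14) (nat_lit 118) (Steps.bwd (nat_lit 12) (Steps.bwd (nat_lit 10) (Steps.fwd (nat_lit 28672) (Steps.fwd (nat_lit 53248) (Steps.bwd (nat_lit 12) (Steps.bwd (nat_lit 10) (Steps.fwd (nat_lit 28672) Steps.nil))))))) (nat_lit 40) (nat_lit 2),
  Rule.mk (nat_lit 3) (nat_lit 58) (Steps.fwd (nat_lit 24576) (Steps.fwd (nat_lit 12288) (Steps.bwd (nat_lit 14) Steps.nil))) (nat_lit 12) (nat_lit 1),
  Rule.mk (nat_lit 0) (nat_lit 103) (Steps.fwd (nat_lit 8192) (Steps.fwd (nat_lit 12288) (Steps.bwd (nat_lit 2) (Steps.bwd (nat_lit 10) (Steps.fwd (nat_lit 32768) (Steps.bwd (nat_lit 9) Steps.nil)))))) (nat_lit 21) (nat_lit 3),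
  Rule.mk (nat_lit 4) (nat_lit 73) (Steps.bwd (nat_lit 8) (Steps.fwd (nat_lit 49152) (Steps.bwd (nat_lit 6) (Steps.bwd (nat_lit 14) Steps.nil)))) (nat_lit 16) (nat_lit 1),
  Rule.mk (nat_lit 9) (nat_lit 88) (Steps.fwd (nat_lit 16384) (Steps.bwd (nat_lit 2) (Steps.fwd (nat_lit 28672) (Steps.bwd (nat_lit 2) (Steps.fwd (nat_lit 24576) Steps.nil))))) (nat_lit 23) (nat_lit 3),
  Rule.mk (nat_lit 0) (nat_lit 163) (Steps.bwd (nat_lit 7) (Steps.fwd (nat_lit 40960) (Steps.bwd (nat_lit 8) (Steps.fwd (nat_lit 8192) (Steps.bwd (nat_lit 1) (Steps.fwd (nat_lit 8192) (Steps.fwd (nat_lit 12288) (Steps.bwd (nat_lit 5) (Steps.bwd (nat_lit 3) (Steps.bwd (nat_lit 2) Steps.nil)))))))))) (nat_lit 46) (nat_lit 8),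
  Rule.mk (nat_lit 0) (nat_lit 133) (Steps.bwd (nat_lit 14) (Steps.fwd (nat_lit 45056) (Steps.fwd (nat_lit 24576) (Steps.bwd (nat_lit 3) (Steps.bwd (nat_lit 2) (Steps.bwd (nat_lit 2) (Steps.bwd (nat_lit 7) (Steps.bwd (nat_lit 9) Steps.nil)))))))) (nat_lit 33) (nat_lit 2),
  Rule.mk (nat_lit 0) (nat_lit 133) (Steps.bwd (nat_lit 1) (Steps.bwd (nat_lit 1) (Steps.fwd (nat_lit 12288) (Steps.fwd (nat_lit 20480) (Steps.fwd (nat_lit 49152) (Steps.fwd (nat_lit 57344) (Steps.fwd (nat_lit 36864) (Steps.fwd (nat_lit 28672) Steps.nil)))))))) (nat_lit 32) (nat_lit 0),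
  Rule.mk (nat_lit 7) (nat_lit 73) (Steps.fwd (nat_lit 4096) (Steps.bwd (nat_lit 2) (Steps.fwd (nat_lit 20480) (Steps.bwd (nat_lit 4) Steps.nil)))) (nat_lit 14) (nat_lit 2)]
noncomputable def R_15 : List (Rule) := [Rule.mk (nat_lit 4) (nat_lit 103) (Steps.bwd (nat_lit 2) (Steps.fwd (nat_lit 4096) (Steps.bwd (nat_lit 2) (Steps.bwd (nat_lit 4) (Steps.bwd (nat_lit 7) (Steps.fwd (nat_lit 8192) Steps.nil)))))) (nat_lit 28) (nat_lit 1),
  Rule.mk (nat_lit 2) (nat_lit 103) (Steps.bwd (nat_lit 4) (Steps.bwd (nat_lit 7) (Steps.fwd (nat_lit 8192) (Steps.fwd (nat_lit 12288) (Steps.fwd (nat_lit 4096) (Steps.fwd (nat_lit 4096) Steps.nil)))))) (nat_lit 28) (nat_lit 4),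
  Rule.mk (nat_lit 9) (nat_lit 88) (Steps.fwd (nat_lit 16384) (Steps.fwd (nat_lit 4096) (Steps.fwd (nat_lit 28672) (Steps.bwd (nat_lit 2) (Steps.bwd (nat_lit 5) Steps.nil))))) (nat_lit 23) (nat_lit 3),
  Rule.mk (nat_lit 9) (nat_lit 118) (Steps.bwd (nat_lit 14) (Steps.bwd (nat_lit 12) (Steps.bwd (nat_lit 5) (Steps.bwd (nat_lit 3) (Steps.fwd (nat_lit 4096) (Steps.bwd (nat_lit 2) (Steps.fwd (nat_lit 32768) Steps.nil))))))) (nat_lit 33) (nat_lit 2),
  Rule.mk (nat_lit 2) (nat_lit 148) (Steps.fwd (nat_lit 32768) (Steps.bwd (nat_lit 10) (Steps.bwd (nat_lit 8) (Steps.bwd (nat_lit 1) (Steps.fwd (nat_lit 12288) (Steps.fwd (nat_lit 20480) (Steps.bwd (nat_lit 3) (Steps.fwd (nat_lit 4096) (Steps.bwd (nat_lit 2) Steps.nil))))))))) (nat_lit 47) (nat_lit 9),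
  Rule.mk (nat_lit 0) (nat_lit 163) (Steps.bwd (nat_lit 14) (Steps.bwd (nat_lit 12) (Steps.bwd (nat_lit 5) (Steps.fwd (nat_lit 49152) (Steps.fwd (nat_lit 57344) (Steps.bwd (nat_lit 3) (Steps.fwd (nat_lit 4096) (Steps.bwd (nat_lit 2) (Steps.bwd (nat_lit 4) (Steps.fwd (nat_lit 20480) Steps.nil)))))))))) (nat_lit 52) (nat_lit 5),
  Rule.mk (nat_lit 9) (nat_lit 88) (Steps.bwd (nat_lit 6) (Steps.fwd (nat_lit 53248) (Steps.bwd (nat_lit 12) (Steps.bwd (nat_lit 13) (Steps.bwd (nat_lit 5) Steps.nil))))) (nat_lit 24) (nat_lit 1),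
  Rule.mk (nat_lit 0) (nat_lit 103) (Steps.bwd (nat_lit 9) (Steps.fwd (nat_lit 20480) (Steps.fwd (nat_lit 53248) (Steps.bwd (nat_lit 12) (Steps.bwd (nat_lit 13) (Steps.bwd (nat_lit 5) Steps.nil)))))) (nat_lit 24) (nat_lit 0),
  Rule.mk (nat_lit 0) (nat_lit 133) (Steps.fwd (nat_lit 53248) (Steps.bwd (nat_lit 12) (Steps.bwd (nat_lit 5) (Steps.fwd (nat_lit 16384) (Steps.bwd (nat_lit 2) (Steps.fwd (nat_lit 4096) (Steps.fwd (nat_lit 32768) (Steps.bwd (nat_lit 9) Steps.nil)))))))) (nat_lit 33) (nat_lit 2),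
  Rule.mk (nat_lit 6) (nat_lit 103) (Steps.bwd (nat_lit 8) (Steps.bwd (nat_lit 10) (Steps.bwd (nat_lit 4) (Steps.fwd (nat_lit 8192) (Steps.bwd (nat_lit 12) (Steps.fwd (nat_lit 53248) Steps.nil)))))) (nat_lit 31) (nat_lit 2),
  Rule.mk (nat_lit 1) (nat_lit 118) (Steps.bwd (nat_lit 10) (Steps.bwd (nat_lit 8) (Steps.bwd (nat_lit 2) (Steps.fwd (nat_lit 4096) (Steps.bwd (nat_lit 7) (Steps.bwd (nat_lit 2) (Steps.bwd (nat_lit 5) Steps.nil))))))) (nat_lit 42) (nat_lit 2),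
  Rule.mk (nat_lit 1) (nat_lit 103) (Steps.bwd (nat_lit 1) (Steps.fwd (nat_lit 16384) (Steps.fwd (nat_lit 4096) (Steps.bwd (nat_lit 8) (Steps.bwd (nat_lit 3) (Steps.bwd (nat_lit 1) Steps.nil)))))) (nat_lit 29) (nat_lit 5),
  Rule.mk (nat_lit 0) (nat_lit 103) (Steps.bwd (nat_lit 2) (Steps.bwd (nat_lit 10) (Steps.bwd (nat_lit 8) (Steps.fwd (nat_lit 40960) (Steps.bwd (nat_lit 1) (Steps.fwd (nat_lit 16384) Steps.nil)))))) (nat_lit 20) (nat_lit 2),
  Rule.mk (nat_lit 3) (nat_lit 103) (Steps.bwd (nat_lit 2) (Steps.fwd (nat_lit 28672) (Steps.fwd (nat_lit 16384) (Steps.fwd (nat_lit 8192) (Steps.fwd (nat_lit 8192) (Steps.fwd (nat_lit 8192) Steps.nil)))))) (nat_lit 29) (nat_lit 0),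
  Rule.mk (nat_lit 9) (nat_lit 88) (Steps.fwd (nat_lit 8192) (Steps.bwd (nat_lit 3) (Steps.bwd (nat_lit 2) (Steps.fwd (nat_lit 36864) (Steps.bwd (nat_lit 8) Steps.nil))))) (nat_lit 20) (nat_lit 0),
  Rule.mk (nat_lit 14) (nat_lit 118) (Steps.bwd (nat_lit 10) (Steps.fwd (nat_lit 28672) (Steps.fwd (nat_lit 40960) (Steps.bwd (nat_lit 14) (Steps.fwd (nat_lit 36864) (Steps.bwd (nat_lit 8) (Steps.bwd (nat_lit 9) Steps.nil))))))) (nat_lit 39) (nat_lit 0),
  Rule.mk (nat_lit 7) (nat_lit 118) (Steps.bwd (nat_lit 9) (Steps.bwd (nat_lit 2) (Steps.fwd (nat_lit 20480) (Steps.fwd (nat_lit 8192) (Steps.fwd (nat_lit 28672) (Steps.bwd (nat_lit 1) (Steps.bwd (nat_lit 1) Steps.nil))))))) (nat_lit 43) (nat_lit 5),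
  Rule.mk (nat_lit 10) (nat_lit 88) (Steps.bwd (nat_lit 7) (Steps.bwd (nat_lit 9) (Steps.fwd (nat_lit 8192) (Steps.fwd (nat_lit 12288) (Steps.fwd (nat_lit 4096) Steps.nil))))) (nat_lit 21) (nat_lit 1),
  Rule.mk (nat_lit 9) (nat_lit 118) (Steps.fwd (nat_lit 53248) (Steps.bwd (nat_lit 10) (Steps.fwd (nat_lit 28672) (Steps.bwd (nat_lit 9) (Steps.bwd (nat_lit 14) (Steps.fwd (nat_lit 36864) (Steps.fwd (nat_lit 28672) Steps.nil))))))) (nat_lit 39) (nat_lit 3),
  Rule.mk (nat_lit 7) (nat_lit 118) (Steps.fwd (nat_lit 4096) (Steps.bwd (nat_lit 5) (Steps.bwd (nat_lit 1) (Steps.bwd (nat_lit 10) (Steps.fwd (nat_lit 28672) (Steps.bwd (nat_lit 2) (Steps.bwd (nat_lit 2) Steps.nil))))))) (nat_lit 42) (nat_lit 7),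
  Rule.mk (nat_lit 0) (nat_lit 88) (Steps.bwd (nat_lit 5) (Steps.bwd (nat_lit 1) (Steps.bwd (nat_lit 1) (Steps.fwd (nat_lit 28672) (Steps.fwd (nat_lit 16384) Steps.nil))))) (nat_lit 15) (nat_lit 0),
  Rule.mk (nat_lit 4) (nat_lit 103) (Steps.fwd (nat_lit 4096) (Steps.fwd (nat_lit 4096) (Steps.fwd (nat_lit 4096) (Steps.bwd (nat_lit 4) (Steps.bwd (nat_lit 7) (Steps.fwd (nat_lit 8192) Steps.nil)))))) (nat_lit 28) (nat_lit 1),
  Rule.mk (nat_lit 0) (nat_lit 73) (Steps.bwd (nat_lit 13) (Steps.fwd (nat_lit 16384) (Steps.bwd (nat_lit 6) (Steps.bwd (nat_lit 4) Steps.nil)))) (nat_lit 13) (nat_lit 0),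
  Rule.mk (nat_lit 11) (nat_lit 73) (Steps.bwd (nat_lit 6) (Steps.bwd (nat_lit 14) (Steps.bwd (nat_lit 4) (Steps.bwd (nat_lit 8) Steps.nil)))) (nat_lit 16) (nat_lit 3),
  Rule.mk (nat_lit 12) (nat_lit 88) (Steps.bwd (nat_lit 10) (Steps.bwd (nat_lit 11) (Steps.fwd (nat_lit 53248) (Steps.bwd (nat_lit 11) (Steps.bwd (nat_lit 13) Steps.nil))))) (nat_lit 27) (nat_lit 3),
  Rule.mk (nat_lit 5) (nat_lit 118) (Steps.fwd (nat_lit 16384) (Steps.bwd (nat_lit 6) (Steps.bwd (nat_lit 11) (Steps.fwd (nat_lit 24576) (Steps.bwd (nat_lit 3) (Steps.bwd (nat_lit 6) (Steps.fwd (nat_lit 49152) Steps.nil))))))) (nat_lit 34) (nat_lit 0),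
  Rule.mk (nat_lit 3) (nat_lit 73) (Steps.bwd (nat_lit 5) (Steps.fwd (nat_lit 8192) (Steps.fwd (nat_lit 8192) (Steps.fwd (nat_lit 28672) Steps.nil)))) (nat_lit 15) (nat_lit 0),
  Rule.mk (nat_lit 10) (nat_lit 73) (Steps.bwd (nat_lit 11) (Steps.fwd (nat_lit 24576) (Steps.fwd (nat_lit 49152) (Steps.bwd (nat_lit 5) Steps.nil)))) (nat_lit 18) (nat_lit 0),
  Rule.mk (nat_lit 0) (nat_lit 58) (Steps.fwd (nat_lit 40960) (Steps.fwd (nat_lit 40960) (Steps.bwd (nat_lit 9) Steps.nil))) (nat_lit 6) (nat_lit 0),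
  Rule.mk (nat_lit 0) (nat_lit 118) (Steps.bwd (nat_lit 8) (Steps.fwd (nat_lit 36864) (Steps.fwd (nat_lit 12288) (Steps.fwd (nat_lit 8192) (Steps.bwd (nat_lit 12) (Steps.bwd (nat_lit 14) (Steps.bwd (nat_lit 6) Steps.nil))))))) (nat_lit 31) (nat_lit 2),
  Rule.mk (nat_lit 5) (nat_lit 118) (Steps.fwd (nat_lit 16384) (Steps.fwd (nat_lit 4096) (Steps.bwd (nat_lit 2) (Steps.fwd (nat_lit 32768) (Steps.fwd (nat_lit 40960) (Steps.bwd (nat_lit 14) (Steps.bwd (nat_lit 12) Steps.nil))))))) (nat_lit 33) (nat_lit 5),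
  Rule.mk (nat_lit 12) (nat_lit 118) (Steps.bwd (nat_lit 5) (Steps.fwd (nat_lit 12288) (Steps.bwd (nat_lit 6) (Steps.bwd (nat_lit 12) (Steps.bwd (nat_lit 5) (Steps.bwd (nat_lit 4) (Steps.bwd (nat_lit 6) Steps.nil))))))) (nat_lit 35) (nat_lit 2),
  Rule.mk (nat_lit 8) (nat_lit 133) (Steps.bwd (nat_lit 3) (Steps.bwd (nat_lit 11) (Steps.bwd (nat_lit 14) (Steps.bwd (nat_lit 12) (Steps.bwd (nat_lit 5) (Steps.bwd (nat_lit 10) (Steps.bwd (nat_lit 8) (Steps.bwd (nat_lit 3) Steps.nil)))))))) (nat_lit 45) (nat_lit 8),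
  Rule.mk (nat_lit 4) (nat_lit 148) (Steps.bwd (nat_lit 6) (Steps.bwd (nat_lit 14) (Steps.bwd (nat_lit 12) (Steps.bwd (nat_lit 5) (Steps.fwd (nat_lit 49152) (Steps.fwd (nat_lit 57344) (Steps.bwd (nat_lit 3) (Steps.fwd (nat_lit 4096) (Steps.bwd (nat_lit 2) Steps.nil))))))))) (nat_lit 52) (nat_lit 4),
  Rule.mk (nat_lit 2) (nat_lit 88) (Steps.fwd (nat_lit 36864) (Steps.bwd (nat_lit 7) (Steps.fwd (nat_lit 40960) (Steps.fwd (nat_lit 8192) (Steps.bwd (nat_lit 4) Steps.nil))))) (nat_lit 21) (nat_lit 0),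
  Rule.mk (nat_lit 0) (nat_lit 103) (Steps.fwd (nat_lit 4096) (Steps.fwd (nat_lit 36864) (Steps.bwd (nat_lit 7) (Steps.bwd (nat_lit 9) (Steps.fwd (nat_lit 8192) (Steps.bwd (nat_lit 4) Steps.nil)))))) (nat_lit 21) (nat_lit 5),
  Rule.mk (nat_lit 3) (nat_lit 103) (Steps.bwd (nat_lit 1) (Steps.fwd (nat_lit 8192) (Steps.bwd (nat_lit 1) (Steps.fwd (nat_lit 16384) (Steps.bwd (nat_lit 2) (Steps.bwd (nat_lit 8) Steps.nil)))))) (nat_lit 29) (nat_lit 3),
  Rule.mk (nat_lit 5) (nat_lit 73) (Steps.bwd (nat_lit 12) (Steps.bwd (nat_lit 7) (Steps.fwd (nat_lit 16384) (Steps.fwd (nat_lit 57344) Steps.nil)))) (nat_lit 17) (nat_lit 2),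
  Rule.mk (nat_lit 10) (nat_lit 73) (Steps.fwd (nat_lit 49152) (Steps.bwd (nat_lit 5) (Steps.bwd (nat_lit 11) (Steps.fwd (nat_lit 24576) Steps.nil)))) (nat_lit 18) (nat_lit 0),
  Rule.mk (nat_lit 7) (nat_lit 73) (Steps.fwd (nat_lit 16384) (Steps.fwd (nat_lit 57344) (Steps.bwd (nat_lit 5) (Steps.bwd (nat_lit 12) Steps.nil)))) (nat_lit 17) (nat_lit 4),
  Rule.mk (nat_lit 11) (nat_lit 73) (Steps.bwd (nat_lit 6) (Steps.fwd (nat_lit 53248) (Steps.bwd (nat_lit 4) (Steps.bwd (nat_lit 8) Steps.nil)))) (nat_lit 16) (nat_lit 3),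
  Rule.mk (nat_lit 6) (nat_lit 148) (Steps.fwd (nat_lit 16384) (Steps.fwd (nat_lit 4096) (Steps.fwd (nat_lit 4096) (Steps.bwd (nat_lit 2) (Steps.bwd (nat_lit 7) (Steps.bwd (nat_lit 10) (Steps.bwd (nat_lit 8) (Steps.fwd (nat_lit 8192) (Steps.bwd (nat_lit 4) Steps.nil))))))))) (nat_lit 47) (nat_lit 5),
  Rule.mk (nat_lit 0) (nat_lit 103) (Steps.bwd (nat_lit 9) (Steps.bwd (nat_lit 3) (Steps.bwd (nat_lit 2) (Steps.fwd (nat_lit 28672) (Steps.fwd (nat_lit 4096) (Steps.bwd (nat_lit 5) Steps.nil)))))) (nat_lit 23) (nat_lit 2),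
  Rule.mk (nat_lit 0) (nat_lit 118) (Steps.bwd (nat_lit 1) (Steps.bwd (nat_lit 4) (Steps.bwd (nat_lit 2) (Steps.fwd (nat_lit 4096) (Steps.fwd (nat_lit 4096) (Steps.bwd (nat_lit 4) (Steps.bwd (nat_lit 7) Steps.nil))))))) (nat_lit 28) (nat_lit 6),
  Rule.mk (nat_lit 7) (nat_lit 88) (Steps.bwd (nat_lit 9) (Steps.bwd (nat_lit 1) (Steps.bwd (nat_lit 4) (Steps.fwd (nat_lit 4096) (Steps.fwd (nat_lit 36864) Steps.nil))))) (nat_lit 21) (nat_lit 2),
  Rule.mk (nat_lit 0) (nat_lit 103) (Steps.fwd (nat_lit 20480) (Steps.bwd (nat_lit 1) (Steps.bwd (nat_lit 7) (Steps.fwd (nat_lit 8192) (Steps.bwd (nat_lit 4) (Steps.bwd (nat_lit 10) Steps.nil)))))) (nat_lit 22) (nat_lit 4),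
  Rule.mk (nat_lit 4) (nat_lit 88) (Steps.fwd (nat_lit 4096) (Steps.bwd (nat_lit 10) (Steps.bwd (nat_lit 7) (Steps.bwd (nat_lit 9) (Steps.bwd (nat_lit 1) Steps.nil))))) (nat_lit 21) (nat_lit 5),
  Rule.mk (nat_lit 7) (nat_lit 103) (Steps.bwd (nat_lit 1) (Steps.bwd (nat_lit 4) (Steps.fwd (nat_lit 4096) (Steps.fwd (nat_lit 4096) (Steps.fwd (nat_lit 4096) (Steps.fwd (nat_lit 12288) Steps.nil)))))) (nat_lit 28) (nat_lit 6),
  Rule.mk (nat_lit 6) (nat_lit 73) (Steps.fwd (nat_lit 12288) (Steps.bwd (nat_lit 7) (Steps.fwd (nat_lit 4096) (Steps.fwd (nat_lit 4096) Steps.nil)))) (nat_lit 14) (nat_lit 0),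
  Rule.mk (nat_lit 0) (nat_lit 103) (Steps.bwd (nat_lit 5) (Steps.bwd (nat_lit 9) (Steps.fwd (nat_lit 16384) (Steps.fwd (nat_lit 4096) (Steps.fwd (nat_lit 28672) (Steps.fwd (nat_lit 4096) Steps.nil)))))) (nat_lit 23) (nat_lit 1),
  Rule.mk (nat_lit 0) (nat_lit 88) (Steps.bwd (nat_lit 6) (Steps.bwd (nat_lit 4) (Steps.bwd (nat_lit 7) (Steps.fwd (nat_lit 4096) (Steps.bwd (nat_lit 2) Steps.nil))))) (nat_lit 14) (nat_lit 4),
  Rule.mk (nat_lit 14) (nat_lit 103) (Steps.fwd (nat_lit 20480) (Steps.bwd (nat_lit 8) (Steps.fwd (nat_lit 36864) (Steps.bwd (nat_lit 4) (Steps.fwd (nat_lit 8192) (Steps.fwd (nat_lit 45056) Steps.nil)))))) (nat_lit 31) (nat_lit 1),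
  Rule.mk (nat_lit 4) (nat_lit 58) (Steps.bwd (nat_lit 14) (Steps.fwd (nat_lit 16384) (Steps.fwd (nat_lit 24576) Steps.nil))) (nat_lit 12) (nat_lit 3),
  Rule.mk (nat_lit 7) (nat_lit 103) (Steps.bwd (nat_lit 1) (Steps.bwd (nat_lit 4) (Steps.fwd (nat_lit 4096) (Steps.fwd (nat_lit 4096) (Steps.fwd (nat_lit 4096) (Steps.bwd (nat_lit 4) Steps.nil)))))) (nat_lit 28) (nat_lit 6),
  Rule.mk (nat_lit 0) (nat_lit 133) (Steps.bwd (nat_lit 13) (Steps.bwd (nat_lit 10) (Steps.bwd (nat_lit 8) (Steps.fwd (nat_lit 8192) (Steps.bwd (nat_lit 1) (Steps.fwd (nat_lit 12288) (Steps.bwd (nat_lit 6) (Steps.fwd (nat_lit 49152) Steps.nil)))))))) (nat_lit 32) (nat_lit 5),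
  Rule.mk (nat_lit 0) (nat_lit 163) (Steps.bwd (nat_lit 5) (Steps.bwd (nat_lit 3) (Steps.bwd (nat_lit 2) (Steps.bwd (nat_lit 7) (Steps.bwd (nat_lit 9) (Steps.bwd (nat_lit 8) (Steps.fwd (nat_lit 8192) (Steps.bwd (nat_lit 1) (Steps.fwd (nat_lit 8192) (Steps.fwd (nat_lit 12288) Steps.nil)))))))))) (nat_lit 46) (nat_lit 5),
  Rule.mk (nat_lit 11) (nat_lit 118) (Steps.bwd (nat_lit 13) (Steps.fwd (nat_lit 32768) (Steps.bwd (nat_lit 9) (Steps.bwd (nat_lit 11) (Steps.bwd (nat_lit 13) (Steps.bwd (nat_lit 7) (Steps.fwd (nat_lit 40960) Steps.nil))))))) (nat_lit 41) (nat_lit 2),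
  Rule.mk (nat_lit 5) (nat_lit 73) (Steps.bwd (nat_lit 11) (Steps.fwd (nat_lit 24576) (Steps.bwd (nat_lit 10) (Steps.bwd (nat_lit 11) Steps.nil)))) (nat_lit 18) (nat_lit 2),
  Rule.mk (nat_lit 7) (nat_lit 103) (Steps.fwd (nat_lit 24576) (Steps.bwd (nat_lit 13) (Steps.bwd (nat_lit 11) (Steps.fwd (nat_lit 4096) (Steps.bwd (nat_lit 3) (Steps.fwd (nat_lit 40960) Steps.nil)))))) (nat_lit 30) (nat_lit 5),
  Rule.mk (nat_lit 0) (nat_lit 58) (Steps.fwd (nat_lit 57344) (Steps.bwd (nat_lit 13) (Steps.fwd (nat_lit 57344) Steps.nil))) (nat_lit 10) (nat_lit 0),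
  Rule.mk (nat_lit 9) (nat_lit 118) (Steps.bwd (nat_lit 14) (Steps.bwd (nat_lit 12) (Steps.fwd (nat_lit 24576) (Steps.bwd (nat_lit 3) (Steps.bwd (nat_lit 2) (Steps.bwd (nat_lit 2) (Steps.bwd (nat_lit 7) Steps.nil))))))) (nat_lit 33) (nat_lit 2),
  Rule.mk (nat_lit 8) (nat_lit 148) (Steps.fwd (nat_lit 8192) (Steps.fwd (nat_lit 8192) (Steps.fwd (nat_lit 8192) (Steps.bwd (nat_lit 4) (Steps.fwd (nat_lit 24576) (Steps.fwd (nat_lit 16384) (Steps.bwd (nat_lit 2) (Steps.bwd (nat_lit 7) (Steps.bwd (nat_lit 9) Steps.nil))))))))) (nat_lit 46) (nat_lit 1),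
  Rule.mk (nat_lit 9) (nat_lit 88) (Steps.bwd (nat_lit 1) (Steps.bwd (nat_lit 3) (Steps.fwd (nat_lit 4096) (Steps.fwd (nat_lit 36864) (Steps.bwd (nat_lit 8) Steps.nil))))) (nat_lit 20) (nat_lit 0),
  Rule.mk (nat_lit 0) (nat_lit 133) (Steps.bwd (nat_lit 8) (Steps.fwd (nat_lit 8192) (Steps.fwd (nat_lit 8192) (Steps.fwd (nat_lit 32768) (Steps.bwd (nat_lit 9) (Steps.bwd (nat_lit 2) (Steps.bwd (nat_lit 6) (Steps.fwd (nat_lit 8192) Steps.nil)))))))) (nat_lit 43) (nat_lit 1)]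
noncomputable def R_16 : List (Rule) := [Rule.mk (nat_lit 3) (nat_lit 88) (Steps.fwd (nat_lit 4096) (Steps.fwd (nat_lit 36864) (Steps.bwd (nat_lit 8) (Steps.bwd (nat_lit 9) (Steps.fwd (nat_lit 8192) Steps.nil))))) (nat_lit 20) (nat_lit 2),
  Rule.mk (nat_lit 0) (nat_lit 103) (Steps.bwd (nat_lit 2) (Steps.fwd (nat_lit 36864) (Steps.fwd (nat_lit 32768) (Steps.bwd (nat_lit 9) (Steps.fwd (nat_lit 8192) (Steps.fwd (nat_lit 12288) Steps.nil)))))) (nat_lit 21) (nat_lit 5),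
  Rule.mk (nat_lit 8) (nat_lit 118) (Steps.fwd (nat_lit 8192) (Steps.fwd (nat_lit 8192) (Steps.fwd (nat_lit 32768) (Steps.bwd (nat_lit 9) (Steps.bwd (nat_lit 2) (Steps.fwd (nat_lit 20480) (Steps.fwd (nat_lit 8192) Steps.nil))))))) (nat_lit 43) (nat_lit 2),
  Rule.mk (nat_lit 5) (nat_lit 73) (Steps.bwd (nat_lit 1) (Steps.fwd (nat_lit 8192) (Steps.bwd (nat_lit 8) (Steps.bwd (nat_lit 3) Steps.nil)))) (nat_lit 15) (nat_lit 1),
  Rule.mk (nat_lit 0) (nat_lit 103) (Steps.fwd (nat_lit 16384) (Steps.fwd (nat_lit 4096) (Steps.bwd (nat_lit 8) (Steps.bwd (nat_lit 2) (Steps.bwd (nat_lit 5) (Steps.bwd (nat_lit 9) Steps.nil)))))) (nat_lit 23) (nat_lit 3),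
  Rule.mk (nat_lit 0) (nat_lit 118) (Steps.bwd (nat_lit 1) (Steps.bwd (nat_lit 1) (Steps.fwd (nat_lit 8192) (Steps.fwd (nat_lit 16384) (Steps.bwd (nat_lit 2) (Steps.fwd (nat_lit 28672) (Steps.fwd (nat_lit 16384) Steps.nil))))))) (nat_lit 29) (nat_lit 3),
  Rule.mk (nat_lit 8) (nat_lit 118) (Steps.bwd (nat_lit 1) (Steps.bwd (nat_lit 1) (Steps.bwd (nat_lit 7) (Steps.fwd (nat_lit 40960) (Steps.fwd (nat_lit 4096) (Steps.bwd (nat_lit 6) (Steps.fwd (nat_lit 8192) Steps.nil))))))) (nat_lit 43) (nat_lit 2),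
  Rule.mk (nat_lit 9) (nat_lit 148) (Steps.bwd (nat_lit 8) (Steps.bwd (nat_lit 1) (Steps.bwd (nat_lit 1) (Steps.bwd (nat_lit 1) (Steps.bwd (nat_lit 4) (Steps.fwd (nat_lit 24576) (Steps.bwd (nat_lit 3) (Steps.fwd (nat_lit 4096) (Steps.fwd (nat_lit 32768) Steps.nil))))))))) (nat_lit 46) (nat_lit 0),
  Rule.mk (nat_lit 0) (nat_lit 133) (Steps.fwd (nat_lit 4096) (Steps.bwd (nat_lit 6) (Steps.fwd (nat_lit 8192) (Steps.bwd (nat_lit 8) (Steps.fwd (nat_lit 8192) (Steps.bwd (nat_lit 1) (Steps.fwd (nat_lit 32768) (Steps.bwd (nat_lit 9) Steps.nil)))))))) (nat_lit 43) (nat_lit 6),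
  Rule.mk (nat_lit 0) (nat_lit 163) (Steps.bwd (nat_lit 3) (Steps.bwd (nat_lit 2) (Steps.fwd (nat_lit 4096) (Steps.bwd (nat_lit 2) (Steps.fwd (nat_lit 32768) (Steps.fwd (nat_lit 36864) (Steps.bwd (nat_lit 8) (Steps.bwd (nat_lit 1) (Steps.fwd (nat_lit 12288) (Steps.bwd (nat_lit 6) Steps.nil)))))))))) (nat_lit 47) (nat_lit 5),
  Rule.mk (nat_lit 0) (nat_lit 88) (Steps.fwd (nat_lit 49152) (Steps.fwd (nat_lit 24576) (Steps.fwd (nat_lit 49152) (Steps.bwd (nat_lit 5) (Steps.bwd (nat_lit 10) Steps.nil))))) (nat_lit 18) (nat_lit 0),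
  Rule.mk (nat_lit 10) (nat_lit 88) (Steps.fwd (nat_lit 49152) (Steps.fwd (nat_lit 53248) (Steps.bwd (nat_lit 11) (Steps.bwd (nat_lit 13) (Steps.bwd (nat_lit 12) Steps.nil))))) (nat_lit 27) (nat_lit 4),
  Rule.mk (nat_lit 0) (nat_lit 103) (Steps.bwd (nat_lit 9) (Steps.fwd (nat_lit 20480) (Steps.bwd (nat_lit 14) (Steps.fwd (nat_lit 45056) (Steps.bwd (nat_lit 13) (Steps.bwd (nat_lit 5) Steps.nil)))))) (nat_lit 24) (nat_lit 0),
  Rule.mk (nat_lit 0) (nat_lit 148) (Steps.bwd (nat_lit 9) (Steps.bwd (nat_lit 6) (Steps.bwd (nat_lit 11) (Steps.bwd (nat_lit 13) (Steps.bwd (nat_lit 12) (Steps.fwd (nat_lit 12288) (Steps.fwd (nat_lit 32768) (Steps.bwd (nat_lit 4) (Steps.bwd (nat_lit 7) Steps.nil))))))))) (nat_lit 44) (nat_lit 4),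
  Rule.mk (nat_lit 4) (nat_lit 58) (Steps.bwd (nat_lit 14) (Steps.bwd (nat_lit 3) (Steps.fwd (nat_lit 24576) Steps.nil))) (nat_lit 12) (nat_lit 3),
  Rule.mk (nat_lit 0) (nat_lit 88) (Steps.bwd (nat_lit 13) (Steps.bwd (nat_lit 5) (Steps.fwd (nat_lit 45056) (Steps.fwd (nat_lit 32768) (Steps.fwd (nat_lit 16384) Steps.nil))))) (nat_lit 17) (nat_lit 0),
  Rule.mk (nat_lit 4) (nat_lit 133) (Steps.fwd (nat_lit 32768) (Steps.fwd (nat_lit 40960) (Steps.fwd (nat_lit 20480) (Steps.bwd (nat_lit 11) (Steps.fwd (nat_lit 57344) (Steps.bwd (nat_lit 12) (Steps.bwd (nat_lit 4) (Steps.bwd (nat_lit 7) Steps.nil)))))))) (nat_lit 44) (nat_lit 3),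
  Rule.mk (nat_lit 8) (nat_lit 118) (Steps.bwd (nat_lit 1) (Steps.fwd (nat_lit 8192) (Steps.fwd (nat_lit 32768) (Steps.fwd (nat_lit 40960) (Steps.bwd (nat_lit 2) (Steps.fwd (nat_lit 20480) (Steps.bwd (nat_lit 1) Steps.nil))))))) (nat_lit 43) (nat_lit 2),
  Rule.mk (nat_lit 0) (nat_lit 88) (Steps.bwd (nat_lit 8) (Steps.fwd (nat_lit 16384) (Steps.bwd (nat_lit 5) (Steps.fwd (nat_lit 8192) (Steps.bwd (nat_lit 1) Steps.nil))))) (nat_lit 15) (nat_lit 3),
  Rule.mk (nat_lit 3) (nat_lit 103) (Steps.fwd (nat_lit 4096) (Steps.fwd (nat_lit 28672) (Steps.fwd (nat_lit 16384) (Steps.fwd (nat_lit 8192) (Steps.bwd (nat_lit 1) (Steps.bwd (nat_lit 1) Steps.nil)))))) (nat_lit 29) (nat_lit 0),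
  Rule.mk (nat_lit 10) (nat_lit 118) (Steps.fwd (nat_lit 28672) (Steps.bwd (nat_lit 2) (Steps.fwd (nat_lit 4096) (Steps.bwd (nat_lit 7) (Steps.fwd (nat_lit 4096) (Steps.bwd (nat_lit 5) (Steps.bwd (nat_lit 1) Steps.nil))))))) (nat_lit 42) (nat_lit 3),
  Rule.mk (nat_lit 9) (nat_lit 88) (Steps.bwd (nat_lit 1) (Steps.fwd (nat_lit 16384) (Steps.bwd (nat_lit 2) (Steps.bwd (nat_lit 10) (Steps.fwd (nat_lit 28672) Steps.nil))))) (nat_lit 20) (nat_lit 0),
  Rule.mk (nat_lit 0) (nat_lit 103) (Steps.bwd (nat_lit 3) (Steps.fwd (nat_lit 4096) (Steps.bwd (nat_lit 10) (Steps.fwd (nat_lit 28672) (Steps.fwd (nat_lit 40960) (Steps.fwd (nat_lit 8192) Steps.nil)))))) (nat_lit 20) (nat_lit 1),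
  Rule.mk (nat_lit 5) (nat_lit 73) (Steps.fwd (nat_lit 36864) (Steps.bwd (nat_lit 11) (Steps.bwd (nat_lit 5) (Steps.fwd (nat_lit 49152) Steps.nil)))) (nat_lit 18) (nat_lit 4),
  Rule.mk (nat_lit 0) (nat_lit 88) (Steps.bwd (nat_lit 4) (Steps.bwd (nat_lit 8) (Steps.bwd (nat_lit 11) (Steps.bwd (nat_lit 6) (Steps.bwd (nat_lit 14) Steps.nil))))) (nat_lit 16) (nat_lit 0),
  Rule.mk (nat_lit 7) (nat_lit 103) (Steps.bwd (nat_lit 1) (Steps.fwd (nat_lit 12288) (Steps.bwd (nat_lit 2) (Steps.fwd (nat_lit 4096) (Steps.fwd (nat_lit 4096) (Steps.bwd (nat_lit 4) Steps.nil)))))) (nat_lit 28) (nat_lit 6),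
  Rule.mk (nat_lit 6) (nat_lit 88) (Steps.bwd (nat_lit 1) (Steps.bwd (nat_lit 7) (Steps.bwd (nat_lit 1) (Steps.fwd (nat_lit 12288) (Steps.bwd (nat_lit 10) Steps.nil))))) (nat_lit 22) (nat_lit 5),
  Rule.mk (nat_lit 9) (nat_lit 118) (Steps.bwd (nat_lit 14) (Steps.bwd (nat_lit 12) (Steps.fwd (nat_lit 24576) (Steps.bwd (nat_lit 3) (Steps.fwd (nat_lit 4096) (Steps.fwd (nat_lit 4096) (Steps.bwd (nat_lit 7) Steps.nil))))))) (nat_lit 33) (nat_lit 2),
  Rule.mk (nat_lit 0) (nat_lit 58) (Steps.fwd (nat_lit 36864) (Steps.bwd (nat_lit 10) (Steps.fwd (nat_lit 36864) Steps.nil))) (nat_lit 7) (nat_lit 0),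
  Rule.mk (nat_lit 0) (nat_lit 133) (Steps.fwd (nat_lit 49152) (Steps.fwd (nat_lit 24576) (Steps.fwd (nat_lit 16384) (Steps.fwd (nat_lit 20480) (Steps.bwd (nat_lit 11) (Steps.fwd (nat_lit 24576) (Steps.bwd (nat_lit 3) (Steps.fwd (nat_lit 20480) Steps.nil)))))))) (nat_lit 34) (nat_lit 2),
  Rule.mk (nat_lit 0) (nat_lit 163) (Steps.fwd (nat_lit 24576) (Steps.bwd (nat_lit 11) (Steps.bwd (nat_lit 13) (Steps.bwd (nat_lit 3) (Steps.bwd (nat_lit 2) (Steps.fwd (nat_lit 4096) (Steps.bwd (nat_lit 4) (Steps.bwd (nat_lit 6) (Steps.fwd (nat_lit 53248) (Steps.fwd (nat_lit 45056) Steps.nil)))))))))) (nat_lit 52) (nat_lit 7),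
  Rule.mk (nat_lit 9) (nat_lit 73) (Steps.fwd (nat_lit 20480) (Steps.fwd (nat_lit 45056) (Steps.bwd (nat_lit 6) (Steps.fwd (nat_lit 45056) Steps.nil)))) (nat_lit 19) (nat_lit 1),
  Rule.mk (nat_lit 6) (nat_lit 73) (Steps.bwd (nat_lit 12) (Steps.fwd (nat_lit 40960) (Steps.bwd (nat_lit 6) (Steps.fwd (nat_lit 45056) Steps.nil)))) (nat_lit 19) (nat_lit 4),
  Rule.mk (nat_lit 9) (nat_lit 73) (Steps.bwd (nat_lit 6) (Steps.bwd (nat_lit 12) (Steps.fwd (nat_lit 20480) (Steps.fwd (nat_lit 45056) Steps.nil)))) (nat_lit 19) (nat_lit 1),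
  Rule.mk (nat_lit 11) (nat_lit 88) (Steps.fwd (nat_lit 57344) (Steps.bwd (nat_lit 5) (Steps.fwd (nat_lit 36864) (Steps.bwd (nat_lit 6) (Steps.bwd (nat_lit 14) Steps.nil))))) (nat_lit 25) (nat_lit 3),
  Rule.mk (nat_lit 11) (nat_lit 73) (Steps.fwd (nat_lit 24576) (Steps.bwd (nat_lit 11) (Steps.fwd (nat_lit 24576) (Steps.bwd (nat_lit 10) Steps.nil)))) (nat_lit 18) (nat_lit 1),
  Rule.mk (nat_lit 0) (nat_lit 163) (Steps.fwd (nat_lit 20480) (Steps.bwd (nat_lit 14) (Steps.fwd (nat_lit 45056) (Steps.bwd (nat_lit 5) (Steps.bwd (nat_lit 11) (Steps.bwd (nat_lit 13) (Steps.fwd (nat_lit 16384) (Steps.fwd (nat_lit 4096) (Steps.fwd (nat_lit 4096) (Steps.bwd (nat_lit 4) Steps.nil)))))))))) (nat_lit 52) (nat_lit 4),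
  Rule.mk (nat_lit 0) (nat_lit 88) (Steps.fwd (nat_lit 45056) (Steps.fwd (nat_lit 20480) (Steps.bwd (nat_lit 12) (Steps.fwd (nat_lit 40960) (Steps.fwd (nat_lit 20480) Steps.nil))))) (nat_lit 19) (nat_lit 2),
  Rule.mk (nat_lit 8) (nat_lit 73) (Steps.bwd (nat_lit 3) (Steps.bwd (nat_lit 5) (Steps.bwd (nat_lit 1) (Steps.fwd (nat_lit 8192) Steps.nil)))) (nat_lit 15) (nat_lit 4),
  Rule.mk (nat_lit 0) (nat_lit 133) (Steps.bwd (nat_lit 1) (Steps.bwd (nat_lit 1) (Steps.fwd (nat_lit 32768) (Steps.bwd (nat_lit 9) (Steps.fwd (nat_lit 4096) (Steps.fwd (nat_lit 20480) (Steps.fwd (nat_lit 8192) (Steps.bwd (nat_lit 8) Steps.nil)))))))) (nat_lit 43) (nat_lit 2),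
  Rule.mk (nat_lit 0) (nat_lit 88) (Steps.fwd (nat_lit 20480) (Steps.fwd (nat_lit 45056) (Steps.bwd (nat_lit 6) (Steps.fwd (nat_lit 45056) (Steps.fwd (nat_lit 40960) Steps.nil))))) (nat_lit 19) (nat_lit 1),
  Rule.mk (nat_lit 9) (nat_lit 88) (Steps.bwd (nat_lit 6) (Steps.bwd (nat_lit 14) (Steps.fwd (nat_lit 45056) (Steps.bwd (nat_lit 13) (Steps.fwd (nat_lit 24576) Steps.nil))))) (nat_lit 24) (nat_lit 1),
  Rule.mk (nat_lit 2) (nat_lit 88) (Steps.fwd (nat_lit 36864) (Steps.bwd (nat_lit 7) (Steps.fwd (nat_lit 40960) (Steps.bwd (nat_lit 1) (Steps.bwd (nat_lit 4) Steps.nil))))) (nat_lit 21) (nat_lit 0),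
  Rule.mk (nat_lit 14) (nat_lit 88) (Steps.bwd (nat_lit 11) (Steps.bwd (nat_lit 13) (Steps.bwd (nat_lit 5) (Steps.bwd (nat_lit 10) (Steps.bwd (nat_lit 6) Steps.nil))))) (nat_lit 25) (nat_lit 2),
  Rule.mk (nat_lit 10) (nat_lit 118) (Steps.fwd (nat_lit 53248) (Steps.bwd (nat_lit 12) (Steps.fwd (nat_lit 57344) (Steps.bwd (nat_lit 10) (Steps.bwd (nat_lit 14) (Steps.fwd (nat_lit 45056) (Steps.fwd (nat_lit 57344) Steps.nil))))))) (nat_lit 37) (nat_lit 0),
  Rule.mk (nat_lit 14) (nat_lit 118) (Steps.bwd (nat_lit 12) (Steps.fwd (nat_lit 36864) (Steps.fwd (nat_lit 28672) (Steps.bwd (nat_lit 14) (Steps.bwd (nat_lit 12) (Steps.bwd (nat_lit 10) (Steps.bwd (nat_lit 8) Steps.nil))))))) (nat_lit 40) (nat_lit 2),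
  Rule.mk (nat_lit 8) (nat_lit 73) (Steps.bwd (nat_lit 11) (Steps.fwd (nat_lit 20480) (Steps.bwd (nat_lit 14) (Steps.bwd (nat_lit 4) Steps.nil)))) (nat_lit 16) (nat_lit 2),
  Rule.mk (nat_lit 0) (nat_lit 88) (Steps.bwd (nat_lit 3) (Steps.fwd (nat_lit 24576) (Steps.bwd (nat_lit 1) (Steps.bwd (nat_lit 1) (Steps.bwd (nat_lit 8) Steps.nil))))) (nat_lit 15) (nat_lit 4),
  Rule.mk (nat_lit 14) (nat_lit 73) (Steps.bwd (nat_lit 4) (Steps.bwd (nat_lit 8) (Steps.fwd (nat_lit 49152) (Steps.bwd (nat_lit 6) Steps.nil)))) (nat_lit 16) (nat_lit 0),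
  Rule.mk (nat_lit 12) (nat_lit 73) (Steps.bwd (nat_lit 6) (Steps.fwd (nat_lit 45056) (Steps.bwd (nat_lit 9) (Steps.bwd (nat_lit 6) Steps.nil)))) (nat_lit 19) (nat_lit 3),
  Rule.mk (nat_lit 13) (nat_lit 73) (Steps.fwd (nat_lit 24576) (Steps.bwd (nat_lit 12) (Steps.fwd (nat_lit 32768) (Steps.bwd (nat_lit 3) Steps.nil)))) (nat_lit 17) (nat_lit 1),
  Rule.mk (nat_lit 2) (nat_lit 88) (Steps.bwd (nat_lit 5) (Steps.fwd (nat_lit 40960) (Steps.fwd (nat_lit 16384) (Steps.bwd (nat_lit 2) (Steps.bwd (nat_lit 8) Steps.nil))))) (nat_lit 23) (nat_lit 1),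
  Rule.mk (nat_lit 7) (nat_lit 118) (Steps.bwd (nat_lit 2) (Steps.fwd (nat_lit 24576) (Steps.fwd (nat_lit 8192) (Steps.bwd (nat_lit 10) (Steps.fwd (nat_lit 28672) (Steps.fwd (nat_lit 4096) (Steps.bwd (nat_lit 2) Steps.nil))))))) (nat_lit 42) (nat_lit 7),
  Rule.mk (nat_lit 0) (nat_lit 58) (Steps.bwd (nat_lit 12) (Steps.bwd (nat_lit 12) (Steps.fwd (nat_lit 45056) Steps.nil))) (nat_lit 9) (nat_lit 0),
  Rule.mk (nat_lit 0) (nat_lit 88) (Steps.bwd (nat_lit 8) (Steps.bwd (nat_lit 11) (Steps.fwd (nat_lit 20480) (Steps.fwd (nat_lit 53248) (Steps.bwd (nat_lit 4) Steps.nil))))) (nat_lit 16) (nat_lit 1),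
  Rule.mk (nat_lit 0) (nat_lit 88) (Steps.fwd (nat_lit 24576) (Steps.bwd (nat_lit 11) (Steps.bwd (nat_lit 5) (Steps.fwd (nat_lit 36864) (Steps.bwd (nat_lit 11) Steps.nil))))) (nat_lit 18) (nat_lit 1),
  Rule.mk (nat_lit 0) (nat_lit 103) (Steps.fwd (nat_lit 40960) (Steps.fwd (nat_lit 20480) (Steps.bwd (nat_lit 14) (Steps.bwd (nat_lit 12) (Steps.bwd (nat_lit 13) (Steps.bwd (nat_lit 5) Steps.nil)))))) (nat_lit 24) (nat_lit 0),
  Rule.mk (nat_lit 10) (nat_lit 88) (Steps.fwd (nat_lit 20480) (Steps.bwd (nat_lit 14) (Steps.fwd (nat_lit 49152) (Steps.fwd (nat_lit 57344) (Steps.fwd (nat_lit 24576) Steps.nil))))) (nat_lit 25) (nat_lit 0),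
  Rule.mk (nat_lit 0) (nat_lit 103) (Steps.bwd (nat_lit 9) (Steps.bwd (nat_lit 11) (Steps.bwd (nat_lit 14) (Steps.bwd (nat_lit 12) (Steps.bwd (nat_lit 13) (Steps.fwd (nat_lit 45056) Steps.nil)))))) (nat_lit 26) (nat_lit 2),
  Rule.mk (nat_lit 0) (nat_lit 103) (Steps.bwd (nat_lit 12) (Steps.fwd (nat_lit 36864) (Steps.bwd (nat_lit 11) (Steps.bwd (nat_lit 14) (Steps.fwd (nat_lit 49152) (Steps.fwd (nat_lit 57344) Steps.nil)))))) (nat_lit 27) (nat_lit 2),
  Rule.mk (nat_lit 11) (nat_lit 73) (Steps.fwd (nat_lit 20480) (Steps.bwd (nat_lit 14) (Steps.bwd (nat_lit 4) (Steps.fwd (nat_lit 28672) Steps.nil)))) (nat_lit 16) (nat_lit 3),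
  Rule.mk (nat_lit 0) (nat_lit 103) (Steps.bwd (nat_lit 9) (Steps.bwd (nat_lit 11) (Steps.bwd (nat_lit 14) (Steps.fwd (nat_lit 45056) (Steps.fwd (nat_lit 57344) (Steps.fwd (nat_lit 45056) Steps.nil)))))) (nat_lit 26) (nat_lit 2),
  Rule.mk (nat_lit 0) (nat_lit 133) (Steps.bwd (nat_lit 11) (Steps.bwd (nat_lit 13) (Steps.bwd (nat_lit 7) (Steps.bwd (nat_lit 9) (Steps.bwd (nat_lit 11) (Steps.bwd (nat_lit 13) (Steps.fwd (nat_lit 32768) (Steps.bwd (nat_lit 9) Steps.nil)))))))) (nat_lit 41) (nat_lit 1),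
  Rule.mk (nat_lit 11) (nat_lit 133) (Steps.bwd (nat_lit 14) (Steps.bwd (nat_lit 12) (Steps.bwd (nat_lit 5) (Steps.fwd (nat_lit 36864) (Steps.bwd (nat_lit 8) (Steps.fwd (nat_lit 16384) (Steps.fwd (nat_lit 28672) (Steps.fwd (nat_lit 16384) Steps.nil)))))))) (nat_lit 45) (nat_lit 1)]
noncomputable def R_17 : List (Rule) := [Rule.mk (nat_lit 4) (nat_lit 118) (Steps.fwd (nat_lit 20480) (Steps.bwd (nat_lit 12) (Steps.bwd (nat_lit 5) (Steps.bwd (nat_lit 4) (Steps.bwd (nat_lit 6) (Steps.bwd (nat_lit 12) (Steps.bwd (nat_lit 5) Steps.nil))))))) (nat_lit 35) (nat_lit 0),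
  Rule.mk (nat_lit 2) (nat_lit 148) (Steps.fwd (nat_lit 4096) (Steps.bwd (nat_lit 4) (Steps.fwd (nat_lit 20480) (Steps.fwd (nat_lit 53248) (Steps.bwd (nat_lit 12) (Steps.bwd (nat_lit 5) (Steps.fwd (nat_lit 49152) (Steps.fwd (nat_lit 57344) (Steps.bwd (nat_lit 3) Steps.nil))))))))) (nat_lit 52) (nat_lit 2),
  Rule.mk (nat_lit 0) (nat_lit 88) (Steps.bwd (nat_lit 2) (Steps.fwd (nat_lit 4096) (Steps.fwd (nat_lit 20480) (Steps.fwd (nat_lit 12288) (Steps.fwd (nat_lit 32768) Steps.nil))))) (nat_lit 14) (nat_lit 2),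
  Rule.mk (nat_lit 8) (nat_lit 73) (Steps.fwd (nat_lit 49152) (Steps.fwd (nat_lit 20480) (Steps.bwd (nat_lit 14) (Steps.fwd (nat_lit 12288) Steps.nil)))) (nat_lit 16) (nat_lit 2),
  Rule.mk (nat_lit 0) (nat_lit 58) (Steps.fwd (nat_lit 32768) (Steps.fwd (nat_lit 32768) (Steps.fwd (nat_lit 32768) Steps.nil))) (nat_lit 4) (nat_lit 0),
  Rule.mk (nat_lit 8) (nat_lit 58) (Steps.bwd (nat_lit 0) (Steps.fwd (nat_lit 32768) (Steps.fwd (nat_lit 0) Steps.nil))) (nat_lit 56) (nat_lit 0),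
  Rule.mk (nat_lit 0) (nat_lit 88) (Steps.bwd (nat_lit 5) (Steps.fwd (nat_lit 36864) (Steps.fwd (nat_lit 49152) (Steps.fwd (nat_lit 24576) (Steps.fwd (nat_lit 49152) Steps.nil))))) (nat_lit 18) (nat_lit 3),
  Rule.mk (nat_lit 14) (nat_lit 73) (Steps.fwd (nat_lit 12288) (Steps.bwd (nat_lit 8) (Steps.bwd (nat_lit 11) (Steps.bwd (nat_lit 6) Steps.nil)))) (nat_lit 16) (nat_lit 0),
  Rule.mk (nat_lit 0) (nat_lit 163) (Steps.fwd (nat_lit 36864) (Steps.bwd (nat_lit 8) (Steps.fwd (nat_lit 8192) (Steps.bwd (nat_lit 4) (Steps.bwd (nat_lit 6) (Steps.fwd (nat_lit 16384) (Steps.fwd (nat_lit 4096) (Steps.bwd (nat_lit 2) (Steps.bwd (nat_lit 2) (Steps.fwd (nat_lit 32768) Steps.nil)))))))))) (nat_lit 47) (nat_lit 0),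
  Rule.mk (nat_lit 6) (nat_lit 103) (Steps.bwd (nat_lit 8) (Steps.bwd (nat_lit 10) (Steps.bwd (nat_lit 4) (Steps.fwd (nat_lit 8192) (Steps.fwd (nat_lit 45056) (Steps.fwd (nat_lit 53248) Steps.nil)))))) (nat_lit 31) (nat_lit 2),
  Rule.mk (nat_lit 2) (nat_lit 88) (Steps.fwd (nat_lit 24576) (Steps.fwd (nat_lit 40960) (Steps.bwd (nat_lit 3) (Steps.bwd (nat_lit 2) (Steps.bwd (nat_lit 8) Steps.nil))))) (nat_lit 23) (nat_lit 1),
  Rule.mk (nat_lit 0) (nat_lit 163) (Steps.bwd (nat_lit 6) (Steps.bwd (nat_lit 14) (Steps.bwd (nat_lit 12) (Steps.fwd (nat_lit 24576) (Steps.bwd (nat_lit 11) (Steps.bwd (nat_lit 13) (Steps.bwd (nat_lit 3) (Steps.bwd (nat_lit 2) (Steps.fwd (nat_lit 4096) (Steps.fwd (nat_lit 12288) Steps.nil)))))))))) (nat_lit 52) (nat_lit 4),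
  Rule.mk (nat_lit 0) (nat_lit 88) (Steps.fwd (nat_lit 12288) (Steps.fwd (nat_lit 28672) (Steps.fwd (nat_lit 49152) (Steps.fwd (nat_lit 20480) (Steps.fwd (nat_lit 53248) Steps.nil))))) (nat_lit 16) (nat_lit 0),
  Rule.mk (nat_lit 0) (nat_lit 88) (Steps.bwd (nat_lit 2) (Steps.bwd (nat_lit 2) (Steps.fwd (nat_lit 20480) (Steps.bwd (nat_lit 4) (Steps.fwd (nat_lit 32768) Steps.nil))))) (nat_lit 14) (nat_lit 2),
  Rule.mk (nat_lit 4) (nat_lit 103) (Steps.fwd (nat_lit 32768) (Steps.fwd (nat_lit 8192) (Steps.bwd (nat_lit 4) (Steps.fwd (nat_lit 4096) (Steps.fwd (nat_lit 4096) (Steps.fwd (nat_lit 4096) Steps.nil)))))) (nat_lit 28) (nat_lit 5),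
  Rule.mk (nat_lit 8) (nat_lit 73) (Steps.bwd (nat_lit 11) (Steps.fwd (nat_lit 20480) (Steps.fwd (nat_lit 53248) (Steps.bwd (nat_lit 4) Steps.nil)))) (nat_lit 16) (nat_lit 2),
  Rule.mk (nat_lit 0) (nat_lit 163) (Steps.fwd (nat_lit 8192) (Steps.fwd (nat_lit 8192) (Steps.bwd (nat_lit 1) (Steps.fwd (nat_lit 12288) (Steps.bwd (nat_lit 5) (Steps.fwd (nat_lit 16384) (Steps.fwd (nat_lit 4096) (Steps.fwd (nat_lit 32768) (Steps.fwd (nat_lit 40960) (Steps.fwd (nat_lit 28672) Steps.nil)))))))))) (nat_lit 46) (nat_lit 1),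
  Rule.mk (nat_lit 9) (nat_lit 88) (Steps.fwd (nat_lit 8192) (Steps.bwd (nat_lit 3) (Steps.bwd (nat_lit 2) (Steps.bwd (nat_lit 10) (Steps.bwd (nat_lit 8) Steps.nil))))) (nat_lit 20) (nat_lit 0),
  Rule.mk (nat_lit 7) (nat_lit 88) (Steps.bwd (nat_lit 9) (Steps.fwd (nat_lit 8192) (Steps.fwd (nat_lit 12288) (Steps.fwd (nat_lit 4096) (Steps.bwd (nat_lit 10) Steps.nil))))) (nat_lit 21) (nat_lit 2),
  Rule.mk (nat_lit 0) (nat_lit 103) (Steps.fwd (nat_lit 36864) (Steps.fwd (nat_lit 32768) (Steps.bwd (nat_lit 9) (Steps.bwd (nat_lit 1) (Steps.bwd (nat_lit 4) (Steps.bwd (nat_lit 2) Steps.nil)))))) (nat_lit 21) (nat_lit 0),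
  Rule.mk (nat_lit 4) (nat_lit 73) (Steps.bwd (nat_lit 8) (Steps.bwd (nat_lit 11) (Steps.bwd (nat_lit 6) (Steps.bwd (nat_lit 14) Steps.nil)))) (nat_lit 16) (nat_lit 1),
  Rule.mk (nat_lit 2) (nat_lit 88) (Steps.bwd (nat_lit 5) (Steps.bwd (nat_lit 9) (Steps.bwd (nat_lit 3) (Steps.bwd (nat_lit 2) (Steps.bwd (nat_lit 8) Steps.nil))))) (nat_lit 23) (nat_lit 1),
  Rule.mk (nat_lit 0) (nat_lit 103) (Steps.bwd (nat_lit 3) (Steps.bwd (nat_lit 2) (Steps.fwd (nat_lit 36864) (Steps.fwd (nat_lit 28672) (Steps.bwd (nat_lit 9) (Steps.fwd (nat_lit 8192) Steps.nil)))))) (nat_lit 20) (nat_lit 1),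
  Rule.mk (nat_lit 3) (nat_lit 103) (Steps.bwd (nat_lit 1) (Steps.bwd (nat_lit 1) (Steps.fwd (nat_lit 8192) (Steps.fwd (nat_lit 16384) (Steps.bwd (nat_lit 2) (Steps.fwd (nat_lit 28672) Steps.nil)))))) (nat_lit 29) (nat_lit 3),
  Rule.mk (nat_lit 5) (nat_lit 73) (Steps.fwd (nat_lit 8192) (Steps.fwd (nat_lit 8192) (Steps.fwd (nat_lit 28672) (Steps.bwd (nat_lit 3) Steps.nil)))) (nat_lit 15) (nat_lit 1),
  Rule.mk (nat_lit 7) (nat_lit 118) (Steps.fwd (nat_lit 4096) (Steps.bwd (nat_lit 5) (Steps.bwd (nat_lit 1) (Steps.bwd (nat_lit 10) (Steps.bwd (nat_lit 8) (Steps.fwd (nat_lit 4096) (Steps.fwd (nat_lit 4096) Steps.nil))))))) (nat_lit 42) (nat_lit 7),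
  Rule.mk (nat_lit 0) (nat_lit 133) (Steps.fwd (nat_lit 40960) (Steps.bwd (nat_lit 14) (Steps.fwd (nat_lit 45056) (Steps.bwd (nat_lit 5) (Steps.bwd (nat_lit 3) (Steps.fwd (nat_lit 4096) (Steps.fwd (nat_lit 4096) (Steps.bwd (nat_lit 7) Steps.nil)))))))) (nat_lit 33) (nat_lit 1),
  Rule.mk (nat_lit 13) (nat_lit 118) (Steps.bwd (nat_lit 10) (Steps.bwd (nat_lit 7) (Steps.fwd (nat_lit 40960) (Steps.fwd (nat_lit 57344) (Steps.bwd (nat_lit 10) (Steps.bwd (nat_lit 7) (Steps.fwd (nat_lit 40960) Steps.nil))))))) (nat_lit 38) (nat_lit 1),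
  Rule.mk (nat_lit 0) (nat_lit 133) (Steps.bwd (nat_lit 10) (Steps.fwd (nat_lit 28672) (Steps.bwd (nat_lit 14) (Steps.bwd (nat_lit 12) (Steps.bwd (nat_lit 10) (Steps.fwd (nat_lit 28672) (Steps.fwd (nat_lit 53248) (Steps.bwd (nat_lit 12) Steps.nil)))))))) (nat_lit 40) (nat_lit 3),
  Rule.mk (nat_lit 4) (nat_lit 148) (Steps.bwd (nat_lit 5) (Steps.fwd (nat_lit 16384) (Steps.fwd (nat_lit 4096) (Steps.bwd (nat_lit 7) (Steps.fwd (nat_lit 40960) (Steps.bwd (nat_lit 8) (Steps.bwd (nat_lit 1) (Steps.bwd (nat_lit 1) (Steps.fwd (nat_lit 8192) Steps.nil))))))))) (nat_lit 46) (nat_lit 5),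
  Rule.mk (nat_lit 0) (nat_lit 73) (Steps.bwd (nat_lit 3) (Steps.bwd (nat_lit 5) (Steps.bwd (nat_lit 4) (Steps.fwd (nat_lit 53248) Steps.nil)))) (nat_lit 12) (nat_lit 0),
  Rule.mk (nat_lit 3) (nat_lit 58) (Steps.bwd (nat_lit 6) (Steps.bwd (nat_lit 4) (Steps.bwd (nat_lit 13) Steps.nil))) (nat_lit 13) (nat_lit 2),
  Rule.mk (nat_lit 0) (nat_lit 103) (Steps.bwd (nat_lit 10) (Steps.fwd (nat_lit 32768) (Steps.bwd (nat_lit 9) (Steps.fwd (nat_lit 8192) (Steps.bwd (nat_lit 4) (Steps.bwd (nat_lit 2) Steps.nil)))))) (nat_lit 21) (nat_lit 0),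
  Rule.mk (nat_lit 13) (nat_lit 73) (Steps.bwd (nat_lit 5) (Steps.bwd (nat_lit 12) (Steps.bwd (nat_lit 7) (Steps.bwd (nat_lit 3) Steps.nil)))) (nat_lit 17) (nat_lit 1),
  Rule.mk (nat_lit 0) (nat_lit 73) (Steps.bwd (nat_lit 3) (Steps.bwd (nat_lit 5) (Steps.bwd (nat_lit 4) (Steps.bwd (nat_lit 14) Steps.nil)))) (nat_lit 12) (nat_lit 0),
  Rule.mk (nat_lit 1) (nat_lit 88) (Steps.bwd (nat_lit 4) (Steps.fwd (nat_lit 36864) (Steps.fwd (nat_lit 20480) (Steps.fwd (nat_lit 8192) (Steps.fwd (nat_lit 32768) Steps.nil))))) (nat_lit 22) (nat_lit 2),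
  Rule.mk (nat_lit 13) (nat_lit 118) (Steps.fwd (nat_lit 36864) (Steps.fwd (nat_lit 32768) (Steps.bwd (nat_lit 9) (Steps.fwd (nat_lit 57344) (Steps.fwd (nat_lit 36864) (Steps.bwd (nat_lit 7) (Steps.fwd (nat_lit 40960) Steps.nil))))))) (nat_lit 38) (nat_lit 1),
  Rule.mk (nat_lit 0) (nat_lit 58) (Steps.fwd (nat_lit 12288) (Steps.bwd (nat_lit 4) (Steps.fwd (nat_lit 12288) Steps.nil))) (nat_lit 1) (nat_lit 0),
  Rule.mk (nat_lit 0) (nat_lit 163) (Steps.fwd (nat_lit 28672) (Steps.fwd (nat_lit 8192) (Steps.bwd (nat_lit 1) (Steps.fwd (nat_lit 8192) (Steps.fwd (nat_lit 12288) (Steps.fwd (nat_lit 24576) (Steps.fwd (nat_lit 16384) (Steps.fwd (nat_lit 4096) (Steps.fwd (nat_lit 32768) (Steps.fwd (nat_lit 40960) Steps.nil)))))))))) (nat_lit 46) (nat_lit 0),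
  Rule.mk (nat_lit 5) (nat_lit 88) (Steps.bwd (nat_lit 9) (Steps.fwd (nat_lit 20480) (Steps.bwd (nat_lit 14) (Steps.bwd (nat_lit 12) (Steps.fwd (nat_lit 57344) Steps.nil))))) (nat_lit 24) (nat_lit 0),
  Rule.mk (nat_lit 4) (nat_lit 88) (Steps.fwd (nat_lit 4096) (Steps.bwd (nat_lit 10) (Steps.fwd (nat_lit 32768) (Steps.bwd (nat_lit 9) (Steps.bwd (nat_lit 1) Steps.nil))))) (nat_lit 21) (nat_lit 5),
  Rule.mk (nat_lit 7) (nat_lit 88) (Steps.bwd (nat_lit 1) (Steps.fwd (nat_lit 12288) (Steps.bwd (nat_lit 10) (Steps.bwd (nat_lit 6) (Steps.bwd (nat_lit 1) Steps.nil))))) (nat_lit 22) (nat_lit 1),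
  Rule.mk (nat_lit 3) (nat_lit 148) (Steps.bwd (nat_lit 1) (Steps.fwd (nat_lit 8192) (Steps.fwd (nat_lit 12288) (Steps.bwd (nat_lit 14) (Steps.fwd (nat_lit 45056) (Steps.fwd (nat_lit 20480) (Steps.bwd (nat_lit 11) (Steps.fwd (nat_lit 57344) (Steps.fwd (nat_lit 24576) Steps.nil))))))))) (nat_lit 53) (nat_lit 7),
  Rule.mk (nat_lit 0) (nat_lit 73) (Steps.bwd (nat_lit 13) (Steps.bwd (nat_lit 3) (Steps.bwd (nat_lit 6) (Steps.fwd (nat_lit 12288) Steps.nil)))) (nat_lit 13) (nat_lit 0),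
  Rule.mk (nat_lit 13) (nat_lit 58) (Steps.bwd (nat_lit 3) (Steps.fwd (nat_lit 20480) (Steps.fwd (nat_lit 12288) Steps.nil))) (nat_lit 13) (nat_lit 1),
  Rule.mk (nat_lit 7) (nat_lit 73) (Steps.bwd (nat_lit 3) (Steps.fwd (nat_lit 57344) (Steps.bwd (nat_lit 5) (Steps.bwd (nat_lit 12) Steps.nil)))) (nat_lit 17) (nat_lit 4),
  Rule.mk (nat_lit 0) (nat_lit 133) (Steps.bwd (nat_lit 9) (Steps.bwd (nat_lit 11) (Steps.fwd (nat_lit 57344) (Steps.bwd (nat_lit 7) (Steps.bwd (nat_lit 9) (Steps.fwd (nat_lit 49152) (Steps.bwd (nat_lit 13) (Steps.fwd (nat_lit 32768) Steps.nil)))))))) (nat_lit 41) (nat_lit 0),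
  Rule.mk (nat_lit 12) (nat_lit 73) (Steps.bwd (nat_lit 6) (Steps.bwd (nat_lit 12) (Steps.bwd (nat_lit 9) (Steps.bwd (nat_lit 6) Steps.nil)))) (nat_lit 19) (nat_lit 3),
  Rule.mk (nat_lit 0) (nat_lit 103) (Steps.fwd (nat_lit 4096) (Steps.bwd (nat_lit 10) (Steps.fwd (nat_lit 32768) (Steps.fwd (nat_lit 40960) (Steps.bwd (nat_lit 1) (Steps.fwd (nat_lit 12288) Steps.nil)))))) (nat_lit 21) (nat_lit 5),
  Rule.mk (nat_lit 0) (nat_lit 58) (Steps.fwd (nat_lit 20480) (Steps.fwd (nat_lit 20480) (Steps.bwd (nat_lit 6) Steps.nil))) (nat_lit 3) (nat_lit 0),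
  Rule.mk (nat_lit 0) (nat_lit 88) (Steps.bwd (nat_lit 5) (Steps.bwd (nat_lit 10) (Steps.bwd (nat_lit 11) (Steps.bwd (nat_lit 5) (Steps.bwd (nat_lit 11) Steps.nil))))) (nat_lit 18) (nat_lit 3),
  Rule.mk (nat_lit 3) (nat_lit 118) (Steps.fwd (nat_lit 20480) (Steps.bwd (nat_lit 11) (Steps.bwd (nat_lit 5) (Steps.bwd (nat_lit 3) (Steps.bwd (nat_lit 6) (Steps.bwd (nat_lit 11) (Steps.bwd (nat_lit 5) Steps.nil))))))) (nat_lit 34) (nat_lit 1),
  Rule.mk (nat_lit 4) (nat_lit 148) (Steps.bwd (nat_lit 6) (Steps.fwd (nat_lit 53248) (Steps.bwd (nat_lit 12) (Steps.bwd (nat_lit 5) (Steps.bwd (nat_lit 11) (Steps.bwd (nat_lit 13) (Steps.bwd (nat_lit 3) (Steps.fwd (nat_lit 4096) (Steps.fwd (nat_lit 4096) Steps.nil))))))))) (nat_lit 52) (nat_lit 4),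
  Rule.mk (nat_lit 10) (nat_lit 118) (Steps.bwd (nat_lit 8) (Steps.bwd (nat_lit 1) (Steps.fwd (nat_lit 8192) (Steps.fwd (nat_lit 12288) (Steps.fwd (nat_lit 20480) (Steps.bwd (nat_lit 11) (Steps.bwd (nat_lit 13) Steps.nil))))))) (nat_lit 32) (nat_lit 7),
  Rule.mk (nat_lit 12) (nat_lit 118) (Steps.bwd (nat_lit 10) (Steps.fwd (nat_lit 28672) (Steps.fwd (nat_lit 53248) (Steps.fwd (nat_lit 45056) (Steps.bwd (nat_lit 10) (Steps.bwd (nat_lit 8) (Steps.fwd (nat_lit 53248) Steps.nil))))))) (nat_lit 40) (nat_lit 3),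
  Rule.mk (nat_lit 13) (nat_lit 148) (Steps.bwd (nat_lit 12) (Steps.fwd (nat_lit 57344) (Steps.bwd (nat_lit 12) (Steps.bwd (nat_lit 13) (Steps.bwd (nat_lit 12) (Steps.fwd (nat_lit 57344) (Steps.bwd (nat_lit 12) (Steps.fwd (nat_lit 57344) (Steps.fwd (nat_lit 45056) Steps.nil))))))))) (nat_lit 50) (nat_lit 0),
  Rule.mk (nat_lit 13) (nat_lit 88) (Steps.fwd (nat_lit 24576) (Steps.fwd (nat_lit 36864) (Steps.bwd (nat_lit 6) (Steps.bwd (nat_lit 14) (Steps.fwd (nat_lit 49152) Steps.nil))))) (nat_lit 25) (nat_lit 4),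
  Rule.mk (nat_lit 3) (nat_lit 73) (Steps.fwd (nat_lit 57344) (Steps.bwd (nat_lit 5) (Steps.fwd (nat_lit 45056) (Steps.bwd (nat_lit 7) Steps.nil)))) (nat_lit 17) (nat_lit 0),
  Rule.mk (nat_lit 4) (nat_lit 103) (Steps.bwd (nat_lit 7) (Steps.bwd (nat_lit 1) (Steps.fwd (nat_lit 12288) (Steps.bwd (nat_lit 2) (Steps.fwd (nat_lit 4096) (Steps.fwd (nat_lit 4096) Steps.nil)))))) (nat_lit 28) (nat_lit 5),
  Rule.mk (nat_lit 0) (nat_lit 133) (Steps.bwd (nat_lit 10) (Steps.bwd (nat_lit 8) (Steps.fwd (nat_lit 4096) (Steps.bwd (nat_lit 2) (Steps.bwd (nat_lit 7) (Steps.bwd (nat_lit 2) (Steps.fwd (nat_lit 24576) (Steps.bwd (nat_lit 1) Steps.nil)))))))) (nat_lit 42) (nat_lit 2),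
  Rule.mk (nat_lit 0) (nat_lit 133) (Steps.bwd (nat_lit 3) (Steps.bwd (nat_lit 2) (Steps.bwd (nat_lit 2) (Steps.fwd (nat_lit 32768) (Steps.bwd (nat_lit 9) (Steps.fwd (nat_lit 53248) (Steps.fwd (nat_lit 45056) (Steps.fwd (nat_lit 24576) Steps.nil)))))))) (nat_lit 33) (nat_lit 5),
  Rule.mk (nat_lit 5) (nat_lit 148) (Steps.bwd (nat_lit 3) (Steps.bwd (nat_lit 2) (Steps.fwd (nat_lit 32768) (Steps.bwd (nat_lit 9) (Steps.bwd (nat_lit 8) (Steps.bwd (nat_lit 1) (Steps.fwd (nat_lit 8192) (Steps.fwd (nat_lit 8192) (Steps.bwd (nat_lit 4) Steps.nil))))))))) (nat_lit 46) (nat_lit 6),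
  Rule.mk (nat_lit 0) (nat_lit 73) (Steps.bwd (nat_lit 3) (Steps.bwd (nat_lit 5) (Steps.fwd (nat_lit 12288) (Steps.fwd (nat_lit 53248) Steps.nil)))) (nat_lit 12) (nat_lit 0),
  Rule.mk (nat_lit 0) (nat_lit 58) (Steps.fwd (nat_lit 20480) (Steps.bwd (nat_lit 6) (Steps.fwd (nat_lit 20480) Steps.nil))) (nat_lit 3) (nat_lit 0)]
noncomputable def R_18 : List (Rule) := [Rule.mk (nat_lit 6) (nat_lit 73) (Steps.bwd (nat_lit 12) (Steps.fwd (nat_lit 20480) (Steps.bwd (nat_lit 12) (Steps.fwd (nat_lit 40960) Steps.nil)))) (nat_lit 19) (nat_lit 2),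
  Rule.mk (nat_lit 3) (nat_lit 148) (Steps.bwd (nat_lit 2) (Steps.fwd (nat_lit 4096) (Steps.bwd (nat_lit 4) (Steps.fwd (nat_lit 20480) (Steps.bwd (nat_lit 14) (Steps.bwd (nat_lit 12) (Steps.bwd (nat_lit 5) (Steps.fwd (nat_lit 49152) (Steps.fwd (nat_lit 57344) Steps.nil))))))))) (nat_lit 52) (nat_lit 1),
  Rule.mk (nat_lit 2) (nat_lit 103) (Steps.bwd (nat_lit 8) (Steps.bwd (nat_lit 3) (Steps.bwd (nat_lit 1) (Steps.fwd (nat_lit 8192) (Steps.fwd (nat_lit 8192) (Steps.bwd (nat_lit 3) Steps.nil)))))) (nat_lit 29) (nat_lit 1),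
  Rule.mk (nat_lit 11) (nat_lit 73) (Steps.bwd (nat_lit 5) (Steps.bwd (nat_lit 11) (Steps.fwd (nat_lit 24576) (Steps.fwd (nat_lit 36864) Steps.nil)))) (nat_lit 18) (nat_lit 1),
  Rule.mk (nat_lit 0) (nat_lit 103) (Steps.bwd (nat_lit 11) (Steps.bwd (nat_lit 13) (Steps.bwd (nat_lit 5) (Steps.bwd (nat_lit 10) (Steps.fwd (nat_lit 20480) (Steps.bwd (nat_lit 14) Steps.nil)))))) (nat_lit 25) (nat_lit 2),
  Rule.mk (nat_lit 0) (nat_lit 73) (Steps.bwd (nat_lit 6) (Steps.fwd (nat_lit 12288) (Steps.fwd (nat_lit 57344) (Steps.bwd (nat_lit 3) Steps.nil)))) (nat_lit 13) (nat_lit 2),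
  Rule.mk (nat_lit 0) (nat_lit 73) (Steps.bwd (nat_lit 3) (Steps.fwd (nat_lit 0) (Steps.bwd (nat_lit 4) (Steps.fwd (nat_lit 0) Steps.nil)))) (nat_lit 56) (nat_lit 0),
  Rule.mk (nat_lit 0) (nat_lit 88) (Steps.fwd (nat_lit 49152) (Steps.bwd (nat_lit 6) (Steps.bwd (nat_lit 14) (Steps.bwd (nat_lit 4) (Steps.fwd (nat_lit 28672) Steps.nil))))) (nat_lit 16) (nat_lit 2),
  Rule.mk (nat_lit 12) (nat_lit 73) (Steps.fwd (nat_lit 40960) (Steps.bwd (nat_lit 6) (Steps.fwd (nat_lit 45056) (Steps.bwd (nat_lit 6) Steps.nil)))) (nat_lit 19) (nat_lit 0),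
  Rule.mk (nat_lit 12) (nat_lit 73) (Steps.fwd (nat_lit 40960) (Steps.bwd (nat_lit 6) (Steps.bwd (nat_lit 12) (Steps.bwd (nat_lit 6) Steps.nil)))) (nat_lit 19) (nat_lit 0),
  Rule.mk (nat_lit 0) (nat_lit 103) (Steps.fwd (nat_lit 40960) (Steps.bwd (nat_lit 6) (Steps.bwd (nat_lit 14) (Steps.fwd (nat_lit 45056) (Steps.fwd (nat_lit 57344) (Steps.fwd (nat_lit 24576) Steps.nil)))))) (nat_lit 24) (nat_lit 0),
  Rule.mk (nat_lit 0) (nat_lit 133) (Steps.fwd (nat_lit 8192) (Steps.fwd (nat_lit 8192) (Steps.fwd (nat_lit 12288) (Steps.fwd (nat_lit 20480) (Steps.fwd (nat_lit 49152) (Steps.bwd (nat_lit 13) (Steps.fwd (nat_lit 36864) (Steps.bwd (nat_lit 8) Steps.nil)))))))) (nat_lit 32) (nat_lit 0),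
  Rule.mk (nat_lit 3) (nat_lit 133) (Steps.fwd (nat_lit 28672) (Steps.bwd (nat_lit 3) (Steps.bwd (nat_lit 11) (Steps.fwd (nat_lit 53248) (Steps.bwd (nat_lit 12) (Steps.bwd (nat_lit 5) (Steps.fwd (nat_lit 36864) (Steps.fwd (nat_lit 28672) Steps.nil)))))))) (nat_lit 45) (nat_lit 7),
  Rule.mk (nat_lit 8) (nat_lit 88) (Steps.fwd (nat_lit 4096) (Steps.fwd (nat_lit 24576) (Steps.bwd (nat_lit 9) (Steps.bwd (nat_lit 3) (Steps.fwd (nat_lit 4096) Steps.nil))))) (nat_lit 23) (nat_lit 0),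
  Rule.mk (nat_lit 3) (nat_lit 103) (Steps.fwd (nat_lit 4096) (Steps.fwd (nat_lit 28672) (Steps.bwd (nat_lit 3) (Steps.bwd (nat_lit 1) (Steps.bwd (nat_lit 1) (Steps.bwd (nat_lit 1) Steps.nil)))))) (nat_lit 29) (nat_lit 0),
  Rule.mk (nat_lit 0) (nat_lit 133) (Steps.bwd (nat_lit 5) (Steps.bwd (nat_lit 3) (Steps.bwd (nat_lit 2) (Steps.fwd (nat_lit 4096) (Steps.bwd (nat_lit 7) (Steps.bwd (nat_lit 9) (Steps.bwd (nat_lit 14) (Steps.fwd (nat_lit 45056) Steps.nil)))))))) (nat_lit 33) (nat_lit 4),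
  Rule.mk (nat_lit 2) (nat_lit 118) (Steps.bwd (nat_lit 6) (Steps.fwd (nat_lit 8192) (Steps.bwd (nat_lit 8) (Steps.fwd (nat_lit 8192) (Steps.bwd (nat_lit 1) (Steps.bwd (nat_lit 7) (Steps.fwd (nat_lit 40960) Steps.nil))))))) (nat_lit 43) (nat_lit 7),
  Rule.mk (nat_lit 0) (nat_lit 148) (Steps.bwd (nat_lit 4) (Steps.bwd (nat_lit 7) (Steps.fwd (nat_lit 12288) (Steps.bwd (nat_lit 7) (Steps.bwd (nat_lit 9) (Steps.bwd (nat_lit 6) (Steps.bwd (nat_lit 11) (Steps.fwd (nat_lit 57344) (Steps.bwd (nat_lit 12) Steps.nil))))))))) (nat_lit 44) (nat_lit 0),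
  Rule.mk (nat_lit 10) (nat_lit 88) (Steps.bwd (nat_lit 6) (Steps.fwd (nat_lit 53248) (Steps.fwd (nat_lit 49152) (Steps.bwd (nat_lit 13) (Steps.fwd (nat_lit 24576) Steps.nil))))) (nat_lit 25) (nat_lit 0),
  Rule.mk (nat_lit 3) (nat_lit 88) (Steps.bwd (nat_lit 2) (Steps.fwd (nat_lit 28672) (Steps.fwd (nat_lit 4096) (Steps.bwd (nat_lit 5) (Steps.bwd (nat_lit 9) Steps.nil))))) (nat_lit 23) (nat_lit 4),
  Rule.mk (nat_lit 9) (nat_lit 88) (Steps.fwd (nat_lit 8192) (Steps.bwd (nat_lit 3) (Steps.bwd (nat_lit 2) (Steps.fwd (nat_lit 36864) (Steps.fwd (nat_lit 28672) Steps.nil))))) (nat_lit 20) (nat_lit 0),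
  Rule.mk (nat_lit 0) (nat_lit 118) (Steps.bwd (nat_lit 1) (Steps.bwd (nat_lit 1) (Steps.fwd (nat_lit 8192) (Steps.bwd (nat_lit 3) (Steps.bwd (nat_lit 2) (Steps.fwd (nat_lit 28672) (Steps.fwd (nat_lit 16384) Steps.nil))))))) (nat_lit 29) (nat_lit 3),
  Rule.mk (nat_lit 0) (nat_lit 133) (Steps.bwd (nat_lit 1) (Steps.fwd (nat_lit 36864) (Steps.fwd (nat_lit 28672) (Steps.fwd (nat_lit 4096) (Steps.fwd (nat_lit 4096) (Steps.bwd (nat_lit 7) (Steps.bwd (nat_lit 2) (Steps.fwd (nat_lit 24576) Steps.nil)))))))) (nat_lit 42) (nat_lit 1),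
  Rule.mk (nat_lit 0) (nat_lit 88) (Steps.bwd (nat_lit 1) (Steps.fwd (nat_lit 8192) (Steps.fwd (nat_lit 28672) (Steps.bwd (nat_lit 3) (Steps.fwd (nat_lit 24576) Steps.nil))))) (nat_lit 15) (nat_lit 1),
  Rule.mk (nat_lit 0) (nat_lit 118) (Steps.bwd (nat_lit 3) (Steps.bwd (nat_lit 2) (Steps.fwd (nat_lit 28672) (Steps.fwd (nat_lit 16384) (Steps.fwd (nat_lit 8192) (Steps.fwd (nat_lit 8192) (Steps.fwd (nat_lit 8192) Steps.nil))))))) (nat_lit 29) (nat_lit 6),
  Rule.mk (nat_lit 2) (nat_lit 118) (Steps.bwd (nat_lit 2) (Steps.bwd (nat_lit 7) (Steps.bwd (nat_lit 2) (Steps.bwd (nat_lit 5) (Steps.bwd (nat_lit 1) (Steps.bwd (nat_lit 10) (Steps.fwd (nat_lit 28672) Steps.nil))))))) (nat_lit 42) (nat_lit 5),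
  Rule.mk (nat_lit 3) (nat_lit 118) (Steps.bwd (nat_lit 2) (Steps.bwd (nat_lit 2) (Steps.bwd (nat_lit 7) (Steps.bwd (nat_lit 9) (Steps.fwd (nat_lit 53248) (Steps.bwd (nat_lit 12) (Steps.bwd (nat_lit 5) Steps.nil))))))) (nat_lit 33) (nat_lit 6),
  Rule.mk (nat_lit 7) (nat_lit 148) (Steps.fwd (nat_lit 40960) (Steps.fwd (nat_lit 28672) (Steps.fwd (nat_lit 8192) (Steps.fwd (nat_lit 8192) (Steps.fwd (nat_lit 8192) (Steps.bwd (nat_lit 4) (Steps.bwd (nat_lit 5) (Steps.bwd (nat_lit 3) (Steps.bwd (nat_lit 2) Steps.nil))))))))) (nat_lit 46) (nat_lit 9),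
  Rule.mk (nat_lit 2) (nat_lit 148) (Steps.fwd (nat_lit 32768) (Steps.bwd (nat_lit 10) (Steps.bwd (nat_lit 8) (Steps.bwd (nat_lit 1) (Steps.fwd (nat_lit 12288) (Steps.bwd (nat_lit 6) (Steps.bwd (nat_lit 3) (Steps.bwd (nat_lit 2) (Steps.bwd (nat_lit 2) Steps.nil))))))))) (nat_lit 47) (nat_lit 9),
  Rule.mk (nat_lit 5) (nat_lit 88) (Steps.fwd (nat_lit 40960) (Steps.fwd (nat_lit 16384) (Steps.bwd (nat_lit 2) (Steps.fwd (nat_lit 28672) (Steps.bwd (nat_lit 2) Steps.nil))))) (nat_lit 23) (nat_lit 2),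
  Rule.mk (nat_lit 9) (nat_lit 118) (Steps.bwd (nat_lit 14) (Steps.fwd (nat_lit 45056) (Steps.bwd (nat_lit 5) (Steps.bwd (nat_lit 3) (Steps.bwd (nat_lit 2) (Steps.bwd (nat_lit 2) (Steps.fwd (nat_lit 32768) Steps.nil))))))) (nat_lit 33) (nat_lit 2),
  Rule.mk (nat_lit 3) (nat_lit 118) (Steps.bwd (nat_lit 2) (Steps.bwd (nat_lit 2) (Steps.fwd (nat_lit 32768) (Steps.bwd (nat_lit 9) (Steps.fwd (nat_lit 53248) (Steps.bwd (nat_lit 12) (Steps.bwd (nat_lit 5) Steps.nil))))))) (nat_lit 33) (nat_lit 6),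
  Rule.mk (nat_lit 3) (nat_lit 103) (Steps.fwd (nat_lit 4096) (Steps.fwd (nat_lit 28672) (Steps.bwd (nat_lit 3) (Steps.fwd (nat_lit 8192) (Steps.bwd (nat_lit 1) (Steps.fwd (nat_lit 8192) Steps.nil)))))) (nat_lit 29) (nat_lit 0),
  Rule.mk (nat_lit 0) (nat_lit 58) (Steps.bwd (nat_lit 3) (Steps.bwd (nat_lit 3) (Steps.bwd (nat_lit 3) Steps.nil))) (nat_lit 0) (nat_lit 0),
  Rule.mk (nat_lit 5) (nat_lit 118) (Steps.bwd (nat_lit 3) (Steps.fwd (nat_lit 4096) (Steps.fwd (nat_lit 4096) (Steps.fwd (nat_lit 32768) (Steps.bwd (nat_lit 9) (Steps.fwd (nat_lit 53248) (Steps.fwd (nat_lit 45056) Steps.nil))))))) (nat_lit 33) (nat_lit 5),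
  Rule.mk (nat_lit 5) (nat_lit 148) (Steps.fwd (nat_lit 16384) (Steps.fwd (nat_lit 4096) (Steps.bwd (nat_lit 7) (Steps.bwd (nat_lit 9) (Steps.fwd (nat_lit 28672) (Steps.fwd (nat_lit 8192) (Steps.bwd (nat_lit 1) (Steps.fwd (nat_lit 8192) (Steps.bwd (nat_lit 4) Steps.nil))))))))) (nat_lit 46) (nat_lit 6),
  Rule.mk (nat_lit 3) (nat_lit 103) (Steps.bwd (nat_lit 2) (Steps.bwd (nat_lit 8) (Steps.bwd (nat_lit 3) (Steps.bwd (nat_lit 1) (Steps.bwd (nat_lit 1) (Steps.bwd (nat_lit 1) Steps.nil)))))) (nat_lit 29) (nat_lit 0),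
  Rule.mk (nat_lit 4) (nat_lit 148) (Steps.fwd (nat_lit 24576) (Steps.fwd (nat_lit 16384) (Steps.bwd (nat_lit 2) (Steps.fwd (nat_lit 32768) (Steps.bwd (nat_lit 9) (Steps.bwd (nat_lit 8) (Steps.bwd (nat_lit 1) (Steps.bwd (nat_lit 1) (Steps.bwd (nat_lit 1) Steps.nil))))))))) (nat_lit 46) (nat_lit 5),
  Rule.mk (nat_lit 0) (nat_lit 73) (Steps.bwd (nat_lit 6) (Steps.fwd (nat_lit 12288) (Steps.bwd (nat_lit 13) (Steps.fwd (nat_lit 16384) Steps.nil)))) (nat_lit 13) (nat_lit 2),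
  Rule.mk (nat_lit 0) (nat_lit 73) (Steps.bwd (nat_lit 14) (Steps.fwd (nat_lit 16384) (Steps.fwd (nat_lit 24576) (Steps.bwd (nat_lit 4) Steps.nil)))) (nat_lit 12) (nat_lit 3),
  Rule.mk (nat_lit 8) (nat_lit 103) (Steps.bwd (nat_lit 10) (Steps.bwd (nat_lit 4) (Steps.fwd (nat_lit 8192) (Steps.bwd (nat_lit 12) (Steps.fwd (nat_lit 53248) (Steps.fwd (nat_lit 20480) Steps.nil)))))) (nat_lit 31) (nat_lit 3),
  Rule.mk (nat_lit 10) (nat_lit 118) (Steps.bwd (nat_lit 7) (Steps.fwd (nat_lit 40960) (Steps.fwd (nat_lit 57344) (Steps.bwd (nat_lit 10) (Steps.fwd (nat_lit 32768) (Steps.bwd (nat_lit 9) (Steps.bwd (nat_lit 13) Steps.nil))))))) (nat_lit 38) (nat_lit 2),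
  Rule.mk (nat_lit 0) (nat_lit 88) (Steps.bwd (nat_lit 5) (Steps.bwd (nat_lit 10) (Steps.bwd (nat_lit 11) (Steps.bwd (nat_lit 5) (Steps.fwd (nat_lit 49152) Steps.nil))))) (nat_lit 18) (nat_lit 3),
  Rule.mk (nat_lit 8) (nat_lit 88) (Steps.bwd (nat_lit 9) (Steps.bwd (nat_lit 1) (Steps.fwd (nat_lit 16384) (Steps.fwd (nat_lit 4096) (Steps.bwd (nat_lit 10) Steps.nil))))) (nat_lit 20) (nat_lit 5),
  Rule.mk (nat_lit 1) (nat_lit 88) (Steps.fwd (nat_lit 32768) (Steps.bwd (nat_lit 1) (Steps.bwd (nat_lit 4) (Steps.bwd (nat_lit 10) (Steps.fwd (nat_lit 20480) Steps.nil))))) (nat_lit 22) (nat_lit 0),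
  Rule.mk (nat_lit 4) (nat_lit 118) (Steps.fwd (nat_lit 20480) (Steps.bwd (nat_lit 11) (Steps.bwd (nat_lit 13) (Steps.bwd (nat_lit 10) (Steps.bwd (nat_lit 8) (Steps.fwd (nat_lit 8192) (Steps.fwd (nat_lit 8192) Steps.nil))))))) (nat_lit 32) (nat_lit 3),
  Rule.mk (nat_lit 10) (nat_lit 88) (Steps.bwd (nat_lit 6) (Steps.bwd (nat_lit 1) (Steps.bwd (nat_lit 7) (Steps.bwd (nat_lit 1) (Steps.bwd (nat_lit 4) Steps.nil))))) (nat_lit 22) (nat_lit 4),
  Rule.mk (nat_lit 1) (nat_lit 103) (Steps.fwd (nat_lit 8192) (Steps.bwd (nat_lit 1) (Steps.fwd (nat_lit 16384) (Steps.fwd (nat_lit 4096) (Steps.bwd (nat_lit 8) (Steps.fwd (nat_lit 16384) Steps.nil)))))) (nat_lit 29) (nat_lit 4),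
  Rule.mk (nat_lit 8) (nat_lit 103) (Steps.bwd (nat_lit 10) (Steps.fwd (nat_lit 12288) (Steps.bwd (nat_lit 1) (Steps.fwd (nat_lit 45056) (Steps.fwd (nat_lit 53248) (Steps.fwd (nat_lit 20480) Steps.nil)))))) (nat_lit 31) (nat_lit 3),
  Rule.mk (nat_lit 0) (nat_lit 103) (Steps.bwd (nat_lit 4) (Steps.fwd (nat_lit 36864) (Steps.fwd (nat_lit 20480) (Steps.bwd (nat_lit 1) (Steps.fwd (nat_lit 32768) (Steps.fwd (nat_lit 8192) Steps.nil)))))) (nat_lit 22) (nat_lit 2),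
  Rule.mk (nat_lit 2) (nat_lit 73) (Steps.bwd (nat_lit 6) (Steps.bwd (nat_lit 4) (Steps.fwd (nat_lit 32768) (Steps.bwd (nat_lit 2) Steps.nil)))) (nat_lit 14) (nat_lit 4),
  Rule.mk (nat_lit 14) (nat_lit 73) (Steps.bwd (nat_lit 4) (Steps.fwd (nat_lit 28672) (Steps.fwd (nat_lit 49152) (Steps.bwd (nat_lit 6) Steps.nil)))) (nat_lit 16) (nat_lit 0),
  Rule.mk (nat_lit 3) (nat_lit 88) (Steps.bwd (nat_lit 2) (Steps.bwd (nat_lit 10) (Steps.fwd (nat_lit 28672) (Steps.fwd (nat_lit 40960) (Steps.fwd (nat_lit 8192) Steps.nil))))) (nat_lit 20) (nat_lit 2),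
  Rule.mk (nat_lit 9) (nat_lit 88) (Steps.bwd (nat_lit 3) (Steps.bwd (nat_lit 2) (Steps.bwd (nat_lit 8) (Steps.bwd (nat_lit 2) (Steps.bwd (nat_lit 5) Steps.nil))))) (nat_lit 23) (nat_lit 3),
  Rule.mk (nat_lit 0) (nat_lit 118) (Steps.fwd (nat_lit 16384) (Steps.fwd (nat_lit 4096) (Steps.bwd (nat_lit 8) (Steps.fwd (nat_lit 16384) (Steps.fwd (nat_lit 8192) (Steps.fwd (nat_lit 8192) (Steps.fwd (nat_lit 8192) Steps.nil))))))) (nat_lit 29) (nat_lit 6),
  Rule.mk (nat_lit 5) (nat_lit 148) (Steps.bwd (nat_lit 11) (Steps.bwd (nat_lit 13) (Steps.bwd (nat_lit 3) (Steps.bwd (nat_lit 2) (Steps.bwd (nat_lit 2) (Steps.bwd (nat_lit 4) (Steps.fwd (nat_lit 20480) (Steps.bwd (nat_lit 14) (Steps.bwd (nat_lit 12) Steps.nil))))))))) (nat_lit 52) (nat_lit 8),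
  Rule.mk (nat_lit 0) (nat_lit 133) (Steps.fwd (nat_lit 16384) (Steps.bwd (nat_lit 6) (Steps.fwd (nat_lit 49152) (Steps.fwd (nat_lit 24576) (Steps.fwd (nat_lit 16384) (Steps.bwd (nat_lit 6) (Steps.bwd (nat_lit 11) (Steps.fwd (nat_lit 24576) Steps.nil)))))))) (nat_lit 34) (nat_lit 0),
  Rule.mk (nat_lit 0) (nat_lit 133) (Steps.bwd (nat_lit 14) (Steps.fwd (nat_lit 45056) (Steps.bwd (nat_lit 13) (Steps.fwd (nat_lit 36864) (Steps.bwd (nat_lit 14) (Steps.bwd (nat_lit 12) (Steps.fwd (nat_lit 57344) (Steps.fwd (nat_lit 36864) Steps.nil)))))))) (nat_lit 37) (nat_lit 0),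
  Rule.mk (nat_lit 0) (nat_lit 163) (Steps.bwd (nat_lit 11) (Steps.bwd (nat_lit 14) (Steps.bwd (nat_lit 11) (Steps.bwd (nat_lit 14) (Steps.bwd (nat_lit 11) (Steps.fwd (nat_lit 53248) (Steps.bwd (nat_lit 11) (Steps.fwd (nat_lit 53248) (Steps.bwd (nat_lit 11) (Steps.fwd (nat_lit 53248) Steps.nil)))))))))) (nat_lit 51) (nat_lit 1),
  Rule.mk (nat_lit 10) (nat_lit 118) (Steps.bwd (nat_lit 8) (Steps.bwd (nat_lit 14) (Steps.fwd (nat_lit 45056) (Steps.fwd (nat_lit 36864) (Steps.bwd (nat_lit 8) (Steps.fwd (nat_lit 53248) (Steps.fwd (nat_lit 45056) Steps.nil))))))) (nat_lit 40) (nat_lit 0),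
  Rule.mk (nat_lit 8) (nat_lit 133) (Steps.bwd (nat_lit 3) (Steps.fwd (nat_lit 49152) (Steps.fwd (nat_lit 53248) (Steps.fwd (nat_lit 45056) (Steps.fwd (nat_lit 24576) (Steps.bwd (nat_lit 10) (Steps.bwd (nat_lit 8) (Steps.fwd (nat_lit 16384) Steps.nil)))))))) (nat_lit 45) (nat_lit 8),
  Rule.mk (nat_lit 13) (nat_lit 88) (Steps.fwd (nat_lit 45056) (Steps.bwd (nat_lit 10) (Steps.fwd (nat_lit 49152) (Steps.bwd (nat_lit 14) (Steps.fwd (nat_lit 49152) Steps.nil))))) (nat_lit 27) (nat_lit 2),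
  Rule.mk (nat_lit 0) (nat_lit 133) (Steps.bwd (nat_lit 7) (Steps.bwd (nat_lit 9) (Steps.bwd (nat_lit 13) (Steps.bwd (nat_lit 10) (Steps.bwd (nat_lit 7) (Steps.fwd (nat_lit 40960) (Steps.fwd (nat_lit 57344) (Steps.fwd (nat_lit 36864) Steps.nil)))))))) (nat_lit 38) (nat_lit 2),
  Rule.mk (nat_lit 1) (nat_lit 88) (Steps.fwd (nat_lit 16384) (Steps.fwd (nat_lit 4096) (Steps.fwd (nat_lit 36864) (Steps.bwd (nat_lit 8) (Steps.bwd (nat_lit 9) Steps.nil))))) (nat_lit 20) (nat_lit 1)]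
noncomputable def R_19 : List (Rule) := [Rule.mk (nat_lit 0) (nat_lit 163) (Steps.bwd (nat_lit 5) (Steps.bwd (nat_lit 3) (Steps.bwd (nat_lit 2) (Steps.bwd (nat_lit 7) (Steps.bwd (nat_lit 9) (Steps.bwd (nat_lit 8) (Steps.fwd (nat_lit 8192) (Steps.bwd (nat_lit 1) (Steps.bwd (nat_lit 1) (Steps.bwd (nat_lit 4) Steps.nil)))))))))) (nat_lit 46) (nat_lit 5),
  Rule.mk (nat_lit 11) (nat_lit 88) (Steps.fwd (nat_lit 57344) (Steps.bwd (nat_lit 12) (Steps.fwd (nat_lit 36864) (Steps.bwd (nat_lit 11) (Steps.fwd (nat_lit 53248) Steps.nil))))) (nat_lit 27) (nat_lit 1),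
  Rule.mk (nat_lit 0) (nat_lit 133) (Steps.fwd (nat_lit 45056) (Steps.fwd (nat_lit 24576) (Steps.bwd (nat_lit 4) (Steps.fwd (nat_lit 20480) (Steps.bwd (nat_lit 12) (Steps.fwd (nat_lit 24576) (Steps.fwd (nat_lit 12288) (Steps.fwd (nat_lit 20480) Steps.nil)))))))) (nat_lit 35) (nat_lit 1),
  Rule.mk (nat_lit 14) (nat_lit 118) (Steps.fwd (nat_lit 45056) (Steps.bwd (nat_lit 10) (Steps.fwd (nat_lit 28672) (Steps.fwd (nat_lit 53248) (Steps.bwd (nat_lit 12) (Steps.fwd (nat_lit 36864) (Steps.fwd (nat_lit 28672) Steps.nil))))))) (nat_lit 40) (nat_lit 2),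
  Rule.mk (nat_lit 0) (nat_lit 133) (Steps.bwd (nat_lit 14) (Steps.fwd (nat_lit 45056) (Steps.bwd (nat_lit 5) (Steps.fwd (nat_lit 16384) (Steps.bwd (nat_lit 2) (Steps.fwd (nat_lit 4096) (Steps.bwd (nat_lit 7) (Steps.bwd (nat_lit 9) Steps.nil)))))))) (nat_lit 33) (nat_lit 2),
  Rule.mk (nat_lit 2) (nat_lit 88) (Steps.bwd (nat_lit 5) (Steps.bwd (nat_lit 9) (Steps.fwd (nat_lit 16384) (Steps.bwd (nat_lit 2) (Steps.bwd (nat_lit 8) Steps.nil))))) (nat_lit 23) (nat_lit 1),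
  Rule.mk (nat_lit 0) (nat_lit 103) (Steps.bwd (nat_lit 2) (Steps.fwd (nat_lit 36864) (Steps.bwd (nat_lit 7) (Steps.bwd (nat_lit 9) (Steps.fwd (nat_lit 8192) (Steps.fwd (nat_lit 12288) Steps.nil)))))) (nat_lit 21) (nat_lit 5),
  Rule.mk (nat_lit 11) (nat_lit 118) (Steps.bwd (nat_lit 5) (Steps.bwd (nat_lit 3) (Steps.fwd (nat_lit 20480) (Steps.bwd (nat_lit 11) (Steps.fwd (nat_lit 24576) (Steps.bwd (nat_lit 3) (Steps.fwd (nat_lit 20480) Steps.nil))))))) (nat_lit 34) (nat_lit 3),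
  Rule.mk (nat_lit 0) (nat_lit 88) (Steps.fwd (nat_lit 16384) (Steps.bwd (nat_lit 13) (Steps.bwd (nat_lit 5) (Steps.bwd (nat_lit 12) (Steps.fwd (nat_lit 32768) Steps.nil))))) (nat_lit 17) (nat_lit 4),
  Rule.mk (nat_lit 0) (nat_lit 58) (Steps.bwd (nat_lit 1) (Steps.bwd (nat_lit 0) (Steps.fwd (nat_lit 4096) Steps.nil))) (nat_lit 56) (nat_lit 0),
  Rule.mk (nat_lit 9) (nat_lit 88) (Steps.bwd (nat_lit 1) (Steps.bwd (nat_lit 3) (Steps.bwd (nat_lit 2) (Steps.bwd (nat_lit 10) (Steps.fwd (nat_lit 28672) Steps.nil))))) (nat_lit 20) (nat_lit 0),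
  Rule.mk (nat_lit 9) (nat_lit 88) (Steps.fwd (nat_lit 16384) (Steps.fwd (nat_lit 4096) (Steps.fwd (nat_lit 28672) (Steps.bwd (nat_lit 2) (Steps.fwd (nat_lit 24576) Steps.nil))))) (nat_lit 23) (nat_lit 3),
  Rule.mk (nat_lit 14) (nat_lit 118) (Steps.bwd (nat_lit 10) (Steps.bwd (nat_lit 8) (Steps.bwd (nat_lit 9) (Steps.bwd (nat_lit 14) (Steps.bwd (nat_lit 10) (Steps.fwd (nat_lit 28672) (Steps.bwd (nat_lit 9) Steps.nil))))))) (nat_lit 39) (nat_lit 0),
  Rule.mk (nat_lit 13) (nat_lit 118) (Steps.bwd (nat_lit 9) (Steps.bwd (nat_lit 14) (Steps.bwd (nat_lit 11) (Steps.bwd (nat_lit 13) (Steps.bwd (nat_lit 9) (Steps.bwd (nat_lit 14) (Steps.bwd (nat_lit 11) Steps.nil))))))) (nat_lit 36) (nat_lit 0),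
  Rule.mk (nat_lit 1) (nat_lit 88) (Steps.fwd (nat_lit 12288) (Steps.bwd (nat_lit 2) (Steps.fwd (nat_lit 36864) (Steps.fwd (nat_lit 32768) (Steps.bwd (nat_lit 9) Steps.nil))))) (nat_lit 21) (nat_lit 4),
  Rule.mk (nat_lit 11) (nat_lit 73) (Steps.fwd (nat_lit 20480) (Steps.bwd (nat_lit 14) (Steps.fwd (nat_lit 12288) (Steps.bwd (nat_lit 8) Steps.nil)))) (nat_lit 16) (nat_lit 3),
  Rule.mk (nat_lit 0) (nat_lit 73) (Steps.bwd (nat_lit 14) (Steps.bwd (nat_lit 3) (Steps.bwd (nat_lit 5) (Steps.bwd (nat_lit 4) Steps.nil)))) (nat_lit 12) (nat_lit 3),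
  Rule.mk (nat_lit 0) (nat_lit 58) (Steps.fwd (nat_lit 28672) (Steps.bwd (nat_lit 0) (Steps.bwd (nat_lit 7) Steps.nil))) (nat_lit 56) (nat_lit 0),
  Rule.mk (nat_lit 5) (nat_lit 88) (Steps.bwd (nat_lit 9) (Steps.bwd (nat_lit 6) (Steps.fwd (nat_lit 53248) (Steps.fwd (nat_lit 45056) (Steps.bwd (nat_lit 13) Steps.nil))))) (nat_lit 24) (nat_lit 0),
  Rule.mk (nat_lit 3) (nat_lit 118) (Steps.bwd (nat_lit 2) (Steps.fwd (nat_lit 4096) (Steps.bwd (nat_lit 7) (Steps.fwd (nat_lit 40960) (Steps.fwd (nat_lit 53248) (Steps.fwd (nat_lit 45056) (Steps.bwd (nat_lit 5) Steps.nil))))))) (nat_lit 33) (nat_lit 6),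
  Rule.mk (nat_lit 9) (nat_lit 118) (Steps.fwd (nat_lit 53248) (Steps.fwd (nat_lit 49152) (Steps.fwd (nat_lit 57344) (Steps.fwd (nat_lit 40960) (Steps.fwd (nat_lit 53248) (Steps.bwd (nat_lit 11) (Steps.fwd (nat_lit 57344) Steps.nil))))))) (nat_lit 36) (nat_lit 1),
  Rule.mk (nat_lit 14) (nat_lit 118) (Steps.bwd (nat_lit 10) (Steps.bwd (nat_lit 8) (Steps.fwd (nat_lit 40960) (Steps.fwd (nat_lit 53248) (Steps.fwd (nat_lit 36864) (Steps.bwd (nat_lit 8) (Steps.fwd (nat_lit 40960) Steps.nil))))))) (nat_lit 39) (nat_lit 0),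
  Rule.mk (nat_lit 3) (nat_lit 133) (Steps.bwd (nat_lit 11) (Steps.fwd (nat_lit 53248) (Steps.fwd (nat_lit 45056) (Steps.bwd (nat_lit 5) (Steps.fwd (nat_lit 36864) (Steps.bwd (nat_lit 8) (Steps.bwd (nat_lit 3) (Steps.bwd (nat_lit 8) Steps.nil)))))))) (nat_lit 45) (nat_lit 0),
  Rule.mk (nat_lit 0) (nat_lit 88) (Steps.bwd (nat_lit 6) (Steps.fwd (nat_lit 12288) (Steps.fwd (nat_lit 32768) (Steps.bwd (nat_lit 2) (Steps.bwd (nat_lit 2) Steps.nil))))) (nat_lit 14) (nat_lit 4),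
  Rule.mk (nat_lit 0) (nat_lit 148) (Steps.fwd (nat_lit 49152) (Steps.bwd (nat_lit 14) (Steps.fwd (nat_lit 45056) (Steps.bwd (nat_lit 5) (Steps.fwd (nat_lit 36864) (Steps.fwd (nat_lit 28672) (Steps.bwd (nat_lit 3) (Steps.bwd (nat_lit 8) (Steps.bwd (nat_lit 3) Steps.nil))))))))) (nat_lit 45) (nat_lit 0),
  Rule.mk (nat_lit 3) (nat_lit 118) (Steps.fwd (nat_lit 4096) (Steps.bwd (nat_lit 2) (Steps.fwd (nat_lit 32768) (Steps.bwd (nat_lit 9) (Steps.bwd (nat_lit 14) (Steps.bwd (nat_lit 12) (Steps.bwd (nat_lit 5) Steps.nil))))))) (nat_lit 33) (nat_lit 6),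
  Rule.mk (nat_lit 8) (nat_lit 88) (Steps.bwd (nat_lit 9) (Steps.fwd (nat_lit 8192) (Steps.bwd (nat_lit 3) (Steps.fwd (nat_lit 4096) (Steps.bwd (nat_lit 10) Steps.nil))))) (nat_lit 20) (nat_lit 5),
  Rule.mk (nat_lit 3) (nat_lit 103) (Steps.bwd (nat_lit 1) (Steps.bwd (nat_lit 1) (Steps.fwd (nat_lit 8192) (Steps.bwd (nat_lit 3) (Steps.fwd (nat_lit 4096) (Steps.fwd (nat_lit 28672) Steps.nil)))))) (nat_lit 29) (nat_lit 3),
  Rule.mk (nat_lit 0) (nat_lit 163) (Steps.bwd (nat_lit 2) (Steps.bwd (nat_lit 2) (Steps.fwd (nat_lit 32768) (Steps.bwd (nat_lit 10) (Steps.fwd (nat_lit 28672) (Steps.bwd (nat_lit 1) (Steps.fwd (nat_lit 12288) (Steps.fwd (nat_lit 20480) (Steps.bwd (nat_lit 3) (Steps.bwd (nat_lit 2) Steps.nil)))))))))) (nat_lit 47) (nat_lit 7),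
  Rule.mk (nat_lit 0) (nat_lit 103) (Steps.bwd (nat_lit 10) (Steps.fwd (nat_lit 32768) (Steps.bwd (nat_lit 9) (Steps.bwd (nat_lit 1) (Steps.fwd (nat_lit 12288) (Steps.fwd (nat_lit 4096) Steps.nil)))))) (nat_lit 21) (nat_lit 0),
  Rule.mk (nat_lit 3) (nat_lit 73) (Steps.fwd (nat_lit 24576) (Steps.fwd (nat_lit 8192) (Steps.bwd (nat_lit 1) (Steps.bwd (nat_lit 8) Steps.nil)))) (nat_lit 15) (nat_lit 0),
  Rule.mk (nat_lit 8) (nat_lit 88) (Steps.fwd (nat_lit 4096) (Steps.fwd (nat_lit 24576) (Steps.bwd (nat_lit 9) (Steps.bwd (nat_lit 3) (Steps.bwd (nat_lit 2) Steps.nil))))) (nat_lit 23) (nat_lit 0),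
  Rule.mk (nat_lit 1) (nat_lit 103) (Steps.bwd (nat_lit 3) (Steps.bwd (nat_lit 2) (Steps.bwd (nat_lit 8) (Steps.bwd (nat_lit 3) (Steps.fwd (nat_lit 8192) (Steps.fwd (nat_lit 8192) Steps.nil)))))) (nat_lit 29) (nat_lit 6),
  Rule.mk (nat_lit 6) (nat_lit 88) (Steps.bwd (nat_lit 1) (Steps.fwd (nat_lit 32768) (Steps.fwd (nat_lit 8192) (Steps.fwd (nat_lit 12288) (Steps.fwd (nat_lit 36864) Steps.nil))))) (nat_lit 22) (nat_lit 5),
  Rule.mk (nat_lit 7) (nat_lit 103) (Steps.bwd (nat_lit 1) (Steps.fwd (nat_lit 12288) (Steps.fwd (nat_lit 4096) (Steps.fwd (nat_lit 4096) (Steps.fwd (nat_lit 4096) (Steps.fwd (nat_lit 12288) Steps.nil)))))) (nat_lit 28) (nat_lit 6),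
  Rule.mk (nat_lit 5) (nat_lit 118) (Steps.bwd (nat_lit 1) (Steps.fwd (nat_lit 36864) (Steps.fwd (nat_lit 28672) (Steps.bwd (nat_lit 2) (Steps.fwd (nat_lit 4096) (Steps.fwd (nat_lit 32768) (Steps.bwd (nat_lit 2) Steps.nil))))))) (nat_lit 42) (nat_lit 1),
  Rule.mk (nat_lit 0) (nat_lit 58) (Steps.bwd (nat_lit 8) (Steps.fwd (nat_lit 28672) (Steps.fwd (nat_lit 28672) Steps.nil))) (nat_lit 5) (nat_lit 0),
  Rule.mk (nat_lit 0) (nat_lit 88) (Steps.bwd (nat_lit 5) (Steps.fwd (nat_lit 8192) (Steps.fwd (nat_lit 8192) (Steps.fwd (nat_lit 28672) (Steps.bwd (nat_lit 3) Steps.nil))))) (nat_lit 15) (nat_lit 0),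
  Rule.mk (nat_lit 0) (nat_lit 73) (Steps.bwd (nat_lit 3) (Steps.fwd (nat_lit 24576) (Steps.bwd (nat_lit 4) (Steps.fwd (nat_lit 53248) Steps.nil)))) (nat_lit 12) (nat_lit 0),
  Rule.mk (nat_lit 8) (nat_lit 73) (Steps.fwd (nat_lit 16384) (Steps.fwd (nat_lit 24576) (Steps.bwd (nat_lit 1) (Steps.fwd (nat_lit 8192) Steps.nil)))) (nat_lit 15) (nat_lit 4),
  Rule.mk (nat_lit 8) (nat_lit 133) (Steps.bwd (nat_lit 3) (Steps.bwd (nat_lit 8) (Steps.fwd (nat_lit 16384) (Steps.fwd (nat_lit 49152) (Steps.bwd (nat_lit 14) (Steps.bwd (nat_lit 12) (Steps.fwd (nat_lit 24576) (Steps.fwd (nat_lit 36864) Steps.nil)))))))) (nat_lit 45) (nat_lit 6),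
  Rule.mk (nat_lit 0) (nat_lit 88) (Steps.fwd (nat_lit 32768) (Steps.bwd (nat_lit 3) (Steps.fwd (nat_lit 57344) (Steps.bwd (nat_lit 5) (Steps.bwd (nat_lit 12) Steps.nil))))) (nat_lit 17) (nat_lit 3),
  Rule.mk (nat_lit 10) (nat_lit 88) (Steps.fwd (nat_lit 32768) (Steps.bwd (nat_lit 9) (Steps.fwd (nat_lit 8192) (Steps.fwd (nat_lit 12288) (Steps.bwd (nat_lit 2) Steps.nil))))) (nat_lit 21) (nat_lit 1),
  Rule.mk (nat_lit 0) (nat_lit 133) (Steps.fwd (nat_lit 36864) (Steps.bwd (nat_lit 7) (Steps.fwd (nat_lit 40960) (Steps.fwd (nat_lit 57344) (Steps.bwd (nat_lit 10) (Steps.fwd (nat_lit 32768) (Steps.bwd (nat_lit 9) (Steps.fwd (nat_lit 57344) Steps.nil)))))))) (nat_lit 38) (nat_lit 1),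
  Rule.mk (nat_lit 0) (nat_lit 73) (Steps.fwd (nat_lit 24576) (Steps.bwd (nat_lit 4) (Steps.bwd (nat_lit 14) (Steps.fwd (nat_lit 16384) Steps.nil)))) (nat_lit 12) (nat_lit 1),
  Rule.mk (nat_lit 9) (nat_lit 88) (Steps.bwd (nat_lit 6) (Steps.fwd (nat_lit 53248) (Steps.bwd (nat_lit 12) (Steps.bwd (nat_lit 13) (Steps.fwd (nat_lit 24576) Steps.nil))))) (nat_lit 24) (nat_lit 1),
  Rule.mk (nat_lit 10) (nat_lit 88) (Steps.fwd (nat_lit 20480) (Steps.bwd (nat_lit 14) (Steps.bwd (nat_lit 11) (Steps.fwd (nat_lit 57344) (Steps.bwd (nat_lit 5) Steps.nil))))) (nat_lit 25) (nat_lit 0),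
  Rule.mk (nat_lit 0) (nat_lit 133) (Steps.fwd (nat_lit 28672) (Steps.bwd (nat_lit 14) (Steps.fwd (nat_lit 45056) (Steps.bwd (nat_lit 10) (Steps.bwd (nat_lit 8) (Steps.bwd (nat_lit 14) (Steps.bwd (nat_lit 12) (Steps.bwd (nat_lit 10) Steps.nil)))))))) (nat_lit 40) (nat_lit 0),
  Rule.mk (nat_lit 3) (nat_lit 133) (Steps.bwd (nat_lit 11) (Steps.bwd (nat_lit 14) (Steps.bwd (nat_lit 12) (Steps.fwd (nat_lit 24576) (Steps.fwd (nat_lit 36864) (Steps.bwd (nat_lit 8) (Steps.bwd (nat_lit 3) (Steps.fwd (nat_lit 28672) Steps.nil)))))))) (nat_lit 45) (nat_lit 0),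
  Rule.mk (nat_lit 0) (nat_lit 88) (Steps.fwd (nat_lit 45056) (Steps.bwd (nat_lit 7) (Steps.bwd (nat_lit 3) (Steps.fwd (nat_lit 57344) (Steps.bwd (nat_lit 5) Steps.nil))))) (nat_lit 17) (nat_lit 2),
  Rule.mk (nat_lit 11) (nat_lit 148) (Steps.bwd (nat_lit 13) (Steps.bwd (nat_lit 3) (Steps.fwd (nat_lit 4096) (Steps.bwd (nat_lit 2) (Steps.fwd (nat_lit 12288) (Steps.fwd (nat_lit 20480) (Steps.fwd (nat_lit 53248) (Steps.fwd (nat_lit 45056) (Steps.bwd (nat_lit 5) Steps.nil))))))))) (nat_lit 52) (nat_lit 9),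
  Rule.mk (nat_lit 8) (nat_lit 118) (Steps.fwd (nat_lit 8192) (Steps.bwd (nat_lit 1) (Steps.bwd (nat_lit 4) (Steps.fwd (nat_lit 20480) (Steps.bwd (nat_lit 11) (Steps.bwd (nat_lit 13) (Steps.fwd (nat_lit 36864) Steps.nil))))))) (nat_lit 32) (nat_lit 0),
  Rule.mk (nat_lit 4) (nat_lit 148) (Steps.bwd (nat_lit 6) (Steps.fwd (nat_lit 16384) (Steps.bwd (nat_lit 2) (Steps.fwd (nat_lit 4096) (Steps.bwd (nat_lit 2) (Steps.bwd (nat_lit 7) (Steps.fwd (nat_lit 36864) (Steps.bwd (nat_lit 8) (Steps.fwd (nat_lit 8192) Steps.nil))))))))) (nat_lit 47) (nat_lit 4),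
  Rule.mk (nat_lit 11) (nat_lit 118) (Steps.fwd (nat_lit 57344) (Steps.fwd (nat_lit 36864) (Steps.fwd (nat_lit 28672) (Steps.fwd (nat_lit 8192) (Steps.fwd (nat_lit 8192) (Steps.bwd (nat_lit 4) (Steps.bwd (nat_lit 6) Steps.nil))))))) (nat_lit 32) (nat_lit 5),
  Rule.mk (nat_lit 3) (nat_lit 73) (Steps.bwd (nat_lit 13) (Steps.fwd (nat_lit 24576) (Steps.bwd (nat_lit 12) (Steps.fwd (nat_lit 32768) Steps.nil)))) (nat_lit 17) (nat_lit 0),
  Rule.mk (nat_lit 14) (nat_lit 88) (Steps.bwd (nat_lit 11) (Steps.bwd (nat_lit 13) (Steps.fwd (nat_lit 24576) (Steps.fwd (nat_lit 36864) (Steps.fwd (nat_lit 20480) Steps.nil))))) (nat_lit 25) (nat_lit 2),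
  Rule.mk (nat_lit 11) (nat_lit 88) (Steps.bwd (nat_lit 14) (Steps.bwd (nat_lit 11) (Steps.bwd (nat_lit 13) (Steps.fwd (nat_lit 45056) (Steps.fwd (nat_lit 36864) Steps.nil))))) (nat_lit 27) (nat_lit 5),
  Rule.mk (nat_lit 11) (nat_lit 118) (Steps.fwd (nat_lit 57344) (Steps.bwd (nat_lit 9) (Steps.bwd (nat_lit 14) (Steps.bwd (nat_lit 11) (Steps.bwd (nat_lit 13) (Steps.fwd (nat_lit 40960) (Steps.fwd (nat_lit 53248) Steps.nil))))))) (nat_lit 36) (nat_lit 3),
  Rule.mk (nat_lit 0) (nat_lit 58) (Steps.bwd (nat_lit 11) (Steps.bwd (nat_lit 11) (Steps.bwd (nat_lit 11) Steps.nil))) (nat_lit 8) (nat_lit 0),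
  Rule.mk (nat_lit 0) (nat_lit 73) (Steps.fwd (nat_lit 49152) (Steps.fwd (nat_lit 0) (Steps.fwd (nat_lit 45056) (Steps.fwd (nat_lit 0) Steps.nil)))) (nat_lit 56) (nat_lit 0),
  Rule.mk (nat_lit 0) (nat_lit 103) (Steps.bwd (nat_lit 12) (Steps.fwd (nat_lit 36864) (Steps.bwd (nat_lit 11) (Steps.fwd (nat_lit 53248) (Steps.bwd (nat_lit 11) (Steps.fwd (nat_lit 57344) Steps.nil)))))) (nat_lit 27) (nat_lit 2),
  Rule.mk (nat_lit 6) (nat_lit 118) (Steps.bwd (nat_lit 11) (Steps.fwd (nat_lit 57344) (Steps.fwd (nat_lit 36864) (Steps.bwd (nat_lit 8) (Steps.fwd (nat_lit 8192) (Steps.fwd (nat_lit 8192) (Steps.fwd (nat_lit 12288) Steps.nil))))))) (nat_lit 32) (nat_lit 4),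
  Rule.mk (nat_lit 5) (nat_lit 148) (Steps.bwd (nat_lit 11) (Steps.fwd (nat_lit 57344) (Steps.fwd (nat_lit 16384) (Steps.fwd (nat_lit 4096) (Steps.fwd (nat_lit 4096) (Steps.fwd (nat_lit 12288) (Steps.fwd (nat_lit 20480) (Steps.bwd (nat_lit 14) (Steps.fwd (nat_lit 45056) Steps.nil))))))))) (nat_lit 52) (nat_lit 8),
  Rule.mk (nat_lit 3) (nat_lit 118) (Steps.bwd (nat_lit 2) (Steps.fwd (nat_lit 4096) (Steps.fwd (nat_lit 32768) (Steps.bwd (nat_lit 9) (Steps.bwd (nat_lit 14) (Steps.fwd (nat_lit 45056) (Steps.bwd (nat_lit 5) Steps.nil))))))) (nat_lit 33) (nat_lit 6)]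
noncomputable def R_20 : List (Rule) := [Rule.mk (nat_lit 0) (nat_lit 118) (Steps.bwd (nat_lit 1) (Steps.bwd (nat_lit 3) (Steps.bwd (nat_lit 2) (Steps.bwd (nat_lit 8) (Steps.fwd (nat_lit 16384) (Steps.bwd (nat_lit 1) (Steps.fwd (nat_lit 8192) Steps.nil))))))) (nat_lit 29) (nat_lit 5),
  Rule.mk (nat_lit 5) (nat_lit 148) (Steps.bwd (nat_lit 11) (Steps.bwd (nat_lit 13) (Steps.bwd (nat_lit 3) (Steps.bwd (nat_lit 2) (Steps.fwd (nat_lit 4096) (Steps.fwd (nat_lit 12288) (Steps.bwd (nat_lit 6) (Steps.fwd (nat_lit 53248) (Steps.fwd (nat_lit 45056) Steps.nil))))))))) (nat_lit 52) (nat_lit 8),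
  Rule.mk (nat_lit 0) (nat_lit 58) (Steps.fwd (nat_lit 45056) (Steps.fwd (nat_lit 45056) (Steps.bwd (nat_lit 12) Steps.nil))) (nat_lit 9) (nat_lit 0),
  Rule.mk (nat_lit 5) (nat_lit 58) (Steps.fwd (nat_lit 12288) (Steps.bwd (nat_lit 14) (Steps.fwd (nat_lit 16384) Steps.nil))) (nat_lit 12) (nat_lit 2),
  Rule.mk (nat_lit 9) (nat_lit 88) (Steps.bwd (nat_lit 3) (Steps.fwd (nat_lit 4096) (Steps.bwd (nat_lit 8) (Steps.fwd (nat_lit 4096) (Steps.bwd (nat_lit 5) Steps.nil))))) (nat_lit 23) (nat_lit 3),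
  Rule.mk (nat_lit 5) (nat_lit 103) (Steps.bwd (nat_lit 13) (Steps.fwd (nat_lit 49152) (Steps.fwd (nat_lit 4096) (Steps.bwd (nat_lit 3) (Steps.bwd (nat_lit 9) (Steps.fwd (nat_lit 32768) Steps.nil)))))) (nat_lit 30) (nat_lit 6),
  Rule.mk (nat_lit 5) (nat_lit 73) (Steps.bwd (nat_lit 1) (Steps.fwd (nat_lit 8192) (Steps.bwd (nat_lit 8) (Steps.fwd (nat_lit 16384) Steps.nil)))) (nat_lit 15) (nat_lit 1),
  Rule.mk (nat_lit 14) (nat_lit 118) (Steps.bwd (nat_lit 10) (Steps.bwd (nat_lit 8) (Steps.bwd (nat_lit 9) (Steps.fwd (nat_lit 53248) (Steps.bwd (nat_lit 10) (Steps.bwd (nat_lit 8) (Steps.fwd (nat_lit 40960) Steps.nil))))))) (nat_lit 39) (nat_lit 0),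
  Rule.mk (nat_lit 5) (nat_lit 118) (Steps.fwd (nat_lit 16384) (Steps.bwd (nat_lit 2) (Steps.fwd (nat_lit 4096) (Steps.bwd (nat_lit 7) (Steps.fwd (nat_lit 40960) (Steps.bwd (nat_lit 14) (Steps.fwd (nat_lit 45056) Steps.nil))))))) (nat_lit 33) (nat_lit 5),
  Rule.mk (nat_lit 3) (nat_lit 133) (Steps.bwd (nat_lit 11) (Steps.bwd (nat_lit 14) (Steps.fwd (nat_lit 45056) (Steps.bwd (nat_lit 5) (Steps.bwd (nat_lit 10) (Steps.bwd (nat_lit 8) (Steps.fwd (nat_lit 16384) (Steps.bwd (nat_lit 8) Steps.nil)))))))) (nat_lit 45) (nat_lit 0),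
  Rule.mk (nat_lit 11) (nat_lit 148) (Steps.bwd (nat_lit 13) (Steps.fwd (nat_lit 24576) (Steps.fwd (nat_lit 16384) (Steps.fwd (nat_lit 8192) (Steps.bwd (nat_lit 1) (Steps.bwd (nat_lit 4) (Steps.bwd (nat_lit 14) (Steps.fwd (nat_lit 45056) (Steps.bwd (nat_lit 6) Steps.nil))))))))) (nat_lit 53) (nat_lit 4),
  Rule.mk (nat_lit 0) (nat_lit 133) (Steps.fwd (nat_lit 8192) (Steps.bwd (nat_lit 1) (Steps.bwd (nat_lit 4) (Steps.bwd (nat_lit 6) (Steps.bwd (nat_lit 11) (Steps.bwd (nat_lit 13) (Steps.fwd (nat_lit 36864) (Steps.fwd (nat_lit 28672) Steps.nil)))))))) (nat_lit 32) (nat_lit 0),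
  Rule.mk (nat_lit 0) (nat_lit 103) (Steps.bwd (nat_lit 3) (Steps.fwd (nat_lit 4096) (Steps.fwd (nat_lit 28672) (Steps.fwd (nat_lit 4096) (Steps.fwd (nat_lit 24576) (Steps.fwd (nat_lit 40960) Steps.nil)))))) (nat_lit 23) (nat_lit 3),
  Rule.mk (nat_lit 2) (nat_lit 118) (Steps.bwd (nat_lit 6) (Steps.bwd (nat_lit 1) (Steps.fwd (nat_lit 28672) (Steps.bwd (nat_lit 1) (Steps.fwd (nat_lit 8192) (Steps.fwd (nat_lit 32768) (Steps.fwd (nat_lit 40960) Steps.nil))))))) (nat_lit 43) (nat_lit 7),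
  Rule.mk (nat_lit 0) (nat_lit 103) (Steps.fwd (nat_lit 28672) (Steps.fwd (nat_lit 40960) (Steps.bwd (nat_lit 1) (Steps.bwd (nat_lit 3) (Steps.bwd (nat_lit 2) (Steps.bwd (nat_lit 10) Steps.nil)))))) (nat_lit 20) (nat_lit 4),
  Rule.mk (nat_lit 12) (nat_lit 88) (Steps.bwd (nat_lit 9) (Steps.fwd (nat_lit 49152) (Steps.bwd (nat_lit 14) (Steps.bwd (nat_lit 12) (Steps.fwd (nat_lit 57344) Steps.nil))))) (nat_lit 26) (nat_lit 2),
  Rule.mk (nat_lit 12) (nat_lit 43) (Steps.fwd (nat_lit 45056) (Steps.bwd (nat_lit 12) Steps.nil)) (nat_lit 9) (nat_lit 0),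
  Rule.mk (nat_lit 14) (nat_lit 118) (Steps.bwd (nat_lit 12) (Steps.fwd (nat_lit 36864) (Steps.fwd (nat_lit 28672) (Steps.fwd (nat_lit 53248) (Steps.fwd (nat_lit 45056) (Steps.bwd (nat_lit 10) (Steps.fwd (nat_lit 28672) Steps.nil))))))) (nat_lit 40) (nat_lit 2),
  Rule.mk (nat_lit 8) (nat_lit 148) (Steps.bwd (nat_lit 1) (Steps.bwd (nat_lit 4) (Steps.bwd (nat_lit 6) (Steps.bwd (nat_lit 3) (Steps.fwd (nat_lit 4096) (Steps.bwd (nat_lit 2) (Steps.bwd (nat_lit 2) (Steps.bwd (nat_lit 7) (Steps.fwd (nat_lit 36864) Steps.nil))))))))) (nat_lit 47) (nat_lit 2),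
  Rule.mk (nat_lit 9) (nat_lit 88) (Steps.bwd (nat_lit 1) (Steps.fwd (nat_lit 16384) (Steps.bwd (nat_lit 2) (Steps.fwd (nat_lit 36864) (Steps.bwd (nat_lit 8) Steps.nil))))) (nat_lit 20) (nat_lit 0),
  Rule.mk (nat_lit 4) (nat_lit 118) (Steps.fwd (nat_lit 20480) (Steps.fwd (nat_lit 49152) (Steps.bwd (nat_lit 13) (Steps.fwd (nat_lit 36864) (Steps.bwd (nat_lit 8) (Steps.bwd (nat_lit 1) (Steps.bwd (nat_lit 1) Steps.nil))))))) (nat_lit 32) (nat_lit 3),
  Rule.mk (nat_lit 0) (nat_lit 73) (Steps.fwd (nat_lit 16384) (Steps.bwd (nat_lit 5) (Steps.bwd (nat_lit 4) (Steps.fwd (nat_lit 53248) Steps.nil)))) (nat_lit 12) (nat_lit 0),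
  Rule.mk (nat_lit 8) (nat_lit 73) (Steps.fwd (nat_lit 49152) (Steps.fwd (nat_lit 20480) (Steps.fwd (nat_lit 53248) (Steps.bwd (nat_lit 4) Steps.nil)))) (nat_lit 16) (nat_lit 2),
  Rule.mk (nat_lit 7) (nat_lit 133) (Steps.bwd (nat_lit 9) (Steps.fwd (nat_lit 20480) (Steps.bwd (nat_lit 11) (Steps.fwd (nat_lit 57344) (Steps.fwd (nat_lit 45056) (Steps.bwd (nat_lit 4) (Steps.bwd (nat_lit 7) (Steps.bwd (nat_lit 4) Steps.nil)))))))) (nat_lit 44) (nat_lit 4),
  Rule.mk (nat_lit 1) (nat_lit 88) (Steps.bwd (nat_lit 4) (Steps.fwd (nat_lit 36864) (Steps.bwd (nat_lit 6) (Steps.bwd (nat_lit 1) (Steps.bwd (nat_lit 7) Steps.nil))))) (nat_lit 22) (nat_lit 2),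
  Rule.mk (nat_lit 0) (nat_lit 118) (Steps.bwd (nat_lit 1) (Steps.bwd (nat_lit 1) (Steps.fwd (nat_lit 16384) (Steps.fwd (nat_lit 4096) (Steps.fwd (nat_lit 28672) (Steps.fwd (nat_lit 16384) (Steps.bwd (nat_lit 1) Steps.nil))))))) (nat_lit 29) (nat_lit 4),
  Rule.mk (nat_lit 9) (nat_lit 88) (Steps.bwd (nat_lit 1) (Steps.bwd (nat_lit 3) (Steps.bwd (nat_lit 2) (Steps.fwd (nat_lit 36864) (Steps.fwd (nat_lit 28672) Steps.nil))))) (nat_lit 20) (nat_lit 0),
  Rule.mk (nat_lit 3) (nat_lit 103) (Steps.bwd (nat_lit 1) (Steps.bwd (nat_lit 1) (Steps.bwd (nat_lit 1) (Steps.bwd (nat_lit 3) (Steps.bwd (nat_lit 2) (Steps.bwd (nat_lit 8) Steps.nil)))))) (nat_lit 29) (nat_lit 3),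
  Rule.mk (nat_lit 3) (nat_lit 58) (Steps.bwd (nat_lit 5) (Steps.fwd (nat_lit 12288) (Steps.fwd (nat_lit 53248) Steps.nil))) (nat_lit 12) (nat_lit 1),
  Rule.mk (nat_lit 2) (nat_lit 88) (Steps.fwd (nat_lit 24576) (Steps.bwd (nat_lit 9) (Steps.fwd (nat_lit 16384) (Steps.fwd (nat_lit 4096) (Steps.bwd (nat_lit 8) Steps.nil))))) (nat_lit 23) (nat_lit 1),
  Rule.mk (nat_lit 1) (nat_lit 103) (Steps.fwd (nat_lit 8192) (Steps.fwd (nat_lit 8192) (Steps.fwd (nat_lit 16384) (Steps.fwd (nat_lit 4096) (Steps.bwd (nat_lit 8) (Steps.bwd (nat_lit 3) Steps.nil)))))) (nat_lit 29) (nat_lit 4),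
  Rule.mk (nat_lit 0) (nat_lit 118) (Steps.bwd (nat_lit 1) (Steps.fwd (nat_lit 8192) (Steps.fwd (nat_lit 16384) (Steps.bwd (nat_lit 2) (Steps.bwd (nat_lit 8) (Steps.fwd (nat_lit 16384) (Steps.fwd (nat_lit 8192) Steps.nil))))))) (nat_lit 29) (nat_lit 4),
  Rule.mk (nat_lit 8) (nat_lit 73) (Steps.fwd (nat_lit 16384) (Steps.bwd (nat_lit 5) (Steps.fwd (nat_lit 8192) (Steps.fwd (nat_lit 8192) Steps.nil)))) (nat_lit 15) (nat_lit 4),
  Rule.mk (nat_lit 1) (nat_lit 103) (Steps.bwd (nat_lit 1) (Steps.bwd (nat_lit 1) (Steps.fwd (nat_lit 16384) (Steps.bwd (nat_lit 2) (Steps.bwd (nat_lit 8) (Steps.fwd (nat_lit 16384) Steps.nil)))))) (nat_lit 29) (nat_lit 4),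
  Rule.mk (nat_lit 0) (nat_lit 88) (Steps.bwd (nat_lit 8) (Steps.bwd (nat_lit 3) (Steps.bwd (nat_lit 5) (Steps.fwd (nat_lit 8192) (Steps.bwd (nat_lit 1) Steps.nil))))) (nat_lit 15) (nat_lit 3),
  Rule.mk (nat_lit 2) (nat_lit 148) (Steps.fwd (nat_lit 32768) (Steps.fwd (nat_lit 40960) (Steps.bwd (nat_lit 8) (Steps.bwd (nat_lit 1) (Steps.bwd (nat_lit 1) (Steps.bwd (nat_lit 1) (Steps.fwd (nat_lit 12288) (Steps.fwd (nat_lit 24576) (Steps.fwd (nat_lit 16384) Steps.nil))))))))) (nat_lit 46) (nat_lit 8),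
  Rule.mk (nat_lit 8) (nat_lit 88) (Steps.fwd (nat_lit 40960) (Steps.fwd (nat_lit 8192) (Steps.fwd (nat_lit 16384) (Steps.bwd (nat_lit 2) (Steps.bwd (nat_lit 10) Steps.nil))))) (nat_lit 20) (nat_lit 5),
  Rule.mk (nat_lit 4) (nat_lit 88) (Steps.bwd (nat_lit 2) (Steps.bwd (nat_lit 10) (Steps.fwd (nat_lit 32768) (Steps.fwd (nat_lit 40960) (Steps.bwd (nat_lit 1) Steps.nil))))) (nat_lit 21) (nat_lit 5),
  Rule.mk (nat_lit 5) (nat_lit 88) (Steps.fwd (nat_lit 40960) (Steps.fwd (nat_lit 16384) (Steps.bwd (nat_lit 2) (Steps.bwd (nat_lit 8) (Steps.bwd (nat_lit 2) Steps.nil))))) (nat_lit 23) (nat_lit 2),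
  Rule.mk (nat_lit 11) (nat_lit 73) (Steps.bwd (nat_lit 6) (Steps.fwd (nat_lit 53248) (Steps.fwd (nat_lit 12288) (Steps.bwd (nat_lit 8) Steps.nil)))) (nat_lit 16) (nat_lit 3),
  Rule.mk (nat_lit 13) (nat_lit 88) (Steps.bwd (nat_lit 12) (Steps.bwd (nat_lit 9) (Steps.bwd (nat_lit 11) (Steps.bwd (nat_lit 14) (Steps.bwd (nat_lit 12) Steps.nil))))) (nat_lit 26) (nat_lit 1),
  Rule.mk (nat_lit 11) (nat_lit 88) (Steps.bwd (nat_lit 13) (Steps.bwd (nat_lit 12) (Steps.fwd (nat_lit 36864) (Steps.bwd (nat_lit 11) (Steps.fwd (nat_lit 53248) Steps.nil))))) (nat_lit 27) (nat_lit 1),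
  Rule.mk (nat_lit 14) (nat_lit 73) (Steps.bwd (nat_lit 4) (Steps.bwd (nat_lit 8) (Steps.bwd (nat_lit 11) (Steps.bwd (nat_lit 6) Steps.nil)))) (nat_lit 16) (nat_lit 0),
  Rule.mk (nat_lit 6) (nat_lit 148) (Steps.fwd (nat_lit 49152) (Steps.fwd (nat_lit 57344) (Steps.bwd (nat_lit 5) (Steps.bwd (nat_lit 3) (Steps.fwd (nat_lit 8192) (Steps.fwd (nat_lit 8192) (Steps.bwd (nat_lit 4) (Steps.fwd (nat_lit 53248) (Steps.bwd (nat_lit 12) Steps.nil))))))))) (nat_lit 53) (nat_lit 3),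
  Rule.mk (nat_lit 0) (nat_lit 148) (Steps.fwd (nat_lit 32768) (Steps.bwd (nat_lit 9) (Steps.bwd (nat_lit 6) (Steps.fwd (nat_lit 49152) (Steps.fwd (nat_lit 57344) (Steps.fwd (nat_lit 45056) (Steps.fwd (nat_lit 12288) (Steps.bwd (nat_lit 7) (Steps.bwd (nat_lit 4) Steps.nil))))))))) (nat_lit 44) (nat_lit 3),
  Rule.mk (nat_lit 3) (nat_lit 58) (Steps.fwd (nat_lit 24576) (Steps.bwd (nat_lit 4) (Steps.bwd (nat_lit 14) Steps.nil))) (nat_lit 12) (nat_lit 1),
  Rule.mk (nat_lit 4) (nat_lit 73) (Steps.fwd (nat_lit 28672) (Steps.fwd (nat_lit 49152) (Steps.bwd (nat_lit 6) (Steps.bwd (nat_lit 14) Steps.nil)))) (nat_lit 16) (nat_lit 1),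
  Rule.mk (nat_lit 11) (nat_lit 148) (Steps.bwd (nat_lit 13) (Steps.bwd (nat_lit 3) (Steps.bwd (nat_lit 2) (Steps.fwd (nat_lit 4096) (Steps.bwd (nat_lit 4) (Steps.bwd (nat_lit 6) (Steps.bwd (nat_lit 14) (Steps.bwd (nat_lit 12) (Steps.bwd (nat_lit 5) Steps.nil))))))))) (nat_lit 52) (nat_lit 9),
  Rule.mk (nat_lit 0) (nat_lit 88) (Steps.bwd (nat_lit 3) (Steps.fwd (nat_lit 24576) (Steps.bwd (nat_lit 1) (Steps.fwd (nat_lit 8192) (Steps.bwd (nat_lit 8) Steps.nil))))) (nat_lit 15) (nat_lit 4),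
  Rule.mk (nat_lit 2) (nat_lit 88) (Steps.bwd (nat_lit 10) (Steps.fwd (nat_lit 28672) (Steps.fwd (nat_lit 40960) (Steps.fwd (nat_lit 8192) (Steps.fwd (nat_lit 16384) Steps.nil))))) (nat_lit 20) (nat_lit 3),
  Rule.mk (nat_lit 1) (nat_lit 88) (Steps.bwd (nat_lit 4) (Steps.bwd (nat_lit 2) (Steps.bwd (nat_lit 10) (Steps.bwd (nat_lit 7) (Steps.bwd (nat_lit 9) Steps.nil))))) (nat_lit 21) (nat_lit 4),
  Rule.mk (nat_lit 11) (nat_lit 88) (Steps.bwd (nat_lit 13) (Steps.fwd (nat_lit 45056) (Steps.fwd (nat_lit 36864) (Steps.bwd (nat_lit 11) (Steps.fwd (nat_lit 53248) Steps.nil))))) (nat_lit 27) (nat_lit 1),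
  Rule.mk (nat_lit 5) (nat_lit 73) (Steps.bwd (nat_lit 11) (Steps.fwd (nat_lit 24576) (Steps.bwd (nat_lit 10) (Steps.fwd (nat_lit 49152) Steps.nil)))) (nat_lit 18) (nat_lit 2),
  Rule.mk (nat_lit 10) (nat_lit 88) (Steps.bwd (nat_lit 11) (Steps.fwd (nat_lit 53248) (Steps.bwd (nat_lit 11) (Steps.bwd (nat_lit 13) (Steps.bwd (nat_lit 12) Steps.nil))))) (nat_lit 27) (nat_lit 4),
  Rule.mk (nat_lit 0) (nat_lit 163) (Steps.fwd (nat_lit 49152) (Steps.fwd (nat_lit 53248) (Steps.bwd (nat_lit 11) (Steps.fwd (nat_lit 53248) (Steps.bwd (nat_lit 11) (Steps.fwd (nat_lit 53248) (Steps.bwd (nat_lit 11) (Steps.bwd (nat_lit 14) (Steps.fwd (nat_lit 49152) (Steps.bwd (nat_lit 14) Steps.nil)))))))))) (nat_lit 51) (nat_lit 1),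
  Rule.mk (nat_lit 6) (nat_lit 73) (Steps.bwd (nat_lit 14) (Steps.fwd (nat_lit 12288) (Steps.bwd (nat_lit 8) (Steps.bwd (nat_lit 11) Steps.nil)))) (nat_lit 16) (nat_lit 4),
  Rule.mk (nat_lit 9) (nat_lit 88) (Steps.bwd (nat_lit 6) (Steps.bwd (nat_lit 14) (Steps.fwd (nat_lit 45056) (Steps.fwd (nat_lit 57344) (Steps.fwd (nat_lit 24576) Steps.nil))))) (nat_lit 24) (nat_lit 1),
  Rule.mk (nat_lit 13) (nat_lit 118) (Steps.bwd (nat_lit 9) (Steps.bwd (nat_lit 14) (Steps.bwd (nat_lit 11) (Steps.fwd (nat_lit 57344) (Steps.bwd (nat_lit 9) (Steps.fwd (nat_lit 53248) (Steps.fwd (nat_lit 49152) Steps.nil))))))) (nat_lit 36) (nat_lit 0),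
  Rule.mk (nat_lit 0) (nat_lit 133) (Steps.bwd (nat_lit 10) (Steps.bwd (nat_lit 14) (Steps.bwd (nat_lit 12) (Steps.bwd (nat_lit 13) (Steps.bwd (nat_lit 10) (Steps.bwd (nat_lit 14) (Steps.fwd (nat_lit 45056) (Steps.fwd (nat_lit 57344) Steps.nil)))))))) (nat_lit 37) (nat_lit 3),
  Rule.mk (nat_lit 0) (nat_lit 88) (Steps.bwd (nat_lit 12) (Steps.fwd (nat_lit 32768) (Steps.fwd (nat_lit 16384) (Steps.fwd (nat_lit 57344) (Steps.bwd (nat_lit 5) Steps.nil))))) (nat_lit 17) (nat_lit 2),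
  Rule.mk (nat_lit 7) (nat_lit 103) (Steps.fwd (nat_lit 8192) (Steps.fwd (nat_lit 12288) (Steps.bwd (nat_lit 2) (Steps.bwd (nat_lit 2) (Steps.bwd (nat_lit 2) (Steps.fwd (nat_lit 12288) Steps.nil)))))) (nat_lit 28) (nat_lit 6),
  Rule.mk (nat_lit 13) (nat_lit 58) (Steps.fwd (nat_lit 16384) (Steps.bwd (nat_lit 6) (Steps.fwd (nat_lit 12288) Steps.nil))) (nat_lit 13) (nat_lit 1),
  Rule.mk (nat_lit 0) (nat_lit 58) (Steps.bwd (nat_lit 9) (Steps.bwd (nat_lit 9) (Steps.fwd (nat_lit 40960) Steps.nil))) (nat_lit 6) (nat_lit 0),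
  Rule.mk (nat_lit 2) (nat_lit 88) (Steps.fwd (nat_lit 36864) (Steps.fwd (nat_lit 32768) (Steps.fwd (nat_lit 40960) (Steps.fwd (nat_lit 8192) (Steps.bwd (nat_lit 4) Steps.nil))))) (nat_lit 21) (nat_lit 0)]
noncomputable def R_21 : List (Rule) := [Rule.mk (nat_lit 0) (nat_lit 133) (Steps.fwd (nat_lit 32768) (Steps.fwd (nat_lit 40960) (Steps.bwd (nat_lit 14) (Steps.bwd (nat_lit 12) (Steps.fwd (nat_lit 24576) (Steps.bwd (nat_lit 3) (Steps.fwd (nat_lit 4096) (Steps.bwd (nat_lit 2) Steps.nil)))))))) (nat_lit 33) (nat_lit 0),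
  Rule.mk (nat_lit 3) (nat_lit 88) (Steps.bwd (nat_lit 2) (Steps.bwd (nat_lit 8) (Steps.bwd (nat_lit 2) (Steps.fwd (nat_lit 24576) (Steps.bwd (nat_lit 9) Steps.nil))))) (nat_lit 23) (nat_lit 4),
  Rule.mk (nat_lit 9) (nat_lit 88) (Steps.fwd (nat_lit 20480) (Steps.fwd (nat_lit 53248) (Steps.fwd (nat_lit 45056) (Steps.fwd (nat_lit 57344) (Steps.bwd (nat_lit 5) Steps.nil))))) (nat_lit 24) (nat_lit 1),
  Rule.mk (nat_lit 2) (nat_lit 88) (Steps.bwd (nat_lit 5) (Steps.bwd (nat_lit 9) (Steps.bwd (nat_lit 3) (Steps.bwd (nat_lit 2) (Steps.fwd (nat_lit 28672) Steps.nil))))) (nat_lit 23) (nat_lit 1),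
  Rule.mk (nat_lit 7) (nat_lit 88) (Steps.bwd (nat_lit 9) (Steps.fwd (nat_lit 8192) (Steps.fwd (nat_lit 12288) (Steps.bwd (nat_lit 2) (Steps.fwd (nat_lit 36864) Steps.nil))))) (nat_lit 21) (nat_lit 2),
  Rule.mk (nat_lit 5) (nat_lit 58) (Steps.bwd (nat_lit 4) (Steps.bwd (nat_lit 14) (Steps.fwd (nat_lit 16384) Steps.nil))) (nat_lit 12) (nat_lit 2),
  Rule.mk (nat_lit 4) (nat_lit 103) (Steps.fwd (nat_lit 4096) (Steps.bwd (nat_lit 2) (Steps.bwd (nat_lit 2) (Steps.bwd (nat_lit 4) (Steps.bwd (nat_lit 7) (Steps.fwd (nat_lit 8192) Steps.nil)))))) (nat_lit 28) (nat_lit 1),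
  Rule.mk (nat_lit 6) (nat_lit 133) (Steps.fwd (nat_lit 49152) (Steps.bwd (nat_lit 13) (Steps.fwd (nat_lit 45056) (Steps.bwd (nat_lit 4) (Steps.fwd (nat_lit 32768) (Steps.bwd (nat_lit 4) (Steps.fwd (nat_lit 32768) (Steps.fwd (nat_lit 40960) Steps.nil)))))))) (nat_lit 44) (nat_lit 6),
  Rule.mk (nat_lit 4) (nat_lit 133) (Steps.fwd (nat_lit 32768) (Steps.fwd (nat_lit 40960) (Steps.fwd (nat_lit 20480) (Steps.fwd (nat_lit 49152) (Steps.fwd (nat_lit 57344) (Steps.fwd (nat_lit 45056) (Steps.bwd (nat_lit 4) (Steps.fwd (nat_lit 32768) Steps.nil)))))))) (nat_lit 44) (nat_lit 3),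
  Rule.mk (nat_lit 6) (nat_lit 73) (Steps.bwd (nat_lit 12) (Steps.bwd (nat_lit 6) (Steps.bwd (nat_lit 12) (Steps.fwd (nat_lit 40960) Steps.nil)))) (nat_lit 19) (nat_lit 2),
  Rule.mk (nat_lit 0) (nat_lit 118) (Steps.fwd (nat_lit 4096) (Steps.bwd (nat_lit 3) (Steps.bwd (nat_lit 9) (Steps.bwd (nat_lit 7) (Steps.fwd (nat_lit 24576) (Steps.bwd (nat_lit 13) (Steps.bwd (nat_lit 11) Steps.nil))))))) (nat_lit 30) (nat_lit 1),
  Rule.mk (nat_lit 0) (nat_lit 58) (Steps.fwd (nat_lit 32768) (Steps.bwd (nat_lit 7) (Steps.fwd (nat_lit 32768) Steps.nil))) (nat_lit 4) (nat_lit 0),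
  Rule.mk (nat_lit 11) (nat_lit 118) (Steps.bwd (nat_lit 13) (Steps.fwd (nat_lit 32768) (Steps.bwd (nat_lit 9) (Steps.fwd (nat_lit 49152) (Steps.bwd (nat_lit 13) (Steps.bwd (nat_lit 7) (Steps.bwd (nat_lit 9) Steps.nil))))))) (nat_lit 41) (nat_lit 2),
  Rule.mk (nat_lit 5) (nat_lit 73) (Steps.fwd (nat_lit 49152) (Steps.bwd (nat_lit 5) (Steps.bwd (nat_lit 10) (Steps.bwd (nat_lit 11) Steps.nil)))) (nat_lit 18) (nat_lit 2),
  Rule.mk (nat_lit 0) (nat_lit 73) (Steps.fwd (nat_lit 57344) (Steps.fwd (nat_lit 16384) (Steps.bwd (nat_lit 6) (Steps.bwd (nat_lit 4) Steps.nil)))) (nat_lit 13) (nat_lit 0),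
  Rule.mk (nat_lit 14) (nat_lit 88) (Steps.bwd (nat_lit 11) (Steps.bwd (nat_lit 13) (Steps.fwd (nat_lit 24576) (Steps.fwd (nat_lit 36864) (Steps.bwd (nat_lit 6) Steps.nil))))) (nat_lit 25) (nat_lit 2),
  Rule.mk (nat_lit 0) (nat_lit 103) (Steps.bwd (nat_lit 5) (Steps.bwd (nat_lit 10) (Steps.fwd (nat_lit 20480) (Steps.bwd (nat_lit 14) (Steps.fwd (nat_lit 49152) (Steps.bwd (nat_lit 13) Steps.nil)))))) (nat_lit 25) (nat_lit 4),
  Rule.mk (nat_lit 14) (nat_lit 148) (Steps.fwd (nat_lit 49152) (Steps.fwd (nat_lit 53248) (Steps.bwd (nat_lit 11) (Steps.bwd (nat_lit 14) (Steps.bwd (nat_lit 11) (Steps.bwd (nat_lit 14) (Steps.fwd (nat_lit 49152) (Steps.fwd (nat_lit 53248) (Steps.fwd (nat_lit 49152) Steps.nil))))))))) (nat_lit 51) (nat_lit 1),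
  Rule.mk (nat_lit 11) (nat_lit 73) (Steps.bwd (nat_lit 6) (Steps.bwd (nat_lit 14) (Steps.fwd (nat_lit 12288) (Steps.fwd (nat_lit 28672) Steps.nil)))) (nat_lit 16) (nat_lit 3),
  Rule.mk (nat_lit 0) (nat_lit 103) (Steps.bwd (nat_lit 13) (Steps.fwd (nat_lit 24576) (Steps.fwd (nat_lit 40960) (Steps.bwd (nat_lit 6) (Steps.bwd (nat_lit 14) (Steps.fwd (nat_lit 45056) Steps.nil)))))) (nat_lit 24) (nat_lit 4),
  Rule.mk (nat_lit 1) (nat_lit 73) (Steps.fwd (nat_lit 28672) (Steps.bwd (nat_lit 3) (Steps.fwd (nat_lit 24576) (Steps.fwd (nat_lit 8192) Steps.nil)))) (nat_lit 15) (nat_lit 3),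
  Rule.mk (nat_lit 10) (nat_lit 88) (Steps.fwd (nat_lit 20480) (Steps.bwd (nat_lit 1) (Steps.bwd (nat_lit 7) (Steps.bwd (nat_lit 1) (Steps.bwd (nat_lit 4) Steps.nil))))) (nat_lit 22) (nat_lit 4),
  Rule.mk (nat_lit 4) (nat_lit 118) (Steps.fwd (nat_lit 20480) (Steps.bwd (nat_lit 11) (Steps.fwd (nat_lit 57344) (Steps.bwd (nat_lit 10) (Steps.bwd (nat_lit 8) (Steps.fwd (nat_lit 8192) (Steps.bwd (nat_lit 1) Steps.nil))))))) (nat_lit 32) (nat_lit 3),
  Rule.mk (nat_lit 9) (nat_lit 148) (Steps.fwd (nat_lit 28672) (Steps.bwd (nat_lit 1) (Steps.fwd (nat_lit 8192) (Steps.bwd (nat_lit 1) (Steps.bwd (nat_lit 4) (Steps.bwd (nat_lit 5) (Steps.fwd (nat_lit 16384) (Steps.fwd (nat_lit 4096) (Steps.bwd (nat_lit 7) Steps.nil))))))))) (nat_lit 46) (nat_lit 0),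
  Rule.mk (nat_lit 1) (nat_lit 73) (Steps.bwd (nat_lit 8) (Steps.bwd (nat_lit 3) (Steps.fwd (nat_lit 24576) (Steps.bwd (nat_lit 1) Steps.nil)))) (nat_lit 15) (nat_lit 3),
  Rule.mk (nat_lit 0) (nat_lit 103) (Steps.fwd (nat_lit 12288) (Steps.bwd (nat_lit 10) (Steps.fwd (nat_lit 20480) (Steps.fwd (nat_lit 8192) (Steps.bwd (nat_lit 7) (Steps.bwd (nat_lit 1) Steps.nil)))))) (nat_lit 22) (nat_lit 2),
  Rule.mk (nat_lit 0) (nat_lit 118) (Steps.bwd (nat_lit 1) (Steps.fwd (nat_lit 16384) (Steps.bwd (nat_lit 2) (Steps.fwd (nat_lit 28672) (Steps.fwd (nat_lit 16384) (Steps.fwd (nat_lit 8192) (Steps.bwd (nat_lit 1) Steps.nil))))))) (nat_lit 29) (nat_lit 5),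
  Rule.mk (nat_lit 0) (nat_lit 58) (Steps.fwd (nat_lit 12288) (Steps.fwd (nat_lit 12288) (Steps.bwd (nat_lit 4) Steps.nil))) (nat_lit 1) (nat_lit 0),
  Rule.mk (nat_lit 1) (nat_lit 88) (Steps.bwd (nat_lit 3) (Steps.fwd (nat_lit 4096) (Steps.fwd (nat_lit 36864) (Steps.fwd (nat_lit 28672) (Steps.bwd (nat_lit 9) Steps.nil))))) (nat_lit 20) (nat_lit 1),
  Rule.mk (nat_lit 6) (nat_lit 118) (Steps.fwd (nat_lit 49152) (Steps.bwd (nat_lit 5) (Steps.bwd (nat_lit 3) (Steps.fwd (nat_lit 20480) (Steps.bwd (nat_lit 11) (Steps.fwd (nat_lit 24576) (Steps.bwd (nat_lit 3) Steps.nil))))))) (nat_lit 34) (nat_lit 2),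
  Rule.mk (nat_lit 0) (nat_lit 148) (Steps.fwd (nat_lit 49152) (Steps.bwd (nat_lit 13) (Steps.fwd (nat_lit 45056) (Steps.fwd (nat_lit 12288) (Steps.fwd (nat_lit 32768) (Steps.fwd (nat_lit 12288) (Steps.fwd (nat_lit 32768) (Steps.fwd (nat_lit 40960) (Steps.bwd (nat_lit 6) Steps.nil))))))))) (nat_lit 44) (nat_lit 6),
  Rule.mk (nat_lit 9) (nat_lit 88) (Steps.bwd (nat_lit 6) (Steps.fwd (nat_lit 53248) (Steps.bwd (nat_lit 12) (Steps.fwd (nat_lit 57344) (Steps.bwd (nat_lit 5) Steps.nil))))) (nat_lit 24) (nat_lit 1),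
  Rule.mk (nat_lit 0) (nat_lit 118) (Steps.bwd (nat_lit 3) (Steps.bwd (nat_lit 2) (Steps.bwd (nat_lit 8) (Steps.fwd (nat_lit 16384) (Steps.fwd (nat_lit 8192) (Steps.fwd (nat_lit 8192) (Steps.bwd (nat_lit 1) Steps.nil))))))) (nat_lit 29) (nat_lit 6),
  Rule.mk (nat_lit 12) (nat_lit 73) (Steps.bwd (nat_lit 9) (Steps.fwd (nat_lit 20480) (Steps.bwd (nat_lit 12) (Steps.bwd (nat_lit 6) Steps.nil)))) (nat_lit 19) (nat_lit 0),
  Rule.mk (nat_lit 0) (nat_lit 118) (Steps.bwd (nat_lit 12) (Steps.bwd (nat_lit 14) (Steps.bwd (nat_lit 6) (Steps.bwd (nat_lit 8) (Steps.fwd (nat_lit 36864) (Steps.bwd (nat_lit 4) (Steps.bwd (nat_lit 1) Steps.nil))))))) (nat_lit 31) (nat_lit 6),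
  Rule.mk (nat_lit 0) (nat_lit 88) (Steps.bwd (nat_lit 10) (Steps.fwd (nat_lit 49152) (Steps.fwd (nat_lit 24576) (Steps.bwd (nat_lit 11) (Steps.fwd (nat_lit 24576) Steps.nil))))) (nat_lit 18) (nat_lit 4),
  Rule.mk (nat_lit 5) (nat_lit 103) (Steps.bwd (nat_lit 13) (Steps.fwd (nat_lit 49152) (Steps.bwd (nat_lit 2) (Steps.bwd (nat_lit 3) (Steps.fwd (nat_lit 40960) (Steps.bwd (nat_lit 7) Steps.nil)))))) (nat_lit 30) (nat_lit 6),
  Rule.mk (nat_lit 10) (nat_lit 88) (Steps.bwd (nat_lit 6) (Steps.fwd (nat_lit 53248) (Steps.bwd (nat_lit 11) (Steps.fwd (nat_lit 57344) (Steps.bwd (nat_lit 5) Steps.nil))))) (nat_lit 25) (nat_lit 0),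
  Rule.mk (nat_lit 0) (nat_lit 163) (Steps.fwd (nat_lit 12288) (Steps.fwd (nat_lit 24576) (Steps.bwd (nat_lit 3) (Steps.fwd (nat_lit 4096) (Steps.bwd (nat_lit 7) (Steps.bwd (nat_lit 9) (Steps.fwd (nat_lit 28672) (Steps.fwd (nat_lit 8192) (Steps.bwd (nat_lit 1) (Steps.fwd (nat_lit 8192) Steps.nil)))))))))) (nat_lit 46) (nat_lit 4),
  Rule.mk (nat_lit 9) (nat_lit 118) (Steps.bwd (nat_lit 14) (Steps.bwd (nat_lit 12) (Steps.bwd (nat_lit 5) (Steps.bwd (nat_lit 3) (Steps.bwd (nat_lit 2) (Steps.bwd (nat_lit 2) (Steps.bwd (nat_lit 7) Steps.nil))))))) (nat_lit 33) (nat_lit 2),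
  Rule.mk (nat_lit 14) (nat_lit 118) (Steps.fwd (nat_lit 36864) (Steps.fwd (nat_lit 28672) (Steps.bwd (nat_lit 9) (Steps.bwd (nat_lit 14) (Steps.bwd (nat_lit 10) (Steps.bwd (nat_lit 8) (Steps.fwd (nat_lit 40960) Steps.nil))))))) (nat_lit 39) (nat_lit 0),
  Rule.mk (nat_lit 0) (nat_lit 133) (Steps.fwd (nat_lit 36864) (Steps.fwd (nat_lit 28672) (Steps.fwd (nat_lit 40960) (Steps.fwd (nat_lit 53248) (Steps.fwd (nat_lit 36864) (Steps.fwd (nat_lit 28672) (Steps.fwd (nat_lit 40960) (Steps.fwd (nat_lit 53248) Steps.nil)))))))) (nat_lit 39) (nat_lit 0),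
  Rule.mk (nat_lit 0) (nat_lit 103) (Steps.bwd (nat_lit 13) (Steps.bwd (nat_lit 12) (Steps.fwd (nat_lit 36864) (Steps.fwd (nat_lit 49152) (Steps.fwd (nat_lit 53248) (Steps.fwd (nat_lit 49152) Steps.nil)))))) (nat_lit 27) (nat_lit 1),
  Rule.mk (nat_lit 8) (nat_lit 148) (Steps.bwd (nat_lit 9) (Steps.fwd (nat_lit 28672) (Steps.fwd (nat_lit 40960) (Steps.bwd (nat_lit 8) (Steps.bwd (nat_lit 9) (Steps.fwd (nat_lit 28672) (Steps.fwd (nat_lit 40960) (Steps.fwd (nat_lit 28672) (Steps.bwd (nat_lit 9) Steps.nil))))))))) (nat_lit 48) (nat_lit 1),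
  Rule.mk (nat_lit 0) (nat_lit 88) (Steps.bwd (nat_lit 5) (Steps.bwd (nat_lit 1) (Steps.bwd (nat_lit 1) (Steps.bwd (nat_lit 8) (Steps.fwd (nat_lit 16384) Steps.nil))))) (nat_lit 15) (nat_lit 0),
  Rule.mk (nat_lit 0) (nat_lit 58) (Steps.fwd (nat_lit 16384) (Steps.bwd (nat_lit 0) (Steps.fwd (nat_lit 12288) Steps.nil))) (nat_lit 56) (nat_lit 0),
  Rule.mk (nat_lit 0) (nat_lit 73) (Steps.fwd (nat_lit 24576) (Steps.fwd (nat_lit 0) (Steps.bwd (nat_lit 6) (Steps.fwd (nat_lit 0) Steps.nil)))) (nat_lit 56) (nat_lit 0),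
  Rule.mk (nat_lit 14) (nat_lit 148) (Steps.fwd (nat_lit 49152) (Steps.fwd (nat_lit 53248) (Steps.bwd (nat_lit 11) (Steps.bwd (nat_lit 14) (Steps.fwd (nat_lit 49152) (Steps.fwd (nat_lit 53248) (Steps.fwd (nat_lit 49152) (Steps.bwd (nat_lit 14) (Steps.fwd (nat_lit 49152) Steps.nil))))))))) (nat_lit 51) (nat_lit 1),
  Rule.mk (nat_lit 10) (nat_lit 88) (Steps.fwd (nat_lit 49152) (Steps.bwd (nat_lit 14) (Steps.fwd (nat_lit 49152) (Steps.bwd (nat_lit 13) (Steps.fwd (nat_lit 45056) Steps.nil))))) (nat_lit 27) (nat_lit 4),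
  Rule.mk (nat_lit 6) (nat_lit 73) (Steps.bwd (nat_lit 4) (Steps.fwd (nat_lit 32768) (Steps.bwd (nat_lit 2) (Steps.fwd (nat_lit 4096) Steps.nil)))) (nat_lit 14) (nat_lit 0),
  Rule.mk (nat_lit 0) (nat_lit 103) (Steps.bwd (nat_lit 10) (Steps.bwd (nat_lit 8) (Steps.fwd (nat_lit 40960) (Steps.fwd (nat_lit 8192) (Steps.fwd (nat_lit 16384) (Steps.fwd (nat_lit 4096) Steps.nil)))))) (nat_lit 20) (nat_lit 3),
  Rule.mk (nat_lit 4) (nat_lit 103) (Steps.fwd (nat_lit 4096) (Steps.fwd (nat_lit 4096) (Steps.fwd (nat_lit 4096) (Steps.bwd (nat_lit 4) (Steps.fwd (nat_lit 32768) (Steps.fwd (nat_lit 8192) Steps.nil)))))) (nat_lit 28) (nat_lit 1),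
  Rule.mk (nat_lit 4) (nat_lit 103) (Steps.bwd (nat_lit 7) (Steps.bwd (nat_lit 1) (Steps.bwd (nat_lit 4) (Steps.bwd (nat_lit 2) (Steps.fwd (nat_lit 4096) (Steps.fwd (nat_lit 4096) Steps.nil)))))) (nat_lit 28) (nat_lit 5),
  Rule.mk (nat_lit 3) (nat_lit 148) (Steps.fwd (nat_lit 4096) (Steps.fwd (nat_lit 4096) (Steps.bwd (nat_lit 4) (Steps.bwd (nat_lit 6) (Steps.fwd (nat_lit 53248) (Steps.bwd (nat_lit 12) (Steps.bwd (nat_lit 5) (Steps.fwd (nat_lit 49152) (Steps.bwd (nat_lit 13) Steps.nil))))))))) (nat_lit 52) (nat_lit 1),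
  Rule.mk (nat_lit 6) (nat_lit 73) (Steps.bwd (nat_lit 4) (Steps.bwd (nat_lit 7) (Steps.fwd (nat_lit 4096) (Steps.bwd (nat_lit 2) Steps.nil)))) (nat_lit 14) (nat_lit 0),
  Rule.mk (nat_lit 14) (nat_lit 118) (Steps.bwd (nat_lit 12) (Steps.fwd (nat_lit 24576) (Steps.fwd (nat_lit 16384) (Steps.fwd (nat_lit 4096) (Steps.fwd (nat_lit 4096) (Steps.bwd (nat_lit 7) (Steps.fwd (nat_lit 40960) Steps.nil))))))) (nat_lit 33) (nat_lit 3),
  Rule.mk (nat_lit 8) (nat_lit 73) (Steps.fwd (nat_lit 49152) (Steps.fwd (nat_lit 20480) (Steps.bwd (nat_lit 14) (Steps.bwd (nat_lit 4) Steps.nil)))) (nat_lit 16) (nat_lit 2),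
  Rule.mk (nat_lit 10) (nat_lit 88) (Steps.bwd (nat_lit 6) (Steps.fwd (nat_lit 8192) (Steps.fwd (nat_lit 32768) (Steps.fwd (nat_lit 8192) (Steps.bwd (nat_lit 4) Steps.nil))))) (nat_lit 22) (nat_lit 4),
  Rule.mk (nat_lit 12) (nat_lit 148) (Steps.bwd (nat_lit 6) (Steps.bwd (nat_lit 11) (Steps.fwd (nat_lit 57344) (Steps.fwd (nat_lit 24576) (Steps.fwd (nat_lit 16384) (Steps.fwd (nat_lit 8192) (Steps.fwd (nat_lit 8192) (Steps.bwd (nat_lit 4) (Steps.bwd (nat_lit 14) Steps.nil))))))))) (nat_lit 53) (nat_lit 2),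
  Rule.mk (nat_lit 11) (nat_lit 88) (Steps.bwd (nat_lit 14) (Steps.bwd (nat_lit 12) (Steps.fwd (nat_lit 57344) (Steps.bwd (nat_lit 12) (Steps.fwd (nat_lit 40960) Steps.nil))))) (nat_lit 26) (nat_lit 4),
  Rule.mk (nat_lit 7) (nat_lit 88) (Steps.fwd (nat_lit 8192) (Steps.bwd (nat_lit 4) (Steps.fwd (nat_lit 36864) (Steps.bwd (nat_lit 6) (Steps.bwd (nat_lit 1) Steps.nil))))) (nat_lit 22) (nat_lit 1),
  Rule.mk (nat_lit 4) (nat_lit 103) (Steps.bwd (nat_lit 7) (Steps.fwd (nat_lit 8192) (Steps.bwd (nat_lit 4) (Steps.fwd (nat_lit 4096) (Steps.fwd (nat_lit 4096) (Steps.fwd (nat_lit 4096) Steps.nil)))))) (nat_lit 28) (nat_lit 5),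
  Rule.mk (nat_lit 0) (nat_lit 118) (Steps.bwd (nat_lit 4) (Steps.fwd (nat_lit 32768) (Steps.fwd (nat_lit 8192) (Steps.bwd (nat_lit 4) (Steps.fwd (nat_lit 4096) (Steps.fwd (nat_lit 4096) (Steps.fwd (nat_lit 4096) Steps.nil))))))) (nat_lit 28) (nat_lit 4),
  Rule.mk (nat_lit 2) (nat_lit 103) (Steps.fwd (nat_lit 4096) (Steps.bwd (nat_lit 2) (Steps.bwd (nat_lit 4) (Steps.fwd (nat_lit 32768) (Steps.fwd (nat_lit 8192) (Steps.bwd (nat_lit 4) Steps.nil)))))) (nat_lit 28) (nat_lit 2)]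
noncomputable def R_22 : List (Rule) := [Rule.mk (nat_lit 5) (nat_lit 118) (Steps.fwd (nat_lit 8192) (Steps.fwd (nat_lit 36864) (Steps.fwd (nat_lit 28672) (Steps.bwd (nat_lit 2) (Steps.fwd (nat_lit 4096) (Steps.bwd (nat_lit 7) (Steps.bwd (nat_lit 2) Steps.nil))))))) (nat_lit 42) (nat_lit 1),
  Rule.mk (nat_lit 8) (nat_lit 148) (Steps.bwd (nat_lit 1) (Steps.bwd (nat_lit 1) (Steps.bwd (nat_lit 1) (Steps.bwd (nat_lit 4) (Steps.fwd (nat_lit 24576) (Steps.fwd (nat_lit 16384) (Steps.bwd (nat_lit 2) (Steps.fwd (nat_lit 32768) (Steps.bwd (nat_lit 9) Steps.nil))))))))) (nat_lit 46) (nat_lit 1),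
  Rule.mk (nat_lit 5) (nat_lit 88) (Steps.fwd (nat_lit 40960) (Steps.fwd (nat_lit 16384) (Steps.fwd (nat_lit 4096) (Steps.bwd (nat_lit 8) (Steps.fwd (nat_lit 4096) Steps.nil))))) (nat_lit 23) (nat_lit 2),
  Rule.mk (nat_lit 13) (nat_lit 73) (Steps.bwd (nat_lit 5) (Steps.fwd (nat_lit 45056) (Steps.bwd (nat_lit 7) (Steps.fwd (nat_lit 16384) Steps.nil)))) (nat_lit 17) (nat_lit 1),
  Rule.mk (nat_lit 11) (nat_lit 73) (Steps.bwd (nat_lit 5) (Steps.bwd (nat_lit 11) (Steps.bwd (nat_lit 5) (Steps.bwd (nat_lit 10) Steps.nil)))) (nat_lit 18) (nat_lit 1),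
  Rule.mk (nat_lit 0) (nat_lit 133) (Steps.bwd (nat_lit 13) (Steps.fwd (nat_lit 36864) (Steps.fwd (nat_lit 28672) (Steps.bwd (nat_lit 1) (Steps.fwd (nat_lit 8192) (Steps.fwd (nat_lit 12288) (Steps.bwd (nat_lit 6) (Steps.bwd (nat_lit 11) Steps.nil)))))))) (nat_lit 32) (nat_lit 5),
  Rule.mk (nat_lit 8) (nat_lit 103) (Steps.bwd (nat_lit 10) (Steps.bwd (nat_lit 4) (Steps.fwd (nat_lit 8192) (Steps.fwd (nat_lit 45056) (Steps.bwd (nat_lit 14) (Steps.fwd (nat_lit 20480) Steps.nil)))))) (nat_lit 31) (nat_lit 3),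
  Rule.mk (nat_lit 1) (nat_lit 103) (Steps.fwd (nat_lit 8192) (Steps.bwd (nat_lit 1) (Steps.fwd (nat_lit 16384) (Steps.fwd (nat_lit 4096) (Steps.bwd (nat_lit 8) (Steps.bwd (nat_lit 3) Steps.nil)))))) (nat_lit 29) (nat_lit 4),
  Rule.mk (nat_lit 0) (nat_lit 133) (Steps.bwd (nat_lit 14) (Steps.fwd (nat_lit 45056) (Steps.bwd (nat_lit 10) (Steps.bwd (nat_lit 8) (Steps.bwd (nat_lit 14) (Steps.fwd (nat_lit 45056) (Steps.bwd (nat_lit 10) (Steps.bwd (nat_lit 8) Steps.nil)))))))) (nat_lit 40) (nat_lit 1),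
  Rule.mk (nat_lit 3) (nat_lit 88) (Steps.fwd (nat_lit 4096) (Steps.fwd (nat_lit 28672) (Steps.fwd (nat_lit 4096) (Steps.bwd (nat_lit 5) (Steps.bwd (nat_lit 9) Steps.nil))))) (nat_lit 23) (nat_lit 4),
  Rule.mk (nat_lit 6) (nat_lit 148) (Steps.bwd (nat_lit 3) (Steps.fwd (nat_lit 4096) (Steps.bwd (nat_lit 2) (Steps.bwd (nat_lit 2) (Steps.fwd (nat_lit 32768) (Steps.fwd (nat_lit 36864) (Steps.fwd (nat_lit 28672) (Steps.bwd (nat_lit 1) (Steps.fwd (nat_lit 12288) Steps.nil))))))))) (nat_lit 47) (nat_lit 5),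
  Rule.mk (nat_lit 0) (nat_lit 73) (Steps.fwd (nat_lit 53248) (Steps.bwd (nat_lit 3) (Steps.fwd (nat_lit 24576) (Steps.fwd (nat_lit 12288) Steps.nil)))) (nat_lit 12) (nat_lit 3),
  Rule.mk (nat_lit 9) (nat_lit 88) (Steps.bwd (nat_lit 6) (Steps.bwd (nat_lit 14) (Steps.bwd (nat_lit 12) (Steps.fwd (nat_lit 57344) (Steps.fwd (nat_lit 24576) Steps.nil))))) (nat_lit 24) (nat_lit 1),
  Rule.mk (nat_lit 10) (nat_lit 88) (Steps.bwd (nat_lit 6) (Steps.bwd (nat_lit 14) (Steps.bwd (nat_lit 11) (Steps.bwd (nat_lit 13) (Steps.fwd (nat_lit 24576) Steps.nil))))) (nat_lit 25) (nat_lit 0),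
  Rule.mk (nat_lit 1) (nat_lit 88) (Steps.bwd (nat_lit 3) (Steps.fwd (nat_lit 4096) (Steps.bwd (nat_lit 10) (Steps.bwd (nat_lit 8) (Steps.bwd (nat_lit 9) Steps.nil))))) (nat_lit 20) (nat_lit 1),
  Rule.mk (nat_lit 4) (nat_lit 88) (Steps.fwd (nat_lit 4096) (Steps.fwd (nat_lit 36864) (Steps.fwd (nat_lit 32768) (Steps.bwd (nat_lit 9) (Steps.bwd (nat_lit 1) Steps.nil))))) (nat_lit 21) (nat_lit 5),
  Rule.mk (nat_lit 2) (nat_lit 88) (Steps.fwd (nat_lit 24576) (Steps.bwd (nat_lit 9) (Steps.bwd (nat_lit 3) (Steps.fwd (nat_lit 4096) (Steps.bwd (nat_lit 8) Steps.nil))))) (nat_lit 23) (nat_lit 1),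
  Rule.mk (nat_lit 8) (nat_lit 73) (Steps.bwd (nat_lit 3) (Steps.fwd (nat_lit 24576) (Steps.bwd (nat_lit 1) (Steps.fwd (nat_lit 8192) Steps.nil)))) (nat_lit 15) (nat_lit 4),
  Rule.mk (nat_lit 6) (nat_lit 118) (Steps.fwd (nat_lit 8192) (Steps.bwd (nat_lit 8) (Steps.fwd (nat_lit 8192) (Steps.fwd (nat_lit 8192) (Steps.fwd (nat_lit 32768) (Steps.bwd (nat_lit 9) (Steps.bwd (nat_lit 2) Steps.nil))))))) (nat_lit 43) (nat_lit 0),
  Rule.mk (nat_lit 0) (nat_lit 163) (Steps.bwd (nat_lit 8) (Steps.fwd (nat_lit 8192) (Steps.fwd (nat_lit 8192) (Steps.fwd (nat_lit 8192) (Steps.fwd (nat_lit 12288) (Steps.fwd (nat_lit 24576) (Steps.fwd (nat_lit 16384) (Steps.bwd (nat_lit 2) (Steps.bwd (nat_lit 7) (Steps.fwd (nat_lit 40960) Steps.nil)))))))))) (nat_lit 46) (nat_lit 0),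
  Rule.mk (nat_lit 1) (nat_lit 103) (Steps.bwd (nat_lit 1) (Steps.fwd (nat_lit 8192) (Steps.bwd (nat_lit 3) (Steps.bwd (nat_lit 2) (Steps.fwd (nat_lit 28672) (Steps.bwd (nat_lit 3) Steps.nil)))))) (nat_lit 29) (nat_lit 4),
  Rule.mk (nat_lit 9) (nat_lit 103) (Steps.bwd (nat_lit 7) (Steps.fwd (nat_lit 24576) (Steps.bwd (nat_lit 13) (Steps.fwd (nat_lit 49152) (Steps.bwd (nat_lit 2) (Steps.bwd (nat_lit 3) Steps.nil)))))) (nat_lit 30) (nat_lit 4),
  Rule.mk (nat_lit 1) (nat_lit 73) (Steps.bwd (nat_lit 1) (Steps.bwd (nat_lit 8) (Steps.fwd (nat_lit 16384) (Steps.fwd (nat_lit 24576) Steps.nil)))) (nat_lit 15) (nat_lit 2),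
  Rule.mk (nat_lit 12) (nat_lit 103) (Steps.bwd (nat_lit 14) (Steps.bwd (nat_lit 6) (Steps.fwd (nat_lit 28672) (Steps.bwd (nat_lit 10) (Steps.bwd (nat_lit 4) (Steps.bwd (nat_lit 1) Steps.nil)))))) (nat_lit 31) (nat_lit 0),
  Rule.mk (nat_lit 8) (nat_lit 118) (Steps.bwd (nat_lit 1) (Steps.bwd (nat_lit 1) (Steps.bwd (nat_lit 7) (Steps.fwd (nat_lit 40960) (Steps.fwd (nat_lit 4096) (Steps.bwd (nat_lit 6) (Steps.bwd (nat_lit 1) Steps.nil))))))) (nat_lit 43) (nat_lit 2),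
  Rule.mk (nat_lit 1) (nat_lit 103) (Steps.bwd (nat_lit 3) (Steps.fwd (nat_lit 4096) (Steps.bwd (nat_lit 8) (Steps.fwd (nat_lit 16384) (Steps.bwd (nat_lit 1) (Steps.bwd (nat_lit 1) Steps.nil)))))) (nat_lit 29) (nat_lit 6),
  Rule.mk (nat_lit 14) (nat_lit 88) (Steps.fwd (nat_lit 49152) (Steps.bwd (nat_lit 13) (Steps.fwd (nat_lit 24576) (Steps.fwd (nat_lit 36864) (Steps.fwd (nat_lit 20480) Steps.nil))))) (nat_lit 25) (nat_lit 2),
  Rule.mk (nat_lit 0) (nat_lit 133) (Steps.bwd (nat_lit 5) (Steps.fwd (nat_lit 16384) (Steps.fwd (nat_lit 4096) (Steps.fwd (nat_lit 4096) (Steps.fwd (nat_lit 32768) (Steps.fwd (nat_lit 40960) (Steps.bwd (nat_lit 14) (Steps.bwd (nat_lit 12) Steps.nil)))))))) (nat_lit 33) (nat_lit 4),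
  Rule.mk (nat_lit 9) (nat_lit 73) (Steps.bwd (nat_lit 6) (Steps.fwd (nat_lit 45056) (Steps.fwd (nat_lit 20480) (Steps.bwd (nat_lit 12) Steps.nil)))) (nat_lit 19) (nat_lit 1),
  Rule.mk (nat_lit 11) (nat_lit 103) (Steps.bwd (nat_lit 2) (Steps.fwd (nat_lit 16384) (Steps.bwd (nat_lit 9) (Steps.fwd (nat_lit 32768) (Steps.bwd (nat_lit 5) (Steps.fwd (nat_lit 57344) Steps.nil)))))) (nat_lit 30) (nat_lit 1),
  Rule.mk (nat_lit 13) (nat_lit 88) (Steps.fwd (nat_lit 24576) (Steps.bwd (nat_lit 10) (Steps.fwd (nat_lit 20480) (Steps.fwd (nat_lit 53248) (Steps.bwd (nat_lit 11) Steps.nil))))) (nat_lit 25) (nat_lit 4),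
  Rule.mk (nat_lit 13) (nat_lit 148) (Steps.fwd (nat_lit 45056) (Steps.bwd (nat_lit 13) (Steps.fwd (nat_lit 45056) (Steps.fwd (nat_lit 57344) (Steps.fwd (nat_lit 45056) (Steps.bwd (nat_lit 13) (Steps.bwd (nat_lit 12) (Steps.fwd (nat_lit 57344) (Steps.fwd (nat_lit 45056) Steps.nil))))))))) (nat_lit 50) (nat_lit 0),
  Rule.mk (nat_lit 0) (nat_lit 103) (Steps.bwd (nat_lit 6) (Steps.fwd (nat_lit 53248) (Steps.bwd (nat_lit 11) (Steps.fwd (nat_lit 57344) (Steps.fwd (nat_lit 24576) (Steps.bwd (nat_lit 10) Steps.nil)))))) (nat_lit 25) (nat_lit 0),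
  Rule.mk (nat_lit 6) (nat_lit 88) (Steps.fwd (nat_lit 53248) (Steps.bwd (nat_lit 11) (Steps.bwd (nat_lit 13) (Steps.bwd (nat_lit 5) (Steps.fwd (nat_lit 36864) Steps.nil))))) (nat_lit 25) (nat_lit 1),
  Rule.mk (nat_lit 0) (nat_lit 103) (Steps.bwd (nat_lit 12) (Steps.bwd (nat_lit 9) (Steps.bwd (nat_lit 11) (Steps.fwd (nat_lit 53248) (Steps.fwd (nat_lit 45056) (Steps.bwd (nat_lit 13) Steps.nil)))))) (nat_lit 26) (nat_lit 1),
  Rule.mk (nat_lit 7) (nat_lit 103) (Steps.bwd (nat_lit 5) (Steps.fwd (nat_lit 57344) (Steps.bwd (nat_lit 11) (Steps.fwd (nat_lit 4096) (Steps.fwd (nat_lit 16384) (Steps.bwd (nat_lit 9) Steps.nil)))))) (nat_lit 30) (nat_lit 5),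
  Rule.mk (nat_lit 3) (nat_lit 88) (Steps.bwd (nat_lit 2) (Steps.bwd (nat_lit 10) (Steps.fwd (nat_lit 28672) (Steps.bwd (nat_lit 9) (Steps.bwd (nat_lit 1) Steps.nil))))) (nat_lit 20) (nat_lit 2),
  Rule.mk (nat_lit 2) (nat_lit 103) (Steps.bwd (nat_lit 2) (Steps.bwd (nat_lit 4) (Steps.bwd (nat_lit 7) (Steps.bwd (nat_lit 1) (Steps.bwd (nat_lit 4) (Steps.bwd (nat_lit 2) Steps.nil)))))) (nat_lit 28) (nat_lit 3),
  Rule.mk (nat_lit 12) (nat_lit 73) (Steps.bwd (nat_lit 7) (Steps.bwd (nat_lit 3) (Steps.bwd (nat_lit 13) (Steps.bwd (nat_lit 5) Steps.nil)))) (nat_lit 17) (nat_lit 3),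
  Rule.mk (nat_lit 4) (nat_lit 103) (Steps.fwd (nat_lit 8192) (Steps.bwd (nat_lit 12) (Steps.fwd (nat_lit 53248) (Steps.fwd (nat_lit 20480) (Steps.bwd (nat_lit 8) (Steps.bwd (nat_lit 10) Steps.nil)))))) (nat_lit 31) (nat_lit 5),
  Rule.mk (nat_lit 0) (nat_lit 88) (Steps.fwd (nat_lit 40960) (Steps.bwd (nat_lit 6) (Steps.fwd (nat_lit 45056) (Steps.fwd (nat_lit 20480) (Steps.fwd (nat_lit 45056) Steps.nil))))) (nat_lit 19) (nat_lit 0),
  Rule.mk (nat_lit 4) (nat_lit 73) (Steps.bwd (nat_lit 8) (Steps.bwd (nat_lit 11) (Steps.bwd (nat_lit 6) (Steps.fwd (nat_lit 53248) Steps.nil)))) (nat_lit 16) (nat_lit 1),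
  Rule.mk (nat_lit 3) (nat_lit 58) (Steps.fwd (nat_lit 20480) (Steps.bwd (nat_lit 4) (Steps.fwd (nat_lit 57344) Steps.nil))) (nat_lit 13) (nat_lit 2),
  Rule.mk (nat_lit 13) (nat_lit 103) (Steps.bwd (nat_lit 11) (Steps.fwd (nat_lit 4096) (Steps.bwd (nat_lit 3) (Steps.bwd (nat_lit 9) (Steps.bwd (nat_lit 7) (Steps.fwd (nat_lit 24576) Steps.nil)))))) (nat_lit 30) (nat_lit 0),
  Rule.mk (nat_lit 7) (nat_lit 73) (Steps.bwd (nat_lit 3) (Steps.bwd (nat_lit 13) (Steps.bwd (nat_lit 5) (Steps.bwd (nat_lit 12) Steps.nil)))) (nat_lit 17) (nat_lit 4),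
  Rule.mk (nat_lit 0) (nat_lit 88) (Steps.fwd (nat_lit 20480) (Steps.fwd (nat_lit 45056) (Steps.fwd (nat_lit 20480) (Steps.fwd (nat_lit 45056) (Steps.bwd (nat_lit 9) Steps.nil))))) (nat_lit 19) (nat_lit 1),
  Rule.mk (nat_lit 7) (nat_lit 88) (Steps.bwd (nat_lit 1) (Steps.bwd (nat_lit 4) (Steps.bwd (nat_lit 10) (Steps.bwd (nat_lit 6) (Steps.bwd (nat_lit 1) Steps.nil))))) (nat_lit 22) (nat_lit 1),
  Rule.mk (nat_lit 2) (nat_lit 148) (Steps.bwd (nat_lit 2) (Steps.bwd (nat_lit 2) (Steps.bwd (nat_lit 7) (Steps.fwd (nat_lit 36864) (Steps.fwd (nat_lit 28672) (Steps.fwd (nat_lit 8192) (Steps.bwd (nat_lit 4) (Steps.bwd (nat_lit 6) (Steps.bwd (nat_lit 3) Steps.nil))))))))) (nat_lit 47) (nat_lit 7),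
  Rule.mk (nat_lit 0) (nat_lit 88) (Steps.fwd (nat_lit 8192) (Steps.fwd (nat_lit 8192) (Steps.fwd (nat_lit 28672) (Steps.bwd (nat_lit 3) (Steps.bwd (nat_lit 5) Steps.nil))))) (nat_lit 15) (nat_lit 1),
  Rule.mk (nat_lit 0) (nat_lit 118) (Steps.fwd (nat_lit 4096) (Steps.fwd (nat_lit 4096) (Steps.bwd (nat_lit 2) (Steps.bwd (nat_lit 4) (Steps.fwd (nat_lit 32768) (Steps.fwd (nat_lit 8192) (Steps.fwd (nat_lit 12288) Steps.nil))))))) (nat_lit 28) (nat_lit 1),
  Rule.mk (nat_lit 13) (nat_lit 88) (Steps.bwd (nat_lit 5) (Steps.bwd (nat_lit 9) (Steps.fwd (nat_lit 20480) (Steps.bwd (nat_lit 14) (Steps.bwd (nat_lit 12) Steps.nil))))) (nat_lit 24) (nat_lit 5),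
  Rule.mk (nat_lit 0) (nat_lit 133) (Steps.bwd (nat_lit 10) (Steps.bwd (nat_lit 8) (Steps.bwd (nat_lit 1) (Steps.bwd (nat_lit 1) (Steps.fwd (nat_lit 12288) (Steps.fwd (nat_lit 20480) (Steps.fwd (nat_lit 49152) (Steps.fwd (nat_lit 57344) Steps.nil)))))))) (nat_lit 32) (nat_lit 6),
  Rule.mk (nat_lit 4) (nat_lit 148) (Steps.bwd (nat_lit 14) (Steps.bwd (nat_lit 12) (Steps.bwd (nat_lit 6) (Steps.fwd (nat_lit 49152) (Steps.fwd (nat_lit 57344) (Steps.bwd (nat_lit 5) (Steps.bwd (nat_lit 3) (Steps.bwd (nat_lit 1) (Steps.bwd (nat_lit 1) Steps.nil))))))))) (nat_lit 53) (nat_lit 0),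
  Rule.mk (nat_lit 5) (nat_lit 103) (Steps.bwd (nat_lit 13) (Steps.fwd (nat_lit 49152) (Steps.fwd (nat_lit 4096) (Steps.fwd (nat_lit 16384) (Steps.bwd (nat_lit 9) (Steps.fwd (nat_lit 32768) Steps.nil)))))) (nat_lit 30) (nat_lit 6),
  Rule.mk (nat_lit 0) (nat_lit 118) (Steps.bwd (nat_lit 8) (Steps.fwd (nat_lit 16384) (Steps.fwd (nat_lit 8192) (Steps.bwd (nat_lit 1) (Steps.fwd (nat_lit 8192) (Steps.bwd (nat_lit 3) (Steps.fwd (nat_lit 4096) Steps.nil))))))) (nat_lit 29) (nat_lit 1),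
  Rule.mk (nat_lit 8) (nat_lit 103) (Steps.bwd (nat_lit 3) (Steps.bwd (nat_lit 1) (Steps.bwd (nat_lit 1) (Steps.fwd (nat_lit 8192) (Steps.bwd (nat_lit 3) (Steps.fwd (nat_lit 4096) Steps.nil)))))) (nat_lit 29) (nat_lit 2),
  Rule.mk (nat_lit 5) (nat_lit 73) (Steps.fwd (nat_lit 8192) (Steps.bwd (nat_lit 1) (Steps.bwd (nat_lit 8) (Steps.bwd (nat_lit 3) Steps.nil)))) (nat_lit 15) (nat_lit 1),
  Rule.mk (nat_lit 1) (nat_lit 118) (Steps.fwd (nat_lit 36864) (Steps.bwd (nat_lit 8) (Steps.bwd (nat_lit 2) (Steps.fwd (nat_lit 4096) (Steps.fwd (nat_lit 32768) (Steps.fwd (nat_lit 4096) (Steps.fwd (nat_lit 24576) Steps.nil))))))) (nat_lit 42) (nat_lit 2),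
  Rule.mk (nat_lit 0) (nat_lit 133) (Steps.fwd (nat_lit 4096) (Steps.fwd (nat_lit 4096) (Steps.fwd (nat_lit 32768) (Steps.fwd (nat_lit 4096) (Steps.fwd (nat_lit 24576) (Steps.bwd (nat_lit 1) (Steps.bwd (nat_lit 10) (Steps.bwd (nat_lit 8) Steps.nil)))))))) (nat_lit 42) (nat_lit 4),
  Rule.mk (nat_lit 4) (nat_lit 148) (Steps.fwd (nat_lit 24576) (Steps.bwd (nat_lit 3) (Steps.bwd (nat_lit 2) (Steps.fwd (nat_lit 32768) (Steps.bwd (nat_lit 9) (Steps.bwd (nat_lit 8) (Steps.bwd (nat_lit 1) (Steps.bwd (nat_lit 1) (Steps.fwd (nat_lit 8192) Steps.nil))))))))) (nat_lit 46) (nat_lit 5),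
  Rule.mk (nat_lit 2) (nat_lit 88) (Steps.fwd (nat_lit 36864) (Steps.fwd (nat_lit 32768) (Steps.bwd (nat_lit 9) (Steps.fwd (nat_lit 8192) (Steps.bwd (nat_lit 4) Steps.nil))))) (nat_lit 21) (nat_lit 0),
  Rule.mk (nat_lit 0) (nat_lit 103) (Steps.bwd (nat_lit 1) (Steps.bwd (nat_lit 7) (Steps.fwd (nat_lit 8192) (Steps.bwd (nat_lit 4) (Steps.bwd (nat_lit 10) (Steps.fwd (nat_lit 20480) Steps.nil)))))) (nat_lit 22) (nat_lit 5),
  Rule.mk (nat_lit 0) (nat_lit 73) (Steps.fwd (nat_lit 24576) (Steps.fwd (nat_lit 12288) (Steps.fwd (nat_lit 53248) (Steps.bwd (nat_lit 3) Steps.nil)))) (nat_lit 12) (nat_lit 1),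
  Rule.mk (nat_lit 0) (nat_lit 88) (Steps.fwd (nat_lit 20480) (Steps.fwd (nat_lit 45056) (Steps.fwd (nat_lit 20480) (Steps.bwd (nat_lit 12) (Steps.bwd (nat_lit 9) Steps.nil))))) (nat_lit 19) (nat_lit 1)]
noncomputable def R_23 : List (Rule) := [Rule.mk (nat_lit 5) (nat_lit 73) (Steps.bwd (nat_lit 10) (Steps.bwd (nat_lit 11) (Steps.bwd (nat_lit 5) (Steps.fwd (nat_lit 49152) Steps.nil)))) (nat_lit 18) (nat_lit 4),
  Rule.mk (nat_lit 0) (nat_lit 58) (Steps.bwd (nat_lit 5) (Steps.bwd (nat_lit 5) (Steps.fwd (nat_lit 24576) Steps.nil))) (nat_lit 2) (nat_lit 0),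
  Rule.mk (nat_lit 2) (nat_lit 88) (Steps.bwd (nat_lit 5) (Steps.bwd (nat_lit 9) (Steps.fwd (nat_lit 16384) (Steps.bwd (nat_lit 2) (Steps.fwd (nat_lit 28672) Steps.nil))))) (nat_lit 23) (nat_lit 1),
  Rule.mk (nat_lit 0) (nat_lit 103) (Steps.bwd (nat_lit 13) (Steps.bwd (nat_lit 5) (Steps.bwd (nat_lit 9) (Steps.fwd (nat_lit 20480) (Steps.bwd (nat_lit 14) (Steps.bwd (nat_lit 12) Steps.nil)))))) (nat_lit 24) (nat_lit 4),
  Rule.mk (nat_lit 7) (nat_lit 118) (Steps.bwd (nat_lit 2) (Steps.bwd (nat_lit 5) (Steps.fwd (nat_lit 8192) (Steps.bwd (nat_lit 10) (Steps.fwd (nat_lit 28672) (Steps.fwd (nat_lit 4096) (Steps.fwd (nat_lit 4096) Steps.nil))))))) (nat_lit 42) (nat_lit 7),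
  Rule.mk (nat_lit 0) (nat_lit 103) (Steps.bwd (nat_lit 10) (Steps.fwd (nat_lit 20480) (Steps.fwd (nat_lit 8192) (Steps.bwd (nat_lit 7) (Steps.bwd (nat_lit 1) (Steps.fwd (nat_lit 12288) Steps.nil)))))) (nat_lit 22) (nat_lit 3),
  Rule.mk (nat_lit 6) (nat_lit 118) (Steps.fwd (nat_lit 45056) (Steps.bwd (nat_lit 5) (Steps.bwd (nat_lit 4) (Steps.fwd (nat_lit 20480) (Steps.fwd (nat_lit 45056) (Steps.fwd (nat_lit 24576) (Steps.bwd (nat_lit 4) Steps.nil))))))) (nat_lit 35) (nat_lit 1),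
  Rule.mk (nat_lit 10) (nat_lit 118) (Steps.bwd (nat_lit 14) (Steps.fwd (nat_lit 45056) (Steps.fwd (nat_lit 57344) (Steps.bwd (nat_lit 10) (Steps.fwd (nat_lit 53248) (Steps.fwd (nat_lit 45056) (Steps.bwd (nat_lit 13) Steps.nil))))))) (nat_lit 37) (nat_lit 0),
  Rule.mk (nat_lit 8) (nat_lit 118) (Steps.bwd (nat_lit 1) (Steps.bwd (nat_lit 1) (Steps.bwd (nat_lit 4) (Steps.fwd (nat_lit 20480) (Steps.bwd (nat_lit 11) (Steps.bwd (nat_lit 13) (Steps.bwd (nat_lit 10) Steps.nil))))))) (nat_lit 32) (nat_lit 0),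
  Rule.mk (nat_lit 0) (nat_lit 58) (Steps.bwd (nat_lit 11) (Steps.bwd (nat_lit 11) (Steps.fwd (nat_lit 49152) Steps.nil))) (nat_lit 8) (nat_lit 0),
  Rule.mk (nat_lit 13) (nat_lit 118) (Steps.fwd (nat_lit 36864) (Steps.bwd (nat_lit 14) (Steps.bwd (nat_lit 12) (Steps.fwd (nat_lit 57344) (Steps.bwd (nat_lit 10) (Steps.fwd (nat_lit 53248) (Steps.fwd (nat_lit 45056) Steps.nil))))))) (nat_lit 37) (nat_lit 3),
  Rule.mk (nat_lit 0) (nat_lit 103) (Steps.bwd (nat_lit 9) (Steps.fwd (nat_lit 8192) (Steps.bwd (nat_lit 3) (Steps.fwd (nat_lit 4096) (Steps.bwd (nat_lit 10) (Steps.bwd (nat_lit 8) Steps.nil)))))) (nat_lit 20) (nat_lit 5),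
  Rule.mk (nat_lit 7) (nat_lit 118) (Steps.bwd (nat_lit 2) (Steps.bwd (nat_lit 5) (Steps.bwd (nat_lit 1) (Steps.fwd (nat_lit 36864) (Steps.bwd (nat_lit 8) (Steps.fwd (nat_lit 4096) (Steps.bwd (nat_lit 2) Steps.nil))))))) (nat_lit 42) (nat_lit 7),
  Rule.mk (nat_lit 2) (nat_lit 73) (Steps.fwd (nat_lit 20480) (Steps.bwd (nat_lit 4) (Steps.bwd (nat_lit 7) (Steps.bwd (nat_lit 2) Steps.nil)))) (nat_lit 14) (nat_lit 4),
  Rule.mk (nat_lit 0) (nat_lit 118) (Steps.bwd (nat_lit 1) (Steps.fwd (nat_lit 8192) (Steps.bwd (nat_lit 1) (Steps.fwd (nat_lit 16384) (Steps.bwd (nat_lit 2) (Steps.fwd (nat_lit 28672) (Steps.fwd (nat_lit 16384) Steps.nil))))))) (nat_lit 29) (nat_lit 3),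
  Rule.mk (nat_lit 9) (nat_lit 118) (Steps.fwd (nat_lit 53248) (Steps.fwd (nat_lit 45056) (Steps.bwd (nat_lit 5) (Steps.fwd (nat_lit 16384) (Steps.fwd (nat_lit 4096) (Steps.bwd (nat_lit 2) (Steps.bwd (nat_lit 7) Steps.nil))))))) (nat_lit 33) (nat_lit 2),
  Rule.mk (nat_lit 9) (nat_lit 88) (Steps.fwd (nat_lit 16384) (Steps.bwd (nat_lit 2) (Steps.fwd (nat_lit 28672) (Steps.bwd (nat_lit 2) (Steps.bwd (nat_lit 5) Steps.nil))))) (nat_lit 23) (nat_lit 3),
  Rule.mk (nat_lit 0) (nat_lit 103) (Steps.fwd (nat_lit 53248) (Steps.bwd (nat_lit 11) (Steps.bwd (nat_lit 13) (Steps.fwd (nat_lit 24576) (Steps.fwd (nat_lit 36864) (Steps.fwd (nat_lit 20480) Steps.nil)))))) (nat_lit 25) (nat_lit 1),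
  Rule.mk (nat_lit 14) (nat_lit 88) (Steps.bwd (nat_lit 11) (Steps.fwd (nat_lit 57344) (Steps.fwd (nat_lit 24576) (Steps.fwd (nat_lit 36864) (Steps.bwd (nat_lit 6) Steps.nil))))) (nat_lit 25) (nat_lit 2),
  Rule.mk (nat_lit 0) (nat_lit 118) (Steps.bwd (nat_lit 2) (Steps.bwd (nat_lit 2) (Steps.bwd (nat_lit 2) (Steps.bwd (nat_lit 4) (Steps.fwd (nat_lit 32768) (Steps.fwd (nat_lit 8192) (Steps.bwd (nat_lit 4) Steps.nil))))))) (nat_lit 28) (nat_lit 1),
  Rule.mk (nat_lit 11) (nat_lit 58) (Steps.bwd (nat_lit 0) (Steps.fwd (nat_lit 45056) (Steps.fwd (nat_lit 0) Steps.nil))) (nat_lit 56) (nat_lit 0),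
  Rule.mk (nat_lit 0) (nat_lit 58) (Steps.bwd (nat_lit 8) (Steps.fwd (nat_lit 28672) (Steps.bwd (nat_lit 8) Steps.nil))) (nat_lit 5) (nat_lit 0),
  Rule.mk (nat_lit 3) (nat_lit 103) (Steps.fwd (nat_lit 4096) (Steps.fwd (nat_lit 28672) (Steps.fwd (nat_lit 16384) (Steps.bwd (nat_lit 1) (Steps.bwd (nat_lit 1) (Steps.bwd (nat_lit 1) Steps.nil)))))) (nat_lit 29) (nat_lit 0),
  Rule.mk (nat_lit 10) (nat_lit 118) (Steps.fwd (nat_lit 28672) (Steps.bwd (nat_lit 1) (Steps.fwd (nat_lit 8192) (Steps.fwd (nat_lit 12288) (Steps.bwd (nat_lit 6) (Steps.bwd (nat_lit 11) (Steps.fwd (nat_lit 57344) Steps.nil))))))) (nat_lit 32) (nat_lit 7),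
  Rule.mk (nat_lit 0) (nat_lit 133) (Steps.bwd (nat_lit 14) (Steps.bwd (nat_lit 12) (Steps.bwd (nat_lit 10) (Steps.fwd (nat_lit 28672) (Steps.bwd (nat_lit 14) (Steps.fwd (nat_lit 45056) (Steps.bwd (nat_lit 10) (Steps.bwd (nat_lit 8) Steps.nil)))))))) (nat_lit 40) (nat_lit 1),
  Rule.mk (nat_lit 5) (nat_lit 118) (Steps.bwd (nat_lit 3) (Steps.fwd (nat_lit 4096) (Steps.bwd (nat_lit 2) (Steps.fwd (nat_lit 32768) (Steps.bwd (nat_lit 9) (Steps.fwd (nat_lit 53248) (Steps.bwd (nat_lit 12) Steps.nil))))))) (nat_lit 33) (nat_lit 5),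
  Rule.mk (nat_lit 12) (nat_lit 73) (Steps.bwd (nat_lit 7) (Steps.bwd (nat_lit 3) (Steps.fwd (nat_lit 57344) (Steps.bwd (nat_lit 5) Steps.nil)))) (nat_lit 17) (nat_lit 3),
  Rule.mk (nat_lit 6) (nat_lit 118) (Steps.bwd (nat_lit 11) (Steps.bwd (nat_lit 5) (Steps.bwd (nat_lit 3) (Steps.bwd (nat_lit 6) (Steps.fwd (nat_lit 49152) (Steps.fwd (nat_lit 24576) (Steps.fwd (nat_lit 16384) Steps.nil))))))) (nat_lit 34) (nat_lit 2),
  Rule.mk (nat_lit 14) (nat_lit 148) (Steps.fwd (nat_lit 45056) (Steps.bwd (nat_lit 6) (Steps.bwd (nat_lit 11) (Steps.fwd (nat_lit 57344) (Steps.bwd (nat_lit 5) (Steps.bwd (nat_lit 3) (Steps.bwd (nat_lit 1) (Steps.bwd (nat_lit 1) (Steps.bwd (nat_lit 4) Steps.nil))))))))) (nat_lit 53) (nat_lit 1),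
  Rule.mk (nat_lit 7) (nat_lit 88) (Steps.fwd (nat_lit 40960) (Steps.bwd (nat_lit 1) (Steps.bwd (nat_lit 4) (Steps.bwd (nat_lit 2) (Steps.bwd (nat_lit 10) Steps.nil))))) (nat_lit 21) (nat_lit 2),
  Rule.mk (nat_lit 2) (nat_lit 103) (Steps.bwd (nat_lit 4) (Steps.bwd (nat_lit 7) (Steps.bwd (nat_lit 1) (Steps.bwd (nat_lit 4) (Steps.bwd (nat_lit 2) (Steps.bwd (nat_lit 2) Steps.nil)))))) (nat_lit 28) (nat_lit 4),
  Rule.mk (nat_lit 3) (nat_lit 73) (Steps.bwd (nat_lit 13) (Steps.fwd (nat_lit 24576) (Steps.bwd (nat_lit 12) (Steps.bwd (nat_lit 7) Steps.nil)))) (nat_lit 17) (nat_lit 0),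
  Rule.mk (nat_lit 2) (nat_lit 88) (Steps.fwd (nat_lit 36864) (Steps.fwd (nat_lit 28672) (Steps.fwd (nat_lit 40960) (Steps.bwd (nat_lit 1) (Steps.fwd (nat_lit 16384) Steps.nil))))) (nat_lit 20) (nat_lit 3),
  Rule.mk (nat_lit 2) (nat_lit 73) (Steps.bwd (nat_lit 6) (Steps.bwd (nat_lit 4) (Steps.fwd (nat_lit 32768) (Steps.fwd (nat_lit 4096) Steps.nil)))) (nat_lit 14) (nat_lit 4),
  Rule.mk (nat_lit 0) (nat_lit 88) (Steps.bwd (nat_lit 11) (Steps.bwd (nat_lit 6) (Steps.fwd (nat_lit 53248) (Steps.bwd (nat_lit 4) (Steps.fwd (nat_lit 28672) Steps.nil))))) (nat_lit 16) (nat_lit 2),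
  Rule.mk (nat_lit 11) (nat_lit 73) (Steps.fwd (nat_lit 20480) (Steps.bwd (nat_lit 14) (Steps.fwd (nat_lit 12288) (Steps.fwd (nat_lit 28672) Steps.nil)))) (nat_lit 16) (nat_lit 3),
  Rule.mk (nat_lit 12) (nat_lit 133) (Steps.bwd (nat_lit 5) (Steps.fwd (nat_lit 36864) (Steps.bwd (nat_lit 8) (Steps.bwd (nat_lit 3) (Steps.fwd (nat_lit 28672) (Steps.bwd (nat_lit 3) (Steps.bwd (nat_lit 11) (Steps.fwd (nat_lit 53248) Steps.nil)))))))) (nat_lit 45) (nat_lit 3),
  Rule.mk (nat_lit 13) (nat_lit 88) (Steps.bwd (nat_lit 5) (Steps.bwd (nat_lit 9) (Steps.fwd (nat_lit 20480) (Steps.fwd (nat_lit 53248) (Steps.bwd (nat_lit 12) Steps.nil))))) (nat_lit 24) (nat_lit 5),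
  Rule.mk (nat_lit 0) (nat_lit 133) (Steps.bwd (nat_lit 2) (Steps.bwd (nat_lit 2) (Steps.bwd (nat_lit 7) (Steps.fwd (nat_lit 40960) (Steps.fwd (nat_lit 53248) (Steps.bwd (nat_lit 12) (Steps.bwd (nat_lit 5) (Steps.bwd (nat_lit 3) Steps.nil)))))))) (nat_lit 33) (nat_lit 6),
  Rule.mk (nat_lit 5) (nat_lit 88) (Steps.bwd (nat_lit 9) (Steps.fwd (nat_lit 16384) (Steps.bwd (nat_lit 2) (Steps.fwd (nat_lit 28672) (Steps.fwd (nat_lit 4096) Steps.nil))))) (nat_lit 23) (nat_lit 2),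
  Rule.mk (nat_lit 12) (nat_lit 148) (Steps.bwd (nat_lit 5) (Steps.bwd (nat_lit 11) (Steps.bwd (nat_lit 13) (Steps.fwd (nat_lit 16384) (Steps.bwd (nat_lit 2) (Steps.fwd (nat_lit 4096) (Steps.bwd (nat_lit 4) (Steps.bwd (nat_lit 6) (Steps.fwd (nat_lit 53248) Steps.nil))))))))) (nat_lit 52) (nat_lit 7),
  Rule.mk (nat_lit 0) (nat_lit 103) (Steps.fwd (nat_lit 49152) (Steps.bwd (nat_lit 13) (Steps.fwd (nat_lit 24576) (Steps.fwd (nat_lit 36864) (Steps.bwd (nat_lit 6) (Steps.fwd (nat_lit 53248) Steps.nil)))))) (nat_lit 25) (nat_lit 2),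
  Rule.mk (nat_lit 12) (nat_lit 88) (Steps.bwd (nat_lit 9) (Steps.fwd (nat_lit 49152) (Steps.fwd (nat_lit 53248) (Steps.bwd (nat_lit 12) (Steps.bwd (nat_lit 13) Steps.nil))))) (nat_lit 26) (nat_lit 2),
  Rule.mk (nat_lit 6) (nat_lit 118) (Steps.bwd (nat_lit 12) (Steps.fwd (nat_lit 24576) (Steps.bwd (nat_lit 4) (Steps.bwd (nat_lit 6) (Steps.fwd (nat_lit 45056) (Steps.fwd (nat_lit 24576) (Steps.bwd (nat_lit 4) Steps.nil))))))) (nat_lit 35) (nat_lit 1),
  Rule.mk (nat_lit 13) (nat_lit 118) (Steps.fwd (nat_lit 36864) (Steps.fwd (nat_lit 28672) (Steps.fwd (nat_lit 8192) (Steps.fwd (nat_lit 8192) (Steps.bwd (nat_lit 4) (Steps.bwd (nat_lit 6) (Steps.fwd (nat_lit 49152) Steps.nil))))))) (nat_lit 32) (nat_lit 6),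
  Rule.mk (nat_lit 0) (nat_lit 103) (Steps.fwd (nat_lit 40960) (Steps.fwd (nat_lit 49152) (Steps.fwd (nat_lit 53248) (Steps.fwd (nat_lit 45056) (Steps.bwd (nat_lit 13) (Steps.fwd (nat_lit 45056) Steps.nil)))))) (nat_lit 26) (nat_lit 2),
  Rule.mk (nat_lit 13) (nat_lit 118) (Steps.bwd (nat_lit 9) (Steps.fwd (nat_lit 53248) (Steps.fwd (nat_lit 49152) (Steps.bwd (nat_lit 13) (Steps.fwd (nat_lit 40960) (Steps.bwd (nat_lit 14) (Steps.bwd (nat_lit 11) Steps.nil))))))) (nat_lit 36) (nat_lit 0),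
  Rule.mk (nat_lit 0) (nat_lit 103) (Steps.fwd (nat_lit 20480) (Steps.fwd (nat_lit 53248) (Steps.fwd (nat_lit 45056) (Steps.fwd (nat_lit 57344) (Steps.bwd (nat_lit 5) (Steps.fwd (nat_lit 40960) Steps.nil)))))) (nat_lit 24) (nat_lit 1),
  Rule.mk (nat_lit 10) (nat_lit 118) (Steps.bwd (nat_lit 14) (Steps.fwd (nat_lit 45056) (Steps.bwd (nat_lit 13) (Steps.fwd (nat_lit 36864) (Steps.fwd (nat_lit 53248) (Steps.bwd (nat_lit 12) (Steps.bwd (nat_lit 13) Steps.nil))))))) (nat_lit 37) (nat_lit 0),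
  Rule.mk (nat_lit 8) (nat_lit 88) (Steps.fwd (nat_lit 40960) (Steps.bwd (nat_lit 1) (Steps.bwd (nat_lit 3) (Steps.fwd (nat_lit 4096) (Steps.bwd (nat_lit 10) Steps.nil))))) (nat_lit 20) (nat_lit 5),
  Rule.mk (nat_lit 6) (nat_lit 88) (Steps.bwd (nat_lit 1) (Steps.bwd (nat_lit 7) (Steps.fwd (nat_lit 8192) (Steps.bwd (nat_lit 4) (Steps.bwd (nat_lit 10) Steps.nil))))) (nat_lit 22) (nat_lit 5),
  Rule.mk (nat_lit 0) (nat_lit 133) (Steps.bwd (nat_lit 8) (Steps.fwd (nat_lit 4096) (Steps.bwd (nat_lit 2) (Steps.bwd (nat_lit 7) (Steps.fwd (nat_lit 4096) (Steps.fwd (nat_lit 24576) (Steps.bwd (nat_lit 1) (Steps.fwd (nat_lit 36864) Steps.nil)))))))) (nat_lit 42) (nat_lit 3),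
  Rule.mk (nat_lit 10) (nat_lit 88) (Steps.bwd (nat_lit 7) (Steps.bwd (nat_lit 9) (Steps.fwd (nat_lit 8192) (Steps.bwd (nat_lit 4) (Steps.bwd (nat_lit 2) Steps.nil))))) (nat_lit 21) (nat_lit 1),
  Rule.mk (nat_lit 5) (nat_lit 148) (Steps.bwd (nat_lit 3) (Steps.bwd (nat_lit 2) (Steps.bwd (nat_lit 7) (Steps.bwd (nat_lit 9) (Steps.fwd (nat_lit 28672) (Steps.bwd (nat_lit 1) (Steps.fwd (nat_lit 8192) (Steps.fwd (nat_lit 8192) (Steps.bwd (nat_lit 4) Steps.nil))))))))) (nat_lit 46) (nat_lit 6),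
  Rule.mk (nat_lit 0) (nat_lit 118) (Steps.fwd (nat_lit 4096) (Steps.fwd (nat_lit 16384) (Steps.bwd (nat_lit 9) (Steps.fwd (nat_lit 32768) (Steps.bwd (nat_lit 5) (Steps.bwd (nat_lit 13) (Steps.fwd (nat_lit 49152) Steps.nil))))))) (nat_lit 30) (nat_lit 1),
  Rule.mk (nat_lit 6) (nat_lit 58) (Steps.bwd (nat_lit 4) (Steps.fwd (nat_lit 57344) (Steps.bwd (nat_lit 3) Steps.nil))) (nat_lit 13) (nat_lit 3),
  Rule.mk (nat_lit 8) (nat_lit 118) (Steps.bwd (nat_lit 1) (Steps.bwd (nat_lit 1) (Steps.fwd (nat_lit 32768) (Steps.bwd (nat_lit 9) (Steps.bwd (nat_lit 2) (Steps.bwd (nat_lit 6) (Steps.bwd (nat_lit 1) Steps.nil))))))) (nat_lit 43) (nat_lit 2),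
  Rule.mk (nat_lit 8) (nat_lit 148) (Steps.bwd (nat_lit 1) (Steps.fwd (nat_lit 12288) (Steps.bwd (nat_lit 6) (Steps.fwd (nat_lit 16384) (Steps.bwd (nat_lit 2) (Steps.fwd (nat_lit 4096) (Steps.fwd (nat_lit 4096) (Steps.bwd (nat_lit 7) (Steps.bwd (nat_lit 10) Steps.nil))))))))) (nat_lit 47) (nat_lit 2),
  Rule.mk (nat_lit 1) (nat_lit 103) (Steps.bwd (nat_lit 12) (Steps.fwd (nat_lit 53248) (Steps.bwd (nat_lit 6) (Steps.bwd (nat_lit 8) (Steps.fwd (nat_lit 36864) (Steps.bwd (nat_lit 4) Steps.nil)))))) (nat_lit 31) (nat_lit 6),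
  Rule.mk (nat_lit 5) (nat_lit 118) (Steps.bwd (nat_lit 1) (Steps.bwd (nat_lit 10) (Steps.bwd (nat_lit 8) (Steps.fwd (nat_lit 4096) (Steps.fwd (nat_lit 4096) (Steps.bwd (nat_lit 7) (Steps.fwd (nat_lit 4096) Steps.nil))))))) (nat_lit 42) (nat_lit 1),
  Rule.mk (nat_lit 13) (nat_lit 88) (Steps.bwd (nat_lit 5) (Steps.fwd (nat_lit 40960) (Steps.fwd (nat_lit 20480) (Steps.fwd (nat_lit 53248) (Steps.fwd (nat_lit 45056) Steps.nil))))) (nat_lit 24) (nat_lit 5),
  Rule.mk (nat_lit 0) (nat_lit 133) (Steps.fwd (nat_lit 53248) (Steps.fwd (nat_lit 45056) (Steps.fwd (nat_lit 57344) (Steps.bwd (nat_lit 10) (Steps.fwd (nat_lit 53248) (Steps.fwd (nat_lit 45056) (Steps.bwd (nat_lit 13) (Steps.bwd (nat_lit 10) Steps.nil)))))))) (nat_lit 37) (nat_lit 0),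
  Rule.mk (nat_lit 0) (nat_lit 88) (Steps.fwd (nat_lit 16384) (Steps.bwd (nat_lit 13) (Steps.bwd (nat_lit 5) (Steps.fwd (nat_lit 45056) (Steps.bwd (nat_lit 7) Steps.nil))))) (nat_lit 17) (nat_lit 4),
  Rule.mk (nat_lit 2) (nat_lit 118) (Steps.fwd (nat_lit 32768) (Steps.bwd (nat_lit 2) (Steps.fwd (nat_lit 24576) (Steps.fwd (nat_lit 8192) (Steps.fwd (nat_lit 36864) (Steps.bwd (nat_lit 8) (Steps.bwd (nat_lit 2) Steps.nil))))))) (nat_lit 42) (nat_lit 6)]
noncomputable def R_24 : List (Rule) := [Rule.mk (nat_lit 0) (nat_lit 133) (Steps.bwd (nat_lit 8) (Steps.bwd (nat_lit 1) (Steps.bwd (nat_lit 1) (Steps.fwd (nat_lit 32768) (Steps.fwd (nat_lit 40960) (Steps.bwd (nat_lit 2) (Steps.bwd (nat_lit 6) (Steps.fwd (nat_lit 8192) Steps.nil)))))))) (nat_lit 43) (nat_lit 1),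
  Rule.mk (nat_lit 4) (nat_lit 103) (Steps.fwd (nat_lit 4096) (Steps.fwd (nat_lit 4096) (Steps.bwd (nat_lit 2) (Steps.bwd (nat_lit 4) (Steps.fwd (nat_lit 32768) (Steps.bwd (nat_lit 1) Steps.nil)))))) (nat_lit 28) (nat_lit 1),
  Rule.mk (nat_lit 0) (nat_lit 118) (Steps.bwd (nat_lit 2) (Steps.fwd (nat_lit 4096) (Steps.bwd (nat_lit 2) (Steps.fwd (nat_lit 12288) (Steps.bwd (nat_lit 7) (Steps.fwd (nat_lit 8192) (Steps.fwd (nat_lit 12288) Steps.nil))))))) (nat_lit 28) (nat_lit 1),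
  Rule.mk (nat_lit 0) (nat_lit 133) (Steps.fwd (nat_lit 8192) (Steps.bwd (nat_lit 10) (Steps.fwd (nat_lit 28672) (Steps.bwd (nat_lit 2) (Steps.bwd (nat_lit 2) (Steps.bwd (nat_lit 7) (Steps.fwd (nat_lit 4096) (Steps.bwd (nat_lit 5) Steps.nil)))))))) (nat_lit 42) (nat_lit 1),
  Rule.mk (nat_lit 2) (nat_lit 73) (Steps.bwd (nat_lit 2) (Steps.fwd (nat_lit 20480) (Steps.bwd (nat_lit 4) (Steps.fwd (nat_lit 32768) Steps.nil)))) (nat_lit 14) (nat_lit 3),
  Rule.mk (nat_lit 7) (nat_lit 73) (Steps.fwd (nat_lit 4096) (Steps.bwd (nat_lit 2) (Steps.bwd (nat_lit 6) (Steps.bwd (nat_lit 4) Steps.nil)))) (nat_lit 14) (nat_lit 2),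
  Rule.mk (nat_lit 9) (nat_lit 88) (Steps.bwd (nat_lit 3) (Steps.bwd (nat_lit 2) (Steps.fwd (nat_lit 28672) (Steps.bwd (nat_lit 2) (Steps.fwd (nat_lit 24576) Steps.nil))))) (nat_lit 23) (nat_lit 3),
  Rule.mk (nat_lit 3) (nat_lit 103) (Steps.bwd (nat_lit 1) (Steps.bwd (nat_lit 1) (Steps.fwd (nat_lit 8192) (Steps.bwd (nat_lit 3) (Steps.bwd (nat_lit 2) (Steps.fwd (nat_lit 28672) Steps.nil)))))) (nat_lit 29) (nat_lit 3),
  Rule.mk (nat_lit 0) (nat_lit 103) (Steps.bwd (nat_lit 11) (Steps.bwd (nat_lit 13) (Steps.bwd (nat_lit 12) (Steps.bwd (nat_lit 10) (Steps.fwd (nat_lit 49152) (Steps.fwd (nat_lit 53248) Steps.nil)))))) (nat_lit 27) (nat_lit 0),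
  Rule.mk (nat_lit 10) (nat_lit 118) (Steps.fwd (nat_lit 32768) (Steps.fwd (nat_lit 40960) (Steps.fwd (nat_lit 57344) (Steps.bwd (nat_lit 10) (Steps.bwd (nat_lit 7) (Steps.fwd (nat_lit 40960) (Steps.bwd (nat_lit 13) Steps.nil))))))) (nat_lit 38) (nat_lit 2),
  Rule.mk (nat_lit 11) (nat_lit 88) (Steps.bwd (nat_lit 14) (Steps.fwd (nat_lit 49152) (Steps.fwd (nat_lit 57344) (Steps.bwd (nat_lit 12) (Steps.bwd (nat_lit 10) Steps.nil))))) (nat_lit 27) (nat_lit 5),
  Rule.mk (nat_lit 8) (nat_lit 118) (Steps.bwd (nat_lit 14) (Steps.fwd (nat_lit 45056) (Steps.fwd (nat_lit 36864) (Steps.bwd (nat_lit 8) (Steps.bwd (nat_lit 14) (Steps.bwd (nat_lit 12) (Steps.bwd (nat_lit 10) Steps.nil))))))) (nat_lit 40) (nat_lit 1),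
  Rule.mk (nat_lit 2) (nat_lit 118) (Steps.bwd (nat_lit 2) (Steps.bwd (nat_lit 7) (Steps.bwd (nat_lit 2) (Steps.fwd (nat_lit 24576) (Steps.fwd (nat_lit 8192) (Steps.bwd (nat_lit 10) (Steps.bwd (nat_lit 8) Steps.nil))))))) (nat_lit 42) (nat_lit 5),
  Rule.mk (nat_lit 0) (nat_lit 58) (Steps.bwd (nat_lit 8) (Steps.bwd (nat_lit 8) (Steps.fwd (nat_lit 28672) Steps.nil))) (nat_lit 5) (nat_lit 0),
  Rule.mk (nat_lit 0) (nat_lit 148) (Steps.bwd (nat_lit 8) (Steps.fwd (nat_lit 16384) (Steps.fwd (nat_lit 49152) (Steps.bwd (nat_lit 14) (Steps.bwd (nat_lit 12) (Steps.bwd (nat_lit 5) (Steps.bwd (nat_lit 10) (Steps.fwd (nat_lit 28672) (Steps.bwd (nat_lit 3) Steps.nil))))))))) (nat_lit 45) (nat_lit 7),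
  Rule.mk (nat_lit 14) (nat_lit 148) (Steps.bwd (nat_lit 12) (Steps.fwd (nat_lit 20480) (Steps.fwd (nat_lit 49152) (Steps.bwd (nat_lit 13) (Steps.fwd (nat_lit 24576) (Steps.bwd (nat_lit 3) (Steps.bwd (nat_lit 1) (Steps.bwd (nat_lit 1) (Steps.bwd (nat_lit 4) Steps.nil))))))))) (nat_lit 53) (nat_lit 1),
  Rule.mk (nat_lit 13) (nat_lit 88) (Steps.fwd (nat_lit 24576) (Steps.fwd (nat_lit 40960) (Steps.fwd (nat_lit 20480) (Steps.bwd (nat_lit 14) (Steps.bwd (nat_lit 12) Steps.nil))))) (nat_lit 24) (nat_lit 5),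
  Rule.mk (nat_lit 0) (nat_lit 73) (Steps.fwd (nat_lit 16384) (Steps.bwd (nat_lit 6) (Steps.bwd (nat_lit 4) (Steps.bwd (nat_lit 13) Steps.nil)))) (nat_lit 13) (nat_lit 1),
  Rule.mk (nat_lit 9) (nat_lit 88) (Steps.bwd (nat_lit 1) (Steps.bwd (nat_lit 3) (Steps.fwd (nat_lit 4096) (Steps.bwd (nat_lit 10) (Steps.bwd (nat_lit 8) Steps.nil))))) (nat_lit 20) (nat_lit 0),
  Rule.mk (nat_lit 9) (nat_lit 88) (Steps.fwd (nat_lit 8192) (Steps.bwd (nat_lit 4) (Steps.fwd (nat_lit 4096) (Steps.bwd (nat_lit 10) (Steps.bwd (nat_lit 7) Steps.nil))))) (nat_lit 21) (nat_lit 3),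
  Rule.mk (nat_lit 14) (nat_lit 118) (Steps.fwd (nat_lit 45056) (Steps.bwd (nat_lit 13) (Steps.bwd (nat_lit 10) (Steps.bwd (nat_lit 14) (Steps.bwd (nat_lit 12) (Steps.bwd (nat_lit 13) (Steps.bwd (nat_lit 10) Steps.nil))))))) (nat_lit 37) (nat_lit 1),
  Rule.mk (nat_lit 11) (nat_lit 73) (Steps.bwd (nat_lit 6) (Steps.bwd (nat_lit 14) (Steps.bwd (nat_lit 4) (Steps.fwd (nat_lit 28672) Steps.nil)))) (nat_lit 16) (nat_lit 3),
  Rule.mk (nat_lit 11) (nat_lit 88) (Steps.fwd (nat_lit 57344) (Steps.fwd (nat_lit 24576) (Steps.bwd (nat_lit 10) (Steps.bwd (nat_lit 6) (Steps.bwd (nat_lit 14) Steps.nil))))) (nat_lit 25) (nat_lit 3),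
  Rule.mk (nat_lit 8) (nat_lit 118) (Steps.bwd (nat_lit 1) (Steps.bwd (nat_lit 1) (Steps.bwd (nat_lit 4) (Steps.fwd (nat_lit 20480) (Steps.bwd (nat_lit 11) (Steps.fwd (nat_lit 57344) (Steps.fwd (nat_lit 36864) Steps.nil))))))) (nat_lit 32) (nat_lit 0),
  Rule.mk (nat_lit 0) (nat_lit 103) (Steps.fwd (nat_lit 36864) (Steps.fwd (nat_lit 20480) (Steps.bwd (nat_lit 1) (Steps.fwd (nat_lit 32768) (Steps.fwd (nat_lit 8192) (Steps.bwd (nat_lit 4) Steps.nil)))))) (nat_lit 22) (nat_lit 3),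
  Rule.mk (nat_lit 0) (nat_lit 103) (Steps.bwd (nat_lit 14) (Steps.fwd (nat_lit 49152) (Steps.fwd (nat_lit 57344) (Steps.fwd (nat_lit 24576) (Steps.fwd (nat_lit 36864) (Steps.fwd (nat_lit 20480) Steps.nil)))))) (nat_lit 25) (nat_lit 1),
  Rule.mk (nat_lit 14) (nat_lit 118) (Steps.fwd (nat_lit 36864) (Steps.fwd (nat_lit 28672) (Steps.bwd (nat_lit 9) (Steps.bwd (nat_lit 14) (Steps.bwd (nat_lit 10) (Steps.fwd (nat_lit 28672) (Steps.bwd (nat_lit 9) Steps.nil))))))) (nat_lit 39) (nat_lit 0),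
  Rule.mk (nat_lit 0) (nat_lit 58) (Steps.bwd (nat_lit 14) (Steps.bwd (nat_lit 14) (Steps.fwd (nat_lit 53248) Steps.nil))) (nat_lit 11) (nat_lit 0),
  Rule.mk (nat_lit 10) (nat_lit 118) (Steps.fwd (nat_lit 28672) (Steps.bwd (nat_lit 14) (Steps.fwd (nat_lit 45056) (Steps.fwd (nat_lit 36864) (Steps.fwd (nat_lit 28672) (Steps.bwd (nat_lit 14) (Steps.bwd (nat_lit 12) Steps.nil))))))) (nat_lit 40) (nat_lit 0),
  Rule.mk (nat_lit 9) (nat_lit 88) (Steps.fwd (nat_lit 8192) (Steps.bwd (nat_lit 3) (Steps.fwd (nat_lit 4096) (Steps.bwd (nat_lit 10) (Steps.fwd (nat_lit 28672) Steps.nil))))) (nat_lit 20) (nat_lit 0),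
  Rule.mk (nat_lit 11) (nat_lit 88) (Steps.fwd (nat_lit 53248) (Steps.bwd (nat_lit 11) (Steps.fwd (nat_lit 57344) (Steps.bwd (nat_lit 12) (Steps.bwd (nat_lit 10) Steps.nil))))) (nat_lit 27) (nat_lit 5),
  Rule.mk (nat_lit 6) (nat_lit 73) (Steps.bwd (nat_lit 4) (Steps.fwd (nat_lit 32768) (Steps.fwd (nat_lit 4096) (Steps.bwd (nat_lit 2) Steps.nil)))) (nat_lit 14) (nat_lit 0),
  Rule.mk (nat_lit 5) (nat_lit 103) (Steps.bwd (nat_lit 13) (Steps.fwd (nat_lit 49152) (Steps.bwd (nat_lit 2) (Steps.fwd (nat_lit 16384) (Steps.fwd (nat_lit 40960) (Steps.fwd (nat_lit 32768) Steps.nil)))))) (nat_lit 30) (nat_lit 6),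
  Rule.mk (nat_lit 1) (nat_lit 103) (Steps.fwd (nat_lit 45056) (Steps.fwd (nat_lit 53248) (Steps.fwd (nat_lit 20480) (Steps.bwd (nat_lit 8) (Steps.bwd (nat_lit 10) (Steps.fwd (nat_lit 12288) Steps.nil)))))) (nat_lit 31) (nat_lit 6),
  Rule.mk (nat_lit 5) (nat_lit 148) (Steps.bwd (nat_lit 3) (Steps.bwd (nat_lit 2) (Steps.bwd (nat_lit 7) (Steps.bwd (nat_lit 9) (Steps.bwd (nat_lit 8) (Steps.bwd (nat_lit 1) (Steps.bwd (nat_lit 1) (Steps.fwd (nat_lit 8192) (Steps.fwd (nat_lit 12288) Steps.nil))))))))) (nat_lit 46) (nat_lit 6),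
  Rule.mk (nat_lit 12) (nat_lit 103) (Steps.bwd (nat_lit 14) (Steps.fwd (nat_lit 20480) (Steps.fwd (nat_lit 28672) (Steps.fwd (nat_lit 36864) (Steps.fwd (nat_lit 12288) (Steps.fwd (nat_lit 8192) Steps.nil)))))) (nat_lit 31) (nat_lit 0),
  Rule.mk (nat_lit 7) (nat_lit 73) (Steps.fwd (nat_lit 16384) (Steps.fwd (nat_lit 57344) (Steps.fwd (nat_lit 24576) (Steps.bwd (nat_lit 12) Steps.nil)))) (nat_lit 17) (nat_lit 4),
  Rule.mk (nat_lit 6) (nat_lit 88) (Steps.fwd (nat_lit 8192) (Steps.bwd (nat_lit 7) (Steps.bwd (nat_lit 1) (Steps.fwd (nat_lit 12288) (Steps.bwd (nat_lit 10) Steps.nil))))) (nat_lit 22) (nat_lit 5),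
  Rule.mk (nat_lit 0) (nat_lit 88) (Steps.bwd (nat_lit 4) (Steps.bwd (nat_lit 7) (Steps.fwd (nat_lit 4096) (Steps.fwd (nat_lit 4096) (Steps.bwd (nat_lit 6) Steps.nil))))) (nat_lit 14) (nat_lit 0),
  Rule.mk (nat_lit 1) (nat_lit 118) (Steps.bwd (nat_lit 8) (Steps.fwd (nat_lit 8192) (Steps.bwd (nat_lit 1) (Steps.bwd (nat_lit 7) (Steps.fwd (nat_lit 40960) (Steps.bwd (nat_lit 2) (Steps.fwd (nat_lit 20480) Steps.nil))))))) (nat_lit 43) (nat_lit 1),
  Rule.mk (nat_lit 6) (nat_lit 133) (Steps.bwd (nat_lit 11) (Steps.bwd (nat_lit 13) (Steps.fwd (nat_lit 45056) (Steps.bwd (nat_lit 4) (Steps.fwd (nat_lit 32768) (Steps.bwd (nat_lit 4) (Steps.fwd (nat_lit 32768) (Steps.bwd (nat_lit 9) Steps.nil)))))))) (nat_lit 44) (nat_lit 6),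
  Rule.mk (nat_lit 6) (nat_lit 73) (Steps.fwd (nat_lit 45056) (Steps.fwd (nat_lit 40960) (Steps.bwd (nat_lit 6) (Steps.fwd (nat_lit 45056) Steps.nil)))) (nat_lit 19) (nat_lit 4),
  Rule.mk (nat_lit 0) (nat_lit 133) (Steps.bwd (nat_lit 6) (Steps.bwd (nat_lit 12) (Steps.fwd (nat_lit 24576) (Steps.fwd (nat_lit 12288) (Steps.fwd (nat_lit 20480) (Steps.fwd (nat_lit 45056) (Steps.fwd (nat_lit 24576) (Steps.fwd (nat_lit 12288) Steps.nil)))))))) (nat_lit 35) (nat_lit 0),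
  Rule.mk (nat_lit 5) (nat_lit 73) (Steps.bwd (nat_lit 10) (Steps.fwd (nat_lit 49152) (Steps.bwd (nat_lit 5) (Steps.fwd (nat_lit 49152) Steps.nil)))) (nat_lit 18) (nat_lit 4),
  Rule.mk (nat_lit 0) (nat_lit 133) (Steps.fwd (nat_lit 24576) (Steps.bwd (nat_lit 3) (Steps.fwd (nat_lit 20480) (Steps.fwd (nat_lit 49152) (Steps.bwd (nat_lit 5) (Steps.bwd (nat_lit 3) (Steps.bwd (nat_lit 6) (Steps.fwd (nat_lit 49152) Steps.nil)))))))) (nat_lit 34) (nat_lit 3),
  Rule.mk (nat_lit 0) (nat_lit 133) (Steps.fwd (nat_lit 8192) (Steps.fwd (nat_lit 8192) (Steps.fwd (nat_lit 12288) (Steps.fwd (nat_lit 20480) (Steps.fwd (nat_lit 49152) (Steps.bwd (nat_lit 13) (Steps.bwd (nat_lit 10) (Steps.fwd (nat_lit 28672) Steps.nil)))))))) (nat_lit 32) (nat_lit 0),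
  Rule.mk (nat_lit 0) (nat_lit 103) (Steps.bwd (nat_lit 10) (Steps.fwd (nat_lit 32768) (Steps.bwd (nat_lit 9) (Steps.fwd (nat_lit 8192) (Steps.fwd (nat_lit 12288) (Steps.fwd (nat_lit 4096) Steps.nil)))))) (nat_lit 21) (nat_lit 0),
  Rule.mk (nat_lit 5) (nat_lit 73) (Steps.fwd (nat_lit 8192) (Steps.bwd (nat_lit 1) (Steps.fwd (nat_lit 28672) (Steps.fwd (nat_lit 16384) Steps.nil)))) (nat_lit 15) (nat_lit 1),
  Rule.mk (nat_lit 10) (nat_lit 88) (Steps.fwd (nat_lit 20480) (Steps.bwd (nat_lit 1) (Steps.bwd (nat_lit 7) (Steps.fwd (nat_lit 8192) (Steps.fwd (nat_lit 12288) Steps.nil))))) (nat_lit 22) (nat_lit 4),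
  Rule.mk (nat_lit 11) (nat_lit 103) (Steps.fwd (nat_lit 4096) (Steps.fwd (nat_lit 16384) (Steps.fwd (nat_lit 40960) (Steps.fwd (nat_lit 32768) (Steps.bwd (nat_lit 5) (Steps.bwd (nat_lit 13) Steps.nil)))))) (nat_lit 30) (nat_lit 1),
  Rule.mk (nat_lit 10) (nat_lit 88) (Steps.bwd (nat_lit 6) (Steps.fwd (nat_lit 8192) (Steps.bwd (nat_lit 7) (Steps.bwd (nat_lit 1) (Steps.fwd (nat_lit 12288) Steps.nil))))) (nat_lit 22) (nat_lit 4),
  Rule.mk (nat_lit 0) (nat_lit 118) (Steps.bwd (nat_lit 12) (Steps.fwd (nat_lit 53248) (Steps.bwd (nat_lit 6) (Steps.fwd (nat_lit 28672) (Steps.bwd (nat_lit 10) (Steps.fwd (nat_lit 12288) (Steps.fwd (nat_lit 8192) Steps.nil))))))) (nat_lit 31) (nat_lit 6),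
  Rule.mk (nat_lit 4) (nat_lit 148) (Steps.fwd (nat_lit 20480) (Steps.bwd (nat_lit 14) (Steps.fwd (nat_lit 45056) (Steps.fwd (nat_lit 24576) (Steps.fwd (nat_lit 49152) (Steps.bwd (nat_lit 13) (Steps.fwd (nat_lit 16384) (Steps.fwd (nat_lit 4096) (Steps.bwd (nat_lit 2) Steps.nil))))))))) (nat_lit 52) (nat_lit 4),
  Rule.mk (nat_lit 0) (nat_lit 88) (Steps.bwd (nat_lit 8) (Steps.fwd (nat_lit 16384) (Steps.fwd (nat_lit 24576) (Steps.fwd (nat_lit 8192) (Steps.fwd (nat_lit 8192) Steps.nil))))) (nat_lit 15) (nat_lit 3),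
  Rule.mk (nat_lit 6) (nat_lit 88) (Steps.fwd (nat_lit 8192) (Steps.bwd (nat_lit 7) (Steps.fwd (nat_lit 8192) (Steps.bwd (nat_lit 4) (Steps.fwd (nat_lit 36864) Steps.nil))))) (nat_lit 22) (nat_lit 5),
  Rule.mk (nat_lit 0) (nat_lit 118) (Steps.fwd (nat_lit 4096) (Steps.fwd (nat_lit 4096) (Steps.fwd (nat_lit 4096) (Steps.bwd (nat_lit 4) (Steps.bwd (nat_lit 7) (Steps.fwd (nat_lit 8192) (Steps.bwd (nat_lit 4) Steps.nil))))))) (nat_lit 28) (nat_lit 1),
  Rule.mk (nat_lit 0) (nat_lit 88) (Steps.fwd (nat_lit 36864) (Steps.fwd (nat_lit 49152) (Steps.bwd (nat_lit 5) (Steps.bwd (nat_lit 11) (Steps.fwd (nat_lit 24576) Steps.nil))))) (nat_lit 18) (nat_lit 4),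
  Rule.mk (nat_lit 10) (nat_lit 73) (Steps.bwd (nat_lit 11) (Steps.fwd (nat_lit 24576) (Steps.fwd (nat_lit 49152) (Steps.fwd (nat_lit 24576) Steps.nil)))) (nat_lit 18) (nat_lit 0),
  Rule.mk (nat_lit 9) (nat_lit 118) (Steps.fwd (nat_lit 53248) (Steps.bwd (nat_lit 11) (Steps.bwd (nat_lit 13) (Steps.fwd (nat_lit 40960) (Steps.bwd (nat_lit 14) (Steps.fwd (nat_lit 49152) (Steps.bwd (nat_lit 13) Steps.nil))))))) (nat_lit 36) (nat_lit 1),
  Rule.mk (nat_lit 11) (nat_lit 88) (Steps.fwd (nat_lit 53248) (Steps.bwd (nat_lit 12) (Steps.bwd (nat_lit 13) (Steps.bwd (nat_lit 12) (Steps.bwd (nat_lit 9) Steps.nil))))) (nat_lit 26) (nat_lit 4),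
  Rule.mk (nat_lit 11) (nat_lit 43) (Steps.fwd (nat_lit 49152) (Steps.bwd (nat_lit 11) Steps.nil)) (nat_lit 8) (nat_lit 0),
  Rule.mk (nat_lit 0) (nat_lit 58) (Steps.bwd (nat_lit 5) (Steps.fwd (nat_lit 24576) (Steps.fwd (nat_lit 24576) Steps.nil))) (nat_lit 2) (nat_lit 0),
  Rule.mk (nat_lit 12) (nat_lit 103) (Steps.bwd (nat_lit 14) (Steps.bwd (nat_lit 6) (Steps.bwd (nat_lit 8) (Steps.fwd (nat_lit 36864) (Steps.bwd (nat_lit 4) (Steps.bwd (nat_lit 1) Steps.nil)))))) (nat_lit 31) (nat_lit 0),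
  Rule.mk (nat_lit 9) (nat_lit 118) (Steps.fwd (nat_lit 53248) (Steps.bwd (nat_lit 12) (Steps.bwd (nat_lit 5) (Steps.fwd (nat_lit 16384) (Steps.fwd (nat_lit 4096) (Steps.fwd (nat_lit 4096) (Steps.fwd (nat_lit 32768) Steps.nil))))))) (nat_lit 33) (nat_lit 2)]
noncomputable def R_25 : List (Rule) := [Rule.mk (nat_lit 5) (nat_lit 118) (Steps.fwd (nat_lit 12288) (Steps.bwd (nat_lit 6) (Steps.bwd (nat_lit 12) (Steps.bwd (nat_lit 5) (Steps.bwd (nat_lit 4) (Steps.fwd (nat_lit 20480) (Steps.bwd (nat_lit 12) Steps.nil))))))) (nat_lit 35) (nat_lit 3),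
  Rule.mk (nat_lit 0) (nat_lit 103) (Steps.fwd (nat_lit 40960) (Steps.bwd (nat_lit 11) (Steps.bwd (nat_lit 14) (Steps.bwd (nat_lit 12) (Steps.bwd (nat_lit 13) (Steps.bwd (nat_lit 12) Steps.nil)))))) (nat_lit 26) (nat_lit 2),
  Rule.mk (nat_lit 9) (nat_lit 88) (Steps.fwd (nat_lit 49152) (Steps.bwd (nat_lit 14) (Steps.bwd (nat_lit 12) (Steps.fwd (nat_lit 57344) (Steps.bwd (nat_lit 12) Steps.nil))))) (nat_lit 26) (nat_lit 3),
  Rule.mk (nat_lit 3) (nat_lit 148) (Steps.fwd (nat_lit 4096) (Steps.fwd (nat_lit 4096) (Steps.bwd (nat_lit 4) (Steps.bwd (nat_lit 6) (Steps.bwd (nat_lit 14) (Steps.bwd (nat_lit 12) (Steps.fwd (nat_lit 24576) (Steps.bwd (nat_lit 11) (Steps.bwd (nat_lit 13) Steps.nil))))))))) (nat_lit 52) (nat_lit 1),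
  Rule.mk (nat_lit 9) (nat_lit 118) (Steps.bwd (nat_lit 14) (Steps.fwd (nat_lit 49152) (Steps.fwd (nat_lit 57344) (Steps.bwd (nat_lit 9) (Steps.bwd (nat_lit 14) (Steps.fwd (nat_lit 49152) (Steps.fwd (nat_lit 57344) Steps.nil))))))) (nat_lit 36) (nat_lit 1),
  Rule.mk (nat_lit 0) (nat_lit 103) (Steps.fwd (nat_lit 45056) (Steps.bwd (nat_lit 9) (Steps.bwd (nat_lit 11) (Steps.fwd (nat_lit 53248) (Steps.bwd (nat_lit 12) (Steps.fwd (nat_lit 57344) Steps.nil)))))) (nat_lit 26) (nat_lit 1),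
  Rule.mk (nat_lit 0) (nat_lit 133) (Steps.bwd (nat_lit 10) (Steps.bwd (nat_lit 8) (Steps.bwd (nat_lit 9) (Steps.fwd (nat_lit 53248) (Steps.fwd (nat_lit 36864) (Steps.bwd (nat_lit 8) (Steps.bwd (nat_lit 9) (Steps.bwd (nat_lit 14) Steps.nil)))))))) (nat_lit 39) (nat_lit 0),
  Rule.mk (nat_lit 0) (nat_lit 133) (Steps.fwd (nat_lit 32768) (Steps.bwd (nat_lit 9) (Steps.bwd (nat_lit 11) (Steps.bwd (nat_lit 13) (Steps.bwd (nat_lit 7) (Steps.fwd (nat_lit 40960) (Steps.bwd (nat_lit 11) (Steps.bwd (nat_lit 13) Steps.nil)))))))) (nat_lit 41) (nat_lit 3),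
  Rule.mk (nat_lit 0) (nat_lit 103) (Steps.bwd (nat_lit 12) (Steps.bwd (nat_lit 10) (Steps.fwd (nat_lit 49152) (Steps.fwd (nat_lit 53248) (Steps.fwd (nat_lit 49152) (Steps.fwd (nat_lit 57344) Steps.nil)))))) (nat_lit 27) (nat_lit 2),
  Rule.mk (nat_lit 14) (nat_lit 148) (Steps.fwd (nat_lit 49152) (Steps.fwd (nat_lit 53248) (Steps.bwd (nat_lit 11) (Steps.fwd (nat_lit 53248) (Steps.fwd (nat_lit 49152) (Steps.fwd (nat_lit 53248) (Steps.bwd (nat_lit 11) (Steps.bwd (nat_lit 14) (Steps.bwd (nat_lit 11) Steps.nil))))))))) (nat_lit 51) (nat_lit 1),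
  Rule.mk (nat_lit 9) (nat_lit 88) (Steps.bwd (nat_lit 11) (Steps.bwd (nat_lit 14) (Steps.fwd (nat_lit 45056) (Steps.fwd (nat_lit 57344) (Steps.fwd (nat_lit 45056) Steps.nil))))) (nat_lit 26) (nat_lit 3),
  Rule.mk (nat_lit 6) (nat_lit 73) (Steps.bwd (nat_lit 12) (Steps.bwd (nat_lit 6) (Steps.fwd (nat_lit 45056) (Steps.bwd (nat_lit 9) Steps.nil)))) (nat_lit 19) (nat_lit 2),
  Rule.mk (nat_lit 8) (nat_lit 88) (Steps.bwd (nat_lit 9) (Steps.fwd (nat_lit 8192) (Steps.bwd (nat_lit 3) (Steps.fwd (nat_lit 4096) (Steps.fwd (nat_lit 36864) Steps.nil))))) (nat_lit 20) (nat_lit 5),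
  Rule.mk (nat_lit 7) (nat_lit 88) (Steps.bwd (nat_lit 9) (Steps.fwd (nat_lit 8192) (Steps.bwd (nat_lit 4) (Steps.bwd (nat_lit 2) (Steps.fwd (nat_lit 36864) Steps.nil))))) (nat_lit 21) (nat_lit 2),
  Rule.mk (nat_lit 12) (nat_lit 88) (Steps.fwd (nat_lit 57344) (Steps.fwd (nat_lit 45056) (Steps.bwd (nat_lit 9) (Steps.fwd (nat_lit 49152) (Steps.fwd (nat_lit 53248) Steps.nil))))) (nat_lit 26) (nat_lit 0),
  Rule.mk (nat_lit 3) (nat_lit 103) (Steps.bwd (nat_lit 9) (Steps.fwd (nat_lit 32768) (Steps.bwd (nat_lit 5) (Steps.bwd (nat_lit 13) (Steps.bwd (nat_lit 11) (Steps.bwd (nat_lit 2) Steps.nil)))))) (nat_lit 30) (nat_lit 3),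
  Rule.mk (nat_lit 14) (nat_lit 118) (Steps.fwd (nat_lit 36864) (Steps.bwd (nat_lit 8) (Steps.bwd (nat_lit 9) (Steps.fwd (nat_lit 53248) (Steps.fwd (nat_lit 36864) (Steps.bwd (nat_lit 8) (Steps.bwd (nat_lit 9) Steps.nil))))))) (nat_lit 39) (nat_lit 0),
  Rule.mk (nat_lit 0) (nat_lit 103) (Steps.bwd (nat_lit 9) (Steps.bwd (nat_lit 6) (Steps.fwd (nat_lit 53248) (Steps.bwd (nat_lit 12) (Steps.fwd (nat_lit 57344) (Steps.fwd (nat_lit 24576) Steps.nil)))))) (nat_lit 24) (nat_lit 0),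
  Rule.mk (nat_lit 5) (nat_lit 88) (Steps.bwd (nat_lit 9) (Steps.bwd (nat_lit 6) (Steps.bwd (nat_lit 14) (Steps.bwd (nat_lit 12) (Steps.bwd (nat_lit 13) Steps.nil))))) (nat_lit 24) (nat_lit 0),
  Rule.mk (nat_lit 0) (nat_lit 103) (Steps.bwd (nat_lit 10) (Steps.bwd (nat_lit 6) (Steps.bwd (nat_lit 14) (Steps.fwd (nat_lit 49152) (Steps.fwd (nat_lit 57344) (Steps.fwd (nat_lit 24576) Steps.nil)))))) (nat_lit 25) (nat_lit 5),
  Rule.mk (nat_lit 0) (nat_lit 118) (Steps.bwd (nat_lit 12) (Steps.bwd (nat_lit 14) (Steps.fwd (nat_lit 20480) (Steps.fwd (nat_lit 28672) (Steps.fwd (nat_lit 36864) (Steps.bwd (nat_lit 4) (Steps.bwd (nat_lit 1) Steps.nil))))))) (nat_lit 31) (nat_lit 6),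
  Rule.mk (nat_lit 0) (nat_lit 103) (Steps.bwd (nat_lit 13) (Steps.bwd (nat_lit 12) (Steps.bwd (nat_lit 9) (Steps.fwd (nat_lit 49152) (Steps.bwd (nat_lit 14) (Steps.fwd (nat_lit 45056) Steps.nil)))))) (nat_lit 26) (nat_lit 0),
  Rule.mk (nat_lit 6) (nat_lit 88) (Steps.bwd (nat_lit 14) (Steps.bwd (nat_lit 11) (Steps.fwd (nat_lit 57344) (Steps.bwd (nat_lit 5) (Steps.fwd (nat_lit 36864) Steps.nil))))) (nat_lit 25) (nat_lit 1),
  Rule.mk (nat_lit 14) (nat_lit 88) (Steps.bwd (nat_lit 12) (Steps.bwd (nat_lit 13) (Steps.bwd (nat_lit 12) (Steps.fwd (nat_lit 40960) (Steps.bwd (nat_lit 11) Steps.nil))))) (nat_lit 26) (nat_lit 5),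
  Rule.mk (nat_lit 0) (nat_lit 58) (Steps.bwd (nat_lit 14) (Steps.bwd (nat_lit 14) (Steps.bwd (nat_lit 14) Steps.nil))) (nat_lit 11) (nat_lit 0),
  Rule.mk (nat_lit 7) (nat_lit 118) (Steps.fwd (nat_lit 40960) (Steps.bwd (nat_lit 11) (Steps.fwd (nat_lit 57344) (Steps.bwd (nat_lit 7) (Steps.fwd (nat_lit 40960) (Steps.bwd (nat_lit 11) (Steps.fwd (nat_lit 57344) Steps.nil))))))) (nat_lit 41) (nat_lit 0),
  Rule.mk (nat_lit 7) (nat_lit 73) (Steps.bwd (nat_lit 3) (Steps.fwd (nat_lit 57344) (Steps.bwd (nat_lit 5) (Steps.fwd (nat_lit 45056) Steps.nil)))) (nat_lit 17) (nat_lit 4),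
  Rule.mk (nat_lit 9) (nat_lit 88) (Steps.bwd (nat_lit 1) (Steps.fwd (nat_lit 12288) (Steps.fwd (nat_lit 4096) (Steps.fwd (nat_lit 36864) (Steps.bwd (nat_lit 7) Steps.nil))))) (nat_lit 21) (nat_lit 3),
  Rule.mk (nat_lit 14) (nat_lit 118) (Steps.bwd (nat_lit 12) (Steps.bwd (nat_lit 5) (Steps.bwd (nat_lit 3) (Steps.bwd (nat_lit 2) (Steps.bwd (nat_lit 2) (Steps.bwd (nat_lit 7) (Steps.bwd (nat_lit 9) Steps.nil))))))) (nat_lit 33) (nat_lit 3),
  Rule.mk (nat_lit 13) (nat_lit 118) (Steps.fwd (nat_lit 36864) (Steps.fwd (nat_lit 32768) (Steps.bwd (nat_lit 9) (Steps.bwd (nat_lit 13) (Steps.fwd (nat_lit 36864) (Steps.bwd (nat_lit 7) (Steps.bwd (nat_lit 9) Steps.nil))))))) (nat_lit 38) (nat_lit 1),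
  Rule.mk (nat_lit 6) (nat_lit 133) (Steps.bwd (nat_lit 11) (Steps.bwd (nat_lit 13) (Steps.fwd (nat_lit 45056) (Steps.bwd (nat_lit 4) (Steps.bwd (nat_lit 7) (Steps.fwd (nat_lit 12288) (Steps.bwd (nat_lit 7) (Steps.bwd (nat_lit 9) Steps.nil)))))))) (nat_lit 44) (nat_lit 6),
  Rule.mk (nat_lit 7) (nat_lit 73) (Steps.fwd (nat_lit 4096) (Steps.fwd (nat_lit 4096) (Steps.bwd (nat_lit 6) (Steps.fwd (nat_lit 12288) Steps.nil)))) (nat_lit 14) (nat_lit 2),
  Rule.mk (nat_lit 0) (nat_lit 103) (Steps.bwd (nat_lit 9) (Steps.bwd (nat_lit 6) (Steps.bwd (nat_lit 14) (Steps.fwd (nat_lit 45056) (Steps.fwd (nat_lit 57344) (Steps.fwd (nat_lit 24576) Steps.nil)))))) (nat_lit 24) (nat_lit 0),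
  Rule.mk (nat_lit 11) (nat_lit 118) (Steps.fwd (nat_lit 24576) (Steps.bwd (nat_lit 3) (Steps.bwd (nat_lit 6) (Steps.bwd (nat_lit 11) (Steps.fwd (nat_lit 24576) (Steps.fwd (nat_lit 16384) (Steps.bwd (nat_lit 6) Steps.nil))))))) (nat_lit 34) (nat_lit 3),
  Rule.mk (nat_lit 12) (nat_lit 88) (Steps.bwd (nat_lit 9) (Steps.bwd (nat_lit 11) (Steps.bwd (nat_lit 14) (Steps.bwd (nat_lit 12) (Steps.fwd (nat_lit 57344) Steps.nil))))) (nat_lit 26) (nat_lit 2),
  Rule.mk (nat_lit 10) (nat_lit 88) (Steps.bwd (nat_lit 11) (Steps.bwd (nat_lit 14) (Steps.fwd (nat_lit 49152) (Steps.fwd (nat_lit 57344) (Steps.fwd (nat_lit 45056) Steps.nil))))) (nat_lit 27) (nat_lit 4),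
  Rule.mk (nat_lit 14) (nat_lit 118) (Steps.bwd (nat_lit 12) (Steps.fwd (nat_lit 57344) (Steps.fwd (nat_lit 36864) (Steps.fwd (nat_lit 53248) (Steps.fwd (nat_lit 45056) (Steps.bwd (nat_lit 13) (Steps.fwd (nat_lit 36864) Steps.nil))))))) (nat_lit 37) (nat_lit 1),
  Rule.mk (nat_lit 4) (nat_lit 148) (Steps.bwd (nat_lit 14) (Steps.bwd (nat_lit 12) (Steps.bwd (nat_lit 6) (Steps.fwd (nat_lit 49152) (Steps.fwd (nat_lit 57344) (Steps.bwd (nat_lit 5) (Steps.fwd (nat_lit 16384) (Steps.fwd (nat_lit 8192) (Steps.fwd (nat_lit 8192) Steps.nil))))))))) (nat_lit 53) (nat_lit 0),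
  Rule.mk (nat_lit 2) (nat_lit 88) (Steps.bwd (nat_lit 10) (Steps.fwd (nat_lit 32768) (Steps.bwd (nat_lit 9) (Steps.fwd (nat_lit 8192) (Steps.bwd (nat_lit 4) Steps.nil))))) (nat_lit 21) (nat_lit 0),
  Rule.mk (nat_lit 0) (nat_lit 103) (Steps.bwd (nat_lit 11) (Steps.bwd (nat_lit 14) (Steps.fwd (nat_lit 49152) (Steps.bwd (nat_lit 13) (Steps.bwd (nat_lit 12) (Steps.fwd (nat_lit 36864) Steps.nil)))))) (nat_lit 27) (nat_lit 4),
  Rule.mk (nat_lit 14) (nat_lit 118) (Steps.bwd (nat_lit 12) (Steps.bwd (nat_lit 13) (Steps.fwd (nat_lit 36864) (Steps.bwd (nat_lit 14) (Steps.bwd (nat_lit 12) (Steps.bwd (nat_lit 13) (Steps.fwd (nat_lit 36864) Steps.nil))))))) (nat_lit 37) (nat_lit 1),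
  Rule.mk (nat_lit 14) (nat_lit 118) (Steps.bwd (nat_lit 12) (Steps.fwd (nat_lit 36864) (Steps.bwd (nat_lit 8) (Steps.bwd (nat_lit 14) (Steps.bwd (nat_lit 12) (Steps.bwd (nat_lit 10) (Steps.fwd (nat_lit 28672) Steps.nil))))))) (nat_lit 40) (nat_lit 2),
  Rule.mk (nat_lit 12) (nat_lit 88) (Steps.bwd (nat_lit 13) (Steps.bwd (nat_lit 5) (Steps.bwd (nat_lit 9) (Steps.bwd (nat_lit 6) (Steps.bwd (nat_lit 14) Steps.nil))))) (nat_lit 24) (nat_lit 4),
  Rule.mk (nat_lit 5) (nat_lit 73) (Steps.bwd (nat_lit 12) (Steps.bwd (nat_lit 7) (Steps.fwd (nat_lit 16384) (Steps.bwd (nat_lit 13) Steps.nil)))) (nat_lit 17) (nat_lit 2),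
  Rule.mk (nat_lit 10) (nat_lit 118) (Steps.bwd (nat_lit 14) (Steps.bwd (nat_lit 12) (Steps.bwd (nat_lit 13) (Steps.fwd (nat_lit 36864) (Steps.fwd (nat_lit 53248) (Steps.bwd (nat_lit 12) (Steps.fwd (nat_lit 57344) Steps.nil))))))) (nat_lit 37) (nat_lit 0),
  Rule.mk (nat_lit 4) (nat_lit 133) (Steps.bwd (nat_lit 7) (Steps.fwd (nat_lit 12288) (Steps.bwd (nat_lit 7) (Steps.bwd (nat_lit 9) (Steps.bwd (nat_lit 6) (Steps.fwd (nat_lit 49152) (Steps.fwd (nat_lit 57344) (Steps.bwd (nat_lit 12) Steps.nil)))))))) (nat_lit 44) (nat_lit 1),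
  Rule.mk (nat_lit 5) (nat_lit 118) (Steps.bwd (nat_lit 4) (Steps.fwd (nat_lit 20480) (Steps.fwd (nat_lit 45056) (Steps.bwd (nat_lit 5) (Steps.bwd (nat_lit 4) (Steps.fwd (nat_lit 20480) (Steps.fwd (nat_lit 45056) Steps.nil))))))) (nat_lit 35) (nat_lit 3),
  Rule.mk (nat_lit 6) (nat_lit 88) (Steps.fwd (nat_lit 53248) (Steps.fwd (nat_lit 45056) (Steps.fwd (nat_lit 57344) (Steps.bwd (nat_lit 5) (Steps.bwd (nat_lit 9) Steps.nil))))) (nat_lit 24) (nat_lit 2),
  Rule.mk (nat_lit 9) (nat_lit 118) (Steps.bwd (nat_lit 14) (Steps.fwd (nat_lit 45056) (Steps.bwd (nat_lit 5) (Steps.bwd (nat_lit 3) (Steps.bwd (nat_lit 2) (Steps.fwd (nat_lit 4096) (Steps.bwd (nat_lit 7) Steps.nil))))))) (nat_lit 33) (nat_lit 2),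
  Rule.mk (nat_lit 9) (nat_lit 148) (Steps.bwd (nat_lit 8) (Steps.bwd (nat_lit 9) (Steps.fwd (nat_lit 28672) (Steps.bwd (nat_lit 9) (Steps.bwd (nat_lit 8) (Steps.bwd (nat_lit 9) (Steps.bwd (nat_lit 8) (Steps.fwd (nat_lit 40960) (Steps.bwd (nat_lit 8) Steps.nil))))))))) (nat_lit 48) (nat_lit 0),
  Rule.mk (nat_lit 3) (nat_lit 133) (Steps.bwd (nat_lit 11) (Steps.fwd (nat_lit 53248) (Steps.bwd (nat_lit 12) (Steps.bwd (nat_lit 5) (Steps.fwd (nat_lit 36864) (Steps.fwd (nat_lit 28672) (Steps.fwd (nat_lit 16384) (Steps.bwd (nat_lit 8) Steps.nil)))))))) (nat_lit 45) (nat_lit 0),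
  Rule.mk (nat_lit 4) (nat_lit 118) (Steps.bwd (nat_lit 6) (Steps.bwd (nat_lit 12) (Steps.bwd (nat_lit 5) (Steps.fwd (nat_lit 12288) (Steps.bwd (nat_lit 6) (Steps.fwd (nat_lit 45056) (Steps.bwd (nat_lit 5) Steps.nil))))))) (nat_lit 35) (nat_lit 0),
  Rule.mk (nat_lit 14) (nat_lit 73) (Steps.bwd (nat_lit 4) (Steps.bwd (nat_lit 8) (Steps.bwd (nat_lit 11) (Steps.fwd (nat_lit 20480) Steps.nil)))) (nat_lit 16) (nat_lit 0),
  Rule.mk (nat_lit 7) (nat_lit 73) (Steps.bwd (nat_lit 3) (Steps.bwd (nat_lit 13) (Steps.bwd (nat_lit 5) (Steps.fwd (nat_lit 45056) Steps.nil)))) (nat_lit 17) (nat_lit 4),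
  Rule.mk (nat_lit 13) (nat_lit 88) (Steps.bwd (nat_lit 5) (Steps.bwd (nat_lit 9) (Steps.fwd (nat_lit 20480) (Steps.bwd (nat_lit 14) (Steps.fwd (nat_lit 45056) Steps.nil))))) (nat_lit 24) (nat_lit 5),
  Rule.mk (nat_lit 7) (nat_lit 118) (Steps.fwd (nat_lit 4096) (Steps.bwd (nat_lit 5) (Steps.fwd (nat_lit 8192) (Steps.fwd (nat_lit 36864) (Steps.fwd (nat_lit 28672) (Steps.bwd (nat_lit 2) (Steps.bwd (nat_lit 2) Steps.nil))))))) (nat_lit 42) (nat_lit 7),
  Rule.mk (nat_lit 0) (nat_lit 118) (Steps.fwd (nat_lit 16384) (Steps.bwd (nat_lit 1) (Steps.bwd (nat_lit 1) (Steps.bwd (nat_lit 1) (Steps.fwd (nat_lit 16384) (Steps.fwd (nat_lit 4096) (Steps.fwd (nat_lit 28672) Steps.nil))))))) (nat_lit 29) (nat_lit 2),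
  Rule.mk (nat_lit 12) (nat_lit 118) (Steps.bwd (nat_lit 5) (Steps.bwd (nat_lit 4) (Steps.bwd (nat_lit 6) (Steps.bwd (nat_lit 12) (Steps.fwd (nat_lit 24576) (Steps.bwd (nat_lit 4) (Steps.fwd (nat_lit 20480) Steps.nil))))))) (nat_lit 35) (nat_lit 2),
  Rule.mk (nat_lit 10) (nat_lit 118) (Steps.bwd (nat_lit 14) (Steps.fwd (nat_lit 45056) (Steps.bwd (nat_lit 13) (Steps.fwd (nat_lit 36864) (Steps.bwd (nat_lit 14) (Steps.bwd (nat_lit 12) (Steps.bwd (nat_lit 13) Steps.nil))))))) (nat_lit 37) (nat_lit 0),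
  Rule.mk (nat_lit 0) (nat_lit 148) (Steps.fwd (nat_lit 16384) (Steps.fwd (nat_lit 28672) (Steps.fwd (nat_lit 16384) (Steps.fwd (nat_lit 49152) (Steps.bwd (nat_lit 14) (Steps.bwd (nat_lit 12) (Steps.bwd (nat_lit 5) (Steps.fwd (nat_lit 36864) (Steps.bwd (nat_lit 8) Steps.nil))))))))) (nat_lit 45) (nat_lit 6),
  Rule.mk (nat_lit 6) (nat_lit 73) (Steps.bwd (nat_lit 12) (Steps.fwd (nat_lit 40960) (Steps.fwd (nat_lit 20480) (Steps.bwd (nat_lit 12) Steps.nil)))) (nat_lit 19) (nat_lit 4),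
  Rule.mk (nat_lit 0) (nat_lit 163) (Steps.bwd (nat_lit 3) (Steps.fwd (nat_lit 8192) (Steps.fwd (nat_lit 8192) (Steps.fwd (nat_lit 12288) (Steps.bwd (nat_lit 14) (Steps.bwd (nat_lit 12) (Steps.bwd (nat_lit 6) (Steps.fwd (nat_lit 49152) (Steps.fwd (nat_lit 57344) (Steps.fwd (nat_lit 24576) Steps.nil)))))))))) (nat_lit 53) (nat_lit 6),
  Rule.mk (nat_lit 0) (nat_lit 103) (Steps.bwd (nat_lit 3) (Steps.fwd (nat_lit 4096) (Steps.fwd (nat_lit 28672) (Steps.bwd (nat_lit 2) (Steps.bwd (nat_lit 5) (Steps.fwd (nat_lit 40960) Steps.nil)))))) (nat_lit 23) (nat_lit 3),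
  Rule.mk (nat_lit 1) (nat_lit 118) (Steps.fwd (nat_lit 36864) (Steps.bwd (nat_lit 8) (Steps.fwd (nat_lit 4096) (Steps.bwd (nat_lit 2) (Steps.fwd (nat_lit 32768) (Steps.bwd (nat_lit 2) (Steps.bwd (nat_lit 5) Steps.nil))))))) (nat_lit 42) (nat_lit 2)]
noncomputable def R_26 : List (Rule) := [Rule.mk (nat_lit 10) (nat_lit 88) (Steps.bwd (nat_lit 6) (Steps.bwd (nat_lit 1) (Steps.fwd (nat_lit 32768) (Steps.fwd (nat_lit 8192) (Steps.bwd (nat_lit 4) Steps.nil))))) (nat_lit 22) (nat_lit 4),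
  Rule.mk (nat_lit 6) (nat_lit 103) (Steps.fwd (nat_lit 28672) (Steps.bwd (nat_lit 10) (Steps.fwd (nat_lit 12288) (Steps.bwd (nat_lit 1) (Steps.bwd (nat_lit 12) (Steps.bwd (nat_lit 14) Steps.nil)))))) (nat_lit 31) (nat_lit 2),
  Rule.mk (nat_lit 2) (nat_lit 118) (Steps.bwd (nat_lit 6) (Steps.bwd (nat_lit 1) (Steps.bwd (nat_lit 8) (Steps.bwd (nat_lit 1) (Steps.fwd (nat_lit 8192) (Steps.fwd (nat_lit 32768) (Steps.bwd (nat_lit 9) Steps.nil))))))) (nat_lit 43) (nat_lit 7),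
  Rule.mk (nat_lit 2) (nat_lit 103) (Steps.fwd (nat_lit 12288) (Steps.fwd (nat_lit 32768) (Steps.bwd (nat_lit 1) (Steps.bwd (nat_lit 4) (Steps.bwd (nat_lit 2) (Steps.bwd (nat_lit 2) Steps.nil)))))) (nat_lit 28) (nat_lit 4),
  Rule.mk (nat_lit 7) (nat_lit 118) (Steps.fwd (nat_lit 40960) (Steps.bwd (nat_lit 14) (Steps.bwd (nat_lit 12) (Steps.fwd (nat_lit 24576) (Steps.bwd (nat_lit 3) (Steps.bwd (nat_lit 2) (Steps.bwd (nat_lit 2) Steps.nil))))))) (nat_lit 33) (nat_lit 1),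
  Rule.mk (nat_lit 4) (nat_lit 133) (Steps.fwd (nat_lit 32768) (Steps.bwd (nat_lit 4) (Steps.bwd (nat_lit 7) (Steps.fwd (nat_lit 40960) (Steps.bwd (nat_lit 6) (Steps.bwd (nat_lit 11) (Steps.bwd (nat_lit 13) (Steps.fwd (nat_lit 45056) Steps.nil)))))))) (nat_lit 44) (nat_lit 1),
  Rule.mk (nat_lit 2) (nat_lit 148) (Steps.bwd (nat_lit 4) (Steps.bwd (nat_lit 6) (Steps.fwd (nat_lit 53248) (Steps.bwd (nat_lit 12) (Steps.bwd (nat_lit 5) (Steps.fwd (nat_lit 49152) (Steps.fwd (nat_lit 57344) (Steps.fwd (nat_lit 16384) (Steps.bwd (nat_lit 2) Steps.nil))))))))) (nat_lit 52) (nat_lit 3),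
  Rule.mk (nat_lit 2) (nat_lit 118) (Steps.fwd (nat_lit 32768) (Steps.bwd (nat_lit 2) (Steps.fwd (nat_lit 24576) (Steps.fwd (nat_lit 8192) (Steps.bwd (nat_lit 10) (Steps.fwd (nat_lit 28672) (Steps.bwd (nat_lit 2) Steps.nil))))))) (nat_lit 42) (nat_lit 6),
  Rule.mk (nat_lit 2) (nat_lit 88) (Steps.fwd (nat_lit 24576) (Steps.bwd (nat_lit 9) (Steps.fwd (nat_lit 16384) (Steps.bwd (nat_lit 2) (Steps.fwd (nat_lit 28672) Steps.nil))))) (nat_lit 23) (nat_lit 1),
  Rule.mk (nat_lit 4) (nat_lit 133) (Steps.bwd (nat_lit 7) (Steps.bwd (nat_lit 4) (Steps.bwd (nat_lit 7) (Steps.bwd (nat_lit 9) (Steps.fwd (nat_lit 20480) (Steps.bwd (nat_lit 11) (Steps.fwd (nat_lit 57344) (Steps.fwd (nat_lit 45056) Steps.nil)))))))) (nat_lit 44) (nat_lit 1),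
  Rule.mk (nat_lit 0) (nat_lit 103) (Steps.bwd (nat_lit 2) (Steps.fwd (nat_lit 36864) (Steps.bwd (nat_lit 8) (Steps.fwd (nat_lit 40960) (Steps.fwd (nat_lit 8192) (Steps.fwd (nat_lit 16384) Steps.nil)))))) (nat_lit 20) (nat_lit 2),
  Rule.mk (nat_lit 0) (nat_lit 103) (Steps.fwd (nat_lit 16384) (Steps.fwd (nat_lit 4096) (Steps.fwd (nat_lit 28672) (Steps.fwd (nat_lit 4096) (Steps.fwd (nat_lit 24576) (Steps.fwd (nat_lit 40960) Steps.nil)))))) (nat_lit 23) (nat_lit 3),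
  Rule.mk (nat_lit 12) (nat_lit 103) (Steps.bwd (nat_lit 14) (Steps.fwd (nat_lit 20480) (Steps.fwd (nat_lit 28672) (Steps.bwd (nat_lit 10) (Steps.fwd (nat_lit 12288) (Steps.bwd (nat_lit 1) Steps.nil)))))) (nat_lit 31) (nat_lit 0),
  Rule.mk (nat_lit 0) (nat_lit 133) (Steps.bwd (nat_lit 10) (Steps.fwd (nat_lit 53248) (Steps.fwd (nat_lit 45056) (Steps.fwd (nat_lit 57344) (Steps.bwd (nat_lit 10) (Steps.bwd (nat_lit 14) (Steps.bwd (nat_lit 12) (Steps.fwd (nat_lit 57344) Steps.nil)))))))) (nat_lit 37) (nat_lit 3),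
  Rule.mk (nat_lit 5) (nat_lit 118) (Steps.fwd (nat_lit 8192) (Steps.bwd (nat_lit 10) (Steps.fwd (nat_lit 28672) (Steps.bwd (nat_lit 2) (Steps.bwd (nat_lit 2) (Steps.fwd (nat_lit 32768) (Steps.fwd (nat_lit 4096) Steps.nil))))))) (nat_lit 42) (nat_lit 1),
  Rule.mk (nat_lit 1) (nat_lit 73) (Steps.fwd (nat_lit 28672) (Steps.bwd (nat_lit 3) (Steps.bwd (nat_lit 5) (Steps.fwd (nat_lit 8192) Steps.nil)))) (nat_lit 15) (nat_lit 3),
  Rule.mk (nat_lit 0) (nat_lit 118) (Steps.bwd (nat_lit 13) (Steps.bwd (nat_lit 11) (Steps.bwd (nat_lit 2) (Steps.fwd (nat_lit 16384) (Steps.fwd (nat_lit 40960) (Steps.bwd (nat_lit 7) (Steps.bwd (nat_lit 5) Steps.nil))))))) (nat_lit 30) (nat_lit 6),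
  Rule.mk (nat_lit 0) (nat_lit 103) (Steps.bwd (nat_lit 5) (Steps.bwd (nat_lit 9) (Steps.bwd (nat_lit 3) (Steps.bwd (nat_lit 2) (Steps.bwd (nat_lit 8) (Steps.bwd (nat_lit 2) Steps.nil)))))) (nat_lit 23) (nat_lit 1),
  Rule.mk (nat_lit 2) (nat_lit 88) (Steps.fwd (nat_lit 36864) (Steps.fwd (nat_lit 28672) (Steps.fwd (nat_lit 40960) (Steps.fwd (nat_lit 8192) (Steps.bwd (nat_lit 3) Steps.nil))))) (nat_lit 20) (nat_lit 3),
  Rule.mk (nat_lit 9) (nat_lit 148) (Steps.fwd (nat_lit 28672) (Steps.bwd (nat_lit 1) (Steps.fwd (nat_lit 8192) (Steps.fwd (nat_lit 8192) (Steps.bwd (nat_lit 4) (Steps.fwd (nat_lit 24576) (Steps.bwd (nat_lit 3) (Steps.fwd (nat_lit 4096) (Steps.fwd (nat_lit 32768) Steps.nil))))))))) (nat_lit 46) (nat_lit 0),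
  Rule.mk (nat_lit 0) (nat_lit 133) (Steps.bwd (nat_lit 7) (Steps.bwd (nat_lit 9) (Steps.fwd (nat_lit 49152) (Steps.fwd (nat_lit 57344) (Steps.fwd (nat_lit 32768) (Steps.bwd (nat_lit 9) (Steps.bwd (nat_lit 11) (Steps.fwd (nat_lit 57344) Steps.nil)))))))) (nat_lit 41) (nat_lit 3),
  Rule.mk (nat_lit 14) (nat_lit 118) (Steps.bwd (nat_lit 11) (Steps.bwd (nat_lit 13) (Steps.fwd (nat_lit 40960) (Steps.bwd (nat_lit 14) (Steps.bwd (nat_lit 11) (Steps.fwd (nat_lit 57344) (Steps.bwd (nat_lit 9) Steps.nil))))))) (nat_lit 36) (nat_lit 2),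
  Rule.mk (nat_lit 5) (nat_lit 58) (Steps.fwd (nat_lit 12288) (Steps.bwd (nat_lit 14) (Steps.bwd (nat_lit 3) Steps.nil))) (nat_lit 12) (nat_lit 2),
  Rule.mk (nat_lit 12) (nat_lit 118) (Steps.fwd (nat_lit 36864) (Steps.bwd (nat_lit 8) (Steps.bwd (nat_lit 14) (Steps.fwd (nat_lit 45056) (Steps.bwd (nat_lit 10) (Steps.bwd (nat_lit 8) (Steps.bwd (nat_lit 14) Steps.nil))))))) (nat_lit 40) (nat_lit 3),
  Rule.mk (nat_lit 12) (nat_lit 88) (Steps.fwd (nat_lit 57344) (Steps.bwd (nat_lit 12) (Steps.fwd (nat_lit 40960) (Steps.bwd (nat_lit 11) (Steps.bwd (nat_lit 14) Steps.nil))))) (nat_lit 26) (nat_lit 0),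
  Rule.mk (nat_lit 14) (nat_lit 88) (Steps.fwd (nat_lit 49152) (Steps.fwd (nat_lit 57344) (Steps.bwd (nat_lit 12) (Steps.fwd (nat_lit 36864) (Steps.bwd (nat_lit 11) Steps.nil))))) (nat_lit 27) (nat_lit 0),
  Rule.mk (nat_lit 12) (nat_lit 88) (Steps.fwd (nat_lit 57344) (Steps.fwd (nat_lit 45056) (Steps.fwd (nat_lit 40960) (Steps.bwd (nat_lit 11) (Steps.bwd (nat_lit 14) Steps.nil))))) (nat_lit 26) (nat_lit 0),
  Rule.mk (nat_lit 6) (nat_lit 73) (Steps.bwd (nat_lit 12) (Steps.bwd (nat_lit 9) (Steps.fwd (nat_lit 20480) (Steps.bwd (nat_lit 12) Steps.nil)))) (nat_lit 19) (nat_lit 4),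
  Rule.mk (nat_lit 1) (nat_lit 88) (Steps.bwd (nat_lit 7) (Steps.fwd (nat_lit 8192) (Steps.bwd (nat_lit 4) (Steps.bwd (nat_lit 10) (Steps.bwd (nat_lit 6) Steps.nil))))) (nat_lit 22) (nat_lit 0),
  Rule.mk (nat_lit 12) (nat_lit 73) (Steps.bwd (nat_lit 6) (Steps.fwd (nat_lit 45056) (Steps.fwd (nat_lit 40960) (Steps.bwd (nat_lit 6) Steps.nil)))) (nat_lit 19) (nat_lit 3),
  Rule.mk (nat_lit 10) (nat_lit 118) (Steps.bwd (nat_lit 14) (Steps.bwd (nat_lit 12) (Steps.bwd (nat_lit 13) (Steps.bwd (nat_lit 10) (Steps.bwd (nat_lit 14) (Steps.bwd (nat_lit 12) (Steps.fwd (nat_lit 57344) Steps.nil))))))) (nat_lit 37) (nat_lit 0),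
  Rule.mk (nat_lit 3) (nat_lit 88) (Steps.fwd (nat_lit 4096) (Steps.fwd (nat_lit 36864) (Steps.bwd (nat_lit 8) (Steps.fwd (nat_lit 40960) (Steps.bwd (nat_lit 1) Steps.nil))))) (nat_lit 20) (nat_lit 2),
  Rule.mk (nat_lit 4) (nat_lit 118) (Steps.bwd (nat_lit 6) (Steps.bwd (nat_lit 11) (Steps.fwd (nat_lit 57344) (Steps.fwd (nat_lit 36864) (Steps.bwd (nat_lit 8) (Steps.bwd (nat_lit 1) (Steps.fwd (nat_lit 8192) Steps.nil))))))) (nat_lit 32) (nat_lit 3),
  Rule.mk (nat_lit 0) (nat_lit 163) (Steps.bwd (nat_lit 9) (Steps.bwd (nat_lit 8) (Steps.fwd (nat_lit 40960) (Steps.fwd (nat_lit 28672) (Steps.fwd (nat_lit 40960) (Steps.bwd (nat_lit 8) (Steps.bwd (nat_lit 9) (Steps.bwd (nat_lit 8) (Steps.fwd (nat_lit 40960) (Steps.fwd (nat_lit 28672) Steps.nil)))))))))) (nat_lit 48) (nat_lit 1),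
  Rule.mk (nat_lit 0) (nat_lit 163) (Steps.fwd (nat_lit 4096) (Steps.fwd (nat_lit 4096) (Steps.bwd (nat_lit 4) (Steps.fwd (nat_lit 20480) (Steps.bwd (nat_lit 14) (Steps.fwd (nat_lit 45056) (Steps.fwd (nat_lit 24576) (Steps.bwd (nat_lit 11) (Steps.fwd (nat_lit 57344) (Steps.fwd (nat_lit 16384) Steps.nil)))))))))) (nat_lit 52) (nat_lit 1),
  Rule.mk (nat_lit 8) (nat_lit 88) (Steps.fwd (nat_lit 4096) (Steps.bwd (nat_lit 5) (Steps.fwd (nat_lit 40960) (Steps.bwd (nat_lit 3) (Steps.bwd (nat_lit 2) Steps.nil))))) (nat_lit 23) (nat_lit 0),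
  Rule.mk (nat_lit 11) (nat_lit 103) (Steps.fwd (nat_lit 4096) (Steps.bwd (nat_lit 3) (Steps.fwd (nat_lit 40960) (Steps.fwd (nat_lit 32768) (Steps.bwd (nat_lit 5) (Steps.fwd (nat_lit 57344) Steps.nil)))))) (nat_lit 30) (nat_lit 1),
  Rule.mk (nat_lit 4) (nat_lit 148) (Steps.fwd (nat_lit 20480) (Steps.bwd (nat_lit 3) (Steps.bwd (nat_lit 2) (Steps.bwd (nat_lit 2) (Steps.bwd (nat_lit 2) (Steps.bwd (nat_lit 7) (Steps.fwd (nat_lit 36864) (Steps.fwd (nat_lit 28672) (Steps.fwd (nat_lit 8192) Steps.nil))))))))) (nat_lit 47) (nat_lit 4),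
  Rule.mk (nat_lit 12) (nat_lit 118) (Steps.bwd (nat_lit 5) (Steps.bwd (nat_lit 4) (Steps.fwd (nat_lit 20480) (Steps.fwd (nat_lit 45056) (Steps.fwd (nat_lit 24576) (Steps.bwd (nat_lit 4) (Steps.fwd (nat_lit 20480) Steps.nil))))))) (nat_lit 35) (nat_lit 2),
  Rule.mk (nat_lit 7) (nat_lit 148) (Steps.bwd (nat_lit 9) (Steps.bwd (nat_lit 8) (Steps.bwd (nat_lit 1) (Steps.bwd (nat_lit 1) (Steps.fwd (nat_lit 8192) (Steps.bwd (nat_lit 4) (Steps.bwd (nat_lit 5) (Steps.fwd (nat_lit 16384) (Steps.fwd (nat_lit 4096) Steps.nil))))))))) (nat_lit 46) (nat_lit 9),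
  Rule.mk (nat_lit 11) (nat_lit 148) (Steps.bwd (nat_lit 13) (Steps.bwd (nat_lit 3) (Steps.fwd (nat_lit 4096) (Steps.fwd (nat_lit 4096) (Steps.bwd (nat_lit 4) (Steps.fwd (nat_lit 20480) (Steps.bwd (nat_lit 14) (Steps.bwd (nat_lit 12) (Steps.fwd (nat_lit 24576) Steps.nil))))))))) (nat_lit 52) (nat_lit 9),
  Rule.mk (nat_lit 0) (nat_lit 88) (Steps.bwd (nat_lit 9) (Steps.fwd (nat_lit 20480) (Steps.bwd (nat_lit 12) (Steps.fwd (nat_lit 20480) (Steps.bwd (nat_lit 12) Steps.nil))))) (nat_lit 19) (nat_lit 0),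
  Rule.mk (nat_lit 4) (nat_lit 73) (Steps.bwd (nat_lit 8) (Steps.fwd (nat_lit 49152) (Steps.fwd (nat_lit 20480) (Steps.bwd (nat_lit 14) Steps.nil)))) (nat_lit 16) (nat_lit 1),
  Rule.mk (nat_lit 1) (nat_lit 88) (Steps.bwd (nat_lit 4) (Steps.fwd (nat_lit 36864) (Steps.bwd (nat_lit 6) (Steps.bwd (nat_lit 1) (Steps.fwd (nat_lit 32768) Steps.nil))))) (nat_lit 22) (nat_lit 2),
  Rule.mk (nat_lit 2) (nat_lit 103) (Steps.bwd (nat_lit 4) (Steps.fwd (nat_lit 32768) (Steps.fwd (nat_lit 8192) (Steps.bwd (nat_lit 4) (Steps.bwd (nat_lit 2) (Steps.fwd (nat_lit 4096) Steps.nil)))))) (nat_lit 28) (nat_lit 4),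
  Rule.mk (nat_lit 10) (nat_lit 88) (Steps.fwd (nat_lit 28672) (Steps.fwd (nat_lit 40960) (Steps.fwd (nat_lit 8192) (Steps.bwd (nat_lit 3) (Steps.bwd (nat_lit 2) Steps.nil))))) (nat_lit 20) (nat_lit 4),
  Rule.mk (nat_lit 5) (nat_lit 103) (Steps.fwd (nat_lit 57344) (Steps.fwd (nat_lit 49152) (Steps.bwd (nat_lit 2) (Steps.fwd (nat_lit 16384) (Steps.fwd (nat_lit 40960) (Steps.fwd (nat_lit 32768) Steps.nil)))))) (nat_lit 30) (nat_lit 6),
  Rule.mk (nat_lit 0) (nat_lit 163) (Steps.bwd (nat_lit 11) (Steps.bwd (nat_lit 13) (Steps.bwd (nat_lit 5) (Steps.fwd (nat_lit 16384) (Steps.bwd (nat_lit 1) (Steps.fwd (nat_lit 8192) (Steps.fwd (nat_lit 12288) (Steps.bwd (nat_lit 14) (Steps.bwd (nat_lit 12) (Steps.fwd (nat_lit 20480) Steps.nil)))))))))) (nat_lit 53) (nat_lit 3),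
  Rule.mk (nat_lit 0) (nat_lit 103) (Steps.bwd (nat_lit 14) (Steps.fwd (nat_lit 49152) (Steps.bwd (nat_lit 13) (Steps.fwd (nat_lit 24576) (Steps.fwd (nat_lit 36864) (Steps.bwd (nat_lit 6) Steps.nil)))))) (nat_lit 25) (nat_lit 1),
  Rule.mk (nat_lit 8) (nat_lit 118) (Steps.fwd (nat_lit 8192) (Steps.bwd (nat_lit 1) (Steps.fwd (nat_lit 12288) (Steps.fwd (nat_lit 20480) (Steps.fwd (nat_lit 49152) (Steps.bwd (nat_lit 13) (Steps.bwd (nat_lit 10) Steps.nil))))))) (nat_lit 32) (nat_lit 0),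
  Rule.mk (nat_lit 12) (nat_lit 148) (Steps.fwd (nat_lit 57344) (Steps.fwd (nat_lit 45056) (Steps.bwd (nat_lit 13) (Steps.fwd (nat_lit 45056) (Steps.bwd (nat_lit 13) (Steps.bwd (nat_lit 12) (Steps.fwd (nat_lit 57344) (Steps.bwd (nat_lit 12) (Steps.fwd (nat_lit 57344) Steps.nil))))))))) (nat_lit 50) (nat_lit 1),
  Rule.mk (nat_lit 4) (nat_lit 73) (Steps.bwd (nat_lit 8) (Steps.fwd (nat_lit 49152) (Steps.bwd (nat_lit 6) (Steps.fwd (nat_lit 53248) Steps.nil)))) (nat_lit 16) (nat_lit 1),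
  Rule.mk (nat_lit 5) (nat_lit 118) (Steps.bwd (nat_lit 4) (Steps.bwd (nat_lit 6) (Steps.fwd (nat_lit 45056) (Steps.bwd (nat_lit 5) (Steps.bwd (nat_lit 4) (Steps.fwd (nat_lit 20480) (Steps.fwd (nat_lit 45056) Steps.nil))))))) (nat_lit 35) (nat_lit 3),
  Rule.mk (nat_lit 7) (nat_lit 133) (Steps.bwd (nat_lit 4) (Steps.bwd (nat_lit 7) (Steps.bwd (nat_lit 9) (Steps.fwd (nat_lit 20480) (Steps.bwd (nat_lit 11) (Steps.bwd (nat_lit 13) (Steps.fwd (nat_lit 45056) (Steps.bwd (nat_lit 4) Steps.nil)))))))) (nat_lit 44) (nat_lit 2),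
  Rule.mk (nat_lit 2) (nat_lit 88) (Steps.bwd (nat_lit 10) (Steps.fwd (nat_lit 28672) (Steps.fwd (nat_lit 40960) (Steps.fwd (nat_lit 8192) (Steps.bwd (nat_lit 3) Steps.nil))))) (nat_lit 20) (nat_lit 3),
  Rule.mk (nat_lit 7) (nat_lit 148) (Steps.fwd (nat_lit 36864) (Steps.bwd (nat_lit 8) (Steps.fwd (nat_lit 8192) (Steps.bwd (nat_lit 4) (Steps.bwd (nat_lit 6) (Steps.fwd (nat_lit 16384) (Steps.bwd (nat_lit 2) (Steps.bwd (nat_lit 2) (Steps.fwd (nat_lit 4096) Steps.nil))))))))) (nat_lit 47) (nat_lit 0),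
  Rule.mk (nat_lit 0) (nat_lit 118) (Steps.fwd (nat_lit 40960) (Steps.bwd (nat_lit 7) (Steps.bwd (nat_lit 5) (Steps.fwd (nat_lit 57344) (Steps.bwd (nat_lit 11) (Steps.fwd (nat_lit 4096) (Steps.bwd (nat_lit 3) Steps.nil))))))) (nat_lit 30) (nat_lit 3),
  Rule.mk (nat_lit 13) (nat_lit 73) (Steps.fwd (nat_lit 24576) (Steps.fwd (nat_lit 45056) (Steps.fwd (nat_lit 32768) (Steps.bwd (nat_lit 3) Steps.nil)))) (nat_lit 17) (nat_lit 1),
  Rule.mk (nat_lit 6) (nat_lit 88) (Steps.fwd (nat_lit 53248) (Steps.bwd (nat_lit 12) (Steps.fwd (nat_lit 57344) (Steps.fwd (nat_lit 24576) (Steps.bwd (nat_lit 9) Steps.nil))))) (nat_lit 24) (nat_lit 2),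
  Rule.mk (nat_lit 6) (nat_lit 73) (Steps.bwd (nat_lit 14) (Steps.bwd (nat_lit 4) (Steps.fwd (nat_lit 28672) (Steps.fwd (nat_lit 49152) Steps.nil)))) (nat_lit 16) (nat_lit 4),
  Rule.mk (nat_lit 1) (nat_lit 88) (Steps.bwd (nat_lit 7) (Steps.bwd (nat_lit 1) (Steps.bwd (nat_lit 4) (Steps.bwd (nat_lit 10) (Steps.bwd (nat_lit 6) Steps.nil))))) (nat_lit 22) (nat_lit 0),
  Rule.mk (nat_lit 8) (nat_lit 148) (Steps.bwd (nat_lit 1) (Steps.bwd (nat_lit 4) (Steps.bwd (nat_lit 6) (Steps.bwd (nat_lit 3) (Steps.bwd (nat_lit 2) (Steps.bwd (nat_lit 2) (Steps.bwd (nat_lit 2) (Steps.fwd (nat_lit 32768) (Steps.bwd (nat_lit 10) Steps.nil))))))))) (nat_lit 47) (nat_lit 2),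
  Rule.mk (nat_lit 7) (nat_lit 118) (Steps.fwd (nat_lit 4096) (Steps.fwd (nat_lit 24576) (Steps.fwd (nat_lit 8192) (Steps.bwd (nat_lit 10) (Steps.bwd (nat_lit 8) (Steps.fwd (nat_lit 4096) (Steps.fwd (nat_lit 4096) Steps.nil))))))) (nat_lit 42) (nat_lit 7),
  Rule.mk (nat_lit 10) (nat_lit 88) (Steps.bwd (nat_lit 7) (Steps.fwd (nat_lit 40960) (Steps.bwd (nat_lit 1) (Steps.fwd (nat_lit 12288) (Steps.fwd (nat_lit 4096) Steps.nil))))) (nat_lit 21) (nat_lit 1)]
noncomputable def R_27 : List (Rule) := [Rule.mk (nat_lit 4) (nat_lit 103) (Steps.bwd (nat_lit 7) (Steps.bwd (nat_lit 1) (Steps.fwd (nat_lit 12288) (Steps.fwd (nat_lit 4096) (Steps.fwd (nat_lit 4096) (Steps.bwd (nat_lit 2) Steps.nil)))))) (nat_lit 28) (nat_lit 5),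
  Rule.mk (nat_lit 3) (nat_lit 118) (Steps.fwd (nat_lit 4096) (Steps.fwd (nat_lit 4096) (Steps.bwd (nat_lit 7) (Steps.fwd (nat_lit 40960) (Steps.fwd (nat_lit 53248) (Steps.bwd (nat_lit 12) (Steps.fwd (nat_lit 24576) Steps.nil))))))) (nat_lit 33) (nat_lit 6),
  Rule.mk (nat_lit 4) (nat_lit 133) (Steps.fwd (nat_lit 32768) (Steps.bwd (nat_lit 4) (Steps.bwd (nat_lit 7) (Steps.fwd (nat_lit 40960) (Steps.fwd (nat_lit 20480) (Steps.fwd (nat_lit 49152) (Steps.bwd (nat_lit 13) (Steps.fwd (nat_lit 45056) Steps.nil)))))))) (nat_lit 44) (nat_lit 1),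
  Rule.mk (nat_lit 4) (nat_lit 103) (Steps.fwd (nat_lit 32768) (Steps.bwd (nat_lit 1) (Steps.fwd (nat_lit 12288) (Steps.bwd (nat_lit 2) (Steps.bwd (nat_lit 2) (Steps.bwd (nat_lit 2) Steps.nil)))))) (nat_lit 28) (nat_lit 5),
  Rule.mk (nat_lit 5) (nat_lit 103) (Steps.bwd (nat_lit 13) (Steps.fwd (nat_lit 49152) (Steps.bwd (nat_lit 2) (Steps.fwd (nat_lit 16384) (Steps.fwd (nat_lit 40960) (Steps.bwd (nat_lit 7) Steps.nil)))))) (nat_lit 30) (nat_lit 6),
  Rule.mk (nat_lit 9) (nat_lit 88) (Steps.bwd (nat_lit 3) (Steps.fwd (nat_lit 4096) (Steps.bwd (nat_lit 8) (Steps.bwd (nat_lit 2) (Steps.bwd (nat_lit 5) Steps.nil))))) (nat_lit 23) (nat_lit 3),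
  Rule.mk (nat_lit 8) (nat_lit 88) (Steps.bwd (nat_lit 9) (Steps.bwd (nat_lit 1) (Steps.fwd (nat_lit 16384) (Steps.fwd (nat_lit 4096) (Steps.fwd (nat_lit 36864) Steps.nil))))) (nat_lit 20) (nat_lit 5),
  Rule.mk (nat_lit 11) (nat_lit 88) (Steps.fwd (nat_lit 57344) (Steps.bwd (nat_lit 5) (Steps.bwd (nat_lit 10) (Steps.fwd (nat_lit 20480) (Steps.bwd (nat_lit 14) Steps.nil))))) (nat_lit 25) (nat_lit 3),
  Rule.mk (nat_lit 2) (nat_lit 118) (Steps.fwd (nat_lit 4096) (Steps.bwd (nat_lit 7) (Steps.bwd (nat_lit 9) (Steps.bwd (nat_lit 14) (Steps.bwd (nat_lit 12) (Steps.bwd (nat_lit 5) (Steps.fwd (nat_lit 16384) Steps.nil))))))) (nat_lit 33) (nat_lit 7),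
  Rule.mk (nat_lit 10) (nat_lit 118) (Steps.bwd (nat_lit 14) (Steps.fwd (nat_lit 45056) (Steps.fwd (nat_lit 57344) (Steps.fwd (nat_lit 36864) (Steps.bwd (nat_lit 14) (Steps.bwd (nat_lit 12) (Steps.bwd (nat_lit 13) Steps.nil))))))) (nat_lit 37) (nat_lit 0),
  Rule.mk (nat_lit 8) (nat_lit 118) (Steps.bwd (nat_lit 14) (Steps.fwd (nat_lit 45056) (Steps.fwd (nat_lit 36864) (Steps.fwd (nat_lit 28672) (Steps.bwd (nat_lit 14) (Steps.bwd (nat_lit 12) (Steps.fwd (nat_lit 36864) Steps.nil))))))) (nat_lit 40) (nat_lit 1),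
  Rule.mk (nat_lit 0) (nat_lit 103) (Steps.bwd (nat_lit 10) (Steps.fwd (nat_lit 32768) (Steps.bwd (nat_lit 9) (Steps.bwd (nat_lit 1) (Steps.bwd (nat_lit 4) (Steps.bwd (nat_lit 2) Steps.nil)))))) (nat_lit 21) (nat_lit 0),
  Rule.mk (nat_lit 7) (nat_lit 118) (Steps.bwd (nat_lit 2) (Steps.bwd (nat_lit 5) (Steps.bwd (nat_lit 1) (Steps.fwd (nat_lit 36864) (Steps.bwd (nat_lit 8) (Steps.fwd (nat_lit 4096) (Steps.fwd (nat_lit 4096) Steps.nil))))))) (nat_lit 42) (nat_lit 7),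
  Rule.mk (nat_lit 3) (nat_lit 73) (Steps.bwd (nat_lit 13) (Steps.fwd (nat_lit 24576) (Steps.fwd (nat_lit 45056) (Steps.bwd (nat_lit 7) Steps.nil)))) (nat_lit 17) (nat_lit 0),
  Rule.mk (nat_lit 12) (nat_lit 73) (Steps.fwd (nat_lit 32768) (Steps.fwd (nat_lit 16384) (Steps.fwd (nat_lit 57344) (Steps.bwd (nat_lit 5) Steps.nil)))) (nat_lit 17) (nat_lit 3),
  Rule.mk (nat_lit 11) (nat_lit 73) (Steps.fwd (nat_lit 24576) (Steps.bwd (nat_lit 10) (Steps.fwd (nat_lit 49152) (Steps.bwd (nat_lit 5) Steps.nil)))) (nat_lit 18) (nat_lit 3),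
  Rule.mk (nat_lit 9) (nat_lit 88) (Steps.bwd (nat_lit 6) (Steps.bwd (nat_lit 14) (Steps.bwd (nat_lit 12) (Steps.fwd (nat_lit 57344) (Steps.bwd (nat_lit 5) Steps.nil))))) (nat_lit 24) (nat_lit 1),
  Rule.mk (nat_lit 14) (nat_lit 118) (Steps.bwd (nat_lit 12) (Steps.bwd (nat_lit 13) (Steps.fwd (nat_lit 36864) (Steps.bwd (nat_lit 14) (Steps.fwd (nat_lit 45056) (Steps.fwd (nat_lit 57344) (Steps.bwd (nat_lit 10) Steps.nil))))))) (nat_lit 37) (nat_lit 1),
  Rule.mk (nat_lit 0) (nat_lit 133) (Steps.fwd (nat_lit 4096) (Steps.fwd (nat_lit 4096) (Steps.fwd (nat_lit 32768) (Steps.bwd (nat_lit 9) (Steps.bwd (nat_lit 14) (Steps.bwd (nat_lit 12) (Steps.fwd (nat_lit 24576) (Steps.fwd (nat_lit 16384) Steps.nil)))))))) (nat_lit 33) (nat_lit 6),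
  Rule.mk (nat_lit 4) (nat_lit 103) (Steps.fwd (nat_lit 4096) (Steps.fwd (nat_lit 4096) (Steps.bwd (nat_lit 2) (Steps.bwd (nat_lit 4) (Steps.fwd (nat_lit 32768) (Steps.fwd (nat_lit 8192) Steps.nil)))))) (nat_lit 28) (nat_lit 1),
  Rule.mk (nat_lit 0) (nat_lit 133) (Steps.fwd (nat_lit 36864) (Steps.bwd (nat_lit 8) (Steps.fwd (nat_lit 4096) (Steps.bwd (nat_lit 2) (Steps.fwd (nat_lit 32768) (Steps.bwd (nat_lit 2) (Steps.fwd (nat_lit 24576) (Steps.fwd (nat_lit 8192) Steps.nil)))))))) (nat_lit 42) (nat_lit 2),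
  Rule.mk (nat_lit 3) (nat_lit 148) (Steps.fwd (nat_lit 4096) (Steps.bwd (nat_lit 2) (Steps.bwd (nat_lit 4) (Steps.bwd (nat_lit 6) (Steps.bwd (nat_lit 14) (Steps.bwd (nat_lit 12) (Steps.bwd (nat_lit 5) (Steps.bwd (nat_lit 11) (Steps.fwd (nat_lit 57344) Steps.nil))))))))) (nat_lit 52) (nat_lit 1),
  Rule.mk (nat_lit 13) (nat_lit 73) (Steps.bwd (nat_lit 5) (Steps.fwd (nat_lit 45056) (Steps.bwd (nat_lit 7) (Steps.bwd (nat_lit 3) Steps.nil)))) (nat_lit 17) (nat_lit 1),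
  Rule.mk (nat_lit 0) (nat_lit 103) (Steps.bwd (nat_lit 8) (Steps.bwd (nat_lit 2) (Steps.fwd (nat_lit 24576) (Steps.bwd (nat_lit 9) (Steps.bwd (nat_lit 3) (Steps.fwd (nat_lit 4096) Steps.nil)))))) (nat_lit 23) (nat_lit 5),
  Rule.mk (nat_lit 4) (nat_lit 148) (Steps.bwd (nat_lit 14) (Steps.bwd (nat_lit 12) (Steps.fwd (nat_lit 20480) (Steps.fwd (nat_lit 49152) (Steps.bwd (nat_lit 13) (Steps.fwd (nat_lit 24576) (Steps.bwd (nat_lit 3) (Steps.bwd (nat_lit 1) (Steps.bwd (nat_lit 1) Steps.nil))))))))) (nat_lit 53) (nat_lit 0),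
  Rule.mk (nat_lit 6) (nat_lit 103) (Steps.bwd (nat_lit 8) (Steps.fwd (nat_lit 36864) (Steps.bwd (nat_lit 4) (Steps.fwd (nat_lit 8192) (Steps.fwd (nat_lit 45056) (Steps.fwd (nat_lit 53248) Steps.nil)))))) (nat_lit 31) (nat_lit 2),
  Rule.mk (nat_lit 3) (nat_lit 148) (Steps.fwd (nat_lit 4096) (Steps.fwd (nat_lit 4096) (Steps.fwd (nat_lit 4096) (Steps.bwd (nat_lit 7) (Steps.fwd (nat_lit 36864) (Steps.fwd (nat_lit 28672) (Steps.fwd (nat_lit 8192) (Steps.fwd (nat_lit 12288) (Steps.bwd (nat_lit 6) Steps.nil))))))))) (nat_lit 47) (nat_lit 6),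
  Rule.mk (nat_lit 0) (nat_lit 163) (Steps.fwd (nat_lit 45056) (Steps.fwd (nat_lit 24576) (Steps.bwd (nat_lit 11) (Steps.fwd (nat_lit 57344) (Steps.bwd (nat_lit 3) (Steps.fwd (nat_lit 4096) (Steps.bwd (nat_lit 2) (Steps.fwd (nat_lit 12288) (Steps.fwd (nat_lit 20480) (Steps.bwd (nat_lit 14) Steps.nil)))))))))) (nat_lit 52) (nat_lit 6),
  Rule.mk (nat_lit 3) (nat_lit 103) (Steps.bwd (nat_lit 2) (Steps.fwd (nat_lit 28672) (Steps.bwd (nat_lit 3) (Steps.bwd (nat_lit 1) (Steps.bwd (nat_lit 1) (Steps.fwd (nat_lit 8192) Steps.nil)))))) (nat_lit 29) (nat_lit 0),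
  Rule.mk (nat_lit 2) (nat_lit 88) (Steps.fwd (nat_lit 24576) (Steps.bwd (nat_lit 9) (Steps.bwd (nat_lit 3) (Steps.bwd (nat_lit 2) (Steps.fwd (nat_lit 28672) Steps.nil))))) (nat_lit 23) (nat_lit 1),
  Rule.mk (nat_lit 6) (nat_lit 73) (Steps.fwd (nat_lit 12288) (Steps.fwd (nat_lit 32768) (Steps.bwd (nat_lit 2) (Steps.fwd (nat_lit 4096) Steps.nil)))) (nat_lit 14) (nat_lit 0),
  Rule.mk (nat_lit 6) (nat_lit 88) (Steps.bwd (nat_lit 14) (Steps.fwd (nat_lit 45056) (Steps.bwd (nat_lit 13) (Steps.fwd (nat_lit 24576) (Steps.bwd (nat_lit 9) Steps.nil))))) (nat_lit 24) (nat_lit 2),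
  Rule.mk (nat_lit 5) (nat_lit 103) (Steps.bwd (nat_lit 13) (Steps.fwd (nat_lit 49152) (Steps.bwd (nat_lit 2) (Steps.fwd (nat_lit 16384) (Steps.bwd (nat_lit 9) (Steps.fwd (nat_lit 32768) Steps.nil)))))) (nat_lit 30) (nat_lit 6),
  Rule.mk (nat_lit 0) (nat_lit 103) (Steps.fwd (nat_lit 36864) (Steps.bwd (nat_lit 6) (Steps.fwd (nat_lit 8192) (Steps.bwd (nat_lit 7) (Steps.bwd (nat_lit 1) (Steps.fwd (nat_lit 12288) Steps.nil)))))) (nat_lit 22) (nat_lit 3),
  Rule.mk (nat_lit 13) (nat_lit 103) (Steps.bwd (nat_lit 11) (Steps.fwd (nat_lit 4096) (Steps.bwd (nat_lit 3) (Steps.bwd (nat_lit 9) (Steps.bwd (nat_lit 7) (Steps.bwd (nat_lit 5) Steps.nil)))))) (nat_lit 30) (nat_lit 0),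
  Rule.mk (nat_lit 3) (nat_lit 73) (Steps.bwd (nat_lit 13) (Steps.bwd (nat_lit 5) (Steps.fwd (nat_lit 45056) (Steps.fwd (nat_lit 32768) Steps.nil)))) (nat_lit 17) (nat_lit 0),
  Rule.mk (nat_lit 1) (nat_lit 103) (Steps.bwd (nat_lit 12) (Steps.fwd (nat_lit 53248) (Steps.fwd (nat_lit 20480) (Steps.bwd (nat_lit 8) (Steps.bwd (nat_lit 10) (Steps.bwd (nat_lit 4) Steps.nil)))))) (nat_lit 31) (nat_lit 6),
  Rule.mk (nat_lit 14) (nat_lit 118) (Steps.fwd (nat_lit 45056) (Steps.fwd (nat_lit 36864) (Steps.bwd (nat_lit 8) (Steps.fwd (nat_lit 53248) (Steps.bwd (nat_lit 12) (Steps.bwd (nat_lit 10) (Steps.fwd (nat_lit 28672) Steps.nil))))))) (nat_lit 40) (nat_lit 2),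
  Rule.mk (nat_lit 12) (nat_lit 88) (Steps.bwd (nat_lit 10) (Steps.bwd (nat_lit 11) (Steps.bwd (nat_lit 14) (Steps.bwd (nat_lit 11) (Steps.bwd (nat_lit 13) Steps.nil))))) (nat_lit 27) (nat_lit 3),
  Rule.mk (nat_lit 6) (nat_lit 58) (Steps.bwd (nat_lit 4) (Steps.bwd (nat_lit 13) (Steps.fwd (nat_lit 16384) Steps.nil))) (nat_lit 13) (nat_lit 3),
  Rule.mk (nat_lit 8) (nat_lit 103) (Steps.fwd (nat_lit 36864) (Steps.fwd (nat_lit 12288) (Steps.bwd (nat_lit 1) (Steps.bwd (nat_lit 12) (Steps.fwd (nat_lit 53248) (Steps.bwd (nat_lit 6) Steps.nil)))))) (nat_lit 31) (nat_lit 3),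
  Rule.mk (nat_lit 3) (nat_lit 73) (Steps.fwd (nat_lit 24576) (Steps.bwd (nat_lit 1) (Steps.fwd (nat_lit 8192) (Steps.bwd (nat_lit 8) Steps.nil)))) (nat_lit 15) (nat_lit 0),
  Rule.mk (nat_lit 9) (nat_lit 88) (Steps.bwd (nat_lit 1) (Steps.fwd (nat_lit 16384) (Steps.fwd (nat_lit 4096) (Steps.bwd (nat_lit 10) (Steps.bwd (nat_lit 8) Steps.nil))))) (nat_lit 20) (nat_lit 0),
  Rule.mk (nat_lit 0) (nat_lit 103) (Steps.bwd (nat_lit 2) (Steps.bwd (nat_lit 5) (Steps.bwd (nat_lit 9) (Steps.fwd (nat_lit 16384) (Steps.fwd (nat_lit 4096) (Steps.fwd (nat_lit 28672) Steps.nil)))))) (nat_lit 23) (nat_lit 0),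
  Rule.mk (nat_lit 0) (nat_lit 88) (Steps.bwd (nat_lit 2) (Steps.fwd (nat_lit 4096) (Steps.bwd (nat_lit 6) (Steps.fwd (nat_lit 12288) (Steps.fwd (nat_lit 32768) Steps.nil))))) (nat_lit 14) (nat_lit 2),
  Rule.mk (nat_lit 0) (nat_lit 133) (Steps.bwd (nat_lit 2) (Steps.fwd (nat_lit 4096) (Steps.bwd (nat_lit 7) (Steps.fwd (nat_lit 40960) (Steps.fwd (nat_lit 53248) (Steps.fwd (nat_lit 45056) (Steps.fwd (nat_lit 24576) (Steps.bwd (nat_lit 3) Steps.nil)))))))) (nat_lit 33) (nat_lit 6),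
  Rule.mk (nat_lit 5) (nat_lit 118) (Steps.bwd (nat_lit 1) (Steps.fwd (nat_lit 36864) (Steps.fwd (nat_lit 28672) (Steps.fwd (nat_lit 4096) (Steps.fwd (nat_lit 4096) (Steps.bwd (nat_lit 7) (Steps.bwd (nat_lit 2) Steps.nil))))))) (nat_lit 42) (nat_lit 1),
  Rule.mk (nat_lit 3) (nat_lit 73) (Steps.bwd (nat_lit 5) (Steps.bwd (nat_lit 1) (Steps.fwd (nat_lit 8192) (Steps.fwd (nat_lit 28672) Steps.nil)))) (nat_lit 15) (nat_lit 0),
  Rule.mk (nat_lit 0) (nat_lit 118) (Steps.fwd (nat_lit 4096) (Steps.fwd (nat_lit 28672) (Steps.bwd (nat_lit 3) (Steps.fwd (nat_lit 8192) (Steps.bwd (nat_lit 1) (Steps.fwd (nat_lit 8192) (Steps.fwd (nat_lit 16384) Steps.nil))))))) (nat_lit 29) (nat_lit 0),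
  Rule.mk (nat_lit 1) (nat_lit 73) (Steps.bwd (nat_lit 1) (Steps.fwd (nat_lit 28672) (Steps.fwd (nat_lit 16384) (Steps.bwd (nat_lit 5) Steps.nil)))) (nat_lit 15) (nat_lit 2),
  Rule.mk (nat_lit 0) (nat_lit 103) (Steps.fwd (nat_lit 8192) (Steps.fwd (nat_lit 12288) (Steps.fwd (nat_lit 4096) (Steps.bwd (nat_lit 10) (Steps.fwd (nat_lit 32768) (Steps.bwd (nat_lit 9) Steps.nil)))))) (nat_lit 21) (nat_lit 3),
  Rule.mk (nat_lit 6) (nat_lit 88) (Steps.bwd (nat_lit 1) (Steps.fwd (nat_lit 32768) (Steps.bwd (nat_lit 1) (Steps.fwd (nat_lit 12288) (Steps.fwd (nat_lit 36864) Steps.nil))))) (nat_lit 22) (nat_lit 5),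
  Rule.mk (nat_lit 14) (nat_lit 88) (Steps.fwd (nat_lit 49152) (Steps.bwd (nat_lit 13) (Steps.fwd (nat_lit 45056) (Steps.fwd (nat_lit 36864) (Steps.fwd (nat_lit 49152) Steps.nil))))) (nat_lit 27) (nat_lit 0),
  Rule.mk (nat_lit 9) (nat_lit 118) (Steps.bwd (nat_lit 14) (Steps.fwd (nat_lit 49152) (Steps.bwd (nat_lit 13) (Steps.fwd (nat_lit 40960) (Steps.fwd (nat_lit 53248) (Steps.bwd (nat_lit 11) (Steps.fwd (nat_lit 57344) Steps.nil))))))) (nat_lit 36) (nat_lit 1),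
  Rule.mk (nat_lit 9) (nat_lit 118) (Steps.fwd (nat_lit 49152) (Steps.bwd (nat_lit 13) (Steps.fwd (nat_lit 32768) (Steps.bwd (nat_lit 9) (Steps.bwd (nat_lit 11) (Steps.bwd (nat_lit 13) (Steps.fwd (nat_lit 32768) Steps.nil))))))) (nat_lit 41) (nat_lit 1),
  Rule.mk (nat_lit 8) (nat_lit 88) (Steps.bwd (nat_lit 2) (Steps.fwd (nat_lit 24576) (Steps.bwd (nat_lit 9) (Steps.fwd (nat_lit 16384) (Steps.fwd (nat_lit 4096) Steps.nil))))) (nat_lit 23) (nat_lit 0),
  Rule.mk (nat_lit 0) (nat_lit 58) (Steps.fwd (nat_lit 57344) (Steps.fwd (nat_lit 57344) (Steps.fwd (nat_lit 57344) Steps.nil))) (nat_lit 10) (nat_lit 0),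
  Rule.mk (nat_lit 12) (nat_lit 88) (Steps.bwd (nat_lit 13) (Steps.fwd (nat_lit 45056) (Steps.bwd (nat_lit 9) (Steps.fwd (nat_lit 49152) (Steps.bwd (nat_lit 14) Steps.nil))))) (nat_lit 26) (nat_lit 0),
  Rule.mk (nat_lit 2) (nat_lit 88) (Steps.fwd (nat_lit 36864) (Steps.bwd (nat_lit 7) (Steps.bwd (nat_lit 9) (Steps.fwd (nat_lit 8192) (Steps.bwd (nat_lit 4) Steps.nil))))) (nat_lit 21) (nat_lit 0),
  Rule.mk (nat_lit 6) (nat_lit 88) (Steps.bwd (nat_lit 1) (Steps.fwd (nat_lit 32768) (Steps.fwd (nat_lit 8192) (Steps.bwd (nat_lit 4) (Steps.fwd (nat_lit 36864) Steps.nil))))) (nat_lit 22) (nat_lit 5),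
  Rule.mk (nat_lit 2) (nat_lit 118) (Steps.bwd (nat_lit 6) (Steps.bwd (nat_lit 1) (Steps.fwd (nat_lit 28672) (Steps.fwd (nat_lit 8192) (Steps.bwd (nat_lit 1) (Steps.fwd (nat_lit 32768) (Steps.bwd (nat_lit 9) Steps.nil))))))) (nat_lit 43) (nat_lit 7),
  Rule.mk (nat_lit 0) (nat_lit 58) (Steps.fwd (nat_lit 53248) (Steps.fwd (nat_lit 53248) (Steps.fwd (nat_lit 53248) Steps.nil))) (nat_lit 11) (nat_lit 0),
  Rule.mk (nat_lit 12) (nat_lit 88) (Steps.fwd (nat_lit 36864) (Steps.fwd (nat_lit 49152) (Steps.bwd (nat_lit 14) (Steps.fwd (nat_lit 49152) (Steps.fwd (nat_lit 57344) Steps.nil))))) (nat_lit 27) (nat_lit 3),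
  Rule.mk (nat_lit 5) (nat_lit 73) (Steps.bwd (nat_lit 12) (Steps.bwd (nat_lit 7) (Steps.bwd (nat_lit 3) (Steps.bwd (nat_lit 13) Steps.nil)))) (nat_lit 17) (nat_lit 2)]
noncomputable def R_28 : List (Rule) := [Rule.mk (nat_lit 2) (nat_lit 103) (Steps.bwd (nat_lit 3) (Steps.bwd (nat_lit 9) (Steps.fwd (nat_lit 32768) (Steps.fwd (nat_lit 24576) (Steps.bwd (nat_lit 13) (Steps.fwd (nat_lit 49152) Steps.nil)))))) (nat_lit 30) (nat_lit 2),
  Rule.mk (nat_lit 5) (nat_lit 73) (Steps.fwd (nat_lit 36864) (Steps.bwd (nat_lit 11) (Steps.bwd (nat_lit 5) (Steps.bwd (nat_lit 11) Steps.nil)))) (nat_lit 18) (nat_lit 4),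
  Rule.mk (nat_lit 6) (nat_lit 88) (Steps.bwd (nat_lit 14) (Steps.fwd (nat_lit 49152) (Steps.bwd (nat_lit 13) (Steps.bwd (nat_lit 5) (Steps.fwd (nat_lit 36864) Steps.nil))))) (nat_lit 25) (nat_lit 1),
  Rule.mk (nat_lit 9) (nat_lit 73) (Steps.fwd (nat_lit 20480) (Steps.fwd (nat_lit 45056) (Steps.bwd (nat_lit 6) (Steps.bwd (nat_lit 12) Steps.nil)))) (nat_lit 19) (nat_lit 1),
  Rule.mk (nat_lit 6) (nat_lit 73) (Steps.fwd (nat_lit 45056) (Steps.bwd (nat_lit 9) (Steps.bwd (nat_lit 6) (Steps.bwd (nat_lit 12) Steps.nil)))) (nat_lit 19) (nat_lit 4),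
  Rule.mk (nat_lit 4) (nat_lit 88) (Steps.fwd (nat_lit 36864) (Steps.bwd (nat_lit 6) (Steps.bwd (nat_lit 1) (Steps.bwd (nat_lit 7) (Steps.fwd (nat_lit 8192) Steps.nil))))) (nat_lit 22) (nat_lit 3),
  Rule.mk (nat_lit 0) (nat_lit 118) (Steps.bwd (nat_lit 10) (Steps.bwd (nat_lit 4) (Steps.fwd (nat_lit 8192) (Steps.fwd (nat_lit 45056) (Steps.fwd (nat_lit 53248) (Steps.bwd (nat_lit 6) (Steps.fwd (nat_lit 28672) Steps.nil))))))) (nat_lit 31) (nat_lit 3),
  Rule.mk (nat_lit 12) (nat_lit 88) (Steps.bwd (nat_lit 13) (Steps.bwd (nat_lit 12) (Steps.bwd (nat_lit 9) (Steps.fwd (nat_lit 49152) (Steps.fwd (nat_lit 53248) Steps.nil))))) (nat_lit 26) (nat_lit 0),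
  Rule.mk (nat_lit 3) (nat_lit 58) (Steps.fwd (nat_lit 24576) (Steps.bwd (nat_lit 4) (Steps.fwd (nat_lit 53248) Steps.nil))) (nat_lit 12) (nat_lit 1),
  Rule.mk (nat_lit 1) (nat_lit 88) (Steps.bwd (nat_lit 4) (Steps.fwd (nat_lit 4096) (Steps.bwd (nat_lit 10) (Steps.bwd (nat_lit 7) (Steps.bwd (nat_lit 9) Steps.nil))))) (nat_lit 21) (nat_lit 4),
  Rule.mk (nat_lit 5) (nat_lit 103) (Steps.fwd (nat_lit 57344) (Steps.bwd (nat_lit 11) (Steps.bwd (nat_lit 2) (Steps.bwd (nat_lit 3) (Steps.bwd (nat_lit 9) (Steps.bwd (nat_lit 7) Steps.nil)))))) (nat_lit 30) (nat_lit 6),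
  Rule.mk (nat_lit 2) (nat_lit 148) (Steps.bwd (nat_lit 7) (Steps.fwd (nat_lit 40960) (Steps.bwd (nat_lit 8) (Steps.bwd (nat_lit 1) (Steps.bwd (nat_lit 1) (Steps.bwd (nat_lit 1) (Steps.fwd (nat_lit 12288) (Steps.bwd (nat_lit 5) (Steps.bwd (nat_lit 3) Steps.nil))))))))) (nat_lit 46) (nat_lit 8),
  Rule.mk (nat_lit 0) (nat_lit 88) (Steps.bwd (nat_lit 3) (Steps.fwd (nat_lit 57344) (Steps.bwd (nat_lit 5) (Steps.fwd (nat_lit 45056) (Steps.fwd (nat_lit 32768) Steps.nil))))) (nat_lit 17) (nat_lit 4),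
  Rule.mk (nat_lit 0) (nat_lit 118) (Steps.bwd (nat_lit 1) (Steps.fwd (nat_lit 45056) (Steps.bwd (nat_lit 14) (Steps.fwd (nat_lit 20480) (Steps.bwd (nat_lit 8) (Steps.fwd (nat_lit 36864) (Steps.fwd (nat_lit 12288) Steps.nil))))))) (nat_lit 31) (nat_lit 5),
  Rule.mk (nat_lit 11) (nat_lit 148) (Steps.bwd (nat_lit 14) (Steps.bwd (nat_lit 11) (Steps.bwd (nat_lit 14) (Steps.bwd (nat_lit 11) (Steps.bwd (nat_lit 14) (Steps.bwd (nat_lit 11) (Steps.bwd (nat_lit 14) (Steps.bwd (nat_lit 11) (Steps.bwd (nat_lit 14) Steps.nil))))))))) (nat_lit 51) (nat_lit 0),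
  Rule.mk (nat_lit 5) (nat_lit 73) (Steps.bwd (nat_lit 11) (Steps.fwd (nat_lit 24576) (Steps.fwd (nat_lit 36864) (Steps.bwd (nat_lit 11) Steps.nil)))) (nat_lit 18) (nat_lit 2),
  Rule.mk (nat_lit 5) (nat_lit 73) (Steps.bwd (nat_lit 10) (Steps.bwd (nat_lit 11) (Steps.fwd (nat_lit 24576) (Steps.fwd (nat_lit 49152) Steps.nil)))) (nat_lit 18) (nat_lit 4),
  Rule.mk (nat_lit 0) (nat_lit 103) (Steps.fwd (nat_lit 49152) (Steps.bwd (nat_lit 14) (Steps.fwd (nat_lit 49152) (Steps.fwd (nat_lit 57344) (Steps.fwd (nat_lit 45056) (Steps.bwd (nat_lit 10) Steps.nil)))))) (nat_lit 27) (nat_lit 4),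
  Rule.mk (nat_lit 3) (nat_lit 133) (Steps.bwd (nat_lit 11) (Steps.bwd (nat_lit 14) (Steps.bwd (nat_lit 12) (Steps.bwd (nat_lit 5) (Steps.bwd (nat_lit 10) (Steps.fwd (nat_lit 28672) (Steps.fwd (nat_lit 16384) (Steps.fwd (nat_lit 28672) Steps.nil)))))))) (nat_lit 45) (nat_lit 0),
  Rule.mk (nat_lit 0) (nat_lit 73) (Steps.bwd (nat_lit 5) (Steps.fwd (nat_lit 12288) (Steps.bwd (nat_lit 14) (Steps.fwd (nat_lit 16384) Steps.nil)))) (nat_lit 12) (nat_lit 1),
  Rule.mk (nat_lit 12) (nat_lit 73) (Steps.bwd (nat_lit 7) (Steps.bwd (nat_lit 3) (Steps.fwd (nat_lit 57344) (Steps.fwd (nat_lit 24576) Steps.nil)))) (nat_lit 17) (nat_lit 3),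
  Rule.mk (nat_lit 0) (nat_lit 118) (Steps.fwd (nat_lit 8192) (Steps.bwd (nat_lit 3) (Steps.bwd (nat_lit 2) (Steps.fwd (nat_lit 28672) (Steps.bwd (nat_lit 3) (Steps.fwd (nat_lit 8192) (Steps.bwd (nat_lit 1) Steps.nil))))))) (nat_lit 29) (nat_lit 5),
  Rule.mk (nat_lit 9) (nat_lit 73) (Steps.bwd (nat_lit 6) (Steps.bwd (nat_lit 12) (Steps.bwd (nat_lit 6) (Steps.bwd (nat_lit 12) Steps.nil)))) (nat_lit 19) (nat_lit 1),
  Rule.mk (nat_lit 6) (nat_lit 148) (Steps.fwd (nat_lit 53248) (Steps.bwd (nat_lit 12) (Steps.bwd (nat_lit 5) (Steps.fwd (nat_lit 49152) (Steps.bwd (nat_lit 13) (Steps.fwd (nat_lit 16384) (Steps.fwd (nat_lit 4096) (Steps.bwd (nat_lit 2) (Steps.fwd (nat_lit 12288) Steps.nil))))))))) (nat_lit 52) (nat_lit 5),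
  Rule.mk (nat_lit 5) (nat_lit 88) (Steps.fwd (nat_lit 36864) (Steps.bwd (nat_lit 6) (Steps.fwd (nat_lit 53248) (Steps.bwd (nat_lit 11) (Steps.fwd (nat_lit 57344) Steps.nil))))) (nat_lit 25) (nat_lit 5),
  Rule.mk (nat_lit 13) (nat_lit 73) (Steps.bwd (nat_lit 5) (Steps.fwd (nat_lit 45056) (Steps.fwd (nat_lit 32768) (Steps.fwd (nat_lit 16384) Steps.nil)))) (nat_lit 17) (nat_lit 1),
  Rule.mk (nat_lit 0) (nat_lit 88) (Steps.bwd (nat_lit 13) (Steps.fwd (nat_lit 24576) (Steps.bwd (nat_lit 12) (Steps.bwd (nat_lit 7) (Steps.bwd (nat_lit 3) Steps.nil))))) (nat_lit 17) (nat_lit 0),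
  Rule.mk (nat_lit 0) (nat_lit 133) (Steps.fwd (nat_lit 49152) (Steps.bwd (nat_lit 13) (Steps.fwd (nat_lit 36864) (Steps.bwd (nat_lit 8) (Steps.bwd (nat_lit 1) (Steps.bwd (nat_lit 1) (Steps.fwd (nat_lit 12288) (Steps.bwd (nat_lit 6) Steps.nil)))))))) (nat_lit 32) (nat_lit 4),
  Rule.mk (nat_lit 0) (nat_lit 148) (Steps.fwd (nat_lit 49152) (Steps.fwd (nat_lit 57344) (Steps.fwd (nat_lit 45056) (Steps.fwd (nat_lit 12288) (Steps.bwd (nat_lit 7) (Steps.fwd (nat_lit 12288) (Steps.fwd (nat_lit 32768) (Steps.bwd (nat_lit 9) (Steps.fwd (nat_lit 20480) Steps.nil))))))))) (nat_lit 44) (nat_lit 6),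
  Rule.mk (nat_lit 13) (nat_lit 118) (Steps.fwd (nat_lit 36864) (Steps.fwd (nat_lit 53248) (Steps.fwd (nat_lit 45056) (Steps.bwd (nat_lit 13) (Steps.bwd (nat_lit 10) (Steps.bwd (nat_lit 14) (Steps.bwd (nat_lit 12) Steps.nil))))))) (nat_lit 37) (nat_lit 3),
  Rule.mk (nat_lit 12) (nat_lit 88) (Steps.fwd (nat_lit 40960) (Steps.bwd (nat_lit 11) (Steps.bwd (nat_lit 14) (Steps.bwd (nat_lit 12) (Steps.bwd (nat_lit 13) Steps.nil))))) (nat_lit 26) (nat_lit 2),
  Rule.mk (nat_lit 2) (nat_lit 88) (Steps.bwd (nat_lit 5) (Steps.bwd (nat_lit 9) (Steps.bwd (nat_lit 3) (Steps.fwd (nat_lit 4096) (Steps.bwd (nat_lit 8) Steps.nil))))) (nat_lit 23) (nat_lit 1),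
  Rule.mk (nat_lit 4) (nat_lit 88) (Steps.bwd (nat_lit 2) (Steps.fwd (nat_lit 36864) (Steps.fwd (nat_lit 32768) (Steps.bwd (nat_lit 9) (Steps.fwd (nat_lit 8192) Steps.nil))))) (nat_lit 21) (nat_lit 5),
  Rule.mk (nat_lit 2) (nat_lit 88) (Steps.fwd (nat_lit 24576) (Steps.bwd (nat_lit 9) (Steps.bwd (nat_lit 3) (Steps.bwd (nat_lit 2) (Steps.bwd (nat_lit 8) Steps.nil))))) (nat_lit 23) (nat_lit 1),
  Rule.mk (nat_lit 2) (nat_lit 118) (Steps.fwd (nat_lit 32768) (Steps.bwd (nat_lit 9) (Steps.fwd (nat_lit 53248) (Steps.bwd (nat_lit 12) (Steps.bwd (nat_lit 5) (Steps.bwd (nat_lit 3) (Steps.bwd (nat_lit 2) Steps.nil))))))) (nat_lit 33) (nat_lit 0),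
  Rule.mk (nat_lit 2) (nat_lit 148) (Steps.bwd (nat_lit 7) (Steps.fwd (nat_lit 36864) (Steps.bwd (nat_lit 8) (Steps.fwd (nat_lit 8192) (Steps.fwd (nat_lit 12288) (Steps.fwd (nat_lit 20480) (Steps.bwd (nat_lit 3) (Steps.bwd (nat_lit 2) (Steps.bwd (nat_lit 2) Steps.nil))))))))) (nat_lit 47) (nat_lit 9),
  Rule.mk (nat_lit 6) (nat_lit 73) (Steps.fwd (nat_lit 12288) (Steps.fwd (nat_lit 32768) (Steps.bwd (nat_lit 2) (Steps.bwd (nat_lit 2) Steps.nil)))) (nat_lit 14) (nat_lit 0),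
  Rule.mk (nat_lit 3) (nat_lit 103) (Steps.bwd (nat_lit 9) (Steps.fwd (nat_lit 32768) (Steps.fwd (nat_lit 24576) (Steps.fwd (nat_lit 57344) (Steps.fwd (nat_lit 49152) (Steps.bwd (nat_lit 2) Steps.nil)))))) (nat_lit 30) (nat_lit 3),
  Rule.mk (nat_lit 6) (nat_lit 73) (Steps.fwd (nat_lit 53248) (Steps.bwd (nat_lit 4) (Steps.bwd (nat_lit 8) (Steps.fwd (nat_lit 49152) Steps.nil)))) (nat_lit 16) (nat_lit 4),
  Rule.mk (nat_lit 0) (nat_lit 148) (Steps.fwd (nat_lit 40960) (Steps.fwd (nat_lit 20480) (Steps.fwd (nat_lit 49152) (Steps.bwd (nat_lit 13) (Steps.bwd (nat_lit 12) (Steps.bwd (nat_lit 4) (Steps.fwd (nat_lit 32768) (Steps.bwd (nat_lit 4) (Steps.fwd (nat_lit 32768) Steps.nil))))))))) (nat_lit 44) (nat_lit 4),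
  Rule.mk (nat_lit 5) (nat_lit 148) (Steps.bwd (nat_lit 3) (Steps.fwd (nat_lit 4096) (Steps.bwd (nat_lit 7) (Steps.fwd (nat_lit 40960) (Steps.bwd (nat_lit 8) (Steps.bwd (nat_lit 1) (Steps.fwd (nat_lit 8192) (Steps.bwd (nat_lit 1) (Steps.bwd (nat_lit 4) Steps.nil))))))))) (nat_lit 46) (nat_lit 6),
  Rule.mk (nat_lit 8) (nat_lit 133) (Steps.fwd (nat_lit 16384) (Steps.bwd (nat_lit 8) (Steps.fwd (nat_lit 16384) (Steps.fwd (nat_lit 49152) (Steps.fwd (nat_lit 53248) (Steps.fwd (nat_lit 45056) (Steps.bwd (nat_lit 5) (Steps.bwd (nat_lit 10) Steps.nil)))))))) (nat_lit 45) (nat_lit 6),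
  Rule.mk (nat_lit 2) (nat_lit 88) (Steps.bwd (nat_lit 10) (Steps.bwd (nat_lit 8) (Steps.bwd (nat_lit 9) (Steps.fwd (nat_lit 8192) (Steps.bwd (nat_lit 3) Steps.nil))))) (nat_lit 20) (nat_lit 3),
  Rule.mk (nat_lit 8) (nat_lit 88) (Steps.bwd (nat_lit 2) (Steps.fwd (nat_lit 24576) (Steps.fwd (nat_lit 40960) (Steps.bwd (nat_lit 3) (Steps.bwd (nat_lit 2) Steps.nil))))) (nat_lit 23) (nat_lit 0),
  Rule.mk (nat_lit 1) (nat_lit 118) (Steps.bwd (nat_lit 1) (Steps.fwd (nat_lit 32768) (Steps.fwd (nat_lit 40960) (Steps.bwd (nat_lit 2) (Steps.fwd (nat_lit 20480) (Steps.fwd (nat_lit 8192) (Steps.bwd (nat_lit 8) Steps.nil))))))) (nat_lit 43) (nat_lit 3),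
  Rule.mk (nat_lit 4) (nat_lit 118) (Steps.bwd (nat_lit 6) (Steps.bwd (nat_lit 11) (Steps.bwd (nat_lit 13) (Steps.fwd (nat_lit 36864) (Steps.bwd (nat_lit 8) (Steps.bwd (nat_lit 1) (Steps.bwd (nat_lit 1) Steps.nil))))))) (nat_lit 32) (nat_lit 3),
  Rule.mk (nat_lit 1) (nat_lit 103) (Steps.bwd (nat_lit 12) (Steps.fwd (nat_lit 53248) (Steps.fwd (nat_lit 20480) (Steps.fwd (nat_lit 28672) (Steps.fwd (nat_lit 36864) (Steps.bwd (nat_lit 4) Steps.nil)))))) (nat_lit 31) (nat_lit 6),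
  Rule.mk (nat_lit 14) (nat_lit 133) (Steps.bwd (nat_lit 12) (Steps.bwd (nat_lit 5) (Steps.bwd (nat_lit 10) (Steps.bwd (nat_lit 8) (Steps.bwd (nat_lit 3) (Steps.fwd (nat_lit 28672) (Steps.fwd (nat_lit 16384) (Steps.fwd (nat_lit 49152) Steps.nil)))))))) (nat_lit 45) (nat_lit 2),
  Rule.mk (nat_lit 9) (nat_lit 88) (Steps.fwd (nat_lit 20480) (Steps.bwd (nat_lit 14) (Steps.bwd (nat_lit 12) (Steps.fwd (nat_lit 57344) (Steps.bwd (nat_lit 5) Steps.nil))))) (nat_lit 24) (nat_lit 1),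
  Rule.mk (nat_lit 0) (nat_lit 118) (Steps.bwd (nat_lit 1) (Steps.fwd (nat_lit 45056) (Steps.fwd (nat_lit 53248) (Steps.fwd (nat_lit 20480) (Steps.fwd (nat_lit 28672) (Steps.fwd (nat_lit 36864) (Steps.fwd (nat_lit 12288) Steps.nil))))))) (nat_lit 31) (nat_lit 5),
  Rule.mk (nat_lit 6) (nat_lit 118) (Steps.bwd (nat_lit 1) (Steps.fwd (nat_lit 28672) (Steps.bwd (nat_lit 1) (Steps.fwd (nat_lit 8192) (Steps.bwd (nat_lit 7) (Steps.bwd (nat_lit 9) (Steps.fwd (nat_lit 4096) Steps.nil))))))) (nat_lit 43) (nat_lit 0),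
  Rule.mk (nat_lit 7) (nat_lit 133) (Steps.fwd (nat_lit 12288) (Steps.bwd (nat_lit 7) (Steps.bwd (nat_lit 9) (Steps.fwd (nat_lit 20480) (Steps.bwd (nat_lit 11) (Steps.fwd (nat_lit 57344) (Steps.fwd (nat_lit 45056) (Steps.fwd (nat_lit 12288) Steps.nil)))))))) (nat_lit 44) (nat_lit 2),
  Rule.mk (nat_lit 4) (nat_lit 103) (Steps.bwd (nat_lit 7) (Steps.bwd (nat_lit 1) (Steps.bwd (nat_lit 4) (Steps.bwd (nat_lit 2) (Steps.bwd (nat_lit 2) (Steps.fwd (nat_lit 4096) Steps.nil)))))) (nat_lit 28) (nat_lit 5),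
  Rule.mk (nat_lit 11) (nat_lit 148) (Steps.bwd (nat_lit 13) (Steps.fwd (nat_lit 16384) (Steps.bwd (nat_lit 2) (Steps.bwd (nat_lit 2) (Steps.fwd (nat_lit 12288) (Steps.fwd (nat_lit 20480) (Steps.bwd (nat_lit 14) (Steps.bwd (nat_lit 12) (Steps.fwd (nat_lit 24576) Steps.nil))))))))) (nat_lit 52) (nat_lit 9),
  Rule.mk (nat_lit 13) (nat_lit 103) (Steps.bwd (nat_lit 11) (Steps.fwd (nat_lit 4096) (Steps.fwd (nat_lit 16384) (Steps.bwd (nat_lit 9) (Steps.bwd (nat_lit 7) (Steps.fwd (nat_lit 24576) Steps.nil)))))) (nat_lit 30) (nat_lit 0),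
  Rule.mk (nat_lit 14) (nat_lit 73) (Steps.bwd (nat_lit 4) (Steps.fwd (nat_lit 28672) (Steps.fwd (nat_lit 49152) (Steps.fwd (nat_lit 20480) Steps.nil)))) (nat_lit 16) (nat_lit 0),
  Rule.mk (nat_lit 3) (nat_lit 148) (Steps.bwd (nat_lit 1) (Steps.bwd (nat_lit 1) (Steps.fwd (nat_lit 12288) (Steps.bwd (nat_lit 14) (Steps.fwd (nat_lit 45056) (Steps.fwd (nat_lit 20480) (Steps.bwd (nat_lit 11) (Steps.fwd (nat_lit 57344) (Steps.bwd (nat_lit 5) Steps.nil))))))))) (nat_lit 53) (nat_lit 7),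
  Rule.mk (nat_lit 0) (nat_lit 103) (Steps.bwd (nat_lit 1) (Steps.fwd (nat_lit 12288) (Steps.bwd (nat_lit 10) (Steps.bwd (nat_lit 6) (Steps.fwd (nat_lit 8192) (Steps.bwd (nat_lit 7) Steps.nil)))))) (nat_lit 22) (nat_lit 1),
  Rule.mk (nat_lit 2) (nat_lit 103) (Steps.bwd (nat_lit 8) (Steps.bwd (nat_lit 3) (Steps.bwd (nat_lit 1) (Steps.bwd (nat_lit 1) (Steps.fwd (nat_lit 8192) (Steps.bwd (nat_lit 3) Steps.nil)))))) (nat_lit 29) (nat_lit 1),
  Rule.mk (nat_lit 5) (nat_lit 148) (Steps.bwd (nat_lit 3) (Steps.bwd (nat_lit 2) (Steps.bwd (nat_lit 7) (Steps.bwd (nat_lit 9) (Steps.bwd (nat_lit 8) (Steps.fwd (nat_lit 8192) (Steps.bwd (nat_lit 1) (Steps.fwd (nat_lit 8192) (Steps.fwd (nat_lit 12288) Steps.nil))))))))) (nat_lit 46) (nat_lit 6),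
  Rule.mk (nat_lit 0) (nat_lit 133) (Steps.bwd (nat_lit 5) (Steps.fwd (nat_lit 8192) (Steps.bwd (nat_lit 10) (Steps.bwd (nat_lit 8) (Steps.fwd (nat_lit 4096) (Steps.bwd (nat_lit 2) (Steps.fwd (nat_lit 32768) (Steps.bwd (nat_lit 2) Steps.nil)))))))) (nat_lit 42) (nat_lit 0),
  Rule.mk (nat_lit 13) (nat_lit 88) (Steps.bwd (nat_lit 5) (Steps.bwd (nat_lit 10) (Steps.bwd (nat_lit 6) (Steps.fwd (nat_lit 53248) (Steps.fwd (nat_lit 49152) Steps.nil))))) (nat_lit 25) (nat_lit 4),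
  Rule.mk (nat_lit 6) (nat_lit 58) (Steps.fwd (nat_lit 12288) (Steps.bwd (nat_lit 13) (Steps.fwd (nat_lit 16384) Steps.nil))) (nat_lit 13) (nat_lit 3),
  Rule.mk (nat_lit 0) (nat_lit 88) (Steps.fwd (nat_lit 45056) (Steps.bwd (nat_lit 7) (Steps.bwd (nat_lit 3) (Steps.bwd (nat_lit 13) (Steps.bwd (nat_lit 5) Steps.nil))))) (nat_lit 17) (nat_lit 2)]
noncomputable def R_29 : List (Rule) := [Rule.mk (nat_lit 11) (nat_lit 103) (Steps.bwd (nat_lit 2) (Steps.bwd (nat_lit 3) (Steps.bwd (nat_lit 9) (Steps.fwd (nat_lit 32768) (Steps.bwd (nat_lit 5) (Steps.bwd (nat_lit 13) Steps.nil)))))) (nat_lit 30) (nat_lit 1),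
  Rule.mk (nat_lit 0) (nat_lit 103) (Steps.fwd (nat_lit 8192) (Steps.fwd (nat_lit 32768) (Steps.bwd (nat_lit 1) (Steps.fwd (nat_lit 12288) (Steps.bwd (nat_lit 10) (Steps.bwd (nat_lit 6) Steps.nil)))))) (nat_lit 22) (nat_lit 5),
  Rule.mk (nat_lit 4) (nat_lit 73) (Steps.fwd (nat_lit 32768) (Steps.bwd (nat_lit 2) (Steps.bwd (nat_lit 2) (Steps.fwd (nat_lit 20480) Steps.nil)))) (nat_lit 14) (nat_lit 1),
  Rule.mk (nat_lit 9) (nat_lit 88) (Steps.fwd (nat_lit 8192) (Steps.bwd (nat_lit 3) (Steps.bwd (nat_lit 2) (Steps.bwd (nat_lit 10) (Steps.fwd (nat_lit 28672) Steps.nil))))) (nat_lit 20) (nat_lit 0),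
  Rule.mk (nat_lit 4) (nat_lit 103) (Steps.fwd (nat_lit 4096) (Steps.bwd (nat_lit 2) (Steps.bwd (nat_lit 2) (Steps.bwd (nat_lit 4) (Steps.bwd (nat_lit 7) (Steps.bwd (nat_lit 1) Steps.nil)))))) (nat_lit 28) (nat_lit 1),
  Rule.mk (nat_lit 6) (nat_lit 88) (Steps.fwd (nat_lit 8192) (Steps.bwd (nat_lit 7) (Steps.bwd (nat_lit 1) (Steps.bwd (nat_lit 4) (Steps.fwd (nat_lit 36864) Steps.nil))))) (nat_lit 22) (nat_lit 5),
  Rule.mk (nat_lit 4) (nat_lit 103) (Steps.fwd (nat_lit 4096) (Steps.fwd (nat_lit 4096) (Steps.fwd (nat_lit 4096) (Steps.bwd (nat_lit 4) (Steps.fwd (nat_lit 32768) (Steps.bwd (nat_lit 1) Steps.nil)))))) (nat_lit 28) (nat_lit 1),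
  Rule.mk (nat_lit 11) (nat_lit 148) (Steps.bwd (nat_lit 13) (Steps.bwd (nat_lit 5) (Steps.bwd (nat_lit 3) (Steps.bwd (nat_lit 1) (Steps.bwd (nat_lit 1) (Steps.bwd (nat_lit 4) (Steps.bwd (nat_lit 14) (Steps.bwd (nat_lit 12) (Steps.fwd (nat_lit 20480) Steps.nil))))))))) (nat_lit 53) (nat_lit 4),
  Rule.mk (nat_lit 7) (nat_lit 103) (Steps.fwd (nat_lit 24576) (Steps.fwd (nat_lit 57344) (Steps.bwd (nat_lit 11) (Steps.fwd (nat_lit 4096) (Steps.fwd (nat_lit 16384) (Steps.bwd (nat_lit 9) Steps.nil)))))) (nat_lit 30) (nat_lit 5),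
  Rule.mk (nat_lit 8) (nat_lit 118) (Steps.fwd (nat_lit 8192) (Steps.fwd (nat_lit 8192) (Steps.bwd (nat_lit 4) (Steps.fwd (nat_lit 20480) (Steps.bwd (nat_lit 11) (Steps.bwd (nat_lit 13) (Steps.fwd (nat_lit 36864) Steps.nil))))))) (nat_lit 32) (nat_lit 0),
  Rule.mk (nat_lit 12) (nat_lit 133) (Steps.fwd (nat_lit 12288) (Steps.bwd (nat_lit 7) (Steps.bwd (nat_lit 4) (Steps.fwd (nat_lit 32768) (Steps.bwd (nat_lit 9) (Steps.fwd (nat_lit 20480) (Steps.bwd (nat_lit 11) (Steps.bwd (nat_lit 13) Steps.nil)))))))) (nat_lit 44) (nat_lit 0),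
  Rule.mk (nat_lit 12) (nat_lit 73) (Steps.fwd (nat_lit 20480) (Steps.bwd (nat_lit 12) (Steps.fwd (nat_lit 40960) (Steps.fwd (nat_lit 20480) Steps.nil)))) (nat_lit 19) (nat_lit 3),
  Rule.mk (nat_lit 11) (nat_lit 88) (Steps.bwd (nat_lit 14) (Steps.bwd (nat_lit 11) (Steps.bwd (nat_lit 13) (Steps.bwd (nat_lit 12) (Steps.fwd (nat_lit 36864) Steps.nil))))) (nat_lit 27) (nat_lit 5),
  Rule.mk (nat_lit 14) (nat_lit 118) (Steps.bwd (nat_lit 12) (Steps.fwd (nat_lit 24576) (Steps.fwd (nat_lit 16384) (Steps.bwd (nat_lit 2) (Steps.fwd (nat_lit 4096) (Steps.bwd (nat_lit 7) (Steps.fwd (nat_lit 40960) Steps.nil))))))) (nat_lit 33) (nat_lit 3),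
  Rule.mk (nat_lit 11) (nat_lit 88) (Steps.bwd (nat_lit 14) (Steps.bwd (nat_lit 12) (Steps.bwd (nat_lit 13) (Steps.fwd (nat_lit 45056) (Steps.fwd (nat_lit 40960) Steps.nil))))) (nat_lit 26) (nat_lit 4),
  Rule.mk (nat_lit 13) (nat_lit 118) (Steps.fwd (nat_lit 36864) (Steps.bwd (nat_lit 7) (Steps.fwd (nat_lit 40960) (Steps.bwd (nat_lit 13) (Steps.bwd (nat_lit 10) (Steps.bwd (nat_lit 7) (Steps.fwd (nat_lit 40960) Steps.nil))))))) (nat_lit 38) (nat_lit 1),
  Rule.mk (nat_lit 8) (nat_lit 88) (Steps.bwd (nat_lit 2) (Steps.bwd (nat_lit 5) (Steps.bwd (nat_lit 9) (Steps.fwd (nat_lit 16384) (Steps.fwd (nat_lit 4096) Steps.nil))))) (nat_lit 23) (nat_lit 0),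
  Rule.mk (nat_lit 11) (nat_lit 118) (Steps.bwd (nat_lit 5) (Steps.bwd (nat_lit 3) (Steps.fwd (nat_lit 20480) (Steps.fwd (nat_lit 49152) (Steps.bwd (nat_lit 5) (Steps.bwd (nat_lit 3) (Steps.bwd (nat_lit 6) Steps.nil))))))) (nat_lit 34) (nat_lit 3),
  Rule.mk (nat_lit 10) (nat_lit 88) (Steps.bwd (nat_lit 8) (Steps.fwd (nat_lit 40960) (Steps.fwd (nat_lit 8192) (Steps.fwd (nat_lit 16384) (Steps.bwd (nat_lit 2) Steps.nil))))) (nat_lit 20) (nat_lit 4),
  Rule.mk (nat_lit 3) (nat_lit 103) (Steps.fwd (nat_lit 8192) (Steps.fwd (nat_lit 8192) (Steps.bwd (nat_lit 1) (Steps.fwd (nat_lit 16384) (Steps.fwd (nat_lit 4096) (Steps.bwd (nat_lit 8) Steps.nil)))))) (nat_lit 29) (nat_lit 3),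
  Rule.mk (nat_lit 3) (nat_lit 133) (Steps.fwd (nat_lit 49152) (Steps.fwd (nat_lit 53248) (Steps.bwd (nat_lit 12) (Steps.bwd (nat_lit 5) (Steps.bwd (nat_lit 10) (Steps.bwd (nat_lit 8) (Steps.bwd (nat_lit 3) (Steps.fwd (nat_lit 28672) Steps.nil)))))))) (nat_lit 45) (nat_lit 0),
  Rule.mk (nat_lit 0) (nat_lit 163) (Steps.fwd (nat_lit 8192) (Steps.bwd (nat_lit 1) (Steps.fwd (nat_lit 8192) (Steps.fwd (nat_lit 12288) (Steps.bwd (nat_lit 5) (Steps.fwd (nat_lit 16384) (Steps.bwd (nat_lit 2) (Steps.fwd (nat_lit 32768) (Steps.fwd (nat_lit 40960) (Steps.fwd (nat_lit 28672) Steps.nil)))))))))) (nat_lit 46) (nat_lit 1),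
  Rule.mk (nat_lit 2) (nat_lit 118) (Steps.bwd (nat_lit 2) (Steps.fwd (nat_lit 32768) (Steps.fwd (nat_lit 40960) (Steps.bwd (nat_lit 14) (Steps.bwd (nat_lit 12) (Steps.bwd (nat_lit 5) (Steps.bwd (nat_lit 3) Steps.nil))))))) (nat_lit 33) (nat_lit 7),
  Rule.mk (nat_lit 10) (nat_lit 118) (Steps.bwd (nat_lit 8) (Steps.fwd (nat_lit 4096) (Steps.bwd (nat_lit 2) (Steps.fwd (nat_lit 32768) (Steps.fwd (nat_lit 4096) (Steps.bwd (nat_lit 5) (Steps.fwd (nat_lit 8192) Steps.nil))))))) (nat_lit 42) (nat_lit 3),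
  Rule.mk (nat_lit 8) (nat_lit 133) (Steps.bwd (nat_lit 3) (Steps.fwd (nat_lit 28672) (Steps.bwd (nat_lit 3) (Steps.bwd (nat_lit 11) (Steps.bwd (nat_lit 14) (Steps.bwd (nat_lit 12) (Steps.bwd (nat_lit 5) (Steps.bwd (nat_lit 10) Steps.nil)))))))) (nat_lit 45) (nat_lit 6),
  Rule.mk (nat_lit 1) (nat_lit 73) (Steps.bwd (nat_lit 8) (Steps.bwd (nat_lit 3) (Steps.bwd (nat_lit 5) (Steps.fwd (nat_lit 8192) Steps.nil)))) (nat_lit 15) (nat_lit 3),
  Rule.mk (nat_lit 2) (nat_lit 88) (Steps.bwd (nat_lit 8) (Steps.fwd (nat_lit 4096) (Steps.fwd (nat_lit 24576) (Steps.bwd (nat_lit 9) (Steps.fwd (nat_lit 16384) Steps.nil))))) (nat_lit 23) (nat_lit 5),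
  Rule.mk (nat_lit 0) (nat_lit 133) (Steps.fwd (nat_lit 45056) (Steps.bwd (nat_lit 5) (Steps.bwd (nat_lit 3) (Steps.fwd (nat_lit 4096) (Steps.bwd (nat_lit 2) (Steps.fwd (nat_lit 32768) (Steps.fwd (nat_lit 40960) (Steps.bwd (nat_lit 14) Steps.nil)))))))) (nat_lit 33) (nat_lit 3),
  Rule.mk (nat_lit 3) (nat_lit 133) (Steps.bwd (nat_lit 8) (Steps.bwd (nat_lit 3) (Steps.fwd (nat_lit 49152) (Steps.bwd (nat_lit 14) (Steps.bwd (nat_lit 12) (Steps.fwd (nat_lit 24576) (Steps.bwd (nat_lit 10) (Steps.bwd (nat_lit 8) Steps.nil)))))))) (nat_lit 45) (nat_lit 7),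
  Rule.mk (nat_lit 13) (nat_lit 88) (Steps.bwd (nat_lit 5) (Steps.fwd (nat_lit 40960) (Steps.fwd (nat_lit 20480) (Steps.fwd (nat_lit 53248) (Steps.bwd (nat_lit 12) Steps.nil))))) (nat_lit 24) (nat_lit 5),
  Rule.mk (nat_lit 10) (nat_lit 88) (Steps.fwd (nat_lit 20480) (Steps.bwd (nat_lit 14) (Steps.bwd (nat_lit 11) (Steps.bwd (nat_lit 13) (Steps.bwd (nat_lit 5) Steps.nil))))) (nat_lit 25) (nat_lit 0),
  Rule.mk (nat_lit 0) (nat_lit 133) (Steps.bwd (nat_lit 7) (Steps.fwd (nat_lit 4096) (Steps.bwd (nat_lit 5) (Steps.fwd (nat_lit 8192) (Steps.bwd (nat_lit 10) (Steps.bwd (nat_lit 8) (Steps.bwd (nat_lit 2) (Steps.bwd (nat_lit 2) Steps.nil)))))))) (nat_lit 42) (nat_lit 6),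
  Rule.mk (nat_lit 14) (nat_lit 73) (Steps.fwd (nat_lit 12288) (Steps.bwd (nat_lit 8) (Steps.bwd (nat_lit 11) (Steps.fwd (nat_lit 20480) Steps.nil)))) (nat_lit 16) (nat_lit 0),
  Rule.mk (nat_lit 9) (nat_lit 88) (Steps.bwd (nat_lit 1) (Steps.fwd (nat_lit 16384) (Steps.fwd (nat_lit 4096) (Steps.fwd (nat_lit 36864) (Steps.bwd (nat_lit 8) Steps.nil))))) (nat_lit 20) (nat_lit 0),
  Rule.mk (nat_lit 3) (nat_lit 103) (Steps.bwd (nat_lit 2) (Steps.bwd (nat_lit 8) (Steps.bwd (nat_lit 3) (Steps.fwd (nat_lit 8192) (Steps.fwd (nat_lit 8192) (Steps.bwd (nat_lit 1) Steps.nil)))))) (nat_lit 29) (nat_lit 0),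
  Rule.mk (nat_lit 11) (nat_lit 133) (Steps.fwd (nat_lit 53248) (Steps.fwd (nat_lit 45056) (Steps.fwd (nat_lit 24576) (Steps.fwd (nat_lit 36864) (Steps.bwd (nat_lit 8) (Steps.bwd (nat_lit 3) (Steps.fwd (nat_lit 28672) (Steps.bwd (nat_lit 3) Steps.nil)))))))) (nat_lit 45) (nat_lit 1),
  Rule.mk (nat_lit 10) (nat_lit 73) (Steps.fwd (nat_lit 49152) (Steps.fwd (nat_lit 24576) (Steps.bwd (nat_lit 11) (Steps.fwd (nat_lit 24576) Steps.nil)))) (nat_lit 18) (nat_lit 0),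
  Rule.mk (nat_lit 8) (nat_lit 88) (Steps.bwd (nat_lit 9) (Steps.fwd (nat_lit 8192) (Steps.fwd (nat_lit 16384) (Steps.fwd (nat_lit 4096) (Steps.bwd (nat_lit 10) Steps.nil))))) (nat_lit 20) (nat_lit 5),
  Rule.mk (nat_lit 7) (nat_lit 88) (Steps.fwd (nat_lit 40960) (Steps.fwd (nat_lit 8192) (Steps.fwd (nat_lit 12288) (Steps.fwd (nat_lit 4096) (Steps.bwd (nat_lit 10) Steps.nil))))) (nat_lit 21) (nat_lit 2),
  Rule.mk (nat_lit 0) (nat_lit 103) (Steps.fwd (nat_lit 57344) (Steps.bwd (nat_lit 12) (Steps.fwd (nat_lit 40960) (Steps.bwd (nat_lit 11) (Steps.fwd (nat_lit 53248) (Steps.fwd (nat_lit 45056) Steps.nil)))))) (nat_lit 26) (nat_lit 0),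
  Rule.mk (nat_lit 13) (nat_lit 118) (Steps.bwd (nat_lit 10) (Steps.bwd (nat_lit 7) (Steps.fwd (nat_lit 40960) (Steps.bwd (nat_lit 13) (Steps.bwd (nat_lit 10) (Steps.bwd (nat_lit 7) (Steps.fwd (nat_lit 40960) Steps.nil))))))) (nat_lit 38) (nat_lit 1),
  Rule.mk (nat_lit 1) (nat_lit 148) (Steps.fwd (nat_lit 12288) (Steps.fwd (nat_lit 20480) (Steps.fwd (nat_lit 16384) (Steps.bwd (nat_lit 2) (Steps.bwd (nat_lit 2) (Steps.fwd (nat_lit 4096) (Steps.bwd (nat_lit 7) (Steps.bwd (nat_lit 10) (Steps.bwd (nat_lit 8) Steps.nil))))))))) (nat_lit 47) (nat_lit 3),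
  Rule.mk (nat_lit 0) (nat_lit 163) (Steps.fwd (nat_lit 28672) (Steps.fwd (nat_lit 40960) (Steps.fwd (nat_lit 28672) (Steps.bwd (nat_lit 9) (Steps.bwd (nat_lit 8) (Steps.bwd (nat_lit 9) (Steps.fwd (nat_lit 28672) (Steps.bwd (nat_lit 9) (Steps.bwd (nat_lit 8) (Steps.fwd (nat_lit 40960) Steps.nil)))))))))) (nat_lit 48) (nat_lit 0),
  Rule.mk (nat_lit 0) (nat_lit 133) (Steps.fwd (nat_lit 8192) (Steps.bwd (nat_lit 1) (Steps.fwd (nat_lit 12288) (Steps.fwd (nat_lit 20480) (Steps.bwd (nat_lit 11) (Steps.fwd (nat_lit 57344) (Steps.bwd (nat_lit 10) (Steps.fwd (nat_lit 28672) Steps.nil)))))))) (nat_lit 32) (nat_lit 0),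
  Rule.mk (nat_lit 10) (nat_lit 88) (Steps.bwd (nat_lit 6) (Steps.fwd (nat_lit 8192) (Steps.bwd (nat_lit 7) (Steps.fwd (nat_lit 8192) (Steps.bwd (nat_lit 4) Steps.nil))))) (nat_lit 22) (nat_lit 4),
  Rule.mk (nat_lit 1) (nat_lit 103) (Steps.bwd (nat_lit 12) (Steps.bwd (nat_lit 14) (Steps.bwd (nat_lit 6) (Steps.bwd (nat_lit 8) (Steps.bwd (nat_lit 10) (Steps.bwd (nat_lit 4) Steps.nil)))))) (nat_lit 31) (nat_lit 6),
  Rule.mk (nat_lit 1) (nat_lit 103) (Steps.bwd (nat_lit 12) (Steps.bwd (nat_lit 14) (Steps.bwd (nat_lit 6) (Steps.bwd (nat_lit 8) (Steps.bwd (nat_lit 10) (Steps.fwd (nat_lit 12288) Steps.nil)))))) (nat_lit 31) (nat_lit 6),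
  Rule.mk (nat_lit 4) (nat_lit 148) (Steps.fwd (nat_lit 20480) (Steps.bwd (nat_lit 3) (Steps.fwd (nat_lit 4096) (Steps.fwd (nat_lit 4096) (Steps.fwd (nat_lit 4096) (Steps.bwd (nat_lit 7) (Steps.bwd (nat_lit 10) (Steps.fwd (nat_lit 28672) (Steps.bwd (nat_lit 1) Steps.nil))))))))) (nat_lit 47) (nat_lit 4),
  Rule.mk (nat_lit 2) (nat_lit 88) (Steps.fwd (nat_lit 36864) (Steps.bwd (nat_lit 7) (Steps.bwd (nat_lit 9) (Steps.bwd (nat_lit 1) (Steps.bwd (nat_lit 4) Steps.nil))))) (nat_lit 21) (nat_lit 0),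
  Rule.mk (nat_lit 0) (nat_lit 118) (Steps.bwd (nat_lit 2) (Steps.bwd (nat_lit 2) (Steps.fwd (nat_lit 4096) (Steps.fwd (nat_lit 12288) (Steps.fwd (nat_lit 32768) (Steps.bwd (nat_lit 1) (Steps.fwd (nat_lit 12288) Steps.nil))))))) (nat_lit 28) (nat_lit 1),
  Rule.mk (nat_lit 14) (nat_lit 118) (Steps.bwd (nat_lit 10) (Steps.bwd (nat_lit 8) (Steps.bwd (nat_lit 9) (Steps.fwd (nat_lit 53248) (Steps.fwd (nat_lit 36864) (Steps.fwd (nat_lit 28672) (Steps.fwd (nat_lit 40960) Steps.nil))))))) (nat_lit 39) (nat_lit 0),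
  Rule.mk (nat_lit 0) (nat_lit 88) (Steps.fwd (nat_lit 20480) (Steps.bwd (nat_lit 14) (Steps.fwd (nat_lit 12288) (Steps.fwd (nat_lit 28672) (Steps.fwd (nat_lit 49152) Steps.nil))))) (nat_lit 16) (nat_lit 3),
  Rule.mk (nat_lit 0) (nat_lit 88) (Steps.bwd (nat_lit 10) (Steps.bwd (nat_lit 11) (Steps.fwd (nat_lit 24576) (Steps.bwd (nat_lit 11) (Steps.bwd (nat_lit 5) Steps.nil))))) (nat_lit 18) (nat_lit 4),
  Rule.mk (nat_lit 13) (nat_lit 88) (Steps.fwd (nat_lit 45056) (Steps.fwd (nat_lit 36864) (Steps.bwd (nat_lit 11) (Steps.fwd (nat_lit 53248) (Steps.bwd (nat_lit 11) Steps.nil))))) (nat_lit 27) (nat_lit 2),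
  Rule.mk (nat_lit 7) (nat_lit 133) (Steps.fwd (nat_lit 40960) (Steps.bwd (nat_lit 6) (Steps.bwd (nat_lit 11) (Steps.bwd (nat_lit 13) (Steps.fwd (nat_lit 45056) (Steps.bwd (nat_lit 4) (Steps.bwd (nat_lit 7) (Steps.bwd (nat_lit 4) Steps.nil)))))))) (nat_lit 44) (nat_lit 4),
  Rule.mk (nat_lit 4) (nat_lit 148) (Steps.bwd (nat_lit 14) (Steps.bwd (nat_lit 12) (Steps.bwd (nat_lit 6) (Steps.bwd (nat_lit 11) (Steps.bwd (nat_lit 13) (Steps.bwd (nat_lit 5) (Steps.bwd (nat_lit 3) (Steps.fwd (nat_lit 8192) (Steps.bwd (nat_lit 1) Steps.nil))))))))) (nat_lit 53) (nat_lit 0),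
  Rule.mk (nat_lit 13) (nat_lit 118) (Steps.bwd (nat_lit 10) (Steps.bwd (nat_lit 8) (Steps.fwd (nat_lit 8192) (Steps.bwd (nat_lit 1) (Steps.bwd (nat_lit 4) (Steps.fwd (nat_lit 20480) (Steps.fwd (nat_lit 49152) Steps.nil))))))) (nat_lit 32) (nat_lit 6),
  Rule.mk (nat_lit 9) (nat_lit 118) (Steps.bwd (nat_lit 13) (Steps.bwd (nat_lit 10) (Steps.bwd (nat_lit 7) (Steps.fwd (nat_lit 40960) (Steps.bwd (nat_lit 13) (Steps.bwd (nat_lit 10) (Steps.fwd (nat_lit 32768) Steps.nil))))))) (nat_lit 38) (nat_lit 0),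
  Rule.mk (nat_lit 10) (nat_lit 118) (Steps.fwd (nat_lit 32768) (Steps.bwd (nat_lit 9) (Steps.fwd (nat_lit 57344) (Steps.bwd (nat_lit 10) (Steps.fwd (nat_lit 32768) (Steps.fwd (nat_lit 40960) (Steps.bwd (nat_lit 13) Steps.nil))))))) (nat_lit 38) (nat_lit 2),
  Rule.mk (nat_lit 1) (nat_lit 88) (Steps.fwd (nat_lit 12288) (Steps.fwd (nat_lit 4096) (Steps.bwd (nat_lit 10) (Steps.fwd (nat_lit 32768) (Steps.bwd (nat_lit 9) Steps.nil))))) (nat_lit 21) (nat_lit 4),
  Rule.mk (nat_lit 11) (nat_lit 118) (Steps.fwd (nat_lit 57344) (Steps.bwd (nat_lit 7) (Steps.fwd (nat_lit 40960) (Steps.fwd (nat_lit 49152) (Steps.fwd (nat_lit 57344) (Steps.bwd (nat_lit 7) (Steps.fwd (nat_lit 40960) Steps.nil))))))) (nat_lit 41) (nat_lit 2),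
  Rule.mk (nat_lit 12) (nat_lit 73) (Steps.bwd (nat_lit 9) (Steps.fwd (nat_lit 20480) (Steps.fwd (nat_lit 45056) (Steps.bwd (nat_lit 6) Steps.nil)))) (nat_lit 19) (nat_lit 0),
  Rule.mk (nat_lit 14) (nat_lit 88) (Steps.fwd (nat_lit 45056) (Steps.fwd (nat_lit 57344) (Steps.fwd (nat_lit 24576) (Steps.bwd (nat_lit 9) (Steps.bwd (nat_lit 6) Steps.nil))))) (nat_lit 24) (nat_lit 3),
  Rule.mk (nat_lit 11) (nat_lit 118) (Steps.fwd (nat_lit 57344) (Steps.bwd (nat_lit 10) (Steps.bwd (nat_lit 8) (Steps.fwd (nat_lit 8192) (Steps.bwd (nat_lit 1) (Steps.bwd (nat_lit 4) (Steps.bwd (nat_lit 6) Steps.nil))))))) (nat_lit 32) (nat_lit 5)]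
noncomputable def R_30 : List (Rule) := [Rule.mk (nat_lit 0) (nat_lit 163) (Steps.bwd (nat_lit 2) (Steps.bwd (nat_lit 2) (Steps.fwd (nat_lit 4096) (Steps.bwd (nat_lit 7) (Steps.fwd (nat_lit 36864) (Steps.fwd (nat_lit 28672) (Steps.bwd (nat_lit 1) (Steps.bwd (nat_lit 4) (Steps.bwd (nat_lit 6) (Steps.bwd (nat_lit 3) Steps.nil)))))))))) (nat_lit 47) (nat_lit 6),
  Rule.mk (nat_lit 4) (nat_lit 88) (Steps.fwd (nat_lit 4096) (Steps.fwd (nat_lit 36864) (Steps.bwd (nat_lit 7) (Steps.bwd (nat_lit 9) (Steps.fwd (nat_lit 8192) Steps.nil))))) (nat_lit 21) (nat_lit 5),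
  Rule.mk (nat_lit 5) (nat_lit 118) (Steps.bwd (nat_lit 3) (Steps.fwd (nat_lit 4096) (Steps.bwd (nat_lit 2) (Steps.bwd (nat_lit 7) (Steps.bwd (nat_lit 9) (Steps.bwd (nat_lit 14) (Steps.fwd (nat_lit 45056) Steps.nil))))))) (nat_lit 33) (nat_lit 5),
  Rule.mk (nat_lit 0) (nat_lit 88) (Steps.fwd (nat_lit 12288) (Steps.bwd (nat_lit 8) (Steps.bwd (nat_lit 11) (Steps.fwd (nat_lit 20480) (Steps.fwd (nat_lit 53248) Steps.nil))))) (nat_lit 16) (nat_lit 0),
  Rule.mk (nat_lit 6) (nat_lit 88) (Steps.bwd (nat_lit 14) (Steps.bwd (nat_lit 12) (Steps.bwd (nat_lit 13) (Steps.bwd (nat_lit 5) (Steps.bwd (nat_lit 9) Steps.nil))))) (nat_lit 24) (nat_lit 2),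
  Rule.mk (nat_lit 6) (nat_lit 118) (Steps.fwd (nat_lit 49152) (Steps.bwd (nat_lit 5) (Steps.bwd (nat_lit 3) (Steps.bwd (nat_lit 6) (Steps.bwd (nat_lit 11) (Steps.bwd (nat_lit 5) (Steps.bwd (nat_lit 3) Steps.nil))))))) (nat_lit 34) (nat_lit 2),
  Rule.mk (nat_lit 0) (nat_lit 88) (Steps.bwd (nat_lit 2) (Steps.bwd (nat_lit 6) (Steps.bwd (nat_lit 4) (Steps.fwd (nat_lit 32768) (Steps.bwd (nat_lit 2) Steps.nil))))) (nat_lit 14) (nat_lit 3),
  Rule.mk (nat_lit 14) (nat_lit 103) (Steps.bwd (nat_lit 6) (Steps.fwd (nat_lit 28672) (Steps.fwd (nat_lit 36864) (Steps.fwd (nat_lit 12288) (Steps.fwd (nat_lit 8192) (Steps.bwd (nat_lit 12) Steps.nil)))))) (nat_lit 31) (nat_lit 1),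
  Rule.mk (nat_lit 10) (nat_lit 88) (Steps.bwd (nat_lit 6) (Steps.bwd (nat_lit 14) (Steps.fwd (nat_lit 49152) (Steps.bwd (nat_lit 13) (Steps.bwd (nat_lit 5) Steps.nil))))) (nat_lit 25) (nat_lit 0),
  Rule.mk (nat_lit 3) (nat_lit 73) (Steps.bwd (nat_lit 5) (Steps.bwd (nat_lit 1) (Steps.fwd (nat_lit 8192) (Steps.bwd (nat_lit 8) Steps.nil)))) (nat_lit 15) (nat_lit 0),
  Rule.mk (nat_lit 2) (nat_lit 103) (Steps.fwd (nat_lit 16384) (Steps.fwd (nat_lit 40960) (Steps.fwd (nat_lit 32768) (Steps.bwd (nat_lit 5) (Steps.fwd (nat_lit 57344) (Steps.bwd (nat_lit 11) Steps.nil)))))) (nat_lit 30) (nat_lit 2),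
  Rule.mk (nat_lit 2) (nat_lit 118) (Steps.fwd (nat_lit 4096) (Steps.fwd (nat_lit 32768) (Steps.bwd (nat_lit 2) (Steps.bwd (nat_lit 5) (Steps.bwd (nat_lit 1) (Steps.fwd (nat_lit 36864) (Steps.bwd (nat_lit 8) Steps.nil))))))) (nat_lit 42) (nat_lit 5),
  Rule.mk (nat_lit 0) (nat_lit 133) (Steps.bwd (nat_lit 5) (Steps.bwd (nat_lit 3) (Steps.bwd (nat_lit 2) (Steps.fwd (nat_lit 4096) (Steps.fwd (nat_lit 32768) (Steps.fwd (nat_lit 40960) (Steps.bwd (nat_lit 14) (Steps.fwd (nat_lit 45056) Steps.nil)))))))) (nat_lit 33) (nat_lit 4),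
  Rule.mk (nat_lit 4) (nat_lit 73) (Steps.bwd (nat_lit 7) (Steps.bwd (nat_lit 2) (Steps.fwd (nat_lit 4096) (Steps.bwd (nat_lit 6) Steps.nil)))) (nat_lit 14) (nat_lit 1),
  Rule.mk (nat_lit 8) (nat_lit 73) (Steps.fwd (nat_lit 49152) (Steps.bwd (nat_lit 6) (Steps.bwd (nat_lit 14) (Steps.bwd (nat_lit 4) Steps.nil)))) (nat_lit 16) (nat_lit 2),
  Rule.mk (nat_lit 10) (nat_lit 118) (Steps.bwd (nat_lit 8) (Steps.fwd (nat_lit 53248) (Steps.bwd (nat_lit 12) (Steps.bwd (nat_lit 10) (Steps.fwd (nat_lit 28672) (Steps.fwd (nat_lit 53248) (Steps.fwd (nat_lit 45056) Steps.nil))))))) (nat_lit 40) (nat_lit 0),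
  Rule.mk (nat_lit 3) (nat_lit 133) (Steps.bwd (nat_lit 8) (Steps.fwd (nat_lit 16384) (Steps.bwd (nat_lit 11) (Steps.fwd (nat_lit 53248) (Steps.bwd (nat_lit 12) (Steps.bwd (nat_lit 5) (Steps.bwd (nat_lit 10) (Steps.bwd (nat_lit 8) Steps.nil)))))))) (nat_lit 45) (nat_lit 7),
  Rule.mk (nat_lit 0) (nat_lit 103) (Steps.fwd (nat_lit 40960) (Steps.bwd (nat_lit 3) (Steps.fwd (nat_lit 4096) (Steps.bwd (nat_lit 8) (Steps.fwd (nat_lit 4096) (Steps.bwd (nat_lit 5) Steps.nil)))))) (nat_lit 23) (nat_lit 2),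
  Rule.mk (nat_lit 13) (nat_lit 58) (Steps.bwd (nat_lit 0) (Steps.bwd (nat_lit 14) (Steps.fwd (nat_lit 0) Steps.nil))) (nat_lit 56) (nat_lit 0),
  Rule.mk (nat_lit 12) (nat_lit 88) (Steps.fwd (nat_lit 57344) (Steps.bwd (nat_lit 5) (Steps.fwd (nat_lit 40960) (Steps.fwd (nat_lit 20480) (Steps.fwd (nat_lit 53248) Steps.nil))))) (nat_lit 24) (nat_lit 4),
  Rule.mk (nat_lit 9) (nat_lit 73) (Steps.bwd (nat_lit 6) (Steps.bwd (nat_lit 12) (Steps.fwd (nat_lit 20480) (Steps.bwd (nat_lit 12) Steps.nil)))) (nat_lit 19) (nat_lit 1),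
  Rule.mk (nat_lit 0) (nat_lit 118) (Steps.fwd (nat_lit 12288) (Steps.bwd (nat_lit 1) (Steps.fwd (nat_lit 45056) (Steps.bwd (nat_lit 14) (Steps.fwd (nat_lit 20480) (Steps.bwd (nat_lit 8) (Steps.fwd (nat_lit 36864) Steps.nil))))))) (nat_lit 31) (nat_lit 4),
  Rule.mk (nat_lit 9) (nat_lit 118) (Steps.bwd (nat_lit 14) (Steps.fwd (nat_lit 49152) (Steps.fwd (nat_lit 57344) (Steps.bwd (nat_lit 9) (Steps.fwd (nat_lit 53248) (Steps.bwd (nat_lit 11) (Steps.bwd (nat_lit 13) Steps.nil))))))) (nat_lit 36) (nat_lit 1),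
  Rule.mk (nat_lit 9) (nat_lit 118) (Steps.fwd (nat_lit 49152) (Steps.fwd (nat_lit 57344) (Steps.bwd (nat_lit 7) (Steps.bwd (nat_lit 9) (Steps.bwd (nat_lit 11) (Steps.bwd (nat_lit 13) (Steps.fwd (nat_lit 32768) Steps.nil))))))) (nat_lit 41) (nat_lit 1),
  Rule.mk (nat_lit 8) (nat_lit 148) (Steps.fwd (nat_lit 8192) (Steps.fwd (nat_lit 8192) (Steps.bwd (nat_lit 1) (Steps.bwd (nat_lit 4) (Steps.fwd (nat_lit 24576) (Steps.bwd (nat_lit 3) (Steps.bwd (nat_lit 2) (Steps.fwd (nat_lit 32768) (Steps.bwd (nat_lit 9) Steps.nil))))))))) (nat_lit 46) (nat_lit 1),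
  Rule.mk (nat_lit 2) (nat_lit 88) (Steps.fwd (nat_lit 24576) (Steps.bwd (nat_lit 9) (Steps.fwd (nat_lit 16384) (Steps.bwd (nat_lit 2) (Steps.bwd (nat_lit 8) Steps.nil))))) (nat_lit 23) (nat_lit 1),
  Rule.mk (nat_lit 4) (nat_lit 103) (Steps.fwd (nat_lit 8192) (Steps.fwd (nat_lit 45056) (Steps.fwd (nat_lit 53248) (Steps.bwd (nat_lit 6) (Steps.bwd (nat_lit 8) (Steps.bwd (nat_lit 10) Steps.nil)))))) (nat_lit 31) (nat_lit 5),
  Rule.mk (nat_lit 1) (nat_lit 88) (Steps.bwd (nat_lit 4) (Steps.bwd (nat_lit 2) (Steps.fwd (nat_lit 36864) (Steps.bwd (nat_lit 7) (Steps.bwd (nat_lit 9) Steps.nil))))) (nat_lit 21) (nat_lit 4),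
  Rule.mk (nat_lit 8) (nat_lit 118) (Steps.fwd (nat_lit 8192) (Steps.fwd (nat_lit 8192) (Steps.bwd (nat_lit 7) (Steps.bwd (nat_lit 9) (Steps.fwd (nat_lit 4096) (Steps.bwd (nat_lit 6) (Steps.bwd (nat_lit 1) Steps.nil))))))) (nat_lit 43) (nat_lit 2),
  Rule.mk (nat_lit 1) (nat_lit 148) (Steps.bwd (nat_lit 1) (Steps.bwd (nat_lit 4) (Steps.fwd (nat_lit 53248) (Steps.fwd (nat_lit 45056) (Steps.bwd (nat_lit 6) (Steps.bwd (nat_lit 11) (Steps.bwd (nat_lit 13) (Steps.fwd (nat_lit 24576) (Steps.fwd (nat_lit 16384) Steps.nil))))))))) (nat_lit 53) (nat_lit 8),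
  Rule.mk (nat_lit 8) (nat_lit 103) (Steps.fwd (nat_lit 16384) (Steps.bwd (nat_lit 1) (Steps.bwd (nat_lit 1) (Steps.fwd (nat_lit 8192) (Steps.fwd (nat_lit 16384) (Steps.fwd (nat_lit 4096) Steps.nil)))))) (nat_lit 29) (nat_lit 2),
  Rule.mk (nat_lit 6) (nat_lit 118) (Steps.bwd (nat_lit 1) (Steps.bwd (nat_lit 8) (Steps.fwd (nat_lit 8192) (Steps.bwd (nat_lit 1) (Steps.fwd (nat_lit 32768) (Steps.fwd (nat_lit 40960) (Steps.bwd (nat_lit 2) Steps.nil))))))) (nat_lit 43) (nat_lit 0),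
  Rule.mk (nat_lit 3) (nat_lit 148) (Steps.bwd (nat_lit 2) (Steps.bwd (nat_lit 2) (Steps.bwd (nat_lit 2) (Steps.fwd (nat_lit 32768) (Steps.bwd (nat_lit 10) (Steps.bwd (nat_lit 8) (Steps.bwd (nat_lit 1) (Steps.bwd (nat_lit 4) (Steps.bwd (nat_lit 6) Steps.nil))))))))) (nat_lit 47) (nat_lit 6),
  Rule.mk (nat_lit 8) (nat_lit 73) (Steps.bwd (nat_lit 3) (Steps.fwd (nat_lit 24576) (Steps.fwd (nat_lit 8192) (Steps.bwd (nat_lit 1) Steps.nil)))) (nat_lit 15) (nat_lit 4),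
  Rule.mk (nat_lit 7) (nat_lit 103) (Steps.bwd (nat_lit 5) (Steps.fwd (nat_lit 57344) (Steps.bwd (nat_lit 11) (Steps.fwd (nat_lit 4096) (Steps.bwd (nat_lit 3) (Steps.fwd (nat_lit 40960) Steps.nil)))))) (nat_lit 30) (nat_lit 5),
  Rule.mk (nat_lit 4) (nat_lit 133) (Steps.bwd (nat_lit 7) (Steps.fwd (nat_lit 40960) (Steps.fwd (nat_lit 20480) (Steps.bwd (nat_lit 11) (Steps.fwd (nat_lit 57344) (Steps.fwd (nat_lit 45056) (Steps.fwd (nat_lit 12288) (Steps.bwd (nat_lit 7) Steps.nil)))))))) (nat_lit 44) (nat_lit 3),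
  Rule.mk (nat_lit 8) (nat_lit 148) (Steps.fwd (nat_lit 8192) (Steps.bwd (nat_lit 4) (Steps.bwd (nat_lit 6) (Steps.bwd (nat_lit 3) (Steps.fwd (nat_lit 4096) (Steps.fwd (nat_lit 4096) (Steps.fwd (nat_lit 4096) (Steps.bwd (nat_lit 7) (Steps.bwd (nat_lit 10) Steps.nil))))))))) (nat_lit 47) (nat_lit 2),
  Rule.mk (nat_lit 2) (nat_lit 88) (Steps.bwd (nat_lit 8) (Steps.bwd (nat_lit 2) (Steps.bwd (nat_lit 5) (Steps.fwd (nat_lit 40960) (Steps.bwd (nat_lit 3) Steps.nil))))) (nat_lit 23) (nat_lit 5),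
  Rule.mk (nat_lit 11) (nat_lit 118) (Steps.fwd (nat_lit 57344) (Steps.bwd (nat_lit 10) (Steps.bwd (nat_lit 8) (Steps.fwd (nat_lit 8192) (Steps.bwd (nat_lit 1) (Steps.fwd (nat_lit 12288) (Steps.bwd (nat_lit 6) Steps.nil))))))) (nat_lit 32) (nat_lit 5),
  Rule.mk (nat_lit 13) (nat_lit 88) (Steps.fwd (nat_lit 45056) (Steps.fwd (nat_lit 40960) (Steps.bwd (nat_lit 11) (Steps.bwd (nat_lit 14) (Steps.bwd (nat_lit 12) Steps.nil))))) (nat_lit 26) (nat_lit 1),
  Rule.mk (nat_lit 0) (nat_lit 73) (Steps.bwd (nat_lit 4) (Steps.bwd (nat_lit 13) (Steps.bwd (nat_lit 3) (Steps.fwd (nat_lit 20480) Steps.nil)))) (nat_lit 13) (nat_lit 3),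
  Rule.mk (nat_lit 9) (nat_lit 73) (Steps.fwd (nat_lit 20480) (Steps.bwd (nat_lit 12) (Steps.fwd (nat_lit 20480) (Steps.bwd (nat_lit 12) Steps.nil)))) (nat_lit 19) (nat_lit 1),
  Rule.mk (nat_lit 0) (nat_lit 103) (Steps.bwd (nat_lit 5) (Steps.fwd (nat_lit 36864) (Steps.fwd (nat_lit 20480) (Steps.bwd (nat_lit 14) (Steps.bwd (nat_lit 11) (Steps.bwd (nat_lit 13) Steps.nil)))))) (nat_lit 25) (nat_lit 4),
  Rule.mk (nat_lit 0) (nat_lit 133) (Steps.fwd (nat_lit 53248) (Steps.fwd (nat_lit 45056) (Steps.fwd (nat_lit 36864) (Steps.bwd (nat_lit 8) (Steps.bwd (nat_lit 14) (Steps.fwd (nat_lit 45056) (Steps.bwd (nat_lit 10) (Steps.bwd (nat_lit 8) Steps.nil)))))))) (nat_lit 40) (nat_lit 1),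
  Rule.mk (nat_lit 3) (nat_lit 148) (Steps.bwd (nat_lit 2) (Steps.bwd (nat_lit 2) (Steps.fwd (nat_lit 12288) (Steps.fwd (nat_lit 20480) (Steps.fwd (nat_lit 53248) (Steps.bwd (nat_lit 12) (Steps.bwd (nat_lit 5) (Steps.bwd (nat_lit 11) (Steps.bwd (nat_lit 13) Steps.nil))))))))) (nat_lit 52) (nat_lit 1),
  Rule.mk (nat_lit 5) (nat_lit 118) (Steps.bwd (nat_lit 3) (Steps.bwd (nat_lit 2) (Steps.bwd (nat_lit 2) (Steps.fwd (nat_lit 32768) (Steps.fwd (nat_lit 40960) (Steps.bwd (nat_lit 14) (Steps.fwd (nat_lit 45056) Steps.nil))))))) (nat_lit 33) (nat_lit 5),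
  Rule.mk (nat_lit 0) (nat_lit 163) (Steps.bwd (nat_lit 7) (Steps.bwd (nat_lit 10) (Steps.bwd (nat_lit 8) (Steps.fwd (nat_lit 8192) (Steps.fwd (nat_lit 12288) (Steps.fwd (nat_lit 20480) (Steps.bwd (nat_lit 3) (Steps.fwd (nat_lit 4096) (Steps.fwd (nat_lit 4096) (Steps.fwd (nat_lit 4096) Steps.nil)))))))))) (nat_lit 47) (nat_lit 9),
  Rule.mk (nat_lit 12) (nat_lit 103) (Steps.fwd (nat_lit 53248) (Steps.fwd (nat_lit 20480) (Steps.fwd (nat_lit 28672) (Steps.bwd (nat_lit 10) (Steps.fwd (nat_lit 12288) (Steps.bwd (nat_lit 1) Steps.nil)))))) (nat_lit 31) (nat_lit 0),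
  Rule.mk (nat_lit 3) (nat_lit 88) (Steps.bwd (nat_lit 2) (Steps.fwd (nat_lit 36864) (Steps.bwd (nat_lit 8) (Steps.bwd (nat_lit 9) (Steps.bwd (nat_lit 1) Steps.nil))))) (nat_lit 20) (nat_lit 2),
  Rule.mk (nat_lit 13) (nat_lit 103) (Steps.bwd (nat_lit 11) (Steps.bwd (nat_lit 2) (Steps.fwd (nat_lit 16384) (Steps.bwd (nat_lit 9) (Steps.fwd (nat_lit 32768) (Steps.bwd (nat_lit 5) Steps.nil)))))) (nat_lit 30) (nat_lit 0),
  Rule.mk (nat_lit 6) (nat_lit 118) (Steps.bwd (nat_lit 1) (Steps.fwd (nat_lit 28672) (Steps.fwd (nat_lit 8192) (Steps.fwd (nat_lit 8192) (Steps.fwd (nat_lit 32768) (Steps.bwd (nat_lit 9) (Steps.fwd (nat_lit 4096) Steps.nil))))))) (nat_lit 43) (nat_lit 0),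
  Rule.mk (nat_lit 10) (nat_lit 88) (Steps.bwd (nat_lit 6) (Steps.bwd (nat_lit 1) (Steps.fwd (nat_lit 32768) (Steps.bwd (nat_lit 1) (Steps.bwd (nat_lit 4) Steps.nil))))) (nat_lit 22) (nat_lit 4),
  Rule.mk (nat_lit 11) (nat_lit 73) (Steps.fwd (nat_lit 24576) (Steps.fwd (nat_lit 49152) (Steps.bwd (nat_lit 5) (Steps.bwd (nat_lit 10) Steps.nil)))) (nat_lit 18) (nat_lit 1),
  Rule.mk (nat_lit 8) (nat_lit 118) (Steps.fwd (nat_lit 8192) (Steps.bwd (nat_lit 1) (Steps.fwd (nat_lit 12288) (Steps.fwd (nat_lit 20480) (Steps.fwd (nat_lit 49152) (Steps.fwd (nat_lit 57344) (Steps.bwd (nat_lit 10) Steps.nil))))))) (nat_lit 32) (nat_lit 0),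
  Rule.mk (nat_lit 3) (nat_lit 103) (Steps.fwd (nat_lit 8192) (Steps.bwd (nat_lit 1) (Steps.fwd (nat_lit 8192) (Steps.bwd (nat_lit 3) (Steps.fwd (nat_lit 4096) (Steps.bwd (nat_lit 8) Steps.nil)))))) (nat_lit 29) (nat_lit 3),
  Rule.mk (nat_lit 0) (nat_lit 88) (Steps.bwd (nat_lit 1) (Steps.bwd (nat_lit 1) (Steps.bwd (nat_lit 8) (Steps.bwd (nat_lit 3) (Steps.bwd (nat_lit 5) Steps.nil))))) (nat_lit 15) (nat_lit 1),
  Rule.mk (nat_lit 0) (nat_lit 133) (Steps.bwd (nat_lit 1) (Steps.fwd (nat_lit 36864) (Steps.fwd (nat_lit 28672) (Steps.fwd (nat_lit 4096) (Steps.bwd (nat_lit 2) (Steps.bwd (nat_lit 7) (Steps.bwd (nat_lit 2) (Steps.fwd (nat_lit 24576) Steps.nil)))))))) (nat_lit 42) (nat_lit 1),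
  Rule.mk (nat_lit 9) (nat_lit 118) (Steps.bwd (nat_lit 14) (Steps.bwd (nat_lit 12) (Steps.fwd (nat_lit 24576) (Steps.fwd (nat_lit 16384) (Steps.bwd (nat_lit 2) (Steps.fwd (nat_lit 4096) (Steps.fwd (nat_lit 32768) Steps.nil))))))) (nat_lit 33) (nat_lit 2),
  Rule.mk (nat_lit 5) (nat_lit 118) (Steps.bwd (nat_lit 1) (Steps.fwd (nat_lit 36864) (Steps.fwd (nat_lit 28672) (Steps.bwd (nat_lit 2) (Steps.fwd (nat_lit 4096) (Steps.fwd (nat_lit 32768) (Steps.fwd (nat_lit 4096) Steps.nil))))))) (nat_lit 42) (nat_lit 1),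
  Rule.mk (nat_lit 6) (nat_lit 118) (Steps.bwd (nat_lit 11) (Steps.bwd (nat_lit 5) (Steps.bwd (nat_lit 3) (Steps.bwd (nat_lit 6) (Steps.fwd (nat_lit 49152) (Steps.bwd (nat_lit 5) (Steps.bwd (nat_lit 3) Steps.nil))))))) (nat_lit 34) (nat_lit 2),
  Rule.mk (nat_lit 0) (nat_lit 88) (Steps.bwd (nat_lit 11) (Steps.bwd (nat_lit 5) (Steps.bwd (nat_lit 11) (Steps.fwd (nat_lit 24576) (Steps.bwd (nat_lit 10) Steps.nil))))) (nat_lit 18) (nat_lit 0),
  Rule.mk (nat_lit 13) (nat_lit 88) (Steps.fwd (nat_lit 24576) (Steps.fwd (nat_lit 40960) (Steps.bwd (nat_lit 6) (Steps.fwd (nat_lit 53248) (Steps.fwd (nat_lit 45056) Steps.nil))))) (nat_lit 24) (nat_lit 5),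
  Rule.mk (nat_lit 13) (nat_lit 118) (Steps.bwd (nat_lit 10) (Steps.fwd (nat_lit 28672) (Steps.fwd (nat_lit 8192) (Steps.fwd (nat_lit 8192) (Steps.fwd (nat_lit 12288) (Steps.bwd (nat_lit 6) (Steps.bwd (nat_lit 11) Steps.nil))))))) (nat_lit 32) (nat_lit 6),
  Rule.mk (nat_lit 12) (nat_lit 133) (Steps.bwd (nat_lit 4) (Steps.fwd (nat_lit 32768) (Steps.fwd (nat_lit 12288) (Steps.fwd (nat_lit 32768) (Steps.fwd (nat_lit 40960) (Steps.bwd (nat_lit 6) (Steps.bwd (nat_lit 11) (Steps.bwd (nat_lit 13) Steps.nil)))))))) (nat_lit 44) (nat_lit 0)]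
noncomputable def R_31 : List (Rule) := [Rule.mk (nat_lit 0) (nat_lit 103) (Steps.bwd (nat_lit 11) (Steps.bwd (nat_lit 14) (Steps.bwd (nat_lit 11) (Steps.bwd (nat_lit 13) (Steps.bwd (nat_lit 12) (Steps.fwd (nat_lit 36864) Steps.nil)))))) (nat_lit 27) (nat_lit 4),
  Rule.mk (nat_lit 8) (nat_lit 118) (Steps.fwd (nat_lit 40960) (Steps.bwd (nat_lit 14) (Steps.bwd (nat_lit 10) (Steps.bwd (nat_lit 8) (Steps.bwd (nat_lit 9) (Steps.bwd (nat_lit 14) (Steps.fwd (nat_lit 36864) Steps.nil))))))) (nat_lit 39) (nat_lit 2),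
  Rule.mk (nat_lit 2) (nat_lit 88) (Steps.fwd (nat_lit 36864) (Steps.bwd (nat_lit 8) (Steps.fwd (nat_lit 40960) (Steps.bwd (nat_lit 1) (Steps.fwd (nat_lit 16384) Steps.nil))))) (nat_lit 20) (nat_lit 3),
  Rule.mk (nat_lit 4) (nat_lit 88) (Steps.bwd (nat_lit 2) (Steps.fwd (nat_lit 36864) (Steps.fwd (nat_lit 32768) (Steps.bwd (nat_lit 9) (Steps.bwd (nat_lit 1) Steps.nil))))) (nat_lit 21) (nat_lit 5),
  Rule.mk (nat_lit 8) (nat_lit 88) (Steps.fwd (nat_lit 4096) (Steps.fwd (nat_lit 24576) (Steps.fwd (nat_lit 40960) (Steps.fwd (nat_lit 16384) (Steps.bwd (nat_lit 2) Steps.nil))))) (nat_lit 23) (nat_lit 0),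
  Rule.mk (nat_lit 0) (nat_lit 133) (Steps.bwd (nat_lit 2) (Steps.bwd (nat_lit 7) (Steps.bwd (nat_lit 9) (Steps.bwd (nat_lit 14) (Steps.fwd (nat_lit 45056) (Steps.fwd (nat_lit 24576) (Steps.fwd (nat_lit 16384) (Steps.bwd (nat_lit 2) Steps.nil)))))))) (nat_lit 33) (nat_lit 7),
  Rule.mk (nat_lit 7) (nat_lit 118) (Steps.bwd (nat_lit 2) (Steps.bwd (nat_lit 5) (Steps.fwd (nat_lit 8192) (Steps.bwd (nat_lit 10) (Steps.fwd (nat_lit 28672) (Steps.bwd (nat_lit 2) (Steps.fwd (nat_lit 4096) Steps.nil))))))) (nat_lit 42) (nat_lit 7),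
  Rule.mk (nat_lit 9) (nat_lit 118) (Steps.bwd (nat_lit 2) (Steps.bwd (nat_lit 6) (Steps.bwd (nat_lit 1) (Steps.fwd (nat_lit 28672) (Steps.fwd (nat_lit 8192) (Steps.bwd (nat_lit 1) (Steps.fwd (nat_lit 32768) Steps.nil))))))) (nat_lit 43) (nat_lit 6),
  Rule.mk (nat_lit 0) (nat_lit 58) (Steps.fwd (nat_lit 36864) (Steps.fwd (nat_lit 36864) (Steps.bwd (nat_lit 10) Steps.nil))) (nat_lit 7) (nat_lit 0),
  Rule.mk (nat_lit 11) (nat_lit 88) (Steps.bwd (nat_lit 14) (Steps.fwd (nat_lit 45056) (Steps.fwd (nat_lit 57344) (Steps.bwd (nat_lit 12) (Steps.bwd (nat_lit 9) Steps.nil))))) (nat_lit 26) (nat_lit 4),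
  Rule.mk (nat_lit 10) (nat_lit 118) (Steps.fwd (nat_lit 32768) (Steps.bwd (nat_lit 9) (Steps.bwd (nat_lit 13) (Steps.bwd (nat_lit 10) (Steps.bwd (nat_lit 7) (Steps.bwd (nat_lit 9) (Steps.bwd (nat_lit 13) Steps.nil))))))) (nat_lit 38) (nat_lit 2),
  Rule.mk (nat_lit 10) (nat_lit 118) (Steps.fwd (nat_lit 53248) (Steps.fwd (nat_lit 45056) (Steps.bwd (nat_lit 13) (Steps.bwd (nat_lit 10) (Steps.fwd (nat_lit 53248) (Steps.bwd (nat_lit 12) (Steps.fwd (nat_lit 57344) Steps.nil))))))) (nat_lit 37) (nat_lit 0),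
  Rule.mk (nat_lit 7) (nat_lit 148) (Steps.bwd (nat_lit 10) (Steps.fwd (nat_lit 32768) (Steps.fwd (nat_lit 36864) (Steps.bwd (nat_lit 7) (Steps.bwd (nat_lit 10) (Steps.fwd (nat_lit 32768) (Steps.fwd (nat_lit 36864) (Steps.bwd (nat_lit 7) (Steps.bwd (nat_lit 10) Steps.nil))))))))) (nat_lit 49) (nat_lit 0),
  Rule.mk (nat_lit 13) (nat_lit 118) (Steps.bwd (nat_lit 7) (Steps.fwd (nat_lit 40960) (Steps.bwd (nat_lit 11) (Steps.bwd (nat_lit 13) (Steps.bwd (nat_lit 7) (Steps.bwd (nat_lit 9) (Steps.fwd (nat_lit 49152) Steps.nil))))))) (nat_lit 41) (nat_lit 3),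
  Rule.mk (nat_lit 12) (nat_lit 88) (Steps.bwd (nat_lit 10) (Steps.fwd (nat_lit 49152) (Steps.fwd (nat_lit 53248) (Steps.fwd (nat_lit 49152) (Steps.bwd (nat_lit 13) Steps.nil))))) (nat_lit 27) (nat_lit 3),
  Rule.mk (nat_lit 9) (nat_lit 88) (Steps.fwd (nat_lit 49152) (Steps.fwd (nat_lit 53248) (Steps.bwd (nat_lit 12) (Steps.bwd (nat_lit 13) (Steps.fwd (nat_lit 45056) Steps.nil))))) (nat_lit 26) (nat_lit 3),
  Rule.mk (nat_lit 7) (nat_lit 118) (Steps.bwd (nat_lit 9) (Steps.fwd (nat_lit 49152) (Steps.fwd (nat_lit 57344) (Steps.fwd (nat_lit 32768) (Steps.bwd (nat_lit 9) (Steps.bwd (nat_lit 11) (Steps.bwd (nat_lit 13) Steps.nil))))))) (nat_lit 41) (nat_lit 0),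
  Rule.mk (nat_lit 8) (nat_lit 103) (Steps.bwd (nat_lit 3) (Steps.bwd (nat_lit 1) (Steps.fwd (nat_lit 8192) (Steps.fwd (nat_lit 8192) (Steps.bwd (nat_lit 3) (Steps.fwd (nat_lit 4096) Steps.nil)))))) (nat_lit 29) (nat_lit 2),
  Rule.mk (nat_lit 11) (nat_lit 118) (Steps.bwd (nat_lit 5) (Steps.fwd (nat_lit 16384) (Steps.fwd (nat_lit 20480) (Steps.fwd (nat_lit 49152) (Steps.fwd (nat_lit 24576) (Steps.bwd (nat_lit 3) (Steps.fwd (nat_lit 20480) Steps.nil))))))) (nat_lit 34) (nat_lit 3),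
  Rule.mk (nat_lit 14) (nat_lit 73) (Steps.bwd (nat_lit 4) (Steps.fwd (nat_lit 28672) (Steps.bwd (nat_lit 11) (Steps.fwd (nat_lit 20480) Steps.nil)))) (nat_lit 16) (nat_lit 0),
  Rule.mk (nat_lit 0) (nat_lit 88) (Steps.bwd (nat_lit 12) (Steps.fwd (nat_lit 20480) (Steps.fwd (nat_lit 45056) (Steps.fwd (nat_lit 40960) (Steps.bwd (nat_lit 6) Steps.nil))))) (nat_lit 19) (nat_lit 2),
  Rule.mk (nat_lit 3) (nat_lit 118) (Steps.fwd (nat_lit 4096) (Steps.fwd (nat_lit 4096) (Steps.fwd (nat_lit 32768) (Steps.bwd (nat_lit 9) (Steps.fwd (nat_lit 53248) (Steps.bwd (nat_lit 12) (Steps.fwd (nat_lit 24576) Steps.nil))))))) (nat_lit 33) (nat_lit 6),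
  Rule.mk (nat_lit 8) (nat_lit 103) (Steps.bwd (nat_lit 3) (Steps.bwd (nat_lit 1) (Steps.fwd (nat_lit 8192) (Steps.bwd (nat_lit 1) (Steps.fwd (nat_lit 16384) (Steps.fwd (nat_lit 4096) Steps.nil)))))) (nat_lit 29) (nat_lit 2),
  Rule.mk (nat_lit 6) (nat_lit 148) (Steps.bwd (nat_lit 14) (Steps.fwd (nat_lit 45056) (Steps.fwd (nat_lit 24576) (Steps.bwd (nat_lit 11) (Steps.fwd (nat_lit 57344) (Steps.bwd (nat_lit 3) (Steps.fwd (nat_lit 4096) (Steps.fwd (nat_lit 4096) (Steps.fwd (nat_lit 12288) Steps.nil))))))))) (nat_lit 52) (nat_lit 5),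
  Rule.mk (nat_lit 10) (nat_lit 88) (Steps.bwd (nat_lit 6) (Steps.bwd (nat_lit 14) (Steps.bwd (nat_lit 11) (Steps.fwd (nat_lit 57344) (Steps.fwd (nat_lit 24576) Steps.nil))))) (nat_lit 25) (nat_lit 0),
  Rule.mk (nat_lit 2) (nat_lit 118) (Steps.fwd (nat_lit 32768) (Steps.fwd (nat_lit 4096) (Steps.fwd (nat_lit 24576) (Steps.fwd (nat_lit 8192) (Steps.bwd (nat_lit 10) (Steps.bwd (nat_lit 8) (Steps.fwd (nat_lit 4096) Steps.nil))))))) (nat_lit 42) (nat_lit 6),
  Rule.mk (nat_lit 0) (nat_lit 88) (Steps.fwd (nat_lit 24576) (Steps.fwd (nat_lit 8192) (Steps.bwd (nat_lit 1) (Steps.fwd (nat_lit 28672) (Steps.fwd (nat_lit 16384) Steps.nil))))) (nat_lit 15) (nat_lit 0),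
  Rule.mk (nat_lit 5) (nat_lit 73) (Steps.bwd (nat_lit 12) (Steps.fwd (nat_lit 32768) (Steps.fwd (nat_lit 16384) (Steps.bwd (nat_lit 13) Steps.nil)))) (nat_lit 17) (nat_lit 2),
  Rule.mk (nat_lit 2) (nat_lit 103) (Steps.bwd (nat_lit 2) (Steps.bwd (nat_lit 2) (Steps.fwd (nat_lit 12288) (Steps.bwd (nat_lit 7) (Steps.bwd (nat_lit 1) (Steps.bwd (nat_lit 4) Steps.nil)))))) (nat_lit 28) (nat_lit 2),
  Rule.mk (nat_lit 1) (nat_lit 103) (Steps.fwd (nat_lit 8192) (Steps.fwd (nat_lit 16384) (Steps.fwd (nat_lit 4096) (Steps.fwd (nat_lit 28672) (Steps.bwd (nat_lit 3) (Steps.bwd (nat_lit 1) Steps.nil)))))) (nat_lit 29) (nat_lit 5),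
  Rule.mk (nat_lit 8) (nat_lit 103) (Steps.fwd (nat_lit 16384) (Steps.fwd (nat_lit 8192) (Steps.bwd (nat_lit 1) (Steps.bwd (nat_lit 1) (Steps.fwd (nat_lit 16384) (Steps.bwd (nat_lit 2) Steps.nil)))))) (nat_lit 29) (nat_lit 2),
  Rule.mk (nat_lit 10) (nat_lit 103) (Steps.bwd (nat_lit 4) (Steps.bwd (nat_lit 1) (Steps.fwd (nat_lit 45056) (Steps.fwd (nat_lit 53248) (Steps.bwd (nat_lit 6) (Steps.bwd (nat_lit 8) Steps.nil)))))) (nat_lit 31) (nat_lit 4),
  Rule.mk (nat_lit 11) (nat_lit 73) (Steps.bwd (nat_lit 5) (Steps.bwd (nat_lit 11) (Steps.fwd (nat_lit 24576) (Steps.bwd (nat_lit 10) Steps.nil)))) (nat_lit 18) (nat_lit 1),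
  Rule.mk (nat_lit 8) (nat_lit 103) (Steps.bwd (nat_lit 10) (Steps.fwd (nat_lit 12288) (Steps.bwd (nat_lit 1) (Steps.fwd (nat_lit 45056) (Steps.bwd (nat_lit 14) (Steps.bwd (nat_lit 6) Steps.nil)))))) (nat_lit 31) (nat_lit 3),
  Rule.mk (nat_lit 9) (nat_lit 118) (Steps.fwd (nat_lit 53248) (Steps.bwd (nat_lit 10) (Steps.bwd (nat_lit 8) (Steps.bwd (nat_lit 9) (Steps.bwd (nat_lit 14) (Steps.bwd (nat_lit 10) (Steps.fwd (nat_lit 28672) Steps.nil))))))) (nat_lit 39) (nat_lit 3),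
  Rule.mk (nat_lit 0) (nat_lit 133) (Steps.fwd (nat_lit 49152) (Steps.fwd (nat_lit 57344) (Steps.fwd (nat_lit 32768) (Steps.fwd (nat_lit 40960) (Steps.bwd (nat_lit 11) (Steps.bwd (nat_lit 13) (Steps.fwd (nat_lit 32768) (Steps.bwd (nat_lit 9) Steps.nil)))))))) (nat_lit 41) (nat_lit 1),
  Rule.mk (nat_lit 0) (nat_lit 103) (Steps.fwd (nat_lit 49152) (Steps.fwd (nat_lit 57344) (Steps.bwd (nat_lit 5) (Steps.bwd (nat_lit 10) (Steps.fwd (nat_lit 20480) (Steps.bwd (nat_lit 14) Steps.nil)))))) (nat_lit 25) (nat_lit 2),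
  Rule.mk (nat_lit 0) (nat_lit 103) (Steps.fwd (nat_lit 45056) (Steps.bwd (nat_lit 10) (Steps.bwd (nat_lit 11) (Steps.bwd (nat_lit 14) (Steps.fwd (nat_lit 49152) (Steps.fwd (nat_lit 57344) Steps.nil)))))) (nat_lit 27) (nat_lit 2),
  Rule.mk (nat_lit 3) (nat_lit 133) (Steps.bwd (nat_lit 8) (Steps.fwd (nat_lit 16384) (Steps.bwd (nat_lit 11) (Steps.bwd (nat_lit 14) (Steps.bwd (nat_lit 12) (Steps.fwd (nat_lit 24576) (Steps.bwd (nat_lit 10) (Steps.bwd (nat_lit 8) Steps.nil)))))))) (nat_lit 45) (nat_lit 7),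
  Rule.mk (nat_lit 4) (nat_lit 103) (Steps.fwd (nat_lit 32768) (Steps.bwd (nat_lit 1) (Steps.fwd (nat_lit 12288) (Steps.fwd (nat_lit 4096) (Steps.fwd (nat_lit 4096) (Steps.fwd (nat_lit 4096) Steps.nil)))))) (nat_lit 28) (nat_lit 5),
  Rule.mk (nat_lit 8) (nat_lit 148) (Steps.bwd (nat_lit 1) (Steps.fwd (nat_lit 12288) (Steps.fwd (nat_lit 20480) (Steps.bwd (nat_lit 3) (Steps.bwd (nat_lit 2) (Steps.fwd (nat_lit 4096) (Steps.fwd (nat_lit 4096) (Steps.fwd (nat_lit 32768) (Steps.bwd (nat_lit 10) Steps.nil))))))))) (nat_lit 47) (nat_lit 2),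
  Rule.mk (nat_lit 0) (nat_lit 88) (Steps.bwd (nat_lit 3) (Steps.fwd (nat_lit 57344) (Steps.fwd (nat_lit 24576) (Steps.fwd (nat_lit 45056) (Steps.bwd (nat_lit 7) Steps.nil))))) (nat_lit 17) (nat_lit 4),
  Rule.mk (nat_lit 10) (nat_lit 88) (Steps.bwd (nat_lit 8) (Steps.bwd (nat_lit 9) (Steps.bwd (nat_lit 1) (Steps.fwd (nat_lit 16384) (Steps.bwd (nat_lit 2) Steps.nil))))) (nat_lit 20) (nat_lit 4),
  Rule.mk (nat_lit 3) (nat_lit 88) (Steps.bwd (nat_lit 2) (Steps.bwd (nat_lit 8) (Steps.fwd (nat_lit 4096) (Steps.fwd (nat_lit 24576) (Steps.bwd (nat_lit 9) Steps.nil))))) (nat_lit 23) (nat_lit 4),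
  Rule.mk (nat_lit 1) (nat_lit 103) (Steps.bwd (nat_lit 1) (Steps.fwd (nat_lit 8192) (Steps.bwd (nat_lit 3) (Steps.bwd (nat_lit 2) (Steps.bwd (nat_lit 8) (Steps.fwd (nat_lit 16384) Steps.nil)))))) (nat_lit 29) (nat_lit 4),
  Rule.mk (nat_lit 0) (nat_lit 133) (Steps.fwd (nat_lit 16384) (Steps.fwd (nat_lit 4096) (Steps.bwd (nat_lit 2) (Steps.fwd (nat_lit 32768) (Steps.fwd (nat_lit 40960) (Steps.fwd (nat_lit 53248) (Steps.bwd (nat_lit 12) (Steps.bwd (nat_lit 5) Steps.nil)))))))) (nat_lit 33) (nat_lit 5),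
  Rule.mk (nat_lit 14) (nat_lit 118) (Steps.bwd (nat_lit 10) (Steps.fwd (nat_lit 28672) (Steps.bwd (nat_lit 9) (Steps.fwd (nat_lit 53248) (Steps.bwd (nat_lit 10) (Steps.bwd (nat_lit 8) (Steps.bwd (nat_lit 9) Steps.nil))))))) (nat_lit 39) (nat_lit 0),
  Rule.mk (nat_lit 10) (nat_lit 118) (Steps.bwd (nat_lit 8) (Steps.bwd (nat_lit 14) (Steps.bwd (nat_lit 12) (Steps.bwd (nat_lit 10) (Steps.bwd (nat_lit 8) (Steps.fwd (nat_lit 53248) (Steps.bwd (nat_lit 12) Steps.nil))))))) (nat_lit 40) (nat_lit 0),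
  Rule.mk (nat_lit 0) (nat_lit 103) (Steps.fwd (nat_lit 16384) (Steps.bwd (nat_lit 2) (Steps.bwd (nat_lit 10) (Steps.bwd (nat_lit 8) (Steps.fwd (nat_lit 40960) (Steps.bwd (nat_lit 1) Steps.nil)))))) (nat_lit 20) (nat_lit 1),
  Rule.mk (nat_lit 2) (nat_lit 148) (Steps.fwd (nat_lit 32768) (Steps.fwd (nat_lit 40960) (Steps.bwd (nat_lit 8) (Steps.bwd (nat_lit 1) (Steps.bwd (nat_lit 1) (Steps.bwd (nat_lit 1) (Steps.fwd (nat_lit 12288) (Steps.bwd (nat_lit 5) (Steps.fwd (nat_lit 16384) Steps.nil))))))))) (nat_lit 46) (nat_lit 8),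
  Rule.mk (nat_lit 8) (nat_lit 88) (Steps.fwd (nat_lit 4096) (Steps.bwd (nat_lit 5) (Steps.bwd (nat_lit 9) (Steps.fwd (nat_lit 16384) (Steps.bwd (nat_lit 2) Steps.nil))))) (nat_lit 23) (nat_lit 0),
  Rule.mk (nat_lit 0) (nat_lit 58) (Steps.bwd (nat_lit 7) (Steps.fwd (nat_lit 32768) (Steps.fwd (nat_lit 32768) Steps.nil))) (nat_lit 4) (nat_lit 0),
  Rule.mk (nat_lit 10) (nat_lit 118) (Steps.bwd (nat_lit 14) (Steps.bwd (nat_lit 12) (Steps.fwd (nat_lit 57344) (Steps.bwd (nat_lit 10) (Steps.bwd (nat_lit 14) (Steps.fwd (nat_lit 45056) (Steps.fwd (nat_lit 57344) Steps.nil))))))) (nat_lit 37) (nat_lit 0),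
  Rule.mk (nat_lit 6) (nat_lit 148) (Steps.bwd (nat_lit 3) (Steps.fwd (nat_lit 4096) (Steps.fwd (nat_lit 4096) (Steps.bwd (nat_lit 2) (Steps.fwd (nat_lit 32768) (Steps.bwd (nat_lit 10) (Steps.bwd (nat_lit 8) (Steps.fwd (nat_lit 8192) (Steps.bwd (nat_lit 4) Steps.nil))))))))) (nat_lit 47) (nat_lit 5),
  Rule.mk (nat_lit 11) (nat_lit 118) (Steps.fwd (nat_lit 57344) (Steps.fwd (nat_lit 36864) (Steps.fwd (nat_lit 28672) (Steps.bwd (nat_lit 1) (Steps.bwd (nat_lit 1) (Steps.fwd (nat_lit 12288) (Steps.bwd (nat_lit 6) Steps.nil))))))) (nat_lit 32) (nat_lit 5),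
  Rule.mk (nat_lit 8) (nat_lit 118) (Steps.bwd (nat_lit 1) (Steps.bwd (nat_lit 1) (Steps.bwd (nat_lit 7) (Steps.bwd (nat_lit 9) (Steps.fwd (nat_lit 4096) (Steps.bwd (nat_lit 6) (Steps.bwd (nat_lit 1) Steps.nil))))))) (nat_lit 43) (nat_lit 2),
  Rule.mk (nat_lit 11) (nat_lit 73) (Steps.fwd (nat_lit 20480) (Steps.fwd (nat_lit 53248) (Steps.fwd (nat_lit 12288) (Steps.bwd (nat_lit 8) Steps.nil)))) (nat_lit 16) (nat_lit 3),
  Rule.mk (nat_lit 13) (nat_lit 118) (Steps.bwd (nat_lit 10) (Steps.bwd (nat_lit 8) (Steps.fwd (nat_lit 8192) (Steps.fwd (nat_lit 8192) (Steps.bwd (nat_lit 4) (Steps.bwd (nat_lit 6) (Steps.bwd (nat_lit 11) Steps.nil))))))) (nat_lit 32) (nat_lit 6),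
  Rule.mk (nat_lit 10) (nat_lit 73) (Steps.bwd (nat_lit 11) (Steps.fwd (nat_lit 24576) (Steps.bwd (nat_lit 11) (Steps.fwd (nat_lit 24576) Steps.nil)))) (nat_lit 18) (nat_lit 0),
  Rule.mk (nat_lit 13) (nat_lit 148) (Steps.fwd (nat_lit 16384) (Steps.fwd (nat_lit 4096) (Steps.bwd (nat_lit 2) (Steps.bwd (nat_lit 4) (Steps.bwd (nat_lit 6) (Steps.fwd (nat_lit 53248) (Steps.fwd (nat_lit 45056) (Steps.bwd (nat_lit 5) (Steps.bwd (nat_lit 11) Steps.nil))))))))) (nat_lit 52) (nat_lit 0),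
  Rule.mk (nat_lit 5) (nat_lit 148) (Steps.bwd (nat_lit 3) (Steps.fwd (nat_lit 8192) (Steps.fwd (nat_lit 8192) (Steps.bwd (nat_lit 4) (Steps.bwd (nat_lit 14) (Steps.fwd (nat_lit 45056) (Steps.fwd (nat_lit 20480) (Steps.bwd (nat_lit 11) (Steps.bwd (nat_lit 13) Steps.nil))))))))) (nat_lit 53) (nat_lit 6),
  Rule.mk (nat_lit 0) (nat_lit 103) (Steps.fwd (nat_lit 53248) (Steps.fwd (nat_lit 45056) (Steps.bwd (nat_lit 13) (Steps.bwd (nat_lit 5) (Steps.fwd (nat_lit 40960) (Steps.fwd (nat_lit 20480) Steps.nil)))))) (nat_lit 24) (nat_lit 2),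
  Rule.mk (nat_lit 14) (nat_lit 88) (Steps.bwd (nat_lit 11) (Steps.bwd (nat_lit 13) (Steps.bwd (nat_lit 5) (Steps.fwd (nat_lit 36864) (Steps.bwd (nat_lit 6) Steps.nil))))) (nat_lit 25) (nat_lit 2),
  Rule.mk (nat_lit 12) (nat_lit 118) (Steps.bwd (nat_lit 5) (Steps.bwd (nat_lit 3) (Steps.bwd (nat_lit 2) (Steps.bwd (nat_lit 2) (Steps.bwd (nat_lit 7) (Steps.bwd (nat_lit 9) (Steps.fwd (nat_lit 53248) Steps.nil))))))) (nat_lit 33) (nat_lit 4)]
noncomputable def R_32 : List (Rule) := [Rule.mk (nat_lit 13) (nat_lit 118) (Steps.fwd (nat_lit 36864) (Steps.fwd (nat_lit 53248) (Steps.fwd (nat_lit 45056) (Steps.bwd (nat_lit 13) (Steps.bwd (nat_lit 10) (Steps.fwd (nat_lit 53248) (Steps.bwd (nat_lit 12) Steps.nil))))))) (nat_lit 37) (nat_lit 3),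
  Rule.mk (nat_lit 5) (nat_lit 88) (Steps.fwd (nat_lit 40960) (Steps.bwd (nat_lit 6) (Steps.fwd (nat_lit 53248) (Steps.bwd (nat_lit 12) (Steps.bwd (nat_lit 13) Steps.nil))))) (nat_lit 24) (nat_lit 0),
  Rule.mk (nat_lit 12) (nat_lit 88) (Steps.fwd (nat_lit 40960) (Steps.bwd (nat_lit 11) (Steps.fwd (nat_lit 53248) (Steps.bwd (nat_lit 12) (Steps.bwd (nat_lit 13) Steps.nil))))) (nat_lit 26) (nat_lit 2),
  Rule.mk (nat_lit 4) (nat_lit 103) (Steps.fwd (nat_lit 8192) (Steps.bwd (nat_lit 12) (Steps.bwd (nat_lit 14) (Steps.fwd (nat_lit 20480) (Steps.fwd (nat_lit 28672) (Steps.fwd (nat_lit 36864) Steps.nil)))))) (nat_lit 31) (nat_lit 5),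
  Rule.mk (nat_lit 0) (nat_lit 88) (Steps.bwd (nat_lit 7) (Steps.fwd (nat_lit 4096) (Steps.bwd (nat_lit 2) (Steps.fwd (nat_lit 20480) (Steps.bwd (nat_lit 4) Steps.nil))))) (nat_lit 14) (nat_lit 1),
  Rule.mk (nat_lit 12) (nat_lit 118) (Steps.bwd (nat_lit 5) (Steps.bwd (nat_lit 3) (Steps.bwd (nat_lit 2) (Steps.fwd (nat_lit 4096) (Steps.bwd (nat_lit 7) (Steps.bwd (nat_lit 9) (Steps.fwd (nat_lit 53248) Steps.nil))))))) (nat_lit 33) (nat_lit 4),
  Rule.mk (nat_lit 5) (nat_lit 73) (Steps.bwd (nat_lit 12) (Steps.fwd (nat_lit 32768) (Steps.bwd (nat_lit 3) (Steps.bwd (nat_lit 13) Steps.nil)))) (nat_lit 17) (nat_lit 2),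
  Rule.mk (nat_lit 12) (nat_lit 88) (Steps.bwd (nat_lit 13) (Steps.bwd (nat_lit 12) (Steps.fwd (nat_lit 40960) (Steps.fwd (nat_lit 49152) (Steps.fwd (nat_lit 53248) Steps.nil))))) (nat_lit 26) (nat_lit 0),
  Rule.mk (nat_lit 1) (nat_lit 88) (Steps.bwd (nat_lit 3) (Steps.fwd (nat_lit 4096) (Steps.fwd (nat_lit 36864) (Steps.bwd (nat_lit 8) (Steps.fwd (nat_lit 40960) Steps.nil))))) (nat_lit 20) (nat_lit 1),
  Rule.mk (nat_lit 8) (nat_lit 148) (Steps.bwd (nat_lit 9) (Steps.fwd (nat_lit 28672) (Steps.fwd (nat_lit 40960) (Steps.bwd (nat_lit 8) (Steps.fwd (nat_lit 40960) (Steps.fwd (nat_lit 28672) (Steps.fwd (nat_lit 40960) (Steps.bwd (nat_lit 8) (Steps.fwd (nat_lit 40960) Steps.nil))))))))) (nat_lit 48) (nat_lit 1),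
  Rule.mk (nat_lit 1) (nat_lit 118) (Steps.bwd (nat_lit 1) (Steps.bwd (nat_lit 4) (Steps.bwd (nat_lit 6) (Steps.bwd (nat_lit 11) (Steps.fwd (nat_lit 57344) (Steps.bwd (nat_lit 10) (Steps.bwd (nat_lit 8) Steps.nil))))))) (nat_lit 32) (nat_lit 1),
  Rule.mk (nat_lit 1) (nat_lit 148) (Steps.bwd (nat_lit 1) (Steps.bwd (nat_lit 1) (Steps.bwd (nat_lit 4) (Steps.fwd (nat_lit 24576) (Steps.fwd (nat_lit 16384) (Steps.fwd (nat_lit 4096) (Steps.fwd (nat_lit 32768) (Steps.fwd (nat_lit 40960) (Steps.bwd (nat_lit 8) Steps.nil))))))))) (nat_lit 46) (nat_lit 2),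
  Rule.mk (nat_lit 4) (nat_lit 88) (Steps.bwd (nat_lit 2) (Steps.fwd (nat_lit 36864) (Steps.bwd (nat_lit 7) (Steps.bwd (nat_lit 9) (Steps.bwd (nat_lit 1) Steps.nil))))) (nat_lit 21) (nat_lit 5),
  Rule.mk (nat_lit 6) (nat_lit 148) (Steps.bwd (nat_lit 14) (Steps.fwd (nat_lit 45056) (Steps.fwd (nat_lit 24576) (Steps.fwd (nat_lit 49152) (Steps.fwd (nat_lit 57344) (Steps.fwd (nat_lit 16384) (Steps.fwd (nat_lit 4096) (Steps.fwd (nat_lit 4096) (Steps.bwd (nat_lit 4) Steps.nil))))))))) (nat_lit 52) (nat_lit 5),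
  Rule.mk (nat_lit 12) (nat_lit 73) (Steps.bwd (nat_lit 6) (Steps.fwd (nat_lit 45056) (Steps.bwd (nat_lit 9) (Steps.fwd (nat_lit 20480) Steps.nil)))) (nat_lit 19) (nat_lit 3),
  Rule.mk (nat_lit 13) (nat_lit 88) (Steps.bwd (nat_lit 12) (Steps.bwd (nat_lit 10) (Steps.fwd (nat_lit 49152) (Steps.bwd (nat_lit 14) (Steps.fwd (nat_lit 49152) Steps.nil))))) (nat_lit 27) (nat_lit 2),
  Rule.mk (nat_lit 12) (nat_lit 73) (Steps.fwd (nat_lit 32768) (Steps.fwd (nat_lit 16384) (Steps.bwd (nat_lit 13) (Steps.bwd (nat_lit 5) Steps.nil)))) (nat_lit 17) (nat_lit 3),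
  Rule.mk (nat_lit 0) (nat_lit 118) (Steps.fwd (nat_lit 12288) (Steps.fwd (nat_lit 32768) (Steps.bwd (nat_lit 1) (Steps.fwd (nat_lit 12288) (Steps.fwd (nat_lit 4096) (Steps.fwd (nat_lit 4096) (Steps.bwd (nat_lit 2) Steps.nil))))))) (nat_lit 28) (nat_lit 4),
  Rule.mk (nat_lit 9) (nat_lit 118) (Steps.bwd (nat_lit 2) (Steps.bwd (nat_lit 6) (Steps.bwd (nat_lit 1) (Steps.bwd (nat_lit 8) (Steps.bwd (nat_lit 1) (Steps.bwd (nat_lit 1) (Steps.bwd (nat_lit 7) Steps.nil))))))) (nat_lit 43) (nat_lit 6),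
  Rule.mk (nat_lit 0) (nat_lit 133) (Steps.fwd (nat_lit 8192) (Steps.bwd (nat_lit 4) (Steps.fwd (nat_lit 20480) (Steps.bwd (nat_lit 11) (Steps.bwd (nat_lit 13) (Steps.bwd (nat_lit 10) (Steps.fwd (nat_lit 28672) (Steps.fwd (nat_lit 8192) Steps.nil)))))))) (nat_lit 32) (nat_lit 1),
  Rule.mk (nat_lit 0) (nat_lit 163) (Steps.bwd (nat_lit 1) (Steps.fwd (nat_lit 8192) (Steps.fwd (nat_lit 8192) (Steps.bwd (nat_lit 4) (Steps.bwd (nat_lit 5) (Steps.bwd (nat_lit 3) (Steps.bwd (nat_lit 2) (Steps.fwd (nat_lit 32768) (Steps.bwd (nat_lit 9) (Steps.fwd (nat_lit 28672) Steps.nil)))))))))) (nat_lit 46) (nat_lit 1),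
  Rule.mk (nat_lit 0) (nat_lit 103) (Steps.bwd (nat_lit 6) (Steps.fwd (nat_lit 8192) (Steps.bwd (nat_lit 7) (Steps.fwd (nat_lit 8192) (Steps.fwd (nat_lit 12288) (Steps.fwd (nat_lit 36864) Steps.nil)))))) (nat_lit 22) (nat_lit 4),
  Rule.mk (nat_lit 12) (nat_lit 118) (Steps.fwd (nat_lit 24576) (Steps.bwd (nat_lit 4) (Steps.fwd (nat_lit 20480) (Steps.bwd (nat_lit 12) (Steps.fwd (nat_lit 24576) (Steps.bwd (nat_lit 4) (Steps.fwd (nat_lit 20480) Steps.nil))))))) (nat_lit 35) (nat_lit 2),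
  Rule.mk (nat_lit 9) (nat_lit 118) (Steps.bwd (nat_lit 2) (Steps.fwd (nat_lit 20480) (Steps.fwd (nat_lit 8192) (Steps.fwd (nat_lit 28672) (Steps.fwd (nat_lit 8192) (Steps.fwd (nat_lit 8192) (Steps.bwd (nat_lit 7) Steps.nil))))))) (nat_lit 43) (nat_lit 6),
  Rule.mk (nat_lit 3) (nat_lit 88) (Steps.fwd (nat_lit 4096) (Steps.bwd (nat_lit 10) (Steps.bwd (nat_lit 8) (Steps.bwd (nat_lit 9) (Steps.fwd (nat_lit 8192) Steps.nil))))) (nat_lit 20) (nat_lit 2),
  Rule.mk (nat_lit 0) (nat_lit 118) (Steps.bwd (nat_lit 8) (Steps.fwd (nat_lit 36864) (Steps.fwd (nat_lit 12288) (Steps.fwd (nat_lit 8192) (Steps.bwd (nat_lit 12) (Steps.fwd (nat_lit 53248) (Steps.bwd (nat_lit 6) Steps.nil))))))) (nat_lit 31) (nat_lit 2),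
  Rule.mk (nat_lit 12) (nat_lit 118) (Steps.fwd (nat_lit 36864) (Steps.bwd (nat_lit 8) (Steps.fwd (nat_lit 53248) (Steps.fwd (nat_lit 45056) (Steps.bwd (nat_lit 10) (Steps.bwd (nat_lit 8) (Steps.fwd (nat_lit 53248) Steps.nil))))))) (nat_lit 40) (nat_lit 3),
  Rule.mk (nat_lit 4) (nat_lit 73) (Steps.bwd (nat_lit 7) (Steps.bwd (nat_lit 2) (Steps.fwd (nat_lit 4096) (Steps.fwd (nat_lit 20480) Steps.nil)))) (nat_lit 14) (nat_lit 1),
  Rule.mk (nat_lit 12) (nat_lit 73) (Steps.bwd (nat_lit 7) (Steps.fwd (nat_lit 16384) (Steps.fwd (nat_lit 57344) (Steps.fwd (nat_lit 24576) Steps.nil)))) (nat_lit 17) (nat_lit 3),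
  Rule.mk (nat_lit 13) (nat_lit 88) (Steps.bwd (nat_lit 12) (Steps.fwd (nat_lit 40960) (Steps.fwd (nat_lit 49152) (Steps.bwd (nat_lit 14) (Steps.bwd (nat_lit 12) Steps.nil))))) (nat_lit 26) (nat_lit 1),
  Rule.mk (nat_lit 11) (nat_lit 88) (Steps.bwd (nat_lit 14) (Steps.fwd (nat_lit 49152) (Steps.bwd (nat_lit 13) (Steps.bwd (nat_lit 12) (Steps.bwd (nat_lit 10) Steps.nil))))) (nat_lit 27) (nat_lit 5),
  Rule.mk (nat_lit 0) (nat_lit 133) (Steps.bwd (nat_lit 8) (Steps.bwd (nat_lit 1) (Steps.bwd (nat_lit 1) (Steps.bwd (nat_lit 4) (Steps.bwd (nat_lit 6) (Steps.fwd (nat_lit 49152) (Steps.bwd (nat_lit 13) (Steps.fwd (nat_lit 36864) Steps.nil)))))))) (nat_lit 32) (nat_lit 7),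
  Rule.mk (nat_lit 14) (nat_lit 118) (Steps.fwd (nat_lit 49152) (Steps.bwd (nat_lit 13) (Steps.fwd (nat_lit 40960) (Steps.bwd (nat_lit 14) (Steps.fwd (nat_lit 49152) (Steps.bwd (nat_lit 13) (Steps.fwd (nat_lit 40960) Steps.nil))))))) (nat_lit 36) (nat_lit 2),
  Rule.mk (nat_lit 7) (nat_lit 133) (Steps.fwd (nat_lit 12288) (Steps.bwd (nat_lit 7) (Steps.fwd (nat_lit 40960) (Steps.bwd (nat_lit 6) (Steps.fwd (nat_lit 49152) (Steps.bwd (nat_lit 13) (Steps.bwd (nat_lit 12) (Steps.fwd (nat_lit 12288) Steps.nil)))))))) (nat_lit 44) (nat_lit 2),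
  Rule.mk (nat_lit 2) (nat_lit 88) (Steps.bwd (nat_lit 8) (Steps.bwd (nat_lit 2) (Steps.fwd (nat_lit 24576) (Steps.bwd (nat_lit 9) (Steps.fwd (nat_lit 16384) Steps.nil))))) (nat_lit 23) (nat_lit 5),
  Rule.mk (nat_lit 2) (nat_lit 103) (Steps.bwd (nat_lit 2) (Steps.bwd (nat_lit 2) (Steps.fwd (nat_lit 12288) (Steps.fwd (nat_lit 32768) (Steps.bwd (nat_lit 1) (Steps.fwd (nat_lit 12288) Steps.nil)))))) (nat_lit 28) (nat_lit 2),
  Rule.mk (nat_lit 1) (nat_lit 103) (Steps.fwd (nat_lit 16384) (Steps.bwd (nat_lit 2) (Steps.bwd (nat_lit 8) (Steps.bwd (nat_lit 3) (Steps.fwd (nat_lit 8192) (Steps.bwd (nat_lit 1) Steps.nil)))))) (nat_lit 29) (nat_lit 6),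
  Rule.mk (nat_lit 4) (nat_lit 148) (Steps.bwd (nat_lit 5) (Steps.fwd (nat_lit 16384) (Steps.bwd (nat_lit 2) (Steps.bwd (nat_lit 7) (Steps.bwd (nat_lit 9) (Steps.fwd (nat_lit 28672) (Steps.fwd (nat_lit 8192) (Steps.bwd (nat_lit 1) (Steps.fwd (nat_lit 8192) Steps.nil))))))))) (nat_lit 46) (nat_lit 5),
  Rule.mk (nat_lit 2) (nat_lit 103) (Steps.fwd (nat_lit 4096) (Steps.bwd (nat_lit 2) (Steps.bwd (nat_lit 4) (Steps.bwd (nat_lit 7) (Steps.fwd (nat_lit 8192) (Steps.bwd (nat_lit 4) Steps.nil)))))) (nat_lit 28) (nat_lit 2),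
  Rule.mk (nat_lit 2) (nat_lit 103) (Steps.bwd (nat_lit 2) (Steps.fwd (nat_lit 4096) (Steps.bwd (nat_lit 4) (Steps.bwd (nat_lit 7) (Steps.fwd (nat_lit 8192) (Steps.fwd (nat_lit 12288) Steps.nil)))))) (nat_lit 28) (nat_lit 2),
  Rule.mk (nat_lit 5) (nat_lit 118) (Steps.fwd (nat_lit 16384) (Steps.bwd (nat_lit 2) (Steps.fwd (nat_lit 4096) (Steps.fwd (nat_lit 32768) (Steps.bwd (nat_lit 9) (Steps.bwd (nat_lit 14) (Steps.fwd (nat_lit 45056) Steps.nil))))))) (nat_lit 33) (nat_lit 5),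
  Rule.mk (nat_lit 11) (nat_lit 148) (Steps.bwd (nat_lit 13) (Steps.fwd (nat_lit 16384) (Steps.bwd (nat_lit 2) (Steps.fwd (nat_lit 4096) (Steps.bwd (nat_lit 4) (Steps.fwd (nat_lit 20480) (Steps.bwd (nat_lit 14) (Steps.bwd (nat_lit 12) (Steps.bwd (nat_lit 5) Steps.nil))))))))) (nat_lit 52) (nat_lit 9),
  Rule.mk (nat_lit 5) (nat_lit 73) (Steps.fwd (nat_lit 36864) (Steps.fwd (nat_lit 49152) (Steps.bwd (nat_lit 5) (Steps.bwd (nat_lit 11) Steps.nil)))) (nat_lit 18) (nat_lit 4),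
  Rule.mk (nat_lit 11) (nat_lit 88) (Steps.bwd (nat_lit 14) (Steps.bwd (nat_lit 11) (Steps.bwd (nat_lit 13) (Steps.fwd (nat_lit 45056) (Steps.bwd (nat_lit 10) Steps.nil))))) (nat_lit 27) (nat_lit 5),
  Rule.mk (nat_lit 11) (nat_lit 118) (Steps.fwd (nat_lit 24576) (Steps.bwd (nat_lit 3) (Steps.fwd (nat_lit 20480) (Steps.bwd (nat_lit 11) (Steps.bwd (nat_lit 5) (Steps.bwd (nat_lit 3) (Steps.bwd (nat_lit 6) Steps.nil))))))) (nat_lit 34) (nat_lit 3),
  Rule.mk (nat_lit 9) (nat_lit 118) (Steps.bwd (nat_lit 14) (Steps.bwd (nat_lit 11) (Steps.fwd (nat_lit 57344) (Steps.fwd (nat_lit 40960) (Steps.bwd (nat_lit 14) (Steps.bwd (nat_lit 11) (Steps.bwd (nat_lit 13) Steps.nil))))))) (nat_lit 36) (nat_lit 1),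
  Rule.mk (nat_lit 0) (nat_lit 88) (Steps.bwd (nat_lit 11) (Steps.bwd (nat_lit 5) (Steps.bwd (nat_lit 11) (Steps.fwd (nat_lit 24576) (Steps.fwd (nat_lit 36864) Steps.nil))))) (nat_lit 18) (nat_lit 0),
  Rule.mk (nat_lit 10) (nat_lit 88) (Steps.fwd (nat_lit 28672) (Steps.bwd (nat_lit 9) (Steps.bwd (nat_lit 1) (Steps.bwd (nat_lit 3) (Steps.fwd (nat_lit 4096) Steps.nil))))) (nat_lit 20) (nat_lit 4),
  Rule.mk (nat_lit 0) (nat_lit 103) (Steps.bwd (nat_lit 10) (Steps.fwd (nat_lit 20480) (Steps.bwd (nat_lit 14) (Steps.fwd (nat_lit 49152) (Steps.bwd (nat_lit 13) (Steps.bwd (nat_lit 5) Steps.nil)))))) (nat_lit 25) (nat_lit 5),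
  Rule.mk (nat_lit 11) (nat_lit 88) (Steps.fwd (nat_lit 53248) (Steps.bwd (nat_lit 12) (Steps.fwd (nat_lit 57344) (Steps.fwd (nat_lit 45056) (Steps.fwd (nat_lit 40960) Steps.nil))))) (nat_lit 26) (nat_lit 4),
  Rule.mk (nat_lit 13) (nat_lit 88) (Steps.bwd (nat_lit 12) (Steps.bwd (nat_lit 9) (Steps.fwd (nat_lit 49152) (Steps.bwd (nat_lit 14) (Steps.fwd (nat_lit 45056) Steps.nil))))) (nat_lit 26) (nat_lit 1),
  Rule.mk (nat_lit 10) (nat_lit 118) (Steps.fwd (nat_lit 53248) (Steps.bwd (nat_lit 12) (Steps.fwd (nat_lit 57344) (Steps.fwd (nat_lit 36864) (Steps.bwd (nat_lit 14) (Steps.fwd (nat_lit 45056) (Steps.bwd (nat_lit 13) Steps.nil))))))) (nat_lit 37) (nat_lit 0),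
  Rule.mk (nat_lit 7) (nat_lit 133) (Steps.bwd (nat_lit 9) (Steps.fwd (nat_lit 20480) (Steps.fwd (nat_lit 49152) (Steps.bwd (nat_lit 13) (Steps.bwd (nat_lit 12) (Steps.bwd (nat_lit 4) (Steps.bwd (nat_lit 7) (Steps.fwd (nat_lit 12288) Steps.nil)))))))) (nat_lit 44) (nat_lit 4),
  Rule.mk (nat_lit 4) (nat_lit 103) (Steps.bwd (nat_lit 2) (Steps.bwd (nat_lit 2) (Steps.bwd (nat_lit 2) (Steps.fwd (nat_lit 12288) (Steps.bwd (nat_lit 7) (Steps.fwd (nat_lit 8192) Steps.nil)))))) (nat_lit 28) (nat_lit 1),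
  Rule.mk (nat_lit 8) (nat_lit 118) (Steps.fwd (nat_lit 8192) (Steps.fwd (nat_lit 8192) (Steps.bwd (nat_lit 7) (Steps.bwd (nat_lit 9) (Steps.bwd (nat_lit 2) (Steps.fwd (nat_lit 20480) (Steps.fwd (nat_lit 8192) Steps.nil))))))) (nat_lit 43) (nat_lit 2),
  Rule.mk (nat_lit 4) (nat_lit 133) (Steps.bwd (nat_lit 7) (Steps.fwd (nat_lit 12288) (Steps.fwd (nat_lit 32768) (Steps.bwd (nat_lit 9) (Steps.bwd (nat_lit 6) (Steps.bwd (nat_lit 11) (Steps.bwd (nat_lit 13) (Steps.bwd (nat_lit 12) Steps.nil)))))))) (nat_lit 44) (nat_lit 1),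
  Rule.mk (nat_lit 14) (nat_lit 73) (Steps.bwd (nat_lit 4) (Steps.fwd (nat_lit 28672) (Steps.bwd (nat_lit 11) (Steps.bwd (nat_lit 6) Steps.nil)))) (nat_lit 16) (nat_lit 0),
  Rule.mk (nat_lit 0) (nat_lit 88) (Steps.bwd (nat_lit 12) (Steps.bwd (nat_lit 9) (Steps.fwd (nat_lit 20480) (Steps.bwd (nat_lit 12) (Steps.bwd (nat_lit 6) Steps.nil))))) (nat_lit 19) (nat_lit 4),
  Rule.mk (nat_lit 10) (nat_lit 88) (Steps.bwd (nat_lit 6) (Steps.bwd (nat_lit 14) (Steps.fwd (nat_lit 49152) (Steps.bwd (nat_lit 13) (Steps.fwd (nat_lit 24576) Steps.nil))))) (nat_lit 25) (nat_lit 0),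
  Rule.mk (nat_lit 0) (nat_lit 133) (Steps.fwd (nat_lit 4096) (Steps.fwd (nat_lit 4096) (Steps.fwd (nat_lit 32768) (Steps.bwd (nat_lit 9) (Steps.fwd (nat_lit 53248) (Steps.bwd (nat_lit 12) (Steps.fwd (nat_lit 24576) (Steps.fwd (nat_lit 16384) Steps.nil)))))))) (nat_lit 33) (nat_lit 6),
  Rule.mk (nat_lit 10) (nat_lit 88) (Steps.bwd (nat_lit 11) (Steps.fwd (nat_lit 53248) (Steps.bwd (nat_lit 11) (Steps.bwd (nat_lit 13) (Steps.fwd (nat_lit 45056) Steps.nil))))) (nat_lit 27) (nat_lit 4),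
  Rule.mk (nat_lit 7) (nat_lit 118) (Steps.fwd (nat_lit 40960) (Steps.bwd (nat_lit 13) (Steps.fwd (nat_lit 36864) (Steps.bwd (nat_lit 7) (Steps.bwd (nat_lit 9) (Steps.fwd (nat_lit 57344) (Steps.fwd (nat_lit 36864) Steps.nil))))))) (nat_lit 38) (nat_lit 3),
  Rule.mk (nat_lit 3) (nat_lit 73) (Steps.fwd (nat_lit 57344) (Steps.bwd (nat_lit 5) (Steps.bwd (nat_lit 12) (Steps.bwd (nat_lit 7) Steps.nil)))) (nat_lit 17) (nat_lit 0),
  Rule.mk (nat_lit 1) (nat_lit 88) (Steps.bwd (nat_lit 4) (Steps.fwd (nat_lit 36864) (Steps.bwd (nat_lit 6) (Steps.fwd (nat_lit 8192) (Steps.bwd (nat_lit 7) Steps.nil))))) (nat_lit 22) (nat_lit 2)]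
noncomputable def R_33 : List (Rule) := [Rule.mk (nat_lit 2) (nat_lit 118) (Steps.fwd (nat_lit 20480) (Steps.fwd (nat_lit 8192) (Steps.bwd (nat_lit 8) (Steps.fwd (nat_lit 8192) (Steps.fwd (nat_lit 8192) (Steps.bwd (nat_lit 7) (Steps.fwd (nat_lit 40960) Steps.nil))))))) (nat_lit 43) (nat_lit 7),
  Rule.mk (nat_lit 10) (nat_lit 88) (Steps.fwd (nat_lit 32768) (Steps.fwd (nat_lit 40960) (Steps.bwd (nat_lit 1) (Steps.bwd (nat_lit 4) (Steps.bwd (nat_lit 2) Steps.nil))))) (nat_lit 21) (nat_lit 1),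
  Rule.mk (nat_lit 13) (nat_lit 118) (Steps.fwd (nat_lit 36864) (Steps.fwd (nat_lit 32768) (Steps.fwd (nat_lit 40960) (Steps.bwd (nat_lit 13) (Steps.bwd (nat_lit 10) (Steps.fwd (nat_lit 32768) (Steps.fwd (nat_lit 40960) Steps.nil))))))) (nat_lit 38) (nat_lit 1),
  Rule.mk (nat_lit 10) (nat_lit 118) (Steps.fwd (nat_lit 53248) (Steps.fwd (nat_lit 45056) (Steps.bwd (nat_lit 13) (Steps.fwd (nat_lit 36864) (Steps.fwd (nat_lit 53248) (Steps.fwd (nat_lit 45056) (Steps.bwd (nat_lit 13) Steps.nil))))))) (nat_lit 37) (nat_lit 0),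
  Rule.mk (nat_lit 13) (nat_lit 148) (Steps.fwd (nat_lit 45056) (Steps.fwd (nat_lit 57344) (Steps.fwd (nat_lit 45056) (Steps.bwd (nat_lit 13) (Steps.bwd (nat_lit 12) (Steps.fwd (nat_lit 57344) (Steps.fwd (nat_lit 45056) (Steps.fwd (nat_lit 57344) (Steps.bwd (nat_lit 12) Steps.nil))))))))) (nat_lit 50) (nat_lit 0),
  Rule.mk (nat_lit 9) (nat_lit 88) (Steps.bwd (nat_lit 11) (Steps.fwd (nat_lit 53248) (Steps.bwd (nat_lit 12) (Steps.bwd (nat_lit 13) (Steps.fwd (nat_lit 45056) Steps.nil))))) (nat_lit 26) (nat_lit 3),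
  Rule.mk (nat_lit 0) (nat_lit 88) (Steps.fwd (nat_lit 24576) (Steps.bwd (nat_lit 12) (Steps.bwd (nat_lit 7) (Steps.bwd (nat_lit 3) (Steps.bwd (nat_lit 13) Steps.nil))))) (nat_lit 17) (nat_lit 1),
  Rule.mk (nat_lit 10) (nat_lit 88) (Steps.bwd (nat_lit 6) (Steps.fwd (nat_lit 8192) (Steps.bwd (nat_lit 7) (Steps.bwd (nat_lit 1) (Steps.bwd (nat_lit 4) Steps.nil))))) (nat_lit 22) (nat_lit 4),
  Rule.mk (nat_lit 13) (nat_lit 88) (Steps.fwd (nat_lit 24576) (Steps.bwd (nat_lit 10) (Steps.bwd (nat_lit 6) (Steps.fwd (nat_lit 53248) (Steps.fwd (nat_lit 49152) Steps.nil))))) (nat_lit 25) (nat_lit 4),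
  Rule.mk (nat_lit 11) (nat_lit 88) (Steps.fwd (nat_lit 57344) (Steps.fwd (nat_lit 45056) (Steps.bwd (nat_lit 10) (Steps.fwd (nat_lit 49152) (Steps.bwd (nat_lit 14) Steps.nil))))) (nat_lit 27) (nat_lit 1),
  Rule.mk (nat_lit 1) (nat_lit 118) (Steps.bwd (nat_lit 8) (Steps.fwd (nat_lit 8192) (Steps.fwd (nat_lit 8192) (Steps.bwd (nat_lit 7) (Steps.bwd (nat_lit 9) (Steps.bwd (nat_lit 2) (Steps.bwd (nat_lit 6) Steps.nil))))))) (nat_lit 43) (nat_lit 1),
  Rule.mk (nat_lit 11) (nat_lit 133) (Steps.bwd (nat_lit 14) (Steps.fwd (nat_lit 45056) (Steps.bwd (nat_lit 5) (Steps.bwd (nat_lit 10) (Steps.bwd (nat_lit 8) (Steps.fwd (nat_lit 16384) (Steps.fwd (nat_lit 28672) (Steps.bwd (nat_lit 3) Steps.nil)))))))) (nat_lit 45) (nat_lit 1),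
  Rule.mk (nat_lit 7) (nat_lit 148) (Steps.fwd (nat_lit 40960) (Steps.bwd (nat_lit 8) (Steps.fwd (nat_lit 8192) (Steps.fwd (nat_lit 8192) (Steps.bwd (nat_lit 1) (Steps.fwd (nat_lit 12288) (Steps.fwd (nat_lit 24576) (Steps.fwd (nat_lit 16384) (Steps.fwd (nat_lit 4096) Steps.nil))))))))) (nat_lit 46) (nat_lit 9),
  Rule.mk (nat_lit 4) (nat_lit 88) (Steps.fwd (nat_lit 36864) (Steps.fwd (nat_lit 20480) (Steps.bwd (nat_lit 1) (Steps.bwd (nat_lit 7) (Steps.bwd (nat_lit 1) Steps.nil))))) (nat_lit 22) (nat_lit 3),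
  Rule.mk (nat_lit 8) (nat_lit 118) (Steps.fwd (nat_lit 4096) (Steps.fwd (nat_lit 4096) (Steps.bwd (nat_lit 7) (Steps.bwd (nat_lit 2) (Steps.fwd (nat_lit 24576) (Steps.bwd (nat_lit 1) (Steps.fwd (nat_lit 36864) Steps.nil))))))) (nat_lit 42) (nat_lit 4),
  Rule.mk (nat_lit 4) (nat_lit 103) (Steps.fwd (nat_lit 4096) (Steps.fwd (nat_lit 4096) (Steps.fwd (nat_lit 4096) (Steps.bwd (nat_lit 4) (Steps.bwd (nat_lit 7) (Steps.bwd (nat_lit 1) Steps.nil)))))) (nat_lit 28) (nat_lit 1),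
  Rule.mk (nat_lit 6) (nat_lit 118) (Steps.fwd (nat_lit 49152) (Steps.fwd (nat_lit 57344) (Steps.fwd (nat_lit 36864) (Steps.bwd (nat_lit 8) (Steps.fwd (nat_lit 8192) (Steps.bwd (nat_lit 1) (Steps.bwd (nat_lit 4) Steps.nil))))))) (nat_lit 32) (nat_lit 4),
  Rule.mk (nat_lit 10) (nat_lit 88) (Steps.fwd (nat_lit 32768) (Steps.bwd (nat_lit 9) (Steps.bwd (nat_lit 1) (Steps.bwd (nat_lit 4) (Steps.fwd (nat_lit 4096) Steps.nil))))) (nat_lit 21) (nat_lit 1),
  Rule.mk (nat_lit 0) (nat_lit 88) (Steps.bwd (nat_lit 10) (Steps.bwd (nat_lit 11) (Steps.bwd (nat_lit 5) (Steps.bwd (nat_lit 11) (Steps.fwd (nat_lit 24576) Steps.nil))))) (nat_lit 18) (nat_lit 4),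
  Rule.mk (nat_lit 0) (nat_lit 148) (Steps.fwd (nat_lit 49152) (Steps.fwd (nat_lit 53248) (Steps.bwd (nat_lit 12) (Steps.fwd (nat_lit 24576) (Steps.fwd (nat_lit 36864) (Steps.fwd (nat_lit 28672) (Steps.bwd (nat_lit 3) (Steps.bwd (nat_lit 8) (Steps.bwd (nat_lit 3) Steps.nil))))))))) (nat_lit 45) (nat_lit 0),
  Rule.mk (nat_lit 14) (nat_lit 103) (Steps.bwd (nat_lit 6) (Steps.fwd (nat_lit 28672) (Steps.bwd (nat_lit 10) (Steps.fwd (nat_lit 12288) (Steps.bwd (nat_lit 1) (Steps.bwd (nat_lit 12) Steps.nil)))))) (nat_lit 31) (nat_lit 1),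
  Rule.mk (nat_lit 8) (nat_lit 118) (Steps.fwd (nat_lit 53248) (Steps.bwd (nat_lit 12) (Steps.bwd (nat_lit 10) (Steps.bwd (nat_lit 8) (Steps.bwd (nat_lit 14) (Steps.bwd (nat_lit 12) (Steps.fwd (nat_lit 36864) Steps.nil))))))) (nat_lit 40) (nat_lit 1),
  Rule.mk (nat_lit 0) (nat_lit 103) (Steps.fwd (nat_lit 36864) (Steps.fwd (nat_lit 32768) (Steps.bwd (nat_lit 9) (Steps.fwd (nat_lit 8192) (Steps.fwd (nat_lit 12288) (Steps.bwd (nat_lit 2) Steps.nil)))))) (nat_lit 21) (nat_lit 0),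
  Rule.mk (nat_lit 0) (nat_lit 73) (Steps.bwd (nat_lit 4) (Steps.fwd (nat_lit 53248) (Steps.bwd (nat_lit 3) (Steps.bwd (nat_lit 5) Steps.nil)))) (nat_lit 12) (nat_lit 2),
  Rule.mk (nat_lit 2) (nat_lit 103) (Steps.bwd (nat_lit 3) (Steps.bwd (nat_lit 9) (Steps.fwd (nat_lit 32768) (Steps.fwd (nat_lit 24576) (Steps.bwd (nat_lit 13) (Steps.bwd (nat_lit 11) Steps.nil)))))) (nat_lit 30) (nat_lit 2),
  Rule.mk (nat_lit 8) (nat_lit 148) (Steps.bwd (nat_lit 1) (Steps.bwd (nat_lit 1) (Steps.bwd (nat_lit 1) (Steps.bwd (nat_lit 4) (Steps.bwd (nat_lit 5) (Steps.bwd (nat_lit 3) (Steps.bwd (nat_lit 2) (Steps.bwd (nat_lit 7) (Steps.fwd (nat_lit 40960) Steps.nil))))))))) (nat_lit 46) (nat_lit 1),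
  Rule.mk (nat_lit 11) (nat_lit 73) (Steps.fwd (nat_lit 20480) (Steps.bwd (nat_lit 14) (Steps.bwd (nat_lit 4) (Steps.bwd (nat_lit 8) Steps.nil)))) (nat_lit 16) (nat_lit 3),
  Rule.mk (nat_lit 9) (nat_lit 118) (Steps.bwd (nat_lit 14) (Steps.bwd (nat_lit 10) (Steps.bwd (nat_lit 8) (Steps.bwd (nat_lit 9) (Steps.fwd (nat_lit 53248) (Steps.fwd (nat_lit 36864) (Steps.bwd (nat_lit 8) Steps.nil))))))) (nat_lit 39) (nat_lit 3),
  Rule.mk (nat_lit 2) (nat_lit 88) (Steps.bwd (nat_lit 10) (Steps.fwd (nat_lit 32768) (Steps.bwd (nat_lit 9) (Steps.bwd (nat_lit 1) (Steps.bwd (nat_lit 4) Steps.nil))))) (nat_lit 21) (nat_lit 0),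
  Rule.mk (nat_lit 5) (nat_lit 88) (Steps.bwd (nat_lit 9) (Steps.bwd (nat_lit 3) (Steps.fwd (nat_lit 4096) (Steps.bwd (nat_lit 8) (Steps.bwd (nat_lit 2) Steps.nil))))) (nat_lit 23) (nat_lit 2),
  Rule.mk (nat_lit 0) (nat_lit 88) (Steps.bwd (nat_lit 5) (Steps.bwd (nat_lit 11) (Steps.bwd (nat_lit 5) (Steps.bwd (nat_lit 10) (Steps.fwd (nat_lit 49152) Steps.nil))))) (nat_lit 18) (nat_lit 1),
  Rule.mk (nat_lit 3) (nat_lit 118) (Steps.bwd (nat_lit 6) (Steps.fwd (nat_lit 49152) (Steps.fwd (nat_lit 24576) (Steps.bwd (nat_lit 3) (Steps.bwd (nat_lit 6) (Steps.fwd (nat_lit 49152) (Steps.fwd (nat_lit 24576) Steps.nil))))))) (nat_lit 34) (nat_lit 1),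
  Rule.mk (nat_lit 0) (nat_lit 133) (Steps.bwd (nat_lit 2) (Steps.bwd (nat_lit 7) (Steps.fwd (nat_lit 40960) (Steps.fwd (nat_lit 53248) (Steps.bwd (nat_lit 12) (Steps.fwd (nat_lit 24576) (Steps.bwd (nat_lit 3) (Steps.fwd (nat_lit 4096) Steps.nil)))))))) (nat_lit 33) (nat_lit 7),
  Rule.mk (nat_lit 4) (nat_lit 88) (Steps.bwd (nat_lit 2) (Steps.bwd (nat_lit 10) (Steps.fwd (nat_lit 32768) (Steps.fwd (nat_lit 40960) (Steps.fwd (nat_lit 8192) Steps.nil))))) (nat_lit 21) (nat_lit 5),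
  Rule.mk (nat_lit 5) (nat_lit 88) (Steps.bwd (nat_lit 10) (Steps.bwd (nat_lit 6) (Steps.fwd (nat_lit 53248) (Steps.bwd (nat_lit 11) (Steps.fwd (nat_lit 57344) Steps.nil))))) (nat_lit 25) (nat_lit 5),
  Rule.mk (nat_lit 9) (nat_lit 88) (Steps.fwd (nat_lit 20480) (Steps.fwd (nat_lit 53248) (Steps.bwd (nat_lit 12) (Steps.fwd (nat_lit 57344) (Steps.bwd (nat_lit 5) Steps.nil))))) (nat_lit 24) (nat_lit 1),
  Rule.mk (nat_lit 13) (nat_lit 103) (Steps.bwd (nat_lit 11) (Steps.bwd (nat_lit 2) (Steps.fwd (nat_lit 16384) (Steps.bwd (nat_lit 9) (Steps.fwd (nat_lit 32768) (Steps.fwd (nat_lit 24576) Steps.nil)))))) (nat_lit 30) (nat_lit 0),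
  Rule.mk (nat_lit 0) (nat_lit 133) (Steps.bwd (nat_lit 9) (Steps.fwd (nat_lit 53248) (Steps.fwd (nat_lit 45056) (Steps.bwd (nat_lit 5) (Steps.bwd (nat_lit 3) (Steps.bwd (nat_lit 2) (Steps.fwd (nat_lit 4096) (Steps.fwd (nat_lit 32768) Steps.nil)))))))) (nat_lit 33) (nat_lit 1),
  Rule.mk (nat_lit 6) (nat_lit 73) (Steps.bwd (nat_lit 12) (Steps.fwd (nat_lit 40960) (Steps.bwd (nat_lit 6) (Steps.bwd (nat_lit 12) Steps.nil)))) (nat_lit 19) (nat_lit 4),
  Rule.mk (nat_lit 0) (nat_lit 118) (Steps.bwd (nat_lit 14) (Steps.bwd (nat_lit 6) (Steps.bwd (nat_lit 8) (Steps.fwd (nat_lit 36864) (Steps.fwd (nat_lit 12288) (Steps.bwd (nat_lit 1) (Steps.fwd (nat_lit 45056) Steps.nil))))))) (nat_lit 31) (nat_lit 0),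
  Rule.mk (nat_lit 4) (nat_lit 118) (Steps.bwd (nat_lit 6) (Steps.bwd (nat_lit 12) (Steps.bwd (nat_lit 5) (Steps.fwd (nat_lit 12288) (Steps.bwd (nat_lit 6) (Steps.fwd (nat_lit 45056) (Steps.fwd (nat_lit 24576) Steps.nil))))))) (nat_lit 35) (nat_lit 0),
  Rule.mk (nat_lit 9) (nat_lit 88) (Steps.bwd (nat_lit 1) (Steps.bwd (nat_lit 4) (Steps.bwd (nat_lit 2) (Steps.bwd (nat_lit 10) (Steps.bwd (nat_lit 7) Steps.nil))))) (nat_lit 21) (nat_lit 3),
  Rule.mk (nat_lit 6) (nat_lit 73) (Steps.fwd (nat_lit 45056) (Steps.fwd (nat_lit 20480) (Steps.fwd (nat_lit 45056) (Steps.bwd (nat_lit 9) Steps.nil)))) (nat_lit 19) (nat_lit 2),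
  Rule.mk (nat_lit 3) (nat_lit 88) (Steps.bwd (nat_lit 2) (Steps.fwd (nat_lit 28672) (Steps.fwd (nat_lit 4096) (Steps.fwd (nat_lit 24576) (Steps.bwd (nat_lit 9) Steps.nil))))) (nat_lit 23) (nat_lit 4),
  Rule.mk (nat_lit 3) (nat_lit 103) (Steps.bwd (nat_lit 1) (Steps.bwd (nat_lit 1) (Steps.bwd (nat_lit 1) (Steps.bwd (nat_lit 3) (Steps.bwd (nat_lit 2) (Steps.fwd (nat_lit 28672) Steps.nil)))))) (nat_lit 29) (nat_lit 3),
  Rule.mk (nat_lit 0) (nat_lit 163) (Steps.bwd (nat_lit 1) (Steps.fwd (nat_lit 12288) (Steps.fwd (nat_lit 20480) (Steps.fwd (nat_lit 16384) (Steps.bwd (nat_lit 2) (Steps.fwd (nat_lit 4096) (Steps.fwd (nat_lit 4096) (Steps.bwd (nat_lit 7) (Steps.fwd (nat_lit 36864) (Steps.bwd (nat_lit 8) Steps.nil)))))))))) (nat_lit 47) (nat_lit 2),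
  Rule.mk (nat_lit 0) (nat_lit 163) (Steps.bwd (nat_lit 1) (Steps.bwd (nat_lit 1) (Steps.fwd (nat_lit 8192) (Steps.fwd (nat_lit 12288) (Steps.fwd (nat_lit 24576) (Steps.bwd (nat_lit 3) (Steps.bwd (nat_lit 2) (Steps.bwd (nat_lit 7) (Steps.fwd (nat_lit 40960) (Steps.fwd (nat_lit 28672) Steps.nil)))))))))) (nat_lit 46) (nat_lit 1),
  Rule.mk (nat_lit 7) (nat_lit 103) (Steps.fwd (nat_lit 8192) (Steps.fwd (nat_lit 12288) (Steps.bwd (nat_lit 2) (Steps.fwd (nat_lit 4096) (Steps.bwd (nat_lit 2) (Steps.bwd (nat_lit 4) Steps.nil)))))) (nat_lit 28) (nat_lit 6),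
  Rule.mk (nat_lit 4) (nat_lit 133) (Steps.bwd (nat_lit 7) (Steps.bwd (nat_lit 9) (Steps.fwd (nat_lit 20480) (Steps.bwd (nat_lit 11) (Steps.fwd (nat_lit 57344) (Steps.bwd (nat_lit 12) (Steps.fwd (nat_lit 12288) (Steps.bwd (nat_lit 7) Steps.nil)))))))) (nat_lit 44) (nat_lit 3),
  Rule.mk (nat_lit 0) (nat_lit 118) (Steps.fwd (nat_lit 32768) (Steps.fwd (nat_lit 24576) (Steps.bwd (nat_lit 13) (Steps.bwd (nat_lit 11) (Steps.bwd (nat_lit 2) (Steps.fwd (nat_lit 16384) (Steps.fwd (nat_lit 40960) Steps.nil))))))) (nat_lit 30) (nat_lit 4),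
  Rule.mk (nat_lit 1) (nat_lit 103) (Steps.bwd (nat_lit 1) (Steps.bwd (nat_lit 3) (Steps.fwd (nat_lit 4096) (Steps.fwd (nat_lit 28672) (Steps.bwd (nat_lit 3) (Steps.fwd (nat_lit 8192) Steps.nil)))))) (nat_lit 29) (nat_lit 5),
  Rule.mk (nat_lit 4) (nat_lit 118) (Steps.fwd (nat_lit 20480) (Steps.bwd (nat_lit 11) (Steps.bwd (nat_lit 13) (Steps.fwd (nat_lit 36864) (Steps.fwd (nat_lit 28672) (Steps.bwd (nat_lit 1) (Steps.bwd (nat_lit 1) Steps.nil))))))) (nat_lit 32) (nat_lit 3),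
  Rule.mk (nat_lit 0) (nat_lit 58) (Steps.bwd (nat_lit 4) (Steps.fwd (nat_lit 12288) (Steps.bwd (nat_lit 4) Steps.nil))) (nat_lit 1) (nat_lit 0),
  Rule.mk (nat_lit 0) (nat_lit 133) (Steps.bwd (nat_lit 5) (Steps.bwd (nat_lit 4) (Steps.fwd (nat_lit 20480) (Steps.fwd (nat_lit 45056) (Steps.fwd (nat_lit 24576) (Steps.fwd (nat_lit 12288) (Steps.bwd (nat_lit 6) (Steps.bwd (nat_lit 12) Steps.nil)))))))) (nat_lit 35) (nat_lit 2),
  Rule.mk (nat_lit 1) (nat_lit 118) (Steps.bwd (nat_lit 1) (Steps.fwd (nat_lit 12288) (Steps.bwd (nat_lit 6) (Steps.fwd (nat_lit 49152) (Steps.bwd (nat_lit 13) (Steps.bwd (nat_lit 10) (Steps.bwd (nat_lit 8) Steps.nil))))))) (nat_lit 32) (nat_lit 1),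
  Rule.mk (nat_lit 0) (nat_lit 103) (Steps.bwd (nat_lit 8) (Steps.bwd (nat_lit 2) (Steps.fwd (nat_lit 24576) (Steps.bwd (nat_lit 9) (Steps.fwd (nat_lit 16384) (Steps.fwd (nat_lit 4096) Steps.nil)))))) (nat_lit 23) (nat_lit 5),
  Rule.mk (nat_lit 1) (nat_lit 88) (Steps.fwd (nat_lit 16384) (Steps.fwd (nat_lit 4096) (Steps.bwd (nat_lit 10) (Steps.fwd (nat_lit 28672) (Steps.fwd (nat_lit 40960) Steps.nil))))) (nat_lit 20) (nat_lit 1),
  Rule.mk (nat_lit 0) (nat_lit 133) (Steps.bwd (nat_lit 10) (Steps.fwd (nat_lit 28672) (Steps.bwd (nat_lit 1) (Steps.bwd (nat_lit 1) (Steps.bwd (nat_lit 4) (Steps.fwd (nat_lit 20480) (Steps.bwd (nat_lit 11) (Steps.fwd (nat_lit 57344) Steps.nil)))))))) (nat_lit 32) (nat_lit 6),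
  Rule.mk (nat_lit 8) (nat_lit 118) (Steps.bwd (nat_lit 1) (Steps.bwd (nat_lit 1) (Steps.fwd (nat_lit 32768) (Steps.bwd (nat_lit 9) (Steps.fwd (nat_lit 4096) (Steps.bwd (nat_lit 6) (Steps.fwd (nat_lit 8192) Steps.nil))))))) (nat_lit 43) (nat_lit 2),
  Rule.mk (nat_lit 3) (nat_lit 88) (Steps.fwd (nat_lit 4096) (Steps.bwd (nat_lit 10) (Steps.fwd (nat_lit 28672) (Steps.bwd (nat_lit 9) (Steps.bwd (nat_lit 1) Steps.nil))))) (nat_lit 20) (nat_lit 2),
  Rule.mk (nat_lit 4) (nat_lit 88) (Steps.bwd (nat_lit 10) (Steps.fwd (nat_lit 20480) (Steps.fwd (nat_lit 8192) (Steps.fwd (nat_lit 32768) (Steps.fwd (nat_lit 8192) Steps.nil))))) (nat_lit 22) (nat_lit 3),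
  Rule.mk (nat_lit 5) (nat_lit 118) (Steps.bwd (nat_lit 1) (Steps.bwd (nat_lit 10) (Steps.fwd (nat_lit 28672) (Steps.bwd (nat_lit 2) (Steps.fwd (nat_lit 4096) (Steps.bwd (nat_lit 7) (Steps.fwd (nat_lit 4096) Steps.nil))))))) (nat_lit 42) (nat_lit 1),
  Rule.mk (nat_lit 5) (nat_lit 103) (Steps.bwd (nat_lit 13) (Steps.bwd (nat_lit 11) (Steps.bwd (nat_lit 2) (Steps.fwd (nat_lit 16384) (Steps.fwd (nat_lit 40960) (Steps.fwd (nat_lit 32768) Steps.nil)))))) (nat_lit 30) (nat_lit 6),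
  Rule.mk (nat_lit 6) (nat_lit 118) (Steps.bwd (nat_lit 12) (Steps.bwd (nat_lit 5) (Steps.bwd (nat_lit 4) (Steps.bwd (nat_lit 6) (Steps.fwd (nat_lit 45056) (Steps.bwd (nat_lit 5) (Steps.fwd (nat_lit 12288) Steps.nil))))))) (nat_lit 35) (nat_lit 1)]
noncomputable def R_34 : List (Rule) := [Rule.mk (nat_lit 12) (nat_lit 73) (Steps.fwd (nat_lit 40960) (Steps.bwd (nat_lit 6) (Steps.bwd (nat_lit 12) (Steps.fwd (nat_lit 20480) Steps.nil)))) (nat_lit 19) (nat_lit 0),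
  Rule.mk (nat_lit 1) (nat_lit 118) (Steps.bwd (nat_lit 8) (Steps.fwd (nat_lit 8192) (Steps.bwd (nat_lit 1) (Steps.fwd (nat_lit 32768) (Steps.bwd (nat_lit 9) (Steps.bwd (nat_lit 2) (Steps.bwd (nat_lit 6) Steps.nil))))))) (nat_lit 43) (nat_lit 1),
  Rule.mk (nat_lit 13) (nat_lit 148) (Steps.bwd (nat_lit 3) (Steps.bwd (nat_lit 2) (Steps.fwd (nat_lit 4096) (Steps.fwd (nat_lit 12288) (Steps.bwd (nat_lit 6) (Steps.bwd (nat_lit 14) (Steps.fwd (nat_lit 45056) (Steps.bwd (nat_lit 5) (Steps.bwd (nat_lit 11) Steps.nil))))))))) (nat_lit 52) (nat_lit 0),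
  Rule.mk (nat_lit 0) (nat_lit 73) (Steps.bwd (nat_lit 6) (Steps.fwd (nat_lit 12288) (Steps.bwd (nat_lit 13) (Steps.bwd (nat_lit 3) Steps.nil)))) (nat_lit 13) (nat_lit 2),
  Rule.mk (nat_lit 12) (nat_lit 103) (Steps.fwd (nat_lit 53248) (Steps.fwd (nat_lit 20480) (Steps.bwd (nat_lit 8) (Steps.fwd (nat_lit 36864) (Steps.bwd (nat_lit 4) (Steps.bwd (nat_lit 1) Steps.nil)))))) (nat_lit 31) (nat_lit 0),
  Rule.mk (nat_lit 0) (nat_lit 163) (Steps.fwd (nat_lit 49152) (Steps.bwd (nat_lit 13) (Steps.fwd (nat_lit 16384) (Steps.bwd (nat_lit 2) (Steps.fwd (nat_lit 4096) (Steps.bwd (nat_lit 4) (Steps.fwd (nat_lit 20480) (Steps.bwd (nat_lit 14) (Steps.fwd (nat_lit 45056) (Steps.fwd (nat_lit 24576) Steps.nil)))))))))) (nat_lit 52) (nat_lit 8),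
  Rule.mk (nat_lit 11) (nat_lit 88) (Steps.fwd (nat_lit 57344) (Steps.bwd (nat_lit 5) (Steps.bwd (nat_lit 10) (Steps.bwd (nat_lit 6) (Steps.bwd (nat_lit 14) Steps.nil))))) (nat_lit 25) (nat_lit 3),
  Rule.mk (nat_lit 12) (nat_lit 88) (Steps.bwd (nat_lit 13) (Steps.fwd (nat_lit 45056) (Steps.bwd (nat_lit 9) (Steps.bwd (nat_lit 11) (Steps.bwd (nat_lit 14) Steps.nil))))) (nat_lit 26) (nat_lit 0),
  Rule.mk (nat_lit 13) (nat_lit 148) (Steps.bwd (nat_lit 12) (Steps.bwd (nat_lit 13) (Steps.fwd (nat_lit 45056) (Steps.fwd (nat_lit 57344) (Steps.bwd (nat_lit 12) (Steps.bwd (nat_lit 13) (Steps.fwd (nat_lit 45056) (Steps.fwd (nat_lit 57344) (Steps.fwd (nat_lit 45056) Steps.nil))))))))) (nat_lit 50) (nat_lit 0),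
  Rule.mk (nat_lit 11) (nat_lit 148) (Steps.bwd (nat_lit 13) (Steps.fwd (nat_lit 16384) (Steps.bwd (nat_lit 2) (Steps.bwd (nat_lit 2) (Steps.bwd (nat_lit 4) (Steps.fwd (nat_lit 20480) (Steps.fwd (nat_lit 53248) (Steps.fwd (nat_lit 45056) (Steps.fwd (nat_lit 24576) Steps.nil))))))))) (nat_lit 52) (nat_lit 9),
  Rule.mk (nat_lit 8) (nat_lit 103) (Steps.bwd (nat_lit 10) (Steps.bwd (nat_lit 4) (Steps.fwd (nat_lit 8192) (Steps.bwd (nat_lit 12) (Steps.fwd (nat_lit 53248) (Steps.bwd (nat_lit 6) Steps.nil)))))) (nat_lit 31) (nat_lit 3),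
  Rule.mk (nat_lit 3) (nat_lit 118) (Steps.fwd (nat_lit 4096) (Steps.bwd (nat_lit 2) (Steps.fwd (nat_lit 32768) (Steps.fwd (nat_lit 40960) (Steps.bwd (nat_lit 14) (Steps.bwd (nat_lit 12) (Steps.bwd (nat_lit 5) Steps.nil))))))) (nat_lit 33) (nat_lit 6),
  Rule.mk (nat_lit 3) (nat_lit 148) (Steps.bwd (nat_lit 1) (Steps.bwd (nat_lit 1) (Steps.fwd (nat_lit 12288) (Steps.bwd (nat_lit 14) (Steps.bwd (nat_lit 12) (Steps.fwd (nat_lit 20480) (Steps.bwd (nat_lit 11) (Steps.bwd (nat_lit 13) (Steps.fwd (nat_lit 24576) Steps.nil))))))))) (nat_lit 53) (nat_lit 7),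
  Rule.mk (nat_lit 6) (nat_lit 58) (Steps.fwd (nat_lit 12288) (Steps.bwd (nat_lit 13) (Steps.bwd (nat_lit 3) Steps.nil))) (nat_lit 13) (nat_lit 3),
  Rule.mk (nat_lit 7) (nat_lit 118) (Steps.bwd (nat_lit 9) (Steps.fwd (nat_lit 53248) (Steps.bwd (nat_lit 12) (Steps.fwd (nat_lit 24576) (Steps.bwd (nat_lit 3) (Steps.fwd (nat_lit 4096) (Steps.fwd (nat_lit 4096) Steps.nil))))))) (nat_lit 33) (nat_lit 1),
  Rule.mk (nat_lit 0) (nat_lit 163) (Steps.fwd (nat_lit 12288) (Steps.fwd (nat_lit 20480) (Steps.bwd (nat_lit 3) (Steps.bwd (nat_lit 2) (Steps.fwd (nat_lit 4096) (Steps.bwd (nat_lit 2) (Steps.bwd (nat_lit 7) (Steps.fwd (nat_lit 36864) (Steps.fwd (nat_lit 28672) (Steps.bwd (nat_lit 1) Steps.nil)))))))))) (nat_lit 47) (nat_lit 3),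
  Rule.mk (nat_lit 7) (nat_lit 88) (Steps.bwd (nat_lit 1) (Steps.bwd (nat_lit 4) (Steps.fwd (nat_lit 36864) (Steps.bwd (nat_lit 6) (Steps.bwd (nat_lit 1) Steps.nil))))) (nat_lit 22) (nat_lit 1),
  Rule.mk (nat_lit 2) (nat_lit 73) (Steps.fwd (nat_lit 20480) (Steps.bwd (nat_lit 4) (Steps.bwd (nat_lit 7) (Steps.fwd (nat_lit 4096) Steps.nil)))) (nat_lit 14) (nat_lit 4),
  Rule.mk (nat_lit 10) (nat_lit 118) (Steps.fwd (nat_lit 28672) (Steps.fwd (nat_lit 4096) (Steps.fwd (nat_lit 4096) (Steps.bwd (nat_lit 7) (Steps.fwd (nat_lit 4096) (Steps.bwd (nat_lit 5) (Steps.bwd (nat_lit 1) Steps.nil))))))) (nat_lit 42) (nat_lit 3),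
  Rule.mk (nat_lit 9) (nat_lit 88) (Steps.bwd (nat_lit 1) (Steps.fwd (nat_lit 12288) (Steps.fwd (nat_lit 4096) (Steps.bwd (nat_lit 10) (Steps.bwd (nat_lit 7) Steps.nil))))) (nat_lit 21) (nat_lit 3),
  Rule.mk (nat_lit 0) (nat_lit 103) (Steps.fwd (nat_lit 32768) (Steps.fwd (nat_lit 8192) (Steps.fwd (nat_lit 12288) (Steps.fwd (nat_lit 36864) (Steps.fwd (nat_lit 20480) (Steps.fwd (nat_lit 8192) Steps.nil)))))) (nat_lit 22) (nat_lit 0),
  Rule.mk (nat_lit 14) (nat_lit 118) (Steps.bwd (nat_lit 12) (Steps.fwd (nat_lit 24576) (Steps.bwd (nat_lit 3) (Steps.bwd (nat_lit 2) (Steps.bwd (nat_lit 2) (Steps.bwd (nat_lit 7) (Steps.bwd (nat_lit 9) Steps.nil))))))) (nat_lit 33) (nat_lit 3),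
  Rule.mk (nat_lit 0) (nat_lit 133) (Steps.bwd (nat_lit 8) (Steps.fwd (nat_lit 8192) (Steps.fwd (nat_lit 8192) (Steps.bwd (nat_lit 7) (Steps.bwd (nat_lit 9) (Steps.fwd (nat_lit 4096) (Steps.bwd (nat_lit 6) (Steps.bwd (nat_lit 1) Steps.nil)))))))) (nat_lit 43) (nat_lit 1),
  Rule.mk (nat_lit 2) (nat_lit 118) (Steps.bwd (nat_lit 6) (Steps.bwd (nat_lit 1) (Steps.bwd (nat_lit 8) (Steps.bwd (nat_lit 1) (Steps.bwd (nat_lit 1) (Steps.fwd (nat_lit 32768) (Steps.bwd (nat_lit 9) Steps.nil))))))) (nat_lit 43) (nat_lit 7),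
  Rule.mk (nat_lit 4) (nat_lit 148) (Steps.bwd (nat_lit 5) (Steps.bwd (nat_lit 3) (Steps.fwd (nat_lit 4096) (Steps.fwd (nat_lit 32768) (Steps.fwd (nat_lit 40960) (Steps.bwd (nat_lit 8) (Steps.bwd (nat_lit 1) (Steps.bwd (nat_lit 1) (Steps.bwd (nat_lit 1) Steps.nil))))))))) (nat_lit 46) (nat_lit 5),
  Rule.mk (nat_lit 6) (nat_lit 148) (Steps.fwd (nat_lit 16384) (Steps.bwd (nat_lit 2) (Steps.bwd (nat_lit 2) (Steps.bwd (nat_lit 2) (Steps.fwd (nat_lit 32768) (Steps.fwd (nat_lit 36864) (Steps.bwd (nat_lit 8) (Steps.bwd (nat_lit 1) (Steps.bwd (nat_lit 4) Steps.nil))))))))) (nat_lit 47) (nat_lit 5),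
  Rule.mk (nat_lit 8) (nat_lit 103) (Steps.fwd (nat_lit 36864) (Steps.bwd (nat_lit 4) (Steps.fwd (nat_lit 8192) (Steps.fwd (nat_lit 45056) (Steps.fwd (nat_lit 53248) (Steps.bwd (nat_lit 6) Steps.nil)))))) (nat_lit 31) (nat_lit 3),
  Rule.mk (nat_lit 0) (nat_lit 133) (Steps.bwd (nat_lit 2) (Steps.bwd (nat_lit 5) (Steps.bwd (nat_lit 1) (Steps.fwd (nat_lit 36864) (Steps.fwd (nat_lit 28672) (Steps.fwd (nat_lit 4096) (Steps.bwd (nat_lit 2) (Steps.fwd (nat_lit 32768) Steps.nil)))))))) (nat_lit 42) (nat_lit 7),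
  Rule.mk (nat_lit 8) (nat_lit 118) (Steps.fwd (nat_lit 4096) (Steps.fwd (nat_lit 4096) (Steps.bwd (nat_lit 7) (Steps.bwd (nat_lit 2) (Steps.bwd (nat_lit 5) (Steps.fwd (nat_lit 8192) (Steps.bwd (nat_lit 10) Steps.nil))))))) (nat_lit 42) (nat_lit 4),
  Rule.mk (nat_lit 2) (nat_lit 148) (Steps.fwd (nat_lit 32768) (Steps.fwd (nat_lit 40960) (Steps.bwd (nat_lit 8) (Steps.bwd (nat_lit 1) (Steps.bwd (nat_lit 1) (Steps.bwd (nat_lit 1) (Steps.bwd (nat_lit 4) (Steps.fwd (nat_lit 24576) (Steps.bwd (nat_lit 3) Steps.nil))))))))) (nat_lit 46) (nat_lit 8),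
  Rule.mk (nat_lit 0) (nat_lit 103) (Steps.fwd (nat_lit 4096) (Steps.fwd (nat_lit 24576) (Steps.bwd (nat_lit 9) (Steps.bwd (nat_lit 3) (Steps.bwd (nat_lit 2) (Steps.bwd (nat_lit 8) Steps.nil)))))) (nat_lit 23) (nat_lit 0),
  Rule.mk (nat_lit 5) (nat_lit 118) (Steps.bwd (nat_lit 1) (Steps.fwd (nat_lit 36864) (Steps.fwd (nat_lit 28672) (Steps.bwd (nat_lit 2) (Steps.bwd (nat_lit 2) (Steps.fwd (nat_lit 32768) (Steps.fwd (nat_lit 4096) Steps.nil))))))) (nat_lit 42) (nat_lit 1),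
  Rule.mk (nat_lit 0) (nat_lit 103) (Steps.fwd (nat_lit 40960) (Steps.fwd (nat_lit 16384) (Steps.bwd (nat_lit 2) (Steps.bwd (nat_lit 8) (Steps.fwd (nat_lit 4096) (Steps.bwd (nat_lit 5) Steps.nil)))))) (nat_lit 23) (nat_lit 2),
  Rule.mk (nat_lit 4) (nat_lit 88) (Steps.bwd (nat_lit 10) (Steps.fwd (nat_lit 20480) (Steps.bwd (nat_lit 1) (Steps.fwd (nat_lit 32768) (Steps.fwd (nat_lit 8192) Steps.nil))))) (nat_lit 22) (nat_lit 3),
  Rule.mk (nat_lit 1) (nat_lit 103) (Steps.bwd (nat_lit 12) (Steps.bwd (nat_lit 14) (Steps.fwd (nat_lit 20480) (Steps.bwd (nat_lit 8) (Steps.fwd (nat_lit 36864) (Steps.bwd (nat_lit 4) Steps.nil)))))) (nat_lit 31) (nat_lit 6),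
  Rule.mk (nat_lit 5) (nat_lit 148) (Steps.fwd (nat_lit 16384) (Steps.bwd (nat_lit 2) (Steps.fwd (nat_lit 32768) (Steps.fwd (nat_lit 40960) (Steps.fwd (nat_lit 28672) (Steps.bwd (nat_lit 1) (Steps.bwd (nat_lit 1) (Steps.fwd (nat_lit 8192) (Steps.bwd (nat_lit 4) Steps.nil))))))))) (nat_lit 46) (nat_lit 6),
  Rule.mk (nat_lit 8) (nat_lit 73) (Steps.bwd (nat_lit 3) (Steps.bwd (nat_lit 5) (Steps.fwd (nat_lit 8192) (Steps.bwd (nat_lit 1) Steps.nil)))) (nat_lit 15) (nat_lit 4),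
  Rule.mk (nat_lit 11) (nat_lit 88) (Steps.fwd (nat_lit 53248) (Steps.fwd (nat_lit 45056) (Steps.bwd (nat_lit 13) (Steps.bwd (nat_lit 12) (Steps.bwd (nat_lit 9) Steps.nil))))) (nat_lit 26) (nat_lit 4),
  Rule.mk (nat_lit 14) (nat_lit 73) (Steps.fwd (nat_lit 12288) (Steps.fwd (nat_lit 28672) (Steps.bwd (nat_lit 11) (Steps.fwd (nat_lit 20480) Steps.nil)))) (nat_lit 16) (nat_lit 0),
  Rule.mk (nat_lit 12) (nat_lit 118) (Steps.fwd (nat_lit 36864) (Steps.fwd (nat_lit 28672) (Steps.bwd (nat_lit 14) (Steps.bwd (nat_lit 12) (Steps.fwd (nat_lit 36864) (Steps.bwd (nat_lit 8) (Steps.bwd (nat_lit 14) Steps.nil))))))) (nat_lit 40) (nat_lit 3),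
  Rule.mk (nat_lit 13) (nat_lit 118) (Steps.bwd (nat_lit 10) (Steps.fwd (nat_lit 32768) (Steps.bwd (nat_lit 9) (Steps.fwd (nat_lit 57344) (Steps.bwd (nat_lit 10) (Steps.fwd (nat_lit 32768) (Steps.bwd (nat_lit 9) Steps.nil))))))) (nat_lit 38) (nat_lit 1),
  Rule.mk (nat_lit 9) (nat_lit 88) (Steps.bwd (nat_lit 1) (Steps.bwd (nat_lit 4) (Steps.bwd (nat_lit 2) (Steps.fwd (nat_lit 36864) (Steps.bwd (nat_lit 7) Steps.nil))))) (nat_lit 21) (nat_lit 3),
  Rule.mk (nat_lit 0) (nat_lit 118) (Steps.bwd (nat_lit 2) (Steps.bwd (nat_lit 2) (Steps.bwd (nat_lit 2) (Steps.fwd (nat_lit 12288) (Steps.bwd (nat_lit 7) (Steps.bwd (nat_lit 1) (Steps.bwd (nat_lit 4) Steps.nil))))))) (nat_lit 28) (nat_lit 1),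
  Rule.mk (nat_lit 7) (nat_lit 103) (Steps.bwd (nat_lit 1) (Steps.bwd (nat_lit 4) (Steps.bwd (nat_lit 2) (Steps.bwd (nat_lit 2) (Steps.bwd (nat_lit 2) (Steps.bwd (nat_lit 4) Steps.nil)))))) (nat_lit 28) (nat_lit 6),
  Rule.mk (nat_lit 5) (nat_lit 103) (Steps.fwd (nat_lit 57344) (Steps.bwd (nat_lit 11) (Steps.bwd (nat_lit 2) (Steps.bwd (nat_lit 3) (Steps.fwd (nat_lit 40960) (Steps.fwd (nat_lit 32768) Steps.nil)))))) (nat_lit 30) (nat_lit 6),
  Rule.mk (nat_lit 0) (nat_lit 103) (Steps.bwd (nat_lit 5) (Steps.bwd (nat_lit 9) (Steps.bwd (nat_lit 3) (Steps.fwd (nat_lit 4096) (Steps.bwd (nat_lit 8) (Steps.fwd (nat_lit 4096) Steps.nil)))))) (nat_lit 23) (nat_lit 1),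
  Rule.mk (nat_lit 9) (nat_lit 88) (Steps.fwd (nat_lit 49152) (Steps.bwd (nat_lit 14) (Steps.bwd (nat_lit 12) (Steps.bwd (nat_lit 13) (Steps.bwd (nat_lit 12) Steps.nil))))) (nat_lit 26) (nat_lit 3),
  Rule.mk (nat_lit 3) (nat_lit 133) (Steps.fwd (nat_lit 49152) (Steps.bwd (nat_lit 14) (Steps.bwd (nat_lit 12) (Steps.fwd (nat_lit 24576) (Steps.fwd (nat_lit 36864) (Steps.bwd (nat_lit 8) (Steps.fwd (nat_lit 16384) (Steps.bwd (nat_lit 8) Steps.nil)))))))) (nat_lit 45) (nat_lit 0),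
  Rule.mk (nat_lit 0) (nat_lit 163) (Steps.bwd (nat_lit 12) (Steps.bwd (nat_lit 6) (Steps.fwd (nat_lit 49152) (Steps.fwd (nat_lit 57344) (Steps.fwd (nat_lit 24576) (Steps.bwd (nat_lit 3) (Steps.bwd (nat_lit 1) (Steps.bwd (nat_lit 1) (Steps.fwd (nat_lit 12288) (Steps.fwd (nat_lit 53248) Steps.nil)))))))))) (nat_lit 53) (nat_lit 1),
  Rule.mk (nat_lit 4) (nat_lit 133) (Steps.bwd (nat_lit 7) (Steps.fwd (nat_lit 12288) (Steps.fwd (nat_lit 32768) (Steps.fwd (nat_lit 40960) (Steps.fwd (nat_lit 20480) (Steps.fwd (nat_lit 49152) (Steps.fwd (nat_lit 57344) (Steps.bwd (nat_lit 12) Steps.nil)))))))) (nat_lit 44) (nat_lit 1),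
  Rule.mk (nat_lit 0) (nat_lit 73) (Steps.bwd (nat_lit 5) (Steps.bwd (nat_lit 4) (Steps.fwd (nat_lit 53248) (Steps.bwd (nat_lit 3) Steps.nil)))) (nat_lit 12) (nat_lit 1),
  Rule.mk (nat_lit 5) (nat_lit 73) (Steps.fwd (nat_lit 45056) (Steps.fwd (nat_lit 32768) (Steps.fwd (nat_lit 16384) (Steps.bwd (nat_lit 13) Steps.nil)))) (nat_lit 17) (nat_lit 2),
  Rule.mk (nat_lit 11) (nat_lit 103) (Steps.bwd (nat_lit 2) (Steps.bwd (nat_lit 3) (Steps.fwd (nat_lit 40960) (Steps.bwd (nat_lit 7) (Steps.bwd (nat_lit 5) (Steps.fwd (nat_lit 57344) Steps.nil)))))) (nat_lit 30) (nat_lit 1),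
  Rule.mk (nat_lit 13) (nat_lit 88) (Steps.bwd (nat_lit 5) (Steps.fwd (nat_lit 36864) (Steps.fwd (nat_lit 20480) (Steps.fwd (nat_lit 53248) (Steps.bwd (nat_lit 11) Steps.nil))))) (nat_lit 25) (nat_lit 4),
  Rule.mk (nat_lit 0) (nat_lit 103) (Steps.bwd (nat_lit 12) (Steps.fwd (nat_lit 36864) (Steps.bwd (nat_lit 11) (Steps.fwd (nat_lit 53248) (Steps.bwd (nat_lit 11) (Steps.bwd (nat_lit 13) Steps.nil)))))) (nat_lit 27) (nat_lit 2),
  Rule.mk (nat_lit 9) (nat_lit 118) (Steps.fwd (nat_lit 53248) (Steps.bwd (nat_lit 11) (Steps.bwd (nat_lit 13) (Steps.fwd (nat_lit 40960) (Steps.fwd (nat_lit 53248) (Steps.fwd (nat_lit 49152) (Steps.fwd (nat_lit 57344) Steps.nil))))))) (nat_lit 36) (nat_lit 1),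
  Rule.mk (nat_lit 9) (nat_lit 118) (Steps.bwd (nat_lit 11) (Steps.bwd (nat_lit 13) (Steps.fwd (nat_lit 32768) (Steps.fwd (nat_lit 40960) (Steps.fwd (nat_lit 49152) (Steps.bwd (nat_lit 13) (Steps.fwd (nat_lit 32768) Steps.nil))))))) (nat_lit 41) (nat_lit 1),
  Rule.mk (nat_lit 6) (nat_lit 148) (Steps.bwd (nat_lit 11) (Steps.bwd (nat_lit 13) (Steps.bwd (nat_lit 5) (Steps.fwd (nat_lit 16384) (Steps.bwd (nat_lit 1) (Steps.bwd (nat_lit 1) (Steps.bwd (nat_lit 4) (Steps.fwd (nat_lit 53248) (Steps.fwd (nat_lit 45056) Steps.nil))))))))) (nat_lit 53) (nat_lit 3),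
  Rule.mk (nat_lit 4) (nat_lit 73) (Steps.fwd (nat_lit 32768) (Steps.bwd (nat_lit 2) (Steps.bwd (nat_lit 2) (Steps.bwd (nat_lit 6) Steps.nil)))) (nat_lit 14) (nat_lit 1),
  Rule.mk (nat_lit 0) (nat_lit 88) (Steps.bwd (nat_lit 11) (Steps.bwd (nat_lit 6) (Steps.bwd (nat_lit 14) (Steps.bwd (nat_lit 4) (Steps.fwd (nat_lit 28672) Steps.nil))))) (nat_lit 16) (nat_lit 2),
  Rule.mk (nat_lit 0) (nat_lit 88) (Steps.bwd (nat_lit 11) (Steps.fwd (nat_lit 24576) (Steps.bwd (nat_lit 11) (Steps.fwd (nat_lit 24576) (Steps.fwd (nat_lit 36864) Steps.nil))))) (nat_lit 18) (nat_lit 0),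
  Rule.mk (nat_lit 0) (nat_lit 88) (Steps.bwd (nat_lit 9) (Steps.fwd (nat_lit 20480) (Steps.fwd (nat_lit 45056) (Steps.bwd (nat_lit 6) (Steps.fwd (nat_lit 45056) Steps.nil))))) (nat_lit 19) (nat_lit 0),
  Rule.mk (nat_lit 5) (nat_lit 88) (Steps.fwd (nat_lit 40960) (Steps.bwd (nat_lit 3) (Steps.bwd (nat_lit 2) (Steps.fwd (nat_lit 28672) (Steps.fwd (nat_lit 4096) Steps.nil))))) (nat_lit 23) (nat_lit 2),
  Rule.mk (nat_lit 0) (nat_lit 73) (Steps.fwd (nat_lit 16384) (Steps.fwd (nat_lit 20480) (Steps.bwd (nat_lit 4) (Steps.fwd (nat_lit 57344) Steps.nil)))) (nat_lit 13) (nat_lit 1)]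
noncomputable def R_35 : List (Rule) := [Rule.mk (nat_lit 14) (nat_lit 88) (Steps.bwd (nat_lit 11) (Steps.bwd (nat_lit 13) (Steps.fwd (nat_lit 24576) (Steps.bwd (nat_lit 10) (Steps.bwd (nat_lit 6) Steps.nil))))) (nat_lit 25) (nat_lit 2),
  Rule.mk (nat_lit 6) (nat_lit 148) (Steps.bwd (nat_lit 11) (Steps.bwd (nat_lit 13) (Steps.fwd (nat_lit 24576) (Steps.fwd (nat_lit 16384) (Steps.bwd (nat_lit 1) (Steps.bwd (nat_lit 1) (Steps.bwd (nat_lit 4) (Steps.fwd (nat_lit 53248) (Steps.bwd (nat_lit 12) Steps.nil))))))))) (nat_lit 53) (nat_lit 3),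
  Rule.mk (nat_lit 7) (nat_lit 88) (Steps.bwd (nat_lit 1) (Steps.bwd (nat_lit 4) (Steps.fwd (nat_lit 36864) (Steps.bwd (nat_lit 6) (Steps.fwd (nat_lit 8192) Steps.nil))))) (nat_lit 22) (nat_lit 1),
  Rule.mk (nat_lit 0) (nat_lit 118) (Steps.fwd (nat_lit 12288) (Steps.bwd (nat_lit 7) (Steps.bwd (nat_lit 1) (Steps.bwd (nat_lit 4) (Steps.fwd (nat_lit 4096) (Steps.fwd (nat_lit 4096) (Steps.fwd (nat_lit 4096) Steps.nil))))))) (nat_lit 28) (nat_lit 4),
  Rule.mk (nat_lit 11) (nat_lit 88) (Steps.bwd (nat_lit 13) (Steps.fwd (nat_lit 24576) (Steps.fwd (nat_lit 36864) (Steps.bwd (nat_lit 6) (Steps.bwd (nat_lit 14) Steps.nil))))) (nat_lit 25) (nat_lit 3),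
  Rule.mk (nat_lit 0) (nat_lit 103) (Steps.fwd (nat_lit 49152) (Steps.bwd (nat_lit 14) (Steps.bwd (nat_lit 12) (Steps.bwd (nat_lit 13) (Steps.fwd (nat_lit 45056) (Steps.bwd (nat_lit 9) Steps.nil)))))) (nat_lit 26) (nat_lit 3),
  Rule.mk (nat_lit 0) (nat_lit 133) (Steps.bwd (nat_lit 7) (Steps.bwd (nat_lit 9) (Steps.fwd (nat_lit 49152) (Steps.fwd (nat_lit 57344) (Steps.fwd (nat_lit 32768) (Steps.fwd (nat_lit 40960) (Steps.bwd (nat_lit 11) (Steps.fwd (nat_lit 57344) Steps.nil)))))))) (nat_lit 41) (nat_lit 3),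
  Rule.mk (nat_lit 1) (nat_lit 88) (Steps.bwd (nat_lit 7) (Steps.bwd (nat_lit 1) (Steps.bwd (nat_lit 4) (Steps.bwd (nat_lit 10) (Steps.fwd (nat_lit 20480) Steps.nil))))) (nat_lit 22) (nat_lit 0),
  Rule.mk (nat_lit 1) (nat_lit 118) (Steps.bwd (nat_lit 1) (Steps.bwd (nat_lit 7) (Steps.bwd (nat_lit 9) (Steps.fwd (nat_lit 4096) (Steps.bwd (nat_lit 6) (Steps.fwd (nat_lit 8192) (Steps.bwd (nat_lit 8) Steps.nil))))))) (nat_lit 43) (nat_lit 3),
  Rule.mk (nat_lit 10) (nat_lit 103) (Steps.bwd (nat_lit 4) (Steps.bwd (nat_lit 1) (Steps.bwd (nat_lit 12) (Steps.bwd (nat_lit 14) (Steps.fwd (nat_lit 20480) (Steps.fwd (nat_lit 28672) Steps.nil)))))) (nat_lit 31) (nat_lit 4),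
  Rule.mk (nat_lit 11) (nat_lit 73) (Steps.fwd (nat_lit 24576) (Steps.bwd (nat_lit 10) (Steps.bwd (nat_lit 11) (Steps.fwd (nat_lit 24576) Steps.nil)))) (nat_lit 18) (nat_lit 3),
  Rule.mk (nat_lit 1) (nat_lit 88) (Steps.bwd (nat_lit 7) (Steps.fwd (nat_lit 8192) (Steps.bwd (nat_lit 4) (Steps.bwd (nat_lit 10) (Steps.fwd (nat_lit 20480) Steps.nil))))) (nat_lit 22) (nat_lit 0),
  Rule.mk (nat_lit 1) (nat_lit 73) (Steps.bwd (nat_lit 8) (Steps.fwd (nat_lit 16384) (Steps.fwd (nat_lit 24576) (Steps.bwd (nat_lit 1) Steps.nil)))) (nat_lit 15) (nat_lit 3),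
  Rule.mk (nat_lit 1) (nat_lit 118) (Steps.bwd (nat_lit 1) (Steps.bwd (nat_lit 7) (Steps.bwd (nat_lit 9) (Steps.fwd (nat_lit 4096) (Steps.fwd (nat_lit 20480) (Steps.bwd (nat_lit 1) (Steps.fwd (nat_lit 28672) Steps.nil))))))) (nat_lit 43) (nat_lit 3),
  Rule.mk (nat_lit 2) (nat_lit 118) (Steps.fwd (nat_lit 20480) (Steps.bwd (nat_lit 1) (Steps.fwd (nat_lit 28672) (Steps.fwd (nat_lit 8192) (Steps.fwd (nat_lit 8192) (Steps.fwd (nat_lit 32768) (Steps.fwd (nat_lit 40960) Steps.nil))))))) (nat_lit 43) (nat_lit 7),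
  Rule.mk (nat_lit 4) (nat_lit 88) (Steps.bwd (nat_lit 2) (Steps.fwd (nat_lit 36864) (Steps.fwd (nat_lit 32768) (Steps.fwd (nat_lit 40960) (Steps.fwd (nat_lit 8192) Steps.nil))))) (nat_lit 21) (nat_lit 5),
  Rule.mk (nat_lit 2) (nat_lit 103) (Steps.bwd (nat_lit 2) (Steps.bwd (nat_lit 4) (Steps.fwd (nat_lit 32768) (Steps.fwd (nat_lit 8192) (Steps.fwd (nat_lit 12288) (Steps.fwd (nat_lit 4096) Steps.nil)))))) (nat_lit 28) (nat_lit 3),
  Rule.mk (nat_lit 1) (nat_lit 88) (Steps.fwd (nat_lit 12288) (Steps.bwd (nat_lit 2) (Steps.bwd (nat_lit 10) (Steps.fwd (nat_lit 32768) (Steps.bwd (nat_lit 9) Steps.nil))))) (nat_lit 21) (nat_lit 4),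
  Rule.mk (nat_lit 7) (nat_lit 73) (Steps.fwd (nat_lit 4096) (Steps.bwd (nat_lit 2) (Steps.bwd (nat_lit 6) (Steps.fwd (nat_lit 12288) Steps.nil)))) (nat_lit 14) (nat_lit 2),
  Rule.mk (nat_lit 6) (nat_lit 73) (Steps.fwd (nat_lit 53248) (Steps.bwd (nat_lit 4) (Steps.bwd (nat_lit 8) (Steps.bwd (nat_lit 11) Steps.nil)))) (nat_lit 16) (nat_lit 4),
  Rule.mk (nat_lit 4) (nat_lit 118) (Steps.bwd (nat_lit 6) (Steps.fwd (nat_lit 49152) (Steps.bwd (nat_lit 13) (Steps.fwd (nat_lit 36864) (Steps.bwd (nat_lit 8) (Steps.fwd (nat_lit 8192) (Steps.bwd (nat_lit 1) Steps.nil))))))) (nat_lit 32) (nat_lit 3),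
  Rule.mk (nat_lit 10) (nat_lit 118) (Steps.fwd (nat_lit 53248) (Steps.bwd (nat_lit 12) (Steps.fwd (nat_lit 57344) (Steps.fwd (nat_lit 36864) (Steps.fwd (nat_lit 53248) (Steps.bwd (nat_lit 12) (Steps.bwd (nat_lit 13) Steps.nil))))))) (nat_lit 37) (nat_lit 0),
  Rule.mk (nat_lit 0) (nat_lit 133) (Steps.bwd (nat_lit 7) (Steps.fwd (nat_lit 40960) (Steps.fwd (nat_lit 53248) (Steps.fwd (nat_lit 45056) (Steps.fwd (nat_lit 24576) (Steps.fwd (nat_lit 16384) (Steps.bwd (nat_lit 2) (Steps.bwd (nat_lit 2) Steps.nil)))))))) (nat_lit 33) (nat_lit 0),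
  Rule.mk (nat_lit 6) (nat_lit 118) (Steps.bwd (nat_lit 1) (Steps.bwd (nat_lit 8) (Steps.fwd (nat_lit 8192) (Steps.fwd (nat_lit 8192) (Steps.bwd (nat_lit 7) (Steps.fwd (nat_lit 40960) (Steps.fwd (nat_lit 4096) Steps.nil))))))) (nat_lit 43) (nat_lit 0),
  Rule.mk (nat_lit 0) (nat_lit 163) (Steps.fwd (nat_lit 49152) (Steps.bwd (nat_lit 13) (Steps.fwd (nat_lit 24576) (Steps.bwd (nat_lit 3) (Steps.bwd (nat_lit 1) (Steps.bwd (nat_lit 1) (Steps.fwd (nat_lit 12288) (Steps.fwd (nat_lit 53248) (Steps.bwd (nat_lit 12) (Steps.bwd (nat_lit 6) Steps.nil)))))))))) (nat_lit 53) (nat_lit 3),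
  Rule.mk (nat_lit 0) (nat_lit 103) (Steps.bwd (nat_lit 14) (Steps.fwd (nat_lit 49152) (Steps.bwd (nat_lit 13) (Steps.fwd (nat_lit 24576) (Steps.fwd (nat_lit 36864) (Steps.fwd (nat_lit 20480) Steps.nil)))))) (nat_lit 25) (nat_lit 1),
  Rule.mk (nat_lit 12) (nat_lit 88) (Steps.fwd (nat_lit 57344) (Steps.fwd (nat_lit 45056) (Steps.bwd (nat_lit 9) (Steps.bwd (nat_lit 11) (Steps.fwd (nat_lit 53248) Steps.nil))))) (nat_lit 26) (nat_lit 0),
  Rule.mk (nat_lit 1) (nat_lit 103) (Steps.bwd (nat_lit 12) (Steps.fwd (nat_lit 53248) (Steps.fwd (nat_lit 20480) (Steps.bwd (nat_lit 8) (Steps.fwd (nat_lit 36864) (Steps.fwd (nat_lit 12288) Steps.nil)))))) (nat_lit 31) (nat_lit 6),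
  Rule.mk (nat_lit 0) (nat_lit 133) (Steps.bwd (nat_lit 9) (Steps.bwd (nat_lit 14) (Steps.bwd (nat_lit 10) (Steps.fwd (nat_lit 28672) (Steps.bwd (nat_lit 9) (Steps.fwd (nat_lit 53248) (Steps.fwd (nat_lit 36864) (Steps.fwd (nat_lit 28672) Steps.nil)))))))) (nat_lit 39) (nat_lit 2),
  Rule.mk (nat_lit 0) (nat_lit 118) (Steps.bwd (nat_lit 12) (Steps.bwd (nat_lit 14) (Steps.bwd (nat_lit 6) (Steps.fwd (nat_lit 28672) (Steps.bwd (nat_lit 10) (Steps.fwd (nat_lit 12288) (Steps.bwd (nat_lit 1) Steps.nil))))))) (nat_lit 31) (nat_lit 6),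
  Rule.mk (nat_lit 12) (nat_lit 103) (Steps.bwd (nat_lit 14) (Steps.fwd (nat_lit 20480) (Steps.bwd (nat_lit 8) (Steps.bwd (nat_lit 10) (Steps.bwd (nat_lit 4) (Steps.fwd (nat_lit 8192) Steps.nil)))))) (nat_lit 31) (nat_lit 0),
  Rule.mk (nat_lit 0) (nat_lit 133) (Steps.bwd (nat_lit 14) (Steps.bwd (nat_lit 12) (Steps.bwd (nat_lit 13) (Steps.bwd (nat_lit 10) (Steps.bwd (nat_lit 14) (Steps.bwd (nat_lit 12) (Steps.bwd (nat_lit 13) (Steps.fwd (nat_lit 36864) Steps.nil)))))))) (nat_lit 37) (nat_lit 0),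
  Rule.mk (nat_lit 0) (nat_lit 133) (Steps.bwd (nat_lit 9) (Steps.fwd (nat_lit 53248) (Steps.fwd (nat_lit 49152) (Steps.bwd (nat_lit 13) (Steps.fwd (nat_lit 40960) (Steps.fwd (nat_lit 53248) (Steps.bwd (nat_lit 11) (Steps.fwd (nat_lit 57344) Steps.nil)))))))) (nat_lit 36) (nat_lit 0),
  Rule.mk (nat_lit 0) (nat_lit 133) (Steps.bwd (nat_lit 9) (Steps.fwd (nat_lit 49152) (Steps.fwd (nat_lit 57344) (Steps.fwd (nat_lit 32768) (Steps.fwd (nat_lit 40960) (Steps.fwd (nat_lit 49152) (Steps.fwd (nat_lit 57344) (Steps.fwd (nat_lit 32768) Steps.nil)))))))) (nat_lit 41) (nat_lit 0),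
  Rule.mk (nat_lit 5) (nat_lit 118) (Steps.bwd (nat_lit 3) (Steps.fwd (nat_lit 4096) (Steps.fwd (nat_lit 4096) (Steps.fwd (nat_lit 32768) (Steps.bwd (nat_lit 9) (Steps.bwd (nat_lit 14) (Steps.fwd (nat_lit 45056) Steps.nil))))))) (nat_lit 33) (nat_lit 5),
  Rule.mk (nat_lit 13) (nat_lit 73) (Steps.fwd (nat_lit 24576) (Steps.fwd (nat_lit 45056) (Steps.bwd (nat_lit 7) (Steps.bwd (nat_lit 3) Steps.nil)))) (nat_lit 17) (nat_lit 1),
  Rule.mk (nat_lit 12) (nat_lit 88) (Steps.bwd (nat_lit 13) (Steps.fwd (nat_lit 24576) (Steps.fwd (nat_lit 40960) (Steps.bwd (nat_lit 6) (Steps.bwd (nat_lit 14) Steps.nil))))) (nat_lit 24) (nat_lit 4),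
  Rule.mk (nat_lit 11) (nat_lit 88) (Steps.bwd (nat_lit 13) (Steps.fwd (nat_lit 24576) (Steps.fwd (nat_lit 36864) (Steps.bwd (nat_lit 6) (Steps.fwd (nat_lit 53248) Steps.nil))))) (nat_lit 25) (nat_lit 3),
  Rule.mk (nat_lit 0) (nat_lit 118) (Steps.fwd (nat_lit 12288) (Steps.fwd (nat_lit 8192) (Steps.bwd (nat_lit 12) (Steps.fwd (nat_lit 53248) (Steps.fwd (nat_lit 20480) (Steps.fwd (nat_lit 28672) (Steps.fwd (nat_lit 36864) Steps.nil))))))) (nat_lit 31) (nat_lit 4),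
  Rule.mk (nat_lit 13) (nat_lit 148) (Steps.bwd (nat_lit 12) (Steps.bwd (nat_lit 13) (Steps.bwd (nat_lit 12) (Steps.bwd (nat_lit 13) (Steps.fwd (nat_lit 45056) (Steps.fwd (nat_lit 57344) (Steps.fwd (nat_lit 45056) (Steps.bwd (nat_lit 13) (Steps.fwd (nat_lit 45056) Steps.nil))))))))) (nat_lit 50) (nat_lit 0),
  Rule.mk (nat_lit 7) (nat_lit 73) (Steps.bwd (nat_lit 3) (Steps.bwd (nat_lit 13) (Steps.fwd (nat_lit 24576) (Steps.bwd (nat_lit 12) Steps.nil)))) (nat_lit 17) (nat_lit 4),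
  Rule.mk (nat_lit 11) (nat_lit 88) (Steps.bwd (nat_lit 13) (Steps.fwd (nat_lit 24576) (Steps.bwd (nat_lit 10) (Steps.fwd (nat_lit 20480) (Steps.fwd (nat_lit 53248) Steps.nil))))) (nat_lit 25) (nat_lit 3),
  Rule.mk (nat_lit 8) (nat_lit 133) (Steps.fwd (nat_lit 16384) (Steps.fwd (nat_lit 28672) (Steps.bwd (nat_lit 3) (Steps.bwd (nat_lit 11) (Steps.bwd (nat_lit 14) (Steps.bwd (nat_lit 12) (Steps.bwd (nat_lit 5) (Steps.bwd (nat_lit 10) Steps.nil)))))))) (nat_lit 45) (nat_lit 6),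
  Rule.mk (nat_lit 6) (nat_lit 103) (Steps.bwd (nat_lit 8) (Steps.fwd (nat_lit 36864) (Steps.bwd (nat_lit 4) (Steps.bwd (nat_lit 1) (Steps.bwd (nat_lit 12) (Steps.bwd (nat_lit 14) Steps.nil)))))) (nat_lit 31) (nat_lit 2),
  Rule.mk (nat_lit 5) (nat_lit 118) (Steps.fwd (nat_lit 8192) (Steps.bwd (nat_lit 10) (Steps.bwd (nat_lit 8) (Steps.bwd (nat_lit 2) (Steps.fwd (nat_lit 4096) (Steps.bwd (nat_lit 7) (Steps.bwd (nat_lit 2) Steps.nil))))))) (nat_lit 42) (nat_lit 1),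
  Rule.mk (nat_lit 8) (nat_lit 73) (Steps.fwd (nat_lit 16384) (Steps.bwd (nat_lit 5) (Steps.fwd (nat_lit 8192) (Steps.bwd (nat_lit 1) Steps.nil)))) (nat_lit 15) (nat_lit 4),
  Rule.mk (nat_lit 11) (nat_lit 73) (Steps.bwd (nat_lit 5) (Steps.fwd (nat_lit 49152) (Steps.fwd (nat_lit 24576) (Steps.fwd (nat_lit 36864) Steps.nil)))) (nat_lit 18) (nat_lit 1),
  Rule.mk (nat_lit 2) (nat_lit 88) (Steps.bwd (nat_lit 8) (Steps.bwd (nat_lit 2) (Steps.bwd (nat_lit 5) (Steps.fwd (nat_lit 40960) (Steps.fwd (nat_lit 16384) Steps.nil))))) (nat_lit 23) (nat_lit 5),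
  Rule.mk (nat_lit 9) (nat_lit 88) (Steps.fwd (nat_lit 8192) (Steps.fwd (nat_lit 16384) (Steps.bwd (nat_lit 2) (Steps.fwd (nat_lit 36864) (Steps.fwd (nat_lit 28672) Steps.nil))))) (nat_lit 20) (nat_lit 0),
  Rule.mk (nat_lit 7) (nat_lit 118) (Steps.fwd (nat_lit 4096) (Steps.fwd (nat_lit 24576) (Steps.bwd (nat_lit 1) (Steps.fwd (nat_lit 36864) (Steps.bwd (nat_lit 8) (Steps.bwd (nat_lit 2) (Steps.bwd (nat_lit 2) Steps.nil))))))) (nat_lit 42) (nat_lit 7),
  Rule.mk (nat_lit 9) (nat_lit 88) (Steps.bwd (nat_lit 1) (Steps.bwd (nat_lit 4) (Steps.fwd (nat_lit 4096) (Steps.fwd (nat_lit 36864) (Steps.bwd (nat_lit 7) Steps.nil))))) (nat_lit 21) (nat_lit 3),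
  Rule.mk (nat_lit 5) (nat_lit 118) (Steps.fwd (nat_lit 16384) (Steps.bwd (nat_lit 2) (Steps.bwd (nat_lit 2) (Steps.bwd (nat_lit 7) (Steps.bwd (nat_lit 9) (Steps.fwd (nat_lit 53248) (Steps.fwd (nat_lit 45056) Steps.nil))))))) (nat_lit 33) (nat_lit 5),
  Rule.mk (nat_lit 10) (nat_lit 118) (Steps.bwd (nat_lit 7) (Steps.bwd (nat_lit 9) (Steps.fwd (nat_lit 57344) (Steps.fwd (nat_lit 36864) (Steps.bwd (nat_lit 7) (Steps.bwd (nat_lit 9) (Steps.bwd (nat_lit 13) Steps.nil))))))) (nat_lit 38) (nat_lit 2),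
  Rule.mk (nat_lit 11) (nat_lit 73) (Steps.fwd (nat_lit 24576) (Steps.bwd (nat_lit 11) (Steps.bwd (nat_lit 5) (Steps.bwd (nat_lit 10) Steps.nil)))) (nat_lit 18) (nat_lit 1),
  Rule.mk (nat_lit 1) (nat_lit 118) (Steps.fwd (nat_lit 12288) (Steps.bwd (nat_lit 6) (Steps.bwd (nat_lit 11) (Steps.bwd (nat_lit 13) (Steps.fwd (nat_lit 36864) (Steps.bwd (nat_lit 8) (Steps.fwd (nat_lit 8192) Steps.nil))))))) (nat_lit 32) (nat_lit 2),
  Rule.mk (nat_lit 6) (nat_lit 118) (Steps.fwd (nat_lit 49152) (Steps.fwd (nat_lit 24576) (Steps.bwd (nat_lit 3) (Steps.bwd (nat_lit 6) (Steps.bwd (nat_lit 11) (Steps.fwd (nat_lit 24576) (Steps.bwd (nat_lit 3) Steps.nil))))))) (nat_lit 34) (nat_lit 2),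
  Rule.mk (nat_lit 4) (nat_lit 148) (Steps.fwd (nat_lit 53248) (Steps.fwd (nat_lit 45056) (Steps.bwd (nat_lit 6) (Steps.bwd (nat_lit 11) (Steps.bwd (nat_lit 13) (Steps.bwd (nat_lit 5) (Steps.bwd (nat_lit 3) (Steps.bwd (nat_lit 1) (Steps.bwd (nat_lit 1) Steps.nil))))))))) (nat_lit 53) (nat_lit 0),
  Rule.mk (nat_lit 6) (nat_lit 118) (Steps.fwd (nat_lit 49152) (Steps.bwd (nat_lit 13) (Steps.bwd (nat_lit 10) (Steps.fwd (nat_lit 28672) (Steps.bwd (nat_lit 1) (Steps.bwd (nat_lit 1) (Steps.bwd (nat_lit 4) Steps.nil))))))) (nat_lit 32) (nat_lit 4),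
  Rule.mk (nat_lit 9) (nat_lit 88) (Steps.fwd (nat_lit 8192) (Steps.fwd (nat_lit 16384) (Steps.bwd (nat_lit 2) (Steps.fwd (nat_lit 36864) (Steps.bwd (nat_lit 8) Steps.nil))))) (nat_lit 20) (nat_lit 0),
  Rule.mk (nat_lit 10) (nat_lit 103) (Steps.bwd (nat_lit 4) (Steps.fwd (nat_lit 8192) (Steps.fwd (nat_lit 45056) (Steps.bwd (nat_lit 14) (Steps.fwd (nat_lit 20480) (Steps.bwd (nat_lit 8) Steps.nil)))))) (nat_lit 31) (nat_lit 4),
  Rule.mk (nat_lit 9) (nat_lit 118) (Steps.bwd (nat_lit 13) (Steps.fwd (nat_lit 36864) (Steps.bwd (nat_lit 7) (Steps.fwd (nat_lit 40960) (Steps.bwd (nat_lit 13) (Steps.bwd (nat_lit 10) (Steps.bwd (nat_lit 7) Steps.nil))))))) (nat_lit 38) (nat_lit 0),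
  Rule.mk (nat_lit 5) (nat_lit 88) (Steps.bwd (nat_lit 9) (Steps.fwd (nat_lit 16384) (Steps.bwd (nat_lit 2) (Steps.fwd (nat_lit 28672) (Steps.bwd (nat_lit 2) Steps.nil))))) (nat_lit 23) (nat_lit 2),
  Rule.mk (nat_lit 5) (nat_lit 103) (Steps.bwd (nat_lit 13) (Steps.bwd (nat_lit 11) (Steps.fwd (nat_lit 4096) (Steps.bwd (nat_lit 3) (Steps.fwd (nat_lit 40960) (Steps.fwd (nat_lit 32768) Steps.nil)))))) (nat_lit 30) (nat_lit 6),
  Rule.mk (nat_lit 3) (nat_lit 103) (Steps.fwd (nat_lit 40960) (Steps.bwd (nat_lit 7) (Steps.fwd (nat_lit 24576) (Steps.bwd (nat_lit 13) (Steps.fwd (nat_lit 49152) (Steps.bwd (nat_lit 2) Steps.nil)))))) (nat_lit 30) (nat_lit 3)]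
noncomputable def R_36 : List (Rule) := [Rule.mk (nat_lit 6) (nat_lit 58) (Steps.bwd (nat_lit 4) (Steps.fwd (nat_lit 57344) (Steps.fwd (nat_lit 16384) Steps.nil))) (nat_lit 13) (nat_lit 3),
  Rule.mk (nat_lit 12) (nat_lit 133) (Steps.bwd (nat_lit 4) (Steps.bwd (nat_lit 7) (Steps.fwd (nat_lit 12288) (Steps.bwd (nat_lit 7) (Steps.fwd (nat_lit 40960) (Steps.fwd (nat_lit 20480) (Steps.bwd (nat_lit 11) (Steps.fwd (nat_lit 57344) Steps.nil)))))))) (nat_lit 44) (nat_lit 0),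
  Rule.mk (nat_lit 10) (nat_lit 103) (Steps.bwd (nat_lit 4) (Steps.bwd (nat_lit 1) (Steps.bwd (nat_lit 12) (Steps.bwd (nat_lit 14) (Steps.fwd (nat_lit 20480) (Steps.bwd (nat_lit 8) Steps.nil)))))) (nat_lit 31) (nat_lit 4),
  Rule.mk (nat_lit 14) (nat_lit 103) (Steps.bwd (nat_lit 6) (Steps.fwd (nat_lit 28672) (Steps.fwd (nat_lit 36864) (Steps.bwd (nat_lit 4) (Steps.bwd (nat_lit 1) (Steps.bwd (nat_lit 12) Steps.nil)))))) (nat_lit 31) (nat_lit 1),
  Rule.mk (nat_lit 11) (nat_lit 88) (Steps.bwd (nat_lit 14) (Steps.fwd (nat_lit 45056) (Steps.bwd (nat_lit 13) (Steps.fwd (nat_lit 45056) (Steps.fwd (nat_lit 40960) Steps.nil))))) (nat_lit 26) (nat_lit 4),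
  Rule.mk (nat_lit 2) (nat_lit 88) (Steps.bwd (nat_lit 10) (Steps.bwd (nat_lit 8) (Steps.bwd (nat_lit 9) (Steps.bwd (nat_lit 1) (Steps.fwd (nat_lit 16384) Steps.nil))))) (nat_lit 20) (nat_lit 3),
  Rule.mk (nat_lit 8) (nat_lit 103) (Steps.bwd (nat_lit 3) (Steps.bwd (nat_lit 1) (Steps.bwd (nat_lit 1) (Steps.bwd (nat_lit 1) (Steps.fwd (nat_lit 16384) (Steps.bwd (nat_lit 2) Steps.nil)))))) (nat_lit 29) (nat_lit 2),
  Rule.mk (nat_lit 5) (nat_lit 133) (Steps.bwd (nat_lit 10) (Steps.bwd (nat_lit 8) (Steps.bwd (nat_lit 3) (Steps.fwd (nat_lit 28672) (Steps.bwd (nat_lit 3) (Steps.fwd (nat_lit 49152) (Steps.bwd (nat_lit 14) (Steps.fwd (nat_lit 45056) Steps.nil)))))))) (nat_lit 45) (nat_lit 4),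
  Rule.mk (nat_lit 12) (nat_lit 73) (Steps.fwd (nat_lit 32768) (Steps.bwd (nat_lit 3) (Steps.fwd (nat_lit 57344) (Steps.bwd (nat_lit 5) Steps.nil)))) (nat_lit 17) (nat_lit 3),
  Rule.mk (nat_lit 3) (nat_lit 118) (Steps.fwd (nat_lit 20480) (Steps.fwd (nat_lit 49152) (Steps.bwd (nat_lit 5) (Steps.bwd (nat_lit 3) (Steps.fwd (nat_lit 20480) (Steps.fwd (nat_lit 49152) (Steps.bwd (nat_lit 5) Steps.nil))))))) (nat_lit 34) (nat_lit 1),
  Rule.mk (nat_lit 0) (nat_lit 88) (Steps.bwd (nat_lit 14) (Steps.fwd (nat_lit 12288) (Steps.bwd (nat_lit 8) (Steps.bwd (nat_lit 11) (Steps.fwd (nat_lit 20480) Steps.nil))))) (nat_lit 16) (nat_lit 4),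
  Rule.mk (nat_lit 10) (nat_lit 88) (Steps.bwd (nat_lit 7) (Steps.bwd (nat_lit 9) (Steps.fwd (nat_lit 8192) (Steps.fwd (nat_lit 12288) (Steps.bwd (nat_lit 2) Steps.nil))))) (nat_lit 21) (nat_lit 1),
  Rule.mk (nat_lit 0) (nat_lit 88) (Steps.fwd (nat_lit 20480) (Steps.bwd (nat_lit 12) (Steps.bwd (nat_lit 6) (Steps.bwd (nat_lit 12) (Steps.fwd (nat_lit 40960) Steps.nil))))) (nat_lit 19) (nat_lit 1),
  Rule.mk (nat_lit 14) (nat_lit 88) (Steps.bwd (nat_lit 11) (Steps.bwd (nat_lit 13) (Steps.bwd (nat_lit 5) (Steps.bwd (nat_lit 10) (Steps.fwd (nat_lit 20480) Steps.nil))))) (nat_lit 25) (nat_lit 2),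
  Rule.mk (nat_lit 0) (nat_lit 118) (Steps.fwd (nat_lit 8192) (Steps.bwd (nat_lit 4) (Steps.fwd (nat_lit 4096) (Steps.fwd (nat_lit 4096) (Steps.fwd (nat_lit 4096) (Steps.fwd (nat_lit 12288) (Steps.bwd (nat_lit 7) Steps.nil))))))) (nat_lit 28) (nat_lit 6),
  Rule.mk (nat_lit 0) (nat_lit 103) (Steps.fwd (nat_lit 36864) (Steps.bwd (nat_lit 7) (Steps.fwd (nat_lit 40960) (Steps.fwd (nat_lit 8192) (Steps.bwd (nat_lit 4) (Steps.fwd (nat_lit 4096) Steps.nil)))))) (nat_lit 21) (nat_lit 0),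
  Rule.mk (nat_lit 0) (nat_lit 88) (Steps.bwd (nat_lit 6) (Steps.bwd (nat_lit 14) (Steps.bwd (nat_lit 4) (Steps.bwd (nat_lit 8) (Steps.bwd (nat_lit 11) Steps.nil))))) (nat_lit 16) (nat_lit 3),
  Rule.mk (nat_lit 14) (nat_lit 88) (Steps.bwd (nat_lit 11) (Steps.fwd (nat_lit 57344) (Steps.fwd (nat_lit 45056) (Steps.fwd (nat_lit 36864) (Steps.bwd (nat_lit 11) Steps.nil))))) (nat_lit 27) (nat_lit 0),
  Rule.mk (nat_lit 9) (nat_lit 133) (Steps.bwd (nat_lit 6) (Steps.bwd (nat_lit 11) (Steps.fwd (nat_lit 57344) (Steps.fwd (nat_lit 45056) (Steps.bwd (nat_lit 4) (Steps.fwd (nat_lit 32768) (Steps.fwd (nat_lit 12288) (Steps.fwd (nat_lit 32768) Steps.nil)))))))) (nat_lit 44) (nat_lit 5),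
  Rule.mk (nat_lit 12) (nat_lit 118) (Steps.bwd (nat_lit 5) (Steps.fwd (nat_lit 16384) (Steps.fwd (nat_lit 4096) (Steps.fwd (nat_lit 4096) (Steps.fwd (nat_lit 32768) (Steps.bwd (nat_lit 9) (Steps.bwd (nat_lit 14) Steps.nil))))))) (nat_lit 33) (nat_lit 4),
  Rule.mk (nat_lit 13) (nat_lit 148) (Steps.bwd (nat_lit 12) (Steps.fwd (nat_lit 57344) (Steps.bwd (nat_lit 12) (Steps.bwd (nat_lit 13) (Steps.fwd (nat_lit 45056) (Steps.bwd (nat_lit 13) (Steps.fwd (nat_lit 45056) (Steps.fwd (nat_lit 57344) (Steps.fwd (nat_lit 45056) Steps.nil))))))))) (nat_lit 50) (nat_lit 0),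
  Rule.mk (nat_lit 1) (nat_lit 118) (Steps.bwd (nat_lit 7) (Steps.bwd (nat_lit 9) (Steps.bwd (nat_lit 2) (Steps.bwd (nat_lit 6) (Steps.fwd (nat_lit 8192) (Steps.bwd (nat_lit 8) (Steps.fwd (nat_lit 8192) Steps.nil))))))) (nat_lit 43) (nat_lit 4),
  Rule.mk (nat_lit 3) (nat_lit 103) (Steps.fwd (nat_lit 8192) (Steps.fwd (nat_lit 8192) (Steps.bwd (nat_lit 1) (Steps.fwd (nat_lit 16384) (Steps.bwd (nat_lit 2) (Steps.bwd (nat_lit 8) Steps.nil)))))) (nat_lit 29) (nat_lit 3),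
  Rule.mk (nat_lit 10) (nat_lit 88) (Steps.fwd (nat_lit 20480) (Steps.bwd (nat_lit 14) (Steps.fwd (nat_lit 49152) (Steps.bwd (nat_lit 13) (Steps.bwd (nat_lit 5) Steps.nil))))) (nat_lit 25) (nat_lit 0),
  Rule.mk (nat_lit 13) (nat_lit 88) (Steps.bwd (nat_lit 5) (Steps.bwd (nat_lit 10) (Steps.fwd (nat_lit 20480) (Steps.fwd (nat_lit 53248) (Steps.bwd (nat_lit 11) Steps.nil))))) (nat_lit 25) (nat_lit 4),
  Rule.mk (nat_lit 7) (nat_lit 103) (Steps.bwd (nat_lit 5) (Steps.bwd (nat_lit 13) (Steps.fwd (nat_lit 49152) (Steps.bwd (nat_lit 2) (Steps.bwd (nat_lit 3) (Steps.fwd (nat_lit 40960) Steps.nil)))))) (nat_lit 30) (nat_lit 5),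
  Rule.mk (nat_lit 3) (nat_lit 73) (Steps.fwd (nat_lit 57344) (Steps.fwd (nat_lit 24576) (Steps.fwd (nat_lit 45056) (Steps.bwd (nat_lit 7) Steps.nil)))) (nat_lit 17) (nat_lit 0),
  Rule.mk (nat_lit 0) (nat_lit 163) (Steps.bwd (nat_lit 3) (Steps.bwd (nat_lit 2) (Steps.fwd (nat_lit 32768) (Steps.bwd (nat_lit 9) (Steps.fwd (nat_lit 28672) (Steps.bwd (nat_lit 1) (Steps.fwd (nat_lit 8192) (Steps.bwd (nat_lit 1) (Steps.fwd (nat_lit 12288) (Steps.bwd (nat_lit 5) Steps.nil)))))))))) (nat_lit 46) (nat_lit 6),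
  Rule.mk (nat_lit 3) (nat_lit 148) (Steps.bwd (nat_lit 2) (Steps.bwd (nat_lit 7) (Steps.bwd (nat_lit 9) (Steps.fwd (nat_lit 28672) (Steps.bwd (nat_lit 1) (Steps.bwd (nat_lit 1) (Steps.fwd (nat_lit 8192) (Steps.fwd (nat_lit 12288) (Steps.bwd (nat_lit 5) Steps.nil))))))))) (nat_lit 46) (nat_lit 7),
  Rule.mk (nat_lit 0) (nat_lit 58) (Steps.fwd (nat_lit 12288) (Steps.fwd (nat_lit 12288) (Steps.fwd (nat_lit 12288) Steps.nil))) (nat_lit 1) (nat_lit 0),
  Rule.mk (nat_lit 8) (nat_lit 118) (Steps.fwd (nat_lit 8192) (Steps.bwd (nat_lit 1) (Steps.fwd (nat_lit 12288) (Steps.fwd (nat_lit 20480) (Steps.bwd (nat_lit 11) (Steps.fwd (nat_lit 57344) (Steps.bwd (nat_lit 10) Steps.nil))))))) (nat_lit 32) (nat_lit 0),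
  Rule.mk (nat_lit 9) (nat_lit 88) (Steps.bwd (nat_lit 3) (Steps.bwd (nat_lit 2) (Steps.bwd (nat_lit 8) (Steps.bwd (nat_lit 2) (Steps.fwd (nat_lit 24576) Steps.nil))))) (nat_lit 23) (nat_lit 3),
  Rule.mk (nat_lit 8) (nat_lit 88) (Steps.fwd (nat_lit 40960) (Steps.fwd (nat_lit 8192) (Steps.bwd (nat_lit 3) (Steps.fwd (nat_lit 4096) (Steps.fwd (nat_lit 36864) Steps.nil))))) (nat_lit 20) (nat_lit 5),
  Rule.mk (nat_lit 11) (nat_lit 88) (Steps.bwd (nat_lit 13) (Steps.fwd (nat_lit 45056) (Steps.bwd (nat_lit 10) (Steps.bwd (nat_lit 11) (Steps.fwd (nat_lit 53248) Steps.nil))))) (nat_lit 27) (nat_lit 1),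
  Rule.mk (nat_lit 12) (nat_lit 88) (Steps.fwd (nat_lit 57344) (Steps.bwd (nat_lit 12) (Steps.fwd (nat_lit 40960) (Steps.bwd (nat_lit 11) (Steps.fwd (nat_lit 53248) Steps.nil))))) (nat_lit 26) (nat_lit 0),
  Rule.mk (nat_lit 9) (nat_lit 73) (Steps.fwd (nat_lit 20480) (Steps.bwd (nat_lit 12) (Steps.bwd (nat_lit 6) (Steps.bwd (nat_lit 12) Steps.nil)))) (nat_lit 19) (nat_lit 1),
  Rule.mk (nat_lit 10) (nat_lit 88) (Steps.fwd (nat_lit 49152) (Steps.bwd (nat_lit 14) (Steps.bwd (nat_lit 11) (Steps.bwd (nat_lit 13) (Steps.bwd (nat_lit 12) Steps.nil))))) (nat_lit 27) (nat_lit 4),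
  Rule.mk (nat_lit 0) (nat_lit 163) (Steps.bwd (nat_lit 14) (Steps.bwd (nat_lit 12) (Steps.fwd (nat_lit 24576) (Steps.fwd (nat_lit 49152) (Steps.bwd (nat_lit 13) (Steps.bwd (nat_lit 3) (Steps.bwd (nat_lit 2) (Steps.fwd (nat_lit 4096) (Steps.bwd (nat_lit 4) (Steps.bwd (nat_lit 6) Steps.nil)))))))))) (nat_lit 52) (nat_lit 5),
  Rule.mk (nat_lit 9) (nat_lit 88) (Steps.fwd (nat_lit 20480) (Steps.fwd (nat_lit 53248) (Steps.fwd (nat_lit 45056) (Steps.bwd (nat_lit 13) (Steps.fwd (nat_lit 24576) Steps.nil))))) (nat_lit 24) (nat_lit 1),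
  Rule.mk (nat_lit 9) (nat_lit 88) (Steps.bwd (nat_lit 11) (Steps.fwd (nat_lit 53248) (Steps.fwd (nat_lit 45056) (Steps.bwd (nat_lit 13) (Steps.fwd (nat_lit 45056) Steps.nil))))) (nat_lit 26) (nat_lit 3),
  Rule.mk (nat_lit 0) (nat_lit 58) (Steps.fwd (nat_lit 36864) (Steps.fwd (nat_lit 36864) (Steps.fwd (nat_lit 36864) Steps.nil))) (nat_lit 7) (nat_lit 0),
  Rule.mk (nat_lit 0) (nat_lit 88) (Steps.bwd (nat_lit 2) (Steps.bwd (nat_lit 2) (Steps.bwd (nat_lit 6) (Steps.fwd (nat_lit 12288) (Steps.bwd (nat_lit 7) Steps.nil))))) (nat_lit 14) (nat_lit 2),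
  Rule.mk (nat_lit 1) (nat_lit 103) (Steps.bwd (nat_lit 3) (Steps.fwd (nat_lit 4096) (Steps.fwd (nat_lit 28672) (Steps.bwd (nat_lit 3) (Steps.bwd (nat_lit 1) (Steps.fwd (nat_lit 8192) Steps.nil)))))) (nat_lit 29) (nat_lit 6),
  Rule.mk (nat_lit 9) (nat_lit 88) (Steps.bwd (nat_lit 1) (Steps.fwd (nat_lit 12288) (Steps.bwd (nat_lit 2) (Steps.fwd (nat_lit 36864) (Steps.bwd (nat_lit 7) Steps.nil))))) (nat_lit 21) (nat_lit 3),
  Rule.mk (nat_lit 12) (nat_lit 73) (Steps.fwd (nat_lit 20480) (Steps.bwd (nat_lit 12) (Steps.bwd (nat_lit 9) (Steps.fwd (nat_lit 20480) Steps.nil)))) (nat_lit 19) (nat_lit 3),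
  Rule.mk (nat_lit 13) (nat_lit 133) (Steps.fwd (nat_lit 45056) (Steps.fwd (nat_lit 12288) (Steps.fwd (nat_lit 32768) (Steps.fwd (nat_lit 12288) (Steps.bwd (nat_lit 7) (Steps.bwd (nat_lit 9) (Steps.fwd (nat_lit 20480) (Steps.fwd (nat_lit 49152) Steps.nil)))))))) (nat_lit 44) (nat_lit 8),
  Rule.mk (nat_lit 1) (nat_lit 88) (Steps.fwd (nat_lit 32768) (Steps.fwd (nat_lit 8192) (Steps.fwd (nat_lit 12288) (Steps.bwd (nat_lit 10) (Steps.fwd (nat_lit 20480) Steps.nil))))) (nat_lit 22) (nat_lit 0),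
  Rule.mk (nat_lit 13) (nat_lit 88) (Steps.bwd (nat_lit 5) (Steps.bwd (nat_lit 10) (Steps.fwd (nat_lit 20480) (Steps.bwd (nat_lit 14) (Steps.fwd (nat_lit 49152) Steps.nil))))) (nat_lit 25) (nat_lit 4),
  Rule.mk (nat_lit 0) (nat_lit 133) (Steps.bwd (nat_lit 7) (Steps.fwd (nat_lit 40960) (Steps.bwd (nat_lit 2) (Steps.fwd (nat_lit 20480) (Steps.fwd (nat_lit 8192) (Steps.fwd (nat_lit 28672) (Steps.fwd (nat_lit 8192) (Steps.bwd (nat_lit 1) Steps.nil)))))))) (nat_lit 43) (nat_lit 4),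
  Rule.mk (nat_lit 3) (nat_lit 103) (Steps.bwd (nat_lit 9) (Steps.fwd (nat_lit 32768) (Steps.bwd (nat_lit 5) (Steps.fwd (nat_lit 57344) (Steps.bwd (nat_lit 11) (Steps.fwd (nat_lit 4096) Steps.nil)))))) (nat_lit 30) (nat_lit 3),
  Rule.mk (nat_lit 1) (nat_lit 103) (Steps.fwd (nat_lit 8192) (Steps.bwd (nat_lit 1) (Steps.fwd (nat_lit 16384) (Steps.bwd (nat_lit 2) (Steps.bwd (nat_lit 8) (Steps.bwd (nat_lit 3) Steps.nil)))))) (nat_lit 29) (nat_lit 4),
  Rule.mk (nat_lit 3) (nat_lit 88) (Steps.fwd (nat_lit 4096) (Steps.bwd (nat_lit 8) (Steps.fwd (nat_lit 4096) (Steps.fwd (nat_lit 24576) (Steps.fwd (nat_lit 40960) Steps.nil))))) (nat_lit 23) (nat_lit 4),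
  Rule.mk (nat_lit 4) (nat_lit 118) (Steps.fwd (nat_lit 20480) (Steps.bwd (nat_lit 11) (Steps.fwd (nat_lit 57344) (Steps.bwd (nat_lit 10) (Steps.bwd (nat_lit 8) (Steps.bwd (nat_lit 1) (Steps.bwd (nat_lit 1) Steps.nil))))))) (nat_lit 32) (nat_lit 3),
  Rule.mk (nat_lit 12) (nat_lit 103) (Steps.fwd (nat_lit 53248) (Steps.fwd (nat_lit 20480) (Steps.bwd (nat_lit 8) (Steps.bwd (nat_lit 10) (Steps.bwd (nat_lit 4) (Steps.bwd (nat_lit 1) Steps.nil)))))) (nat_lit 31) (nat_lit 0),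
  Rule.mk (nat_lit 3) (nat_lit 73) (Steps.fwd (nat_lit 57344) (Steps.fwd (nat_lit 24576) (Steps.bwd (nat_lit 12) (Steps.bwd (nat_lit 7) Steps.nil)))) (nat_lit 17) (nat_lit 0),
  Rule.mk (nat_lit 12) (nat_lit 73) (Steps.fwd (nat_lit 40960) (Steps.fwd (nat_lit 20480) (Steps.bwd (nat_lit 12) (Steps.fwd (nat_lit 20480) Steps.nil)))) (nat_lit 19) (nat_lit 0),
  Rule.mk (nat_lit 14) (nat_lit 118) (Steps.bwd (nat_lit 12) (Steps.fwd (nat_lit 24576) (Steps.bwd (nat_lit 3) (Steps.bwd (nat_lit 2) (Steps.fwd (nat_lit 4096) (Steps.fwd (nat_lit 32768) (Steps.fwd (nat_lit 40960) Steps.nil))))))) (nat_lit 33) (nat_lit 3),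
  Rule.mk (nat_lit 6) (nat_lit 148) (Steps.bwd (nat_lit 14) (Steps.bwd (nat_lit 12) (Steps.fwd (nat_lit 24576) (Steps.bwd (nat_lit 11) (Steps.bwd (nat_lit 13) (Steps.fwd (nat_lit 16384) (Steps.fwd (nat_lit 4096) (Steps.bwd (nat_lit 2) (Steps.bwd (nat_lit 4) Steps.nil))))))))) (nat_lit 52) (nat_lit 5),
  Rule.mk (nat_lit 0) (nat_lit 73) (Steps.fwd (nat_lit 57344) (Steps.bwd (nat_lit 3) (Steps.bwd (nat_lit 6) (Steps.fwd (nat_lit 12288) Steps.nil)))) (nat_lit 13) (nat_lit 0),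
  Rule.mk (nat_lit 14) (nat_lit 118) (Steps.fwd (nat_lit 36864) (Steps.bwd (nat_lit 8) (Steps.fwd (nat_lit 40960) (Steps.bwd (nat_lit 14) (Steps.fwd (nat_lit 36864) (Steps.bwd (nat_lit 8) (Steps.fwd (nat_lit 40960) Steps.nil))))))) (nat_lit 39) (nat_lit 0),
  Rule.mk (nat_lit 0) (nat_lit 163) (Steps.bwd (nat_lit 6) (Steps.bwd (nat_lit 14) (Steps.fwd (nat_lit 45056) (Steps.bwd (nat_lit 5) (Steps.fwd (nat_lit 49152) (Steps.fwd (nat_lit 57344) (Steps.bwd (nat_lit 3) (Steps.fwd (nat_lit 4096) (Steps.bwd (nat_lit 2) (Steps.bwd (nat_lit 4) Steps.nil)))))))))) (nat_lit 52) (nat_lit 4),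
  Rule.mk (nat_lit 11) (nat_lit 148) (Steps.bwd (nat_lit 13) (Steps.bwd (nat_lit 5) (Steps.fwd (nat_lit 16384) (Steps.fwd (nat_lit 8192) (Steps.bwd (nat_lit 1) (Steps.fwd (nat_lit 12288) (Steps.fwd (nat_lit 53248) (Steps.bwd (nat_lit 12) (Steps.fwd (nat_lit 20480) Steps.nil))))))))) (nat_lit 53) (nat_lit 4),
  Rule.mk (nat_lit 4) (nat_lit 133) (Steps.fwd (nat_lit 32768) (Steps.fwd (nat_lit 12288) (Steps.fwd (nat_lit 32768) (Steps.fwd (nat_lit 40960) (Steps.fwd (nat_lit 20480) (Steps.bwd (nat_lit 11) (Steps.bwd (nat_lit 13) (Steps.fwd (nat_lit 45056) Steps.nil)))))))) (nat_lit 44) (nat_lit 1),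
  Rule.mk (nat_lit 7) (nat_lit 133) (Steps.bwd (nat_lit 4) (Steps.fwd (nat_lit 32768) (Steps.fwd (nat_lit 40960) (Steps.fwd (nat_lit 20480) (Steps.bwd (nat_lit 11) (Steps.bwd (nat_lit 13) (Steps.bwd (nat_lit 12) (Steps.fwd (nat_lit 12288) Steps.nil)))))))) (nat_lit 44) (nat_lit 2)]
noncomputable def R_37 : List (Rule) := [Rule.mk (nat_lit 0) (nat_lit 163) (Steps.fwd (nat_lit 12288) (Steps.bwd (nat_lit 5) (Steps.fwd (nat_lit 16384) (Steps.bwd (nat_lit 2) (Steps.bwd (nat_lit 7) (Steps.bwd (nat_lit 9) (Steps.fwd (nat_lit 28672) (Steps.bwd (nat_lit 1) (Steps.bwd (nat_lit 1) (Steps.bwd (nat_lit 1) Steps.nil)))))))))) (nat_lit 46) (nat_lit 4),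
  Rule.mk (nat_lit 0) (nat_lit 73) (Steps.bwd (nat_lit 13) (Steps.bwd (nat_lit 3) (Steps.fwd (nat_lit 20480) (Steps.bwd (nat_lit 4) Steps.nil)))) (nat_lit 13) (nat_lit 0),
  Rule.mk (nat_lit 12) (nat_lit 118) (Steps.bwd (nat_lit 5) (Steps.fwd (nat_lit 16384) (Steps.bwd (nat_lit 2) (Steps.bwd (nat_lit 2) (Steps.fwd (nat_lit 32768) (Steps.bwd (nat_lit 9) (Steps.bwd (nat_lit 14) Steps.nil))))))) (nat_lit 33) (nat_lit 4),
  Rule.mk (nat_lit 13) (nat_lit 88) (Steps.fwd (nat_lit 24576) (Steps.bwd (nat_lit 9) (Steps.fwd (nat_lit 20480) (Steps.bwd (nat_lit 14) (Steps.bwd (nat_lit 12) Steps.nil))))) (nat_lit 24) (nat_lit 5),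
  Rule.mk (nat_lit 0) (nat_lit 118) (Steps.bwd (nat_lit 12) (Steps.fwd (nat_lit 53248) (Steps.bwd (nat_lit 6) (Steps.fwd (nat_lit 28672) (Steps.bwd (nat_lit 10) (Steps.fwd (nat_lit 12288) (Steps.bwd (nat_lit 1) Steps.nil))))))) (nat_lit 31) (nat_lit 6),
  Rule.mk (nat_lit 0) (nat_lit 73) (Steps.fwd (nat_lit 12288) (Steps.fwd (nat_lit 57344) (Steps.fwd (nat_lit 16384) (Steps.fwd (nat_lit 20480) Steps.nil)))) (nat_lit 13) (nat_lit 3),
  Rule.mk (nat_lit 5) (nat_lit 118) (Steps.bwd (nat_lit 3) (Steps.fwd (nat_lit 4096) (Steps.bwd (nat_lit 2) (Steps.bwd (nat_lit 7) (Steps.fwd (nat_lit 40960) (Steps.fwd (nat_lit 53248) (Steps.fwd (nat_lit 45056) Steps.nil))))))) (nat_lit 33) (nat_lit 5),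
  Rule.mk (nat_lit 12) (nat_lit 88) (Steps.bwd (nat_lit 13) (Steps.fwd (nat_lit 45056) (Steps.fwd (nat_lit 40960) (Steps.bwd (nat_lit 11) (Steps.bwd (nat_lit 14) Steps.nil))))) (nat_lit 26) (nat_lit 0),
  Rule.mk (nat_lit 10) (nat_lit 118) (Steps.fwd (nat_lit 53248) (Steps.bwd (nat_lit 12) (Steps.bwd (nat_lit 13) (Steps.bwd (nat_lit 10) (Steps.bwd (nat_lit 14) (Steps.bwd (nat_lit 12) (Steps.bwd (nat_lit 13) Steps.nil))))))) (nat_lit 37) (nat_lit 0),
  Rule.mk (nat_lit 9) (nat_lit 118) (Steps.bwd (nat_lit 13) (Steps.bwd (nat_lit 10) (Steps.bwd (nat_lit 7) (Steps.fwd (nat_lit 40960) (Steps.bwd (nat_lit 13) (Steps.fwd (nat_lit 36864) (Steps.fwd (nat_lit 32768) Steps.nil))))))) (nat_lit 38) (nat_lit 0),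
  Rule.mk (nat_lit 5) (nat_lit 118) (Steps.fwd (nat_lit 16384) (Steps.fwd (nat_lit 4096) (Steps.fwd (nat_lit 4096) (Steps.fwd (nat_lit 32768) (Steps.bwd (nat_lit 9) (Steps.bwd (nat_lit 14) (Steps.fwd (nat_lit 45056) Steps.nil))))))) (nat_lit 33) (nat_lit 5),
  Rule.mk (nat_lit 7) (nat_lit 133) (Steps.bwd (nat_lit 4) (Steps.fwd (nat_lit 32768) (Steps.bwd (nat_lit 9) (Steps.fwd (nat_lit 20480) (Steps.fwd (nat_lit 49152) (Steps.fwd (nat_lit 57344) (Steps.bwd (nat_lit 12) (Steps.fwd (nat_lit 12288) Steps.nil)))))))) (nat_lit 44) (nat_lit 2),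
  Rule.mk (nat_lit 8) (nat_lit 133) (Steps.bwd (nat_lit 3) (Steps.fwd (nat_lit 49152) (Steps.bwd (nat_lit 14) (Steps.fwd (nat_lit 45056) (Steps.bwd (nat_lit 5) (Steps.fwd (nat_lit 36864) (Steps.bwd (nat_lit 8) (Steps.fwd (nat_lit 16384) Steps.nil)))))))) (nat_lit 45) (nat_lit 8),
  Rule.mk (nat_lit 14) (nat_lit 103) (Steps.fwd (nat_lit 20480) (Steps.bwd (nat_lit 8) (Steps.bwd (nat_lit 10) (Steps.fwd (nat_lit 12288) (Steps.bwd (nat_lit 1) (Steps.bwd (nat_lit 12) Steps.nil)))))) (nat_lit 31) (nat_lit 1),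
  Rule.mk (nat_lit 13) (nat_lit 88) (Steps.fwd (nat_lit 24576) (Steps.bwd (nat_lit 9) (Steps.fwd (nat_lit 20480) (Steps.bwd (nat_lit 14) (Steps.fwd (nat_lit 45056) Steps.nil))))) (nat_lit 24) (nat_lit 5),
  Rule.mk (nat_lit 8) (nat_lit 148) (Steps.fwd (nat_lit 8192) (Steps.bwd (nat_lit 1) (Steps.bwd (nat_lit 1) (Steps.bwd (nat_lit 4) (Steps.fwd (nat_lit 24576) (Steps.bwd (nat_lit 3) (Steps.bwd (nat_lit 2) (Steps.bwd (nat_lit 7) (Steps.bwd (nat_lit 9) Steps.nil))))))))) (nat_lit 46) (nat_lit 1),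
  Rule.mk (nat_lit 6) (nat_lit 148) (Steps.bwd (nat_lit 11) (Steps.fwd (nat_lit 57344) (Steps.bwd (nat_lit 5) (Steps.bwd (nat_lit 3) (Steps.bwd (nat_lit 1) (Steps.fwd (nat_lit 8192) (Steps.bwd (nat_lit 4) (Steps.fwd (nat_lit 53248) (Steps.fwd (nat_lit 45056) Steps.nil))))))))) (nat_lit 53) (nat_lit 3),
  Rule.mk (nat_lit 12) (nat_lit 73) (Steps.bwd (nat_lit 9) (Steps.bwd (nat_lit 6) (Steps.fwd (nat_lit 45056) (Steps.bwd (nat_lit 6) Steps.nil)))) (nat_lit 19) (nat_lit 0),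
  Rule.mk (nat_lit 8) (nat_lit 103) (Steps.fwd (nat_lit 36864) (Steps.bwd (nat_lit 4) (Steps.fwd (nat_lit 8192) (Steps.fwd (nat_lit 45056) (Steps.bwd (nat_lit 14) (Steps.bwd (nat_lit 6) Steps.nil)))))) (nat_lit 31) (nat_lit 3),
  Rule.mk (nat_lit 0) (nat_lit 88) (Steps.fwd (nat_lit 49152) (Steps.bwd (nat_lit 6) (Steps.bwd (nat_lit 14) (Steps.fwd (nat_lit 12288) (Steps.fwd (nat_lit 28672) Steps.nil))))) (nat_lit 16) (nat_lit 2),
  Rule.mk (nat_lit 7) (nat_lit 103) (Steps.fwd (nat_lit 24576) (Steps.bwd (nat_lit 13) (Steps.bwd (nat_lit 11) (Steps.fwd (nat_lit 4096) (Steps.fwd (nat_lit 16384) (Steps.fwd (nat_lit 40960) Steps.nil)))))) (nat_lit 30) (nat_lit 5),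
  Rule.mk (nat_lit 7) (nat_lit 148) (Steps.bwd (nat_lit 10) (Steps.fwd (nat_lit 32768) (Steps.bwd (nat_lit 10) (Steps.fwd (nat_lit 32768) (Steps.bwd (nat_lit 10) (Steps.bwd (nat_lit 7) (Steps.fwd (nat_lit 36864) (Steps.bwd (nat_lit 7) (Steps.fwd (nat_lit 36864) Steps.nil))))))))) (nat_lit 49) (nat_lit 0),
  Rule.mk (nat_lit 11) (nat_lit 103) (Steps.bwd (nat_lit 2) (Steps.fwd (nat_lit 16384) (Steps.fwd (nat_lit 40960) (Steps.bwd (nat_lit 7) (Steps.bwd (nat_lit 5) (Steps.fwd (nat_lit 57344) Steps.nil)))))) (nat_lit 30) (nat_lit 1),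
  Rule.mk (nat_lit 2) (nat_lit 148) (Steps.bwd (nat_lit 7) (Steps.fwd (nat_lit 40960) (Steps.bwd (nat_lit 8) (Steps.bwd (nat_lit 1) (Steps.fwd (nat_lit 8192) (Steps.fwd (nat_lit 8192) (Steps.bwd (nat_lit 4) (Steps.bwd (nat_lit 5) (Steps.fwd (nat_lit 16384) Steps.nil))))))))) (nat_lit 46) (nat_lit 8),
  Rule.mk (nat_lit 2) (nat_lit 88) (Steps.bwd (nat_lit 10) (Steps.fwd (nat_lit 28672) (Steps.bwd (nat_lit 9) (Steps.bwd (nat_lit 1) (Steps.fwd (nat_lit 16384) Steps.nil))))) (nat_lit 20) (nat_lit 3),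
  Rule.mk (nat_lit 1) (nat_lit 118) (Steps.fwd (nat_lit 8192) (Steps.bwd (nat_lit 4) (Steps.bwd (nat_lit 6) (Steps.fwd (nat_lit 49152) (Steps.bwd (nat_lit 13) (Steps.bwd (nat_lit 10) (Steps.bwd (nat_lit 8) Steps.nil))))))) (nat_lit 32) (nat_lit 1),
  Rule.mk (nat_lit 0) (nat_lit 88) (Steps.bwd (nat_lit 3) (Steps.bwd (nat_lit 5) (Steps.fwd (nat_lit 8192) (Steps.fwd (nat_lit 8192) (Steps.bwd (nat_lit 8) Steps.nil))))) (nat_lit 15) (nat_lit 4),
  Rule.mk (nat_lit 10) (nat_lit 73) (Steps.fwd (nat_lit 49152) (Steps.bwd (nat_lit 5) (Steps.bwd (nat_lit 11) (Steps.bwd (nat_lit 5) Steps.nil)))) (nat_lit 18) (nat_lit 0),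
  Rule.mk (nat_lit 12) (nat_lit 118) (Steps.bwd (nat_lit 5) (Steps.fwd (nat_lit 12288) (Steps.fwd (nat_lit 20480) (Steps.fwd (nat_lit 45056) (Steps.bwd (nat_lit 5) (Steps.bwd (nat_lit 4) (Steps.bwd (nat_lit 6) Steps.nil))))))) (nat_lit 35) (nat_lit 2),
  Rule.mk (nat_lit 14) (nat_lit 118) (Steps.bwd (nat_lit 12) (Steps.bwd (nat_lit 13) (Steps.bwd (nat_lit 10) (Steps.bwd (nat_lit 14) (Steps.fwd (nat_lit 45056) (Steps.fwd (nat_lit 57344) (Steps.fwd (nat_lit 36864) Steps.nil))))))) (nat_lit 37) (nat_lit 1),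
  Rule.mk (nat_lit 10) (nat_lit 118) (Steps.bwd (nat_lit 8) (Steps.fwd (nat_lit 53248) (Steps.bwd (nat_lit 12) (Steps.fwd (nat_lit 36864) (Steps.fwd (nat_lit 28672) (Steps.bwd (nat_lit 14) (Steps.bwd (nat_lit 12) Steps.nil))))))) (nat_lit 40) (nat_lit 0),
  Rule.mk (nat_lit 1) (nat_lit 118) (Steps.bwd (nat_lit 10) (Steps.bwd (nat_lit 8) (Steps.bwd (nat_lit 2) (Steps.fwd (nat_lit 4096) (Steps.fwd (nat_lit 32768) (Steps.bwd (nat_lit 2) (Steps.bwd (nat_lit 5) Steps.nil))))))) (nat_lit 42) (nat_lit 2),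
  Rule.mk (nat_lit 6) (nat_lit 88) (Steps.bwd (nat_lit 1) (Steps.bwd (nat_lit 7) (Steps.bwd (nat_lit 1) (Steps.bwd (nat_lit 4) (Steps.fwd (nat_lit 36864) Steps.nil))))) (nat_lit 22) (nat_lit 5),
  Rule.mk (nat_lit 1) (nat_lit 88) (Steps.fwd (nat_lit 32768) (Steps.bwd (nat_lit 1) (Steps.fwd (nat_lit 12288) (Steps.fwd (nat_lit 36864) (Steps.bwd (nat_lit 6) Steps.nil))))) (nat_lit 22) (nat_lit 0),
  Rule.mk (nat_lit 0) (nat_lit 133) (Steps.fwd (nat_lit 24576) (Steps.bwd (nat_lit 3) (Steps.bwd (nat_lit 6) (Steps.bwd (nat_lit 11) (Steps.fwd (nat_lit 24576) (Steps.fwd (nat_lit 16384) (Steps.fwd (nat_lit 20480) (Steps.fwd (nat_lit 49152) Steps.nil)))))))) (nat_lit 34) (nat_lit 3),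
  Rule.mk (nat_lit 10) (nat_lit 88) (Steps.fwd (nat_lit 49152) (Steps.fwd (nat_lit 53248) (Steps.bwd (nat_lit 11) (Steps.bwd (nat_lit 13) (Steps.fwd (nat_lit 45056) Steps.nil))))) (nat_lit 27) (nat_lit 4),
  Rule.mk (nat_lit 10) (nat_lit 118) (Steps.bwd (nat_lit 14) (Steps.bwd (nat_lit 12) (Steps.fwd (nat_lit 57344) (Steps.bwd (nat_lit 10) (Steps.fwd (nat_lit 53248) (Steps.bwd (nat_lit 12) (Steps.bwd (nat_lit 13) Steps.nil))))))) (nat_lit 37) (nat_lit 0),
  Rule.mk (nat_lit 8) (nat_lit 118) (Steps.fwd (nat_lit 4096) (Steps.fwd (nat_lit 4096) (Steps.bwd (nat_lit 7) (Steps.bwd (nat_lit 2) (Steps.bwd (nat_lit 5) (Steps.bwd (nat_lit 1) (Steps.bwd (nat_lit 10) Steps.nil))))))) (nat_lit 42) (nat_lit 4),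
  Rule.mk (nat_lit 14) (nat_lit 103) (Steps.fwd (nat_lit 20480) (Steps.bwd (nat_lit 8) (Steps.fwd (nat_lit 36864) (Steps.bwd (nat_lit 4) (Steps.bwd (nat_lit 1) (Steps.fwd (nat_lit 45056) Steps.nil)))))) (nat_lit 31) (nat_lit 1),
  Rule.mk (nat_lit 13) (nat_lit 118) (Steps.bwd (nat_lit 10) (Steps.bwd (nat_lit 8) (Steps.fwd (nat_lit 8192) (Steps.bwd (nat_lit 1) (Steps.fwd (nat_lit 12288) (Steps.fwd (nat_lit 20480) (Steps.bwd (nat_lit 11) Steps.nil))))))) (nat_lit 32) (nat_lit 6),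
  Rule.mk (nat_lit 13) (nat_lit 118) (Steps.fwd (nat_lit 36864) (Steps.fwd (nat_lit 53248) (Steps.fwd (nat_lit 45056) (Steps.bwd (nat_lit 13) (Steps.fwd (nat_lit 36864) (Steps.bwd (nat_lit 14) (Steps.fwd (nat_lit 45056) Steps.nil))))))) (nat_lit 37) (nat_lit 3),
  Rule.mk (nat_lit 0) (nat_lit 88) (Steps.bwd (nat_lit 12) (Steps.fwd (nat_lit 32768) (Steps.fwd (nat_lit 16384) (Steps.bwd (nat_lit 13) (Steps.bwd (nat_lit 5) Steps.nil))))) (nat_lit 17) (nat_lit 2),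
  Rule.mk (nat_lit 11) (nat_lit 118) (Steps.bwd (nat_lit 13) (Steps.fwd (nat_lit 36864) (Steps.bwd (nat_lit 8) (Steps.fwd (nat_lit 8192) (Steps.bwd (nat_lit 1) (Steps.fwd (nat_lit 12288) (Steps.fwd (nat_lit 20480) Steps.nil))))))) (nat_lit 32) (nat_lit 5),
  Rule.mk (nat_lit 0) (nat_lit 88) (Steps.fwd (nat_lit 28672) (Steps.bwd (nat_lit 11) (Steps.bwd (nat_lit 6) (Steps.fwd (nat_lit 53248) (Steps.fwd (nat_lit 12288) Steps.nil))))) (nat_lit 16) (nat_lit 1),
  Rule.mk (nat_lit 11) (nat_lit 118) (Steps.bwd (nat_lit 13) (Steps.bwd (nat_lit 9) (Steps.bwd (nat_lit 14) (Steps.fwd (nat_lit 49152) (Steps.bwd (nat_lit 13) (Steps.bwd (nat_lit 9) (Steps.bwd (nat_lit 14) Steps.nil))))))) (nat_lit 36) (nat_lit 3),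
  Rule.mk (nat_lit 5) (nat_lit 73) (Steps.fwd (nat_lit 49152) (Steps.bwd (nat_lit 5) (Steps.fwd (nat_lit 36864) (Steps.bwd (nat_lit 11) Steps.nil)))) (nat_lit 18) (nat_lit 2),
  Rule.mk (nat_lit 0) (nat_lit 163) (Steps.bwd (nat_lit 13) (Steps.fwd (nat_lit 45056) (Steps.bwd (nat_lit 13) (Steps.fwd (nat_lit 45056) (Steps.fwd (nat_lit 57344) (Steps.bwd (nat_lit 12) (Steps.fwd (nat_lit 57344) (Steps.fwd (nat_lit 45056) (Steps.fwd (nat_lit 57344) (Steps.fwd (nat_lit 45056) Steps.nil)))))))))) (nat_lit 50) (nat_lit 1),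
  Rule.mk (nat_lit 0) (nat_lit 58) (Steps.fwd (nat_lit 20480) (Steps.fwd (nat_lit 20480) (Steps.fwd (nat_lit 20480) Steps.nil))) (nat_lit 3) (nat_lit 0),
  Rule.mk (nat_lit 9) (nat_lit 103) (Steps.bwd (nat_lit 7) (Steps.bwd (nat_lit 5) (Steps.fwd (nat_lit 57344) (Steps.bwd (nat_lit 11) (Steps.bwd (nat_lit 2) (Steps.fwd (nat_lit 16384) Steps.nil)))))) (nat_lit 30) (nat_lit 4),
  Rule.mk (nat_lit 14) (nat_lit 88) (Steps.fwd (nat_lit 45056) (Steps.fwd (nat_lit 57344) (Steps.fwd (nat_lit 24576) (Steps.bwd (nat_lit 9) (Steps.fwd (nat_lit 20480) Steps.nil))))) (nat_lit 24) (nat_lit 3),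
  Rule.mk (nat_lit 7) (nat_lit 118) (Steps.bwd (nat_lit 9) (Steps.fwd (nat_lit 53248) (Steps.fwd (nat_lit 45056) (Steps.fwd (nat_lit 24576) (Steps.bwd (nat_lit 3) (Steps.fwd (nat_lit 4096) (Steps.fwd (nat_lit 4096) Steps.nil))))))) (nat_lit 33) (nat_lit 1),
  Rule.mk (nat_lit 13) (nat_lit 118) (Steps.bwd (nat_lit 7) (Steps.fwd (nat_lit 40960) (Steps.bwd (nat_lit 11) (Steps.fwd (nat_lit 57344) (Steps.bwd (nat_lit 7) (Steps.bwd (nat_lit 9) (Steps.bwd (nat_lit 11) Steps.nil))))))) (nat_lit 41) (nat_lit 3),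
  Rule.mk (nat_lit 0) (nat_lit 103) (Steps.bwd (nat_lit 9) (Steps.bwd (nat_lit 6) (Steps.fwd (nat_lit 53248) (Steps.fwd (nat_lit 45056) (Steps.bwd (nat_lit 13) (Steps.bwd (nat_lit 5) Steps.nil)))))) (nat_lit 24) (nat_lit 0),
  Rule.mk (nat_lit 11) (nat_lit 73) (Steps.bwd (nat_lit 5) (Steps.fwd (nat_lit 49152) (Steps.fwd (nat_lit 24576) (Steps.bwd (nat_lit 10) Steps.nil)))) (nat_lit 18) (nat_lit 1),
  Rule.mk (nat_lit 8) (nat_lit 103) (Steps.bwd (nat_lit 10) (Steps.fwd (nat_lit 12288) (Steps.bwd (nat_lit 1) (Steps.fwd (nat_lit 45056) (Steps.fwd (nat_lit 53248) (Steps.bwd (nat_lit 6) Steps.nil)))))) (nat_lit 31) (nat_lit 3),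
  Rule.mk (nat_lit 2) (nat_lit 148) (Steps.bwd (nat_lit 2) (Steps.bwd (nat_lit 2) (Steps.bwd (nat_lit 7) (Steps.fwd (nat_lit 36864) (Steps.fwd (nat_lit 28672) (Steps.bwd (nat_lit 1) (Steps.bwd (nat_lit 4) (Steps.fwd (nat_lit 20480) (Steps.fwd (nat_lit 16384) Steps.nil))))))))) (nat_lit 47) (nat_lit 7),
  Rule.mk (nat_lit 13) (nat_lit 148) (Steps.fwd (nat_lit 16384) (Steps.bwd (nat_lit 2) (Steps.bwd (nat_lit 2) (Steps.fwd (nat_lit 12288) (Steps.fwd (nat_lit 20480) (Steps.bwd (nat_lit 14) (Steps.fwd (nat_lit 45056) (Steps.bwd (nat_lit 5) (Steps.fwd (nat_lit 49152) Steps.nil))))))))) (nat_lit 52) (nat_lit 0),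
  Rule.mk (nat_lit 7) (nat_lit 73) (Steps.bwd (nat_lit 3) (Steps.bwd (nat_lit 13) (Steps.fwd (nat_lit 24576) (Steps.fwd (nat_lit 45056) Steps.nil)))) (nat_lit 17) (nat_lit 4),
  Rule.mk (nat_lit 14) (nat_lit 88) (Steps.fwd (nat_lit 49152) (Steps.bwd (nat_lit 13) (Steps.fwd (nat_lit 24576) (Steps.bwd (nat_lit 10) (Steps.fwd (nat_lit 20480) Steps.nil))))) (nat_lit 25) (nat_lit 2),
  Rule.mk (nat_lit 10) (nat_lit 103) (Steps.fwd (nat_lit 12288) (Steps.fwd (nat_lit 8192) (Steps.bwd (nat_lit 12) (Steps.bwd (nat_lit 14) (Steps.fwd (nat_lit 20480) (Steps.fwd (nat_lit 28672) Steps.nil)))))) (nat_lit 31) (nat_lit 4),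
  Rule.mk (nat_lit 7) (nat_lit 88) (Steps.fwd (nat_lit 40960) (Steps.fwd (nat_lit 8192) (Steps.bwd (nat_lit 4) (Steps.fwd (nat_lit 4096) (Steps.bwd (nat_lit 10) Steps.nil))))) (nat_lit 21) (nat_lit 2),
  Rule.mk (nat_lit 0) (nat_lit 133) (Steps.bwd (nat_lit 14) (Steps.bwd (nat_lit 10) (Steps.fwd (nat_lit 28672) (Steps.bwd (nat_lit 9) (Steps.bwd (nat_lit 14) (Steps.bwd (nat_lit 10) (Steps.fwd (nat_lit 28672) (Steps.fwd (nat_lit 40960) Steps.nil)))))))) (nat_lit 39) (nat_lit 3),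
  Rule.mk (nat_lit 8) (nat_lit 118) (Steps.bwd (nat_lit 1) (Steps.fwd (nat_lit 8192) (Steps.bwd (nat_lit 4) (Steps.bwd (nat_lit 6) (Steps.fwd (nat_lit 49152) (Steps.bwd (nat_lit 13) (Steps.bwd (nat_lit 10) Steps.nil))))))) (nat_lit 32) (nat_lit 0),
  Rule.mk (nat_lit 14) (nat_lit 118) (Steps.bwd (nat_lit 12) (Steps.bwd (nat_lit 13) (Steps.bwd (nat_lit 10) (Steps.bwd (nat_lit 14) (Steps.bwd (nat_lit 12) (Steps.bwd (nat_lit 13) (Steps.fwd (nat_lit 36864) Steps.nil))))))) (nat_lit 37) (nat_lit 1)]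
noncomputable def R_38 : List (Rule) := [Rule.mk (nat_lit 8) (nat_lit 118) (Steps.bwd (nat_lit 14) (Steps.bwd (nat_lit 12) (Steps.bwd (nat_lit 10) (Steps.fwd (nat_lit 28672) (Steps.bwd (nat_lit 14) (Steps.fwd (nat_lit 45056) (Steps.fwd (nat_lit 36864) Steps.nil))))))) (nat_lit 40) (nat_lit 1),
  Rule.mk (nat_lit 12) (nat_lit 88) (Steps.bwd (nat_lit 13) (Steps.bwd (nat_lit 5) (Steps.bwd (nat_lit 9) (Steps.fwd (nat_lit 20480) (Steps.bwd (nat_lit 14) Steps.nil))))) (nat_lit 24) (nat_lit 4),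
  Rule.mk (nat_lit 10) (nat_lit 118) (Steps.bwd (nat_lit 14) (Steps.bwd (nat_lit 12) (Steps.bwd (nat_lit 13) (Steps.bwd (nat_lit 10) (Steps.bwd (nat_lit 14) (Steps.bwd (nat_lit 12) (Steps.bwd (nat_lit 13) Steps.nil))))))) (nat_lit 37) (nat_lit 0),
  Rule.mk (nat_lit 0) (nat_lit 103) (Steps.bwd (nat_lit 11) (Steps.fwd (nat_lit 53248) (Steps.bwd (nat_lit 12) (Steps.fwd (nat_lit 57344) (Steps.bwd (nat_lit 12) (Steps.fwd (nat_lit 40960) Steps.nil)))))) (nat_lit 26) (nat_lit 3),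
  Rule.mk (nat_lit 12) (nat_lit 88) (Steps.bwd (nat_lit 10) (Steps.bwd (nat_lit 11) (Steps.bwd (nat_lit 14) (Steps.fwd (nat_lit 49152) (Steps.fwd (nat_lit 57344) Steps.nil))))) (nat_lit 27) (nat_lit 3),
  Rule.mk (nat_lit 13) (nat_lit 148) (Steps.bwd (nat_lit 12) (Steps.fwd (nat_lit 57344) (Steps.fwd (nat_lit 45056) (Steps.fwd (nat_lit 57344) (Steps.bwd (nat_lit 12) (Steps.bwd (nat_lit 13) (Steps.fwd (nat_lit 45056) (Steps.fwd (nat_lit 57344) (Steps.fwd (nat_lit 45056) Steps.nil))))))))) (nat_lit 50) (nat_lit 0),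
  Rule.mk (nat_lit 9) (nat_lit 88) (Steps.bwd (nat_lit 6) (Steps.fwd (nat_lit 53248) (Steps.fwd (nat_lit 45056) (Steps.bwd (nat_lit 13) (Steps.bwd (nat_lit 5) Steps.nil))))) (nat_lit 24) (nat_lit 1),
  Rule.mk (nat_lit 10) (nat_lit 118) (Steps.fwd (nat_lit 53248) (Steps.fwd (nat_lit 45056) (Steps.fwd (nat_lit 57344) (Steps.bwd (nat_lit 10) (Steps.fwd (nat_lit 53248) (Steps.fwd (nat_lit 45056) (Steps.bwd (nat_lit 13) Steps.nil))))))) (nat_lit 37) (nat_lit 0),
  Rule.mk (nat_lit 8) (nat_lit 118) (Steps.bwd (nat_lit 2) (Steps.bwd (nat_lit 2) (Steps.bwd (nat_lit 7) (Steps.bwd (nat_lit 2) (Steps.fwd (nat_lit 24576) (Steps.bwd (nat_lit 1) (Steps.bwd (nat_lit 10) Steps.nil))))))) (nat_lit 42) (nat_lit 4),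
  Rule.mk (nat_lit 13) (nat_lit 118) (Steps.bwd (nat_lit 9) (Steps.fwd (nat_lit 53248) (Steps.fwd (nat_lit 49152) (Steps.bwd (nat_lit 13) (Steps.bwd (nat_lit 9) (Steps.bwd (nat_lit 14) (Steps.fwd (nat_lit 49152) Steps.nil))))))) (nat_lit 36) (nat_lit 0),
  Rule.mk (nat_lit 0) (nat_lit 73) (Steps.bwd (nat_lit 5) (Steps.fwd (nat_lit 12288) (Steps.fwd (nat_lit 53248) (Steps.bwd (nat_lit 3) Steps.nil)))) (nat_lit 12) (nat_lit 1),
  Rule.mk (nat_lit 12) (nat_lit 88) (Steps.fwd (nat_lit 36864) (Steps.fwd (nat_lit 49152) (Steps.bwd (nat_lit 14) (Steps.fwd (nat_lit 49152) (Steps.bwd (nat_lit 13) Steps.nil))))) (nat_lit 27) (nat_lit 3),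
  Rule.mk (nat_lit 11) (nat_lit 103) (Steps.bwd (nat_lit 2) (Steps.fwd (nat_lit 16384) (Steps.fwd (nat_lit 40960) (Steps.fwd (nat_lit 32768) (Steps.bwd (nat_lit 5) (Steps.bwd (nat_lit 13) Steps.nil)))))) (nat_lit 30) (nat_lit 1),
  Rule.mk (nat_lit 7) (nat_lit 118) (Steps.bwd (nat_lit 9) (Steps.bwd (nat_lit 13) (Steps.bwd (nat_lit 10) (Steps.fwd (nat_lit 32768) (Steps.fwd (nat_lit 40960) (Steps.bwd (nat_lit 13) (Steps.fwd (nat_lit 36864) Steps.nil))))))) (nat_lit 38) (nat_lit 3),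
  Rule.mk (nat_lit 14) (nat_lit 118) (Steps.fwd (nat_lit 45056) (Steps.bwd (nat_lit 13) (Steps.bwd (nat_lit 10) (Steps.bwd (nat_lit 14) (Steps.bwd (nat_lit 12) (Steps.bwd (nat_lit 13) (Steps.fwd (nat_lit 36864) Steps.nil))))))) (nat_lit 37) (nat_lit 1),
  Rule.mk (nat_lit 0) (nat_lit 163) (Steps.fwd (nat_lit 4096) (Steps.bwd (nat_lit 2) (Steps.fwd (nat_lit 12288) (Steps.bwd (nat_lit 6) (Steps.bwd (nat_lit 14) (Steps.fwd (nat_lit 45056) (Steps.bwd (nat_lit 5) (Steps.bwd (nat_lit 11) (Steps.fwd (nat_lit 57344) (Steps.bwd (nat_lit 3) Steps.nil)))))))))) (nat_lit 52) (nat_lit 1),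
  Rule.mk (nat_lit 0) (nat_lit 88) (Steps.fwd (nat_lit 4096) (Steps.bwd (nat_lit 2) (Steps.bwd (nat_lit 6) (Steps.bwd (nat_lit 4) (Steps.bwd (nat_lit 7) Steps.nil))))) (nat_lit 14) (nat_lit 2),
  Rule.mk (nat_lit 0) (nat_lit 118) (Steps.bwd (nat_lit 3) (Steps.bwd (nat_lit 2) (Steps.fwd (nat_lit 28672) (Steps.bwd (nat_lit 3) (Steps.bwd (nat_lit 1) (Steps.fwd (nat_lit 8192) (Steps.bwd (nat_lit 1) Steps.nil))))))) (nat_lit 29) (nat_lit 6),
  Rule.mk (nat_lit 7) (nat_lit 118) (Steps.bwd (nat_lit 9) (Steps.fwd (nat_lit 53248) (Steps.fwd (nat_lit 45056) (Steps.fwd (nat_lit 24576) (Steps.fwd (nat_lit 16384) (Steps.fwd (nat_lit 4096) (Steps.bwd (nat_lit 2) Steps.nil))))))) (nat_lit 33) (nat_lit 1),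
  Rule.mk (nat_lit 6) (nat_lit 118) (Steps.fwd (nat_lit 8192) (Steps.bwd (nat_lit 8) (Steps.bwd (nat_lit 1) (Steps.fwd (nat_lit 8192) (Steps.bwd (nat_lit 7) (Steps.bwd (nat_lit 9) (Steps.bwd (nat_lit 2) Steps.nil))))))) (nat_lit 43) (nat_lit 0),
  Rule.mk (nat_lit 8) (nat_lit 148) (Steps.bwd (nat_lit 1) (Steps.bwd (nat_lit 1) (Steps.bwd (nat_lit 1) (Steps.fwd (nat_lit 12288) (Steps.fwd (nat_lit 24576) (Steps.fwd (nat_lit 16384) (Steps.bwd (nat_lit 2) (Steps.bwd (nat_lit 7) (Steps.bwd (nat_lit 9) Steps.nil))))))))) (nat_lit 46) (nat_lit 1),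
  Rule.mk (nat_lit 0) (nat_lit 103) (Steps.bwd (nat_lit 7) (Steps.fwd (nat_lit 8192) (Steps.bwd (nat_lit 4) (Steps.bwd (nat_lit 10) (Steps.bwd (nat_lit 6) (Steps.fwd (nat_lit 8192) Steps.nil)))))) (nat_lit 22) (nat_lit 0),
  Rule.mk (nat_lit 10) (nat_lit 88) (Steps.bwd (nat_lit 7) (Steps.fwd (nat_lit 40960) (Steps.bwd (nat_lit 1) (Steps.bwd (nat_lit 4) (Steps.bwd (nat_lit 2) Steps.nil))))) (nat_lit 21) (nat_lit 1),
  Rule.mk (nat_lit 5) (nat_lit 88) (Steps.bwd (nat_lit 10) (Steps.fwd (nat_lit 20480) (Steps.fwd (nat_lit 53248) (Steps.bwd (nat_lit 11) (Steps.fwd (nat_lit 57344) Steps.nil))))) (nat_lit 25) (nat_lit 5),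
  Rule.mk (nat_lit 8) (nat_lit 118) (Steps.bwd (nat_lit 2) (Steps.fwd (nat_lit 4096) (Steps.bwd (nat_lit 7) (Steps.fwd (nat_lit 4096) (Steps.fwd (nat_lit 24576) (Steps.fwd (nat_lit 8192) (Steps.bwd (nat_lit 10) Steps.nil))))))) (nat_lit 42) (nat_lit 4),
  Rule.mk (nat_lit 8) (nat_lit 133) (Steps.fwd (nat_lit 16384) (Steps.bwd (nat_lit 8) (Steps.fwd (nat_lit 16384) (Steps.bwd (nat_lit 11) (Steps.fwd (nat_lit 53248) (Steps.fwd (nat_lit 45056) (Steps.fwd (nat_lit 24576) (Steps.bwd (nat_lit 10) Steps.nil)))))))) (nat_lit 45) (nat_lit 6),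
  Rule.mk (nat_lit 1) (nat_lit 88) (Steps.bwd (nat_lit 3) (Steps.bwd (nat_lit 2) (Steps.bwd (nat_lit 10) (Steps.bwd (nat_lit 8) (Steps.fwd (nat_lit 40960) Steps.nil))))) (nat_lit 20) (nat_lit 1),
  Rule.mk (nat_lit 6) (nat_lit 118) (Steps.fwd (nat_lit 49152) (Steps.fwd (nat_lit 57344) (Steps.bwd (nat_lit 10) (Steps.bwd (nat_lit 8) (Steps.fwd (nat_lit 8192) (Steps.bwd (nat_lit 1) (Steps.bwd (nat_lit 4) Steps.nil))))))) (nat_lit 32) (nat_lit 4),
  Rule.mk (nat_lit 14) (nat_lit 118) (Steps.bwd (nat_lit 12) (Steps.bwd (nat_lit 10) (Steps.bwd (nat_lit 8) (Steps.fwd (nat_lit 53248) (Steps.fwd (nat_lit 45056) (Steps.bwd (nat_lit 10) (Steps.fwd (nat_lit 28672) Steps.nil))))))) (nat_lit 40) (nat_lit 2),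
  Rule.mk (nat_lit 0) (nat_lit 133) (Steps.bwd (nat_lit 1) (Steps.bwd (nat_lit 1) (Steps.fwd (nat_lit 32768) (Steps.fwd (nat_lit 40960) (Steps.fwd (nat_lit 4096) (Steps.bwd (nat_lit 6) (Steps.bwd (nat_lit 1) (Steps.bwd (nat_lit 8) Steps.nil)))))))) (nat_lit 43) (nat_lit 2),
  Rule.mk (nat_lit 3) (nat_lit 118) (Steps.fwd (nat_lit 4096) (Steps.bwd (nat_lit 2) (Steps.fwd (nat_lit 32768) (Steps.fwd (nat_lit 40960) (Steps.bwd (nat_lit 14) (Steps.fwd (nat_lit 45056) (Steps.bwd (nat_lit 5) Steps.nil))))))) (nat_lit 33) (nat_lit 6),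
  Rule.mk (nat_lit 5) (nat_lit 103) (Steps.fwd (nat_lit 57344) (Steps.bwd (nat_lit 11) (Steps.bwd (nat_lit 2) (Steps.fwd (nat_lit 16384) (Steps.fwd (nat_lit 40960) (Steps.bwd (nat_lit 7) Steps.nil)))))) (nat_lit 30) (nat_lit 6),
  Rule.mk (nat_lit 14) (nat_lit 118) (Steps.fwd (nat_lit 45056) (Steps.bwd (nat_lit 5) (Steps.fwd (nat_lit 16384) (Steps.bwd (nat_lit 2) (Steps.bwd (nat_lit 2) (Steps.bwd (nat_lit 7) (Steps.bwd (nat_lit 9) Steps.nil))))))) (nat_lit 33) (nat_lit 3),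
  Rule.mk (nat_lit 5) (nat_lit 118) (Steps.bwd (nat_lit 1) (Steps.fwd (nat_lit 36864) (Steps.fwd (nat_lit 28672) (Steps.bwd (nat_lit 2) (Steps.bwd (nat_lit 2) (Steps.bwd (nat_lit 7) (Steps.fwd (nat_lit 4096) Steps.nil))))))) (nat_lit 42) (nat_lit 1),
  Rule.mk (nat_lit 11) (nat_lit 103) (Steps.fwd (nat_lit 4096) (Steps.fwd (nat_lit 16384) (Steps.bwd (nat_lit 9) (Steps.fwd (nat_lit 32768) (Steps.bwd (nat_lit 5) (Steps.fwd (nat_lit 57344) Steps.nil)))))) (nat_lit 30) (nat_lit 1),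
  Rule.mk (nat_lit 0) (nat_lit 133) (Steps.bwd (nat_lit 11) (Steps.fwd (nat_lit 57344) (Steps.fwd (nat_lit 36864) (Steps.bwd (nat_lit 8) (Steps.fwd (nat_lit 8192) (Steps.bwd (nat_lit 1) (Steps.bwd (nat_lit 4) (Steps.fwd (nat_lit 20480) Steps.nil)))))))) (nat_lit 32) (nat_lit 4),
  Rule.mk (nat_lit 10) (nat_lit 88) (Steps.bwd (nat_lit 7) (Steps.bwd (nat_lit 9) (Steps.bwd (nat_lit 1) (Steps.fwd (nat_lit 12288) (Steps.fwd (nat_lit 4096) Steps.nil))))) (nat_lit 21) (nat_lit 1),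
  Rule.mk (nat_lit 5) (nat_lit 88) (Steps.bwd (nat_lit 9) (Steps.fwd (nat_lit 16384) (Steps.fwd (nat_lit 4096) (Steps.bwd (nat_lit 8) (Steps.fwd (nat_lit 4096) Steps.nil))))) (nat_lit 23) (nat_lit 2),
  Rule.mk (nat_lit 8) (nat_lit 118) (Steps.bwd (nat_lit 1) (Steps.bwd (nat_lit 1) (Steps.bwd (nat_lit 7) (Steps.bwd (nat_lit 9) (Steps.fwd (nat_lit 4096) (Steps.fwd (nat_lit 20480) (Steps.bwd (nat_lit 1) Steps.nil))))))) (nat_lit 43) (nat_lit 2),
  Rule.mk (nat_lit 11) (nat_lit 73) (Steps.bwd (nat_lit 5) (Steps.fwd (nat_lit 49152) (Steps.bwd (nat_lit 5) (Steps.fwd (nat_lit 36864) Steps.nil)))) (nat_lit 18) (nat_lit 1),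
  Rule.mk (nat_lit 12) (nat_lit 148) (Steps.bwd (nat_lit 5) (Steps.fwd (nat_lit 49152) (Steps.bwd (nat_lit 13) (Steps.fwd (nat_lit 16384) (Steps.bwd (nat_lit 2) (Steps.bwd (nat_lit 2) (Steps.bwd (nat_lit 4) (Steps.fwd (nat_lit 20480) (Steps.bwd (nat_lit 14) Steps.nil))))))))) (nat_lit 52) (nat_lit 7),
  Rule.mk (nat_lit 0) (nat_lit 88) (Steps.fwd (nat_lit 20480) (Steps.bwd (nat_lit 12) (Steps.bwd (nat_lit 6) (Steps.bwd (nat_lit 12) (Steps.bwd (nat_lit 9) Steps.nil))))) (nat_lit 19) (nat_lit 1),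
  Rule.mk (nat_lit 0) (nat_lit 163) (Steps.bwd (nat_lit 14) (Steps.fwd (nat_lit 45056) (Steps.bwd (nat_lit 5) (Steps.fwd (nat_lit 49152) (Steps.fwd (nat_lit 57344) (Steps.bwd (nat_lit 3) (Steps.fwd (nat_lit 4096) (Steps.bwd (nat_lit 2) (Steps.bwd (nat_lit 4) (Steps.bwd (nat_lit 6) Steps.nil)))))))))) (nat_lit 52) (nat_lit 5),
  Rule.mk (nat_lit 4) (nat_lit 103) (Steps.bwd (nat_lit 1) (Steps.bwd (nat_lit 12) (Steps.bwd (nat_lit 14) (Steps.fwd (nat_lit 20480) (Steps.fwd (nat_lit 28672) (Steps.fwd (nat_lit 36864) Steps.nil)))))) (nat_lit 31) (nat_lit 5),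
  Rule.mk (nat_lit 8) (nat_lit 118) (Steps.bwd (nat_lit 9) (Steps.bwd (nat_lit 14) (Steps.fwd (nat_lit 36864) (Steps.bwd (nat_lit 8) (Steps.bwd (nat_lit 9) (Steps.bwd (nat_lit 14) (Steps.fwd (nat_lit 36864) Steps.nil))))))) (nat_lit 39) (nat_lit 2),
  Rule.mk (nat_lit 0) (nat_lit 103) (Steps.bwd (nat_lit 9) (Steps.bwd (nat_lit 1) (Steps.bwd (nat_lit 4) (Steps.bwd (nat_lit 2) (Steps.fwd (nat_lit 36864) (Steps.fwd (nat_lit 32768) Steps.nil)))))) (nat_lit 21) (nat_lit 2),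
  Rule.mk (nat_lit 7) (nat_lit 88) (Steps.bwd (nat_lit 1) (Steps.bwd (nat_lit 4) (Steps.bwd (nat_lit 10) (Steps.fwd (nat_lit 20480) (Steps.bwd (nat_lit 1) Steps.nil))))) (nat_lit 22) (nat_lit 1),
  Rule.mk (nat_lit 9) (nat_lit 88) (Steps.fwd (nat_lit 8192) (Steps.bwd (nat_lit 4) (Steps.fwd (nat_lit 4096) (Steps.fwd (nat_lit 36864) (Steps.bwd (nat_lit 7) Steps.nil))))) (nat_lit 21) (nat_lit 3),
  Rule.mk (nat_lit 4) (nat_lit 148) (Steps.fwd (nat_lit 24576) (Steps.fwd (nat_lit 16384) (Steps.bwd (nat_lit 2) (Steps.bwd (nat_lit 7) (Steps.bwd (nat_lit 9) (Steps.bwd (nat_lit 8) (Steps.bwd (nat_lit 1) (Steps.bwd (nat_lit 1) (Steps.bwd (nat_lit 1) Steps.nil))))))))) (nat_lit 46) (nat_lit 5),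
  Rule.mk (nat_lit 1) (nat_lit 103) (Steps.fwd (nat_lit 12288) (Steps.fwd (nat_lit 4096) (Steps.fwd (nat_lit 4096) (Steps.fwd (nat_lit 4096) (Steps.bwd (nat_lit 4) (Steps.bwd (nat_lit 7) Steps.nil)))))) (nat_lit 28) (nat_lit 0),
  Rule.mk (nat_lit 12) (nat_lit 73) (Steps.fwd (nat_lit 32768) (Steps.bwd (nat_lit 3) (Steps.fwd (nat_lit 57344) (Steps.fwd (nat_lit 24576) Steps.nil)))) (nat_lit 17) (nat_lit 3),
  Rule.mk (nat_lit 1) (nat_lit 88) (Steps.bwd (nat_lit 3) (Steps.fwd (nat_lit 4096) (Steps.bwd (nat_lit 10) (Steps.fwd (nat_lit 28672) (Steps.fwd (nat_lit 40960) Steps.nil))))) (nat_lit 20) (nat_lit 1),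
  Rule.mk (nat_lit 8) (nat_lit 103) (Steps.fwd (nat_lit 16384) (Steps.fwd (nat_lit 8192) (Steps.fwd (nat_lit 8192) (Steps.bwd (nat_lit 1) (Steps.bwd (nat_lit 3) (Steps.fwd (nat_lit 4096) Steps.nil)))))) (nat_lit 29) (nat_lit 2),
  Rule.mk (nat_lit 0) (nat_lit 118) (Steps.bwd (nat_lit 3) (Steps.fwd (nat_lit 4096) (Steps.bwd (nat_lit 8) (Steps.bwd (nat_lit 3) (Steps.bwd (nat_lit 1) (Steps.bwd (nat_lit 1) (Steps.bwd (nat_lit 1) Steps.nil))))))) (nat_lit 29) (nat_lit 6),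
  Rule.mk (nat_lit 0) (nat_lit 88) (Steps.fwd (nat_lit 12288) (Steps.fwd (nat_lit 32768) (Steps.fwd (nat_lit 4096) (Steps.fwd (nat_lit 4096) (Steps.fwd (nat_lit 20480) Steps.nil))))) (nat_lit 14) (nat_lit 0),
  Rule.mk (nat_lit 6) (nat_lit 88) (Steps.fwd (nat_lit 53248) (Steps.bwd (nat_lit 11) (Steps.bwd (nat_lit 13) (Steps.bwd (nat_lit 5) (Steps.bwd (nat_lit 10) Steps.nil))))) (nat_lit 25) (nat_lit 1),
  Rule.mk (nat_lit 0) (nat_lit 163) (Steps.bwd (nat_lit 4) (Steps.bwd (nat_lit 14) (Steps.bwd (nat_lit 12) (Steps.fwd (nat_lit 20480) (Steps.bwd (nat_lit 11) (Steps.bwd (nat_lit 13) (Steps.bwd (nat_lit 5) (Steps.fwd (nat_lit 16384) (Steps.fwd (nat_lit 8192) (Steps.bwd (nat_lit 1) Steps.nil)))))))))) (nat_lit 53) (nat_lit 9),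
  Rule.mk (nat_lit 9) (nat_lit 88) (Steps.fwd (nat_lit 8192) (Steps.bwd (nat_lit 3) (Steps.fwd (nat_lit 4096) (Steps.fwd (nat_lit 36864) (Steps.bwd (nat_lit 8) Steps.nil))))) (nat_lit 20) (nat_lit 0),
  Rule.mk (nat_lit 12) (nat_lit 133) (Steps.bwd (nat_lit 5) (Steps.fwd (nat_lit 36864) (Steps.bwd (nat_lit 8) (Steps.bwd (nat_lit 3) (Steps.fwd (nat_lit 28672) (Steps.fwd (nat_lit 16384) (Steps.bwd (nat_lit 11) (Steps.fwd (nat_lit 53248) Steps.nil)))))))) (nat_lit 45) (nat_lit 3),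
  Rule.mk (nat_lit 5) (nat_lit 148) (Steps.fwd (nat_lit 16384) (Steps.bwd (nat_lit 1) (Steps.bwd (nat_lit 1) (Steps.bwd (nat_lit 4) (Steps.fwd (nat_lit 53248) (Steps.bwd (nat_lit 12) (Steps.bwd (nat_lit 6) (Steps.fwd (nat_lit 49152) (Steps.fwd (nat_lit 57344) Steps.nil))))))))) (nat_lit 53) (nat_lit 6),
  Rule.mk (nat_lit 10) (nat_lit 88) (Steps.bwd (nat_lit 6) (Steps.bwd (nat_lit 14) (Steps.fwd (nat_lit 49152) (Steps.fwd (nat_lit 57344) (Steps.bwd (nat_lit 5) Steps.nil))))) (nat_lit 25) (nat_lit 0),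
  Rule.mk (nat_lit 14) (nat_lit 118) (Steps.fwd (nat_lit 45056) (Steps.bwd (nat_lit 5) (Steps.fwd (nat_lit 16384) (Steps.bwd (nat_lit 2) (Steps.bwd (nat_lit 2) (Steps.fwd (nat_lit 32768) (Steps.fwd (nat_lit 40960) Steps.nil))))))) (nat_lit 33) (nat_lit 3),
  Rule.mk (nat_lit 8) (nat_lit 133) (Steps.fwd (nat_lit 16384) (Steps.bwd (nat_lit 8) (Steps.bwd (nat_lit 3) (Steps.fwd (nat_lit 49152) (Steps.bwd (nat_lit 14) (Steps.fwd (nat_lit 45056) (Steps.bwd (nat_lit 5) (Steps.bwd (nat_lit 10) Steps.nil)))))))) (nat_lit 45) (nat_lit 6),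
  Rule.mk (nat_lit 6) (nat_lit 73) (Steps.fwd (nat_lit 53248) (Steps.fwd (nat_lit 12288) (Steps.bwd (nat_lit 8) (Steps.fwd (nat_lit 49152) Steps.nil)))) (nat_lit 16) (nat_lit 4)]
noncomputable def R_39 : List (Rule) := [Rule.mk (nat_lit 13) (nat_lit 118) (Steps.bwd (nat_lit 10) (Steps.bwd (nat_lit 8) (Steps.bwd (nat_lit 1) (Steps.bwd (nat_lit 1) (Steps.fwd (nat_lit 12288) (Steps.fwd (nat_lit 20480) (Steps.bwd (nat_lit 11) Steps.nil))))))) (nat_lit 32) (nat_lit 6),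
  Rule.mk (nat_lit 2) (nat_lit 118) (Steps.bwd (nat_lit 6) (Steps.fwd (nat_lit 8192) (Steps.bwd (nat_lit 8) (Steps.bwd (nat_lit 1) (Steps.bwd (nat_lit 1) (Steps.bwd (nat_lit 7) (Steps.fwd (nat_lit 40960) Steps.nil))))))) (nat_lit 43) (nat_lit 7),
  Rule.mk (nat_lit 5) (nat_lit 118) (Steps.fwd (nat_lit 16384) (Steps.bwd (nat_lit 2) (Steps.bwd (nat_lit 2) (Steps.fwd (nat_lit 32768) (Steps.bwd (nat_lit 9) (Steps.bwd (nat_lit 14) (Steps.fwd (nat_lit 45056) Steps.nil))))))) (nat_lit 33) (nat_lit 5),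
  Rule.mk (nat_lit 8) (nat_lit 118) (Steps.bwd (nat_lit 2) (Steps.bwd (nat_lit 2) (Steps.fwd (nat_lit 32768) (Steps.bwd (nat_lit 2) (Steps.bwd (nat_lit 5) (Steps.fwd (nat_lit 8192) (Steps.fwd (nat_lit 36864) Steps.nil))))))) (nat_lit 42) (nat_lit 4),
  Rule.mk (nat_lit 8) (nat_lit 73) (Steps.fwd (nat_lit 49152) (Steps.bwd (nat_lit 6) (Steps.fwd (nat_lit 53248) (Steps.bwd (nat_lit 4) Steps.nil)))) (nat_lit 16) (nat_lit 2),
  Rule.mk (nat_lit 1) (nat_lit 103) (Steps.fwd (nat_lit 16384) (Steps.bwd (nat_lit 2) (Steps.fwd (nat_lit 28672) (Steps.fwd (nat_lit 16384) (Steps.bwd (nat_lit 1) (Steps.bwd (nat_lit 1) Steps.nil)))))) (nat_lit 29) (nat_lit 6),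
  Rule.mk (nat_lit 4) (nat_lit 103) (Steps.fwd (nat_lit 4096) (Steps.fwd (nat_lit 4096) (Steps.fwd (nat_lit 4096) (Steps.fwd (nat_lit 12288) (Steps.fwd (nat_lit 32768) (Steps.bwd (nat_lit 1) Steps.nil)))))) (nat_lit 28) (nat_lit 1),
  Rule.mk (nat_lit 9) (nat_lit 118) (Steps.bwd (nat_lit 2) (Steps.bwd (nat_lit 6) (Steps.bwd (nat_lit 1) (Steps.bwd (nat_lit 8) (Steps.fwd (nat_lit 8192) (Steps.fwd (nat_lit 8192) (Steps.fwd (nat_lit 32768) Steps.nil))))))) (nat_lit 43) (nat_lit 6),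
  Rule.mk (nat_lit 5) (nat_lit 88) (Steps.bwd (nat_lit 9) (Steps.fwd (nat_lit 16384) (Steps.bwd (nat_lit 2) (Steps.bwd (nat_lit 8) (Steps.fwd (nat_lit 4096) Steps.nil))))) (nat_lit 23) (nat_lit 2),
  Rule.mk (nat_lit 0) (nat_lit 103) (Steps.bwd (nat_lit 1) (Steps.fwd (nat_lit 16384) (Steps.fwd (nat_lit 4096) (Steps.fwd (nat_lit 36864) (Steps.bwd (nat_lit 8) (Steps.bwd (nat_lit 9) Steps.nil)))))) (nat_lit 20) (nat_lit 0),
  Rule.mk (nat_lit 10) (nat_lit 88) (Steps.bwd (nat_lit 6) (Steps.fwd (nat_lit 8192) (Steps.fwd (nat_lit 32768) (Steps.bwd (nat_lit 1) (Steps.bwd (nat_lit 4) Steps.nil))))) (nat_lit 22) (nat_lit 4),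
  Rule.mk (nat_lit 0) (nat_lit 118) (Steps.bwd (nat_lit 12) (Steps.fwd (nat_lit 53248) (Steps.fwd (nat_lit 20480) (Steps.bwd (nat_lit 8) (Steps.fwd (nat_lit 36864) (Steps.bwd (nat_lit 4) (Steps.bwd (nat_lit 1) Steps.nil))))))) (nat_lit 31) (nat_lit 6),
  Rule.mk (nat_lit 0) (nat_lit 103) (Steps.bwd (nat_lit 6) (Steps.fwd (nat_lit 53248) (Steps.fwd (nat_lit 45056) (Steps.bwd (nat_lit 13) (Steps.fwd (nat_lit 24576) (Steps.fwd (nat_lit 40960) Steps.nil)))))) (nat_lit 24) (nat_lit 1),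
  Rule.mk (nat_lit 12) (nat_lit 103) (Steps.bwd (nat_lit 14) (Steps.fwd (nat_lit 20480) (Steps.bwd (nat_lit 8) (Steps.bwd (nat_lit 10) (Steps.bwd (nat_lit 4) (Steps.bwd (nat_lit 1) Steps.nil)))))) (nat_lit 31) (nat_lit 0),
  Rule.mk (nat_lit 6) (nat_lit 73) (Steps.bwd (nat_lit 12) (Steps.fwd (nat_lit 20480) (Steps.fwd (nat_lit 45056) (Steps.fwd (nat_lit 40960) Steps.nil)))) (nat_lit 19) (nat_lit 2),
  Rule.mk (nat_lit 4) (nat_lit 148) (Steps.fwd (nat_lit 53248) (Steps.bwd (nat_lit 12) (Steps.fwd (nat_lit 20480) (Steps.fwd (nat_lit 49152) (Steps.fwd (nat_lit 57344) (Steps.bwd (nat_lit 5) (Steps.bwd (nat_lit 3) (Steps.bwd (nat_lit 1) (Steps.bwd (nat_lit 1) Steps.nil))))))))) (nat_lit 53) (nat_lit 0),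
  Rule.mk (nat_lit 10) (nat_lit 88) (Steps.fwd (nat_lit 20480) (Steps.fwd (nat_lit 8192) (Steps.fwd (nat_lit 32768) (Steps.bwd (nat_lit 1) (Steps.bwd (nat_lit 4) Steps.nil))))) (nat_lit 22) (nat_lit 4),
  Rule.mk (nat_lit 1) (nat_lit 103) (Steps.fwd (nat_lit 45056) (Steps.bwd (nat_lit 14) (Steps.bwd (nat_lit 6) (Steps.bwd (nat_lit 8) (Steps.bwd (nat_lit 10) (Steps.bwd (nat_lit 4) Steps.nil)))))) (nat_lit 31) (nat_lit 6),
  Rule.mk (nat_lit 0) (nat_lit 88) (Steps.bwd (nat_lit 7) (Steps.fwd (nat_lit 4096) (Steps.bwd (nat_lit 2) (Steps.fwd (nat_lit 20480) (Steps.fwd (nat_lit 12288) Steps.nil))))) (nat_lit 14) (nat_lit 1),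
  Rule.mk (nat_lit 8) (nat_lit 118) (Steps.fwd (nat_lit 8192) (Steps.bwd (nat_lit 1) (Steps.fwd (nat_lit 32768) (Steps.bwd (nat_lit 9) (Steps.fwd (nat_lit 4096) (Steps.fwd (nat_lit 20480) (Steps.bwd (nat_lit 1) Steps.nil))))))) (nat_lit 43) (nat_lit 2),
  Rule.mk (nat_lit 8) (nat_lit 73) (Steps.fwd (nat_lit 16384) (Steps.fwd (nat_lit 24576) (Steps.fwd (nat_lit 8192) (Steps.bwd (nat_lit 1) Steps.nil)))) (nat_lit 15) (nat_lit 4),
  Rule.mk (nat_lit 1) (nat_lit 73) (Steps.bwd (nat_lit 8) (Steps.bwd (nat_lit 3) (Steps.bwd (nat_lit 5) (Steps.bwd (nat_lit 1) Steps.nil)))) (nat_lit 15) (nat_lit 3),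
  Rule.mk (nat_lit 9) (nat_lit 103) (Steps.bwd (nat_lit 7) (Steps.fwd (nat_lit 24576) (Steps.bwd (nat_lit 13) (Steps.bwd (nat_lit 11) (Steps.bwd (nat_lit 2) (Steps.bwd (nat_lit 3) Steps.nil)))))) (nat_lit 30) (nat_lit 4),
  Rule.mk (nat_lit 2) (nat_lit 118) (Steps.fwd (nat_lit 4096) (Steps.bwd (nat_lit 7) (Steps.fwd (nat_lit 4096) (Steps.fwd (nat_lit 24576) (Steps.bwd (nat_lit 1) (Steps.fwd (nat_lit 36864) (Steps.fwd (nat_lit 28672) Steps.nil))))))) (nat_lit 42) (nat_lit 5),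
  Rule.mk (nat_lit 10) (nat_lit 148) (Steps.bwd (nat_lit 7) (Steps.fwd (nat_lit 36864) (Steps.bwd (nat_lit 7) (Steps.fwd (nat_lit 36864) (Steps.fwd (nat_lit 32768) (Steps.fwd (nat_lit 36864) (Steps.bwd (nat_lit 7) (Steps.fwd (nat_lit 36864) (Steps.bwd (nat_lit 7) Steps.nil))))))))) (nat_lit 49) (nat_lit 1),
  Rule.mk (nat_lit 6) (nat_lit 88) (Steps.fwd (nat_lit 8192) (Steps.bwd (nat_lit 7) (Steps.fwd (nat_lit 8192) (Steps.bwd (nat_lit 4) (Steps.bwd (nat_lit 10) Steps.nil))))) (nat_lit 22) (nat_lit 5),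
  Rule.mk (nat_lit 11) (nat_lit 118) (Steps.fwd (nat_lit 57344) (Steps.bwd (nat_lit 10) (Steps.bwd (nat_lit 8) (Steps.fwd (nat_lit 8192) (Steps.bwd (nat_lit 1) (Steps.bwd (nat_lit 4) (Steps.fwd (nat_lit 20480) Steps.nil))))))) (nat_lit 32) (nat_lit 5),
  Rule.mk (nat_lit 7) (nat_lit 118) (Steps.fwd (nat_lit 4096) (Steps.fwd (nat_lit 24576) (Steps.fwd (nat_lit 8192) (Steps.bwd (nat_lit 10) (Steps.bwd (nat_lit 8) (Steps.bwd (nat_lit 2) (Steps.fwd (nat_lit 4096) Steps.nil))))))) (nat_lit 42) (nat_lit 7),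
  Rule.mk (nat_lit 4) (nat_lit 73) (Steps.bwd (nat_lit 7) (Steps.fwd (nat_lit 4096) (Steps.fwd (nat_lit 4096) (Steps.bwd (nat_lit 6) Steps.nil)))) (nat_lit 14) (nat_lit 1),
  Rule.mk (nat_lit 5) (nat_lit 148) (Steps.bwd (nat_lit 3) (Steps.fwd (nat_lit 4096) (Steps.bwd (nat_lit 7) (Steps.bwd (nat_lit 9) (Steps.bwd (nat_lit 8) (Steps.bwd (nat_lit 1) (Steps.fwd (nat_lit 8192) (Steps.fwd (nat_lit 8192) (Steps.bwd (nat_lit 4) Steps.nil))))))))) (nat_lit 46) (nat_lit 6),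
  Rule.mk (nat_lit 13) (nat_lit 88) (Steps.bwd (nat_lit 5) (Steps.bwd (nat_lit 10) (Steps.fwd (nat_lit 20480) (Steps.bwd (nat_lit 14) (Steps.bwd (nat_lit 11) Steps.nil))))) (nat_lit 25) (nat_lit 4),
  Rule.mk (nat_lit 7) (nat_lit 103) (Steps.fwd (nat_lit 24576) (Steps.fwd (nat_lit 57344) (Steps.bwd (nat_lit 11) (Steps.fwd (nat_lit 4096) (Steps.bwd (nat_lit 3) (Steps.fwd (nat_lit 40960) Steps.nil)))))) (nat_lit 30) (nat_lit 5),
  Rule.mk (nat_lit 1) (nat_lit 88) (Steps.bwd (nat_lit 7) (Steps.bwd (nat_lit 1) (Steps.fwd (nat_lit 12288) (Steps.fwd (nat_lit 36864) (Steps.bwd (nat_lit 6) Steps.nil))))) (nat_lit 22) (nat_lit 0),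
  Rule.mk (nat_lit 4) (nat_lit 103) (Steps.bwd (nat_lit 7) (Steps.bwd (nat_lit 1) (Steps.fwd (nat_lit 12288) (Steps.fwd (nat_lit 4096) (Steps.fwd (nat_lit 4096) (Steps.fwd (nat_lit 4096) Steps.nil)))))) (nat_lit 28) (nat_lit 5),
  Rule.mk (nat_lit 8) (nat_lit 103) (Steps.bwd (nat_lit 10) (Steps.bwd (nat_lit 4) (Steps.bwd (nat_lit 1) (Steps.bwd (nat_lit 12) (Steps.bwd (nat_lit 14) (Steps.bwd (nat_lit 6) Steps.nil)))))) (nat_lit 31) (nat_lit 3),
  Rule.mk (nat_lit 10) (nat_lit 88) (Steps.bwd (nat_lit 8) (Steps.fwd (nat_lit 40960) (Steps.bwd (nat_lit 1) (Steps.fwd (nat_lit 16384) (Steps.bwd (nat_lit 2) Steps.nil))))) (nat_lit 20) (nat_lit 4),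
  Rule.mk (nat_lit 0) (nat_lit 133) (Steps.fwd (nat_lit 12288) (Steps.fwd (nat_lit 20480) (Steps.fwd (nat_lit 45056) (Steps.bwd (nat_lit 5) (Steps.bwd (nat_lit 4) (Steps.fwd (nat_lit 20480) (Steps.bwd (nat_lit 12) (Steps.fwd (nat_lit 24576) Steps.nil)))))))) (nat_lit 35) (nat_lit 3),
  Rule.mk (nat_lit 11) (nat_lit 148) (Steps.fwd (nat_lit 57344) (Steps.bwd (nat_lit 5) (Steps.bwd (nat_lit 3) (Steps.bwd (nat_lit 1) (Steps.bwd (nat_lit 1) (Steps.fwd (nat_lit 12288) (Steps.bwd (nat_lit 14) (Steps.fwd (nat_lit 45056) (Steps.bwd (nat_lit 6) Steps.nil))))))))) (nat_lit 53) (nat_lit 4),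
  Rule.mk (nat_lit 0) (nat_lit 103) (Steps.bwd (nat_lit 11) (Steps.fwd (nat_lit 57344) (Steps.fwd (nat_lit 45056) (Steps.fwd (nat_lit 36864) (Steps.bwd (nat_lit 11) (Steps.fwd (nat_lit 53248) Steps.nil)))))) (nat_lit 27) (nat_lit 0),
  Rule.mk (nat_lit 0) (nat_lit 133) (Steps.bwd (nat_lit 6) (Steps.fwd (nat_lit 49152) (Steps.fwd (nat_lit 57344) (Steps.fwd (nat_lit 36864) (Steps.bwd (nat_lit 8) (Steps.fwd (nat_lit 8192) (Steps.bwd (nat_lit 1) (Steps.fwd (nat_lit 12288) Steps.nil)))))))) (nat_lit 32) (nat_lit 3),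
  Rule.mk (nat_lit 8) (nat_lit 133) (Steps.bwd (nat_lit 3) (Steps.fwd (nat_lit 49152) (Steps.bwd (nat_lit 14) (Steps.fwd (nat_lit 45056) (Steps.fwd (nat_lit 24576) (Steps.fwd (nat_lit 36864) (Steps.bwd (nat_lit 8) (Steps.fwd (nat_lit 16384) Steps.nil)))))))) (nat_lit 45) (nat_lit 8),
  Rule.mk (nat_lit 3) (nat_lit 88) (Steps.fwd (nat_lit 4096) (Steps.bwd (nat_lit 8) (Steps.fwd (nat_lit 4096) (Steps.fwd (nat_lit 24576) (Steps.bwd (nat_lit 9) Steps.nil))))) (nat_lit 23) (nat_lit 4),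
  Rule.mk (nat_lit 0) (nat_lit 118) (Steps.bwd (nat_lit 3) (Steps.bwd (nat_lit 2) (Steps.bwd (nat_lit 8) (Steps.bwd (nat_lit 3) (Steps.bwd (nat_lit 1) (Steps.bwd (nat_lit 1) (Steps.bwd (nat_lit 1) Steps.nil))))))) (nat_lit 29) (nat_lit 6),
  Rule.mk (nat_lit 8) (nat_lit 148) (Steps.bwd (nat_lit 1) (Steps.bwd (nat_lit 4) (Steps.fwd (nat_lit 20480) (Steps.bwd (nat_lit 3) (Steps.fwd (nat_lit 4096) (Steps.fwd (nat_lit 4096) (Steps.fwd (nat_lit 4096) (Steps.fwd (nat_lit 32768) (Steps.bwd (nat_lit 10) Steps.nil))))))))) (nat_lit 47) (nat_lit 2),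
  Rule.mk (nat_lit 3) (nat_lit 148) (Steps.bwd (nat_lit 2) (Steps.bwd (nat_lit 7) (Steps.bwd (nat_lit 9) (Steps.bwd (nat_lit 8) (Steps.bwd (nat_lit 1) (Steps.bwd (nat_lit 1) (Steps.fwd (nat_lit 8192) (Steps.bwd (nat_lit 4) (Steps.bwd (nat_lit 5) Steps.nil))))))))) (nat_lit 46) (nat_lit 7),
  Rule.mk (nat_lit 4) (nat_lit 58) (Steps.bwd (nat_lit 14) (Steps.bwd (nat_lit 3) (Steps.bwd (nat_lit 5) Steps.nil))) (nat_lit 12) (nat_lit 3),
  Rule.mk (nat_lit 1) (nat_lit 88) (Steps.bwd (nat_lit 3) (Steps.bwd (nat_lit 2) (Steps.fwd (nat_lit 36864) (Steps.fwd (nat_lit 28672) (Steps.fwd (nat_lit 40960) Steps.nil))))) (nat_lit 20) (nat_lit 1),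
  Rule.mk (nat_lit 0) (nat_lit 73) (Steps.fwd (nat_lit 57344) (Steps.bwd (nat_lit 3) (Steps.fwd (nat_lit 20480) (Steps.bwd (nat_lit 4) Steps.nil)))) (nat_lit 13) (nat_lit 0),
  Rule.mk (nat_lit 13) (nat_lit 148) (Steps.bwd (nat_lit 3) (Steps.bwd (nat_lit 2) (Steps.fwd (nat_lit 4096) (Steps.bwd (nat_lit 4) (Steps.fwd (nat_lit 20480) (Steps.bwd (nat_lit 14) (Steps.fwd (nat_lit 45056) (Steps.bwd (nat_lit 5) (Steps.fwd (nat_lit 49152) Steps.nil))))))))) (nat_lit 52) (nat_lit 0),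
  Rule.mk (nat_lit 14) (nat_lit 88) (Steps.fwd (nat_lit 45056) (Steps.bwd (nat_lit 13) (Steps.bwd (nat_lit 5) (Steps.bwd (nat_lit 9) (Steps.fwd (nat_lit 20480) Steps.nil))))) (nat_lit 24) (nat_lit 3),
  Rule.mk (nat_lit 0) (nat_lit 103) (Steps.bwd (nat_lit 5) (Steps.fwd (nat_lit 40960) (Steps.fwd (nat_lit 20480) (Steps.fwd (nat_lit 53248) (Steps.bwd (nat_lit 12) (Steps.fwd (nat_lit 57344) Steps.nil)))))) (nat_lit 24) (nat_lit 5),
  Rule.mk (nat_lit 7) (nat_lit 103) (Steps.bwd (nat_lit 5) (Steps.bwd (nat_lit 13) (Steps.bwd (nat_lit 11) (Steps.bwd (nat_lit 2) (Steps.fwd (nat_lit 16384) (Steps.fwd (nat_lit 40960) Steps.nil)))))) (nat_lit 30) (nat_lit 5),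
  Rule.mk (nat_lit 0) (nat_lit 133) (Steps.bwd (nat_lit 14) (Steps.fwd (nat_lit 45056) (Steps.bwd (nat_lit 13) (Steps.fwd (nat_lit 36864) (Steps.fwd (nat_lit 53248) (Steps.fwd (nat_lit 45056) (Steps.fwd (nat_lit 57344) (Steps.fwd (nat_lit 36864) Steps.nil)))))))) (nat_lit 37) (nat_lit 0),
  Rule.mk (nat_lit 5) (nat_lit 88) (Steps.fwd (nat_lit 36864) (Steps.bwd (nat_lit 6) (Steps.fwd (nat_lit 53248) (Steps.bwd (nat_lit 11) (Steps.bwd (nat_lit 13) Steps.nil))))) (nat_lit 25) (nat_lit 5),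
  Rule.mk (nat_lit 4) (nat_lit 58) (Steps.fwd (nat_lit 53248) (Steps.fwd (nat_lit 16384) (Steps.bwd (nat_lit 5) Steps.nil))) (nat_lit 12) (nat_lit 3),
  Rule.mk (nat_lit 1) (nat_lit 73) (Steps.fwd (nat_lit 8192) (Steps.bwd (nat_lit 8) (Steps.fwd (nat_lit 16384) (Steps.bwd (nat_lit 5) Steps.nil)))) (nat_lit 15) (nat_lit 2),
  Rule.mk (nat_lit 9) (nat_lit 88) (Steps.fwd (nat_lit 20480) (Steps.fwd (nat_lit 53248) (Steps.bwd (nat_lit 12) (Steps.bwd (nat_lit 13) (Steps.bwd (nat_lit 5) Steps.nil))))) (nat_lit 24) (nat_lit 1),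
  Rule.mk (nat_lit 0) (nat_lit 118) (Steps.bwd (nat_lit 11) (Steps.bwd (nat_lit 2) (Steps.fwd (nat_lit 16384) (Steps.bwd (nat_lit 9) (Steps.fwd (nat_lit 32768) (Steps.bwd (nat_lit 5) (Steps.bwd (nat_lit 13) Steps.nil))))))) (nat_lit 30) (nat_lit 0),
  Rule.mk (nat_lit 0) (nat_lit 133) (Steps.bwd (nat_lit 7) (Steps.bwd (nat_lit 9) (Steps.fwd (nat_lit 4096) (Steps.fwd (nat_lit 20480) (Steps.bwd (nat_lit 1) (Steps.bwd (nat_lit 8) (Steps.bwd (nat_lit 1) (Steps.bwd (nat_lit 1) Steps.nil)))))))) (nat_lit 43) (nat_lit 4),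
  Rule.mk (nat_lit 4) (nat_lit 103) (Steps.fwd (nat_lit 4096) (Steps.fwd (nat_lit 4096) (Steps.bwd (nat_lit 2) (Steps.fwd (nat_lit 12288) (Steps.bwd (nat_lit 7) (Steps.bwd (nat_lit 1) Steps.nil)))))) (nat_lit 28) (nat_lit 1),
  Rule.mk (nat_lit 1) (nat_lit 88) (Steps.bwd (nat_lit 4) (Steps.fwd (nat_lit 36864) (Steps.bwd (nat_lit 6) (Steps.fwd (nat_lit 8192) (Steps.fwd (nat_lit 32768) Steps.nil))))) (nat_lit 22) (nat_lit 2),
  Rule.mk (nat_lit 14) (nat_lit 88) (Steps.fwd (nat_lit 49152) (Steps.fwd (nat_lit 57344) (Steps.bwd (nat_lit 5) (Steps.fwd (nat_lit 36864) (Steps.bwd (nat_lit 6) Steps.nil))))) (nat_lit 25) (nat_lit 2),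
  Rule.mk (nat_lit 9) (nat_lit 118) (Steps.fwd (nat_lit 4096) (Steps.bwd (nat_lit 6) (Steps.fwd (nat_lit 8192) (Steps.bwd (nat_lit 8) (Steps.bwd (nat_lit 1) (Steps.bwd (nat_lit 1) (Steps.bwd (nat_lit 7) Steps.nil))))))) (nat_lit 43) (nat_lit 6),
  Rule.mk (nat_lit 11) (nat_lit 118) (Steps.bwd (nat_lit 13) (Steps.bwd (nat_lit 7) (Steps.fwd (nat_lit 40960) (Steps.bwd (nat_lit 11) (Steps.fwd (nat_lit 57344) (Steps.bwd (nat_lit 7) (Steps.bwd (nat_lit 9) Steps.nil))))))) (nat_lit 41) (nat_lit 2)]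
noncomputable def R_40 : List (Rule) := [Rule.mk (nat_lit 6) (nat_lit 133) (Steps.bwd (nat_lit 11) (Steps.bwd (nat_lit 13) (Steps.fwd (nat_lit 45056) (Steps.fwd (nat_lit 12288) (Steps.fwd (nat_lit 32768) (Steps.bwd (nat_lit 4) (Steps.bwd (nat_lit 7) (Steps.fwd (nat_lit 40960) Steps.nil)))))))) (nat_lit 44) (nat_lit 6),
  Rule.mk (nat_lit 0) (nat_lit 103) (Steps.bwd (nat_lit 3) (Steps.bwd (nat_lit 2) (Steps.bwd (nat_lit 8) (Steps.fwd (nat_lit 4096) (Steps.fwd (nat_lit 24576) (Steps.fwd (nat_lit 40960) Steps.nil)))))) (nat_lit 23) (nat_lit 3),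
  Rule.mk (nat_lit 1) (nat_lit 88) (Steps.bwd (nat_lit 7) (Steps.fwd (nat_lit 8192) (Steps.bwd (nat_lit 4) (Steps.fwd (nat_lit 36864) (Steps.bwd (nat_lit 6) Steps.nil))))) (nat_lit 22) (nat_lit 0),
  Rule.mk (nat_lit 12) (nat_lit 133) (Steps.bwd (nat_lit 4) (Steps.bwd (nat_lit 7) (Steps.fwd (nat_lit 12288) (Steps.bwd (nat_lit 7) (Steps.bwd (nat_lit 9) (Steps.bwd (nat_lit 6) (Steps.fwd (nat_lit 49152) (Steps.bwd (nat_lit 13) Steps.nil)))))))) (nat_lit 44) (nat_lit 0),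
  Rule.mk (nat_lit 14) (nat_lit 103) (Steps.fwd (nat_lit 20480) (Steps.bwd (nat_lit 8) (Steps.bwd (nat_lit 10) (Steps.fwd (nat_lit 12288) (Steps.fwd (nat_lit 8192) (Steps.bwd (nat_lit 12) Steps.nil)))))) (nat_lit 31) (nat_lit 1),
  Rule.mk (nat_lit 5) (nat_lit 118) (Steps.fwd (nat_lit 12288) (Steps.bwd (nat_lit 6) (Steps.fwd (nat_lit 45056) (Steps.fwd (nat_lit 24576) (Steps.bwd (nat_lit 4) (Steps.bwd (nat_lit 6) (Steps.bwd (nat_lit 12) Steps.nil))))))) (nat_lit 35) (nat_lit 3),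
  Rule.mk (nat_lit 14) (nat_lit 88) (Steps.bwd (nat_lit 11) (Steps.fwd (nat_lit 57344) (Steps.bwd (nat_lit 12) (Steps.bwd (nat_lit 10) (Steps.fwd (nat_lit 49152) Steps.nil))))) (nat_lit 27) (nat_lit 0),
  Rule.mk (nat_lit 0) (nat_lit 133) (Steps.bwd (nat_lit 7) (Steps.fwd (nat_lit 40960) (Steps.bwd (nat_lit 11) (Steps.fwd (nat_lit 57344) (Steps.bwd (nat_lit 7) (Steps.fwd (nat_lit 40960) (Steps.fwd (nat_lit 49152) (Steps.fwd (nat_lit 57344) Steps.nil)))))))) (nat_lit 41) (nat_lit 3),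
  Rule.mk (nat_lit 0) (nat_lit 118) (Steps.fwd (nat_lit 4096) (Steps.fwd (nat_lit 4096) (Steps.fwd (nat_lit 4096) (Steps.fwd (nat_lit 12288) (Steps.bwd (nat_lit 7) (Steps.bwd (nat_lit 1) (Steps.fwd (nat_lit 12288) Steps.nil))))))) (nat_lit 28) (nat_lit 1),
  Rule.mk (nat_lit 10) (nat_lit 118) (Steps.bwd (nat_lit 8) (Steps.bwd (nat_lit 1) (Steps.bwd (nat_lit 1) (Steps.fwd (nat_lit 12288) (Steps.bwd (nat_lit 6) (Steps.fwd (nat_lit 49152) (Steps.bwd (nat_lit 13) Steps.nil))))))) (nat_lit 32) (nat_lit 7),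
  Rule.mk (nat_lit 6) (nat_lit 88) (Steps.bwd (nat_lit 1) (Steps.fwd (nat_lit 32768) (Steps.fwd (nat_lit 8192) (Steps.bwd (nat_lit 4) (Steps.bwd (nat_lit 10) Steps.nil))))) (nat_lit 22) (nat_lit 5),
  Rule.mk (nat_lit 4) (nat_lit 73) (Steps.fwd (nat_lit 32768) (Steps.fwd (nat_lit 4096) (Steps.fwd (nat_lit 4096) (Steps.bwd (nat_lit 6) Steps.nil)))) (nat_lit 14) (nat_lit 1),
  Rule.mk (nat_lit 11) (nat_lit 118) (Steps.bwd (nat_lit 5) (Steps.fwd (nat_lit 16384) (Steps.fwd (nat_lit 20480) (Steps.fwd (nat_lit 49152) (Steps.bwd (nat_lit 5) (Steps.fwd (nat_lit 16384) (Steps.bwd (nat_lit 6) Steps.nil))))))) (nat_lit 34) (nat_lit 3),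
  Rule.mk (nat_lit 0) (nat_lit 133) (Steps.fwd (nat_lit 49152) (Steps.fwd (nat_lit 24576) (Steps.bwd (nat_lit 3) (Steps.fwd (nat_lit 20480) (Steps.bwd (nat_lit 11) (Steps.bwd (nat_lit 5) (Steps.fwd (nat_lit 16384) (Steps.fwd (nat_lit 20480) Steps.nil)))))))) (nat_lit 34) (nat_lit 2),
  Rule.mk (nat_lit 9) (nat_lit 88) (Steps.fwd (nat_lit 49152) (Steps.bwd (nat_lit 14) (Steps.bwd (nat_lit 12) (Steps.bwd (nat_lit 13) (Steps.fwd (nat_lit 45056) Steps.nil))))) (nat_lit 26) (nat_lit 3),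
  Rule.mk (nat_lit 2) (nat_lit 103) (Steps.fwd (nat_lit 4096) (Steps.bwd (nat_lit 4) (Steps.fwd (nat_lit 32768) (Steps.bwd (nat_lit 1) (Steps.bwd (nat_lit 4) (Steps.bwd (nat_lit 2) Steps.nil)))))) (nat_lit 28) (nat_lit 3),
  Rule.mk (nat_lit 1) (nat_lit 103) (Steps.bwd (nat_lit 1) (Steps.fwd (nat_lit 8192) (Steps.fwd (nat_lit 16384) (Steps.bwd (nat_lit 2) (Steps.bwd (nat_lit 8) (Steps.bwd (nat_lit 3) Steps.nil)))))) (nat_lit 29) (nat_lit 4),
  Rule.mk (nat_lit 7) (nat_lit 118) (Steps.bwd (nat_lit 2) (Steps.bwd (nat_lit 5) (Steps.fwd (nat_lit 8192) (Steps.fwd (nat_lit 36864) (Steps.fwd (nat_lit 28672) (Steps.fwd (nat_lit 4096) (Steps.fwd (nat_lit 4096) Steps.nil))))))) (nat_lit 42) (nat_lit 7),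
  Rule.mk (nat_lit 0) (nat_lit 103) (Steps.bwd (nat_lit 5) (Steps.bwd (nat_lit 9) (Steps.fwd (nat_lit 16384) (Steps.bwd (nat_lit 2) (Steps.fwd (nat_lit 28672) (Steps.fwd (nat_lit 4096) Steps.nil)))))) (nat_lit 23) (nat_lit 1),
  Rule.mk (nat_lit 6) (nat_lit 148) (Steps.bwd (nat_lit 3) (Steps.bwd (nat_lit 2) (Steps.fwd (nat_lit 4096) (Steps.fwd (nat_lit 4096) (Steps.bwd (nat_lit 7) (Steps.bwd (nat_lit 10) (Steps.bwd (nat_lit 8) (Steps.fwd (nat_lit 8192) (Steps.fwd (nat_lit 12288) Steps.nil))))))))) (nat_lit 47) (nat_lit 5),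
  Rule.mk (nat_lit 0) (nat_lit 163) (Steps.bwd (nat_lit 7) (Steps.fwd (nat_lit 40960) (Steps.bwd (nat_lit 8) (Steps.bwd (nat_lit 1) (Steps.bwd (nat_lit 1) (Steps.bwd (nat_lit 1) (Steps.bwd (nat_lit 4) (Steps.fwd (nat_lit 24576) (Steps.fwd (nat_lit 16384) (Steps.fwd (nat_lit 4096) Steps.nil)))))))))) (nat_lit 46) (nat_lit 8),
  Rule.mk (nat_lit 14) (nat_lit 118) (Steps.bwd (nat_lit 11) (Steps.fwd (nat_lit 57344) (Steps.fwd (nat_lit 40960) (Steps.bwd (nat_lit 14) (Steps.fwd (nat_lit 49152) (Steps.bwd (nat_lit 13) (Steps.fwd (nat_lit 40960) Steps.nil))))))) (nat_lit 36) (nat_lit 2),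
  Rule.mk (nat_lit 0) (nat_lit 58) (Steps.fwd (nat_lit 53248) (Steps.bwd (nat_lit 14) (Steps.bwd (nat_lit 14) Steps.nil))) (nat_lit 11) (nat_lit 0),
  Rule.mk (nat_lit 11) (nat_lit 88) (Steps.bwd (nat_lit 14) (Steps.bwd (nat_lit 11) (Steps.fwd (nat_lit 57344) (Steps.bwd (nat_lit 12) (Steps.fwd (nat_lit 36864) Steps.nil))))) (nat_lit 27) (nat_lit 5),
  Rule.mk (nat_lit 9) (nat_lit 88) (Steps.bwd (nat_lit 11) (Steps.bwd (nat_lit 14) (Steps.bwd (nat_lit 12) (Steps.bwd (nat_lit 13) (Steps.fwd (nat_lit 45056) Steps.nil))))) (nat_lit 26) (nat_lit 3),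
  Rule.mk (nat_lit 14) (nat_lit 148) (Steps.bwd (nat_lit 11) (Steps.bwd (nat_lit 14) (Steps.bwd (nat_lit 11) (Steps.bwd (nat_lit 14) (Steps.bwd (nat_lit 11) (Steps.fwd (nat_lit 53248) (Steps.bwd (nat_lit 11) (Steps.fwd (nat_lit 53248) (Steps.fwd (nat_lit 49152) Steps.nil))))))))) (nat_lit 51) (nat_lit 1),
  Rule.mk (nat_lit 5) (nat_lit 118) (Steps.fwd (nat_lit 16384) (Steps.fwd (nat_lit 20480) (Steps.bwd (nat_lit 11) (Steps.bwd (nat_lit 5) (Steps.fwd (nat_lit 16384) (Steps.bwd (nat_lit 6) (Steps.bwd (nat_lit 11) Steps.nil))))))) (nat_lit 34) (nat_lit 0),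
  Rule.mk (nat_lit 10) (nat_lit 73) (Steps.fwd (nat_lit 49152) (Steps.fwd (nat_lit 24576) (Steps.bwd (nat_lit 11) (Steps.bwd (nat_lit 5) Steps.nil)))) (nat_lit 18) (nat_lit 0),
  Rule.mk (nat_lit 11) (nat_lit 88) (Steps.bwd (nat_lit 13) (Steps.fwd (nat_lit 45056) (Steps.bwd (nat_lit 10) (Steps.fwd (nat_lit 49152) (Steps.fwd (nat_lit 53248) Steps.nil))))) (nat_lit 27) (nat_lit 1),
  Rule.mk (nat_lit 10) (nat_lit 118) (Steps.fwd (nat_lit 53248) (Steps.fwd (nat_lit 45056) (Steps.bwd (nat_lit 13) (Steps.bwd (nat_lit 10) (Steps.bwd (nat_lit 14) (Steps.fwd (nat_lit 45056) (Steps.fwd (nat_lit 57344) Steps.nil))))))) (nat_lit 37) (nat_lit 0),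
  Rule.mk (nat_lit 8) (nat_lit 118) (Steps.bwd (nat_lit 9) (Steps.bwd (nat_lit 14) (Steps.bwd (nat_lit 10) (Steps.bwd (nat_lit 8) (Steps.bwd (nat_lit 9) (Steps.bwd (nat_lit 14) (Steps.bwd (nat_lit 10) Steps.nil))))))) (nat_lit 39) (nat_lit 2),
  Rule.mk (nat_lit 7) (nat_lit 148) (Steps.bwd (nat_lit 10) (Steps.bwd (nat_lit 8) (Steps.bwd (nat_lit 1) (Steps.bwd (nat_lit 4) (Steps.bwd (nat_lit 6) (Steps.fwd (nat_lit 16384) (Steps.fwd (nat_lit 4096) (Steps.fwd (nat_lit 4096) (Steps.bwd (nat_lit 2) Steps.nil))))))))) (nat_lit 47) (nat_lit 0),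
  Rule.mk (nat_lit 6) (nat_lit 103) (Steps.fwd (nat_lit 28672) (Steps.bwd (nat_lit 10) (Steps.fwd (nat_lit 12288) (Steps.fwd (nat_lit 8192) (Steps.bwd (nat_lit 12) (Steps.bwd (nat_lit 14) Steps.nil)))))) (nat_lit 31) (nat_lit 2),
  Rule.mk (nat_lit 14) (nat_lit 118) (Steps.bwd (nat_lit 12) (Steps.bwd (nat_lit 10) (Steps.fwd (nat_lit 28672) (Steps.fwd (nat_lit 53248) (Steps.bwd (nat_lit 12) (Steps.bwd (nat_lit 10) (Steps.bwd (nat_lit 8) Steps.nil))))))) (nat_lit 40) (nat_lit 2),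
  Rule.mk (nat_lit 0) (nat_lit 88) (Steps.fwd (nat_lit 57344) (Steps.bwd (nat_lit 5) (Steps.fwd (nat_lit 45056) (Steps.fwd (nat_lit 32768) (Steps.bwd (nat_lit 3) Steps.nil))))) (nat_lit 17) (nat_lit 0),
  Rule.mk (nat_lit 0) (nat_lit 88) (Steps.bwd (nat_lit 13) (Steps.bwd (nat_lit 5) (Steps.bwd (nat_lit 12) (Steps.bwd (nat_lit 7) (Steps.fwd (nat_lit 16384) Steps.nil))))) (nat_lit 17) (nat_lit 0),
  Rule.mk (nat_lit 7) (nat_lit 148) (Steps.bwd (nat_lit 10) (Steps.bwd (nat_lit 7) (Steps.bwd (nat_lit 10) (Steps.fwd (nat_lit 32768) (Steps.bwd (nat_lit 10) (Steps.bwd (nat_lit 7) (Steps.fwd (nat_lit 36864) (Steps.bwd (nat_lit 7) (Steps.fwd (nat_lit 36864) Steps.nil))))))))) (nat_lit 49) (nat_lit 0),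
  Rule.mk (nat_lit 4) (nat_lit 88) (Steps.fwd (nat_lit 36864) (Steps.bwd (nat_lit 6) (Steps.bwd (nat_lit 1) (Steps.bwd (nat_lit 7) (Steps.bwd (nat_lit 1) Steps.nil))))) (nat_lit 22) (nat_lit 3),
  Rule.mk (nat_lit 12) (nat_lit 118) (Steps.bwd (nat_lit 13) (Steps.bwd (nat_lit 10) (Steps.fwd (nat_lit 53248) (Steps.bwd (nat_lit 12) (Steps.bwd (nat_lit 13) (Steps.fwd (nat_lit 36864) (Steps.bwd (nat_lit 14) Steps.nil))))))) (nat_lit 37) (nat_lit 2),
  Rule.mk (nat_lit 7) (nat_lit 118) (Steps.bwd (nat_lit 9) (Steps.bwd (nat_lit 13) (Steps.bwd (nat_lit 10) (Steps.fwd (nat_lit 32768) (Steps.fwd (nat_lit 40960) (Steps.fwd (nat_lit 57344) (Steps.bwd (nat_lit 10) Steps.nil))))))) (nat_lit 38) (nat_lit 3),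
  Rule.mk (nat_lit 1) (nat_lit 118) (Steps.bwd (nat_lit 1) (Steps.bwd (nat_lit 4) (Steps.fwd (nat_lit 20480) (Steps.bwd (nat_lit 11) (Steps.fwd (nat_lit 57344) (Steps.bwd (nat_lit 10) (Steps.bwd (nat_lit 8) Steps.nil))))))) (nat_lit 32) (nat_lit 1),
  Rule.mk (nat_lit 1) (nat_lit 148) (Steps.bwd (nat_lit 1) (Steps.bwd (nat_lit 1) (Steps.bwd (nat_lit 4) (Steps.fwd (nat_lit 24576) (Steps.bwd (nat_lit 3) (Steps.fwd (nat_lit 4096) (Steps.bwd (nat_lit 7) (Steps.fwd (nat_lit 40960) (Steps.fwd (nat_lit 28672) Steps.nil))))))))) (nat_lit 46) (nat_lit 2),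
  Rule.mk (nat_lit 8) (nat_lit 133) (Steps.bwd (nat_lit 3) (Steps.bwd (nat_lit 11) (Steps.bwd (nat_lit 14) (Steps.bwd (nat_lit 12) (Steps.bwd (nat_lit 5) (Steps.fwd (nat_lit 36864) (Steps.bwd (nat_lit 8) (Steps.bwd (nat_lit 3) Steps.nil)))))))) (nat_lit 45) (nat_lit 8),
  Rule.mk (nat_lit 13) (nat_lit 148) (Steps.bwd (nat_lit 3) (Steps.fwd (nat_lit 4096) (Steps.fwd (nat_lit 4096) (Steps.fwd (nat_lit 12288) (Steps.fwd (nat_lit 20480) (Steps.bwd (nat_lit 14) (Steps.fwd (nat_lit 45056) (Steps.fwd (nat_lit 24576) (Steps.bwd (nat_lit 11) Steps.nil))))))))) (nat_lit 52) (nat_lit 0),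
  Rule.mk (nat_lit 10) (nat_lit 118) (Steps.fwd (nat_lit 28672) (Steps.fwd (nat_lit 8192) (Steps.bwd (nat_lit 1) (Steps.bwd (nat_lit 4) (Steps.fwd (nat_lit 20480) (Steps.bwd (nat_lit 11) (Steps.bwd (nat_lit 13) Steps.nil))))))) (nat_lit 32) (nat_lit 7),
  Rule.mk (nat_lit 12) (nat_lit 133) (Steps.bwd (nat_lit 4) (Steps.fwd (nat_lit 32768) (Steps.fwd (nat_lit 12288) (Steps.fwd (nat_lit 32768) (Steps.bwd (nat_lit 9) (Steps.fwd (nat_lit 20480) (Steps.bwd (nat_lit 11) (Steps.bwd (nat_lit 13) Steps.nil)))))))) (nat_lit 44) (nat_lit 0),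
  Rule.mk (nat_lit 14) (nat_lit 88) (Steps.bwd (nat_lit 11) (Steps.bwd (nat_lit 13) (Steps.bwd (nat_lit 12) (Steps.fwd (nat_lit 36864) (Steps.bwd (nat_lit 11) Steps.nil))))) (nat_lit 27) (nat_lit 0),
  Rule.mk (nat_lit 8) (nat_lit 118) (Steps.fwd (nat_lit 53248) (Steps.bwd (nat_lit 12) (Steps.bwd (nat_lit 10) (Steps.fwd (nat_lit 28672) (Steps.bwd (nat_lit 14) (Steps.fwd (nat_lit 45056) (Steps.fwd (nat_lit 36864) Steps.nil))))))) (nat_lit 40) (nat_lit 1),
  Rule.mk (nat_lit 8) (nat_lit 133) (Steps.bwd (nat_lit 3) (Steps.bwd (nat_lit 11) (Steps.fwd (nat_lit 53248) (Steps.fwd (nat_lit 45056) (Steps.fwd (nat_lit 24576) (Steps.fwd (nat_lit 36864) (Steps.bwd (nat_lit 8) (Steps.bwd (nat_lit 3) Steps.nil)))))))) (nat_lit 45) (nat_lit 8),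
  Rule.mk (nat_lit 2) (nat_lit 148) (Steps.fwd (nat_lit 32768) (Steps.fwd (nat_lit 40960) (Steps.bwd (nat_lit 8) (Steps.bwd (nat_lit 1) (Steps.bwd (nat_lit 1) (Steps.fwd (nat_lit 8192) (Steps.fwd (nat_lit 12288) (Steps.fwd (nat_lit 24576) (Steps.bwd (nat_lit 3) Steps.nil))))))))) (nat_lit 46) (nat_lit 8),
  Rule.mk (nat_lit 9) (nat_lit 88) (Steps.bwd (nat_lit 1) (Steps.bwd (nat_lit 3) (Steps.bwd (nat_lit 2) (Steps.fwd (nat_lit 36864) (Steps.bwd (nat_lit 8) Steps.nil))))) (nat_lit 20) (nat_lit 0),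
  Rule.mk (nat_lit 2) (nat_lit 118) (Steps.bwd (nat_lit 7) (Steps.fwd (nat_lit 4096) (Steps.bwd (nat_lit 5) (Steps.bwd (nat_lit 1) (Steps.fwd (nat_lit 36864) (Steps.bwd (nat_lit 8) (Steps.bwd (nat_lit 2) Steps.nil))))))) (nat_lit 42) (nat_lit 6),
  Rule.mk (nat_lit 0) (nat_lit 118) (Steps.bwd (nat_lit 2) (Steps.bwd (nat_lit 2) (Steps.bwd (nat_lit 4) (Steps.bwd (nat_lit 7) (Steps.fwd (nat_lit 8192) (Steps.fwd (nat_lit 12288) (Steps.fwd (nat_lit 4096) Steps.nil))))))) (nat_lit 28) (nat_lit 2),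
  Rule.mk (nat_lit 5) (nat_lit 118) (Steps.bwd (nat_lit 3) (Steps.fwd (nat_lit 4096) (Steps.bwd (nat_lit 2) (Steps.bwd (nat_lit 7) (Steps.bwd (nat_lit 9) (Steps.fwd (nat_lit 53248) (Steps.fwd (nat_lit 45056) Steps.nil))))))) (nat_lit 33) (nat_lit 5),
  Rule.mk (nat_lit 7) (nat_lit 118) (Steps.bwd (nat_lit 2) (Steps.fwd (nat_lit 24576) (Steps.fwd (nat_lit 8192) (Steps.fwd (nat_lit 36864) (Steps.fwd (nat_lit 28672) (Steps.bwd (nat_lit 2) (Steps.bwd (nat_lit 2) Steps.nil))))))) (nat_lit 42) (nat_lit 7),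
  Rule.mk (nat_lit 0) (nat_lit 88) (Steps.fwd (nat_lit 16384) (Steps.bwd (nat_lit 5) (Steps.bwd (nat_lit 1) (Steps.fwd (nat_lit 8192) (Steps.fwd (nat_lit 28672) Steps.nil))))) (nat_lit 15) (nat_lit 4),
  Rule.mk (nat_lit 10) (nat_lit 88) (Steps.fwd (nat_lit 20480) (Steps.bwd (nat_lit 1) (Steps.bwd (nat_lit 7) (Steps.bwd (nat_lit 1) (Steps.fwd (nat_lit 12288) Steps.nil))))) (nat_lit 22) (nat_lit 4),
  Rule.mk (nat_lit 3) (nat_lit 118) (Steps.fwd (nat_lit 4096) (Steps.fwd (nat_lit 4096) (Steps.fwd (nat_lit 32768) (Steps.bwd (nat_lit 9) (Steps.bwd (nat_lit 14) (Steps.fwd (nat_lit 45056) (Steps.bwd (nat_lit 5) Steps.nil))))))) (nat_lit 33) (nat_lit 6),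
  Rule.mk (nat_lit 2) (nat_lit 103) (Steps.fwd (nat_lit 28672) (Steps.bwd (nat_lit 3) (Steps.bwd (nat_lit 1) (Steps.bwd (nat_lit 1) (Steps.bwd (nat_lit 1) (Steps.fwd (nat_lit 16384) Steps.nil)))))) (nat_lit 29) (nat_lit 1),
  Rule.mk (nat_lit 9) (nat_lit 103) (Steps.bwd (nat_lit 7) (Steps.bwd (nat_lit 5) (Steps.bwd (nat_lit 13) (Steps.fwd (nat_lit 49152) (Steps.fwd (nat_lit 4096) (Steps.bwd (nat_lit 3) Steps.nil)))))) (nat_lit 30) (nat_lit 4),
  Rule.mk (nat_lit 11) (nat_lit 133) (Steps.bwd (nat_lit 14) (Steps.fwd (nat_lit 45056) (Steps.bwd (nat_lit 5) (Steps.fwd (nat_lit 36864) (Steps.bwd (nat_lit 8) (Steps.fwd (nat_lit 16384) (Steps.fwd (nat_lit 28672) (Steps.bwd (nat_lit 3) Steps.nil)))))))) (nat_lit 45) (nat_lit 1),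
  Rule.mk (nat_lit 9) (nat_lit 88) (Steps.bwd (nat_lit 11) (Steps.bwd (nat_lit 14) (Steps.fwd (nat_lit 45056) (Steps.bwd (nat_lit 13) (Steps.bwd (nat_lit 12) Steps.nil))))) (nat_lit 26) (nat_lit 3),
  Rule.mk (nat_lit 5) (nat_lit 88) (Steps.bwd (nat_lit 9) (Steps.fwd (nat_lit 20480) (Steps.fwd (nat_lit 53248) (Steps.bwd (nat_lit 12) (Steps.fwd (nat_lit 57344) Steps.nil))))) (nat_lit 24) (nat_lit 0),
  Rule.mk (nat_lit 3) (nat_lit 148) (Steps.bwd (nat_lit 1) (Steps.bwd (nat_lit 1) (Steps.fwd (nat_lit 12288) (Steps.fwd (nat_lit 53248) (Steps.bwd (nat_lit 12) (Steps.bwd (nat_lit 6) (Steps.fwd (nat_lit 49152) (Steps.fwd (nat_lit 57344) (Steps.bwd (nat_lit 5) Steps.nil))))))))) (nat_lit 53) (nat_lit 7)]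
noncomputable def R_41 : List (Rule) := [Rule.mk (nat_lit 8) (nat_lit 88) (Steps.bwd (nat_lit 2) (Steps.bwd (nat_lit 5) (Steps.bwd (nat_lit 9) (Steps.bwd (nat_lit 3) (Steps.bwd (nat_lit 2) Steps.nil))))) (nat_lit 23) (nat_lit 0),
  Rule.mk (nat_lit 9) (nat_lit 148) (Steps.bwd (nat_lit 8) (Steps.bwd (nat_lit 1) (Steps.bwd (nat_lit 1) (Steps.fwd (nat_lit 8192) (Steps.fwd (nat_lit 12288) (Steps.bwd (nat_lit 5) (Steps.bwd (nat_lit 3) (Steps.fwd (nat_lit 4096) (Steps.bwd (nat_lit 7) Steps.nil))))))))) (nat_lit 46) (nat_lit 0),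
  Rule.mk (nat_lit 1) (nat_lit 103) (Steps.bwd (nat_lit 12) (Steps.bwd (nat_lit 14) (Steps.bwd (nat_lit 6) (Steps.bwd (nat_lit 8) (Steps.fwd (nat_lit 36864) (Steps.bwd (nat_lit 4) Steps.nil)))))) (nat_lit 31) (nat_lit 6),
  Rule.mk (nat_lit 2) (nat_lit 88) (Steps.fwd (nat_lit 36864) (Steps.fwd (nat_lit 28672) (Steps.bwd (nat_lit 9) (Steps.bwd (nat_lit 1) (Steps.fwd (nat_lit 16384) Steps.nil))))) (nat_lit 20) (nat_lit 3),
  Rule.mk (nat_lit 2) (nat_lit 88) (Steps.fwd (nat_lit 28672) (Steps.bwd (nat_lit 2) (Steps.bwd (nat_lit 5) (Steps.bwd (nat_lit 9) (Steps.bwd (nat_lit 3) Steps.nil))))) (nat_lit 23) (nat_lit 5),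
  Rule.mk (nat_lit 3) (nat_lit 148) (Steps.bwd (nat_lit 2) (Steps.bwd (nat_lit 2) (Steps.bwd (nat_lit 4) (Steps.fwd (nat_lit 20480) (Steps.bwd (nat_lit 14) (Steps.bwd (nat_lit 12) (Steps.fwd (nat_lit 24576) (Steps.fwd (nat_lit 49152) (Steps.fwd (nat_lit 57344) Steps.nil))))))))) (nat_lit 52) (nat_lit 1),
  Rule.mk (nat_lit 6) (nat_lit 148) (Steps.bwd (nat_lit 3) (Steps.bwd (nat_lit 2) (Steps.bwd (nat_lit 2) (Steps.bwd (nat_lit 2) (Steps.bwd (nat_lit 7) (Steps.fwd (nat_lit 36864) (Steps.bwd (nat_lit 8) (Steps.bwd (nat_lit 1) (Steps.fwd (nat_lit 12288) Steps.nil))))))))) (nat_lit 47) (nat_lit 5),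
  Rule.mk (nat_lit 5) (nat_lit 103) (Steps.fwd (nat_lit 57344) (Steps.bwd (nat_lit 11) (Steps.fwd (nat_lit 4096) (Steps.bwd (nat_lit 3) (Steps.bwd (nat_lit 9) (Steps.bwd (nat_lit 7) Steps.nil)))))) (nat_lit 30) (nat_lit 6),
  Rule.mk (nat_lit 0) (nat_lit 103) (Steps.fwd (nat_lit 32768) (Steps.bwd (nat_lit 1) (Steps.bwd (nat_lit 4) (Steps.bwd (nat_lit 10) (Steps.fwd (nat_lit 20480) (Steps.bwd (nat_lit 1) Steps.nil)))))) (nat_lit 22) (nat_lit 0),
  Rule.mk (nat_lit 12) (nat_lit 148) (Steps.bwd (nat_lit 5) (Steps.bwd (nat_lit 11) (Steps.fwd (nat_lit 57344) (Steps.fwd (nat_lit 16384) (Steps.fwd (nat_lit 4096) (Steps.bwd (nat_lit 2) (Steps.fwd (nat_lit 12288) (Steps.fwd (nat_lit 20480) (Steps.fwd (nat_lit 53248) Steps.nil))))))))) (nat_lit 52) (nat_lit 7),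
  Rule.mk (nat_lit 9) (nat_lit 73) (Steps.fwd (nat_lit 20480) (Steps.fwd (nat_lit 45056) (Steps.fwd (nat_lit 20480) (Steps.bwd (nat_lit 12) Steps.nil)))) (nat_lit 19) (nat_lit 1),
  Rule.mk (nat_lit 5) (nat_lit 118) (Steps.fwd (nat_lit 12288) (Steps.bwd (nat_lit 6) (Steps.fwd (nat_lit 45056) (Steps.fwd (nat_lit 24576) (Steps.fwd (nat_lit 12288) (Steps.fwd (nat_lit 20480) (Steps.bwd (nat_lit 12) Steps.nil))))))) (nat_lit 35) (nat_lit 3),
  Rule.mk (nat_lit 1) (nat_lit 103) (Steps.fwd (nat_lit 8192) (Steps.fwd (nat_lit 8192) (Steps.bwd (nat_lit 3) (Steps.fwd (nat_lit 4096) (Steps.fwd (nat_lit 28672) (Steps.bwd (nat_lit 3) Steps.nil)))))) (nat_lit 29) (nat_lit 4),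
  Rule.mk (nat_lit 8) (nat_lit 148) (Steps.fwd (nat_lit 8192) (Steps.bwd (nat_lit 1) (Steps.fwd (nat_lit 8192) (Steps.bwd (nat_lit 4) (Steps.bwd (nat_lit 5) (Steps.fwd (nat_lit 16384) (Steps.fwd (nat_lit 4096) (Steps.fwd (nat_lit 32768) (Steps.bwd (nat_lit 9) Steps.nil))))))))) (nat_lit 46) (nat_lit 1),
  Rule.mk (nat_lit 5) (nat_lit 148) (Steps.fwd (nat_lit 16384) (Steps.fwd (nat_lit 4096) (Steps.bwd (nat_lit 7) (Steps.bwd (nat_lit 9) (Steps.fwd (nat_lit 28672) (Steps.bwd (nat_lit 1) (Steps.fwd (nat_lit 8192) (Steps.fwd (nat_lit 8192) (Steps.fwd (nat_lit 12288) Steps.nil))))))))) (nat_lit 46) (nat_lit 6),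
  Rule.mk (nat_lit 8) (nat_lit 133) (Steps.fwd (nat_lit 16384) (Steps.fwd (nat_lit 49152) (Steps.fwd (nat_lit 53248) (Steps.fwd (nat_lit 45056) (Steps.fwd (nat_lit 24576) (Steps.bwd (nat_lit 10) (Steps.fwd (nat_lit 28672) (Steps.bwd (nat_lit 3) Steps.nil)))))))) (nat_lit 45) (nat_lit 8),
  Rule.mk (nat_lit 0) (nat_lit 88) (Steps.fwd (nat_lit 20480) (Steps.bwd (nat_lit 4) (Steps.fwd (nat_lit 32768) (Steps.fwd (nat_lit 4096) (Steps.fwd (nat_lit 4096) Steps.nil))))) (nat_lit 14) (nat_lit 4),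
  Rule.mk (nat_lit 14) (nat_lit 88) (Steps.bwd (nat_lit 11) (Steps.fwd (nat_lit 57344) (Steps.bwd (nat_lit 5) (Steps.bwd (nat_lit 10) (Steps.bwd (nat_lit 6) Steps.nil))))) (nat_lit 25) (nat_lit 2),
  Rule.mk (nat_lit 13) (nat_lit 118) (Steps.fwd (nat_lit 36864) (Steps.bwd (nat_lit 14) (Steps.bwd (nat_lit 12) (Steps.fwd (nat_lit 57344) (Steps.bwd (nat_lit 10) (Steps.bwd (nat_lit 14) (Steps.fwd (nat_lit 45056) Steps.nil))))))) (nat_lit 37) (nat_lit 3),
  Rule.mk (nat_lit 8) (nat_lit 133) (Steps.fwd (nat_lit 16384) (Steps.bwd (nat_lit 8) (Steps.fwd (nat_lit 16384) (Steps.bwd (nat_lit 11) (Steps.bwd (nat_lit 14) (Steps.fwd (nat_lit 45056) (Steps.bwd (nat_lit 5) (Steps.fwd (nat_lit 36864) Steps.nil)))))))) (nat_lit 45) (nat_lit 6),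
  Rule.mk (nat_lit 3) (nat_lit 103) (Steps.bwd (nat_lit 2) (Steps.bwd (nat_lit 8) (Steps.fwd (nat_lit 16384) (Steps.bwd (nat_lit 1) (Steps.fwd (nat_lit 8192) (Steps.bwd (nat_lit 1) Steps.nil)))))) (nat_lit 29) (nat_lit 0),
  Rule.mk (nat_lit 3) (nat_lit 88) (Steps.bwd (nat_lit 2) (Steps.bwd (nat_lit 8) (Steps.bwd (nat_lit 2) (Steps.bwd (nat_lit 5) (Steps.bwd (nat_lit 9) Steps.nil))))) (nat_lit 23) (nat_lit 4),
  Rule.mk (nat_lit 7) (nat_lit 133) (Steps.bwd (nat_lit 9) (Steps.bwd (nat_lit 6) (Steps.bwd (nat_lit 11) (Steps.fwd (nat_lit 57344) (Steps.fwd (nat_lit 45056) (Steps.bwd (nat_lit 4) (Steps.bwd (nat_lit 7) (Steps.fwd (nat_lit 12288) Steps.nil)))))))) (nat_lit 44) (nat_lit 4),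
  Rule.mk (nat_lit 0) (nat_lit 118) (Steps.fwd (nat_lit 12288) (Steps.bwd (nat_lit 7) (Steps.fwd (nat_lit 8192) (Steps.fwd (nat_lit 12288) (Steps.bwd (nat_lit 2) (Steps.fwd (nat_lit 4096) (Steps.fwd (nat_lit 4096) Steps.nil))))))) (nat_lit 28) (nat_lit 4),
  Rule.mk (nat_lit 3) (nat_lit 148) (Steps.bwd (nat_lit 2) (Steps.bwd (nat_lit 2) (Steps.bwd (nat_lit 4) (Steps.fwd (nat_lit 20480) (Steps.bwd (nat_lit 14) (Steps.bwd (nat_lit 12) (Steps.fwd (nat_lit 24576) (Steps.bwd (nat_lit 11) (Steps.fwd (nat_lit 57344) Steps.nil))))))))) (nat_lit 52) (nat_lit 1),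
  Rule.mk (nat_lit 6) (nat_lit 58) (Steps.fwd (nat_lit 12288) (Steps.fwd (nat_lit 57344) (Steps.bwd (nat_lit 3) Steps.nil))) (nat_lit 13) (nat_lit 3),
  Rule.mk (nat_lit 1) (nat_lit 118) (Steps.bwd (nat_lit 1) (Steps.fwd (nat_lit 12288) (Steps.bwd (nat_lit 6) (Steps.bwd (nat_lit 11) (Steps.fwd (nat_lit 57344) (Steps.bwd (nat_lit 10) (Steps.bwd (nat_lit 8) Steps.nil))))))) (nat_lit 32) (nat_lit 1),
  Rule.mk (nat_lit 7) (nat_lit 118) (Steps.fwd (nat_lit 40960) (Steps.fwd (nat_lit 4096) (Steps.bwd (nat_lit 6) (Steps.bwd (nat_lit 1) (Steps.bwd (nat_lit 8) (Steps.bwd (nat_lit 1) (Steps.bwd (nat_lit 1) Steps.nil))))))) (nat_lit 43) (nat_lit 5),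
  Rule.mk (nat_lit 9) (nat_lit 88) (Steps.fwd (nat_lit 8192) (Steps.fwd (nat_lit 12288) (Steps.bwd (nat_lit 2) (Steps.bwd (nat_lit 10) (Steps.bwd (nat_lit 7) Steps.nil))))) (nat_lit 21) (nat_lit 3),
  Rule.mk (nat_lit 11) (nat_lit 133) (Steps.fwd (nat_lit 57344) (Steps.bwd (nat_lit 12) (Steps.bwd (nat_lit 4) (Steps.fwd (nat_lit 32768) (Steps.bwd (nat_lit 4) (Steps.bwd (nat_lit 7) (Steps.bwd (nat_lit 9) (Steps.fwd (nat_lit 20480) Steps.nil)))))))) (nat_lit 44) (nat_lit 7),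
  Rule.mk (nat_lit 3) (nat_lit 148) (Steps.bwd (nat_lit 1) (Steps.bwd (nat_lit 1) (Steps.bwd (nat_lit 4) (Steps.bwd (nat_lit 14) (Steps.fwd (nat_lit 45056) (Steps.fwd (nat_lit 20480) (Steps.bwd (nat_lit 11) (Steps.fwd (nat_lit 57344) (Steps.fwd (nat_lit 24576) Steps.nil))))))))) (nat_lit 53) (nat_lit 7),
  Rule.mk (nat_lit 0) (nat_lit 103) (Steps.bwd (nat_lit 9) (Steps.bwd (nat_lit 3) (Steps.fwd (nat_lit 4096) (Steps.fwd (nat_lit 28672) (Steps.bwd (nat_lit 2) (Steps.bwd (nat_lit 5) Steps.nil)))))) (nat_lit 23) (nat_lit 2),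
  Rule.mk (nat_lit 0) (nat_lit 133) (Steps.bwd (nat_lit 12) (Steps.bwd (nat_lit 5) (Steps.fwd (nat_lit 12288) (Steps.bwd (nat_lit 6) (Steps.bwd (nat_lit 12) (Steps.fwd (nat_lit 24576) (Steps.fwd (nat_lit 12288) (Steps.fwd (nat_lit 20480) Steps.nil)))))))) (nat_lit 35) (nat_lit 1),
  Rule.mk (nat_lit 9) (nat_lit 88) (Steps.bwd (nat_lit 3) (Steps.fwd (nat_lit 4096) (Steps.fwd (nat_lit 28672) (Steps.fwd (nat_lit 4096) (Steps.bwd (nat_lit 5) Steps.nil))))) (nat_lit 23) (nat_lit 3),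
  Rule.mk (nat_lit 7) (nat_lit 148) (Steps.fwd (nat_lit 36864) (Steps.bwd (nat_lit 8) (Steps.fwd (nat_lit 8192) (Steps.fwd (nat_lit 12288) (Steps.fwd (nat_lit 20480) (Steps.bwd (nat_lit 3) (Steps.fwd (nat_lit 4096) (Steps.bwd (nat_lit 2) (Steps.bwd (nat_lit 2) Steps.nil))))))))) (nat_lit 47) (nat_lit 0),
  Rule.mk (nat_lit 14) (nat_lit 88) (Steps.fwd (nat_lit 49152) (Steps.fwd (nat_lit 57344) (Steps.fwd (nat_lit 24576) (Steps.bwd (nat_lit 10) (Steps.bwd (nat_lit 6) Steps.nil))))) (nat_lit 25) (nat_lit 2),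
  Rule.mk (nat_lit 4) (nat_lit 73) (Steps.fwd (nat_lit 28672) (Steps.fwd (nat_lit 49152) (Steps.fwd (nat_lit 20480) (Steps.bwd (nat_lit 14) Steps.nil)))) (nat_lit 16) (nat_lit 1),
  Rule.mk (nat_lit 14) (nat_lit 148) (Steps.fwd (nat_lit 45056) (Steps.fwd (nat_lit 20480) (Steps.fwd (nat_lit 49152) (Steps.fwd (nat_lit 57344) (Steps.fwd (nat_lit 24576) (Steps.fwd (nat_lit 16384) (Steps.bwd (nat_lit 1) (Steps.fwd (nat_lit 8192) (Steps.bwd (nat_lit 4) Steps.nil))))))))) (nat_lit 53) (nat_lit 1),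
  Rule.mk (nat_lit 0) (nat_lit 58) (Steps.fwd (nat_lit 53248) (Steps.bwd (nat_lit 14) (Steps.fwd (nat_lit 53248) Steps.nil))) (nat_lit 11) (nat_lit 0),
  Rule.mk (nat_lit 11) (nat_lit 88) (Steps.bwd (nat_lit 14) (Steps.fwd (nat_lit 45056) (Steps.bwd (nat_lit 13) (Steps.bwd (nat_lit 12) (Steps.bwd (nat_lit 9) Steps.nil))))) (nat_lit 26) (nat_lit 4),
  Rule.mk (nat_lit 6) (nat_lit 88) (Steps.bwd (nat_lit 14) (Steps.bwd (nat_lit 11) (Steps.bwd (nat_lit 13) (Steps.fwd (nat_lit 24576) (Steps.fwd (nat_lit 36864) Steps.nil))))) (nat_lit 25) (nat_lit 1),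
  Rule.mk (nat_lit 11) (nat_lit 73) (Steps.fwd (nat_lit 24576) (Steps.bwd (nat_lit 10) (Steps.bwd (nat_lit 11) (Steps.bwd (nat_lit 5) Steps.nil)))) (nat_lit 18) (nat_lit 3),
  Rule.mk (nat_lit 11) (nat_lit 88) (Steps.fwd (nat_lit 53248) (Steps.bwd (nat_lit 11) (Steps.fwd (nat_lit 57344) (Steps.bwd (nat_lit 12) (Steps.fwd (nat_lit 36864) Steps.nil))))) (nat_lit 27) (nat_lit 5),
  Rule.mk (nat_lit 14) (nat_lit 88) (Steps.bwd (nat_lit 11) (Steps.bwd (nat_lit 13) (Steps.fwd (nat_lit 45056) (Steps.fwd (nat_lit 36864) (Steps.fwd (nat_lit 49152) Steps.nil))))) (nat_lit 27) (nat_lit 0),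
  Rule.mk (nat_lit 3) (nat_lit 133) (Steps.bwd (nat_lit 8) (Steps.fwd (nat_lit 16384) (Steps.bwd (nat_lit 11) (Steps.fwd (nat_lit 53248) (Steps.fwd (nat_lit 45056) (Steps.bwd (nat_lit 5) (Steps.bwd (nat_lit 10) (Steps.fwd (nat_lit 28672) Steps.nil)))))))) (nat_lit 45) (nat_lit 7),
  Rule.mk (nat_lit 3) (nat_lit 133) (Steps.fwd (nat_lit 28672) (Steps.bwd (nat_lit 3) (Steps.fwd (nat_lit 49152) (Steps.fwd (nat_lit 53248) (Steps.fwd (nat_lit 45056) (Steps.bwd (nat_lit 5) (Steps.bwd (nat_lit 10) (Steps.fwd (nat_lit 28672) Steps.nil)))))))) (nat_lit 45) (nat_lit 7),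
  Rule.mk (nat_lit 11) (nat_lit 88) (Steps.bwd (nat_lit 13) (Steps.bwd (nat_lit 5) (Steps.bwd (nat_lit 10) (Steps.bwd (nat_lit 6) (Steps.fwd (nat_lit 53248) Steps.nil))))) (nat_lit 25) (nat_lit 3),
  Rule.mk (nat_lit 8) (nat_lit 133) (Steps.bwd (nat_lit 3) (Steps.fwd (nat_lit 28672) (Steps.bwd (nat_lit 3) (Steps.fwd (nat_lit 49152) (Steps.fwd (nat_lit 53248) (Steps.fwd (nat_lit 45056) (Steps.fwd (nat_lit 24576) (Steps.bwd (nat_lit 10) Steps.nil)))))))) (nat_lit 45) (nat_lit 6),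
  Rule.mk (nat_lit 0) (nat_lit 118) (Steps.fwd (nat_lit 4096) (Steps.fwd (nat_lit 4096) (Steps.fwd (nat_lit 4096) (Steps.bwd (nat_lit 4) (Steps.bwd (nat_lit 7) (Steps.fwd (nat_lit 8192) (Steps.fwd (nat_lit 12288) Steps.nil))))))) (nat_lit 28) (nat_lit 1),
  Rule.mk (nat_lit 0) (nat_lit 88) (Steps.bwd (nat_lit 8) (Steps.bwd (nat_lit 3) (Steps.fwd (nat_lit 24576) (Steps.fwd (nat_lit 8192) (Steps.bwd (nat_lit 1) Steps.nil))))) (nat_lit 15) (nat_lit 3),
  Rule.mk (nat_lit 7) (nat_lit 118) (Steps.bwd (nat_lit 2) (Steps.fwd (nat_lit 24576) (Steps.bwd (nat_lit 1) (Steps.bwd (nat_lit 10) (Steps.bwd (nat_lit 8) (Steps.bwd (nat_lit 2) (Steps.fwd (nat_lit 4096) Steps.nil))))))) (nat_lit 42) (nat_lit 7),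
  Rule.mk (nat_lit 6) (nat_lit 73) (Steps.fwd (nat_lit 12288) (Steps.bwd (nat_lit 7) (Steps.bwd (nat_lit 2) (Steps.fwd (nat_lit 4096) Steps.nil)))) (nat_lit 14) (nat_lit 0),
  Rule.mk (nat_lit 0) (nat_lit 103) (Steps.fwd (nat_lit 8192) (Steps.fwd (nat_lit 16384) (Steps.fwd (nat_lit 4096) (Steps.fwd (nat_lit 36864) (Steps.bwd (nat_lit 8) (Steps.bwd (nat_lit 9) Steps.nil)))))) (nat_lit 20) (nat_lit 0),
  Rule.mk (nat_lit 1) (nat_lit 118) (Steps.bwd (nat_lit 8) (Steps.bwd (nat_lit 1) (Steps.bwd (nat_lit 1) (Steps.fwd (nat_lit 32768) (Steps.bwd (nat_lit 9) (Steps.bwd (nat_lit 2) (Steps.bwd (nat_lit 6) Steps.nil))))))) (nat_lit 43) (nat_lit 1),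
  Rule.mk (nat_lit 7) (nat_lit 118) (Steps.fwd (nat_lit 40960) (Steps.fwd (nat_lit 4096) (Steps.bwd (nat_lit 6) (Steps.bwd (nat_lit 1) (Steps.fwd (nat_lit 28672) (Steps.bwd (nat_lit 1) (Steps.fwd (nat_lit 8192) Steps.nil))))))) (nat_lit 43) (nat_lit 5),
  Rule.mk (nat_lit 4) (nat_lit 133) (Steps.bwd (nat_lit 7) (Steps.bwd (nat_lit 4) (Steps.fwd (nat_lit 32768) (Steps.fwd (nat_lit 40960) (Steps.bwd (nat_lit 6) (Steps.bwd (nat_lit 11) (Steps.fwd (nat_lit 57344) (Steps.bwd (nat_lit 12) Steps.nil)))))))) (nat_lit 44) (nat_lit 1),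
  Rule.mk (nat_lit 8) (nat_lit 148) (Steps.fwd (nat_lit 8192) (Steps.bwd (nat_lit 1) (Steps.bwd (nat_lit 1) (Steps.bwd (nat_lit 4) (Steps.fwd (nat_lit 24576) (Steps.bwd (nat_lit 3) (Steps.bwd (nat_lit 2) (Steps.fwd (nat_lit 32768) (Steps.bwd (nat_lit 9) Steps.nil))))))))) (nat_lit 46) (nat_lit 1),
  Rule.mk (nat_lit 1) (nat_lit 88) (Steps.fwd (nat_lit 16384) (Steps.bwd (nat_lit 2) (Steps.fwd (nat_lit 36864) (Steps.bwd (nat_lit 8) (Steps.bwd (nat_lit 9) Steps.nil))))) (nat_lit 20) (nat_lit 1),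
  Rule.mk (nat_lit 6) (nat_lit 103) (Steps.bwd (nat_lit 8) (Steps.fwd (nat_lit 36864) (Steps.fwd (nat_lit 12288) (Steps.bwd (nat_lit 1) (Steps.fwd (nat_lit 45056) (Steps.fwd (nat_lit 53248) Steps.nil)))))) (nat_lit 31) (nat_lit 2),
  Rule.mk (nat_lit 4) (nat_lit 118) (Steps.bwd (nat_lit 6) (Steps.bwd (nat_lit 11) (Steps.bwd (nat_lit 13) (Steps.fwd (nat_lit 36864) (Steps.bwd (nat_lit 8) (Steps.fwd (nat_lit 8192) (Steps.bwd (nat_lit 1) Steps.nil))))))) (nat_lit 32) (nat_lit 3),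
  Rule.mk (nat_lit 2) (nat_lit 118) (Steps.bwd (nat_lit 5) (Steps.bwd (nat_lit 1) (Steps.fwd (nat_lit 36864) (Steps.bwd (nat_lit 8) (Steps.fwd (nat_lit 4096) (Steps.bwd (nat_lit 2) (Steps.bwd (nat_lit 7) Steps.nil))))))) (nat_lit 42) (nat_lit 0),
  Rule.mk (nat_lit 3) (nat_lit 88) (Steps.bwd (nat_lit 2) (Steps.bwd (nat_lit 8) (Steps.bwd (nat_lit 2) (Steps.fwd (nat_lit 24576) (Steps.fwd (nat_lit 40960) Steps.nil))))) (nat_lit 23) (nat_lit 4),
  Rule.mk (nat_lit 0) (nat_lit 163) (Steps.bwd (nat_lit 1) (Steps.bwd (nat_lit 1) (Steps.bwd (nat_lit 1) (Steps.bwd (nat_lit 4) (Steps.fwd (nat_lit 24576) (Steps.bwd (nat_lit 3) (Steps.bwd (nat_lit 2) (Steps.fwd (nat_lit 32768) (Steps.bwd (nat_lit 9) (Steps.bwd (nat_lit 8) Steps.nil)))))))))) (nat_lit 46) (nat_lit 1),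
  Rule.mk (nat_lit 4) (nat_lit 103) (Steps.fwd (nat_lit 32768) (Steps.bwd (nat_lit 1) (Steps.fwd (nat_lit 12288) (Steps.fwd (nat_lit 4096) (Steps.bwd (nat_lit 2) (Steps.bwd (nat_lit 2) Steps.nil)))))) (nat_lit 28) (nat_lit 5)]
noncomputable def R_42 : List (Rule) := [Rule.mk (nat_lit 2) (nat_lit 118) (Steps.bwd (nat_lit 5) (Steps.bwd (nat_lit 1) (Steps.fwd (nat_lit 36864) (Steps.fwd (nat_lit 28672) (Steps.bwd (nat_lit 2) (Steps.fwd (nat_lit 4096) (Steps.fwd (nat_lit 32768) Steps.nil))))))) (nat_lit 42) (nat_lit 0),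
  Rule.mk (nat_lit 0) (nat_lit 103) (Steps.bwd (nat_lit 2) (Steps.bwd (nat_lit 5) (Steps.bwd (nat_lit 9) (Steps.bwd (nat_lit 3) (Steps.bwd (nat_lit 2) (Steps.bwd (nat_lit 8) Steps.nil)))))) (nat_lit 23) (nat_lit 0),
  Rule.mk (nat_lit 0) (nat_lit 163) (Steps.fwd (nat_lit 8192) (Steps.fwd (nat_lit 8192) (Steps.fwd (nat_lit 8192) (Steps.bwd (nat_lit 4) (Steps.fwd (nat_lit 24576) (Steps.bwd (nat_lit 3) (Steps.fwd (nat_lit 4096) (Steps.bwd (nat_lit 7) (Steps.bwd (nat_lit 9) (Steps.bwd (nat_lit 8) Steps.nil)))))))))) (nat_lit 46) (nat_lit 1),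
  Rule.mk (nat_lit 1) (nat_lit 148) (Steps.fwd (nat_lit 12288) (Steps.bwd (nat_lit 14) (Steps.fwd (nat_lit 45056) (Steps.bwd (nat_lit 6) (Steps.fwd (nat_lit 49152) (Steps.fwd (nat_lit 57344) (Steps.bwd (nat_lit 5) (Steps.fwd (nat_lit 16384) (Steps.fwd (nat_lit 8192) Steps.nil))))))))) (nat_lit 53) (nat_lit 9),
  Rule.mk (nat_lit 0) (nat_lit 88) (Steps.bwd (nat_lit 7) (Steps.fwd (nat_lit 4096) (Steps.bwd (nat_lit 2) (Steps.bwd (nat_lit 6) (Steps.bwd (nat_lit 4) Steps.nil))))) (nat_lit 14) (nat_lit 1),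
  Rule.mk (nat_lit 1) (nat_lit 73) (Steps.bwd (nat_lit 8) (Steps.fwd (nat_lit 16384) (Steps.bwd (nat_lit 5) (Steps.bwd (nat_lit 1) Steps.nil)))) (nat_lit 15) (nat_lit 3),
  Rule.mk (nat_lit 1) (nat_lit 88) (Steps.fwd (nat_lit 12288) (Steps.fwd (nat_lit 36864) (Steps.bwd (nat_lit 6) (Steps.bwd (nat_lit 1) (Steps.bwd (nat_lit 7) Steps.nil))))) (nat_lit 22) (nat_lit 2),
  Rule.mk (nat_lit 1) (nat_lit 103) (Steps.bwd (nat_lit 3) (Steps.fwd (nat_lit 4096) (Steps.bwd (nat_lit 8) (Steps.bwd (nat_lit 3) (Steps.bwd (nat_lit 1) (Steps.bwd (nat_lit 1) Steps.nil)))))) (nat_lit 29) (nat_lit 6),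
  Rule.mk (nat_lit 10) (nat_lit 103) (Steps.fwd (nat_lit 12288) (Steps.bwd (nat_lit 1) (Steps.fwd (nat_lit 45056) (Steps.bwd (nat_lit 14) (Steps.bwd (nat_lit 6) (Steps.bwd (nat_lit 8) Steps.nil)))))) (nat_lit 31) (nat_lit 4),
  Rule.mk (nat_lit 5) (nat_lit 73) (Steps.bwd (nat_lit 10) (Steps.fwd (nat_lit 49152) (Steps.bwd (nat_lit 5) (Steps.bwd (nat_lit 11) Steps.nil)))) (nat_lit 18) (nat_lit 4),
  Rule.mk (nat_lit 0) (nat_lit 103) (Steps.bwd (nat_lit 8) (Steps.fwd (nat_lit 40960) (Steps.bwd (nat_lit 1) (Steps.fwd (nat_lit 16384) (Steps.bwd (nat_lit 2) (Steps.fwd (nat_lit 36864) Steps.nil)))))) (nat_lit 20) (nat_lit 4),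
  Rule.mk (nat_lit 14) (nat_lit 118) (Steps.bwd (nat_lit 10) (Steps.bwd (nat_lit 8) (Steps.fwd (nat_lit 40960) (Steps.fwd (nat_lit 53248) (Steps.bwd (nat_lit 10) (Steps.fwd (nat_lit 28672) (Steps.fwd (nat_lit 40960) Steps.nil))))))) (nat_lit 39) (nat_lit 0),
  Rule.mk (nat_lit 1) (nat_lit 118) (Steps.fwd (nat_lit 8192) (Steps.fwd (nat_lit 12288) (Steps.bwd (nat_lit 6) (Steps.bwd (nat_lit 11) (Steps.bwd (nat_lit 13) (Steps.bwd (nat_lit 10) (Steps.bwd (nat_lit 8) Steps.nil))))))) (nat_lit 32) (nat_lit 1),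
  Rule.mk (nat_lit 2) (nat_lit 88) (Steps.fwd (nat_lit 36864) (Steps.bwd (nat_lit 8) (Steps.bwd (nat_lit 9) (Steps.bwd (nat_lit 1) (Steps.bwd (nat_lit 3) Steps.nil))))) (nat_lit 20) (nat_lit 3),
  Rule.mk (nat_lit 4) (nat_lit 103) (Steps.fwd (nat_lit 4096) (Steps.bwd (nat_lit 2) (Steps.fwd (nat_lit 4096) (Steps.bwd (nat_lit 4) (Steps.bwd (nat_lit 7) (Steps.bwd (nat_lit 1) Steps.nil)))))) (nat_lit 28) (nat_lit 1),
  Rule.mk (nat_lit 12) (nat_lit 103) (Steps.fwd (nat_lit 53248) (Steps.fwd (nat_lit 20480) (Steps.bwd (nat_lit 8) (Steps.fwd (nat_lit 36864) (Steps.fwd (nat_lit 12288) (Steps.bwd (nat_lit 1) Steps.nil)))))) (nat_lit 31) (nat_lit 0),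
  Rule.mk (nat_lit 0) (nat_lit 163) (Steps.fwd (nat_lit 16384) (Steps.fwd (nat_lit 4096) (Steps.fwd (nat_lit 4096) (Steps.fwd (nat_lit 12288) (Steps.bwd (nat_lit 6) (Steps.bwd (nat_lit 14) (Steps.bwd (nat_lit 12) (Steps.fwd (nat_lit 24576) (Steps.bwd (nat_lit 11) (Steps.bwd (nat_lit 13) Steps.nil)))))))))) (nat_lit 52) (nat_lit 0),
  Rule.mk (nat_lit 13) (nat_lit 103) (Steps.bwd (nat_lit 11) (Steps.bwd (nat_lit 2) (Steps.fwd (nat_lit 16384) (Steps.fwd (nat_lit 40960) (Steps.fwd (nat_lit 32768) (Steps.bwd (nat_lit 5) Steps.nil)))))) (nat_lit 30) (nat_lit 0),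
  Rule.mk (nat_lit 2) (nat_lit 118) (Steps.fwd (nat_lit 32768) (Steps.bwd (nat_lit 9) (Steps.fwd (nat_lit 53248) (Steps.fwd (nat_lit 45056) (Steps.bwd (nat_lit 5) (Steps.bwd (nat_lit 3) (Steps.bwd (nat_lit 2) Steps.nil))))))) (nat_lit 33) (nat_lit 0),
  Rule.mk (nat_lit 10) (nat_lit 118) (Steps.bwd (nat_lit 8) (Steps.fwd (nat_lit 4096) (Steps.fwd (nat_lit 4096) (Steps.fwd (nat_lit 32768) (Steps.bwd (nat_lit 2) (Steps.bwd (nat_lit 5) (Steps.fwd (nat_lit 8192) Steps.nil))))))) (nat_lit 42) (nat_lit 3),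
  Rule.mk (nat_lit 9) (nat_lit 148) (Steps.fwd (nat_lit 28672) (Steps.fwd (nat_lit 8192) (Steps.bwd (nat_lit 1) (Steps.bwd (nat_lit 1) (Steps.fwd (nat_lit 12288) (Steps.bwd (nat_lit 5) (Steps.bwd (nat_lit 3) (Steps.bwd (nat_lit 2) (Steps.fwd (nat_lit 32768) Steps.nil))))))))) (nat_lit 46) (nat_lit 0),
  Rule.mk (nat_lit 1) (nat_lit 148) (Steps.bwd (nat_lit 1) (Steps.fwd (nat_lit 12288) (Steps.bwd (nat_lit 14) (Steps.fwd (nat_lit 45056) (Steps.bwd (nat_lit 6) (Steps.fwd (nat_lit 49152) (Steps.fwd (nat_lit 57344) (Steps.bwd (nat_lit 5) (Steps.bwd (nat_lit 3) Steps.nil))))))))) (nat_lit 53) (nat_lit 8),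
  Rule.mk (nat_lit 9) (nat_lit 88) (Steps.bwd (nat_lit 1) (Steps.bwd (nat_lit 3) (Steps.fwd (nat_lit 4096) (Steps.fwd (nat_lit 36864) (Steps.fwd (nat_lit 28672) Steps.nil))))) (nat_lit 20) (nat_lit 0),
  Rule.mk (nat_lit 8) (nat_lit 103) (Steps.bwd (nat_lit 3) (Steps.bwd (nat_lit 1) (Steps.bwd (nat_lit 1) (Steps.fwd (nat_lit 8192) (Steps.fwd (nat_lit 16384) (Steps.bwd (nat_lit 2) Steps.nil)))))) (nat_lit 29) (nat_lit 2),
  Rule.mk (nat_lit 0) (nat_lit 118) (Steps.fwd (nat_lit 40960) (Steps.fwd (nat_lit 32768) (Steps.bwd (nat_lit 5) (Steps.fwd (nat_lit 57344) (Steps.fwd (nat_lit 49152) (Steps.fwd (nat_lit 4096) (Steps.fwd (nat_lit 16384) Steps.nil))))))) (nat_lit 30) (nat_lit 3),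
  Rule.mk (nat_lit 2) (nat_lit 118) (Steps.bwd (nat_lit 2) (Steps.fwd (nat_lit 32768) (Steps.fwd (nat_lit 4096) (Steps.bwd (nat_lit 5) (Steps.bwd (nat_lit 1) (Steps.bwd (nat_lit 10) (Steps.fwd (nat_lit 28672) Steps.nil))))))) (nat_lit 42) (nat_lit 5),
  Rule.mk (nat_lit 6) (nat_lit 118) (Steps.bwd (nat_lit 1) (Steps.bwd (nat_lit 8) (Steps.bwd (nat_lit 1) (Steps.fwd (nat_lit 8192) (Steps.bwd (nat_lit 7) (Steps.bwd (nat_lit 9) (Steps.fwd (nat_lit 4096) Steps.nil))))))) (nat_lit 43) (nat_lit 0),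
  Rule.mk (nat_lit 6) (nat_lit 148) (Steps.bwd (nat_lit 11) (Steps.bwd (nat_lit 13) (Steps.fwd (nat_lit 24576) (Steps.fwd (nat_lit 16384) (Steps.fwd (nat_lit 8192) (Steps.bwd (nat_lit 1) (Steps.fwd (nat_lit 12288) (Steps.bwd (nat_lit 14) (Steps.fwd (nat_lit 45056) Steps.nil))))))))) (nat_lit 53) (nat_lit 3),
  Rule.mk (nat_lit 7) (nat_lit 73) (Steps.fwd (nat_lit 16384) (Steps.bwd (nat_lit 13) (Steps.fwd (nat_lit 24576) (Steps.fwd (nat_lit 45056) Steps.nil)))) (nat_lit 17) (nat_lit 4),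
  Rule.mk (nat_lit 12) (nat_lit 133) (Steps.bwd (nat_lit 4) (Steps.bwd (nat_lit 7) (Steps.bwd (nat_lit 4) (Steps.fwd (nat_lit 32768) (Steps.fwd (nat_lit 40960) (Steps.fwd (nat_lit 20480) (Steps.bwd (nat_lit 11) (Steps.fwd (nat_lit 57344) Steps.nil)))))))) (nat_lit 44) (nat_lit 0),
  Rule.mk (nat_lit 7) (nat_lit 73) (Steps.bwd (nat_lit 3) (Steps.fwd (nat_lit 57344) (Steps.fwd (nat_lit 24576) (Steps.bwd (nat_lit 12) Steps.nil)))) (nat_lit 17) (nat_lit 4),
  Rule.mk (nat_lit 9) (nat_lit 88) (Steps.fwd (nat_lit 49152) (Steps.bwd (nat_lit 14) (Steps.fwd (nat_lit 45056) (Steps.fwd (nat_lit 57344) (Steps.bwd (nat_lit 12) Steps.nil))))) (nat_lit 26) (nat_lit 3),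
  Rule.mk (nat_lit 6) (nat_lit 73) (Steps.fwd (nat_lit 45056) (Steps.fwd (nat_lit 20480) (Steps.bwd (nat_lit 12) (Steps.fwd (nat_lit 40960) Steps.nil)))) (nat_lit 19) (nat_lit 2),
  Rule.mk (nat_lit 14) (nat_lit 103) (Steps.bwd (nat_lit 6) (Steps.bwd (nat_lit 8) (Steps.fwd (nat_lit 36864) (Steps.bwd (nat_lit 4) (Steps.bwd (nat_lit 1) (Steps.bwd (nat_lit 12) Steps.nil)))))) (nat_lit 31) (nat_lit 1),
  Rule.mk (nat_lit 5) (nat_lit 118) (Steps.fwd (nat_lit 12288) (Steps.fwd (nat_lit 20480) (Steps.bwd (nat_lit 12) (Steps.bwd (nat_lit 5) (Steps.bwd (nat_lit 4) (Steps.bwd (nat_lit 6) (Steps.fwd (nat_lit 45056) Steps.nil))))))) (nat_lit 35) (nat_lit 3),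
  Rule.mk (nat_lit 4) (nat_lit 148) (Steps.bwd (nat_lit 5) (Steps.fwd (nat_lit 16384) (Steps.bwd (nat_lit 2) (Steps.fwd (nat_lit 32768) (Steps.bwd (nat_lit 9) (Steps.fwd (nat_lit 28672) (Steps.fwd (nat_lit 8192) (Steps.bwd (nat_lit 1) (Steps.bwd (nat_lit 1) Steps.nil))))))))) (nat_lit 46) (nat_lit 5),
  Rule.mk (nat_lit 7) (nat_lit 133) (Steps.bwd (nat_lit 4) (Steps.fwd (nat_lit 32768) (Steps.bwd (nat_lit 9) (Steps.fwd (nat_lit 20480) (Steps.fwd (nat_lit 49152) (Steps.bwd (nat_lit 13) (Steps.fwd (nat_lit 45056) (Steps.fwd (nat_lit 12288) Steps.nil)))))))) (nat_lit 44) (nat_lit 2),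
  Rule.mk (nat_lit 9) (nat_lit 88) (Steps.bwd (nat_lit 11) (Steps.fwd (nat_lit 53248) (Steps.fwd (nat_lit 45056) (Steps.fwd (nat_lit 57344) (Steps.bwd (nat_lit 12) Steps.nil))))) (nat_lit 26) (nat_lit 3),
  Rule.mk (nat_lit 2) (nat_lit 88) (Steps.bwd (nat_lit 5) (Steps.bwd (nat_lit 9) (Steps.fwd (nat_lit 16384) (Steps.fwd (nat_lit 4096) (Steps.bwd (nat_lit 8) Steps.nil))))) (nat_lit 23) (nat_lit 1),
  Rule.mk (nat_lit 7) (nat_lit 118) (Steps.bwd (nat_lit 9) (Steps.bwd (nat_lit 11) (Steps.bwd (nat_lit 13) (Steps.fwd (nat_lit 32768) (Steps.fwd (nat_lit 40960) (Steps.fwd (nat_lit 49152) (Steps.fwd (nat_lit 57344) Steps.nil))))))) (nat_lit 41) (nat_lit 0),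
  Rule.mk (nat_lit 1) (nat_lit 103) (Steps.fwd (nat_lit 12288) (Steps.bwd (nat_lit 2) (Steps.fwd (nat_lit 4096) (Steps.fwd (nat_lit 4096) (Steps.bwd (nat_lit 4) (Steps.bwd (nat_lit 7) Steps.nil)))))) (nat_lit 28) (nat_lit 0),
  Rule.mk (nat_lit 14) (nat_lit 88) (Steps.fwd (nat_lit 45056) (Steps.bwd (nat_lit 13) (Steps.fwd (nat_lit 24576) (Steps.fwd (nat_lit 40960) (Steps.bwd (nat_lit 6) Steps.nil))))) (nat_lit 24) (nat_lit 3),
  Rule.mk (nat_lit 7) (nat_lit 118) (Steps.fwd (nat_lit 40960) (Steps.bwd (nat_lit 14) (Steps.bwd (nat_lit 12) (Steps.fwd (nat_lit 24576) (Steps.fwd (nat_lit 16384) (Steps.bwd (nat_lit 2) (Steps.bwd (nat_lit 2) Steps.nil))))))) (nat_lit 33) (nat_lit 1),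
  Rule.mk (nat_lit 13) (nat_lit 73) (Steps.fwd (nat_lit 24576) (Steps.fwd (nat_lit 45056) (Steps.bwd (nat_lit 7) (Steps.fwd (nat_lit 16384) Steps.nil)))) (nat_lit 17) (nat_lit 1),
  Rule.mk (nat_lit 4) (nat_lit 88) (Steps.bwd (nat_lit 2) (Steps.bwd (nat_lit 10) (Steps.bwd (nat_lit 7) (Steps.fwd (nat_lit 40960) (Steps.bwd (nat_lit 1) Steps.nil))))) (nat_lit 21) (nat_lit 5),
  Rule.mk (nat_lit 1) (nat_lit 118) (Steps.fwd (nat_lit 36864) (Steps.fwd (nat_lit 28672) (Steps.bwd (nat_lit 2) (Steps.bwd (nat_lit 2) (Steps.bwd (nat_lit 7) (Steps.bwd (nat_lit 2) (Steps.bwd (nat_lit 5) Steps.nil))))))) (nat_lit 42) (nat_lit 2),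
  Rule.mk (nat_lit 6) (nat_lit 88) (Steps.fwd (nat_lit 8192) (Steps.fwd (nat_lit 32768) (Steps.bwd (nat_lit 1) (Steps.fwd (nat_lit 12288) (Steps.bwd (nat_lit 10) Steps.nil))))) (nat_lit 22) (nat_lit 5),
  Rule.mk (nat_lit 8) (nat_lit 103) (Steps.bwd (nat_lit 10) (Steps.fwd (nat_lit 12288) (Steps.bwd (nat_lit 1) (Steps.bwd (nat_lit 12) (Steps.fwd (nat_lit 53248) (Steps.fwd (nat_lit 20480) Steps.nil)))))) (nat_lit 31) (nat_lit 3),
  Rule.mk (nat_lit 2) (nat_lit 88) (Steps.fwd (nat_lit 24576) (Steps.fwd (nat_lit 40960) (Steps.fwd (nat_lit 16384) (Steps.fwd (nat_lit 4096) (Steps.bwd (nat_lit 8) Steps.nil))))) (nat_lit 23) (nat_lit 1),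
  Rule.mk (nat_lit 3) (nat_lit 88) (Steps.bwd (nat_lit 2) (Steps.bwd (nat_lit 8) (Steps.bwd (nat_lit 2) (Steps.bwd (nat_lit 5) (Steps.fwd (nat_lit 40960) Steps.nil))))) (nat_lit 23) (nat_lit 4),
  Rule.mk (nat_lit 10) (nat_lit 88) (Steps.fwd (nat_lit 20480) (Steps.fwd (nat_lit 53248) (Steps.bwd (nat_lit 11) (Steps.bwd (nat_lit 13) (Steps.bwd (nat_lit 5) Steps.nil))))) (nat_lit 25) (nat_lit 0),
  Rule.mk (nat_lit 11) (nat_lit 88) (Steps.fwd (nat_lit 53248) (Steps.bwd (nat_lit 11) (Steps.bwd (nat_lit 13) (Steps.bwd (nat_lit 12) (Steps.fwd (nat_lit 36864) Steps.nil))))) (nat_lit 27) (nat_lit 5),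
  Rule.mk (nat_lit 4) (nat_lit 133) (Steps.bwd (nat_lit 7) (Steps.fwd (nat_lit 40960) (Steps.fwd (nat_lit 20480) (Steps.bwd (nat_lit 11) (Steps.bwd (nat_lit 13) (Steps.bwd (nat_lit 12) (Steps.fwd (nat_lit 12288) (Steps.fwd (nat_lit 32768) Steps.nil)))))))) (nat_lit 44) (nat_lit 3),
  Rule.mk (nat_lit 13) (nat_lit 148) (Steps.bwd (nat_lit 12) (Steps.bwd (nat_lit 13) (Steps.fwd (nat_lit 45056) (Steps.bwd (nat_lit 13) (Steps.fwd (nat_lit 45056) (Steps.fwd (nat_lit 57344) (Steps.bwd (nat_lit 12) (Steps.bwd (nat_lit 13) (Steps.bwd (nat_lit 12) Steps.nil))))))))) (nat_lit 50) (nat_lit 0),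
  Rule.mk (nat_lit 11) (nat_lit 88) (Steps.bwd (nat_lit 13) (Steps.fwd (nat_lit 24576) (Steps.bwd (nat_lit 10) (Steps.fwd (nat_lit 20480) (Steps.bwd (nat_lit 14) Steps.nil))))) (nat_lit 25) (nat_lit 3),
  Rule.mk (nat_lit 9) (nat_lit 88) (Steps.bwd (nat_lit 11) (Steps.fwd (nat_lit 53248) (Steps.bwd (nat_lit 12) (Steps.fwd (nat_lit 57344) (Steps.bwd (nat_lit 12) Steps.nil))))) (nat_lit 26) (nat_lit 3),
  Rule.mk (nat_lit 0) (nat_lit 118) (Steps.bwd (nat_lit 6) (Steps.fwd (nat_lit 28672) (Steps.fwd (nat_lit 36864) (Steps.bwd (nat_lit 4) (Steps.fwd (nat_lit 8192) (Steps.fwd (nat_lit 45056) (Steps.bwd (nat_lit 14) Steps.nil))))))) (nat_lit 31) (nat_lit 1),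
  Rule.mk (nat_lit 7) (nat_lit 148) (Steps.fwd (nat_lit 36864) (Steps.bwd (nat_lit 7) (Steps.fwd (nat_lit 36864) (Steps.fwd (nat_lit 32768) (Steps.bwd (nat_lit 10) (Steps.bwd (nat_lit 7) (Steps.bwd (nat_lit 10) (Steps.bwd (nat_lit 7) (Steps.fwd (nat_lit 36864) Steps.nil))))))))) (nat_lit 49) (nat_lit 0),
  Rule.mk (nat_lit 2) (nat_lit 73) (Steps.fwd (nat_lit 20480) (Steps.fwd (nat_lit 12288) (Steps.bwd (nat_lit 7) (Steps.fwd (nat_lit 4096) Steps.nil)))) (nat_lit 14) (nat_lit 4),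
  Rule.mk (nat_lit 10) (nat_lit 118) (Steps.bwd (nat_lit 7) (Steps.bwd (nat_lit 9) (Steps.fwd (nat_lit 57344) (Steps.fwd (nat_lit 36864) (Steps.bwd (nat_lit 7) (Steps.fwd (nat_lit 40960) (Steps.bwd (nat_lit 13) Steps.nil))))))) (nat_lit 38) (nat_lit 2),
  Rule.mk (nat_lit 0) (nat_lit 133) (Steps.bwd (nat_lit 9) (Steps.bwd (nat_lit 14) (Steps.fwd (nat_lit 36864) (Steps.bwd (nat_lit 8) (Steps.fwd (nat_lit 40960) (Steps.bwd (nat_lit 14) (Steps.bwd (nat_lit 10) (Steps.fwd (nat_lit 28672) Steps.nil)))))))) (nat_lit 39) (nat_lit 2),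
  Rule.mk (nat_lit 14) (nat_lit 118) (Steps.bwd (nat_lit 11) (Steps.fwd (nat_lit 57344) (Steps.bwd (nat_lit 9) (Steps.fwd (nat_lit 53248) (Steps.fwd (nat_lit 49152) (Steps.bwd (nat_lit 13) (Steps.bwd (nat_lit 9) Steps.nil))))))) (nat_lit 36) (nat_lit 2),
  Rule.mk (nat_lit 5) (nat_lit 148) (Steps.bwd (nat_lit 11) (Steps.fwd (nat_lit 57344) (Steps.fwd (nat_lit 16384) (Steps.fwd (nat_lit 4096) (Steps.fwd (nat_lit 4096) (Steps.fwd (nat_lit 12288) (Steps.bwd (nat_lit 6) (Steps.fwd (nat_lit 53248) (Steps.bwd (nat_lit 12) Steps.nil))))))))) (nat_lit 52) (nat_lit 8),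
  Rule.mk (nat_lit 0) (nat_lit 103) (Steps.bwd (nat_lit 9) (Steps.fwd (nat_lit 8192) (Steps.bwd (nat_lit 3) (Steps.bwd (nat_lit 2) (Steps.fwd (nat_lit 36864) (Steps.fwd (nat_lit 28672) Steps.nil)))))) (nat_lit 20) (nat_lit 5)]
noncomputable def R_43 : List (Rule) := [Rule.mk (nat_lit 0) (nat_lit 133) (Steps.fwd (nat_lit 36864) (Steps.fwd (nat_lit 53248) (Steps.bwd (nat_lit 12) (Steps.bwd (nat_lit 13) (Steps.bwd (nat_lit 10) (Steps.fwd (nat_lit 53248) (Steps.bwd (nat_lit 12) (Steps.bwd (nat_lit 13) Steps.nil)))))))) (nat_lit 37) (nat_lit 3),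
  Rule.mk (nat_lit 0) (nat_lit 133) (Steps.bwd (nat_lit 9) (Steps.bwd (nat_lit 11) (Steps.bwd (nat_lit 13) (Steps.bwd (nat_lit 7) (Steps.bwd (nat_lit 9) (Steps.fwd (nat_lit 49152) (Steps.bwd (nat_lit 13) (Steps.bwd (nat_lit 7) Steps.nil)))))))) (nat_lit 41) (nat_lit 0),
  Rule.mk (nat_lit 9) (nat_lit 88) (Steps.bwd (nat_lit 1) (Steps.fwd (nat_lit 16384) (Steps.fwd (nat_lit 4096) (Steps.bwd (nat_lit 10) (Steps.fwd (nat_lit 28672) Steps.nil))))) (nat_lit 20) (nat_lit 0),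
  Rule.mk (nat_lit 3) (nat_lit 133) (Steps.fwd (nat_lit 49152) (Steps.bwd (nat_lit 14) (Steps.fwd (nat_lit 45056) (Steps.bwd (nat_lit 5) (Steps.bwd (nat_lit 10) (Steps.fwd (nat_lit 28672) (Steps.bwd (nat_lit 3) (Steps.fwd (nat_lit 28672) Steps.nil)))))))) (nat_lit 45) (nat_lit 0),
  Rule.mk (nat_lit 13) (nat_lit 103) (Steps.bwd (nat_lit 11) (Steps.fwd (nat_lit 4096) (Steps.bwd (nat_lit 3) (Steps.bwd (nat_lit 9) (Steps.fwd (nat_lit 32768) (Steps.bwd (nat_lit 5) Steps.nil)))))) (nat_lit 30) (nat_lit 0),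
  Rule.mk (nat_lit 4) (nat_lit 103) (Steps.bwd (nat_lit 1) (Steps.bwd (nat_lit 12) (Steps.bwd (nat_lit 14) (Steps.fwd (nat_lit 20480) (Steps.bwd (nat_lit 8) (Steps.fwd (nat_lit 36864) Steps.nil)))))) (nat_lit 31) (nat_lit 5),
  Rule.mk (nat_lit 4) (nat_lit 148) (Steps.bwd (nat_lit 14) (Steps.bwd (nat_lit 12) (Steps.fwd (nat_lit 20480) (Steps.fwd (nat_lit 49152) (Steps.fwd (nat_lit 57344) (Steps.bwd (nat_lit 5) (Steps.bwd (nat_lit 3) (Steps.fwd (nat_lit 8192) (Steps.bwd (nat_lit 1) Steps.nil))))))))) (nat_lit 53) (nat_lit 0),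
  Rule.mk (nat_lit 2) (nat_lit 88) (Steps.bwd (nat_lit 10) (Steps.fwd (nat_lit 32768) (Steps.fwd (nat_lit 40960) (Steps.bwd (nat_lit 1) (Steps.bwd (nat_lit 4) Steps.nil))))) (nat_lit 21) (nat_lit 0),
  Rule.mk (nat_lit 9) (nat_lit 103) (Steps.fwd (nat_lit 32768) (Steps.fwd (nat_lit 24576) (Steps.fwd (nat_lit 57344) (Steps.fwd (nat_lit 49152) (Steps.bwd (nat_lit 2) (Steps.bwd (nat_lit 3) Steps.nil)))))) (nat_lit 30) (nat_lit 4),
  Rule.mk (nat_lit 7) (nat_lit 118) (Steps.bwd (nat_lit 2) (Steps.fwd (nat_lit 24576) (Steps.bwd (nat_lit 1) (Steps.bwd (nat_lit 10) (Steps.bwd (nat_lit 8) (Steps.fwd (nat_lit 4096) (Steps.fwd (nat_lit 4096) Steps.nil))))))) (nat_lit 42) (nat_lit 7),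
  Rule.mk (nat_lit 14) (nat_lit 118) (Steps.fwd (nat_lit 45056) (Steps.fwd (nat_lit 24576) (Steps.bwd (nat_lit 3) (Steps.fwd (nat_lit 4096) (Steps.fwd (nat_lit 4096) (Steps.bwd (nat_lit 7) (Steps.bwd (nat_lit 9) Steps.nil))))))) (nat_lit 33) (nat_lit 3),
  Rule.mk (nat_lit 12) (nat_lit 73) (Steps.bwd (nat_lit 9) (Steps.fwd (nat_lit 20480) (Steps.bwd (nat_lit 12) (Steps.fwd (nat_lit 20480) Steps.nil)))) (nat_lit 19) (nat_lit 0),
  Rule.mk (nat_lit 5) (nat_lit 88) (Steps.bwd (nat_lit 9) (Steps.fwd (nat_lit 20480) (Steps.fwd (nat_lit 53248) (Steps.bwd (nat_lit 12) (Steps.bwd (nat_lit 13) Steps.nil))))) (nat_lit 24) (nat_lit 0),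
  Rule.mk (nat_lit 13) (nat_lit 103) (Steps.fwd (nat_lit 49152) (Steps.fwd (nat_lit 4096) (Steps.fwd (nat_lit 16384) (Steps.bwd (nat_lit 9) (Steps.fwd (nat_lit 32768) (Steps.fwd (nat_lit 24576) Steps.nil)))))) (nat_lit 30) (nat_lit 0),
  Rule.mk (nat_lit 4) (nat_lit 133) (Steps.bwd (nat_lit 7) (Steps.bwd (nat_lit 9) (Steps.bwd (nat_lit 6) (Steps.fwd (nat_lit 49152) (Steps.bwd (nat_lit 13) (Steps.bwd (nat_lit 12) (Steps.bwd (nat_lit 4) (Steps.fwd (nat_lit 32768) Steps.nil)))))))) (nat_lit 44) (nat_lit 3),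
  Rule.mk (nat_lit 14) (nat_lit 148) (Steps.bwd (nat_lit 12) (Steps.bwd (nat_lit 6) (Steps.fwd (nat_lit 49152) (Steps.bwd (nat_lit 13) (Steps.fwd (nat_lit 24576) (Steps.bwd (nat_lit 3) (Steps.fwd (nat_lit 8192) (Steps.bwd (nat_lit 1) (Steps.fwd (nat_lit 12288) Steps.nil))))))))) (nat_lit 53) (nat_lit 1),
  Rule.mk (nat_lit 8) (nat_lit 103) (Steps.bwd (nat_lit 10) (Steps.fwd (nat_lit 12288) (Steps.fwd (nat_lit 8192) (Steps.fwd (nat_lit 45056) (Steps.bwd (nat_lit 14) (Steps.fwd (nat_lit 20480) Steps.nil)))))) (nat_lit 31) (nat_lit 3),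
  Rule.mk (nat_lit 10) (nat_lit 118) (Steps.bwd (nat_lit 8) (Steps.bwd (nat_lit 14) (Steps.bwd (nat_lit 12) (Steps.fwd (nat_lit 36864) (Steps.fwd (nat_lit 28672) (Steps.bwd (nat_lit 14) (Steps.fwd (nat_lit 45056) Steps.nil))))))) (nat_lit 40) (nat_lit 0),
  Rule.mk (nat_lit 11) (nat_lit 133) (Steps.bwd (nat_lit 14) (Steps.bwd (nat_lit 12) (Steps.bwd (nat_lit 5) (Steps.fwd (nat_lit 36864) (Steps.bwd (nat_lit 8) (Steps.fwd (nat_lit 16384) (Steps.bwd (nat_lit 8) (Steps.fwd (nat_lit 16384) Steps.nil)))))))) (nat_lit 45) (nat_lit 1),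
  Rule.mk (nat_lit 6) (nat_lit 73) (Steps.fwd (nat_lit 53248) (Steps.fwd (nat_lit 12288) (Steps.bwd (nat_lit 8) (Steps.bwd (nat_lit 11) Steps.nil)))) (nat_lit 16) (nat_lit 4),
  Rule.mk (nat_lit 9) (nat_lit 133) (Steps.bwd (nat_lit 6) (Steps.bwd (nat_lit 11) (Steps.bwd (nat_lit 13) (Steps.bwd (nat_lit 12) (Steps.fwd (nat_lit 12288) (Steps.fwd (nat_lit 32768) (Steps.bwd (nat_lit 4) (Steps.fwd (nat_lit 32768) Steps.nil)))))))) (nat_lit 44) (nat_lit 5),
  Rule.mk (nat_lit 0) (nat_lit 103) (Steps.bwd (nat_lit 13) (Steps.bwd (nat_lit 5) (Steps.bwd (nat_lit 9) (Steps.bwd (nat_lit 6) (Steps.fwd (nat_lit 53248) (Steps.bwd (nat_lit 12) Steps.nil)))))) (nat_lit 24) (nat_lit 4),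
  Rule.mk (nat_lit 9) (nat_lit 118) (Steps.bwd (nat_lit 14) (Steps.bwd (nat_lit 11) (Steps.fwd (nat_lit 57344) (Steps.bwd (nat_lit 9) (Steps.bwd (nat_lit 14) (Steps.bwd (nat_lit 11) (Steps.bwd (nat_lit 13) Steps.nil))))))) (nat_lit 36) (nat_lit 1),
  Rule.mk (nat_lit 7) (nat_lit 118) (Steps.bwd (nat_lit 9) (Steps.bwd (nat_lit 14) (Steps.bwd (nat_lit 12) (Steps.bwd (nat_lit 5) (Steps.bwd (nat_lit 3) (Steps.bwd (nat_lit 2) (Steps.fwd (nat_lit 4096) Steps.nil))))))) (nat_lit 33) (nat_lit 1),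
  Rule.mk (nat_lit 4) (nat_lit 133) (Steps.bwd (nat_lit 7) (Steps.bwd (nat_lit 9) (Steps.bwd (nat_lit 6) (Steps.bwd (nat_lit 11) (Steps.fwd (nat_lit 57344) (Steps.fwd (nat_lit 45056) (Steps.fwd (nat_lit 12288) (Steps.fwd (nat_lit 32768) Steps.nil)))))))) (nat_lit 44) (nat_lit 3),
  Rule.mk (nat_lit 11) (nat_lit 118) (Steps.bwd (nat_lit 13) (Steps.fwd (nat_lit 32768) (Steps.fwd (nat_lit 40960) (Steps.bwd (nat_lit 11) (Steps.bwd (nat_lit 13) (Steps.fwd (nat_lit 32768) (Steps.fwd (nat_lit 40960) Steps.nil))))))) (nat_lit 41) (nat_lit 2),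
  Rule.mk (nat_lit 8) (nat_lit 118) (Steps.fwd (nat_lit 8192) (Steps.bwd (nat_lit 1) (Steps.fwd (nat_lit 12288) (Steps.bwd (nat_lit 6) (Steps.bwd (nat_lit 11) (Steps.bwd (nat_lit 13) (Steps.bwd (nat_lit 10) Steps.nil))))))) (nat_lit 32) (nat_lit 0),
  Rule.mk (nat_lit 5) (nat_lit 118) (Steps.bwd (nat_lit 3) (Steps.fwd (nat_lit 20480) (Steps.bwd (nat_lit 11) (Steps.bwd (nat_lit 5) (Steps.fwd (nat_lit 16384) (Steps.bwd (nat_lit 6) (Steps.bwd (nat_lit 11) Steps.nil))))))) (nat_lit 34) (nat_lit 0),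
  Rule.mk (nat_lit 0) (nat_lit 118) (Steps.fwd (nat_lit 4096) (Steps.fwd (nat_lit 4096) (Steps.bwd (nat_lit 4) (Steps.bwd (nat_lit 7) (Steps.fwd (nat_lit 8192) (Steps.fwd (nat_lit 12288) (Steps.bwd (nat_lit 2) Steps.nil))))))) (nat_lit 28) (nat_lit 2),
  Rule.mk (nat_lit 5) (nat_lit 118) (Steps.bwd (nat_lit 4) (Steps.bwd (nat_lit 6) (Steps.bwd (nat_lit 12) (Steps.fwd (nat_lit 24576) (Steps.fwd (nat_lit 12288) (Steps.fwd (nat_lit 20480) (Steps.bwd (nat_lit 12) Steps.nil))))))) (nat_lit 35) (nat_lit 3),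
  Rule.mk (nat_lit 7) (nat_lit 133) (Steps.bwd (nat_lit 4) (Steps.bwd (nat_lit 7) (Steps.bwd (nat_lit 9) (Steps.fwd (nat_lit 20480) (Steps.bwd (nat_lit 11) (Steps.bwd (nat_lit 13) (Steps.fwd (nat_lit 45056) (Steps.fwd (nat_lit 12288) Steps.nil)))))))) (nat_lit 44) (nat_lit 2),
  Rule.mk (nat_lit 1) (nat_lit 148) (Steps.fwd (nat_lit 8192) (Steps.bwd (nat_lit 4) (Steps.fwd (nat_lit 24576) (Steps.bwd (nat_lit 3) (Steps.fwd (nat_lit 4096) (Steps.bwd (nat_lit 7) (Steps.fwd (nat_lit 40960) (Steps.fwd (nat_lit 28672) (Steps.fwd (nat_lit 8192) Steps.nil))))))))) (nat_lit 46) (nat_lit 3),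
  Rule.mk (nat_lit 3) (nat_lit 103) (Steps.fwd (nat_lit 8192) (Steps.bwd (nat_lit 1) (Steps.fwd (nat_lit 8192) (Steps.bwd (nat_lit 3) (Steps.fwd (nat_lit 4096) (Steps.fwd (nat_lit 28672) Steps.nil)))))) (nat_lit 29) (nat_lit 3),
  Rule.mk (nat_lit 5) (nat_lit 103) (Steps.fwd (nat_lit 57344) (Steps.fwd (nat_lit 49152) (Steps.fwd (nat_lit 4096) (Steps.bwd (nat_lit 3) (Steps.bwd (nat_lit 9) (Steps.bwd (nat_lit 7) Steps.nil)))))) (nat_lit 30) (nat_lit 6),
  Rule.mk (nat_lit 11) (nat_lit 133) (Steps.bwd (nat_lit 14) (Steps.fwd (nat_lit 45056) (Steps.fwd (nat_lit 24576) (Steps.fwd (nat_lit 36864) (Steps.fwd (nat_lit 28672) (Steps.fwd (nat_lit 16384) (Steps.bwd (nat_lit 8) (Steps.bwd (nat_lit 3) Steps.nil)))))))) (nat_lit 45) (nat_lit 1),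
  Rule.mk (nat_lit 13) (nat_lit 118) (Steps.fwd (nat_lit 36864) (Steps.fwd (nat_lit 28672) (Steps.fwd (nat_lit 8192) (Steps.fwd (nat_lit 8192) (Steps.bwd (nat_lit 4) (Steps.fwd (nat_lit 20480) (Steps.bwd (nat_lit 11) Steps.nil))))))) (nat_lit 32) (nat_lit 6),
  Rule.mk (nat_lit 12) (nat_lit 88) (Steps.bwd (nat_lit 10) (Steps.fwd (nat_lit 49152) (Steps.bwd (nat_lit 14) (Steps.bwd (nat_lit 11) (Steps.bwd (nat_lit 13) Steps.nil))))) (nat_lit 27) (nat_lit 3),
  Rule.mk (nat_lit 13) (nat_lit 88) (Steps.bwd (nat_lit 5) (Steps.fwd (nat_lit 40960) (Steps.bwd (nat_lit 6) (Steps.fwd (nat_lit 53248) (Steps.bwd (nat_lit 12) Steps.nil))))) (nat_lit 24) (nat_lit 5),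
  Rule.mk (nat_lit 9) (nat_lit 118) (Steps.bwd (nat_lit 14) (Steps.bwd (nat_lit 12) (Steps.bwd (nat_lit 5) (Steps.fwd (nat_lit 16384) (Steps.bwd (nat_lit 2) (Steps.fwd (nat_lit 4096) (Steps.bwd (nat_lit 7) Steps.nil))))))) (nat_lit 33) (nat_lit 2),
  Rule.mk (nat_lit 13) (nat_lit 118) (Steps.fwd (nat_lit 36864) (Steps.fwd (nat_lit 32768) (Steps.bwd (nat_lit 9) (Steps.bwd (nat_lit 13) (Steps.bwd (nat_lit 10) (Steps.bwd (nat_lit 7) (Steps.bwd (nat_lit 9) Steps.nil))))))) (nat_lit 38) (nat_lit 1),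
  Rule.mk (nat_lit 8) (nat_lit 118) (Steps.bwd (nat_lit 2) (Steps.fwd (nat_lit 4096) (Steps.bwd (nat_lit 7) (Steps.bwd (nat_lit 2) (Steps.bwd (nat_lit 5) (Steps.bwd (nat_lit 1) (Steps.fwd (nat_lit 36864) Steps.nil))))))) (nat_lit 42) (nat_lit 4),
  Rule.mk (nat_lit 7) (nat_lit 148) (Steps.bwd (nat_lit 10) (Steps.bwd (nat_lit 7) (Steps.bwd (nat_lit 10) (Steps.fwd (nat_lit 32768) (Steps.fwd (nat_lit 36864) (Steps.fwd (nat_lit 32768) (Steps.fwd (nat_lit 36864) (Steps.bwd (nat_lit 7) (Steps.fwd (nat_lit 36864) Steps.nil))))))))) (nat_lit 49) (nat_lit 0),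
  Rule.mk (nat_lit 12) (nat_lit 73) (Steps.bwd (nat_lit 7) (Steps.fwd (nat_lit 16384) (Steps.fwd (nat_lit 57344) (Steps.bwd (nat_lit 5) Steps.nil)))) (nat_lit 17) (nat_lit 3),
  Rule.mk (nat_lit 3) (nat_lit 103) (Steps.bwd (nat_lit 9) (Steps.bwd (nat_lit 7) (Steps.bwd (nat_lit 5) (Steps.bwd (nat_lit 13) (Steps.fwd (nat_lit 49152) (Steps.fwd (nat_lit 4096) Steps.nil)))))) (nat_lit 30) (nat_lit 3),
  Rule.mk (nat_lit 0) (nat_lit 73) (Steps.bwd (nat_lit 4) (Steps.bwd (nat_lit 13) (Steps.bwd (nat_lit 3) (Steps.bwd (nat_lit 6) Steps.nil)))) (nat_lit 13) (nat_lit 3),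
  Rule.mk (nat_lit 1) (nat_lit 73) (Steps.bwd (nat_lit 1) (Steps.bwd (nat_lit 8) (Steps.bwd (nat_lit 3) (Steps.fwd (nat_lit 24576) Steps.nil)))) (nat_lit 15) (nat_lit 2),
  Rule.mk (nat_lit 3) (nat_lit 103) (Steps.fwd (nat_lit 4096) (Steps.bwd (nat_lit 8) (Steps.bwd (nat_lit 3) (Steps.fwd (nat_lit 8192) (Steps.bwd (nat_lit 1) (Steps.bwd (nat_lit 1) Steps.nil)))))) (nat_lit 29) (nat_lit 0),
  Rule.mk (nat_lit 8) (nat_lit 133) (Steps.bwd (nat_lit 3) (Steps.bwd (nat_lit 8) (Steps.bwd (nat_lit 3) (Steps.bwd (nat_lit 11) (Steps.fwd (nat_lit 53248) (Steps.bwd (nat_lit 12) (Steps.fwd (nat_lit 24576) (Steps.fwd (nat_lit 36864) Steps.nil)))))))) (nat_lit 45) (nat_lit 6),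
  Rule.mk (nat_lit 4) (nat_lit 118) (Steps.fwd (nat_lit 20480) (Steps.bwd (nat_lit 11) (Steps.fwd (nat_lit 57344) (Steps.fwd (nat_lit 36864) (Steps.bwd (nat_lit 8) (Steps.bwd (nat_lit 1) (Steps.bwd (nat_lit 1) Steps.nil))))))) (nat_lit 32) (nat_lit 3),
  Rule.mk (nat_lit 0) (nat_lit 163) (Steps.bwd (nat_lit 1) (Steps.bwd (nat_lit 1) (Steps.bwd (nat_lit 1) (Steps.bwd (nat_lit 4) (Steps.fwd (nat_lit 24576) (Steps.bwd (nat_lit 3) (Steps.bwd (nat_lit 2) (Steps.bwd (nat_lit 7) (Steps.fwd (nat_lit 40960) (Steps.bwd (nat_lit 8) Steps.nil)))))))))) (nat_lit 46) (nat_lit 1),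
  Rule.mk (nat_lit 0) (nat_lit 163) (Steps.bwd (nat_lit 1) (Steps.bwd (nat_lit 4) (Steps.fwd (nat_lit 20480) (Steps.bwd (nat_lit 3) (Steps.fwd (nat_lit 4096) (Steps.bwd (nat_lit 2) (Steps.fwd (nat_lit 4096) (Steps.bwd (nat_lit 7) (Steps.bwd (nat_lit 10) (Steps.fwd (nat_lit 28672) Steps.nil)))))))))) (nat_lit 47) (nat_lit 2),
  Rule.mk (nat_lit 0) (nat_lit 88) (Steps.bwd (nat_lit 12) (Steps.bwd (nat_lit 7) (Steps.fwd (nat_lit 16384) (Steps.bwd (nat_lit 13) (Steps.fwd (nat_lit 24576) Steps.nil))))) (nat_lit 17) (nat_lit 2),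
  Rule.mk (nat_lit 13) (nat_lit 118) (Steps.fwd (nat_lit 36864) (Steps.bwd (nat_lit 8) (Steps.bwd (nat_lit 1) (Steps.bwd (nat_lit 1) (Steps.fwd (nat_lit 12288) (Steps.fwd (nat_lit 20480) (Steps.bwd (nat_lit 11) Steps.nil))))))) (nat_lit 32) (nat_lit 6),
  Rule.mk (nat_lit 3) (nat_lit 103) (Steps.bwd (nat_lit 1) (Steps.fwd (nat_lit 8192) (Steps.bwd (nat_lit 1) (Steps.bwd (nat_lit 3) (Steps.fwd (nat_lit 4096) (Steps.fwd (nat_lit 28672) Steps.nil)))))) (nat_lit 29) (nat_lit 3),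
  Rule.mk (nat_lit 0) (nat_lit 88) (Steps.fwd (nat_lit 20480) (Steps.fwd (nat_lit 12288) (Steps.bwd (nat_lit 7) (Steps.fwd (nat_lit 4096) (Steps.fwd (nat_lit 4096) Steps.nil))))) (nat_lit 14) (nat_lit 4),
  Rule.mk (nat_lit 9) (nat_lit 103) (Steps.fwd (nat_lit 32768) (Steps.bwd (nat_lit 5) (Steps.bwd (nat_lit 13) (Steps.bwd (nat_lit 11) (Steps.fwd (nat_lit 4096) (Steps.bwd (nat_lit 3) Steps.nil)))))) (nat_lit 30) (nat_lit 4),
  Rule.mk (nat_lit 13) (nat_lit 148) (Steps.bwd (nat_lit 5) (Steps.bwd (nat_lit 3) (Steps.bwd (nat_lit 1) (Steps.fwd (nat_lit 8192) (Steps.fwd (nat_lit 12288) (Steps.bwd (nat_lit 14) (Steps.fwd (nat_lit 45056) (Steps.fwd (nat_lit 20480) (Steps.fwd (nat_lit 49152) Steps.nil))))))))) (nat_lit 53) (nat_lit 5),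
  Rule.mk (nat_lit 9) (nat_lit 118) (Steps.bwd (nat_lit 13) (Steps.bwd (nat_lit 10) (Steps.fwd (nat_lit 32768) (Steps.fwd (nat_lit 40960) (Steps.bwd (nat_lit 13) (Steps.fwd (nat_lit 36864) (Steps.bwd (nat_lit 7) Steps.nil))))))) (nat_lit 38) (nat_lit 0),
  Rule.mk (nat_lit 0) (nat_lit 163) (Steps.fwd (nat_lit 4096) (Steps.bwd (nat_lit 2) (Steps.fwd (nat_lit 12288) (Steps.bwd (nat_lit 6) (Steps.bwd (nat_lit 14) (Steps.bwd (nat_lit 12) (Steps.fwd (nat_lit 24576) (Steps.fwd (nat_lit 49152) (Steps.bwd (nat_lit 13) (Steps.bwd (nat_lit 3) Steps.nil)))))))))) (nat_lit 52) (nat_lit 1),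
  Rule.mk (nat_lit 6) (nat_lit 58) (Steps.fwd (nat_lit 12288) (Steps.fwd (nat_lit 57344) (Steps.fwd (nat_lit 16384) Steps.nil))) (nat_lit 13) (nat_lit 3),
  Rule.mk (nat_lit 0) (nat_lit 88) (Steps.bwd (nat_lit 2) (Steps.fwd (nat_lit 4096) (Steps.bwd (nat_lit 6) (Steps.fwd (nat_lit 12288) (Steps.bwd (nat_lit 7) Steps.nil))))) (nat_lit 14) (nat_lit 2),
  Rule.mk (nat_lit 4) (nat_lit 103) (Steps.bwd (nat_lit 2) (Steps.fwd (nat_lit 4096) (Steps.bwd (nat_lit 2) (Steps.fwd (nat_lit 12288) (Steps.bwd (nat_lit 7) (Steps.fwd (nat_lit 8192) Steps.nil)))))) (nat_lit 28) (nat_lit 1),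
  Rule.mk (nat_lit 12) (nat_lit 118) (Steps.fwd (nat_lit 24576) (Steps.fwd (nat_lit 12288) (Steps.fwd (nat_lit 20480) (Steps.fwd (nat_lit 45056) (Steps.bwd (nat_lit 5) (Steps.bwd (nat_lit 4) (Steps.bwd (nat_lit 6) Steps.nil))))))) (nat_lit 35) (nat_lit 2),
  Rule.mk (nat_lit 7) (nat_lit 133) (Steps.bwd (nat_lit 4) (Steps.fwd (nat_lit 32768) (Steps.bwd (nat_lit 9) (Steps.fwd (nat_lit 20480) (Steps.fwd (nat_lit 49152) (Steps.bwd (nat_lit 13) (Steps.bwd (nat_lit 12) (Steps.bwd (nat_lit 4) Steps.nil)))))))) (nat_lit 44) (nat_lit 2)]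
noncomputable def R_44 : List (Rule) := [Rule.mk (nat_lit 7) (nat_lit 118) (Steps.bwd (nat_lit 9) (Steps.bwd (nat_lit 14) (Steps.fwd (nat_lit 45056) (Steps.bwd (nat_lit 5) (Steps.bwd (nat_lit 3) (Steps.bwd (nat_lit 2) (Steps.fwd (nat_lit 4096) Steps.nil))))))) (nat_lit 33) (nat_lit 1),
  Rule.mk (nat_lit 9) (nat_lit 118) (Steps.bwd (nat_lit 14) (Steps.fwd (nat_lit 36864) (Steps.bwd (nat_lit 8) (Steps.fwd (nat_lit 40960) (Steps.bwd (nat_lit 14) (Steps.bwd (nat_lit 10) (Steps.bwd (nat_lit 8) Steps.nil))))))) (nat_lit 39) (nat_lit 3),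
  Rule.mk (nat_lit 0) (nat_lit 133) (Steps.bwd (nat_lit 1) (Steps.bwd (nat_lit 1) (Steps.fwd (nat_lit 32768) (Steps.fwd (nat_lit 40960) (Steps.fwd (nat_lit 4096) (Steps.fwd (nat_lit 20480) (Steps.bwd (nat_lit 1) (Steps.fwd (nat_lit 28672) Steps.nil)))))))) (nat_lit 43) (nat_lit 2),
  Rule.mk (nat_lit 0) (nat_lit 118) (Steps.fwd (nat_lit 32768) (Steps.bwd (nat_lit 1) (Steps.bwd (nat_lit 4) (Steps.fwd (nat_lit 4096) (Steps.fwd (nat_lit 4096) (Steps.fwd (nat_lit 4096) (Steps.fwd (nat_lit 12288) Steps.nil))))))) (nat_lit 28) (nat_lit 5),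
  Rule.mk (nat_lit 5) (nat_lit 88) (Steps.bwd (nat_lit 9) (Steps.bwd (nat_lit 3) (Steps.fwd (nat_lit 4096) (Steps.fwd (nat_lit 28672) (Steps.bwd (nat_lit 2) Steps.nil))))) (nat_lit 23) (nat_lit 2),
  Rule.mk (nat_lit 7) (nat_lit 103) (Steps.bwd (nat_lit 1) (Steps.bwd (nat_lit 4) (Steps.fwd (nat_lit 4096) (Steps.fwd (nat_lit 4096) (Steps.bwd (nat_lit 2) (Steps.bwd (nat_lit 4) Steps.nil)))))) (nat_lit 28) (nat_lit 6),
  Rule.mk (nat_lit 10) (nat_lit 88) (Steps.fwd (nat_lit 20480) (Steps.fwd (nat_lit 8192) (Steps.bwd (nat_lit 7) (Steps.bwd (nat_lit 1) (Steps.bwd (nat_lit 4) Steps.nil))))) (nat_lit 22) (nat_lit 4),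
  Rule.mk (nat_lit 3) (nat_lit 88) (Steps.fwd (nat_lit 4096) (Steps.bwd (nat_lit 10) (Steps.bwd (nat_lit 8) (Steps.bwd (nat_lit 9) (Steps.bwd (nat_lit 1) Steps.nil))))) (nat_lit 20) (nat_lit 2),
  Rule.mk (nat_lit 3) (nat_lit 103) (Steps.fwd (nat_lit 4096) (Steps.bwd (nat_lit 8) (Steps.bwd (nat_lit 3) (Steps.bwd (nat_lit 1) (Steps.fwd (nat_lit 8192) (Steps.bwd (nat_lit 1) Steps.nil)))))) (nat_lit 29) (nat_lit 0),
  Rule.mk (nat_lit 10) (nat_lit 133) (Steps.bwd (nat_lit 8) (Steps.bwd (nat_lit 3) (Steps.bwd (nat_lit 8) (Steps.bwd (nat_lit 3) (Steps.fwd (nat_lit 49152) (Steps.bwd (nat_lit 14) (Steps.bwd (nat_lit 12) (Steps.fwd (nat_lit 24576) Steps.nil)))))))) (nat_lit 45) (nat_lit 5),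
  Rule.mk (nat_lit 2) (nat_lit 88) (Steps.bwd (nat_lit 10) (Steps.bwd (nat_lit 8) (Steps.bwd (nat_lit 9) (Steps.bwd (nat_lit 1) (Steps.bwd (nat_lit 3) Steps.nil))))) (nat_lit 20) (nat_lit 3),
  Rule.mk (nat_lit 10) (nat_lit 88) (Steps.bwd (nat_lit 11) (Steps.bwd (nat_lit 14) (Steps.fwd (nat_lit 49152) (Steps.fwd (nat_lit 57344) (Steps.bwd (nat_lit 12) Steps.nil))))) (nat_lit 27) (nat_lit 4),
  Rule.mk (nat_lit 8) (nat_lit 118) (Steps.fwd (nat_lit 8192) (Steps.bwd (nat_lit 1) (Steps.bwd (nat_lit 4) (Steps.bwd (nat_lit 6) (Steps.bwd (nat_lit 11) (Steps.fwd (nat_lit 57344) (Steps.fwd (nat_lit 36864) Steps.nil))))))) (nat_lit 32) (nat_lit 0),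
  Rule.mk (nat_lit 0) (nat_lit 133) (Steps.bwd (nat_lit 7) (Steps.fwd (nat_lit 4096) (Steps.fwd (nat_lit 24576) (Steps.fwd (nat_lit 8192) (Steps.fwd (nat_lit 36864) (Steps.bwd (nat_lit 8) (Steps.fwd (nat_lit 4096) (Steps.fwd (nat_lit 4096) Steps.nil)))))))) (nat_lit 42) (nat_lit 6),
  Rule.mk (nat_lit 8) (nat_lit 133) (Steps.fwd (nat_lit 16384) (Steps.fwd (nat_lit 49152) (Steps.bwd (nat_lit 14) (Steps.bwd (nat_lit 12) (Steps.bwd (nat_lit 5) (Steps.fwd (nat_lit 36864) (Steps.bwd (nat_lit 8) (Steps.bwd (nat_lit 3) Steps.nil)))))))) (nat_lit 45) (nat_lit 8),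
  Rule.mk (nat_lit 6) (nat_lit 73) (Steps.bwd (nat_lit 4) (Steps.fwd (nat_lit 32768) (Steps.fwd (nat_lit 4096) (Steps.fwd (nat_lit 4096) Steps.nil)))) (nat_lit 14) (nat_lit 0),
  Rule.mk (nat_lit 1) (nat_lit 103) (Steps.bwd (nat_lit 12) (Steps.bwd (nat_lit 14) (Steps.fwd (nat_lit 20480) (Steps.fwd (nat_lit 28672) (Steps.fwd (nat_lit 36864) (Steps.bwd (nat_lit 4) Steps.nil)))))) (nat_lit 31) (nat_lit 6),
  Rule.mk (nat_lit 0) (nat_lit 148) (Steps.bwd (nat_lit 11) (Steps.fwd (nat_lit 53248) (Steps.bwd (nat_lit 12) (Steps.bwd (nat_lit 5) (Steps.fwd (nat_lit 36864) (Steps.bwd (nat_lit 8) (Steps.fwd (nat_lit 16384) (Steps.fwd (nat_lit 28672) (Steps.fwd (nat_lit 16384) Steps.nil))))))))) (nat_lit 45) (nat_lit 0),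
  Rule.mk (nat_lit 13) (nat_lit 73) (Steps.bwd (nat_lit 5) (Steps.bwd (nat_lit 12) (Steps.fwd (nat_lit 32768) (Steps.bwd (nat_lit 3) Steps.nil)))) (nat_lit 17) (nat_lit 1),
  Rule.mk (nat_lit 6) (nat_lit 88) (Steps.bwd (nat_lit 14) (Steps.fwd (nat_lit 45056) (Steps.bwd (nat_lit 13) (Steps.bwd (nat_lit 5) (Steps.bwd (nat_lit 9) Steps.nil))))) (nat_lit 24) (nat_lit 2),
  Rule.mk (nat_lit 12) (nat_lit 88) (Steps.fwd (nat_lit 40960) (Steps.fwd (nat_lit 49152) (Steps.bwd (nat_lit 14) (Steps.fwd (nat_lit 45056) (Steps.bwd (nat_lit 13) Steps.nil))))) (nat_lit 26) (nat_lit 2),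
  Rule.mk (nat_lit 5) (nat_lit 73) (Steps.bwd (nat_lit 12) (Steps.bwd (nat_lit 7) (Steps.bwd (nat_lit 3) (Steps.fwd (nat_lit 57344) Steps.nil)))) (nat_lit 17) (nat_lit 2),
  Rule.mk (nat_lit 0) (nat_lit 88) (Steps.bwd (nat_lit 7) (Steps.fwd (nat_lit 16384) (Steps.fwd (nat_lit 57344) (Steps.fwd (nat_lit 24576) (Steps.bwd (nat_lit 12) Steps.nil))))) (nat_lit 17) (nat_lit 3),
  Rule.mk (nat_lit 10) (nat_lit 88) (Steps.bwd (nat_lit 6) (Steps.bwd (nat_lit 14) (Steps.fwd (nat_lit 49152) (Steps.fwd (nat_lit 57344) (Steps.fwd (nat_lit 24576) Steps.nil))))) (nat_lit 25) (nat_lit 0),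
  Rule.mk (nat_lit 7) (nat_lit 88) (Steps.bwd (nat_lit 1) (Steps.fwd (nat_lit 12288) (Steps.bwd (nat_lit 10) (Steps.fwd (nat_lit 20480) (Steps.bwd (nat_lit 1) Steps.nil))))) (nat_lit 22) (nat_lit 1),
  Rule.mk (nat_lit 9) (nat_lit 88) (Steps.bwd (nat_lit 1) (Steps.fwd (nat_lit 12288) (Steps.bwd (nat_lit 2) (Steps.bwd (nat_lit 10) (Steps.bwd (nat_lit 7) Steps.nil))))) (nat_lit 21) (nat_lit 3),
  Rule.mk (nat_lit 2) (nat_lit 103) (Steps.fwd (nat_lit 16384) (Steps.fwd (nat_lit 40960) (Steps.bwd (nat_lit 7) (Steps.fwd (nat_lit 24576) (Steps.bwd (nat_lit 13) (Steps.bwd (nat_lit 11) Steps.nil)))))) (nat_lit 30) (nat_lit 2),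
  Rule.mk (nat_lit 8) (nat_lit 148) (Steps.bwd (nat_lit 9) (Steps.fwd (nat_lit 28672) (Steps.fwd (nat_lit 40960) (Steps.bwd (nat_lit 8) (Steps.bwd (nat_lit 9) (Steps.fwd (nat_lit 28672) (Steps.bwd (nat_lit 9) (Steps.fwd (nat_lit 28672) (Steps.fwd (nat_lit 40960) Steps.nil))))))))) (nat_lit 48) (nat_lit 1),
  Rule.mk (nat_lit 14) (nat_lit 73) (Steps.fwd (nat_lit 12288) (Steps.bwd (nat_lit 8) (Steps.fwd (nat_lit 49152) (Steps.fwd (nat_lit 20480) Steps.nil)))) (nat_lit 16) (nat_lit 0),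
  Rule.mk (nat_lit 8) (nat_lit 133) (Steps.bwd (nat_lit 3) (Steps.bwd (nat_lit 8) (Steps.bwd (nat_lit 3) (Steps.fwd (nat_lit 49152) (Steps.bwd (nat_lit 14) (Steps.fwd (nat_lit 45056) (Steps.fwd (nat_lit 24576) (Steps.fwd (nat_lit 36864) Steps.nil)))))))) (nat_lit 45) (nat_lit 6),
  Rule.mk (nat_lit 3) (nat_lit 133) (Steps.bwd (nat_lit 8) (Steps.bwd (nat_lit 3) (Steps.bwd (nat_lit 11) (Steps.fwd (nat_lit 53248) (Steps.fwd (nat_lit 45056) (Steps.fwd (nat_lit 24576) (Steps.fwd (nat_lit 36864) (Steps.bwd (nat_lit 8) Steps.nil)))))))) (nat_lit 45) (nat_lit 7),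
  Rule.mk (nat_lit 7) (nat_lit 103) (Steps.fwd (nat_lit 24576) (Steps.bwd (nat_lit 13) (Steps.fwd (nat_lit 49152) (Steps.fwd (nat_lit 4096) (Steps.bwd (nat_lit 3) (Steps.bwd (nat_lit 9) Steps.nil)))))) (nat_lit 30) (nat_lit 5),
  Rule.mk (nat_lit 0) (nat_lit 133) (Steps.fwd (nat_lit 45056) (Steps.fwd (nat_lit 24576) (Steps.fwd (nat_lit 12288) (Steps.bwd (nat_lit 6) (Steps.bwd (nat_lit 12) (Steps.bwd (nat_lit 5) (Steps.bwd (nat_lit 4) (Steps.bwd (nat_lit 6) Steps.nil)))))))) (nat_lit 35) (nat_lit 1),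
  Rule.mk (nat_lit 1) (nat_lit 148) (Steps.bwd (nat_lit 1) (Steps.bwd (nat_lit 4) (Steps.bwd (nat_lit 14) (Steps.fwd (nat_lit 45056) (Steps.fwd (nat_lit 20480) (Steps.bwd (nat_lit 11) (Steps.fwd (nat_lit 57344) (Steps.fwd (nat_lit 24576) (Steps.bwd (nat_lit 3) Steps.nil))))))))) (nat_lit 53) (nat_lit 8),
  Rule.mk (nat_lit 8) (nat_lit 118) (Steps.bwd (nat_lit 9) (Steps.fwd (nat_lit 53248) (Steps.bwd (nat_lit 10) (Steps.bwd (nat_lit 8) (Steps.bwd (nat_lit 9) (Steps.bwd (nat_lit 14) (Steps.bwd (nat_lit 10) Steps.nil))))))) (nat_lit 39) (nat_lit 2),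
  Rule.mk (nat_lit 10) (nat_lit 118) (Steps.fwd (nat_lit 28672) (Steps.fwd (nat_lit 53248) (Steps.fwd (nat_lit 45056) (Steps.fwd (nat_lit 36864) (Steps.bwd (nat_lit 8) (Steps.bwd (nat_lit 14) (Steps.fwd (nat_lit 45056) Steps.nil))))))) (nat_lit 40) (nat_lit 0),
  Rule.mk (nat_lit 8) (nat_lit 148) (Steps.fwd (nat_lit 8192) (Steps.fwd (nat_lit 12288) (Steps.fwd (nat_lit 20480) (Steps.bwd (nat_lit 3) (Steps.fwd (nat_lit 4096) (Steps.fwd (nat_lit 4096) (Steps.bwd (nat_lit 2) (Steps.fwd (nat_lit 32768) (Steps.bwd (nat_lit 10) Steps.nil))))))))) (nat_lit 47) (nat_lit 2),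
  Rule.mk (nat_lit 7) (nat_lit 148) (Steps.bwd (nat_lit 10) (Steps.bwd (nat_lit 7) (Steps.fwd (nat_lit 36864) (Steps.fwd (nat_lit 32768) (Steps.fwd (nat_lit 36864) (Steps.bwd (nat_lit 7) (Steps.fwd (nat_lit 36864) (Steps.fwd (nat_lit 32768) (Steps.bwd (nat_lit 10) Steps.nil))))))))) (nat_lit 49) (nat_lit 0),
  Rule.mk (nat_lit 1) (nat_lit 88) (Steps.bwd (nat_lit 7) (Steps.bwd (nat_lit 1) (Steps.bwd (nat_lit 4) (Steps.fwd (nat_lit 36864) (Steps.fwd (nat_lit 20480) Steps.nil))))) (nat_lit 22) (nat_lit 0),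
  Rule.mk (nat_lit 2) (nat_lit 118) (Steps.fwd (nat_lit 24576) (Steps.bwd (nat_lit 1) (Steps.bwd (nat_lit 10) (Steps.fwd (nat_lit 28672) (Steps.bwd (nat_lit 2) (Steps.bwd (nat_lit 2) (Steps.fwd (nat_lit 32768) Steps.nil))))))) (nat_lit 42) (nat_lit 0),
  Rule.mk (nat_lit 1) (nat_lit 103) (Steps.fwd (nat_lit 12288) (Steps.bwd (nat_lit 2) (Steps.bwd (nat_lit 2) (Steps.fwd (nat_lit 4096) (Steps.bwd (nat_lit 4) (Steps.bwd (nat_lit 7) Steps.nil)))))) (nat_lit 28) (nat_lit 0),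
  Rule.mk (nat_lit 10) (nat_lit 88) (Steps.bwd (nat_lit 7) (Steps.bwd (nat_lit 9) (Steps.bwd (nat_lit 1) (Steps.fwd (nat_lit 12288) (Steps.bwd (nat_lit 2) Steps.nil))))) (nat_lit 21) (nat_lit 1),
  Rule.mk (nat_lit 2) (nat_lit 118) (Steps.fwd (nat_lit 24576) (Steps.bwd (nat_lit 1) (Steps.fwd (nat_lit 36864) (Steps.fwd (nat_lit 28672) (Steps.fwd (nat_lit 4096) (Steps.bwd (nat_lit 2) (Steps.bwd (nat_lit 7) Steps.nil))))))) (nat_lit 42) (nat_lit 0),
  Rule.mk (nat_lit 11) (nat_lit 73) (Steps.fwd (nat_lit 24576) (Steps.bwd (nat_lit 11) (Steps.bwd (nat_lit 5) (Steps.fwd (nat_lit 36864) Steps.nil)))) (nat_lit 18) (nat_lit 1),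
  Rule.mk (nat_lit 3) (nat_lit 133) (Steps.bwd (nat_lit 11) (Steps.fwd (nat_lit 53248) (Steps.bwd (nat_lit 12) (Steps.fwd (nat_lit 24576) (Steps.bwd (nat_lit 10) (Steps.fwd (nat_lit 28672) (Steps.bwd (nat_lit 3) (Steps.bwd (nat_lit 8) Steps.nil)))))))) (nat_lit 45) (nat_lit 0),
  Rule.mk (nat_lit 13) (nat_lit 103) (Steps.fwd (nat_lit 49152) (Steps.fwd (nat_lit 4096) (Steps.bwd (nat_lit 3) (Steps.bwd (nat_lit 9) (Steps.bwd (nat_lit 7) (Steps.bwd (nat_lit 5) Steps.nil)))))) (nat_lit 30) (nat_lit 0),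
  Rule.mk (nat_lit 5) (nat_lit 148) (Steps.bwd (nat_lit 11) (Steps.bwd (nat_lit 13) (Steps.fwd (nat_lit 16384) (Steps.bwd (nat_lit 2) (Steps.fwd (nat_lit 4096) (Steps.bwd (nat_lit 4) (Steps.fwd (nat_lit 20480) (Steps.bwd (nat_lit 14) (Steps.fwd (nat_lit 45056) Steps.nil))))))))) (nat_lit 52) (nat_lit 8),
  Rule.mk (nat_lit 1) (nat_lit 118) (Steps.fwd (nat_lit 36864) (Steps.bwd (nat_lit 8) (Steps.fwd (nat_lit 4096) (Steps.fwd (nat_lit 4096) (Steps.fwd (nat_lit 32768) (Steps.bwd (nat_lit 2) (Steps.bwd (nat_lit 5) Steps.nil))))))) (nat_lit 42) (nat_lit 2),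
  Rule.mk (nat_lit 10) (nat_lit 133) (Steps.fwd (nat_lit 28672) (Steps.fwd (nat_lit 16384) (Steps.fwd (nat_lit 28672) (Steps.fwd (nat_lit 16384) (Steps.fwd (nat_lit 49152) (Steps.bwd (nat_lit 14) (Steps.fwd (nat_lit 45056) (Steps.bwd (nat_lit 5) Steps.nil)))))))) (nat_lit 45) (nat_lit 5),
  Rule.mk (nat_lit 10) (nat_lit 118) (Steps.fwd (nat_lit 28672) (Steps.fwd (nat_lit 53248) (Steps.fwd (nat_lit 45056) (Steps.bwd (nat_lit 10) (Steps.fwd (nat_lit 28672) (Steps.bwd (nat_lit 14) (Steps.fwd (nat_lit 45056) Steps.nil))))))) (nat_lit 40) (nat_lit 0),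
  Rule.mk (nat_lit 7) (nat_lit 148) (Steps.bwd (nat_lit 10) (Steps.fwd (nat_lit 32768) (Steps.bwd (nat_lit 10) (Steps.bwd (nat_lit 7) (Steps.bwd (nat_lit 10) (Steps.bwd (nat_lit 7) (Steps.fwd (nat_lit 36864) (Steps.fwd (nat_lit 32768) (Steps.fwd (nat_lit 36864) Steps.nil))))))))) (nat_lit 49) (nat_lit 0),
  Rule.mk (nat_lit 5) (nat_lit 73) (Steps.fwd (nat_lit 45056) (Steps.bwd (nat_lit 7) (Steps.fwd (nat_lit 16384) (Steps.fwd (nat_lit 57344) Steps.nil)))) (nat_lit 17) (nat_lit 2),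
  Rule.mk (nat_lit 9) (nat_lit 118) (Steps.fwd (nat_lit 57344) (Steps.fwd (nat_lit 36864) (Steps.bwd (nat_lit 7) (Steps.bwd (nat_lit 9) (Steps.fwd (nat_lit 57344) (Steps.fwd (nat_lit 36864) (Steps.bwd (nat_lit 7) Steps.nil))))))) (nat_lit 38) (nat_lit 0),
  Rule.mk (nat_lit 6) (nat_lit 73) (Steps.fwd (nat_lit 45056) (Steps.bwd (nat_lit 9) (Steps.bwd (nat_lit 6) (Steps.fwd (nat_lit 45056) Steps.nil)))) (nat_lit 19) (nat_lit 4),
  Rule.mk (nat_lit 7) (nat_lit 118) (Steps.bwd (nat_lit 9) (Steps.fwd (nat_lit 57344) (Steps.fwd (nat_lit 36864) (Steps.bwd (nat_lit 7) (Steps.bwd (nat_lit 9) (Steps.bwd (nat_lit 13) (Steps.bwd (nat_lit 10) Steps.nil))))))) (nat_lit 38) (nat_lit 3),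
  Rule.mk (nat_lit 1) (nat_lit 118) (Steps.fwd (nat_lit 8192) (Steps.bwd (nat_lit 7) (Steps.bwd (nat_lit 9) (Steps.fwd (nat_lit 4096) (Steps.fwd (nat_lit 20480) (Steps.fwd (nat_lit 8192) (Steps.bwd (nat_lit 8) Steps.nil))))))) (nat_lit 43) (nat_lit 3),
  Rule.mk (nat_lit 2) (nat_lit 118) (Steps.fwd (nat_lit 24576) (Steps.bwd (nat_lit 1) (Steps.fwd (nat_lit 36864) (Steps.bwd (nat_lit 8) (Steps.fwd (nat_lit 4096) (Steps.bwd (nat_lit 2) (Steps.bwd (nat_lit 7) Steps.nil))))))) (nat_lit 42) (nat_lit 0),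
  Rule.mk (nat_lit 0) (nat_lit 118) (Steps.bwd (nat_lit 9) (Steps.bwd (nat_lit 7) (Steps.bwd (nat_lit 5) (Steps.fwd (nat_lit 57344) (Steps.bwd (nat_lit 11) (Steps.bwd (nat_lit 2) (Steps.bwd (nat_lit 3) Steps.nil))))))) (nat_lit 30) (nat_lit 3),
  Rule.mk (nat_lit 3) (nat_lit 88) (Steps.fwd (nat_lit 4096) (Steps.bwd (nat_lit 10) (Steps.fwd (nat_lit 28672) (Steps.bwd (nat_lit 9) (Steps.fwd (nat_lit 8192) Steps.nil))))) (nat_lit 20) (nat_lit 2),
  Rule.mk (nat_lit 6) (nat_lit 103) (Steps.bwd (nat_lit 8) (Steps.bwd (nat_lit 10) (Steps.bwd (nat_lit 4) (Steps.bwd (nat_lit 1) (Steps.fwd (nat_lit 45056) (Steps.bwd (nat_lit 14) Steps.nil)))))) (nat_lit 31) (nat_lit 2),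
  Rule.mk (nat_lit 14) (nat_lit 133) (Steps.bwd (nat_lit 12) (Steps.fwd (nat_lit 24576) (Steps.bwd (nat_lit 10) (Steps.fwd (nat_lit 28672) (Steps.bwd (nat_lit 3) (Steps.fwd (nat_lit 28672) (Steps.fwd (nat_lit 16384) (Steps.bwd (nat_lit 11) Steps.nil)))))))) (nat_lit 45) (nat_lit 2),
  Rule.mk (nat_lit 10) (nat_lit 118) (Steps.fwd (nat_lit 53248) (Steps.bwd (nat_lit 12) (Steps.fwd (nat_lit 57344) (Steps.fwd (nat_lit 36864) (Steps.bwd (nat_lit 14) (Steps.bwd (nat_lit 12) (Steps.bwd (nat_lit 13) Steps.nil))))))) (nat_lit 37) (nat_lit 0),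
  Rule.mk (nat_lit 11) (nat_lit 73) (Steps.bwd (nat_lit 5) (Steps.fwd (nat_lit 49152) (Steps.bwd (nat_lit 5) (Steps.bwd (nat_lit 10) Steps.nil)))) (nat_lit 18) (nat_lit 1),
  Rule.mk (nat_lit 7) (nat_lit 148) (Steps.bwd (nat_lit 10) (Steps.fwd (nat_lit 32768) (Steps.bwd (nat_lit 10) (Steps.fwd (nat_lit 32768) (Steps.fwd (nat_lit 36864) (Steps.bwd (nat_lit 7) (Steps.bwd (nat_lit 10) (Steps.bwd (nat_lit 7) (Steps.fwd (nat_lit 36864) Steps.nil))))))))) (nat_lit 49) (nat_lit 0)]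
noncomputable def R_45 : List (Rule) := [Rule.mk (nat_lit 13) (nat_lit 118) (Steps.bwd (nat_lit 7) (Steps.bwd (nat_lit 9) (Steps.bwd (nat_lit 11) (Steps.fwd (nat_lit 57344) (Steps.bwd (nat_lit 7) (Steps.fwd (nat_lit 40960) (Steps.bwd (nat_lit 11) Steps.nil))))))) (nat_lit 41) (nat_lit 3),
  Rule.mk (nat_lit 7) (nat_lit 133) (Steps.fwd (nat_lit 12288) (Steps.bwd (nat_lit 7) (Steps.bwd (nat_lit 9) (Steps.bwd (nat_lit 6) (Steps.bwd (nat_lit 11) (Steps.bwd (nat_lit 13) (Steps.bwd (nat_lit 12) (Steps.bwd (nat_lit 4) Steps.nil)))))))) (nat_lit 44) (nat_lit 2),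
  Rule.mk (nat_lit 11) (nat_lit 133) (Steps.bwd (nat_lit 13) (Steps.fwd (nat_lit 45056) (Steps.bwd (nat_lit 4) (Steps.bwd (nat_lit 7) (Steps.fwd (nat_lit 12288) (Steps.fwd (nat_lit 32768) (Steps.bwd (nat_lit 9) (Steps.bwd (nat_lit 6) Steps.nil)))))))) (nat_lit 44) (nat_lit 7),
  Rule.mk (nat_lit 0) (nat_lit 58) (Steps.bwd (nat_lit 12) (Steps.fwd (nat_lit 45056) (Steps.bwd (nat_lit 12) Steps.nil))) (nat_lit 9) (nat_lit 0),
  Rule.mk (nat_lit 5) (nat_lit 133) (Steps.bwd (nat_lit 10) (Steps.fwd (nat_lit 28672) (Steps.fwd (nat_lit 16384) (Steps.fwd (nat_lit 28672) (Steps.fwd (nat_lit 16384) (Steps.bwd (nat_lit 11) (Steps.bwd (nat_lit 14) (Steps.bwd (nat_lit 12) Steps.nil)))))))) (nat_lit 45) (nat_lit 4),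
  Rule.mk (nat_lit 1) (nat_lit 73) (Steps.fwd (nat_lit 8192) (Steps.fwd (nat_lit 28672) (Steps.fwd (nat_lit 16384) (Steps.bwd (nat_lit 5) Steps.nil)))) (nat_lit 15) (nat_lit 2),
  Rule.mk (nat_lit 12) (nat_lit 73) (Steps.fwd (nat_lit 32768) (Steps.bwd (nat_lit 3) (Steps.bwd (nat_lit 13) (Steps.bwd (nat_lit 5) Steps.nil)))) (nat_lit 17) (nat_lit 3),
  Rule.mk (nat_lit 3) (nat_lit 118) (Steps.bwd (nat_lit 6) (Steps.fwd (nat_lit 49152) (Steps.fwd (nat_lit 24576) (Steps.fwd (nat_lit 16384) (Steps.fwd (nat_lit 20480) (Steps.bwd (nat_lit 11) (Steps.bwd (nat_lit 5) Steps.nil))))))) (nat_lit 34) (nat_lit 1),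
  Rule.mk (nat_lit 7) (nat_lit 118) (Steps.fwd (nat_lit 4096) (Steps.bwd (nat_lit 5) (Steps.bwd (nat_lit 1) (Steps.bwd (nat_lit 10) (Steps.bwd (nat_lit 8) (Steps.fwd (nat_lit 4096) (Steps.bwd (nat_lit 2) Steps.nil))))))) (nat_lit 42) (nat_lit 7),
  Rule.mk (nat_lit 11) (nat_lit 103) (Steps.bwd (nat_lit 2) (Steps.fwd (nat_lit 16384) (Steps.fwd (nat_lit 40960) (Steps.bwd (nat_lit 7) (Steps.fwd (nat_lit 24576) (Steps.bwd (nat_lit 13) Steps.nil)))))) (nat_lit 30) (nat_lit 1),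
  Rule.mk (nat_lit 0) (nat_lit 133) (Steps.fwd (nat_lit 4096) (Steps.fwd (nat_lit 4096) (Steps.fwd (nat_lit 32768) (Steps.bwd (nat_lit 2) (Steps.fwd (nat_lit 24576) (Steps.bwd (nat_lit 1) (Steps.fwd (nat_lit 36864) (Steps.bwd (nat_lit 8) Steps.nil)))))))) (nat_lit 42) (nat_lit 4),
  Rule.mk (nat_lit 5) (nat_lit 133) (Steps.fwd (nat_lit 36864) (Steps.bwd (nat_lit 8) (Steps.bwd (nat_lit 3) (Steps.fwd (nat_lit 28672) (Steps.fwd (nat_lit 16384) (Steps.fwd (nat_lit 49152) (Steps.fwd (nat_lit 53248) (Steps.bwd (nat_lit 12) Steps.nil)))))))) (nat_lit 45) (nat_lit 4),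
  Rule.mk (nat_lit 3) (nat_lit 103) (Steps.fwd (nat_lit 40960) (Steps.bwd (nat_lit 7) (Steps.bwd (nat_lit 5) (Steps.fwd (nat_lit 57344) (Steps.fwd (nat_lit 49152) (Steps.fwd (nat_lit 4096) Steps.nil)))))) (nat_lit 30) (nat_lit 3),
  Rule.mk (nat_lit 0) (nat_lit 163) (Steps.bwd (nat_lit 1) (Steps.fwd (nat_lit 8192) (Steps.bwd (nat_lit 4) (Steps.fwd (nat_lit 53248) (Steps.fwd (nat_lit 45056) (Steps.fwd (nat_lit 20480) (Steps.fwd (nat_lit 49152) (Steps.bwd (nat_lit 13) (Steps.fwd (nat_lit 24576) (Steps.fwd (nat_lit 16384) Steps.nil)))))))))) (nat_lit 53) (nat_lit 7),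
  Rule.mk (nat_lit 4) (nat_lit 103) (Steps.bwd (nat_lit 2) (Steps.bwd (nat_lit 2) (Steps.bwd (nat_lit 2) (Steps.bwd (nat_lit 4) (Steps.bwd (nat_lit 7) (Steps.fwd (nat_lit 8192) Steps.nil)))))) (nat_lit 28) (nat_lit 1),
  Rule.mk (nat_lit 5) (nat_lit 148) (Steps.bwd (nat_lit 11) (Steps.bwd (nat_lit 13) (Steps.fwd (nat_lit 16384) (Steps.fwd (nat_lit 4096) (Steps.fwd (nat_lit 4096) (Steps.bwd (nat_lit 4) (Steps.bwd (nat_lit 6) (Steps.fwd (nat_lit 53248) (Steps.bwd (nat_lit 12) Steps.nil))))))))) (nat_lit 52) (nat_lit 8),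
  Rule.mk (nat_lit 4) (nat_lit 118) (Steps.bwd (nat_lit 6) (Steps.fwd (nat_lit 45056) (Steps.bwd (nat_lit 5) (Steps.bwd (nat_lit 4) (Steps.fwd (nat_lit 20480) (Steps.bwd (nat_lit 12) (Steps.bwd (nat_lit 5) Steps.nil))))))) (nat_lit 35) (nat_lit 0),
  Rule.mk (nat_lit 12) (nat_lit 88) (Steps.bwd (nat_lit 13) (Steps.bwd (nat_lit 5) (Steps.fwd (nat_lit 40960) (Steps.fwd (nat_lit 20480) (Steps.bwd (nat_lit 14) Steps.nil))))) (nat_lit 24) (nat_lit 4),
  Rule.mk (nat_lit 10) (nat_lit 88) (Steps.fwd (nat_lit 49152) (Steps.fwd (nat_lit 53248) (Steps.fwd (nat_lit 49152) (Steps.bwd (nat_lit 13) (Steps.bwd (nat_lit 12) Steps.nil))))) (nat_lit 27) (nat_lit 4),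
  Rule.mk (nat_lit 9) (nat_lit 118) (Steps.bwd (nat_lit 14) (Steps.bwd (nat_lit 12) (Steps.bwd (nat_lit 5) (Steps.fwd (nat_lit 16384) (Steps.fwd (nat_lit 4096) (Steps.fwd (nat_lit 4096) (Steps.fwd (nat_lit 32768) Steps.nil))))))) (nat_lit 33) (nat_lit 2),
  Rule.mk (nat_lit 8) (nat_lit 118) (Steps.bwd (nat_lit 14) (Steps.bwd (nat_lit 12) (Steps.bwd (nat_lit 10) (Steps.bwd (nat_lit 8) (Steps.fwd (nat_lit 53248) (Steps.bwd (nat_lit 12) (Steps.bwd (nat_lit 10) Steps.nil))))))) (nat_lit 40) (nat_lit 1),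
  Rule.mk (nat_lit 3) (nat_lit 133) (Steps.fwd (nat_lit 49152) (Steps.fwd (nat_lit 53248) (Steps.bwd (nat_lit 12) (Steps.bwd (nat_lit 5) (Steps.fwd (nat_lit 36864) (Steps.fwd (nat_lit 28672) (Steps.bwd (nat_lit 3) (Steps.bwd (nat_lit 8) Steps.nil)))))))) (nat_lit 45) (nat_lit 0),
  Rule.mk (nat_lit 2) (nat_lit 88) (Steps.bwd (nat_lit 8) (Steps.bwd (nat_lit 2) (Steps.bwd (nat_lit 5) (Steps.bwd (nat_lit 9) (Steps.fwd (nat_lit 16384) Steps.nil))))) (nat_lit 23) (nat_lit 5),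
  Rule.mk (nat_lit 1) (nat_lit 118) (Steps.bwd (nat_lit 10) (Steps.bwd (nat_lit 8) (Steps.bwd (nat_lit 2) (Steps.fwd (nat_lit 4096) (Steps.bwd (nat_lit 7) (Steps.fwd (nat_lit 4096) (Steps.fwd (nat_lit 24576) Steps.nil))))))) (nat_lit 42) (nat_lit 2),
  Rule.mk (nat_lit 3) (nat_lit 133) (Steps.bwd (nat_lit 11) (Steps.fwd (nat_lit 53248) (Steps.bwd (nat_lit 12) (Steps.bwd (nat_lit 5) (Steps.bwd (nat_lit 10) (Steps.bwd (nat_lit 8) (Steps.bwd (nat_lit 3) (Steps.fwd (nat_lit 28672) Steps.nil)))))))) (nat_lit 45) (nat_lit 0),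
  Rule.mk (nat_lit 5) (nat_lit 148) (Steps.bwd (nat_lit 3) (Steps.fwd (nat_lit 4096) (Steps.fwd (nat_lit 32768) (Steps.bwd (nat_lit 9) (Steps.bwd (nat_lit 8) (Steps.fwd (nat_lit 8192) (Steps.fwd (nat_lit 8192) (Steps.bwd (nat_lit 1) (Steps.bwd (nat_lit 4) Steps.nil))))))))) (nat_lit 46) (nat_lit 6),
  Rule.mk (nat_lit 7) (nat_lit 148) (Steps.bwd (nat_lit 10) (Steps.bwd (nat_lit 8) (Steps.fwd (nat_lit 8192) (Steps.bwd (nat_lit 4) (Steps.bwd (nat_lit 6) (Steps.bwd (nat_lit 3) (Steps.bwd (nat_lit 2) (Steps.bwd (nat_lit 2) (Steps.bwd (nat_lit 2) Steps.nil))))))))) (nat_lit 47) (nat_lit 0),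
  Rule.mk (nat_lit 1) (nat_lit 118) (Steps.bwd (nat_lit 10) (Steps.bwd (nat_lit 8) (Steps.bwd (nat_lit 2) (Steps.bwd (nat_lit 2) (Steps.bwd (nat_lit 7) (Steps.fwd (nat_lit 4096) (Steps.fwd (nat_lit 24576) Steps.nil))))))) (nat_lit 42) (nat_lit 2),
  Rule.mk (nat_lit 4) (nat_lit 148) (Steps.bwd (nat_lit 5) (Steps.fwd (nat_lit 16384) (Steps.bwd (nat_lit 2) (Steps.bwd (nat_lit 7) (Steps.bwd (nat_lit 9) (Steps.bwd (nat_lit 8) (Steps.bwd (nat_lit 1) (Steps.bwd (nat_lit 1) (Steps.bwd (nat_lit 1) Steps.nil))))))))) (nat_lit 46) (nat_lit 5),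
  Rule.mk (nat_lit 7) (nat_lit 103) (Steps.bwd (nat_lit 1) (Steps.fwd (nat_lit 12288) (Steps.fwd (nat_lit 4096) (Steps.fwd (nat_lit 4096) (Steps.fwd (nat_lit 4096) (Steps.bwd (nat_lit 4) Steps.nil)))))) (nat_lit 28) (nat_lit 6),
  Rule.mk (nat_lit 5) (nat_lit 118) (Steps.fwd (nat_lit 8192) (Steps.fwd (nat_lit 36864) (Steps.fwd (nat_lit 28672) (Steps.fwd (nat_lit 4096) (Steps.fwd (nat_lit 4096) (Steps.bwd (nat_lit 7) (Steps.fwd (nat_lit 4096) Steps.nil))))))) (nat_lit 42) (nat_lit 1),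
  Rule.mk (nat_lit 0) (nat_lit 103) (Steps.bwd (nat_lit 7) (Steps.bwd (nat_lit 1) (Steps.bwd (nat_lit 4) (Steps.bwd (nat_lit 10) (Steps.fwd (nat_lit 20480) (Steps.bwd (nat_lit 1) Steps.nil)))))) (nat_lit 22) (nat_lit 0),
  Rule.mk (nat_lit 13) (nat_lit 58) (Steps.bwd (nat_lit 0) (Steps.fwd (nat_lit 53248) (Steps.fwd (nat_lit 0) Steps.nil))) (nat_lit 56) (nat_lit 0),
  Rule.mk (nat_lit 13) (nat_lit 103) (Steps.bwd (nat_lit 11) (Steps.fwd (nat_lit 4096) (Steps.fwd (nat_lit 16384) (Steps.fwd (nat_lit 40960) (Steps.bwd (nat_lit 7) (Steps.fwd (nat_lit 24576) Steps.nil)))))) (nat_lit 30) (nat_lit 0),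
  Rule.mk (nat_lit 13) (nat_lit 148) (Steps.bwd (nat_lit 5) (Steps.fwd (nat_lit 16384) (Steps.bwd (nat_lit 1) (Steps.fwd (nat_lit 8192) (Steps.fwd (nat_lit 12288) (Steps.bwd (nat_lit 14) (Steps.bwd (nat_lit 12) (Steps.bwd (nat_lit 6) (Steps.bwd (nat_lit 11) Steps.nil))))))))) (nat_lit 53) (nat_lit 5),
  Rule.mk (nat_lit 0) (nat_lit 103) (Steps.bwd (nat_lit 13) (Steps.bwd (nat_lit 5) (Steps.bwd (nat_lit 10) (Steps.fwd (nat_lit 20480) (Steps.fwd (nat_lit 53248) (Steps.bwd (nat_lit 11) Steps.nil)))))) (nat_lit 25) (nat_lit 3),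
  Rule.mk (nat_lit 0) (nat_lit 133) (Steps.bwd (nat_lit 8) (Steps.fwd (nat_lit 8192) (Steps.bwd (nat_lit 1) (Steps.bwd (nat_lit 4) (Steps.fwd (nat_lit 20480) (Steps.fwd (nat_lit 49152) (Steps.fwd (nat_lit 57344) (Steps.fwd (nat_lit 36864) Steps.nil)))))))) (nat_lit 32) (nat_lit 7),
  Rule.mk (nat_lit 6) (nat_lit 73) (Steps.bwd (nat_lit 12) (Steps.fwd (nat_lit 20480) (Steps.bwd (nat_lit 12) (Steps.bwd (nat_lit 9) Steps.nil)))) (nat_lit 19) (nat_lit 2),
  Rule.mk (nat_lit 11) (nat_lit 88) (Steps.fwd (nat_lit 53248) (Steps.bwd (nat_lit 12) (Steps.fwd (nat_lit 57344) (Steps.bwd (nat_lit 12) (Steps.bwd (nat_lit 9) Steps.nil))))) (nat_lit 26) (nat_lit 4),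
  Rule.mk (nat_lit 13) (nat_lit 118) (Steps.bwd (nat_lit 7) (Steps.bwd (nat_lit 9) (Steps.bwd (nat_lit 11) (Steps.bwd (nat_lit 13) (Steps.bwd (nat_lit 7) (Steps.fwd (nat_lit 40960) (Steps.bwd (nat_lit 11) Steps.nil))))))) (nat_lit 41) (nat_lit 3),
  Rule.mk (nat_lit 0) (nat_lit 163) (Steps.fwd (nat_lit 12288) (Steps.fwd (nat_lit 53248) (Steps.fwd (nat_lit 45056) (Steps.bwd (nat_lit 6) (Steps.bwd (nat_lit 11) (Steps.bwd (nat_lit 13) (Steps.bwd (nat_lit 5) (Steps.fwd (nat_lit 16384) (Steps.bwd (nat_lit 1) (Steps.bwd (nat_lit 1) Steps.nil)))))))))) (nat_lit 53) (nat_lit 9),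
  Rule.mk (nat_lit 0) (nat_lit 58) (Steps.bwd (nat_lit 14) (Steps.fwd (nat_lit 53248) (Steps.bwd (nat_lit 14) Steps.nil))) (nat_lit 11) (nat_lit 0),
  Rule.mk (nat_lit 0) (nat_lit 88) (Steps.bwd (nat_lit 7) (Steps.bwd (nat_lit 3) (Steps.bwd (nat_lit 13) (Steps.fwd (nat_lit 24576) (Steps.bwd (nat_lit 12) Steps.nil))))) (nat_lit 17) (nat_lit 3),
  Rule.mk (nat_lit 4) (nat_lit 88) (Steps.bwd (nat_lit 10) (Steps.fwd (nat_lit 20480) (Steps.bwd (nat_lit 1) (Steps.fwd (nat_lit 32768) (Steps.bwd (nat_lit 1) Steps.nil))))) (nat_lit 22) (nat_lit 3),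
  Rule.mk (nat_lit 0) (nat_lit 88) (Steps.bwd (nat_lit 8) (Steps.fwd (nat_lit 16384) (Steps.fwd (nat_lit 24576) (Steps.bwd (nat_lit 1) (Steps.bwd (nat_lit 1) Steps.nil))))) (nat_lit 15) (nat_lit 3),
  Rule.mk (nat_lit 0) (nat_lit 133) (Steps.bwd (nat_lit 7) (Steps.fwd (nat_lit 4096) (Steps.bwd (nat_lit 5) (Steps.fwd (nat_lit 8192) (Steps.bwd (nat_lit 10) (Steps.bwd (nat_lit 8) (Steps.fwd (nat_lit 4096) (Steps.fwd (nat_lit 4096) Steps.nil)))))))) (nat_lit 42) (nat_lit 6),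
  Rule.mk (nat_lit 1) (nat_lit 103) (Steps.bwd (nat_lit 12) (Steps.bwd (nat_lit 14) (Steps.fwd (nat_lit 20480) (Steps.fwd (nat_lit 28672) (Steps.bwd (nat_lit 10) (Steps.bwd (nat_lit 4) Steps.nil)))))) (nat_lit 31) (nat_lit 6),
  Rule.mk (nat_lit 3) (nat_lit 148) (Steps.fwd (nat_lit 4096) (Steps.fwd (nat_lit 4096) (Steps.bwd (nat_lit 4) (Steps.fwd (nat_lit 20480) (Steps.bwd (nat_lit 14) (Steps.bwd (nat_lit 12) (Steps.bwd (nat_lit 5) (Steps.fwd (nat_lit 49152) (Steps.fwd (nat_lit 57344) Steps.nil))))))))) (nat_lit 52) (nat_lit 1),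
  Rule.mk (nat_lit 8) (nat_lit 88) (Steps.fwd (nat_lit 4096) (Steps.fwd (nat_lit 24576) (Steps.fwd (nat_lit 40960) (Steps.bwd (nat_lit 3) (Steps.fwd (nat_lit 4096) Steps.nil))))) (nat_lit 23) (nat_lit 0),
  Rule.mk (nat_lit 0) (nat_lit 163) (Steps.bwd (nat_lit 1) (Steps.bwd (nat_lit 1) (Steps.bwd (nat_lit 1) (Steps.fwd (nat_lit 12288) (Steps.bwd (nat_lit 5) (Steps.fwd (nat_lit 16384) (Steps.bwd (nat_lit 2) (Steps.bwd (nat_lit 7) (Steps.bwd (nat_lit 9) (Steps.fwd (nat_lit 28672) Steps.nil)))))))))) (nat_lit 46) (nat_lit 1),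
  Rule.mk (nat_lit 0) (nat_lit 118) (Steps.bwd (nat_lit 1) (Steps.bwd (nat_lit 1) (Steps.fwd (nat_lit 8192) (Steps.fwd (nat_lit 16384) (Steps.fwd (nat_lit 4096) (Steps.bwd (nat_lit 8) (Steps.bwd (nat_lit 3) Steps.nil))))))) (nat_lit 29) (nat_lit 3),
  Rule.mk (nat_lit 7) (nat_lit 148) (Steps.bwd (nat_lit 9) (Steps.fwd (nat_lit 28672) (Steps.fwd (nat_lit 8192) (Steps.bwd (nat_lit 1) (Steps.bwd (nat_lit 1) (Steps.fwd (nat_lit 12288) (Steps.bwd (nat_lit 5) (Steps.bwd (nat_lit 3) (Steps.bwd (nat_lit 2) Steps.nil))))))))) (nat_lit 46) (nat_lit 9),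
  Rule.mk (nat_lit 3) (nat_lit 118) (Steps.bwd (nat_lit 2) (Steps.bwd (nat_lit 2) (Steps.bwd (nat_lit 7) (Steps.bwd (nat_lit 9) (Steps.bwd (nat_lit 14) (Steps.bwd (nat_lit 12) (Steps.bwd (nat_lit 5) Steps.nil))))))) (nat_lit 33) (nat_lit 6),
  Rule.mk (nat_lit 8) (nat_lit 118) (Steps.bwd (nat_lit 2) (Steps.bwd (nat_lit 2) (Steps.bwd (nat_lit 7) (Steps.fwd (nat_lit 4096) (Steps.bwd (nat_lit 5) (Steps.fwd (nat_lit 8192) (Steps.fwd (nat_lit 36864) Steps.nil))))))) (nat_lit 42) (nat_lit 4),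
  Rule.mk (nat_lit 11) (nat_lit 118) (Steps.fwd (nat_lit 57344) (Steps.fwd (nat_lit 36864) (Steps.bwd (nat_lit 8) (Steps.bwd (nat_lit 1) (Steps.bwd (nat_lit 1) (Steps.bwd (nat_lit 4) (Steps.fwd (nat_lit 20480) Steps.nil))))))) (nat_lit 32) (nat_lit 5),
  Rule.mk (nat_lit 14) (nat_lit 118) (Steps.bwd (nat_lit 12) (Steps.fwd (nat_lit 36864) (Steps.fwd (nat_lit 28672) (Steps.bwd (nat_lit 14) (Steps.bwd (nat_lit 12) (Steps.fwd (nat_lit 36864) (Steps.bwd (nat_lit 8) Steps.nil))))))) (nat_lit 40) (nat_lit 2),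
  Rule.mk (nat_lit 6) (nat_lit 73) (Steps.bwd (nat_lit 14) (Steps.bwd (nat_lit 4) (Steps.bwd (nat_lit 8) (Steps.bwd (nat_lit 11) Steps.nil)))) (nat_lit 16) (nat_lit 4),
  Rule.mk (nat_lit 13) (nat_lit 88) (Steps.bwd (nat_lit 5) (Steps.fwd (nat_lit 36864) (Steps.bwd (nat_lit 6) (Steps.bwd (nat_lit 14) (Steps.fwd (nat_lit 49152) Steps.nil))))) (nat_lit 25) (nat_lit 4),
  Rule.mk (nat_lit 11) (nat_lit 88) (Steps.bwd (nat_lit 14) (Steps.bwd (nat_lit 12) (Steps.bwd (nat_lit 13) (Steps.bwd (nat_lit 12) (Steps.fwd (nat_lit 40960) Steps.nil))))) (nat_lit 26) (nat_lit 4),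
  Rule.mk (nat_lit 12) (nat_lit 88) (Steps.fwd (nat_lit 36864) (Steps.bwd (nat_lit 11) (Steps.bwd (nat_lit 14) (Steps.fwd (nat_lit 49152) (Steps.bwd (nat_lit 13) Steps.nil))))) (nat_lit 27) (nat_lit 3),
  Rule.mk (nat_lit 7) (nat_lit 133) (Steps.bwd (nat_lit 4) (Steps.fwd (nat_lit 32768) (Steps.bwd (nat_lit 9) (Steps.fwd (nat_lit 20480) (Steps.bwd (nat_lit 11) (Steps.bwd (nat_lit 13) (Steps.bwd (nat_lit 12) (Steps.bwd (nat_lit 4) Steps.nil)))))))) (nat_lit 44) (nat_lit 2),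
  Rule.mk (nat_lit 3) (nat_lit 133) (Steps.bwd (nat_lit 11) (Steps.fwd (nat_lit 53248) (Steps.fwd (nat_lit 45056) (Steps.bwd (nat_lit 5) (Steps.bwd (nat_lit 10) (Steps.fwd (nat_lit 28672) (Steps.bwd (nat_lit 3) (Steps.fwd (nat_lit 28672) Steps.nil)))))))) (nat_lit 45) (nat_lit 0),
  Rule.mk (nat_lit 14) (nat_lit 148) (Steps.fwd (nat_lit 45056) (Steps.fwd (nat_lit 24576) (Steps.fwd (nat_lit 49152) (Steps.fwd (nat_lit 57344) (Steps.bwd (nat_lit 3) (Steps.bwd (nat_lit 2) (Steps.bwd (nat_lit 2) (Steps.fwd (nat_lit 12288) (Steps.bwd (nat_lit 6) Steps.nil))))))))) (nat_lit 52) (nat_lit 6),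
  Rule.mk (nat_lit 12) (nat_lit 103) (Steps.bwd (nat_lit 14) (Steps.bwd (nat_lit 6) (Steps.bwd (nat_lit 8) (Steps.fwd (nat_lit 36864) (Steps.fwd (nat_lit 12288) (Steps.bwd (nat_lit 1) Steps.nil)))))) (nat_lit 31) (nat_lit 0)]
noncomputable def R_46 : List (Rule) := [Rule.mk (nat_lit 6) (nat_lit 73) (Steps.bwd (nat_lit 14) (Steps.fwd (nat_lit 12288) (Steps.fwd (nat_lit 28672) (Steps.bwd (nat_lit 11) Steps.nil)))) (nat_lit 16) (nat_lit 4),
  Rule.mk (nat_lit 1) (nat_lit 103) (Steps.bwd (nat_lit 12) (Steps.fwd (nat_lit 53248) (Steps.bwd (nat_lit 6) (Steps.fwd (nat_lit 28672) (Steps.bwd (nat_lit 10) (Steps.bwd (nat_lit 4) Steps.nil)))))) (nat_lit 31) (nat_lit 6),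
  Rule.mk (nat_lit 5) (nat_lit 118) (Steps.bwd (nat_lit 4) (Steps.bwd (nat_lit 6) (Steps.bwd (nat_lit 12) (Steps.bwd (nat_lit 5) (Steps.bwd (nat_lit 4) (Steps.bwd (nat_lit 6) (Steps.bwd (nat_lit 12) Steps.nil))))))) (nat_lit 35) (nat_lit 3),
  Rule.mk (nat_lit 7) (nat_lit 103) (Steps.bwd (nat_lit 5) (Steps.bwd (nat_lit 13) (Steps.bwd (nat_lit 11) (Steps.fwd (nat_lit 4096) (Steps.fwd (nat_lit 16384) (Steps.bwd (nat_lit 9) Steps.nil)))))) (nat_lit 30) (nat_lit 5),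
  Rule.mk (nat_lit 0) (nat_lit 58) (Steps.fwd (nat_lit 28672) (Steps.fwd (nat_lit 28672) (Steps.fwd (nat_lit 28672) Steps.nil))) (nat_lit 5) (nat_lit 0),
  Rule.mk (nat_lit 9) (nat_lit 118) (Steps.bwd (nat_lit 14) (Steps.bwd (nat_lit 12) (Steps.fwd (nat_lit 24576) (Steps.fwd (nat_lit 16384) (Steps.fwd (nat_lit 4096) (Steps.fwd (nat_lit 4096) (Steps.bwd (nat_lit 7) Steps.nil))))))) (nat_lit 33) (nat_lit 2),
  Rule.mk (nat_lit 13) (nat_lit 118) (Steps.bwd (nat_lit 7) (Steps.bwd (nat_lit 9) (Steps.fwd (nat_lit 49152) (Steps.fwd (nat_lit 57344) (Steps.fwd (nat_lit 32768) (Steps.bwd (nat_lit 9) (Steps.bwd (nat_lit 11) Steps.nil))))))) (nat_lit 41) (nat_lit 3),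
  Rule.mk (nat_lit 4) (nat_lit 148) (Steps.fwd (nat_lit 20480) (Steps.fwd (nat_lit 53248) (Steps.fwd (nat_lit 45056) (Steps.fwd (nat_lit 24576) (Steps.bwd (nat_lit 11) (Steps.fwd (nat_lit 57344) (Steps.fwd (nat_lit 16384) (Steps.bwd (nat_lit 2) (Steps.bwd (nat_lit 2) Steps.nil))))))))) (nat_lit 52) (nat_lit 4),
  Rule.mk (nat_lit 9) (nat_lit 118) (Steps.fwd (nat_lit 53248) (Steps.fwd (nat_lit 49152) (Steps.bwd (nat_lit 13) (Steps.bwd (nat_lit 9) (Steps.fwd (nat_lit 53248) (Steps.bwd (nat_lit 11) (Steps.bwd (nat_lit 13) Steps.nil))))))) (nat_lit 36) (nat_lit 1),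
  Rule.mk (nat_lit 12) (nat_lit 133) (Steps.fwd (nat_lit 12288) (Steps.bwd (nat_lit 7) (Steps.fwd (nat_lit 12288) (Steps.bwd (nat_lit 7) (Steps.fwd (nat_lit 40960) (Steps.fwd (nat_lit 20480) (Steps.fwd (nat_lit 49152) (Steps.bwd (nat_lit 13) Steps.nil)))))))) (nat_lit 44) (nat_lit 0),
  Rule.mk (nat_lit 14) (nat_lit 103) (Steps.fwd (nat_lit 20480) (Steps.fwd (nat_lit 28672) (Steps.fwd (nat_lit 36864) (Steps.bwd (nat_lit 4) (Steps.bwd (nat_lit 1) (Steps.bwd (nat_lit 12) Steps.nil)))))) (nat_lit 31) (nat_lit 1),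
  Rule.mk (nat_lit 1) (nat_lit 103) (Steps.fwd (nat_lit 8192) (Steps.bwd (nat_lit 3) (Steps.bwd (nat_lit 2) (Steps.bwd (nat_lit 8) (Steps.bwd (nat_lit 3) (Steps.fwd (nat_lit 8192) Steps.nil)))))) (nat_lit 29) (nat_lit 5),
  Rule.mk (nat_lit 10) (nat_lit 148) (Steps.fwd (nat_lit 28672) (Steps.fwd (nat_lit 8192) (Steps.fwd (nat_lit 12288) (Steps.fwd (nat_lit 20480) (Steps.bwd (nat_lit 3) (Steps.bwd (nat_lit 2) (Steps.fwd (nat_lit 4096) (Steps.fwd (nat_lit 4096) (Steps.fwd (nat_lit 32768) Steps.nil))))))))) (nat_lit 47) (nat_lit 1),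
  Rule.mk (nat_lit 2) (nat_lit 88) (Steps.bwd (nat_lit 10) (Steps.fwd (nat_lit 32768) (Steps.fwd (nat_lit 40960) (Steps.fwd (nat_lit 8192) (Steps.bwd (nat_lit 4) Steps.nil))))) (nat_lit 21) (nat_lit 0),
  Rule.mk (nat_lit 13) (nat_lit 118) (Steps.bwd (nat_lit 10) (Steps.fwd (nat_lit 32768) (Steps.fwd (nat_lit 40960) (Steps.fwd (nat_lit 57344) (Steps.fwd (nat_lit 36864) (Steps.bwd (nat_lit 7) (Steps.bwd (nat_lit 9) Steps.nil))))))) (nat_lit 38) (nat_lit 1),
  Rule.mk (nat_lit 14) (nat_lit 88) (Steps.bwd (nat_lit 12) (Steps.bwd (nat_lit 13) (Steps.bwd (nat_lit 12) (Steps.bwd (nat_lit 9) (Steps.fwd (nat_lit 49152) Steps.nil))))) (nat_lit 26) (nat_lit 5),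
  Rule.mk (nat_lit 14) (nat_lit 88) (Steps.bwd (nat_lit 11) (Steps.bwd (nat_lit 13) (Steps.bwd (nat_lit 12) (Steps.bwd (nat_lit 10) (Steps.bwd (nat_lit 11) Steps.nil))))) (nat_lit 27) (nat_lit 0),
  Rule.mk (nat_lit 12) (nat_lit 88) (Steps.fwd (nat_lit 57344) (Steps.bwd (nat_lit 12) (Steps.bwd (nat_lit 9) (Steps.bwd (nat_lit 11) (Steps.bwd (nat_lit 14) Steps.nil))))) (nat_lit 26) (nat_lit 0),
  Rule.mk (nat_lit 10) (nat_lit 103) (Steps.bwd (nat_lit 4) (Steps.bwd (nat_lit 1) (Steps.fwd (nat_lit 45056) (Steps.bwd (nat_lit 14) (Steps.fwd (nat_lit 20480) (Steps.bwd (nat_lit 8) Steps.nil)))))) (nat_lit 31) (nat_lit 4),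
  Rule.mk (nat_lit 2) (nat_lit 88) (Steps.bwd (nat_lit 10) (Steps.fwd (nat_lit 28672) (Steps.fwd (nat_lit 40960) (Steps.bwd (nat_lit 1) (Steps.bwd (nat_lit 3) Steps.nil))))) (nat_lit 20) (nat_lit 3),
  Rule.mk (nat_lit 12) (nat_lit 118) (Steps.fwd (nat_lit 36864) (Steps.fwd (nat_lit 28672) (Steps.fwd (nat_lit 53248) (Steps.fwd (nat_lit 45056) (Steps.bwd (nat_lit 10) (Steps.fwd (nat_lit 28672) (Steps.fwd (nat_lit 53248) Steps.nil))))))) (nat_lit 40) (nat_lit 3),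
  Rule.mk (nat_lit 7) (nat_lit 133) (Steps.bwd (nat_lit 4) (Steps.fwd (nat_lit 32768) (Steps.fwd (nat_lit 40960) (Steps.fwd (nat_lit 20480) (Steps.fwd (nat_lit 49152) (Steps.fwd (nat_lit 57344) (Steps.bwd (nat_lit 12) (Steps.fwd (nat_lit 12288) Steps.nil)))))))) (nat_lit 44) (nat_lit 2),
  Rule.mk (nat_lit 1) (nat_lit 148) (Steps.bwd (nat_lit 1) (Steps.bwd (nat_lit 4) (Steps.fwd (nat_lit 53248) (Steps.bwd (nat_lit 12) (Steps.fwd (nat_lit 20480) (Steps.bwd (nat_lit 11) (Steps.fwd (nat_lit 57344) (Steps.bwd (nat_lit 5) (Steps.bwd (nat_lit 3) Steps.nil))))))))) (nat_lit 53) (nat_lit 8),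
  Rule.mk (nat_lit 9) (nat_lit 88) (Steps.bwd (nat_lit 1) (Steps.bwd (nat_lit 3) (Steps.fwd (nat_lit 4096) (Steps.bwd (nat_lit 10) (Steps.fwd (nat_lit 28672) Steps.nil))))) (nat_lit 20) (nat_lit 0),
  Rule.mk (nat_lit 7) (nat_lit 88) (Steps.bwd (nat_lit 1) (Steps.fwd (nat_lit 12288) (Steps.fwd (nat_lit 36864) (Steps.fwd (nat_lit 20480) (Steps.bwd (nat_lit 1) Steps.nil))))) (nat_lit 22) (nat_lit 1),
  Rule.mk (nat_lit 8) (nat_lit 118) (Steps.bwd (nat_lit 1) (Steps.bwd (nat_lit 1) (Steps.fwd (nat_lit 32768) (Steps.bwd (nat_lit 9) (Steps.fwd (nat_lit 4096) (Steps.fwd (nat_lit 20480) (Steps.bwd (nat_lit 1) Steps.nil))))))) (nat_lit 43) (nat_lit 2),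
  Rule.mk (nat_lit 2) (nat_lit 148) (Steps.fwd (nat_lit 32768) (Steps.bwd (nat_lit 10) (Steps.bwd (nat_lit 8) (Steps.bwd (nat_lit 1) (Steps.fwd (nat_lit 12288) (Steps.fwd (nat_lit 20480) (Steps.bwd (nat_lit 3) (Steps.fwd (nat_lit 4096) (Steps.fwd (nat_lit 4096) Steps.nil))))))))) (nat_lit 47) (nat_lit 9),
  Rule.mk (nat_lit 2) (nat_lit 73) (Steps.fwd (nat_lit 20480) (Steps.fwd (nat_lit 12288) (Steps.fwd (nat_lit 32768) (Steps.bwd (nat_lit 2) Steps.nil)))) (nat_lit 14) (nat_lit 4),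
  Rule.mk (nat_lit 4) (nat_lit 103) (Steps.bwd (nat_lit 7) (Steps.bwd (nat_lit 1) (Steps.bwd (nat_lit 4) (Steps.fwd (nat_lit 4096) (Steps.fwd (nat_lit 4096) (Steps.bwd (nat_lit 2) Steps.nil)))))) (nat_lit 28) (nat_lit 5),
  Rule.mk (nat_lit 5) (nat_lit 118) (Steps.bwd (nat_lit 3) (Steps.fwd (nat_lit 4096) (Steps.bwd (nat_lit 2) (Steps.fwd (nat_lit 32768) (Steps.bwd (nat_lit 9) (Steps.fwd (nat_lit 53248) (Steps.fwd (nat_lit 45056) Steps.nil))))))) (nat_lit 33) (nat_lit 5),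
  Rule.mk (nat_lit 5) (nat_lit 118) (Steps.bwd (nat_lit 1) (Steps.fwd (nat_lit 36864) (Steps.fwd (nat_lit 28672) (Steps.fwd (nat_lit 4096) (Steps.fwd (nat_lit 4096) (Steps.fwd (nat_lit 32768) (Steps.bwd (nat_lit 2) Steps.nil))))))) (nat_lit 42) (nat_lit 1),
  Rule.mk (nat_lit 10) (nat_lit 118) (Steps.bwd (nat_lit 8) (Steps.bwd (nat_lit 2) (Steps.bwd (nat_lit 2) (Steps.fwd (nat_lit 32768) (Steps.bwd (nat_lit 2) (Steps.fwd (nat_lit 24576) (Steps.bwd (nat_lit 1) Steps.nil))))))) (nat_lit 42) (nat_lit 3),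
  Rule.mk (nat_lit 13) (nat_lit 118) (Steps.bwd (nat_lit 10) (Steps.bwd (nat_lit 8) (Steps.bwd (nat_lit 1) (Steps.bwd (nat_lit 1) (Steps.fwd (nat_lit 12288) (Steps.fwd (nat_lit 20480) (Steps.fwd (nat_lit 49152) Steps.nil))))))) (nat_lit 32) (nat_lit 6),
  Rule.mk (nat_lit 5) (nat_lit 73) (Steps.bwd (nat_lit 10) (Steps.fwd (nat_lit 49152) (Steps.fwd (nat_lit 24576) (Steps.bwd (nat_lit 11) Steps.nil)))) (nat_lit 18) (nat_lit 4),
  Rule.mk (nat_lit 14) (nat_lit 88) (Steps.bwd (nat_lit 12) (Steps.bwd (nat_lit 13) (Steps.fwd (nat_lit 45056) (Steps.bwd (nat_lit 9) (Steps.bwd (nat_lit 11) Steps.nil))))) (nat_lit 26) (nat_lit 5),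
  Rule.mk (nat_lit 1) (nat_lit 88) (Steps.bwd (nat_lit 7) (Steps.fwd (nat_lit 8192) (Steps.fwd (nat_lit 12288) (Steps.bwd (nat_lit 10) (Steps.bwd (nat_lit 6) Steps.nil))))) (nat_lit 22) (nat_lit 0),
  Rule.mk (nat_lit 0) (nat_lit 133) (Steps.fwd (nat_lit 53248) (Steps.bwd (nat_lit 10) (Steps.fwd (nat_lit 28672) (Steps.bwd (nat_lit 9) (Steps.bwd (nat_lit 14) (Steps.fwd (nat_lit 36864) (Steps.fwd (nat_lit 28672) (Steps.fwd (nat_lit 40960) Steps.nil)))))))) (nat_lit 39) (nat_lit 3),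
  Rule.mk (nat_lit 0) (nat_lit 118) (Steps.bwd (nat_lit 4) (Steps.bwd (nat_lit 1) (Steps.fwd (nat_lit 45056) (Steps.bwd (nat_lit 14) (Steps.fwd (nat_lit 20480) (Steps.fwd (nat_lit 28672) (Steps.fwd (nat_lit 36864) Steps.nil))))))) (nat_lit 31) (nat_lit 4),
  Rule.mk (nat_lit 1) (nat_lit 88) (Steps.fwd (nat_lit 12288) (Steps.fwd (nat_lit 4096) (Steps.bwd (nat_lit 10) (Steps.bwd (nat_lit 7) (Steps.fwd (nat_lit 40960) Steps.nil))))) (nat_lit 21) (nat_lit 4),
  Rule.mk (nat_lit 0) (nat_lit 103) (Steps.bwd (nat_lit 2) (Steps.bwd (nat_lit 8) (Steps.fwd (nat_lit 4096) (Steps.bwd (nat_lit 5) (Steps.bwd (nat_lit 9) (Steps.bwd (nat_lit 3) Steps.nil)))))) (nat_lit 23) (nat_lit 4),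
  Rule.mk (nat_lit 0) (nat_lit 88) (Steps.fwd (nat_lit 28672) (Steps.fwd (nat_lit 16384) (Steps.fwd (nat_lit 24576) (Steps.bwd (nat_lit 1) (Steps.bwd (nat_lit 1) Steps.nil))))) (nat_lit 15) (nat_lit 3),
  Rule.mk (nat_lit 1) (nat_lit 88) (Steps.bwd (nat_lit 4) (Steps.fwd (nat_lit 4096) (Steps.fwd (nat_lit 36864) (Steps.bwd (nat_lit 7) (Steps.fwd (nat_lit 40960) Steps.nil))))) (nat_lit 21) (nat_lit 4),
  Rule.mk (nat_lit 9) (nat_lit 118) (Steps.bwd (nat_lit 14) (Steps.fwd (nat_lit 49152) (Steps.bwd (nat_lit 13) (Steps.bwd (nat_lit 9) (Steps.fwd (nat_lit 53248) (Steps.bwd (nat_lit 11) (Steps.fwd (nat_lit 57344) Steps.nil))))))) (nat_lit 36) (nat_lit 1),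
  Rule.mk (nat_lit 12) (nat_lit 73) (Steps.fwd (nat_lit 20480) (Steps.bwd (nat_lit 12) (Steps.bwd (nat_lit 9) (Steps.bwd (nat_lit 6) Steps.nil)))) (nat_lit 19) (nat_lit 3),
  Rule.mk (nat_lit 14) (nat_lit 88) (Steps.bwd (nat_lit 12) (Steps.fwd (nat_lit 57344) (Steps.fwd (nat_lit 24576) (Steps.bwd (nat_lit 9) (Steps.bwd (nat_lit 6) Steps.nil))))) (nat_lit 24) (nat_lit 3),
  Rule.mk (nat_lit 7) (nat_lit 103) (Steps.bwd (nat_lit 5) (Steps.fwd (nat_lit 57344) (Steps.bwd (nat_lit 11) (Steps.fwd (nat_lit 4096) (Steps.bwd (nat_lit 3) (Steps.bwd (nat_lit 9) Steps.nil)))))) (nat_lit 30) (nat_lit 5),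
  Rule.mk (nat_lit 7) (nat_lit 118) (Steps.bwd (nat_lit 9) (Steps.bwd (nat_lit 14) (Steps.fwd (nat_lit 45056) (Steps.fwd (nat_lit 24576) (Steps.fwd (nat_lit 16384) (Steps.fwd (nat_lit 4096) (Steps.bwd (nat_lit 2) Steps.nil))))))) (nat_lit 33) (nat_lit 1),
  Rule.mk (nat_lit 10) (nat_lit 118) (Steps.bwd (nat_lit 7) (Steps.bwd (nat_lit 9) (Steps.bwd (nat_lit 13) (Steps.bwd (nat_lit 10) (Steps.fwd (nat_lit 32768) (Steps.bwd (nat_lit 9) (Steps.bwd (nat_lit 13) Steps.nil))))))) (nat_lit 38) (nat_lit 2),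
  Rule.mk (nat_lit 1) (nat_lit 73) (Steps.bwd (nat_lit 1) (Steps.bwd (nat_lit 8) (Steps.fwd (nat_lit 16384) (Steps.bwd (nat_lit 5) Steps.nil)))) (nat_lit 15) (nat_lit 2),
  Rule.mk (nat_lit 0) (nat_lit 133) (Steps.fwd (nat_lit 4096) (Steps.fwd (nat_lit 4096) (Steps.fwd (nat_lit 32768) (Steps.fwd (nat_lit 4096) (Steps.fwd (nat_lit 24576) (Steps.fwd (nat_lit 8192) (Steps.bwd (nat_lit 10) (Steps.bwd (nat_lit 8) Steps.nil)))))))) (nat_lit 42) (nat_lit 4),
  Rule.mk (nat_lit 8) (nat_lit 148) (Steps.bwd (nat_lit 1) (Steps.bwd (nat_lit 1) (Steps.bwd (nat_lit 1) (Steps.bwd (nat_lit 4) (Steps.fwd (nat_lit 24576) (Steps.fwd (nat_lit 16384) (Steps.bwd (nat_lit 2) (Steps.fwd (nat_lit 32768) (Steps.fwd (nat_lit 40960) Steps.nil))))))))) (nat_lit 46) (nat_lit 1),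
  Rule.mk (nat_lit 14) (nat_lit 148) (Steps.bwd (nat_lit 12) (Steps.fwd (nat_lit 20480) (Steps.fwd (nat_lit 49152) (Steps.bwd (nat_lit 13) (Steps.fwd (nat_lit 24576) (Steps.fwd (nat_lit 16384) (Steps.fwd (nat_lit 8192) (Steps.bwd (nat_lit 1) (Steps.bwd (nat_lit 4) Steps.nil))))))))) (nat_lit 53) (nat_lit 1),
  Rule.mk (nat_lit 0) (nat_lit 133) (Steps.bwd (nat_lit 9) (Steps.bwd (nat_lit 14) (Steps.fwd (nat_lit 36864) (Steps.bwd (nat_lit 8) (Steps.bwd (nat_lit 9) (Steps.fwd (nat_lit 53248) (Steps.bwd (nat_lit 10) (Steps.fwd (nat_lit 28672) Steps.nil)))))))) (nat_lit 39) (nat_lit 2),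
  Rule.mk (nat_lit 8) (nat_lit 103) (Steps.bwd (nat_lit 10) (Steps.bwd (nat_lit 4) (Steps.bwd (nat_lit 1) (Steps.fwd (nat_lit 45056) (Steps.bwd (nat_lit 14) (Steps.bwd (nat_lit 6) Steps.nil)))))) (nat_lit 31) (nat_lit 3),
  Rule.mk (nat_lit 12) (nat_lit 118) (Steps.bwd (nat_lit 13) (Steps.fwd (nat_lit 36864) (Steps.fwd (nat_lit 53248) (Steps.fwd (nat_lit 45056) (Steps.bwd (nat_lit 13) (Steps.bwd (nat_lit 10) (Steps.bwd (nat_lit 14) Steps.nil))))))) (nat_lit 37) (nat_lit 2),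
  Rule.mk (nat_lit 0) (nat_lit 163) (Steps.fwd (nat_lit 49152) (Steps.fwd (nat_lit 57344) (Steps.bwd (nat_lit 3) (Steps.bwd (nat_lit 2) (Steps.bwd (nat_lit 2) (Steps.fwd (nat_lit 12288) (Steps.bwd (nat_lit 6) (Steps.bwd (nat_lit 14) (Steps.bwd (nat_lit 12) (Steps.fwd (nat_lit 24576) Steps.nil)))))))))) (nat_lit 52) (nat_lit 8),
  Rule.mk (nat_lit 8) (nat_lit 118) (Steps.bwd (nat_lit 14) (Steps.fwd (nat_lit 45056) (Steps.bwd (nat_lit 10) (Steps.fwd (nat_lit 28672) (Steps.fwd (nat_lit 53248) (Steps.bwd (nat_lit 12) (Steps.bwd (nat_lit 10) Steps.nil))))))) (nat_lit 40) (nat_lit 1),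
  Rule.mk (nat_lit 3) (nat_lit 133) (Steps.bwd (nat_lit 8) (Steps.bwd (nat_lit 3) (Steps.bwd (nat_lit 11) (Steps.bwd (nat_lit 14) (Steps.fwd (nat_lit 45056) (Steps.bwd (nat_lit 5) (Steps.bwd (nat_lit 10) (Steps.bwd (nat_lit 8) Steps.nil)))))))) (nat_lit 45) (nat_lit 7),
  Rule.mk (nat_lit 2) (nat_lit 88) (Steps.fwd (nat_lit 24576) (Steps.fwd (nat_lit 40960) (Steps.bwd (nat_lit 3) (Steps.fwd (nat_lit 4096) (Steps.fwd (nat_lit 28672) Steps.nil))))) (nat_lit 23) (nat_lit 1),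
  Rule.mk (nat_lit 2) (nat_lit 103) (Steps.bwd (nat_lit 3) (Steps.fwd (nat_lit 40960) (Steps.fwd (nat_lit 32768) (Steps.bwd (nat_lit 5) (Steps.fwd (nat_lit 57344) (Steps.fwd (nat_lit 49152) Steps.nil)))))) (nat_lit 30) (nat_lit 2),
  Rule.mk (nat_lit 3) (nat_lit 133) (Steps.bwd (nat_lit 8) (Steps.bwd (nat_lit 3) (Steps.fwd (nat_lit 49152) (Steps.bwd (nat_lit 14) (Steps.fwd (nat_lit 45056) (Steps.fwd (nat_lit 24576) (Steps.fwd (nat_lit 36864) (Steps.bwd (nat_lit 8) Steps.nil)))))))) (nat_lit 45) (nat_lit 7),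
  Rule.mk (nat_lit 4) (nat_lit 148) (Steps.fwd (nat_lit 20480) (Steps.bwd (nat_lit 14) (Steps.bwd (nat_lit 12) (Steps.bwd (nat_lit 5) (Steps.fwd (nat_lit 49152) (Steps.fwd (nat_lit 57344) (Steps.bwd (nat_lit 3) (Steps.fwd (nat_lit 4096) (Steps.fwd (nat_lit 4096) Steps.nil))))))))) (nat_lit 52) (nat_lit 4),
  Rule.mk (nat_lit 12) (nat_lit 103) (Steps.fwd (nat_lit 53248) (Steps.bwd (nat_lit 6) (Steps.fwd (nat_lit 28672) (Steps.fwd (nat_lit 36864) (Steps.bwd (nat_lit 4) (Steps.fwd (nat_lit 8192) Steps.nil)))))) (nat_lit 31) (nat_lit 0),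
  Rule.mk (nat_lit 5) (nat_lit 118) (Steps.fwd (nat_lit 12288) (Steps.fwd (nat_lit 20480) (Steps.fwd (nat_lit 45056) (Steps.fwd (nat_lit 24576) (Steps.bwd (nat_lit 4) (Steps.fwd (nat_lit 20480) (Steps.fwd (nat_lit 45056) Steps.nil))))))) (nat_lit 35) (nat_lit 3)]
noncomputable def R_47 : List (Rule) := [Rule.mk (nat_lit 4) (nat_lit 133) (Steps.bwd (nat_lit 7) (Steps.fwd (nat_lit 40960) (Steps.fwd (nat_lit 20480) (Steps.fwd (nat_lit 49152) (Steps.fwd (nat_lit 57344) (Steps.fwd (nat_lit 45056) (Steps.bwd (nat_lit 4) (Steps.bwd (nat_lit 7) Steps.nil)))))))) (nat_lit 44) (nat_lit 3),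
  Rule.mk (nat_lit 0) (nat_lit 88) (Steps.fwd (nat_lit 24576) (Steps.fwd (nat_lit 8192) (Steps.fwd (nat_lit 8192) (Steps.fwd (nat_lit 28672) (Steps.fwd (nat_lit 16384) Steps.nil))))) (nat_lit 15) (nat_lit 0),
  Rule.mk (nat_lit 0) (nat_lit 163) (Steps.fwd (nat_lit 57344) (Steps.fwd (nat_lit 16384) (Steps.fwd (nat_lit 4096) (Steps.bwd (nat_lit 2) (Steps.bwd (nat_lit 4) (Steps.bwd (nat_lit 6) (Steps.bwd (nat_lit 14) (Steps.bwd (nat_lit 12) (Steps.bwd (nat_lit 5) (Steps.bwd (nat_lit 11) Steps.nil)))))))))) (nat_lit 52) (nat_lit 9),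
  Rule.mk (nat_lit 12) (nat_lit 73) (Steps.bwd (nat_lit 9) (Steps.fwd (nat_lit 20480) (Steps.fwd (nat_lit 45056) (Steps.fwd (nat_lit 20480) Steps.nil)))) (nat_lit 19) (nat_lit 0),
  Rule.mk (nat_lit 0) (nat_lit 58) (Steps.fwd (nat_lit 49152) (Steps.bwd (nat_lit 11) (Steps.bwd (nat_lit 11) Steps.nil))) (nat_lit 8) (nat_lit 0),
  Rule.mk (nat_lit 9) (nat_lit 118) (Steps.bwd (nat_lit 14) (Steps.bwd (nat_lit 12) (Steps.bwd (nat_lit 5) (Steps.bwd (nat_lit 3) (Steps.fwd (nat_lit 4096) (Steps.bwd (nat_lit 2) (Steps.bwd (nat_lit 7) Steps.nil))))))) (nat_lit 33) (nat_lit 2),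
  Rule.mk (nat_lit 0) (nat_lit 163) (Steps.bwd (nat_lit 14) (Steps.bwd (nat_lit 12) (Steps.bwd (nat_lit 5) (Steps.bwd (nat_lit 11) (Steps.fwd (nat_lit 57344) (Steps.fwd (nat_lit 16384) (Steps.fwd (nat_lit 4096) (Steps.fwd (nat_lit 4096) (Steps.bwd (nat_lit 4) (Steps.bwd (nat_lit 6) Steps.nil)))))))))) (nat_lit 52) (nat_lit 5),
  Rule.mk (nat_lit 12) (nat_lit 73) (Steps.bwd (nat_lit 7) (Steps.fwd (nat_lit 16384) (Steps.bwd (nat_lit 13) (Steps.fwd (nat_lit 24576) Steps.nil)))) (nat_lit 17) (nat_lit 3),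
  Rule.mk (nat_lit 4) (nat_lit 73) (Steps.fwd (nat_lit 28672) (Steps.fwd (nat_lit 49152) (Steps.bwd (nat_lit 6) (Steps.fwd (nat_lit 53248) Steps.nil)))) (nat_lit 16) (nat_lit 1),
  Rule.mk (nat_lit 7) (nat_lit 133) (Steps.fwd (nat_lit 40960) (Steps.fwd (nat_lit 20480) (Steps.bwd (nat_lit 11) (Steps.fwd (nat_lit 57344) (Steps.fwd (nat_lit 45056) (Steps.bwd (nat_lit 4) (Steps.bwd (nat_lit 7) (Steps.fwd (nat_lit 12288) Steps.nil)))))))) (nat_lit 44) (nat_lit 4),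
  Rule.mk (nat_lit 10) (nat_lit 88) (Steps.bwd (nat_lit 7) (Steps.fwd (nat_lit 40960) (Steps.fwd (nat_lit 8192) (Steps.bwd (nat_lit 4) (Steps.fwd (nat_lit 4096) Steps.nil))))) (nat_lit 21) (nat_lit 1),
  Rule.mk (nat_lit 0) (nat_lit 163) (Steps.bwd (nat_lit 10) (Steps.fwd (nat_lit 28672) (Steps.fwd (nat_lit 8192) (Steps.bwd (nat_lit 4) (Steps.bwd (nat_lit 6) (Steps.bwd (nat_lit 3) (Steps.fwd (nat_lit 4096) (Steps.fwd (nat_lit 4096) (Steps.fwd (nat_lit 4096) (Steps.bwd (nat_lit 7) Steps.nil)))))))))) (nat_lit 47) (nat_lit 0),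
  Rule.mk (nat_lit 0) (nat_lit 103) (Steps.bwd (nat_lit 14) (Steps.bwd (nat_lit 12) (Steps.fwd (nat_lit 57344) (Steps.bwd (nat_lit 5) (Steps.bwd (nat_lit 9) (Steps.fwd (nat_lit 20480) Steps.nil)))))) (nat_lit 24) (nat_lit 2),
  Rule.mk (nat_lit 8) (nat_lit 103) (Steps.fwd (nat_lit 36864) (Steps.fwd (nat_lit 12288) (Steps.fwd (nat_lit 8192) (Steps.fwd (nat_lit 45056) (Steps.bwd (nat_lit 14) (Steps.fwd (nat_lit 20480) Steps.nil)))))) (nat_lit 31) (nat_lit 3),
  Rule.mk (nat_lit 2) (nat_lit 103) (Steps.bwd (nat_lit 8) (Steps.fwd (nat_lit 16384) (Steps.fwd (nat_lit 8192) (Steps.fwd (nat_lit 8192) (Steps.fwd (nat_lit 8192) (Steps.fwd (nat_lit 16384) Steps.nil)))))) (nat_lit 29) (nat_lit 1),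
  Rule.mk (nat_lit 2) (nat_lit 118) (Steps.bwd (nat_lit 5) (Steps.bwd (nat_lit 1) (Steps.bwd (nat_lit 10) (Steps.bwd (nat_lit 8) (Steps.fwd (nat_lit 4096) (Steps.bwd (nat_lit 2) (Steps.fwd (nat_lit 32768) Steps.nil))))))) (nat_lit 42) (nat_lit 0),
  Rule.mk (nat_lit 6) (nat_lit 88) (Steps.fwd (nat_lit 53248) (Steps.bwd (nat_lit 11) (Steps.bwd (nat_lit 13) (Steps.fwd (nat_lit 24576) (Steps.bwd (nat_lit 10) Steps.nil))))) (nat_lit 25) (nat_lit 1),
  Rule.mk (nat_lit 12) (nat_lit 133) (Steps.fwd (nat_lit 24576) (Steps.bwd (nat_lit 10) (Steps.bwd (nat_lit 8) (Steps.fwd (nat_lit 16384) (Steps.bwd (nat_lit 8) (Steps.bwd (nat_lit 3) (Steps.fwd (nat_lit 49152) (Steps.fwd (nat_lit 53248) Steps.nil)))))))) (nat_lit 45) (nat_lit 3),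
  Rule.mk (nat_lit 9) (nat_lit 88) (Steps.fwd (nat_lit 49152) (Steps.fwd (nat_lit 53248) (Steps.bwd (nat_lit 12) (Steps.fwd (nat_lit 57344) (Steps.bwd (nat_lit 12) Steps.nil))))) (nat_lit 26) (nat_lit 3),
  Rule.mk (nat_lit 7) (nat_lit 88) (Steps.bwd (nat_lit 9) (Steps.fwd (nat_lit 8192) (Steps.bwd (nat_lit 4) (Steps.fwd (nat_lit 4096) (Steps.fwd (nat_lit 36864) Steps.nil))))) (nat_lit 21) (nat_lit 2),
  Rule.mk (nat_lit 0) (nat_lit 103) (Steps.bwd (nat_lit 7) (Steps.fwd (nat_lit 8192) (Steps.bwd (nat_lit 4) (Steps.fwd (nat_lit 36864) (Steps.bwd (nat_lit 6) (Steps.bwd (nat_lit 1) Steps.nil)))))) (nat_lit 22) (nat_lit 0),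
  Rule.mk (nat_lit 6) (nat_lit 88) (Steps.fwd (nat_lit 53248) (Steps.bwd (nat_lit 12) (Steps.bwd (nat_lit 13) (Steps.bwd (nat_lit 5) (Steps.bwd (nat_lit 9) Steps.nil))))) (nat_lit 24) (nat_lit 2),
  Rule.mk (nat_lit 0) (nat_lit 58) (Steps.fwd (nat_lit 16384) (Steps.fwd (nat_lit 16384) (Steps.fwd (nat_lit 16384) Steps.nil))) (nat_lit 0) (nat_lit 0),
  Rule.mk (nat_lit 0) (nat_lit 88) (Steps.bwd (nat_lit 6) (Steps.fwd (nat_lit 12288) (Steps.bwd (nat_lit 7) (Steps.fwd (nat_lit 4096) (Steps.fwd (nat_lit 4096) Steps.nil))))) (nat_lit 14) (nat_lit 4),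
  Rule.mk (nat_lit 10) (nat_lit 88) (Steps.fwd (nat_lit 32768) (Steps.fwd (nat_lit 40960) (Steps.bwd (nat_lit 1) (Steps.bwd (nat_lit 4) (Steps.fwd (nat_lit 4096) Steps.nil))))) (nat_lit 21) (nat_lit 1),
  Rule.mk (nat_lit 6) (nat_lit 148) (Steps.bwd (nat_lit 3) (Steps.bwd (nat_lit 2) (Steps.bwd (nat_lit 2) (Steps.bwd (nat_lit 2) (Steps.fwd (nat_lit 32768) (Steps.bwd (nat_lit 10) (Steps.fwd (nat_lit 28672) (Steps.fwd (nat_lit 8192) (Steps.bwd (nat_lit 4) Steps.nil))))))))) (nat_lit 47) (nat_lit 5),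
  Rule.mk (nat_lit 2) (nat_lit 73) (Steps.fwd (nat_lit 4096) (Steps.bwd (nat_lit 6) (Steps.fwd (nat_lit 12288) (Steps.fwd (nat_lit 32768) Steps.nil)))) (nat_lit 14) (nat_lit 3),
  Rule.mk (nat_lit 11) (nat_lit 118) (Steps.fwd (nat_lit 24576) (Steps.bwd (nat_lit 3) (Steps.bwd (nat_lit 6) (Steps.fwd (nat_lit 49152) (Steps.bwd (nat_lit 5) (Steps.fwd (nat_lit 16384) (Steps.bwd (nat_lit 6) Steps.nil))))))) (nat_lit 34) (nat_lit 3),
  Rule.mk (nat_lit 13) (nat_lit 133) (Steps.bwd (nat_lit 12) (Steps.bwd (nat_lit 4) (Steps.fwd (nat_lit 32768) (Steps.fwd (nat_lit 12288) (Steps.fwd (nat_lit 32768) (Steps.fwd (nat_lit 40960) (Steps.bwd (nat_lit 6) (Steps.bwd (nat_lit 11) Steps.nil)))))))) (nat_lit 44) (nat_lit 8),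
  Rule.mk (nat_lit 14) (nat_lit 88) (Steps.bwd (nat_lit 12) (Steps.bwd (nat_lit 13) (Steps.bwd (nat_lit 12) (Steps.bwd (nat_lit 9) (Steps.bwd (nat_lit 11) Steps.nil))))) (nat_lit 26) (nat_lit 5),
  Rule.mk (nat_lit 7) (nat_lit 103) (Steps.bwd (nat_lit 5) (Steps.bwd (nat_lit 13) (Steps.bwd (nat_lit 11) (Steps.fwd (nat_lit 4096) (Steps.fwd (nat_lit 16384) (Steps.fwd (nat_lit 40960) Steps.nil)))))) (nat_lit 30) (nat_lit 5),
  Rule.mk (nat_lit 12) (nat_lit 148) (Steps.fwd (nat_lit 57344) (Steps.fwd (nat_lit 45056) (Steps.fwd (nat_lit 57344) (Steps.bwd (nat_lit 12) (Steps.bwd (nat_lit 13) (Steps.bwd (nat_lit 12) (Steps.bwd (nat_lit 13) (Steps.fwd (nat_lit 45056) (Steps.fwd (nat_lit 57344) Steps.nil))))))))) (nat_lit 50) (nat_lit 1),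
  Rule.mk (nat_lit 9) (nat_lit 73) (Steps.fwd (nat_lit 20480) (Steps.bwd (nat_lit 12) (Steps.fwd (nat_lit 20480) (Steps.fwd (nat_lit 45056) Steps.nil)))) (nat_lit 19) (nat_lit 1),
  Rule.mk (nat_lit 14) (nat_lit 118) (Steps.bwd (nat_lit 12) (Steps.fwd (nat_lit 24576) (Steps.fwd (nat_lit 16384) (Steps.fwd (nat_lit 4096) (Steps.fwd (nat_lit 4096) (Steps.fwd (nat_lit 32768) (Steps.fwd (nat_lit 40960) Steps.nil))))))) (nat_lit 33) (nat_lit 3),
  Rule.mk (nat_lit 8) (nat_lit 73) (Steps.fwd (nat_lit 49152) (Steps.bwd (nat_lit 6) (Steps.bwd (nat_lit 14) (Steps.fwd (nat_lit 12288) Steps.nil)))) (nat_lit 16) (nat_lit 2),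
  Rule.mk (nat_lit 7) (nat_lit 88) (Steps.fwd (nat_lit 8192) (Steps.bwd (nat_lit 4) (Steps.bwd (nat_lit 10) (Steps.bwd (nat_lit 6) (Steps.fwd (nat_lit 8192) Steps.nil))))) (nat_lit 22) (nat_lit 1),
  Rule.mk (nat_lit 1) (nat_lit 103) (Steps.fwd (nat_lit 45056) (Steps.fwd (nat_lit 53248) (Steps.bwd (nat_lit 6) (Steps.bwd (nat_lit 8) (Steps.bwd (nat_lit 10) (Steps.fwd (nat_lit 12288) Steps.nil)))))) (nat_lit 31) (nat_lit 6),
  Rule.mk (nat_lit 14) (nat_lit 73) (Steps.fwd (nat_lit 12288) (Steps.bwd (nat_lit 8) (Steps.fwd (nat_lit 49152) (Steps.bwd (nat_lit 6) Steps.nil)))) (nat_lit 16) (nat_lit 0),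
  Rule.mk (nat_lit 1) (nat_lit 103) (Steps.bwd (nat_lit 1) (Steps.fwd (nat_lit 8192) (Steps.fwd (nat_lit 16384) (Steps.fwd (nat_lit 4096) (Steps.bwd (nat_lit 8) (Steps.bwd (nat_lit 3) Steps.nil)))))) (nat_lit 29) (nat_lit 4),
  Rule.mk (nat_lit 11) (nat_lit 118) (Steps.fwd (nat_lit 57344) (Steps.fwd (nat_lit 36864) (Steps.bwd (nat_lit 8) (Steps.bwd (nat_lit 1) (Steps.bwd (nat_lit 1) (Steps.fwd (nat_lit 12288) (Steps.fwd (nat_lit 20480) Steps.nil))))))) (nat_lit 32) (nat_lit 5),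
  Rule.mk (nat_lit 3) (nat_lit 148) (Steps.fwd (nat_lit 8192) (Steps.bwd (nat_lit 1) (Steps.bwd (nat_lit 4) (Steps.bwd (nat_lit 14) (Steps.fwd (nat_lit 45056) (Steps.fwd (nat_lit 20480) (Steps.bwd (nat_lit 11) (Steps.fwd (nat_lit 57344) (Steps.bwd (nat_lit 5) Steps.nil))))))))) (nat_lit 53) (nat_lit 7),
  Rule.mk (nat_lit 8) (nat_lit 103) (Steps.bwd (nat_lit 3) (Steps.fwd (nat_lit 8192) (Steps.bwd (nat_lit 1) (Steps.bwd (nat_lit 1) (Steps.fwd (nat_lit 16384) (Steps.fwd (nat_lit 4096) Steps.nil)))))) (nat_lit 29) (nat_lit 2),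
  Rule.mk (nat_lit 6) (nat_lit 118) (Steps.bwd (nat_lit 11) (Steps.fwd (nat_lit 24576) (Steps.bwd (nat_lit 3) (Steps.fwd (nat_lit 20480) (Steps.bwd (nat_lit 11) (Steps.bwd (nat_lit 5) (Steps.bwd (nat_lit 3) Steps.nil))))))) (nat_lit 34) (nat_lit 2),
  Rule.mk (nat_lit 10) (nat_lit 133) (Steps.bwd (nat_lit 8) (Steps.bwd (nat_lit 3) (Steps.bwd (nat_lit 8) (Steps.fwd (nat_lit 16384) (Steps.fwd (nat_lit 49152) (Steps.bwd (nat_lit 14) (Steps.bwd (nat_lit 12) (Steps.bwd (nat_lit 5) Steps.nil)))))))) (nat_lit 45) (nat_lit 5),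
  Rule.mk (nat_lit 0) (nat_lit 118) (Steps.fwd (nat_lit 40960) (Steps.fwd (nat_lit 32768) (Steps.bwd (nat_lit 5) (Steps.bwd (nat_lit 13) (Steps.bwd (nat_lit 11) (Steps.fwd (nat_lit 4096) (Steps.bwd (nat_lit 3) Steps.nil))))))) (nat_lit 30) (nat_lit 3),
  Rule.mk (nat_lit 4) (nat_lit 148) (Steps.fwd (nat_lit 20480) (Steps.bwd (nat_lit 3) (Steps.fwd (nat_lit 4096) (Steps.fwd (nat_lit 4096) (Steps.fwd (nat_lit 4096) (Steps.bwd (nat_lit 7) (Steps.bwd (nat_lit 10) (Steps.fwd (nat_lit 28672) (Steps.fwd (nat_lit 8192) Steps.nil))))))))) (nat_lit 47) (nat_lit 4),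
  Rule.mk (nat_lit 7) (nat_lit 88) (Steps.fwd (nat_lit 8192) (Steps.bwd (nat_lit 4) (Steps.bwd (nat_lit 10) (Steps.bwd (nat_lit 6) (Steps.bwd (nat_lit 1) Steps.nil))))) (nat_lit 22) (nat_lit 1),
  Rule.mk (nat_lit 9) (nat_lit 103) (Steps.bwd (nat_lit 7) (Steps.fwd (nat_lit 24576) (Steps.bwd (nat_lit 13) (Steps.fwd (nat_lit 49152) (Steps.fwd (nat_lit 4096) (Steps.bwd (nat_lit 3) Steps.nil)))))) (nat_lit 30) (nat_lit 4),
  Rule.mk (nat_lit 11) (nat_lit 103) (Steps.fwd (nat_lit 4096) (Steps.bwd (nat_lit 3) (Steps.fwd (nat_lit 40960) (Steps.bwd (nat_lit 7) (Steps.bwd (nat_lit 5) (Steps.bwd (nat_lit 13) Steps.nil)))))) (nat_lit 30) (nat_lit 1),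
  Rule.mk (nat_lit 6) (nat_lit 118) (Steps.fwd (nat_lit 49152) (Steps.bwd (nat_lit 13) (Steps.bwd (nat_lit 10) (Steps.fwd (nat_lit 28672) (Steps.fwd (nat_lit 8192) (Steps.bwd (nat_lit 1) (Steps.fwd (nat_lit 12288) Steps.nil))))))) (nat_lit 32) (nat_lit 4),
  Rule.mk (nat_lit 7) (nat_lit 133) (Steps.fwd (nat_lit 40960) (Steps.bwd (nat_lit 6) (Steps.fwd (nat_lit 49152) (Steps.bwd (nat_lit 13) (Steps.bwd (nat_lit 12) (Steps.fwd (nat_lit 12288) (Steps.fwd (nat_lit 32768) (Steps.bwd (nat_lit 4) Steps.nil)))))))) (nat_lit 44) (nat_lit 4),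
  Rule.mk (nat_lit 14) (nat_lit 103) (Steps.bwd (nat_lit 6) (Steps.bwd (nat_lit 8) (Steps.bwd (nat_lit 10) (Steps.bwd (nat_lit 4) (Steps.bwd (nat_lit 1) (Steps.fwd (nat_lit 45056) Steps.nil)))))) (nat_lit 31) (nat_lit 1),
  Rule.mk (nat_lit 0) (nat_lit 73) (Steps.fwd (nat_lit 12288) (Steps.bwd (nat_lit 13) (Steps.fwd (nat_lit 16384) (Steps.bwd (nat_lit 6) Steps.nil)))) (nat_lit 13) (nat_lit 3),
  Rule.mk (nat_lit 2) (nat_lit 118) (Steps.fwd (nat_lit 4096) (Steps.bwd (nat_lit 7) (Steps.bwd (nat_lit 9) (Steps.bwd (nat_lit 14) (Steps.bwd (nat_lit 12) (Steps.bwd (nat_lit 5) (Steps.bwd (nat_lit 3) Steps.nil))))))) (nat_lit 33) (nat_lit 7),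
  Rule.mk (nat_lit 0) (nat_lit 118) (Steps.fwd (nat_lit 4096) (Steps.fwd (nat_lit 4096) (Steps.fwd (nat_lit 4096) (Steps.bwd (nat_lit 4) (Steps.fwd (nat_lit 32768) (Steps.fwd (nat_lit 8192) (Steps.fwd (nat_lit 12288) Steps.nil))))))) (nat_lit 28) (nat_lit 1),
  Rule.mk (nat_lit 3) (nat_lit 88) (Steps.bwd (nat_lit 2) (Steps.fwd (nat_lit 28672) (Steps.fwd (nat_lit 4096) (Steps.bwd (nat_lit 5) (Steps.fwd (nat_lit 40960) Steps.nil))))) (nat_lit 23) (nat_lit 4),
  Rule.mk (nat_lit 7) (nat_lit 118) (Steps.bwd (nat_lit 9) (Steps.fwd (nat_lit 53248) (Steps.bwd (nat_lit 12) (Steps.bwd (nat_lit 5) (Steps.bwd (nat_lit 3) (Steps.bwd (nat_lit 2) (Steps.fwd (nat_lit 4096) Steps.nil))))))) (nat_lit 33) (nat_lit 1),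
  Rule.mk (nat_lit 4) (nat_lit 148) (Steps.bwd (nat_lit 5) (Steps.bwd (nat_lit 3) (Steps.bwd (nat_lit 2) (Steps.fwd (nat_lit 32768) (Steps.fwd (nat_lit 40960) (Steps.bwd (nat_lit 8) (Steps.bwd (nat_lit 1) (Steps.bwd (nat_lit 1) (Steps.fwd (nat_lit 8192) Steps.nil))))))))) (nat_lit 46) (nat_lit 5),
  Rule.mk (nat_lit 0) (nat_lit 163) (Steps.fwd (nat_lit 4096) (Steps.fwd (nat_lit 4096) (Steps.bwd (nat_lit 2) (Steps.fwd (nat_lit 32768) (Steps.fwd (nat_lit 36864) (Steps.fwd (nat_lit 28672) (Steps.fwd (nat_lit 8192) (Steps.bwd (nat_lit 4) (Steps.bwd (nat_lit 6) (Steps.bwd (nat_lit 3) Steps.nil)))))))))) (nat_lit 47) (nat_lit 6),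
  Rule.mk (nat_lit 6) (nat_lit 148) (Steps.bwd (nat_lit 3) (Steps.fwd (nat_lit 4096) (Steps.bwd (nat_lit 2) (Steps.fwd (nat_lit 4096) (Steps.bwd (nat_lit 7) (Steps.fwd (nat_lit 36864) (Steps.fwd (nat_lit 28672) (Steps.bwd (nat_lit 1) (Steps.bwd (nat_lit 4) Steps.nil))))))))) (nat_lit 47) (nat_lit 5),
  Rule.mk (nat_lit 9) (nat_lit 118) (Steps.fwd (nat_lit 4096) (Steps.bwd (nat_lit 6) (Steps.fwd (nat_lit 8192) (Steps.fwd (nat_lit 28672) (Steps.fwd (nat_lit 8192) (Steps.fwd (nat_lit 8192) (Steps.fwd (nat_lit 32768) Steps.nil))))))) (nat_lit 43) (nat_lit 6),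
  Rule.mk (nat_lit 10) (nat_lit 88) (Steps.fwd (nat_lit 32768) (Steps.bwd (nat_lit 9) (Steps.bwd (nat_lit 1) (Steps.bwd (nat_lit 4) (Steps.bwd (nat_lit 2) Steps.nil))))) (nat_lit 21) (nat_lit 1),
  Rule.mk (nat_lit 7) (nat_lit 103) (Steps.bwd (nat_lit 5) (Steps.fwd (nat_lit 57344) (Steps.fwd (nat_lit 49152) (Steps.bwd (nat_lit 2) (Steps.fwd (nat_lit 16384) (Steps.bwd (nat_lit 9) Steps.nil)))))) (nat_lit 30) (nat_lit 5),
  Rule.mk (nat_lit 8) (nat_lit 148) (Steps.bwd (nat_lit 1) (Steps.bwd (nat_lit 1) (Steps.bwd (nat_lit 1) (Steps.bwd (nat_lit 4) (Steps.bwd (nat_lit 5) (Steps.bwd (nat_lit 3) (Steps.bwd (nat_lit 2) (Steps.fwd (nat_lit 32768) (Steps.bwd (nat_lit 9) Steps.nil))))))))) (nat_lit 46) (nat_lit 1)]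
noncomputable def R_48 : List (Rule) := [Rule.mk (nat_lit 2) (nat_lit 118) (Steps.fwd (nat_lit 24576) (Steps.fwd (nat_lit 8192) (Steps.fwd (nat_lit 36864) (Steps.bwd (nat_lit 8) (Steps.fwd (nat_lit 4096) (Steps.bwd (nat_lit 2) (Steps.fwd (nat_lit 32768) Steps.nil))))))) (nat_lit 42) (nat_lit 0),
  Rule.mk (nat_lit 4) (nat_lit 133) (Steps.fwd (nat_lit 32768) (Steps.fwd (nat_lit 12288) (Steps.fwd (nat_lit 32768) (Steps.fwd (nat_lit 40960) (Steps.bwd (nat_lit 6) (Steps.fwd (nat_lit 49152) (Steps.bwd (nat_lit 13) (Steps.fwd (nat_lit 45056) Steps.nil)))))))) (nat_lit 44) (nat_lit 1),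
  Rule.mk (nat_lit 2) (nat_lit 118) (Steps.bwd (nat_lit 2) (Steps.fwd (nat_lit 32768) (Steps.bwd (nat_lit 2) (Steps.fwd (nat_lit 24576) (Steps.fwd (nat_lit 8192) (Steps.fwd (nat_lit 36864) (Steps.bwd (nat_lit 8) Steps.nil))))))) (nat_lit 42) (nat_lit 5),
  Rule.mk (nat_lit 10) (nat_lit 88) (Steps.fwd (nat_lit 32768) (Steps.fwd (nat_lit 40960) (Steps.bwd (nat_lit 1) (Steps.fwd (nat_lit 12288) (Steps.bwd (nat_lit 2) Steps.nil))))) (nat_lit 21) (nat_lit 1),
  Rule.mk (nat_lit 2) (nat_lit 103) (Steps.fwd (nat_lit 12288) (Steps.fwd (nat_lit 32768) (Steps.bwd (nat_lit 1) (Steps.fwd (nat_lit 12288) (Steps.bwd (nat_lit 2) (Steps.bwd (nat_lit 2) Steps.nil)))))) (nat_lit 28) (nat_lit 4),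
  Rule.mk (nat_lit 8) (nat_lit 148) (Steps.bwd (nat_lit 1) (Steps.bwd (nat_lit 4) (Steps.fwd (nat_lit 20480) (Steps.bwd (nat_lit 3) (Steps.bwd (nat_lit 2) (Steps.bwd (nat_lit 2) (Steps.bwd (nat_lit 2) (Steps.fwd (nat_lit 32768) (Steps.fwd (nat_lit 36864) Steps.nil))))))))) (nat_lit 47) (nat_lit 2),
  Rule.mk (nat_lit 11) (nat_lit 148) (Steps.bwd (nat_lit 13) (Steps.bwd (nat_lit 3) (Steps.bwd (nat_lit 2) (Steps.bwd (nat_lit 2) (Steps.fwd (nat_lit 12288) (Steps.fwd (nat_lit 20480) (Steps.bwd (nat_lit 14) (Steps.fwd (nat_lit 45056) (Steps.bwd (nat_lit 5) Steps.nil))))))))) (nat_lit 52) (nat_lit 9),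
  Rule.mk (nat_lit 3) (nat_lit 118) (Steps.fwd (nat_lit 20480) (Steps.fwd (nat_lit 49152) (Steps.fwd (nat_lit 24576) (Steps.fwd (nat_lit 16384) (Steps.fwd (nat_lit 20480) (Steps.bwd (nat_lit 11) (Steps.bwd (nat_lit 5) Steps.nil))))))) (nat_lit 34) (nat_lit 1),
  Rule.mk (nat_lit 10) (nat_lit 133) (Steps.bwd (nat_lit 8) (Steps.fwd (nat_lit 16384) (Steps.bwd (nat_lit 8) (Steps.bwd (nat_lit 3) (Steps.bwd (nat_lit 11) (Steps.bwd (nat_lit 14) (Steps.bwd (nat_lit 12) (Steps.fwd (nat_lit 24576) Steps.nil)))))))) (nat_lit 45) (nat_lit 5),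
  Rule.mk (nat_lit 0) (nat_lit 88) (Steps.fwd (nat_lit 12288) (Steps.bwd (nat_lit 8) (Steps.fwd (nat_lit 49152) (Steps.fwd (nat_lit 20480) (Steps.bwd (nat_lit 14) Steps.nil))))) (nat_lit 16) (nat_lit 0),
  Rule.mk (nat_lit 0) (nat_lit 148) (Steps.bwd (nat_lit 11) (Steps.fwd (nat_lit 53248) (Steps.bwd (nat_lit 12) (Steps.bwd (nat_lit 5) (Steps.fwd (nat_lit 36864) (Steps.bwd (nat_lit 8) (Steps.bwd (nat_lit 3) (Steps.fwd (nat_lit 28672) (Steps.fwd (nat_lit 16384) Steps.nil))))))))) (nat_lit 45) (nat_lit 0),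
  Rule.mk (nat_lit 7) (nat_lit 73) (Steps.fwd (nat_lit 16384) (Steps.bwd (nat_lit 13) (Steps.fwd (nat_lit 24576) (Steps.bwd (nat_lit 12) Steps.nil)))) (nat_lit 17) (nat_lit 4),
  Rule.mk (nat_lit 9) (nat_lit 118) (Steps.fwd (nat_lit 53248) (Steps.bwd (nat_lit 12) (Steps.bwd (nat_lit 5) (Steps.bwd (nat_lit 3) (Steps.bwd (nat_lit 2) (Steps.fwd (nat_lit 4096) (Steps.bwd (nat_lit 7) Steps.nil))))))) (nat_lit 33) (nat_lit 2),
  Rule.mk (nat_lit 6) (nat_lit 118) (Steps.bwd (nat_lit 1) (Steps.bwd (nat_lit 8) (Steps.fwd (nat_lit 8192) (Steps.bwd (nat_lit 1) (Steps.bwd (nat_lit 7) (Steps.bwd (nat_lit 9) (Steps.fwd (nat_lit 4096) Steps.nil))))))) (nat_lit 43) (nat_lit 0),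
  Rule.mk (nat_lit 14) (nat_lit 118) (Steps.bwd (nat_lit 10) (Steps.fwd (nat_lit 28672) (Steps.fwd (nat_lit 40960) (Steps.bwd (nat_lit 14) (Steps.bwd (nat_lit 10) (Steps.fwd (nat_lit 28672) (Steps.bwd (nat_lit 9) Steps.nil))))))) (nat_lit 39) (nat_lit 0),
  Rule.mk (nat_lit 12) (nat_lit 88) (Steps.bwd (nat_lit 9) (Steps.fwd (nat_lit 49152) (Steps.bwd (nat_lit 14) (Steps.bwd (nat_lit 12) (Steps.bwd (nat_lit 13) Steps.nil))))) (nat_lit 26) (nat_lit 2),
  Rule.mk (nat_lit 8) (nat_lit 118) (Steps.bwd (nat_lit 14) (Steps.fwd (nat_lit 45056) (Steps.bwd (nat_lit 10) (Steps.bwd (nat_lit 8) (Steps.bwd (nat_lit 14) (Steps.bwd (nat_lit 12) (Steps.bwd (nat_lit 10) Steps.nil))))))) (nat_lit 40) (nat_lit 1),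
  Rule.mk (nat_lit 3) (nat_lit 88) (Steps.fwd (nat_lit 4096) (Steps.fwd (nat_lit 36864) (Steps.bwd (nat_lit 8) (Steps.bwd (nat_lit 9) (Steps.bwd (nat_lit 1) Steps.nil))))) (nat_lit 20) (nat_lit 2),
  Rule.mk (nat_lit 3) (nat_lit 133) (Steps.bwd (nat_lit 8) (Steps.bwd (nat_lit 3) (Steps.fwd (nat_lit 49152) (Steps.fwd (nat_lit 53248) (Steps.fwd (nat_lit 45056) (Steps.bwd (nat_lit 5) (Steps.fwd (nat_lit 36864) (Steps.bwd (nat_lit 8) Steps.nil)))))))) (nat_lit 45) (nat_lit 7),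
  Rule.mk (nat_lit 10) (nat_lit 88) (Steps.bwd (nat_lit 6) (Steps.bwd (nat_lit 1) (Steps.fwd (nat_lit 32768) (Steps.fwd (nat_lit 8192) (Steps.fwd (nat_lit 12288) Steps.nil))))) (nat_lit 22) (nat_lit 4),
  Rule.mk (nat_lit 8) (nat_lit 148) (Steps.bwd (nat_lit 9) (Steps.fwd (nat_lit 28672) (Steps.fwd (nat_lit 40960) (Steps.bwd (nat_lit 8) (Steps.fwd (nat_lit 40960) (Steps.fwd (nat_lit 28672) (Steps.bwd (nat_lit 9) (Steps.fwd (nat_lit 28672) (Steps.bwd (nat_lit 9) Steps.nil))))))))) (nat_lit 48) (nat_lit 1),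
  Rule.mk (nat_lit 3) (nat_lit 103) (Steps.bwd (nat_lit 1) (Steps.fwd (nat_lit 8192) (Steps.bwd (nat_lit 1) (Steps.bwd (nat_lit 3) (Steps.bwd (nat_lit 2) (Steps.bwd (nat_lit 8) Steps.nil)))))) (nat_lit 29) (nat_lit 3),
  Rule.mk (nat_lit 5) (nat_lit 148) (Steps.bwd (nat_lit 3) (Steps.bwd (nat_lit 2) (Steps.bwd (nat_lit 7) (Steps.fwd (nat_lit 40960) (Steps.fwd (nat_lit 28672) (Steps.bwd (nat_lit 1) (Steps.bwd (nat_lit 1) (Steps.bwd (nat_lit 1) (Steps.fwd (nat_lit 12288) Steps.nil))))))))) (nat_lit 46) (nat_lit 6),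
  Rule.mk (nat_lit 13) (nat_lit 148) (Steps.bwd (nat_lit 3) (Steps.bwd (nat_lit 2) (Steps.bwd (nat_lit 2) (Steps.fwd (nat_lit 12288) (Steps.fwd (nat_lit 20480) (Steps.fwd (nat_lit 53248) (Steps.fwd (nat_lit 45056) (Steps.bwd (nat_lit 5) (Steps.bwd (nat_lit 11) Steps.nil))))))))) (nat_lit 52) (nat_lit 0),
  Rule.mk (nat_lit 10) (nat_lit 118) (Steps.fwd (nat_lit 28672) (Steps.bwd (nat_lit 1) (Steps.bwd (nat_lit 1) (Steps.bwd (nat_lit 4) (Steps.fwd (nat_lit 20480) (Steps.bwd (nat_lit 11) (Steps.bwd (nat_lit 13) Steps.nil))))))) (nat_lit 32) (nat_lit 7),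
  Rule.mk (nat_lit 12) (nat_lit 88) (Steps.bwd (nat_lit 10) (Steps.fwd (nat_lit 49152) (Steps.fwd (nat_lit 53248) (Steps.bwd (nat_lit 11) (Steps.fwd (nat_lit 57344) Steps.nil))))) (nat_lit 27) (nat_lit 3),
  Rule.mk (nat_lit 0) (nat_lit 133) (Steps.bwd (nat_lit 1) (Steps.bwd (nat_lit 1) (Steps.fwd (nat_lit 12288) (Steps.bwd (nat_lit 6) (Steps.fwd (nat_lit 49152) (Steps.fwd (nat_lit 57344) (Steps.bwd (nat_lit 10) (Steps.fwd (nat_lit 28672) Steps.nil)))))))) (nat_lit 32) (nat_lit 0),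
  Rule.mk (nat_lit 1) (nat_lit 118) (Steps.bwd (nat_lit 10) (Steps.fwd (nat_lit 28672) (Steps.fwd (nat_lit 4096) (Steps.fwd (nat_lit 4096) (Steps.bwd (nat_lit 7) (Steps.fwd (nat_lit 4096) (Steps.bwd (nat_lit 5) Steps.nil))))))) (nat_lit 42) (nat_lit 2),
  Rule.mk (nat_lit 7) (nat_lit 148) (Steps.bwd (nat_lit 10) (Steps.fwd (nat_lit 28672) (Steps.fwd (nat_lit 8192) (Steps.fwd (nat_lit 12288) (Steps.fwd (nat_lit 20480) (Steps.bwd (nat_lit 3) (Steps.fwd (nat_lit 4096) (Steps.fwd (nat_lit 4096) (Steps.bwd (nat_lit 2) Steps.nil))))))))) (nat_lit 47) (nat_lit 0),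
  Rule.mk (nat_lit 3) (nat_lit 88) (Steps.fwd (nat_lit 4096) (Steps.fwd (nat_lit 36864) (Steps.fwd (nat_lit 28672) (Steps.bwd (nat_lit 9) (Steps.bwd (nat_lit 1) Steps.nil))))) (nat_lit 20) (nat_lit 2),
  Rule.mk (nat_lit 13) (nat_lit 118) (Steps.fwd (nat_lit 36864) (Steps.bwd (nat_lit 8) (Steps.fwd (nat_lit 8192) (Steps.bwd (nat_lit 1) (Steps.fwd (nat_lit 12288) (Steps.fwd (nat_lit 20480) (Steps.fwd (nat_lit 49152) Steps.nil))))))) (nat_lit 32) (nat_lit 6),
  Rule.mk (nat_lit 7) (nat_lit 133) (Steps.bwd (nat_lit 4) (Steps.fwd (nat_lit 32768) (Steps.bwd (nat_lit 9) (Steps.bwd (nat_lit 6) (Steps.fwd (nat_lit 49152) (Steps.fwd (nat_lit 57344) (Steps.fwd (nat_lit 45056) (Steps.fwd (nat_lit 12288) Steps.nil)))))))) (nat_lit 44) (nat_lit 2),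
  Rule.mk (nat_lit 9) (nat_lit 118) (Steps.bwd (nat_lit 2) (Steps.bwd (nat_lit 6) (Steps.fwd (nat_lit 8192) (Steps.fwd (nat_lit 28672) (Steps.bwd (nat_lit 1) (Steps.bwd (nat_lit 1) (Steps.bwd (nat_lit 7) Steps.nil))))))) (nat_lit 43) (nat_lit 6),
  Rule.mk (nat_lit 0) (nat_lit 88) (Steps.bwd (nat_lit 12) (Steps.bwd (nat_lit 9) (Steps.bwd (nat_lit 6) (Steps.fwd (nat_lit 45056) (Steps.bwd (nat_lit 6) Steps.nil))))) (nat_lit 19) (nat_lit 4),
  Rule.mk (nat_lit 5) (nat_lit 88) (Steps.bwd (nat_lit 9) (Steps.bwd (nat_lit 3) (Steps.fwd (nat_lit 4096) (Steps.fwd (nat_lit 28672) (Steps.fwd (nat_lit 4096) Steps.nil))))) (nat_lit 23) (nat_lit 2),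
  Rule.mk (nat_lit 11) (nat_lit 103) (Steps.fwd (nat_lit 4096) (Steps.fwd (nat_lit 16384) (Steps.fwd (nat_lit 40960) (Steps.fwd (nat_lit 32768) (Steps.bwd (nat_lit 5) (Steps.fwd (nat_lit 57344) Steps.nil)))))) (nat_lit 30) (nat_lit 1),
  Rule.mk (nat_lit 0) (nat_lit 163) (Steps.bwd (nat_lit 8) (Steps.fwd (nat_lit 8192) (Steps.fwd (nat_lit 8192) (Steps.bwd (nat_lit 1) (Steps.fwd (nat_lit 12288) (Steps.bwd (nat_lit 5) (Steps.fwd (nat_lit 16384) (Steps.bwd (nat_lit 2) (Steps.bwd (nat_lit 7) (Steps.bwd (nat_lit 9) Steps.nil)))))))))) (nat_lit 46) (nat_lit 0),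
  Rule.mk (nat_lit 1) (nat_lit 148) (Steps.fwd (nat_lit 8192) (Steps.bwd (nat_lit 4) (Steps.bwd (nat_lit 14) (Steps.fwd (nat_lit 45056) (Steps.bwd (nat_lit 6) (Steps.fwd (nat_lit 49152) (Steps.fwd (nat_lit 57344) (Steps.bwd (nat_lit 5) (Steps.fwd (nat_lit 16384) Steps.nil))))))))) (nat_lit 53) (nat_lit 8),
  Rule.mk (nat_lit 10) (nat_lit 103) (Steps.fwd (nat_lit 12288) (Steps.bwd (nat_lit 1) (Steps.bwd (nat_lit 12) (Steps.fwd (nat_lit 53248) (Steps.bwd (nat_lit 6) (Steps.bwd (nat_lit 8) Steps.nil)))))) (nat_lit 31) (nat_lit 4),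
  Rule.mk (nat_lit 1) (nat_lit 88) (Steps.fwd (nat_lit 16384) (Steps.bwd (nat_lit 2) (Steps.bwd (nat_lit 10) (Steps.bwd (nat_lit 8) (Steps.fwd (nat_lit 40960) Steps.nil))))) (nat_lit 20) (nat_lit 1),
  Rule.mk (nat_lit 1) (nat_lit 118) (Steps.bwd (nat_lit 1) (Steps.bwd (nat_lit 4) (Steps.bwd (nat_lit 6) (Steps.fwd (nat_lit 49152) (Steps.bwd (nat_lit 13) (Steps.bwd (nat_lit 10) (Steps.fwd (nat_lit 28672) Steps.nil))))))) (nat_lit 32) (nat_lit 1),
  Rule.mk (nat_lit 4) (nat_lit 88) (Steps.fwd (nat_lit 36864) (Steps.fwd (nat_lit 20480) (Steps.fwd (nat_lit 8192) (Steps.bwd (nat_lit 7) (Steps.bwd (nat_lit 1) Steps.nil))))) (nat_lit 22) (nat_lit 3),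
  Rule.mk (nat_lit 2) (nat_lit 118) (Steps.bwd (nat_lit 6) (Steps.bwd (nat_lit 1) (Steps.bwd (nat_lit 8) (Steps.fwd (nat_lit 8192) (Steps.bwd (nat_lit 1) (Steps.fwd (nat_lit 32768) (Steps.fwd (nat_lit 40960) Steps.nil))))))) (nat_lit 43) (nat_lit 7),
  Rule.mk (nat_lit 2) (nat_lit 118) (Steps.bwd (nat_lit 5) (Steps.fwd (nat_lit 8192) (Steps.bwd (nat_lit 10) (Steps.bwd (nat_lit 8) (Steps.fwd (nat_lit 4096) (Steps.bwd (nat_lit 2) (Steps.fwd (nat_lit 32768) Steps.nil))))))) (nat_lit 42) (nat_lit 0),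
  Rule.mk (nat_lit 7) (nat_lit 88) (Steps.bwd (nat_lit 9) (Steps.fwd (nat_lit 8192) (Steps.bwd (nat_lit 4) (Steps.bwd (nat_lit 2) (Steps.bwd (nat_lit 10) Steps.nil))))) (nat_lit 21) (nat_lit 2),
  Rule.mk (nat_lit 0) (nat_lit 118) (Steps.fwd (nat_lit 4096) (Steps.bwd (nat_lit 2) (Steps.fwd (nat_lit 12288) (Steps.fwd (nat_lit 32768) (Steps.fwd (nat_lit 8192) (Steps.bwd (nat_lit 4) (Steps.bwd (nat_lit 2) Steps.nil))))))) (nat_lit 28) (nat_lit 2),
  Rule.mk (nat_lit 4) (nat_lit 103) (Steps.bwd (nat_lit 7) (Steps.fwd (nat_lit 8192) (Steps.bwd (nat_lit 4) (Steps.bwd (nat_lit 2) (Steps.bwd (nat_lit 2) (Steps.fwd (nat_lit 4096) Steps.nil)))))) (nat_lit 28) (nat_lit 5),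
  Rule.mk (nat_lit 0) (nat_lit 133) (Steps.fwd (nat_lit 4096) (Steps.bwd (nat_lit 2) (Steps.bwd (nat_lit 7) (Steps.bwd (nat_lit 9) (Steps.bwd (nat_lit 14) (Steps.fwd (nat_lit 45056) (Steps.bwd (nat_lit 5) (Steps.bwd (nat_lit 3) Steps.nil)))))))) (nat_lit 33) (nat_lit 6),
  Rule.mk (nat_lit 7) (nat_lit 73) (Steps.fwd (nat_lit 4096) (Steps.bwd (nat_lit 2) (Steps.fwd (nat_lit 20480) (Steps.fwd (nat_lit 12288) Steps.nil)))) (nat_lit 14) (nat_lit 2),
  Rule.mk (nat_lit 4) (nat_lit 103) (Steps.fwd (nat_lit 4096) (Steps.fwd (nat_lit 4096) (Steps.bwd (nat_lit 2) (Steps.fwd (nat_lit 12288) (Steps.bwd (nat_lit 7) (Steps.fwd (nat_lit 8192) Steps.nil)))))) (nat_lit 28) (nat_lit 1),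
  Rule.mk (nat_lit 3) (nat_lit 148) (Steps.fwd (nat_lit 4096) (Steps.fwd (nat_lit 4096) (Steps.bwd (nat_lit 2) (Steps.fwd (nat_lit 32768) (Steps.bwd (nat_lit 10) (Steps.bwd (nat_lit 8) (Steps.fwd (nat_lit 8192) (Steps.bwd (nat_lit 4) (Steps.fwd (nat_lit 20480) Steps.nil))))))))) (nat_lit 47) (nat_lit 6),
  Rule.mk (nat_lit 2) (nat_lit 118) (Steps.bwd (nat_lit 7) (Steps.bwd (nat_lit 9) (Steps.fwd (nat_lit 53248) (Steps.bwd (nat_lit 12) (Steps.fwd (nat_lit 24576) (Steps.bwd (nat_lit 3) (Steps.bwd (nat_lit 2) Steps.nil))))))) (nat_lit 33) (nat_lit 0),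
  Rule.mk (nat_lit 2) (nat_lit 73) (Steps.fwd (nat_lit 20480) (Steps.fwd (nat_lit 12288) (Steps.bwd (nat_lit 7) (Steps.bwd (nat_lit 2) Steps.nil)))) (nat_lit 14) (nat_lit 4),
  Rule.mk (nat_lit 8) (nat_lit 88) (Steps.bwd (nat_lit 2) (Steps.bwd (nat_lit 5) (Steps.bwd (nat_lit 9) (Steps.fwd (nat_lit 16384) (Steps.bwd (nat_lit 2) Steps.nil))))) (nat_lit 23) (nat_lit 0),
  Rule.mk (nat_lit 0) (nat_lit 103) (Steps.bwd (nat_lit 1) (Steps.bwd (nat_lit 3) (Steps.fwd (nat_lit 4096) (Steps.fwd (nat_lit 36864) (Steps.bwd (nat_lit 8) (Steps.bwd (nat_lit 9) Steps.nil)))))) (nat_lit 20) (nat_lit 0),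
  Rule.mk (nat_lit 9) (nat_lit 118) (Steps.bwd (nat_lit 13) (Steps.fwd (nat_lit 36864) (Steps.fwd (nat_lit 32768) (Steps.bwd (nat_lit 9) (Steps.fwd (nat_lit 57344) (Steps.bwd (nat_lit 10) (Steps.fwd (nat_lit 32768) Steps.nil))))))) (nat_lit 38) (nat_lit 0),
  Rule.mk (nat_lit 8) (nat_lit 118) (Steps.bwd (nat_lit 9) (Steps.fwd (nat_lit 53248) (Steps.fwd (nat_lit 36864) (Steps.fwd (nat_lit 28672) (Steps.bwd (nat_lit 9) (Steps.bwd (nat_lit 14) (Steps.bwd (nat_lit 10) Steps.nil))))))) (nat_lit 39) (nat_lit 2),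
  Rule.mk (nat_lit 1) (nat_lit 88) (Steps.bwd (nat_lit 4) (Steps.fwd (nat_lit 4096) (Steps.bwd (nat_lit 10) (Steps.fwd (nat_lit 32768) (Steps.bwd (nat_lit 9) Steps.nil))))) (nat_lit 21) (nat_lit 4),
  Rule.mk (nat_lit 0) (nat_lit 103) (Steps.bwd (nat_lit 11) (Steps.fwd (nat_lit 53248) (Steps.bwd (nat_lit 11) (Steps.bwd (nat_lit 13) (Steps.bwd (nat_lit 12) (Steps.fwd (nat_lit 36864) Steps.nil)))))) (nat_lit 27) (nat_lit 4),
  Rule.mk (nat_lit 10) (nat_lit 118) (Steps.fwd (nat_lit 28672) (Steps.bwd (nat_lit 9) (Steps.fwd (nat_lit 53248) (Steps.bwd (nat_lit 10) (Steps.fwd (nat_lit 28672) (Steps.bwd (nat_lit 9) (Steps.bwd (nat_lit 14) Steps.nil))))))) (nat_lit 39) (nat_lit 1),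
  Rule.mk (nat_lit 5) (nat_lit 148) (Steps.fwd (nat_lit 16384) (Steps.fwd (nat_lit 4096) (Steps.fwd (nat_lit 32768) (Steps.bwd (nat_lit 9) (Steps.bwd (nat_lit 8) (Steps.bwd (nat_lit 1) (Steps.fwd (nat_lit 8192) (Steps.fwd (nat_lit 8192) (Steps.fwd (nat_lit 12288) Steps.nil))))))))) (nat_lit 46) (nat_lit 6),
  Rule.mk (nat_lit 11) (nat_lit 118) (Steps.bwd (nat_lit 5) (Steps.fwd (nat_lit 16384) (Steps.bwd (nat_lit 6) (Steps.bwd (nat_lit 11) (Steps.fwd (nat_lit 24576) (Steps.bwd (nat_lit 3) (Steps.bwd (nat_lit 6) Steps.nil))))))) (nat_lit 34) (nat_lit 3),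
  Rule.mk (nat_lit 13) (nat_lit 118) (Steps.fwd (nat_lit 36864) (Steps.bwd (nat_lit 8) (Steps.fwd (nat_lit 8192) (Steps.fwd (nat_lit 8192) (Steps.bwd (nat_lit 4) (Steps.bwd (nat_lit 6) (Steps.bwd (nat_lit 11) Steps.nil))))))) (nat_lit 32) (nat_lit 6),
  Rule.mk (nat_lit 7) (nat_lit 133) (Steps.fwd (nat_lit 12288) (Steps.bwd (nat_lit 7) (Steps.fwd (nat_lit 40960) (Steps.bwd (nat_lit 6) (Steps.bwd (nat_lit 11) (Steps.bwd (nat_lit 13) (Steps.bwd (nat_lit 12) (Steps.fwd (nat_lit 12288) Steps.nil)))))))) (nat_lit 44) (nat_lit 2)]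
noncomputable def R_49 : List (Rule) := [Rule.mk (nat_lit 14) (nat_lit 133) (Steps.fwd (nat_lit 45056) (Steps.fwd (nat_lit 24576) (Steps.fwd (nat_lit 36864) (Steps.fwd (nat_lit 28672) (Steps.bwd (nat_lit 3) (Steps.fwd (nat_lit 28672) (Steps.fwd (nat_lit 16384) (Steps.bwd (nat_lit 11) Steps.nil)))))))) (nat_lit 45) (nat_lit 2),
  Rule.mk (nat_lit 9) (nat_lit 118) (Steps.bwd (nat_lit 14) (Steps.fwd (nat_lit 45056) (Steps.fwd (nat_lit 24576) (Steps.bwd (nat_lit 3) (Steps.fwd (nat_lit 4096) (Steps.fwd (nat_lit 4096) (Steps.bwd (nat_lit 7) Steps.nil))))))) (nat_lit 33) (nat_lit 2),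
  Rule.mk (nat_lit 6) (nat_lit 118) (Steps.fwd (nat_lit 45056) (Steps.bwd (nat_lit 5) (Steps.bwd (nat_lit 4) (Steps.fwd (nat_lit 20480) (Steps.bwd (nat_lit 12) (Steps.bwd (nat_lit 5) (Steps.fwd (nat_lit 12288) Steps.nil))))))) (nat_lit 35) (nat_lit 1),
  Rule.mk (nat_lit 1) (nat_lit 103) (Steps.bwd (nat_lit 12) (Steps.bwd (nat_lit 14) (Steps.fwd (nat_lit 20480) (Steps.bwd (nat_lit 8) (Steps.fwd (nat_lit 36864) (Steps.fwd (nat_lit 12288) Steps.nil)))))) (nat_lit 31) (nat_lit 6),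
  Rule.mk (nat_lit 1) (nat_lit 73) (Steps.fwd (nat_lit 28672) (Steps.bwd (nat_lit 3) (Steps.fwd (nat_lit 24576) (Steps.bwd (nat_lit 1) Steps.nil)))) (nat_lit 15) (nat_lit 3),
  Rule.mk (nat_lit 7) (nat_lit 88) (Steps.fwd (nat_lit 8192) (Steps.fwd (nat_lit 12288) (Steps.bwd (nat_lit 10) (Steps.fwd (nat_lit 20480) (Steps.bwd (nat_lit 1) Steps.nil))))) (nat_lit 22) (nat_lit 1),
  Rule.mk (nat_lit 7) (nat_lit 118) (Steps.fwd (nat_lit 40960) (Steps.bwd (nat_lit 2) (Steps.bwd (nat_lit 6) (Steps.bwd (nat_lit 1) (Steps.bwd (nat_lit 8) (Steps.bwd (nat_lit 1) (Steps.bwd (nat_lit 1) Steps.nil))))))) (nat_lit 43) (nat_lit 5),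
  Rule.mk (nat_lit 9) (nat_lit 133) (Steps.fwd (nat_lit 20480) (Steps.bwd (nat_lit 11) (Steps.bwd (nat_lit 13) (Steps.bwd (nat_lit 12) (Steps.bwd (nat_lit 4) (Steps.fwd (nat_lit 32768) (Steps.bwd (nat_lit 4) (Steps.bwd (nat_lit 7) Steps.nil)))))))) (nat_lit 44) (nat_lit 5),
  Rule.mk (nat_lit 5) (nat_lit 88) (Steps.bwd (nat_lit 9) (Steps.bwd (nat_lit 3) (Steps.fwd (nat_lit 4096) (Steps.bwd (nat_lit 8) (Steps.fwd (nat_lit 4096) Steps.nil))))) (nat_lit 23) (nat_lit 2),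
  Rule.mk (nat_lit 9) (nat_lit 103) (Steps.bwd (nat_lit 7) (Steps.bwd (nat_lit 5) (Steps.bwd (nat_lit 13) (Steps.fwd (nat_lit 49152) (Steps.bwd (nat_lit 2) (Steps.fwd (nat_lit 16384) Steps.nil)))))) (nat_lit 30) (nat_lit 4),
  Rule.mk (nat_lit 8) (nat_lit 103) (Steps.fwd (nat_lit 36864) (Steps.fwd (nat_lit 12288) (Steps.bwd (nat_lit 1) (Steps.bwd (nat_lit 12) (Steps.bwd (nat_lit 14) (Steps.fwd (nat_lit 20480) Steps.nil)))))) (nat_lit 31) (nat_lit 3),
  Rule.mk (nat_lit 1) (nat_lit 88) (Steps.fwd (nat_lit 32768) (Steps.bwd (nat_lit 1) (Steps.fwd (nat_lit 12288) (Steps.bwd (nat_lit 10) (Steps.fwd (nat_lit 20480) Steps.nil))))) (nat_lit 22) (nat_lit 0),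
  Rule.mk (nat_lit 1) (nat_lit 148) (Steps.bwd (nat_lit 4) (Steps.fwd (nat_lit 20480) (Steps.fwd (nat_lit 16384) (Steps.bwd (nat_lit 2) (Steps.bwd (nat_lit 2) (Steps.fwd (nat_lit 4096) (Steps.fwd (nat_lit 32768) (Steps.bwd (nat_lit 10) (Steps.bwd (nat_lit 8) Steps.nil))))))))) (nat_lit 47) (nat_lit 3),
  Rule.mk (nat_lit 6) (nat_lit 118) (Steps.bwd (nat_lit 1) (Steps.bwd (nat_lit 8) (Steps.bwd (nat_lit 1) (Steps.bwd (nat_lit 1) (Steps.fwd (nat_lit 32768) (Steps.fwd (nat_lit 40960) (Steps.fwd (nat_lit 4096) Steps.nil))))))) (nat_lit 43) (nat_lit 0),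
  Rule.mk (nat_lit 4) (nat_lit 133) (Steps.bwd (nat_lit 7) (Steps.fwd (nat_lit 12288) (Steps.fwd (nat_lit 32768) (Steps.fwd (nat_lit 40960) (Steps.bwd (nat_lit 6) (Steps.fwd (nat_lit 49152) (Steps.bwd (nat_lit 13) (Steps.fwd (nat_lit 45056) Steps.nil)))))))) (nat_lit 44) (nat_lit 1),
  Rule.mk (nat_lit 11) (nat_lit 73) (Steps.fwd (nat_lit 20480) (Steps.fwd (nat_lit 53248) (Steps.bwd (nat_lit 4) (Steps.bwd (nat_lit 8) Steps.nil)))) (nat_lit 16) (nat_lit 3),
  Rule.mk (nat_lit 8) (nat_lit 103) (Steps.fwd (nat_lit 36864) (Steps.bwd (nat_lit 4) (Steps.bwd (nat_lit 1) (Steps.fwd (nat_lit 45056) (Steps.bwd (nat_lit 14) (Steps.bwd (nat_lit 6) Steps.nil)))))) (nat_lit 31) (nat_lit 3),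
  Rule.mk (nat_lit 0) (nat_lit 118) (Steps.bwd (nat_lit 1) (Steps.bwd (nat_lit 1) (Steps.bwd (nat_lit 1) (Steps.bwd (nat_lit 3) (Steps.fwd (nat_lit 4096) (Steps.bwd (nat_lit 8) (Steps.bwd (nat_lit 3) Steps.nil))))))) (nat_lit 29) (nat_lit 3),
  Rule.mk (nat_lit 4) (nat_lit 148) (Steps.bwd (nat_lit 6) (Steps.fwd (nat_lit 53248) (Steps.fwd (nat_lit 45056) (Steps.fwd (nat_lit 24576) (Steps.bwd (nat_lit 11) (Steps.fwd (nat_lit 57344) (Steps.bwd (nat_lit 3) (Steps.bwd (nat_lit 2) (Steps.fwd (nat_lit 4096) Steps.nil))))))))) (nat_lit 52) (nat_lit 4),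
  Rule.mk (nat_lit 8) (nat_lit 148) (Steps.bwd (nat_lit 1) (Steps.bwd (nat_lit 4) (Steps.bwd (nat_lit 6) (Steps.fwd (nat_lit 16384) (Steps.fwd (nat_lit 4096) (Steps.fwd (nat_lit 4096) (Steps.fwd (nat_lit 4096) (Steps.fwd (nat_lit 32768) (Steps.bwd (nat_lit 10) Steps.nil))))))))) (nat_lit 47) (nat_lit 2),
  Rule.mk (nat_lit 7) (nat_lit 118) (Steps.fwd (nat_lit 4096) (Steps.fwd (nat_lit 24576) (Steps.bwd (nat_lit 1) (Steps.bwd (nat_lit 10) (Steps.bwd (nat_lit 8) (Steps.fwd (nat_lit 4096) (Steps.fwd (nat_lit 4096) Steps.nil))))))) (nat_lit 42) (nat_lit 7),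
  Rule.mk (nat_lit 11) (nat_lit 118) (Steps.bwd (nat_lit 13) (Steps.fwd (nat_lit 36864) (Steps.bwd (nat_lit 8) (Steps.bwd (nat_lit 1) (Steps.bwd (nat_lit 1) (Steps.bwd (nat_lit 4) (Steps.bwd (nat_lit 6) Steps.nil))))))) (nat_lit 32) (nat_lit 5),
  Rule.mk (nat_lit 12) (nat_lit 118) (Steps.bwd (nat_lit 5) (Steps.fwd (nat_lit 12288) (Steps.bwd (nat_lit 6) (Steps.fwd (nat_lit 45056) (Steps.bwd (nat_lit 5) (Steps.bwd (nat_lit 4) (Steps.bwd (nat_lit 6) Steps.nil))))))) (nat_lit 35) (nat_lit 2),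
  Rule.mk (nat_lit 3) (nat_lit 133) (Steps.bwd (nat_lit 11) (Steps.fwd (nat_lit 53248) (Steps.bwd (nat_lit 12) (Steps.bwd (nat_lit 5) (Steps.bwd (nat_lit 10) (Steps.fwd (nat_lit 28672) (Steps.bwd (nat_lit 3) (Steps.fwd (nat_lit 28672) Steps.nil)))))))) (nat_lit 45) (nat_lit 0),
  Rule.mk (nat_lit 10) (nat_lit 88) (Steps.fwd (nat_lit 28672) (Steps.bwd (nat_lit 9) (Steps.fwd (nat_lit 8192) (Steps.bwd (nat_lit 3) (Steps.fwd (nat_lit 4096) Steps.nil))))) (nat_lit 20) (nat_lit 4),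
  Rule.mk (nat_lit 6) (nat_lit 133) (Steps.bwd (nat_lit 11) (Steps.fwd (nat_lit 57344) (Steps.fwd (nat_lit 45056) (Steps.fwd (nat_lit 12288) (Steps.fwd (nat_lit 32768) (Steps.fwd (nat_lit 12288) (Steps.bwd (nat_lit 7) (Steps.bwd (nat_lit 9) Steps.nil)))))))) (nat_lit 44) (nat_lit 6),
  Rule.mk (nat_lit 7) (nat_lit 73) (Steps.bwd (nat_lit 2) (Steps.fwd (nat_lit 4096) (Steps.bwd (nat_lit 6) (Steps.fwd (nat_lit 12288) Steps.nil)))) (nat_lit 14) (nat_lit 2),
  Rule.mk (nat_lit 14) (nat_lit 118) (Steps.bwd (nat_lit 12) (Steps.bwd (nat_lit 10) (Steps.fwd (nat_lit 28672) (Steps.bwd (nat_lit 14) (Steps.bwd (nat_lit 12) (Steps.fwd (nat_lit 36864) (Steps.bwd (nat_lit 8) Steps.nil))))))) (nat_lit 40) (nat_lit 2),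
  Rule.mk (nat_lit 11) (nat_lit 118) (Steps.bwd (nat_lit 13) (Steps.bwd (nat_lit 7) (Steps.fwd (nat_lit 40960) (Steps.bwd (nat_lit 11) (Steps.bwd (nat_lit 13) (Steps.bwd (nat_lit 7) (Steps.bwd (nat_lit 9) Steps.nil))))))) (nat_lit 41) (nat_lit 2),
  Rule.mk (nat_lit 10) (nat_lit 148) (Steps.bwd (nat_lit 8) (Steps.bwd (nat_lit 1) (Steps.fwd (nat_lit 12288) (Steps.fwd (nat_lit 20480) (Steps.bwd (nat_lit 3) (Steps.bwd (nat_lit 2) (Steps.bwd (nat_lit 2) (Steps.fwd (nat_lit 4096) (Steps.bwd (nat_lit 7) Steps.nil))))))))) (nat_lit 47) (nat_lit 1),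
  Rule.mk (nat_lit 0) (nat_lit 103) (Steps.fwd (nat_lit 4096) (Steps.bwd (nat_lit 8) (Steps.bwd (nat_lit 2) (Steps.bwd (nat_lit 5) (Steps.fwd (nat_lit 40960) (Steps.bwd (nat_lit 3) Steps.nil)))))) (nat_lit 23) (nat_lit 4),
  Rule.mk (nat_lit 6) (nat_lit 118) (Steps.bwd (nat_lit 11) (Steps.bwd (nat_lit 13) (Steps.bwd (nat_lit 10) (Steps.bwd (nat_lit 8) (Steps.bwd (nat_lit 1) (Steps.fwd (nat_lit 8192) (Steps.bwd (nat_lit 4) Steps.nil))))))) (nat_lit 32) (nat_lit 4),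
  Rule.mk (nat_lit 1) (nat_lit 88) (Steps.bwd (nat_lit 4) (Steps.fwd (nat_lit 4096) (Steps.fwd (nat_lit 36864) (Steps.bwd (nat_lit 7) (Steps.bwd (nat_lit 9) Steps.nil))))) (nat_lit 21) (nat_lit 4),
  Rule.mk (nat_lit 11) (nat_lit 148) (Steps.bwd (nat_lit 13) (Steps.bwd (nat_lit 3) (Steps.bwd (nat_lit 2) (Steps.fwd (nat_lit 4096) (Steps.bwd (nat_lit 4) (Steps.bwd (nat_lit 6) (Steps.bwd (nat_lit 14) (Steps.fwd (nat_lit 45056) (Steps.bwd (nat_lit 5) Steps.nil))))))))) (nat_lit 52) (nat_lit 9),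
  Rule.mk (nat_lit 6) (nat_lit 73) (Steps.bwd (nat_lit 14) (Steps.bwd (nat_lit 4) (Steps.fwd (nat_lit 28672) (Steps.bwd (nat_lit 11) Steps.nil)))) (nat_lit 16) (nat_lit 4),
  Rule.mk (nat_lit 14) (nat_lit 88) (Steps.fwd (nat_lit 49152) (Steps.bwd (nat_lit 13) (Steps.fwd (nat_lit 45056) (Steps.fwd (nat_lit 36864) (Steps.bwd (nat_lit 11) Steps.nil))))) (nat_lit 27) (nat_lit 0),
  Rule.mk (nat_lit 2) (nat_lit 103) (Steps.bwd (nat_lit 3) (Steps.bwd (nat_lit 9) (Steps.bwd (nat_lit 7) (Steps.fwd (nat_lit 24576) (Steps.bwd (nat_lit 13) (Steps.bwd (nat_lit 11) Steps.nil)))))) (nat_lit 30) (nat_lit 2),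
  Rule.mk (nat_lit 2) (nat_lit 73) (Steps.bwd (nat_lit 2) (Steps.bwd (nat_lit 6) (Steps.bwd (nat_lit 4) (Steps.bwd (nat_lit 7) Steps.nil)))) (nat_lit 14) (nat_lit 3),
  Rule.mk (nat_lit 7) (nat_lit 118) (Steps.fwd (nat_lit 40960) (Steps.bwd (nat_lit 2) (Steps.bwd (nat_lit 6) (Steps.fwd (nat_lit 8192) (Steps.bwd (nat_lit 8) (Steps.bwd (nat_lit 1) (Steps.fwd (nat_lit 8192) Steps.nil))))))) (nat_lit 43) (nat_lit 5),
  Rule.mk (nat_lit 1) (nat_lit 148) (Steps.fwd (nat_lit 12288) (Steps.bwd (nat_lit 6) (Steps.fwd (nat_lit 16384) (Steps.bwd (nat_lit 2) (Steps.bwd (nat_lit 2) (Steps.bwd (nat_lit 2) (Steps.fwd (nat_lit 32768) (Steps.bwd (nat_lit 10) (Steps.bwd (nat_lit 8) Steps.nil))))))))) (nat_lit 47) (nat_lit 3),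
  Rule.mk (nat_lit 2) (nat_lit 118) (Steps.bwd (nat_lit 5) (Steps.bwd (nat_lit 1) (Steps.fwd (nat_lit 36864) (Steps.bwd (nat_lit 8) (Steps.bwd (nat_lit 2) (Steps.fwd (nat_lit 4096) (Steps.bwd (nat_lit 7) Steps.nil))))))) (nat_lit 42) (nat_lit 0),
  Rule.mk (nat_lit 8) (nat_lit 88) (Steps.bwd (nat_lit 2) (Steps.bwd (nat_lit 5) (Steps.fwd (nat_lit 40960) (Steps.bwd (nat_lit 3) (Steps.fwd (nat_lit 4096) Steps.nil))))) (nat_lit 23) (nat_lit 0),
  Rule.mk (nat_lit 3) (nat_lit 118) (Steps.bwd (nat_lit 2) (Steps.bwd (nat_lit 2) (Steps.fwd (nat_lit 32768) (Steps.fwd (nat_lit 40960) (Steps.fwd (nat_lit 53248) (Steps.fwd (nat_lit 45056) (Steps.bwd (nat_lit 5) Steps.nil))))))) (nat_lit 33) (nat_lit 6),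
  Rule.mk (nat_lit 5) (nat_lit 88) (Steps.bwd (nat_lit 9) (Steps.bwd (nat_lit 3) (Steps.bwd (nat_lit 2) (Steps.bwd (nat_lit 8) (Steps.fwd (nat_lit 4096) Steps.nil))))) (nat_lit 23) (nat_lit 2),
  Rule.mk (nat_lit 3) (nat_lit 118) (Steps.fwd (nat_lit 20480) (Steps.bwd (nat_lit 11) (Steps.bwd (nat_lit 5) (Steps.bwd (nat_lit 3) (Steps.fwd (nat_lit 20480) (Steps.fwd (nat_lit 49152) (Steps.bwd (nat_lit 5) Steps.nil))))))) (nat_lit 34) (nat_lit 1),
  Rule.mk (nat_lit 8) (nat_lit 133) (Steps.bwd (nat_lit 3) (Steps.fwd (nat_lit 28672) (Steps.fwd (nat_lit 16384) (Steps.fwd (nat_lit 49152) (Steps.bwd (nat_lit 14) (Steps.fwd (nat_lit 45056) (Steps.fwd (nat_lit 24576) (Steps.bwd (nat_lit 10) Steps.nil)))))))) (nat_lit 45) (nat_lit 6),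
  Rule.mk (nat_lit 11) (nat_lit 118) (Steps.fwd (nat_lit 57344) (Steps.bwd (nat_lit 10) (Steps.bwd (nat_lit 8) (Steps.bwd (nat_lit 1) (Steps.fwd (nat_lit 8192) (Steps.bwd (nat_lit 4) (Steps.fwd (nat_lit 20480) Steps.nil))))))) (nat_lit 32) (nat_lit 5),
  Rule.mk (nat_lit 5) (nat_lit 148) (Steps.bwd (nat_lit 3) (Steps.fwd (nat_lit 4096) (Steps.bwd (nat_lit 7) (Steps.bwd (nat_lit 9) (Steps.bwd (nat_lit 8) (Steps.fwd (nat_lit 8192) (Steps.fwd (nat_lit 8192) (Steps.bwd (nat_lit 1) (Steps.fwd (nat_lit 12288) Steps.nil))))))))) (nat_lit 46) (nat_lit 6),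
  Rule.mk (nat_lit 14) (nat_lit 118) (Steps.fwd (nat_lit 45056) (Steps.bwd (nat_lit 5) (Steps.bwd (nat_lit 3) (Steps.fwd (nat_lit 4096) (Steps.bwd (nat_lit 2) (Steps.fwd (nat_lit 32768) (Steps.fwd (nat_lit 40960) Steps.nil))))))) (nat_lit 33) (nat_lit 3),
  Rule.mk (nat_lit 14) (nat_lit 118) (Steps.bwd (nat_lit 10) (Steps.bwd (nat_lit 8) (Steps.fwd (nat_lit 40960) (Steps.bwd (nat_lit 14) (Steps.fwd (nat_lit 36864) (Steps.fwd (nat_lit 28672) (Steps.bwd (nat_lit 9) Steps.nil))))))) (nat_lit 39) (nat_lit 0),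
  Rule.mk (nat_lit 11) (nat_lit 88) (Steps.fwd (nat_lit 57344) (Steps.fwd (nat_lit 45056) (Steps.bwd (nat_lit 10) (Steps.bwd (nat_lit 11) (Steps.bwd (nat_lit 14) Steps.nil))))) (nat_lit 27) (nat_lit 1),
  Rule.mk (nat_lit 0) (nat_lit 118) (Steps.bwd (nat_lit 1) (Steps.fwd (nat_lit 45056) (Steps.bwd (nat_lit 14) (Steps.bwd (nat_lit 6) (Steps.bwd (nat_lit 8) (Steps.fwd (nat_lit 36864) (Steps.fwd (nat_lit 12288) Steps.nil))))))) (nat_lit 31) (nat_lit 5),
  Rule.mk (nat_lit 4) (nat_lit 103) (Steps.bwd (nat_lit 2) (Steps.bwd (nat_lit 2) (Steps.fwd (nat_lit 4096) (Steps.fwd (nat_lit 12288) (Steps.fwd (nat_lit 32768) (Steps.fwd (nat_lit 8192) Steps.nil)))))) (nat_lit 28) (nat_lit 1),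
  Rule.mk (nat_lit 6) (nat_lit 148) (Steps.bwd (nat_lit 14) (Steps.fwd (nat_lit 45056) (Steps.bwd (nat_lit 5) (Steps.bwd (nat_lit 11) (Steps.fwd (nat_lit 57344) (Steps.fwd (nat_lit 16384) (Steps.bwd (nat_lit 2) (Steps.fwd (nat_lit 4096) (Steps.fwd (nat_lit 12288) Steps.nil))))))))) (nat_lit 52) (nat_lit 5),
  Rule.mk (nat_lit 1) (nat_lit 88) (Steps.bwd (nat_lit 7) (Steps.bwd (nat_lit 1) (Steps.fwd (nat_lit 12288) (Steps.bwd (nat_lit 10) (Steps.fwd (nat_lit 20480) Steps.nil))))) (nat_lit 22) (nat_lit 0),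
  Rule.mk (nat_lit 0) (nat_lit 103) (Steps.bwd (nat_lit 1) (Steps.fwd (nat_lit 12288) (Steps.fwd (nat_lit 36864) (Steps.bwd (nat_lit 6) (Steps.bwd (nat_lit 1) (Steps.fwd (nat_lit 32768) Steps.nil)))))) (nat_lit 22) (nat_lit 1),
  Rule.mk (nat_lit 5) (nat_lit 148) (Steps.fwd (nat_lit 16384) (Steps.fwd (nat_lit 4096) (Steps.fwd (nat_lit 32768) (Steps.bwd (nat_lit 9) (Steps.bwd (nat_lit 8) (Steps.bwd (nat_lit 1) (Steps.bwd (nat_lit 1) (Steps.bwd (nat_lit 1) (Steps.bwd (nat_lit 4) Steps.nil))))))))) (nat_lit 46) (nat_lit 6),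
  Rule.mk (nat_lit 0) (nat_lit 118) (Steps.fwd (nat_lit 53248) (Steps.fwd (nat_lit 20480) (Steps.fwd (nat_lit 28672) (Steps.fwd (nat_lit 36864) (Steps.fwd (nat_lit 12288) (Steps.fwd (nat_lit 8192) (Steps.fwd (nat_lit 45056) Steps.nil))))))) (nat_lit 31) (nat_lit 0),
  Rule.mk (nat_lit 1) (nat_lit 118) (Steps.bwd (nat_lit 10) (Steps.fwd (nat_lit 28672) (Steps.fwd (nat_lit 4096) (Steps.fwd (nat_lit 4096) (Steps.fwd (nat_lit 32768) (Steps.fwd (nat_lit 4096) (Steps.bwd (nat_lit 5) Steps.nil))))))) (nat_lit 42) (nat_lit 2),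
  Rule.mk (nat_lit 6) (nat_lit 148) (Steps.bwd (nat_lit 3) (Steps.fwd (nat_lit 4096) (Steps.bwd (nat_lit 2) (Steps.fwd (nat_lit 4096) (Steps.fwd (nat_lit 32768) (Steps.fwd (nat_lit 36864) (Steps.bwd (nat_lit 8) (Steps.bwd (nat_lit 1) (Steps.bwd (nat_lit 4) Steps.nil))))))))) (nat_lit 47) (nat_lit 5),
  Rule.mk (nat_lit 1) (nat_lit 148) (Steps.bwd (nat_lit 1) (Steps.bwd (nat_lit 4) (Steps.bwd (nat_lit 14) (Steps.fwd (nat_lit 45056) (Steps.bwd (nat_lit 6) (Steps.bwd (nat_lit 11) (Steps.bwd (nat_lit 13) (Steps.bwd (nat_lit 5) (Steps.fwd (nat_lit 16384) Steps.nil))))))))) (nat_lit 53) (nat_lit 8),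
  Rule.mk (nat_lit 0) (nat_lit 103) (Steps.bwd (nat_lit 8) (Steps.fwd (nat_lit 4096) (Steps.bwd (nat_lit 5) (Steps.fwd (nat_lit 40960) (Steps.fwd (nat_lit 16384) (Steps.bwd (nat_lit 2) Steps.nil)))))) (nat_lit 23) (nat_lit 5),
  Rule.mk (nat_lit 14) (nat_lit 88) (Steps.bwd (nat_lit 11) (Steps.fwd (nat_lit 57344) (Steps.bwd (nat_lit 5) (Steps.fwd (nat_lit 36864) (Steps.fwd (nat_lit 20480) Steps.nil))))) (nat_lit 25) (nat_lit 2),
  Rule.mk (nat_lit 5) (nat_lit 148) (Steps.bwd (nat_lit 11) (Steps.fwd (nat_lit 57344) (Steps.fwd (nat_lit 16384) (Steps.fwd (nat_lit 4096) (Steps.fwd (nat_lit 4096) (Steps.fwd (nat_lit 12288) (Steps.bwd (nat_lit 6) (Steps.fwd (nat_lit 53248) (Steps.fwd (nat_lit 45056) Steps.nil))))))))) (nat_lit 52) (nat_lit 8)]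
noncomputable def R_50 : List (Rule) := [Rule.mk (nat_lit 14) (nat_lit 88) (Steps.fwd (nat_lit 49152) (Steps.bwd (nat_lit 13) (Steps.bwd (nat_lit 5) (Steps.fwd (nat_lit 36864) (Steps.bwd (nat_lit 6) Steps.nil))))) (nat_lit 25) (nat_lit 2),
  Rule.mk (nat_lit 10) (nat_lit 103) (Steps.fwd (nat_lit 12288) (Steps.fwd (nat_lit 8192) (Steps.fwd (nat_lit 45056) (Steps.bwd (nat_lit 14) (Steps.bwd (nat_lit 6) (Steps.bwd (nat_lit 8) Steps.nil)))))) (nat_lit 31) (nat_lit 4),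
  Rule.mk (nat_lit 8) (nat_lit 103) (Steps.bwd (nat_lit 10) (Steps.fwd (nat_lit 12288) (Steps.fwd (nat_lit 8192) (Steps.bwd (nat_lit 12) (Steps.bwd (nat_lit 14) (Steps.bwd (nat_lit 6) Steps.nil)))))) (nat_lit 31) (nat_lit 3),
  Rule.mk (nat_lit 10) (nat_lit 88) (Steps.bwd (nat_lit 8) (Steps.fwd (nat_lit 40960) (Steps.fwd (nat_lit 8192) (Steps.fwd (nat_lit 16384) (Steps.fwd (nat_lit 4096) Steps.nil))))) (nat_lit 20) (nat_lit 4),
  Rule.mk (nat_lit 7) (nat_lit 118) (Steps.fwd (nat_lit 40960) (Steps.bwd (nat_lit 11) (Steps.bwd (nat_lit 13) (Steps.fwd (nat_lit 32768) (Steps.fwd (nat_lit 40960) (Steps.bwd (nat_lit 11) (Steps.fwd (nat_lit 57344) Steps.nil))))))) (nat_lit 41) (nat_lit 0),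
  Rule.mk (nat_lit 8) (nat_lit 118) (Steps.bwd (nat_lit 1) (Steps.fwd (nat_lit 8192) (Steps.bwd (nat_lit 7) (Steps.fwd (nat_lit 40960) (Steps.fwd (nat_lit 4096) (Steps.bwd (nat_lit 6) (Steps.bwd (nat_lit 1) Steps.nil))))))) (nat_lit 43) (nat_lit 2),
  Rule.mk (nat_lit 10) (nat_lit 118) (Steps.bwd (nat_lit 8) (Steps.bwd (nat_lit 1) (Steps.fwd (nat_lit 8192) (Steps.bwd (nat_lit 4) (Steps.fwd (nat_lit 20480) (Steps.fwd (nat_lit 49152) (Steps.bwd (nat_lit 13) Steps.nil))))))) (nat_lit 32) (nat_lit 7),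
  Rule.mk (nat_lit 8) (nat_lit 88) (Steps.fwd (nat_lit 40960) (Steps.fwd (nat_lit 8192) (Steps.bwd (nat_lit 3) (Steps.fwd (nat_lit 4096) (Steps.bwd (nat_lit 10) Steps.nil))))) (nat_lit 20) (nat_lit 5),
  Rule.mk (nat_lit 3) (nat_lit 103) (Steps.fwd (nat_lit 8192) (Steps.bwd (nat_lit 1) (Steps.bwd (nat_lit 1) (Steps.fwd (nat_lit 16384) (Steps.fwd (nat_lit 4096) (Steps.bwd (nat_lit 8) Steps.nil)))))) (nat_lit 29) (nat_lit 3),
  Rule.mk (nat_lit 5) (nat_lit 118) (Steps.bwd (nat_lit 3) (Steps.bwd (nat_lit 6) (Steps.fwd (nat_lit 49152) (Steps.fwd (nat_lit 24576) (Steps.fwd (nat_lit 16384) (Steps.bwd (nat_lit 6) (Steps.fwd (nat_lit 49152) Steps.nil))))))) (nat_lit 34) (nat_lit 0),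
  Rule.mk (nat_lit 10) (nat_lit 73) (Steps.fwd (nat_lit 49152) (Steps.fwd (nat_lit 24576) (Steps.fwd (nat_lit 49152) (Steps.bwd (nat_lit 5) Steps.nil)))) (nat_lit 18) (nat_lit 0),
  Rule.mk (nat_lit 11) (nat_lit 73) (Steps.bwd (nat_lit 5) (Steps.bwd (nat_lit 10) (Steps.fwd (nat_lit 49152) (Steps.bwd (nat_lit 5) Steps.nil)))) (nat_lit 18) (nat_lit 3),
  Rule.mk (nat_lit 1) (nat_lit 103) (Steps.fwd (nat_lit 8192) (Steps.bwd (nat_lit 1) (Steps.bwd (nat_lit 3) (Steps.bwd (nat_lit 2) (Steps.bwd (nat_lit 8) (Steps.fwd (nat_lit 16384) Steps.nil)))))) (nat_lit 29) (nat_lit 4),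
  Rule.mk (nat_lit 1) (nat_lit 103) (Steps.bwd (nat_lit 1) (Steps.fwd (nat_lit 8192) (Steps.bwd (nat_lit 3) (Steps.fwd (nat_lit 4096) (Steps.fwd (nat_lit 28672) (Steps.fwd (nat_lit 16384) Steps.nil)))))) (nat_lit 29) (nat_lit 4),
  Rule.mk (nat_lit 0) (nat_lit 88) (Steps.bwd (nat_lit 7) (Steps.fwd (nat_lit 4096) (Steps.fwd (nat_lit 4096) (Steps.bwd (nat_lit 6) (Steps.fwd (nat_lit 12288) Steps.nil))))) (nat_lit 14) (nat_lit 1),
  Rule.mk (nat_lit 8) (nat_lit 103) (Steps.bwd (nat_lit 10) (Steps.bwd (nat_lit 4) (Steps.bwd (nat_lit 1) (Steps.fwd (nat_lit 45056) (Steps.bwd (nat_lit 14) (Steps.fwd (nat_lit 20480) Steps.nil)))))) (nat_lit 31) (nat_lit 3),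
  Rule.mk (nat_lit 6) (nat_lit 118) (Steps.fwd (nat_lit 8192) (Steps.fwd (nat_lit 28672) (Steps.bwd (nat_lit 1) (Steps.bwd (nat_lit 1) (Steps.fwd (nat_lit 32768) (Steps.bwd (nat_lit 9) (Steps.fwd (nat_lit 4096) Steps.nil))))))) (nat_lit 43) (nat_lit 0),
  Rule.mk (nat_lit 4) (nat_lit 103) (Steps.fwd (nat_lit 4096) (Steps.bwd (nat_lit 2) (Steps.bwd (nat_lit 2) (Steps.fwd (nat_lit 12288) (Steps.bwd (nat_lit 7) (Steps.bwd (nat_lit 1) Steps.nil)))))) (nat_lit 28) (nat_lit 1),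
  Rule.mk (nat_lit 6) (nat_lit 118) (Steps.fwd (nat_lit 45056) (Steps.fwd (nat_lit 24576) (Steps.fwd (nat_lit 12288) (Steps.fwd (nat_lit 20480) (Steps.bwd (nat_lit 12) (Steps.bwd (nat_lit 5) (Steps.bwd (nat_lit 4) Steps.nil))))))) (nat_lit 35) (nat_lit 1),
  Rule.mk (nat_lit 6) (nat_lit 103) (Steps.fwd (nat_lit 28672) (Steps.fwd (nat_lit 36864) (Steps.fwd (nat_lit 12288) (Steps.fwd (nat_lit 8192) (Steps.bwd (nat_lit 12) (Steps.bwd (nat_lit 14) Steps.nil)))))) (nat_lit 31) (nat_lit 2),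
  Rule.mk (nat_lit 14) (nat_lit 148) (Steps.fwd (nat_lit 45056) (Steps.fwd (nat_lit 24576) (Steps.bwd (nat_lit 11) (Steps.bwd (nat_lit 13) (Steps.fwd (nat_lit 16384) (Steps.fwd (nat_lit 4096) (Steps.fwd (nat_lit 4096) (Steps.fwd (nat_lit 12288) (Steps.fwd (nat_lit 20480) Steps.nil))))))))) (nat_lit 52) (nat_lit 6),
  Rule.mk (nat_lit 13) (nat_lit 118) (Steps.bwd (nat_lit 7) (Steps.bwd (nat_lit 9) (Steps.bwd (nat_lit 11) (Steps.fwd (nat_lit 57344) (Steps.bwd (nat_lit 7) (Steps.bwd (nat_lit 9) (Steps.fwd (nat_lit 49152) Steps.nil))))))) (nat_lit 41) (nat_lit 3),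
  Rule.mk (nat_lit 3) (nat_lit 148) (Steps.fwd (nat_lit 4096) (Steps.bwd (nat_lit 2) (Steps.fwd (nat_lit 12288) (Steps.fwd (nat_lit 20480) (Steps.bwd (nat_lit 14) (Steps.fwd (nat_lit 45056) (Steps.bwd (nat_lit 5) (Steps.bwd (nat_lit 11) (Steps.fwd (nat_lit 57344) Steps.nil))))))))) (nat_lit 52) (nat_lit 1),
  Rule.mk (nat_lit 3) (nat_lit 148) (Steps.bwd (nat_lit 1) (Steps.bwd (nat_lit 1) (Steps.bwd (nat_lit 4) (Steps.bwd (nat_lit 14) (Steps.bwd (nat_lit 12) (Steps.bwd (nat_lit 6) (Steps.bwd (nat_lit 11) (Steps.fwd (nat_lit 57344) (Steps.fwd (nat_lit 24576) Steps.nil))))))))) (nat_lit 53) (nat_lit 7),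
  Rule.mk (nat_lit 5) (nat_lit 118) (Steps.bwd (nat_lit 3) (Steps.bwd (nat_lit 6) (Steps.fwd (nat_lit 49152) (Steps.fwd (nat_lit 24576) (Steps.bwd (nat_lit 3) (Steps.fwd (nat_lit 20480) (Steps.fwd (nat_lit 49152) Steps.nil))))))) (nat_lit 34) (nat_lit 0),
  Rule.mk (nat_lit 8) (nat_lit 148) (Steps.bwd (nat_lit 1) (Steps.fwd (nat_lit 8192) (Steps.bwd (nat_lit 1) (Steps.fwd (nat_lit 12288) (Steps.fwd (nat_lit 24576) (Steps.bwd (nat_lit 3) (Steps.fwd (nat_lit 4096) (Steps.fwd (nat_lit 32768) (Steps.fwd (nat_lit 40960) Steps.nil))))))))) (nat_lit 46) (nat_lit 1),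
  Rule.mk (nat_lit 2) (nat_lit 118) (Steps.bwd (nat_lit 5) (Steps.fwd (nat_lit 8192) (Steps.fwd (nat_lit 36864) (Steps.bwd (nat_lit 8) (Steps.fwd (nat_lit 4096) (Steps.bwd (nat_lit 2) (Steps.bwd (nat_lit 7) Steps.nil))))))) (nat_lit 42) (nat_lit 0),
  Rule.mk (nat_lit 8) (nat_lit 103) (Steps.fwd (nat_lit 16384) (Steps.fwd (nat_lit 8192) (Steps.bwd (nat_lit 1) (Steps.bwd (nat_lit 1) (Steps.bwd (nat_lit 3) (Steps.bwd (nat_lit 2) Steps.nil)))))) (nat_lit 29) (nat_lit 2),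
  Rule.mk (nat_lit 0) (nat_lit 103) (Steps.fwd (nat_lit 36864) (Steps.fwd (nat_lit 49152) (Steps.bwd (nat_lit 14) (Steps.bwd (nat_lit 11) (Steps.bwd (nat_lit 13) (Steps.fwd (nat_lit 45056) Steps.nil)))))) (nat_lit 27) (nat_lit 3),
  Rule.mk (nat_lit 2) (nat_lit 88) (Steps.bwd (nat_lit 5) (Steps.fwd (nat_lit 40960) (Steps.bwd (nat_lit 3) (Steps.fwd (nat_lit 4096) (Steps.bwd (nat_lit 8) Steps.nil))))) (nat_lit 23) (nat_lit 1),
  Rule.mk (nat_lit 2) (nat_lit 118) (Steps.fwd (nat_lit 32768) (Steps.bwd (nat_lit 2) (Steps.bwd (nat_lit 5) (Steps.fwd (nat_lit 8192) (Steps.fwd (nat_lit 36864) (Steps.bwd (nat_lit 8) (Steps.bwd (nat_lit 2) Steps.nil))))))) (nat_lit 42) (nat_lit 6),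
  Rule.mk (nat_lit 7) (nat_lit 148) (Steps.fwd (nat_lit 36864) (Steps.fwd (nat_lit 28672) (Steps.fwd (nat_lit 8192) (Steps.bwd (nat_lit 4) (Steps.bwd (nat_lit 6) (Steps.fwd (nat_lit 16384) (Steps.bwd (nat_lit 2) (Steps.bwd (nat_lit 2) (Steps.bwd (nat_lit 2) Steps.nil))))))))) (nat_lit 47) (nat_lit 0),
  Rule.mk (nat_lit 7) (nat_lit 148) (Steps.fwd (nat_lit 36864) (Steps.fwd (nat_lit 28672) (Steps.fwd (nat_lit 8192) (Steps.fwd (nat_lit 12288) (Steps.bwd (nat_lit 6) (Steps.bwd (nat_lit 3) (Steps.bwd (nat_lit 2) (Steps.bwd (nat_lit 2) (Steps.fwd (nat_lit 4096) Steps.nil))))))))) (nat_lit 47) (nat_lit 0),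
  Rule.mk (nat_lit 3) (nat_lit 118) (Steps.bwd (nat_lit 2) (Steps.fwd (nat_lit 4096) (Steps.bwd (nat_lit 7) (Steps.fwd (nat_lit 40960) (Steps.fwd (nat_lit 53248) (Steps.fwd (nat_lit 45056) (Steps.fwd (nat_lit 24576) Steps.nil))))))) (nat_lit 33) (nat_lit 6),
  Rule.mk (nat_lit 0) (nat_lit 73) (Steps.bwd (nat_lit 3) (Steps.fwd (nat_lit 24576) (Steps.fwd (nat_lit 12288) (Steps.bwd (nat_lit 14) Steps.nil)))) (nat_lit 12) (nat_lit 0),
  Rule.mk (nat_lit 8) (nat_lit 133) (Steps.bwd (nat_lit 3) (Steps.bwd (nat_lit 8) (Steps.bwd (nat_lit 3) (Steps.fwd (nat_lit 49152) (Steps.fwd (nat_lit 53248) (Steps.bwd (nat_lit 12) (Steps.fwd (nat_lit 24576) (Steps.fwd (nat_lit 36864) Steps.nil)))))))) (nat_lit 45) (nat_lit 6),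
  Rule.mk (nat_lit 11) (nat_lit 148) (Steps.bwd (nat_lit 13) (Steps.fwd (nat_lit 24576) (Steps.bwd (nat_lit 3) (Steps.fwd (nat_lit 8192) (Steps.fwd (nat_lit 8192) (Steps.bwd (nat_lit 4) (Steps.fwd (nat_lit 53248) (Steps.bwd (nat_lit 12) (Steps.fwd (nat_lit 20480) Steps.nil))))))))) (nat_lit 53) (nat_lit 4),
  Rule.mk (nat_lit 10) (nat_lit 118) (Steps.bwd (nat_lit 8) (Steps.fwd (nat_lit 53248) (Steps.bwd (nat_lit 12) (Steps.fwd (nat_lit 36864) (Steps.bwd (nat_lit 8) (Steps.bwd (nat_lit 14) (Steps.bwd (nat_lit 12) Steps.nil))))))) (nat_lit 40) (nat_lit 0),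
  Rule.mk (nat_lit 3) (nat_lit 133) (Steps.bwd (nat_lit 8) (Steps.bwd (nat_lit 3) (Steps.fwd (nat_lit 49152) (Steps.bwd (nat_lit 14) (Steps.bwd (nat_lit 12) (Steps.bwd (nat_lit 5) (Steps.bwd (nat_lit 10) (Steps.bwd (nat_lit 8) Steps.nil)))))))) (nat_lit 45) (nat_lit 7),
  Rule.mk (nat_lit 2) (nat_lit 88) (Steps.bwd (nat_lit 10) (Steps.bwd (nat_lit 8) (Steps.fwd (nat_lit 40960) (Steps.bwd (nat_lit 1) (Steps.fwd (nat_lit 16384) Steps.nil))))) (nat_lit 20) (nat_lit 3),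
  Rule.mk (nat_lit 0) (nat_lit 103) (Steps.bwd (nat_lit 2) (Steps.fwd (nat_lit 24576) (Steps.fwd (nat_lit 40960) (Steps.bwd (nat_lit 3) (Steps.fwd (nat_lit 4096) (Steps.fwd (nat_lit 28672) Steps.nil)))))) (nat_lit 23) (nat_lit 0),
  Rule.mk (nat_lit 9) (nat_lit 118) (Steps.bwd (nat_lit 14) (Steps.bwd (nat_lit 10) (Steps.bwd (nat_lit 8) (Steps.fwd (nat_lit 40960) (Steps.bwd (nat_lit 14) (Steps.fwd (nat_lit 36864) (Steps.bwd (nat_lit 8) Steps.nil))))))) (nat_lit 39) (nat_lit 3),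
  Rule.mk (nat_lit 10) (nat_lit 118) (Steps.fwd (nat_lit 32768) (Steps.bwd (nat_lit 9) (Steps.fwd (nat_lit 57344) (Steps.bwd (nat_lit 10) (Steps.bwd (nat_lit 7) (Steps.bwd (nat_lit 9) (Steps.bwd (nat_lit 13) Steps.nil))))))) (nat_lit 38) (nat_lit 2),
  Rule.mk (nat_lit 13) (nat_lit 118) (Steps.fwd (nat_lit 32768) (Steps.bwd (nat_lit 9) (Steps.bwd (nat_lit 11) (Steps.fwd (nat_lit 57344) (Steps.bwd (nat_lit 7) (Steps.bwd (nat_lit 9) (Steps.fwd (nat_lit 49152) Steps.nil))))))) (nat_lit 41) (nat_lit 3),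
  Rule.mk (nat_lit 12) (nat_lit 88) (Steps.fwd (nat_lit 36864) (Steps.bwd (nat_lit 11) (Steps.fwd (nat_lit 53248) (Steps.fwd (nat_lit 49152) (Steps.bwd (nat_lit 13) Steps.nil))))) (nat_lit 27) (nat_lit 3),
  Rule.mk (nat_lit 14) (nat_lit 103) (Steps.bwd (nat_lit 6) (Steps.bwd (nat_lit 8) (Steps.bwd (nat_lit 10) (Steps.fwd (nat_lit 12288) (Steps.fwd (nat_lit 8192) (Steps.bwd (nat_lit 12) Steps.nil)))))) (nat_lit 31) (nat_lit 1),
  Rule.mk (nat_lit 4) (nat_lit 103) (Steps.bwd (nat_lit 1) (Steps.bwd (nat_lit 12) (Steps.bwd (nat_lit 14) (Steps.bwd (nat_lit 6) (Steps.fwd (nat_lit 28672) (Steps.bwd (nat_lit 10) Steps.nil)))))) (nat_lit 31) (nat_lit 5),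
  Rule.mk (nat_lit 13) (nat_lit 148) (Steps.bwd (nat_lit 5) (Steps.fwd (nat_lit 16384) (Steps.fwd (nat_lit 8192) (Steps.bwd (nat_lit 1) (Steps.bwd (nat_lit 4) (Steps.bwd (nat_lit 14) (Steps.bwd (nat_lit 12) (Steps.fwd (nat_lit 20480) (Steps.bwd (nat_lit 11) Steps.nil))))))))) (nat_lit 53) (nat_lit 5),
  Rule.mk (nat_lit 7) (nat_lit 73) (Steps.fwd (nat_lit 16384) (Steps.bwd (nat_lit 13) (Steps.bwd (nat_lit 5) (Steps.bwd (nat_lit 12) Steps.nil)))) (nat_lit 17) (nat_lit 4),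
  Rule.mk (nat_lit 12) (nat_lit 88) (Steps.fwd (nat_lit 36864) (Steps.bwd (nat_lit 11) (Steps.fwd (nat_lit 53248) (Steps.bwd (nat_lit 11) (Steps.bwd (nat_lit 13) Steps.nil))))) (nat_lit 27) (nat_lit 3),
  Rule.mk (nat_lit 0) (nat_lit 118) (Steps.bwd (nat_lit 12) (Steps.fwd (nat_lit 53248) (Steps.fwd (nat_lit 20480) (Steps.fwd (nat_lit 28672) (Steps.bwd (nat_lit 10) (Steps.fwd (nat_lit 12288) (Steps.fwd (nat_lit 8192) Steps.nil))))))) (nat_lit 31) (nat_lit 6),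
  Rule.mk (nat_lit 10) (nat_lit 118) (Steps.bwd (nat_lit 14) (Steps.bwd (nat_lit 12) (Steps.fwd (nat_lit 57344) (Steps.bwd (nat_lit 10) (Steps.bwd (nat_lit 14) (Steps.bwd (nat_lit 12) (Steps.bwd (nat_lit 13) Steps.nil))))))) (nat_lit 37) (nat_lit 0),
  Rule.mk (nat_lit 8) (nat_lit 88) (Steps.fwd (nat_lit 4096) (Steps.fwd (nat_lit 24576) (Steps.fwd (nat_lit 40960) (Steps.bwd (nat_lit 3) (Steps.bwd (nat_lit 2) Steps.nil))))) (nat_lit 23) (nat_lit 0),
  Rule.mk (nat_lit 2) (nat_lit 103) (Steps.bwd (nat_lit 2) (Steps.fwd (nat_lit 12288) (Steps.fwd (nat_lit 32768) (Steps.fwd (nat_lit 8192) (Steps.bwd (nat_lit 4) (Steps.bwd (nat_lit 2) Steps.nil)))))) (nat_lit 28) (nat_lit 3),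
  Rule.mk (nat_lit 14) (nat_lit 118) (Steps.fwd (nat_lit 45056) (Steps.bwd (nat_lit 5) (Steps.bwd (nat_lit 3) (Steps.bwd (nat_lit 2) (Steps.bwd (nat_lit 2) (Steps.fwd (nat_lit 32768) (Steps.fwd (nat_lit 40960) Steps.nil))))))) (nat_lit 33) (nat_lit 3),
  Rule.mk (nat_lit 0) (nat_lit 133) (Steps.bwd (nat_lit 8) (Steps.fwd (nat_lit 8192) (Steps.fwd (nat_lit 8192) (Steps.bwd (nat_lit 7) (Steps.fwd (nat_lit 40960) (Steps.bwd (nat_lit 2) (Steps.fwd (nat_lit 20480) (Steps.fwd (nat_lit 8192) Steps.nil)))))))) (nat_lit 43) (nat_lit 1),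
  Rule.mk (nat_lit 7) (nat_lit 148) (Steps.fwd (nat_lit 40960) (Steps.bwd (nat_lit 8) (Steps.bwd (nat_lit 1) (Steps.fwd (nat_lit 8192) (Steps.bwd (nat_lit 1) (Steps.fwd (nat_lit 12288) (Steps.bwd (nat_lit 5) (Steps.bwd (nat_lit 3) (Steps.bwd (nat_lit 2) Steps.nil))))))))) (nat_lit 46) (nat_lit 9),
  Rule.mk (nat_lit 7) (nat_lit 148) (Steps.bwd (nat_lit 10) (Steps.fwd (nat_lit 28672) (Steps.fwd (nat_lit 8192) (Steps.bwd (nat_lit 4) (Steps.fwd (nat_lit 20480) (Steps.bwd (nat_lit 3) (Steps.bwd (nat_lit 2) (Steps.fwd (nat_lit 4096) (Steps.fwd (nat_lit 4096) Steps.nil))))))))) (nat_lit 47) (nat_lit 0),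
  Rule.mk (nat_lit 8) (nat_lit 148) (Steps.bwd (nat_lit 9) (Steps.bwd (nat_lit 8) (Steps.bwd (nat_lit 9) (Steps.fwd (nat_lit 28672) (Steps.fwd (nat_lit 40960) (Steps.bwd (nat_lit 8) (Steps.bwd (nat_lit 9) (Steps.fwd (nat_lit 28672) (Steps.fwd (nat_lit 40960) Steps.nil))))))))) (nat_lit 48) (nat_lit 1),
  Rule.mk (nat_lit 2) (nat_lit 148) (Steps.fwd (nat_lit 32768) (Steps.bwd (nat_lit 10) (Steps.bwd (nat_lit 8) (Steps.bwd (nat_lit 1) (Steps.bwd (nat_lit 4) (Steps.fwd (nat_lit 20480) (Steps.fwd (nat_lit 16384) (Steps.bwd (nat_lit 2) (Steps.fwd (nat_lit 4096) Steps.nil))))))))) (nat_lit 47) (nat_lit 9),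
  Rule.mk (nat_lit 3) (nat_lit 103) (Steps.fwd (nat_lit 40960) (Steps.fwd (nat_lit 32768) (Steps.bwd (nat_lit 5) (Steps.bwd (nat_lit 13) (Steps.bwd (nat_lit 11) (Steps.bwd (nat_lit 2) Steps.nil)))))) (nat_lit 30) (nat_lit 3),
  Rule.mk (nat_lit 4) (nat_lit 118) (Steps.bwd (nat_lit 6) (Steps.bwd (nat_lit 12) (Steps.bwd (nat_lit 5) (Steps.fwd (nat_lit 12288) (Steps.bwd (nat_lit 6) (Steps.bwd (nat_lit 12) (Steps.fwd (nat_lit 24576) Steps.nil))))))) (nat_lit 35) (nat_lit 0),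
  Rule.mk (nat_lit 14) (nat_lit 118) (Steps.bwd (nat_lit 12) (Steps.fwd (nat_lit 36864) (Steps.fwd (nat_lit 28672) (Steps.bwd (nat_lit 14) (Steps.fwd (nat_lit 45056) (Steps.fwd (nat_lit 36864) (Steps.fwd (nat_lit 28672) Steps.nil))))))) (nat_lit 40) (nat_lit 2),
  Rule.mk (nat_lit 13) (nat_lit 88) (Steps.fwd (nat_lit 24576) (Steps.fwd (nat_lit 40960) (Steps.bwd (nat_lit 6) (Steps.bwd (nat_lit 14) (Steps.bwd (nat_lit 12) Steps.nil))))) (nat_lit 24) (nat_lit 5)]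
noncomputable def R_51 : List (Rule) := [Rule.mk (nat_lit 12) (nat_lit 118) (Steps.fwd (nat_lit 57344) (Steps.fwd (nat_lit 36864) (Steps.bwd (nat_lit 14) (Steps.bwd (nat_lit 12) (Steps.bwd (nat_lit 13) (Steps.fwd (nat_lit 36864) (Steps.fwd (nat_lit 53248) Steps.nil))))))) (nat_lit 37) (nat_lit 2),
  Rule.mk (nat_lit 5) (nat_lit 118) (Steps.bwd (nat_lit 3) (Steps.fwd (nat_lit 4096) (Steps.fwd (nat_lit 4096) (Steps.fwd (nat_lit 32768) (Steps.fwd (nat_lit 40960) (Steps.bwd (nat_lit 14) (Steps.fwd (nat_lit 45056) Steps.nil))))))) (nat_lit 33) (nat_lit 5),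
  Rule.mk (nat_lit 12) (nat_lit 133) (Steps.fwd (nat_lit 24576) (Steps.bwd (nat_lit 10) (Steps.fwd (nat_lit 28672) (Steps.fwd (nat_lit 16384) (Steps.bwd (nat_lit 8) (Steps.bwd (nat_lit 3) (Steps.bwd (nat_lit 11) (Steps.bwd (nat_lit 14) Steps.nil)))))))) (nat_lit 45) (nat_lit 3),
  Rule.mk (nat_lit 12) (nat_lit 148) (Steps.bwd (nat_lit 5) (Steps.bwd (nat_lit 11) (Steps.fwd (nat_lit 57344) (Steps.bwd (nat_lit 3) (Steps.fwd (nat_lit 4096) (Steps.fwd (nat_lit 4096) (Steps.fwd (nat_lit 12288) (Steps.fwd (nat_lit 20480) (Steps.fwd (nat_lit 53248) Steps.nil))))))))) (nat_lit 52) (nat_lit 7),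
  Rule.mk (nat_lit 1) (nat_lit 103) (Steps.bwd (nat_lit 12) (Steps.bwd (nat_lit 14) (Steps.bwd (nat_lit 6) (Steps.fwd (nat_lit 28672) (Steps.bwd (nat_lit 10) (Steps.bwd (nat_lit 4) Steps.nil)))))) (nat_lit 31) (nat_lit 6),
  Rule.mk (nat_lit 7) (nat_lit 88) (Steps.fwd (nat_lit 8192) (Steps.bwd (nat_lit 4) (Steps.bwd (nat_lit 10) (Steps.fwd (nat_lit 20480) (Steps.bwd (nat_lit 1) Steps.nil))))) (nat_lit 22) (nat_lit 1),
  Rule.mk (nat_lit 7) (nat_lit 133) (Steps.bwd (nat_lit 4) (Steps.bwd (nat_lit 7) (Steps.bwd (nat_lit 9) (Steps.bwd (nat_lit 6) (Steps.bwd (nat_lit 11) (Steps.bwd (nat_lit 13) (Steps.bwd (nat_lit 12) (Steps.fwd (nat_lit 12288) Steps.nil)))))))) (nat_lit 44) (nat_lit 2),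
  Rule.mk (nat_lit 8) (nat_lit 103) (Steps.bwd (nat_lit 3) (Steps.fwd (nat_lit 8192) (Steps.fwd (nat_lit 8192) (Steps.bwd (nat_lit 1) (Steps.bwd (nat_lit 3) (Steps.bwd (nat_lit 2) Steps.nil)))))) (nat_lit 29) (nat_lit 2),
  Rule.mk (nat_lit 5) (nat_lit 148) (Steps.fwd (nat_lit 49152) (Steps.fwd (nat_lit 57344) (Steps.fwd (nat_lit 16384) (Steps.bwd (nat_lit 2) (Steps.bwd (nat_lit 2) (Steps.fwd (nat_lit 12288) (Steps.bwd (nat_lit 6) (Steps.fwd (nat_lit 53248) (Steps.bwd (nat_lit 12) Steps.nil))))))))) (nat_lit 52) (nat_lit 8),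
  Rule.mk (nat_lit 1) (nat_lit 73) (Steps.fwd (nat_lit 8192) (Steps.fwd (nat_lit 28672) (Steps.bwd (nat_lit 3) (Steps.bwd (nat_lit 5) Steps.nil)))) (nat_lit 15) (nat_lit 2),
  Rule.mk (nat_lit 13) (nat_lit 103) (Steps.fwd (nat_lit 49152) (Steps.fwd (nat_lit 4096) (Steps.bwd (nat_lit 3) (Steps.bwd (nat_lit 9) (Steps.fwd (nat_lit 32768) (Steps.bwd (nat_lit 5) Steps.nil)))))) (nat_lit 30) (nat_lit 0),
  Rule.mk (nat_lit 13) (nat_lit 148) (Steps.fwd (nat_lit 24576) (Steps.fwd (nat_lit 16384) (Steps.bwd (nat_lit 1) (Steps.fwd (nat_lit 8192) (Steps.bwd (nat_lit 4) (Steps.fwd (nat_lit 53248) (Steps.bwd (nat_lit 12) (Steps.bwd (nat_lit 6) (Steps.bwd (nat_lit 11) Steps.nil))))))))) (nat_lit 53) (nat_lit 5),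
  Rule.mk (nat_lit 12) (nat_lit 88) (Steps.bwd (nat_lit 13) (Steps.fwd (nat_lit 24576) (Steps.bwd (nat_lit 9) (Steps.bwd (nat_lit 6) (Steps.fwd (nat_lit 53248) Steps.nil))))) (nat_lit 24) (nat_lit 4),
  Rule.mk (nat_lit 2) (nat_lit 118) (Steps.fwd (nat_lit 20480) (Steps.fwd (nat_lit 8192) (Steps.fwd (nat_lit 28672) (Steps.bwd (nat_lit 1) (Steps.fwd (nat_lit 8192) (Steps.fwd (nat_lit 32768) (Steps.bwd (nat_lit 9) Steps.nil))))))) (nat_lit 43) (nat_lit 7),
  Rule.mk (nat_lit 10) (nat_lit 118) (Steps.bwd (nat_lit 8) (Steps.fwd (nat_lit 8192) (Steps.fwd (nat_lit 8192) (Steps.bwd (nat_lit 4) (Steps.fwd (nat_lit 20480) (Steps.fwd (nat_lit 49152) (Steps.bwd (nat_lit 13) Steps.nil))))))) (nat_lit 32) (nat_lit 7),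
  Rule.mk (nat_lit 14) (nat_lit 118) (Steps.bwd (nat_lit 10) (Steps.bwd (nat_lit 8) (Steps.fwd (nat_lit 40960) (Steps.fwd (nat_lit 53248) (Steps.bwd (nat_lit 10) (Steps.bwd (nat_lit 8) (Steps.bwd (nat_lit 9) Steps.nil))))))) (nat_lit 39) (nat_lit 0),
  Rule.mk (nat_lit 0) (nat_lit 88) (Steps.fwd (nat_lit 24576) (Steps.bwd (nat_lit 10) (Steps.fwd (nat_lit 49152) (Steps.bwd (nat_lit 5) (Steps.fwd (nat_lit 49152) Steps.nil))))) (nat_lit 18) (nat_lit 3),
  Rule.mk (nat_lit 10) (nat_lit 103) (Steps.fwd (nat_lit 12288) (Steps.fwd (nat_lit 8192) (Steps.bwd (nat_lit 12) (Steps.bwd (nat_lit 14) (Steps.bwd (nat_lit 6) (Steps.bwd (nat_lit 8) Steps.nil)))))) (nat_lit 31) (nat_lit 4),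
  Rule.mk (nat_lit 14) (nat_lit 148) (Steps.bwd (nat_lit 11) (Steps.bwd (nat_lit 14) (Steps.fwd (nat_lit 49152) (Steps.bwd (nat_lit 14) (Steps.fwd (nat_lit 49152) (Steps.bwd (nat_lit 14) (Steps.bwd (nat_lit 11) (Steps.fwd (nat_lit 53248) (Steps.fwd (nat_lit 49152) Steps.nil))))))))) (nat_lit 51) (nat_lit 1),
  Rule.mk (nat_lit 12) (nat_lit 118) (Steps.bwd (nat_lit 10) (Steps.bwd (nat_lit 8) (Steps.fwd (nat_lit 53248) (Steps.bwd (nat_lit 12) (Steps.fwd (nat_lit 36864) (Steps.bwd (nat_lit 8) (Steps.bwd (nat_lit 14) Steps.nil))))))) (nat_lit 40) (nat_lit 3),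
  Rule.mk (nat_lit 1) (nat_lit 148) (Steps.fwd (nat_lit 12288) (Steps.bwd (nat_lit 14) (Steps.bwd (nat_lit 12) (Steps.bwd (nat_lit 6) (Steps.fwd (nat_lit 49152) (Steps.fwd (nat_lit 57344) (Steps.fwd (nat_lit 24576) (Steps.bwd (nat_lit 3) (Steps.fwd (nat_lit 8192) Steps.nil))))))))) (nat_lit 53) (nat_lit 9),
  Rule.mk (nat_lit 12) (nat_lit 88) (Steps.fwd (nat_lit 57344) (Steps.bwd (nat_lit 12) (Steps.fwd (nat_lit 40960) (Steps.fwd (nat_lit 49152) (Steps.fwd (nat_lit 53248) Steps.nil))))) (nat_lit 26) (nat_lit 0),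
  Rule.mk (nat_lit 0) (nat_lit 133) (Steps.fwd (nat_lit 53248) (Steps.bwd (nat_lit 12) (Steps.bwd (nat_lit 13) (Steps.bwd (nat_lit 10) (Steps.bwd (nat_lit 14) (Steps.bwd (nat_lit 12) (Steps.bwd (nat_lit 13) (Steps.bwd (nat_lit 10) Steps.nil)))))))) (nat_lit 37) (nat_lit 0),
  Rule.mk (nat_lit 11) (nat_lit 88) (Steps.fwd (nat_lit 53248) (Steps.fwd (nat_lit 49152) (Steps.bwd (nat_lit 13) (Steps.fwd (nat_lit 45056) (Steps.fwd (nat_lit 36864) Steps.nil))))) (nat_lit 27) (nat_lit 5),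
  Rule.mk (nat_lit 5) (nat_lit 73) (Steps.fwd (nat_lit 49152) (Steps.fwd (nat_lit 24576) (Steps.fwd (nat_lit 36864) (Steps.bwd (nat_lit 11) Steps.nil)))) (nat_lit 18) (nat_lit 2),
  Rule.mk (nat_lit 7) (nat_lit 118) (Steps.bwd (nat_lit 9) (Steps.bwd (nat_lit 11) (Steps.fwd (nat_lit 57344) (Steps.bwd (nat_lit 7) (Steps.fwd (nat_lit 40960) (Steps.bwd (nat_lit 11) (Steps.fwd (nat_lit 57344) Steps.nil))))))) (nat_lit 41) (nat_lit 0),
  Rule.mk (nat_lit 7) (nat_lit 133) (Steps.bwd (nat_lit 9) (Steps.bwd (nat_lit 6) (Steps.bwd (nat_lit 11) (Steps.fwd (nat_lit 57344) (Steps.bwd (nat_lit 12) (Steps.bwd (nat_lit 4) (Steps.bwd (nat_lit 7) (Steps.bwd (nat_lit 4) Steps.nil)))))))) (nat_lit 44) (nat_lit 4),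
  Rule.mk (nat_lit 0) (nat_lit 88) (Steps.bwd (nat_lit 2) (Steps.fwd (nat_lit 4096) (Steps.bwd (nat_lit 6) (Steps.bwd (nat_lit 4) (Steps.bwd (nat_lit 7) Steps.nil))))) (nat_lit 14) (nat_lit 2),
  Rule.mk (nat_lit 1) (nat_lit 148) (Steps.fwd (nat_lit 12288) (Steps.fwd (nat_lit 20480) (Steps.bwd (nat_lit 3) (Steps.fwd (nat_lit 4096) (Steps.bwd (nat_lit 2) (Steps.fwd (nat_lit 4096) (Steps.fwd (nat_lit 32768) (Steps.bwd (nat_lit 10) (Steps.fwd (nat_lit 28672) Steps.nil))))))))) (nat_lit 47) (nat_lit 3),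
  Rule.mk (nat_lit 1) (nat_lit 103) (Steps.bwd (nat_lit 1) (Steps.fwd (nat_lit 16384) (Steps.bwd (nat_lit 2) (Steps.bwd (nat_lit 8) (Steps.fwd (nat_lit 16384) (Steps.bwd (nat_lit 1) Steps.nil)))))) (nat_lit 29) (nat_lit 5),
  Rule.mk (nat_lit 5) (nat_lit 118) (Steps.bwd (nat_lit 1) (Steps.fwd (nat_lit 36864) (Steps.bwd (nat_lit 8) (Steps.fwd (nat_lit 4096) (Steps.bwd (nat_lit 2) (Steps.bwd (nat_lit 7) (Steps.bwd (nat_lit 2) Steps.nil))))))) (nat_lit 42) (nat_lit 1),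
  Rule.mk (nat_lit 11) (nat_lit 73) (Steps.fwd (nat_lit 24576) (Steps.fwd (nat_lit 36864) (Steps.bwd (nat_lit 11) (Steps.bwd (nat_lit 5) Steps.nil)))) (nat_lit 18) (nat_lit 3),
  Rule.mk (nat_lit 3) (nat_lit 118) (Steps.fwd (nat_lit 20480) (Steps.bwd (nat_lit 11) (Steps.fwd (nat_lit 24576) (Steps.fwd (nat_lit 16384) (Steps.bwd (nat_lit 6) (Steps.bwd (nat_lit 11) (Steps.bwd (nat_lit 5) Steps.nil))))))) (nat_lit 34) (nat_lit 1),
  Rule.mk (nat_lit 8) (nat_lit 103) (Steps.bwd (nat_lit 3) (Steps.bwd (nat_lit 1) (Steps.bwd (nat_lit 1) (Steps.fwd (nat_lit 8192) (Steps.fwd (nat_lit 16384) (Steps.fwd (nat_lit 4096) Steps.nil)))))) (nat_lit 29) (nat_lit 2),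
  Rule.mk (nat_lit 14) (nat_lit 103) (Steps.fwd (nat_lit 20480) (Steps.bwd (nat_lit 8) (Steps.bwd (nat_lit 10) (Steps.bwd (nat_lit 4) (Steps.fwd (nat_lit 8192) (Steps.bwd (nat_lit 12) Steps.nil)))))) (nat_lit 31) (nat_lit 1),
  Rule.mk (nat_lit 7) (nat_lit 118) (Steps.bwd (nat_lit 2) (Steps.bwd (nat_lit 5) (Steps.bwd (nat_lit 1) (Steps.bwd (nat_lit 10) (Steps.bwd (nat_lit 8) (Steps.fwd (nat_lit 4096) (Steps.fwd (nat_lit 4096) Steps.nil))))))) (nat_lit 42) (nat_lit 7),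
  Rule.mk (nat_lit 6) (nat_lit 118) (Steps.bwd (nat_lit 1) (Steps.bwd (nat_lit 8) (Steps.bwd (nat_lit 1) (Steps.bwd (nat_lit 1) (Steps.bwd (nat_lit 7) (Steps.bwd (nat_lit 9) (Steps.bwd (nat_lit 2) Steps.nil))))))) (nat_lit 43) (nat_lit 0),
  Rule.mk (nat_lit 10) (nat_lit 88) (Steps.fwd (nat_lit 49152) (Steps.bwd (nat_lit 14) (Steps.bwd (nat_lit 11) (Steps.fwd (nat_lit 57344) (Steps.fwd (nat_lit 45056) Steps.nil))))) (nat_lit 27) (nat_lit 4),
  Rule.mk (nat_lit 4) (nat_lit 148) (Steps.bwd (nat_lit 14) (Steps.bwd (nat_lit 12) (Steps.bwd (nat_lit 6) (Steps.bwd (nat_lit 11) (Steps.bwd (nat_lit 13) (Steps.fwd (nat_lit 24576) (Steps.fwd (nat_lit 16384) (Steps.bwd (nat_lit 1) (Steps.fwd (nat_lit 8192) Steps.nil))))))))) (nat_lit 53) (nat_lit 0),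
  Rule.mk (nat_lit 0) (nat_lit 163) (Steps.bwd (nat_lit 7) (Steps.fwd (nat_lit 40960) (Steps.fwd (nat_lit 28672) (Steps.bwd (nat_lit 1) (Steps.bwd (nat_lit 1) (Steps.fwd (nat_lit 8192) (Steps.bwd (nat_lit 4) (Steps.fwd (nat_lit 24576) (Steps.bwd (nat_lit 3) (Steps.bwd (nat_lit 2) Steps.nil)))))))))) (nat_lit 46) (nat_lit 8),
  Rule.mk (nat_lit 13) (nat_lit 118) (Steps.bwd (nat_lit 10) (Steps.bwd (nat_lit 8) (Steps.fwd (nat_lit 8192) (Steps.bwd (nat_lit 1) (Steps.fwd (nat_lit 12288) (Steps.fwd (nat_lit 20480) (Steps.fwd (nat_lit 49152) Steps.nil))))))) (nat_lit 32) (nat_lit 6),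
  Rule.mk (nat_lit 6) (nat_lit 103) (Steps.bwd (nat_lit 8) (Steps.bwd (nat_lit 10) (Steps.fwd (nat_lit 12288) (Steps.fwd (nat_lit 8192) (Steps.bwd (nat_lit 12) (Steps.fwd (nat_lit 53248) Steps.nil)))))) (nat_lit 31) (nat_lit 2),
  Rule.mk (nat_lit 8) (nat_lit 88) (Steps.fwd (nat_lit 40960) (Steps.bwd (nat_lit 1) (Steps.bwd (nat_lit 3) (Steps.bwd (nat_lit 2) (Steps.bwd (nat_lit 10) Steps.nil))))) (nat_lit 20) (nat_lit 5),
  Rule.mk (nat_lit 1) (nat_lit 148) (Steps.fwd (nat_lit 12288) (Steps.fwd (nat_lit 20480) (Steps.bwd (nat_lit 3) (Steps.bwd (nat_lit 2) (Steps.fwd (nat_lit 4096) (Steps.bwd (nat_lit 2) (Steps.fwd (nat_lit 32768) (Steps.bwd (nat_lit 10) (Steps.bwd (nat_lit 8) Steps.nil))))))))) (nat_lit 47) (nat_lit 3),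
  Rule.mk (nat_lit 4) (nat_lit 103) (Steps.bwd (nat_lit 1) (Steps.fwd (nat_lit 45056) (Steps.bwd (nat_lit 14) (Steps.fwd (nat_lit 20480) (Steps.bwd (nat_lit 8) (Steps.bwd (nat_lit 10) Steps.nil)))))) (nat_lit 31) (nat_lit 5),
  Rule.mk (nat_lit 7) (nat_lit 133) (Steps.bwd (nat_lit 4) (Steps.bwd (nat_lit 7) (Steps.bwd (nat_lit 9) (Steps.fwd (nat_lit 20480) (Steps.fwd (nat_lit 49152) (Steps.fwd (nat_lit 57344) (Steps.fwd (nat_lit 45056) (Steps.bwd (nat_lit 4) Steps.nil)))))))) (nat_lit 44) (nat_lit 2),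
  Rule.mk (nat_lit 0) (nat_lit 148) (Steps.bwd (nat_lit 11) (Steps.bwd (nat_lit 14) (Steps.bwd (nat_lit 12) (Steps.fwd (nat_lit 24576) (Steps.fwd (nat_lit 36864) (Steps.bwd (nat_lit 8) (Steps.fwd (nat_lit 16384) (Steps.fwd (nat_lit 28672) (Steps.fwd (nat_lit 16384) Steps.nil))))))))) (nat_lit 45) (nat_lit 0),
  Rule.mk (nat_lit 14) (nat_lit 148) (Steps.bwd (nat_lit 11) (Steps.fwd (nat_lit 53248) (Steps.fwd (nat_lit 49152) (Steps.bwd (nat_lit 14) (Steps.bwd (nat_lit 11) (Steps.bwd (nat_lit 14) (Steps.fwd (nat_lit 49152) (Steps.bwd (nat_lit 14) (Steps.fwd (nat_lit 49152) Steps.nil))))))))) (nat_lit 51) (nat_lit 1),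
  Rule.mk (nat_lit 8) (nat_lit 103) (Steps.bwd (nat_lit 10) (Steps.bwd (nat_lit 4) (Steps.fwd (nat_lit 8192) (Steps.fwd (nat_lit 45056) (Steps.fwd (nat_lit 53248) (Steps.bwd (nat_lit 6) Steps.nil)))))) (nat_lit 31) (nat_lit 3),
  Rule.mk (nat_lit 13) (nat_lit 133) (Steps.bwd (nat_lit 12) (Steps.fwd (nat_lit 12288) (Steps.fwd (nat_lit 32768) (Steps.bwd (nat_lit 4) (Steps.bwd (nat_lit 7) (Steps.bwd (nat_lit 9) (Steps.bwd (nat_lit 6) (Steps.bwd (nat_lit 11) Steps.nil)))))))) (nat_lit 44) (nat_lit 8),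
  Rule.mk (nat_lit 14) (nat_lit 148) (Steps.bwd (nat_lit 12) (Steps.bwd (nat_lit 6) (Steps.bwd (nat_lit 11) (Steps.bwd (nat_lit 13) (Steps.bwd (nat_lit 5) (Steps.fwd (nat_lit 16384) (Steps.bwd (nat_lit 1) (Steps.bwd (nat_lit 1) (Steps.bwd (nat_lit 4) Steps.nil))))))))) (nat_lit 53) (nat_lit 1),
  Rule.mk (nat_lit 11) (nat_lit 118) (Steps.fwd (nat_lit 24576) (Steps.bwd (nat_lit 3) (Steps.fwd (nat_lit 20480) (Steps.bwd (nat_lit 11) (Steps.bwd (nat_lit 5) (Steps.fwd (nat_lit 16384) (Steps.fwd (nat_lit 20480) Steps.nil))))))) (nat_lit 34) (nat_lit 3),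
  Rule.mk (nat_lit 6) (nat_lit 73) (Steps.fwd (nat_lit 45056) (Steps.fwd (nat_lit 40960) (Steps.fwd (nat_lit 20480) (Steps.bwd (nat_lit 12) Steps.nil)))) (nat_lit 19) (nat_lit 4),
  Rule.mk (nat_lit 5) (nat_lit 118) (Steps.bwd (nat_lit 4) (Steps.bwd (nat_lit 6) (Steps.fwd (nat_lit 45056) (Steps.fwd (nat_lit 24576) (Steps.fwd (nat_lit 12288) (Steps.fwd (nat_lit 20480) (Steps.bwd (nat_lit 12) Steps.nil))))))) (nat_lit 35) (nat_lit 3),
  Rule.mk (nat_lit 0) (nat_lit 58) (Steps.fwd (nat_lit 20480) (Steps.bwd (nat_lit 6) (Steps.bwd (nat_lit 6) Steps.nil))) (nat_lit 3) (nat_lit 0),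
  Rule.mk (nat_lit 6) (nat_lit 118) (Steps.bwd (nat_lit 11) (Steps.fwd (nat_lit 57344) (Steps.bwd (nat_lit 10) (Steps.fwd (nat_lit 28672) (Steps.bwd (nat_lit 1) (Steps.bwd (nat_lit 1) (Steps.bwd (nat_lit 4) Steps.nil))))))) (nat_lit 32) (nat_lit 4),
  Rule.mk (nat_lit 0) (nat_lit 133) (Steps.bwd (nat_lit 7) (Steps.fwd (nat_lit 40960) (Steps.fwd (nat_lit 49152) (Steps.bwd (nat_lit 13) (Steps.fwd (nat_lit 32768) (Steps.fwd (nat_lit 40960) (Steps.bwd (nat_lit 11) (Steps.bwd (nat_lit 13) Steps.nil)))))))) (nat_lit 41) (nat_lit 3),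
  Rule.mk (nat_lit 4) (nat_lit 88) (Steps.fwd (nat_lit 4096) (Steps.bwd (nat_lit 10) (Steps.bwd (nat_lit 7) (Steps.bwd (nat_lit 9) (Steps.fwd (nat_lit 8192) Steps.nil))))) (nat_lit 21) (nat_lit 5),
  Rule.mk (nat_lit 13) (nat_lit 103) (Steps.fwd (nat_lit 49152) (Steps.bwd (nat_lit 2) (Steps.fwd (nat_lit 16384) (Steps.fwd (nat_lit 40960) (Steps.bwd (nat_lit 7) (Steps.fwd (nat_lit 24576) Steps.nil)))))) (nat_lit 30) (nat_lit 0),
  Rule.mk (nat_lit 12) (nat_lit 118) (Steps.bwd (nat_lit 5) (Steps.fwd (nat_lit 16384) (Steps.bwd (nat_lit 2) (Steps.fwd (nat_lit 4096) (Steps.bwd (nat_lit 7) (Steps.bwd (nat_lit 9) (Steps.bwd (nat_lit 14) Steps.nil))))))) (nat_lit 33) (nat_lit 4),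
  Rule.mk (nat_lit 6) (nat_lit 118) (Steps.fwd (nat_lit 45056) (Steps.bwd (nat_lit 5) (Steps.fwd (nat_lit 12288) (Steps.fwd (nat_lit 20480) (Steps.bwd (nat_lit 12) (Steps.bwd (nat_lit 5) (Steps.bwd (nat_lit 4) Steps.nil))))))) (nat_lit 35) (nat_lit 1),
  Rule.mk (nat_lit 2) (nat_lit 88) (Steps.fwd (nat_lit 36864) (Steps.fwd (nat_lit 28672) (Steps.fwd (nat_lit 40960) (Steps.bwd (nat_lit 1) (Steps.bwd (nat_lit 3) Steps.nil))))) (nat_lit 20) (nat_lit 3),
  Rule.mk (nat_lit 2) (nat_lit 148) (Steps.fwd (nat_lit 12288) (Steps.bwd (nat_lit 6) (Steps.bwd (nat_lit 14) (Steps.fwd (nat_lit 45056) (Steps.bwd (nat_lit 5) (Steps.bwd (nat_lit 11) (Steps.bwd (nat_lit 13) (Steps.bwd (nat_lit 3) (Steps.bwd (nat_lit 2) Steps.nil))))))))) (nat_lit 52) (nat_lit 3),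
  Rule.mk (nat_lit 3) (nat_lit 88) (Steps.bwd (nat_lit 2) (Steps.fwd (nat_lit 36864) (Steps.bwd (nat_lit 8) (Steps.bwd (nat_lit 9) (Steps.fwd (nat_lit 8192) Steps.nil))))) (nat_lit 20) (nat_lit 2)]
noncomputable def R_52 : List (Rule) := [Rule.mk (nat_lit 6) (nat_lit 148) (Steps.bwd (nat_lit 3) (Steps.fwd (nat_lit 4096) (Steps.fwd (nat_lit 4096) (Steps.bwd (nat_lit 2) (Steps.fwd (nat_lit 32768) (Steps.bwd (nat_lit 10) (Steps.bwd (nat_lit 8) (Steps.bwd (nat_lit 1) (Steps.bwd (nat_lit 4) Steps.nil))))))))) (nat_lit 47) (nat_lit 5),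
  Rule.mk (nat_lit 11) (nat_lit 118) (Steps.fwd (nat_lit 24576) (Steps.bwd (nat_lit 3) (Steps.fwd (nat_lit 20480) (Steps.fwd (nat_lit 49152) (Steps.bwd (nat_lit 5) (Steps.bwd (nat_lit 3) (Steps.bwd (nat_lit 6) Steps.nil))))))) (nat_lit 34) (nat_lit 3),
  Rule.mk (nat_lit 5) (nat_lit 118) (Steps.bwd (nat_lit 4) (Steps.bwd (nat_lit 6) (Steps.bwd (nat_lit 12) (Steps.fwd (nat_lit 24576) (Steps.bwd (nat_lit 4) (Steps.bwd (nat_lit 6) (Steps.bwd (nat_lit 12) Steps.nil))))))) (nat_lit 35) (nat_lit 3),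
  Rule.mk (nat_lit 5) (nat_lit 103) (Steps.fwd (nat_lit 57344) (Steps.bwd (nat_lit 11) (Steps.fwd (nat_lit 4096) (Steps.fwd (nat_lit 16384) (Steps.bwd (nat_lit 9) (Steps.fwd (nat_lit 32768) Steps.nil)))))) (nat_lit 30) (nat_lit 6),
  Rule.mk (nat_lit 9) (nat_lit 88) (Steps.fwd (nat_lit 16384) (Steps.bwd (nat_lit 2) (Steps.fwd (nat_lit 28672) (Steps.fwd (nat_lit 4096) (Steps.bwd (nat_lit 5) Steps.nil))))) (nat_lit 23) (nat_lit 3),
  Rule.mk (nat_lit 13) (nat_lit 103) (Steps.bwd (nat_lit 11) (Steps.fwd (nat_lit 4096) (Steps.bwd (nat_lit 3) (Steps.fwd (nat_lit 40960) (Steps.bwd (nat_lit 7) (Steps.bwd (nat_lit 5) Steps.nil)))))) (nat_lit 30) (nat_lit 0),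
  Rule.mk (nat_lit 12) (nat_lit 118) (Steps.bwd (nat_lit 13) (Steps.fwd (nat_lit 36864) (Steps.bwd (nat_lit 14) (Steps.bwd (nat_lit 12) (Steps.fwd (nat_lit 57344) (Steps.fwd (nat_lit 36864) (Steps.bwd (nat_lit 14) Steps.nil))))))) (nat_lit 37) (nat_lit 2),
  Rule.mk (nat_lit 9) (nat_lit 88) (Steps.fwd (nat_lit 20480) (Steps.bwd (nat_lit 14) (Steps.bwd (nat_lit 12) (Steps.bwd (nat_lit 13) (Steps.fwd (nat_lit 24576) Steps.nil))))) (nat_lit 24) (nat_lit 1),
  Rule.mk (nat_lit 8) (nat_lit 148) (Steps.bwd (nat_lit 9) (Steps.fwd (nat_lit 28672) (Steps.bwd (nat_lit 9) (Steps.bwd (nat_lit 8) (Steps.bwd (nat_lit 9) (Steps.fwd (nat_lit 28672) (Steps.fwd (nat_lit 40960) (Steps.bwd (nat_lit 8) (Steps.bwd (nat_lit 9) Steps.nil))))))))) (nat_lit 48) (nat_lit 1),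
  Rule.mk (nat_lit 3) (nat_lit 133) (Steps.fwd (nat_lit 49152) (Steps.fwd (nat_lit 53248) (Steps.fwd (nat_lit 45056) (Steps.fwd (nat_lit 24576) (Steps.fwd (nat_lit 36864) (Steps.fwd (nat_lit 28672) (Steps.bwd (nat_lit 3) (Steps.bwd (nat_lit 8) Steps.nil)))))))) (nat_lit 45) (nat_lit 0),
  Rule.mk (nat_lit 2) (nat_lit 88) (Steps.bwd (nat_lit 8) (Steps.fwd (nat_lit 4096) (Steps.bwd (nat_lit 5) (Steps.fwd (nat_lit 40960) (Steps.bwd (nat_lit 3) Steps.nil))))) (nat_lit 23) (nat_lit 5),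
  Rule.mk (nat_lit 3) (nat_lit 103) (Steps.bwd (nat_lit 9) (Steps.bwd (nat_lit 7) (Steps.fwd (nat_lit 24576) (Steps.bwd (nat_lit 13) (Steps.fwd (nat_lit 49152) (Steps.bwd (nat_lit 2) Steps.nil)))))) (nat_lit 30) (nat_lit 3),
  Rule.mk (nat_lit 5) (nat_lit 118) (Steps.bwd (nat_lit 3) (Steps.fwd (nat_lit 4096) (Steps.fwd (nat_lit 4096) (Steps.fwd (nat_lit 32768) (Steps.fwd (nat_lit 40960) (Steps.fwd (nat_lit 53248) (Steps.bwd (nat_lit 12) Steps.nil))))))) (nat_lit 33) (nat_lit 5),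
  Rule.mk (nat_lit 12) (nat_lit 88) (Steps.fwd (nat_lit 57344) (Steps.bwd (nat_lit 12) (Steps.fwd (nat_lit 40960) (Steps.fwd (nat_lit 49152) (Steps.bwd (nat_lit 14) Steps.nil))))) (nat_lit 26) (nat_lit 0),
  Rule.mk (nat_lit 14) (nat_lit 103) (Steps.fwd (nat_lit 20480) (Steps.bwd (nat_lit 8) (Steps.fwd (nat_lit 36864) (Steps.fwd (nat_lit 12288) (Steps.fwd (nat_lit 8192) (Steps.bwd (nat_lit 12) Steps.nil)))))) (nat_lit 31) (nat_lit 1),
  Rule.mk (nat_lit 14) (nat_lit 148) (Steps.fwd (nat_lit 49152) (Steps.bwd (nat_lit 14) (Steps.fwd (nat_lit 49152) (Steps.bwd (nat_lit 14) (Steps.bwd (nat_lit 11) (Steps.fwd (nat_lit 53248) (Steps.fwd (nat_lit 49152) (Steps.fwd (nat_lit 53248) (Steps.fwd (nat_lit 49152) Steps.nil))))))))) (nat_lit 51) (nat_lit 1),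
  Rule.mk (nat_lit 5) (nat_lit 118) (Steps.bwd (nat_lit 4) (Steps.bwd (nat_lit 6) (Steps.bwd (nat_lit 12) (Steps.fwd (nat_lit 24576) (Steps.bwd (nat_lit 4) (Steps.bwd (nat_lit 6) (Steps.fwd (nat_lit 45056) Steps.nil))))))) (nat_lit 35) (nat_lit 3),
  Rule.mk (nat_lit 2) (nat_lit 118) (Steps.bwd (nat_lit 7) (Steps.bwd (nat_lit 2) (Steps.bwd (nat_lit 5) (Steps.bwd (nat_lit 1) (Steps.bwd (nat_lit 10) (Steps.bwd (nat_lit 8) (Steps.bwd (nat_lit 2) Steps.nil))))))) (nat_lit 42) (nat_lit 6),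
  Rule.mk (nat_lit 1) (nat_lit 88) (Steps.fwd (nat_lit 16384) (Steps.bwd (nat_lit 2) (Steps.fwd (nat_lit 36864) (Steps.bwd (nat_lit 8) (Steps.fwd (nat_lit 40960) Steps.nil))))) (nat_lit 20) (nat_lit 1),
  Rule.mk (nat_lit 2) (nat_lit 103) (Steps.bwd (nat_lit 4) (Steps.fwd (nat_lit 32768) (Steps.fwd (nat_lit 8192) (Steps.bwd (nat_lit 4) (Steps.bwd (nat_lit 2) (Steps.bwd (nat_lit 2) Steps.nil)))))) (nat_lit 28) (nat_lit 4),
  Rule.mk (nat_lit 7) (nat_lit 148) (Steps.fwd (nat_lit 40960) (Steps.fwd (nat_lit 28672) (Steps.fwd (nat_lit 8192) (Steps.fwd (nat_lit 8192) (Steps.bwd (nat_lit 1) (Steps.fwd (nat_lit 12288) (Steps.bwd (nat_lit 5) (Steps.bwd (nat_lit 3) (Steps.bwd (nat_lit 2) Steps.nil))))))))) (nat_lit 46) (nat_lit 9),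
  Rule.mk (nat_lit 13) (nat_lit 118) (Steps.fwd (nat_lit 32768) (Steps.bwd (nat_lit 9) (Steps.fwd (nat_lit 49152) (Steps.fwd (nat_lit 57344) (Steps.bwd (nat_lit 7) (Steps.fwd (nat_lit 40960) (Steps.bwd (nat_lit 11) Steps.nil))))))) (nat_lit 41) (nat_lit 3),
  Rule.mk (nat_lit 5) (nat_lit 118) (Steps.bwd (nat_lit 1) (Steps.bwd (nat_lit 10) (Steps.fwd (nat_lit 28672) (Steps.bwd (nat_lit 2) (Steps.bwd (nat_lit 2) (Steps.bwd (nat_lit 7) (Steps.fwd (nat_lit 4096) Steps.nil))))))) (nat_lit 42) (nat_lit 1),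
  Rule.mk (nat_lit 10) (nat_lit 133) (Steps.bwd (nat_lit 8) (Steps.bwd (nat_lit 3) (Steps.fwd (nat_lit 28672) (Steps.bwd (nat_lit 3) (Steps.fwd (nat_lit 49152) (Steps.fwd (nat_lit 53248) (Steps.fwd (nat_lit 45056) (Steps.bwd (nat_lit 5) Steps.nil)))))))) (nat_lit 45) (nat_lit 5),
  Rule.mk (nat_lit 0) (nat_lit 103) (Steps.bwd (nat_lit 13) (Steps.bwd (nat_lit 12) (Steps.bwd (nat_lit 10) (Steps.fwd (nat_lit 49152) (Steps.bwd (nat_lit 14) (Steps.fwd (nat_lit 49152) Steps.nil)))))) (nat_lit 27) (nat_lit 1),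
  Rule.mk (nat_lit 13) (nat_lit 88) (Steps.fwd (nat_lit 24576) (Steps.bwd (nat_lit 9) (Steps.bwd (nat_lit 6) (Steps.bwd (nat_lit 14) (Steps.bwd (nat_lit 12) Steps.nil))))) (nat_lit 24) (nat_lit 5),
  Rule.mk (nat_lit 11) (nat_lit 88) (Steps.bwd (nat_lit 13) (Steps.bwd (nat_lit 5) (Steps.fwd (nat_lit 36864) (Steps.bwd (nat_lit 6) (Steps.bwd (nat_lit 14) Steps.nil))))) (nat_lit 25) (nat_lit 3),
  Rule.mk (nat_lit 5) (nat_lit 148) (Steps.bwd (nat_lit 11) (Steps.fwd (nat_lit 57344) (Steps.fwd (nat_lit 16384) (Steps.bwd (nat_lit 2) (Steps.bwd (nat_lit 2) (Steps.bwd (nat_lit 4) (Steps.bwd (nat_lit 6) (Steps.bwd (nat_lit 14) (Steps.bwd (nat_lit 12) Steps.nil))))))))) (nat_lit 52) (nat_lit 8),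
  Rule.mk (nat_lit 0) (nat_lit 163) (Steps.fwd (nat_lit 4096) (Steps.bwd (nat_lit 4) (Steps.fwd (nat_lit 20480) (Steps.bwd (nat_lit 14) (Steps.fwd (nat_lit 45056) (Steps.fwd (nat_lit 24576) (Steps.fwd (nat_lit 49152) (Steps.fwd (nat_lit 57344) (Steps.fwd (nat_lit 16384) (Steps.fwd (nat_lit 4096) Steps.nil)))))))))) (nat_lit 52) (nat_lit 2),
  Rule.mk (nat_lit 3) (nat_lit 88) (Steps.bwd (nat_lit 2) (Steps.fwd (nat_lit 28672) (Steps.bwd (nat_lit 2) (Steps.fwd (nat_lit 24576) (Steps.bwd (nat_lit 9) Steps.nil))))) (nat_lit 23) (nat_lit 4),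
  Rule.mk (nat_lit 0) (nat_lit 118) (Steps.bwd (nat_lit 3) (Steps.bwd (nat_lit 2) (Steps.fwd (nat_lit 28672) (Steps.fwd (nat_lit 16384) (Steps.bwd (nat_lit 1) (Steps.fwd (nat_lit 8192) (Steps.bwd (nat_lit 1) Steps.nil))))))) (nat_lit 29) (nat_lit 6),
  Rule.mk (nat_lit 9) (nat_lit 118) (Steps.bwd (nat_lit 14) (Steps.fwd (nat_lit 45056) (Steps.bwd (nat_lit 5) (Steps.fwd (nat_lit 16384) (Steps.bwd (nat_lit 2) (Steps.fwd (nat_lit 4096) (Steps.fwd (nat_lit 32768) Steps.nil))))))) (nat_lit 33) (nat_lit 2),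
  Rule.mk (nat_lit 7) (nat_lit 118) (Steps.bwd (nat_lit 9) (Steps.bwd (nat_lit 13) (Steps.fwd (nat_lit 36864) (Steps.fwd (nat_lit 32768) (Steps.bwd (nat_lit 9) (Steps.fwd (nat_lit 57344) (Steps.fwd (nat_lit 36864) Steps.nil))))))) (nat_lit 38) (nat_lit 3),
  Rule.mk (nat_lit 14) (nat_lit 118) (Steps.bwd (nat_lit 10) (Steps.fwd (nat_lit 28672) (Steps.bwd (nat_lit 9) (Steps.bwd (nat_lit 14) (Steps.fwd (nat_lit 36864) (Steps.bwd (nat_lit 8) (Steps.bwd (nat_lit 9) Steps.nil))))))) (nat_lit 39) (nat_lit 0),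
  Rule.mk (nat_lit 5) (nat_lit 148) (Steps.fwd (nat_lit 16384) (Steps.fwd (nat_lit 4096) (Steps.fwd (nat_lit 32768) (Steps.bwd (nat_lit 9) (Steps.fwd (nat_lit 28672) (Steps.bwd (nat_lit 1) (Steps.bwd (nat_lit 1) (Steps.bwd (nat_lit 1) (Steps.fwd (nat_lit 12288) Steps.nil))))))))) (nat_lit 46) (nat_lit 6),
  Rule.mk (nat_lit 7) (nat_lit 118) (Steps.bwd (nat_lit 9) (Steps.fwd (nat_lit 53248) (Steps.fwd (nat_lit 45056) (Steps.bwd (nat_lit 5) (Steps.fwd (nat_lit 16384) (Steps.fwd (nat_lit 4096) (Steps.fwd (nat_lit 4096) Steps.nil))))))) (nat_lit 33) (nat_lit 1),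
  Rule.mk (nat_lit 6) (nat_lit 88) (Steps.fwd (nat_lit 8192) (Steps.bwd (nat_lit 7) (Steps.bwd (nat_lit 1) (Steps.fwd (nat_lit 12288) (Steps.fwd (nat_lit 36864) Steps.nil))))) (nat_lit 22) (nat_lit 5),
  Rule.mk (nat_lit 4) (nat_lit 73) (Steps.bwd (nat_lit 7) (Steps.fwd (nat_lit 4096) (Steps.bwd (nat_lit 2) (Steps.bwd (nat_lit 6) Steps.nil)))) (nat_lit 14) (nat_lit 1),
  Rule.mk (nat_lit 2) (nat_lit 103) (Steps.bwd (nat_lit 8) (Steps.bwd (nat_lit 3) (Steps.fwd (nat_lit 8192) (Steps.bwd (nat_lit 1) (Steps.fwd (nat_lit 8192) (Steps.fwd (nat_lit 16384) Steps.nil)))))) (nat_lit 29) (nat_lit 1),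
  Rule.mk (nat_lit 14) (nat_lit 118) (Steps.bwd (nat_lit 12) (Steps.bwd (nat_lit 10) (Steps.fwd (nat_lit 28672) (Steps.bwd (nat_lit 14) (Steps.bwd (nat_lit 12) (Steps.bwd (nat_lit 10) (Steps.bwd (nat_lit 8) Steps.nil))))))) (nat_lit 40) (nat_lit 2),
  Rule.mk (nat_lit 2) (nat_lit 148) (Steps.fwd (nat_lit 12288) (Steps.bwd (nat_lit 6) (Steps.bwd (nat_lit 14) (Steps.bwd (nat_lit 12) (Steps.bwd (nat_lit 5) (Steps.fwd (nat_lit 49152) (Steps.bwd (nat_lit 13) (Steps.bwd (nat_lit 3) (Steps.fwd (nat_lit 4096) Steps.nil))))))))) (nat_lit 52) (nat_lit 3),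
  Rule.mk (nat_lit 8) (nat_lit 118) (Steps.bwd (nat_lit 2) (Steps.bwd (nat_lit 2) (Steps.bwd (nat_lit 7) (Steps.bwd (nat_lit 2) (Steps.bwd (nat_lit 5) (Steps.fwd (nat_lit 8192) (Steps.fwd (nat_lit 36864) Steps.nil))))))) (nat_lit 42) (nat_lit 4),
  Rule.mk (nat_lit 10) (nat_lit 103) (Steps.fwd (nat_lit 12288) (Steps.fwd (nat_lit 8192) (Steps.bwd (nat_lit 12) (Steps.fwd (nat_lit 53248) (Steps.bwd (nat_lit 6) (Steps.bwd (nat_lit 8) Steps.nil)))))) (nat_lit 31) (nat_lit 4),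
  Rule.mk (nat_lit 10) (nat_lit 118) (Steps.bwd (nat_lit 8) (Steps.fwd (nat_lit 40960) (Steps.fwd (nat_lit 53248) (Steps.bwd (nat_lit 10) (Steps.bwd (nat_lit 8) (Steps.fwd (nat_lit 40960) (Steps.fwd (nat_lit 53248) Steps.nil))))))) (nat_lit 39) (nat_lit 1),
  Rule.mk (nat_lit 2) (nat_lit 88) (Steps.bwd (nat_lit 10) (Steps.bwd (nat_lit 8) (Steps.fwd (nat_lit 40960) (Steps.bwd (nat_lit 1) (Steps.bwd (nat_lit 3) Steps.nil))))) (nat_lit 20) (nat_lit 3),
  Rule.mk (nat_lit 9) (nat_lit 103) (Steps.fwd (nat_lit 32768) (Steps.fwd (nat_lit 24576) (Steps.bwd (nat_lit 13) (Steps.bwd (nat_lit 11) (Steps.bwd (nat_lit 2) (Steps.fwd (nat_lit 16384) Steps.nil)))))) (nat_lit 30) (nat_lit 4),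
  Rule.mk (nat_lit 13) (nat_lit 118) (Steps.bwd (nat_lit 10) (Steps.fwd (nat_lit 32768) (Steps.bwd (nat_lit 9) (Steps.fwd (nat_lit 57344) (Steps.fwd (nat_lit 36864) (Steps.bwd (nat_lit 7) (Steps.fwd (nat_lit 40960) Steps.nil))))))) (nat_lit 38) (nat_lit 1),
  Rule.mk (nat_lit 14) (nat_lit 118) (Steps.bwd (nat_lit 12) (Steps.bwd (nat_lit 10) (Steps.fwd (nat_lit 28672) (Steps.bwd (nat_lit 14) (Steps.fwd (nat_lit 45056) (Steps.fwd (nat_lit 36864) (Steps.bwd (nat_lit 8) Steps.nil))))))) (nat_lit 40) (nat_lit 2),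
  Rule.mk (nat_lit 10) (nat_lit 118) (Steps.bwd (nat_lit 14) (Steps.bwd (nat_lit 12) (Steps.bwd (nat_lit 13) (Steps.bwd (nat_lit 10) (Steps.fwd (nat_lit 53248) (Steps.bwd (nat_lit 12) (Steps.bwd (nat_lit 13) Steps.nil))))))) (nat_lit 37) (nat_lit 0),
  Rule.mk (nat_lit 14) (nat_lit 118) (Steps.fwd (nat_lit 45056) (Steps.bwd (nat_lit 10) (Steps.fwd (nat_lit 28672) (Steps.bwd (nat_lit 14) (Steps.bwd (nat_lit 12) (Steps.bwd (nat_lit 10) (Steps.bwd (nat_lit 8) Steps.nil))))))) (nat_lit 40) (nat_lit 2),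
  Rule.mk (nat_lit 7) (nat_lit 148) (Steps.bwd (nat_lit 10) (Steps.bwd (nat_lit 8) (Steps.fwd (nat_lit 8192) (Steps.bwd (nat_lit 4) (Steps.fwd (nat_lit 20480) (Steps.fwd (nat_lit 16384) (Steps.bwd (nat_lit 2) (Steps.fwd (nat_lit 4096) (Steps.bwd (nat_lit 2) Steps.nil))))))))) (nat_lit 47) (nat_lit 0),
  Rule.mk (nat_lit 14) (nat_lit 118) (Steps.fwd (nat_lit 45056) (Steps.fwd (nat_lit 24576) (Steps.bwd (nat_lit 3) (Steps.fwd (nat_lit 4096) (Steps.bwd (nat_lit 2) (Steps.bwd (nat_lit 7) (Steps.bwd (nat_lit 9) Steps.nil))))))) (nat_lit 33) (nat_lit 3),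
  Rule.mk (nat_lit 8) (nat_lit 148) (Steps.bwd (nat_lit 1) (Steps.fwd (nat_lit 8192) (Steps.fwd (nat_lit 8192) (Steps.bwd (nat_lit 4) (Steps.bwd (nat_lit 5) (Steps.fwd (nat_lit 16384) (Steps.bwd (nat_lit 2) (Steps.bwd (nat_lit 7) (Steps.bwd (nat_lit 9) Steps.nil))))))))) (nat_lit 46) (nat_lit 1),
  Rule.mk (nat_lit 13) (nat_lit 88) (Steps.bwd (nat_lit 12) (Steps.bwd (nat_lit 10) (Steps.bwd (nat_lit 11) (Steps.bwd (nat_lit 14) (Steps.bwd (nat_lit 11) Steps.nil))))) (nat_lit 27) (nat_lit 2),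
  Rule.mk (nat_lit 11) (nat_lit 148) (Steps.fwd (nat_lit 53248) (Steps.bwd (nat_lit 11) (Steps.bwd (nat_lit 14) (Steps.bwd (nat_lit 11) (Steps.fwd (nat_lit 53248) (Steps.bwd (nat_lit 11) (Steps.fwd (nat_lit 53248) (Steps.fwd (nat_lit 49152) (Steps.fwd (nat_lit 53248) Steps.nil))))))))) (nat_lit 51) (nat_lit 0),
  Rule.mk (nat_lit 3) (nat_lit 103) (Steps.bwd (nat_lit 9) (Steps.bwd (nat_lit 7) (Steps.fwd (nat_lit 24576) (Steps.bwd (nat_lit 13) (Steps.bwd (nat_lit 11) (Steps.fwd (nat_lit 4096) Steps.nil)))))) (nat_lit 30) (nat_lit 3),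
  Rule.mk (nat_lit 9) (nat_lit 88) (Steps.fwd (nat_lit 16384) (Steps.bwd (nat_lit 2) (Steps.bwd (nat_lit 8) (Steps.bwd (nat_lit 2) (Steps.bwd (nat_lit 5) Steps.nil))))) (nat_lit 23) (nat_lit 3),
  Rule.mk (nat_lit 3) (nat_lit 88) (Steps.bwd (nat_lit 2) (Steps.fwd (nat_lit 36864) (Steps.fwd (nat_lit 28672) (Steps.bwd (nat_lit 9) (Steps.bwd (nat_lit 1) Steps.nil))))) (nat_lit 20) (nat_lit 2),
  Rule.mk (nat_lit 11) (nat_lit 88) (Steps.fwd (nat_lit 53248) (Steps.fwd (nat_lit 45056) (Steps.fwd (nat_lit 57344) (Steps.fwd (nat_lit 45056) (Steps.bwd (nat_lit 9) Steps.nil))))) (nat_lit 26) (nat_lit 4),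
  Rule.mk (nat_lit 11) (nat_lit 148) (Steps.bwd (nat_lit 14) (Steps.bwd (nat_lit 11) (Steps.fwd (nat_lit 53248) (Steps.fwd (nat_lit 49152) (Steps.fwd (nat_lit 53248) (Steps.fwd (nat_lit 49152) (Steps.bwd (nat_lit 14) (Steps.bwd (nat_lit 11) (Steps.bwd (nat_lit 14) Steps.nil))))))))) (nat_lit 51) (nat_lit 0),
  Rule.mk (nat_lit 4) (nat_lit 103) (Steps.fwd (nat_lit 4096) (Steps.bwd (nat_lit 2) (Steps.fwd (nat_lit 4096) (Steps.fwd (nat_lit 12288) (Steps.bwd (nat_lit 7) (Steps.bwd (nat_lit 1) Steps.nil)))))) (nat_lit 28) (nat_lit 1),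
  Rule.mk (nat_lit 10) (nat_lit 118) (Steps.bwd (nat_lit 8) (Steps.bwd (nat_lit 2) (Steps.fwd (nat_lit 4096) (Steps.bwd (nat_lit 7) (Steps.fwd (nat_lit 4096) (Steps.fwd (nat_lit 24576) (Steps.bwd (nat_lit 1) Steps.nil))))))) (nat_lit 42) (nat_lit 3),
  Rule.mk (nat_lit 14) (nat_lit 118) (Steps.fwd (nat_lit 45056) (Steps.bwd (nat_lit 5) (Steps.bwd (nat_lit 3) (Steps.bwd (nat_lit 2) (Steps.bwd (nat_lit 2) (Steps.bwd (nat_lit 7) (Steps.fwd (nat_lit 40960) Steps.nil))))))) (nat_lit 33) (nat_lit 3),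
  Rule.mk (nat_lit 11) (nat_lit 88) (Steps.bwd (nat_lit 13) (Steps.bwd (nat_lit 12) (Steps.bwd (nat_lit 10) (Steps.fwd (nat_lit 49152) (Steps.bwd (nat_lit 14) Steps.nil))))) (nat_lit 27) (nat_lit 1)]
noncomputable def R_53 : List (Rule) := [Rule.mk (nat_lit 8) (nat_lit 118) (Steps.fwd (nat_lit 40960) (Steps.bwd (nat_lit 14) (Steps.fwd (nat_lit 36864) (Steps.bwd (nat_lit 8) (Steps.bwd (nat_lit 9) (Steps.bwd (nat_lit 14) (Steps.fwd (nat_lit 36864) Steps.nil))))))) (nat_lit 39) (nat_lit 2),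
  Rule.mk (nat_lit 7) (nat_lit 118) (Steps.bwd (nat_lit 9) (Steps.bwd (nat_lit 11) (Steps.bwd (nat_lit 13) (Steps.fwd (nat_lit 32768) (Steps.bwd (nat_lit 9) (Steps.bwd (nat_lit 11) (Steps.bwd (nat_lit 13) Steps.nil))))))) (nat_lit 41) (nat_lit 0),
  Rule.mk (nat_lit 5) (nat_lit 118) (Steps.fwd (nat_lit 16384) (Steps.bwd (nat_lit 2) (Steps.bwd (nat_lit 2) (Steps.fwd (nat_lit 32768) (Steps.bwd (nat_lit 9) (Steps.fwd (nat_lit 53248) (Steps.bwd (nat_lit 12) Steps.nil))))))) (nat_lit 33) (nat_lit 5),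
  Rule.mk (nat_lit 8) (nat_lit 148) (Steps.bwd (nat_lit 1) (Steps.bwd (nat_lit 1) (Steps.bwd (nat_lit 1) (Steps.bwd (nat_lit 4) (Steps.bwd (nat_lit 5) (Steps.fwd (nat_lit 16384) (Steps.bwd (nat_lit 2) (Steps.bwd (nat_lit 7) (Steps.fwd (nat_lit 40960) Steps.nil))))))))) (nat_lit 46) (nat_lit 1),
  Rule.mk (nat_lit 13) (nat_lit 148) (Steps.fwd (nat_lit 16384) (Steps.bwd (nat_lit 2) (Steps.bwd (nat_lit 2) (Steps.fwd (nat_lit 12288) (Steps.bwd (nat_lit 6) (Steps.bwd (nat_lit 14) (Steps.fwd (nat_lit 45056) (Steps.bwd (nat_lit 5) (Steps.fwd (nat_lit 49152) Steps.nil))))))))) (nat_lit 52) (nat_lit 0),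
  Rule.mk (nat_lit 12) (nat_lit 88) (Steps.fwd (nat_lit 36864) (Steps.fwd (nat_lit 49152) (Steps.fwd (nat_lit 53248) (Steps.fwd (nat_lit 49152) (Steps.bwd (nat_lit 13) Steps.nil))))) (nat_lit 27) (nat_lit 3),
  Rule.mk (nat_lit 10) (nat_lit 118) (Steps.bwd (nat_lit 8) (Steps.fwd (nat_lit 8192) (Steps.fwd (nat_lit 8192) (Steps.fwd (nat_lit 12288) (Steps.bwd (nat_lit 6) (Steps.fwd (nat_lit 49152) (Steps.bwd (nat_lit 13) Steps.nil))))))) (nat_lit 32) (nat_lit 7),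
  Rule.mk (nat_lit 9) (nat_lit 118) (Steps.fwd (nat_lit 53248) (Steps.fwd (nat_lit 49152) (Steps.bwd (nat_lit 13) (Steps.bwd (nat_lit 9) (Steps.fwd (nat_lit 53248) (Steps.fwd (nat_lit 49152) (Steps.bwd (nat_lit 13) Steps.nil))))))) (nat_lit 36) (nat_lit 1),
  Rule.mk (nat_lit 10) (nat_lit 103) (Steps.bwd (nat_lit 4) (Steps.bwd (nat_lit 1) (Steps.bwd (nat_lit 12) (Steps.bwd (nat_lit 14) (Steps.bwd (nat_lit 6) (Steps.fwd (nat_lit 28672) Steps.nil)))))) (nat_lit 31) (nat_lit 4),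
  Rule.mk (nat_lit 8) (nat_lit 88) (Steps.fwd (nat_lit 40960) (Steps.bwd (nat_lit 1) (Steps.fwd (nat_lit 16384) (Steps.fwd (nat_lit 4096) (Steps.bwd (nat_lit 10) Steps.nil))))) (nat_lit 20) (nat_lit 5),
  Rule.mk (nat_lit 3) (nat_lit 133) (Steps.bwd (nat_lit 8) (Steps.bwd (nat_lit 3) (Steps.fwd (nat_lit 49152) (Steps.fwd (nat_lit 53248) (Steps.bwd (nat_lit 12) (Steps.bwd (nat_lit 5) (Steps.bwd (nat_lit 10) (Steps.fwd (nat_lit 28672) Steps.nil)))))))) (nat_lit 45) (nat_lit 7),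
  Rule.mk (nat_lit 2) (nat_lit 88) (Steps.fwd (nat_lit 36864) (Steps.fwd (nat_lit 28672) (Steps.bwd (nat_lit 9) (Steps.fwd (nat_lit 8192) (Steps.bwd (nat_lit 3) Steps.nil))))) (nat_lit 20) (nat_lit 3),
  Rule.mk (nat_lit 14) (nat_lit 118) (Steps.fwd (nat_lit 45056) (Steps.bwd (nat_lit 10) (Steps.bwd (nat_lit 8) (Steps.bwd (nat_lit 14) (Steps.bwd (nat_lit 12) (Steps.fwd (nat_lit 36864) (Steps.fwd (nat_lit 28672) Steps.nil))))))) (nat_lit 40) (nat_lit 2),
  Rule.mk (nat_lit 0) (nat_lit 133) (Steps.bwd (nat_lit 7) (Steps.fwd (nat_lit 4096) (Steps.fwd (nat_lit 24576) (Steps.fwd (nat_lit 8192) (Steps.bwd (nat_lit 10) (Steps.bwd (nat_lit 8) (Steps.fwd (nat_lit 4096) (Steps.fwd (nat_lit 4096) Steps.nil)))))))) (nat_lit 42) (nat_lit 6),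
  Rule.mk (nat_lit 9) (nat_lit 133) (Steps.fwd (nat_lit 20480) (Steps.bwd (nat_lit 11) (Steps.fwd (nat_lit 57344) (Steps.fwd (nat_lit 45056) (Steps.bwd (nat_lit 4) (Steps.bwd (nat_lit 7) (Steps.bwd (nat_lit 4) (Steps.fwd (nat_lit 32768) Steps.nil)))))))) (nat_lit 44) (nat_lit 5),
  Rule.mk (nat_lit 10) (nat_lit 118) (Steps.fwd (nat_lit 28672) (Steps.fwd (nat_lit 40960) (Steps.fwd (nat_lit 53248) (Steps.bwd (nat_lit 10) (Steps.bwd (nat_lit 8) (Steps.bwd (nat_lit 9) (Steps.fwd (nat_lit 53248) Steps.nil))))))) (nat_lit 39) (nat_lit 1),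
  Rule.mk (nat_lit 2) (nat_lit 118) (Steps.bwd (nat_lit 6) (Steps.fwd (nat_lit 8192) (Steps.fwd (nat_lit 28672) (Steps.bwd (nat_lit 1) (Steps.fwd (nat_lit 8192) (Steps.fwd (nat_lit 32768) (Steps.bwd (nat_lit 9) Steps.nil))))))) (nat_lit 43) (nat_lit 7),
  Rule.mk (nat_lit 2) (nat_lit 103) (Steps.bwd (nat_lit 2) (Steps.fwd (nat_lit 12288) (Steps.bwd (nat_lit 7) (Steps.fwd (nat_lit 8192) (Steps.fwd (nat_lit 12288) (Steps.fwd (nat_lit 4096) Steps.nil)))))) (nat_lit 28) (nat_lit 3),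
  Rule.mk (nat_lit 11) (nat_lit 148) (Steps.bwd (nat_lit 13) (Steps.bwd (nat_lit 5) (Steps.bwd (nat_lit 3) (Steps.bwd (nat_lit 1) (Steps.bwd (nat_lit 1) (Steps.fwd (nat_lit 12288) (Steps.fwd (nat_lit 53248) (Steps.fwd (nat_lit 45056) (Steps.fwd (nat_lit 20480) Steps.nil))))))))) (nat_lit 53) (nat_lit 4),
  Rule.mk (nat_lit 5) (nat_lit 73) (Steps.bwd (nat_lit 10) (Steps.bwd (nat_lit 11) (Steps.fwd (nat_lit 24576) (Steps.bwd (nat_lit 11) Steps.nil)))) (nat_lit 18) (nat_lit 4),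
  Rule.mk (nat_lit 0) (nat_lit 133) (Steps.bwd (nat_lit 10) (Steps.fwd (nat_lit 53248) (Steps.bwd (nat_lit 12) (Steps.fwd (nat_lit 57344) (Steps.fwd (nat_lit 36864) (Steps.fwd (nat_lit 53248) (Steps.fwd (nat_lit 45056) (Steps.bwd (nat_lit 13) Steps.nil)))))))) (nat_lit 37) (nat_lit 3),
  Rule.mk (nat_lit 5) (nat_lit 118) (Steps.fwd (nat_lit 8192) (Steps.fwd (nat_lit 36864) (Steps.bwd (nat_lit 8) (Steps.fwd (nat_lit 4096) (Steps.fwd (nat_lit 4096) (Steps.fwd (nat_lit 32768) (Steps.bwd (nat_lit 2) Steps.nil))))))) (nat_lit 42) (nat_lit 1),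
  Rule.mk (nat_lit 0) (nat_lit 73) (Steps.bwd (nat_lit 13) (Steps.fwd (nat_lit 16384) (Steps.fwd (nat_lit 20480) (Steps.fwd (nat_lit 12288) Steps.nil)))) (nat_lit 13) (nat_lit 0),
  Rule.mk (nat_lit 11) (nat_lit 103) (Steps.bwd (nat_lit 2) (Steps.bwd (nat_lit 3) (Steps.fwd (nat_lit 40960) (Steps.fwd (nat_lit 32768) (Steps.bwd (nat_lit 5) (Steps.bwd (nat_lit 13) Steps.nil)))))) (nat_lit 30) (nat_lit 1),
  Rule.mk (nat_lit 10) (nat_lit 118) (Steps.bwd (nat_lit 8) (Steps.bwd (nat_lit 1) (Steps.bwd (nat_lit 1) (Steps.fwd (nat_lit 12288) (Steps.bwd (nat_lit 6) (Steps.bwd (nat_lit 11) (Steps.fwd (nat_lit 57344) Steps.nil))))))) (nat_lit 32) (nat_lit 7),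
  Rule.mk (nat_lit 9) (nat_lit 118) (Steps.fwd (nat_lit 53248) (Steps.bwd (nat_lit 10) (Steps.bwd (nat_lit 8) (Steps.fwd (nat_lit 40960) (Steps.bwd (nat_lit 14) (Steps.bwd (nat_lit 10) (Steps.bwd (nat_lit 8) Steps.nil))))))) (nat_lit 39) (nat_lit 3),
  Rule.mk (nat_lit 12) (nat_lit 133) (Steps.fwd (nat_lit 12288) (Steps.fwd (nat_lit 32768) (Steps.bwd (nat_lit 4) (Steps.fwd (nat_lit 32768) (Steps.bwd (nat_lit 9) (Steps.bwd (nat_lit 6) (Steps.bwd (nat_lit 11) (Steps.fwd (nat_lit 57344) Steps.nil)))))))) (nat_lit 44) (nat_lit 0),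
  Rule.mk (nat_lit 7) (nat_lit 118) (Steps.bwd (nat_lit 9) (Steps.bwd (nat_lit 14) (Steps.bwd (nat_lit 12) (Steps.bwd (nat_lit 5) (Steps.fwd (nat_lit 16384) (Steps.bwd (nat_lit 2) (Steps.fwd (nat_lit 4096) Steps.nil))))))) (nat_lit 33) (nat_lit 1),
  Rule.mk (nat_lit 4) (nat_lit 118) (Steps.bwd (nat_lit 6) (Steps.bwd (nat_lit 12) (Steps.bwd (nat_lit 5) (Steps.bwd (nat_lit 4) (Steps.fwd (nat_lit 20480) (Steps.bwd (nat_lit 12) (Steps.bwd (nat_lit 5) Steps.nil))))))) (nat_lit 35) (nat_lit 0),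
  Rule.mk (nat_lit 2) (nat_lit 88) (Steps.bwd (nat_lit 5) (Steps.fwd (nat_lit 40960) (Steps.fwd (nat_lit 16384) (Steps.fwd (nat_lit 4096) (Steps.bwd (nat_lit 8) Steps.nil))))) (nat_lit 23) (nat_lit 1),
  Rule.mk (nat_lit 7) (nat_lit 118) (Steps.bwd (nat_lit 2) (Steps.bwd (nat_lit 5) (Steps.bwd (nat_lit 1) (Steps.fwd (nat_lit 36864) (Steps.bwd (nat_lit 8) (Steps.bwd (nat_lit 2) (Steps.bwd (nat_lit 2) Steps.nil))))))) (nat_lit 42) (nat_lit 7),
  Rule.mk (nat_lit 11) (nat_lit 103) (Steps.fwd (nat_lit 4096) (Steps.fwd (nat_lit 16384) (Steps.bwd (nat_lit 9) (Steps.fwd (nat_lit 32768) (Steps.fwd (nat_lit 24576) (Steps.bwd (nat_lit 13) Steps.nil)))))) (nat_lit 30) (nat_lit 1),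
  Rule.mk (nat_lit 6) (nat_lit 73) (Steps.fwd (nat_lit 45056) (Steps.bwd (nat_lit 9) (Steps.fwd (nat_lit 20480) (Steps.bwd (nat_lit 12) Steps.nil)))) (nat_lit 19) (nat_lit 4),
  Rule.mk (nat_lit 8) (nat_lit 88) (Steps.bwd (nat_lit 9) (Steps.bwd (nat_lit 1) (Steps.bwd (nat_lit 3) (Steps.fwd (nat_lit 4096) (Steps.bwd (nat_lit 10) Steps.nil))))) (nat_lit 20) (nat_lit 5),
  Rule.mk (nat_lit 10) (nat_lit 118) (Steps.bwd (nat_lit 8) (Steps.fwd (nat_lit 40960) (Steps.fwd (nat_lit 53248) (Steps.bwd (nat_lit 10) (Steps.bwd (nat_lit 8) (Steps.bwd (nat_lit 9) (Steps.fwd (nat_lit 53248) Steps.nil))))))) (nat_lit 39) (nat_lit 1),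
  Rule.mk (nat_lit 14) (nat_lit 88) (Steps.bwd (nat_lit 12) (Steps.fwd (nat_lit 57344) (Steps.bwd (nat_lit 12) (Steps.fwd (nat_lit 40960) (Steps.fwd (nat_lit 49152) Steps.nil))))) (nat_lit 26) (nat_lit 5),
  Rule.mk (nat_lit 4) (nat_lit 133) (Steps.bwd (nat_lit 7) (Steps.bwd (nat_lit 4) (Steps.bwd (nat_lit 7) (Steps.fwd (nat_lit 40960) (Steps.bwd (nat_lit 6) (Steps.fwd (nat_lit 49152) (Steps.bwd (nat_lit 13) (Steps.bwd (nat_lit 12) Steps.nil)))))))) (nat_lit 44) (nat_lit 1),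
  Rule.mk (nat_lit 0) (nat_lit 88) (Steps.fwd (nat_lit 49152) (Steps.fwd (nat_lit 20480) (Steps.bwd (nat_lit 14) (Steps.bwd (nat_lit 4) (Steps.bwd (nat_lit 8) Steps.nil))))) (nat_lit 16) (nat_lit 2),
  Rule.mk (nat_lit 12) (nat_lit 118) (Steps.bwd (nat_lit 13) (Steps.bwd (nat_lit 10) (Steps.bwd (nat_lit 14) (Steps.fwd (nat_lit 45056) (Steps.bwd (nat_lit 13) (Steps.fwd (nat_lit 36864) (Steps.bwd (nat_lit 14) Steps.nil))))))) (nat_lit 37) (nat_lit 2),
  Rule.mk (nat_lit 1) (nat_lit 148) (Steps.bwd (nat_lit 1) (Steps.bwd (nat_lit 4) (Steps.fwd (nat_lit 53248) (Steps.bwd (nat_lit 12) (Steps.fwd (nat_lit 20480) (Steps.fwd (nat_lit 49152) (Steps.bwd (nat_lit 13) (Steps.bwd (nat_lit 5) (Steps.fwd (nat_lit 16384) Steps.nil))))))))) (nat_lit 53) (nat_lit 8),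
  Rule.mk (nat_lit 1) (nat_lit 103) (Steps.bwd (nat_lit 1) (Steps.fwd (nat_lit 16384) (Steps.bwd (nat_lit 2) (Steps.fwd (nat_lit 28672) (Steps.bwd (nat_lit 3) (Steps.bwd (nat_lit 1) Steps.nil)))))) (nat_lit 29) (nat_lit 5),
  Rule.mk (nat_lit 7) (nat_lit 118) (Steps.fwd (nat_lit 40960) (Steps.bwd (nat_lit 2) (Steps.fwd (nat_lit 20480) (Steps.bwd (nat_lit 1) (Steps.bwd (nat_lit 8) (Steps.bwd (nat_lit 1) (Steps.bwd (nat_lit 1) Steps.nil))))))) (nat_lit 43) (nat_lit 5),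
  Rule.mk (nat_lit 11) (nat_lit 118) (Steps.bwd (nat_lit 13) (Steps.bwd (nat_lit 10) (Steps.bwd (nat_lit 8) (Steps.bwd (nat_lit 1) (Steps.bwd (nat_lit 1) (Steps.bwd (nat_lit 4) (Steps.bwd (nat_lit 6) Steps.nil))))))) (nat_lit 32) (nat_lit 5),
  Rule.mk (nat_lit 10) (nat_lit 118) (Steps.bwd (nat_lit 7) (Steps.fwd (nat_lit 40960) (Steps.fwd (nat_lit 57344) (Steps.bwd (nat_lit 10) (Steps.bwd (nat_lit 7) (Steps.bwd (nat_lit 9) (Steps.bwd (nat_lit 13) Steps.nil))))))) (nat_lit 38) (nat_lit 2),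
  Rule.mk (nat_lit 14) (nat_lit 88) (Steps.bwd (nat_lit 11) (Steps.bwd (nat_lit 13) (Steps.bwd (nat_lit 12) (Steps.fwd (nat_lit 36864) (Steps.fwd (nat_lit 49152) Steps.nil))))) (nat_lit 27) (nat_lit 0),
  Rule.mk (nat_lit 13) (nat_lit 103) (Steps.bwd (nat_lit 11) (Steps.fwd (nat_lit 4096) (Steps.fwd (nat_lit 16384) (Steps.bwd (nat_lit 9) (Steps.fwd (nat_lit 32768) (Steps.bwd (nat_lit 5) Steps.nil)))))) (nat_lit 30) (nat_lit 0),
  Rule.mk (nat_lit 12) (nat_lit 148) (Steps.fwd (nat_lit 57344) (Steps.fwd (nat_lit 45056) (Steps.fwd (nat_lit 57344) (Steps.fwd (nat_lit 45056) (Steps.fwd (nat_lit 57344) (Steps.bwd (nat_lit 12) (Steps.bwd (nat_lit 13) (Steps.bwd (nat_lit 12) (Steps.fwd (nat_lit 57344) Steps.nil))))))))) (nat_lit 50) (nat_lit 1),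
  Rule.mk (nat_lit 14) (nat_lit 88) (Steps.bwd (nat_lit 12) (Steps.fwd (nat_lit 57344) (Steps.fwd (nat_lit 45056) (Steps.bwd (nat_lit 9) (Steps.fwd (nat_lit 49152) Steps.nil))))) (nat_lit 26) (nat_lit 5),
  Rule.mk (nat_lit 11) (nat_lit 88) (Steps.fwd (nat_lit 57344) (Steps.bwd (nat_lit 12) (Steps.bwd (nat_lit 10) (Steps.fwd (nat_lit 49152) (Steps.fwd (nat_lit 53248) Steps.nil))))) (nat_lit 27) (nat_lit 1),
  Rule.mk (nat_lit 4) (nat_lit 148) (Steps.bwd (nat_lit 14) (Steps.bwd (nat_lit 12) (Steps.bwd (nat_lit 6) (Steps.fwd (nat_lit 49152) (Steps.bwd (nat_lit 13) (Steps.bwd (nat_lit 5) (Steps.fwd (nat_lit 16384) (Steps.fwd (nat_lit 8192) (Steps.bwd (nat_lit 1) Steps.nil))))))))) (nat_lit 53) (nat_lit 0),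
  Rule.mk (nat_lit 5) (nat_lit 148) (Steps.fwd (nat_lit 16384) (Steps.fwd (nat_lit 4096) (Steps.bwd (nat_lit 7) (Steps.fwd (nat_lit 40960) (Steps.fwd (nat_lit 28672) (Steps.fwd (nat_lit 8192) (Steps.fwd (nat_lit 8192) (Steps.bwd (nat_lit 1) (Steps.bwd (nat_lit 4) Steps.nil))))))))) (nat_lit 46) (nat_lit 6),
  Rule.mk (nat_lit 11) (nat_lit 73) (Steps.fwd (nat_lit 24576) (Steps.fwd (nat_lit 36864) (Steps.fwd (nat_lit 49152) (Steps.bwd (nat_lit 5) Steps.nil)))) (nat_lit 18) (nat_lit 3),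
  Rule.mk (nat_lit 9) (nat_lit 88) (Steps.fwd (nat_lit 16384) (Steps.fwd (nat_lit 4096) (Steps.bwd (nat_lit 8) (Steps.fwd (nat_lit 4096) (Steps.bwd (nat_lit 5) Steps.nil))))) (nat_lit 23) (nat_lit 3),
  Rule.mk (nat_lit 13) (nat_lit 118) (Steps.bwd (nat_lit 9) (Steps.bwd (nat_lit 14) (Steps.fwd (nat_lit 49152) (Steps.fwd (nat_lit 57344) (Steps.bwd (nat_lit 9) (Steps.fwd (nat_lit 53248) (Steps.fwd (nat_lit 49152) Steps.nil))))))) (nat_lit 36) (nat_lit 0),
  Rule.mk (nat_lit 9) (nat_lit 118) (Steps.bwd (nat_lit 14) (Steps.bwd (nat_lit 10) (Steps.bwd (nat_lit 8) (Steps.bwd (nat_lit 9) (Steps.bwd (nat_lit 14) (Steps.fwd (nat_lit 36864) (Steps.fwd (nat_lit 28672) Steps.nil))))))) (nat_lit 39) (nat_lit 3),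
  Rule.mk (nat_lit 7) (nat_lit 118) (Steps.bwd (nat_lit 9) (Steps.bwd (nat_lit 2) (Steps.bwd (nat_lit 6) (Steps.fwd (nat_lit 8192) (Steps.bwd (nat_lit 8) (Steps.bwd (nat_lit 1) (Steps.bwd (nat_lit 1) Steps.nil))))))) (nat_lit 43) (nat_lit 5),
  Rule.mk (nat_lit 0) (nat_lit 133) (Steps.fwd (nat_lit 4096) (Steps.fwd (nat_lit 4096) (Steps.bwd (nat_lit 7) (Steps.bwd (nat_lit 9) (Steps.bwd (nat_lit 14) (Steps.bwd (nat_lit 12) (Steps.fwd (nat_lit 24576) (Steps.fwd (nat_lit 16384) Steps.nil)))))))) (nat_lit 33) (nat_lit 6),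
  Rule.mk (nat_lit 7) (nat_lit 118) (Steps.bwd (nat_lit 9) (Steps.fwd (nat_lit 57344) (Steps.bwd (nat_lit 10) (Steps.bwd (nat_lit 7) (Steps.bwd (nat_lit 9) (Steps.bwd (nat_lit 13) (Steps.bwd (nat_lit 10) Steps.nil))))))) (nat_lit 38) (nat_lit 3),
  Rule.mk (nat_lit 0) (nat_lit 88) (Steps.bwd (nat_lit 5) (Steps.bwd (nat_lit 1) (Steps.fwd (nat_lit 8192) (Steps.fwd (nat_lit 28672) (Steps.fwd (nat_lit 16384) Steps.nil))))) (nat_lit 15) (nat_lit 0),
  Rule.mk (nat_lit 10) (nat_lit 148) (Steps.bwd (nat_lit 7) (Steps.fwd (nat_lit 36864) (Steps.bwd (nat_lit 7) (Steps.fwd (nat_lit 36864) (Steps.bwd (nat_lit 7) (Steps.fwd (nat_lit 36864) (Steps.bwd (nat_lit 7) (Steps.bwd (nat_lit 10) (Steps.bwd (nat_lit 7) Steps.nil))))))))) (nat_lit 49) (nat_lit 1),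
  Rule.mk (nat_lit 5) (nat_lit 88) (Steps.bwd (nat_lit 10) (Steps.bwd (nat_lit 6) (Steps.fwd (nat_lit 53248) (Steps.fwd (nat_lit 49152) (Steps.fwd (nat_lit 57344) Steps.nil))))) (nat_lit 25) (nat_lit 5),
  Rule.mk (nat_lit 1) (nat_lit 103) (Steps.fwd (nat_lit 8192) (Steps.fwd (nat_lit 8192) (Steps.fwd (nat_lit 16384) (Steps.fwd (nat_lit 4096) (Steps.fwd (nat_lit 28672) (Steps.bwd (nat_lit 3) Steps.nil)))))) (nat_lit 29) (nat_lit 4),
  Rule.mk (nat_lit 7) (nat_lit 103) (Steps.bwd (nat_lit 5) (Steps.fwd (nat_lit 57344) (Steps.fwd (nat_lit 49152) (Steps.fwd (nat_lit 4096) (Steps.bwd (nat_lit 3) (Steps.bwd (nat_lit 9) Steps.nil)))))) (nat_lit 30) (nat_lit 5),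
  Rule.mk (nat_lit 8) (nat_lit 133) (Steps.fwd (nat_lit 16384) (Steps.fwd (nat_lit 49152) (Steps.fwd (nat_lit 53248) (Steps.fwd (nat_lit 45056) (Steps.fwd (nat_lit 24576) (Steps.fwd (nat_lit 36864) (Steps.fwd (nat_lit 28672) (Steps.bwd (nat_lit 3) Steps.nil)))))))) (nat_lit 45) (nat_lit 8)]
noncomputable def R_54 : List (Rule) := [Rule.mk (nat_lit 4) (nat_lit 103) (Steps.bwd (nat_lit 7) (Steps.fwd (nat_lit 8192) (Steps.fwd (nat_lit 12288) (Steps.bwd (nat_lit 2) (Steps.bwd (nat_lit 2) (Steps.fwd (nat_lit 4096) Steps.nil)))))) (nat_lit 28) (nat_lit 5),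
  Rule.mk (nat_lit 2) (nat_lit 118) (Steps.bwd (nat_lit 7) (Steps.fwd (nat_lit 4096) (Steps.bwd (nat_lit 5) (Steps.bwd (nat_lit 1) (Steps.fwd (nat_lit 36864) (Steps.bwd (nat_lit 8) (Steps.fwd (nat_lit 4096) Steps.nil))))))) (nat_lit 42) (nat_lit 6),
  Rule.mk (nat_lit 4) (nat_lit 103) (Steps.bwd (nat_lit 7) (Steps.fwd (nat_lit 8192) (Steps.bwd (nat_lit 4) (Steps.fwd (nat_lit 4096) (Steps.bwd (nat_lit 2) (Steps.fwd (nat_lit 4096) Steps.nil)))))) (nat_lit 28) (nat_lit 5),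
  Rule.mk (nat_lit 14) (nat_lit 118) (Steps.fwd (nat_lit 45056) (Steps.bwd (nat_lit 5) (Steps.fwd (nat_lit 16384) (Steps.fwd (nat_lit 4096) (Steps.bwd (nat_lit 2) (Steps.bwd (nat_lit 7) (Steps.bwd (nat_lit 9) Steps.nil))))))) (nat_lit 33) (nat_lit 3),
  Rule.mk (nat_lit 12) (nat_lit 118) (Steps.fwd (nat_lit 24576) (Steps.bwd (nat_lit 4) (Steps.bwd (nat_lit 6) (Steps.fwd (nat_lit 45056) (Steps.fwd (nat_lit 24576) (Steps.fwd (nat_lit 12288) (Steps.fwd (nat_lit 20480) Steps.nil))))))) (nat_lit 35) (nat_lit 2),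
  Rule.mk (nat_lit 4) (nat_lit 148) (Steps.bwd (nat_lit 6) (Steps.fwd (nat_lit 53248) (Steps.bwd (nat_lit 12) (Steps.bwd (nat_lit 5) (Steps.bwd (nat_lit 11) (Steps.fwd (nat_lit 57344) (Steps.fwd (nat_lit 16384) (Steps.fwd (nat_lit 4096) (Steps.fwd (nat_lit 4096) Steps.nil))))))))) (nat_lit 52) (nat_lit 4),
  Rule.mk (nat_lit 7) (nat_lit 103) (Steps.fwd (nat_lit 8192) (Steps.fwd (nat_lit 12288) (Steps.bwd (nat_lit 2) (Steps.fwd (nat_lit 4096) (Steps.fwd (nat_lit 4096) (Steps.bwd (nat_lit 4) Steps.nil)))))) (nat_lit 28) (nat_lit 6),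
  Rule.mk (nat_lit 1) (nat_lit 103) (Steps.fwd (nat_lit 45056) (Steps.fwd (nat_lit 53248) (Steps.bwd (nat_lit 6) (Steps.bwd (nat_lit 8) (Steps.bwd (nat_lit 10) (Steps.bwd (nat_lit 4) Steps.nil)))))) (nat_lit 31) (nat_lit 6),
  Rule.mk (nat_lit 7) (nat_lit 148) (Steps.fwd (nat_lit 36864) (Steps.fwd (nat_lit 28672) (Steps.bwd (nat_lit 1) (Steps.bwd (nat_lit 4) (Steps.bwd (nat_lit 6) (Steps.bwd (nat_lit 3) (Steps.fwd (nat_lit 4096) (Steps.bwd (nat_lit 2) (Steps.fwd (nat_lit 4096) Steps.nil))))))))) (nat_lit 47) (nat_lit 0),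
  Rule.mk (nat_lit 1) (nat_lit 88) (Steps.fwd (nat_lit 12288) (Steps.fwd (nat_lit 36864) (Steps.bwd (nat_lit 6) (Steps.fwd (nat_lit 8192) (Steps.bwd (nat_lit 7) Steps.nil))))) (nat_lit 22) (nat_lit 2),
  Rule.mk (nat_lit 7) (nat_lit 148) (Steps.fwd (nat_lit 36864) (Steps.bwd (nat_lit 7) (Steps.bwd (nat_lit 10) (Steps.bwd (nat_lit 7) (Steps.bwd (nat_lit 10) (Steps.fwd (nat_lit 32768) (Steps.bwd (nat_lit 10) (Steps.bwd (nat_lit 7) (Steps.fwd (nat_lit 36864) Steps.nil))))))))) (nat_lit 49) (nat_lit 0),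
  Rule.mk (nat_lit 9) (nat_lit 88) (Steps.fwd (nat_lit 8192) (Steps.fwd (nat_lit 12288) (Steps.fwd (nat_lit 4096) (Steps.fwd (nat_lit 36864) (Steps.bwd (nat_lit 7) Steps.nil))))) (nat_lit 21) (nat_lit 3),
  Rule.mk (nat_lit 5) (nat_lit 103) (Steps.bwd (nat_lit 13) (Steps.bwd (nat_lit 11) (Steps.bwd (nat_lit 2) (Steps.bwd (nat_lit 3) (Steps.bwd (nat_lit 9) (Steps.bwd (nat_lit 7) Steps.nil)))))) (nat_lit 30) (nat_lit 6),
  Rule.mk (nat_lit 3) (nat_lit 73) (Steps.fwd (nat_lit 57344) (Steps.bwd (nat_lit 5) (Steps.fwd (nat_lit 45056) (Steps.fwd (nat_lit 32768) Steps.nil)))) (nat_lit 17) (nat_lit 0),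
  Rule.mk (nat_lit 1) (nat_lit 103) (Steps.bwd (nat_lit 1) (Steps.bwd (nat_lit 1) (Steps.fwd (nat_lit 16384) (Steps.fwd (nat_lit 4096) (Steps.bwd (nat_lit 8) (Steps.bwd (nat_lit 3) Steps.nil)))))) (nat_lit 29) (nat_lit 4),
  Rule.mk (nat_lit 8) (nat_lit 118) (Steps.bwd (nat_lit 1) (Steps.bwd (nat_lit 1) (Steps.fwd (nat_lit 12288) (Steps.fwd (nat_lit 20480) (Steps.fwd (nat_lit 49152) (Steps.fwd (nat_lit 57344) (Steps.fwd (nat_lit 36864) Steps.nil))))))) (nat_lit 32) (nat_lit 0),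
  Rule.mk (nat_lit 14) (nat_lit 148) (Steps.bwd (nat_lit 12) (Steps.fwd (nat_lit 20480) (Steps.fwd (nat_lit 49152) (Steps.fwd (nat_lit 57344) (Steps.fwd (nat_lit 24576) (Steps.bwd (nat_lit 3) (Steps.bwd (nat_lit 1) (Steps.fwd (nat_lit 8192) (Steps.bwd (nat_lit 4) Steps.nil))))))))) (nat_lit 53) (nat_lit 1),
  Rule.mk (nat_lit 6) (nat_lit 88) (Steps.bwd (nat_lit 14) (Steps.bwd (nat_lit 12) (Steps.bwd (nat_lit 13) (Steps.bwd (nat_lit 5) (Steps.fwd (nat_lit 40960) Steps.nil))))) (nat_lit 24) (nat_lit 2),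
  Rule.mk (nat_lit 8) (nat_lit 118) (Steps.bwd (nat_lit 1) (Steps.fwd (nat_lit 8192) (Steps.bwd (nat_lit 7) (Steps.bwd (nat_lit 9) (Steps.bwd (nat_lit 2) (Steps.fwd (nat_lit 20480) (Steps.bwd (nat_lit 1) Steps.nil))))))) (nat_lit 43) (nat_lit 2),
  Rule.mk (nat_lit 3) (nat_lit 73) (Steps.fwd (nat_lit 24576) (Steps.bwd (nat_lit 1) (Steps.bwd (nat_lit 1) (Steps.bwd (nat_lit 8) Steps.nil)))) (nat_lit 15) (nat_lit 0),
  Rule.mk (nat_lit 0) (nat_lit 133) (Steps.fwd (nat_lit 12288) (Steps.fwd (nat_lit 20480) (Steps.fwd (nat_lit 49152) (Steps.bwd (nat_lit 13) (Steps.bwd (nat_lit 10) (Steps.fwd (nat_lit 28672) (Steps.fwd (nat_lit 8192) (Steps.bwd (nat_lit 1) Steps.nil)))))))) (nat_lit 32) (nat_lit 2),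
  Rule.mk (nat_lit 9) (nat_lit 88) (Steps.fwd (nat_lit 20480) (Steps.bwd (nat_lit 14) (Steps.fwd (nat_lit 45056) (Steps.bwd (nat_lit 13) (Steps.fwd (nat_lit 24576) Steps.nil))))) (nat_lit 24) (nat_lit 1),
  Rule.mk (nat_lit 10) (nat_lit 88) (Steps.bwd (nat_lit 8) (Steps.bwd (nat_lit 9) (Steps.bwd (nat_lit 1) (Steps.bwd (nat_lit 3) (Steps.fwd (nat_lit 4096) Steps.nil))))) (nat_lit 20) (nat_lit 4),
  Rule.mk (nat_lit 2) (nat_lit 148) (Steps.bwd (nat_lit 4) (Steps.fwd (nat_lit 20480) (Steps.fwd (nat_lit 53248) (Steps.fwd (nat_lit 45056) (Steps.bwd (nat_lit 5) (Steps.bwd (nat_lit 11) (Steps.bwd (nat_lit 13) (Steps.bwd (nat_lit 3) (Steps.fwd (nat_lit 4096) Steps.nil))))))))) (nat_lit 52) (nat_lit 3),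
  Rule.mk (nat_lit 8) (nat_lit 88) (Steps.bwd (nat_lit 2) (Steps.fwd (nat_lit 24576) (Steps.fwd (nat_lit 40960) (Steps.fwd (nat_lit 16384) (Steps.bwd (nat_lit 2) Steps.nil))))) (nat_lit 23) (nat_lit 0),
  Rule.mk (nat_lit 6) (nat_lit 148) (Steps.fwd (nat_lit 53248) (Steps.bwd (nat_lit 12) (Steps.fwd (nat_lit 24576) (Steps.fwd (nat_lit 49152) (Steps.fwd (nat_lit 57344) (Steps.fwd (nat_lit 16384) (Steps.bwd (nat_lit 2) (Steps.fwd (nat_lit 4096) (Steps.bwd (nat_lit 4) Steps.nil))))))))) (nat_lit 52) (nat_lit 5),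
  Rule.mk (nat_lit 8) (nat_lit 73) (Steps.fwd (nat_lit 49152) (Steps.bwd (nat_lit 6) (Steps.fwd (nat_lit 53248) (Steps.fwd (nat_lit 12288) Steps.nil)))) (nat_lit 16) (nat_lit 2),
  Rule.mk (nat_lit 12) (nat_lit 103) (Steps.bwd (nat_lit 14) (Steps.bwd (nat_lit 6) (Steps.bwd (nat_lit 8) (Steps.bwd (nat_lit 10) (Steps.fwd (nat_lit 12288) (Steps.fwd (nat_lit 8192) Steps.nil)))))) (nat_lit 31) (nat_lit 0),
  Rule.mk (nat_lit 7) (nat_lit 88) (Steps.bwd (nat_lit 9) (Steps.bwd (nat_lit 1) (Steps.fwd (nat_lit 12288) (Steps.fwd (nat_lit 4096) (Steps.fwd (nat_lit 36864) Steps.nil))))) (nat_lit 21) (nat_lit 2),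
  Rule.mk (nat_lit 0) (nat_lit 103) (Steps.fwd (nat_lit 40960) (Steps.fwd (nat_lit 16384) (Steps.fwd (nat_lit 4096) (Steps.fwd (nat_lit 28672) (Steps.bwd (nat_lit 2) (Steps.bwd (nat_lit 5) Steps.nil)))))) (nat_lit 23) (nat_lit 2),
  Rule.mk (nat_lit 1) (nat_lit 118) (Steps.bwd (nat_lit 10) (Steps.fwd (nat_lit 28672) (Steps.bwd (nat_lit 2) (Steps.bwd (nat_lit 2) (Steps.bwd (nat_lit 7) (Steps.bwd (nat_lit 2) (Steps.bwd (nat_lit 5) Steps.nil))))))) (nat_lit 42) (nat_lit 2),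
  Rule.mk (nat_lit 1) (nat_lit 103) (Steps.bwd (nat_lit 1) (Steps.bwd (nat_lit 1) (Steps.bwd (nat_lit 3) (Steps.fwd (nat_lit 4096) (Steps.fwd (nat_lit 28672) (Steps.bwd (nat_lit 3) Steps.nil)))))) (nat_lit 29) (nat_lit 4),
  Rule.mk (nat_lit 7) (nat_lit 118) (Steps.fwd (nat_lit 40960) (Steps.fwd (nat_lit 4096) (Steps.fwd (nat_lit 20480) (Steps.bwd (nat_lit 1) (Steps.bwd (nat_lit 8) (Steps.bwd (nat_lit 1) (Steps.bwd (nat_lit 1) Steps.nil))))))) (nat_lit 43) (nat_lit 5),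
  Rule.mk (nat_lit 1) (nat_lit 88) (Steps.fwd (nat_lit 16384) (Steps.fwd (nat_lit 4096) (Steps.bwd (nat_lit 10) (Steps.bwd (nat_lit 8) (Steps.bwd (nat_lit 9) Steps.nil))))) (nat_lit 20) (nat_lit 1),
  Rule.mk (nat_lit 3) (nat_lit 133) (Steps.bwd (nat_lit 8) (Steps.fwd (nat_lit 16384) (Steps.bwd (nat_lit 11) (Steps.bwd (nat_lit 14) (Steps.bwd (nat_lit 12) (Steps.fwd (nat_lit 24576) (Steps.fwd (nat_lit 36864) (Steps.bwd (nat_lit 8) Steps.nil)))))))) (nat_lit 45) (nat_lit 7),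
  Rule.mk (nat_lit 1) (nat_lit 148) (Steps.bwd (nat_lit 1) (Steps.bwd (nat_lit 4) (Steps.bwd (nat_lit 5) (Steps.fwd (nat_lit 16384) (Steps.fwd (nat_lit 4096) (Steps.fwd (nat_lit 32768) (Steps.bwd (nat_lit 9) (Steps.bwd (nat_lit 8) (Steps.fwd (nat_lit 8192) Steps.nil))))))))) (nat_lit 46) (nat_lit 3),
  Rule.mk (nat_lit 3) (nat_lit 118) (Steps.bwd (nat_lit 6) (Steps.fwd (nat_lit 49152) (Steps.fwd (nat_lit 24576) (Steps.bwd (nat_lit 3) (Steps.fwd (nat_lit 20480) (Steps.bwd (nat_lit 11) (Steps.fwd (nat_lit 24576) Steps.nil))))))) (nat_lit 34) (nat_lit 1),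
  Rule.mk (nat_lit 6) (nat_lit 148) (Steps.fwd (nat_lit 49152) (Steps.fwd (nat_lit 57344) (Steps.fwd (nat_lit 24576) (Steps.bwd (nat_lit 3) (Steps.fwd (nat_lit 8192) (Steps.fwd (nat_lit 8192) (Steps.bwd (nat_lit 4) (Steps.fwd (nat_lit 53248) (Steps.fwd (nat_lit 45056) Steps.nil))))))))) (nat_lit 53) (nat_lit 3),
  Rule.mk (nat_lit 3) (nat_lit 88) (Steps.fwd (nat_lit 4096) (Steps.bwd (nat_lit 8) (Steps.bwd (nat_lit 2) (Steps.bwd (nat_lit 5) (Steps.bwd (nat_lit 9) Steps.nil))))) (nat_lit 23) (nat_lit 4),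
  Rule.mk (nat_lit 8) (nat_lit 148) (Steps.bwd (nat_lit 9) (Steps.bwd (nat_lit 8) (Steps.bwd (nat_lit 9) (Steps.fwd (nat_lit 28672) (Steps.bwd (nat_lit 9) (Steps.bwd (nat_lit 8) (Steps.bwd (nat_lit 9) (Steps.bwd (nat_lit 8) (Steps.bwd (nat_lit 9) Steps.nil))))))))) (nat_lit 48) (nat_lit 1),
  Rule.mk (nat_lit 9) (nat_lit 73) (Steps.bwd (nat_lit 6) (Steps.fwd (nat_lit 45056) (Steps.bwd (nat_lit 6) (Steps.bwd (nat_lit 12) Steps.nil)))) (nat_lit 19) (nat_lit 1),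
  Rule.mk (nat_lit 3) (nat_lit 88) (Steps.bwd (nat_lit 2) (Steps.bwd (nat_lit 8) (Steps.fwd (nat_lit 4096) (Steps.bwd (nat_lit 5) (Steps.bwd (nat_lit 9) Steps.nil))))) (nat_lit 23) (nat_lit 4),
  Rule.mk (nat_lit 0) (nat_lit 133) (Steps.fwd (nat_lit 4096) (Steps.fwd (nat_lit 4096) (Steps.fwd (nat_lit 32768) (Steps.bwd (nat_lit 9) (Steps.fwd (nat_lit 53248) (Steps.fwd (nat_lit 45056) (Steps.fwd (nat_lit 24576) (Steps.fwd (nat_lit 16384) Steps.nil)))))))) (nat_lit 33) (nat_lit 6),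
  Rule.mk (nat_lit 0) (nat_lit 103) (Steps.bwd (nat_lit 2) (Steps.fwd (nat_lit 36864) (Steps.bwd (nat_lit 8) (Steps.bwd (nat_lit 9) (Steps.bwd (nat_lit 1) (Steps.bwd (nat_lit 3) Steps.nil)))))) (nat_lit 20) (nat_lit 2),
  Rule.mk (nat_lit 9) (nat_lit 118) (Steps.bwd (nat_lit 14) (Steps.bwd (nat_lit 12) (Steps.bwd (nat_lit 5) (Steps.bwd (nat_lit 3) (Steps.bwd (nat_lit 2) (Steps.fwd (nat_lit 4096) (Steps.bwd (nat_lit 7) Steps.nil))))))) (nat_lit 33) (nat_lit 2),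
  Rule.mk (nat_lit 8) (nat_lit 148) (Steps.bwd (nat_lit 1) (Steps.bwd (nat_lit 1) (Steps.bwd (nat_lit 1) (Steps.bwd (nat_lit 4) (Steps.fwd (nat_lit 24576) (Steps.bwd (nat_lit 3) (Steps.fwd (nat_lit 4096) (Steps.bwd (nat_lit 7) (Steps.bwd (nat_lit 9) Steps.nil))))))))) (nat_lit 46) (nat_lit 1),
  Rule.mk (nat_lit 10) (nat_lit 118) (Steps.bwd (nat_lit 8) (Steps.bwd (nat_lit 1) (Steps.bwd (nat_lit 1) (Steps.bwd (nat_lit 4) (Steps.bwd (nat_lit 6) (Steps.bwd (nat_lit 11) (Steps.bwd (nat_lit 13) Steps.nil))))))) (nat_lit 32) (nat_lit 7),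
  Rule.mk (nat_lit 11) (nat_lit 133) (Steps.fwd (nat_lit 53248) (Steps.fwd (nat_lit 45056) (Steps.bwd (nat_lit 5) (Steps.bwd (nat_lit 10) (Steps.bwd (nat_lit 8) (Steps.bwd (nat_lit 3) (Steps.bwd (nat_lit 8) (Steps.bwd (nat_lit 3) Steps.nil)))))))) (nat_lit 45) (nat_lit 1),
  Rule.mk (nat_lit 7) (nat_lit 148) (Steps.bwd (nat_lit 10) (Steps.bwd (nat_lit 8) (Steps.bwd (nat_lit 1) (Steps.fwd (nat_lit 12288) (Steps.fwd (nat_lit 20480) (Steps.fwd (nat_lit 16384) (Steps.fwd (nat_lit 4096) (Steps.fwd (nat_lit 4096) (Steps.fwd (nat_lit 4096) Steps.nil))))))))) (nat_lit 47) (nat_lit 0),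
  Rule.mk (nat_lit 9) (nat_lit 118) (Steps.fwd (nat_lit 4096) (Steps.fwd (nat_lit 20480) (Steps.bwd (nat_lit 1) (Steps.bwd (nat_lit 8) (Steps.bwd (nat_lit 1) (Steps.bwd (nat_lit 1) (Steps.bwd (nat_lit 7) Steps.nil))))))) (nat_lit 43) (nat_lit 6),
  Rule.mk (nat_lit 5) (nat_lit 88) (Steps.bwd (nat_lit 9) (Steps.fwd (nat_lit 16384) (Steps.fwd (nat_lit 4096) (Steps.fwd (nat_lit 28672) (Steps.bwd (nat_lit 2) Steps.nil))))) (nat_lit 23) (nat_lit 2),
  Rule.mk (nat_lit 0) (nat_lit 133) (Steps.fwd (nat_lit 32768) (Steps.bwd (nat_lit 2) (Steps.fwd (nat_lit 24576) (Steps.fwd (nat_lit 8192) (Steps.bwd (nat_lit 10) (Steps.bwd (nat_lit 8) (Steps.fwd (nat_lit 4096) (Steps.fwd (nat_lit 4096) Steps.nil)))))))) (nat_lit 42) (nat_lit 6),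
  Rule.mk (nat_lit 4) (nat_lit 103) (Steps.fwd (nat_lit 32768) (Steps.fwd (nat_lit 8192) (Steps.fwd (nat_lit 12288) (Steps.bwd (nat_lit 2) (Steps.fwd (nat_lit 4096) (Steps.fwd (nat_lit 4096) Steps.nil)))))) (nat_lit 28) (nat_lit 5),
  Rule.mk (nat_lit 3) (nat_lit 133) (Steps.bwd (nat_lit 11) (Steps.bwd (nat_lit 14) (Steps.bwd (nat_lit 12) (Steps.fwd (nat_lit 24576) (Steps.bwd (nat_lit 10) (Steps.bwd (nat_lit 8) (Steps.bwd (nat_lit 3) (Steps.fwd (nat_lit 28672) Steps.nil)))))))) (nat_lit 45) (nat_lit 0),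
  Rule.mk (nat_lit 10) (nat_lit 118) (Steps.bwd (nat_lit 8) (Steps.bwd (nat_lit 2) (Steps.fwd (nat_lit 4096) (Steps.bwd (nat_lit 7) (Steps.fwd (nat_lit 4096) (Steps.bwd (nat_lit 5) (Steps.fwd (nat_lit 8192) Steps.nil))))))) (nat_lit 42) (nat_lit 3),
  Rule.mk (nat_lit 10) (nat_lit 103) (Steps.bwd (nat_lit 4) (Steps.bwd (nat_lit 1) (Steps.fwd (nat_lit 45056) (Steps.fwd (nat_lit 53248) (Steps.fwd (nat_lit 20480) (Steps.bwd (nat_lit 8) Steps.nil)))))) (nat_lit 31) (nat_lit 4),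
  Rule.mk (nat_lit 8) (nat_lit 118) (Steps.bwd (nat_lit 1) (Steps.fwd (nat_lit 8192) (Steps.bwd (nat_lit 4) (Steps.bwd (nat_lit 6) (Steps.fwd (nat_lit 49152) (Steps.fwd (nat_lit 57344) (Steps.fwd (nat_lit 36864) Steps.nil))))))) (nat_lit 32) (nat_lit 0),
  Rule.mk (nat_lit 0) (nat_lit 133) (Steps.bwd (nat_lit 1) (Steps.bwd (nat_lit 1) (Steps.fwd (nat_lit 32768) (Steps.bwd (nat_lit 9) (Steps.bwd (nat_lit 2) (Steps.bwd (nat_lit 6) (Steps.bwd (nat_lit 1) (Steps.fwd (nat_lit 28672) Steps.nil)))))))) (nat_lit 43) (nat_lit 2),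
  Rule.mk (nat_lit 3) (nat_lit 118) (Steps.bwd (nat_lit 2) (Steps.fwd (nat_lit 4096) (Steps.fwd (nat_lit 32768) (Steps.fwd (nat_lit 40960) (Steps.fwd (nat_lit 53248) (Steps.bwd (nat_lit 12) (Steps.bwd (nat_lit 5) Steps.nil))))))) (nat_lit 33) (nat_lit 6),
  Rule.mk (nat_lit 5) (nat_lit 118) (Steps.fwd (nat_lit 8192) (Steps.fwd (nat_lit 36864) (Steps.bwd (nat_lit 8) (Steps.bwd (nat_lit 2) (Steps.fwd (nat_lit 4096) (Steps.fwd (nat_lit 32768) (Steps.bwd (nat_lit 2) Steps.nil))))))) (nat_lit 42) (nat_lit 1),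
  Rule.mk (nat_lit 11) (nat_lit 118) (Steps.bwd (nat_lit 13) (Steps.bwd (nat_lit 10) (Steps.fwd (nat_lit 28672) (Steps.fwd (nat_lit 8192) (Steps.bwd (nat_lit 1) (Steps.fwd (nat_lit 12288) (Steps.fwd (nat_lit 20480) Steps.nil))))))) (nat_lit 32) (nat_lit 5),
  Rule.mk (nat_lit 13) (nat_lit 103) (Steps.bwd (nat_lit 11) (Steps.bwd (nat_lit 2) (Steps.fwd (nat_lit 16384) (Steps.fwd (nat_lit 40960) (Steps.bwd (nat_lit 7) (Steps.bwd (nat_lit 5) Steps.nil)))))) (nat_lit 30) (nat_lit 0),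
  Rule.mk (nat_lit 14) (nat_lit 88) (Steps.bwd (nat_lit 12) (Steps.bwd (nat_lit 13) (Steps.fwd (nat_lit 45056) (Steps.fwd (nat_lit 40960) (Steps.bwd (nat_lit 11) Steps.nil))))) (nat_lit 26) (nat_lit 5),
  Rule.mk (nat_lit 5) (nat_lit 118) (Steps.bwd (nat_lit 4) (Steps.fwd (nat_lit 20480) (Steps.bwd (nat_lit 12) (Steps.bwd (nat_lit 5) (Steps.fwd (nat_lit 12288) (Steps.fwd (nat_lit 20480) (Steps.fwd (nat_lit 45056) Steps.nil))))))) (nat_lit 35) (nat_lit 3)]
noncomputable def R_55 : List (Rule) := [Rule.mk (nat_lit 9) (nat_lit 103) (Steps.fwd (nat_lit 32768) (Steps.bwd (nat_lit 5) (Steps.fwd (nat_lit 57344) (Steps.bwd (nat_lit 11) (Steps.fwd (nat_lit 4096) (Steps.bwd (nat_lit 3) Steps.nil)))))) (nat_lit 30) (nat_lit 4),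
  Rule.mk (nat_lit 0) (nat_lit 88) (Steps.fwd (nat_lit 12288) (Steps.fwd (nat_lit 28672) (Steps.bwd (nat_lit 11) (Steps.bwd (nat_lit 6) (Steps.fwd (nat_lit 53248) Steps.nil))))) (nat_lit 16) (nat_lit 0),
  Rule.mk (nat_lit 1) (nat_lit 148) (Steps.bwd (nat_lit 4) (Steps.fwd (nat_lit 20480) (Steps.bwd (nat_lit 3) (Steps.fwd (nat_lit 4096) (Steps.bwd (nat_lit 2) (Steps.fwd (nat_lit 4096) (Steps.fwd (nat_lit 32768) (Steps.fwd (nat_lit 36864) (Steps.fwd (nat_lit 28672) Steps.nil))))))))) (nat_lit 47) (nat_lit 3),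
  Rule.mk (nat_lit 7) (nat_lit 88) (Steps.bwd (nat_lit 9) (Steps.bwd (nat_lit 1) (Steps.bwd (nat_lit 4) (Steps.bwd (nat_lit 2) (Steps.fwd (nat_lit 36864) Steps.nil))))) (nat_lit 21) (nat_lit 2),
  Rule.mk (nat_lit 7) (nat_lit 88) (Steps.fwd (nat_lit 40960) (Steps.bwd (nat_lit 1) (Steps.fwd (nat_lit 12288) (Steps.bwd (nat_lit 2) (Steps.fwd (nat_lit 36864) Steps.nil))))) (nat_lit 21) (nat_lit 2),
  Rule.mk (nat_lit 8) (nat_lit 103) (Steps.bwd (nat_lit 3) (Steps.fwd (nat_lit 8192) (Steps.fwd (nat_lit 8192) (Steps.bwd (nat_lit 1) (Steps.fwd (nat_lit 16384) (Steps.fwd (nat_lit 4096) Steps.nil)))))) (nat_lit 29) (nat_lit 2),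
  Rule.mk (nat_lit 0) (nat_lit 88) (Steps.bwd (nat_lit 12) (Steps.bwd (nat_lit 7) (Steps.bwd (nat_lit 3) (Steps.bwd (nat_lit 13) (Steps.bwd (nat_lit 5) Steps.nil))))) (nat_lit 17) (nat_lit 2),
  Rule.mk (nat_lit 9) (nat_lit 118) (Steps.fwd (nat_lit 49152) (Steps.fwd (nat_lit 57344) (Steps.bwd (nat_lit 7) (Steps.fwd (nat_lit 40960) (Steps.bwd (nat_lit 11) (Steps.bwd (nat_lit 13) (Steps.fwd (nat_lit 32768) Steps.nil))))))) (nat_lit 41) (nat_lit 1),
  Rule.mk (nat_lit 12) (nat_lit 133) (Steps.bwd (nat_lit 4) (Steps.fwd (nat_lit 32768) (Steps.fwd (nat_lit 12288) (Steps.bwd (nat_lit 7) (Steps.bwd (nat_lit 9) (Steps.bwd (nat_lit 6) (Steps.bwd (nat_lit 11) (Steps.bwd (nat_lit 13) Steps.nil)))))))) (nat_lit 44) (nat_lit 0),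
  Rule.mk (nat_lit 6) (nat_lit 148) (Steps.bwd (nat_lit 3) (Steps.fwd (nat_lit 4096) (Steps.fwd (nat_lit 4096) (Steps.fwd (nat_lit 4096) (Steps.fwd (nat_lit 32768) (Steps.bwd (nat_lit 10) (Steps.bwd (nat_lit 8) (Steps.fwd (nat_lit 8192) (Steps.bwd (nat_lit 4) Steps.nil))))))))) (nat_lit 47) (nat_lit 5),
  Rule.mk (nat_lit 1) (nat_lit 88) (Steps.fwd (nat_lit 12288) (Steps.bwd (nat_lit 10) (Steps.bwd (nat_lit 6) (Steps.bwd (nat_lit 1) (Steps.fwd (nat_lit 32768) Steps.nil))))) (nat_lit 22) (nat_lit 2),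
  Rule.mk (nat_lit 7) (nat_lit 73) (Steps.fwd (nat_lit 16384) (Steps.bwd (nat_lit 13) (Steps.bwd (nat_lit 5) (Steps.fwd (nat_lit 45056) Steps.nil)))) (nat_lit 17) (nat_lit 4),
  Rule.mk (nat_lit 9) (nat_lit 88) (Steps.bwd (nat_lit 1) (Steps.fwd (nat_lit 12288) (Steps.bwd (nat_lit 2) (Steps.fwd (nat_lit 36864) (Steps.fwd (nat_lit 32768) Steps.nil))))) (nat_lit 21) (nat_lit 3),
  Rule.mk (nat_lit 14) (nat_lit 118) (Steps.bwd (nat_lit 12) (Steps.bwd (nat_lit 5) (Steps.bwd (nat_lit 3) (Steps.fwd (nat_lit 4096) (Steps.fwd (nat_lit 4096) (Steps.fwd (nat_lit 32768) (Steps.bwd (nat_lit 9) Steps.nil))))))) (nat_lit 33) (nat_lit 3),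
  Rule.mk (nat_lit 1) (nat_lit 148) (Steps.bwd (nat_lit 4) (Steps.bwd (nat_lit 6) (Steps.bwd (nat_lit 3) (Steps.bwd (nat_lit 2) (Steps.fwd (nat_lit 4096) (Steps.bwd (nat_lit 2) (Steps.bwd (nat_lit 7) (Steps.fwd (nat_lit 36864) (Steps.fwd (nat_lit 28672) Steps.nil))))))))) (nat_lit 47) (nat_lit 3),
  Rule.mk (nat_lit 10) (nat_lit 103) (Steps.fwd (nat_lit 12288) (Steps.bwd (nat_lit 1) (Steps.fwd (nat_lit 45056) (Steps.bwd (nat_lit 14) (Steps.fwd (nat_lit 20480) (Steps.fwd (nat_lit 28672) Steps.nil)))))) (nat_lit 31) (nat_lit 4),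
  Rule.mk (nat_lit 1) (nat_lit 118) (Steps.bwd (nat_lit 4) (Steps.fwd (nat_lit 20480) (Steps.bwd (nat_lit 11) (Steps.bwd (nat_lit 13) (Steps.fwd (nat_lit 36864) (Steps.fwd (nat_lit 28672) (Steps.bwd (nat_lit 1) Steps.nil))))))) (nat_lit 32) (nat_lit 2),
  Rule.mk (nat_lit 9) (nat_lit 88) (Steps.bwd (nat_lit 11) (Steps.bwd (nat_lit 14) (Steps.bwd (nat_lit 12) (Steps.fwd (nat_lit 57344) (Steps.bwd (nat_lit 12) Steps.nil))))) (nat_lit 26) (nat_lit 3),
  Rule.mk (nat_lit 12) (nat_lit 118) (Steps.bwd (nat_lit 5) (Steps.bwd (nat_lit 3) (Steps.fwd (nat_lit 4096) (Steps.fwd (nat_lit 4096) (Steps.bwd (nat_lit 7) (Steps.bwd (nat_lit 9) (Steps.fwd (nat_lit 53248) Steps.nil))))))) (nat_lit 33) (nat_lit 4),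
  Rule.mk (nat_lit 11) (nat_lit 118) (Steps.bwd (nat_lit 13) (Steps.bwd (nat_lit 9) (Steps.fwd (nat_lit 53248) (Steps.bwd (nat_lit 11) (Steps.fwd (nat_lit 57344) (Steps.bwd (nat_lit 9) (Steps.fwd (nat_lit 53248) Steps.nil))))))) (nat_lit 36) (nat_lit 3),
  Rule.mk (nat_lit 6) (nat_lit 148) (Steps.fwd (nat_lit 49152) (Steps.fwd (nat_lit 57344) (Steps.bwd (nat_lit 5) (Steps.fwd (nat_lit 16384) (Steps.bwd (nat_lit 1) (Steps.fwd (nat_lit 8192) (Steps.fwd (nat_lit 12288) (Steps.bwd (nat_lit 14) (Steps.fwd (nat_lit 45056) Steps.nil))))))))) (nat_lit 53) (nat_lit 3),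
  Rule.mk (nat_lit 5) (nat_lit 88) (Steps.bwd (nat_lit 9) (Steps.bwd (nat_lit 6) (Steps.bwd (nat_lit 14) (Steps.bwd (nat_lit 12) (Steps.fwd (nat_lit 57344) Steps.nil))))) (nat_lit 24) (nat_lit 0),
  Rule.mk (nat_lit 12) (nat_lit 103) (Steps.fwd (nat_lit 53248) (Steps.bwd (nat_lit 6) (Steps.fwd (nat_lit 28672) (Steps.bwd (nat_lit 10) (Steps.fwd (nat_lit 12288) (Steps.fwd (nat_lit 8192) Steps.nil)))))) (nat_lit 31) (nat_lit 0),
  Rule.mk (nat_lit 4) (nat_lit 133) (Steps.bwd (nat_lit 7) (Steps.bwd (nat_lit 9) (Steps.bwd (nat_lit 6) (Steps.fwd (nat_lit 49152) (Steps.fwd (nat_lit 57344) (Steps.bwd (nat_lit 12) (Steps.fwd (nat_lit 12288) (Steps.fwd (nat_lit 32768) Steps.nil)))))))) (nat_lit 44) (nat_lit 3),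
  Rule.mk (nat_lit 2) (nat_lit 73) (Steps.fwd (nat_lit 4096) (Steps.fwd (nat_lit 20480) (Steps.bwd (nat_lit 4) (Steps.bwd (nat_lit 7) Steps.nil)))) (nat_lit 14) (nat_lit 3),
  Rule.mk (nat_lit 9) (nat_lit 118) (Steps.bwd (nat_lit 2) (Steps.bwd (nat_lit 6) (Steps.bwd (nat_lit 1) (Steps.fwd (nat_lit 28672) (Steps.bwd (nat_lit 1) (Steps.fwd (nat_lit 8192) (Steps.fwd (nat_lit 32768) Steps.nil))))))) (nat_lit 43) (nat_lit 6),
  Rule.mk (nat_lit 10) (nat_lit 88) (Steps.bwd (nat_lit 8) (Steps.bwd (nat_lit 9) (Steps.fwd (nat_lit 8192) (Steps.bwd (nat_lit 3) (Steps.fwd (nat_lit 4096) Steps.nil))))) (nat_lit 20) (nat_lit 4),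
  Rule.mk (nat_lit 10) (nat_lit 118) (Steps.bwd (nat_lit 14) (Steps.bwd (nat_lit 12) (Steps.bwd (nat_lit 13) (Steps.bwd (nat_lit 10) (Steps.fwd (nat_lit 53248) (Steps.fwd (nat_lit 45056) (Steps.bwd (nat_lit 13) Steps.nil))))))) (nat_lit 37) (nat_lit 0),
  Rule.mk (nat_lit 14) (nat_lit 88) (Steps.fwd (nat_lit 49152) (Steps.fwd (nat_lit 57344) (Steps.bwd (nat_lit 5) (Steps.bwd (nat_lit 10) (Steps.fwd (nat_lit 20480) Steps.nil))))) (nat_lit 25) (nat_lit 2),
  Rule.mk (nat_lit 6) (nat_lit 118) (Steps.bwd (nat_lit 12) (Steps.fwd (nat_lit 24576) (Steps.bwd (nat_lit 4) (Steps.fwd (nat_lit 20480) (Steps.bwd (nat_lit 12) (Steps.bwd (nat_lit 5) (Steps.fwd (nat_lit 12288) Steps.nil))))))) (nat_lit 35) (nat_lit 1),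
  Rule.mk (nat_lit 8) (nat_lit 103) (Steps.fwd (nat_lit 36864) (Steps.bwd (nat_lit 4) (Steps.bwd (nat_lit 1) (Steps.bwd (nat_lit 12) (Steps.bwd (nat_lit 14) (Steps.bwd (nat_lit 6) Steps.nil)))))) (nat_lit 31) (nat_lit 3),
  Rule.mk (nat_lit 3) (nat_lit 133) (Steps.fwd (nat_lit 28672) (Steps.bwd (nat_lit 3) (Steps.fwd (nat_lit 49152) (Steps.fwd (nat_lit 53248) (Steps.fwd (nat_lit 45056) (Steps.bwd (nat_lit 5) (Steps.bwd (nat_lit 10) (Steps.bwd (nat_lit 8) Steps.nil)))))))) (nat_lit 45) (nat_lit 7),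
  Rule.mk (nat_lit 11) (nat_lit 88) (Steps.fwd (nat_lit 53248) (Steps.bwd (nat_lit 12) (Steps.bwd (nat_lit 13) (Steps.fwd (nat_lit 45056) (Steps.fwd (nat_lit 40960) Steps.nil))))) (nat_lit 26) (nat_lit 4),
  Rule.mk (nat_lit 3) (nat_lit 103) (Steps.bwd (nat_lit 9) (Steps.fwd (nat_lit 32768) (Steps.fwd (nat_lit 24576) (Steps.bwd (nat_lit 13) (Steps.bwd (nat_lit 11) (Steps.fwd (nat_lit 4096) Steps.nil)))))) (nat_lit 30) (nat_lit 3),
  Rule.mk (nat_lit 14) (nat_lit 118) (Steps.bwd (nat_lit 12) (Steps.bwd (nat_lit 5) (Steps.bwd (nat_lit 3) (Steps.bwd (nat_lit 2) (Steps.bwd (nat_lit 2) (Steps.bwd (nat_lit 7) (Steps.fwd (nat_lit 40960) Steps.nil))))))) (nat_lit 33) (nat_lit 3),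
  Rule.mk (nat_lit 10) (nat_lit 118) (Steps.bwd (nat_lit 14) (Steps.bwd (nat_lit 12) (Steps.bwd (nat_lit 13) (Steps.bwd (nat_lit 10) (Steps.fwd (nat_lit 53248) (Steps.bwd (nat_lit 12) (Steps.fwd (nat_lit 57344) Steps.nil))))))) (nat_lit 37) (nat_lit 0),
  Rule.mk (nat_lit 14) (nat_lit 118) (Steps.fwd (nat_lit 36864) (Steps.fwd (nat_lit 28672) (Steps.fwd (nat_lit 40960) (Steps.bwd (nat_lit 14) (Steps.fwd (nat_lit 36864) (Steps.fwd (nat_lit 28672) (Steps.bwd (nat_lit 9) Steps.nil))))))) (nat_lit 39) (nat_lit 0),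
  Rule.mk (nat_lit 8) (nat_lit 133) (Steps.bwd (nat_lit 3) (Steps.bwd (nat_lit 8) (Steps.bwd (nat_lit 3) (Steps.fwd (nat_lit 49152) (Steps.fwd (nat_lit 53248) (Steps.bwd (nat_lit 12) (Steps.fwd (nat_lit 24576) (Steps.bwd (nat_lit 10) Steps.nil)))))))) (nat_lit 45) (nat_lit 6),
  Rule.mk (nat_lit 7) (nat_lit 148) (Steps.fwd (nat_lit 36864) (Steps.bwd (nat_lit 7) (Steps.fwd (nat_lit 36864) (Steps.bwd (nat_lit 7) (Steps.fwd (nat_lit 36864) (Steps.fwd (nat_lit 32768) (Steps.bwd (nat_lit 10) (Steps.bwd (nat_lit 7) (Steps.fwd (nat_lit 36864) Steps.nil))))))))) (nat_lit 49) (nat_lit 0),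
  Rule.mk (nat_lit 11) (nat_lit 103) (Steps.fwd (nat_lit 4096) (Steps.fwd (nat_lit 16384) (Steps.fwd (nat_lit 40960) (Steps.bwd (nat_lit 7) (Steps.fwd (nat_lit 24576) (Steps.bwd (nat_lit 13) Steps.nil)))))) (nat_lit 30) (nat_lit 1),
  Rule.mk (nat_lit 8) (nat_lit 118) (Steps.bwd (nat_lit 2) (Steps.fwd (nat_lit 4096) (Steps.bwd (nat_lit 7) (Steps.fwd (nat_lit 4096) (Steps.bwd (nat_lit 5) (Steps.bwd (nat_lit 1) (Steps.bwd (nat_lit 10) Steps.nil))))))) (nat_lit 42) (nat_lit 4),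
  Rule.mk (nat_lit 13) (nat_lit 88) (Steps.bwd (nat_lit 5) (Steps.fwd (nat_lit 36864) (Steps.bwd (nat_lit 6) (Steps.fwd (nat_lit 53248) (Steps.bwd (nat_lit 11) Steps.nil))))) (nat_lit 25) (nat_lit 4),
  Rule.mk (nat_lit 8) (nat_lit 148) (Steps.fwd (nat_lit 40960) (Steps.bwd (nat_lit 8) (Steps.bwd (nat_lit 9) (Steps.fwd (nat_lit 28672) (Steps.bwd (nat_lit 9) (Steps.bwd (nat_lit 8) (Steps.bwd (nat_lit 9) (Steps.bwd (nat_lit 8) (Steps.bwd (nat_lit 9) Steps.nil))))))))) (nat_lit 48) (nat_lit 1),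
  Rule.mk (nat_lit 10) (nat_lit 118) (Steps.fwd (nat_lit 28672) (Steps.bwd (nat_lit 9) (Steps.bwd (nat_lit 14) (Steps.fwd (nat_lit 36864) (Steps.bwd (nat_lit 8) (Steps.fwd (nat_lit 40960) (Steps.bwd (nat_lit 14) Steps.nil))))))) (nat_lit 39) (nat_lit 1),
  Rule.mk (nat_lit 2) (nat_lit 118) (Steps.bwd (nat_lit 5) (Steps.bwd (nat_lit 1) (Steps.fwd (nat_lit 36864) (Steps.bwd (nat_lit 8) (Steps.fwd (nat_lit 4096) (Steps.bwd (nat_lit 2) (Steps.fwd (nat_lit 32768) Steps.nil))))))) (nat_lit 42) (nat_lit 0),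
  Rule.mk (nat_lit 10) (nat_lit 88) (Steps.bwd (nat_lit 7) (Steps.fwd (nat_lit 40960) (Steps.bwd (nat_lit 1) (Steps.fwd (nat_lit 12288) (Steps.bwd (nat_lit 2) Steps.nil))))) (nat_lit 21) (nat_lit 1),
  Rule.mk (nat_lit 14) (nat_lit 118) (Steps.fwd (nat_lit 36864) (Steps.bwd (nat_lit 8) (Steps.fwd (nat_lit 40960) (Steps.bwd (nat_lit 14) (Steps.bwd (nat_lit 10) (Steps.bwd (nat_lit 8) (Steps.bwd (nat_lit 9) Steps.nil))))))) (nat_lit 39) (nat_lit 0),
  Rule.mk (nat_lit 13) (nat_lit 88) (Steps.fwd (nat_lit 24576) (Steps.bwd (nat_lit 9) (Steps.bwd (nat_lit 6) (Steps.bwd (nat_lit 14) (Steps.fwd (nat_lit 45056) Steps.nil))))) (nat_lit 24) (nat_lit 5),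
  Rule.mk (nat_lit 0) (nat_lit 118) (Steps.bwd (nat_lit 1) (Steps.fwd (nat_lit 45056) (Steps.fwd (nat_lit 53248) (Steps.fwd (nat_lit 20480) (Steps.bwd (nat_lit 8) (Steps.fwd (nat_lit 36864) (Steps.fwd (nat_lit 12288) Steps.nil))))))) (nat_lit 31) (nat_lit 5),
  Rule.mk (nat_lit 7) (nat_lit 118) (Steps.fwd (nat_lit 4096) (Steps.fwd (nat_lit 24576) (Steps.fwd (nat_lit 8192) (Steps.fwd (nat_lit 36864) (Steps.fwd (nat_lit 28672) (Steps.bwd (nat_lit 2) (Steps.fwd (nat_lit 4096) Steps.nil))))))) (nat_lit 42) (nat_lit 7),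
  Rule.mk (nat_lit 10) (nat_lit 88) (Steps.fwd (nat_lit 20480) (Steps.fwd (nat_lit 8192) (Steps.bwd (nat_lit 7) (Steps.fwd (nat_lit 8192) (Steps.fwd (nat_lit 12288) Steps.nil))))) (nat_lit 22) (nat_lit 4),
  Rule.mk (nat_lit 2) (nat_lit 103) (Steps.bwd (nat_lit 2) (Steps.fwd (nat_lit 4096) (Steps.fwd (nat_lit 12288) (Steps.bwd (nat_lit 7) (Steps.fwd (nat_lit 8192) (Steps.fwd (nat_lit 12288) Steps.nil)))))) (nat_lit 28) (nat_lit 2),
  Rule.mk (nat_lit 9) (nat_lit 118) (Steps.bwd (nat_lit 11) (Steps.fwd (nat_lit 57344) (Steps.bwd (nat_lit 7) (Steps.bwd (nat_lit 9) (Steps.fwd (nat_lit 49152) (Steps.bwd (nat_lit 13) (Steps.fwd (nat_lit 32768) Steps.nil))))))) (nat_lit 41) (nat_lit 1),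
  Rule.mk (nat_lit 4) (nat_lit 148) (Steps.bwd (nat_lit 5) (Steps.bwd (nat_lit 3) (Steps.fwd (nat_lit 4096) (Steps.bwd (nat_lit 7) (Steps.fwd (nat_lit 40960) (Steps.bwd (nat_lit 8) (Steps.fwd (nat_lit 8192) (Steps.bwd (nat_lit 1) (Steps.fwd (nat_lit 8192) Steps.nil))))))))) (nat_lit 46) (nat_lit 5),
  Rule.mk (nat_lit 10) (nat_lit 88) (Steps.bwd (nat_lit 8) (Steps.fwd (nat_lit 40960) (Steps.bwd (nat_lit 1) (Steps.fwd (nat_lit 16384) (Steps.fwd (nat_lit 4096) Steps.nil))))) (nat_lit 20) (nat_lit 4),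
  Rule.mk (nat_lit 13) (nat_lit 118) (Steps.fwd (nat_lit 32768) (Steps.bwd (nat_lit 9) (Steps.fwd (nat_lit 49152) (Steps.bwd (nat_lit 13) (Steps.bwd (nat_lit 7) (Steps.fwd (nat_lit 40960) (Steps.bwd (nat_lit 11) Steps.nil))))))) (nat_lit 41) (nat_lit 3),
  Rule.mk (nat_lit 13) (nat_lit 118) (Steps.bwd (nat_lit 10) (Steps.fwd (nat_lit 53248) (Steps.bwd (nat_lit 12) (Steps.bwd (nat_lit 13) (Steps.fwd (nat_lit 36864) (Steps.bwd (nat_lit 14) (Steps.fwd (nat_lit 45056) Steps.nil))))))) (nat_lit 37) (nat_lit 3),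
  Rule.mk (nat_lit 11) (nat_lit 103) (Steps.bwd (nat_lit 2) (Steps.fwd (nat_lit 16384) (Steps.bwd (nat_lit 9) (Steps.fwd (nat_lit 32768) (Steps.fwd (nat_lit 24576) (Steps.bwd (nat_lit 13) Steps.nil)))))) (nat_lit 30) (nat_lit 1),
  Rule.mk (nat_lit 13) (nat_lit 88) (Steps.fwd (nat_lit 24576) (Steps.fwd (nat_lit 36864) (Steps.bwd (nat_lit 6) (Steps.bwd (nat_lit 14) (Steps.bwd (nat_lit 11) Steps.nil))))) (nat_lit 25) (nat_lit 4),
  Rule.mk (nat_lit 5) (nat_lit 148) (Steps.bwd (nat_lit 11) (Steps.bwd (nat_lit 13) (Steps.fwd (nat_lit 16384) (Steps.fwd (nat_lit 4096) (Steps.fwd (nat_lit 4096) (Steps.fwd (nat_lit 12288) (Steps.fwd (nat_lit 20480) (Steps.bwd (nat_lit 14) (Steps.fwd (nat_lit 45056) Steps.nil))))))))) (nat_lit 52) (nat_lit 8),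
  Rule.mk (nat_lit 7) (nat_lit 118) (Steps.fwd (nat_lit 40960) (Steps.bwd (nat_lit 13) (Steps.bwd (nat_lit 10) (Steps.bwd (nat_lit 7) (Steps.bwd (nat_lit 9) (Steps.bwd (nat_lit 13) (Steps.bwd (nat_lit 10) Steps.nil))))))) (nat_lit 38) (nat_lit 3),
  Rule.mk (nat_lit 3) (nat_lit 118) (Steps.fwd (nat_lit 4096) (Steps.fwd (nat_lit 4096) (Steps.bwd (nat_lit 7) (Steps.fwd (nat_lit 40960) (Steps.bwd (nat_lit 14) (Steps.fwd (nat_lit 45056) (Steps.bwd (nat_lit 5) Steps.nil))))))) (nat_lit 33) (nat_lit 6),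
  Rule.mk (nat_lit 2) (nat_lit 118) (Steps.fwd (nat_lit 24576) (Steps.bwd (nat_lit 1) (Steps.bwd (nat_lit 10) (Steps.bwd (nat_lit 8) (Steps.bwd (nat_lit 2) (Steps.fwd (nat_lit 4096) (Steps.fwd (nat_lit 32768) Steps.nil))))))) (nat_lit 42) (nat_lit 0),
  Rule.mk (nat_lit 11) (nat_lit 103) (Steps.bwd (nat_lit 2) (Steps.bwd (nat_lit 3) (Steps.bwd (nat_lit 9) (Steps.fwd (nat_lit 32768) (Steps.fwd (nat_lit 24576) (Steps.fwd (nat_lit 57344) Steps.nil)))))) (nat_lit 30) (nat_lit 1)]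
noncomputable def R_56 : List (Rule) := [Rule.mk (nat_lit 10) (nat_lit 118) (Steps.bwd (nat_lit 7) (Steps.fwd (nat_lit 40960) (Steps.bwd (nat_lit 13) (Steps.bwd (nat_lit 10) (Steps.bwd (nat_lit 7) (Steps.fwd (nat_lit 40960) (Steps.bwd (nat_lit 13) Steps.nil))))))) (nat_lit 38) (nat_lit 2),
  Rule.mk (nat_lit 13) (nat_lit 88) (Steps.bwd (nat_lit 5) (Steps.bwd (nat_lit 10) (Steps.bwd (nat_lit 6) (Steps.bwd (nat_lit 14) (Steps.fwd (nat_lit 49152) Steps.nil))))) (nat_lit 25) (nat_lit 4),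
  Rule.mk (nat_lit 8) (nat_lit 118) (Steps.fwd (nat_lit 8192) (Steps.bwd (nat_lit 1) (Steps.bwd (nat_lit 4) (Steps.fwd (nat_lit 20480) (Steps.bwd (nat_lit 11) (Steps.bwd (nat_lit 13) (Steps.bwd (nat_lit 10) Steps.nil))))))) (nat_lit 32) (nat_lit 0),
  Rule.mk (nat_lit 9) (nat_lit 118) (Steps.fwd (nat_lit 53248) (Steps.fwd (nat_lit 49152) (Steps.fwd (nat_lit 57344) (Steps.fwd (nat_lit 40960) (Steps.bwd (nat_lit 14) (Steps.fwd (nat_lit 49152) (Steps.bwd (nat_lit 13) Steps.nil))))))) (nat_lit 36) (nat_lit 1),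
  Rule.mk (nat_lit 10) (nat_lit 118) (Steps.bwd (nat_lit 14) (Steps.fwd (nat_lit 45056) (Steps.fwd (nat_lit 57344) (Steps.fwd (nat_lit 36864) (Steps.fwd (nat_lit 53248) (Steps.fwd (nat_lit 45056) (Steps.bwd (nat_lit 13) Steps.nil))))))) (nat_lit 37) (nat_lit 0),
  Rule.mk (nat_lit 11) (nat_lit 73) (Steps.fwd (nat_lit 24576) (Steps.fwd (nat_lit 49152) (Steps.fwd (nat_lit 24576) (Steps.bwd (nat_lit 10) Steps.nil)))) (nat_lit 18) (nat_lit 1),
  Rule.mk (nat_lit 13) (nat_lit 118) (Steps.bwd (nat_lit 10) (Steps.bwd (nat_lit 8) (Steps.bwd (nat_lit 1) (Steps.bwd (nat_lit 1) (Steps.bwd (nat_lit 4) (Steps.bwd (nat_lit 6) (Steps.bwd (nat_lit 11) Steps.nil))))))) (nat_lit 32) (nat_lit 6),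
  Rule.mk (nat_lit 14) (nat_lit 118) (Steps.bwd (nat_lit 11) (Steps.bwd (nat_lit 13) (Steps.fwd (nat_lit 40960) (Steps.fwd (nat_lit 53248) (Steps.bwd (nat_lit 11) (Steps.bwd (nat_lit 13) (Steps.bwd (nat_lit 9) Steps.nil))))))) (nat_lit 36) (nat_lit 2),
  Rule.mk (nat_lit 6) (nat_lit 88) (Steps.bwd (nat_lit 14) (Steps.fwd (nat_lit 45056) (Steps.fwd (nat_lit 57344) (Steps.bwd (nat_lit 5) (Steps.bwd (nat_lit 9) Steps.nil))))) (nat_lit 24) (nat_lit 2),
  Rule.mk (nat_lit 8) (nat_lit 103) (Steps.bwd (nat_lit 10) (Steps.bwd (nat_lit 4) (Steps.fwd (nat_lit 8192) (Steps.fwd (nat_lit 45056) (Steps.fwd (nat_lit 53248) (Steps.fwd (nat_lit 20480) Steps.nil)))))) (nat_lit 31) (nat_lit 3),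
  Rule.mk (nat_lit 14) (nat_lit 118) (Steps.bwd (nat_lit 10) (Steps.fwd (nat_lit 28672) (Steps.fwd (nat_lit 40960) (Steps.fwd (nat_lit 53248) (Steps.fwd (nat_lit 36864) (Steps.fwd (nat_lit 28672) (Steps.fwd (nat_lit 40960) Steps.nil))))))) (nat_lit 39) (nat_lit 0),
  Rule.mk (nat_lit 10) (nat_lit 88) (Steps.fwd (nat_lit 49152) (Steps.bwd (nat_lit 14) (Steps.bwd (nat_lit 11) (Steps.bwd (nat_lit 13) (Steps.fwd (nat_lit 45056) Steps.nil))))) (nat_lit 27) (nat_lit 4),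
  Rule.mk (nat_lit 7) (nat_lit 88) (Steps.bwd (nat_lit 9) (Steps.bwd (nat_lit 1) (Steps.bwd (nat_lit 4) (Steps.bwd (nat_lit 2) (Steps.bwd (nat_lit 10) Steps.nil))))) (nat_lit 21) (nat_lit 2),
  Rule.mk (nat_lit 8) (nat_lit 118) (Steps.bwd (nat_lit 2) (Steps.fwd (nat_lit 4096) (Steps.fwd (nat_lit 32768) (Steps.fwd (nat_lit 4096) (Steps.bwd (nat_lit 5) (Steps.bwd (nat_lit 1) (Steps.bwd (nat_lit 10) Steps.nil))))))) (nat_lit 42) (nat_lit 4),
  Rule.mk (nat_lit 8) (nat_lit 118) (Steps.bwd (nat_lit 9) (Steps.fwd (nat_lit 53248) (Steps.bwd (nat_lit 10) (Steps.bwd (nat_lit 8) (Steps.fwd (nat_lit 40960) (Steps.bwd (nat_lit 14) (Steps.bwd (nat_lit 10) Steps.nil))))))) (nat_lit 39) (nat_lit 2),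
  Rule.mk (nat_lit 7) (nat_lit 118) (Steps.fwd (nat_lit 40960) (Steps.fwd (nat_lit 4096) (Steps.bwd (nat_lit 6) (Steps.fwd (nat_lit 8192) (Steps.bwd (nat_lit 8) (Steps.bwd (nat_lit 1) (Steps.bwd (nat_lit 1) Steps.nil))))))) (nat_lit 43) (nat_lit 5),
  Rule.mk (nat_lit 4) (nat_lit 88) (Steps.bwd (nat_lit 10) (Steps.bwd (nat_lit 6) (Steps.fwd (nat_lit 8192) (Steps.bwd (nat_lit 7) (Steps.fwd (nat_lit 8192) Steps.nil))))) (nat_lit 22) (nat_lit 3),
  Rule.mk (nat_lit 8) (nat_lit 88) (Steps.bwd (nat_lit 2) (Steps.fwd (nat_lit 24576) (Steps.bwd (nat_lit 9) (Steps.fwd (nat_lit 16384) (Steps.bwd (nat_lit 2) Steps.nil))))) (nat_lit 23) (nat_lit 0),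
  Rule.mk (nat_lit 14) (nat_lit 118) (Steps.fwd (nat_lit 45056) (Steps.fwd (nat_lit 36864) (Steps.fwd (nat_lit 28672) (Steps.fwd (nat_lit 53248) (Steps.fwd (nat_lit 45056) (Steps.fwd (nat_lit 36864) (Steps.bwd (nat_lit 8) Steps.nil))))))) (nat_lit 40) (nat_lit 2),
  Rule.mk (nat_lit 14) (nat_lit 148) (Steps.bwd (nat_lit 12) (Steps.fwd (nat_lit 24576) (Steps.bwd (nat_lit 11) (Steps.bwd (nat_lit 13) (Steps.bwd (nat_lit 3) (Steps.fwd (nat_lit 4096) (Steps.fwd (nat_lit 4096) (Steps.bwd (nat_lit 4) (Steps.bwd (nat_lit 6) Steps.nil))))))))) (nat_lit 52) (nat_lit 6),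
  Rule.mk (nat_lit 7) (nat_lit 118) (Steps.fwd (nat_lit 4096) (Steps.bwd (nat_lit 5) (Steps.bwd (nat_lit 1) (Steps.bwd (nat_lit 10) (Steps.fwd (nat_lit 28672) (Steps.bwd (nat_lit 2) (Steps.fwd (nat_lit 4096) Steps.nil))))))) (nat_lit 42) (nat_lit 7),
  Rule.mk (nat_lit 0) (nat_lit 88) (Steps.bwd (nat_lit 7) (Steps.bwd (nat_lit 3) (Steps.bwd (nat_lit 13) (Steps.fwd (nat_lit 24576) (Steps.fwd (nat_lit 45056) Steps.nil))))) (nat_lit 17) (nat_lit 3),
  Rule.mk (nat_lit 3) (nat_lit 103) (Steps.bwd (nat_lit 9) (Steps.fwd (nat_lit 32768) (Steps.fwd (nat_lit 24576) (Steps.bwd (nat_lit 13) (Steps.fwd (nat_lit 49152) (Steps.fwd (nat_lit 4096) Steps.nil)))))) (nat_lit 30) (nat_lit 3),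
  Rule.mk (nat_lit 8) (nat_lit 88) (Steps.fwd (nat_lit 40960) (Steps.bwd (nat_lit 1) (Steps.fwd (nat_lit 16384) (Steps.bwd (nat_lit 2) (Steps.fwd (nat_lit 36864) Steps.nil))))) (nat_lit 20) (nat_lit 5),
  Rule.mk (nat_lit 9) (nat_lit 103) (Steps.fwd (nat_lit 32768) (Steps.bwd (nat_lit 5) (Steps.fwd (nat_lit 57344) (Steps.bwd (nat_lit 11) (Steps.bwd (nat_lit 2) (Steps.bwd (nat_lit 3) Steps.nil)))))) (nat_lit 30) (nat_lit 4),
  Rule.mk (nat_lit 9) (nat_lit 118) (Steps.bwd (nat_lit 11) (Steps.bwd (nat_lit 13) (Steps.bwd (nat_lit 7) (Steps.bwd (nat_lit 9) (Steps.fwd (nat_lit 49152) (Steps.fwd (nat_lit 57344) (Steps.bwd (nat_lit 7) Steps.nil))))))) (nat_lit 41) (nat_lit 1),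
  Rule.mk (nat_lit 11) (nat_lit 148) (Steps.fwd (nat_lit 57344) (Steps.bwd (nat_lit 3) (Steps.bwd (nat_lit 2) (Steps.bwd (nat_lit 2) (Steps.bwd (nat_lit 4) (Steps.bwd (nat_lit 6) (Steps.fwd (nat_lit 53248) (Steps.fwd (nat_lit 45056) (Steps.bwd (nat_lit 5) Steps.nil))))))))) (nat_lit 52) (nat_lit 9),
  Rule.mk (nat_lit 5) (nat_lit 73) (Steps.fwd (nat_lit 49152) (Steps.fwd (nat_lit 24576) (Steps.bwd (nat_lit 10) (Steps.bwd (nat_lit 11) Steps.nil)))) (nat_lit 18) (nat_lit 2),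
  Rule.mk (nat_lit 7) (nat_lit 118) (Steps.bwd (nat_lit 9) (Steps.bwd (nat_lit 13) (Steps.fwd (nat_lit 36864) (Steps.bwd (nat_lit 7) (Steps.fwd (nat_lit 40960) (Steps.bwd (nat_lit 13) (Steps.fwd (nat_lit 36864) Steps.nil))))))) (nat_lit 38) (nat_lit 3),
  Rule.mk (nat_lit 11) (nat_lit 118) (Steps.bwd (nat_lit 13) (Steps.fwd (nat_lit 36864) (Steps.bwd (nat_lit 8) (Steps.bwd (nat_lit 1) (Steps.fwd (nat_lit 8192) (Steps.bwd (nat_lit 4) (Steps.bwd (nat_lit 6) Steps.nil))))))) (nat_lit 32) (nat_lit 5),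
  Rule.mk (nat_lit 9) (nat_lit 103) (Steps.fwd (nat_lit 32768) (Steps.fwd (nat_lit 24576) (Steps.bwd (nat_lit 13) (Steps.bwd (nat_lit 11) (Steps.fwd (nat_lit 4096) (Steps.fwd (nat_lit 16384) Steps.nil)))))) (nat_lit 30) (nat_lit 4),
  Rule.mk (nat_lit 5) (nat_lit 88) (Steps.bwd (nat_lit 9) (Steps.fwd (nat_lit 20480) (Steps.bwd (nat_lit 14) (Steps.bwd (nat_lit 12) (Steps.bwd (nat_lit 13) Steps.nil))))) (nat_lit 24) (nat_lit 0),
  Rule.mk (nat_lit 2) (nat_lit 118) (Steps.bwd (nat_lit 2) (Steps.fwd (nat_lit 32768) (Steps.bwd (nat_lit 2) (Steps.bwd (nat_lit 5) (Steps.bwd (nat_lit 1) (Steps.fwd (nat_lit 36864) (Steps.fwd (nat_lit 28672) Steps.nil))))))) (nat_lit 42) (nat_lit 5),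
  Rule.mk (nat_lit 13) (nat_lit 103) (Steps.bwd (nat_lit 11) (Steps.bwd (nat_lit 2) (Steps.fwd (nat_lit 16384) (Steps.fwd (nat_lit 40960) (Steps.fwd (nat_lit 32768) (Steps.fwd (nat_lit 24576) Steps.nil)))))) (nat_lit 30) (nat_lit 0),
  Rule.mk (nat_lit 10) (nat_lit 88) (Steps.bwd (nat_lit 6) (Steps.bwd (nat_lit 1) (Steps.bwd (nat_lit 7) (Steps.fwd (nat_lit 8192) (Steps.bwd (nat_lit 4) Steps.nil))))) (nat_lit 22) (nat_lit 4),
  Rule.mk (nat_lit 14) (nat_lit 103) (Steps.bwd (nat_lit 6) (Steps.bwd (nat_lit 8) (Steps.bwd (nat_lit 10) (Steps.fwd (nat_lit 12288) (Steps.bwd (nat_lit 1) (Steps.fwd (nat_lit 45056) Steps.nil)))))) (nat_lit 31) (nat_lit 1),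
  Rule.mk (nat_lit 4) (nat_lit 118) (Steps.bwd (nat_lit 6) (Steps.fwd (nat_lit 45056) (Steps.bwd (nat_lit 5) (Steps.bwd (nat_lit 4) (Steps.fwd (nat_lit 20480) (Steps.bwd (nat_lit 12) (Steps.fwd (nat_lit 24576) Steps.nil))))))) (nat_lit 35) (nat_lit 0),
  Rule.mk (nat_lit 9) (nat_lit 118) (Steps.bwd (nat_lit 14) (Steps.bwd (nat_lit 12) (Steps.bwd (nat_lit 5) (Steps.fwd (nat_lit 16384) (Steps.fwd (nat_lit 4096) (Steps.fwd (nat_lit 4096) (Steps.bwd (nat_lit 7) Steps.nil))))))) (nat_lit 33) (nat_lit 2),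
  Rule.mk (nat_lit 13) (nat_lit 118) (Steps.bwd (nat_lit 9) (Steps.bwd (nat_lit 14) (Steps.bwd (nat_lit 11) (Steps.bwd (nat_lit 13) (Steps.bwd (nat_lit 9) (Steps.fwd (nat_lit 53248) (Steps.bwd (nat_lit 11) Steps.nil))))))) (nat_lit 36) (nat_lit 0),
  Rule.mk (nat_lit 12) (nat_lit 88) (Steps.fwd (nat_lit 36864) (Steps.fwd (nat_lit 49152) (Steps.fwd (nat_lit 53248) (Steps.bwd (nat_lit 11) (Steps.bwd (nat_lit 13) Steps.nil))))) (nat_lit 27) (nat_lit 3),
  Rule.mk (nat_lit 11) (nat_lit 103) (Steps.bwd (nat_lit 2) (Steps.bwd (nat_lit 3) (Steps.bwd (nat_lit 9) (Steps.bwd (nat_lit 7) (Steps.bwd (nat_lit 5) (Steps.bwd (nat_lit 13) Steps.nil)))))) (nat_lit 30) (nat_lit 1),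
  Rule.mk (nat_lit 13) (nat_lit 103) (Steps.bwd (nat_lit 11) (Steps.bwd (nat_lit 2) (Steps.bwd (nat_lit 3) (Steps.fwd (nat_lit 40960) (Steps.fwd (nat_lit 32768) (Steps.fwd (nat_lit 24576) Steps.nil)))))) (nat_lit 30) (nat_lit 0),
  Rule.mk (nat_lit 4) (nat_lit 58) (Steps.fwd (nat_lit 53248) (Steps.bwd (nat_lit 3) (Steps.fwd (nat_lit 24576) Steps.nil))) (nat_lit 12) (nat_lit 3),
  Rule.mk (nat_lit 10) (nat_lit 103) (Steps.bwd (nat_lit 4) (Steps.fwd (nat_lit 8192) (Steps.bwd (nat_lit 12) (Steps.bwd (nat_lit 14) (Steps.fwd (nat_lit 20480) (Steps.bwd (nat_lit 8) Steps.nil)))))) (nat_lit 31) (nat_lit 4),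
  Rule.mk (nat_lit 7) (nat_lit 133) (Steps.bwd (nat_lit 4) (Steps.fwd (nat_lit 32768) (Steps.bwd (nat_lit 9) (Steps.fwd (nat_lit 20480) (Steps.fwd (nat_lit 49152) (Steps.fwd (nat_lit 57344) (Steps.bwd (nat_lit 12) (Steps.bwd (nat_lit 4) Steps.nil)))))))) (nat_lit 44) (nat_lit 2),
  Rule.mk (nat_lit 13) (nat_lit 118) (Steps.bwd (nat_lit 7) (Steps.bwd (nat_lit 9) (Steps.bwd (nat_lit 11) (Steps.bwd (nat_lit 13) (Steps.fwd (nat_lit 32768) (Steps.fwd (nat_lit 40960) (Steps.fwd (nat_lit 49152) Steps.nil))))))) (nat_lit 41) (nat_lit 3),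
  Rule.mk (nat_lit 7) (nat_lit 133) (Steps.fwd (nat_lit 12288) (Steps.bwd (nat_lit 7) (Steps.bwd (nat_lit 9) (Steps.fwd (nat_lit 20480) (Steps.bwd (nat_lit 11) (Steps.bwd (nat_lit 13) (Steps.fwd (nat_lit 45056) (Steps.fwd (nat_lit 12288) Steps.nil)))))))) (nat_lit 44) (nat_lit 2),
  Rule.mk (nat_lit 12) (nat_lit 103) (Steps.fwd (nat_lit 53248) (Steps.bwd (nat_lit 6) (Steps.fwd (nat_lit 28672) (Steps.fwd (nat_lit 36864) (Steps.bwd (nat_lit 4) (Steps.bwd (nat_lit 1) Steps.nil)))))) (nat_lit 31) (nat_lit 0),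
  Rule.mk (nat_lit 4) (nat_lit 148) (Steps.fwd (nat_lit 53248) (Steps.bwd (nat_lit 12) (Steps.fwd (nat_lit 20480) (Steps.bwd (nat_lit 11) (Steps.fwd (nat_lit 57344) (Steps.bwd (nat_lit 5) (Steps.bwd (nat_lit 3) (Steps.bwd (nat_lit 1) (Steps.bwd (nat_lit 1) Steps.nil))))))))) (nat_lit 53) (nat_lit 0),
  Rule.mk (nat_lit 13) (nat_lit 88) (Steps.bwd (nat_lit 12) (Steps.fwd (nat_lit 40960) (Steps.bwd (nat_lit 11) (Steps.fwd (nat_lit 53248) (Steps.bwd (nat_lit 12) Steps.nil))))) (nat_lit 26) (nat_lit 1),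
  Rule.mk (nat_lit 3) (nat_lit 133) (Steps.fwd (nat_lit 28672) (Steps.bwd (nat_lit 3) (Steps.fwd (nat_lit 49152) (Steps.bwd (nat_lit 14) (Steps.bwd (nat_lit 12) (Steps.fwd (nat_lit 24576) (Steps.fwd (nat_lit 36864) (Steps.fwd (nat_lit 28672) Steps.nil)))))))) (nat_lit 45) (nat_lit 7),
  Rule.mk (nat_lit 11) (nat_lit 118) (Steps.fwd (nat_lit 57344) (Steps.fwd (nat_lit 40960) (Steps.fwd (nat_lit 53248) (Steps.fwd (nat_lit 49152) (Steps.fwd (nat_lit 57344) (Steps.bwd (nat_lit 9) (Steps.bwd (nat_lit 14) Steps.nil))))))) (nat_lit 36) (nat_lit 3),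
  Rule.mk (nat_lit 12) (nat_lit 118) (Steps.fwd (nat_lit 36864) (Steps.bwd (nat_lit 8) (Steps.bwd (nat_lit 14) (Steps.fwd (nat_lit 45056) (Steps.fwd (nat_lit 36864) (Steps.fwd (nat_lit 28672) (Steps.bwd (nat_lit 14) Steps.nil))))))) (nat_lit 40) (nat_lit 3),
  Rule.mk (nat_lit 11) (nat_lit 133) (Steps.bwd (nat_lit 14) (Steps.bwd (nat_lit 12) (Steps.fwd (nat_lit 24576) (Steps.bwd (nat_lit 10) (Steps.fwd (nat_lit 28672) (Steps.bwd (nat_lit 3) (Steps.bwd (nat_lit 8) (Steps.fwd (nat_lit 16384) Steps.nil)))))))) (nat_lit 45) (nat_lit 1),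
  Rule.mk (nat_lit 8) (nat_lit 133) (Steps.bwd (nat_lit 3) (Steps.bwd (nat_lit 11) (Steps.bwd (nat_lit 14) (Steps.fwd (nat_lit 45056) (Steps.bwd (nat_lit 5) (Steps.fwd (nat_lit 36864) (Steps.fwd (nat_lit 28672) (Steps.bwd (nat_lit 3) Steps.nil)))))))) (nat_lit 45) (nat_lit 8),
  Rule.mk (nat_lit 0) (nat_lit 133) (Steps.bwd (nat_lit 14) (Steps.fwd (nat_lit 49152) (Steps.bwd (nat_lit 13) (Steps.bwd (nat_lit 9) (Steps.fwd (nat_lit 53248) (Steps.fwd (nat_lit 49152) (Steps.bwd (nat_lit 13) (Steps.bwd (nat_lit 9) Steps.nil)))))))) (nat_lit 36) (nat_lit 1),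
  Rule.mk (nat_lit 8) (nat_lit 118) (Steps.bwd (nat_lit 9) (Steps.fwd (nat_lit 53248) (Steps.bwd (nat_lit 10) (Steps.bwd (nat_lit 8) (Steps.fwd (nat_lit 40960) (Steps.bwd (nat_lit 14) (Steps.fwd (nat_lit 36864) Steps.nil))))))) (nat_lit 39) (nat_lit 2),
  Rule.mk (nat_lit 12) (nat_lit 148) (Steps.bwd (nat_lit 5) (Steps.bwd (nat_lit 11) (Steps.fwd (nat_lit 57344) (Steps.fwd (nat_lit 16384) (Steps.bwd (nat_lit 2) (Steps.bwd (nat_lit 2) (Steps.bwd (nat_lit 4) (Steps.bwd (nat_lit 6) (Steps.bwd (nat_lit 14) Steps.nil))))))))) (nat_lit 52) (nat_lit 7),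
  Rule.mk (nat_lit 11) (nat_lit 88) (Steps.bwd (nat_lit 13) (Steps.bwd (nat_lit 5) (Steps.bwd (nat_lit 10) (Steps.bwd (nat_lit 6) (Steps.bwd (nat_lit 14) Steps.nil))))) (nat_lit 25) (nat_lit 3),
  Rule.mk (nat_lit 5) (nat_lit 103) (Steps.bwd (nat_lit 13) (Steps.fwd (nat_lit 49152) (Steps.fwd (nat_lit 4096) (Steps.fwd (nat_lit 16384) (Steps.fwd (nat_lit 40960) (Steps.fwd (nat_lit 32768) Steps.nil)))))) (nat_lit 30) (nat_lit 6),
  Rule.mk (nat_lit 9) (nat_lit 118) (Steps.bwd (nat_lit 14) (Steps.bwd (nat_lit 12) (Steps.bwd (nat_lit 5) (Steps.bwd (nat_lit 3) (Steps.bwd (nat_lit 2) (Steps.bwd (nat_lit 2) (Steps.fwd (nat_lit 32768) Steps.nil))))))) (nat_lit 33) (nat_lit 2),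
  Rule.mk (nat_lit 8) (nat_lit 118) (Steps.bwd (nat_lit 1) (Steps.bwd (nat_lit 1) (Steps.bwd (nat_lit 4) (Steps.fwd (nat_lit 20480) (Steps.bwd (nat_lit 11) (Steps.bwd (nat_lit 13) (Steps.fwd (nat_lit 36864) Steps.nil))))))) (nat_lit 32) (nat_lit 0),
  Rule.mk (nat_lit 10) (nat_lit 118) (Steps.bwd (nat_lit 8) (Steps.fwd (nat_lit 40960) (Steps.bwd (nat_lit 14) (Steps.fwd (nat_lit 36864) (Steps.bwd (nat_lit 8) (Steps.bwd (nat_lit 9) (Steps.fwd (nat_lit 53248) Steps.nil))))))) (nat_lit 39) (nat_lit 1),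
  Rule.mk (nat_lit 1) (nat_lit 118) (Steps.bwd (nat_lit 10) (Steps.bwd (nat_lit 8) (Steps.bwd (nat_lit 2) (Steps.bwd (nat_lit 2) (Steps.fwd (nat_lit 32768) (Steps.bwd (nat_lit 2) (Steps.bwd (nat_lit 5) Steps.nil))))))) (nat_lit 42) (nat_lit 2)]
noncomputable def R_57 : List (Rule) := [Rule.mk (nat_lit 7) (nat_lit 148) (Steps.bwd (nat_lit 10) (Steps.bwd (nat_lit 8) (Steps.bwd (nat_lit 1) (Steps.fwd (nat_lit 12288) (Steps.fwd (nat_lit 20480) (Steps.bwd (nat_lit 3) (Steps.fwd (nat_lit 4096) (Steps.fwd (nat_lit 4096) (Steps.fwd (nat_lit 4096) Steps.nil))))))))) (nat_lit 47) (nat_lit 0),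
  Rule.mk (nat_lit 0) (nat_lit 88) (Steps.fwd (nat_lit 20480) (Steps.bwd (nat_lit 14) (Steps.fwd (nat_lit 12288) (Steps.bwd (nat_lit 8) (Steps.fwd (nat_lit 49152) Steps.nil))))) (nat_lit 16) (nat_lit 3),
  Rule.mk (nat_lit 14) (nat_lit 133) (Steps.fwd (nat_lit 45056) (Steps.bwd (nat_lit 5) (Steps.bwd (nat_lit 10) (Steps.fwd (nat_lit 28672) (Steps.fwd (nat_lit 16384) (Steps.fwd (nat_lit 28672) (Steps.bwd (nat_lit 3) (Steps.bwd (nat_lit 11) Steps.nil)))))))) (nat_lit 45) (nat_lit 2),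
  Rule.mk (nat_lit 11) (nat_lit 118) (Steps.bwd (nat_lit 5) (Steps.fwd (nat_lit 16384) (Steps.bwd (nat_lit 6) (Steps.fwd (nat_lit 49152) (Steps.bwd (nat_lit 5) (Steps.fwd (nat_lit 16384) (Steps.bwd (nat_lit 6) Steps.nil))))))) (nat_lit 34) (nat_lit 3),
  Rule.mk (nat_lit 2) (nat_lit 118) (Steps.bwd (nat_lit 5) (Steps.bwd (nat_lit 1) (Steps.bwd (nat_lit 10) (Steps.bwd (nat_lit 8) (Steps.fwd (nat_lit 4096) (Steps.fwd (nat_lit 4096) (Steps.fwd (nat_lit 32768) Steps.nil))))))) (nat_lit 42) (nat_lit 0),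
  Rule.mk (nat_lit 0) (nat_lit 103) (Steps.bwd (nat_lit 1) (Steps.fwd (nat_lit 32768) (Steps.fwd (nat_lit 8192) (Steps.bwd (nat_lit 4) (Steps.fwd (nat_lit 36864) (Steps.bwd (nat_lit 6) Steps.nil)))))) (nat_lit 22) (nat_lit 5),
  Rule.mk (nat_lit 3) (nat_lit 103) (Steps.fwd (nat_lit 40960) (Steps.fwd (nat_lit 32768) (Steps.fwd (nat_lit 24576) (Steps.fwd (nat_lit 57344) (Steps.fwd (nat_lit 49152) (Steps.bwd (nat_lit 2) Steps.nil)))))) (nat_lit 30) (nat_lit 3),
  Rule.mk (nat_lit 10) (nat_lit 133) (Steps.bwd (nat_lit 8) (Steps.bwd (nat_lit 3) (Steps.bwd (nat_lit 8) (Steps.bwd (nat_lit 3) (Steps.bwd (nat_lit 11) (Steps.bwd (nat_lit 14) (Steps.bwd (nat_lit 12) (Steps.bwd (nat_lit 5) Steps.nil)))))))) (nat_lit 45) (nat_lit 5),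
  Rule.mk (nat_lit 13) (nat_lit 88) (Steps.bwd (nat_lit 5) (Steps.bwd (nat_lit 9) (Steps.bwd (nat_lit 6) (Steps.fwd (nat_lit 53248) (Steps.fwd (nat_lit 45056) Steps.nil))))) (nat_lit 24) (nat_lit 5),
  Rule.mk (nat_lit 12) (nat_lit 133) (Steps.bwd (nat_lit 5) (Steps.bwd (nat_lit 10) (Steps.fwd (nat_lit 28672) (Steps.fwd (nat_lit 16384) (Steps.bwd (nat_lit 8) (Steps.fwd (nat_lit 16384) (Steps.bwd (nat_lit 11) (Steps.fwd (nat_lit 53248) Steps.nil)))))))) (nat_lit 45) (nat_lit 3),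
  Rule.mk (nat_lit 13) (nat_lit 88) (Steps.bwd (nat_lit 12) (Steps.bwd (nat_lit 10) (Steps.bwd (nat_lit 11) (Steps.fwd (nat_lit 53248) (Steps.bwd (nat_lit 11) Steps.nil))))) (nat_lit 27) (nat_lit 2),
  Rule.mk (nat_lit 11) (nat_lit 118) (Steps.bwd (nat_lit 5) (Steps.bwd (nat_lit 3) (Steps.fwd (nat_lit 20480) (Steps.bwd (nat_lit 11) (Steps.fwd (nat_lit 24576) (Steps.fwd (nat_lit 16384) (Steps.fwd (nat_lit 20480) Steps.nil))))))) (nat_lit 34) (nat_lit 3),
  Rule.mk (nat_lit 4) (nat_lit 133) (Steps.bwd (nat_lit 7) (Steps.fwd (nat_lit 12288) (Steps.bwd (nat_lit 7) (Steps.fwd (nat_lit 40960) (Steps.fwd (nat_lit 20480) (Steps.fwd (nat_lit 49152) (Steps.bwd (nat_lit 13) (Steps.bwd (nat_lit 12) Steps.nil)))))))) (nat_lit 44) (nat_lit 1),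
  Rule.mk (nat_lit 14) (nat_lit 118) (Steps.bwd (nat_lit 10) (Steps.fwd (nat_lit 28672) (Steps.bwd (nat_lit 9) (Steps.bwd (nat_lit 14) (Steps.fwd (nat_lit 36864) (Steps.bwd (nat_lit 8) (Steps.fwd (nat_lit 40960) Steps.nil))))))) (nat_lit 39) (nat_lit 0),
  Rule.mk (nat_lit 7) (nat_lit 118) (Steps.bwd (nat_lit 9) (Steps.fwd (nat_lit 49152) (Steps.fwd (nat_lit 57344) (Steps.bwd (nat_lit 7) (Steps.bwd (nat_lit 9) (Steps.bwd (nat_lit 11) (Steps.bwd (nat_lit 13) Steps.nil))))))) (nat_lit 41) (nat_lit 0),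
  Rule.mk (nat_lit 9) (nat_lit 103) (Steps.bwd (nat_lit 7) (Steps.fwd (nat_lit 24576) (Steps.bwd (nat_lit 13) (Steps.bwd (nat_lit 11) (Steps.fwd (nat_lit 4096) (Steps.fwd (nat_lit 16384) Steps.nil)))))) (nat_lit 30) (nat_lit 4),
  Rule.mk (nat_lit 12) (nat_lit 133) (Steps.bwd (nat_lit 5) (Steps.fwd (nat_lit 36864) (Steps.fwd (nat_lit 28672) (Steps.fwd (nat_lit 16384) (Steps.fwd (nat_lit 28672) (Steps.fwd (nat_lit 16384) (Steps.bwd (nat_lit 11) (Steps.bwd (nat_lit 14) Steps.nil)))))))) (nat_lit 45) (nat_lit 3),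
  Rule.mk (nat_lit 8) (nat_lit 88) (Steps.bwd (nat_lit 9) (Steps.bwd (nat_lit 1) (Steps.bwd (nat_lit 3) (Steps.fwd (nat_lit 4096) (Steps.fwd (nat_lit 36864) Steps.nil))))) (nat_lit 20) (nat_lit 5),
  Rule.mk (nat_lit 3) (nat_lit 118) (Steps.fwd (nat_lit 4096) (Steps.fwd (nat_lit 4096) (Steps.fwd (nat_lit 32768) (Steps.bwd (nat_lit 9) (Steps.bwd (nat_lit 14) (Steps.bwd (nat_lit 12) (Steps.bwd (nat_lit 5) Steps.nil))))))) (nat_lit 33) (nat_lit 6),
  Rule.mk (nat_lit 10) (nat_lit 133) (Steps.bwd (nat_lit 8) (Steps.bwd (nat_lit 3) (Steps.bwd (nat_lit 8) (Steps.fwd (nat_lit 16384) (Steps.bwd (nat_lit 11) (Steps.fwd (nat_lit 53248) (Steps.bwd (nat_lit 12) (Steps.bwd (nat_lit 5) Steps.nil)))))))) (nat_lit 45) (nat_lit 5),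
  Rule.mk (nat_lit 4) (nat_lit 118) (Steps.fwd (nat_lit 20480) (Steps.fwd (nat_lit 45056) (Steps.bwd (nat_lit 5) (Steps.bwd (nat_lit 4) (Steps.bwd (nat_lit 6) (Steps.bwd (nat_lit 12) (Steps.fwd (nat_lit 24576) Steps.nil))))))) (nat_lit 35) (nat_lit 0),
  Rule.mk (nat_lit 7) (nat_lit 118) (Steps.fwd (nat_lit 40960) (Steps.fwd (nat_lit 53248) (Steps.bwd (nat_lit 12) (Steps.fwd (nat_lit 24576) (Steps.fwd (nat_lit 16384) (Steps.fwd (nat_lit 4096) (Steps.bwd (nat_lit 2) Steps.nil))))))) (nat_lit 33) (nat_lit 1),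
  Rule.mk (nat_lit 7) (nat_lit 148) (Steps.fwd (nat_lit 40960) (Steps.fwd (nat_lit 28672) (Steps.bwd (nat_lit 1) (Steps.fwd (nat_lit 8192) (Steps.fwd (nat_lit 8192) (Steps.fwd (nat_lit 12288) (Steps.bwd (nat_lit 5) (Steps.bwd (nat_lit 3) (Steps.bwd (nat_lit 2) Steps.nil))))))))) (nat_lit 46) (nat_lit 9),
  Rule.mk (nat_lit 2) (nat_lit 103) (Steps.fwd (nat_lit 16384) (Steps.bwd (nat_lit 9) (Steps.bwd (nat_lit 7) (Steps.fwd (nat_lit 24576) (Steps.bwd (nat_lit 13) (Steps.bwd (nat_lit 11) Steps.nil)))))) (nat_lit 30) (nat_lit 2),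
  Rule.mk (nat_lit 2) (nat_lit 118) (Steps.bwd (nat_lit 7) (Steps.fwd (nat_lit 40960) (Steps.fwd (nat_lit 53248) (Steps.fwd (nat_lit 45056) (Steps.bwd (nat_lit 5) (Steps.bwd (nat_lit 3) (Steps.bwd (nat_lit 2) Steps.nil))))))) (nat_lit 33) (nat_lit 0),
  Rule.mk (nat_lit 3) (nat_lit 88) (Steps.bwd (nat_lit 2) (Steps.fwd (nat_lit 36864) (Steps.bwd (nat_lit 8) (Steps.fwd (nat_lit 40960) (Steps.fwd (nat_lit 8192) Steps.nil))))) (nat_lit 20) (nat_lit 2),
  Rule.mk (nat_lit 3) (nat_lit 133) (Steps.bwd (nat_lit 11) (Steps.fwd (nat_lit 53248) (Steps.fwd (nat_lit 45056) (Steps.bwd (nat_lit 5) (Steps.fwd (nat_lit 36864) (Steps.fwd (nat_lit 28672) (Steps.fwd (nat_lit 16384) (Steps.bwd (nat_lit 8) Steps.nil)))))))) (nat_lit 45) (nat_lit 0),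
  Rule.mk (nat_lit 5) (nat_lit 118) (Steps.bwd (nat_lit 3) (Steps.fwd (nat_lit 20480) (Steps.bwd (nat_lit 11) (Steps.fwd (nat_lit 24576) (Steps.bwd (nat_lit 3) (Steps.bwd (nat_lit 6) (Steps.bwd (nat_lit 11) Steps.nil))))))) (nat_lit 34) (nat_lit 0),
  Rule.mk (nat_lit 7) (nat_lit 133) (Steps.fwd (nat_lit 12288) (Steps.fwd (nat_lit 32768) (Steps.fwd (nat_lit 40960) (Steps.fwd (nat_lit 20480) (Steps.bwd (nat_lit 11) (Steps.bwd (nat_lit 13) (Steps.bwd (nat_lit 12) (Steps.fwd (nat_lit 12288) Steps.nil)))))))) (nat_lit 44) (nat_lit 2),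
  Rule.mk (nat_lit 3) (nat_lit 118) (Steps.bwd (nat_lit 6) (Steps.fwd (nat_lit 49152) (Steps.bwd (nat_lit 5) (Steps.bwd (nat_lit 3) (Steps.fwd (nat_lit 20480) (Steps.bwd (nat_lit 11) (Steps.bwd (nat_lit 5) Steps.nil))))))) (nat_lit 34) (nat_lit 1),
  Rule.mk (nat_lit 8) (nat_lit 103) (Steps.fwd (nat_lit 36864) (Steps.fwd (nat_lit 12288) (Steps.bwd (nat_lit 1) (Steps.bwd (nat_lit 12) (Steps.bwd (nat_lit 14) (Steps.bwd (nat_lit 6) Steps.nil)))))) (nat_lit 31) (nat_lit 3),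
  Rule.mk (nat_lit 7) (nat_lit 118) (Steps.bwd (nat_lit 9) (Steps.bwd (nat_lit 11) (Steps.bwd (nat_lit 13) (Steps.bwd (nat_lit 7) (Steps.bwd (nat_lit 9) (Steps.bwd (nat_lit 11) (Steps.fwd (nat_lit 57344) Steps.nil))))))) (nat_lit 41) (nat_lit 0),
  Rule.mk (nat_lit 2) (nat_lit 103) (Steps.bwd (nat_lit 3) (Steps.fwd (nat_lit 40960) (Steps.fwd (nat_lit 32768) (Steps.bwd (nat_lit 5) (Steps.bwd (nat_lit 13) (Steps.fwd (nat_lit 49152) Steps.nil)))))) (nat_lit 30) (nat_lit 2),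
  Rule.mk (nat_lit 5) (nat_lit 118) (Steps.bwd (nat_lit 1) (Steps.bwd (nat_lit 10) (Steps.bwd (nat_lit 8) (Steps.bwd (nat_lit 2) (Steps.bwd (nat_lit 2) (Steps.fwd (nat_lit 32768) (Steps.bwd (nat_lit 2) Steps.nil))))))) (nat_lit 42) (nat_lit 1),
  Rule.mk (nat_lit 12) (nat_lit 118) (Steps.bwd (nat_lit 5) (Steps.bwd (nat_lit 4) (Steps.fwd (nat_lit 20480) (Steps.bwd (nat_lit 12) (Steps.bwd (nat_lit 5) (Steps.bwd (nat_lit 4) (Steps.bwd (nat_lit 6) Steps.nil))))))) (nat_lit 35) (nat_lit 2),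
  Rule.mk (nat_lit 13) (nat_lit 103) (Steps.fwd (nat_lit 49152) (Steps.bwd (nat_lit 2) (Steps.fwd (nat_lit 16384) (Steps.bwd (nat_lit 9) (Steps.bwd (nat_lit 7) (Steps.fwd (nat_lit 24576) Steps.nil)))))) (nat_lit 30) (nat_lit 0),
  Rule.mk (nat_lit 12) (nat_lit 88) (Steps.fwd (nat_lit 57344) (Steps.fwd (nat_lit 24576) (Steps.fwd (nat_lit 40960) (Steps.fwd (nat_lit 20480) (Steps.bwd (nat_lit 14) Steps.nil))))) (nat_lit 24) (nat_lit 4),
  Rule.mk (nat_lit 8) (nat_lit 148) (Steps.bwd (nat_lit 9) (Steps.bwd (nat_lit 8) (Steps.fwd (nat_lit 40960) (Steps.bwd (nat_lit 8) (Steps.bwd (nat_lit 9) (Steps.fwd (nat_lit 28672) (Steps.fwd (nat_lit 40960) (Steps.bwd (nat_lit 8) (Steps.bwd (nat_lit 9) Steps.nil))))))))) (nat_lit 48) (nat_lit 1),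
  Rule.mk (nat_lit 13) (nat_lit 73) (Steps.fwd (nat_lit 24576) (Steps.bwd (nat_lit 12) (Steps.fwd (nat_lit 32768) (Steps.fwd (nat_lit 16384) Steps.nil)))) (nat_lit 17) (nat_lit 1),
  Rule.mk (nat_lit 7) (nat_lit 103) (Steps.bwd (nat_lit 5) (Steps.bwd (nat_lit 13) (Steps.fwd (nat_lit 49152) (Steps.fwd (nat_lit 4096) (Steps.fwd (nat_lit 16384) (Steps.fwd (nat_lit 40960) Steps.nil)))))) (nat_lit 30) (nat_lit 5),
  Rule.mk (nat_lit 12) (nat_lit 88) (Steps.bwd (nat_lit 10) (Steps.bwd (nat_lit 11) (Steps.bwd (nat_lit 14) (Steps.bwd (nat_lit 11) (Steps.fwd (nat_lit 57344) Steps.nil))))) (nat_lit 27) (nat_lit 3),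
  Rule.mk (nat_lit 14) (nat_lit 118) (Steps.bwd (nat_lit 10) (Steps.fwd (nat_lit 28672) (Steps.bwd (nat_lit 9) (Steps.fwd (nat_lit 53248) (Steps.bwd (nat_lit 10) (Steps.bwd (nat_lit 8) (Steps.fwd (nat_lit 40960) Steps.nil))))))) (nat_lit 39) (nat_lit 0),
  Rule.mk (nat_lit 8) (nat_lit 148) (Steps.fwd (nat_lit 40960) (Steps.bwd (nat_lit 8) (Steps.fwd (nat_lit 40960) (Steps.fwd (nat_lit 28672) (Steps.bwd (nat_lit 9) (Steps.bwd (nat_lit 8) (Steps.fwd (nat_lit 40960) (Steps.bwd (nat_lit 8) (Steps.fwd (nat_lit 40960) Steps.nil))))))))) (nat_lit 48) (nat_lit 1),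
  Rule.mk (nat_lit 1) (nat_lit 148) (Steps.bwd (nat_lit 1) (Steps.fwd (nat_lit 12288) (Steps.bwd (nat_lit 14) (Steps.fwd (nat_lit 45056) (Steps.fwd (nat_lit 20480) (Steps.fwd (nat_lit 49152) (Steps.bwd (nat_lit 13) (Steps.bwd (nat_lit 5) (Steps.bwd (nat_lit 3) Steps.nil))))))))) (nat_lit 53) (nat_lit 8),
  Rule.mk (nat_lit 11) (nat_lit 118) (Steps.fwd (nat_lit 57344) (Steps.fwd (nat_lit 40960) (Steps.bwd (nat_lit 14) (Steps.bwd (nat_lit 11) (Steps.bwd (nat_lit 13) (Steps.bwd (nat_lit 9) (Steps.bwd (nat_lit 14) Steps.nil))))))) (nat_lit 36) (nat_lit 3),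
  Rule.mk (nat_lit 3) (nat_lit 118) (Steps.fwd (nat_lit 20480) (Steps.bwd (nat_lit 11) (Steps.fwd (nat_lit 24576) (Steps.fwd (nat_lit 16384) (Steps.fwd (nat_lit 20480) (Steps.fwd (nat_lit 49152) (Steps.bwd (nat_lit 5) Steps.nil))))))) (nat_lit 34) (nat_lit 1),
  Rule.mk (nat_lit 8) (nat_lit 118) (Steps.bwd (nat_lit 1) (Steps.bwd (nat_lit 1) (Steps.fwd (nat_lit 32768) (Steps.fwd (nat_lit 40960) (Steps.fwd (nat_lit 4096) (Steps.fwd (nat_lit 20480) (Steps.fwd (nat_lit 8192) Steps.nil))))))) (nat_lit 43) (nat_lit 2),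
  Rule.mk (nat_lit 11) (nat_lit 103) (Steps.bwd (nat_lit 2) (Steps.bwd (nat_lit 3) (Steps.bwd (nat_lit 9) (Steps.fwd (nat_lit 32768) (Steps.bwd (nat_lit 5) (Steps.fwd (nat_lit 57344) Steps.nil)))))) (nat_lit 30) (nat_lit 1),
  Rule.mk (nat_lit 8) (nat_lit 88) (Steps.bwd (nat_lit 9) (Steps.fwd (nat_lit 8192) (Steps.bwd (nat_lit 3) (Steps.bwd (nat_lit 2) (Steps.fwd (nat_lit 36864) Steps.nil))))) (nat_lit 20) (nat_lit 5),
  Rule.mk (nat_lit 12) (nat_lit 103) (Steps.fwd (nat_lit 53248) (Steps.fwd (nat_lit 20480) (Steps.fwd (nat_lit 28672) (Steps.fwd (nat_lit 36864) (Steps.bwd (nat_lit 4) (Steps.bwd (nat_lit 1) Steps.nil)))))) (nat_lit 31) (nat_lit 0),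
  Rule.mk (nat_lit 2) (nat_lit 88) (Steps.bwd (nat_lit 10) (Steps.fwd (nat_lit 32768) (Steps.bwd (nat_lit 9) (Steps.bwd (nat_lit 1) (Steps.fwd (nat_lit 12288) Steps.nil))))) (nat_lit 21) (nat_lit 0),
  Rule.mk (nat_lit 7) (nat_lit 118) (Steps.fwd (nat_lit 40960) (Steps.fwd (nat_lit 53248) (Steps.bwd (nat_lit 12) (Steps.bwd (nat_lit 5) (Steps.fwd (nat_lit 16384) (Steps.fwd (nat_lit 4096) (Steps.bwd (nat_lit 2) Steps.nil))))))) (nat_lit 33) (nat_lit 1),
  Rule.mk (nat_lit 10) (nat_lit 148) (Steps.bwd (nat_lit 7) (Steps.fwd (nat_lit 36864) (Steps.fwd (nat_lit 32768) (Steps.fwd (nat_lit 36864) (Steps.bwd (nat_lit 7) (Steps.bwd (nat_lit 10) (Steps.fwd (nat_lit 32768) (Steps.bwd (nat_lit 10) (Steps.fwd (nat_lit 32768) Steps.nil))))))))) (nat_lit 49) (nat_lit 1),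
  Rule.mk (nat_lit 7) (nat_lit 118) (Steps.bwd (nat_lit 9) (Steps.fwd (nat_lit 57344) (Steps.fwd (nat_lit 36864) (Steps.fwd (nat_lit 32768) (Steps.fwd (nat_lit 40960) (Steps.bwd (nat_lit 13) (Steps.fwd (nat_lit 36864) Steps.nil))))))) (nat_lit 38) (nat_lit 3),
  Rule.mk (nat_lit 1) (nat_lit 88) (Steps.bwd (nat_lit 3) (Steps.fwd (nat_lit 4096) (Steps.fwd (nat_lit 36864) (Steps.fwd (nat_lit 28672) (Steps.fwd (nat_lit 40960) Steps.nil))))) (nat_lit 20) (nat_lit 1),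
  Rule.mk (nat_lit 10) (nat_lit 118) (Steps.bwd (nat_lit 8) (Steps.bwd (nat_lit 9) (Steps.bwd (nat_lit 14) (Steps.fwd (nat_lit 36864) (Steps.fwd (nat_lit 28672) (Steps.bwd (nat_lit 9) (Steps.bwd (nat_lit 14) Steps.nil))))))) (nat_lit 39) (nat_lit 1),
  Rule.mk (nat_lit 8) (nat_lit 103) (Steps.bwd (nat_lit 10) (Steps.fwd (nat_lit 12288) (Steps.fwd (nat_lit 8192) (Steps.bwd (nat_lit 12) (Steps.fwd (nat_lit 53248) (Steps.bwd (nat_lit 6) Steps.nil)))))) (nat_lit 31) (nat_lit 3),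
  Rule.mk (nat_lit 2) (nat_lit 118) (Steps.bwd (nat_lit 5) (Steps.bwd (nat_lit 1) (Steps.fwd (nat_lit 36864) (Steps.bwd (nat_lit 8) (Steps.fwd (nat_lit 4096) (Steps.fwd (nat_lit 4096) (Steps.fwd (nat_lit 32768) Steps.nil))))))) (nat_lit 42) (nat_lit 0),
  Rule.mk (nat_lit 2) (nat_lit 103) (Steps.bwd (nat_lit 4) (Steps.bwd (nat_lit 7) (Steps.fwd (nat_lit 8192) (Steps.bwd (nat_lit 4) (Steps.fwd (nat_lit 4096) (Steps.fwd (nat_lit 4096) Steps.nil)))))) (nat_lit 28) (nat_lit 4),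
  Rule.mk (nat_lit 3) (nat_lit 103) (Steps.bwd (nat_lit 9) (Steps.bwd (nat_lit 7) (Steps.fwd (nat_lit 24576) (Steps.fwd (nat_lit 57344) (Steps.fwd (nat_lit 49152) (Steps.bwd (nat_lit 2) Steps.nil)))))) (nat_lit 30) (nat_lit 3),
  Rule.mk (nat_lit 12) (nat_lit 88) (Steps.fwd (nat_lit 57344) (Steps.bwd (nat_lit 5) (Steps.bwd (nat_lit 9) (Steps.fwd (nat_lit 20480) (Steps.bwd (nat_lit 14) Steps.nil))))) (nat_lit 24) (nat_lit 4),
  Rule.mk (nat_lit 8) (nat_lit 88) (Steps.fwd (nat_lit 4096) (Steps.fwd (nat_lit 24576) (Steps.bwd (nat_lit 9) (Steps.fwd (nat_lit 16384) (Steps.fwd (nat_lit 4096) Steps.nil))))) (nat_lit 23) (nat_lit 0),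
  Rule.mk (nat_lit 2) (nat_lit 103) (Steps.bwd (nat_lit 3) (Steps.bwd (nat_lit 9) (Steps.bwd (nat_lit 7) (Steps.fwd (nat_lit 24576) (Steps.fwd (nat_lit 57344) (Steps.bwd (nat_lit 11) Steps.nil)))))) (nat_lit 30) (nat_lit 2),
  Rule.mk (nat_lit 0) (nat_lit 73) (Steps.fwd (nat_lit 12288) (Steps.fwd (nat_lit 53248) (Steps.fwd (nat_lit 16384) (Steps.bwd (nat_lit 5) Steps.nil)))) (nat_lit 12) (nat_lit 2)]
noncomputable def R_58 : List (Rule) := [Rule.mk (nat_lit 7) (nat_lit 148) (Steps.bwd (nat_lit 10) (Steps.fwd (nat_lit 28672) (Steps.bwd (nat_lit 1) (Steps.bwd (nat_lit 4) (Steps.bwd (nat_lit 6) (Steps.fwd (nat_lit 16384) (Steps.bwd (nat_lit 2) (Steps.fwd (nat_lit 4096) (Steps.bwd (nat_lit 2) Steps.nil))))))))) (nat_lit 47) (nat_lit 0),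
  Rule.mk (nat_lit 2) (nat_lit 73) (Steps.fwd (nat_lit 4096) (Steps.fwd (nat_lit 20480) (Steps.fwd (nat_lit 12288) (Steps.bwd (nat_lit 7) Steps.nil)))) (nat_lit 14) (nat_lit 3),
  Rule.mk (nat_lit 2) (nat_lit 73) (Steps.bwd (nat_lit 2) (Steps.fwd (nat_lit 20480) (Steps.fwd (nat_lit 12288) (Steps.fwd (nat_lit 32768) Steps.nil)))) (nat_lit 14) (nat_lit 3),
  Rule.mk (nat_lit 11) (nat_lit 103) (Steps.bwd (nat_lit 2) (Steps.fwd (nat_lit 16384) (Steps.fwd (nat_lit 40960) (Steps.fwd (nat_lit 32768) (Steps.fwd (nat_lit 24576) (Steps.fwd (nat_lit 57344) Steps.nil)))))) (nat_lit 30) (nat_lit 1),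
  Rule.mk (nat_lit 6) (nat_lit 118) (Steps.bwd (nat_lit 11) (Steps.bwd (nat_lit 5) (Steps.fwd (nat_lit 16384) (Steps.fwd (nat_lit 20480) (Steps.fwd (nat_lit 49152) (Steps.bwd (nat_lit 5) (Steps.bwd (nat_lit 3) Steps.nil))))))) (nat_lit 34) (nat_lit 2),
  Rule.mk (nat_lit 8) (nat_lit 103) (Steps.bwd (nat_lit 10) (Steps.bwd (nat_lit 4) (Steps.bwd (nat_lit 1) (Steps.fwd (nat_lit 45056) (Steps.fwd (nat_lit 53248) (Steps.bwd (nat_lit 6) Steps.nil)))))) (nat_lit 31) (nat_lit 3),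
  Rule.mk (nat_lit 12) (nat_lit 118) (Steps.bwd (nat_lit 5) (Steps.bwd (nat_lit 4) (Steps.bwd (nat_lit 6) (Steps.fwd (nat_lit 45056) (Steps.bwd (nat_lit 5) (Steps.fwd (nat_lit 12288) (Steps.bwd (nat_lit 6) Steps.nil))))))) (nat_lit 35) (nat_lit 2),
  Rule.mk (nat_lit 14) (nat_lit 118) (Steps.bwd (nat_lit 12) (Steps.bwd (nat_lit 5) (Steps.fwd (nat_lit 16384) (Steps.fwd (nat_lit 4096) (Steps.bwd (nat_lit 2) (Steps.fwd (nat_lit 32768) (Steps.fwd (nat_lit 40960) Steps.nil))))))) (nat_lit 33) (nat_lit 3),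
  Rule.mk (nat_lit 9) (nat_lit 148) (Steps.bwd (nat_lit 8) (Steps.fwd (nat_lit 40960) (Steps.fwd (nat_lit 28672) (Steps.bwd (nat_lit 9) (Steps.fwd (nat_lit 28672) (Steps.fwd (nat_lit 40960) (Steps.fwd (nat_lit 28672) (Steps.fwd (nat_lit 40960) (Steps.fwd (nat_lit 28672) Steps.nil))))))))) (nat_lit 48) (nat_lit 0),
  Rule.mk (nat_lit 10) (nat_lit 118) (Steps.bwd (nat_lit 8) (Steps.bwd (nat_lit 2) (Steps.fwd (nat_lit 4096) (Steps.fwd (nat_lit 32768) (Steps.fwd (nat_lit 4096) (Steps.bwd (nat_lit 5) (Steps.bwd (nat_lit 1) Steps.nil))))))) (nat_lit 42) (nat_lit 3),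
  Rule.mk (nat_lit 6) (nat_lit 88) (Steps.fwd (nat_lit 53248) (Steps.fwd (nat_lit 49152) (Steps.fwd (nat_lit 57344) (Steps.fwd (nat_lit 24576) (Steps.bwd (nat_lit 10) Steps.nil))))) (nat_lit 25) (nat_lit 1),
  Rule.mk (nat_lit 14) (nat_lit 103) (Steps.bwd (nat_lit 6) (Steps.fwd (nat_lit 28672) (Steps.bwd (nat_lit 10) (Steps.bwd (nat_lit 4) (Steps.fwd (nat_lit 8192) (Steps.bwd (nat_lit 12) Steps.nil)))))) (nat_lit 31) (nat_lit 1),
  Rule.mk (nat_lit 4) (nat_lit 73) (Steps.fwd (nat_lit 32768) (Steps.bwd (nat_lit 2) (Steps.fwd (nat_lit 4096) (Steps.fwd (nat_lit 20480) Steps.nil)))) (nat_lit 14) (nat_lit 1),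
  Rule.mk (nat_lit 2) (nat_lit 118) (Steps.fwd (nat_lit 32768) (Steps.bwd (nat_lit 2) (Steps.bwd (nat_lit 5) (Steps.bwd (nat_lit 1) (Steps.bwd (nat_lit 10) (Steps.fwd (nat_lit 28672) (Steps.bwd (nat_lit 2) Steps.nil))))))) (nat_lit 42) (nat_lit 6),
  Rule.mk (nat_lit 10) (nat_lit 88) (Steps.bwd (nat_lit 8) (Steps.fwd (nat_lit 40960) (Steps.bwd (nat_lit 1) (Steps.bwd (nat_lit 3) (Steps.bwd (nat_lit 2) Steps.nil))))) (nat_lit 20) (nat_lit 4),
  Rule.mk (nat_lit 4) (nat_lit 103) (Steps.fwd (nat_lit 32768) (Steps.fwd (nat_lit 8192) (Steps.fwd (nat_lit 12288) (Steps.bwd (nat_lit 2) (Steps.bwd (nat_lit 2) (Steps.bwd (nat_lit 2) Steps.nil)))))) (nat_lit 28) (nat_lit 5),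
  Rule.mk (nat_lit 1) (nat_lit 343) (Steps.bwd (nat_lit 1) (Steps.bwd (nat_lit 1) (Steps.bwd (nat_lit 1) (Steps.bwd (nat_lit 1) (Steps.bwd (nat_lit 1) (Steps.bwd (nat_lit 1) (Steps.bwd (nat_lit 1) (Steps.bwd (nat_lit 1) (Steps.bwd (nat_lit 1) (Steps.bwd (nat_lit 1) (Steps.fwd (nat_lit 8192) (Steps.fwd (nat_lit 8192) (Steps.fwd (nat_lit 8192) (Steps.bwd (nat_lit 1) (Steps.fwd (nat_lit 8192) (Steps.bwd (nat_lit 1) (Steps.fwd (nat_lit 8192) (Steps.fwd (nat_lit 8192) (Steps.bwd (nat_lit 1) (Steps.fwd (nat_lit 8192) (Steps.bwd (nat_lit 1) (Steps.fwd (nat_lit 8192) Steps.nil)))))))))))))))))))))) (nat_lit 54) (nat_lit 0),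
  Rule.mk (nat_lit 0) (nat_lit 88) (Steps.fwd (nat_lit 4096) (Steps.fwd (nat_lit 4096) (Steps.fwd (nat_lit 20480) (Steps.bwd (nat_lit 4) (Steps.fwd (nat_lit 32768) Steps.nil))))) (nat_lit 14) (nat_lit 2),
  Rule.mk (nat_lit 10) (nat_lit 118) (Steps.bwd (nat_lit 8) (Steps.bwd (nat_lit 2) (Steps.bwd (nat_lit 2) (Steps.fwd (nat_lit 32768) (Steps.fwd (nat_lit 4096) (Steps.bwd (nat_lit 5) (Steps.bwd (nat_lit 1) Steps.nil))))))) (nat_lit 42) (nat_lit 3),
  Rule.mk (nat_lit 13) (nat_lit 118) (Steps.bwd (nat_lit 10) (Steps.fwd (nat_lit 32768) (Steps.bwd (nat_lit 9) (Steps.bwd (nat_lit 13) (Steps.fwd (nat_lit 36864) (Steps.bwd (nat_lit 7) (Steps.fwd (nat_lit 40960) Steps.nil))))))) (nat_lit 38) (nat_lit 1),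
  Rule.mk (nat_lit 11) (nat_lit 103) (Steps.bwd (nat_lit 2) (Steps.fwd (nat_lit 16384) (Steps.bwd (nat_lit 9) (Steps.bwd (nat_lit 7) (Steps.fwd (nat_lit 24576) (Steps.bwd (nat_lit 13) Steps.nil)))))) (nat_lit 30) (nat_lit 1),
  Rule.mk (nat_lit 8) (nat_lit 118) (Steps.bwd (nat_lit 2) (Steps.bwd (nat_lit 2) (Steps.bwd (nat_lit 7) (Steps.bwd (nat_lit 2) (Steps.fwd (nat_lit 24576) (Steps.fwd (nat_lit 8192) (Steps.bwd (nat_lit 10) Steps.nil))))))) (nat_lit 42) (nat_lit 4),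
  Rule.mk (nat_lit 14) (nat_lit 118) (Steps.fwd (nat_lit 45056) (Steps.fwd (nat_lit 36864) (Steps.bwd (nat_lit 8) (Steps.fwd (nat_lit 53248) (Steps.fwd (nat_lit 45056) (Steps.bwd (nat_lit 10) (Steps.bwd (nat_lit 8) Steps.nil))))))) (nat_lit 40) (nat_lit 2),
  Rule.mk (nat_lit 3) (nat_lit 133) (Steps.fwd (nat_lit 49152) (Steps.bwd (nat_lit 14) (Steps.fwd (nat_lit 45056) (Steps.bwd (nat_lit 5) (Steps.bwd (nat_lit 10) (Steps.fwd (nat_lit 28672) (Steps.bwd (nat_lit 3) (Steps.bwd (nat_lit 8) Steps.nil)))))))) (nat_lit 45) (nat_lit 0),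
  Rule.mk (nat_lit 5) (nat_lit 148) (Steps.bwd (nat_lit 3) (Steps.fwd (nat_lit 8192) (Steps.fwd (nat_lit 8192) (Steps.bwd (nat_lit 4) (Steps.bwd (nat_lit 14) (Steps.fwd (nat_lit 45056) (Steps.bwd (nat_lit 6) (Steps.fwd (nat_lit 49152) (Steps.bwd (nat_lit 13) Steps.nil))))))))) (nat_lit 53) (nat_lit 6),
  Rule.mk (nat_lit 9) (nat_lit 88) (Steps.bwd (nat_lit 3) (Steps.fwd (nat_lit 4096) (Steps.fwd (nat_lit 28672) (Steps.bwd (nat_lit 2) (Steps.bwd (nat_lit 5) Steps.nil))))) (nat_lit 23) (nat_lit 3),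
  Rule.mk (nat_lit 8) (nat_lit 118) (Steps.bwd (nat_lit 1) (Steps.fwd (nat_lit 8192) (Steps.bwd (nat_lit 7) (Steps.bwd (nat_lit 9) (Steps.fwd (nat_lit 4096) (Steps.fwd (nat_lit 20480) (Steps.bwd (nat_lit 1) Steps.nil))))))) (nat_lit 43) (nat_lit 2),
  Rule.mk (nat_lit 1) (nat_lit 118) (Steps.bwd (nat_lit 1) (Steps.bwd (nat_lit 7) (Steps.bwd (nat_lit 9) (Steps.fwd (nat_lit 4096) (Steps.fwd (nat_lit 20480) (Steps.fwd (nat_lit 8192) (Steps.bwd (nat_lit 8) Steps.nil))))))) (nat_lit 43) (nat_lit 3),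
  Rule.mk (nat_lit 6) (nat_lit 118) (Steps.bwd (nat_lit 1) (Steps.bwd (nat_lit 8) (Steps.bwd (nat_lit 1) (Steps.bwd (nat_lit 1) (Steps.bwd (nat_lit 7) (Steps.bwd (nat_lit 9) (Steps.fwd (nat_lit 4096) Steps.nil))))))) (nat_lit 43) (nat_lit 0),
  Rule.mk (nat_lit 7) (nat_lit 103) (Steps.fwd (nat_lit 24576) (Steps.fwd (nat_lit 57344) (Steps.bwd (nat_lit 11) (Steps.fwd (nat_lit 4096) (Steps.bwd (nat_lit 3) (Steps.bwd (nat_lit 9) Steps.nil)))))) (nat_lit 30) (nat_lit 5),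
  Rule.mk (nat_lit 2) (nat_lit 118) (Steps.bwd (nat_lit 6) (Steps.fwd (nat_lit 8192) (Steps.bwd (nat_lit 8) (Steps.fwd (nat_lit 8192) (Steps.fwd (nat_lit 8192) (Steps.bwd (nat_lit 7) (Steps.bwd (nat_lit 9) Steps.nil))))))) (nat_lit 43) (nat_lit 7),
  Rule.mk (nat_lit 8) (nat_lit 148) (Steps.fwd (nat_lit 40960) (Steps.fwd (nat_lit 28672) (Steps.fwd (nat_lit 40960) (Steps.bwd (nat_lit 8) (Steps.fwd (nat_lit 40960) (Steps.bwd (nat_lit 8) (Steps.fwd (nat_lit 40960) (Steps.fwd (nat_lit 28672) (Steps.bwd (nat_lit 9) Steps.nil))))))))) (nat_lit 48) (nat_lit 1),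
  Rule.mk (nat_lit 11) (nat_lit 103) (Steps.bwd (nat_lit 2) (Steps.fwd (nat_lit 16384) (Steps.fwd (nat_lit 40960) (Steps.fwd (nat_lit 32768) (Steps.bwd (nat_lit 5) (Steps.fwd (nat_lit 57344) Steps.nil)))))) (nat_lit 30) (nat_lit 1),
  Rule.mk (nat_lit 14) (nat_lit 88) (Steps.fwd (nat_lit 45056) (Steps.bwd (nat_lit 13) (Steps.fwd (nat_lit 45056) (Steps.bwd (nat_lit 9) (Steps.bwd (nat_lit 11) Steps.nil))))) (nat_lit 26) (nat_lit 5),
  Rule.mk (nat_lit 6) (nat_lit 118) (Steps.bwd (nat_lit 11) (Steps.bwd (nat_lit 13) (Steps.fwd (nat_lit 36864) (Steps.fwd (nat_lit 28672) (Steps.bwd (nat_lit 1) (Steps.bwd (nat_lit 1) (Steps.bwd (nat_lit 4) Steps.nil))))))) (nat_lit 32) (nat_lit 4),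
  Rule.mk (nat_lit 3) (nat_lit 133) (Steps.bwd (nat_lit 11) (Steps.bwd (nat_lit 14) (Steps.fwd (nat_lit 45056) (Steps.bwd (nat_lit 5) (Steps.bwd (nat_lit 10) (Steps.bwd (nat_lit 8) (Steps.bwd (nat_lit 3) (Steps.fwd (nat_lit 28672) Steps.nil)))))))) (nat_lit 45) (nat_lit 0),
  Rule.mk (nat_lit 10) (nat_lit 88) (Steps.fwd (nat_lit 32768) (Steps.bwd (nat_lit 9) (Steps.fwd (nat_lit 8192) (Steps.bwd (nat_lit 4) (Steps.bwd (nat_lit 2) Steps.nil))))) (nat_lit 21) (nat_lit 1),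
  Rule.mk (nat_lit 4) (nat_lit 103) (Steps.fwd (nat_lit 32768) (Steps.fwd (nat_lit 8192) (Steps.bwd (nat_lit 4) (Steps.bwd (nat_lit 2) (Steps.bwd (nat_lit 2) (Steps.bwd (nat_lit 2) Steps.nil)))))) (nat_lit 28) (nat_lit 5),
  Rule.mk (nat_lit 5) (nat_lit 118) (Steps.fwd (nat_lit 8192) (Steps.bwd (nat_lit 10) (Steps.fwd (nat_lit 28672) (Steps.fwd (nat_lit 4096) (Steps.fwd (nat_lit 4096) (Steps.fwd (nat_lit 32768) (Steps.bwd (nat_lit 2) Steps.nil))))))) (nat_lit 42) (nat_lit 1),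
  Rule.mk (nat_lit 7) (nat_lit 103) (Steps.bwd (nat_lit 5) (Steps.bwd (nat_lit 13) (Steps.bwd (nat_lit 11) (Steps.bwd (nat_lit 2) (Steps.bwd (nat_lit 3) (Steps.bwd (nat_lit 9) Steps.nil)))))) (nat_lit 30) (nat_lit 5),
  Rule.mk (nat_lit 13) (nat_lit 88) (Steps.fwd (nat_lit 24576) (Steps.fwd (nat_lit 40960) (Steps.bwd (nat_lit 6) (Steps.fwd (nat_lit 53248) (Steps.bwd (nat_lit 12) Steps.nil))))) (nat_lit 24) (nat_lit 5),
  Rule.mk (nat_lit 13) (nat_lit 118) (Steps.bwd (nat_lit 10) (Steps.bwd (nat_lit 7) (Steps.fwd (nat_lit 40960) (Steps.fwd (nat_lit 57344) (Steps.fwd (nat_lit 36864) (Steps.fwd (nat_lit 32768) (Steps.bwd (nat_lit 9) Steps.nil))))))) (nat_lit 38) (nat_lit 1),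
  Rule.mk (nat_lit 11) (nat_lit 103) (Steps.bwd (nat_lit 2) (Steps.bwd (nat_lit 3) (Steps.fwd (nat_lit 40960) (Steps.bwd (nat_lit 7) (Steps.fwd (nat_lit 24576) (Steps.bwd (nat_lit 13) Steps.nil)))))) (nat_lit 30) (nat_lit 1),
  Rule.mk (nat_lit 1) (nat_lit 118) (Steps.fwd (nat_lit 36864) (Steps.fwd (nat_lit 28672) (Steps.bwd (nat_lit 2) (Steps.fwd (nat_lit 4096) (Steps.fwd (nat_lit 32768) (Steps.fwd (nat_lit 4096) (Steps.bwd (nat_lit 5) Steps.nil))))))) (nat_lit 42) (nat_lit 2),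
  Rule.mk (nat_lit 7) (nat_lit 88) (Steps.bwd (nat_lit 1) (Steps.fwd (nat_lit 12288) (Steps.fwd (nat_lit 36864) (Steps.fwd (nat_lit 20480) (Steps.fwd (nat_lit 8192) Steps.nil))))) (nat_lit 22) (nat_lit 1),
  Rule.mk (nat_lit 3) (nat_lit 103) (Steps.bwd (nat_lit 1) (Steps.fwd (nat_lit 8192) (Steps.fwd (nat_lit 8192) (Steps.bwd (nat_lit 3) (Steps.fwd (nat_lit 4096) (Steps.bwd (nat_lit 8) Steps.nil)))))) (nat_lit 29) (nat_lit 3),
  Rule.mk (nat_lit 8) (nat_lit 118) (Steps.bwd (nat_lit 1) (Steps.fwd (nat_lit 8192) (Steps.fwd (nat_lit 12288) (Steps.fwd (nat_lit 20480) (Steps.bwd (nat_lit 11) (Steps.bwd (nat_lit 13) (Steps.fwd (nat_lit 36864) Steps.nil))))))) (nat_lit 32) (nat_lit 0),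
  Rule.mk (nat_lit 8) (nat_lit 118) (Steps.bwd (nat_lit 14) (Steps.bwd (nat_lit 12) (Steps.bwd (nat_lit 10) (Steps.bwd (nat_lit 8) (Steps.bwd (nat_lit 14) (Steps.bwd (nat_lit 12) (Steps.bwd (nat_lit 10) Steps.nil))))))) (nat_lit 40) (nat_lit 1),
  Rule.mk (nat_lit 13) (nat_lit 103) (Steps.fwd (nat_lit 49152) (Steps.fwd (nat_lit 4096) (Steps.bwd (nat_lit 3) (Steps.fwd (nat_lit 40960) (Steps.fwd (nat_lit 32768) (Steps.bwd (nat_lit 5) Steps.nil)))))) (nat_lit 30) (nat_lit 0),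
  Rule.mk (nat_lit 10) (nat_lit 118) (Steps.bwd (nat_lit 8) (Steps.fwd (nat_lit 4096) (Steps.bwd (nat_lit 2) (Steps.fwd (nat_lit 32768) (Steps.fwd (nat_lit 4096) (Steps.fwd (nat_lit 24576) (Steps.bwd (nat_lit 1) Steps.nil))))))) (nat_lit 42) (nat_lit 3),
  Rule.mk (nat_lit 14) (nat_lit 118) (Steps.fwd (nat_lit 45056) (Steps.bwd (nat_lit 13) (Steps.fwd (nat_lit 36864) (Steps.bwd (nat_lit 14) (Steps.bwd (nat_lit 12) (Steps.fwd (nat_lit 57344) (Steps.bwd (nat_lit 10) Steps.nil))))))) (nat_lit 37) (nat_lit 1),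
  Rule.mk (nat_lit 1) (nat_lit 343) (Steps.bwd (nat_lit 1) (Steps.bwd (nat_lit 1) (Steps.bwd (nat_lit 1) (Steps.bwd (nat_lit 1) (Steps.bwd (nat_lit 1) (Steps.bwd (nat_lit 1) (Steps.bwd (nat_lit 1) (Steps.bwd (nat_lit 1) (Steps.bwd (nat_lit 1) (Steps.fwd (nat_lit 8192) (Steps.bwd (nat_lit 1) (Steps.bwd (nat_lit 1) (Steps.fwd (nat_lit 8192) (Steps.fwd (nat_lit 8192) (Steps.bwd (nat_lit 1) (Steps.fwd (nat_lit 8192) (Steps.fwd (nat_lit 8192) (Steps.bwd (nat_lit 1) (Steps.bwd (nat_lit 1) (Steps.fwd (nat_lit 8192) (Steps.bwd (nat_lit 1) (Steps.fwd (nat_lit 8192) Steps.nil)))))))))))))))))))))) (nat_lit 54) (nat_lit 0),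
  Rule.mk (nat_lit 0) (nat_lit 118) (Steps.fwd (nat_lit 4096) (Steps.fwd (nat_lit 4096) (Steps.fwd (nat_lit 12288) (Steps.bwd (nat_lit 7) (Steps.bwd (nat_lit 1) (Steps.fwd (nat_lit 12288) (Steps.fwd (nat_lit 4096) Steps.nil))))))) (nat_lit 28) (nat_lit 2),
  Rule.mk (nat_lit 8) (nat_lit 88) (Steps.bwd (nat_lit 2) (Steps.bwd (nat_lit 5) (Steps.bwd (nat_lit 9) (Steps.bwd (nat_lit 3) (Steps.fwd (nat_lit 4096) Steps.nil))))) (nat_lit 23) (nat_lit 0),
  Rule.mk (nat_lit 0) (nat_lit 118) (Steps.fwd (nat_lit 4096) (Steps.bwd (nat_lit 2) (Steps.fwd (nat_lit 4096) (Steps.fwd (nat_lit 12288) (Steps.fwd (nat_lit 32768) (Steps.fwd (nat_lit 8192) (Steps.fwd (nat_lit 12288) Steps.nil))))))) (nat_lit 28) (nat_lit 1),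
  Rule.mk (nat_lit 11) (nat_lit 103) (Steps.bwd (nat_lit 2) (Steps.fwd (nat_lit 16384) (Steps.fwd (nat_lit 40960) (Steps.bwd (nat_lit 7) (Steps.bwd (nat_lit 5) (Steps.bwd (nat_lit 13) Steps.nil)))))) (nat_lit 30) (nat_lit 1),
  Rule.mk (nat_lit 9) (nat_lit 118) (Steps.bwd (nat_lit 2) (Steps.bwd (nat_lit 6) (Steps.fwd (nat_lit 8192) (Steps.fwd (nat_lit 28672) (Steps.bwd (nat_lit 1) (Steps.bwd (nat_lit 1) (Steps.fwd (nat_lit 32768) Steps.nil))))))) (nat_lit 43) (nat_lit 6),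
  Rule.mk (nat_lit 11) (nat_lit 88) (Steps.fwd (nat_lit 53248) (Steps.fwd (nat_lit 45056) (Steps.bwd (nat_lit 13) (Steps.fwd (nat_lit 45056) (Steps.bwd (nat_lit 9) Steps.nil))))) (nat_lit 26) (nat_lit 4),
  Rule.mk (nat_lit 13) (nat_lit 103) (Steps.bwd (nat_lit 11) (Steps.fwd (nat_lit 4096) (Steps.fwd (nat_lit 16384) (Steps.bwd (nat_lit 9) (Steps.fwd (nat_lit 32768) (Steps.fwd (nat_lit 24576) Steps.nil)))))) (nat_lit 30) (nat_lit 0),
  Rule.mk (nat_lit 0) (nat_lit 88) (Steps.fwd (nat_lit 4096) (Steps.bwd (nat_lit 2) (Steps.bwd (nat_lit 6) (Steps.fwd (nat_lit 12288) (Steps.bwd (nat_lit 7) Steps.nil))))) (nat_lit 14) (nat_lit 2),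
  Rule.mk (nat_lit 8) (nat_lit 88) (Steps.bwd (nat_lit 2) (Steps.bwd (nat_lit 5) (Steps.fwd (nat_lit 40960) (Steps.fwd (nat_lit 16384) (Steps.bwd (nat_lit 2) Steps.nil))))) (nat_lit 23) (nat_lit 0),
  Rule.mk (nat_lit 9) (nat_lit 118) (Steps.bwd (nat_lit 2) (Steps.bwd (nat_lit 6) (Steps.bwd (nat_lit 1) (Steps.bwd (nat_lit 8) (Steps.bwd (nat_lit 1) (Steps.bwd (nat_lit 1) (Steps.fwd (nat_lit 32768) Steps.nil))))))) (nat_lit 43) (nat_lit 6),
  Rule.mk (nat_lit 8) (nat_lit 148) (Steps.bwd (nat_lit 9) (Steps.bwd (nat_lit 8) (Steps.fwd (nat_lit 40960) (Steps.fwd (nat_lit 28672) (Steps.fwd (nat_lit 40960) (Steps.fwd (nat_lit 28672) (Steps.bwd (nat_lit 9) (Steps.fwd (nat_lit 28672) (Steps.bwd (nat_lit 9) Steps.nil))))))))) (nat_lit 48) (nat_lit 1),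
  Rule.mk (nat_lit 5) (nat_lit 118) (Steps.fwd (nat_lit 8192) (Steps.fwd (nat_lit 36864) (Steps.bwd (nat_lit 8) (Steps.fwd (nat_lit 4096) (Steps.bwd (nat_lit 2) (Steps.bwd (nat_lit 7) (Steps.fwd (nat_lit 4096) Steps.nil))))))) (nat_lit 42) (nat_lit 1)]
noncomputable def R_59 : List (Rule) := [Rule.mk (nat_lit 12) (nat_lit 118) (Steps.bwd (nat_lit 5) (Steps.bwd (nat_lit 3) (Steps.fwd (nat_lit 4096) (Steps.fwd (nat_lit 4096) (Steps.fwd (nat_lit 32768) (Steps.bwd (nat_lit 9) (Steps.bwd (nat_lit 14) Steps.nil))))))) (nat_lit 33) (nat_lit 4),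
  Rule.mk (nat_lit 10) (nat_lit 88) (Steps.bwd (nat_lit 11) (Steps.bwd (nat_lit 14) (Steps.bwd (nat_lit 11) (Steps.fwd (nat_lit 57344) (Steps.bwd (nat_lit 12) Steps.nil))))) (nat_lit 27) (nat_lit 4),
  Rule.mk (nat_lit 13) (nat_lit 118) (Steps.bwd (nat_lit 10) (Steps.bwd (nat_lit 14) (Steps.fwd (nat_lit 45056) (Steps.fwd (nat_lit 57344) (Steps.bwd (nat_lit 10) (Steps.bwd (nat_lit 14) (Steps.bwd (nat_lit 12) Steps.nil))))))) (nat_lit 37) (nat_lit 3),
  Rule.mk (nat_lit 13) (nat_lit 88) (Steps.bwd (nat_lit 5) (Steps.bwd (nat_lit 9) (Steps.bwd (nat_lit 6) (Steps.fwd (nat_lit 53248) (Steps.bwd (nat_lit 12) Steps.nil))))) (nat_lit 24) (nat_lit 5),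
  Rule.mk (nat_lit 5) (nat_lit 118) (Steps.fwd (nat_lit 16384) (Steps.fwd (nat_lit 4096) (Steps.bwd (nat_lit 2) (Steps.bwd (nat_lit 7) (Steps.bwd (nat_lit 9) (Steps.fwd (nat_lit 53248) (Steps.bwd (nat_lit 12) Steps.nil))))))) (nat_lit 33) (nat_lit 5),
  Rule.mk (nat_lit 9) (nat_lit 118) (Steps.bwd (nat_lit 2) (Steps.bwd (nat_lit 6) (Steps.fwd (nat_lit 8192) (Steps.bwd (nat_lit 8) (Steps.bwd (nat_lit 1) (Steps.bwd (nat_lit 1) (Steps.fwd (nat_lit 32768) Steps.nil))))))) (nat_lit 43) (nat_lit 6),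
  Rule.mk (nat_lit 14) (nat_lit 88) (Steps.bwd (nat_lit 11) (Steps.fwd (nat_lit 57344) (Steps.fwd (nat_lit 24576) (Steps.bwd (nat_lit 10) (Steps.fwd (nat_lit 20480) Steps.nil))))) (nat_lit 25) (nat_lit 2),
  Rule.mk (nat_lit 6) (nat_lit 118) (Steps.bwd (nat_lit 11) (Steps.fwd (nat_lit 57344) (Steps.fwd (nat_lit 36864) (Steps.fwd (nat_lit 28672) (Steps.bwd (nat_lit 1) (Steps.fwd (nat_lit 8192) (Steps.fwd (nat_lit 12288) Steps.nil))))))) (nat_lit 32) (nat_lit 4),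
  Rule.mk (nat_lit 3) (nat_lit 148) (Steps.fwd (nat_lit 4096) (Steps.fwd (nat_lit 4096) (Steps.fwd (nat_lit 4096) (Steps.bwd (nat_lit 7) (Steps.fwd (nat_lit 36864) (Steps.bwd (nat_lit 8) (Steps.fwd (nat_lit 8192) (Steps.fwd (nat_lit 12288) (Steps.bwd (nat_lit 6) Steps.nil))))))))) (nat_lit 47) (nat_lit 6),
  Rule.mk (nat_lit 3) (nat_lit 148) (Steps.bwd (nat_lit 2) (Steps.fwd (nat_lit 32768) (Steps.bwd (nat_lit 9) (Steps.bwd (nat_lit 8) (Steps.fwd (nat_lit 8192) (Steps.fwd (nat_lit 8192) (Steps.fwd (nat_lit 8192) (Steps.bwd (nat_lit 4) (Steps.bwd (nat_lit 5) Steps.nil))))))))) (nat_lit 46) (nat_lit 7),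
  Rule.mk (nat_lit 8) (nat_lit 133) (Steps.bwd (nat_lit 3) (Steps.bwd (nat_lit 8) (Steps.bwd (nat_lit 3) (Steps.fwd (nat_lit 49152) (Steps.bwd (nat_lit 14) (Steps.bwd (nat_lit 12) (Steps.bwd (nat_lit 5) (Steps.fwd (nat_lit 36864) Steps.nil)))))))) (nat_lit 45) (nat_lit 6),
  Rule.mk (nat_lit 12) (nat_lit 103) (Steps.fwd (nat_lit 53248) (Steps.bwd (nat_lit 6) (Steps.bwd (nat_lit 8) (Steps.bwd (nat_lit 10) (Steps.fwd (nat_lit 12288) (Steps.bwd (nat_lit 1) Steps.nil)))))) (nat_lit 31) (nat_lit 0),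
  Rule.mk (nat_lit 9) (nat_lit 118) (Steps.bwd (nat_lit 2) (Steps.bwd (nat_lit 6) (Steps.fwd (nat_lit 8192) (Steps.bwd (nat_lit 8) (Steps.fwd (nat_lit 8192) (Steps.bwd (nat_lit 1) (Steps.bwd (nat_lit 7) Steps.nil))))))) (nat_lit 43) (nat_lit 6),
  Rule.mk (nat_lit 13) (nat_lit 118) (Steps.bwd (nat_lit 7) (Steps.bwd (nat_lit 9) (Steps.fwd (nat_lit 49152) (Steps.fwd (nat_lit 57344) (Steps.bwd (nat_lit 7) (Steps.bwd (nat_lit 9) (Steps.bwd (nat_lit 11) Steps.nil))))))) (nat_lit 41) (nat_lit 3),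
  Rule.mk (nat_lit 10) (nat_lit 88) (Steps.fwd (nat_lit 20480) (Steps.fwd (nat_lit 8192) (Steps.bwd (nat_lit 7) (Steps.fwd (nat_lit 8192) (Steps.bwd (nat_lit 4) Steps.nil))))) (nat_lit 22) (nat_lit 4),
  Rule.mk (nat_lit 2) (nat_lit 88) (Steps.bwd (nat_lit 10) (Steps.bwd (nat_lit 7) (Steps.bwd (nat_lit 9) (Steps.bwd (nat_lit 1) (Steps.fwd (nat_lit 12288) Steps.nil))))) (nat_lit 21) (nat_lit 0),
  Rule.mk (nat_lit 3) (nat_lit 103) (Steps.bwd (nat_lit 9) (Steps.bwd (nat_lit 7) (Steps.bwd (nat_lit 5) (Steps.fwd (nat_lit 57344) (Steps.fwd (nat_lit 49152) (Steps.fwd (nat_lit 4096) Steps.nil)))))) (nat_lit 30) (nat_lit 3),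
  Rule.mk (nat_lit 2) (nat_lit 88) (Steps.fwd (nat_lit 36864) (Steps.fwd (nat_lit 28672) (Steps.bwd (nat_lit 9) (Steps.bwd (nat_lit 1) (Steps.bwd (nat_lit 3) Steps.nil))))) (nat_lit 20) (nat_lit 3),
  Rule.mk (nat_lit 1) (nat_lit 103) (Steps.bwd (nat_lit 1) (Steps.fwd (nat_lit 8192) (Steps.fwd (nat_lit 16384) (Steps.fwd (nat_lit 4096) (Steps.fwd (nat_lit 28672) (Steps.bwd (nat_lit 3) Steps.nil)))))) (nat_lit 29) (nat_lit 4),
  Rule.mk (nat_lit 8) (nat_lit 133) (Steps.bwd (nat_lit 3) (Steps.bwd (nat_lit 11) (Steps.bwd (nat_lit 14) (Steps.bwd (nat_lit 12) (Steps.bwd (nat_lit 5) (Steps.fwd (nat_lit 36864) (Steps.fwd (nat_lit 28672) (Steps.bwd (nat_lit 3) Steps.nil)))))))) (nat_lit 45) (nat_lit 8),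
  Rule.mk (nat_lit 14) (nat_lit 118) (Steps.fwd (nat_lit 45056) (Steps.fwd (nat_lit 24576) (Steps.bwd (nat_lit 3) (Steps.fwd (nat_lit 4096) (Steps.bwd (nat_lit 2) (Steps.fwd (nat_lit 32768) (Steps.bwd (nat_lit 9) Steps.nil))))))) (nat_lit 33) (nat_lit 3),
  Rule.mk (nat_lit 13) (nat_lit 118) (Steps.bwd (nat_lit 10) (Steps.bwd (nat_lit 7) (Steps.bwd (nat_lit 9) (Steps.bwd (nat_lit 13) (Steps.fwd (nat_lit 36864) (Steps.fwd (nat_lit 32768) (Steps.bwd (nat_lit 9) Steps.nil))))))) (nat_lit 38) (nat_lit 1),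
  Rule.mk (nat_lit 11) (nat_lit 118) (Steps.bwd (nat_lit 13) (Steps.fwd (nat_lit 40960) (Steps.bwd (nat_lit 14) (Steps.bwd (nat_lit 11) (Steps.bwd (nat_lit 13) (Steps.bwd (nat_lit 9) (Steps.fwd (nat_lit 53248) Steps.nil))))))) (nat_lit 36) (nat_lit 3),
  Rule.mk (nat_lit 2) (nat_lit 118) (Steps.bwd (nat_lit 2) (Steps.fwd (nat_lit 32768) (Steps.fwd (nat_lit 4096) (Steps.bwd (nat_lit 5) (Steps.fwd (nat_lit 8192) (Steps.fwd (nat_lit 36864) (Steps.bwd (nat_lit 8) Steps.nil))))))) (nat_lit 42) (nat_lit 5),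
  Rule.mk (nat_lit 10) (nat_lit 88) (Steps.fwd (nat_lit 28672) (Steps.bwd (nat_lit 9) (Steps.bwd (nat_lit 1) (Steps.bwd (nat_lit 3) (Steps.bwd (nat_lit 2) Steps.nil))))) (nat_lit 20) (nat_lit 4),
  Rule.mk (nat_lit 11) (nat_lit 88) (Steps.bwd (nat_lit 13) (Steps.fwd (nat_lit 45056) (Steps.bwd (nat_lit 10) (Steps.fwd (nat_lit 49152) (Steps.bwd (nat_lit 14) Steps.nil))))) (nat_lit 27) (nat_lit 1),
  Rule.mk (nat_lit 8) (nat_lit 148) (Steps.bwd (nat_lit 9) (Steps.bwd (nat_lit 8) (Steps.fwd (nat_lit 40960) (Steps.fwd (nat_lit 28672) (Steps.fwd (nat_lit 40960) (Steps.fwd (nat_lit 28672) (Steps.fwd (nat_lit 40960) (Steps.fwd (nat_lit 28672) (Steps.fwd (nat_lit 40960) Steps.nil))))))))) (nat_lit 48) (nat_lit 1),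
  Rule.mk (nat_lit 1) (nat_lit 118) (Steps.fwd (nat_lit 8192) (Steps.bwd (nat_lit 4) (Steps.fwd (nat_lit 20480) (Steps.fwd (nat_lit 49152) (Steps.bwd (nat_lit 13) (Steps.bwd (nat_lit 10) (Steps.bwd (nat_lit 8) Steps.nil))))))) (nat_lit 32) (nat_lit 1),
  Rule.mk (nat_lit 9) (nat_lit 118) (Steps.bwd (nat_lit 14) (Steps.bwd (nat_lit 12) (Steps.bwd (nat_lit 5) (Steps.bwd (nat_lit 3) (Steps.fwd (nat_lit 4096) (Steps.fwd (nat_lit 4096) (Steps.fwd (nat_lit 32768) Steps.nil))))))) (nat_lit 33) (nat_lit 2),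
  Rule.mk (nat_lit 11) (nat_lit 133) (Steps.bwd (nat_lit 14) (Steps.bwd (nat_lit 12) (Steps.bwd (nat_lit 5) (Steps.fwd (nat_lit 36864) (Steps.fwd (nat_lit 28672) (Steps.fwd (nat_lit 16384) (Steps.bwd (nat_lit 8) (Steps.bwd (nat_lit 3) Steps.nil)))))))) (nat_lit 45) (nat_lit 1),
  Rule.mk (nat_lit 4) (nat_lit 148) (Steps.bwd (nat_lit 6) (Steps.bwd (nat_lit 14) (Steps.bwd (nat_lit 12) (Steps.fwd (nat_lit 24576) (Steps.fwd (nat_lit 49152) (Steps.fwd (nat_lit 57344) (Steps.fwd (nat_lit 16384) (Steps.bwd (nat_lit 2) (Steps.bwd (nat_lit 2) Steps.nil))))))))) (nat_lit 52) (nat_lit 4),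
  Rule.mk (nat_lit 12) (nat_lit 88) (Steps.bwd (nat_lit 10) (Steps.fwd (nat_lit 49152) (Steps.bwd (nat_lit 14) (Steps.fwd (nat_lit 49152) (Steps.bwd (nat_lit 13) Steps.nil))))) (nat_lit 27) (nat_lit 3),
  Rule.mk (nat_lit 5) (nat_lit 133) (Steps.fwd (nat_lit 36864) (Steps.fwd (nat_lit 28672) (Steps.fwd (nat_lit 16384) (Steps.fwd (nat_lit 28672) (Steps.fwd (nat_lit 16384) (Steps.bwd (nat_lit 11) (Steps.fwd (nat_lit 53248) (Steps.bwd (nat_lit 12) Steps.nil)))))))) (nat_lit 45) (nat_lit 4),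
  Rule.mk (nat_lit 1) (nat_lit 343) (Steps.bwd (nat_lit 1) (Steps.bwd (nat_lit 1) (Steps.bwd (nat_lit 1) (Steps.bwd (nat_lit 1) (Steps.bwd (nat_lit 1) (Steps.fwd (nat_lit 8192) (Steps.bwd (nat_lit 1) (Steps.fwd (nat_lit 8192) (Steps.bwd (nat_lit 1) (Steps.bwd (nat_lit 1) (Steps.fwd (nat_lit 8192) (Steps.bwd (nat_lit 1) (Steps.fwd (nat_lit 8192) (Steps.bwd (nat_lit 1) (Steps.bwd (nat_lit 1) (Steps.fwd (nat_lit 8192) (Steps.fwd (nat_lit 8192) (Steps.fwd (nat_lit 8192) (Steps.fwd (nat_lit 8192) (Steps.fwd (nat_lit 8192) (Steps.fwd (nat_lit 8192) (Steps.bwd (nat_lit 1) Steps.nil)))))))))))))))))))))) (nat_lit 54) (nat_lit 0),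
  Rule.mk (nat_lit 3) (nat_lit 103) (Steps.fwd (nat_lit 4096) (Steps.bwd (nat_lit 8) (Steps.fwd (nat_lit 16384) (Steps.fwd (nat_lit 8192) (Steps.bwd (nat_lit 1) (Steps.bwd (nat_lit 1) Steps.nil)))))) (nat_lit 29) (nat_lit 0),
  Rule.mk (nat_lit 3) (nat_lit 103) (Steps.bwd (nat_lit 2) (Steps.bwd (nat_lit 8) (Steps.fwd (nat_lit 16384) (Steps.bwd (nat_lit 1) (Steps.bwd (nat_lit 1) (Steps.bwd (nat_lit 1) Steps.nil)))))) (nat_lit 29) (nat_lit 0),
  Rule.mk (nat_lit 0) (nat_lit 118) (Steps.fwd (nat_lit 4096) (Steps.fwd (nat_lit 4096) (Steps.fwd (nat_lit 4096) (Steps.fwd (nat_lit 12288) (Steps.bwd (nat_lit 7) (Steps.fwd (nat_lit 8192) (Steps.bwd (nat_lit 4) Steps.nil))))))) (nat_lit 28) (nat_lit 1),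
  Rule.mk (nat_lit 10) (nat_lit 118) (Steps.bwd (nat_lit 8) (Steps.fwd (nat_lit 4096) (Steps.bwd (nat_lit 2) (Steps.bwd (nat_lit 7) (Steps.bwd (nat_lit 2) (Steps.bwd (nat_lit 5) (Steps.bwd (nat_lit 1) Steps.nil))))))) (nat_lit 42) (nat_lit 3),
  Rule.mk (nat_lit 7) (nat_lit 118) (Steps.bwd (nat_lit 9) (Steps.fwd (nat_lit 4096) (Steps.fwd (nat_lit 20480) (Steps.fwd (nat_lit 8192) (Steps.fwd (nat_lit 28672) (Steps.bwd (nat_lit 1) (Steps.bwd (nat_lit 1) Steps.nil))))))) (nat_lit 43) (nat_lit 5),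
  Rule.mk (nat_lit 6) (nat_lit 88) (Steps.bwd (nat_lit 1) (Steps.bwd (nat_lit 7) (Steps.bwd (nat_lit 1) (Steps.bwd (nat_lit 4) (Steps.bwd (nat_lit 10) Steps.nil))))) (nat_lit 22) (nat_lit 5),
  Rule.mk (nat_lit 3) (nat_lit 118) (Steps.bwd (nat_lit 2) (Steps.fwd (nat_lit 4096) (Steps.bwd (nat_lit 7) (Steps.bwd (nat_lit 9) (Steps.fwd (nat_lit 53248) (Steps.fwd (nat_lit 45056) (Steps.bwd (nat_lit 5) Steps.nil))))))) (nat_lit 33) (nat_lit 6),
  Rule.mk (nat_lit 13) (nat_lit 118) (Steps.bwd (nat_lit 7) (Steps.bwd (nat_lit 9) (Steps.fwd (nat_lit 49152) (Steps.bwd (nat_lit 13) (Steps.bwd (nat_lit 7) (Steps.fwd (nat_lit 40960) (Steps.bwd (nat_lit 11) Steps.nil))))))) (nat_lit 41) (nat_lit 3),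
  Rule.mk (nat_lit 3) (nat_lit 148) (Steps.fwd (nat_lit 4096) (Steps.bwd (nat_lit 2) (Steps.fwd (nat_lit 4096) (Steps.bwd (nat_lit 7) (Steps.fwd (nat_lit 36864) (Steps.bwd (nat_lit 8) (Steps.bwd (nat_lit 1) (Steps.fwd (nat_lit 12288) (Steps.fwd (nat_lit 20480) Steps.nil))))))))) (nat_lit 47) (nat_lit 6),
  Rule.mk (nat_lit 10) (nat_lit 88) (Steps.fwd (nat_lit 28672) (Steps.fwd (nat_lit 40960) (Steps.fwd (nat_lit 8192) (Steps.bwd (nat_lit 3) (Steps.fwd (nat_lit 4096) Steps.nil))))) (nat_lit 20) (nat_lit 4),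
  Rule.mk (nat_lit 8) (nat_lit 103) (Steps.fwd (nat_lit 16384) (Steps.bwd (nat_lit 1) (Steps.fwd (nat_lit 8192) (Steps.fwd (nat_lit 8192) (Steps.bwd (nat_lit 3) (Steps.fwd (nat_lit 4096) Steps.nil)))))) (nat_lit 29) (nat_lit 2),
  Rule.mk (nat_lit 9) (nat_lit 103) (Steps.fwd (nat_lit 32768) (Steps.bwd (nat_lit 5) (Steps.fwd (nat_lit 57344) (Steps.fwd (nat_lit 49152) (Steps.bwd (nat_lit 2) (Steps.bwd (nat_lit 3) Steps.nil)))))) (nat_lit 30) (nat_lit 4),
  Rule.mk (nat_lit 8) (nat_lit 133) (Steps.fwd (nat_lit 16384) (Steps.fwd (nat_lit 49152) (Steps.bwd (nat_lit 14) (Steps.bwd (nat_lit 12) (Steps.fwd (nat_lit 24576) (Steps.bwd (nat_lit 10) (Steps.fwd (nat_lit 28672) (Steps.bwd (nat_lit 3) Steps.nil)))))))) (nat_lit 45) (nat_lit 8),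
  Rule.mk (nat_lit 6) (nat_lit 118) (Steps.bwd (nat_lit 1) (Steps.bwd (nat_lit 8) (Steps.bwd (nat_lit 1) (Steps.bwd (nat_lit 1) (Steps.fwd (nat_lit 32768) (Steps.bwd (nat_lit 9) (Steps.fwd (nat_lit 4096) Steps.nil))))))) (nat_lit 43) (nat_lit 0),
  Rule.mk (nat_lit 11) (nat_lit 118) (Steps.fwd (nat_lit 57344) (Steps.bwd (nat_lit 10) (Steps.bwd (nat_lit 8) (Steps.bwd (nat_lit 1) (Steps.bwd (nat_lit 1) (Steps.bwd (nat_lit 4) (Steps.bwd (nat_lit 6) Steps.nil))))))) (nat_lit 32) (nat_lit 5),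
  Rule.mk (nat_lit 3) (nat_lit 148) (Steps.bwd (nat_lit 2) (Steps.fwd (nat_lit 4096) (Steps.bwd (nat_lit 2) (Steps.bwd (nat_lit 7) (Steps.fwd (nat_lit 36864) (Steps.fwd (nat_lit 28672) (Steps.bwd (nat_lit 1) (Steps.bwd (nat_lit 4) (Steps.bwd (nat_lit 6) Steps.nil))))))))) (nat_lit 47) (nat_lit 6),
  Rule.mk (nat_lit 14) (nat_lit 118) (Steps.fwd (nat_lit 45056) (Steps.bwd (nat_lit 10) (Steps.bwd (nat_lit 8) (Steps.bwd (nat_lit 14) (Steps.fwd (nat_lit 45056) (Steps.fwd (nat_lit 36864) (Steps.bwd (nat_lit 8) Steps.nil))))))) (nat_lit 40) (nat_lit 2),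
  Rule.mk (nat_lit 13) (nat_lit 88) (Steps.bwd (nat_lit 5) (Steps.fwd (nat_lit 36864) (Steps.fwd (nat_lit 20480) (Steps.bwd (nat_lit 14) (Steps.fwd (nat_lit 49152) Steps.nil))))) (nat_lit 25) (nat_lit 4),
  Rule.mk (nat_lit 12) (nat_lit 88) (Steps.bwd (nat_lit 13) (Steps.fwd (nat_lit 45056) (Steps.bwd (nat_lit 9) (Steps.fwd (nat_lit 49152) (Steps.fwd (nat_lit 53248) Steps.nil))))) (nat_lit 26) (nat_lit 0),
  Rule.mk (nat_lit 5) (nat_lit 103) (Steps.bwd (nat_lit 13) (Steps.bwd (nat_lit 11) (Steps.bwd (nat_lit 2) (Steps.fwd (nat_lit 16384) (Steps.fwd (nat_lit 40960) (Steps.bwd (nat_lit 7) Steps.nil)))))) (nat_lit 30) (nat_lit 6),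
  Rule.mk (nat_lit 14) (nat_lit 118) (Steps.fwd (nat_lit 49152) (Steps.fwd (nat_lit 57344) (Steps.bwd (nat_lit 9) (Steps.fwd (nat_lit 53248) (Steps.bwd (nat_lit 11) (Steps.bwd (nat_lit 13) (Steps.bwd (nat_lit 9) Steps.nil))))))) (nat_lit 36) (nat_lit 2),
  Rule.mk (nat_lit 8) (nat_lit 148) (Steps.bwd (nat_lit 9) (Steps.fwd (nat_lit 28672) (Steps.bwd (nat_lit 9) (Steps.bwd (nat_lit 8) (Steps.fwd (nat_lit 40960) (Steps.bwd (nat_lit 8) (Steps.bwd (nat_lit 9) (Steps.bwd (nat_lit 8) (Steps.bwd (nat_lit 9) Steps.nil))))))))) (nat_lit 48) (nat_lit 1),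
  Rule.mk (nat_lit 10) (nat_lit 73) (Steps.fwd (nat_lit 49152) (Steps.bwd (nat_lit 5) (Steps.fwd (nat_lit 49152) (Steps.bwd (nat_lit 5) Steps.nil)))) (nat_lit 18) (nat_lit 0),
  Rule.mk (nat_lit 13) (nat_lit 103) (Steps.fwd (nat_lit 49152) (Steps.bwd (nat_lit 2) (Steps.fwd (nat_lit 16384) (Steps.fwd (nat_lit 40960) (Steps.fwd (nat_lit 32768) (Steps.bwd (nat_lit 5) Steps.nil)))))) (nat_lit 30) (nat_lit 0),
  Rule.mk (nat_lit 3) (nat_lit 118) (Steps.fwd (nat_lit 20480) (Steps.fwd (nat_lit 49152) (Steps.bwd (nat_lit 5) (Steps.fwd (nat_lit 16384) (Steps.fwd (nat_lit 20480) (Steps.fwd (nat_lit 49152) (Steps.bwd (nat_lit 5) Steps.nil))))))) (nat_lit 34) (nat_lit 1),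
  Rule.mk (nat_lit 2) (nat_lit 103) (Steps.fwd (nat_lit 16384) (Steps.bwd (nat_lit 9) (Steps.fwd (nat_lit 32768) (Steps.bwd (nat_lit 5) (Steps.fwd (nat_lit 57344) (Steps.bwd (nat_lit 11) Steps.nil)))))) (nat_lit 30) (nat_lit 2),
  Rule.mk (nat_lit 4) (nat_lit 88) (Steps.bwd (nat_lit 2) (Steps.bwd (nat_lit 10) (Steps.bwd (nat_lit 7) (Steps.bwd (nat_lit 9) (Steps.fwd (nat_lit 8192) Steps.nil))))) (nat_lit 21) (nat_lit 5),
  Rule.mk (nat_lit 7) (nat_lit 118) (Steps.bwd (nat_lit 2) (Steps.bwd (nat_lit 5) (Steps.bwd (nat_lit 1) (Steps.fwd (nat_lit 36864) (Steps.fwd (nat_lit 28672) (Steps.fwd (nat_lit 4096) (Steps.bwd (nat_lit 2) Steps.nil))))))) (nat_lit 42) (nat_lit 7),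
  Rule.mk (nat_lit 9) (nat_lit 118) (Steps.bwd (nat_lit 14) (Steps.fwd (nat_lit 45056) (Steps.bwd (nat_lit 5) (Steps.fwd (nat_lit 16384) (Steps.fwd (nat_lit 4096) (Steps.bwd (nat_lit 2) (Steps.bwd (nat_lit 7) Steps.nil))))))) (nat_lit 33) (nat_lit 2),
  Rule.mk (nat_lit 10) (nat_lit 148) (Steps.fwd (nat_lit 28672) (Steps.fwd (nat_lit 8192) (Steps.bwd (nat_lit 4) (Steps.bwd (nat_lit 6) (Steps.fwd (nat_lit 16384) (Steps.fwd (nat_lit 4096) (Steps.fwd (nat_lit 4096) (Steps.bwd (nat_lit 2) (Steps.bwd (nat_lit 7) Steps.nil))))))))) (nat_lit 47) (nat_lit 1)]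
noncomputable def R_60 : List (Rule) := [Rule.mk (nat_lit 11) (nat_lit 118) (Steps.bwd (nat_lit 13) (Steps.bwd (nat_lit 9) (Steps.fwd (nat_lit 53248) (Steps.bwd (nat_lit 11) (Steps.fwd (nat_lit 57344) (Steps.fwd (nat_lit 40960) (Steps.fwd (nat_lit 53248) Steps.nil))))))) (nat_lit 36) (nat_lit 3),
  Rule.mk (nat_lit 9) (nat_lit 118) (Steps.bwd (nat_lit 14) (Steps.bwd (nat_lit 12) (Steps.fwd (nat_lit 24576) (Steps.bwd (nat_lit 3) (Steps.fwd (nat_lit 4096) (Steps.bwd (nat_lit 2) (Steps.bwd (nat_lit 7) Steps.nil))))))) (nat_lit 33) (nat_lit 2),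
  Rule.mk (nat_lit 8) (nat_lit 118) (Steps.bwd (nat_lit 1) (Steps.bwd (nat_lit 1) (Steps.fwd (nat_lit 12288) (Steps.bwd (nat_lit 6) (Steps.bwd (nat_lit 11) (Steps.fwd (nat_lit 57344) (Steps.bwd (nat_lit 10) Steps.nil))))))) (nat_lit 32) (nat_lit 0),
  Rule.mk (nat_lit 1) (nat_lit 118) (Steps.bwd (nat_lit 8) (Steps.bwd (nat_lit 1) (Steps.bwd (nat_lit 1) (Steps.fwd (nat_lit 32768) (Steps.bwd (nat_lit 9) (Steps.bwd (nat_lit 2) (Steps.fwd (nat_lit 20480) Steps.nil))))))) (nat_lit 43) (nat_lit 1),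
  Rule.mk (nat_lit 7) (nat_lit 133) (Steps.bwd (nat_lit 9) (Steps.bwd (nat_lit 6) (Steps.bwd (nat_lit 11) (Steps.bwd (nat_lit 13) (Steps.bwd (nat_lit 12) (Steps.bwd (nat_lit 4) (Steps.fwd (nat_lit 32768) (Steps.fwd (nat_lit 12288) Steps.nil)))))))) (nat_lit 44) (nat_lit 4),
  Rule.mk (nat_lit 0) (nat_lit 103) (Steps.fwd (nat_lit 36864) (Steps.fwd (nat_lit 28672) (Steps.bwd (nat_lit 9) (Steps.fwd (nat_lit 8192) (Steps.fwd (nat_lit 16384) (Steps.bwd (nat_lit 2) Steps.nil)))))) (nat_lit 20) (nat_lit 3),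
  Rule.mk (nat_lit 4) (nat_lit 133) (Steps.bwd (nat_lit 7) (Steps.bwd (nat_lit 9) (Steps.bwd (nat_lit 6) (Steps.fwd (nat_lit 49152) (Steps.fwd (nat_lit 57344) (Steps.fwd (nat_lit 45056) (Steps.fwd (nat_lit 12288) (Steps.bwd (nat_lit 7) Steps.nil)))))))) (nat_lit 44) (nat_lit 3),
  Rule.mk (nat_lit 10) (nat_lit 148) (Steps.fwd (nat_lit 32768) (Steps.fwd (nat_lit 36864) (Steps.fwd (nat_lit 32768) (Steps.fwd (nat_lit 36864) (Steps.bwd (nat_lit 7) (Steps.fwd (nat_lit 36864) (Steps.bwd (nat_lit 7) (Steps.fwd (nat_lit 36864) (Steps.bwd (nat_lit 7) Steps.nil))))))))) (nat_lit 49) (nat_lit 1),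
  Rule.mk (nat_lit 13) (nat_lit 118) (Steps.bwd (nat_lit 10) (Steps.bwd (nat_lit 14) (Steps.bwd (nat_lit 12) (Steps.fwd (nat_lit 57344) (Steps.fwd (nat_lit 36864) (Steps.bwd (nat_lit 14) (Steps.fwd (nat_lit 45056) Steps.nil))))))) (nat_lit 37) (nat_lit 3),
  Rule.mk (nat_lit 12) (nat_lit 148) (Steps.bwd (nat_lit 13) (Steps.bwd (nat_lit 12) (Steps.fwd (nat_lit 57344) (Steps.fwd (nat_lit 45056) (Steps.fwd (nat_lit 57344) (Steps.bwd (nat_lit 12) (Steps.bwd (nat_lit 13) (Steps.fwd (nat_lit 45056) (Steps.bwd (nat_lit 13) Steps.nil))))))))) (nat_lit 50) (nat_lit 1),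
  Rule.mk (nat_lit 13) (nat_lit 88) (Steps.bwd (nat_lit 12) (Steps.fwd (nat_lit 40960) (Steps.bwd (nat_lit 11) (Steps.fwd (nat_lit 53248) (Steps.fwd (nat_lit 45056) Steps.nil))))) (nat_lit 26) (nat_lit 1),
  Rule.mk (nat_lit 10) (nat_lit 118) (Steps.fwd (nat_lit 28672) (Steps.bwd (nat_lit 1) (Steps.bwd (nat_lit 1) (Steps.fwd (nat_lit 12288) (Steps.bwd (nat_lit 6) (Steps.bwd (nat_lit 11) (Steps.bwd (nat_lit 13) Steps.nil))))))) (nat_lit 32) (nat_lit 7),
  Rule.mk (nat_lit 9) (nat_lit 118) (Steps.bwd (nat_lit 14) (Steps.fwd (nat_lit 49152) (Steps.fwd (nat_lit 57344) (Steps.fwd (nat_lit 40960) (Steps.bwd (nat_lit 14) (Steps.bwd (nat_lit 11) (Steps.bwd (nat_lit 13) Steps.nil))))))) (nat_lit 36) (nat_lit 1),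
  Rule.mk (nat_lit 2) (nat_lit 73) (Steps.fwd (nat_lit 4096) (Steps.bwd (nat_lit 6) (Steps.fwd (nat_lit 12288) (Steps.bwd (nat_lit 7) Steps.nil)))) (nat_lit 14) (nat_lit 3),
  Rule.mk (nat_lit 1) (nat_lit 103) (Steps.fwd (nat_lit 12288) (Steps.fwd (nat_lit 4096) (Steps.fwd (nat_lit 4096) (Steps.bwd (nat_lit 2) (Steps.fwd (nat_lit 12288) (Steps.bwd (nat_lit 7) Steps.nil)))))) (nat_lit 28) (nat_lit 0),
  Rule.mk (nat_lit 4) (nat_lit 133) (Steps.fwd (nat_lit 32768) (Steps.fwd (nat_lit 40960) (Steps.bwd (nat_lit 6) (Steps.bwd (nat_lit 11) (Steps.fwd (nat_lit 57344) (Steps.fwd (nat_lit 45056) (Steps.fwd (nat_lit 12288) (Steps.bwd (nat_lit 7) Steps.nil)))))))) (nat_lit 44) (nat_lit 3),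
  Rule.mk (nat_lit 13) (nat_lit 148) (Steps.bwd (nat_lit 12) (Steps.fwd (nat_lit 57344) (Steps.fwd (nat_lit 45056) (Steps.fwd (nat_lit 57344) (Steps.fwd (nat_lit 45056) (Steps.fwd (nat_lit 57344) (Steps.fwd (nat_lit 45056) (Steps.fwd (nat_lit 57344) (Steps.fwd (nat_lit 45056) Steps.nil))))))))) (nat_lit 50) (nat_lit 0),
  Rule.mk (nat_lit 10) (nat_lit 118) (Steps.bwd (nat_lit 8) (Steps.bwd (nat_lit 1) (Steps.bwd (nat_lit 1) (Steps.fwd (nat_lit 12288) (Steps.fwd (nat_lit 20480) (Steps.fwd (nat_lit 49152) (Steps.bwd (nat_lit 13) Steps.nil))))))) (nat_lit 32) (nat_lit 7),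
  Rule.mk (nat_lit 7) (nat_lit 118) (Steps.bwd (nat_lit 9) (Steps.bwd (nat_lit 11) (Steps.bwd (nat_lit 13) (Steps.fwd (nat_lit 32768) (Steps.fwd (nat_lit 40960) (Steps.fwd (nat_lit 49152) (Steps.bwd (nat_lit 13) Steps.nil))))))) (nat_lit 41) (nat_lit 0),
  Rule.mk (nat_lit 2) (nat_lit 103) (Steps.bwd (nat_lit 2) (Steps.fwd (nat_lit 12288) (Steps.fwd (nat_lit 32768) (Steps.fwd (nat_lit 8192) (Steps.bwd (nat_lit 4) (Steps.fwd (nat_lit 4096) Steps.nil)))))) (nat_lit 28) (nat_lit 3),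
  Rule.mk (nat_lit 13) (nat_lit 118) (Steps.bwd (nat_lit 7) (Steps.bwd (nat_lit 9) (Steps.fwd (nat_lit 49152) (Steps.bwd (nat_lit 13) (Steps.bwd (nat_lit 7) (Steps.fwd (nat_lit 40960) (Steps.fwd (nat_lit 49152) Steps.nil))))))) (nat_lit 41) (nat_lit 3),
  Rule.mk (nat_lit 10) (nat_lit 118) (Steps.fwd (nat_lit 28672) (Steps.bwd (nat_lit 1) (Steps.bwd (nat_lit 1) (Steps.fwd (nat_lit 12288) (Steps.fwd (nat_lit 20480) (Steps.fwd (nat_lit 49152) (Steps.bwd (nat_lit 13) Steps.nil))))))) (nat_lit 32) (nat_lit 7),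
  Rule.mk (nat_lit 9) (nat_lit 148) (Steps.bwd (nat_lit 8) (Steps.fwd (nat_lit 40960) (Steps.fwd (nat_lit 28672) (Steps.fwd (nat_lit 40960) (Steps.fwd (nat_lit 28672) (Steps.fwd (nat_lit 40960) (Steps.fwd (nat_lit 28672) (Steps.fwd (nat_lit 40960) (Steps.bwd (nat_lit 8) Steps.nil))))))))) (nat_lit 48) (nat_lit 0),
  Rule.mk (nat_lit 7) (nat_lit 103) (Steps.fwd (nat_lit 24576) (Steps.bwd (nat_lit 13) (Steps.fwd (nat_lit 49152) (Steps.bwd (nat_lit 2) (Steps.fwd (nat_lit 16384) (Steps.bwd (nat_lit 9) Steps.nil)))))) (nat_lit 30) (nat_lit 5),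
  Rule.mk (nat_lit 14) (nat_lit 118) (Steps.fwd (nat_lit 49152) (Steps.bwd (nat_lit 13) (Steps.bwd (nat_lit 9) (Steps.fwd (nat_lit 53248) (Steps.fwd (nat_lit 49152) (Steps.fwd (nat_lit 57344) (Steps.bwd (nat_lit 9) Steps.nil))))))) (nat_lit 36) (nat_lit 2),
  Rule.mk (nat_lit 2) (nat_lit 103) (Steps.bwd (nat_lit 3) (Steps.fwd (nat_lit 40960) (Steps.fwd (nat_lit 32768) (Steps.bwd (nat_lit 5) (Steps.fwd (nat_lit 57344) (Steps.bwd (nat_lit 11) Steps.nil)))))) (nat_lit 30) (nat_lit 2),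
  Rule.mk (nat_lit 12) (nat_lit 148) (Steps.bwd (nat_lit 13) (Steps.bwd (nat_lit 12) (Steps.bwd (nat_lit 13) (Steps.fwd (nat_lit 45056) (Steps.fwd (nat_lit 57344) (Steps.fwd (nat_lit 45056) (Steps.bwd (nat_lit 13) (Steps.bwd (nat_lit 12) (Steps.fwd (nat_lit 57344) Steps.nil))))))))) (nat_lit 50) (nat_lit 1),
  Rule.mk (nat_lit 14) (nat_lit 103) (Steps.fwd (nat_lit 20480) (Steps.fwd (nat_lit 28672) (Steps.bwd (nat_lit 10) (Steps.fwd (nat_lit 12288) (Steps.fwd (nat_lit 8192) (Steps.bwd (nat_lit 12) Steps.nil)))))) (nat_lit 31) (nat_lit 1),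
  Rule.mk (nat_lit 5) (nat_lit 118) (Steps.fwd (nat_lit 16384) (Steps.fwd (nat_lit 4096) (Steps.bwd (nat_lit 2) (Steps.bwd (nat_lit 7) (Steps.fwd (nat_lit 40960) (Steps.fwd (nat_lit 53248) (Steps.bwd (nat_lit 12) Steps.nil))))))) (nat_lit 33) (nat_lit 5),
  Rule.mk (nat_lit 4) (nat_lit 148) (Steps.bwd (nat_lit 5) (Steps.fwd (nat_lit 16384) (Steps.fwd (nat_lit 4096) (Steps.fwd (nat_lit 32768) (Steps.bwd (nat_lit 9) (Steps.bwd (nat_lit 8) (Steps.bwd (nat_lit 1) (Steps.bwd (nat_lit 1) (Steps.bwd (nat_lit 1) Steps.nil))))))))) (nat_lit 46) (nat_lit 5),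
  Rule.mk (nat_lit 3) (nat_lit 118) (Steps.fwd (nat_lit 20480) (Steps.bwd (nat_lit 11) (Steps.bwd (nat_lit 5) (Steps.fwd (nat_lit 16384) (Steps.bwd (nat_lit 6) (Steps.fwd (nat_lit 49152) (Steps.bwd (nat_lit 5) Steps.nil))))))) (nat_lit 34) (nat_lit 1),
  Rule.mk (nat_lit 2) (nat_lit 103) (Steps.bwd (nat_lit 2) (Steps.bwd (nat_lit 2) (Steps.fwd (nat_lit 12288) (Steps.fwd (nat_lit 32768) (Steps.bwd (nat_lit 1) (Steps.bwd (nat_lit 4) Steps.nil)))))) (nat_lit 28) (nat_lit 2),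
  Rule.mk (nat_lit 10) (nat_lit 88) (Steps.fwd (nat_lit 28672) (Steps.fwd (nat_lit 40960) (Steps.bwd (nat_lit 1) (Steps.bwd (nat_lit 3) (Steps.bwd (nat_lit 2) Steps.nil))))) (nat_lit 20) (nat_lit 4),
  Rule.mk (nat_lit 7) (nat_lit 148) (Steps.bwd (nat_lit 10) (Steps.bwd (nat_lit 8) (Steps.fwd (nat_lit 8192) (Steps.bwd (nat_lit 4) (Steps.bwd (nat_lit 6) (Steps.fwd (nat_lit 16384) (Steps.bwd (nat_lit 2) (Steps.fwd (nat_lit 4096) (Steps.bwd (nat_lit 2) Steps.nil))))))))) (nat_lit 47) (nat_lit 0),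
  Rule.mk (nat_lit 4) (nat_lit 148) (Steps.bwd (nat_lit 6) (Steps.fwd (nat_lit 53248) (Steps.fwd (nat_lit 45056) (Steps.fwd (nat_lit 24576) (Steps.fwd (nat_lit 49152) (Steps.fwd (nat_lit 57344) (Steps.bwd (nat_lit 3) (Steps.fwd (nat_lit 4096) (Steps.bwd (nat_lit 2) Steps.nil))))))))) (nat_lit 52) (nat_lit 4),
  Rule.mk (nat_lit 12) (nat_lit 88) (Steps.bwd (nat_lit 13) (Steps.fwd (nat_lit 24576) (Steps.bwd (nat_lit 9) (Steps.fwd (nat_lit 20480) (Steps.bwd (nat_lit 14) Steps.nil))))) (nat_lit 24) (nat_lit 4),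
  Rule.mk (nat_lit 13) (nat_lit 118) (Steps.bwd (nat_lit 10) (Steps.fwd (nat_lit 28672) (Steps.bwd (nat_lit 1) (Steps.bwd (nat_lit 1) (Steps.fwd (nat_lit 12288) (Steps.fwd (nat_lit 20480) (Steps.bwd (nat_lit 11) Steps.nil))))))) (nat_lit 32) (nat_lit 6),
  Rule.mk (nat_lit 12) (nat_lit 88) (Steps.fwd (nat_lit 40960) (Steps.fwd (nat_lit 49152) (Steps.fwd (nat_lit 53248) (Steps.fwd (nat_lit 45056) (Steps.bwd (nat_lit 13) Steps.nil))))) (nat_lit 26) (nat_lit 2),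
  Rule.mk (nat_lit 11) (nat_lit 103) (Steps.fwd (nat_lit 4096) (Steps.bwd (nat_lit 3) (Steps.bwd (nat_lit 9) (Steps.bwd (nat_lit 7) (Steps.bwd (nat_lit 5) (Steps.bwd (nat_lit 13) Steps.nil)))))) (nat_lit 30) (nat_lit 1),
  Rule.mk (nat_lit 7) (nat_lit 118) (Steps.fwd (nat_lit 40960) (Steps.fwd (nat_lit 49152) (Steps.bwd (nat_lit 13) (Steps.bwd (nat_lit 7) (Steps.bwd (nat_lit 9) (Steps.bwd (nat_lit 11) (Steps.bwd (nat_lit 13) Steps.nil))))))) (nat_lit 41) (nat_lit 0),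
  Rule.mk (nat_lit 2) (nat_lit 118) (Steps.bwd (nat_lit 7) (Steps.fwd (nat_lit 40960) (Steps.bwd (nat_lit 14) (Steps.fwd (nat_lit 45056) (Steps.fwd (nat_lit 24576) (Steps.bwd (nat_lit 3) (Steps.bwd (nat_lit 2) Steps.nil))))))) (nat_lit 33) (nat_lit 0),
  Rule.mk (nat_lit 10) (nat_lit 118) (Steps.bwd (nat_lit 7) (Steps.fwd (nat_lit 40960) (Steps.bwd (nat_lit 13) (Steps.bwd (nat_lit 10) (Steps.bwd (nat_lit 7) (Steps.bwd (nat_lit 9) (Steps.fwd (nat_lit 57344) Steps.nil))))))) (nat_lit 38) (nat_lit 2),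
  Rule.mk (nat_lit 6) (nat_lit 88) (Steps.fwd (nat_lit 8192) (Steps.bwd (nat_lit 7) (Steps.bwd (nat_lit 1) (Steps.bwd (nat_lit 4) (Steps.bwd (nat_lit 10) Steps.nil))))) (nat_lit 22) (nat_lit 5),
  Rule.mk (nat_lit 4) (nat_lit 103) (Steps.bwd (nat_lit 1) (Steps.fwd (nat_lit 45056) (Steps.bwd (nat_lit 14) (Steps.bwd (nat_lit 6) (Steps.fwd (nat_lit 28672) (Steps.bwd (nat_lit 10) Steps.nil)))))) (nat_lit 31) (nat_lit 5),
  Rule.mk (nat_lit 6) (nat_lit 118) (Steps.bwd (nat_lit 11) (Steps.bwd (nat_lit 5) (Steps.bwd (nat_lit 3) (Steps.fwd (nat_lit 20480) (Steps.fwd (nat_lit 49152) (Steps.fwd (nat_lit 24576) (Steps.fwd (nat_lit 16384) Steps.nil))))))) (nat_lit 34) (nat_lit 2),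
  Rule.mk (nat_lit 1) (nat_lit 88) (Steps.fwd (nat_lit 32768) (Steps.fwd (nat_lit 8192) (Steps.bwd (nat_lit 4) (Steps.fwd (nat_lit 36864) (Steps.bwd (nat_lit 6) Steps.nil))))) (nat_lit 22) (nat_lit 0),
  Rule.mk (nat_lit 3) (nat_lit 88) (Steps.fwd (nat_lit 4096) (Steps.fwd (nat_lit 36864) (Steps.fwd (nat_lit 28672) (Steps.fwd (nat_lit 40960) (Steps.bwd (nat_lit 1) Steps.nil))))) (nat_lit 20) (nat_lit 2),
  Rule.mk (nat_lit 0) (nat_lit 118) (Steps.fwd (nat_lit 45056) (Steps.bwd (nat_lit 14) (Steps.fwd (nat_lit 20480) (Steps.bwd (nat_lit 8) (Steps.fwd (nat_lit 36864) (Steps.fwd (nat_lit 12288) (Steps.fwd (nat_lit 8192) Steps.nil))))))) (nat_lit 31) (nat_lit 6),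
  Rule.mk (nat_lit 3) (nat_lit 58) (Steps.bwd (nat_lit 6) (Steps.fwd (nat_lit 12288) (Steps.fwd (nat_lit 57344) Steps.nil))) (nat_lit 13) (nat_lit 2),
  Rule.mk (nat_lit 14) (nat_lit 103) (Steps.bwd (nat_lit 6) (Steps.fwd (nat_lit 28672) (Steps.bwd (nat_lit 10) (Steps.bwd (nat_lit 4) (Steps.bwd (nat_lit 1) (Steps.fwd (nat_lit 45056) Steps.nil)))))) (nat_lit 31) (nat_lit 1),
  Rule.mk (nat_lit 2) (nat_lit 88) (Steps.fwd (nat_lit 36864) (Steps.bwd (nat_lit 8) (Steps.fwd (nat_lit 40960) (Steps.bwd (nat_lit 1) (Steps.bwd (nat_lit 3) Steps.nil))))) (nat_lit 20) (nat_lit 3),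
  Rule.mk (nat_lit 8) (nat_lit 133) (Steps.bwd (nat_lit 3) (Steps.fwd (nat_lit 49152) (Steps.bwd (nat_lit 14) (Steps.fwd (nat_lit 45056) (Steps.bwd (nat_lit 5) (Steps.fwd (nat_lit 36864) (Steps.fwd (nat_lit 28672) (Steps.bwd (nat_lit 3) Steps.nil)))))))) (nat_lit 45) (nat_lit 8),
  Rule.mk (nat_lit 13) (nat_lit 118) (Steps.bwd (nat_lit 9) (Steps.bwd (nat_lit 14) (Steps.bwd (nat_lit 11) (Steps.bwd (nat_lit 13) (Steps.fwd (nat_lit 40960) (Steps.bwd (nat_lit 14) (Steps.fwd (nat_lit 49152) Steps.nil))))))) (nat_lit 36) (nat_lit 0),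
  Rule.mk (nat_lit 10) (nat_lit 118) (Steps.bwd (nat_lit 8) (Steps.fwd (nat_lit 8192) (Steps.bwd (nat_lit 1) (Steps.bwd (nat_lit 4) (Steps.bwd (nat_lit 6) (Steps.fwd (nat_lit 49152) (Steps.bwd (nat_lit 13) Steps.nil))))))) (nat_lit 32) (nat_lit 7),
  Rule.mk (nat_lit 7) (nat_lit 148) (Steps.bwd (nat_lit 10) (Steps.bwd (nat_lit 8) (Steps.fwd (nat_lit 8192) (Steps.bwd (nat_lit 4) (Steps.bwd (nat_lit 6) (Steps.fwd (nat_lit 16384) (Steps.fwd (nat_lit 4096) (Steps.fwd (nat_lit 4096) (Steps.fwd (nat_lit 4096) Steps.nil))))))))) (nat_lit 47) (nat_lit 0),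
  Rule.mk (nat_lit 14) (nat_lit 118) (Steps.bwd (nat_lit 10) (Steps.bwd (nat_lit 8) (Steps.bwd (nat_lit 9) (Steps.fwd (nat_lit 53248) (Steps.bwd (nat_lit 10) (Steps.bwd (nat_lit 8) (Steps.bwd (nat_lit 9) Steps.nil))))))) (nat_lit 39) (nat_lit 0),
  Rule.mk (nat_lit 11) (nat_lit 118) (Steps.bwd (nat_lit 13) (Steps.bwd (nat_lit 7) (Steps.fwd (nat_lit 40960) (Steps.fwd (nat_lit 49152) (Steps.fwd (nat_lit 57344) (Steps.bwd (nat_lit 7) (Steps.bwd (nat_lit 9) Steps.nil))))))) (nat_lit 41) (nat_lit 2),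
  Rule.mk (nat_lit 8) (nat_lit 148) (Steps.bwd (nat_lit 1) (Steps.fwd (nat_lit 8192) (Steps.bwd (nat_lit 1) (Steps.bwd (nat_lit 4) (Steps.fwd (nat_lit 24576) (Steps.fwd (nat_lit 16384) (Steps.fwd (nat_lit 4096) (Steps.bwd (nat_lit 7) (Steps.bwd (nat_lit 9) Steps.nil))))))))) (nat_lit 46) (nat_lit 1),
  Rule.mk (nat_lit 6) (nat_lit 103) (Steps.bwd (nat_lit 8) (Steps.fwd (nat_lit 36864) (Steps.fwd (nat_lit 12288) (Steps.fwd (nat_lit 8192) (Steps.fwd (nat_lit 45056) (Steps.bwd (nat_lit 14) Steps.nil)))))) (nat_lit 31) (nat_lit 2),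
  Rule.mk (nat_lit 8) (nat_lit 148) (Steps.bwd (nat_lit 9) (Steps.fwd (nat_lit 28672) (Steps.fwd (nat_lit 40960) (Steps.fwd (nat_lit 28672) (Steps.fwd (nat_lit 40960) (Steps.fwd (nat_lit 28672) (Steps.fwd (nat_lit 40960) (Steps.fwd (nat_lit 28672) (Steps.bwd (nat_lit 9) Steps.nil))))))))) (nat_lit 48) (nat_lit 1),
  Rule.mk (nat_lit 3) (nat_lit 88) (Steps.bwd (nat_lit 2) (Steps.fwd (nat_lit 28672) (Steps.fwd (nat_lit 4096) (Steps.fwd (nat_lit 24576) (Steps.fwd (nat_lit 40960) Steps.nil))))) (nat_lit 23) (nat_lit 4),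
  Rule.mk (nat_lit 10) (nat_lit 118) (Steps.bwd (nat_lit 14) (Steps.fwd (nat_lit 45056) (Steps.bwd (nat_lit 13) (Steps.fwd (nat_lit 36864) (Steps.bwd (nat_lit 14) (Steps.fwd (nat_lit 45056) (Steps.bwd (nat_lit 13) Steps.nil))))))) (nat_lit 37) (nat_lit 0),
  Rule.mk (nat_lit 9) (nat_lit 118) (Steps.bwd (nat_lit 13) (Steps.bwd (nat_lit 10) (Steps.fwd (nat_lit 32768) (Steps.fwd (nat_lit 40960) (Steps.bwd (nat_lit 13) (Steps.bwd (nat_lit 10) (Steps.fwd (nat_lit 32768) Steps.nil))))))) (nat_lit 38) (nat_lit 0),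
  Rule.mk (nat_lit 2) (nat_lit 118) (Steps.bwd (nat_lit 6) (Steps.fwd (nat_lit 8192) (Steps.fwd (nat_lit 28672) (Steps.fwd (nat_lit 8192) (Steps.bwd (nat_lit 1) (Steps.fwd (nat_lit 32768) (Steps.bwd (nat_lit 9) Steps.nil))))))) (nat_lit 43) (nat_lit 7)]
noncomputable def R_61 : List (Rule) := [Rule.mk (nat_lit 1) (nat_lit 88) (Steps.fwd (nat_lit 12288) (Steps.bwd (nat_lit 2) (Steps.fwd (nat_lit 36864) (Steps.bwd (nat_lit 7) (Steps.bwd (nat_lit 9) Steps.nil))))) (nat_lit 21) (nat_lit 4),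
  Rule.mk (nat_lit 7) (nat_lit 103) (Steps.bwd (nat_lit 5) (Steps.bwd (nat_lit 13) (Steps.fwd (nat_lit 49152) (Steps.fwd (nat_lit 4096) (Steps.bwd (nat_lit 3) (Steps.bwd (nat_lit 9) Steps.nil)))))) (nat_lit 30) (nat_lit 5),
  Rule.mk (nat_lit 14) (nat_lit 118) (Steps.fwd (nat_lit 45056) (Steps.bwd (nat_lit 5) (Steps.fwd (nat_lit 16384) (Steps.bwd (nat_lit 2) (Steps.fwd (nat_lit 4096) (Steps.bwd (nat_lit 7) (Steps.bwd (nat_lit 9) Steps.nil))))))) (nat_lit 33) (nat_lit 3),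
  Rule.mk (nat_lit 13) (nat_lit 118) (Steps.bwd (nat_lit 10) (Steps.bwd (nat_lit 7) (Steps.fwd (nat_lit 40960) (Steps.fwd (nat_lit 57344) (Steps.fwd (nat_lit 36864) (Steps.bwd (nat_lit 7) (Steps.bwd (nat_lit 9) Steps.nil))))))) (nat_lit 38) (nat_lit 1),
  Rule.mk (nat_lit 8) (nat_lit 148) (Steps.bwd (nat_lit 1) (Steps.bwd (nat_lit 1) (Steps.bwd (nat_lit 1) (Steps.bwd (nat_lit 4) (Steps.fwd (nat_lit 24576) (Steps.fwd (nat_lit 16384) (Steps.fwd (nat_lit 4096) (Steps.bwd (nat_lit 7) (Steps.bwd (nat_lit 9) Steps.nil))))))))) (nat_lit 46) (nat_lit 1),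
  Rule.mk (nat_lit 6) (nat_lit 103) (Steps.bwd (nat_lit 8) (Steps.bwd (nat_lit 10) (Steps.fwd (nat_lit 12288) (Steps.bwd (nat_lit 1) (Steps.bwd (nat_lit 12) (Steps.bwd (nat_lit 14) Steps.nil)))))) (nat_lit 31) (nat_lit 2),
  Rule.mk (nat_lit 3) (nat_lit 133) (Steps.bwd (nat_lit 8) (Steps.bwd (nat_lit 3) (Steps.bwd (nat_lit 11) (Steps.fwd (nat_lit 53248) (Steps.fwd (nat_lit 45056) (Steps.bwd (nat_lit 5) (Steps.bwd (nat_lit 10) (Steps.fwd (nat_lit 28672) Steps.nil)))))))) (nat_lit 45) (nat_lit 7),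
  Rule.mk (nat_lit 13) (nat_lit 88) (Steps.fwd (nat_lit 24576) (Steps.fwd (nat_lit 36864) (Steps.bwd (nat_lit 6) (Steps.fwd (nat_lit 53248) (Steps.bwd (nat_lit 11) Steps.nil))))) (nat_lit 25) (nat_lit 4),
  Rule.mk (nat_lit 14) (nat_lit 88) (Steps.bwd (nat_lit 12) (Steps.fwd (nat_lit 57344) (Steps.fwd (nat_lit 45056) (Steps.fwd (nat_lit 40960) (Steps.bwd (nat_lit 11) Steps.nil))))) (nat_lit 26) (nat_lit 5),
  Rule.mk (nat_lit 8) (nat_lit 118) (Steps.bwd (nat_lit 14) (Steps.bwd (nat_lit 12) (Steps.fwd (nat_lit 36864) (Steps.fwd (nat_lit 28672) (Steps.fwd (nat_lit 53248) (Steps.bwd (nat_lit 12) (Steps.bwd (nat_lit 10) Steps.nil))))))) (nat_lit 40) (nat_lit 1),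
  Rule.mk (nat_lit 1) (nat_lit 118) (Steps.bwd (nat_lit 1) (Steps.bwd (nat_lit 4) (Steps.fwd (nat_lit 20480) (Steps.bwd (nat_lit 11) (Steps.bwd (nat_lit 13) (Steps.bwd (nat_lit 10) (Steps.bwd (nat_lit 8) Steps.nil))))))) (nat_lit 32) (nat_lit 1),
  Rule.mk (nat_lit 3) (nat_lit 148) (Steps.bwd (nat_lit 1) (Steps.bwd (nat_lit 1) (Steps.bwd (nat_lit 4) (Steps.fwd (nat_lit 53248) (Steps.bwd (nat_lit 12) (Steps.fwd (nat_lit 20480) (Steps.bwd (nat_lit 11) (Steps.bwd (nat_lit 13) (Steps.fwd (nat_lit 24576) Steps.nil))))))))) (nat_lit 53) (nat_lit 7),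
  Rule.mk (nat_lit 12) (nat_lit 103) (Steps.bwd (nat_lit 14) (Steps.fwd (nat_lit 20480) (Steps.bwd (nat_lit 8) (Steps.fwd (nat_lit 36864) (Steps.bwd (nat_lit 4) (Steps.bwd (nat_lit 1) Steps.nil)))))) (nat_lit 31) (nat_lit 0),
  Rule.mk (nat_lit 5) (nat_lit 73) (Steps.bwd (nat_lit 12) (Steps.fwd (nat_lit 32768) (Steps.bwd (nat_lit 3) (Steps.fwd (nat_lit 57344) Steps.nil)))) (nat_lit 17) (nat_lit 2),
  Rule.mk (nat_lit 14) (nat_lit 88) (Steps.bwd (nat_lit 12) (Steps.fwd (nat_lit 57344) (Steps.fwd (nat_lit 45056) (Steps.fwd (nat_lit 40960) (Steps.fwd (nat_lit 49152) Steps.nil))))) (nat_lit 26) (nat_lit 5),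
  Rule.mk (nat_lit 10) (nat_lit 118) (Steps.fwd (nat_lit 28672) (Steps.bwd (nat_lit 1) (Steps.bwd (nat_lit 1) (Steps.bwd (nat_lit 4) (Steps.bwd (nat_lit 6) (Steps.bwd (nat_lit 11) (Steps.bwd (nat_lit 13) Steps.nil))))))) (nat_lit 32) (nat_lit 7),
  Rule.mk (nat_lit 9) (nat_lit 118) (Steps.fwd (nat_lit 53248) (Steps.bwd (nat_lit 11) (Steps.bwd (nat_lit 13) (Steps.bwd (nat_lit 9) (Steps.fwd (nat_lit 53248) (Steps.bwd (nat_lit 11) (Steps.bwd (nat_lit 13) Steps.nil))))))) (nat_lit 36) (nat_lit 1),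
  Rule.mk (nat_lit 2) (nat_lit 73) (Steps.bwd (nat_lit 6) (Steps.fwd (nat_lit 12288) (Steps.fwd (nat_lit 32768) (Steps.fwd (nat_lit 4096) Steps.nil)))) (nat_lit 14) (nat_lit 4),
  Rule.mk (nat_lit 12) (nat_lit 88) (Steps.bwd (nat_lit 9) (Steps.fwd (nat_lit 49152) (Steps.fwd (nat_lit 53248) (Steps.fwd (nat_lit 45056) (Steps.fwd (nat_lit 57344) Steps.nil))))) (nat_lit 26) (nat_lit 2),
  Rule.mk (nat_lit 10) (nat_lit 88) (Steps.bwd (nat_lit 11) (Steps.fwd (nat_lit 53248) (Steps.bwd (nat_lit 11) (Steps.fwd (nat_lit 57344) (Steps.bwd (nat_lit 12) Steps.nil))))) (nat_lit 27) (nat_lit 4),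
  Rule.mk (nat_lit 5) (nat_lit 118) (Steps.bwd (nat_lit 3) (Steps.bwd (nat_lit 2) (Steps.fwd (nat_lit 4096) (Steps.bwd (nat_lit 7) (Steps.fwd (nat_lit 40960) (Steps.bwd (nat_lit 14) (Steps.bwd (nat_lit 12) Steps.nil))))))) (nat_lit 33) (nat_lit 5),
  Rule.mk (nat_lit 1) (nat_lit 88) (Steps.bwd (nat_lit 4) (Steps.fwd (nat_lit 36864) (Steps.fwd (nat_lit 20480) (Steps.bwd (nat_lit 1) (Steps.bwd (nat_lit 7) Steps.nil))))) (nat_lit 22) (nat_lit 2),
  Rule.mk (nat_lit 3) (nat_lit 103) (Steps.bwd (nat_lit 9) (Steps.fwd (nat_lit 32768) (Steps.bwd (nat_lit 5) (Steps.fwd (nat_lit 57344) (Steps.bwd (nat_lit 11) (Steps.bwd (nat_lit 2) Steps.nil)))))) (nat_lit 30) (nat_lit 3),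
  Rule.mk (nat_lit 1) (nat_lit 148) (Steps.fwd (nat_lit 8192) (Steps.fwd (nat_lit 12288) (Steps.fwd (nat_lit 53248) (Steps.fwd (nat_lit 45056) (Steps.bwd (nat_lit 6) (Steps.bwd (nat_lit 11) (Steps.fwd (nat_lit 57344) (Steps.bwd (nat_lit 5) (Steps.bwd (nat_lit 3) Steps.nil))))))))) (nat_lit 53) (nat_lit 8),
  Rule.mk (nat_lit 8) (nat_lit 118) (Steps.bwd (nat_lit 1) (Steps.fwd (nat_lit 8192) (Steps.bwd (nat_lit 7) (Steps.fwd (nat_lit 40960) (Steps.bwd (nat_lit 2) (Steps.fwd (nat_lit 20480) (Steps.fwd (nat_lit 8192) Steps.nil))))))) (nat_lit 43) (nat_lit 2),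
  Rule.mk (nat_lit 10) (nat_lit 103) (Steps.fwd (nat_lit 12288) (Steps.fwd (nat_lit 8192) (Steps.fwd (nat_lit 45056) (Steps.bwd (nat_lit 14) (Steps.fwd (nat_lit 20480) (Steps.bwd (nat_lit 8) Steps.nil)))))) (nat_lit 31) (nat_lit 4),
  Rule.mk (nat_lit 13) (nat_lit 118) (Steps.bwd (nat_lit 10) (Steps.bwd (nat_lit 8) (Steps.bwd (nat_lit 1) (Steps.fwd (nat_lit 8192) (Steps.fwd (nat_lit 12288) (Steps.bwd (nat_lit 6) (Steps.fwd (nat_lit 49152) Steps.nil))))))) (nat_lit 32) (nat_lit 6),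
  Rule.mk (nat_lit 12) (nat_lit 73) (Steps.fwd (nat_lit 40960) (Steps.fwd (nat_lit 20480) (Steps.bwd (nat_lit 12) (Steps.bwd (nat_lit 6) Steps.nil)))) (nat_lit 19) (nat_lit 0),
  Rule.mk (nat_lit 1) (nat_lit 88) (Steps.fwd (nat_lit 32768) (Steps.fwd (nat_lit 8192) (Steps.fwd (nat_lit 12288) (Steps.fwd (nat_lit 36864) (Steps.bwd (nat_lit 6) Steps.nil))))) (nat_lit 22) (nat_lit 0),
  Rule.mk (nat_lit 8) (nat_lit 103) (Steps.fwd (nat_lit 36864) (Steps.fwd (nat_lit 12288) (Steps.fwd (nat_lit 8192) (Steps.fwd (nat_lit 45056) (Steps.bwd (nat_lit 14) (Steps.bwd (nat_lit 6) Steps.nil)))))) (nat_lit 31) (nat_lit 3),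
  Rule.mk (nat_lit 1) (nat_lit 73) (Steps.bwd (nat_lit 8) (Steps.fwd (nat_lit 16384) (Steps.bwd (nat_lit 5) (Steps.fwd (nat_lit 8192) Steps.nil)))) (nat_lit 15) (nat_lit 3),
  Rule.mk (nat_lit 9) (nat_lit 148) (Steps.bwd (nat_lit 8) (Steps.bwd (nat_lit 1) (Steps.bwd (nat_lit 1) (Steps.fwd (nat_lit 8192) (Steps.bwd (nat_lit 4) (Steps.bwd (nat_lit 5) (Steps.fwd (nat_lit 16384) (Steps.fwd (nat_lit 4096) (Steps.fwd (nat_lit 32768) Steps.nil))))))))) (nat_lit 46) (nat_lit 0),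
  Rule.mk (nat_lit 6) (nat_lit 73) (Steps.fwd (nat_lit 53248) (Steps.bwd (nat_lit 4) (Steps.fwd (nat_lit 28672) (Steps.bwd (nat_lit 11) Steps.nil)))) (nat_lit 16) (nat_lit 4),
  Rule.mk (nat_lit 14) (nat_lit 88) (Steps.fwd (nat_lit 45056) (Steps.fwd (nat_lit 57344) (Steps.bwd (nat_lit 12) (Steps.fwd (nat_lit 40960) (Steps.bwd (nat_lit 11) Steps.nil))))) (nat_lit 26) (nat_lit 5),
  Rule.mk (nat_lit 10) (nat_lit 118) (Steps.bwd (nat_lit 14) (Steps.fwd (nat_lit 45056) (Steps.fwd (nat_lit 57344) (Steps.bwd (nat_lit 10) (Steps.bwd (nat_lit 14) (Steps.fwd (nat_lit 45056) (Steps.bwd (nat_lit 13) Steps.nil))))))) (nat_lit 37) (nat_lit 0),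
  Rule.mk (nat_lit 4) (nat_lit 103) (Steps.bwd (nat_lit 1) (Steps.bwd (nat_lit 12) (Steps.bwd (nat_lit 14) (Steps.fwd (nat_lit 20480) (Steps.bwd (nat_lit 8) (Steps.bwd (nat_lit 10) Steps.nil)))))) (nat_lit 31) (nat_lit 5),
  Rule.mk (nat_lit 8) (nat_lit 133) (Steps.bwd (nat_lit 3) (Steps.bwd (nat_lit 8) (Steps.bwd (nat_lit 3) (Steps.fwd (nat_lit 49152) (Steps.bwd (nat_lit 14) (Steps.bwd (nat_lit 12) (Steps.bwd (nat_lit 5) (Steps.bwd (nat_lit 10) Steps.nil)))))))) (nat_lit 45) (nat_lit 6),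
  Rule.mk (nat_lit 2) (nat_lit 88) (Steps.bwd (nat_lit 8) (Steps.bwd (nat_lit 2) (Steps.fwd (nat_lit 24576) (Steps.bwd (nat_lit 9) (Steps.bwd (nat_lit 3) Steps.nil))))) (nat_lit 23) (nat_lit 5),
  Rule.mk (nat_lit 11) (nat_lit 88) (Steps.fwd (nat_lit 57344) (Steps.fwd (nat_lit 24576) (Steps.fwd (nat_lit 36864) (Steps.fwd (nat_lit 20480) (Steps.bwd (nat_lit 14) Steps.nil))))) (nat_lit 25) (nat_lit 3),
  Rule.mk (nat_lit 6) (nat_lit 103) (Steps.fwd (nat_lit 28672) (Steps.fwd (nat_lit 36864) (Steps.fwd (nat_lit 12288) (Steps.fwd (nat_lit 8192) (Steps.fwd (nat_lit 45056) (Steps.bwd (nat_lit 14) Steps.nil)))))) (nat_lit 31) (nat_lit 2),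
  Rule.mk (nat_lit 10) (nat_lit 118) (Steps.bwd (nat_lit 7) (Steps.bwd (nat_lit 9) (Steps.fwd (nat_lit 57344) (Steps.bwd (nat_lit 10) (Steps.fwd (nat_lit 32768) (Steps.bwd (nat_lit 9) (Steps.fwd (nat_lit 57344) Steps.nil))))))) (nat_lit 38) (nat_lit 2),
  Rule.mk (nat_lit 2) (nat_lit 88) (Steps.bwd (nat_lit 8) (Steps.bwd (nat_lit 2) (Steps.fwd (nat_lit 24576) (Steps.fwd (nat_lit 40960) (Steps.fwd (nat_lit 16384) Steps.nil))))) (nat_lit 23) (nat_lit 5),
  Rule.mk (nat_lit 6) (nat_lit 103) (Steps.bwd (nat_lit 8) (Steps.bwd (nat_lit 10) (Steps.fwd (nat_lit 12288) (Steps.bwd (nat_lit 1) (Steps.fwd (nat_lit 45056) (Steps.fwd (nat_lit 53248) Steps.nil)))))) (nat_lit 31) (nat_lit 2),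
  Rule.mk (nat_lit 3) (nat_lit 148) (Steps.fwd (nat_lit 4096) (Steps.bwd (nat_lit 2) (Steps.bwd (nat_lit 2) (Steps.fwd (nat_lit 32768) (Steps.fwd (nat_lit 36864) (Steps.bwd (nat_lit 8) (Steps.bwd (nat_lit 1) (Steps.fwd (nat_lit 12288) (Steps.bwd (nat_lit 6) Steps.nil))))))))) (nat_lit 47) (nat_lit 6),
  Rule.mk (nat_lit 2) (nat_lit 103) (Steps.fwd (nat_lit 28672) (Steps.bwd (nat_lit 3) (Steps.fwd (nat_lit 8192) (Steps.bwd (nat_lit 1) (Steps.bwd (nat_lit 1) (Steps.fwd (nat_lit 16384) Steps.nil)))))) (nat_lit 29) (nat_lit 1),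
  Rule.mk (nat_lit 12) (nat_lit 118) (Steps.bwd (nat_lit 5) (Steps.bwd (nat_lit 4) (Steps.bwd (nat_lit 6) (Steps.bwd (nat_lit 12) (Steps.bwd (nat_lit 5) (Steps.fwd (nat_lit 12288) (Steps.fwd (nat_lit 20480) Steps.nil))))))) (nat_lit 35) (nat_lit 2),
  Rule.mk (nat_lit 6) (nat_lit 133) (Steps.bwd (nat_lit 11) (Steps.fwd (nat_lit 57344) (Steps.fwd (nat_lit 45056) (Steps.bwd (nat_lit 4) (Steps.bwd (nat_lit 7) (Steps.bwd (nat_lit 4) (Steps.fwd (nat_lit 32768) (Steps.fwd (nat_lit 40960) Steps.nil)))))))) (nat_lit 44) (nat_lit 6),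
  Rule.mk (nat_lit 7) (nat_lit 88) (Steps.bwd (nat_lit 1) (Steps.fwd (nat_lit 12288) (Steps.fwd (nat_lit 36864) (Steps.bwd (nat_lit 6) (Steps.bwd (nat_lit 1) Steps.nil))))) (nat_lit 22) (nat_lit 1),
  Rule.mk (nat_lit 4) (nat_lit 103) (Steps.bwd (nat_lit 1) (Steps.fwd (nat_lit 45056) (Steps.fwd (nat_lit 53248) (Steps.bwd (nat_lit 6) (Steps.fwd (nat_lit 28672) (Steps.fwd (nat_lit 36864) Steps.nil)))))) (nat_lit 31) (nat_lit 5),
  Rule.mk (nat_lit 9) (nat_lit 118) (Steps.bwd (nat_lit 14) (Steps.fwd (nat_lit 45056) (Steps.bwd (nat_lit 5) (Steps.fwd (nat_lit 16384) (Steps.fwd (nat_lit 4096) (Steps.fwd (nat_lit 4096) (Steps.bwd (nat_lit 7) Steps.nil))))))) (nat_lit 33) (nat_lit 2),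
  Rule.mk (nat_lit 8) (nat_lit 148) (Steps.bwd (nat_lit 9) (Steps.fwd (nat_lit 28672) (Steps.fwd (nat_lit 40960) (Steps.fwd (nat_lit 28672) (Steps.bwd (nat_lit 9) (Steps.bwd (nat_lit 8) (Steps.bwd (nat_lit 9) (Steps.bwd (nat_lit 8) (Steps.fwd (nat_lit 40960) Steps.nil))))))))) (nat_lit 48) (nat_lit 1),
  Rule.mk (nat_lit 3) (nat_lit 103) (Steps.fwd (nat_lit 8192) (Steps.bwd (nat_lit 1) (Steps.fwd (nat_lit 8192) (Steps.fwd (nat_lit 16384) (Steps.fwd (nat_lit 4096) (Steps.bwd (nat_lit 8) Steps.nil)))))) (nat_lit 29) (nat_lit 3),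
  Rule.mk (nat_lit 6) (nat_lit 148) (Steps.bwd (nat_lit 14) (Steps.fwd (nat_lit 45056) (Steps.bwd (nat_lit 5) (Steps.bwd (nat_lit 11) (Steps.fwd (nat_lit 57344) (Steps.bwd (nat_lit 3) (Steps.bwd (nat_lit 2) (Steps.fwd (nat_lit 4096) (Steps.bwd (nat_lit 4) Steps.nil))))))))) (nat_lit 52) (nat_lit 5),
  Rule.mk (nat_lit 1) (nat_lit 118) (Steps.fwd (nat_lit 28672) (Steps.bwd (nat_lit 1) (Steps.bwd (nat_lit 1) (Steps.bwd (nat_lit 7) (Steps.fwd (nat_lit 40960) (Steps.bwd (nat_lit 2) (Steps.bwd (nat_lit 6) Steps.nil))))))) (nat_lit 43) (nat_lit 1),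
  Rule.mk (nat_lit 13) (nat_lit 103) (Steps.fwd (nat_lit 49152) (Steps.fwd (nat_lit 4096) (Steps.fwd (nat_lit 16384) (Steps.bwd (nat_lit 9) (Steps.bwd (nat_lit 7) (Steps.bwd (nat_lit 5) Steps.nil)))))) (nat_lit 30) (nat_lit 0),
  Rule.mk (nat_lit 3) (nat_lit 118) (Steps.bwd (nat_lit 6) (Steps.fwd (nat_lit 49152) (Steps.bwd (nat_lit 5) (Steps.fwd (nat_lit 16384) (Steps.fwd (nat_lit 20480) (Steps.fwd (nat_lit 49152) (Steps.bwd (nat_lit 5) Steps.nil))))))) (nat_lit 34) (nat_lit 1),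
  Rule.mk (nat_lit 1) (nat_lit 88) (Steps.bwd (nat_lit 3) (Steps.fwd (nat_lit 4096) (Steps.fwd (nat_lit 36864) (Steps.bwd (nat_lit 8) (Steps.bwd (nat_lit 9) Steps.nil))))) (nat_lit 20) (nat_lit 1),
  Rule.mk (nat_lit 2) (nat_lit 103) (Steps.bwd (nat_lit 2) (Steps.bwd (nat_lit 4) (Steps.fwd (nat_lit 32768) (Steps.bwd (nat_lit 1) (Steps.bwd (nat_lit 4) (Steps.bwd (nat_lit 2) Steps.nil)))))) (nat_lit 28) (nat_lit 3),
  Rule.mk (nat_lit 4) (nat_lit 103) (Steps.bwd (nat_lit 7) (Steps.bwd (nat_lit 1) (Steps.bwd (nat_lit 4) (Steps.bwd (nat_lit 2) (Steps.bwd (nat_lit 2) (Steps.bwd (nat_lit 2) Steps.nil)))))) (nat_lit 28) (nat_lit 5),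
  Rule.mk (nat_lit 4) (nat_lit 133) (Steps.bwd (nat_lit 7) (Steps.bwd (nat_lit 9) (Steps.bwd (nat_lit 6) (Steps.bwd (nat_lit 11) (Steps.bwd (nat_lit 13) (Steps.bwd (nat_lit 12) (Steps.bwd (nat_lit 4) (Steps.bwd (nat_lit 7) Steps.nil)))))))) (nat_lit 44) (nat_lit 3),
  Rule.mk (nat_lit 1) (nat_lit 103) (Steps.fwd (nat_lit 12288) (Steps.bwd (nat_lit 2) (Steps.fwd (nat_lit 4096) (Steps.bwd (nat_lit 2) (Steps.bwd (nat_lit 4) (Steps.bwd (nat_lit 7) Steps.nil)))))) (nat_lit 28) (nat_lit 0),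
  Rule.mk (nat_lit 5) (nat_lit 148) (Steps.fwd (nat_lit 16384) (Steps.fwd (nat_lit 4096) (Steps.fwd (nat_lit 32768) (Steps.fwd (nat_lit 40960) (Steps.bwd (nat_lit 8) (Steps.bwd (nat_lit 1) (Steps.bwd (nat_lit 1) (Steps.bwd (nat_lit 1) (Steps.bwd (nat_lit 4) Steps.nil))))))))) (nat_lit 46) (nat_lit 6),
  Rule.mk (nat_lit 13) (nat_lit 118) (Steps.bwd (nat_lit 10) (Steps.fwd (nat_lit 32768) (Steps.fwd (nat_lit 40960) (Steps.bwd (nat_lit 13) (Steps.bwd (nat_lit 10) (Steps.bwd (nat_lit 7) (Steps.bwd (nat_lit 9) Steps.nil))))))) (nat_lit 38) (nat_lit 1),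
  Rule.mk (nat_lit 11) (nat_lit 88) (Steps.bwd (nat_lit 13) (Steps.bwd (nat_lit 5) (Steps.bwd (nat_lit 10) (Steps.fwd (nat_lit 20480) (Steps.bwd (nat_lit 14) Steps.nil))))) (nat_lit 25) (nat_lit 3)]
noncomputable def R_62 : List (Rule) := [Rule.mk (nat_lit 13) (nat_lit 103) (Steps.bwd (nat_lit 11) (Steps.bwd (nat_lit 2) (Steps.fwd (nat_lit 16384) (Steps.bwd (nat_lit 9) (Steps.bwd (nat_lit 7) (Steps.fwd (nat_lit 24576) Steps.nil)))))) (nat_lit 30) (nat_lit 0),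
  Rule.mk (nat_lit 7) (nat_lit 118) (Steps.bwd (nat_lit 9) (Steps.fwd (nat_lit 49152) (Steps.bwd (nat_lit 13) (Steps.fwd (nat_lit 32768) (Steps.bwd (nat_lit 9) (Steps.fwd (nat_lit 49152) (Steps.bwd (nat_lit 13) Steps.nil))))))) (nat_lit 41) (nat_lit 0),
  Rule.mk (nat_lit 7) (nat_lit 148) (Steps.fwd (nat_lit 36864) (Steps.bwd (nat_lit 7) (Steps.bwd (nat_lit 10) (Steps.bwd (nat_lit 7) (Steps.fwd (nat_lit 36864) (Steps.bwd (nat_lit 7) (Steps.bwd (nat_lit 10) (Steps.bwd (nat_lit 7) (Steps.fwd (nat_lit 36864) Steps.nil))))))))) (nat_lit 49) (nat_lit 0),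
  Rule.mk (nat_lit 3) (nat_lit 148) (Steps.bwd (nat_lit 2) (Steps.fwd (nat_lit 32768) (Steps.fwd (nat_lit 40960) (Steps.bwd (nat_lit 8) (Steps.fwd (nat_lit 8192) (Steps.fwd (nat_lit 8192) (Steps.fwd (nat_lit 8192) (Steps.bwd (nat_lit 4) (Steps.bwd (nat_lit 5) Steps.nil))))))))) (nat_lit 46) (nat_lit 7),
  Rule.mk (nat_lit 9) (nat_lit 103) (Steps.bwd (nat_lit 7) (Steps.fwd (nat_lit 24576) (Steps.fwd (nat_lit 57344) (Steps.fwd (nat_lit 49152) (Steps.fwd (nat_lit 4096) (Steps.bwd (nat_lit 3) Steps.nil)))))) (nat_lit 30) (nat_lit 4),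
  Rule.mk (nat_lit 11) (nat_lit 133) (Steps.fwd (nat_lit 53248) (Steps.fwd (nat_lit 45056) (Steps.fwd (nat_lit 24576) (Steps.bwd (nat_lit 10) (Steps.fwd (nat_lit 28672) (Steps.bwd (nat_lit 3) (Steps.fwd (nat_lit 28672) (Steps.bwd (nat_lit 3) Steps.nil)))))))) (nat_lit 45) (nat_lit 1),
  Rule.mk (nat_lit 8) (nat_lit 133) (Steps.bwd (nat_lit 3) (Steps.bwd (nat_lit 11) (Steps.fwd (nat_lit 53248) (Steps.bwd (nat_lit 12) (Steps.fwd (nat_lit 24576) (Steps.bwd (nat_lit 10) (Steps.fwd (nat_lit 28672) (Steps.bwd (nat_lit 3) Steps.nil)))))))) (nat_lit 45) (nat_lit 8),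
  Rule.mk (nat_lit 2) (nat_lit 88) (Steps.bwd (nat_lit 8) (Steps.fwd (nat_lit 4096) (Steps.fwd (nat_lit 24576) (Steps.fwd (nat_lit 40960) (Steps.bwd (nat_lit 3) Steps.nil))))) (nat_lit 23) (nat_lit 5),
  Rule.mk (nat_lit 9) (nat_lit 118) (Steps.bwd (nat_lit 2) (Steps.fwd (nat_lit 20480) (Steps.fwd (nat_lit 8192) (Steps.bwd (nat_lit 8) (Steps.fwd (nat_lit 8192) (Steps.bwd (nat_lit 1) (Steps.bwd (nat_lit 7) Steps.nil))))))) (nat_lit 43) (nat_lit 6),
  Rule.mk (nat_lit 14) (nat_lit 118) (Steps.fwd (nat_lit 45056) (Steps.fwd (nat_lit 24576) (Steps.fwd (nat_lit 16384) (Steps.bwd (nat_lit 2) (Steps.fwd (nat_lit 4096) (Steps.bwd (nat_lit 7) (Steps.bwd (nat_lit 9) Steps.nil))))))) (nat_lit 33) (nat_lit 3),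
  Rule.mk (nat_lit 8) (nat_lit 148) (Steps.bwd (nat_lit 9) (Steps.fwd (nat_lit 28672) (Steps.fwd (nat_lit 40960) (Steps.fwd (nat_lit 28672) (Steps.fwd (nat_lit 40960) (Steps.bwd (nat_lit 8) (Steps.bwd (nat_lit 9) (Steps.bwd (nat_lit 8) (Steps.bwd (nat_lit 9) Steps.nil))))))))) (nat_lit 48) (nat_lit 1),
  Rule.mk (nat_lit 14) (nat_lit 118) (Steps.bwd (nat_lit 12) (Steps.fwd (nat_lit 36864) (Steps.bwd (nat_lit 8) (Steps.fwd (nat_lit 53248) (Steps.fwd (nat_lit 45056) (Steps.fwd (nat_lit 36864) (Steps.bwd (nat_lit 8) Steps.nil))))))) (nat_lit 40) (nat_lit 2),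
  Rule.mk (nat_lit 1) (nat_lit 148) (Steps.fwd (nat_lit 12288) (Steps.fwd (nat_lit 20480) (Steps.bwd (nat_lit 3) (Steps.bwd (nat_lit 2) (Steps.bwd (nat_lit 2) (Steps.fwd (nat_lit 4096) (Steps.fwd (nat_lit 32768) (Steps.fwd (nat_lit 36864) (Steps.bwd (nat_lit 8) Steps.nil))))))))) (nat_lit 47) (nat_lit 3),
  Rule.mk (nat_lit 6) (nat_lit 118) (Steps.bwd (nat_lit 1) (Steps.fwd (nat_lit 28672) (Steps.fwd (nat_lit 8192) (Steps.fwd (nat_lit 8192) (Steps.fwd (nat_lit 32768) (Steps.fwd (nat_lit 40960) (Steps.fwd (nat_lit 4096) Steps.nil))))))) (nat_lit 43) (nat_lit 0),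
  Rule.mk (nat_lit 14) (nat_lit 118) (Steps.bwd (nat_lit 12) (Steps.fwd (nat_lit 24576) (Steps.fwd (nat_lit 16384) (Steps.fwd (nat_lit 4096) (Steps.fwd (nat_lit 4096) (Steps.bwd (nat_lit 7) (Steps.bwd (nat_lit 9) Steps.nil))))))) (nat_lit 33) (nat_lit 3),
  Rule.mk (nat_lit 12) (nat_lit 148) (Steps.bwd (nat_lit 13) (Steps.fwd (nat_lit 45056) (Steps.bwd (nat_lit 13) (Steps.bwd (nat_lit 12) (Steps.bwd (nat_lit 13) (Steps.fwd (nat_lit 45056) (Steps.fwd (nat_lit 57344) (Steps.bwd (nat_lit 12) (Steps.bwd (nat_lit 13) Steps.nil))))))))) (nat_lit 50) (nat_lit 1),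
  Rule.mk (nat_lit 14) (nat_lit 103) (Steps.fwd (nat_lit 20480) (Steps.fwd (nat_lit 28672) (Steps.fwd (nat_lit 36864) (Steps.fwd (nat_lit 12288) (Steps.fwd (nat_lit 8192) (Steps.bwd (nat_lit 12) Steps.nil)))))) (nat_lit 31) (nat_lit 1),
  Rule.mk (nat_lit 5) (nat_lit 118) (Steps.bwd (nat_lit 4) (Steps.bwd (nat_lit 6) (Steps.bwd (nat_lit 12) (Steps.fwd (nat_lit 24576) (Steps.bwd (nat_lit 4) (Steps.fwd (nat_lit 20480) (Steps.bwd (nat_lit 12) Steps.nil))))))) (nat_lit 35) (nat_lit 3),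
  Rule.mk (nat_lit 4) (nat_lit 133) (Steps.fwd (nat_lit 32768) (Steps.fwd (nat_lit 12288) (Steps.fwd (nat_lit 32768) (Steps.fwd (nat_lit 40960) (Steps.fwd (nat_lit 20480) (Steps.fwd (nat_lit 49152) (Steps.bwd (nat_lit 13) (Steps.bwd (nat_lit 12) Steps.nil)))))))) (nat_lit 44) (nat_lit 1),
  Rule.mk (nat_lit 7) (nat_lit 133) (Steps.bwd (nat_lit 4) (Steps.fwd (nat_lit 32768) (Steps.fwd (nat_lit 40960) (Steps.fwd (nat_lit 20480) (Steps.bwd (nat_lit 11) (Steps.fwd (nat_lit 57344) (Steps.bwd (nat_lit 12) (Steps.fwd (nat_lit 12288) Steps.nil)))))))) (nat_lit 44) (nat_lit 2),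
  Rule.mk (nat_lit 3) (nat_lit 88) (Steps.fwd (nat_lit 4096) (Steps.fwd (nat_lit 28672) (Steps.bwd (nat_lit 2) (Steps.bwd (nat_lit 5) (Steps.bwd (nat_lit 9) Steps.nil))))) (nat_lit 23) (nat_lit 4),
  Rule.mk (nat_lit 7) (nat_lit 103) (Steps.fwd (nat_lit 24576) (Steps.fwd (nat_lit 57344) (Steps.fwd (nat_lit 49152) (Steps.fwd (nat_lit 4096) (Steps.fwd (nat_lit 16384) (Steps.bwd (nat_lit 9) Steps.nil)))))) (nat_lit 30) (nat_lit 5),
  Rule.mk (nat_lit 2) (nat_lit 118) (Steps.bwd (nat_lit 6) (Steps.fwd (nat_lit 8192) (Steps.fwd (nat_lit 28672) (Steps.fwd (nat_lit 8192) (Steps.fwd (nat_lit 8192) (Steps.fwd (nat_lit 32768) (Steps.bwd (nat_lit 9) Steps.nil))))))) (nat_lit 43) (nat_lit 7),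
  Rule.mk (nat_lit 13) (nat_lit 118) (Steps.bwd (nat_lit 7) (Steps.fwd (nat_lit 40960) (Steps.bwd (nat_lit 11) (Steps.bwd (nat_lit 13) (Steps.fwd (nat_lit 32768) (Steps.fwd (nat_lit 40960) (Steps.fwd (nat_lit 49152) Steps.nil))))))) (nat_lit 41) (nat_lit 3),
  Rule.mk (nat_lit 12) (nat_lit 88) (Steps.fwd (nat_lit 40960) (Steps.bwd (nat_lit 11) (Steps.fwd (nat_lit 53248) (Steps.fwd (nat_lit 45056) (Steps.bwd (nat_lit 13) Steps.nil))))) (nat_lit 26) (nat_lit 2),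
  Rule.mk (nat_lit 7) (nat_lit 118) (Steps.bwd (nat_lit 9) (Steps.fwd (nat_lit 49152) (Steps.fwd (nat_lit 57344) (Steps.bwd (nat_lit 7) (Steps.fwd (nat_lit 40960) (Steps.fwd (nat_lit 49152) (Steps.bwd (nat_lit 13) Steps.nil))))))) (nat_lit 41) (nat_lit 0),
  Rule.mk (nat_lit 10) (nat_lit 88) (Steps.bwd (nat_lit 7) (Steps.bwd (nat_lit 9) (Steps.bwd (nat_lit 1) (Steps.bwd (nat_lit 4) (Steps.bwd (nat_lit 2) Steps.nil))))) (nat_lit 21) (nat_lit 1),
  Rule.mk (nat_lit 9) (nat_lit 103) (Steps.bwd (nat_lit 7) (Steps.bwd (nat_lit 5) (Steps.bwd (nat_lit 13) (Steps.bwd (nat_lit 11) (Steps.fwd (nat_lit 4096) (Steps.bwd (nat_lit 3) Steps.nil)))))) (nat_lit 30) (nat_lit 4),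
  Rule.mk (nat_lit 1) (nat_lit 103) (Steps.bwd (nat_lit 12) (Steps.bwd (nat_lit 14) (Steps.bwd (nat_lit 6) (Steps.fwd (nat_lit 28672) (Steps.fwd (nat_lit 36864) (Steps.fwd (nat_lit 12288) Steps.nil)))))) (nat_lit 31) (nat_lit 6),
  Rule.mk (nat_lit 10) (nat_lit 88) (Steps.bwd (nat_lit 8) (Steps.fwd (nat_lit 40960) (Steps.bwd (nat_lit 1) (Steps.bwd (nat_lit 3) (Steps.fwd (nat_lit 4096) Steps.nil))))) (nat_lit 20) (nat_lit 4),
  Rule.mk (nat_lit 6) (nat_lit 88) (Steps.fwd (nat_lit 8192) (Steps.bwd (nat_lit 7) (Steps.fwd (nat_lit 8192) (Steps.fwd (nat_lit 12288) (Steps.bwd (nat_lit 10) Steps.nil))))) (nat_lit 22) (nat_lit 5),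
  Rule.mk (nat_lit 4) (nat_lit 103) (Steps.fwd (nat_lit 8192) (Steps.fwd (nat_lit 45056) (Steps.bwd (nat_lit 14) (Steps.fwd (nat_lit 20480) (Steps.bwd (nat_lit 8) (Steps.bwd (nat_lit 10) Steps.nil)))))) (nat_lit 31) (nat_lit 5),
  Rule.mk (nat_lit 1) (nat_lit 88) (Steps.bwd (nat_lit 4) (Steps.fwd (nat_lit 4096) (Steps.fwd (nat_lit 36864) (Steps.fwd (nat_lit 32768) (Steps.fwd (nat_lit 40960) Steps.nil))))) (nat_lit 21) (nat_lit 4),
  Rule.mk (nat_lit 2) (nat_lit 103) (Steps.bwd (nat_lit 4) (Steps.bwd (nat_lit 7) (Steps.fwd (nat_lit 8192) (Steps.bwd (nat_lit 4) (Steps.bwd (nat_lit 2) (Steps.fwd (nat_lit 4096) Steps.nil)))))) (nat_lit 28) (nat_lit 4),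
  Rule.mk (nat_lit 12) (nat_lit 133) (Steps.bwd (nat_lit 4) (Steps.bwd (nat_lit 7) (Steps.fwd (nat_lit 12288) (Steps.bwd (nat_lit 7) (Steps.bwd (nat_lit 9) (Steps.bwd (nat_lit 6) (Steps.bwd (nat_lit 11) (Steps.fwd (nat_lit 57344) Steps.nil)))))))) (nat_lit 44) (nat_lit 0),
  Rule.mk (nat_lit 14) (nat_lit 103) (Steps.fwd (nat_lit 20480) (Steps.fwd (nat_lit 28672) (Steps.fwd (nat_lit 36864) (Steps.fwd (nat_lit 12288) (Steps.bwd (nat_lit 1) (Steps.bwd (nat_lit 12) Steps.nil)))))) (nat_lit 31) (nat_lit 1),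
  Rule.mk (nat_lit 5) (nat_lit 88) (Steps.fwd (nat_lit 40960) (Steps.fwd (nat_lit 16384) (Steps.fwd (nat_lit 4096) (Steps.bwd (nat_lit 8) (Steps.bwd (nat_lit 2) Steps.nil))))) (nat_lit 23) (nat_lit 2),
  Rule.mk (nat_lit 13) (nat_lit 118) (Steps.bwd (nat_lit 7) (Steps.fwd (nat_lit 40960) (Steps.fwd (nat_lit 49152) (Steps.bwd (nat_lit 13) (Steps.fwd (nat_lit 32768) (Steps.bwd (nat_lit 9) (Steps.bwd (nat_lit 11) Steps.nil))))))) (nat_lit 41) (nat_lit 3),
  Rule.mk (nat_lit 9) (nat_lit 103) (Steps.bwd (nat_lit 7) (Steps.bwd (nat_lit 5) (Steps.bwd (nat_lit 13) (Steps.fwd (nat_lit 49152) (Steps.fwd (nat_lit 4096) (Steps.fwd (nat_lit 16384) Steps.nil)))))) (nat_lit 30) (nat_lit 4),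
  Rule.mk (nat_lit 14) (nat_lit 118) (Steps.bwd (nat_lit 11) (Steps.fwd (nat_lit 57344) (Steps.bwd (nat_lit 9) (Steps.fwd (nat_lit 53248) (Steps.fwd (nat_lit 49152) (Steps.fwd (nat_lit 57344) (Steps.bwd (nat_lit 9) Steps.nil))))))) (nat_lit 36) (nat_lit 2),
  Rule.mk (nat_lit 11) (nat_lit 118) (Steps.fwd (nat_lit 57344) (Steps.fwd (nat_lit 32768) (Steps.bwd (nat_lit 9) (Steps.bwd (nat_lit 11) (Steps.fwd (nat_lit 57344) (Steps.bwd (nat_lit 7) (Steps.bwd (nat_lit 9) Steps.nil))))))) (nat_lit 41) (nat_lit 2),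
  Rule.mk (nat_lit 2) (nat_lit 118) (Steps.fwd (nat_lit 20480) (Steps.bwd (nat_lit 1) (Steps.fwd (nat_lit 28672) (Steps.fwd (nat_lit 8192) (Steps.fwd (nat_lit 8192) (Steps.bwd (nat_lit 7) (Steps.bwd (nat_lit 9) Steps.nil))))))) (nat_lit 43) (nat_lit 7),
  Rule.mk (nat_lit 6) (nat_lit 133) (Steps.bwd (nat_lit 11) (Steps.bwd (nat_lit 13) (Steps.fwd (nat_lit 45056) (Steps.fwd (nat_lit 12288) (Steps.fwd (nat_lit 32768) (Steps.bwd (nat_lit 4) (Steps.bwd (nat_lit 7) (Steps.bwd (nat_lit 9) Steps.nil)))))))) (nat_lit 44) (nat_lit 6),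
  Rule.mk (nat_lit 8) (nat_lit 148) (Steps.bwd (nat_lit 1) (Steps.fwd (nat_lit 8192) (Steps.bwd (nat_lit 1) (Steps.bwd (nat_lit 4) (Steps.fwd (nat_lit 24576) (Steps.bwd (nat_lit 3) (Steps.bwd (nat_lit 2) (Steps.bwd (nat_lit 7) (Steps.bwd (nat_lit 9) Steps.nil))))))))) (nat_lit 46) (nat_lit 1),
  Rule.mk (nat_lit 3) (nat_lit 103) (Steps.bwd (nat_lit 1) (Steps.bwd (nat_lit 1) (Steps.bwd (nat_lit 1) (Steps.fwd (nat_lit 16384) (Steps.fwd (nat_lit 4096) (Steps.bwd (nat_lit 8) Steps.nil)))))) (nat_lit 29) (nat_lit 3),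
  Rule.mk (nat_lit 1) (nat_lit 148) (Steps.bwd (nat_lit 1) (Steps.fwd (nat_lit 8192) (Steps.fwd (nat_lit 12288) (Steps.bwd (nat_lit 5) (Steps.bwd (nat_lit 3) (Steps.fwd (nat_lit 4096) (Steps.fwd (nat_lit 32768) (Steps.fwd (nat_lit 40960) (Steps.bwd (nat_lit 8) Steps.nil))))))))) (nat_lit 46) (nat_lit 2),
  Rule.mk (nat_lit 3) (nat_lit 148) (Steps.bwd (nat_lit 1) (Steps.bwd (nat_lit 1) (Steps.fwd (nat_lit 12288) (Steps.fwd (nat_lit 53248) (Steps.bwd (nat_lit 12) (Steps.fwd (nat_lit 20480) (Steps.fwd (nat_lit 49152) (Steps.bwd (nat_lit 13) (Steps.bwd (nat_lit 5) Steps.nil))))))))) (nat_lit 53) (nat_lit 7),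
  Rule.mk (nat_lit 11) (nat_lit 118) (Steps.bwd (nat_lit 13) (Steps.bwd (nat_lit 9) (Steps.bwd (nat_lit 14) (Steps.fwd (nat_lit 49152) (Steps.bwd (nat_lit 13) (Steps.bwd (nat_lit 9) (Steps.fwd (nat_lit 53248) Steps.nil))))))) (nat_lit 36) (nat_lit 3),
  Rule.mk (nat_lit 5) (nat_lit 88) (Steps.fwd (nat_lit 36864) (Steps.fwd (nat_lit 20480) (Steps.fwd (nat_lit 53248) (Steps.bwd (nat_lit 11) (Steps.bwd (nat_lit 13) Steps.nil))))) (nat_lit 25) (nat_lit 5),
  Rule.mk (nat_lit 7) (nat_lit 133) (Steps.bwd (nat_lit 9) (Steps.bwd (nat_lit 6) (Steps.bwd (nat_lit 11) (Steps.fwd (nat_lit 57344) (Steps.fwd (nat_lit 45056) (Steps.bwd (nat_lit 4) (Steps.bwd (nat_lit 7) (Steps.bwd (nat_lit 4) Steps.nil)))))))) (nat_lit 44) (nat_lit 4),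
  Rule.mk (nat_lit 13) (nat_lit 118) (Steps.fwd (nat_lit 36864) (Steps.bwd (nat_lit 7) (Steps.bwd (nat_lit 9) (Steps.fwd (nat_lit 57344) (Steps.bwd (nat_lit 10) (Steps.bwd (nat_lit 7) (Steps.bwd (nat_lit 9) Steps.nil))))))) (nat_lit 38) (nat_lit 1),
  Rule.mk (nat_lit 2) (nat_lit 118) (Steps.bwd (nat_lit 6) (Steps.bwd (nat_lit 1) (Steps.bwd (nat_lit 8) (Steps.fwd (nat_lit 8192) (Steps.bwd (nat_lit 1) (Steps.bwd (nat_lit 7) (Steps.bwd (nat_lit 9) Steps.nil))))))) (nat_lit 43) (nat_lit 7),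
  Rule.mk (nat_lit 4) (nat_lit 133) (Steps.fwd (nat_lit 32768) (Steps.bwd (nat_lit 9) (Steps.fwd (nat_lit 20480) (Steps.fwd (nat_lit 49152) (Steps.bwd (nat_lit 13) (Steps.fwd (nat_lit 45056) (Steps.bwd (nat_lit 4) (Steps.bwd (nat_lit 7) Steps.nil)))))))) (nat_lit 44) (nat_lit 3),
  Rule.mk (nat_lit 10) (nat_lit 148) (Steps.bwd (nat_lit 7) (Steps.fwd (nat_lit 36864) (Steps.bwd (nat_lit 7) (Steps.bwd (nat_lit 10) (Steps.bwd (nat_lit 7) (Steps.bwd (nat_lit 10) (Steps.bwd (nat_lit 7) (Steps.bwd (nat_lit 10) (Steps.bwd (nat_lit 7) Steps.nil))))))))) (nat_lit 49) (nat_lit 1),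
  Rule.mk (nat_lit 10) (nat_lit 88) (Steps.fwd (nat_lit 20480) (Steps.fwd (nat_lit 8192) (Steps.fwd (nat_lit 32768) (Steps.fwd (nat_lit 8192) (Steps.bwd (nat_lit 4) Steps.nil))))) (nat_lit 22) (nat_lit 4),
  Rule.mk (nat_lit 1) (nat_lit 103) (Steps.bwd (nat_lit 12) (Steps.fwd (nat_lit 53248) (Steps.fwd (nat_lit 20480) (Steps.fwd (nat_lit 28672) (Steps.bwd (nat_lit 10) (Steps.bwd (nat_lit 4) Steps.nil)))))) (nat_lit 31) (nat_lit 6),
  Rule.mk (nat_lit 7) (nat_lit 118) (Steps.bwd (nat_lit 9) (Steps.fwd (nat_lit 57344) (Steps.bwd (nat_lit 10) (Steps.fwd (nat_lit 32768) (Steps.fwd (nat_lit 40960) (Steps.bwd (nat_lit 13) (Steps.bwd (nat_lit 10) Steps.nil))))))) (nat_lit 38) (nat_lit 3),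
  Rule.mk (nat_lit 4) (nat_lit 133) (Steps.bwd (nat_lit 7) (Steps.bwd (nat_lit 9) (Steps.fwd (nat_lit 20480) (Steps.fwd (nat_lit 49152) (Steps.bwd (nat_lit 13) (Steps.bwd (nat_lit 12) (Steps.fwd (nat_lit 12288) (Steps.bwd (nat_lit 7) Steps.nil)))))))) (nat_lit 44) (nat_lit 3),
  Rule.mk (nat_lit 10) (nat_lit 148) (Steps.bwd (nat_lit 8) (Steps.bwd (nat_lit 1) (Steps.bwd (nat_lit 4) (Steps.fwd (nat_lit 20480) (Steps.fwd (nat_lit 16384) (Steps.bwd (nat_lit 2) (Steps.bwd (nat_lit 2) (Steps.fwd (nat_lit 4096) (Steps.bwd (nat_lit 7) Steps.nil))))))))) (nat_lit 47) (nat_lit 1),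
  Rule.mk (nat_lit 12) (nat_lit 88) (Steps.bwd (nat_lit 10) (Steps.fwd (nat_lit 49152) (Steps.fwd (nat_lit 53248) (Steps.bwd (nat_lit 11) (Steps.bwd (nat_lit 13) Steps.nil))))) (nat_lit 27) (nat_lit 3),
  Rule.mk (nat_lit 12) (nat_lit 118) (Steps.bwd (nat_lit 10) (Steps.bwd (nat_lit 8) (Steps.bwd (nat_lit 14) (Steps.bwd (nat_lit 12) (Steps.fwd (nat_lit 36864) (Steps.bwd (nat_lit 8) (Steps.fwd (nat_lit 53248) Steps.nil))))))) (nat_lit 40) (nat_lit 3),
  Rule.mk (nat_lit 0) (nat_lit 103) (Steps.fwd (nat_lit 40960) (Steps.fwd (nat_lit 49152) (Steps.bwd (nat_lit 14) (Steps.fwd (nat_lit 45056) (Steps.bwd (nat_lit 13) (Steps.fwd (nat_lit 45056) Steps.nil)))))) (nat_lit 26) (nat_lit 2),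
  Rule.mk (nat_lit 14) (nat_lit 103) (Steps.bwd (nat_lit 6) (Steps.fwd (nat_lit 28672) (Steps.fwd (nat_lit 36864) (Steps.bwd (nat_lit 4) (Steps.fwd (nat_lit 8192) (Steps.bwd (nat_lit 12) Steps.nil)))))) (nat_lit 31) (nat_lit 1),
  Rule.mk (nat_lit 5) (nat_lit 118) (Steps.bwd (nat_lit 4) (Steps.bwd (nat_lit 6) (Steps.fwd (nat_lit 45056) (Steps.bwd (nat_lit 5) (Steps.fwd (nat_lit 12288) (Steps.fwd (nat_lit 20480) (Steps.bwd (nat_lit 12) Steps.nil))))))) (nat_lit 35) (nat_lit 3)]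
noncomputable def R_63 : List (Rule) := [Rule.mk (nat_lit 6) (nat_lit 148) (Steps.fwd (nat_lit 49152) (Steps.bwd (nat_lit 13) (Steps.bwd (nat_lit 5) (Steps.bwd (nat_lit 3) (Steps.fwd (nat_lit 8192) (Steps.fwd (nat_lit 8192) (Steps.bwd (nat_lit 4) (Steps.fwd (nat_lit 53248) (Steps.bwd (nat_lit 12) Steps.nil))))))))) (nat_lit 53) (nat_lit 3),
  Rule.mk (nat_lit 4) (nat_lit 118) (Steps.bwd (nat_lit 6) (Steps.fwd (nat_lit 49152) (Steps.bwd (nat_lit 13) (Steps.bwd (nat_lit 10) (Steps.bwd (nat_lit 8) (Steps.bwd (nat_lit 1) (Steps.bwd (nat_lit 1) Steps.nil))))))) (nat_lit 32) (nat_lit 3),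
  Rule.mk (nat_lit 5) (nat_lit 103) (Steps.bwd (nat_lit 13) (Steps.bwd (nat_lit 11) (Steps.fwd (nat_lit 4096) (Steps.bwd (nat_lit 3) (Steps.bwd (nat_lit 9) (Steps.fwd (nat_lit 32768) Steps.nil)))))) (nat_lit 30) (nat_lit 6),
  Rule.mk (nat_lit 1) (nat_lit 103) (Steps.bwd (nat_lit 1) (Steps.bwd (nat_lit 1) (Steps.bwd (nat_lit 3) (Steps.bwd (nat_lit 2) (Steps.bwd (nat_lit 8) (Steps.fwd (nat_lit 16384) Steps.nil)))))) (nat_lit 29) (nat_lit 4),
  Rule.mk (nat_lit 8) (nat_lit 118) (Steps.bwd (nat_lit 1) (Steps.bwd (nat_lit 1) (Steps.bwd (nat_lit 7) (Steps.bwd (nat_lit 9) (Steps.bwd (nat_lit 2) (Steps.bwd (nat_lit 6) (Steps.fwd (nat_lit 8192) Steps.nil))))))) (nat_lit 43) (nat_lit 2),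
  Rule.mk (nat_lit 4) (nat_lit 133) (Steps.bwd (nat_lit 7) (Steps.bwd (nat_lit 9) (Steps.fwd (nat_lit 20480) (Steps.bwd (nat_lit 11) (Steps.fwd (nat_lit 57344) (Steps.bwd (nat_lit 12) (Steps.bwd (nat_lit 4) (Steps.fwd (nat_lit 32768) Steps.nil)))))))) (nat_lit 44) (nat_lit 3),
  Rule.mk (nat_lit 1) (nat_lit 103) (Steps.bwd (nat_lit 12) (Steps.fwd (nat_lit 53248) (Steps.bwd (nat_lit 6) (Steps.fwd (nat_lit 28672) (Steps.fwd (nat_lit 36864) (Steps.bwd (nat_lit 4) Steps.nil)))))) (nat_lit 31) (nat_lit 6),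
  Rule.mk (nat_lit 1) (nat_lit 148) (Steps.bwd (nat_lit 1) (Steps.bwd (nat_lit 1) (Steps.bwd (nat_lit 4) (Steps.bwd (nat_lit 5) (Steps.bwd (nat_lit 3) (Steps.bwd (nat_lit 2) (Steps.fwd (nat_lit 32768) (Steps.fwd (nat_lit 40960) (Steps.bwd (nat_lit 8) Steps.nil))))))))) (nat_lit 46) (nat_lit 2),
  Rule.mk (nat_lit 0) (nat_lit 88) (Steps.fwd (nat_lit 4096) (Steps.fwd (nat_lit 4096) (Steps.fwd (nat_lit 20480) (Steps.fwd (nat_lit 12288) (Steps.fwd (nat_lit 32768) Steps.nil))))) (nat_lit 14) (nat_lit 2),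
  Rule.mk (nat_lit 13) (nat_lit 118) (Steps.bwd (nat_lit 7) (Steps.fwd (nat_lit 40960) (Steps.bwd (nat_lit 11) (Steps.bwd (nat_lit 13) (Steps.bwd (nat_lit 7) (Steps.bwd (nat_lit 9) (Steps.bwd (nat_lit 11) Steps.nil))))))) (nat_lit 41) (nat_lit 3),
  Rule.mk (nat_lit 12) (nat_lit 133) (Steps.bwd (nat_lit 4) (Steps.bwd (nat_lit 7) (Steps.fwd (nat_lit 12288) (Steps.bwd (nat_lit 7) (Steps.fwd (nat_lit 40960) (Steps.bwd (nat_lit 6) (Steps.bwd (nat_lit 11) (Steps.bwd (nat_lit 13) Steps.nil)))))))) (nat_lit 44) (nat_lit 0),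
  Rule.mk (nat_lit 12) (nat_lit 88) (Steps.bwd (nat_lit 13) (Steps.bwd (nat_lit 5) (Steps.fwd (nat_lit 40960) (Steps.bwd (nat_lit 6) (Steps.bwd (nat_lit 14) Steps.nil))))) (nat_lit 24) (nat_lit 4),
  Rule.mk (nat_lit 8) (nat_lit 148) (Steps.fwd (nat_lit 40960) (Steps.fwd (nat_lit 28672) (Steps.fwd (nat_lit 40960) (Steps.bwd (nat_lit 8) (Steps.bwd (nat_lit 9) (Steps.fwd (nat_lit 28672) (Steps.bwd (nat_lit 9) (Steps.bwd (nat_lit 8) (Steps.bwd (nat_lit 9) Steps.nil))))))))) (nat_lit 48) (nat_lit 1),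
  Rule.mk (nat_lit 8) (nat_lit 148) (Steps.bwd (nat_lit 9) (Steps.fwd (nat_lit 28672) (Steps.fwd (nat_lit 40960) (Steps.bwd (nat_lit 8) (Steps.fwd (nat_lit 40960) (Steps.bwd (nat_lit 8) (Steps.fwd (nat_lit 40960) (Steps.bwd (nat_lit 8) (Steps.fwd (nat_lit 40960) Steps.nil))))))))) (nat_lit 48) (nat_lit 1),
  Rule.mk (nat_lit 13) (nat_lit 148) (Steps.bwd (nat_lit 12) (Steps.bwd (nat_lit 13) (Steps.bwd (nat_lit 12) (Steps.fwd (nat_lit 57344) (Steps.bwd (nat_lit 12) (Steps.fwd (nat_lit 57344) (Steps.fwd (nat_lit 45056) (Steps.bwd (nat_lit 13) (Steps.fwd (nat_lit 45056) Steps.nil))))))))) (nat_lit 50) (nat_lit 0),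
  Rule.mk (nat_lit 5) (nat_lit 88) (Steps.bwd (nat_lit 9) (Steps.fwd (nat_lit 20480) (Steps.bwd (nat_lit 14) (Steps.fwd (nat_lit 45056) (Steps.bwd (nat_lit 13) Steps.nil))))) (nat_lit 24) (nat_lit 0),
  Rule.mk (nat_lit 5) (nat_lit 73) (Steps.bwd (nat_lit 10) (Steps.fwd (nat_lit 49152) (Steps.fwd (nat_lit 24576) (Steps.fwd (nat_lit 49152) Steps.nil)))) (nat_lit 18) (nat_lit 4),
  Rule.mk (nat_lit 7) (nat_lit 148) (Steps.bwd (nat_lit 10) (Steps.fwd (nat_lit 28672) (Steps.bwd (nat_lit 1) (Steps.bwd (nat_lit 4) (Steps.bwd (nat_lit 6) (Steps.fwd (nat_lit 16384) (Steps.fwd (nat_lit 4096) (Steps.fwd (nat_lit 4096) (Steps.fwd (nat_lit 4096) Steps.nil))))))))) (nat_lit 47) (nat_lit 0),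
  Rule.mk (nat_lit 2) (nat_lit 148) (Steps.bwd (nat_lit 2) (Steps.bwd (nat_lit 4) (Steps.bwd (nat_lit 6) (Steps.fwd (nat_lit 53248) (Steps.fwd (nat_lit 45056) (Steps.bwd (nat_lit 5) (Steps.fwd (nat_lit 49152) (Steps.bwd (nat_lit 13) (Steps.bwd (nat_lit 3) Steps.nil))))))))) (nat_lit 52) (nat_lit 2),
  Rule.mk (nat_lit 6) (nat_lit 73) (Steps.fwd (nat_lit 12288) (Steps.bwd (nat_lit 7) (Steps.fwd (nat_lit 4096) (Steps.bwd (nat_lit 2) Steps.nil)))) (nat_lit 14) (nat_lit 0),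
  Rule.mk (nat_lit 5) (nat_lit 88) (Steps.fwd (nat_lit 40960) (Steps.bwd (nat_lit 3) (Steps.fwd (nat_lit 4096) (Steps.bwd (nat_lit 8) (Steps.bwd (nat_lit 2) Steps.nil))))) (nat_lit 23) (nat_lit 2),
  Rule.mk (nat_lit 3) (nat_lit 103) (Steps.fwd (nat_lit 40960) (Steps.bwd (nat_lit 7) (Steps.fwd (nat_lit 24576) (Steps.fwd (nat_lit 57344) (Steps.bwd (nat_lit 11) (Steps.bwd (nat_lit 2) Steps.nil)))))) (nat_lit 30) (nat_lit 3),
  Rule.mk (nat_lit 7) (nat_lit 118) (Steps.bwd (nat_lit 2) (Steps.bwd (nat_lit 5) (Steps.fwd (nat_lit 8192) (Steps.fwd (nat_lit 36864) (Steps.fwd (nat_lit 28672) (Steps.fwd (nat_lit 4096) (Steps.bwd (nat_lit 2) Steps.nil))))))) (nat_lit 42) (nat_lit 7),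
  Rule.mk (nat_lit 4) (nat_lit 148) (Steps.fwd (nat_lit 20480) (Steps.bwd (nat_lit 14) (Steps.fwd (nat_lit 45056) (Steps.fwd (nat_lit 24576) (Steps.fwd (nat_lit 49152) (Steps.fwd (nat_lit 57344) (Steps.bwd (nat_lit 3) (Steps.fwd (nat_lit 4096) (Steps.bwd (nat_lit 2) Steps.nil))))))))) (nat_lit 52) (nat_lit 4),
  Rule.mk (nat_lit 3) (nat_lit 88) (Steps.fwd (nat_lit 4096) (Steps.bwd (nat_lit 8) (Steps.fwd (nat_lit 4096) (Steps.bwd (nat_lit 5) (Steps.bwd (nat_lit 9) Steps.nil))))) (nat_lit 23) (nat_lit 4),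
  Rule.mk (nat_lit 7) (nat_lit 103) (Steps.fwd (nat_lit 24576) (Steps.bwd (nat_lit 13) (Steps.bwd (nat_lit 11) (Steps.fwd (nat_lit 4096) (Steps.fwd (nat_lit 16384) (Steps.bwd (nat_lit 9) Steps.nil)))))) (nat_lit 30) (nat_lit 5),
  Rule.mk (nat_lit 14) (nat_lit 118) (Steps.fwd (nat_lit 45056) (Steps.fwd (nat_lit 24576) (Steps.bwd (nat_lit 3) (Steps.bwd (nat_lit 2) (Steps.bwd (nat_lit 2) (Steps.bwd (nat_lit 7) (Steps.bwd (nat_lit 9) Steps.nil))))))) (nat_lit 33) (nat_lit 3),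
  Rule.mk (nat_lit 8) (nat_lit 148) (Steps.bwd (nat_lit 9) (Steps.bwd (nat_lit 8) (Steps.bwd (nat_lit 9) (Steps.fwd (nat_lit 28672) (Steps.fwd (nat_lit 40960) (Steps.bwd (nat_lit 8) (Steps.fwd (nat_lit 40960) (Steps.bwd (nat_lit 8) (Steps.bwd (nat_lit 9) Steps.nil))))))))) (nat_lit 48) (nat_lit 1),
  Rule.mk (nat_lit 2) (nat_lit 88) (Steps.fwd (nat_lit 36864) (Steps.bwd (nat_lit 8) (Steps.bwd (nat_lit 9) (Steps.fwd (nat_lit 8192) (Steps.fwd (nat_lit 16384) Steps.nil))))) (nat_lit 20) (nat_lit 3),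
  Rule.mk (nat_lit 13) (nat_lit 118) (Steps.fwd (nat_lit 36864) (Steps.bwd (nat_lit 8) (Steps.bwd (nat_lit 1) (Steps.fwd (nat_lit 8192) (Steps.bwd (nat_lit 4) (Steps.fwd (nat_lit 20480) (Steps.bwd (nat_lit 11) Steps.nil))))))) (nat_lit 32) (nat_lit 6),
  Rule.mk (nat_lit 1) (nat_lit 118) (Steps.fwd (nat_lit 36864) (Steps.bwd (nat_lit 8) (Steps.bwd (nat_lit 2) (Steps.bwd (nat_lit 2) (Steps.fwd (nat_lit 32768) (Steps.fwd (nat_lit 4096) (Steps.bwd (nat_lit 5) Steps.nil))))))) (nat_lit 42) (nat_lit 2),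
  Rule.mk (nat_lit 5) (nat_lit 133) (Steps.fwd (nat_lit 36864) (Steps.bwd (nat_lit 8) (Steps.fwd (nat_lit 16384) (Steps.bwd (nat_lit 8) (Steps.fwd (nat_lit 16384) (Steps.fwd (nat_lit 49152) (Steps.fwd (nat_lit 53248) (Steps.bwd (nat_lit 12) Steps.nil)))))))) (nat_lit 45) (nat_lit 4),
  Rule.mk (nat_lit 7) (nat_lit 148) (Steps.fwd (nat_lit 36864) (Steps.bwd (nat_lit 8) (Steps.bwd (nat_lit 1) (Steps.fwd (nat_lit 12288) (Steps.fwd (nat_lit 20480) (Steps.fwd (nat_lit 16384) (Steps.fwd (nat_lit 4096) (Steps.fwd (nat_lit 4096) (Steps.fwd (nat_lit 4096) Steps.nil))))))))) (nat_lit 47) (nat_lit 0),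
  Rule.mk (nat_lit 13) (nat_lit 103) (Steps.fwd (nat_lit 49152) (Steps.bwd (nat_lit 2) (Steps.bwd (nat_lit 3) (Steps.bwd (nat_lit 9) (Steps.fwd (nat_lit 32768) (Steps.bwd (nat_lit 5) Steps.nil)))))) (nat_lit 30) (nat_lit 0),
  Rule.mk (nat_lit 11) (nat_lit 103) (Steps.bwd (nat_lit 2) (Steps.bwd (nat_lit 3) (Steps.fwd (nat_lit 40960) (Steps.bwd (nat_lit 7) (Steps.bwd (nat_lit 5) (Steps.bwd (nat_lit 13) Steps.nil)))))) (nat_lit 30) (nat_lit 1),
  Rule.mk (nat_lit 7) (nat_lit 88) (Steps.fwd (nat_lit 40960) (Steps.fwd (nat_lit 8192) (Steps.fwd (nat_lit 12288) (Steps.bwd (nat_lit 2) (Steps.bwd (nat_lit 10) Steps.nil))))) (nat_lit 21) (nat_lit 2),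
  Rule.mk (nat_lit 6) (nat_lit 88) (Steps.bwd (nat_lit 1) (Steps.fwd (nat_lit 32768) (Steps.bwd (nat_lit 1) (Steps.fwd (nat_lit 12288) (Steps.bwd (nat_lit 10) Steps.nil))))) (nat_lit 22) (nat_lit 5),
  Rule.mk (nat_lit 14) (nat_lit 118) (Steps.bwd (nat_lit 12) (Steps.fwd (nat_lit 57344) (Steps.fwd (nat_lit 36864) (Steps.fwd (nat_lit 53248) (Steps.fwd (nat_lit 45056) (Steps.fwd (nat_lit 57344) (Steps.bwd (nat_lit 10) Steps.nil))))))) (nat_lit 37) (nat_lit 1),
  Rule.mk (nat_lit 11) (nat_lit 88) (Steps.bwd (nat_lit 14) (Steps.bwd (nat_lit 12) (Steps.fwd (nat_lit 57344) (Steps.fwd (nat_lit 45056) (Steps.fwd (nat_lit 40960) Steps.nil))))) (nat_lit 26) (nat_lit 4),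
  Rule.mk (nat_lit 2) (nat_lit 103) (Steps.bwd (nat_lit 3) (Steps.fwd (nat_lit 40960) (Steps.bwd (nat_lit 7) (Steps.fwd (nat_lit 24576) (Steps.fwd (nat_lit 57344) (Steps.bwd (nat_lit 11) Steps.nil)))))) (nat_lit 30) (nat_lit 2),
  Rule.mk (nat_lit 9) (nat_lit 118) (Steps.bwd (nat_lit 13) (Steps.bwd (nat_lit 10) (Steps.bwd (nat_lit 7) (Steps.bwd (nat_lit 9) (Steps.fwd (nat_lit 57344) (Steps.fwd (nat_lit 36864) (Steps.bwd (nat_lit 7) Steps.nil))))))) (nat_lit 38) (nat_lit 0),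
  Rule.mk (nat_lit 1) (nat_lit 88) (Steps.bwd (nat_lit 3) (Steps.bwd (nat_lit 2) (Steps.fwd (nat_lit 36864) (Steps.bwd (nat_lit 8) (Steps.bwd (nat_lit 9) Steps.nil))))) (nat_lit 20) (nat_lit 1),
  Rule.mk (nat_lit 2) (nat_lit 118) (Steps.bwd (nat_lit 6) (Steps.bwd (nat_lit 1) (Steps.fwd (nat_lit 28672) (Steps.bwd (nat_lit 1) (Steps.fwd (nat_lit 8192) (Steps.bwd (nat_lit 7) (Steps.bwd (nat_lit 9) Steps.nil))))))) (nat_lit 43) (nat_lit 7),
  Rule.mk (nat_lit 8) (nat_lit 148) (Steps.bwd (nat_lit 1) (Steps.fwd (nat_lit 8192) (Steps.bwd (nat_lit 1) (Steps.fwd (nat_lit 12288) (Steps.fwd (nat_lit 24576) (Steps.bwd (nat_lit 3) (Steps.fwd (nat_lit 4096) (Steps.bwd (nat_lit 7) (Steps.bwd (nat_lit 9) Steps.nil))))))))) (nat_lit 46) (nat_lit 1),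
  Rule.mk (nat_lit 5) (nat_lit 118) (Steps.bwd (nat_lit 3) (Steps.fwd (nat_lit 4096) (Steps.fwd (nat_lit 4096) (Steps.bwd (nat_lit 7) (Steps.fwd (nat_lit 40960) (Steps.fwd (nat_lit 53248) (Steps.fwd (nat_lit 45056) Steps.nil))))))) (nat_lit 33) (nat_lit 5),
  Rule.mk (nat_lit 6) (nat_lit 148) (Steps.bwd (nat_lit 3) (Steps.fwd (nat_lit 4096) (Steps.fwd (nat_lit 4096) (Steps.fwd (nat_lit 4096) (Steps.fwd (nat_lit 32768) (Steps.fwd (nat_lit 36864) (Steps.bwd (nat_lit 8) (Steps.bwd (nat_lit 1) (Steps.bwd (nat_lit 4) Steps.nil))))))))) (nat_lit 47) (nat_lit 5),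
  Rule.mk (nat_lit 13) (nat_lit 148) (Steps.bwd (nat_lit 3) (Steps.fwd (nat_lit 4096) (Steps.fwd (nat_lit 4096) (Steps.fwd (nat_lit 12288) (Steps.fwd (nat_lit 20480) (Steps.fwd (nat_lit 53248) (Steps.fwd (nat_lit 45056) (Steps.bwd (nat_lit 5) (Steps.fwd (nat_lit 49152) Steps.nil))))))))) (nat_lit 52) (nat_lit 0),
  Rule.mk (nat_lit 7) (nat_lit 103) (Steps.bwd (nat_lit 5) (Steps.bwd (nat_lit 13) (Steps.fwd (nat_lit 49152) (Steps.bwd (nat_lit 2) (Steps.bwd (nat_lit 3) (Steps.bwd (nat_lit 9) Steps.nil)))))) (nat_lit 30) (nat_lit 5),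
  Rule.mk (nat_lit 13) (nat_lit 118) (Steps.fwd (nat_lit 36864) (Steps.bwd (nat_lit 7) (Steps.bwd (nat_lit 9) (Steps.bwd (nat_lit 13) (Steps.bwd (nat_lit 10) (Steps.fwd (nat_lit 32768) (Steps.bwd (nat_lit 9) Steps.nil))))))) (nat_lit 38) (nat_lit 1),
  Rule.mk (nat_lit 11) (nat_lit 118) (Steps.fwd (nat_lit 57344) (Steps.fwd (nat_lit 32768) (Steps.bwd (nat_lit 9) (Steps.bwd (nat_lit 11) (Steps.bwd (nat_lit 13) (Steps.fwd (nat_lit 32768) (Steps.bwd (nat_lit 9) Steps.nil))))))) (nat_lit 41) (nat_lit 2),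
  Rule.mk (nat_lit 6) (nat_lit 118) (Steps.bwd (nat_lit 11) (Steps.fwd (nat_lit 24576) (Steps.fwd (nat_lit 16384) (Steps.fwd (nat_lit 20480) (Steps.bwd (nat_lit 11) (Steps.bwd (nat_lit 5) (Steps.fwd (nat_lit 16384) Steps.nil))))))) (nat_lit 34) (nat_lit 2),
  Rule.mk (nat_lit 0) (nat_lit 118) (Steps.fwd (nat_lit 32768) (Steps.fwd (nat_lit 24576) (Steps.fwd (nat_lit 57344) (Steps.bwd (nat_lit 11) (Steps.fwd (nat_lit 4096) (Steps.bwd (nat_lit 3) (Steps.bwd (nat_lit 9) Steps.nil))))))) (nat_lit 30) (nat_lit 4),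
  Rule.mk (nat_lit 12) (nat_lit 73) (Steps.bwd (nat_lit 7) (Steps.bwd (nat_lit 3) (Steps.bwd (nat_lit 13) (Steps.fwd (nat_lit 24576) Steps.nil)))) (nat_lit 17) (nat_lit 3),
  Rule.mk (nat_lit 1) (nat_lit 88) (Steps.bwd (nat_lit 7) (Steps.bwd (nat_lit 1) (Steps.fwd (nat_lit 12288) (Steps.fwd (nat_lit 36864) (Steps.fwd (nat_lit 20480) Steps.nil))))) (nat_lit 22) (nat_lit 0),
  Rule.mk (nat_lit 2) (nat_lit 118) (Steps.bwd (nat_lit 7) (Steps.fwd (nat_lit 4096) (Steps.fwd (nat_lit 24576) (Steps.fwd (nat_lit 8192) (Steps.fwd (nat_lit 36864) (Steps.bwd (nat_lit 8) (Steps.fwd (nat_lit 4096) Steps.nil))))))) (nat_lit 42) (nat_lit 6),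
  Rule.mk (nat_lit 6) (nat_lit 73) (Steps.fwd (nat_lit 12288) (Steps.fwd (nat_lit 32768) (Steps.fwd (nat_lit 4096) (Steps.bwd (nat_lit 2) Steps.nil)))) (nat_lit 14) (nat_lit 0),
  Rule.mk (nat_lit 13) (nat_lit 118) (Steps.bwd (nat_lit 7) (Steps.bwd (nat_lit 9) (Steps.bwd (nat_lit 11) (Steps.bwd (nat_lit 13) (Steps.fwd (nat_lit 32768) (Steps.bwd (nat_lit 9) (Steps.bwd (nat_lit 11) Steps.nil))))))) (nat_lit 41) (nat_lit 3),
  Rule.mk (nat_lit 12) (nat_lit 148) (Steps.bwd (nat_lit 13) (Steps.fwd (nat_lit 45056) (Steps.fwd (nat_lit 57344) (Steps.bwd (nat_lit 12) (Steps.fwd (nat_lit 57344) (Steps.fwd (nat_lit 45056) (Steps.bwd (nat_lit 13) (Steps.fwd (nat_lit 45056) (Steps.bwd (nat_lit 13) Steps.nil))))))))) (nat_lit 50) (nat_lit 1),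
  Rule.mk (nat_lit 1) (nat_lit 118) (Steps.bwd (nat_lit 10) (Steps.bwd (nat_lit 8) (Steps.fwd (nat_lit 4096) (Steps.fwd (nat_lit 4096) (Steps.bwd (nat_lit 7) (Steps.fwd (nat_lit 4096) (Steps.fwd (nat_lit 24576) Steps.nil))))))) (nat_lit 42) (nat_lit 2),
  Rule.mk (nat_lit 11) (nat_lit 133) (Steps.fwd (nat_lit 53248) (Steps.bwd (nat_lit 12) (Steps.fwd (nat_lit 24576) (Steps.fwd (nat_lit 36864) (Steps.fwd (nat_lit 28672) (Steps.bwd (nat_lit 3) (Steps.fwd (nat_lit 28672) (Steps.bwd (nat_lit 3) Steps.nil)))))))) (nat_lit 45) (nat_lit 1),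
  Rule.mk (nat_lit 8) (nat_lit 133) (Steps.fwd (nat_lit 16384) (Steps.bwd (nat_lit 11) (Steps.bwd (nat_lit 14) (Steps.fwd (nat_lit 45056) (Steps.fwd (nat_lit 24576) (Steps.bwd (nat_lit 10) (Steps.fwd (nat_lit 28672) (Steps.bwd (nat_lit 3) Steps.nil)))))))) (nat_lit 45) (nat_lit 8),
  Rule.mk (nat_lit 2) (nat_lit 88) (Steps.bwd (nat_lit 8) (Steps.bwd (nat_lit 2) (Steps.bwd (nat_lit 5) (Steps.bwd (nat_lit 9) (Steps.bwd (nat_lit 3) Steps.nil))))) (nat_lit 23) (nat_lit 5),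
  Rule.mk (nat_lit 9) (nat_lit 148) (Steps.bwd (nat_lit 8) (Steps.fwd (nat_lit 40960) (Steps.fwd (nat_lit 28672) (Steps.bwd (nat_lit 9) (Steps.bwd (nat_lit 8) (Steps.fwd (nat_lit 40960) (Steps.bwd (nat_lit 8) (Steps.bwd (nat_lit 9) (Steps.bwd (nat_lit 8) Steps.nil))))))))) (nat_lit 48) (nat_lit 0),
  Rule.mk (nat_lit 14) (nat_lit 118) (Steps.bwd (nat_lit 11) (Steps.fwd (nat_lit 57344) (Steps.fwd (nat_lit 40960) (Steps.fwd (nat_lit 53248) (Steps.fwd (nat_lit 49152) (Steps.fwd (nat_lit 57344) (Steps.bwd (nat_lit 9) Steps.nil))))))) (nat_lit 36) (nat_lit 2)]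
noncomputable def R_64 : List (Rule) := [Rule.mk (nat_lit 4) (nat_lit 88) (Steps.bwd (nat_lit 10) (Steps.bwd (nat_lit 6) (Steps.bwd (nat_lit 1) (Steps.bwd (nat_lit 7) (Steps.fwd (nat_lit 8192) Steps.nil))))) (nat_lit 22) (nat_lit 3),
  Rule.mk (nat_lit 5) (nat_lit 148) (Steps.fwd (nat_lit 16384) (Steps.bwd (nat_lit 2) (Steps.bwd (nat_lit 7) (Steps.fwd (nat_lit 40960) (Steps.fwd (nat_lit 28672) (Steps.bwd (nat_lit 1) (Steps.bwd (nat_lit 1) (Steps.fwd (nat_lit 8192) (Steps.bwd (nat_lit 4) Steps.nil))))))))) (nat_lit 46) (nat_lit 6),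
  Rule.mk (nat_lit 3) (nat_lit 103) (Steps.fwd (nat_lit 40960) (Steps.bwd (nat_lit 7) (Steps.fwd (nat_lit 24576) (Steps.fwd (nat_lit 57344) (Steps.fwd (nat_lit 49152) (Steps.bwd (nat_lit 2) Steps.nil)))))) (nat_lit 30) (nat_lit 3),
  Rule.mk (nat_lit 14) (nat_lit 133) (Steps.fwd (nat_lit 45056) (Steps.bwd (nat_lit 5) (Steps.bwd (nat_lit 10) (Steps.fwd (nat_lit 28672) (Steps.fwd (nat_lit 16384) (Steps.bwd (nat_lit 8) (Steps.fwd (nat_lit 16384) (Steps.bwd (nat_lit 11) Steps.nil)))))))) (nat_lit 45) (nat_lit 2),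
  Rule.mk (nat_lit 5) (nat_lit 118) (Steps.bwd (nat_lit 3) (Steps.bwd (nat_lit 6) (Steps.fwd (nat_lit 49152) (Steps.bwd (nat_lit 5) (Steps.bwd (nat_lit 3) (Steps.bwd (nat_lit 6) (Steps.bwd (nat_lit 11) Steps.nil))))))) (nat_lit 34) (nat_lit 0),
  Rule.mk (nat_lit 2) (nat_lit 148) (Steps.bwd (nat_lit 7) (Steps.fwd (nat_lit 40960) (Steps.bwd (nat_lit 8) (Steps.bwd (nat_lit 1) (Steps.fwd (nat_lit 8192) (Steps.bwd (nat_lit 1) (Steps.fwd (nat_lit 12288) (Steps.bwd (nat_lit 5) (Steps.bwd (nat_lit 3) Steps.nil))))))))) (nat_lit 46) (nat_lit 8),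
  Rule.mk (nat_lit 14) (nat_lit 118) (Steps.fwd (nat_lit 45056) (Steps.fwd (nat_lit 36864) (Steps.fwd (nat_lit 28672) (Steps.bwd (nat_lit 14) (Steps.bwd (nat_lit 12) (Steps.bwd (nat_lit 10) (Steps.bwd (nat_lit 8) Steps.nil))))))) (nat_lit 40) (nat_lit 2),
  Rule.mk (nat_lit 11) (nat_lit 148) (Steps.bwd (nat_lit 14) (Steps.bwd (nat_lit 11) (Steps.bwd (nat_lit 14) (Steps.fwd (nat_lit 49152) (Steps.bwd (nat_lit 14) (Steps.fwd (nat_lit 49152) (Steps.fwd (nat_lit 53248) (Steps.fwd (nat_lit 49152) (Steps.fwd (nat_lit 53248) Steps.nil))))))))) (nat_lit 51) (nat_lit 0),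
  Rule.mk (nat_lit 8) (nat_lit 118) (Steps.bwd (nat_lit 14) (Steps.bwd (nat_lit 12) (Steps.bwd (nat_lit 10) (Steps.fwd (nat_lit 28672) (Steps.fwd (nat_lit 53248) (Steps.bwd (nat_lit 12) (Steps.fwd (nat_lit 36864) Steps.nil))))))) (nat_lit 40) (nat_lit 1),
  Rule.mk (nat_lit 1) (nat_lit 118) (Steps.fwd (nat_lit 8192) (Steps.bwd (nat_lit 7) (Steps.bwd (nat_lit 9) (Steps.fwd (nat_lit 4096) (Steps.bwd (nat_lit 6) (Steps.bwd (nat_lit 1) (Steps.bwd (nat_lit 8) Steps.nil))))))) (nat_lit 43) (nat_lit 3),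
  Rule.mk (nat_lit 10) (nat_lit 88) (Steps.fwd (nat_lit 49152) (Steps.fwd (nat_lit 53248) (Steps.bwd (nat_lit 11) (Steps.fwd (nat_lit 57344) (Steps.bwd (nat_lit 12) Steps.nil))))) (nat_lit 27) (nat_lit 4),
  Rule.mk (nat_lit 5) (nat_lit 118) (Steps.fwd (nat_lit 16384) (Steps.fwd (nat_lit 4096) (Steps.fwd (nat_lit 4096) (Steps.bwd (nat_lit 7) (Steps.fwd (nat_lit 40960) (Steps.bwd (nat_lit 14) (Steps.bwd (nat_lit 12) Steps.nil))))))) (nat_lit 33) (nat_lit 5),
  Rule.mk (nat_lit 4) (nat_lit 148) (Steps.bwd (nat_lit 5) (Steps.fwd (nat_lit 16384) (Steps.fwd (nat_lit 4096) (Steps.fwd (nat_lit 32768) (Steps.fwd (nat_lit 40960) (Steps.fwd (nat_lit 28672) (Steps.fwd (nat_lit 8192) (Steps.fwd (nat_lit 8192) (Steps.bwd (nat_lit 1) Steps.nil))))))))) (nat_lit 46) (nat_lit 5),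
  Rule.mk (nat_lit 1) (nat_lit 148) (Steps.bwd (nat_lit 4) (Steps.bwd (nat_lit 5) (Steps.bwd (nat_lit 3) (Steps.bwd (nat_lit 2) (Steps.fwd (nat_lit 32768) (Steps.fwd (nat_lit 40960) (Steps.fwd (nat_lit 28672) (Steps.bwd (nat_lit 1) (Steps.fwd (nat_lit 8192) Steps.nil))))))))) (nat_lit 46) (nat_lit 4),
  Rule.mk (nat_lit 12) (nat_lit 103) (Steps.bwd (nat_lit 14) (Steps.bwd (nat_lit 6) (Steps.fwd (nat_lit 28672) (Steps.bwd (nat_lit 10) (Steps.fwd (nat_lit 12288) (Steps.bwd (nat_lit 1) Steps.nil)))))) (nat_lit 31) (nat_lit 0),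
  Rule.mk (nat_lit 14) (nat_lit 148) (Steps.fwd (nat_lit 45056) (Steps.bwd (nat_lit 6) (Steps.bwd (nat_lit 11) (Steps.bwd (nat_lit 13) (Steps.fwd (nat_lit 24576) (Steps.bwd (nat_lit 3) (Steps.fwd (nat_lit 8192) (Steps.bwd (nat_lit 1) (Steps.bwd (nat_lit 4) Steps.nil))))))))) (nat_lit 53) (nat_lit 1),
  Rule.mk (nat_lit 10) (nat_lit 118) (Steps.bwd (nat_lit 14) (Steps.fwd (nat_lit 45056) (Steps.fwd (nat_lit 57344) (Steps.fwd (nat_lit 36864) (Steps.fwd (nat_lit 53248) (Steps.fwd (nat_lit 45056) (Steps.fwd (nat_lit 57344) Steps.nil))))))) (nat_lit 37) (nat_lit 0),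
  Rule.mk (nat_lit 10) (nat_lit 103) (Steps.fwd (nat_lit 12288) (Steps.fwd (nat_lit 8192) (Steps.fwd (nat_lit 45056) (Steps.fwd (nat_lit 53248) (Steps.bwd (nat_lit 6) (Steps.bwd (nat_lit 8) Steps.nil)))))) (nat_lit 31) (nat_lit 4),
  Rule.mk (nat_lit 11) (nat_lit 133) (Steps.bwd (nat_lit 14) (Steps.bwd (nat_lit 12) (Steps.fwd (nat_lit 24576) (Steps.fwd (nat_lit 36864) (Steps.bwd (nat_lit 8) (Steps.bwd (nat_lit 3) (Steps.bwd (nat_lit 8) (Steps.fwd (nat_lit 16384) Steps.nil)))))))) (nat_lit 45) (nat_lit 1),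
  Rule.mk (nat_lit 1) (nat_lit 148) (Steps.fwd (nat_lit 12288) (Steps.bwd (nat_lit 6) (Steps.bwd (nat_lit 3) (Steps.bwd (nat_lit 2) (Steps.bwd (nat_lit 2) (Steps.bwd (nat_lit 2) (Steps.bwd (nat_lit 7) (Steps.fwd (nat_lit 36864) (Steps.bwd (nat_lit 8) Steps.nil))))))))) (nat_lit 47) (nat_lit 3),
  Rule.mk (nat_lit 13) (nat_lit 103) (Steps.bwd (nat_lit 11) (Steps.fwd (nat_lit 4096) (Steps.bwd (nat_lit 3) (Steps.fwd (nat_lit 40960) (Steps.fwd (nat_lit 32768) (Steps.fwd (nat_lit 24576) Steps.nil)))))) (nat_lit 30) (nat_lit 0),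
  Rule.mk (nat_lit 9) (nat_lit 118) (Steps.bwd (nat_lit 11) (Steps.fwd (nat_lit 57344) (Steps.fwd (nat_lit 32768) (Steps.fwd (nat_lit 40960) (Steps.fwd (nat_lit 49152) (Steps.bwd (nat_lit 13) (Steps.bwd (nat_lit 7) Steps.nil))))))) (nat_lit 41) (nat_lit 1),
  Rule.mk (nat_lit 8) (nat_lit 148) (Steps.bwd (nat_lit 9) (Steps.bwd (nat_lit 8) (Steps.fwd (nat_lit 40960) (Steps.bwd (nat_lit 8) (Steps.bwd (nat_lit 9) (Steps.fwd (nat_lit 28672) (Steps.fwd (nat_lit 40960) (Steps.fwd (nat_lit 28672) (Steps.fwd (nat_lit 40960) Steps.nil))))))))) (nat_lit 48) (nat_lit 1),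
  Rule.mk (nat_lit 10) (nat_lit 103) (Steps.fwd (nat_lit 12288) (Steps.fwd (nat_lit 8192) (Steps.bwd (nat_lit 12) (Steps.bwd (nat_lit 14) (Steps.fwd (nat_lit 20480) (Steps.bwd (nat_lit 8) Steps.nil)))))) (nat_lit 31) (nat_lit 4),
  Rule.mk (nat_lit 1) (nat_lit 118) (Steps.bwd (nat_lit 1) (Steps.fwd (nat_lit 12288) (Steps.fwd (nat_lit 20480) (Steps.bwd (nat_lit 11) (Steps.bwd (nat_lit 13) (Steps.fwd (nat_lit 36864) (Steps.bwd (nat_lit 8) Steps.nil))))))) (nat_lit 32) (nat_lit 1),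
  Rule.mk (nat_lit 14) (nat_lit 118) (Steps.fwd (nat_lit 45056) (Steps.bwd (nat_lit 10) (Steps.fwd (nat_lit 28672) (Steps.bwd (nat_lit 14) (Steps.bwd (nat_lit 12) (Steps.fwd (nat_lit 36864) (Steps.bwd (nat_lit 8) Steps.nil))))))) (nat_lit 40) (nat_lit 2),
  Rule.mk (nat_lit 2) (nat_lit 118) (Steps.fwd (nat_lit 4096) (Steps.bwd (nat_lit 7) (Steps.bwd (nat_lit 2) (Steps.fwd (nat_lit 24576) (Steps.fwd (nat_lit 8192) (Steps.fwd (nat_lit 36864) (Steps.bwd (nat_lit 8) Steps.nil))))))) (nat_lit 42) (nat_lit 5),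
  Rule.mk (nat_lit 4) (nat_lit 88) (Steps.fwd (nat_lit 36864) (Steps.bwd (nat_lit 6) (Steps.bwd (nat_lit 1) (Steps.fwd (nat_lit 32768) (Steps.fwd (nat_lit 8192) Steps.nil))))) (nat_lit 22) (nat_lit 3),
  Rule.mk (nat_lit 6) (nat_lit 148) (Steps.fwd (nat_lit 16384) (Steps.fwd (nat_lit 4096) (Steps.bwd (nat_lit 2) (Steps.fwd (nat_lit 4096) (Steps.bwd (nat_lit 7) (Steps.fwd (nat_lit 36864) (Steps.fwd (nat_lit 28672) (Steps.fwd (nat_lit 8192) (Steps.bwd (nat_lit 4) Steps.nil))))))))) (nat_lit 47) (nat_lit 5),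
  Rule.mk (nat_lit 6) (nat_lit 118) (Steps.bwd (nat_lit 11) (Steps.fwd (nat_lit 24576) (Steps.fwd (nat_lit 16384) (Steps.fwd (nat_lit 20480) (Steps.fwd (nat_lit 49152) (Steps.bwd (nat_lit 5) (Steps.bwd (nat_lit 3) Steps.nil))))))) (nat_lit 34) (nat_lit 2),
  Rule.mk (nat_lit 2) (nat_lit 73) (Steps.bwd (nat_lit 6) (Steps.fwd (nat_lit 12288) (Steps.bwd (nat_lit 7) (Steps.fwd (nat_lit 4096) Steps.nil)))) (nat_lit 14) (nat_lit 4),
  Rule.mk (nat_lit 14) (nat_lit 103) (Steps.bwd (nat_lit 6) (Steps.fwd (nat_lit 28672) (Steps.fwd (nat_lit 36864) (Steps.bwd (nat_lit 4) (Steps.bwd (nat_lit 1) (Steps.fwd (nat_lit 45056) Steps.nil)))))) (nat_lit 31) (nat_lit 1),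
  Rule.mk (nat_lit 12) (nat_lit 88) (Steps.bwd (nat_lit 9) (Steps.fwd (nat_lit 49152) (Steps.fwd (nat_lit 53248) (Steps.fwd (nat_lit 45056) (Steps.bwd (nat_lit 13) Steps.nil))))) (nat_lit 26) (nat_lit 2),
  Rule.mk (nat_lit 10) (nat_lit 118) (Steps.fwd (nat_lit 53248) (Steps.bwd (nat_lit 12) (Steps.bwd (nat_lit 13) (Steps.fwd (nat_lit 36864) (Steps.fwd (nat_lit 53248) (Steps.fwd (nat_lit 45056) (Steps.bwd (nat_lit 13) Steps.nil))))))) (nat_lit 37) (nat_lit 0),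
  Rule.mk (nat_lit 1) (nat_lit 118) (Steps.bwd (nat_lit 10) (Steps.fwd (nat_lit 28672) (Steps.fwd (nat_lit 4096) (Steps.fwd (nat_lit 4096) (Steps.bwd (nat_lit 7) (Steps.bwd (nat_lit 2) (Steps.fwd (nat_lit 24576) Steps.nil))))))) (nat_lit 42) (nat_lit 2),
  Rule.mk (nat_lit 7) (nat_lit 148) (Steps.bwd (nat_lit 10) (Steps.fwd (nat_lit 28672) (Steps.bwd (nat_lit 1) (Steps.fwd (nat_lit 12288) (Steps.fwd (nat_lit 20480) (Steps.fwd (nat_lit 16384) (Steps.fwd (nat_lit 4096) (Steps.fwd (nat_lit 4096) (Steps.fwd (nat_lit 4096) Steps.nil))))))))) (nat_lit 47) (nat_lit 0),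
  Rule.mk (nat_lit 3) (nat_lit 118) (Steps.bwd (nat_lit 6) (Steps.bwd (nat_lit 11) (Steps.fwd (nat_lit 24576) (Steps.bwd (nat_lit 3) (Steps.fwd (nat_lit 20480) (Steps.fwd (nat_lit 49152) (Steps.bwd (nat_lit 5) Steps.nil))))))) (nat_lit 34) (nat_lit 1),
  Rule.mk (nat_lit 1) (nat_lit 73) (Steps.fwd (nat_lit 28672) (Steps.bwd (nat_lit 3) (Steps.bwd (nat_lit 5) (Steps.bwd (nat_lit 1) Steps.nil)))) (nat_lit 15) (nat_lit 3),
  Rule.mk (nat_lit 7) (nat_lit 118) (Steps.bwd (nat_lit 9) (Steps.bwd (nat_lit 2) (Steps.bwd (nat_lit 6) (Steps.fwd (nat_lit 8192) (Steps.bwd (nat_lit 8) (Steps.fwd (nat_lit 8192) (Steps.bwd (nat_lit 1) Steps.nil))))))) (nat_lit 43) (nat_lit 5),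
  Rule.mk (nat_lit 9) (nat_lit 103) (Steps.bwd (nat_lit 7) (Steps.bwd (nat_lit 5) (Steps.bwd (nat_lit 13) (Steps.bwd (nat_lit 11) (Steps.bwd (nat_lit 2) (Steps.fwd (nat_lit 16384) Steps.nil)))))) (nat_lit 30) (nat_lit 4),
  Rule.mk (nat_lit 5) (nat_lit 118) (Steps.fwd (nat_lit 16384) (Steps.fwd (nat_lit 4096) (Steps.fwd (nat_lit 4096) (Steps.bwd (nat_lit 7) (Steps.fwd (nat_lit 40960) (Steps.fwd (nat_lit 53248) (Steps.bwd (nat_lit 12) Steps.nil))))))) (nat_lit 33) (nat_lit 5),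
  Rule.mk (nat_lit 4) (nat_lit 133) (Steps.bwd (nat_lit 7) (Steps.bwd (nat_lit 4) (Steps.bwd (nat_lit 7) (Steps.bwd (nat_lit 9) (Steps.bwd (nat_lit 6) (Steps.fwd (nat_lit 49152) (Steps.fwd (nat_lit 57344) (Steps.bwd (nat_lit 12) Steps.nil)))))))) (nat_lit 44) (nat_lit 1),
  Rule.mk (nat_lit 7) (nat_lit 133) (Steps.bwd (nat_lit 4) (Steps.bwd (nat_lit 7) (Steps.fwd (nat_lit 40960) (Steps.fwd (nat_lit 20480) (Steps.bwd (nat_lit 11) (Steps.fwd (nat_lit 57344) (Steps.bwd (nat_lit 12) (Steps.bwd (nat_lit 4) Steps.nil)))))))) (nat_lit 44) (nat_lit 2),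
  Rule.mk (nat_lit 3) (nat_lit 118) (Steps.bwd (nat_lit 6) (Steps.fwd (nat_lit 49152) (Steps.bwd (nat_lit 5) (Steps.bwd (nat_lit 3) (Steps.fwd (nat_lit 20480) (Steps.fwd (nat_lit 49152) (Steps.fwd (nat_lit 24576) Steps.nil))))))) (nat_lit 34) (nat_lit 1),
  Rule.mk (nat_lit 2) (nat_lit 103) (Steps.fwd (nat_lit 28672) (Steps.bwd (nat_lit 3) (Steps.fwd (nat_lit 8192) (Steps.fwd (nat_lit 8192) (Steps.bwd (nat_lit 1) (Steps.bwd (nat_lit 3) Steps.nil)))))) (nat_lit 29) (nat_lit 1),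
  Rule.mk (nat_lit 8) (nat_lit 133) (Steps.bwd (nat_lit 3) (Steps.bwd (nat_lit 11) (Steps.bwd (nat_lit 14) (Steps.bwd (nat_lit 12) (Steps.fwd (nat_lit 24576) (Steps.fwd (nat_lit 36864) (Steps.bwd (nat_lit 8) (Steps.bwd (nat_lit 3) Steps.nil)))))))) (nat_lit 45) (nat_lit 8),
  Rule.mk (nat_lit 2) (nat_lit 103) (Steps.bwd (nat_lit 8) (Steps.bwd (nat_lit 3) (Steps.fwd (nat_lit 8192) (Steps.fwd (nat_lit 8192) (Steps.fwd (nat_lit 8192) (Steps.bwd (nat_lit 3) Steps.nil)))))) (nat_lit 29) (nat_lit 1),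
  Rule.mk (nat_lit 10) (nat_lit 88) (Steps.bwd (nat_lit 8) (Steps.bwd (nat_lit 9) (Steps.fwd (nat_lit 8192) (Steps.bwd (nat_lit 3) (Steps.bwd (nat_lit 2) Steps.nil))))) (nat_lit 20) (nat_lit 4),
  Rule.mk (nat_lit 13) (nat_lit 118) (Steps.bwd (nat_lit 10) (Steps.bwd (nat_lit 8) (Steps.bwd (nat_lit 1) (Steps.bwd (nat_lit 1) (Steps.bwd (nat_lit 4) (Steps.fwd (nat_lit 20480) (Steps.fwd (nat_lit 49152) Steps.nil))))))) (nat_lit 32) (nat_lit 6),
  Rule.mk (nat_lit 14) (nat_lit 118) (Steps.bwd (nat_lit 12) (Steps.bwd (nat_lit 10) (Steps.bwd (nat_lit 8) (Steps.fwd (nat_lit 53248) (Steps.bwd (nat_lit 12) (Steps.fwd (nat_lit 36864) (Steps.fwd (nat_lit 28672) Steps.nil))))))) (nat_lit 40) (nat_lit 2),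
  Rule.mk (nat_lit 10) (nat_lit 118) (Steps.bwd (nat_lit 8) (Steps.fwd (nat_lit 40960) (Steps.fwd (nat_lit 53248) (Steps.fwd (nat_lit 36864) (Steps.fwd (nat_lit 28672) (Steps.bwd (nat_lit 9) (Steps.bwd (nat_lit 14) Steps.nil))))))) (nat_lit 39) (nat_lit 1),
  Rule.mk (nat_lit 8) (nat_lit 103) (Steps.bwd (nat_lit 10) (Steps.bwd (nat_lit 4) (Steps.bwd (nat_lit 1) (Steps.bwd (nat_lit 12) (Steps.fwd (nat_lit 53248) (Steps.bwd (nat_lit 6) Steps.nil)))))) (nat_lit 31) (nat_lit 3),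
  Rule.mk (nat_lit 7) (nat_lit 148) (Steps.bwd (nat_lit 10) (Steps.fwd (nat_lit 32768) (Steps.bwd (nat_lit 10) (Steps.bwd (nat_lit 7) (Steps.fwd (nat_lit 36864) (Steps.fwd (nat_lit 32768) (Steps.bwd (nat_lit 10) (Steps.bwd (nat_lit 7) (Steps.bwd (nat_lit 10) Steps.nil))))))))) (nat_lit 49) (nat_lit 0),
  Rule.mk (nat_lit 5) (nat_lit 103) (Steps.bwd (nat_lit 13) (Steps.bwd (nat_lit 11) (Steps.fwd (nat_lit 4096) (Steps.fwd (nat_lit 16384) (Steps.bwd (nat_lit 9) (Steps.bwd (nat_lit 7) Steps.nil)))))) (nat_lit 30) (nat_lit 6),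
  Rule.mk (nat_lit 5) (nat_lit 148) (Steps.bwd (nat_lit 3) (Steps.fwd (nat_lit 4096) (Steps.fwd (nat_lit 32768) (Steps.fwd (nat_lit 40960) (Steps.fwd (nat_lit 28672) (Steps.bwd (nat_lit 1) (Steps.fwd (nat_lit 8192) (Steps.fwd (nat_lit 8192) (Steps.bwd (nat_lit 4) Steps.nil))))))))) (nat_lit 46) (nat_lit 6),
  Rule.mk (nat_lit 13) (nat_lit 103) (Steps.bwd (nat_lit 11) (Steps.bwd (nat_lit 2) (Steps.fwd (nat_lit 16384) (Steps.bwd (nat_lit 9) (Steps.bwd (nat_lit 7) (Steps.bwd (nat_lit 5) Steps.nil)))))) (nat_lit 30) (nat_lit 0),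
  Rule.mk (nat_lit 2) (nat_lit 118) (Steps.fwd (nat_lit 4096) (Steps.fwd (nat_lit 32768) (Steps.fwd (nat_lit 4096) (Steps.fwd (nat_lit 24576) (Steps.fwd (nat_lit 8192) (Steps.bwd (nat_lit 10) (Steps.bwd (nat_lit 8) Steps.nil))))))) (nat_lit 42) (nat_lit 5),
  Rule.mk (nat_lit 2) (nat_lit 148) (Steps.bwd (nat_lit 4) (Steps.bwd (nat_lit 6) (Steps.fwd (nat_lit 53248) (Steps.fwd (nat_lit 45056) (Steps.fwd (nat_lit 24576) (Steps.fwd (nat_lit 49152) (Steps.bwd (nat_lit 13) (Steps.bwd (nat_lit 3) (Steps.bwd (nat_lit 2) Steps.nil))))))))) (nat_lit 52) (nat_lit 3),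
  Rule.mk (nat_lit 5) (nat_lit 88) (Steps.bwd (nat_lit 9) (Steps.fwd (nat_lit 16384) (Steps.fwd (nat_lit 4096) (Steps.bwd (nat_lit 8) (Steps.bwd (nat_lit 2) Steps.nil))))) (nat_lit 23) (nat_lit 2),
  Rule.mk (nat_lit 3) (nat_lit 103) (Steps.fwd (nat_lit 40960) (Steps.bwd (nat_lit 7) (Steps.fwd (nat_lit 24576) (Steps.bwd (nat_lit 13) (Steps.bwd (nat_lit 11) (Steps.bwd (nat_lit 2) Steps.nil)))))) (nat_lit 30) (nat_lit 3),
  Rule.mk (nat_lit 7) (nat_lit 118) (Steps.fwd (nat_lit 40960) (Steps.fwd (nat_lit 53248) (Steps.bwd (nat_lit 12) (Steps.bwd (nat_lit 5) (Steps.bwd (nat_lit 3) (Steps.bwd (nat_lit 2) (Steps.bwd (nat_lit 2) Steps.nil))))))) (nat_lit 33) (nat_lit 1),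
  Rule.mk (nat_lit 13) (nat_lit 118) (Steps.bwd (nat_lit 7) (Steps.fwd (nat_lit 40960) (Steps.bwd (nat_lit 11) (Steps.fwd (nat_lit 57344) (Steps.bwd (nat_lit 7) (Steps.bwd (nat_lit 9) (Steps.fwd (nat_lit 49152) Steps.nil))))))) (nat_lit 41) (nat_lit 3),
  Rule.mk (nat_lit 12) (nat_lit 88) (Steps.bwd (nat_lit 9) (Steps.bwd (nat_lit 11) (Steps.fwd (nat_lit 53248) (Steps.fwd (nat_lit 45056) (Steps.bwd (nat_lit 13) Steps.nil))))) (nat_lit 26) (nat_lit 2),
  Rule.mk (nat_lit 9) (nat_lit 103) (Steps.fwd (nat_lit 32768) (Steps.bwd (nat_lit 5) (Steps.fwd (nat_lit 57344) (Steps.fwd (nat_lit 49152) (Steps.fwd (nat_lit 4096) (Steps.bwd (nat_lit 3) Steps.nil)))))) (nat_lit 30) (nat_lit 4)]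
noncomputable def R_65 : List (Rule) := [Rule.mk (nat_lit 11) (nat_lit 133) (Steps.bwd (nat_lit 14) (Steps.fwd (nat_lit 45056) (Steps.fwd (nat_lit 24576) (Steps.fwd (nat_lit 36864) (Steps.fwd (nat_lit 28672) (Steps.bwd (nat_lit 3) (Steps.bwd (nat_lit 8) (Steps.bwd (nat_lit 3) Steps.nil)))))))) (nat_lit 45) (nat_lit 1),
  Rule.mk (nat_lit 8) (nat_lit 148) (Steps.bwd (nat_lit 9) (Steps.bwd (nat_lit 8) (Steps.fwd (nat_lit 40960) (Steps.bwd (nat_lit 8) (Steps.fwd (nat_lit 40960) (Steps.fwd (nat_lit 28672) (Steps.bwd (nat_lit 9) (Steps.bwd (nat_lit 8) (Steps.bwd (nat_lit 9) Steps.nil))))))))) (nat_lit 48) (nat_lit 1),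
  Rule.mk (nat_lit 2) (nat_lit 103) (Steps.fwd (nat_lit 16384) (Steps.fwd (nat_lit 40960) (Steps.fwd (nat_lit 32768) (Steps.bwd (nat_lit 5) (Steps.bwd (nat_lit 13) (Steps.bwd (nat_lit 11) Steps.nil)))))) (nat_lit 30) (nat_lit 2),
  Rule.mk (nat_lit 2) (nat_lit 103) (Steps.bwd (nat_lit 2) (Steps.bwd (nat_lit 4) (Steps.fwd (nat_lit 32768) (Steps.fwd (nat_lit 8192) (Steps.fwd (nat_lit 12288) (Steps.bwd (nat_lit 2) Steps.nil)))))) (nat_lit 28) (nat_lit 3),
  Rule.mk (nat_lit 11) (nat_lit 88) (Steps.bwd (nat_lit 14) (Steps.fwd (nat_lit 49152) (Steps.fwd (nat_lit 57344) (Steps.fwd (nat_lit 45056) (Steps.bwd (nat_lit 10) Steps.nil))))) (nat_lit 27) (nat_lit 5),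
  Rule.mk (nat_lit 4) (nat_lit 103) (Steps.fwd (nat_lit 8192) (Steps.fwd (nat_lit 45056) (Steps.bwd (nat_lit 14) (Steps.bwd (nat_lit 6) (Steps.bwd (nat_lit 8) (Steps.bwd (nat_lit 10) Steps.nil)))))) (nat_lit 31) (nat_lit 5),
  Rule.mk (nat_lit 6) (nat_lit 118) (Steps.bwd (nat_lit 11) (Steps.fwd (nat_lit 57344) (Steps.bwd (nat_lit 10) (Steps.bwd (nat_lit 8) (Steps.bwd (nat_lit 1) (Steps.bwd (nat_lit 1) (Steps.bwd (nat_lit 4) Steps.nil))))))) (nat_lit 32) (nat_lit 4),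
  Rule.mk (nat_lit 10) (nat_lit 118) (Steps.bwd (nat_lit 8) (Steps.fwd (nat_lit 4096) (Steps.fwd (nat_lit 4096) (Steps.fwd (nat_lit 32768) (Steps.bwd (nat_lit 2) (Steps.fwd (nat_lit 24576) (Steps.bwd (nat_lit 1) Steps.nil))))))) (nat_lit 42) (nat_lit 3),
  Rule.mk (nat_lit 5) (nat_lit 148) (Steps.fwd (nat_lit 16384) (Steps.bwd (nat_lit 2) (Steps.fwd (nat_lit 32768) (Steps.bwd (nat_lit 9) (Steps.bwd (nat_lit 8) (Steps.fwd (nat_lit 8192) (Steps.bwd (nat_lit 1) (Steps.bwd (nat_lit 1) (Steps.bwd (nat_lit 4) Steps.nil))))))))) (nat_lit 46) (nat_lit 6),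
  Rule.mk (nat_lit 12) (nat_lit 118) (Steps.bwd (nat_lit 5) (Steps.fwd (nat_lit 16384) (Steps.bwd (nat_lit 2) (Steps.fwd (nat_lit 4096) (Steps.bwd (nat_lit 7) (Steps.fwd (nat_lit 40960) (Steps.fwd (nat_lit 53248) Steps.nil))))))) (nat_lit 33) (nat_lit 4),
  Rule.mk (nat_lit 13) (nat_lit 118) (Steps.bwd (nat_lit 10) (Steps.fwd (nat_lit 53248) (Steps.bwd (nat_lit 12) (Steps.bwd (nat_lit 13) (Steps.bwd (nat_lit 10) (Steps.fwd (nat_lit 53248) (Steps.bwd (nat_lit 12) Steps.nil))))))) (nat_lit 37) (nat_lit 3),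
  Rule.mk (nat_lit 14) (nat_lit 73) (Steps.fwd (nat_lit 12288) (Steps.fwd (nat_lit 28672) (Steps.fwd (nat_lit 49152) (Steps.bwd (nat_lit 6) Steps.nil)))) (nat_lit 16) (nat_lit 0),
  Rule.mk (nat_lit 1) (nat_lit 88) (Steps.fwd (nat_lit 12288) (Steps.fwd (nat_lit 36864) (Steps.fwd (nat_lit 20480) (Steps.fwd (nat_lit 8192) (Steps.bwd (nat_lit 7) Steps.nil))))) (nat_lit 22) (nat_lit 2),
  Rule.mk (nat_lit 2) (nat_lit 103) (Steps.bwd (nat_lit 2) (Steps.fwd (nat_lit 12288) (Steps.fwd (nat_lit 32768) (Steps.bwd (nat_lit 1) (Steps.fwd (nat_lit 12288) (Steps.fwd (nat_lit 4096) Steps.nil)))))) (nat_lit 28) (nat_lit 3),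
  Rule.mk (nat_lit 5) (nat_lit 88) (Steps.fwd (nat_lit 40960) (Steps.fwd (nat_lit 16384) (Steps.fwd (nat_lit 4096) (Steps.fwd (nat_lit 28672) (Steps.bwd (nat_lit 2) Steps.nil))))) (nat_lit 23) (nat_lit 2),
  Rule.mk (nat_lit 7) (nat_lit 118) (Steps.bwd (nat_lit 9) (Steps.fwd (nat_lit 53248) (Steps.fwd (nat_lit 45056) (Steps.fwd (nat_lit 24576) (Steps.bwd (nat_lit 3) (Steps.fwd (nat_lit 4096) (Steps.bwd (nat_lit 2) Steps.nil))))))) (nat_lit 33) (nat_lit 1),
  Rule.mk (nat_lit 4) (nat_lit 148) (Steps.bwd (nat_lit 6) (Steps.fwd (nat_lit 53248) (Steps.fwd (nat_lit 45056) (Steps.bwd (nat_lit 5) (Steps.fwd (nat_lit 49152) (Steps.fwd (nat_lit 57344) (Steps.bwd (nat_lit 3) (Steps.fwd (nat_lit 4096) (Steps.bwd (nat_lit 2) Steps.nil))))))))) (nat_lit 52) (nat_lit 4),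
  Rule.mk (nat_lit 10) (nat_lit 103) (Steps.bwd (nat_lit 4) (Steps.bwd (nat_lit 1) (Steps.bwd (nat_lit 12) (Steps.fwd (nat_lit 53248) (Steps.fwd (nat_lit 20480) (Steps.fwd (nat_lit 28672) Steps.nil)))))) (nat_lit 31) (nat_lit 4),
  Rule.mk (nat_lit 14) (nat_lit 88) (Steps.bwd (nat_lit 11) (Steps.fwd (nat_lit 57344) (Steps.fwd (nat_lit 45056) (Steps.bwd (nat_lit 10) (Steps.bwd (nat_lit 11) Steps.nil))))) (nat_lit 27) (nat_lit 0),
  Rule.mk (nat_lit 2) (nat_lit 103) (Steps.bwd (nat_lit 3) (Steps.fwd (nat_lit 40960) (Steps.bwd (nat_lit 7) (Steps.bwd (nat_lit 5) (Steps.bwd (nat_lit 13) (Steps.fwd (nat_lit 49152) Steps.nil)))))) (nat_lit 30) (nat_lit 2),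
  Rule.mk (nat_lit 8) (nat_lit 88) (Steps.fwd (nat_lit 4096) (Steps.bwd (nat_lit 5) (Steps.fwd (nat_lit 40960) (Steps.fwd (nat_lit 16384) (Steps.bwd (nat_lit 2) Steps.nil))))) (nat_lit 23) (nat_lit 0),
  Rule.mk (nat_lit 7) (nat_lit 118) (Steps.fwd (nat_lit 40960) (Steps.bwd (nat_lit 14) (Steps.fwd (nat_lit 45056) (Steps.bwd (nat_lit 5) (Steps.bwd (nat_lit 3) (Steps.fwd (nat_lit 4096) (Steps.bwd (nat_lit 2) Steps.nil))))))) (nat_lit 33) (nat_lit 1),
  Rule.mk (nat_lit 4) (nat_lit 148) (Steps.fwd (nat_lit 20480) (Steps.fwd (nat_lit 53248) (Steps.fwd (nat_lit 45056) (Steps.bwd (nat_lit 5) (Steps.fwd (nat_lit 49152) (Steps.bwd (nat_lit 13) (Steps.bwd (nat_lit 3) (Steps.fwd (nat_lit 4096) (Steps.bwd (nat_lit 2) Steps.nil))))))))) (nat_lit 52) (nat_lit 4),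
  Rule.mk (nat_lit 12) (nat_lit 88) (Steps.bwd (nat_lit 13) (Steps.bwd (nat_lit 12) (Steps.fwd (nat_lit 40960) (Steps.bwd (nat_lit 11) (Steps.bwd (nat_lit 14) Steps.nil))))) (nat_lit 26) (nat_lit 0),
  Rule.mk (nat_lit 7) (nat_lit 148) (Steps.bwd (nat_lit 10) (Steps.fwd (nat_lit 28672) (Steps.bwd (nat_lit 1) (Steps.fwd (nat_lit 12288) (Steps.bwd (nat_lit 6) (Steps.bwd (nat_lit 3) (Steps.bwd (nat_lit 2) (Steps.fwd (nat_lit 4096) (Steps.fwd (nat_lit 4096) Steps.nil))))))))) (nat_lit 47) (nat_lit 0),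
  Rule.mk (nat_lit 0) (nat_lit 103) (Steps.fwd (nat_lit 53248) (Steps.fwd (nat_lit 45056) (Steps.bwd (nat_lit 13) (Steps.bwd (nat_lit 5) (Steps.fwd (nat_lit 40960) (Steps.bwd (nat_lit 6) Steps.nil)))))) (nat_lit 24) (nat_lit 2),
  Rule.mk (nat_lit 2) (nat_lit 88) (Steps.fwd (nat_lit 28672) (Steps.bwd (nat_lit 2) (Steps.fwd (nat_lit 24576) (Steps.fwd (nat_lit 40960) (Steps.bwd (nat_lit 3) Steps.nil))))) (nat_lit 23) (nat_lit 5),
  Rule.mk (nat_lit 1) (nat_lit 103) (Steps.fwd (nat_lit 8192) (Steps.bwd (nat_lit 1) (Steps.bwd (nat_lit 3) (Steps.bwd (nat_lit 2) (Steps.bwd (nat_lit 8) (Steps.bwd (nat_lit 3) Steps.nil)))))) (nat_lit 29) (nat_lit 4),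
  Rule.mk (nat_lit 8) (nat_lit 118) (Steps.bwd (nat_lit 1) (Steps.fwd (nat_lit 8192) (Steps.fwd (nat_lit 12288) (Steps.bwd (nat_lit 6) (Steps.fwd (nat_lit 49152) (Steps.bwd (nat_lit 13) (Steps.bwd (nat_lit 10) Steps.nil))))))) (nat_lit 32) (nat_lit 0),
  Rule.mk (nat_lit 1) (nat_lit 118) (Steps.bwd (nat_lit 1) (Steps.bwd (nat_lit 4) (Steps.bwd (nat_lit 6) (Steps.fwd (nat_lit 49152) (Steps.bwd (nat_lit 13) (Steps.bwd (nat_lit 10) (Steps.bwd (nat_lit 8) Steps.nil))))))) (nat_lit 32) (nat_lit 1),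
  Rule.mk (nat_lit 14) (nat_lit 88) (Steps.bwd (nat_lit 12) (Steps.fwd (nat_lit 57344) (Steps.fwd (nat_lit 24576) (Steps.fwd (nat_lit 40960) (Steps.fwd (nat_lit 20480) Steps.nil))))) (nat_lit 24) (nat_lit 3),
  Rule.mk (nat_lit 3) (nat_lit 148) (Steps.bwd (nat_lit 2) (Steps.bwd (nat_lit 7) (Steps.bwd (nat_lit 9) (Steps.bwd (nat_lit 8) (Steps.bwd (nat_lit 1) (Steps.fwd (nat_lit 8192) (Steps.bwd (nat_lit 1) (Steps.fwd (nat_lit 12288) (Steps.bwd (nat_lit 5) Steps.nil))))))))) (nat_lit 46) (nat_lit 7),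
  Rule.mk (nat_lit 8) (nat_lit 133) (Steps.bwd (nat_lit 3) (Steps.fwd (nat_lit 49152) (Steps.fwd (nat_lit 53248) (Steps.bwd (nat_lit 12) (Steps.bwd (nat_lit 5) (Steps.fwd (nat_lit 36864) (Steps.bwd (nat_lit 8) (Steps.bwd (nat_lit 3) Steps.nil)))))))) (nat_lit 45) (nat_lit 8),
  Rule.mk (nat_lit 2) (nat_lit 88) (Steps.bwd (nat_lit 8) (Steps.fwd (nat_lit 4096) (Steps.bwd (nat_lit 5) (Steps.fwd (nat_lit 40960) (Steps.fwd (nat_lit 16384) Steps.nil))))) (nat_lit 23) (nat_lit 5),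
  Rule.mk (nat_lit 10) (nat_lit 88) (Steps.fwd (nat_lit 28672) (Steps.bwd (nat_lit 9) (Steps.bwd (nat_lit 1) (Steps.fwd (nat_lit 16384) (Steps.bwd (nat_lit 2) Steps.nil))))) (nat_lit 20) (nat_lit 4),
  Rule.mk (nat_lit 13) (nat_lit 118) (Steps.bwd (nat_lit 10) (Steps.fwd (nat_lit 28672) (Steps.bwd (nat_lit 1) (Steps.fwd (nat_lit 8192) (Steps.bwd (nat_lit 4) (Steps.fwd (nat_lit 20480) (Steps.fwd (nat_lit 49152) Steps.nil))))))) (nat_lit 32) (nat_lit 6),
  Rule.mk (nat_lit 12) (nat_lit 118) (Steps.bwd (nat_lit 10) (Steps.fwd (nat_lit 28672) (Steps.bwd (nat_lit 14) (Steps.bwd (nat_lit 12) (Steps.fwd (nat_lit 36864) (Steps.bwd (nat_lit 8) (Steps.fwd (nat_lit 53248) Steps.nil))))))) (nat_lit 40) (nat_lit 3),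
  Rule.mk (nat_lit 9) (nat_lit 148) (Steps.bwd (nat_lit 8) (Steps.bwd (nat_lit 9) (Steps.bwd (nat_lit 8) (Steps.bwd (nat_lit 9) (Steps.bwd (nat_lit 8) (Steps.fwd (nat_lit 40960) (Steps.bwd (nat_lit 8) (Steps.bwd (nat_lit 9) (Steps.bwd (nat_lit 8) Steps.nil))))))))) (nat_lit 48) (nat_lit 0),
  Rule.mk (nat_lit 1) (nat_lit 88) (Steps.bwd (nat_lit 4) (Steps.fwd (nat_lit 4096) (Steps.fwd (nat_lit 36864) (Steps.fwd (nat_lit 32768) (Steps.bwd (nat_lit 9) Steps.nil))))) (nat_lit 21) (nat_lit 4),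
  Rule.mk (nat_lit 11) (nat_lit 118) (Steps.fwd (nat_lit 57344) (Steps.bwd (nat_lit 7) (Steps.bwd (nat_lit 9) (Steps.fwd (nat_lit 49152) (Steps.bwd (nat_lit 13) (Steps.fwd (nat_lit 32768) (Steps.bwd (nat_lit 9) Steps.nil))))))) (nat_lit 41) (nat_lit 2),
  Rule.mk (nat_lit 2) (nat_lit 118) (Steps.bwd (nat_lit 6) (Steps.bwd (nat_lit 1) (Steps.bwd (nat_lit 8) (Steps.fwd (nat_lit 8192) (Steps.bwd (nat_lit 1) (Steps.fwd (nat_lit 32768) (Steps.bwd (nat_lit 9) Steps.nil))))))) (nat_lit 43) (nat_lit 7),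
  Rule.mk (nat_lit 8) (nat_lit 88) (Steps.bwd (nat_lit 2) (Steps.fwd (nat_lit 24576) (Steps.bwd (nat_lit 9) (Steps.bwd (nat_lit 3) (Steps.fwd (nat_lit 4096) Steps.nil))))) (nat_lit 23) (nat_lit 0),
  Rule.mk (nat_lit 2) (nat_lit 148) (Steps.bwd (nat_lit 4) (Steps.bwd (nat_lit 6) (Steps.fwd (nat_lit 53248) (Steps.fwd (nat_lit 45056) (Steps.bwd (nat_lit 5) (Steps.bwd (nat_lit 11) (Steps.bwd (nat_lit 13) (Steps.bwd (nat_lit 3) (Steps.bwd (nat_lit 2) Steps.nil))))))))) (nat_lit 52) (nat_lit 3),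
  Rule.mk (nat_lit 0) (nat_lit 88) (Steps.fwd (nat_lit 8192) (Steps.fwd (nat_lit 8192) (Steps.bwd (nat_lit 8) (Steps.fwd (nat_lit 16384) (Steps.fwd (nat_lit 24576) Steps.nil))))) (nat_lit 15) (nat_lit 1),
  Rule.mk (nat_lit 9) (nat_lit 103) (Steps.bwd (nat_lit 7) (Steps.bwd (nat_lit 5) (Steps.fwd (nat_lit 57344) (Steps.bwd (nat_lit 11) (Steps.bwd (nat_lit 2) (Steps.bwd (nat_lit 3) Steps.nil)))))) (nat_lit 30) (nat_lit 4),
  Rule.mk (nat_lit 2) (nat_lit 118) (Steps.bwd (nat_lit 2) (Steps.bwd (nat_lit 7) (Steps.bwd (nat_lit 9) (Steps.fwd (nat_lit 53248) (Steps.bwd (nat_lit 12) (Steps.fwd (nat_lit 24576) (Steps.bwd (nat_lit 3) Steps.nil))))))) (nat_lit 33) (nat_lit 7),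
  Rule.mk (nat_lit 6) (nat_lit 148) (Steps.bwd (nat_lit 3) (Steps.bwd (nat_lit 2) (Steps.bwd (nat_lit 2) (Steps.bwd (nat_lit 2) (Steps.bwd (nat_lit 7) (Steps.fwd (nat_lit 36864) (Steps.bwd (nat_lit 8) (Steps.fwd (nat_lit 8192) (Steps.fwd (nat_lit 12288) Steps.nil))))))))) (nat_lit 47) (nat_lit 5),
  Rule.mk (nat_lit 12) (nat_lit 73) (Steps.fwd (nat_lit 20480) (Steps.fwd (nat_lit 45056) (Steps.fwd (nat_lit 40960) (Steps.bwd (nat_lit 6) Steps.nil)))) (nat_lit 19) (nat_lit 3),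
  Rule.mk (nat_lit 11) (nat_lit 118) (Steps.fwd (nat_lit 57344) (Steps.bwd (nat_lit 10) (Steps.fwd (nat_lit 28672) (Steps.bwd (nat_lit 1) (Steps.fwd (nat_lit 8192) (Steps.fwd (nat_lit 12288) (Steps.bwd (nat_lit 6) Steps.nil))))))) (nat_lit 32) (nat_lit 5),
  Rule.mk (nat_lit 3) (nat_lit 103) (Steps.bwd (nat_lit 9) (Steps.fwd (nat_lit 32768) (Steps.bwd (nat_lit 5) (Steps.bwd (nat_lit 13) (Steps.fwd (nat_lit 49152) (Steps.fwd (nat_lit 4096) Steps.nil)))))) (nat_lit 30) (nat_lit 3),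
  Rule.mk (nat_lit 14) (nat_lit 118) (Steps.bwd (nat_lit 12) (Steps.fwd (nat_lit 36864) (Steps.bwd (nat_lit 8) (Steps.fwd (nat_lit 53248) (Steps.bwd (nat_lit 12) (Steps.fwd (nat_lit 36864) (Steps.bwd (nat_lit 8) Steps.nil))))))) (nat_lit 40) (nat_lit 2),
  Rule.mk (nat_lit 6) (nat_lit 73) (Steps.fwd (nat_lit 53248) (Steps.fwd (nat_lit 12288) (Steps.fwd (nat_lit 28672) (Steps.bwd (nat_lit 11) Steps.nil)))) (nat_lit 16) (nat_lit 4),
  Rule.mk (nat_lit 12) (nat_lit 118) (Steps.bwd (nat_lit 10) (Steps.fwd (nat_lit 28672) (Steps.bwd (nat_lit 14) (Steps.bwd (nat_lit 12) (Steps.fwd (nat_lit 36864) (Steps.bwd (nat_lit 8) (Steps.bwd (nat_lit 14) Steps.nil))))))) (nat_lit 40) (nat_lit 3),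
  Rule.mk (nat_lit 14) (nat_lit 103) (Steps.bwd (nat_lit 6) (Steps.fwd (nat_lit 28672) (Steps.bwd (nat_lit 10) (Steps.bwd (nat_lit 4) (Steps.bwd (nat_lit 1) (Steps.bwd (nat_lit 12) Steps.nil)))))) (nat_lit 31) (nat_lit 1),
  Rule.mk (nat_lit 5) (nat_lit 118) (Steps.fwd (nat_lit 16384) (Steps.bwd (nat_lit 2) (Steps.bwd (nat_lit 2) (Steps.bwd (nat_lit 7) (Steps.bwd (nat_lit 9) (Steps.bwd (nat_lit 14) (Steps.bwd (nat_lit 12) Steps.nil))))))) (nat_lit 33) (nat_lit 5),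
  Rule.mk (nat_lit 4) (nat_lit 133) (Steps.fwd (nat_lit 32768) (Steps.fwd (nat_lit 12288) (Steps.bwd (nat_lit 7) (Steps.bwd (nat_lit 9) (Steps.bwd (nat_lit 6) (Steps.bwd (nat_lit 11) (Steps.fwd (nat_lit 57344) (Steps.bwd (nat_lit 12) Steps.nil)))))))) (nat_lit 44) (nat_lit 1),
  Rule.mk (nat_lit 1) (nat_lit 88) (Steps.bwd (nat_lit 4) (Steps.bwd (nat_lit 2) (Steps.fwd (nat_lit 36864) (Steps.fwd (nat_lit 32768) (Steps.bwd (nat_lit 9) Steps.nil))))) (nat_lit 21) (nat_lit 4),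
  Rule.mk (nat_lit 7) (nat_lit 133) (Steps.bwd (nat_lit 4) (Steps.fwd (nat_lit 32768) (Steps.bwd (nat_lit 9) (Steps.bwd (nat_lit 6) (Steps.fwd (nat_lit 49152) (Steps.fwd (nat_lit 57344) (Steps.bwd (nat_lit 12) (Steps.fwd (nat_lit 12288) Steps.nil)))))))) (nat_lit 44) (nat_lit 2),
  Rule.mk (nat_lit 10) (nat_lit 118) (Steps.bwd (nat_lit 8) (Steps.bwd (nat_lit 2) (Steps.fwd (nat_lit 4096) (Steps.fwd (nat_lit 32768) (Steps.fwd (nat_lit 4096) (Steps.bwd (nat_lit 5) (Steps.fwd (nat_lit 8192) Steps.nil))))))) (nat_lit 42) (nat_lit 3),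
  Rule.mk (nat_lit 4) (nat_lit 103) (Steps.bwd (nat_lit 1) (Steps.fwd (nat_lit 45056) (Steps.fwd (nat_lit 53248) (Steps.fwd (nat_lit 20480) (Steps.bwd (nat_lit 8) (Steps.bwd (nat_lit 10) Steps.nil)))))) (nat_lit 31) (nat_lit 5),
  Rule.mk (nat_lit 14) (nat_lit 118) (Steps.fwd (nat_lit 45056) (Steps.bwd (nat_lit 13) (Steps.bwd (nat_lit 10) (Steps.bwd (nat_lit 14) (Steps.fwd (nat_lit 45056) (Steps.bwd (nat_lit 13) (Steps.bwd (nat_lit 10) Steps.nil))))))) (nat_lit 37) (nat_lit 1),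
  Rule.mk (nat_lit 11) (nat_lit 88) (Steps.bwd (nat_lit 14) (Steps.fwd (nat_lit 45056) (Steps.bwd (nat_lit 13) (Steps.bwd (nat_lit 12) (Steps.fwd (nat_lit 40960) Steps.nil))))) (nat_lit 26) (nat_lit 4),
  Rule.mk (nat_lit 2) (nat_lit 103) (Steps.bwd (nat_lit 3) (Steps.fwd (nat_lit 40960) (Steps.fwd (nat_lit 32768) (Steps.fwd (nat_lit 24576) (Steps.bwd (nat_lit 13) (Steps.bwd (nat_lit 11) Steps.nil)))))) (nat_lit 30) (nat_lit 2),
  Rule.mk (nat_lit 7) (nat_lit 133) (Steps.bwd (nat_lit 9) (Steps.bwd (nat_lit 6) (Steps.bwd (nat_lit 11) (Steps.bwd (nat_lit 13) (Steps.bwd (nat_lit 12) (Steps.fwd (nat_lit 12288) (Steps.fwd (nat_lit 32768) (Steps.bwd (nat_lit 4) Steps.nil)))))))) (nat_lit 44) (nat_lit 4)]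
noncomputable def R_66 : List (Rule) := [Rule.mk (nat_lit 2) (nat_lit 73) (Steps.fwd (nat_lit 4096) (Steps.bwd (nat_lit 6) (Steps.bwd (nat_lit 4) (Steps.bwd (nat_lit 7) Steps.nil)))) (nat_lit 14) (nat_lit 3),
  Rule.mk (nat_lit 1) (nat_lit 88) (Steps.fwd (nat_lit 12288) (Steps.bwd (nat_lit 10) (Steps.fwd (nat_lit 20480) (Steps.fwd (nat_lit 8192) (Steps.bwd (nat_lit 7) Steps.nil))))) (nat_lit 22) (nat_lit 2),
  Rule.mk (nat_lit 5) (nat_lit 103) (Steps.fwd (nat_lit 57344) (Steps.fwd (nat_lit 49152) (Steps.bwd (nat_lit 2) (Steps.fwd (nat_lit 16384) (Steps.fwd (nat_lit 40960) (Steps.bwd (nat_lit 7) Steps.nil)))))) (nat_lit 30) (nat_lit 6),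
  Rule.mk (nat_lit 12) (nat_lit 118) (Steps.bwd (nat_lit 5) (Steps.fwd (nat_lit 16384) (Steps.bwd (nat_lit 2) (Steps.fwd (nat_lit 4096) (Steps.fwd (nat_lit 32768) (Steps.bwd (nat_lit 9) (Steps.fwd (nat_lit 53248) Steps.nil))))))) (nat_lit 33) (nat_lit 4),
  Rule.mk (nat_lit 1) (nat_lit 148) (Steps.bwd (nat_lit 1) (Steps.bwd (nat_lit 4) (Steps.bwd (nat_lit 5) (Steps.bwd (nat_lit 3) (Steps.bwd (nat_lit 2) (Steps.fwd (nat_lit 32768) (Steps.fwd (nat_lit 40960) (Steps.bwd (nat_lit 8) (Steps.bwd (nat_lit 1) Steps.nil))))))))) (nat_lit 46) (nat_lit 3),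
  Rule.mk (nat_lit 12) (nat_lit 103) (Steps.fwd (nat_lit 53248) (Steps.fwd (nat_lit 20480) (Steps.fwd (nat_lit 28672) (Steps.bwd (nat_lit 10) (Steps.bwd (nat_lit 4) (Steps.bwd (nat_lit 1) Steps.nil)))))) (nat_lit 31) (nat_lit 0),
  Rule.mk (nat_lit 10) (nat_lit 118) (Steps.fwd (nat_lit 28672) (Steps.fwd (nat_lit 4096) (Steps.bwd (nat_lit 2) (Steps.bwd (nat_lit 7) (Steps.fwd (nat_lit 4096) (Steps.fwd (nat_lit 24576) (Steps.bwd (nat_lit 1) Steps.nil))))))) (nat_lit 42) (nat_lit 3),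
  Rule.mk (nat_lit 12) (nat_lit 88) (Steps.bwd (nat_lit 10) (Steps.fwd (nat_lit 49152) (Steps.bwd (nat_lit 14) (Steps.fwd (nat_lit 49152) (Steps.fwd (nat_lit 57344) Steps.nil))))) (nat_lit 27) (nat_lit 3),
  Rule.mk (nat_lit 5) (nat_lit 118) (Steps.bwd (nat_lit 3) (Steps.bwd (nat_lit 2) (Steps.fwd (nat_lit 4096) (Steps.bwd (nat_lit 7) (Steps.bwd (nat_lit 9) (Steps.bwd (nat_lit 14) (Steps.bwd (nat_lit 12) Steps.nil))))))) (nat_lit 33) (nat_lit 5),
  Rule.mk (nat_lit 12) (nat_lit 148) (Steps.bwd (nat_lit 13) (Steps.bwd (nat_lit 12) (Steps.bwd (nat_lit 13) (Steps.fwd (nat_lit 45056) (Steps.bwd (nat_lit 13) (Steps.bwd (nat_lit 12) (Steps.bwd (nat_lit 13) (Steps.bwd (nat_lit 12) (Steps.fwd (nat_lit 57344) Steps.nil))))))))) (nat_lit 50) (nat_lit 1),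
  Rule.mk (nat_lit 5) (nat_lit 88) (Steps.fwd (nat_lit 40960) (Steps.fwd (nat_lit 20480) (Steps.fwd (nat_lit 53248) (Steps.bwd (nat_lit 12) (Steps.bwd (nat_lit 13) Steps.nil))))) (nat_lit 24) (nat_lit 0),
  Rule.mk (nat_lit 10) (nat_lit 88) (Steps.fwd (nat_lit 49152) (Steps.bwd (nat_lit 14) (Steps.fwd (nat_lit 49152) (Steps.fwd (nat_lit 57344) (Steps.bwd (nat_lit 12) Steps.nil))))) (nat_lit 27) (nat_lit 4),
  Rule.mk (nat_lit 5) (nat_lit 118) (Steps.bwd (nat_lit 3) (Steps.bwd (nat_lit 2) (Steps.bwd (nat_lit 2) (Steps.fwd (nat_lit 32768) (Steps.fwd (nat_lit 40960) (Steps.fwd (nat_lit 53248) (Steps.bwd (nat_lit 12) Steps.nil))))))) (nat_lit 33) (nat_lit 5),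
  Rule.mk (nat_lit 10) (nat_lit 118) (Steps.fwd (nat_lit 53248) (Steps.fwd (nat_lit 45056) (Steps.fwd (nat_lit 57344) (Steps.bwd (nat_lit 10) (Steps.fwd (nat_lit 53248) (Steps.bwd (nat_lit 12) (Steps.bwd (nat_lit 13) Steps.nil))))))) (nat_lit 37) (nat_lit 0),
  Rule.mk (nat_lit 4) (nat_lit 133) (Steps.fwd (nat_lit 32768) (Steps.bwd (nat_lit 4) (Steps.fwd (nat_lit 32768) (Steps.bwd (nat_lit 9) (Steps.fwd (nat_lit 20480) (Steps.fwd (nat_lit 49152) (Steps.fwd (nat_lit 57344) (Steps.bwd (nat_lit 12) Steps.nil)))))))) (nat_lit 44) (nat_lit 1),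
  Rule.mk (nat_lit 2) (nat_lit 103) (Steps.bwd (nat_lit 4) (Steps.fwd (nat_lit 32768) (Steps.bwd (nat_lit 1) (Steps.bwd (nat_lit 4) (Steps.bwd (nat_lit 2) (Steps.bwd (nat_lit 2) Steps.nil)))))) (nat_lit 28) (nat_lit 4),
  Rule.mk (nat_lit 7) (nat_lit 133) (Steps.bwd (nat_lit 4) (Steps.fwd (nat_lit 32768) (Steps.fwd (nat_lit 40960) (Steps.fwd (nat_lit 20480) (Steps.bwd (nat_lit 11) (Steps.fwd (nat_lit 57344) (Steps.fwd (nat_lit 45056) (Steps.fwd (nat_lit 12288) Steps.nil)))))))) (nat_lit 44) (nat_lit 2),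
  Rule.mk (nat_lit 2) (nat_lit 88) (Steps.bwd (nat_lit 10) (Steps.fwd (nat_lit 28672) (Steps.bwd (nat_lit 9) (Steps.fwd (nat_lit 8192) (Steps.fwd (nat_lit 16384) Steps.nil))))) (nat_lit 20) (nat_lit 3),
  Rule.mk (nat_lit 14) (nat_lit 118) (Steps.bwd (nat_lit 10) (Steps.fwd (nat_lit 28672) (Steps.bwd (nat_lit 9) (Steps.bwd (nat_lit 14) (Steps.bwd (nat_lit 10) (Steps.fwd (nat_lit 28672) (Steps.bwd (nat_lit 9) Steps.nil))))))) (nat_lit 39) (nat_lit 0),
  Rule.mk (nat_lit 1) (nat_lit 118) (Steps.bwd (nat_lit 10) (Steps.fwd (nat_lit 28672) (Steps.bwd (nat_lit 2) (Steps.fwd (nat_lit 4096) (Steps.bwd (nat_lit 7) (Steps.fwd (nat_lit 4096) (Steps.bwd (nat_lit 5) Steps.nil))))))) (nat_lit 42) (nat_lit 2),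
  Rule.mk (nat_lit 7) (nat_lit 148) (Steps.bwd (nat_lit 10) (Steps.fwd (nat_lit 28672) (Steps.bwd (nat_lit 1) (Steps.fwd (nat_lit 12288) (Steps.fwd (nat_lit 20480) (Steps.fwd (nat_lit 16384) (Steps.bwd (nat_lit 2) (Steps.bwd (nat_lit 2) (Steps.fwd (nat_lit 4096) Steps.nil))))))))) (nat_lit 47) (nat_lit 0),
  Rule.mk (nat_lit 14) (nat_lit 88) (Steps.fwd (nat_lit 45056) (Steps.bwd (nat_lit 13) (Steps.bwd (nat_lit 12) (Steps.bwd (nat_lit 9) (Steps.bwd (nat_lit 11) Steps.nil))))) (nat_lit 26) (nat_lit 5),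
  Rule.mk (nat_lit 13) (nat_lit 88) (Steps.fwd (nat_lit 45056) (Steps.bwd (nat_lit 10) (Steps.bwd (nat_lit 11) (Steps.fwd (nat_lit 53248) (Steps.bwd (nat_lit 11) Steps.nil))))) (nat_lit 27) (nat_lit 2),
  Rule.mk (nat_lit 2) (nat_lit 103) (Steps.bwd (nat_lit 2) (Steps.fwd (nat_lit 12288) (Steps.fwd (nat_lit 32768) (Steps.bwd (nat_lit 1) (Steps.bwd (nat_lit 4) (Steps.fwd (nat_lit 4096) Steps.nil)))))) (nat_lit 28) (nat_lit 3),
  Rule.mk (nat_lit 8) (nat_lit 118) (Steps.bwd (nat_lit 2) (Steps.bwd (nat_lit 2) (Steps.fwd (nat_lit 32768) (Steps.fwd (nat_lit 4096) (Steps.bwd (nat_lit 5) (Steps.bwd (nat_lit 1) (Steps.fwd (nat_lit 36864) Steps.nil))))))) (nat_lit 42) (nat_lit 4),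
  Rule.mk (nat_lit 10) (nat_lit 103) (Steps.bwd (nat_lit 4) (Steps.fwd (nat_lit 8192) (Steps.bwd (nat_lit 12) (Steps.fwd (nat_lit 53248) (Steps.bwd (nat_lit 6) (Steps.bwd (nat_lit 8) Steps.nil)))))) (nat_lit 31) (nat_lit 4),
  Rule.mk (nat_lit 10) (nat_lit 118) (Steps.bwd (nat_lit 8) (Steps.fwd (nat_lit 4096) (Steps.fwd (nat_lit 4096) (Steps.fwd (nat_lit 32768) (Steps.fwd (nat_lit 4096) (Steps.bwd (nat_lit 5) (Steps.fwd (nat_lit 8192) Steps.nil))))))) (nat_lit 42) (nat_lit 3),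
  Rule.mk (nat_lit 4) (nat_lit 103) (Steps.fwd (nat_lit 8192) (Steps.bwd (nat_lit 12) (Steps.fwd (nat_lit 53248) (Steps.bwd (nat_lit 6) (Steps.fwd (nat_lit 28672) (Steps.bwd (nat_lit 10) Steps.nil)))))) (nat_lit 31) (nat_lit 5),
  Rule.mk (nat_lit 14) (nat_lit 118) (Steps.bwd (nat_lit 12) (Steps.fwd (nat_lit 57344) (Steps.fwd (nat_lit 36864) (Steps.fwd (nat_lit 53248) (Steps.fwd (nat_lit 45056) (Steps.bwd (nat_lit 13) (Steps.bwd (nat_lit 10) Steps.nil))))))) (nat_lit 37) (nat_lit 1),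
  Rule.mk (nat_lit 7) (nat_lit 133) (Steps.bwd (nat_lit 9) (Steps.bwd (nat_lit 6) (Steps.fwd (nat_lit 49152) (Steps.fwd (nat_lit 57344) (Steps.bwd (nat_lit 12) (Steps.bwd (nat_lit 4) (Steps.fwd (nat_lit 32768) (Steps.fwd (nat_lit 12288) Steps.nil)))))))) (nat_lit 44) (nat_lit 4),
  Rule.mk (nat_lit 1) (nat_lit 88) (Steps.fwd (nat_lit 12288) (Steps.fwd (nat_lit 36864) (Steps.fwd (nat_lit 20480) (Steps.bwd (nat_lit 1) (Steps.bwd (nat_lit 7) Steps.nil))))) (nat_lit 22) (nat_lit 2),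
  Rule.mk (nat_lit 4) (nat_lit 133) (Steps.bwd (nat_lit 7) (Steps.fwd (nat_lit 40960) (Steps.fwd (nat_lit 20480) (Steps.fwd (nat_lit 49152) (Steps.fwd (nat_lit 57344) (Steps.fwd (nat_lit 45056) (Steps.fwd (nat_lit 12288) (Steps.bwd (nat_lit 7) Steps.nil)))))))) (nat_lit 44) (nat_lit 3),
  Rule.mk (nat_lit 10) (nat_lit 148) (Steps.bwd (nat_lit 7) (Steps.fwd (nat_lit 36864) (Steps.fwd (nat_lit 32768) (Steps.fwd (nat_lit 36864) (Steps.bwd (nat_lit 7) (Steps.bwd (nat_lit 10) (Steps.bwd (nat_lit 7) (Steps.fwd (nat_lit 36864) (Steps.bwd (nat_lit 7) Steps.nil))))))))) (nat_lit 49) (nat_lit 1),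
  Rule.mk (nat_lit 13) (nat_lit 88) (Steps.fwd (nat_lit 24576) (Steps.fwd (nat_lit 36864) (Steps.fwd (nat_lit 20480) (Steps.fwd (nat_lit 53248) (Steps.bwd (nat_lit 11) Steps.nil))))) (nat_lit 25) (nat_lit 4),
  Rule.mk (nat_lit 2) (nat_lit 103) (Steps.bwd (nat_lit 3) (Steps.bwd (nat_lit 9) (Steps.fwd (nat_lit 32768) (Steps.bwd (nat_lit 5) (Steps.bwd (nat_lit 13) (Steps.bwd (nat_lit 11) Steps.nil)))))) (nat_lit 30) (nat_lit 2),
  Rule.mk (nat_lit 3) (nat_lit 118) (Steps.bwd (nat_lit 2) (Steps.bwd (nat_lit 2) (Steps.fwd (nat_lit 32768) (Steps.bwd (nat_lit 9) (Steps.fwd (nat_lit 53248) (Steps.fwd (nat_lit 45056) (Steps.bwd (nat_lit 5) Steps.nil))))))) (nat_lit 33) (nat_lit 6),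
  Rule.mk (nat_lit 8) (nat_lit 118) (Steps.bwd (nat_lit 2) (Steps.bwd (nat_lit 2) (Steps.fwd (nat_lit 32768) (Steps.bwd (nat_lit 2) (Steps.fwd (nat_lit 24576) (Steps.fwd (nat_lit 8192) (Steps.fwd (nat_lit 36864) Steps.nil))))))) (nat_lit 42) (nat_lit 4),
  Rule.mk (nat_lit 4) (nat_lit 148) (Steps.bwd (nat_lit 6) (Steps.bwd (nat_lit 3) (Steps.bwd (nat_lit 2) (Steps.fwd (nat_lit 4096) (Steps.fwd (nat_lit 4096) (Steps.fwd (nat_lit 32768) (Steps.bwd (nat_lit 10) (Steps.fwd (nat_lit 28672) (Steps.fwd (nat_lit 8192) Steps.nil))))))))) (nat_lit 47) (nat_lit 4),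
  Rule.mk (nat_lit 1) (nat_lit 118) (Steps.fwd (nat_lit 8192) (Steps.fwd (nat_lit 12288) (Steps.bwd (nat_lit 6) (Steps.bwd (nat_lit 11) (Steps.fwd (nat_lit 57344) (Steps.bwd (nat_lit 10) (Steps.bwd (nat_lit 8) Steps.nil))))))) (nat_lit 32) (nat_lit 1),
  Rule.mk (nat_lit 14) (nat_lit 118) (Steps.bwd (nat_lit 12) (Steps.fwd (nat_lit 36864) (Steps.fwd (nat_lit 28672) (Steps.bwd (nat_lit 14) (Steps.fwd (nat_lit 45056) (Steps.bwd (nat_lit 10) (Steps.bwd (nat_lit 8) Steps.nil))))))) (nat_lit 40) (nat_lit 2),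
  Rule.mk (nat_lit 10) (nat_lit 88) (Steps.fwd (nat_lit 49152) (Steps.bwd (nat_lit 14) (Steps.fwd (nat_lit 49152) (Steps.bwd (nat_lit 13) (Steps.bwd (nat_lit 12) Steps.nil))))) (nat_lit 27) (nat_lit 4),
  Rule.mk (nat_lit 14) (nat_lit 103) (Steps.bwd (nat_lit 6) (Steps.bwd (nat_lit 8) (Steps.fwd (nat_lit 36864) (Steps.fwd (nat_lit 12288) (Steps.fwd (nat_lit 8192) (Steps.bwd (nat_lit 12) Steps.nil)))))) (nat_lit 31) (nat_lit 1),
  Rule.mk (nat_lit 4) (nat_lit 133) (Steps.fwd (nat_lit 32768) (Steps.fwd (nat_lit 12288) (Steps.bwd (nat_lit 7) (Steps.fwd (nat_lit 40960) (Steps.fwd (nat_lit 20480) (Steps.fwd (nat_lit 49152) (Steps.bwd (nat_lit 13) (Steps.bwd (nat_lit 12) Steps.nil)))))))) (nat_lit 44) (nat_lit 1),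
  Rule.mk (nat_lit 7) (nat_lit 133) (Steps.bwd (nat_lit 4) (Steps.fwd (nat_lit 32768) (Steps.fwd (nat_lit 40960) (Steps.fwd (nat_lit 20480) (Steps.fwd (nat_lit 49152) (Steps.fwd (nat_lit 57344) (Steps.bwd (nat_lit 12) (Steps.bwd (nat_lit 4) Steps.nil)))))))) (nat_lit 44) (nat_lit 2),
  Rule.mk (nat_lit 2) (nat_lit 103) (Steps.bwd (nat_lit 4) (Steps.bwd (nat_lit 7) (Steps.bwd (nat_lit 1) (Steps.bwd (nat_lit 4) (Steps.fwd (nat_lit 4096) (Steps.fwd (nat_lit 4096) Steps.nil)))))) (nat_lit 28) (nat_lit 4),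
  Rule.mk (nat_lit 7) (nat_lit 118) (Steps.bwd (nat_lit 2) (Steps.fwd (nat_lit 24576) (Steps.bwd (nat_lit 1) (Steps.bwd (nat_lit 10) (Steps.fwd (nat_lit 28672) (Steps.fwd (nat_lit 4096) (Steps.bwd (nat_lit 2) Steps.nil))))))) (nat_lit 42) (nat_lit 7),
  Rule.mk (nat_lit 14) (nat_lit 118) (Steps.bwd (nat_lit 11) (Steps.bwd (nat_lit 13) (Steps.fwd (nat_lit 40960) (Steps.fwd (nat_lit 53248) (Steps.fwd (nat_lit 49152) (Steps.fwd (nat_lit 57344) (Steps.bwd (nat_lit 9) Steps.nil))))))) (nat_lit 36) (nat_lit 2),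
  Rule.mk (nat_lit 6) (nat_lit 103) (Steps.bwd (nat_lit 8) (Steps.fwd (nat_lit 36864) (Steps.bwd (nat_lit 4) (Steps.fwd (nat_lit 8192) (Steps.fwd (nat_lit 45056) (Steps.bwd (nat_lit 14) Steps.nil)))))) (nat_lit 31) (nat_lit 2),
  Rule.mk (nat_lit 10) (nat_lit 118) (Steps.bwd (nat_lit 8) (Steps.fwd (nat_lit 40960) (Steps.fwd (nat_lit 53248) (Steps.fwd (nat_lit 36864) (Steps.bwd (nat_lit 8) (Steps.bwd (nat_lit 9) (Steps.bwd (nat_lit 14) Steps.nil))))))) (nat_lit 39) (nat_lit 1),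
  Rule.mk (nat_lit 1) (nat_lit 118) (Steps.bwd (nat_lit 10) (Steps.bwd (nat_lit 8) (Steps.fwd (nat_lit 4096) (Steps.fwd (nat_lit 4096) (Steps.fwd (nat_lit 32768) (Steps.fwd (nat_lit 4096) (Steps.fwd (nat_lit 24576) Steps.nil))))))) (nat_lit 42) (nat_lit 2),
  Rule.mk (nat_lit 8) (nat_lit 118) (Steps.fwd (nat_lit 8192) (Steps.fwd (nat_lit 8192) (Steps.fwd (nat_lit 32768) (Steps.bwd (nat_lit 9) (Steps.bwd (nat_lit 2) (Steps.bwd (nat_lit 6) (Steps.bwd (nat_lit 1) Steps.nil))))))) (nat_lit 43) (nat_lit 2),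
  Rule.mk (nat_lit 6) (nat_lit 103) (Steps.bwd (nat_lit 8) (Steps.bwd (nat_lit 10) (Steps.fwd (nat_lit 12288) (Steps.bwd (nat_lit 1) (Steps.bwd (nat_lit 12) (Steps.fwd (nat_lit 53248) Steps.nil)))))) (nat_lit 31) (nat_lit 2),
  Rule.mk (nat_lit 13) (nat_lit 148) (Steps.bwd (nat_lit 12) (Steps.bwd (nat_lit 13) (Steps.fwd (nat_lit 45056) (Steps.bwd (nat_lit 13) (Steps.fwd (nat_lit 45056) (Steps.bwd (nat_lit 13) (Steps.fwd (nat_lit 45056) (Steps.fwd (nat_lit 57344) (Steps.bwd (nat_lit 12) Steps.nil))))))))) (nat_lit 50) (nat_lit 0),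
  Rule.mk (nat_lit 11) (nat_lit 103) (Steps.fwd (nat_lit 4096) (Steps.bwd (nat_lit 3) (Steps.fwd (nat_lit 40960) (Steps.fwd (nat_lit 32768) (Steps.fwd (nat_lit 24576) (Steps.bwd (nat_lit 13) Steps.nil)))))) (nat_lit 30) (nat_lit 1),
  Rule.mk (nat_lit 10) (nat_lit 118) (Steps.fwd (nat_lit 53248) (Steps.bwd (nat_lit 12) (Steps.fwd (nat_lit 57344) (Steps.bwd (nat_lit 10) (Steps.fwd (nat_lit 53248) (Steps.bwd (nat_lit 12) (Steps.bwd (nat_lit 13) Steps.nil))))))) (nat_lit 37) (nat_lit 0),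
  Rule.mk (nat_lit 7) (nat_lit 148) (Steps.bwd (nat_lit 10) (Steps.fwd (nat_lit 32768) (Steps.bwd (nat_lit 10) (Steps.fwd (nat_lit 32768) (Steps.fwd (nat_lit 36864) (Steps.bwd (nat_lit 7) (Steps.bwd (nat_lit 10) (Steps.fwd (nat_lit 32768) (Steps.fwd (nat_lit 36864) Steps.nil))))))))) (nat_lit 49) (nat_lit 0),
  Rule.mk (nat_lit 14) (nat_lit 103) (Steps.fwd (nat_lit 20480) (Steps.bwd (nat_lit 8) (Steps.fwd (nat_lit 36864) (Steps.bwd (nat_lit 4) (Steps.bwd (nat_lit 1) (Steps.bwd (nat_lit 12) Steps.nil)))))) (nat_lit 31) (nat_lit 1),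
  Rule.mk (nat_lit 1) (nat_lit 88) (Steps.fwd (nat_lit 32768) (Steps.bwd (nat_lit 1) (Steps.bwd (nat_lit 4) (Steps.fwd (nat_lit 36864) (Steps.bwd (nat_lit 6) Steps.nil))))) (nat_lit 22) (nat_lit 0),
  Rule.mk (nat_lit 8) (nat_lit 103) (Steps.bwd (nat_lit 10) (Steps.fwd (nat_lit 12288) (Steps.bwd (nat_lit 1) (Steps.bwd (nat_lit 12) (Steps.bwd (nat_lit 14) (Steps.bwd (nat_lit 6) Steps.nil)))))) (nat_lit 31) (nat_lit 3),
  Rule.mk (nat_lit 13) (nat_lit 88) (Steps.bwd (nat_lit 5) (Steps.bwd (nat_lit 10) (Steps.bwd (nat_lit 6) (Steps.bwd (nat_lit 14) (Steps.bwd (nat_lit 11) Steps.nil))))) (nat_lit 25) (nat_lit 4),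
  Rule.mk (nat_lit 14) (nat_lit 88) (Steps.bwd (nat_lit 12) (Steps.fwd (nat_lit 57344) (Steps.bwd (nat_lit 12) (Steps.bwd (nat_lit 9) (Steps.bwd (nat_lit 11) Steps.nil))))) (nat_lit 26) (nat_lit 5),
  Rule.mk (nat_lit 8) (nat_lit 118) (Steps.bwd (nat_lit 2) (Steps.bwd (nat_lit 2) (Steps.fwd (nat_lit 32768) (Steps.fwd (nat_lit 4096) (Steps.bwd (nat_lit 5) (Steps.bwd (nat_lit 1) (Steps.bwd (nat_lit 10) Steps.nil))))))) (nat_lit 42) (nat_lit 4),
  Rule.mk (nat_lit 9) (nat_lit 88) (Steps.bwd (nat_lit 1) (Steps.bwd (nat_lit 3) (Steps.bwd (nat_lit 2) (Steps.bwd (nat_lit 10) (Steps.bwd (nat_lit 8) Steps.nil))))) (nat_lit 20) (nat_lit 0),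
  Rule.mk (nat_lit 12) (nat_lit 88) (Steps.bwd (nat_lit 9) (Steps.bwd (nat_lit 11) (Steps.fwd (nat_lit 53248) (Steps.fwd (nat_lit 45056) (Steps.fwd (nat_lit 57344) Steps.nil))))) (nat_lit 26) (nat_lit 2)]
noncomputable def R_67 : List (Rule) := [Rule.mk (nat_lit 14) (nat_lit 103) (Steps.fwd (nat_lit 20480) (Steps.fwd (nat_lit 28672) (Steps.bwd (nat_lit 10) (Steps.bwd (nat_lit 4) (Steps.bwd (nat_lit 1) (Steps.bwd (nat_lit 12) Steps.nil)))))) (nat_lit 31) (nat_lit 1),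
  Rule.mk (nat_lit 5) (nat_lit 118) (Steps.bwd (nat_lit 3) (Steps.bwd (nat_lit 2) (Steps.bwd (nat_lit 2) (Steps.bwd (nat_lit 7) (Steps.fwd (nat_lit 40960) (Steps.bwd (nat_lit 14) (Steps.bwd (nat_lit 12) Steps.nil))))))) (nat_lit 33) (nat_lit 5),
  Rule.mk (nat_lit 4) (nat_lit 133) (Steps.fwd (nat_lit 32768) (Steps.bwd (nat_lit 4) (Steps.bwd (nat_lit 7) (Steps.bwd (nat_lit 9) (Steps.fwd (nat_lit 20480) (Steps.bwd (nat_lit 11) (Steps.fwd (nat_lit 57344) (Steps.bwd (nat_lit 12) Steps.nil)))))))) (nat_lit 44) (nat_lit 1),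
  Rule.mk (nat_lit 1) (nat_lit 88) (Steps.bwd (nat_lit 4) (Steps.bwd (nat_lit 2) (Steps.fwd (nat_lit 36864) (Steps.fwd (nat_lit 32768) (Steps.fwd (nat_lit 40960) Steps.nil))))) (nat_lit 21) (nat_lit 4),
  Rule.mk (nat_lit 7) (nat_lit 148) (Steps.bwd (nat_lit 10) (Steps.fwd (nat_lit 32768) (Steps.bwd (nat_lit 10) (Steps.bwd (nat_lit 7) (Steps.fwd (nat_lit 36864) (Steps.bwd (nat_lit 7) (Steps.fwd (nat_lit 36864) (Steps.bwd (nat_lit 7) (Steps.fwd (nat_lit 36864) Steps.nil))))))))) (nat_lit 49) (nat_lit 0),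
  Rule.mk (nat_lit 7) (nat_lit 118) (Steps.fwd (nat_lit 40960) (Steps.bwd (nat_lit 14) (Steps.fwd (nat_lit 45056) (Steps.bwd (nat_lit 5) (Steps.bwd (nat_lit 3) (Steps.bwd (nat_lit 2) (Steps.bwd (nat_lit 2) Steps.nil))))))) (nat_lit 33) (nat_lit 1),
  Rule.mk (nat_lit 4) (nat_lit 148) (Steps.fwd (nat_lit 20480) (Steps.fwd (nat_lit 53248) (Steps.bwd (nat_lit 12) (Steps.bwd (nat_lit 5) (Steps.fwd (nat_lit 49152) (Steps.fwd (nat_lit 57344) (Steps.bwd (nat_lit 3) (Steps.bwd (nat_lit 2) (Steps.bwd (nat_lit 2) Steps.nil))))))))) (nat_lit 52) (nat_lit 4),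
  Rule.mk (nat_lit 12) (nat_lit 133) (Steps.bwd (nat_lit 4) (Steps.fwd (nat_lit 32768) (Steps.bwd (nat_lit 4) (Steps.bwd (nat_lit 7) (Steps.fwd (nat_lit 40960) (Steps.fwd (nat_lit 20480) (Steps.bwd (nat_lit 11) (Steps.fwd (nat_lit 57344) Steps.nil)))))))) (nat_lit 44) (nat_lit 0),
  Rule.mk (nat_lit 10) (nat_lit 118) (Steps.bwd (nat_lit 7) (Steps.bwd (nat_lit 9) (Steps.fwd (nat_lit 57344) (Steps.bwd (nat_lit 10) (Steps.fwd (nat_lit 32768) (Steps.bwd (nat_lit 9) (Steps.bwd (nat_lit 13) Steps.nil))))))) (nat_lit 38) (nat_lit 2),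
  Rule.mk (nat_lit 4) (nat_lit 103) (Steps.bwd (nat_lit 1) (Steps.bwd (nat_lit 12) (Steps.fwd (nat_lit 53248) (Steps.fwd (nat_lit 20480) (Steps.fwd (nat_lit 28672) (Steps.bwd (nat_lit 10) Steps.nil)))))) (nat_lit 31) (nat_lit 5),
  Rule.mk (nat_lit 10) (nat_lit 118) (Steps.bwd (nat_lit 8) (Steps.fwd (nat_lit 53248) (Steps.fwd (nat_lit 45056) (Steps.fwd (nat_lit 36864) (Steps.fwd (nat_lit 28672) (Steps.fwd (nat_lit 53248) (Steps.bwd (nat_lit 12) Steps.nil))))))) (nat_lit 40) (nat_lit 0),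
  Rule.mk (nat_lit 6) (nat_lit 88) (Steps.fwd (nat_lit 8192) (Steps.fwd (nat_lit 32768) (Steps.fwd (nat_lit 8192) (Steps.fwd (nat_lit 12288) (Steps.bwd (nat_lit 10) Steps.nil))))) (nat_lit 22) (nat_lit 5),
  Rule.mk (nat_lit 4) (nat_lit 103) (Steps.bwd (nat_lit 1) (Steps.bwd (nat_lit 12) (Steps.fwd (nat_lit 53248) (Steps.fwd (nat_lit 20480) (Steps.bwd (nat_lit 8) (Steps.bwd (nat_lit 10) Steps.nil)))))) (nat_lit 31) (nat_lit 5),
  Rule.mk (nat_lit 14) (nat_lit 118) (Steps.bwd (nat_lit 12) (Steps.fwd (nat_lit 57344) (Steps.bwd (nat_lit 10) (Steps.fwd (nat_lit 53248) (Steps.bwd (nat_lit 12) (Steps.bwd (nat_lit 13) (Steps.bwd (nat_lit 10) Steps.nil))))))) (nat_lit 37) (nat_lit 1),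
  Rule.mk (nat_lit 1) (nat_lit 148) (Steps.bwd (nat_lit 4) (Steps.bwd (nat_lit 5) (Steps.bwd (nat_lit 3) (Steps.bwd (nat_lit 2) (Steps.bwd (nat_lit 7) (Steps.bwd (nat_lit 9) (Steps.fwd (nat_lit 28672) (Steps.fwd (nat_lit 8192) (Steps.bwd (nat_lit 1) Steps.nil))))))))) (nat_lit 46) (nat_lit 4),
  Rule.mk (nat_lit 1) (nat_lit 73) (Steps.fwd (nat_lit 28672) (Steps.fwd (nat_lit 16384) (Steps.bwd (nat_lit 5) (Steps.bwd (nat_lit 1) Steps.nil)))) (nat_lit 15) (nat_lit 3),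
  Rule.mk (nat_lit 0) (nat_lit 103) (Steps.fwd (nat_lit 16384) (Steps.fwd (nat_lit 4096) (Steps.fwd (nat_lit 36864) (Steps.fwd (nat_lit 28672) (Steps.bwd (nat_lit 9) (Steps.fwd (nat_lit 8192) Steps.nil)))))) (nat_lit 20) (nat_lit 1),
  Rule.mk (nat_lit 7) (nat_lit 118) (Steps.bwd (nat_lit 9) (Steps.bwd (nat_lit 2) (Steps.fwd (nat_lit 20480) (Steps.bwd (nat_lit 1) (Steps.bwd (nat_lit 8) (Steps.bwd (nat_lit 1) (Steps.fwd (nat_lit 8192) Steps.nil))))))) (nat_lit 43) (nat_lit 5),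
  Rule.mk (nat_lit 10) (nat_lit 148) (Steps.fwd (nat_lit 28672) (Steps.bwd (nat_lit 1) (Steps.fwd (nat_lit 12288) (Steps.fwd (nat_lit 20480) (Steps.bwd (nat_lit 3) (Steps.bwd (nat_lit 2) (Steps.bwd (nat_lit 2) (Steps.fwd (nat_lit 4096) (Steps.fwd (nat_lit 32768) Steps.nil))))))))) (nat_lit 47) (nat_lit 1),
  Rule.mk (nat_lit 13) (nat_lit 118) (Steps.bwd (nat_lit 10) (Steps.fwd (nat_lit 28672) (Steps.bwd (nat_lit 1) (Steps.bwd (nat_lit 1) (Steps.bwd (nat_lit 4) (Steps.bwd (nat_lit 6) (Steps.fwd (nat_lit 49152) Steps.nil))))))) (nat_lit 32) (nat_lit 6),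
  Rule.mk (nat_lit 14) (nat_lit 118) (Steps.bwd (nat_lit 10) (Steps.fwd (nat_lit 28672) (Steps.fwd (nat_lit 40960) (Steps.fwd (nat_lit 53248) (Steps.bwd (nat_lit 10) (Steps.bwd (nat_lit 8) (Steps.bwd (nat_lit 9) Steps.nil))))))) (nat_lit 39) (nat_lit 0),
  Rule.mk (nat_lit 6) (nat_lit 103) (Steps.bwd (nat_lit 8) (Steps.bwd (nat_lit 10) (Steps.fwd (nat_lit 12288) (Steps.bwd (nat_lit 1) (Steps.fwd (nat_lit 45056) (Steps.bwd (nat_lit 14) Steps.nil)))))) (nat_lit 31) (nat_lit 2),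
  Rule.mk (nat_lit 5) (nat_lit 118) (Steps.fwd (nat_lit 16384) (Steps.bwd (nat_lit 2) (Steps.fwd (nat_lit 4096) (Steps.fwd (nat_lit 32768) (Steps.bwd (nat_lit 9) (Steps.bwd (nat_lit 14) (Steps.bwd (nat_lit 12) Steps.nil))))))) (nat_lit 33) (nat_lit 5),
  Rule.mk (nat_lit 2) (nat_lit 118) (Steps.bwd (nat_lit 5) (Steps.fwd (nat_lit 8192) (Steps.fwd (nat_lit 36864) (Steps.bwd (nat_lit 8) (Steps.fwd (nat_lit 4096) (Steps.fwd (nat_lit 4096) (Steps.fwd (nat_lit 32768) Steps.nil))))))) (nat_lit 42) (nat_lit 0),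
  Rule.mk (nat_lit 4) (nat_lit 148) (Steps.bwd (nat_lit 5) (Steps.fwd (nat_lit 16384) (Steps.bwd (nat_lit 2) (Steps.bwd (nat_lit 7) (Steps.fwd (nat_lit 40960) (Steps.bwd (nat_lit 8) (Steps.bwd (nat_lit 1) (Steps.bwd (nat_lit 1) (Steps.fwd (nat_lit 8192) Steps.nil))))))))) (nat_lit 46) (nat_lit 5),
  Rule.mk (nat_lit 10) (nat_lit 88) (Steps.bwd (nat_lit 8) (Steps.bwd (nat_lit 9) (Steps.fwd (nat_lit 8192) (Steps.fwd (nat_lit 16384) (Steps.bwd (nat_lit 2) Steps.nil))))) (nat_lit 20) (nat_lit 4),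
  Rule.mk (nat_lit 5) (nat_lit 73) (Steps.fwd (nat_lit 49152) (Steps.fwd (nat_lit 24576) (Steps.bwd (nat_lit 10) (Steps.fwd (nat_lit 49152) Steps.nil)))) (nat_lit 18) (nat_lit 2),
  Rule.mk (nat_lit 7) (nat_lit 103) (Steps.bwd (nat_lit 5) (Steps.bwd (nat_lit 13) (Steps.fwd (nat_lit 49152) (Steps.bwd (nat_lit 2) (Steps.fwd (nat_lit 16384) (Steps.fwd (nat_lit 40960) Steps.nil)))))) (nat_lit 30) (nat_lit 5),
  Rule.mk (nat_lit 10) (nat_lit 148) (Steps.bwd (nat_lit 8) (Steps.bwd (nat_lit 1) (Steps.bwd (nat_lit 4) (Steps.fwd (nat_lit 20480) (Steps.fwd (nat_lit 16384) (Steps.fwd (nat_lit 4096) (Steps.bwd (nat_lit 2) (Steps.fwd (nat_lit 4096) (Steps.bwd (nat_lit 7) Steps.nil))))))))) (nat_lit 47) (nat_lit 1),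
  Rule.mk (nat_lit 1) (nat_lit 103) (Steps.bwd (nat_lit 1) (Steps.bwd (nat_lit 1) (Steps.fwd (nat_lit 16384) (Steps.fwd (nat_lit 4096) (Steps.fwd (nat_lit 28672) (Steps.bwd (nat_lit 3) Steps.nil)))))) (nat_lit 29) (nat_lit 4),
  Rule.mk (nat_lit 8) (nat_lit 133) (Steps.fwd (nat_lit 16384) (Steps.bwd (nat_lit 11) (Steps.fwd (nat_lit 53248) (Steps.fwd (nat_lit 45056) (Steps.bwd (nat_lit 5) (Steps.bwd (nat_lit 10) (Steps.fwd (nat_lit 28672) (Steps.bwd (nat_lit 3) Steps.nil)))))))) (nat_lit 45) (nat_lit 8),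
  Rule.mk (nat_lit 11) (nat_lit 103) (Steps.bwd (nat_lit 2) (Steps.bwd (nat_lit 3) (Steps.fwd (nat_lit 40960) (Steps.bwd (nat_lit 7) (Steps.fwd (nat_lit 24576) (Steps.fwd (nat_lit 57344) Steps.nil)))))) (nat_lit 30) (nat_lit 1),
  Rule.mk (nat_lit 14) (nat_lit 88) (Steps.fwd (nat_lit 45056) (Steps.fwd (nat_lit 57344) (Steps.fwd (nat_lit 45056) (Steps.fwd (nat_lit 40960) (Steps.bwd (nat_lit 11) Steps.nil))))) (nat_lit 26) (nat_lit 5),
  Rule.mk (nat_lit 5) (nat_lit 118) (Steps.fwd (nat_lit 16384) (Steps.fwd (nat_lit 20480) (Steps.fwd (nat_lit 49152) (Steps.bwd (nat_lit 5) (Steps.fwd (nat_lit 16384) (Steps.bwd (nat_lit 6) (Steps.bwd (nat_lit 11) Steps.nil))))))) (nat_lit 34) (nat_lit 0),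
  Rule.mk (nat_lit 12) (nat_lit 118) (Steps.fwd (nat_lit 24576) (Steps.fwd (nat_lit 12288) (Steps.fwd (nat_lit 20480) (Steps.bwd (nat_lit 12) (Steps.bwd (nat_lit 5) (Steps.bwd (nat_lit 4) (Steps.bwd (nat_lit 6) Steps.nil))))))) (nat_lit 35) (nat_lit 2),
  Rule.mk (nat_lit 3) (nat_lit 148) (Steps.fwd (nat_lit 4096) (Steps.fwd (nat_lit 4096) (Steps.bwd (nat_lit 2) (Steps.bwd (nat_lit 7) (Steps.fwd (nat_lit 36864) (Steps.bwd (nat_lit 8) (Steps.bwd (nat_lit 1) (Steps.bwd (nat_lit 4) (Steps.bwd (nat_lit 6) Steps.nil))))))))) (nat_lit 47) (nat_lit 6),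
  Rule.mk (nat_lit 1) (nat_lit 103) (Steps.bwd (nat_lit 3) (Steps.fwd (nat_lit 4096) (Steps.fwd (nat_lit 28672) (Steps.fwd (nat_lit 16384) (Steps.bwd (nat_lit 1) (Steps.bwd (nat_lit 1) Steps.nil)))))) (nat_lit 29) (nat_lit 6),
  Rule.mk (nat_lit 13) (nat_lit 118) (Steps.bwd (nat_lit 9) (Steps.fwd (nat_lit 53248) (Steps.fwd (nat_lit 49152) (Steps.fwd (nat_lit 57344) (Steps.bwd (nat_lit 9) (Steps.fwd (nat_lit 53248) (Steps.fwd (nat_lit 49152) Steps.nil))))))) (nat_lit 36) (nat_lit 0),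
  Rule.mk (nat_lit 12) (nat_lit 88) (Steps.fwd (nat_lit 40960) (Steps.fwd (nat_lit 49152) (Steps.bwd (nat_lit 14) (Steps.bwd (nat_lit 12) (Steps.bwd (nat_lit 13) Steps.nil))))) (nat_lit 26) (nat_lit 2),
  Rule.mk (nat_lit 11) (nat_lit 103) (Steps.bwd (nat_lit 2) (Steps.fwd (nat_lit 16384) (Steps.bwd (nat_lit 9) (Steps.fwd (nat_lit 32768) (Steps.bwd (nat_lit 5) (Steps.bwd (nat_lit 13) Steps.nil)))))) (nat_lit 30) (nat_lit 1),
  Rule.mk (nat_lit 10) (nat_lit 118) (Steps.fwd (nat_lit 32768) (Steps.fwd (nat_lit 40960) (Steps.bwd (nat_lit 13) (Steps.fwd (nat_lit 36864) (Steps.fwd (nat_lit 32768) (Steps.fwd (nat_lit 40960) (Steps.bwd (nat_lit 13) Steps.nil))))))) (nat_lit 38) (nat_lit 2),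
  Rule.mk (nat_lit 7) (nat_lit 118) (Steps.fwd (nat_lit 40960) (Steps.bwd (nat_lit 11) (Steps.bwd (nat_lit 13) (Steps.bwd (nat_lit 7) (Steps.fwd (nat_lit 40960) (Steps.fwd (nat_lit 49152) (Steps.bwd (nat_lit 13) Steps.nil))))))) (nat_lit 41) (nat_lit 0),
  Rule.mk (nat_lit 2) (nat_lit 118) (Steps.bwd (nat_lit 7) (Steps.fwd (nat_lit 40960) (Steps.fwd (nat_lit 53248) (Steps.bwd (nat_lit 12) (Steps.fwd (nat_lit 24576) (Steps.bwd (nat_lit 3) (Steps.fwd (nat_lit 4096) Steps.nil))))))) (nat_lit 33) (nat_lit 0),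
  Rule.mk (nat_lit 14) (nat_lit 148) (Steps.bwd (nat_lit 12) (Steps.fwd (nat_lit 24576) (Steps.fwd (nat_lit 49152) (Steps.fwd (nat_lit 57344) (Steps.fwd (nat_lit 16384) (Steps.bwd (nat_lit 2) (Steps.fwd (nat_lit 4096) (Steps.bwd (nat_lit 4) (Steps.bwd (nat_lit 6) Steps.nil))))))))) (nat_lit 52) (nat_lit 6),
  Rule.mk (nat_lit 6) (nat_lit 103) (Steps.fwd (nat_lit 28672) (Steps.bwd (nat_lit 10) (Steps.bwd (nat_lit 4) (Steps.bwd (nat_lit 1) (Steps.bwd (nat_lit 12) (Steps.bwd (nat_lit 14) Steps.nil)))))) (nat_lit 31) (nat_lit 2),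
  Rule.mk (nat_lit 7) (nat_lit 88) (Steps.bwd (nat_lit 9) (Steps.fwd (nat_lit 8192) (Steps.bwd (nat_lit 4) (Steps.fwd (nat_lit 4096) (Steps.bwd (nat_lit 10) Steps.nil))))) (nat_lit 21) (nat_lit 2),
  Rule.mk (nat_lit 10) (nat_lit 118) (Steps.bwd (nat_lit 8) (Steps.bwd (nat_lit 14) (Steps.fwd (nat_lit 45056) (Steps.bwd (nat_lit 10) (Steps.fwd (nat_lit 28672) (Steps.bwd (nat_lit 14) (Steps.bwd (nat_lit 12) Steps.nil))))))) (nat_lit 40) (nat_lit 0),
  Rule.mk (nat_lit 4) (nat_lit 133) (Steps.bwd (nat_lit 7) (Steps.bwd (nat_lit 4) (Steps.fwd (nat_lit 32768) (Steps.bwd (nat_lit 9) (Steps.fwd (nat_lit 20480) (Steps.fwd (nat_lit 49152) (Steps.fwd (nat_lit 57344) (Steps.bwd (nat_lit 12) Steps.nil)))))))) (nat_lit 44) (nat_lit 1),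
  Rule.mk (nat_lit 1) (nat_lit 88) (Steps.bwd (nat_lit 4) (Steps.fwd (nat_lit 4096) (Steps.bwd (nat_lit 10) (Steps.bwd (nat_lit 7) (Steps.fwd (nat_lit 40960) Steps.nil))))) (nat_lit 21) (nat_lit 4),
  Rule.mk (nat_lit 2) (nat_lit 148) (Steps.bwd (nat_lit 4) (Steps.bwd (nat_lit 6) (Steps.bwd (nat_lit 14) (Steps.bwd (nat_lit 12) (Steps.fwd (nat_lit 24576) (Steps.fwd (nat_lit 49152) (Steps.fwd (nat_lit 57344) (Steps.bwd (nat_lit 3) (Steps.bwd (nat_lit 2) Steps.nil))))))))) (nat_lit 52) (nat_lit 3),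
  Rule.mk (nat_lit 8) (nat_lit 88) (Steps.bwd (nat_lit 2) (Steps.fwd (nat_lit 24576) (Steps.bwd (nat_lit 9) (Steps.bwd (nat_lit 3) (Steps.bwd (nat_lit 2) Steps.nil))))) (nat_lit 23) (nat_lit 0),
  Rule.mk (nat_lit 1) (nat_lit 103) (Steps.fwd (nat_lit 8192) (Steps.bwd (nat_lit 1) (Steps.fwd (nat_lit 16384) (Steps.bwd (nat_lit 2) (Steps.fwd (nat_lit 28672) (Steps.bwd (nat_lit 3) Steps.nil)))))) (nat_lit 29) (nat_lit 4),
  Rule.mk (nat_lit 9) (nat_lit 103) (Steps.bwd (nat_lit 7) (Steps.fwd (nat_lit 24576) (Steps.bwd (nat_lit 13) (Steps.bwd (nat_lit 11) (Steps.fwd (nat_lit 4096) (Steps.bwd (nat_lit 3) Steps.nil)))))) (nat_lit 30) (nat_lit 4),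
  Rule.mk (nat_lit 13) (nat_lit 118) (Steps.bwd (nat_lit 9) (Steps.fwd (nat_lit 53248) (Steps.bwd (nat_lit 11) (Steps.fwd (nat_lit 57344) (Steps.fwd (nat_lit 40960) (Steps.fwd (nat_lit 53248) (Steps.bwd (nat_lit 11) Steps.nil))))))) (nat_lit 36) (nat_lit 0),
  Rule.mk (nat_lit 7) (nat_lit 118) (Steps.fwd (nat_lit 40960) (Steps.fwd (nat_lit 49152) (Steps.fwd (nat_lit 57344) (Steps.fwd (nat_lit 32768) (Steps.bwd (nat_lit 9) (Steps.bwd (nat_lit 11) (Steps.bwd (nat_lit 13) Steps.nil))))))) (nat_lit 41) (nat_lit 0),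
  Rule.mk (nat_lit 1) (nat_lit 148) (Steps.bwd (nat_lit 1) (Steps.fwd (nat_lit 8192) (Steps.fwd (nat_lit 12288) (Steps.bwd (nat_lit 5) (Steps.bwd (nat_lit 3) (Steps.fwd (nat_lit 4096) (Steps.fwd (nat_lit 32768) (Steps.fwd (nat_lit 40960) (Steps.fwd (nat_lit 28672) Steps.nil))))))))) (nat_lit 46) (nat_lit 2),
  Rule.mk (nat_lit 3) (nat_lit 88) (Steps.fwd (nat_lit 4096) (Steps.bwd (nat_lit 10) (Steps.fwd (nat_lit 28672) (Steps.fwd (nat_lit 40960) (Steps.bwd (nat_lit 1) Steps.nil))))) (nat_lit 20) (nat_lit 2),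
  Rule.mk (nat_lit 10) (nat_lit 88) (Steps.bwd (nat_lit 7) (Steps.bwd (nat_lit 9) (Steps.fwd (nat_lit 8192) (Steps.bwd (nat_lit 4) (Steps.fwd (nat_lit 4096) Steps.nil))))) (nat_lit 21) (nat_lit 1),
  Rule.mk (nat_lit 9) (nat_lit 103) (Steps.bwd (nat_lit 7) (Steps.bwd (nat_lit 5) (Steps.bwd (nat_lit 13) (Steps.bwd (nat_lit 11) (Steps.fwd (nat_lit 4096) (Steps.fwd (nat_lit 16384) Steps.nil)))))) (nat_lit 30) (nat_lit 4),
  Rule.mk (nat_lit 13) (nat_lit 118) (Steps.bwd (nat_lit 7) (Steps.bwd (nat_lit 9) (Steps.bwd (nat_lit 11) (Steps.bwd (nat_lit 13) (Steps.fwd (nat_lit 32768) (Steps.bwd (nat_lit 9) (Steps.fwd (nat_lit 49152) Steps.nil))))))) (nat_lit 41) (nat_lit 3),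
  Rule.mk (nat_lit 0) (nat_lit 103) (Steps.fwd (nat_lit 53248) (Steps.fwd (nat_lit 45056) (Steps.fwd (nat_lit 57344) (Steps.fwd (nat_lit 24576) (Steps.bwd (nat_lit 9) (Steps.bwd (nat_lit 6) Steps.nil)))))) (nat_lit 24) (nat_lit 2),
  Rule.mk (nat_lit 6) (nat_lit 103) (Steps.fwd (nat_lit 28672) (Steps.fwd (nat_lit 36864) (Steps.bwd (nat_lit 4) (Steps.fwd (nat_lit 8192) (Steps.fwd (nat_lit 45056) (Steps.bwd (nat_lit 14) Steps.nil)))))) (nat_lit 31) (nat_lit 2),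
  Rule.mk (nat_lit 12) (nat_lit 118) (Steps.fwd (nat_lit 24576) (Steps.bwd (nat_lit 3) (Steps.fwd (nat_lit 4096) (Steps.fwd (nat_lit 4096) (Steps.fwd (nat_lit 32768) (Steps.fwd (nat_lit 40960) (Steps.bwd (nat_lit 14) Steps.nil))))))) (nat_lit 33) (nat_lit 4),
  Rule.mk (nat_lit 10) (nat_lit 118) (Steps.fwd (nat_lit 28672) (Steps.bwd (nat_lit 9) (Steps.fwd (nat_lit 53248) (Steps.bwd (nat_lit 10) (Steps.fwd (nat_lit 28672) (Steps.fwd (nat_lit 40960) (Steps.bwd (nat_lit 14) Steps.nil))))))) (nat_lit 39) (nat_lit 1)]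
noncomputable def R_68 : List (Rule) := [Rule.mk (nat_lit 14) (nat_lit 148) (Steps.bwd (nat_lit 11) (Steps.bwd (nat_lit 14) (Steps.fwd (nat_lit 49152) (Steps.bwd (nat_lit 14) (Steps.fwd (nat_lit 49152) (Steps.bwd (nat_lit 14) (Steps.bwd (nat_lit 11) (Steps.bwd (nat_lit 14) (Steps.bwd (nat_lit 11) Steps.nil))))))))) (nat_lit 51) (nat_lit 1),
  Rule.mk (nat_lit 6) (nat_lit 88) (Steps.bwd (nat_lit 14) (Steps.fwd (nat_lit 45056) (Steps.fwd (nat_lit 57344) (Steps.fwd (nat_lit 24576) (Steps.fwd (nat_lit 40960) Steps.nil))))) (nat_lit 24) (nat_lit 2),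
  Rule.mk (nat_lit 12) (nat_lit 103) (Steps.bwd (nat_lit 14) (Steps.fwd (nat_lit 20480) (Steps.bwd (nat_lit 8) (Steps.bwd (nat_lit 10) (Steps.fwd (nat_lit 12288) (Steps.bwd (nat_lit 1) Steps.nil)))))) (nat_lit 31) (nat_lit 0),
  Rule.mk (nat_lit 9) (nat_lit 118) (Steps.bwd (nat_lit 14) (Steps.bwd (nat_lit 11) (Steps.fwd (nat_lit 57344) (Steps.fwd (nat_lit 40960) (Steps.fwd (nat_lit 53248) (Steps.fwd (nat_lit 49152) (Steps.fwd (nat_lit 57344) Steps.nil))))))) (nat_lit 36) (nat_lit 1),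
  Rule.mk (nat_lit 8) (nat_lit 118) (Steps.bwd (nat_lit 14) (Steps.fwd (nat_lit 45056) (Steps.bwd (nat_lit 10) (Steps.bwd (nat_lit 8) (Steps.fwd (nat_lit 53248) (Steps.bwd (nat_lit 12) (Steps.fwd (nat_lit 36864) Steps.nil))))))) (nat_lit 40) (nat_lit 1),
  Rule.mk (nat_lit 1) (nat_lit 118) (Steps.fwd (nat_lit 8192) (Steps.fwd (nat_lit 12288) (Steps.bwd (nat_lit 6) (Steps.fwd (nat_lit 49152) (Steps.bwd (nat_lit 13) (Steps.fwd (nat_lit 36864) (Steps.bwd (nat_lit 8) Steps.nil))))))) (nat_lit 32) (nat_lit 1),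
  Rule.mk (nat_lit 2) (nat_lit 118) (Steps.bwd (nat_lit 7) (Steps.bwd (nat_lit 9) (Steps.bwd (nat_lit 14) (Steps.fwd (nat_lit 45056) (Steps.bwd (nat_lit 5) (Steps.fwd (nat_lit 16384) (Steps.fwd (nat_lit 4096) Steps.nil))))))) (nat_lit 33) (nat_lit 0),
  Rule.mk (nat_lit 2) (nat_lit 88) (Steps.bwd (nat_lit 10) (Steps.bwd (nat_lit 8) (Steps.fwd (nat_lit 40960) (Steps.fwd (nat_lit 8192) (Steps.fwd (nat_lit 16384) Steps.nil))))) (nat_lit 20) (nat_lit 3),
  Rule.mk (nat_lit 4) (nat_lit 88) (Steps.bwd (nat_lit 10) (Steps.bwd (nat_lit 6) (Steps.bwd (nat_lit 1) (Steps.fwd (nat_lit 32768) (Steps.bwd (nat_lit 1) Steps.nil))))) (nat_lit 22) (nat_lit 3),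
  Rule.mk (nat_lit 14) (nat_lit 118) (Steps.bwd (nat_lit 10) (Steps.bwd (nat_lit 8) (Steps.fwd (nat_lit 40960) (Steps.bwd (nat_lit 14) (Steps.bwd (nat_lit 10) (Steps.fwd (nat_lit 28672) (Steps.fwd (nat_lit 40960) Steps.nil))))))) (nat_lit 39) (nat_lit 0),
  Rule.mk (nat_lit 12) (nat_lit 118) (Steps.fwd (nat_lit 36864) (Steps.fwd (nat_lit 28672) (Steps.bwd (nat_lit 14) (Steps.bwd (nat_lit 12) (Steps.bwd (nat_lit 10) (Steps.bwd (nat_lit 8) (Steps.bwd (nat_lit 14) Steps.nil))))))) (nat_lit 40) (nat_lit 3),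
  Rule.mk (nat_lit 1) (nat_lit 103) (Steps.bwd (nat_lit 12) (Steps.bwd (nat_lit 14) (Steps.fwd (nat_lit 20480) (Steps.bwd (nat_lit 8) (Steps.bwd (nat_lit 10) (Steps.bwd (nat_lit 4) Steps.nil)))))) (nat_lit 31) (nat_lit 6),
  Rule.mk (nat_lit 7) (nat_lit 133) (Steps.bwd (nat_lit 9) (Steps.bwd (nat_lit 6) (Steps.bwd (nat_lit 11) (Steps.fwd (nat_lit 57344) (Steps.fwd (nat_lit 45056) (Steps.fwd (nat_lit 12288) (Steps.bwd (nat_lit 7) (Steps.fwd (nat_lit 12288) Steps.nil)))))))) (nat_lit 44) (nat_lit 4),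
  Rule.mk (nat_lit 14) (nat_lit 118) (Steps.bwd (nat_lit 12) (Steps.bwd (nat_lit 5) (Steps.fwd (nat_lit 16384) (Steps.bwd (nat_lit 2) (Steps.fwd (nat_lit 4096) (Steps.bwd (nat_lit 7) (Steps.bwd (nat_lit 9) Steps.nil))))))) (nat_lit 33) (nat_lit 3),
  Rule.mk (nat_lit 13) (nat_lit 118) (Steps.fwd (nat_lit 36864) (Steps.fwd (nat_lit 32768) (Steps.bwd (nat_lit 9) (Steps.fwd (nat_lit 57344) (Steps.bwd (nat_lit 10) (Steps.bwd (nat_lit 7) (Steps.bwd (nat_lit 9) Steps.nil))))))) (nat_lit 38) (nat_lit 1),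
  Rule.mk (nat_lit 11) (nat_lit 118) (Steps.fwd (nat_lit 57344) (Steps.bwd (nat_lit 7) (Steps.fwd (nat_lit 40960) (Steps.bwd (nat_lit 11) (Steps.bwd (nat_lit 13) (Steps.bwd (nat_lit 7) (Steps.bwd (nat_lit 9) Steps.nil))))))) (nat_lit 41) (nat_lit 2),
  Rule.mk (nat_lit 2) (nat_lit 118) (Steps.fwd (nat_lit 20480) (Steps.bwd (nat_lit 1) (Steps.bwd (nat_lit 8) (Steps.bwd (nat_lit 1) (Steps.fwd (nat_lit 8192) (Steps.bwd (nat_lit 7) (Steps.bwd (nat_lit 9) Steps.nil))))))) (nat_lit 43) (nat_lit 7),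
  Rule.mk (nat_lit 4) (nat_lit 133) (Steps.bwd (nat_lit 7) (Steps.fwd (nat_lit 40960) (Steps.bwd (nat_lit 6) (Steps.bwd (nat_lit 11) (Steps.fwd (nat_lit 57344) (Steps.bwd (nat_lit 12) (Steps.fwd (nat_lit 12288) (Steps.bwd (nat_lit 7) Steps.nil)))))))) (nat_lit 44) (nat_lit 3),
  Rule.mk (nat_lit 8) (nat_lit 148) (Steps.bwd (nat_lit 1) (Steps.bwd (nat_lit 1) (Steps.fwd (nat_lit 8192) (Steps.fwd (nat_lit 12288) (Steps.fwd (nat_lit 24576) (Steps.fwd (nat_lit 16384) (Steps.fwd (nat_lit 4096) (Steps.bwd (nat_lit 7) (Steps.bwd (nat_lit 9) Steps.nil))))))))) (nat_lit 46) (nat_lit 1),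
  Rule.mk (nat_lit 10) (nat_lit 148) (Steps.bwd (nat_lit 8) (Steps.fwd (nat_lit 8192) (Steps.bwd (nat_lit 4) (Steps.bwd (nat_lit 6) (Steps.bwd (nat_lit 3) (Steps.bwd (nat_lit 2) (Steps.bwd (nat_lit 2) (Steps.fwd (nat_lit 4096) (Steps.bwd (nat_lit 7) Steps.nil))))))))) (nat_lit 47) (nat_lit 1),
  Rule.mk (nat_lit 12) (nat_lit 88) (Steps.bwd (nat_lit 10) (Steps.bwd (nat_lit 11) (Steps.fwd (nat_lit 53248) (Steps.fwd (nat_lit 49152) (Steps.bwd (nat_lit 13) Steps.nil))))) (nat_lit 27) (nat_lit 3),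
  Rule.mk (nat_lit 13) (nat_lit 118) (Steps.bwd (nat_lit 10) (Steps.bwd (nat_lit 8) (Steps.fwd (nat_lit 8192) (Steps.fwd (nat_lit 8192) (Steps.fwd (nat_lit 12288) (Steps.fwd (nat_lit 20480) (Steps.fwd (nat_lit 49152) Steps.nil))))))) (nat_lit 32) (nat_lit 6),
  Rule.mk (nat_lit 3) (nat_lit 88) (Steps.bwd (nat_lit 2) (Steps.fwd (nat_lit 28672) (Steps.bwd (nat_lit 2) (Steps.bwd (nat_lit 5) (Steps.bwd (nat_lit 9) Steps.nil))))) (nat_lit 23) (nat_lit 4),
  Rule.mk (nat_lit 2) (nat_lit 103) (Steps.bwd (nat_lit 3) (Steps.fwd (nat_lit 40960) (Steps.fwd (nat_lit 32768) (Steps.fwd (nat_lit 24576) (Steps.fwd (nat_lit 57344) (Steps.fwd (nat_lit 49152) Steps.nil)))))) (nat_lit 30) (nat_lit 2),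
  Rule.mk (nat_lit 6) (nat_lit 148) (Steps.bwd (nat_lit 3) (Steps.bwd (nat_lit 2) (Steps.bwd (nat_lit 2) (Steps.fwd (nat_lit 4096) (Steps.fwd (nat_lit 32768) (Steps.fwd (nat_lit 36864) (Steps.fwd (nat_lit 28672) (Steps.bwd (nat_lit 1) (Steps.bwd (nat_lit 4) Steps.nil))))))))) (nat_lit 47) (nat_lit 5),
  Rule.mk (nat_lit 13) (nat_lit 88) (Steps.fwd (nat_lit 24576) (Steps.bwd (nat_lit 10) (Steps.bwd (nat_lit 6) (Steps.bwd (nat_lit 14) (Steps.bwd (nat_lit 11) Steps.nil))))) (nat_lit 25) (nat_lit 4),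
  Rule.mk (nat_lit 2) (nat_lit 103) (Steps.fwd (nat_lit 16384) (Steps.fwd (nat_lit 40960) (Steps.bwd (nat_lit 7) (Steps.bwd (nat_lit 5) (Steps.fwd (nat_lit 57344) (Steps.bwd (nat_lit 11) Steps.nil)))))) (nat_lit 30) (nat_lit 2),
  Rule.mk (nat_lit 8) (nat_lit 88) (Steps.bwd (nat_lit 2) (Steps.fwd (nat_lit 24576) (Steps.fwd (nat_lit 40960) (Steps.fwd (nat_lit 16384) (Steps.fwd (nat_lit 4096) Steps.nil))))) (nat_lit 23) (nat_lit 0),
  Rule.mk (nat_lit 9) (nat_lit 118) (Steps.bwd (nat_lit 2) (Steps.fwd (nat_lit 20480) (Steps.fwd (nat_lit 8192) (Steps.bwd (nat_lit 8) (Steps.bwd (nat_lit 1) (Steps.bwd (nat_lit 1) (Steps.fwd (nat_lit 32768) Steps.nil))))))) (nat_lit 43) (nat_lit 6),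
  Rule.mk (nat_lit 8) (nat_lit 148) (Steps.bwd (nat_lit 9) (Steps.fwd (nat_lit 28672) (Steps.fwd (nat_lit 40960) (Steps.fwd (nat_lit 28672) (Steps.bwd (nat_lit 9) (Steps.bwd (nat_lit 8) (Steps.fwd (nat_lit 40960) (Steps.fwd (nat_lit 28672) (Steps.bwd (nat_lit 9) Steps.nil))))))))) (nat_lit 48) (nat_lit 1),
  Rule.mk (nat_lit 1) (nat_lit 148) (Steps.fwd (nat_lit 12288) (Steps.fwd (nat_lit 20480) (Steps.fwd (nat_lit 16384) (Steps.fwd (nat_lit 4096) (Steps.fwd (nat_lit 4096) (Steps.fwd (nat_lit 4096) (Steps.fwd (nat_lit 32768) (Steps.bwd (nat_lit 10) (Steps.bwd (nat_lit 8) Steps.nil))))))))) (nat_lit 47) (nat_lit 3),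
  Rule.mk (nat_lit 9) (nat_lit 88) (Steps.bwd (nat_lit 1) (Steps.fwd (nat_lit 16384) (Steps.fwd (nat_lit 4096) (Steps.fwd (nat_lit 36864) (Steps.fwd (nat_lit 28672) Steps.nil))))) (nat_lit 20) (nat_lit 0),
  Rule.mk (nat_lit 6) (nat_lit 88) (Steps.bwd (nat_lit 1) (Steps.bwd (nat_lit 7) (Steps.fwd (nat_lit 8192) (Steps.bwd (nat_lit 4) (Steps.fwd (nat_lit 36864) Steps.nil))))) (nat_lit 22) (nat_lit 5),
  Rule.mk (nat_lit 13) (nat_lit 148) (Steps.bwd (nat_lit 12) (Steps.bwd (nat_lit 13) (Steps.fwd (nat_lit 45056) (Steps.fwd (nat_lit 57344) (Steps.fwd (nat_lit 45056) (Steps.bwd (nat_lit 13) (Steps.fwd (nat_lit 45056) (Steps.bwd (nat_lit 13) (Steps.fwd (nat_lit 45056) Steps.nil))))))))) (nat_lit 50) (nat_lit 0),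
  Rule.mk (nat_lit 10) (nat_lit 118) (Steps.fwd (nat_lit 28672) (Steps.fwd (nat_lit 8192) (Steps.fwd (nat_lit 8192) (Steps.fwd (nat_lit 12288) (Steps.fwd (nat_lit 20480) (Steps.bwd (nat_lit 11) (Steps.bwd (nat_lit 13) Steps.nil))))))) (nat_lit 32) (nat_lit 7),
  Rule.mk (nat_lit 9) (nat_lit 118) (Steps.fwd (nat_lit 53248) (Steps.bwd (nat_lit 11) (Steps.fwd (nat_lit 57344) (Steps.bwd (nat_lit 9) (Steps.bwd (nat_lit 14) (Steps.bwd (nat_lit 11) (Steps.bwd (nat_lit 13) Steps.nil))))))) (nat_lit 36) (nat_lit 1),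
  Rule.mk (nat_lit 2) (nat_lit 88) (Steps.fwd (nat_lit 28672) (Steps.bwd (nat_lit 2) (Steps.bwd (nat_lit 5) (Steps.fwd (nat_lit 40960) (Steps.bwd (nat_lit 3) Steps.nil))))) (nat_lit 23) (nat_lit 5),
  Rule.mk (nat_lit 1) (nat_lit 148) (Steps.bwd (nat_lit 1) (Steps.fwd (nat_lit 12288) (Steps.fwd (nat_lit 53248) (Steps.fwd (nat_lit 45056) (Steps.fwd (nat_lit 20480) (Steps.fwd (nat_lit 49152) (Steps.bwd (nat_lit 13) (Steps.fwd (nat_lit 24576) (Steps.bwd (nat_lit 3) Steps.nil))))))))) (nat_lit 53) (nat_lit 8),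
  Rule.mk (nat_lit 14) (nat_lit 88) (Steps.bwd (nat_lit 12) (Steps.fwd (nat_lit 57344) (Steps.bwd (nat_lit 12) (Steps.fwd (nat_lit 40960) (Steps.bwd (nat_lit 11) Steps.nil))))) (nat_lit 26) (nat_lit 5),
  Rule.mk (nat_lit 10) (nat_lit 118) (Steps.bwd (nat_lit 14) (Steps.bwd (nat_lit 12) (Steps.fwd (nat_lit 57344) (Steps.bwd (nat_lit 10) (Steps.fwd (nat_lit 53248) (Steps.fwd (nat_lit 45056) (Steps.bwd (nat_lit 13) Steps.nil))))))) (nat_lit 37) (nat_lit 0),
  Rule.mk (nat_lit 9) (nat_lit 118) (Steps.bwd (nat_lit 14) (Steps.bwd (nat_lit 10) (Steps.bwd (nat_lit 8) (Steps.fwd (nat_lit 40960) (Steps.fwd (nat_lit 53248) (Steps.bwd (nat_lit 10) (Steps.bwd (nat_lit 8) Steps.nil))))))) (nat_lit 39) (nat_lit 3),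
  Rule.mk (nat_lit 4) (nat_lit 148) (Steps.bwd (nat_lit 14) (Steps.bwd (nat_lit 12) (Steps.fwd (nat_lit 20480) (Steps.fwd (nat_lit 49152) (Steps.bwd (nat_lit 13) (Steps.fwd (nat_lit 24576) (Steps.bwd (nat_lit 3) (Steps.fwd (nat_lit 8192) (Steps.bwd (nat_lit 1) Steps.nil))))))))) (nat_lit 53) (nat_lit 0),
  Rule.mk (nat_lit 1) (nat_lit 103) (Steps.fwd (nat_lit 45056) (Steps.bwd (nat_lit 14) (Steps.fwd (nat_lit 20480) (Steps.bwd (nat_lit 8) (Steps.bwd (nat_lit 10) (Steps.bwd (nat_lit 4) Steps.nil)))))) (nat_lit 31) (nat_lit 6),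
  Rule.mk (nat_lit 3) (nat_lit 118) (Steps.fwd (nat_lit 4096) (Steps.fwd (nat_lit 4096) (Steps.fwd (nat_lit 32768) (Steps.fwd (nat_lit 40960) (Steps.fwd (nat_lit 53248) (Steps.fwd (nat_lit 45056) (Steps.bwd (nat_lit 5) Steps.nil))))))) (nat_lit 33) (nat_lit 6),
  Rule.mk (nat_lit 11) (nat_lit 118) (Steps.bwd (nat_lit 5) (Steps.bwd (nat_lit 3) (Steps.bwd (nat_lit 6) (Steps.fwd (nat_lit 49152) (Steps.fwd (nat_lit 24576) (Steps.fwd (nat_lit 16384) (Steps.fwd (nat_lit 20480) Steps.nil))))))) (nat_lit 34) (nat_lit 3),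
  Rule.mk (nat_lit 0) (nat_lit 88) (Steps.fwd (nat_lit 20480) (Steps.fwd (nat_lit 45056) (Steps.fwd (nat_lit 20480) (Steps.bwd (nat_lit 12) (Steps.fwd (nat_lit 40960) Steps.nil))))) (nat_lit 19) (nat_lit 1),
  Rule.mk (nat_lit 2) (nat_lit 103) (Steps.bwd (nat_lit 3) (Steps.fwd (nat_lit 40960) (Steps.bwd (nat_lit 7) (Steps.fwd (nat_lit 24576) (Steps.bwd (nat_lit 13) (Steps.bwd (nat_lit 11) Steps.nil)))))) (nat_lit 30) (nat_lit 2),
  Rule.mk (nat_lit 9) (nat_lit 118) (Steps.bwd (nat_lit 2) (Steps.fwd (nat_lit 20480) (Steps.fwd (nat_lit 8192) (Steps.fwd (nat_lit 28672) (Steps.fwd (nat_lit 8192) (Steps.bwd (nat_lit 1) (Steps.fwd (nat_lit 32768) Steps.nil))))))) (nat_lit 43) (nat_lit 6),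
  Rule.mk (nat_lit 2) (nat_lit 148) (Steps.bwd (nat_lit 4) (Steps.fwd (nat_lit 20480) (Steps.bwd (nat_lit 14) (Steps.fwd (nat_lit 45056) (Steps.fwd (nat_lit 24576) (Steps.bwd (nat_lit 11) (Steps.bwd (nat_lit 13) (Steps.bwd (nat_lit 3) (Steps.bwd (nat_lit 2) Steps.nil))))))))) (nat_lit 52) (nat_lit 3),
  Rule.mk (nat_lit 8) (nat_lit 88) (Steps.bwd (nat_lit 2) (Steps.bwd (nat_lit 5) (Steps.fwd (nat_lit 40960) (Steps.bwd (nat_lit 3) (Steps.bwd (nat_lit 2) Steps.nil))))) (nat_lit 23) (nat_lit 0),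
  Rule.mk (nat_lit 3) (nat_lit 103) (Steps.bwd (nat_lit 9) (Steps.fwd (nat_lit 32768) (Steps.bwd (nat_lit 5) (Steps.bwd (nat_lit 13) (Steps.fwd (nat_lit 49152) (Steps.bwd (nat_lit 2) Steps.nil)))))) (nat_lit 30) (nat_lit 3),
  Rule.mk (nat_lit 11) (nat_lit 118) (Steps.bwd (nat_lit 13) (Steps.fwd (nat_lit 40960) (Steps.bwd (nat_lit 14) (Steps.bwd (nat_lit 11) (Steps.fwd (nat_lit 57344) (Steps.bwd (nat_lit 9) (Steps.fwd (nat_lit 53248) Steps.nil))))))) (nat_lit 36) (nat_lit 3),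
  Rule.mk (nat_lit 2) (nat_lit 103) (Steps.bwd (nat_lit 3) (Steps.bwd (nat_lit 9) (Steps.fwd (nat_lit 32768) (Steps.bwd (nat_lit 5) (Steps.fwd (nat_lit 57344) (Steps.bwd (nat_lit 11) Steps.nil)))))) (nat_lit 30) (nat_lit 2),
  Rule.mk (nat_lit 4) (nat_lit 88) (Steps.bwd (nat_lit 2) (Steps.bwd (nat_lit 10) (Steps.bwd (nat_lit 7) (Steps.bwd (nat_lit 9) (Steps.bwd (nat_lit 1) Steps.nil))))) (nat_lit 21) (nat_lit 5),
  Rule.mk (nat_lit 9) (nat_lit 118) (Steps.bwd (nat_lit 2) (Steps.fwd (nat_lit 20480) (Steps.fwd (nat_lit 8192) (Steps.fwd (nat_lit 28672) (Steps.fwd (nat_lit 8192) (Steps.fwd (nat_lit 8192) (Steps.fwd (nat_lit 32768) Steps.nil))))))) (nat_lit 43) (nat_lit 6),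
  Rule.mk (nat_lit 9) (nat_lit 118) (Steps.bwd (nat_lit 13) (Steps.fwd (nat_lit 36864) (Steps.fwd (nat_lit 32768) (Steps.fwd (nat_lit 40960) (Steps.fwd (nat_lit 57344) (Steps.bwd (nat_lit 10) (Steps.bwd (nat_lit 7) Steps.nil))))))) (nat_lit 38) (nat_lit 0),
  Rule.mk (nat_lit 14) (nat_lit 118) (Steps.fwd (nat_lit 49152) (Steps.fwd (nat_lit 57344) (Steps.fwd (nat_lit 40960) (Steps.fwd (nat_lit 53248) (Steps.fwd (nat_lit 49152) (Steps.fwd (nat_lit 57344) (Steps.bwd (nat_lit 9) Steps.nil))))))) (nat_lit 36) (nat_lit 2),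
  Rule.mk (nat_lit 2) (nat_lit 118) (Steps.bwd (nat_lit 6) (Steps.bwd (nat_lit 1) (Steps.bwd (nat_lit 8) (Steps.bwd (nat_lit 1) (Steps.fwd (nat_lit 8192) (Steps.bwd (nat_lit 7) (Steps.bwd (nat_lit 9) Steps.nil))))))) (nat_lit 43) (nat_lit 7),
  Rule.mk (nat_lit 8) (nat_lit 148) (Steps.fwd (nat_lit 8192) (Steps.fwd (nat_lit 8192) (Steps.bwd (nat_lit 1) (Steps.fwd (nat_lit 12288) (Steps.bwd (nat_lit 5) (Steps.fwd (nat_lit 16384) (Steps.fwd (nat_lit 4096) (Steps.bwd (nat_lit 7) (Steps.bwd (nat_lit 9) Steps.nil))))))))) (nat_lit 46) (nat_lit 1),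
  Rule.mk (nat_lit 3) (nat_lit 133) (Steps.bwd (nat_lit 8) (Steps.fwd (nat_lit 16384) (Steps.bwd (nat_lit 11) (Steps.fwd (nat_lit 53248) (Steps.fwd (nat_lit 45056) (Steps.bwd (nat_lit 5) (Steps.fwd (nat_lit 36864) (Steps.bwd (nat_lit 8) Steps.nil)))))))) (nat_lit 45) (nat_lit 7),
  Rule.mk (nat_lit 12) (nat_lit 148) (Steps.bwd (nat_lit 13) (Steps.bwd (nat_lit 12) (Steps.fwd (nat_lit 57344) (Steps.fwd (nat_lit 45056) (Steps.fwd (nat_lit 57344) (Steps.fwd (nat_lit 45056) (Steps.bwd (nat_lit 13) (Steps.bwd (nat_lit 12) (Steps.fwd (nat_lit 57344) Steps.nil))))))))) (nat_lit 50) (nat_lit 1),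
  Rule.mk (nat_lit 14) (nat_lit 103) (Steps.fwd (nat_lit 20480) (Steps.fwd (nat_lit 28672) (Steps.bwd (nat_lit 10) (Steps.fwd (nat_lit 12288) (Steps.bwd (nat_lit 1) (Steps.bwd (nat_lit 12) Steps.nil)))))) (nat_lit 31) (nat_lit 1),
  Rule.mk (nat_lit 5) (nat_lit 118) (Steps.bwd (nat_lit 3) (Steps.bwd (nat_lit 2) (Steps.fwd (nat_lit 4096) (Steps.fwd (nat_lit 32768) (Steps.bwd (nat_lit 9) (Steps.bwd (nat_lit 14) (Steps.bwd (nat_lit 12) Steps.nil))))))) (nat_lit 33) (nat_lit 5),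
  Rule.mk (nat_lit 4) (nat_lit 133) (Steps.bwd (nat_lit 7) (Steps.bwd (nat_lit 4) (Steps.bwd (nat_lit 7) (Steps.fwd (nat_lit 40960) (Steps.fwd (nat_lit 20480) (Steps.fwd (nat_lit 49152) (Steps.fwd (nat_lit 57344) (Steps.bwd (nat_lit 12) Steps.nil)))))))) (nat_lit 44) (nat_lit 1)]
noncomputable def R_69 : List (Rule) := [Rule.mk (nat_lit 2) (nat_lit 103) (Steps.bwd (nat_lit 4) (Steps.bwd (nat_lit 7) (Steps.bwd (nat_lit 1) (Steps.bwd (nat_lit 4) (Steps.bwd (nat_lit 2) (Steps.fwd (nat_lit 4096) Steps.nil)))))) (nat_lit 28) (nat_lit 4),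
  Rule.mk (nat_lit 4) (nat_lit 148) (Steps.bwd (nat_lit 6) (Steps.fwd (nat_lit 53248) (Steps.bwd (nat_lit 12) (Steps.fwd (nat_lit 24576) (Steps.bwd (nat_lit 11) (Steps.fwd (nat_lit 57344) (Steps.fwd (nat_lit 16384) (Steps.fwd (nat_lit 4096) (Steps.fwd (nat_lit 4096) Steps.nil))))))))) (nat_lit 52) (nat_lit 4),
  Rule.mk (nat_lit 10) (nat_lit 148) (Steps.bwd (nat_lit 7) (Steps.fwd (nat_lit 36864) (Steps.fwd (nat_lit 32768) (Steps.fwd (nat_lit 36864) (Steps.fwd (nat_lit 32768) (Steps.bwd (nat_lit 10) (Steps.bwd (nat_lit 7) (Steps.bwd (nat_lit 10) (Steps.bwd (nat_lit 7) Steps.nil))))))))) (nat_lit 49) (nat_lit 1),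
  Rule.mk (nat_lit 5) (nat_lit 73) (Steps.fwd (nat_lit 49152) (Steps.bwd (nat_lit 5) (Steps.bwd (nat_lit 10) (Steps.fwd (nat_lit 49152) Steps.nil)))) (nat_lit 18) (nat_lit 2),
  Rule.mk (nat_lit 14) (nat_lit 118) (Steps.bwd (nat_lit 12) (Steps.bwd (nat_lit 5) (Steps.bwd (nat_lit 3) (Steps.bwd (nat_lit 2) (Steps.fwd (nat_lit 4096) (Steps.bwd (nat_lit 7) (Steps.bwd (nat_lit 9) Steps.nil))))))) (nat_lit 33) (nat_lit 3),
  Rule.mk (nat_lit 10) (nat_lit 148) (Steps.bwd (nat_lit 8) (Steps.bwd (nat_lit 1) (Steps.bwd (nat_lit 4) (Steps.fwd (nat_lit 20480) (Steps.bwd (nat_lit 3) (Steps.fwd (nat_lit 4096) (Steps.fwd (nat_lit 4096) (Steps.fwd (nat_lit 4096) (Steps.bwd (nat_lit 7) Steps.nil))))))))) (nat_lit 47) (nat_lit 1),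
  Rule.mk (nat_lit 13) (nat_lit 88) (Steps.fwd (nat_lit 24576) (Steps.bwd (nat_lit 9) (Steps.bwd (nat_lit 6) (Steps.fwd (nat_lit 53248) (Steps.bwd (nat_lit 12) Steps.nil))))) (nat_lit 24) (nat_lit 5),
  Rule.mk (nat_lit 5) (nat_lit 118) (Steps.fwd (nat_lit 16384) (Steps.fwd (nat_lit 4096) (Steps.bwd (nat_lit 2) (Steps.fwd (nat_lit 32768) (Steps.bwd (nat_lit 9) (Steps.fwd (nat_lit 53248) (Steps.bwd (nat_lit 12) Steps.nil))))))) (nat_lit 33) (nat_lit 5),
  Rule.mk (nat_lit 12) (nat_lit 88) (Steps.fwd (nat_lit 36864) (Steps.bwd (nat_lit 11) (Steps.bwd (nat_lit 14) (Steps.bwd (nat_lit 11) (Steps.bwd (nat_lit 13) Steps.nil))))) (nat_lit 27) (nat_lit 3),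
  Rule.mk (nat_lit 11) (nat_lit 103) (Steps.fwd (nat_lit 4096) (Steps.fwd (nat_lit 16384) (Steps.bwd (nat_lit 9) (Steps.fwd (nat_lit 32768) (Steps.bwd (nat_lit 5) (Steps.bwd (nat_lit 13) Steps.nil)))))) (nat_lit 30) (nat_lit 1),
  Rule.mk (nat_lit 10) (nat_lit 118) (Steps.fwd (nat_lit 28672) (Steps.fwd (nat_lit 8192) (Steps.fwd (nat_lit 8192) (Steps.fwd (nat_lit 12288) (Steps.bwd (nat_lit 6) (Steps.bwd (nat_lit 11) (Steps.bwd (nat_lit 13) Steps.nil))))))) (nat_lit 32) (nat_lit 7),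
  Rule.mk (nat_lit 7) (nat_lit 118) (Steps.fwd (nat_lit 40960) (Steps.fwd (nat_lit 49152) (Steps.fwd (nat_lit 57344) (Steps.bwd (nat_lit 7) (Steps.fwd (nat_lit 40960) (Steps.bwd (nat_lit 11) (Steps.bwd (nat_lit 13) Steps.nil))))))) (nat_lit 41) (nat_lit 0),
  Rule.mk (nat_lit 2) (nat_lit 118) (Steps.bwd (nat_lit 7) (Steps.fwd (nat_lit 40960) (Steps.fwd (nat_lit 53248) (Steps.bwd (nat_lit 12) (Steps.fwd (nat_lit 24576) (Steps.fwd (nat_lit 16384) (Steps.fwd (nat_lit 4096) Steps.nil))))))) (nat_lit 33) (nat_lit 0),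
  Rule.mk (nat_lit 4) (nat_lit 103) (Steps.fwd (nat_lit 32768) (Steps.fwd (nat_lit 8192) (Steps.fwd (nat_lit 12288) (Steps.bwd (nat_lit 2) (Steps.fwd (nat_lit 4096) (Steps.bwd (nat_lit 2) Steps.nil)))))) (nat_lit 28) (nat_lit 5),
  Rule.mk (nat_lit 4) (nat_lit 133) (Steps.fwd (nat_lit 32768) (Steps.bwd (nat_lit 9) (Steps.fwd (nat_lit 20480) (Steps.fwd (nat_lit 49152) (Steps.bwd (nat_lit 13) (Steps.fwd (nat_lit 45056) (Steps.fwd (nat_lit 12288) (Steps.bwd (nat_lit 7) Steps.nil)))))))) (nat_lit 44) (nat_lit 3),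
  Rule.mk (nat_lit 10) (nat_lit 148) (Steps.fwd (nat_lit 28672) (Steps.bwd (nat_lit 1) (Steps.fwd (nat_lit 12288) (Steps.fwd (nat_lit 20480) (Steps.fwd (nat_lit 16384) (Steps.bwd (nat_lit 2) (Steps.bwd (nat_lit 2) (Steps.bwd (nat_lit 2) (Steps.bwd (nat_lit 7) Steps.nil))))))))) (nat_lit 47) (nat_lit 1),
  Rule.mk (nat_lit 12) (nat_lit 88) (Steps.bwd (nat_lit 10) (Steps.bwd (nat_lit 11) (Steps.bwd (nat_lit 14) (Steps.fwd (nat_lit 49152) (Steps.bwd (nat_lit 13) Steps.nil))))) (nat_lit 27) (nat_lit 3),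
  Rule.mk (nat_lit 13) (nat_lit 118) (Steps.bwd (nat_lit 10) (Steps.fwd (nat_lit 28672) (Steps.bwd (nat_lit 1) (Steps.fwd (nat_lit 8192) (Steps.bwd (nat_lit 4) (Steps.fwd (nat_lit 20480) (Steps.bwd (nat_lit 11) Steps.nil))))))) (nat_lit 32) (nat_lit 6),
  Rule.mk (nat_lit 11) (nat_lit 118) (Steps.bwd (nat_lit 13) (Steps.fwd (nat_lit 36864) (Steps.fwd (nat_lit 28672) (Steps.bwd (nat_lit 1) (Steps.bwd (nat_lit 1) (Steps.fwd (nat_lit 12288) (Steps.fwd (nat_lit 20480) Steps.nil))))))) (nat_lit 32) (nat_lit 5),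
  Rule.mk (nat_lit 8) (nat_lit 118) (Steps.bwd (nat_lit 9) (Steps.fwd (nat_lit 53248) (Steps.bwd (nat_lit 10) (Steps.bwd (nat_lit 8) (Steps.fwd (nat_lit 40960) (Steps.fwd (nat_lit 53248) (Steps.bwd (nat_lit 10) Steps.nil))))))) (nat_lit 39) (nat_lit 2),
  Rule.mk (nat_lit 9) (nat_lit 118) (Steps.bwd (nat_lit 13) (Steps.fwd (nat_lit 36864) (Steps.bwd (nat_lit 7) (Steps.bwd (nat_lit 9) (Steps.bwd (nat_lit 13) (Steps.fwd (nat_lit 36864) (Steps.bwd (nat_lit 7) Steps.nil))))))) (nat_lit 38) (nat_lit 0),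
  Rule.mk (nat_lit 14) (nat_lit 118) (Steps.bwd (nat_lit 11) (Steps.fwd (nat_lit 57344) (Steps.fwd (nat_lit 40960) (Steps.bwd (nat_lit 14) (Steps.bwd (nat_lit 11) (Steps.bwd (nat_lit 13) (Steps.bwd (nat_lit 9) Steps.nil))))))) (nat_lit 36) (nat_lit 2),
  Rule.mk (nat_lit 3) (nat_lit 118) (Steps.fwd (nat_lit 4096) (Steps.bwd (nat_lit 2) (Steps.bwd (nat_lit 7) (Steps.fwd (nat_lit 40960) (Steps.fwd (nat_lit 53248) (Steps.bwd (nat_lit 12) (Steps.bwd (nat_lit 5) Steps.nil))))))) (nat_lit 33) (nat_lit 6),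
  Rule.mk (nat_lit 1) (nat_lit 118) (Steps.fwd (nat_lit 36864) (Steps.fwd (nat_lit 28672) (Steps.fwd (nat_lit 4096) (Steps.bwd (nat_lit 2) (Steps.fwd (nat_lit 32768) (Steps.bwd (nat_lit 2) (Steps.bwd (nat_lit 5) Steps.nil))))))) (nat_lit 42) (nat_lit 2),
  Rule.mk (nat_lit 8) (nat_lit 148) (Steps.bwd (nat_lit 1) (Steps.fwd (nat_lit 12288) (Steps.fwd (nat_lit 20480) (Steps.bwd (nat_lit 3) (Steps.bwd (nat_lit 2) (Steps.fwd (nat_lit 4096) (Steps.fwd (nat_lit 4096) (Steps.bwd (nat_lit 7) (Steps.fwd (nat_lit 36864) Steps.nil))))))))) (nat_lit 47) (nat_lit 2),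
  Rule.mk (nat_lit 1) (nat_lit 103) (Steps.bwd (nat_lit 1) (Steps.fwd (nat_lit 8192) (Steps.bwd (nat_lit 3) (Steps.fwd (nat_lit 4096) (Steps.fwd (nat_lit 28672) (Steps.bwd (nat_lit 3) Steps.nil)))))) (nat_lit 29) (nat_lit 4),
  Rule.mk (nat_lit 9) (nat_lit 103) (Steps.bwd (nat_lit 7) (Steps.bwd (nat_lit 5) (Steps.fwd (nat_lit 57344) (Steps.bwd (nat_lit 11) (Steps.fwd (nat_lit 4096) (Steps.bwd (nat_lit 3) Steps.nil)))))) (nat_lit 30) (nat_lit 4),
  Rule.mk (nat_lit 8) (nat_lit 133) (Steps.fwd (nat_lit 16384) (Steps.fwd (nat_lit 49152) (Steps.bwd (nat_lit 14) (Steps.fwd (nat_lit 45056) (Steps.bwd (nat_lit 5) (Steps.bwd (nat_lit 10) (Steps.fwd (nat_lit 28672) (Steps.bwd (nat_lit 3) Steps.nil)))))))) (nat_lit 45) (nat_lit 8),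
  Rule.mk (nat_lit 13) (nat_lit 103) (Steps.bwd (nat_lit 11) (Steps.bwd (nat_lit 2) (Steps.bwd (nat_lit 3) (Steps.fwd (nat_lit 40960) (Steps.bwd (nat_lit 7) (Steps.fwd (nat_lit 24576) Steps.nil)))))) (nat_lit 30) (nat_lit 0),
  Rule.mk (nat_lit 14) (nat_lit 118) (Steps.bwd (nat_lit 11) (Steps.bwd (nat_lit 13) (Steps.bwd (nat_lit 9) (Steps.fwd (nat_lit 53248) (Steps.bwd (nat_lit 11) (Steps.fwd (nat_lit 57344) (Steps.fwd (nat_lit 40960) Steps.nil))))))) (nat_lit 36) (nat_lit 2),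
  Rule.mk (nat_lit 9) (nat_lit 118) (Steps.bwd (nat_lit 11) (Steps.bwd (nat_lit 13) (Steps.fwd (nat_lit 32768) (Steps.fwd (nat_lit 40960) (Steps.fwd (nat_lit 49152) (Steps.bwd (nat_lit 13) (Steps.bwd (nat_lit 7) Steps.nil))))))) (nat_lit 41) (nat_lit 1),
  Rule.mk (nat_lit 14) (nat_lit 88) (Steps.fwd (nat_lit 45056) (Steps.bwd (nat_lit 13) (Steps.bwd (nat_lit 12) (Steps.fwd (nat_lit 40960) (Steps.bwd (nat_lit 11) Steps.nil))))) (nat_lit 26) (nat_lit 5),
  Rule.mk (nat_lit 9) (nat_lit 118) (Steps.bwd (nat_lit 14) (Steps.fwd (nat_lit 45056) (Steps.fwd (nat_lit 24576) (Steps.bwd (nat_lit 3) (Steps.fwd (nat_lit 4096) (Steps.fwd (nat_lit 4096) (Steps.fwd (nat_lit 32768) Steps.nil))))))) (nat_lit 33) (nat_lit 2),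
  Rule.mk (nat_lit 8) (nat_lit 118) (Steps.bwd (nat_lit 14) (Steps.fwd (nat_lit 45056) (Steps.bwd (nat_lit 10) (Steps.fwd (nat_lit 28672) (Steps.bwd (nat_lit 14) (Steps.bwd (nat_lit 12) (Steps.bwd (nat_lit 10) Steps.nil))))))) (nat_lit 40) (nat_lit 1),
  Rule.mk (nat_lit 1) (nat_lit 118) (Steps.bwd (nat_lit 1) (Steps.bwd (nat_lit 4) (Steps.bwd (nat_lit 6) (Steps.fwd (nat_lit 49152) (Steps.fwd (nat_lit 57344) (Steps.bwd (nat_lit 10) (Steps.bwd (nat_lit 8) Steps.nil))))))) (nat_lit 32) (nat_lit 1),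
  Rule.mk (nat_lit 3) (nat_lit 88) (Steps.bwd (nat_lit 2) (Steps.fwd (nat_lit 36864) (Steps.fwd (nat_lit 28672) (Steps.fwd (nat_lit 40960) (Steps.bwd (nat_lit 1) Steps.nil))))) (nat_lit 20) (nat_lit 2),
  Rule.mk (nat_lit 8) (nat_lit 118) (Steps.fwd (nat_lit 8192) (Steps.fwd (nat_lit 8192) (Steps.bwd (nat_lit 7) (Steps.bwd (nat_lit 9) (Steps.bwd (nat_lit 2) (Steps.fwd (nat_lit 20480) (Steps.bwd (nat_lit 1) Steps.nil))))))) (nat_lit 43) (nat_lit 2),
  Rule.mk (nat_lit 9) (nat_lit 148) (Steps.bwd (nat_lit 8) (Steps.fwd (nat_lit 8192) (Steps.fwd (nat_lit 8192) (Steps.fwd (nat_lit 8192) (Steps.bwd (nat_lit 4) (Steps.fwd (nat_lit 24576) (Steps.fwd (nat_lit 16384) (Steps.bwd (nat_lit 2) (Steps.fwd (nat_lit 32768) Steps.nil))))))))) (nat_lit 46) (nat_lit 0),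
  Rule.mk (nat_lit 6) (nat_lit 73) (Steps.fwd (nat_lit 45056) (Steps.bwd (nat_lit 6) (Steps.fwd (nat_lit 45056) (Steps.bwd (nat_lit 9) Steps.nil)))) (nat_lit 19) (nat_lit 2),
  Rule.mk (nat_lit 14) (nat_lit 118) (Steps.fwd (nat_lit 49152) (Steps.bwd (nat_lit 13) (Steps.fwd (nat_lit 40960) (Steps.bwd (nat_lit 14) (Steps.bwd (nat_lit 11) (Steps.fwd (nat_lit 57344) (Steps.bwd (nat_lit 9) Steps.nil))))))) (nat_lit 36) (nat_lit 2),
  Rule.mk (nat_lit 4) (nat_lit 103) (Steps.fwd (nat_lit 32768) (Steps.bwd (nat_lit 1) (Steps.fwd (nat_lit 12288) (Steps.fwd (nat_lit 4096) (Steps.fwd (nat_lit 4096) (Steps.bwd (nat_lit 2) Steps.nil)))))) (nat_lit 28) (nat_lit 5),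
  Rule.mk (nat_lit 2) (nat_lit 103) (Steps.bwd (nat_lit 4) (Steps.fwd (nat_lit 32768) (Steps.bwd (nat_lit 1) (Steps.fwd (nat_lit 12288) (Steps.fwd (nat_lit 4096) (Steps.bwd (nat_lit 2) Steps.nil)))))) (nat_lit 28) (nat_lit 4),
  Rule.mk (nat_lit 0) (nat_lit 103) (Steps.fwd (nat_lit 12288) (Steps.bwd (nat_lit 2) (Steps.fwd (nat_lit 36864) (Steps.fwd (nat_lit 32768) (Steps.fwd (nat_lit 40960) (Steps.fwd (nat_lit 8192) Steps.nil)))))) (nat_lit 21) (nat_lit 4),
  Rule.mk (nat_lit 9) (nat_lit 118) (Steps.fwd (nat_lit 4096) (Steps.bwd (nat_lit 6) (Steps.bwd (nat_lit 1) (Steps.bwd (nat_lit 8) (Steps.fwd (nat_lit 8192) (Steps.fwd (nat_lit 8192) (Steps.fwd (nat_lit 32768) Steps.nil))))))) (nat_lit 43) (nat_lit 6),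
  Rule.mk (nat_lit 14) (nat_lit 118) (Steps.fwd (nat_lit 45056) (Steps.bwd (nat_lit 5) (Steps.bwd (nat_lit 3) (Steps.fwd (nat_lit 4096) (Steps.fwd (nat_lit 4096) (Steps.fwd (nat_lit 32768) (Steps.bwd (nat_lit 9) Steps.nil))))))) (nat_lit 33) (nat_lit 3),
  Rule.mk (nat_lit 11) (nat_lit 88) (Steps.bwd (nat_lit 13) (Steps.bwd (nat_lit 5) (Steps.fwd (nat_lit 36864) (Steps.bwd (nat_lit 6) (Steps.fwd (nat_lit 53248) Steps.nil))))) (nat_lit 25) (nat_lit 3),
  Rule.mk (nat_lit 14) (nat_lit 118) (Steps.bwd (nat_lit 12) (Steps.fwd (nat_lit 57344) (Steps.bwd (nat_lit 10) (Steps.fwd (nat_lit 53248) (Steps.fwd (nat_lit 45056) (Steps.bwd (nat_lit 13) (Steps.bwd (nat_lit 10) Steps.nil))))))) (nat_lit 37) (nat_lit 1),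
  Rule.mk (nat_lit 6) (nat_lit 73) (Steps.bwd (nat_lit 14) (Steps.bwd (nat_lit 4) (Steps.bwd (nat_lit 8) (Steps.fwd (nat_lit 49152) Steps.nil)))) (nat_lit 16) (nat_lit 4),
  Rule.mk (nat_lit 1) (nat_lit 148) (Steps.bwd (nat_lit 4) (Steps.bwd (nat_lit 14) (Steps.bwd (nat_lit 12) (Steps.fwd (nat_lit 20480) (Steps.fwd (nat_lit 49152) (Steps.fwd (nat_lit 57344) (Steps.bwd (nat_lit 5) (Steps.bwd (nat_lit 3) (Steps.fwd (nat_lit 8192) Steps.nil))))))))) (nat_lit 53) (nat_lit 9),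
  Rule.mk (nat_lit 12) (nat_lit 118) (Steps.bwd (nat_lit 10) (Steps.fwd (nat_lit 28672) (Steps.fwd (nat_lit 53248) (Steps.bwd (nat_lit 12) (Steps.fwd (nat_lit 36864) (Steps.bwd (nat_lit 8) (Steps.fwd (nat_lit 53248) Steps.nil))))))) (nat_lit 40) (nat_lit 3),
  Rule.mk (nat_lit 13) (nat_lit 88) (Steps.fwd (nat_lit 24576) (Steps.fwd (nat_lit 40960) (Steps.fwd (nat_lit 20480) (Steps.fwd (nat_lit 53248) (Steps.bwd (nat_lit 12) Steps.nil))))) (nat_lit 24) (nat_lit 5),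
  Rule.mk (nat_lit 14) (nat_lit 103) (Steps.fwd (nat_lit 20480) (Steps.fwd (nat_lit 28672) (Steps.bwd (nat_lit 10) (Steps.bwd (nat_lit 4) (Steps.fwd (nat_lit 8192) (Steps.bwd (nat_lit 12) Steps.nil)))))) (nat_lit 31) (nat_lit 1),
  Rule.mk (nat_lit 5) (nat_lit 118) (Steps.fwd (nat_lit 16384) (Steps.bwd (nat_lit 2) (Steps.bwd (nat_lit 2) (Steps.bwd (nat_lit 7) (Steps.fwd (nat_lit 40960) (Steps.fwd (nat_lit 53248) (Steps.bwd (nat_lit 12) Steps.nil))))))) (nat_lit 33) (nat_lit 5),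
  Rule.mk (nat_lit 4) (nat_lit 133) (Steps.bwd (nat_lit 7) (Steps.bwd (nat_lit 4) (Steps.fwd (nat_lit 32768) (Steps.fwd (nat_lit 40960) (Steps.bwd (nat_lit 6) (Steps.fwd (nat_lit 49152) (Steps.fwd (nat_lit 57344) (Steps.bwd (nat_lit 12) Steps.nil)))))))) (nat_lit 44) (nat_lit 1),
  Rule.mk (nat_lit 6) (nat_lit 148) (Steps.fwd (nat_lit 49152) (Steps.bwd (nat_lit 13) (Steps.bwd (nat_lit 5) (Steps.bwd (nat_lit 3) (Steps.bwd (nat_lit 1) (Steps.bwd (nat_lit 1) (Steps.bwd (nat_lit 4) (Steps.fwd (nat_lit 53248) (Steps.bwd (nat_lit 12) Steps.nil))))))))) (nat_lit 53) (nat_lit 3),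
  Rule.mk (nat_lit 4) (nat_lit 118) (Steps.bwd (nat_lit 6) (Steps.fwd (nat_lit 49152) (Steps.bwd (nat_lit 13) (Steps.bwd (nat_lit 10) (Steps.fwd (nat_lit 28672) (Steps.fwd (nat_lit 8192) (Steps.bwd (nat_lit 1) Steps.nil))))))) (nat_lit 32) (nat_lit 3),
  Rule.mk (nat_lit 1) (nat_lit 148) (Steps.bwd (nat_lit 4) (Steps.bwd (nat_lit 5) (Steps.fwd (nat_lit 16384) (Steps.fwd (nat_lit 4096) (Steps.bwd (nat_lit 7) (Steps.bwd (nat_lit 9) (Steps.bwd (nat_lit 8) (Steps.fwd (nat_lit 8192) (Steps.bwd (nat_lit 1) Steps.nil))))))))) (nat_lit 46) (nat_lit 4),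
  Rule.mk (nat_lit 10) (nat_lit 118) (Steps.bwd (nat_lit 8) (Steps.fwd (nat_lit 4096) (Steps.fwd (nat_lit 4096) (Steps.fwd (nat_lit 32768) (Steps.bwd (nat_lit 2) (Steps.bwd (nat_lit 5) (Steps.bwd (nat_lit 1) Steps.nil))))))) (nat_lit 42) (nat_lit 3),
  Rule.mk (nat_lit 14) (nat_lit 148) (Steps.fwd (nat_lit 45056) (Steps.fwd (nat_lit 20480) (Steps.fwd (nat_lit 49152) (Steps.bwd (nat_lit 13) (Steps.bwd (nat_lit 5) (Steps.bwd (nat_lit 3) (Steps.bwd (nat_lit 1) (Steps.bwd (nat_lit 1) (Steps.bwd (nat_lit 4) Steps.nil))))))))) (nat_lit 53) (nat_lit 1),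
  Rule.mk (nat_lit 12) (nat_lit 103) (Steps.bwd (nat_lit 14) (Steps.fwd (nat_lit 20480) (Steps.fwd (nat_lit 28672) (Steps.fwd (nat_lit 36864) (Steps.bwd (nat_lit 4) (Steps.fwd (nat_lit 8192) Steps.nil)))))) (nat_lit 31) (nat_lit 0),
  Rule.mk (nat_lit 10) (nat_lit 118) (Steps.bwd (nat_lit 14) (Steps.fwd (nat_lit 45056) (Steps.bwd (nat_lit 13) (Steps.bwd (nat_lit 10) (Steps.bwd (nat_lit 14) (Steps.fwd (nat_lit 45056) (Steps.bwd (nat_lit 13) Steps.nil))))))) (nat_lit 37) (nat_lit 0),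
  Rule.mk (nat_lit 4) (nat_lit 103) (Steps.fwd (nat_lit 8192) (Steps.bwd (nat_lit 12) (Steps.fwd (nat_lit 53248) (Steps.fwd (nat_lit 20480) (Steps.fwd (nat_lit 28672) (Steps.bwd (nat_lit 10) Steps.nil)))))) (nat_lit 31) (nat_lit 5),
  Rule.mk (nat_lit 2) (nat_lit 148) (Steps.bwd (nat_lit 4) (Steps.fwd (nat_lit 20480) (Steps.fwd (nat_lit 53248) (Steps.bwd (nat_lit 12) (Steps.fwd (nat_lit 24576) (Steps.bwd (nat_lit 11) (Steps.bwd (nat_lit 13) (Steps.fwd (nat_lit 16384) (Steps.bwd (nat_lit 2) Steps.nil))))))))) (nat_lit 52) (nat_lit 3),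
  Rule.mk (nat_lit 5) (nat_lit 118) (Steps.bwd (nat_lit 4) (Steps.fwd (nat_lit 20480) (Steps.bwd (nat_lit 12) (Steps.bwd (nat_lit 5) (Steps.bwd (nat_lit 4) (Steps.fwd (nat_lit 20480) (Steps.bwd (nat_lit 12) Steps.nil))))))) (nat_lit 35) (nat_lit 3)]
noncomputable def R_70 : List (Rule) := [Rule.mk (nat_lit 1) (nat_lit 343) (Steps.bwd (nat_lit 1) (Steps.bwd (nat_lit 1) (Steps.bwd (nat_lit 1) (Steps.bwd (nat_lit 1) (Steps.bwd (nat_lit 1) (Steps.fwd (nat_lit 8192) (Steps.fwd (nat_lit 8192) (Steps.fwd (nat_lit 8192) (Steps.fwd (nat_lit 8192) (Steps.bwd (nat_lit 1) (Steps.fwd (nat_lit 8192) (Steps.bwd (nat_lit 1) (Steps.bwd (nat_lit 1) (Steps.bwd (nat_lit 1) (Steps.bwd (nat_lit 1) (Steps.bwd (nat_lit 1) (Steps.fwd (nat_lit 8192) (Steps.fwd (nat_lit 8192) (Steps.fwd (nat_lit 8192) (Steps.bwd (nat_lit 1) (Steps.fwd (nat_lit 8192) (Steps.fwd (nat_lit 8192) Steps.nil)))))))))))))))))))))) (nat_lit 54) (nat_lit 0),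
  Rule.mk (nat_lit 0) (nat_lit 88) (Steps.fwd (nat_lit 4096) (Steps.fwd (nat_lit 4096) (Steps.bwd (nat_lit 6) (Steps.fwd (nat_lit 12288) (Steps.fwd (nat_lit 32768) Steps.nil))))) (nat_lit 14) (nat_lit 2),
  Rule.mk (nat_lit 10) (nat_lit 118) (Steps.fwd (nat_lit 28672) (Steps.bwd (nat_lit 2) (Steps.bwd (nat_lit 2) (Steps.bwd (nat_lit 7) (Steps.bwd (nat_lit 2) (Steps.fwd (nat_lit 24576) (Steps.bwd (nat_lit 1) Steps.nil))))))) (nat_lit 42) (nat_lit 3),
  Rule.mk (nat_lit 12) (nat_lit 88) (Steps.bwd (nat_lit 10) (Steps.fwd (nat_lit 49152) (Steps.bwd (nat_lit 14) (Steps.bwd (nat_lit 11) (Steps.fwd (nat_lit 57344) Steps.nil))))) (nat_lit 27) (nat_lit 3),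
  Rule.mk (nat_lit 14) (nat_lit 118) (Steps.bwd (nat_lit 10) (Steps.fwd (nat_lit 28672) (Steps.bwd (nat_lit 9) (Steps.fwd (nat_lit 53248) (Steps.fwd (nat_lit 36864) (Steps.fwd (nat_lit 28672) (Steps.bwd (nat_lit 9) Steps.nil))))))) (nat_lit 39) (nat_lit 0),
  Rule.mk (nat_lit 5) (nat_lit 118) (Steps.fwd (nat_lit 16384) (Steps.bwd (nat_lit 2) (Steps.fwd (nat_lit 4096) (Steps.bwd (nat_lit 7) (Steps.bwd (nat_lit 9) (Steps.bwd (nat_lit 14) (Steps.bwd (nat_lit 12) Steps.nil))))))) (nat_lit 33) (nat_lit 5),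
  Rule.mk (nat_lit 4) (nat_lit 103) (Steps.bwd (nat_lit 2) (Steps.bwd (nat_lit 2) (Steps.fwd (nat_lit 4096) (Steps.bwd (nat_lit 4) (Steps.fwd (nat_lit 32768) (Steps.fwd (nat_lit 8192) Steps.nil)))))) (nat_lit 28) (nat_lit 1),
  Rule.mk (nat_lit 6) (nat_lit 118) (Steps.fwd (nat_lit 49152) (Steps.bwd (nat_lit 13) (Steps.fwd (nat_lit 36864) (Steps.bwd (nat_lit 8) (Steps.fwd (nat_lit 8192) (Steps.fwd (nat_lit 8192) (Steps.bwd (nat_lit 4) Steps.nil))))))) (nat_lit 32) (nat_lit 4),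
  Rule.mk (nat_lit 7) (nat_lit 133) (Steps.bwd (nat_lit 4) (Steps.bwd (nat_lit 7) (Steps.fwd (nat_lit 40960) (Steps.bwd (nat_lit 6) (Steps.fwd (nat_lit 49152) (Steps.bwd (nat_lit 13) (Steps.bwd (nat_lit 12) (Steps.bwd (nat_lit 4) Steps.nil)))))))) (nat_lit 44) (nat_lit 2),
  Rule.mk (nat_lit 5) (nat_lit 148) (Steps.bwd (nat_lit 3) (Steps.fwd (nat_lit 4096) (Steps.fwd (nat_lit 32768) (Steps.bwd (nat_lit 9) (Steps.bwd (nat_lit 8) (Steps.fwd (nat_lit 8192) (Steps.fwd (nat_lit 8192) (Steps.fwd (nat_lit 8192) (Steps.bwd (nat_lit 4) Steps.nil))))))))) (nat_lit 46) (nat_lit 6),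
  Rule.mk (nat_lit 6) (nat_lit 118) (Steps.bwd (nat_lit 11) (Steps.fwd (nat_lit 57344) (Steps.fwd (nat_lit 36864) (Steps.fwd (nat_lit 28672) (Steps.fwd (nat_lit 8192) (Steps.fwd (nat_lit 8192) (Steps.bwd (nat_lit 4) Steps.nil))))))) (nat_lit 32) (nat_lit 4),
  Rule.mk (nat_lit 1) (nat_lit 118) (Steps.fwd (nat_lit 28672) (Steps.bwd (nat_lit 1) (Steps.bwd (nat_lit 1) (Steps.fwd (nat_lit 32768) (Steps.fwd (nat_lit 40960) (Steps.bwd (nat_lit 2) (Steps.bwd (nat_lit 6) Steps.nil))))))) (nat_lit 43) (nat_lit 1),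
  Rule.mk (nat_lit 3) (nat_lit 148) (Steps.fwd (nat_lit 4096) (Steps.bwd (nat_lit 2) (Steps.fwd (nat_lit 4096) (Steps.bwd (nat_lit 7) (Steps.fwd (nat_lit 36864) (Steps.fwd (nat_lit 28672) (Steps.fwd (nat_lit 8192) (Steps.bwd (nat_lit 4) (Steps.bwd (nat_lit 6) Steps.nil))))))))) (nat_lit 47) (nat_lit 6),
  Rule.mk (nat_lit 1) (nat_lit 88) (Steps.bwd (nat_lit 3) (Steps.fwd (nat_lit 4096) (Steps.bwd (nat_lit 10) (Steps.bwd (nat_lit 8) (Steps.fwd (nat_lit 40960) Steps.nil))))) (nat_lit 20) (nat_lit 1),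
  Rule.mk (nat_lit 1) (nat_lit 343) (Steps.bwd (nat_lit 1) (Steps.bwd (nat_lit 1) (Steps.bwd (nat_lit 1) (Steps.bwd (nat_lit 1) (Steps.bwd (nat_lit 1) (Steps.bwd (nat_lit 1) (Steps.bwd (nat_lit 1) (Steps.bwd (nat_lit 1) (Steps.fwd (nat_lit 8192) (Steps.bwd (nat_lit 1) (Steps.fwd (nat_lit 8192) (Steps.fwd (nat_lit 8192) (Steps.bwd (nat_lit 1) (Steps.bwd (nat_lit 1) (Steps.fwd (nat_lit 8192) (Steps.fwd (nat_lit 8192) (Steps.bwd (nat_lit 1) (Steps.fwd (nat_lit 8192) (Steps.fwd (nat_lit 8192) (Steps.fwd (nat_lit 8192) (Steps.fwd (nat_lit 8192) (Steps.fwd (nat_lit 8192) Steps.nil)))))))))))))))))))))) (nat_lit 54) (nat_lit 0),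
  Rule.mk (nat_lit 0) (nat_lit 88) (Steps.fwd (nat_lit 4096) (Steps.fwd (nat_lit 4096) (Steps.bwd (nat_lit 6) (Steps.bwd (nat_lit 4) (Steps.fwd (nat_lit 32768) Steps.nil))))) (nat_lit 14) (nat_lit 2),
  Rule.mk (nat_lit 4) (nat_lit 88) (Steps.fwd (nat_lit 4096) (Steps.fwd (nat_lit 36864) (Steps.fwd (nat_lit 32768) (Steps.fwd (nat_lit 40960) (Steps.bwd (nat_lit 1) Steps.nil))))) (nat_lit 21) (nat_lit 5),
  Rule.mk (nat_lit 12) (nat_lit 88) (Steps.fwd (nat_lit 36864) (Steps.fwd (nat_lit 49152) (Steps.bwd (nat_lit 14) (Steps.bwd (nat_lit 11) (Steps.bwd (nat_lit 13) Steps.nil))))) (nat_lit 27) (nat_lit 3),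
  Rule.mk (nat_lit 10) (nat_lit 118) (Steps.fwd (nat_lit 28672) (Steps.fwd (nat_lit 8192) (Steps.fwd (nat_lit 8192) (Steps.bwd (nat_lit 4) (Steps.bwd (nat_lit 6) (Steps.bwd (nat_lit 11) (Steps.bwd (nat_lit 13) Steps.nil))))))) (nat_lit 32) (nat_lit 7),
  Rule.mk (nat_lit 4) (nat_lit 88) (Steps.bwd (nat_lit 2) (Steps.bwd (nat_lit 10) (Steps.fwd (nat_lit 32768) (Steps.bwd (nat_lit 9) (Steps.bwd (nat_lit 1) Steps.nil))))) (nat_lit 21) (nat_lit 5),
  Rule.mk (nat_lit 8) (nat_lit 118) (Steps.bwd (nat_lit 2) (Steps.fwd (nat_lit 4096) (Steps.bwd (nat_lit 7) (Steps.bwd (nat_lit 2) (Steps.bwd (nat_lit 5) (Steps.fwd (nat_lit 8192) (Steps.fwd (nat_lit 36864) Steps.nil))))))) (nat_lit 42) (nat_lit 4),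
  Rule.mk (nat_lit 9) (nat_lit 118) (Steps.bwd (nat_lit 2) (Steps.fwd (nat_lit 20480) (Steps.bwd (nat_lit 1) (Steps.bwd (nat_lit 8) (Steps.fwd (nat_lit 8192) (Steps.bwd (nat_lit 1) (Steps.fwd (nat_lit 32768) Steps.nil))))))) (nat_lit 43) (nat_lit 6),
  Rule.mk (nat_lit 14) (nat_lit 118) (Steps.fwd (nat_lit 49152) (Steps.bwd (nat_lit 13) (Steps.bwd (nat_lit 9) (Steps.fwd (nat_lit 53248) (Steps.bwd (nat_lit 11) (Steps.bwd (nat_lit 13) (Steps.bwd (nat_lit 9) Steps.nil))))))) (nat_lit 36) (nat_lit 2),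
  Rule.mk (nat_lit 13) (nat_lit 118) (Steps.fwd (nat_lit 36864) (Steps.bwd (nat_lit 7) (Steps.fwd (nat_lit 40960) (Steps.bwd (nat_lit 13) (Steps.fwd (nat_lit 36864) (Steps.fwd (nat_lit 32768) (Steps.bwd (nat_lit 9) Steps.nil))))))) (nat_lit 38) (nat_lit 1),
  Rule.mk (nat_lit 11) (nat_lit 118) (Steps.bwd (nat_lit 13) (Steps.bwd (nat_lit 7) (Steps.fwd (nat_lit 40960) (Steps.bwd (nat_lit 11) (Steps.fwd (nat_lit 57344) (Steps.fwd (nat_lit 32768) (Steps.bwd (nat_lit 9) Steps.nil))))))) (nat_lit 41) (nat_lit 2),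
  Rule.mk (nat_lit 6) (nat_lit 118) (Steps.bwd (nat_lit 11) (Steps.fwd (nat_lit 24576) (Steps.fwd (nat_lit 16384) (Steps.bwd (nat_lit 6) (Steps.fwd (nat_lit 49152) (Steps.bwd (nat_lit 5) (Steps.bwd (nat_lit 3) Steps.nil))))))) (nat_lit 34) (nat_lit 2),
  Rule.mk (nat_lit 9) (nat_lit 103) (Steps.bwd (nat_lit 7) (Steps.bwd (nat_lit 5) (Steps.bwd (nat_lit 13) (Steps.bwd (nat_lit 11) (Steps.bwd (nat_lit 2) (Steps.bwd (nat_lit 3) Steps.nil)))))) (nat_lit 30) (nat_lit 4),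
  Rule.mk (nat_lit 8) (nat_lit 88) (Steps.bwd (nat_lit 9) (Steps.bwd (nat_lit 1) (Steps.fwd (nat_lit 16384) (Steps.bwd (nat_lit 2) (Steps.fwd (nat_lit 36864) Steps.nil))))) (nat_lit 20) (nat_lit 5),
  Rule.mk (nat_lit 13) (nat_lit 118) (Steps.bwd (nat_lit 9) (Steps.fwd (nat_lit 53248) (Steps.fwd (nat_lit 49152) (Steps.fwd (nat_lit 57344) (Steps.fwd (nat_lit 40960) (Steps.fwd (nat_lit 53248) (Steps.bwd (nat_lit 11) Steps.nil))))))) (nat_lit 36) (nat_lit 0),
  Rule.mk (nat_lit 2) (nat_lit 103) (Steps.fwd (nat_lit 16384) (Steps.fwd (nat_lit 40960) (Steps.fwd (nat_lit 32768) (Steps.fwd (nat_lit 24576) (Steps.bwd (nat_lit 13) (Steps.bwd (nat_lit 11) Steps.nil)))))) (nat_lit 30) (nat_lit 2),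
  Rule.mk (nat_lit 4) (nat_lit 103) (Steps.bwd (nat_lit 2) (Steps.fwd (nat_lit 4096) (Steps.bwd (nat_lit 2) (Steps.bwd (nat_lit 4) (Steps.fwd (nat_lit 32768) (Steps.bwd (nat_lit 1) Steps.nil)))))) (nat_lit 28) (nat_lit 1),
  Rule.mk (nat_lit 9) (nat_lit 118) (Steps.bwd (nat_lit 2) (Steps.bwd (nat_lit 6) (Steps.fwd (nat_lit 8192) (Steps.bwd (nat_lit 8) (Steps.bwd (nat_lit 1) (Steps.fwd (nat_lit 8192) (Steps.fwd (nat_lit 32768) Steps.nil))))))) (nat_lit 43) (nat_lit 6),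
  Rule.mk (nat_lit 10) (nat_lit 103) (Steps.bwd (nat_lit 4) (Steps.fwd (nat_lit 8192) (Steps.bwd (nat_lit 12) (Steps.fwd (nat_lit 53248) (Steps.fwd (nat_lit 20480) (Steps.bwd (nat_lit 8) Steps.nil)))))) (nat_lit 31) (nat_lit 4),
  Rule.mk (nat_lit 14) (nat_lit 118) (Steps.bwd (nat_lit 12) (Steps.bwd (nat_lit 10) (Steps.fwd (nat_lit 28672) (Steps.fwd (nat_lit 53248) (Steps.fwd (nat_lit 45056) (Steps.fwd (nat_lit 36864) (Steps.bwd (nat_lit 8) Steps.nil))))))) (nat_lit 40) (nat_lit 2),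
  Rule.mk (nat_lit 1) (nat_lit 118) (Steps.bwd (nat_lit 1) (Steps.bwd (nat_lit 7) (Steps.fwd (nat_lit 40960) (Steps.bwd (nat_lit 2) (Steps.fwd (nat_lit 20480) (Steps.fwd (nat_lit 8192) (Steps.bwd (nat_lit 8) Steps.nil))))))) (nat_lit 43) (nat_lit 3),
  Rule.mk (nat_lit 6) (nat_lit 88) (Steps.bwd (nat_lit 1) (Steps.bwd (nat_lit 7) (Steps.fwd (nat_lit 8192) (Steps.fwd (nat_lit 12288) (Steps.bwd (nat_lit 10) Steps.nil))))) (nat_lit 22) (nat_lit 5),
  Rule.mk (nat_lit 3) (nat_lit 103) (Steps.bwd (nat_lit 1) (Steps.bwd (nat_lit 1) (Steps.fwd (nat_lit 8192) (Steps.fwd (nat_lit 16384) (Steps.fwd (nat_lit 4096) (Steps.fwd (nat_lit 28672) Steps.nil)))))) (nat_lit 29) (nat_lit 3),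
  Rule.mk (nat_lit 5) (nat_lit 118) (Steps.bwd (nat_lit 1) (Steps.bwd (nat_lit 10) (Steps.bwd (nat_lit 8) (Steps.fwd (nat_lit 4096) (Steps.bwd (nat_lit 2) (Steps.fwd (nat_lit 32768) (Steps.bwd (nat_lit 2) Steps.nil))))))) (nat_lit 42) (nat_lit 1),
  Rule.mk (nat_lit 12) (nat_lit 103) (Steps.bwd (nat_lit 14) (Steps.fwd (nat_lit 20480) (Steps.fwd (nat_lit 28672) (Steps.fwd (nat_lit 36864) (Steps.fwd (nat_lit 12288) (Steps.bwd (nat_lit 1) Steps.nil)))))) (nat_lit 31) (nat_lit 0),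
  Rule.mk (nat_lit 12) (nat_lit 103) (Steps.fwd (nat_lit 53248) (Steps.bwd (nat_lit 6) (Steps.bwd (nat_lit 8) (Steps.fwd (nat_lit 36864) (Steps.bwd (nat_lit 4) (Steps.bwd (nat_lit 1) Steps.nil)))))) (nat_lit 31) (nat_lit 0),
  Rule.mk (nat_lit 10) (nat_lit 118) (Steps.bwd (nat_lit 8) (Steps.fwd (nat_lit 4096) (Steps.bwd (nat_lit 2) (Steps.bwd (nat_lit 7) (Steps.fwd (nat_lit 4096) (Steps.bwd (nat_lit 5) (Steps.bwd (nat_lit 1) Steps.nil))))))) (nat_lit 42) (nat_lit 3),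
  Rule.mk (nat_lit 13) (nat_lit 118) (Steps.bwd (nat_lit 10) (Steps.bwd (nat_lit 8) (Steps.bwd (nat_lit 1) (Steps.bwd (nat_lit 1) (Steps.fwd (nat_lit 12288) (Steps.bwd (nat_lit 6) (Steps.bwd (nat_lit 11) Steps.nil))))))) (nat_lit 32) (nat_lit 6),
  Rule.mk (nat_lit 14) (nat_lit 118) (Steps.bwd (nat_lit 10) (Steps.bwd (nat_lit 8) (Steps.fwd (nat_lit 40960) (Steps.bwd (nat_lit 14) (Steps.fwd (nat_lit 36864) (Steps.bwd (nat_lit 8) (Steps.bwd (nat_lit 9) Steps.nil))))))) (nat_lit 39) (nat_lit 0),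
  Rule.mk (nat_lit 11) (nat_lit 103) (Steps.fwd (nat_lit 4096) (Steps.fwd (nat_lit 16384) (Steps.bwd (nat_lit 9) (Steps.bwd (nat_lit 7) (Steps.bwd (nat_lit 5) (Steps.bwd (nat_lit 13) Steps.nil)))))) (nat_lit 30) (nat_lit 1),
  Rule.mk (nat_lit 7) (nat_lit 103) (Steps.fwd (nat_lit 24576) (Steps.bwd (nat_lit 13) (Steps.fwd (nat_lit 49152) (Steps.bwd (nat_lit 2) (Steps.bwd (nat_lit 3) (Steps.bwd (nat_lit 9) Steps.nil)))))) (nat_lit 30) (nat_lit 5),
  Rule.mk (nat_lit 14) (nat_lit 118) (Steps.fwd (nat_lit 45056) (Steps.bwd (nat_lit 5) (Steps.bwd (nat_lit 3) (Steps.fwd (nat_lit 4096) (Steps.fwd (nat_lit 4096) (Steps.bwd (nat_lit 7) (Steps.bwd (nat_lit 9) Steps.nil))))))) (nat_lit 33) (nat_lit 3),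
  Rule.mk (nat_lit 13) (nat_lit 118) (Steps.bwd (nat_lit 7) (Steps.fwd (nat_lit 40960) (Steps.fwd (nat_lit 49152) (Steps.bwd (nat_lit 13) (Steps.bwd (nat_lit 7) (Steps.bwd (nat_lit 9) (Steps.bwd (nat_lit 11) Steps.nil))))))) (nat_lit 41) (nat_lit 3),
  Rule.mk (nat_lit 8) (nat_lit 148) (Steps.bwd (nat_lit 1) (Steps.fwd (nat_lit 8192) (Steps.fwd (nat_lit 8192) (Steps.bwd (nat_lit 4) (Steps.fwd (nat_lit 24576) (Steps.fwd (nat_lit 16384) (Steps.fwd (nat_lit 4096) (Steps.bwd (nat_lit 7) (Steps.bwd (nat_lit 9) Steps.nil))))))))) (nat_lit 46) (nat_lit 1),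
  Rule.mk (nat_lit 3) (nat_lit 73) (Steps.bwd (nat_lit 13) (Steps.fwd (nat_lit 24576) (Steps.fwd (nat_lit 45056) (Steps.fwd (nat_lit 32768) Steps.nil)))) (nat_lit 17) (nat_lit 0),
  Rule.mk (nat_lit 9) (nat_lit 88) (Steps.bwd (nat_lit 6) (Steps.fwd (nat_lit 53248) (Steps.fwd (nat_lit 45056) (Steps.fwd (nat_lit 57344) (Steps.bwd (nat_lit 5) Steps.nil))))) (nat_lit 24) (nat_lit 1),
  Rule.mk (nat_lit 6) (nat_lit 118) (Steps.bwd (nat_lit 11) (Steps.bwd (nat_lit 5) (Steps.fwd (nat_lit 16384) (Steps.bwd (nat_lit 6) (Steps.fwd (nat_lit 49152) (Steps.fwd (nat_lit 24576) (Steps.fwd (nat_lit 16384) Steps.nil))))))) (nat_lit 34) (nat_lit 2),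
  Rule.mk (nat_lit 3) (nat_lit 148) (Steps.bwd (nat_lit 2) (Steps.bwd (nat_lit 2) (Steps.fwd (nat_lit 4096) (Steps.bwd (nat_lit 7) (Steps.bwd (nat_lit 10) (Steps.fwd (nat_lit 28672) (Steps.fwd (nat_lit 8192) (Steps.fwd (nat_lit 12288) (Steps.bwd (nat_lit 6) Steps.nil))))))))) (nat_lit 47) (nat_lit 6),
  Rule.mk (nat_lit 9) (nat_lit 88) (Steps.bwd (nat_lit 3) (Steps.bwd (nat_lit 2) (Steps.bwd (nat_lit 8) (Steps.fwd (nat_lit 4096) (Steps.bwd (nat_lit 5) Steps.nil))))) (nat_lit 23) (nat_lit 3),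
  Rule.mk (nat_lit 8) (nat_lit 88) (Steps.bwd (nat_lit 9) (Steps.bwd (nat_lit 1) (Steps.bwd (nat_lit 3) (Steps.bwd (nat_lit 2) (Steps.bwd (nat_lit 10) Steps.nil))))) (nat_lit 20) (nat_lit 5),
  Rule.mk (nat_lit 14) (nat_lit 118) (Steps.fwd (nat_lit 45056) (Steps.fwd (nat_lit 57344) (Steps.fwd (nat_lit 36864) (Steps.bwd (nat_lit 14) (Steps.fwd (nat_lit 45056) (Steps.bwd (nat_lit 13) (Steps.bwd (nat_lit 10) Steps.nil))))))) (nat_lit 37) (nat_lit 1),
  Rule.mk (nat_lit 4) (nat_lit 148) (Steps.bwd (nat_lit 5) (Steps.bwd (nat_lit 3) (Steps.fwd (nat_lit 4096) (Steps.fwd (nat_lit 32768) (Steps.bwd (nat_lit 9) (Steps.fwd (nat_lit 28672) (Steps.fwd (nat_lit 8192) (Steps.fwd (nat_lit 8192) (Steps.fwd (nat_lit 8192) Steps.nil))))))))) (nat_lit 46) (nat_lit 5),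
  Rule.mk (nat_lit 10) (nat_lit 88) (Steps.fwd (nat_lit 20480) (Steps.bwd (nat_lit 1) (Steps.fwd (nat_lit 32768) (Steps.fwd (nat_lit 8192) (Steps.bwd (nat_lit 4) Steps.nil))))) (nat_lit 22) (nat_lit 4),
  Rule.mk (nat_lit 1) (nat_lit 103) (Steps.bwd (nat_lit 12) (Steps.fwd (nat_lit 53248) (Steps.fwd (nat_lit 20480) (Steps.bwd (nat_lit 8) (Steps.fwd (nat_lit 36864) (Steps.bwd (nat_lit 4) Steps.nil)))))) (nat_lit 31) (nat_lit 6),
  Rule.mk (nat_lit 6) (nat_lit 118) (Steps.bwd (nat_lit 11) (Steps.bwd (nat_lit 13) (Steps.fwd (nat_lit 36864) (Steps.bwd (nat_lit 8) (Steps.fwd (nat_lit 8192) (Steps.fwd (nat_lit 8192) (Steps.bwd (nat_lit 4) Steps.nil))))))) (nat_lit 32) (nat_lit 4),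
  Rule.mk (nat_lit 13) (nat_lit 148) (Steps.bwd (nat_lit 12) (Steps.bwd (nat_lit 13) (Steps.bwd (nat_lit 12) (Steps.fwd (nat_lit 57344) (Steps.fwd (nat_lit 45056) (Steps.fwd (nat_lit 57344) (Steps.bwd (nat_lit 12) (Steps.bwd (nat_lit 13) (Steps.fwd (nat_lit 45056) Steps.nil))))))))) (nat_lit 50) (nat_lit 0),
  Rule.mk (nat_lit 7) (nat_lit 118) (Steps.bwd (nat_lit 9) (Steps.fwd (nat_lit 49152) (Steps.bwd (nat_lit 13) (Steps.fwd (nat_lit 32768) (Steps.fwd (nat_lit 40960) (Steps.bwd (nat_lit 11) (Steps.bwd (nat_lit 13) Steps.nil))))))) (nat_lit 41) (nat_lit 0),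
  Rule.mk (nat_lit 2) (nat_lit 118) (Steps.bwd (nat_lit 7) (Steps.bwd (nat_lit 9) (Steps.fwd (nat_lit 53248) (Steps.fwd (nat_lit 45056) (Steps.fwd (nat_lit 24576) (Steps.fwd (nat_lit 16384) (Steps.fwd (nat_lit 4096) Steps.nil))))))) (nat_lit 33) (nat_lit 0),
  Rule.mk (nat_lit 4) (nat_lit 103) (Steps.fwd (nat_lit 32768) (Steps.bwd (nat_lit 1) (Steps.bwd (nat_lit 4) (Steps.fwd (nat_lit 4096) (Steps.fwd (nat_lit 4096) (Steps.bwd (nat_lit 2) Steps.nil)))))) (nat_lit 28) (nat_lit 5),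
  Rule.mk (nat_lit 7) (nat_lit 103) (Steps.bwd (nat_lit 5) (Steps.fwd (nat_lit 57344) (Steps.fwd (nat_lit 49152) (Steps.bwd (nat_lit 2) (Steps.bwd (nat_lit 3) (Steps.fwd (nat_lit 40960) Steps.nil)))))) (nat_lit 30) (nat_lit 5)]
noncomputable def R_71 : List (Rule) := [Rule.mk (nat_lit 1) (nat_lit 103) (Steps.bwd (nat_lit 4) (Steps.fwd (nat_lit 4096) (Steps.bwd (nat_lit 2) (Steps.fwd (nat_lit 4096) (Steps.bwd (nat_lit 4) (Steps.bwd (nat_lit 7) Steps.nil)))))) (nat_lit 28) (nat_lit 0),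
  Rule.mk (nat_lit 4) (nat_lit 133) (Steps.bwd (nat_lit 7) (Steps.bwd (nat_lit 9) (Steps.fwd (nat_lit 20480) (Steps.bwd (nat_lit 11) (Steps.fwd (nat_lit 57344) (Steps.fwd (nat_lit 45056) (Steps.bwd (nat_lit 4) (Steps.bwd (nat_lit 7) Steps.nil)))))))) (nat_lit 44) (nat_lit 3),
  Rule.mk (nat_lit 10) (nat_lit 148) (Steps.fwd (nat_lit 28672) (Steps.fwd (nat_lit 8192) (Steps.fwd (nat_lit 12288) (Steps.bwd (nat_lit 6) (Steps.fwd (nat_lit 16384) (Steps.bwd (nat_lit 2) (Steps.fwd (nat_lit 4096) (Steps.fwd (nat_lit 4096) (Steps.bwd (nat_lit 7) Steps.nil))))))))) (nat_lit 47) (nat_lit 1),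
  Rule.mk (nat_lit 13) (nat_lit 118) (Steps.bwd (nat_lit 10) (Steps.fwd (nat_lit 28672) (Steps.fwd (nat_lit 8192) (Steps.fwd (nat_lit 8192) (Steps.bwd (nat_lit 4) (Steps.bwd (nat_lit 6) (Steps.bwd (nat_lit 11) Steps.nil))))))) (nat_lit 32) (nat_lit 6),
  Rule.mk (nat_lit 6) (nat_lit 118) (Steps.bwd (nat_lit 11) (Steps.fwd (nat_lit 24576) (Steps.fwd (nat_lit 16384) (Steps.fwd (nat_lit 20480) (Steps.bwd (nat_lit 11) (Steps.bwd (nat_lit 5) (Steps.bwd (nat_lit 3) Steps.nil))))))) (nat_lit 34) (nat_lit 2),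
  Rule.mk (nat_lit 9) (nat_lit 148) (Steps.bwd (nat_lit 8) (Steps.fwd (nat_lit 8192) (Steps.bwd (nat_lit 1) (Steps.fwd (nat_lit 8192) (Steps.bwd (nat_lit 4) (Steps.bwd (nat_lit 5) (Steps.fwd (nat_lit 16384) (Steps.fwd (nat_lit 4096) (Steps.bwd (nat_lit 7) Steps.nil))))))))) (nat_lit 46) (nat_lit 0),
  Rule.mk (nat_lit 13) (nat_lit 118) (Steps.fwd (nat_lit 36864) (Steps.bwd (nat_lit 7) (Steps.bwd (nat_lit 9) (Steps.fwd (nat_lit 57344) (Steps.fwd (nat_lit 36864) (Steps.bwd (nat_lit 7) (Steps.bwd (nat_lit 9) Steps.nil))))))) (nat_lit 38) (nat_lit 1),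
  Rule.mk (nat_lit 7) (nat_lit 118) (Steps.bwd (nat_lit 9) (Steps.fwd (nat_lit 57344) (Steps.bwd (nat_lit 10) (Steps.fwd (nat_lit 32768) (Steps.bwd (nat_lit 9) (Steps.bwd (nat_lit 13) (Steps.fwd (nat_lit 36864) Steps.nil))))))) (nat_lit 38) (nat_lit 3),
  Rule.mk (nat_lit 4) (nat_lit 133) (Steps.bwd (nat_lit 7) (Steps.fwd (nat_lit 40960) (Steps.fwd (nat_lit 20480) (Steps.fwd (nat_lit 49152) (Steps.bwd (nat_lit 13) (Steps.fwd (nat_lit 45056) (Steps.bwd (nat_lit 4) (Steps.bwd (nat_lit 7) Steps.nil)))))))) (nat_lit 44) (nat_lit 3),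
  Rule.mk (nat_lit 10) (nat_lit 148) (Steps.bwd (nat_lit 7) (Steps.fwd (nat_lit 36864) (Steps.fwd (nat_lit 32768) (Steps.bwd (nat_lit 10) (Steps.bwd (nat_lit 7) (Steps.bwd (nat_lit 10) (Steps.bwd (nat_lit 7) (Steps.fwd (nat_lit 36864) (Steps.bwd (nat_lit 7) Steps.nil))))))))) (nat_lit 49) (nat_lit 1),
  Rule.mk (nat_lit 13) (nat_lit 118) (Steps.bwd (nat_lit 10) (Steps.bwd (nat_lit 8) (Steps.fwd (nat_lit 8192) (Steps.bwd (nat_lit 1) (Steps.fwd (nat_lit 12288) (Steps.bwd (nat_lit 6) (Steps.fwd (nat_lit 49152) Steps.nil))))))) (nat_lit 32) (nat_lit 6),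
  Rule.mk (nat_lit 12) (nat_lit 118) (Steps.bwd (nat_lit 10) (Steps.bwd (nat_lit 8) (Steps.bwd (nat_lit 14) (Steps.fwd (nat_lit 45056) (Steps.fwd (nat_lit 36864) (Steps.bwd (nat_lit 8) (Steps.bwd (nat_lit 14) Steps.nil))))))) (nat_lit 40) (nat_lit 3),
  Rule.mk (nat_lit 14) (nat_lit 103) (Steps.fwd (nat_lit 20480) (Steps.bwd (nat_lit 8) (Steps.fwd (nat_lit 36864) (Steps.bwd (nat_lit 4) (Steps.fwd (nat_lit 8192) (Steps.bwd (nat_lit 12) Steps.nil)))))) (nat_lit 31) (nat_lit 1),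
  Rule.mk (nat_lit 6) (nat_lit 148) (Steps.bwd (nat_lit 11) (Steps.bwd (nat_lit 13) (Steps.fwd (nat_lit 24576) (Steps.bwd (nat_lit 3) (Steps.fwd (nat_lit 8192) (Steps.fwd (nat_lit 8192) (Steps.fwd (nat_lit 12288) (Steps.bwd (nat_lit 14) (Steps.bwd (nat_lit 12) Steps.nil))))))))) (nat_lit 53) (nat_lit 3),
  Rule.mk (nat_lit 4) (nat_lit 118) (Steps.bwd (nat_lit 6) (Steps.fwd (nat_lit 45056) (Steps.fwd (nat_lit 24576) (Steps.fwd (nat_lit 12288) (Steps.bwd (nat_lit 6) (Steps.fwd (nat_lit 45056) (Steps.fwd (nat_lit 24576) Steps.nil))))))) (nat_lit 35) (nat_lit 0),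
  Rule.mk (nat_lit 0) (nat_lit 88) (Steps.fwd (nat_lit 28672) (Steps.fwd (nat_lit 16384) (Steps.bwd (nat_lit 5) (Steps.fwd (nat_lit 8192) (Steps.fwd (nat_lit 8192) Steps.nil))))) (nat_lit 15) (nat_lit 3),
  Rule.mk (nat_lit 1) (nat_lit 88) (Steps.fwd (nat_lit 12288) (Steps.bwd (nat_lit 2) (Steps.bwd (nat_lit 10) (Steps.bwd (nat_lit 7) (Steps.fwd (nat_lit 40960) Steps.nil))))) (nat_lit 21) (nat_lit 4),
  Rule.mk (nat_lit 13) (nat_lit 118) (Steps.fwd (nat_lit 36864) (Steps.fwd (nat_lit 32768) (Steps.bwd (nat_lit 9) (Steps.fwd (nat_lit 57344) (Steps.bwd (nat_lit 10) (Steps.bwd (nat_lit 7) (Steps.fwd (nat_lit 40960) Steps.nil))))))) (nat_lit 38) (nat_lit 1),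
  Rule.mk (nat_lit 11) (nat_lit 88) (Steps.bwd (nat_lit 13) (Steps.fwd (nat_lit 24576) (Steps.bwd (nat_lit 10) (Steps.bwd (nat_lit 6) (Steps.bwd (nat_lit 14) Steps.nil))))) (nat_lit 25) (nat_lit 3),
  Rule.mk (nat_lit 2) (nat_lit 103) (Steps.fwd (nat_lit 16384) (Steps.fwd (nat_lit 40960) (Steps.bwd (nat_lit 7) (Steps.bwd (nat_lit 5) (Steps.bwd (nat_lit 13) (Steps.bwd (nat_lit 11) Steps.nil)))))) (nat_lit 30) (nat_lit 2),
  Rule.mk (nat_lit 11) (nat_lit 103) (Steps.bwd (nat_lit 2) (Steps.bwd (nat_lit 3) (Steps.bwd (nat_lit 9) (Steps.bwd (nat_lit 7) (Steps.fwd (nat_lit 24576) (Steps.bwd (nat_lit 13) Steps.nil)))))) (nat_lit 30) (nat_lit 1),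
  Rule.mk (nat_lit 9) (nat_lit 118) (Steps.bwd (nat_lit 14) (Steps.bwd (nat_lit 11) (Steps.bwd (nat_lit 13) (Steps.fwd (nat_lit 40960) (Steps.fwd (nat_lit 53248) (Steps.fwd (nat_lit 49152) (Steps.bwd (nat_lit 13) Steps.nil))))))) (nat_lit 36) (nat_lit 1),
  Rule.mk (nat_lit 10) (nat_lit 118) (Steps.bwd (nat_lit 14) (Steps.fwd (nat_lit 45056) (Steps.bwd (nat_lit 13) (Steps.fwd (nat_lit 36864) (Steps.fwd (nat_lit 53248) (Steps.fwd (nat_lit 45056) (Steps.bwd (nat_lit 13) Steps.nil))))))) (nat_lit 37) (nat_lit 0),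
  Rule.mk (nat_lit 8) (nat_lit 88) (Steps.bwd (nat_lit 9) (Steps.bwd (nat_lit 1) (Steps.fwd (nat_lit 16384) (Steps.bwd (nat_lit 2) (Steps.bwd (nat_lit 10) Steps.nil))))) (nat_lit 20) (nat_lit 5),
  Rule.mk (nat_lit 13) (nat_lit 118) (Steps.bwd (nat_lit 10) (Steps.fwd (nat_lit 28672) (Steps.fwd (nat_lit 8192) (Steps.fwd (nat_lit 8192) (Steps.bwd (nat_lit 4) (Steps.fwd (nat_lit 20480) (Steps.bwd (nat_lit 11) Steps.nil))))))) (nat_lit 32) (nat_lit 6),
  Rule.mk (nat_lit 9) (nat_lit 88) (Steps.fwd (nat_lit 16384) (Steps.fwd (nat_lit 4096) (Steps.bwd (nat_lit 8) (Steps.bwd (nat_lit 2) (Steps.bwd (nat_lit 5) Steps.nil))))) (nat_lit 23) (nat_lit 3),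
  Rule.mk (nat_lit 13) (nat_lit 103) (Steps.fwd (nat_lit 49152) (Steps.fwd (nat_lit 4096) (Steps.fwd (nat_lit 16384) (Steps.fwd (nat_lit 40960) (Steps.bwd (nat_lit 7) (Steps.bwd (nat_lit 5) Steps.nil)))))) (nat_lit 30) (nat_lit 0),
  Rule.mk (nat_lit 7) (nat_lit 118) (Steps.fwd (nat_lit 40960) (Steps.fwd (nat_lit 49152) (Steps.fwd (nat_lit 57344) (Steps.fwd (nat_lit 32768) (Steps.bwd (nat_lit 9) (Steps.fwd (nat_lit 49152) (Steps.bwd (nat_lit 13) Steps.nil))))))) (nat_lit 41) (nat_lit 0),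
  Rule.mk (nat_lit 12) (nat_lit 118) (Steps.bwd (nat_lit 10) (Steps.bwd (nat_lit 8) (Steps.fwd (nat_lit 53248) (Steps.bwd (nat_lit 12) (Steps.fwd (nat_lit 36864) (Steps.bwd (nat_lit 8) (Steps.fwd (nat_lit 53248) Steps.nil))))))) (nat_lit 40) (nat_lit 3),
  Rule.mk (nat_lit 6) (nat_lit 73) (Steps.fwd (nat_lit 45056) (Steps.fwd (nat_lit 40960) (Steps.bwd (nat_lit 6) (Steps.bwd (nat_lit 12) Steps.nil)))) (nat_lit 19) (nat_lit 4),
  Rule.mk (nat_lit 5) (nat_lit 118) (Steps.bwd (nat_lit 3) (Steps.bwd (nat_lit 2) (Steps.fwd (nat_lit 4096) (Steps.fwd (nat_lit 32768) (Steps.bwd (nat_lit 9) (Steps.fwd (nat_lit 53248) (Steps.bwd (nat_lit 12) Steps.nil))))))) (nat_lit 33) (nat_lit 5),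
  Rule.mk (nat_lit 4) (nat_lit 133) (Steps.bwd (nat_lit 7) (Steps.fwd (nat_lit 12288) (Steps.fwd (nat_lit 32768) (Steps.fwd (nat_lit 40960) (Steps.fwd (nat_lit 20480) (Steps.fwd (nat_lit 49152) (Steps.bwd (nat_lit 13) (Steps.bwd (nat_lit 12) Steps.nil)))))))) (nat_lit 44) (nat_lit 1),
  Rule.mk (nat_lit 1) (nat_lit 88) (Steps.bwd (nat_lit 4) (Steps.bwd (nat_lit 2) (Steps.bwd (nat_lit 10) (Steps.fwd (nat_lit 32768) (Steps.fwd (nat_lit 40960) Steps.nil))))) (nat_lit 21) (nat_lit 4),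
  Rule.mk (nat_lit 7) (nat_lit 133) (Steps.bwd (nat_lit 4) (Steps.bwd (nat_lit 7) (Steps.bwd (nat_lit 9) (Steps.bwd (nat_lit 6) (Steps.fwd (nat_lit 49152) (Steps.bwd (nat_lit 13) (Steps.fwd (nat_lit 45056) (Steps.fwd (nat_lit 12288) Steps.nil)))))))) (nat_lit 44) (nat_lit 2),
  Rule.mk (nat_lit 8) (nat_lit 118) (Steps.bwd (nat_lit 2) (Steps.fwd (nat_lit 4096) (Steps.bwd (nat_lit 7) (Steps.bwd (nat_lit 2) (Steps.fwd (nat_lit 24576) (Steps.fwd (nat_lit 8192) (Steps.fwd (nat_lit 36864) Steps.nil))))))) (nat_lit 42) (nat_lit 4),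
  Rule.mk (nat_lit 11) (nat_lit 88) (Steps.bwd (nat_lit 14) (Steps.fwd (nat_lit 45056) (Steps.fwd (nat_lit 57344) (Steps.bwd (nat_lit 12) (Steps.fwd (nat_lit 40960) Steps.nil))))) (nat_lit 26) (nat_lit 4),
  Rule.mk (nat_lit 4) (nat_lit 133) (Steps.fwd (nat_lit 32768) (Steps.bwd (nat_lit 4) (Steps.fwd (nat_lit 32768) (Steps.fwd (nat_lit 40960) (Steps.bwd (nat_lit 6) (Steps.bwd (nat_lit 11) (Steps.bwd (nat_lit 13) (Steps.bwd (nat_lit 12) Steps.nil)))))))) (nat_lit 44) (nat_lit 1),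
  Rule.mk (nat_lit 1) (nat_lit 118) (Steps.fwd (nat_lit 28672) (Steps.bwd (nat_lit 1) (Steps.fwd (nat_lit 8192) (Steps.bwd (nat_lit 7) (Steps.fwd (nat_lit 40960) (Steps.bwd (nat_lit 2) (Steps.bwd (nat_lit 6) Steps.nil))))))) (nat_lit 43) (nat_lit 1),
  Rule.mk (nat_lit 0) (nat_lit 118) (Steps.fwd (nat_lit 28672) (Steps.fwd (nat_lit 16384) (Steps.bwd (nat_lit 1) (Steps.fwd (nat_lit 8192) (Steps.bwd (nat_lit 1) (Steps.fwd (nat_lit 16384) (Steps.fwd (nat_lit 4096) Steps.nil))))))) (nat_lit 29) (nat_lit 1),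
  Rule.mk (nat_lit 4) (nat_lit 103) (Steps.bwd (nat_lit 1) (Steps.fwd (nat_lit 45056) (Steps.fwd (nat_lit 53248) (Steps.bwd (nat_lit 6) (Steps.bwd (nat_lit 8) (Steps.bwd (nat_lit 10) Steps.nil)))))) (nat_lit 31) (nat_lit 5),
  Rule.mk (nat_lit 12) (nat_lit 148) (Steps.bwd (nat_lit 13) (Steps.bwd (nat_lit 12) (Steps.bwd (nat_lit 13) (Steps.fwd (nat_lit 45056) (Steps.bwd (nat_lit 13) (Steps.bwd (nat_lit 12) (Steps.fwd (nat_lit 57344) (Steps.fwd (nat_lit 45056) (Steps.bwd (nat_lit 13) Steps.nil))))))))) (nat_lit 50) (nat_lit 1),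
  Rule.mk (nat_lit 13) (nat_lit 148) (Steps.bwd (nat_lit 12) (Steps.bwd (nat_lit 13) (Steps.fwd (nat_lit 45056) (Steps.bwd (nat_lit 13) (Steps.fwd (nat_lit 45056) (Steps.bwd (nat_lit 13) (Steps.fwd (nat_lit 45056) (Steps.fwd (nat_lit 57344) (Steps.fwd (nat_lit 45056) Steps.nil))))))))) (nat_lit 50) (nat_lit 0),
  Rule.mk (nat_lit 5) (nat_lit 88) (Steps.fwd (nat_lit 40960) (Steps.bwd (nat_lit 6) (Steps.fwd (nat_lit 53248) (Steps.fwd (nat_lit 45056) (Steps.bwd (nat_lit 13) Steps.nil))))) (nat_lit 24) (nat_lit 0),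
  Rule.mk (nat_lit 11) (nat_lit 103) (Steps.bwd (nat_lit 2) (Steps.fwd (nat_lit 16384) (Steps.fwd (nat_lit 40960) (Steps.fwd (nat_lit 32768) (Steps.fwd (nat_lit 24576) (Steps.bwd (nat_lit 13) Steps.nil)))))) (nat_lit 30) (nat_lit 1),
  Rule.mk (nat_lit 9) (nat_lit 118) (Steps.bwd (nat_lit 14) (Steps.fwd (nat_lit 49152) (Steps.fwd (nat_lit 57344) (Steps.fwd (nat_lit 40960) (Steps.fwd (nat_lit 53248) (Steps.fwd (nat_lit 49152) (Steps.bwd (nat_lit 13) Steps.nil))))))) (nat_lit 36) (nat_lit 1),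
  Rule.mk (nat_lit 7) (nat_lit 118) (Steps.fwd (nat_lit 40960) (Steps.bwd (nat_lit 11) (Steps.fwd (nat_lit 57344) (Steps.fwd (nat_lit 32768) (Steps.fwd (nat_lit 40960) (Steps.fwd (nat_lit 49152) (Steps.bwd (nat_lit 13) Steps.nil))))))) (nat_lit 41) (nat_lit 0),
  Rule.mk (nat_lit 1) (nat_lit 118) (Steps.bwd (nat_lit 7) (Steps.fwd (nat_lit 40960) (Steps.fwd (nat_lit 4096) (Steps.fwd (nat_lit 20480) (Steps.fwd (nat_lit 8192) (Steps.fwd (nat_lit 28672) (Steps.fwd (nat_lit 8192) Steps.nil))))))) (nat_lit 43) (nat_lit 4),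
  Rule.mk (nat_lit 1) (nat_lit 343) (Steps.bwd (nat_lit 1) (Steps.bwd (nat_lit 1) (Steps.bwd (nat_lit 1) (Steps.bwd (nat_lit 1) (Steps.bwd (nat_lit 1) (Steps.bwd (nat_lit 1) (Steps.bwd (nat_lit 1) (Steps.bwd (nat_lit 1) (Steps.bwd (nat_lit 1) (Steps.bwd (nat_lit 1) (Steps.bwd (nat_lit 1) (Steps.bwd (nat_lit 1) (Steps.fwd (nat_lit 8192) (Steps.fwd (nat_lit 8192) (Steps.fwd (nat_lit 8192) (Steps.fwd (nat_lit 8192) (Steps.fwd (nat_lit 8192) (Steps.fwd (nat_lit 8192) (Steps.fwd (nat_lit 8192) (Steps.fwd (nat_lit 8192) (Steps.fwd (nat_lit 8192) (Steps.fwd (nat_lit 8192) Steps.nil)))))))))))))))))))))) (nat_lit 54) (nat_lit 0),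
  Rule.mk (nat_lit 10) (nat_lit 118) (Steps.fwd (nat_lit 28672) (Steps.bwd (nat_lit 2) (Steps.bwd (nat_lit 2) (Steps.fwd (nat_lit 32768) (Steps.fwd (nat_lit 4096) (Steps.bwd (nat_lit 5) (Steps.bwd (nat_lit 1) Steps.nil))))))) (nat_lit 42) (nat_lit 3),
  Rule.mk (nat_lit 5) (nat_lit 118) (Steps.fwd (nat_lit 12288) (Steps.fwd (nat_lit 20480) (Steps.bwd (nat_lit 12) (Steps.fwd (nat_lit 24576) (Steps.fwd (nat_lit 12288) (Steps.bwd (nat_lit 6) (Steps.bwd (nat_lit 12) Steps.nil))))))) (nat_lit 35) (nat_lit 3),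
  Rule.mk (nat_lit 0) (nat_lit 88) (Steps.fwd (nat_lit 4096) (Steps.bwd (nat_lit 2) (Steps.fwd (nat_lit 20480) (Steps.fwd (nat_lit 12288) (Steps.fwd (nat_lit 32768) Steps.nil))))) (nat_lit 14) (nat_lit 2),
  Rule.mk (nat_lit 10) (nat_lit 118) (Steps.bwd (nat_lit 8) (Steps.bwd (nat_lit 2) (Steps.fwd (nat_lit 4096) (Steps.fwd (nat_lit 32768) (Steps.bwd (nat_lit 2) (Steps.fwd (nat_lit 24576) (Steps.fwd (nat_lit 8192) Steps.nil))))))) (nat_lit 42) (nat_lit 3),
  Rule.mk (nat_lit 9) (nat_lit 118) (Steps.bwd (nat_lit 2) (Steps.fwd (nat_lit 20480) (Steps.fwd (nat_lit 8192) (Steps.bwd (nat_lit 8) (Steps.fwd (nat_lit 8192) (Steps.bwd (nat_lit 1) (Steps.fwd (nat_lit 32768) Steps.nil))))))) (nat_lit 43) (nat_lit 6),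
  Rule.mk (nat_lit 5) (nat_lit 103) (Steps.bwd (nat_lit 13) (Steps.bwd (nat_lit 11) (Steps.fwd (nat_lit 4096) (Steps.fwd (nat_lit 16384) (Steps.bwd (nat_lit 9) (Steps.fwd (nat_lit 32768) Steps.nil)))))) (nat_lit 30) (nat_lit 6),
  Rule.mk (nat_lit 14) (nat_lit 118) (Steps.bwd (nat_lit 12) (Steps.fwd (nat_lit 24576) (Steps.fwd (nat_lit 16384) (Steps.fwd (nat_lit 4096) (Steps.bwd (nat_lit 2) (Steps.fwd (nat_lit 32768) (Steps.bwd (nat_lit 9) Steps.nil))))))) (nat_lit 33) (nat_lit 3),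
  Rule.mk (nat_lit 13) (nat_lit 118) (Steps.fwd (nat_lit 36864) (Steps.fwd (nat_lit 32768) (Steps.bwd (nat_lit 9) (Steps.fwd (nat_lit 57344) (Steps.fwd (nat_lit 36864) (Steps.fwd (nat_lit 32768) (Steps.bwd (nat_lit 9) Steps.nil))))))) (nat_lit 38) (nat_lit 1),
  Rule.mk (nat_lit 5) (nat_lit 118) (Steps.bwd (nat_lit 4) (Steps.bwd (nat_lit 6) (Steps.fwd (nat_lit 45056) (Steps.bwd (nat_lit 5) (Steps.bwd (nat_lit 4) (Steps.bwd (nat_lit 6) (Steps.bwd (nat_lit 12) Steps.nil))))))) (nat_lit 35) (nat_lit 3),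
  Rule.mk (nat_lit 6) (nat_lit 118) (Steps.fwd (nat_lit 49152) (Steps.bwd (nat_lit 13) (Steps.fwd (nat_lit 36864) (Steps.bwd (nat_lit 8) (Steps.bwd (nat_lit 1) (Steps.bwd (nat_lit 1) (Steps.bwd (nat_lit 4) Steps.nil))))))) (nat_lit 32) (nat_lit 4),
  Rule.mk (nat_lit 5) (nat_lit 148) (Steps.bwd (nat_lit 3) (Steps.fwd (nat_lit 4096) (Steps.bwd (nat_lit 7) (Steps.bwd (nat_lit 9) (Steps.bwd (nat_lit 8) (Steps.bwd (nat_lit 1) (Steps.bwd (nat_lit 1) (Steps.bwd (nat_lit 1) (Steps.bwd (nat_lit 4) Steps.nil))))))))) (nat_lit 46) (nat_lit 6),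
  Rule.mk (nat_lit 12) (nat_lit 133) (Steps.bwd (nat_lit 5) (Steps.fwd (nat_lit 36864) (Steps.bwd (nat_lit 8) (Steps.fwd (nat_lit 16384) (Steps.fwd (nat_lit 28672) (Steps.fwd (nat_lit 16384) (Steps.fwd (nat_lit 49152) (Steps.bwd (nat_lit 14) Steps.nil)))))))) (nat_lit 45) (nat_lit 3),
  Rule.mk (nat_lit 10) (nat_lit 88) (Steps.fwd (nat_lit 49152) (Steps.bwd (nat_lit 14) (Steps.bwd (nat_lit 11) (Steps.fwd (nat_lit 57344) (Steps.bwd (nat_lit 12) Steps.nil))))) (nat_lit 27) (nat_lit 4),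
  Rule.mk (nat_lit 1) (nat_lit 118) (Steps.bwd (nat_lit 4) (Steps.bwd (nat_lit 6) (Steps.fwd (nat_lit 49152) (Steps.bwd (nat_lit 13) (Steps.bwd (nat_lit 10) (Steps.bwd (nat_lit 8) (Steps.bwd (nat_lit 1) Steps.nil))))))) (nat_lit 32) (nat_lit 2),
  Rule.mk (nat_lit 7) (nat_lit 88) (Steps.fwd (nat_lit 8192) (Steps.bwd (nat_lit 4) (Steps.fwd (nat_lit 36864) (Steps.fwd (nat_lit 20480) (Steps.bwd (nat_lit 1) Steps.nil))))) (nat_lit 22) (nat_lit 1),
  Rule.mk (nat_lit 12) (nat_lit 103) (Steps.fwd (nat_lit 53248) (Steps.bwd (nat_lit 6) (Steps.bwd (nat_lit 8) (Steps.bwd (nat_lit 10) (Steps.bwd (nat_lit 4) (Steps.bwd (nat_lit 1) Steps.nil)))))) (nat_lit 31) (nat_lit 0)]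
noncomputable def R_72 : List (Rule) := [Rule.mk (nat_lit 10) (nat_lit 118) (Steps.fwd (nat_lit 28672) (Steps.bwd (nat_lit 2) (Steps.fwd (nat_lit 4096) (Steps.bwd (nat_lit 7) (Steps.bwd (nat_lit 2) (Steps.fwd (nat_lit 24576) (Steps.bwd (nat_lit 1) Steps.nil))))))) (nat_lit 42) (nat_lit 3),
  Rule.mk (nat_lit 13) (nat_lit 118) (Steps.bwd (nat_lit 10) (Steps.bwd (nat_lit 14) (Steps.bwd (nat_lit 12) (Steps.fwd (nat_lit 57344) (Steps.bwd (nat_lit 10) (Steps.bwd (nat_lit 14) (Steps.bwd (nat_lit 12) Steps.nil))))))) (nat_lit 37) (nat_lit 3),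
  Rule.mk (nat_lit 14) (nat_lit 118) (Steps.bwd (nat_lit 10) (Steps.fwd (nat_lit 28672) (Steps.bwd (nat_lit 9) (Steps.bwd (nat_lit 14) (Steps.bwd (nat_lit 10) (Steps.bwd (nat_lit 8) (Steps.fwd (nat_lit 40960) Steps.nil))))))) (nat_lit 39) (nat_lit 0),
  Rule.mk (nat_lit 1) (nat_lit 343) (Steps.bwd (nat_lit 1) (Steps.bwd (nat_lit 1) (Steps.bwd (nat_lit 1) (Steps.bwd (nat_lit 1) (Steps.bwd (nat_lit 1) (Steps.bwd (nat_lit 1) (Steps.bwd (nat_lit 1) (Steps.bwd (nat_lit 1) (Steps.bwd (nat_lit 1) (Steps.bwd (nat_lit 1) (Steps.bwd (nat_lit 1) (Steps.bwd (nat_lit 1) (Steps.fwd (nat_lit 8192) (Steps.fwd (nat_lit 8192) (Steps.fwd (nat_lit 8192) (Steps.bwd (nat_lit 1) (Steps.bwd (nat_lit 1) (Steps.bwd (nat_lit 1) (Steps.bwd (nat_lit 1) (Steps.fwd (nat_lit 8192) (Steps.bwd (nat_lit 1) (Steps.bwd (nat_lit 1) Steps.nil)))))))))))))))))))))) (nat_lit 54) (nat_lit 0),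
  Rule.mk (nat_lit 3) (nat_lit 88) (Steps.fwd (nat_lit 4096) (Steps.bwd (nat_lit 10) (Steps.bwd (nat_lit 8) (Steps.fwd (nat_lit 40960) (Steps.bwd (nat_lit 1) Steps.nil))))) (nat_lit 20) (nat_lit 2),
  Rule.mk (nat_lit 4) (nat_lit 88) (Steps.fwd (nat_lit 4096) (Steps.fwd (nat_lit 36864) (Steps.bwd (nat_lit 7) (Steps.fwd (nat_lit 40960) (Steps.bwd (nat_lit 1) Steps.nil))))) (nat_lit 21) (nat_lit 5),
  Rule.mk (nat_lit 3) (nat_lit 103) (Steps.bwd (nat_lit 2) (Steps.fwd (nat_lit 28672) (Steps.fwd (nat_lit 16384) (Steps.bwd (nat_lit 1) (Steps.bwd (nat_lit 1) (Steps.fwd (nat_lit 8192) Steps.nil)))))) (nat_lit 29) (nat_lit 0),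
  Rule.mk (nat_lit 10) (nat_lit 118) (Steps.fwd (nat_lit 28672) (Steps.bwd (nat_lit 2) (Steps.fwd (nat_lit 4096) (Steps.fwd (nat_lit 32768) (Steps.bwd (nat_lit 2) (Steps.bwd (nat_lit 5) (Steps.bwd (nat_lit 1) Steps.nil))))))) (nat_lit 42) (nat_lit 3),
  Rule.mk (nat_lit 4) (nat_lit 148) (Steps.fwd (nat_lit 24576) (Steps.bwd (nat_lit 3) (Steps.fwd (nat_lit 4096) (Steps.fwd (nat_lit 32768) (Steps.bwd (nat_lit 9) (Steps.fwd (nat_lit 28672) (Steps.bwd (nat_lit 1) (Steps.bwd (nat_lit 1) (Steps.fwd (nat_lit 8192) Steps.nil))))))))) (nat_lit 46) (nat_lit 5),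
  Rule.mk (nat_lit 0) (nat_lit 118) (Steps.fwd (nat_lit 4096) (Steps.fwd (nat_lit 4096) (Steps.fwd (nat_lit 4096) (Steps.bwd (nat_lit 4) (Steps.fwd (nat_lit 32768) (Steps.bwd (nat_lit 1) (Steps.fwd (nat_lit 12288) Steps.nil))))))) (nat_lit 28) (nat_lit 1),
  Rule.mk (nat_lit 10) (nat_lit 103) (Steps.bwd (nat_lit 4) (Steps.fwd (nat_lit 8192) (Steps.fwd (nat_lit 45056) (Steps.fwd (nat_lit 53248) (Steps.bwd (nat_lit 6) (Steps.fwd (nat_lit 28672) Steps.nil)))))) (nat_lit 31) (nat_lit 4),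
  Rule.mk (nat_lit 12) (nat_lit 133) (Steps.bwd (nat_lit 4) (Steps.fwd (nat_lit 32768) (Steps.bwd (nat_lit 4) (Steps.fwd (nat_lit 32768) (Steps.bwd (nat_lit 9) (Steps.fwd (nat_lit 20480) (Steps.bwd (nat_lit 11) (Steps.bwd (nat_lit 13) Steps.nil)))))))) (nat_lit 44) (nat_lit 0),
  Rule.mk (nat_lit 10) (nat_lit 118) (Steps.fwd (nat_lit 28672) (Steps.bwd (nat_lit 14) (Steps.fwd (nat_lit 45056) (Steps.fwd (nat_lit 36864) (Steps.fwd (nat_lit 28672) (Steps.fwd (nat_lit 53248) (Steps.bwd (nat_lit 12) Steps.nil))))))) (nat_lit 40) (nat_lit 0),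
  Rule.mk (nat_lit 7) (nat_lit 148) (Steps.bwd (nat_lit 10) (Steps.fwd (nat_lit 28672) (Steps.bwd (nat_lit 1) (Steps.fwd (nat_lit 12288) (Steps.fwd (nat_lit 20480) (Steps.bwd (nat_lit 3) (Steps.fwd (nat_lit 4096) (Steps.fwd (nat_lit 4096) (Steps.fwd (nat_lit 4096) Steps.nil))))))))) (nat_lit 47) (nat_lit 0),
  Rule.mk (nat_lit 11) (nat_lit 118) (Steps.bwd (nat_lit 13) (Steps.bwd (nat_lit 10) (Steps.bwd (nat_lit 8) (Steps.fwd (nat_lit 8192) (Steps.fwd (nat_lit 8192) (Steps.fwd (nat_lit 12288) (Steps.bwd (nat_lit 6) Steps.nil))))))) (nat_lit 32) (nat_lit 5),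
  Rule.mk (nat_lit 11) (nat_lit 88) (Steps.fwd (nat_lit 53248) (Steps.bwd (nat_lit 12) (Steps.fwd (nat_lit 57344) (Steps.fwd (nat_lit 45056) (Steps.bwd (nat_lit 9) Steps.nil))))) (nat_lit 26) (nat_lit 4),
  Rule.mk (nat_lit 13) (nat_lit 118) (Steps.bwd (nat_lit 10) (Steps.bwd (nat_lit 7) (Steps.fwd (nat_lit 40960) (Steps.bwd (nat_lit 13) (Steps.fwd (nat_lit 36864) (Steps.fwd (nat_lit 32768) (Steps.bwd (nat_lit 9) Steps.nil))))))) (nat_lit 38) (nat_lit 1),
  Rule.mk (nat_lit 3) (nat_lit 118) (Steps.bwd (nat_lit 2) (Steps.fwd (nat_lit 4096) (Steps.fwd (nat_lit 32768) (Steps.fwd (nat_lit 40960) (Steps.bwd (nat_lit 14) (Steps.bwd (nat_lit 12) (Steps.bwd (nat_lit 5) Steps.nil))))))) (nat_lit 33) (nat_lit 6),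
  Rule.mk (nat_lit 11) (nat_lit 148) (Steps.bwd (nat_lit 13) (Steps.fwd (nat_lit 16384) (Steps.fwd (nat_lit 4096) (Steps.bwd (nat_lit 2) (Steps.bwd (nat_lit 4) (Steps.bwd (nat_lit 6) (Steps.bwd (nat_lit 14) (Steps.bwd (nat_lit 12) (Steps.bwd (nat_lit 5) Steps.nil))))))))) (nat_lit 52) (nat_lit 9),
  Rule.mk (nat_lit 13) (nat_lit 103) (Steps.bwd (nat_lit 11) (Steps.bwd (nat_lit 2) (Steps.bwd (nat_lit 3) (Steps.fwd (nat_lit 40960) (Steps.fwd (nat_lit 32768) (Steps.bwd (nat_lit 5) Steps.nil)))))) (nat_lit 30) (nat_lit 0),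
  Rule.mk (nat_lit 3) (nat_lit 118) (Steps.bwd (nat_lit 6) (Steps.fwd (nat_lit 49152) (Steps.fwd (nat_lit 24576) (Steps.fwd (nat_lit 16384) (Steps.bwd (nat_lit 6) (Steps.fwd (nat_lit 49152) (Steps.bwd (nat_lit 5) Steps.nil))))))) (nat_lit 34) (nat_lit 1),
  Rule.mk (nat_lit 9) (nat_lit 103) (Steps.fwd (nat_lit 32768) (Steps.fwd (nat_lit 24576) (Steps.bwd (nat_lit 13) (Steps.fwd (nat_lit 49152) (Steps.fwd (nat_lit 4096) (Steps.bwd (nat_lit 3) Steps.nil)))))) (nat_lit 30) (nat_lit 4),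
  Rule.mk (nat_lit 11) (nat_lit 133) (Steps.fwd (nat_lit 53248) (Steps.fwd (nat_lit 45056) (Steps.bwd (nat_lit 5) (Steps.fwd (nat_lit 36864) (Steps.fwd (nat_lit 28672) (Steps.bwd (nat_lit 3) (Steps.fwd (nat_lit 28672) (Steps.bwd (nat_lit 3) Steps.nil)))))))) (nat_lit 45) (nat_lit 1),
  Rule.mk (nat_lit 1) (nat_lit 148) (Steps.fwd (nat_lit 8192) (Steps.fwd (nat_lit 12288) (Steps.bwd (nat_lit 14) (Steps.fwd (nat_lit 45056) (Steps.fwd (nat_lit 20480) (Steps.bwd (nat_lit 11) (Steps.bwd (nat_lit 13) (Steps.bwd (nat_lit 5) (Steps.bwd (nat_lit 3) Steps.nil))))))))) (nat_lit 53) (nat_lit 8),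
  Rule.mk (nat_lit 8) (nat_lit 118) (Steps.bwd (nat_lit 1) (Steps.fwd (nat_lit 8192) (Steps.fwd (nat_lit 12288) (Steps.fwd (nat_lit 20480) (Steps.fwd (nat_lit 49152) (Steps.fwd (nat_lit 57344) (Steps.bwd (nat_lit 10) Steps.nil))))))) (nat_lit 32) (nat_lit 0),
  Rule.mk (nat_lit 13) (nat_lit 148) (Steps.bwd (nat_lit 12) (Steps.fwd (nat_lit 57344) (Steps.bwd (nat_lit 12) (Steps.bwd (nat_lit 13) (Steps.bwd (nat_lit 12) (Steps.fwd (nat_lit 57344) (Steps.bwd (nat_lit 12) (Steps.bwd (nat_lit 13) (Steps.bwd (nat_lit 12) Steps.nil))))))))) (nat_lit 50) (nat_lit 0),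
  Rule.mk (nat_lit 10) (nat_lit 118) (Steps.fwd (nat_lit 28672) (Steps.bwd (nat_lit 1) (Steps.fwd (nat_lit 8192) (Steps.bwd (nat_lit 4) (Steps.bwd (nat_lit 6) (Steps.fwd (nat_lit 49152) (Steps.bwd (nat_lit 13) Steps.nil))))))) (nat_lit 32) (nat_lit 7),
  Rule.mk (nat_lit 7) (nat_lit 118) (Steps.fwd (nat_lit 40960) (Steps.fwd (nat_lit 49152) (Steps.bwd (nat_lit 13) (Steps.bwd (nat_lit 7) (Steps.bwd (nat_lit 9) (Steps.fwd (nat_lit 49152) (Steps.bwd (nat_lit 13) Steps.nil))))))) (nat_lit 41) (nat_lit 0),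
  Rule.mk (nat_lit 2) (nat_lit 118) (Steps.bwd (nat_lit 7) (Steps.fwd (nat_lit 40960) (Steps.bwd (nat_lit 14) (Steps.fwd (nat_lit 45056) (Steps.fwd (nat_lit 24576) (Steps.bwd (nat_lit 3) (Steps.fwd (nat_lit 4096) Steps.nil))))))) (nat_lit 33) (nat_lit 0),
  Rule.mk (nat_lit 4) (nat_lit 103) (Steps.bwd (nat_lit 7) (Steps.fwd (nat_lit 8192) (Steps.bwd (nat_lit 4) (Steps.fwd (nat_lit 4096) (Steps.fwd (nat_lit 4096) (Steps.bwd (nat_lit 2) Steps.nil)))))) (nat_lit 28) (nat_lit 5),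
  Rule.mk (nat_lit 14) (nat_lit 118) (Steps.bwd (nat_lit 11) (Steps.fwd (nat_lit 57344) (Steps.bwd (nat_lit 9) (Steps.bwd (nat_lit 14) (Steps.bwd (nat_lit 11) (Steps.fwd (nat_lit 57344) (Steps.fwd (nat_lit 40960) Steps.nil))))))) (nat_lit 36) (nat_lit 2),
  Rule.mk (nat_lit 12) (nat_lit 88) (Steps.fwd (nat_lit 57344) (Steps.bwd (nat_lit 5) (Steps.fwd (nat_lit 40960) (Steps.bwd (nat_lit 6) (Steps.bwd (nat_lit 14) Steps.nil))))) (nat_lit 24) (nat_lit 4),
  Rule.mk (nat_lit 10) (nat_lit 118) (Steps.fwd (nat_lit 28672) (Steps.fwd (nat_lit 40960) (Steps.bwd (nat_lit 14) (Steps.fwd (nat_lit 36864) (Steps.bwd (nat_lit 8) (Steps.fwd (nat_lit 40960) (Steps.bwd (nat_lit 14) Steps.nil))))))) (nat_lit 39) (nat_lit 1),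
  Rule.mk (nat_lit 1) (nat_lit 118) (Steps.bwd (nat_lit 10) (Steps.fwd (nat_lit 28672) (Steps.fwd (nat_lit 4096) (Steps.fwd (nat_lit 4096) (Steps.bwd (nat_lit 7) (Steps.fwd (nat_lit 4096) (Steps.fwd (nat_lit 24576) Steps.nil))))))) (nat_lit 42) (nat_lit 2),
  Rule.mk (nat_lit 7) (nat_lit 148) (Steps.bwd (nat_lit 10) (Steps.fwd (nat_lit 32768) (Steps.fwd (nat_lit 36864) (Steps.fwd (nat_lit 32768) (Steps.fwd (nat_lit 36864) (Steps.bwd (nat_lit 7) (Steps.bwd (nat_lit 10) (Steps.fwd (nat_lit 32768) (Steps.fwd (nat_lit 36864) Steps.nil))))))))) (nat_lit 49) (nat_lit 0),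
  Rule.mk (nat_lit 5) (nat_lit 103) (Steps.fwd (nat_lit 57344) (Steps.bwd (nat_lit 11) (Steps.bwd (nat_lit 2) (Steps.fwd (nat_lit 16384) (Steps.bwd (nat_lit 9) (Steps.bwd (nat_lit 7) Steps.nil)))))) (nat_lit 30) (nat_lit 6),
  Rule.mk (nat_lit 14) (nat_lit 118) (Steps.bwd (nat_lit 12) (Steps.bwd (nat_lit 10) (Steps.bwd (nat_lit 8) (Steps.fwd (nat_lit 53248) (Steps.fwd (nat_lit 45056) (Steps.bwd (nat_lit 10) (Steps.bwd (nat_lit 8) Steps.nil))))))) (nat_lit 40) (nat_lit 2),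
  Rule.mk (nat_lit 11) (nat_lit 88) (Steps.fwd (nat_lit 57344) (Steps.fwd (nat_lit 24576) (Steps.fwd (nat_lit 36864) (Steps.bwd (nat_lit 6) (Steps.bwd (nat_lit 14) Steps.nil))))) (nat_lit 25) (nat_lit 3),
  Rule.mk (nat_lit 10) (nat_lit 118) (Steps.fwd (nat_lit 28672) (Steps.bwd (nat_lit 9) (Steps.fwd (nat_lit 53248) (Steps.fwd (nat_lit 36864) (Steps.bwd (nat_lit 8) (Steps.fwd (nat_lit 40960) (Steps.bwd (nat_lit 14) Steps.nil))))))) (nat_lit 39) (nat_lit 1),
  Rule.mk (nat_lit 8) (nat_lit 103) (Steps.bwd (nat_lit 10) (Steps.fwd (nat_lit 12288) (Steps.bwd (nat_lit 1) (Steps.bwd (nat_lit 12) (Steps.fwd (nat_lit 53248) (Steps.bwd (nat_lit 6) Steps.nil)))))) (nat_lit 31) (nat_lit 3),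
  Rule.mk (nat_lit 1) (nat_lit 118) (Steps.bwd (nat_lit 10) (Steps.fwd (nat_lit 28672) (Steps.bwd (nat_lit 2) (Steps.bwd (nat_lit 2) (Steps.bwd (nat_lit 7) (Steps.fwd (nat_lit 4096) (Steps.bwd (nat_lit 5) Steps.nil))))))) (nat_lit 42) (nat_lit 2),
  Rule.mk (nat_lit 7) (nat_lit 148) (Steps.bwd (nat_lit 10) (Steps.bwd (nat_lit 7) (Steps.fwd (nat_lit 36864) (Steps.bwd (nat_lit 7) (Steps.bwd (nat_lit 10) (Steps.fwd (nat_lit 32768) (Steps.fwd (nat_lit 36864) (Steps.fwd (nat_lit 32768) (Steps.bwd (nat_lit 10) Steps.nil))))))))) (nat_lit 49) (nat_lit 0),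
  Rule.mk (nat_lit 5) (nat_lit 103) (Steps.bwd (nat_lit 13) (Steps.bwd (nat_lit 11) (Steps.bwd (nat_lit 2) (Steps.bwd (nat_lit 3) (Steps.fwd (nat_lit 40960) (Steps.bwd (nat_lit 7) Steps.nil)))))) (nat_lit 30) (nat_lit 6),
  Rule.mk (nat_lit 1) (nat_lit 343) (Steps.bwd (nat_lit 1) (Steps.bwd (nat_lit 1) (Steps.bwd (nat_lit 1) (Steps.fwd (nat_lit 8192) (Steps.fwd (nat_lit 8192) (Steps.fwd (nat_lit 8192) (Steps.fwd (nat_lit 8192) (Steps.bwd (nat_lit 1) (Steps.bwd (nat_lit 1) (Steps.fwd (nat_lit 8192) (Steps.fwd (nat_lit 8192) (Steps.fwd (nat_lit 8192) (Steps.bwd (nat_lit 1) (Steps.fwd (nat_lit 8192) (Steps.bwd (nat_lit 1) (Steps.fwd (nat_lit 8192) (Steps.fwd (nat_lit 8192) (Steps.bwd (nat_lit 1) (Steps.bwd (nat_lit 1) (Steps.fwd (nat_lit 8192) (Steps.bwd (nat_lit 1) (Steps.fwd (nat_lit 8192) Steps.nil)))))))))))))))))))))) (nat_lit 54) (nat_lit 0),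
  Rule.mk (nat_lit 12) (nat_lit 103) (Steps.bwd (nat_lit 14) (Steps.bwd (nat_lit 6) (Steps.bwd (nat_lit 8) (Steps.bwd (nat_lit 10) (Steps.bwd (nat_lit 4) (Steps.bwd (nat_lit 1) Steps.nil)))))) (nat_lit 31) (nat_lit 0),
  Rule.mk (nat_lit 7) (nat_lit 133) (Steps.bwd (nat_lit 9) (Steps.bwd (nat_lit 6) (Steps.bwd (nat_lit 11) (Steps.fwd (nat_lit 57344) (Steps.fwd (nat_lit 45056) (Steps.fwd (nat_lit 12288) (Steps.fwd (nat_lit 32768) (Steps.bwd (nat_lit 4) Steps.nil)))))))) (nat_lit 44) (nat_lit 4),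
  Rule.mk (nat_lit 4) (nat_lit 133) (Steps.fwd (nat_lit 32768) (Steps.fwd (nat_lit 40960) (Steps.fwd (nat_lit 20480) (Steps.fwd (nat_lit 49152) (Steps.bwd (nat_lit 13) (Steps.bwd (nat_lit 12) (Steps.bwd (nat_lit 4) (Steps.bwd (nat_lit 7) Steps.nil)))))))) (nat_lit 44) (nat_lit 3),
  Rule.mk (nat_lit 2) (nat_lit 103) (Steps.bwd (nat_lit 4) (Steps.fwd (nat_lit 32768) (Steps.bwd (nat_lit 1) (Steps.fwd (nat_lit 12288) (Steps.bwd (nat_lit 2) (Steps.bwd (nat_lit 2) Steps.nil)))))) (nat_lit 28) (nat_lit 4),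
  Rule.mk (nat_lit 12) (nat_lit 133) (Steps.bwd (nat_lit 4) (Steps.fwd (nat_lit 32768) (Steps.bwd (nat_lit 4) (Steps.bwd (nat_lit 7) (Steps.bwd (nat_lit 9) (Steps.fwd (nat_lit 20480) (Steps.fwd (nat_lit 49152) (Steps.bwd (nat_lit 13) Steps.nil)))))))) (nat_lit 44) (nat_lit 0),
  Rule.mk (nat_lit 3) (nat_lit 148) (Steps.bwd (nat_lit 2) (Steps.fwd (nat_lit 32768) (Steps.fwd (nat_lit 40960) (Steps.bwd (nat_lit 8) (Steps.bwd (nat_lit 1) (Steps.bwd (nat_lit 1) (Steps.fwd (nat_lit 8192) (Steps.bwd (nat_lit 4) (Steps.fwd (nat_lit 24576) Steps.nil))))))))) (nat_lit 46) (nat_lit 7),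
  Rule.mk (nat_lit 11) (nat_lit 73) (Steps.bwd (nat_lit 5) (Steps.bwd (nat_lit 10) (Steps.bwd (nat_lit 11) (Steps.fwd (nat_lit 24576) Steps.nil)))) (nat_lit 18) (nat_lit 3),
  Rule.mk (nat_lit 2) (nat_lit 88) (Steps.bwd (nat_lit 5) (Steps.fwd (nat_lit 40960) (Steps.fwd (nat_lit 16384) (Steps.fwd (nat_lit 4096) (Steps.fwd (nat_lit 28672) Steps.nil))))) (nat_lit 23) (nat_lit 1),
  Rule.mk (nat_lit 7) (nat_lit 103) (Steps.bwd (nat_lit 5) (Steps.fwd (nat_lit 57344) (Steps.bwd (nat_lit 11) (Steps.bwd (nat_lit 2) (Steps.bwd (nat_lit 3) (Steps.bwd (nat_lit 9) Steps.nil)))))) (nat_lit 30) (nat_lit 5),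
  Rule.mk (nat_lit 12) (nat_lit 118) (Steps.bwd (nat_lit 5) (Steps.bwd (nat_lit 3) (Steps.fwd (nat_lit 4096) (Steps.bwd (nat_lit 2) (Steps.fwd (nat_lit 32768) (Steps.bwd (nat_lit 9) (Steps.fwd (nat_lit 53248) Steps.nil))))))) (nat_lit 33) (nat_lit 4),
  Rule.mk (nat_lit 8) (nat_lit 103) (Steps.bwd (nat_lit 10) (Steps.bwd (nat_lit 4) (Steps.fwd (nat_lit 8192) (Steps.fwd (nat_lit 45056) (Steps.bwd (nat_lit 14) (Steps.bwd (nat_lit 6) Steps.nil)))))) (nat_lit 31) (nat_lit 3),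
  Rule.mk (nat_lit 9) (nat_lit 148) (Steps.bwd (nat_lit 8) (Steps.bwd (nat_lit 9) (Steps.bwd (nat_lit 8) (Steps.fwd (nat_lit 40960) (Steps.bwd (nat_lit 8) (Steps.fwd (nat_lit 40960) (Steps.fwd (nat_lit 28672) (Steps.fwd (nat_lit 40960) (Steps.fwd (nat_lit 28672) Steps.nil))))))))) (nat_lit 48) (nat_lit 0),
  Rule.mk (nat_lit 7) (nat_lit 103) (Steps.fwd (nat_lit 24576) (Steps.bwd (nat_lit 13) (Steps.bwd (nat_lit 11) (Steps.bwd (nat_lit 2) (Steps.bwd (nat_lit 3) (Steps.bwd (nat_lit 9) Steps.nil)))))) (nat_lit 30) (nat_lit 5),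
  Rule.mk (nat_lit 13) (nat_lit 118) (Steps.fwd (nat_lit 36864) (Steps.bwd (nat_lit 7) (Steps.bwd (nat_lit 9) (Steps.bwd (nat_lit 13) (Steps.fwd (nat_lit 36864) (Steps.bwd (nat_lit 7) (Steps.bwd (nat_lit 9) Steps.nil))))))) (nat_lit 38) (nat_lit 1),
  Rule.mk (nat_lit 2) (nat_lit 118) (Steps.bwd (nat_lit 6) (Steps.bwd (nat_lit 1) (Steps.bwd (nat_lit 8) (Steps.fwd (nat_lit 8192) (Steps.fwd (nat_lit 8192) (Steps.bwd (nat_lit 7) (Steps.bwd (nat_lit 9) Steps.nil))))))) (nat_lit 43) (nat_lit 7),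
  Rule.mk (nat_lit 1) (nat_lit 343) (Steps.bwd (nat_lit 1) (Steps.bwd (nat_lit 1) (Steps.bwd (nat_lit 1) (Steps.fwd (nat_lit 8192) (Steps.bwd (nat_lit 1) (Steps.bwd (nat_lit 1) (Steps.bwd (nat_lit 1) (Steps.fwd (nat_lit 8192) (Steps.fwd (nat_lit 8192) (Steps.bwd (nat_lit 1) (Steps.bwd (nat_lit 1) (Steps.bwd (nat_lit 1) (Steps.bwd (nat_lit 1) (Steps.bwd (nat_lit 1) (Steps.fwd (nat_lit 8192) (Steps.bwd (nat_lit 1) (Steps.bwd (nat_lit 1) (Steps.fwd (nat_lit 8192) (Steps.fwd (nat_lit 8192) (Steps.fwd (nat_lit 8192) (Steps.bwd (nat_lit 1) (Steps.fwd (nat_lit 8192) Steps.nil)))))))))))))))))))))) (nat_lit 54) (nat_lit 0),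
  Rule.mk (nat_lit 3) (nat_lit 103) (Steps.bwd (nat_lit 2) (Steps.bwd (nat_lit 8) (Steps.bwd (nat_lit 3) (Steps.fwd (nat_lit 8192) (Steps.bwd (nat_lit 1) (Steps.bwd (nat_lit 1) Steps.nil)))))) (nat_lit 29) (nat_lit 0),
  Rule.mk (nat_lit 4) (nat_lit 118) (Steps.fwd (nat_lit 20480) (Steps.fwd (nat_lit 49152) (Steps.bwd (nat_lit 13) (Steps.bwd (nat_lit 10) (Steps.bwd (nat_lit 8) (Steps.bwd (nat_lit 1) (Steps.bwd (nat_lit 1) Steps.nil))))))) (nat_lit 32) (nat_lit 3),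
  Rule.mk (nat_lit 7) (nat_lit 118) (Steps.bwd (nat_lit 9) (Steps.fwd (nat_lit 4096) (Steps.fwd (nat_lit 20480) (Steps.bwd (nat_lit 1) (Steps.bwd (nat_lit 8) (Steps.bwd (nat_lit 1) (Steps.bwd (nat_lit 1) Steps.nil))))))) (nat_lit 43) (nat_lit 5),
  Rule.mk (nat_lit 4) (nat_lit 148) (Steps.fwd (nat_lit 24576) (Steps.bwd (nat_lit 3) (Steps.fwd (nat_lit 4096) (Steps.fwd (nat_lit 32768) (Steps.fwd (nat_lit 40960) (Steps.bwd (nat_lit 8) (Steps.bwd (nat_lit 1) (Steps.bwd (nat_lit 1) (Steps.bwd (nat_lit 1) Steps.nil))))))))) (nat_lit 46) (nat_lit 5)]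
noncomputable def R_73 : List (Rule) := [Rule.mk (nat_lit 9) (nat_lit 88) (Steps.bwd (nat_lit 1) (Steps.bwd (nat_lit 4) (Steps.bwd (nat_lit 2) (Steps.bwd (nat_lit 10) (Steps.fwd (nat_lit 32768) Steps.nil))))) (nat_lit 21) (nat_lit 3),
  Rule.mk (nat_lit 10) (nat_lit 103) (Steps.bwd (nat_lit 4) (Steps.bwd (nat_lit 1) (Steps.bwd (nat_lit 12) (Steps.fwd (nat_lit 53248) (Steps.fwd (nat_lit 20480) (Steps.bwd (nat_lit 8) Steps.nil)))))) (nat_lit 31) (nat_lit 4),
  Rule.mk (nat_lit 12) (nat_lit 118) (Steps.bwd (nat_lit 5) (Steps.bwd (nat_lit 4) (Steps.bwd (nat_lit 6) (Steps.bwd (nat_lit 12) (Steps.bwd (nat_lit 5) (Steps.fwd (nat_lit 12288) (Steps.bwd (nat_lit 6) Steps.nil))))))) (nat_lit 35) (nat_lit 2),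
  Rule.mk (nat_lit 7) (nat_lit 133) (Steps.bwd (nat_lit 4) (Steps.fwd (nat_lit 32768) (Steps.bwd (nat_lit 9) (Steps.bwd (nat_lit 6) (Steps.bwd (nat_lit 11) (Steps.bwd (nat_lit 13) (Steps.fwd (nat_lit 45056) (Steps.bwd (nat_lit 4) Steps.nil)))))))) (nat_lit 44) (nat_lit 2),
  Rule.mk (nat_lit 14) (nat_lit 103) (Steps.bwd (nat_lit 6) (Steps.bwd (nat_lit 8) (Steps.bwd (nat_lit 10) (Steps.fwd (nat_lit 12288) (Steps.bwd (nat_lit 1) (Steps.bwd (nat_lit 12) Steps.nil)))))) (nat_lit 31) (nat_lit 1),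
  Rule.mk (nat_lit 6) (nat_lit 118) (Steps.bwd (nat_lit 1) (Steps.fwd (nat_lit 28672) (Steps.bwd (nat_lit 1) (Steps.bwd (nat_lit 1) (Steps.bwd (nat_lit 7) (Steps.bwd (nat_lit 9) (Steps.fwd (nat_lit 4096) Steps.nil))))))) (nat_lit 43) (nat_lit 0),
  Rule.mk (nat_lit 11) (nat_lit 118) (Steps.bwd (nat_lit 13) (Steps.bwd (nat_lit 10) (Steps.fwd (nat_lit 28672) (Steps.bwd (nat_lit 1) (Steps.bwd (nat_lit 1) (Steps.bwd (nat_lit 4) (Steps.bwd (nat_lit 6) Steps.nil))))))) (nat_lit 32) (nat_lit 5),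
  Rule.mk (nat_lit 9) (nat_lit 118) (Steps.fwd (nat_lit 4096) (Steps.bwd (nat_lit 6) (Steps.bwd (nat_lit 1) (Steps.bwd (nat_lit 8) (Steps.bwd (nat_lit 1) (Steps.bwd (nat_lit 1) (Steps.bwd (nat_lit 7) Steps.nil))))))) (nat_lit 43) (nat_lit 6),
  Rule.mk (nat_lit 11) (nat_lit 118) (Steps.bwd (nat_lit 13) (Steps.bwd (nat_lit 10) (Steps.bwd (nat_lit 8) (Steps.fwd (nat_lit 8192) (Steps.bwd (nat_lit 1) (Steps.fwd (nat_lit 12288) (Steps.bwd (nat_lit 6) Steps.nil))))))) (nat_lit 32) (nat_lit 5),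
  Rule.mk (nat_lit 3) (nat_lit 148) (Steps.fwd (nat_lit 4096) (Steps.bwd (nat_lit 2) (Steps.bwd (nat_lit 2) (Steps.bwd (nat_lit 7) (Steps.fwd (nat_lit 36864) (Steps.fwd (nat_lit 28672) (Steps.bwd (nat_lit 1) (Steps.fwd (nat_lit 12288) (Steps.bwd (nat_lit 6) Steps.nil))))))))) (nat_lit 47) (nat_lit 6),
  Rule.mk (nat_lit 1) (nat_lit 148) (Steps.bwd (nat_lit 1) (Steps.fwd (nat_lit 12288) (Steps.fwd (nat_lit 24576) (Steps.fwd (nat_lit 16384) (Steps.bwd (nat_lit 2) (Steps.fwd (nat_lit 32768) (Steps.fwd (nat_lit 40960) (Steps.bwd (nat_lit 8) (Steps.bwd (nat_lit 1) Steps.nil))))))))) (nat_lit 46) (nat_lit 3),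
  Rule.mk (nat_lit 12) (nat_lit 103) (Steps.fwd (nat_lit 53248) (Steps.bwd (nat_lit 6) (Steps.fwd (nat_lit 28672) (Steps.bwd (nat_lit 10) (Steps.fwd (nat_lit 12288) (Steps.bwd (nat_lit 1) Steps.nil)))))) (nat_lit 31) (nat_lit 0),
  Rule.mk (nat_lit 10) (nat_lit 118) (Steps.fwd (nat_lit 28672) (Steps.bwd (nat_lit 2) (Steps.fwd (nat_lit 4096) (Steps.bwd (nat_lit 7) (Steps.bwd (nat_lit 2) (Steps.bwd (nat_lit 5) (Steps.bwd (nat_lit 1) Steps.nil))))))) (nat_lit 42) (nat_lit 3),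
  Rule.mk (nat_lit 5) (nat_lit 88) (Steps.bwd (nat_lit 10) (Steps.fwd (nat_lit 20480) (Steps.bwd (nat_lit 14) (Steps.fwd (nat_lit 49152) (Steps.bwd (nat_lit 13) Steps.nil))))) (nat_lit 25) (nat_lit 5),
  Rule.mk (nat_lit 13) (nat_lit 118) (Steps.bwd (nat_lit 10) (Steps.fwd (nat_lit 28672) (Steps.fwd (nat_lit 8192) (Steps.fwd (nat_lit 8192) (Steps.bwd (nat_lit 4) (Steps.fwd (nat_lit 20480) (Steps.fwd (nat_lit 49152) Steps.nil))))))) (nat_lit 32) (nat_lit 6),
  Rule.mk (nat_lit 14) (nat_lit 118) (Steps.bwd (nat_lit 10) (Steps.fwd (nat_lit 28672) (Steps.bwd (nat_lit 9) (Steps.bwd (nat_lit 14) (Steps.bwd (nat_lit 10) (Steps.fwd (nat_lit 28672) (Steps.fwd (nat_lit 40960) Steps.nil))))))) (nat_lit 39) (nat_lit 0),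
  Rule.mk (nat_lit 12) (nat_lit 118) (Steps.bwd (nat_lit 10) (Steps.fwd (nat_lit 28672) (Steps.fwd (nat_lit 53248) (Steps.bwd (nat_lit 12) (Steps.bwd (nat_lit 10) (Steps.fwd (nat_lit 28672) (Steps.bwd (nat_lit 14) Steps.nil))))))) (nat_lit 40) (nat_lit 3),
  Rule.mk (nat_lit 5) (nat_lit 118) (Steps.fwd (nat_lit 16384) (Steps.fwd (nat_lit 4096) (Steps.bwd (nat_lit 2) (Steps.bwd (nat_lit 7) (Steps.bwd (nat_lit 9) (Steps.bwd (nat_lit 14) (Steps.bwd (nat_lit 12) Steps.nil))))))) (nat_lit 33) (nat_lit 5),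
  Rule.mk (nat_lit 1) (nat_lit 343) (Steps.bwd (nat_lit 1) (Steps.bwd (nat_lit 1) (Steps.bwd (nat_lit 1) (Steps.bwd (nat_lit 1) (Steps.bwd (nat_lit 1) (Steps.bwd (nat_lit 1) (Steps.bwd (nat_lit 1) (Steps.fwd (nat_lit 8192) (Steps.bwd (nat_lit 1) (Steps.bwd (nat_lit 1) (Steps.bwd (nat_lit 1) (Steps.bwd (nat_lit 1) (Steps.fwd (nat_lit 8192) (Steps.bwd (nat_lit 1) (Steps.fwd (nat_lit 8192) (Steps.fwd (nat_lit 8192) (Steps.fwd (nat_lit 8192) (Steps.bwd (nat_lit 1) (Steps.bwd (nat_lit 1) (Steps.fwd (nat_lit 8192) (Steps.fwd (nat_lit 8192) (Steps.bwd (nat_lit 1) Steps.nil)))))))))))))))))))))) (nat_lit 54) (nat_lit 0),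
  Rule.mk (nat_lit 14) (nat_lit 118) (Steps.fwd (nat_lit 45056) (Steps.fwd (nat_lit 57344) (Steps.bwd (nat_lit 10) (Steps.bwd (nat_lit 14) (Steps.fwd (nat_lit 45056) (Steps.fwd (nat_lit 57344) (Steps.bwd (nat_lit 10) Steps.nil))))))) (nat_lit 37) (nat_lit 1),
  Rule.mk (nat_lit 3) (nat_lit 88) (Steps.fwd (nat_lit 4096) (Steps.bwd (nat_lit 8) (Steps.bwd (nat_lit 2) (Steps.bwd (nat_lit 5) (Steps.fwd (nat_lit 40960) Steps.nil))))) (nat_lit 23) (nat_lit 4),
  Rule.mk (nat_lit 6) (nat_lit 118) (Steps.bwd (nat_lit 1) (Steps.bwd (nat_lit 8) (Steps.fwd (nat_lit 8192) (Steps.fwd (nat_lit 8192) (Steps.bwd (nat_lit 7) (Steps.fwd (nat_lit 40960) (Steps.bwd (nat_lit 2) Steps.nil))))))) (nat_lit 43) (nat_lit 0),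
  Rule.mk (nat_lit 11) (nat_lit 118) (Steps.bwd (nat_lit 13) (Steps.bwd (nat_lit 10) (Steps.bwd (nat_lit 8) (Steps.bwd (nat_lit 1) (Steps.fwd (nat_lit 8192) (Steps.fwd (nat_lit 12288) (Steps.bwd (nat_lit 6) Steps.nil))))))) (nat_lit 32) (nat_lit 5),
  Rule.mk (nat_lit 5) (nat_lit 103) (Steps.bwd (nat_lit 13) (Steps.fwd (nat_lit 49152) (Steps.fwd (nat_lit 4096) (Steps.fwd (nat_lit 16384) (Steps.fwd (nat_lit 40960) (Steps.bwd (nat_lit 7) Steps.nil)))))) (nat_lit 30) (nat_lit 6),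
  Rule.mk (nat_lit 10) (nat_lit 148) (Steps.fwd (nat_lit 28672) (Steps.bwd (nat_lit 1) (Steps.bwd (nat_lit 4) (Steps.bwd (nat_lit 6) (Steps.fwd (nat_lit 16384) (Steps.fwd (nat_lit 4096) (Steps.fwd (nat_lit 4096) (Steps.bwd (nat_lit 2) (Steps.bwd (nat_lit 7) Steps.nil))))))))) (nat_lit 47) (nat_lit 1),
  Rule.mk (nat_lit 12) (nat_lit 88) (Steps.fwd (nat_lit 57344) (Steps.fwd (nat_lit 24576) (Steps.fwd (nat_lit 40960) (Steps.bwd (nat_lit 6) (Steps.bwd (nat_lit 14) Steps.nil))))) (nat_lit 24) (nat_lit 4),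
  Rule.mk (nat_lit 11) (nat_lit 133) (Steps.bwd (nat_lit 14) (Steps.bwd (nat_lit 12) (Steps.fwd (nat_lit 24576) (Steps.bwd (nat_lit 10) (Steps.bwd (nat_lit 8) (Steps.bwd (nat_lit 3) (Steps.fwd (nat_lit 28672) (Steps.bwd (nat_lit 3) Steps.nil)))))))) (nat_lit 45) (nat_lit 1),
  Rule.mk (nat_lit 8) (nat_lit 148) (Steps.bwd (nat_lit 1) (Steps.bwd (nat_lit 1) (Steps.fwd (nat_lit 8192) (Steps.bwd (nat_lit 4) (Steps.bwd (nat_lit 5) (Steps.bwd (nat_lit 3) (Steps.fwd (nat_lit 4096) (Steps.fwd (nat_lit 32768) (Steps.bwd (nat_lit 9) Steps.nil))))))))) (nat_lit 46) (nat_lit 1),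
  Rule.mk (nat_lit 6) (nat_lit 148) (Steps.bwd (nat_lit 14) (Steps.fwd (nat_lit 45056) (Steps.fwd (nat_lit 24576) (Steps.bwd (nat_lit 11) (Steps.bwd (nat_lit 13) (Steps.fwd (nat_lit 16384) (Steps.fwd (nat_lit 4096) (Steps.fwd (nat_lit 4096) (Steps.bwd (nat_lit 4) Steps.nil))))))))) (nat_lit 52) (nat_lit 5),
  Rule.mk (nat_lit 8) (nat_lit 103) (Steps.fwd (nat_lit 36864) (Steps.bwd (nat_lit 4) (Steps.bwd (nat_lit 1) (Steps.fwd (nat_lit 45056) (Steps.fwd (nat_lit 53248) (Steps.bwd (nat_lit 6) Steps.nil)))))) (nat_lit 31) (nat_lit 3),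
  Rule.mk (nat_lit 11) (nat_lit 118) (Steps.fwd (nat_lit 57344) (Steps.fwd (nat_lit 36864) (Steps.fwd (nat_lit 28672) (Steps.bwd (nat_lit 1) (Steps.bwd (nat_lit 1) (Steps.bwd (nat_lit 4) (Steps.bwd (nat_lit 6) Steps.nil))))))) (nat_lit 32) (nat_lit 5),
  Rule.mk (nat_lit 3) (nat_lit 148) (Steps.bwd (nat_lit 2) (Steps.bwd (nat_lit 2) (Steps.bwd (nat_lit 2) (Steps.bwd (nat_lit 7) (Steps.fwd (nat_lit 36864) (Steps.fwd (nat_lit 28672) (Steps.bwd (nat_lit 1) (Steps.bwd (nat_lit 4) (Steps.bwd (nat_lit 6) Steps.nil))))))))) (nat_lit 47) (nat_lit 6),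
  Rule.mk (nat_lit 3) (nat_lit 88) (Steps.bwd (nat_lit 2) (Steps.fwd (nat_lit 36864) (Steps.fwd (nat_lit 28672) (Steps.fwd (nat_lit 40960) (Steps.fwd (nat_lit 8192) Steps.nil))))) (nat_lit 20) (nat_lit 2),
  Rule.mk (nat_lit 3) (nat_lit 148) (Steps.bwd (nat_lit 2) (Steps.fwd (nat_lit 32768) (Steps.fwd (nat_lit 40960) (Steps.bwd (nat_lit 8) (Steps.fwd (nat_lit 8192) (Steps.fwd (nat_lit 8192) (Steps.fwd (nat_lit 8192) (Steps.fwd (nat_lit 12288) (Steps.fwd (nat_lit 24576) Steps.nil))))))))) (nat_lit 46) (nat_lit 7),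
  Rule.mk (nat_lit 11) (nat_lit 133) (Steps.bwd (nat_lit 14) (Steps.fwd (nat_lit 45056) (Steps.fwd (nat_lit 24576) (Steps.bwd (nat_lit 10) (Steps.fwd (nat_lit 28672) (Steps.bwd (nat_lit 3) (Steps.fwd (nat_lit 28672) (Steps.bwd (nat_lit 3) Steps.nil)))))))) (nat_lit 45) (nat_lit 1),
  Rule.mk (nat_lit 4) (nat_lit 148) (Steps.bwd (nat_lit 6) (Steps.fwd (nat_lit 53248) (Steps.fwd (nat_lit 45056) (Steps.bwd (nat_lit 5) (Steps.bwd (nat_lit 11) (Steps.fwd (nat_lit 57344) (Steps.fwd (nat_lit 16384) (Steps.bwd (nat_lit 2) (Steps.bwd (nat_lit 2) Steps.nil))))))))) (nat_lit 52) (nat_lit 4),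
  Rule.mk (nat_lit 5) (nat_lit 148) (Steps.fwd (nat_lit 16384) (Steps.bwd (nat_lit 2) (Steps.fwd (nat_lit 32768) (Steps.fwd (nat_lit 40960) (Steps.bwd (nat_lit 8) (Steps.fwd (nat_lit 8192) (Steps.fwd (nat_lit 8192) (Steps.bwd (nat_lit 1) (Steps.bwd (nat_lit 4) Steps.nil))))))))) (nat_lit 46) (nat_lit 6),
  Rule.mk (nat_lit 12) (nat_lit 118) (Steps.bwd (nat_lit 5) (Steps.fwd (nat_lit 16384) (Steps.bwd (nat_lit 2) (Steps.fwd (nat_lit 4096) (Steps.fwd (nat_lit 32768) (Steps.bwd (nat_lit 9) (Steps.bwd (nat_lit 14) Steps.nil))))))) (nat_lit 33) (nat_lit 4),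
  Rule.mk (nat_lit 8) (nat_lit 148) (Steps.bwd (nat_lit 9) (Steps.fwd (nat_lit 28672) (Steps.bwd (nat_lit 9) (Steps.fwd (nat_lit 28672) (Steps.fwd (nat_lit 40960) (Steps.bwd (nat_lit 8) (Steps.fwd (nat_lit 40960) (Steps.fwd (nat_lit 28672) (Steps.fwd (nat_lit 40960) Steps.nil))))))))) (nat_lit 48) (nat_lit 1),
  Rule.mk (nat_lit 10) (nat_lit 103) (Steps.bwd (nat_lit 4) (Steps.bwd (nat_lit 1) (Steps.bwd (nat_lit 12) (Steps.fwd (nat_lit 53248) (Steps.bwd (nat_lit 6) (Steps.bwd (nat_lit 8) Steps.nil)))))) (nat_lit 31) (nat_lit 4),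
  Rule.mk (nat_lit 6) (nat_lit 73) (Steps.bwd (nat_lit 14) (Steps.fwd (nat_lit 12288) (Steps.fwd (nat_lit 28672) (Steps.fwd (nat_lit 49152) Steps.nil)))) (nat_lit 16) (nat_lit 4),
  Rule.mk (nat_lit 4) (nat_lit 103) (Steps.bwd (nat_lit 7) (Steps.fwd (nat_lit 8192) (Steps.fwd (nat_lit 12288) (Steps.fwd (nat_lit 4096) (Steps.bwd (nat_lit 2) (Steps.bwd (nat_lit 2) Steps.nil)))))) (nat_lit 28) (nat_lit 5),
  Rule.mk (nat_lit 13) (nat_lit 118) (Steps.bwd (nat_lit 7) (Steps.fwd (nat_lit 40960) (Steps.bwd (nat_lit 11) (Steps.fwd (nat_lit 57344) (Steps.fwd (nat_lit 32768) (Steps.fwd (nat_lit 40960) (Steps.bwd (nat_lit 11) Steps.nil))))))) (nat_lit 41) (nat_lit 3),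
  Rule.mk (nat_lit 10) (nat_lit 118) (Steps.bwd (nat_lit 8) (Steps.fwd (nat_lit 4096) (Steps.fwd (nat_lit 4096) (Steps.fwd (nat_lit 32768) (Steps.fwd (nat_lit 4096) (Steps.fwd (nat_lit 24576) (Steps.bwd (nat_lit 1) Steps.nil))))))) (nat_lit 42) (nat_lit 3),
  Rule.mk (nat_lit 9) (nat_lit 118) (Steps.bwd (nat_lit 2) (Steps.fwd (nat_lit 20480) (Steps.fwd (nat_lit 8192) (Steps.fwd (nat_lit 28672) (Steps.fwd (nat_lit 8192) (Steps.bwd (nat_lit 1) (Steps.bwd (nat_lit 7) Steps.nil))))))) (nat_lit 43) (nat_lit 6),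
  Rule.mk (nat_lit 5) (nat_lit 88) (Steps.bwd (nat_lit 9) (Steps.bwd (nat_lit 3) (Steps.bwd (nat_lit 2) (Steps.fwd (nat_lit 28672) (Steps.fwd (nat_lit 4096) Steps.nil))))) (nat_lit 23) (nat_lit 2),
  Rule.mk (nat_lit 13) (nat_lit 118) (Steps.bwd (nat_lit 9) (Steps.bwd (nat_lit 14) (Steps.fwd (nat_lit 49152) (Steps.fwd (nat_lit 57344) (Steps.bwd (nat_lit 9) (Steps.bwd (nat_lit 14) (Steps.bwd (nat_lit 11) Steps.nil))))))) (nat_lit 36) (nat_lit 0),
  Rule.mk (nat_lit 2) (nat_lit 103) (Steps.bwd (nat_lit 3) (Steps.fwd (nat_lit 40960) (Steps.bwd (nat_lit 7) (Steps.bwd (nat_lit 5) (Steps.bwd (nat_lit 13) (Steps.bwd (nat_lit 11) Steps.nil)))))) (nat_lit 30) (nat_lit 2),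
  Rule.mk (nat_lit 10) (nat_lit 88) (Steps.fwd (nat_lit 28672) (Steps.fwd (nat_lit 40960) (Steps.bwd (nat_lit 1) (Steps.fwd (nat_lit 16384) (Steps.bwd (nat_lit 2) Steps.nil))))) (nat_lit 20) (nat_lit 4),
  Rule.mk (nat_lit 7) (nat_lit 118) (Steps.bwd (nat_lit 9) (Steps.bwd (nat_lit 14) (Steps.bwd (nat_lit 12) (Steps.bwd (nat_lit 5) (Steps.fwd (nat_lit 16384) (Steps.fwd (nat_lit 4096) (Steps.bwd (nat_lit 2) Steps.nil))))))) (nat_lit 33) (nat_lit 1),
  Rule.mk (nat_lit 13) (nat_lit 118) (Steps.bwd (nat_lit 7) (Steps.bwd (nat_lit 9) (Steps.bwd (nat_lit 11) (Steps.bwd (nat_lit 13) (Steps.bwd (nat_lit 7) (Steps.bwd (nat_lit 9) (Steps.fwd (nat_lit 49152) Steps.nil))))))) (nat_lit 41) (nat_lit 3),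
  Rule.mk (nat_lit 8) (nat_lit 148) (Steps.bwd (nat_lit 9) (Steps.bwd (nat_lit 8) (Steps.fwd (nat_lit 40960) (Steps.bwd (nat_lit 8) (Steps.fwd (nat_lit 40960) (Steps.bwd (nat_lit 8) (Steps.fwd (nat_lit 40960) (Steps.fwd (nat_lit 28672) (Steps.fwd (nat_lit 40960) Steps.nil))))))))) (nat_lit 48) (nat_lit 1),
  Rule.mk (nat_lit 1) (nat_lit 118) (Steps.fwd (nat_lit 8192) (Steps.bwd (nat_lit 4) (Steps.bwd (nat_lit 6) (Steps.fwd (nat_lit 49152) (Steps.fwd (nat_lit 57344) (Steps.fwd (nat_lit 36864) (Steps.bwd (nat_lit 8) Steps.nil))))))) (nat_lit 32) (nat_lit 1),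
  Rule.mk (nat_lit 6) (nat_lit 118) (Steps.bwd (nat_lit 1) (Steps.bwd (nat_lit 8) (Steps.fwd (nat_lit 8192) (Steps.bwd (nat_lit 1) (Steps.fwd (nat_lit 32768) (Steps.bwd (nat_lit 9) (Steps.fwd (nat_lit 4096) Steps.nil))))))) (nat_lit 43) (nat_lit 0),
  Rule.mk (nat_lit 13) (nat_lit 148) (Steps.bwd (nat_lit 12) (Steps.bwd (nat_lit 13) (Steps.fwd (nat_lit 45056) (Steps.bwd (nat_lit 13) (Steps.bwd (nat_lit 12) (Steps.bwd (nat_lit 13) (Steps.bwd (nat_lit 12) (Steps.fwd (nat_lit 57344) (Steps.fwd (nat_lit 45056) Steps.nil))))))))) (nat_lit 50) (nat_lit 0),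
  Rule.mk (nat_lit 10) (nat_lit 118) (Steps.fwd (nat_lit 28672) (Steps.fwd (nat_lit 8192) (Steps.bwd (nat_lit 1) (Steps.fwd (nat_lit 12288) (Steps.bwd (nat_lit 6) (Steps.bwd (nat_lit 11) (Steps.bwd (nat_lit 13) Steps.nil))))))) (nat_lit 32) (nat_lit 7),
  Rule.mk (nat_lit 9) (nat_lit 118) (Steps.fwd (nat_lit 53248) (Steps.bwd (nat_lit 11) (Steps.bwd (nat_lit 13) (Steps.fwd (nat_lit 40960) (Steps.fwd (nat_lit 53248) (Steps.bwd (nat_lit 11) (Steps.bwd (nat_lit 13) Steps.nil))))))) (nat_lit 36) (nat_lit 1),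
  Rule.mk (nat_lit 2) (nat_lit 118) (Steps.bwd (nat_lit 7) (Steps.fwd (nat_lit 40960) (Steps.fwd (nat_lit 53248) (Steps.bwd (nat_lit 12) (Steps.bwd (nat_lit 5) (Steps.bwd (nat_lit 3) (Steps.fwd (nat_lit 4096) Steps.nil))))))) (nat_lit 33) (nat_lit 0),
  Rule.mk (nat_lit 2) (nat_lit 148) (Steps.bwd (nat_lit 2) (Steps.fwd (nat_lit 12288) (Steps.fwd (nat_lit 20480) (Steps.fwd (nat_lit 53248) (Steps.fwd (nat_lit 45056) (Steps.fwd (nat_lit 24576) (Steps.fwd (nat_lit 49152) (Steps.bwd (nat_lit 13) (Steps.fwd (nat_lit 16384) Steps.nil))))))))) (nat_lit 52) (nat_lit 2),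
  Rule.mk (nat_lit 4) (nat_lit 103) (Steps.fwd (nat_lit 32768) (Steps.bwd (nat_lit 1) (Steps.bwd (nat_lit 4) (Steps.bwd (nat_lit 2) (Steps.fwd (nat_lit 4096) (Steps.bwd (nat_lit 2) Steps.nil)))))) (nat_lit 28) (nat_lit 5),
  Rule.mk (nat_lit 3) (nat_lit 103) (Steps.fwd (nat_lit 40960) (Steps.fwd (nat_lit 32768) (Steps.bwd (nat_lit 5) (Steps.fwd (nat_lit 57344) (Steps.fwd (nat_lit 49152) (Steps.bwd (nat_lit 2) Steps.nil)))))) (nat_lit 30) (nat_lit 3),
  Rule.mk (nat_lit 7) (nat_lit 118) (Steps.fwd (nat_lit 40960) (Steps.fwd (nat_lit 53248) (Steps.fwd (nat_lit 45056) (Steps.fwd (nat_lit 24576) (Steps.fwd (nat_lit 16384) (Steps.fwd (nat_lit 4096) (Steps.bwd (nat_lit 2) Steps.nil))))))) (nat_lit 33) (nat_lit 1),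
  Rule.mk (nat_lit 5) (nat_lit 118) (Steps.bwd (nat_lit 1) (Steps.bwd (nat_lit 10) (Steps.fwd (nat_lit 28672) (Steps.fwd (nat_lit 4096) (Steps.bwd (nat_lit 2) (Steps.bwd (nat_lit 7) (Steps.bwd (nat_lit 2) Steps.nil))))))) (nat_lit 42) (nat_lit 1),
  Rule.mk (nat_lit 12) (nat_lit 118) (Steps.bwd (nat_lit 5) (Steps.fwd (nat_lit 16384) (Steps.fwd (nat_lit 4096) (Steps.fwd (nat_lit 4096) (Steps.bwd (nat_lit 7) (Steps.bwd (nat_lit 9) (Steps.bwd (nat_lit 14) Steps.nil))))))) (nat_lit 33) (nat_lit 4)]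
noncomputable def R_74 : List (Rule) := [Rule.mk (nat_lit 2) (nat_lit 103) (Steps.bwd (nat_lit 3) (Steps.bwd (nat_lit 9) (Steps.fwd (nat_lit 32768) (Steps.bwd (nat_lit 5) (Steps.bwd (nat_lit 13) (Steps.fwd (nat_lit 49152) Steps.nil)))))) (nat_lit 30) (nat_lit 2),
  Rule.mk (nat_lit 4) (nat_lit 103) (Steps.bwd (nat_lit 7) (Steps.bwd (nat_lit 1) (Steps.fwd (nat_lit 12288) (Steps.bwd (nat_lit 2) (Steps.fwd (nat_lit 4096) (Steps.bwd (nat_lit 2) Steps.nil)))))) (nat_lit 28) (nat_lit 5),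
  Rule.mk (nat_lit 7) (nat_lit 118) (Steps.fwd (nat_lit 40960) (Steps.bwd (nat_lit 14) (Steps.fwd (nat_lit 45056) (Steps.bwd (nat_lit 5) (Steps.fwd (nat_lit 16384) (Steps.fwd (nat_lit 4096) (Steps.bwd (nat_lit 2) Steps.nil))))))) (nat_lit 33) (nat_lit 1),
  Rule.mk (nat_lit 13) (nat_lit 118) (Steps.bwd (nat_lit 7) (Steps.fwd (nat_lit 40960) (Steps.bwd (nat_lit 11) (Steps.bwd (nat_lit 13) (Steps.fwd (nat_lit 32768) (Steps.bwd (nat_lit 9) (Steps.fwd (nat_lit 49152) Steps.nil))))))) (nat_lit 41) (nat_lit 3),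
  Rule.mk (nat_lit 5) (nat_lit 118) (Steps.bwd (nat_lit 3) (Steps.fwd (nat_lit 20480) (Steps.bwd (nat_lit 11) (Steps.fwd (nat_lit 24576) (Steps.fwd (nat_lit 16384) (Steps.bwd (nat_lit 6) (Steps.fwd (nat_lit 49152) Steps.nil))))))) (nat_lit 34) (nat_lit 0),
  Rule.mk (nat_lit 1) (nat_lit 118) (Steps.fwd (nat_lit 36864) (Steps.fwd (nat_lit 28672) (Steps.fwd (nat_lit 4096) (Steps.bwd (nat_lit 2) (Steps.bwd (nat_lit 7) (Steps.bwd (nat_lit 2) (Steps.bwd (nat_lit 5) Steps.nil))))))) (nat_lit 42) (nat_lit 2),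
  Rule.mk (nat_lit 8) (nat_lit 118) (Steps.bwd (nat_lit 1) (Steps.bwd (nat_lit 1) (Steps.fwd (nat_lit 12288) (Steps.bwd (nat_lit 6) (Steps.bwd (nat_lit 11) (Steps.bwd (nat_lit 13) (Steps.fwd (nat_lit 36864) Steps.nil))))))) (nat_lit 32) (nat_lit 0),
  Rule.mk (nat_lit 13) (nat_lit 118) (Steps.bwd (nat_lit 9) (Steps.bwd (nat_lit 14) (Steps.bwd (nat_lit 11) (Steps.fwd (nat_lit 57344) (Steps.fwd (nat_lit 40960) (Steps.bwd (nat_lit 14) (Steps.bwd (nat_lit 11) Steps.nil))))))) (nat_lit 36) (nat_lit 0),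
  Rule.mk (nat_lit 5) (nat_lit 148) (Steps.bwd (nat_lit 3) (Steps.fwd (nat_lit 4096) (Steps.bwd (nat_lit 7) (Steps.fwd (nat_lit 40960) (Steps.bwd (nat_lit 8) (Steps.bwd (nat_lit 1) (Steps.fwd (nat_lit 8192) (Steps.bwd (nat_lit 1) (Steps.fwd (nat_lit 12288) Steps.nil))))))))) (nat_lit 46) (nat_lit 6),
  Rule.mk (nat_lit 7) (nat_lit 118) (Steps.bwd (nat_lit 9) (Steps.bwd (nat_lit 14) (Steps.bwd (nat_lit 12) (Steps.bwd (nat_lit 5) (Steps.bwd (nat_lit 3) (Steps.fwd (nat_lit 4096) (Steps.bwd (nat_lit 2) Steps.nil))))))) (nat_lit 33) (nat_lit 1),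
  Rule.mk (nat_lit 1) (nat_lit 343) (Steps.bwd (nat_lit 1) (Steps.bwd (nat_lit 1) (Steps.fwd (nat_lit 8192) (Steps.fwd (nat_lit 8192) (Steps.fwd (nat_lit 8192) (Steps.fwd (nat_lit 8192) (Steps.fwd (nat_lit 8192) (Steps.bwd (nat_lit 1) (Steps.fwd (nat_lit 8192) (Steps.fwd (nat_lit 8192) (Steps.fwd (nat_lit 8192) (Steps.fwd (nat_lit 8192) (Steps.fwd (nat_lit 8192) (Steps.bwd (nat_lit 1) (Steps.fwd (nat_lit 8192) (Steps.bwd (nat_lit 1) (Steps.fwd (nat_lit 8192) (Steps.fwd (nat_lit 8192) (Steps.fwd (nat_lit 8192) (Steps.fwd (nat_lit 8192) (Steps.bwd (nat_lit 1) (Steps.fwd (nat_lit 8192) Steps.nil)))))))))))))))))))))) (nat_lit 54) (nat_lit 0),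
  Rule.mk (nat_lit 7) (nat_lit 88) (Steps.fwd (nat_lit 8192) (Steps.fwd (nat_lit 12288) (Steps.fwd (nat_lit 36864) (Steps.fwd (nat_lit 20480) (Steps.bwd (nat_lit 1) Steps.nil))))) (nat_lit 22) (nat_lit 1),
  Rule.mk (nat_lit 12) (nat_lit 103) (Steps.fwd (nat_lit 53248) (Steps.bwd (nat_lit 6) (Steps.bwd (nat_lit 8) (Steps.fwd (nat_lit 36864) (Steps.fwd (nat_lit 12288) (Steps.bwd (nat_lit 1) Steps.nil)))))) (nat_lit 31) (nat_lit 0),
  Rule.mk (nat_lit 10) (nat_lit 118) (Steps.fwd (nat_lit 28672) (Steps.fwd (nat_lit 4096) (Steps.bwd (nat_lit 2) (Steps.fwd (nat_lit 32768) (Steps.fwd (nat_lit 4096) (Steps.fwd (nat_lit 24576) (Steps.bwd (nat_lit 1) Steps.nil))))))) (nat_lit 42) (nat_lit 3),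
  Rule.mk (nat_lit 7) (nat_lit 118) (Steps.fwd (nat_lit 40960) (Steps.bwd (nat_lit 2) (Steps.bwd (nat_lit 6) (Steps.fwd (nat_lit 8192) (Steps.bwd (nat_lit 8) (Steps.bwd (nat_lit 1) (Steps.bwd (nat_lit 1) Steps.nil))))))) (nat_lit 43) (nat_lit 5),
  Rule.mk (nat_lit 4) (nat_lit 148) (Steps.fwd (nat_lit 24576) (Steps.bwd (nat_lit 3) (Steps.fwd (nat_lit 4096) (Steps.fwd (nat_lit 32768) (Steps.fwd (nat_lit 40960) (Steps.bwd (nat_lit 8) (Steps.fwd (nat_lit 8192) (Steps.bwd (nat_lit 1) (Steps.bwd (nat_lit 1) Steps.nil))))))))) (nat_lit 46) (nat_lit 5),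
  Rule.mk (nat_lit 13) (nat_lit 148) (Steps.bwd (nat_lit 12) (Steps.bwd (nat_lit 13) (Steps.bwd (nat_lit 12) (Steps.fwd (nat_lit 57344) (Steps.fwd (nat_lit 45056) (Steps.bwd (nat_lit 13) (Steps.fwd (nat_lit 45056) (Steps.fwd (nat_lit 57344) (Steps.fwd (nat_lit 45056) Steps.nil))))))))) (nat_lit 50) (nat_lit 0),
  Rule.mk (nat_lit 1) (nat_lit 343) (Steps.bwd (nat_lit 1) (Steps.bwd (nat_lit 1) (Steps.bwd (nat_lit 1) (Steps.bwd (nat_lit 1) (Steps.bwd (nat_lit 1) (Steps.bwd (nat_lit 1) (Steps.fwd (nat_lit 8192) (Steps.fwd (nat_lit 8192) (Steps.bwd (nat_lit 1) (Steps.bwd (nat_lit 1) (Steps.bwd (nat_lit 1) (Steps.fwd (nat_lit 8192) (Steps.bwd (nat_lit 1) (Steps.fwd (nat_lit 8192) (Steps.bwd (nat_lit 1) (Steps.fwd (nat_lit 8192) (Steps.bwd (nat_lit 1) (Steps.fwd (nat_lit 8192) (Steps.bwd (nat_lit 1) (Steps.fwd (nat_lit 8192) (Steps.fwd (nat_lit 8192) (Steps.fwd (nat_lit 8192) Steps.nil)))))))))))))))))))))) (nat_lit 54)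 (nat_lit 0),
  Rule.mk (nat_lit 4) (nat_lit 88) (Steps.fwd (nat_lit 4096) (Steps.bwd (nat_lit 10) (Steps.bwd (nat_lit 7) (Steps.fwd (nat_lit 40960) (Steps.bwd (nat_lit 1) Steps.nil))))) (nat_lit 21) (nat_lit 5),
  Rule.mk (nat_lit 12) (nat_lit 103) (Steps.fwd (nat_lit 53248) (Steps.fwd (nat_lit 20480) (Steps.bwd (nat_lit 8) (Steps.bwd (nat_lit 10) (Steps.fwd (nat_lit 12288) (Steps.bwd (nat_lit 1) Steps.nil)))))) (nat_lit 31) (nat_lit 0),
  Rule.mk (nat_lit 10) (nat_lit 118) (Steps.fwd (nat_lit 28672) (Steps.bwd (nat_lit 2) (Steps.fwd (nat_lit 4096) (Steps.fwd (nat_lit 32768) (Steps.fwd (nat_lit 4096) (Steps.fwd (nat_lit 24576) (Steps.bwd (nat_lit 1) Steps.nil))))))) (nat_lit 42) (nat_lit 3),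
  Rule.mk (nat_lit 13) (nat_lit 118) (Steps.bwd (nat_lit 10) (Steps.fwd (nat_lit 28672) (Steps.fwd (nat_lit 8192) (Steps.fwd (nat_lit 8192) (Steps.fwd (nat_lit 12288) (Steps.fwd (nat_lit 20480) (Steps.fwd (nat_lit 49152) Steps.nil))))))) (nat_lit 32) (nat_lit 6),
  Rule.mk (nat_lit 14) (nat_lit 118) (Steps.bwd (nat_lit 10) (Steps.fwd (nat_lit 28672) (Steps.bwd (nat_lit 9) (Steps.fwd (nat_lit 53248) (Steps.bwd (nat_lit 10) (Steps.fwd (nat_lit 28672) (Steps.fwd (nat_lit 40960) Steps.nil))))))) (nat_lit 39) (nat_lit 0),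
  Rule.mk (nat_lit 2) (nat_lit 103) (Steps.fwd (nat_lit 12288) (Steps.fwd (nat_lit 32768) (Steps.bwd (nat_lit 1) (Steps.bwd (nat_lit 4) (Steps.fwd (nat_lit 4096) (Steps.bwd (nat_lit 2) Steps.nil)))))) (nat_lit 28) (nat_lit 4),
  Rule.mk (nat_lit 3) (nat_lit 103) (Steps.fwd (nat_lit 40960) (Steps.bwd (nat_lit 7) (Steps.bwd (nat_lit 5) (Steps.fwd (nat_lit 57344) (Steps.bwd (nat_lit 11) (Steps.bwd (nat_lit 2) Steps.nil)))))) (nat_lit 30) (nat_lit 3),
  Rule.mk (nat_lit 7) (nat_lit 118) (Steps.fwd (nat_lit 40960) (Steps.fwd (nat_lit 53248) (Steps.fwd (nat_lit 45056) (Steps.fwd (nat_lit 24576) (Steps.bwd (nat_lit 3) (Steps.fwd (nat_lit 4096) (Steps.bwd (nat_lit 2) Steps.nil))))))) (nat_lit 33) (nat_lit 1),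
  Rule.mk (nat_lit 13) (nat_lit 118) (Steps.bwd (nat_lit 7) (Steps.fwd (nat_lit 40960) (Steps.bwd (nat_lit 11) (Steps.fwd (nat_lit 57344) (Steps.fwd (nat_lit 32768) (Steps.fwd (nat_lit 40960) (Steps.fwd (nat_lit 49152) Steps.nil))))))) (nat_lit 41) (nat_lit 3),
  Rule.mk (nat_lit 12) (nat_lit 88) (Steps.fwd (nat_lit 40960) (Steps.fwd (nat_lit 49152) (Steps.fwd (nat_lit 53248) (Steps.bwd (nat_lit 12) (Steps.bwd (nat_lit 13) Steps.nil))))) (nat_lit 26) (nat_lit 2),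
  Rule.mk (nat_lit 1) (nat_lit 343) (Steps.bwd (nat_lit 1) (Steps.bwd (nat_lit 1) (Steps.bwd (nat_lit 1) (Steps.bwd (nat_lit 1) (Steps.bwd (nat_lit 1) (Steps.bwd (nat_lit 1) (Steps.bwd (nat_lit 1) (Steps.bwd (nat_lit 1) (Steps.bwd (nat_lit 1) (Steps.bwd (nat_lit 1) (Steps.bwd (nat_lit 1) (Steps.bwd (nat_lit 1) (Steps.bwd (nat_lit 1) (Steps.fwd (nat_lit 8192) (Steps.bwd (nat_lit 1) (Steps.bwd (nat_lit 1) (Steps.fwd (nat_lit 8192) (Steps.bwd (nat_lit 1) (Steps.fwd (nat_lit 8192) (Steps.fwd (nat_lit 8192) (Steps.fwd (nat_lit 8192) (Steps.fwd (nat_lit 8192) Steps.nil)))))))))))))))))))))) (nat_lit 54) (nat_lit 0),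
  Rule.mk (nat_lit 0) (nat_lit 88) (Steps.fwd (nat_lit 4096) (Steps.fwd (nat_lit 4096) (Steps.bwd (nat_lit 6) (Steps.fwd (nat_lit 12288) (Steps.bwd (nat_lit 7) Steps.nil))))) (nat_lit 14) (nat_lit 2),
  Rule.mk (nat_lit 12) (nat_lit 103) (Steps.bwd (nat_lit 14) (Steps.fwd (nat_lit 20480) (Steps.fwd (nat_lit 28672) (Steps.bwd (nat_lit 10) (Steps.bwd (nat_lit 4) (Steps.bwd (nat_lit 1) Steps.nil)))))) (nat_lit 31) (nat_lit 0),
  Rule.mk (nat_lit 13) (nat_lit 133) (Steps.bwd (nat_lit 12) (Steps.fwd (nat_lit 12288) (Steps.fwd (nat_lit 32768) (Steps.fwd (nat_lit 12288) (Steps.fwd (nat_lit 32768) (Steps.fwd (nat_lit 40960) (Steps.fwd (nat_lit 20480) (Steps.bwd (nat_lit 11) Steps.nil)))))))) (nat_lit 44) (nat_lit 8),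
  Rule.mk (nat_lit 0) (nat_lit 88) (Steps.fwd (nat_lit 4096) (Steps.bwd (nat_lit 2) (Steps.fwd (nat_lit 20480) (Steps.bwd (nat_lit 4) (Steps.fwd (nat_lit 32768) Steps.nil))))) (nat_lit 14) (nat_lit 2),
  Rule.mk (nat_lit 4) (nat_lit 103) (Steps.bwd (nat_lit 2) (Steps.fwd (nat_lit 4096) (Steps.bwd (nat_lit 2) (Steps.fwd (nat_lit 12288) (Steps.fwd (nat_lit 32768) (Steps.bwd (nat_lit 1) Steps.nil)))))) (nat_lit 28) (nat_lit 1),
  Rule.mk (nat_lit 11) (nat_lit 103) (Steps.bwd (nat_lit 2) (Steps.fwd (nat_lit 16384) (Steps.bwd (nat_lit 9) (Steps.bwd (nat_lit 7) (Steps.fwd (nat_lit 24576) (Steps.fwd (nat_lit 57344) Steps.nil)))))) (nat_lit 30) (nat_lit 1),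
  Rule.mk (nat_lit 7) (nat_lit 118) (Steps.bwd (nat_lit 2) (Steps.fwd (nat_lit 24576) (Steps.fwd (nat_lit 8192) (Steps.bwd (nat_lit 10) (Steps.bwd (nat_lit 8) (Steps.fwd (nat_lit 4096) (Steps.fwd (nat_lit 4096) Steps.nil))))))) (nat_lit 42) (nat_lit 7),
  Rule.mk (nat_lit 9) (nat_lit 118) (Steps.bwd (nat_lit 2) (Steps.fwd (nat_lit 20480) (Steps.bwd (nat_lit 1) (Steps.fwd (nat_lit 28672) (Steps.bwd (nat_lit 1) (Steps.fwd (nat_lit 8192) (Steps.fwd (nat_lit 32768) Steps.nil))))))) (nat_lit 43) (nat_lit 6),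
  Rule.mk (nat_lit 3) (nat_lit 148) (Steps.bwd (nat_lit 2) (Steps.fwd (nat_lit 4096) (Steps.bwd (nat_lit 2) (Steps.fwd (nat_lit 32768) (Steps.bwd (nat_lit 10) (Steps.fwd (nat_lit 28672) (Steps.bwd (nat_lit 1) (Steps.fwd (nat_lit 12288) (Steps.fwd (nat_lit 20480) Steps.nil))))))))) (nat_lit 47) (nat_lit 6),
  Rule.mk (nat_lit 11) (nat_lit 133) (Steps.fwd (nat_lit 53248) (Steps.fwd (nat_lit 45056) (Steps.bwd (nat_lit 5) (Steps.bwd (nat_lit 10) (Steps.bwd (nat_lit 8) (Steps.fwd (nat_lit 16384) (Steps.bwd (nat_lit 8) (Steps.bwd (nat_lit 3) Steps.nil)))))))) (nat_lit 45) (nat_lit 1),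
  Rule.mk (nat_lit 8) (nat_lit 133) (Steps.bwd (nat_lit 3) (Steps.fwd (nat_lit 49152) (Steps.bwd (nat_lit 14) (Steps.fwd (nat_lit 45056) (Steps.fwd (nat_lit 24576) (Steps.bwd (nat_lit 10) (Steps.bwd (nat_lit 8) (Steps.bwd (nat_lit 3) Steps.nil)))))))) (nat_lit 45) (nat_lit 8),
  Rule.mk (nat_lit 9) (nat_lit 148) (Steps.bwd (nat_lit 8) (Steps.fwd (nat_lit 8192) (Steps.fwd (nat_lit 8192) (Steps.bwd (nat_lit 1) (Steps.bwd (nat_lit 4) (Steps.fwd (nat_lit 24576) (Steps.fwd (nat_lit 16384) (Steps.bwd (nat_lit 2) (Steps.fwd (nat_lit 32768) Steps.nil))))))))) (nat_lit 46) (nat_lit 0),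
  Rule.mk (nat_lit 14) (nat_lit 118) (Steps.bwd (nat_lit 12) (Steps.bwd (nat_lit 5) (Steps.bwd (nat_lit 3) (Steps.fwd (nat_lit 4096) (Steps.bwd (nat_lit 2) (Steps.fwd (nat_lit 32768) (Steps.bwd (nat_lit 9) Steps.nil))))))) (nat_lit 33) (nat_lit 3),
  Rule.mk (nat_lit 13) (nat_lit 118) (Steps.fwd (nat_lit 36864) (Steps.fwd (nat_lit 32768) (Steps.fwd (nat_lit 40960) (Steps.fwd (nat_lit 57344) (Steps.fwd (nat_lit 36864) (Steps.fwd (nat_lit 32768) (Steps.bwd (nat_lit 9) Steps.nil))))))) (nat_lit 38) (nat_lit 1),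
  Rule.mk (nat_lit 9) (nat_lit 88) (Steps.bwd (nat_lit 3) (Steps.fwd (nat_lit 4096) (Steps.bwd (nat_lit 8) (Steps.fwd (nat_lit 4096) (Steps.fwd (nat_lit 24576) Steps.nil))))) (nat_lit 23) (nat_lit 3),
  Rule.mk (nat_lit 5) (nat_lit 118) (Steps.bwd (nat_lit 3) (Steps.fwd (nat_lit 4096) (Steps.bwd (nat_lit 2) (Steps.fwd (nat_lit 32768) (Steps.bwd (nat_lit 9) (Steps.bwd (nat_lit 14) (Steps.bwd (nat_lit 12) Steps.nil))))))) (nat_lit 33) (nat_lit 5),
  Rule.mk (nat_lit 10) (nat_lit 133) (Steps.fwd (nat_lit 28672) (Steps.bwd (nat_lit 3) (Steps.fwd (nat_lit 28672) (Steps.bwd (nat_lit 3) (Steps.fwd (nat_lit 49152) (Steps.bwd (nat_lit 14) (Steps.bwd (nat_lit 12) (Steps.fwd (nat_lit 24576) Steps.nil)))))))) (nat_lit 45) (nat_lit 5),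
  Rule.mk (nat_lit 5) (nat_lit 118) (Steps.bwd (nat_lit 3) (Steps.fwd (nat_lit 4096) (Steps.bwd (nat_lit 2) (Steps.bwd (nat_lit 7) (Steps.fwd (nat_lit 40960) (Steps.fwd (nat_lit 53248) (Steps.bwd (nat_lit 12) Steps.nil))))))) (nat_lit 33) (nat_lit 5),
  Rule.mk (nat_lit 8) (nat_lit 88) (Steps.fwd (nat_lit 4096) (Steps.bwd (nat_lit 5) (Steps.bwd (nat_lit 9) (Steps.bwd (nat_lit 3) (Steps.bwd (nat_lit 2) Steps.nil))))) (nat_lit 23) (nat_lit 0),
  Rule.mk (nat_lit 13) (nat_lit 118) (Steps.bwd (nat_lit 7) (Steps.bwd (nat_lit 9) (Steps.fwd (nat_lit 49152) (Steps.bwd (nat_lit 13) (Steps.fwd (nat_lit 32768) (Steps.fwd (nat_lit 40960) (Steps.fwd (nat_lit 49152) Steps.nil))))))) (nat_lit 41) (nat_lit 3),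
  Rule.mk (nat_lit 9) (nat_lit 88) (Steps.bwd (nat_lit 1) (Steps.bwd (nat_lit 4) (Steps.fwd (nat_lit 4096) (Steps.bwd (nat_lit 10) (Steps.bwd (nat_lit 7) Steps.nil))))) (nat_lit 21) (nat_lit 3),
  Rule.mk (nat_lit 5) (nat_lit 103) (Steps.bwd (nat_lit 13) (Steps.bwd (nat_lit 11) (Steps.fwd (nat_lit 4096) (Steps.bwd (nat_lit 3) (Steps.bwd (nat_lit 9) (Steps.bwd (nat_lit 7) Steps.nil)))))) (nat_lit 30) (nat_lit 6),
  Rule.mk (nat_lit 4) (nat_lit 133) (Steps.fwd (nat_lit 32768) (Steps.fwd (nat_lit 40960) (Steps.fwd (nat_lit 20480) (Steps.bwd (nat_lit 11) (Steps.bwd (nat_lit 13) (Steps.bwd (nat_lit 12) (Steps.fwd (nat_lit 12288) (Steps.bwd (nat_lit 7) Steps.nil)))))))) (nat_lit 44) (nat_lit 3),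
  Rule.mk (nat_lit 10) (nat_lit 148) (Steps.bwd (nat_lit 8) (Steps.bwd (nat_lit 1) (Steps.bwd (nat_lit 4) (Steps.fwd (nat_lit 20480) (Steps.fwd (nat_lit 16384) (Steps.fwd (nat_lit 4096) (Steps.fwd (nat_lit 4096) (Steps.bwd (nat_lit 2) (Steps.bwd (nat_lit 7) Steps.nil))))))))) (nat_lit 47) (nat_lit 1),
  Rule.mk (nat_lit 13) (nat_lit 118) (Steps.bwd (nat_lit 10) (Steps.bwd (nat_lit 8) (Steps.bwd (nat_lit 1) (Steps.fwd (nat_lit 8192) (Steps.fwd (nat_lit 12288) (Steps.bwd (nat_lit 6) (Steps.bwd (nat_lit 11) Steps.nil))))))) (nat_lit 32) (nat_lit 6),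
  Rule.mk (nat_lit 12) (nat_lit 88) (Steps.fwd (nat_lit 57344) (Steps.fwd (nat_lit 24576) (Steps.bwd (nat_lit 9) (Steps.fwd (nat_lit 20480) (Steps.bwd (nat_lit 14) Steps.nil))))) (nat_lit 24) (nat_lit 4),
  Rule.mk (nat_lit 14) (nat_lit 118) (Steps.bwd (nat_lit 11) (Steps.bwd (nat_lit 13) (Steps.fwd (nat_lit 40960) (Steps.fwd (nat_lit 53248) (Steps.bwd (nat_lit 11) (Steps.fwd (nat_lit 57344) (Steps.bwd (nat_lit 9) Steps.nil))))))) (nat_lit 36) (nat_lit 2),
  Rule.mk (nat_lit 6) (nat_lit 103) (Steps.bwd (nat_lit 8) (Steps.fwd (nat_lit 36864) (Steps.bwd (nat_lit 4) (Steps.fwd (nat_lit 8192) (Steps.bwd (nat_lit 12) (Steps.bwd (nat_lit 14) Steps.nil)))))) (nat_lit 31) (nat_lit 2),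
  Rule.mk (nat_lit 10) (nat_lit 118) (Steps.bwd (nat_lit 8) (Steps.bwd (nat_lit 9) (Steps.fwd (nat_lit 53248) (Steps.fwd (nat_lit 36864) (Steps.bwd (nat_lit 8) (Steps.bwd (nat_lit 9) (Steps.bwd (nat_lit 14) Steps.nil))))))) (nat_lit 39) (nat_lit 1),
  Rule.mk (nat_lit 8) (nat_lit 103) (Steps.bwd (nat_lit 10) (Steps.fwd (nat_lit 12288) (Steps.fwd (nat_lit 8192) (Steps.bwd (nat_lit 12) (Steps.fwd (nat_lit 53248) (Steps.fwd (nat_lit 20480) Steps.nil)))))) (nat_lit 31) (nat_lit 3),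
  Rule.mk (nat_lit 1) (nat_lit 118) (Steps.bwd (nat_lit 10) (Steps.bwd (nat_lit 8) (Steps.bwd (nat_lit 2) (Steps.fwd (nat_lit 4096) (Steps.bwd (nat_lit 7) (Steps.bwd (nat_lit 2) (Steps.fwd (nat_lit 24576) Steps.nil))))))) (nat_lit 42) (nat_lit 2),
  Rule.mk (nat_lit 7) (nat_lit 148) (Steps.bwd (nat_lit 10) (Steps.bwd (nat_lit 8) (Steps.bwd (nat_lit 1) (Steps.bwd (nat_lit 4) (Steps.fwd (nat_lit 20480) (Steps.fwd (nat_lit 16384) (Steps.fwd (nat_lit 4096) (Steps.bwd (nat_lit 2) (Steps.fwd (nat_lit 4096) Steps.nil))))))))) (nat_lit 47) (nat_lit 0),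
  Rule.mk (nat_lit 5) (nat_lit 103) (Steps.fwd (nat_lit 57344) (Steps.fwd (nat_lit 49152) (Steps.fwd (nat_lit 4096) (Steps.fwd (nat_lit 16384) (Steps.bwd (nat_lit 9) (Steps.bwd (nat_lit 7) Steps.nil)))))) (nat_lit 30) (nat_lit 6),
  Rule.mk (nat_lit 1) (nat_lit 103) (Steps.fwd (nat_lit 45056) (Steps.fwd (nat_lit 53248) (Steps.fwd (nat_lit 20480) (Steps.fwd (nat_lit 28672) (Steps.fwd (nat_lit 36864) (Steps.bwd (nat_lit 4) Steps.nil)))))) (nat_lit 31) (nat_lit 6),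
  Rule.mk (nat_lit 6) (nat_lit 118) (Steps.bwd (nat_lit 11) (Steps.bwd (nat_lit 13) (Steps.fwd (nat_lit 36864) (Steps.bwd (nat_lit 8) (Steps.fwd (nat_lit 8192) (Steps.bwd (nat_lit 1) (Steps.bwd (nat_lit 4) Steps.nil))))))) (nat_lit 32) (nat_lit 4)]
noncomputable def R_75 : List (Rule) := [Rule.mk (nat_lit 5) (nat_lit 148) (Steps.fwd (nat_lit 16384) (Steps.fwd (nat_lit 4096) (Steps.fwd (nat_lit 32768) (Steps.fwd (nat_lit 40960) (Steps.bwd (nat_lit 8) (Steps.fwd (nat_lit 8192) (Steps.fwd (nat_lit 8192) (Steps.bwd (nat_lit 1) (Steps.bwd (nat_lit 4) Steps.nil))))))))) (nat_lit 46) (nat_lit 6),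
  Rule.mk (nat_lit 12) (nat_lit 118) (Steps.bwd (nat_lit 5) (Steps.fwd (nat_lit 16384) (Steps.fwd (nat_lit 4096) (Steps.fwd (nat_lit 4096) (Steps.fwd (nat_lit 32768) (Steps.bwd (nat_lit 9) (Steps.fwd (nat_lit 53248) Steps.nil))))))) (nat_lit 33) (nat_lit 4),
  Rule.mk (nat_lit 8) (nat_lit 148) (Steps.bwd (nat_lit 9) (Steps.fwd (nat_lit 28672) (Steps.fwd (nat_lit 40960) (Steps.fwd (nat_lit 28672) (Steps.bwd (nat_lit 9) (Steps.fwd (nat_lit 28672) (Steps.fwd (nat_lit 40960) (Steps.fwd (nat_lit 28672) (Steps.bwd (nat_lit 9) Steps.nil))))))))) (nat_lit 48) (nat_lit 1),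
  Rule.mk (nat_lit 10) (nat_lit 103) (Steps.fwd (nat_lit 12288) (Steps.bwd (nat_lit 1) (Steps.bwd (nat_lit 12) (Steps.fwd (nat_lit 53248) (Steps.fwd (nat_lit 20480) (Steps.bwd (nat_lit 8) Steps.nil)))))) (nat_lit 31) (nat_lit 4),
  Rule.mk (nat_lit 1) (nat_lit 118) (Steps.fwd (nat_lit 8192) (Steps.bwd (nat_lit 4) (Steps.fwd (nat_lit 20480) (Steps.bwd (nat_lit 11) (Steps.bwd (nat_lit 13) (Steps.bwd (nat_lit 10) (Steps.bwd (nat_lit 8) Steps.nil))))))) (nat_lit 32) (nat_lit 1),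
  Rule.mk (nat_lit 14) (nat_lit 118) (Steps.fwd (nat_lit 45056) (Steps.fwd (nat_lit 36864) (Steps.bwd (nat_lit 8) (Steps.bwd (nat_lit 14) (Steps.bwd (nat_lit 12) (Steps.bwd (nat_lit 10) (Steps.bwd (nat_lit 8) Steps.nil))))))) (nat_lit 40) (nat_lit 2),
  Rule.mk (nat_lit 11) (nat_lit 88) (Steps.bwd (nat_lit 14) (Steps.fwd (nat_lit 45056) (Steps.fwd (nat_lit 57344) (Steps.fwd (nat_lit 45056) (Steps.fwd (nat_lit 40960) Steps.nil))))) (nat_lit 26) (nat_lit 4),
  Rule.mk (nat_lit 13) (nat_lit 148) (Steps.bwd (nat_lit 12) (Steps.fwd (nat_lit 57344) (Steps.fwd (nat_lit 45056) (Steps.fwd (nat_lit 57344) (Steps.bwd (nat_lit 12) (Steps.fwd (nat_lit 57344) (Steps.fwd (nat_lit 45056) (Steps.bwd (nat_lit 13) (Steps.bwd (nat_lit 12) Steps.nil))))))))) (nat_lit 50) (nat_lit 0),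
  Rule.mk (nat_lit 1) (nat_lit 118) (Steps.bwd (nat_lit 10) (Steps.bwd (nat_lit 8) (Steps.fwd (nat_lit 4096) (Steps.bwd (nat_lit 2) (Steps.bwd (nat_lit 7) (Steps.bwd (nat_lit 2) (Steps.bwd (nat_lit 5) Steps.nil))))))) (nat_lit 42) (nat_lit 2),
  Rule.mk (nat_lit 7) (nat_lit 148) (Steps.bwd (nat_lit 10) (Steps.bwd (nat_lit 8) (Steps.fwd (nat_lit 8192) (Steps.bwd (nat_lit 4) (Steps.fwd (nat_lit 20480) (Steps.fwd (nat_lit 16384) (Steps.bwd (nat_lit 2) (Steps.fwd (nat_lit 4096) (Steps.fwd (nat_lit 4096) Steps.nil))))))))) (nat_lit 47) (nat_lit 0),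
  Rule.mk (nat_lit 13) (nat_lit 148) (Steps.bwd (nat_lit 12) (Steps.fwd (nat_lit 57344) (Steps.bwd (nat_lit 12) (Steps.bwd (nat_lit 13) (Steps.fwd (nat_lit 45056) (Steps.bwd (nat_lit 13) (Steps.fwd (nat_lit 45056) (Steps.bwd (nat_lit 13) (Steps.bwd (nat_lit 12) Steps.nil))))))))) (nat_lit 50) (nat_lit 0),
  Rule.mk (nat_lit 11) (nat_lit 103) (Steps.bwd (nat_lit 2) (Steps.bwd (nat_lit 3) (Steps.fwd (nat_lit 40960) (Steps.fwd (nat_lit 32768) (Steps.fwd (nat_lit 24576) (Steps.bwd (nat_lit 13) Steps.nil)))))) (nat_lit 30) (nat_lit 1),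
  Rule.mk (nat_lit 7) (nat_lit 118) (Steps.fwd (nat_lit 40960) (Steps.bwd (nat_lit 13) (Steps.fwd (nat_lit 36864) (Steps.bwd (nat_lit 7) (Steps.fwd (nat_lit 40960) (Steps.bwd (nat_lit 13) (Steps.fwd (nat_lit 36864) Steps.nil))))))) (nat_lit 38) (nat_lit 3),
  Rule.mk (nat_lit 2) (nat_lit 88) (Steps.fwd (nat_lit 36864) (Steps.bwd (nat_lit 7) (Steps.fwd (nat_lit 40960) (Steps.bwd (nat_lit 1) (Steps.fwd (nat_lit 12288) Steps.nil))))) (nat_lit 21) (nat_lit 0),
  Rule.mk (nat_lit 1) (nat_lit 343) (Steps.bwd (nat_lit 1) (Steps.bwd (nat_lit 1) (Steps.fwd (nat_lit 8192) (Steps.fwd (nat_lit 8192) (Steps.fwd (nat_lit 8192) (Steps.bwd (nat_lit 1) (Steps.fwd (nat_lit 8192) (Steps.fwd (nat_lit 8192) (Steps.bwd (nat_lit 1) (Steps.fwd (nat_lit 8192) (Steps.bwd (nat_lit 1) (Steps.fwd (nat_lit 8192) (Steps.bwd (nat_lit 1) (Steps.bwd (nat_lit 1) (Steps.bwd (nat_lit 1) (Steps.fwd (nat_lit 8192) (Steps.fwd (nat_lit 8192) (Steps.fwd (nat_lit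 8192) (Steps.fwd (nat_lit 8192) (Steps.bwd (nat_lit 1) (Steps.bwd (nat_lit 1) (Steps.bwd (nat_lit 1) Steps.nil)))))))))))))))))))))) (nat_lit 54) (nat_lit 0),
  Rule.mk (nat_lit 12) (nat_lit 103) (Steps.fwd (nat_lit 53248) (Steps.fwd (nat_lit 20480) (Steps.fwd (nat_lit 28672) (Steps.fwd (nat_lit 36864) (Steps.fwd (nat_lit 12288) (Steps.bwd (nat_lit 1) Steps.nil)))))) (nat_lit 31) (nat_lit 0),
  Rule.mk (nat_lit 10) (nat_lit 118) (Steps.bwd (nat_lit 8) (Steps.bwd (nat_lit 2) (Steps.fwd (nat_lit 4096) (Steps.bwd (nat_lit 7) (Steps.fwd (nat_lit 4096) (Steps.bwd (nat_lit 5) (Steps.bwd (nat_lit 1) Steps.nil))))))) (nat_lit 42) (nat_lit 3),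
  Rule.mk (nat_lit 13) (nat_lit 118) (Steps.bwd (nat_lit 10) (Steps.bwd (nat_lit 8) (Steps.fwd (nat_lit 8192) (Steps.fwd (nat_lit 8192) (Steps.bwd (nat_lit 4) (Steps.bwd (nat_lit 6) (Steps.fwd (nat_lit 49152) Steps.nil))))))) (nat_lit 32) (nat_lit 6),
  Rule.mk (nat_lit 1) (nat_lit 103) (Steps.fwd (nat_lit 45056) (Steps.fwd (nat_lit 53248) (Steps.bwd (nat_lit 6) (Steps.bwd (nat_lit 8) (Steps.fwd (nat_lit 36864) (Steps.bwd (nat_lit 4) Steps.nil)))))) (nat_lit 31) (nat_lit 6),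
  Rule.mk (nat_lit 6) (nat_lit 148) (Steps.fwd (nat_lit 16384) (Steps.bwd (nat_lit 2) (Steps.fwd (nat_lit 4096) (Steps.bwd (nat_lit 2) (Steps.bwd (nat_lit 7) (Steps.bwd (nat_lit 10) (Steps.bwd (nat_lit 8) (Steps.bwd (nat_lit 1) (Steps.bwd (nat_lit 4) Steps.nil))))))))) (nat_lit 47) (nat_lit 5),
  Rule.mk (nat_lit 7) (nat_lit 88) (Steps.fwd (nat_lit 8192) (Steps.fwd (nat_lit 12288) (Steps.bwd (nat_lit 10) (Steps.bwd (nat_lit 6) (Steps.bwd (nat_lit 1) Steps.nil))))) (nat_lit 22) (nat_lit 1),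
  Rule.mk (nat_lit 12) (nat_lit 103) (Steps.fwd (nat_lit 53248) (Steps.bwd (nat_lit 6) (Steps.fwd (nat_lit 28672) (Steps.bwd (nat_lit 10) (Steps.bwd (nat_lit 4) (Steps.bwd (nat_lit 1) Steps.nil)))))) (nat_lit 31) (nat_lit 0),
  Rule.mk (nat_lit 13) (nat_lit 118) (Steps.bwd (nat_lit 10) (Steps.bwd (nat_lit 8) (Steps.fwd (nat_lit 8192) (Steps.fwd (nat_lit 8192) (Steps.bwd (nat_lit 4) (Steps.fwd (nat_lit 20480) (Steps.fwd (nat_lit 49152) Steps.nil))))))) (nat_lit 32) (nat_lit 6),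
  Rule.mk (nat_lit 14) (nat_lit 118) (Steps.bwd (nat_lit 10) (Steps.bwd (nat_lit 8) (Steps.bwd (nat_lit 9) (Steps.fwd (nat_lit 53248) (Steps.fwd (nat_lit 36864) (Steps.bwd (nat_lit 8) (Steps.bwd (nat_lit 9) Steps.nil))))))) (nat_lit 39) (nat_lit 0),
  Rule.mk (nat_lit 6) (nat_lit 103) (Steps.bwd (nat_lit 8) (Steps.bwd (nat_lit 10) (Steps.fwd (nat_lit 12288) (Steps.fwd (nat_lit 8192) (Steps.bwd (nat_lit 12) (Steps.bwd (nat_lit 14) Steps.nil)))))) (nat_lit 31) (nat_lit 2),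
  Rule.mk (nat_lit 10) (nat_lit 118) (Steps.fwd (nat_lit 28672) (Steps.fwd (nat_lit 40960) (Steps.bwd (nat_lit 14) (Steps.bwd (nat_lit 10) (Steps.fwd (nat_lit 28672) (Steps.fwd (nat_lit 40960) (Steps.bwd (nat_lit 14) Steps.nil))))))) (nat_lit 39) (nat_lit 1),
  Rule.mk (nat_lit 7) (nat_lit 148) (Steps.bwd (nat_lit 10) (Steps.fwd (nat_lit 28672) (Steps.fwd (nat_lit 8192) (Steps.fwd (nat_lit 12288) (Steps.bwd (nat_lit 6) (Steps.fwd (nat_lit 16384) (Steps.fwd (nat_lit 4096) (Steps.fwd (nat_lit 4096) (Steps.fwd (nat_lit 4096) Steps.nil))))))))) (nat_lit 47) (nat_lit 0),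
  Rule.mk (nat_lit 5) (nat_lit 103) (Steps.fwd (nat_lit 57344) (Steps.bwd (nat_lit 11) (Steps.fwd (nat_lit 4096) (Steps.fwd (nat_lit 16384) (Steps.fwd (nat_lit 40960) (Steps.bwd (nat_lit 7) Steps.nil)))))) (nat_lit 30) (nat_lit 6),
  Rule.mk (nat_lit 12) (nat_lit 148) (Steps.bwd (nat_lit 13) (Steps.bwd (nat_lit 12) (Steps.bwd (nat_lit 13) (Steps.fwd (nat_lit 45056) (Steps.bwd (nat_lit 13) (Steps.fwd (nat_lit 45056) (Steps.bwd (nat_lit 13) (Steps.fwd (nat_lit 45056) (Steps.bwd (nat_lit 13) Steps.nil))))))))) (nat_lit 50) (nat_lit 1),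
  Rule.mk (nat_lit 4) (nat_lit 133) (Steps.bwd (nat_lit 7) (Steps.bwd (nat_lit 4) (Steps.fwd (nat_lit 32768) (Steps.fwd (nat_lit 40960) (Steps.fwd (nat_lit 20480) (Steps.fwd (nat_lit 49152) (Steps.bwd (nat_lit 13) (Steps.bwd (nat_lit 12) Steps.nil)))))))) (nat_lit 44) (nat_lit 1),
  Rule.mk (nat_lit 7) (nat_lit 133) (Steps.bwd (nat_lit 4) (Steps.bwd (nat_lit 7) (Steps.fwd (nat_lit 40960) (Steps.fwd (nat_lit 20480) (Steps.bwd (nat_lit 11) (Steps.fwd (nat_lit 57344) (Steps.fwd (nat_lit 45056) (Steps.bwd (nat_lit 4) Steps.nil)))))))) (nat_lit 44) (nat_lit 2),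
  Rule.mk (nat_lit 2) (nat_lit 118) (Steps.bwd (nat_lit 7) (Steps.bwd (nat_lit 2) (Steps.bwd (nat_lit 5) (Steps.fwd (nat_lit 8192) (Steps.bwd (nat_lit 10) (Steps.bwd (nat_lit 8) (Steps.bwd (nat_lit 2) Steps.nil))))))) (nat_lit 42) (nat_lit 6),
  Rule.mk (nat_lit 4) (nat_lit 103) (Steps.bwd (nat_lit 7) (Steps.bwd (nat_lit 1) (Steps.fwd (nat_lit 12288) (Steps.fwd (nat_lit 4096) (Steps.bwd (nat_lit 2) (Steps.bwd (nat_lit 2) Steps.nil)))))) (nat_lit 28) (nat_lit 5),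
  Rule.mk (nat_lit 5) (nat_lit 118) (Steps.fwd (nat_lit 8192) (Steps.bwd (nat_lit 10) (Steps.bwd (nat_lit 8) (Steps.bwd (nat_lit 2) (Steps.bwd (nat_lit 2) (Steps.bwd (nat_lit 7) (Steps.bwd (nat_lit 2) Steps.nil))))))) (nat_lit 42) (nat_lit 1),
  Rule.mk (nat_lit 12) (nat_lit 118) (Steps.bwd (nat_lit 5) (Steps.fwd (nat_lit 16384) (Steps.bwd (nat_lit 2) (Steps.bwd (nat_lit 2) (Steps.bwd (nat_lit 7) (Steps.bwd (nat_lit 9) (Steps.bwd (nat_lit 14) Steps.nil))))))) (nat_lit 33) (nat_lit 4),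
  Rule.mk (nat_lit 5) (nat_lit 148) (Steps.bwd (nat_lit 3) (Steps.fwd (nat_lit 4096) (Steps.fwd (nat_lit 32768) (Steps.bwd (nat_lit 9) (Steps.bwd (nat_lit 8) (Steps.fwd (nat_lit 8192) (Steps.fwd (nat_lit 8192) (Steps.fwd (nat_lit 8192) (Steps.fwd (nat_lit 12288) Steps.nil))))))))) (nat_lit 46) (nat_lit 6),
  Rule.mk (nat_lit 13) (nat_lit 118) (Steps.bwd (nat_lit 10) (Steps.fwd (nat_lit 28672) (Steps.bwd (nat_lit 1) (Steps.bwd (nat_lit 1) (Steps.bwd (nat_lit 4) (Steps.fwd (nat_lit 20480) (Steps.fwd (nat_lit 49152) Steps.nil))))))) (nat_lit 32) (nat_lit 6),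
  Rule.mk (nat_lit 9) (nat_lit 118) (Steps.bwd (nat_lit 14) (Steps.bwd (nat_lit 11) (Steps.fwd (nat_lit 57344) (Steps.fwd (nat_lit 40960) (Steps.fwd (nat_lit 53248) (Steps.fwd (nat_lit 49152) (Steps.bwd (nat_lit 13) Steps.nil))))))) (nat_lit 36) (nat_lit 1),
  Rule.mk (nat_lit 7) (nat_lit 118) (Steps.fwd (nat_lit 40960) (Steps.fwd (nat_lit 49152) (Steps.bwd (nat_lit 13) (Steps.fwd (nat_lit 32768) (Steps.bwd (nat_lit 9) (Steps.fwd (nat_lit 49152) (Steps.bwd (nat_lit 13) Steps.nil))))))) (nat_lit 41) (nat_lit 0),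
  Rule.mk (nat_lit 2) (nat_lit 118) (Steps.bwd (nat_lit 7) (Steps.fwd (nat_lit 40960) (Steps.bwd (nat_lit 14) (Steps.bwd (nat_lit 12) (Steps.fwd (nat_lit 24576) (Steps.bwd (nat_lit 3) (Steps.bwd (nat_lit 2) Steps.nil))))))) (nat_lit 33) (nat_lit 0),
  Rule.mk (nat_lit 1) (nat_lit 343) (Steps.bwd (nat_lit 1) (Steps.fwd (nat_lit 8192) (Steps.fwd (nat_lit 8192) (Steps.fwd (nat_lit 8192) (Steps.fwd (nat_lit 8192) (Steps.fwd (nat_lit 8192) (Steps.bwd (nat_lit 1) (Steps.bwd (nat_lit 1) (Steps.fwd (nat_lit 8192) (Steps.bwd (nat_lit 1) (Steps.bwd (nat_lit 1) (Steps.bwd (nat_lit 1) (Steps.bwd (nat_lit 1) (Steps.bwd (nat_lit 1) (Steps.bwd (nat_lit 1) (Steps.bwd (nat_lit 1) (Steps.fwd (nat_lit 8192) (Steps.fwd (nat_lit 8192) (Steps.fwd (nat_lit 8192) (Steps.fwd (nat_lit 8192) (Steps.bwd (nat_lit 1) (Steps.fwd (nat_lit 8192) Steps.nil)))))))))))))))))))))) (nat_lit 54) (nat_lit 0),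
  Rule.mk (nat_lit 12) (nat_lit 103) (Steps.fwd (nat_lit 53248) (Steps.bwd (nat_lit 6) (Steps.fwd (nat_lit 28672) (Steps.fwd (nat_lit 36864) (Steps.fwd (nat_lit 12288) (Steps.bwd (nat_lit 1) Steps.nil)))))) (nat_lit 31) (nat_lit 0),
  Rule.mk (nat_lit 13) (nat_lit 88) (Steps.bwd (nat_lit 12) (Steps.bwd (nat_lit 9) (Steps.fwd (nat_lit 49152) (Steps.fwd (nat_lit 53248) (Steps.fwd (nat_lit 45056) Steps.nil))))) (nat_lit 26) (nat_lit 1),
  Rule.mk (nat_lit 3) (nat_lit 88) (Steps.fwd (nat_lit 4096) (Steps.fwd (nat_lit 28672) (Steps.bwd (nat_lit 2) (Steps.fwd (nat_lit 24576) (Steps.bwd (nat_lit 9) Steps.nil))))) (nat_lit 23) (nat_lit 4),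
  Rule.mk (nat_lit 7) (nat_lit 103) (Steps.bwd (nat_lit 5) (Steps.bwd (nat_lit 13) (Steps.fwd (nat_lit 49152) (Steps.bwd (nat_lit 2) (Steps.fwd (nat_lit 16384) (Steps.bwd (nat_lit 9) Steps.nil)))))) (nat_lit 30) (nat_lit 5),
  Rule.mk (nat_lit 14) (nat_lit 118) (Steps.bwd (nat_lit 12) (Steps.fwd (nat_lit 24576) (Steps.fwd (nat_lit 16384) (Steps.bwd (nat_lit 2) (Steps.fwd (nat_lit 4096) (Steps.fwd (nat_lit 32768) (Steps.bwd (nat_lit 9) Steps.nil))))))) (nat_lit 33) (nat_lit 3),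
  Rule.mk (nat_lit 13) (nat_lit 118) (Steps.fwd (nat_lit 36864) (Steps.fwd (nat_lit 32768) (Steps.bwd (nat_lit 9) (Steps.fwd (nat_lit 57344) (Steps.bwd (nat_lit 10) (Steps.fwd (nat_lit 32768) (Steps.bwd (nat_lit 9) Steps.nil))))))) (nat_lit 38) (nat_lit 1),
  Rule.mk (nat_lit 2) (nat_lit 118) (Steps.fwd (nat_lit 20480) (Steps.bwd (nat_lit 1) (Steps.bwd (nat_lit 8) (Steps.fwd (nat_lit 8192) (Steps.bwd (nat_lit 1) (Steps.fwd (nat_lit 32768) (Steps.bwd (nat_lit 9) Steps.nil))))))) (nat_lit 43) (nat_lit 7),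
  Rule.mk (nat_lit 8) (nat_lit 148) (Steps.bwd (nat_lit 1) (Steps.bwd (nat_lit 1) (Steps.bwd (nat_lit 1) (Steps.bwd (nat_lit 4) (Steps.bwd (nat_lit 5) (Steps.bwd (nat_lit 3) (Steps.fwd (nat_lit 4096) (Steps.fwd (nat_lit 32768) (Steps.bwd (nat_lit 9) Steps.nil))))))))) (nat_lit 46) (nat_lit 1),
  Rule.mk (nat_lit 3) (nat_lit 133) (Steps.bwd (nat_lit 8) (Steps.fwd (nat_lit 16384) (Steps.bwd (nat_lit 11) (Steps.bwd (nat_lit 14) (Steps.fwd (nat_lit 45056) (Steps.bwd (nat_lit 5) (Steps.fwd (nat_lit 36864) (Steps.bwd (nat_lit 8) Steps.nil)))))))) (nat_lit 45) (nat_lit 7),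
  Rule.mk (nat_lit 1) (nat_lit 343) (Steps.bwd (nat_lit 1) (Steps.fwd (nat_lit 8192) (Steps.fwd (nat_lit 8192) (Steps.fwd (nat_lit 8192) (Steps.bwd (nat_lit 1) (Steps.fwd (nat_lit 8192) (Steps.bwd (nat_lit 1) (Steps.fwd (nat_lit 8192) (Steps.fwd (nat_lit 8192) (Steps.bwd (nat_lit 1) (Steps.fwd (nat_lit 8192) (Steps.fwd (nat_lit 8192) (Steps.bwd (nat_lit 1) (Steps.bwd (nat_lit 1) (Steps.fwd (nat_lit 8192) (Steps.bwd (nat_lit 1) (Steps.fwd (nat_lit 8192) (Steps.fwd (nat_lit 8192) (Steps.bwd (nat_lit 1) (Steps.bwd (nat_lit 1) (Steps.fwd (nat_lit 8192) (Steps.fwd (nat_lit 8192) Steps.nil)))))))))))))))))))))) (nat_lit 54) (nat_lit 0),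
  Rule.mk (nat_lit 10) (nat_lit 118) (Steps.fwd (nat_lit 28672) (Steps.bwd (nat_lit 2) (Steps.fwd (nat_lit 4096) (Steps.fwd (nat_lit 32768) (Steps.bwd (nat_lit 2) (Steps.fwd (nat_lit 24576) (Steps.bwd (nat_lit 1) Steps.nil))))))) (nat_lit 42) (nat_lit 3),
  Rule.mk (nat_lit 2) (nat_lit 118) (Steps.bwd (nat_lit 7) (Steps.fwd (nat_lit 4096) (Steps.fwd (nat_lit 24576) (Steps.fwd (nat_lit 8192) (Steps.bwd (nat_lit 10) (Steps.fwd (nat_lit 28672) (Steps.fwd (nat_lit 4096) Steps.nil))))))) (nat_lit 42) (nat_lit 6),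
  Rule.mk (nat_lit 3) (nat_lit 103) (Steps.fwd (nat_lit 40960) (Steps.bwd (nat_lit 7) (Steps.bwd (nat_lit 5) (Steps.bwd (nat_lit 13) (Steps.bwd (nat_lit 11) (Steps.bwd (nat_lit 2) Steps.nil)))))) (nat_lit 30) (nat_lit 3),
  Rule.mk (nat_lit 11) (nat_lit 103) (Steps.fwd (nat_lit 4096) (Steps.bwd (nat_lit 3) (Steps.bwd (nat_lit 9) (Steps.fwd (nat_lit 32768) (Steps.bwd (nat_lit 5) (Steps.bwd (nat_lit 13) Steps.nil)))))) (nat_lit 30) (nat_lit 1),
  Rule.mk (nat_lit 9) (nat_lit 118) (Steps.fwd (nat_lit 53248) (Steps.fwd (nat_lit 49152) (Steps.bwd (nat_lit 13) (Steps.fwd (nat_lit 40960) (Steps.bwd (nat_lit 14) (Steps.fwd (nat_lit 49152) (Steps.bwd (nat_lit 13) Steps.nil))))))) (nat_lit 36) (nat_lit 1),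
  Rule.mk (nat_lit 1) (nat_lit 343) (Steps.bwd (nat_lit 1) (Steps.fwd (nat_lit 8192) (Steps.fwd (nat_lit 8192) (Steps.fwd (nat_lit 8192) (Steps.bwd (nat_lit 1) (Steps.fwd (nat_lit 8192) (Steps.fwd (nat_lit 8192) (Steps.bwd (nat_lit 1) (Steps.bwd (nat_lit 1) (Steps.fwd (nat_lit 8192) (Steps.fwd (nat_lit 8192) (Steps.fwd (nat_lit 8192) (Steps.fwd (nat_lit 8192) (Steps.fwd (nat_lit 8192) (Steps.fwd (nat_lit 8192) (Steps.fwd (nat_lit 8192) (Steps.fwd (nat_lit 8192) (Steps.fwd (nat_lit 8192) (Steps.bwd (nat_lit 1) (Steps.bwd (nat_lit 1) (Steps.fwd (nat_lit 8192) (Steps.fwd (nat_lit 8192) Steps.nil)))))))))))))))))))))) (nat_lit 54) (nat_lit 0),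
  Rule.mk (nat_lit 4) (nat_lit 88) (Steps.fwd (nat_lit 4096) (Steps.bwd (nat_lit 10) (Steps.fwd (nat_lit 32768) (Steps.fwd (nat_lit 40960) (Steps.bwd (nat_lit 1) Steps.nil))))) (nat_lit 21) (nat_lit 5),
  Rule.mk (nat_lit 10) (nat_lit 118) (Steps.bwd (nat_lit 8) (Steps.fwd (nat_lit 4096) (Steps.fwd (nat_lit 4096) (Steps.bwd (nat_lit 7) (Steps.bwd (nat_lit 2) (Steps.bwd (nat_lit 5) (Steps.bwd (nat_lit 1) Steps.nil))))))) (nat_lit 42) (nat_lit 3),
  Rule.mk (nat_lit 13) (nat_lit 118) (Steps.bwd (nat_lit 10) (Steps.bwd (nat_lit 8) (Steps.bwd (nat_lit 1) (Steps.fwd (nat_lit 8192) (Steps.bwd (nat_lit 4) (Steps.fwd (nat_lit 20480) (Steps.fwd (nat_lit 49152) Steps.nil))))))) (nat_lit 32) (nat_lit 6),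
  Rule.mk (nat_lit 14) (nat_lit 118) (Steps.bwd (nat_lit 10) (Steps.bwd (nat_lit 8) (Steps.fwd (nat_lit 40960) (Steps.fwd (nat_lit 53248) (Steps.fwd (nat_lit 36864) (Steps.fwd (nat_lit 28672) (Steps.bwd (nat_lit 9) Steps.nil))))))) (nat_lit 39) (nat_lit 0),
  Rule.mk (nat_lit 5) (nat_lit 73) (Steps.fwd (nat_lit 45056) (Steps.fwd (nat_lit 32768) (Steps.bwd (nat_lit 3) (Steps.bwd (nat_lit 13) Steps.nil)))) (nat_lit 17) (nat_lit 2),
  Rule.mk (nat_lit 2) (nat_lit 103) (Steps.bwd (nat_lit 2) (Steps.bwd (nat_lit 2) (Steps.fwd (nat_lit 12288) (Steps.fwd (nat_lit 32768) (Steps.fwd (nat_lit 8192) (Steps.fwd (nat_lit 12288) Steps.nil)))))) (nat_lit 28) (nat_lit 2),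
  Rule.mk (nat_lit 7) (nat_lit 118) (Steps.fwd (nat_lit 40960) (Steps.bwd (nat_lit 14) (Steps.bwd (nat_lit 12) (Steps.bwd (nat_lit 5) (Steps.fwd (nat_lit 16384) (Steps.bwd (nat_lit 2) (Steps.bwd (nat_lit 2) Steps.nil))))))) (nat_lit 33) (nat_lit 1)]
noncomputable def R_76 : List (Rule) := [Rule.mk (nat_lit 11) (nat_lit 133) (Steps.bwd (nat_lit 14) (Steps.bwd (nat_lit 12) (Steps.bwd (nat_lit 5) (Steps.fwd (nat_lit 36864) (Steps.bwd (nat_lit 8) (Steps.fwd (nat_lit 16384) (Steps.bwd (nat_lit 8) (Steps.bwd (nat_lit 3) Steps.nil)))))))) (nat_lit 45) (nat_lit 1),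
  Rule.mk (nat_lit 13) (nat_lit 103) (Steps.bwd (nat_lit 11) (Steps.bwd (nat_lit 2) (Steps.bwd (nat_lit 3) (Steps.bwd (nat_lit 9) (Steps.fwd (nat_lit 32768) (Steps.bwd (nat_lit 5) Steps.nil)))))) (nat_lit 30) (nat_lit 0),
  Rule.mk (nat_lit 8) (nat_lit 148) (Steps.fwd (nat_lit 8192) (Steps.bwd (nat_lit 1) (Steps.fwd (nat_lit 8192) (Steps.bwd (nat_lit 4) (Steps.fwd (nat_lit 24576) (Steps.bwd (nat_lit 3) (Steps.bwd (nat_lit 2) (Steps.bwd (nat_lit 7) (Steps.bwd (nat_lit 9) Steps.nil))))))))) (nat_lit 46) (nat_lit 1),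
  Rule.mk (nat_lit 1) (nat_lit 343) (Steps.bwd (nat_lit 1) (Steps.fwd (nat_lit 8192) (Steps.bwd (nat_lit 1) (Steps.bwd (nat_lit 1) (Steps.bwd (nat_lit 1) (Steps.fwd (nat_lit 8192) (Steps.bwd (nat_lit 1) (Steps.bwd (nat_lit 1) (Steps.fwd (nat_lit 8192) (Steps.bwd (nat_lit 1) (Steps.bwd (nat_lit 1) (Steps.fwd (nat_lit 8192) (Steps.bwd (nat_lit 1) (Steps.fwd (nat_lit 8192) (Steps.bwd (nat_lit 1) (Steps.bwd (nat_lit 1) (Steps.bwd (nat_lit 1) (Steps.fwd (nat_lit 8192) (Steps.bwd (nat_lit 1) (Steps.fwd (nat_lit 8192) (Steps.bwd (nat_lit 1) (Steps.fwd (nat_lit 8192) Steps.nil)))))))))))))))))))))) (nat_lit 54) (nat_lit 0),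
  Rule.mk (nat_lit 10) (nat_lit 118) (Steps.fwd (nat_lit 28672) (Steps.bwd (nat_lit 2) (Steps.fwd (nat_lit 4096) (Steps.bwd (nat_lit 7) (Steps.fwd (nat_lit 4096) (Steps.fwd (nat_lit 24576) (Steps.bwd (nat_lit 1) Steps.nil))))))) (nat_lit 42) (nat_lit 3),
  Rule.mk (nat_lit 5) (nat_lit 118) (Steps.bwd (nat_lit 3) (Steps.fwd (nat_lit 4096) (Steps.bwd (nat_lit 2) (Steps.fwd (nat_lit 32768) (Steps.fwd (nat_lit 40960) (Steps.bwd (nat_lit 14) (Steps.bwd (nat_lit 12) Steps.nil))))))) (nat_lit 33) (nat_lit 5),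
  Rule.mk (nat_lit 8) (nat_lit 148) (Steps.bwd (nat_lit 9) (Steps.fwd (nat_lit 28672) (Steps.bwd (nat_lit 9) (Steps.fwd (nat_lit 28672) (Steps.fwd (nat_lit 40960) (Steps.bwd (nat_lit 8) (Steps.bwd (nat_lit 9) (Steps.fwd (nat_lit 28672) (Steps.fwd (nat_lit 40960) Steps.nil))))))))) (nat_lit 48) (nat_lit 1),
  Rule.mk (nat_lit 1) (nat_lit 118) (Steps.fwd (nat_lit 8192) (Steps.fwd (nat_lit 32768) (Steps.fwd (nat_lit 40960) (Steps.fwd (nat_lit 4096) (Steps.bwd (nat_lit 6) (Steps.fwd (nat_lit 8192) (Steps.bwd (nat_lit 8) Steps.nil))))))) (nat_lit 43) (nat_lit 3),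
  Rule.mk (nat_lit 1) (nat_lit 343) (Steps.bwd (nat_lit 1) (Steps.bwd (nat_lit 1) (Steps.bwd (nat_lit 1) (Steps.bwd (nat_lit 1) (Steps.fwd (nat_lit 8192) (Steps.fwd (nat_lit 8192) (Steps.fwd (nat_lit 8192) (Steps.fwd (nat_lit 8192) (Steps.bwd (nat_lit 1) (Steps.fwd (nat_lit 8192) (Steps.fwd (nat_lit 8192) (Steps.fwd (nat_lit 8192) (Steps.bwd (nat_lit 1) (Steps.bwd (nat_lit 1) (Steps.fwd (nat_lit 8192) (Steps.fwd (nat_lit 8192) (Steps.fwd (nat_lit 8192) (Steps.bwd (nat_lit 1) (Steps.bwd (nat_lit 1) (Steps.fwd (nat_lit 8192) (Steps.fwd (nat_lit 8192) (Steps.bwd (nat_lit 1) Steps.nil)))))))))))))))))))))) (nat_lit 54) (nat_lit 0),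
  Rule.mk (nat_lit 10) (nat_lit 118) (Steps.fwd (nat_lit 28672) (Steps.fwd (nat_lit 4096) (Steps.bwd (nat_lit 2) (Steps.fwd (nat_lit 32768) (Steps.fwd (nat_lit 4096) (Steps.bwd (nat_lit 5) (Steps.bwd (nat_lit 1) Steps.nil))))))) (nat_lit 42) (nat_lit 3),
  Rule.mk (nat_lit 13) (nat_lit 118) (Steps.bwd (nat_lit 10) (Steps.fwd (nat_lit 28672) (Steps.fwd (nat_lit 8192) (Steps.bwd (nat_lit 1) (Steps.bwd (nat_lit 4) (Steps.fwd (nat_lit 20480) (Steps.fwd (nat_lit 49152) Steps.nil))))))) (nat_lit 32) (nat_lit 6),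
  Rule.mk (nat_lit 10) (nat_lit 118) (Steps.bwd (nat_lit 8) (Steps.fwd (nat_lit 53248) (Steps.fwd (nat_lit 45056) (Steps.fwd (nat_lit 36864) (Steps.bwd (nat_lit 8) (Steps.bwd (nat_lit 14) (Steps.bwd (nat_lit 12) Steps.nil))))))) (nat_lit 40) (nat_lit 0),
  Rule.mk (nat_lit 4) (nat_lit 103) (Steps.bwd (nat_lit 1) (Steps.bwd (nat_lit 12) (Steps.fwd (nat_lit 53248) (Steps.bwd (nat_lit 6) (Steps.fwd (nat_lit 28672) (Steps.bwd (nat_lit 10) Steps.nil)))))) (nat_lit 31) (nat_lit 5),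
  Rule.mk (nat_lit 14) (nat_lit 118) (Steps.bwd (nat_lit 12) (Steps.bwd (nat_lit 13) (Steps.fwd (nat_lit 36864) (Steps.bwd (nat_lit 14) (Steps.bwd (nat_lit 12) (Steps.bwd (nat_lit 13) (Steps.bwd (nat_lit 10) Steps.nil))))))) (nat_lit 37) (nat_lit 1),
  Rule.mk (nat_lit 2) (nat_lit 103) (Steps.fwd (nat_lit 16384) (Steps.fwd (nat_lit 40960) (Steps.fwd (nat_lit 32768) (Steps.fwd (nat_lit 24576) (Steps.fwd (nat_lit 57344) (Steps.bwd (nat_lit 11) Steps.nil)))))) (nat_lit 30) (nat_lit 2),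
  Rule.mk (nat_lit 8) (nat_lit 88) (Steps.fwd (nat_lit 4096) (Steps.fwd (nat_lit 24576) (Steps.bwd (nat_lit 9) (Steps.fwd (nat_lit 16384) (Steps.bwd (nat_lit 2) Steps.nil))))) (nat_lit 23) (nat_lit 0),
  Rule.mk (nat_lit 7) (nat_lit 118) (Steps.bwd (nat_lit 9) (Steps.fwd (nat_lit 53248) (Steps.fwd (nat_lit 45056) (Steps.bwd (nat_lit 5) (Steps.fwd (nat_lit 16384) (Steps.bwd (nat_lit 2) (Steps.bwd (nat_lit 2) Steps.nil))))))) (nat_lit 33) (nat_lit 1),
  Rule.mk (nat_lit 9) (nat_lit 148) (Steps.bwd (nat_lit 8) (Steps.bwd (nat_lit 9) (Steps.bwd (nat_lit 8) (Steps.bwd (nat_lit 9) (Steps.fwd (nat_lit 28672) (Steps.fwd (nat_lit 40960) (Steps.bwd (nat_lit 8) (Steps.bwd (nat_lit 9) (Steps.bwd (nat_lit 8) Steps.nil))))))))) (nat_lit 48) (nat_lit 0),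
  Rule.mk (nat_lit 3) (nat_lit 88) (Steps.fwd (nat_lit 4096) (Steps.fwd (nat_lit 28672) (Steps.fwd (nat_lit 4096) (Steps.fwd (nat_lit 24576) (Steps.bwd (nat_lit 9) Steps.nil))))) (nat_lit 23) (nat_lit 4),
  Rule.mk (nat_lit 14) (nat_lit 118) (Steps.bwd (nat_lit 12) (Steps.bwd (nat_lit 5) (Steps.fwd (nat_lit 16384) (Steps.bwd (nat_lit 2) (Steps.bwd (nat_lit 2) (Steps.fwd (nat_lit 32768) (Steps.bwd (nat_lit 9) Steps.nil))))))) (nat_lit 33) (nat_lit 3),
  Rule.mk (nat_lit 2) (nat_lit 118) (Steps.bwd (nat_lit 6) (Steps.bwd (nat_lit 1) (Steps.bwd (nat_lit 8) (Steps.fwd (nat_lit 8192) (Steps.fwd (nat_lit 8192) (Steps.fwd (nat_lit 32768) (Steps.bwd (nat_lit 9) Steps.nil))))))) (nat_lit 43) (nat_lit 7),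
  Rule.mk (nat_lit 7) (nat_lit 103) (Steps.bwd (nat_lit 5) (Steps.bwd (nat_lit 13) (Steps.fwd (nat_lit 49152) (Steps.fwd (nat_lit 4096) (Steps.fwd (nat_lit 16384) (Steps.bwd (nat_lit 9) Steps.nil)))))) (nat_lit 30) (nat_lit 5),
  Rule.mk (nat_lit 4) (nat_lit 133) (Steps.bwd (nat_lit 7) (Steps.fwd (nat_lit 40960) (Steps.fwd (nat_lit 20480) (Steps.bwd (nat_lit 11) (Steps.bwd (nat_lit 13) (Steps.bwd (nat_lit 12) (Steps.bwd (nat_lit 4) (Steps.bwd (nat_lit 7) Steps.nil)))))))) (nat_lit 44) (nat_lit 3),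
  Rule.mk (nat_lit 12) (nat_lit 133) (Steps.bwd (nat_lit 4) (Steps.bwd (nat_lit 7) (Steps.bwd (nat_lit 4) (Steps.bwd (nat_lit 7) (Steps.fwd (nat_lit 40960) (Steps.bwd (nat_lit 6) (Steps.fwd (nat_lit 49152) (Steps.fwd (nat_lit 57344) Steps.nil)))))))) (nat_lit 44) (nat_lit 0),
  Rule.mk (nat_lit 2) (nat_lit 118) (Steps.bwd (nat_lit 7) (Steps.fwd (nat_lit 4096) (Steps.fwd (nat_lit 24576) (Steps.fwd (nat_lit 8192) (Steps.bwd (nat_lit 10) (Steps.fwd (nat_lit 28672) (Steps.bwd (nat_lit 2) Steps.nil))))))) (nat_lit 42) (nat_lit 6)]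
noncomputable def R : List (List (Rule)) := [R_0, R_1, R_2, R_3, R_4, R_5, R_6, R_7, R_8, R_9, R_10, R_11, R_12, R_13, R_14, R_15, R_16, R_17, R_18, R_19, R_20, R_21, R_22, R_23, R_24, R_25, R_26, R_27, R_28, R_29, R_30, R_31, R_32, R_33, R_34, R_35, R_36, R_37, R_38, R_39, R_40, R_41, R_42, R_43, R_44, R_45, R_46, R_47, R_48, R_49, R_50, R_51, R_52, R_53, R_54, R_55, R_56, R_57, R_58, R_59, R_60, R_61, R_62, R_63, R_64, R_65, R_66, R_67, R_68, R_69, R_70, R_71, R_72, R_73, R_74, R_75, R_76]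
def LW : List Word := [[], [0], [1], [14], [15], [30], [31], [34], [35], [38], [39], [44], [45], [48], [49], [38], [39], [44], [45], [48], [49]]
def par : Par := ⟨12, 5, 17, 29, 4095, 131071, 536870911⟩
theorem hpar : par.ok := by decide
theorem hR0_0 : lall (ltake (ltake (R) 39) 20) (fun l => lall l (ruleOK R1 LW par)) = true := by decide +kernel
theorem hR0_1 : lall (ldrop (ltake (R) 39) 20) (fun l => lall l (ruleOK R1 LW par)) = true := by decide +kernel
theorem hR0_2 : lall (ltake (ldrop (R) 39) 19) (fun l => lall l (ruleOK R1 LW par)) = true := by decide +kernel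
theorem hR0_3 : lall (ldrop (ldrop (R) 39) 19) (fun l => lall l (ruleOK R1 LW par)) = true := by decide +kernel
theorem hR0 : lall (R) (fun l => lall l (ruleOK R1 LW par)) = true := (lall_split 39 (lall_split 20 hR0_0 hR0_1) (lall_split 19 hR0_2 hR0_3))
theorem hR : RulesOK R1 LW par R := rulesOK_of rfl hR0
def cols : List (ℕ × ℕ) := [(4096, 2), (12288, 4), (20480, 6), (28672, 8), (36864, 10), (45056, 12), (53248, 14)]
theorem hcols : lall cols (colOK R1 LW par) = true := by decide +kernel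
noncomputable def JS0 : List ℕ := [nat_lit 0x3c007c0100e56002a38a87148e281c4e01f1c9c38b803c38e4729001f002e38b47160e2b1c5438a403a000071b00180080018002c000000080700000e2f1c9e007000d001b002e01b1c5c393800d8e4e1c5c38b47160e2b1c5401a0022394400c8018003200540098e2e00c8e4a002800307188e301c5e38b8030392c00c0017002c00407230e3100b80001c6e0161c88003800b0014002c3924718005400100081c9438c4028392c7248e30009800f002039200068e471c5e38b802400140050e401c6438c47180e2f0088e3c0020003c7230e331c640101c8e38ec71b0e351c6838cc01e001c0070e441c6c00e1c6a390c0070e431c6a00d000a38e071b8e361c6a00c0018001071d0e391c7000b000a38e8014000000080247200007000838e001038fc0018e391c700071c7438e400c000400200050008000400a000000200051c740041c7238e0006000000080000010e391c70001,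
  nat_lit 0x1b801b1c0638087008e001bfe0391c4a381c070005c7178e061c0a38107018e0201b8018005238287048e081c0e381806c003c00b0e2f1c18035000000c07380e6b01a802f1ce039c87168e0a1c123820068002c0188e0e1c1a38307058e0a0088012004839507080e0f1c1c0331c20000472e80c800000130188e5a1cb2383c70700c071d80131cd600907070e0d017800c001a38407078e0e0170e1a001a38947088e100168e12000202c1c200000056003400e80231cce009c0000e0f0150026003c38407078e0e0148e1e1c2638487088e100140006000e3850709809c00000010048e6100063850709809873000051c2a385000e003000000940000e5f00460240024384c0463850709802870a8e140110e161c2a0031c9039247140e27010800f002a39347138e261c4a38907118e221c42388070f8e1e1c3a387070d8e1a1c32386070b8e161c2a020,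
  nat_lit 0x1cd800000a200fc0008e6c0280e6c000004f1cd8000400000011cd839ac09c3a14000813402700000260e83009a014c02c0de300000134096014802b80561bc404a000038000923800003000700a837880900000724802800380471c8e00006ef81180000e8b00600241bbc377402c39b801f804f1bbc035007c3774014000001e8e6c1bf40451bba37700440050010003e1ce439cc6f68dec1bd637a86f48de81bce37986f28de41bc637886f08de01bbe37786ee81100000e531cf2010473d0e7b0218e521cf03a1001c0e191bde37b86f68dec0210e181bea0411bdc000471c0e271c4c0401bda000071c0022002a03f1c6e00d06f90df11be037bc6f70ded1bd803e1c5837d803c002801e8e371c5837d46fa0df31be437c407a00f071b0e0d1bf437e46fc0df71bec37d407838846ff008c00c8e7a003a37f46fe0dfb1bf437e407638b800f00141c0037fc6ff0dfd00c00001c9603a,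
  nat_lit 0x1c18382c0140dd01b9e37386e68dcc1b960641c0a375403c014c7060e051ba8374c6e90dd11ba0373c0c601487058deb1bb237606eb8dd61baa375007837f46ee008c005807400f201a06ed8dda1bb237600c4380c03b8e031bbc37746ee0ddb030804e005237886f08de01bbe377807237fc6f300e00118e051bca37906f18de21bc20370000381075680661ca00601c04009070f0e1d1bce05f1c3637980bc008c6ff001a1bca37906f18de202e80001c8400a1cc83aa00370dfd1bcc37946f20170000006102d80151bf001146f40de71bcc37940b4016c6fc8deb1bd437a46f40164751806e00d601306f5816000080351c8a03200000120748815c7378e701d2c01a00248de802b001500ac37a86f48de80170deb000202c1bd20000056005c01600381d3a00f00000de8015003b008837a46f40de70148de9000037b40218e6b1cd80551bd837c46f50de91bd00541d2c01800070dea02980130000052,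
  nat_lit 0x1d8600506d78dae1b5a36b06d581c46e68db301c00111ba436c86d88db01b5e36b806e0044762808f1d8a37446d98db20380e6a1b680010024004c7680ecb00c036cc6d901bc000002c1d9e01c802800ac0070db61b6a36d06d98db2008808d1d8036e46dc0db71b6c0591d6837106de0dbb1b7436e401e00240458ea01b7a36f005c37100048eca1b7c36f405a00246e08dc01b7e36f80183a5c01400251b8e37040dc015c04380061b820041d343a6c04300041b8406d000001ec0d83ab00010dc01b7e02600000004044808a011c023404500721d3c06b0000001400181a875a0dbe00b0dbf1b7c0221d5a36fc00c37fc00001a40000eb0002e0681d4836f400200a80160e0f00ca3a340288dcc1b9637286e48dc81b8e37186e28dc41b8637086e08dc01b7e36f86de819c0000ea900ea015c7340e690330ea800e83aec707802b1b9c37346e60dcb0328e2c1ba60161b9a00040180e031c040401b980000706802d002e03f,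
  nat_lit 0x37b405d8de91b1a36306c5804004b8d941b20363c6c70d8d0078033006c00d000001fc6c7800000100284766802e03f00071b2236406c78d8e0060eed016a00186c90d9103e8deb005a02d40088d9303e0ec21d863ba40080d9203d8000003a06c011e00386c80d8f013009a001a36400f400000580eea1bbc00e1d92363c00c375c6ec0da11b40021000200600220ecf013a02400f2000000b00891dc63b8804101e000b00421bba36786ce8d9c1b3636686cc8d981b2e36586ca8d941b2636486c88d901b1e36386c68d8c0100dbf00000061b3a00000130ee30152008400781dc0128ed5013e37386d00d9f1b3c36746ce01d800a8da40248d9f00043b6c75a8dd20200d9e0002029400e801301f80001ba401601463b4004d0dda1b40367c6cf0d9d1b380640026369403c000076400887640dd91ba6368c6d10da11b40367c6cf01d47638dd81b7036a06d38da61b4a36906d181d0760808e1d8002600310e621b5236a00e638806d6001804a8ed7006636ac6d50da91b50072,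
  nat_lit 0x1b483bd406d0f12000235d012e008c00000046b90000015e03107798f1004b00ae1e1c3c3c6d90d821b0236006bf8d7e1afa35f06bd8d7a1af235e06bb8d761aea35d06b98d721ae20951de003040600e051b4436146c20d831b04094008a36200463614000824c6c180000490e981d2e02586ff80001b040911bfc3b847838e001bfe36106c18d821b020901b5a362003c366477500cf0040361c6c30d851b08360c03a362c77480ce1dd2362c6c50d891b10361c03437d06c6023c0000dc50248df2018636286c482386f480350150032c77c00c21b12362011a01847820f011b18362c6c50d890460ee3019003240208d8e1b1a363011600900638ee21b2236406c78d8e01b8dc21b8237000110d920450d90000037f86fd00350448dfe1dfe37cc6c80d8f04400331be237c80618df21b1e363810e3ac86c802180018d8e1b1e022010a0040000821000000021daa00d810600040540ded04100000018031014c02f806100be013436286c482040538ef21de600306cc0d8b1b14080,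
  nat_lit 0x80f402023cd078d82980000f2c02d80f21e64360c6c10d8105280001e200011e2036306c20d831b0405400003a0c148025c78a8d841b060a31d3236140d20000000802400d00071b06360814400640018d841b060a1000039f40458e7405000911b0600a1e1c360c03c36106c1800c00380a4000009f01b000000740288000800204f0004000000300003c8478c8ef304e800f1afe02501a23c006e00d900108f17000436e8138027004d80001b140211b140008098000c001026c6c5000104c0f13000036201343c4406380c9019036e46c48d8804c8db31b6836206c380846bb000104c0003000004c,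
  nat_lit 0x1abc3574014357c6af000c6cd0d9b003235ac042022002f005f011c3cb40810f311b4400606b50d691ad0359c6b30d651ac8358c6b10d611ac0357c6af02ec01781041e6c35bc6b70d6d1ad835ac6b502e879a8d750248d6e000200946cd0d990200d6d000036a0014800e05c8da7020035c86b88d701ade35b86b68d6c01f00c91e8c3d286d38d9f1aea35d06b98d7205c0e4d011e02e87a48da61b0e35dc6bb0d7505b8d951af6023003a00dc0588d7a1af235e06bb8d7605b0da100403c9c07b010101e235e816a00000818e3305a0f441e5835f46be0d7b1af435e41663c8c7920da01b023600164007c6cf8d801afe35f86be8d7c0588013015636806c180d400f00201b3e36086c08d801afe05c015203d06c28d841b06360806600b86c80d881b0e36186c282c000d00a71b1436246c402bc6c98f241b36362c6c502b86c580010568d8b00000ac003c00006c502ac79900e81e32362815436f407a8f371b120a91e1c0004150038c00001440078da200303cbc000800001c40a7,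
  nat_lit 0x98802e1b5035486a88d501a9e35386a682e86d38d580248d51000035ec6b90d710200d7b005635586aa8d541aa635486a88d5001f002401dc04706ab8d560648088023204a409781341e9403706ab0d550640d571ab0000076d031c0170d5806000bc0190005c00b0d571aac35546aa03186b9001701b635686ac8d581aae01800003d580143d587b200231b3a356c6ad0d59062800b002635d06ae80d47130e54024835cc6ae0d5b1ab40c4015603587b28f4d023800586ae030c008001f1abe35786ae8d5c01980001d68069021c3ae07498d6001800be01a83a486af8d5e1aba0c20016358407400240058d601abe357805c35f87ad0d6b1ac2358015c3cf479f0f5d01a0358418235ec6b083000038f571af635801460000055802405b00031ac0357c17e02a405a80051ac00be1b54009c79c0da9003e000017a000008a0ddc03500101abc02300003d4079d8030002c0bc,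
  nat_lit 0x1ad035986950d291a50349c6930d251a480641ab634bc03c386c0a28d5b1a5c34b46960d2b1a5434a41aa386070c8e1a02883dcc6988d301a5e34b81a8354c69a808c009807c002c34d06998d321a6234c0076040c69a01486ae00171f140544095811f1a660b51c2a005069b8d361a6a34d069981c40058d521aa6002869d034c008013d1ed834e469c0d371a6c0d20022356c69e8d3c1a7634e869c834400080981ab40d00000003006202586af0d3f1a7c34f469e0d3b067812002443e080070d411a8034fc19c002c6ab0d441a8635086a08164004800a1a8c35146a200b86a6800a1ab4351c6a300b40050f7f1f0403046a383347b10d49036000002620cc1ef604c46a38d461a8a0cb000800146a40d470138069000435246a4009803400051a94352400e02280000d4a0650d4b1a940161a98352c01404a86a600786ff8d4c0030d4d1a98003,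
  nat_lit 0x7a78f4e1a4e0d0013a05400ba81431a4c3494692038c0088d381a5234a06938d2602c8000000434a400303880008d2900460e11a4e000472801751f20008c00203800000e4e0348e4e1f5638d8693037c72280000478000003e3948060837800f015c1f4e38cc6918d2206e8007001034946920d230170d2a1e9234c86930d25057012d02d23e900188d2606e00c10180050c6978d2603700041e8c349c693028c72581560004349c1b60000012016501ac0da0046000069303286938d2600b0d281a4e00a1e8034a003c000c000808701143900002836470b8001054009200000510000349409c008501220d8012e0530692035c03c8d230018e3a015035a86a60d271a4c34946920d2306b0d4b1a5a0411a4c00046b48d591ab00401a4a00006b4801b002203f,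
  nat_lit 0x11b000002b1f520004000011a0788000032a06387e103c068b0d1500080001b2e0140022001e003e02f1b2c01406aa8d3a1a32346068b8d161a2a0d61a72347c08234600008d541a923520080345c0000d540054008807e354c6a88d1c1a36346868c8d181a2e34580c805c40c70d531a94000c68f8d1e1a3a34701de000009683b80a2815a02cc06306a88d2f1a40347c68f02dc6a18d220118000003e0ed01ec05a47d301770048348068f8d1e07600001b3802c41d6366c7e001601a440ea1a3c00007318166019c0e91c6402840af0d201a3e347868e81c87ac817803083d846910d211a400e80030036806c016900020e71a4600041cc348c00000b00b3015702b235146918d2207280191a8834886908d201a3e347806e00007ac80287ac8f5a1a7e34906918d221a420e40024005c6a10d2801a8001007034f41a0000000980c401b0d3f1a4a34906918d221a420cf,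
  nat_lit 0x359c0c2017f1efe005c6900d1f08000f41a46069000200800be83fc000001e018801e1a6600506900d1f1a3c347419e3e1069080287b50174036206540be0d201a3e0fe1d1c3fa40bc0d221a4234801fa34c408f8d251a48348c69103f000081891f503dfc7bf02980000f9902d8187035804706920d2307d8d24000205b808d80441ad80fa000000fc19805b06940d241a4634881f2000000080246948fba1f72348c1f034a00ba0d241a460070002046c08c00e21ce60f70000046876e0ebc02281701a4401e000000a81dc354400180021db00f6023c067869000000070f6702ce05b40b60d1f07a8edb1fb83f5c68f03d00b58d1d0018ebd02d434780263b5408b819f1fb206647d700031f923d0c1e63eb0000821808e00020790ee800020ac,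
  nat_lit 0x343c80700f91d0a009821834380008d0a1a120070002072068503287180d0a0018d0b1a140011a8e35200358d1b0108f8b1f1406500a0806a1a34346468c0d171a2c345468a0d131a2434446880d0f1a1c34346860d0b1a1410b1dbe347c10c00e80cb8f971a3c347468e0d1b1a3434641743484000824c68f80000490ee30000347c214009801381990326347c2123e4868f012468c800102763c100e20420000013a1e063a28744841c09c8143038a063c68d8d1a1a32346068b84186a00d1f00f0fa3038835106a00d1e1a3a347068d8d1a01e80001ba20cc010a03b007480ea033a07086a10d2a1a3a10501ec3a087f001c51de83a4468f84107398d1e04780191a843fe47790e8f1a3a347068d80ec69e818d0304348068f8d1e1a3a0181acc36040de818b026803ac690040c6918000002434d869b8408028817f1a76348c69102980000d1e00480001f9a06e07fc81c103443f282023f3069c0d201a3e347868e8d1c05880001ace00a,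
  nat_lit 0x80697901a021e03d46848d081a0e11e1a5400848168d0c1a16342868481840010e260348d0b00000231c36036806d900b1a1611d1c4838ec8050d0a08e0d1b1d1204280d601da1a123420236076480d10191a18342c6850d09068800001ae40ac08584680670d0b04780f21a1c1100004023c045009008c8001011c02341d6000008381d902b810b204006446850d091a10341c230402c8090d0d1a18342c685045c7480e911a20343c22c0000007800e006a018422a34740828d0e1a1a3430685803c0000e5902481d6200c075073d8d0d08a00001a243fe87158e210898d11039438f405f0d0c0890188020034386868d0c08880b300001100002400471d0e1f08780001cbe0031ffe07146860d0b08700f103983ff80e70d0d0868e6d1a1808f0000000801234400e58d0a1a12026,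
  nat_lit 0x3400a013819f20351a4a047c09b8cf819ee33d867a84a40018ef2010202081c4000877880a00190001014437242500000030816c75f8133002233dc67b0cf519e8127001a342867d0cf919f033dc0b2002c0060cfc19f633e805c3410006812f19fa33f005a38e80701037007033f824c0030821803719fa33f024a000001083300960d0819fc33f467e0150003000819fe33f804e40a881f000419fe05300003458006043c0010cfe03d00001a260ee1a26043467f049067e8cfc00b0cfe19fa00a0030041c084810a19fe12319fc33f4044345467f00188130d030430029204e40986810d011a0033fc67f0cfd0910e291a0e0161a02000472f01ec1d261211a00000007381ed002c10801cc408c0660d041a0634086808d0019fe120036640c00fd01f50204341c6830d051a0811f,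
  nat_lit 0x401205000018ce119c00bf027e00146710ce10508f0b1e1804d400004d00001069026c02402a03380046338467000280cb8ce100f0ce219c20030002414883501dd1f80083481104cc00001330288051c26404d009a8d261a1433906718ce219c233802623424675010467180011a4a345c68b010067100001a4a009400c80fc6920d2219ce33986728ce419c63388670819068d0cec00f0d3c1a4834686758cea19d233a06738ce603a8d391a7434ec6918cfe19dc33b46760ceb0980d1119e2023207e083c82c802019e033bc6770ced09780001cfc35681d639f482c014319e012e1d343ae47570123028433bc67704b469a801e19e633c86788cf019de07101b03898718000119ea1131c3e38c8106800019e812c000200bc77d8169041812b19e600000078d0d1a1c102006004f068c0cf319e412a002a345c6790cf119e033bc67700dc00b8d1219ec33d467a0cf319e40d1,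
  nat_lit 0xcc70000341c012001701f8d0602e833306658cca199233206638cc601f0cfb19a201e199800041503328000014411310620474096412b823f048008f40000cc909e1073037033e06668ccc199633286648cc806a80001c560031c5638b0837907020e206d87af8ccd199813b19e03344046005c0ab801b19a0333c6670ccd19980b619f20070121824019a4334466804e8836801a19ac335466a0cd319a4071001a33bc678000c19b20d3002c06c07ac8cd819ae335866a834800b816619b8336c66d0cd919b00360018005467d0cdf01a802f000000a19b400040a28d5409c80001a4c00a02c841e467b0cdb19b4336466c0170000010f0188197045008e01168cdc19b6336827000380af0cdf19bc337466e00cc006000d19c2338066f80b8673800d19e2338867080b47a68ce4036000020c60cc046406886710ce119c0137001000246718ce20138ced0014000026c00040a0000b0012135,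
  nat_lit 0x41378cdb0680000001e03104da337c6600cbf197c32f465e033c02e8d8302fc09c485480111980147001c335c6618cc2198233000b241fc8400cc6198a1160000005068b003501e014619b641fc6620cc31984330401e00240050cc6198a331005c33300050cd8198e331805a002883e018c1990331c28a095013990a119a8332028800180038cc91990027000000340d833500018cc91990026000e33240000d0d005600742860028669109b199014204bc000066403286648cc800b0cca199200a1996332804442486658018000109519981360004000400a05046650cc900000132100096c8498cc80a01091198e0861a02008012982592122331c27e094c6630004000017a212205f00278d4c09f01792120423c0bb8ced1990331c6630cc509e8cec199c041,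
  nat_lit 0x7219633f429e00188648ca319440a3000000b001200cc0018ca319440bf032e3c84868029d219033f4651853801480310068328817c00140000ca20650ca319440161948328c014334c66a0cf22184329029a430065180786520ca3003002a1948025050433b86680ca91950329c6530ca51948122199e32bc08232a00008ced19be3378080329c0000ced0042005c07e33b06750cac195632a86548ca8194e32980c80060658807885a0cec19c032c06578cae195a32b065581d48598ceb198832d465a0cb3196432c465801d066c8cb9011802419d8007065c0cb7196c32d465a053067090b4216a42f484e826e197014b04a042bc00d8cbb197432e465c05280088266217c09dc000852465e00010730cbc000002c04e842f08580ce3197832ec29000506710cbb197432e465c0cb701b801519ba32fc65f0cbd197832ec1a200300098ce21986035,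
  nat_lit 0x3b8c63280186618c650018cb5196c31d863a80846ac804c1a2a32f063a8c7418e631c86388c7018de31b86368c6c18d631a86348c6818ce31986328c640aa0027198c329463d0c7918f031dc63b0c750910ca4190004118f200046628cb5196804018f00000662801f002603f1988330863e8c7c18f631e863c8c7818ee0640000331887082300308153198a330c65c0c81190031fc63f0c7d18f80751988330864c8c86190a32106418c821902074195e32280460104024801a191232206438c86190a0b61972012c6850c8c19163228644818466010db1920323c6470c8d19180b319643250070005465e0c93192432446480c8f01b8fe5044e32c80000050000025019620b421ac32d864a8c941926324864885480008016196a0d00000003c062005086a0d06192c325464a0c930a8801d006e34000090c98192e325810000386588c9b1934326464c016401e0ca5193c327464e0c9b058000b0018328064f8c9e017000e194632886508ca00060cfb196032946520ca302a0000197c016197c33f067f00001948150,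
  nat_lit 0x6ae0d5d202c095c000800004183f4c7e905787cc02d1220e445416e9068050a09bc00005740000f1e04dc15c1e3a0a0412b0c620ad8c7e003809546308c6018be3178030000866401a463080000118cae195e01006730c610ad0d3522063394630056400a110119cc00806310c6118c01581976319801400f80140c6518c8318c6310c6101b003418ce08f00003358014335813a8cd619aa31946320c6302e00001e600310372401c124800f18cc3194632055c657002218d231a06338c660ab000b195a32b06350c6908a0c6b000202c18d20000056400c801024404dc00280000c68015000904dc06a86340c670a28000032c0cc048243c80190cb818ce155000032986658cca0878ca5005e00b863304387740268000431980a6000c133800418cc04a00000998001809000a8c650118ca018ca0c0,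
  nat_lit 0x713910f05e206fc62e81607860c5c0002420c2da00000e70f2f09402dc210c0a8c17701bc18b416c00140bb880e8c5b0b58001003a3ce81ae000000d85a800280062034316062b85a400301b718b4316462c00a400000022030079002800041739129221444240f285a062c8c58000006d07810f030b3812118b4316462c0c57014000005ca3eb0009859808f8c590110c5a18b200600040a5814a0269004e323c2ca000483c107d20ba41702540000145016c14982910520010063e8c5a18b2316062b85906690c5f00b0c59000000a46648c870200c8e007a333c62e8c5c18b6316862c8c580480cd918c401e1e1644480290c6118c0317c62f0c5d18b80b81e103c24785111119ec00c46318c6218c21631988319c04632e8000010463200010b10c6200001611970010800d001b18c631882c000801420cc018c431846300c5f18bc15f,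
  nat_lit 0x1888000861f0c3d0038c3f187c00a012030fc044310061f800c8a10c40012820a004800980ed0f280036313c6270c4d1898312c6250c491890311c6230c451888310c6210c41188017e18a000042fa314000005f07f80000189e17b1fe0402c1360c4f0bd0c5b189c0861e880798152104704fc31346260c4b189417918f2314803c31f00a00c7918a231406278c4e189a31300ea31ec09f8c6218ac315462a0c5318a431440e8086811a114406040c0c821827a18ac178000208287008de51bc817718aa00007ca0232040617604123f1c00c8c5718ac315462a05d462d00010ba0c5800000512004000062c05cc12e81391ca231c462c05c8639001618ae315862a8c5418a607118dc316007009cc81a903b225e04d062b8c560b88013207009bc09a8c5918b0315c0e004cc62d023c83d907a052640941190c5918b0170001800380088c5c18b6316862c85bc8198c5e04301c005e640cc62e8c5c18b616e,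
  nat_lit 0x6020c030030c4d189c305460a00846b18d620162314c60a0c13182430446080c0f181c30346060c0b181430246040c07180c30146020c0301010db21b8458c18280b4182e305860a8c140c300b3183a049182c000462d0c4d1898040182a000062d02ce00240b918b20c0460d0c191830305c60b0c151828064189e307803c35e86cb8c58189e307460e0c1b1834306430a02fc6cb0c57186630846100c1f183c3074308311c612808c0098c58002830906118c2218423080076314400a80a6184e30986128c2400c0d92014830ac6150c291850309c0e2312461700e00000fea0c1825f058631406160c2b185430a4304028017b00a5185e30b86168c2c02e8009001a314061900d417b1152189e30c46180c2f185c1811ac830c8014353804e9151017a029c6188c300c0000905e230d06198c321862059189830f461b8c36186a30d001e0aec0038c39187030dc15e310004c0c49187430e405a44588ae9151229830e82fe025c6228c3c187630e81f2000c04a8c3d187802700000004012311415a8c3d18780f8,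
  nat_lit 0xc24184430645f28be417c62f885f08be003a8c2318422fe85f50be917d02f9c5f30be503a0c0f17d602301fc03dc6df9184230600685f50be90c50bea000045886df00e20749160067046005f60beb17d42fa4118307800c0bf017de2fb85f68bec0388bf3000000446080c1108101b722fa30685f98bf2095001318322fc85f88bf017de2fb806e005060a0bf617ea2fd05f98bf2068800f00240c7c5fd053c0138bf90050000006c30441a000d418e0bf717ec2fd45fa0bf30a8917522ec00405fd0bf917f02fdc0b400346070bfd17f82fec5fd0164007800004790eb21d82ff00008458000000d18b605718423088630917221d62fe8312001c0040bfc17f62fe805c3014004031417fa2ff031000208740bff17fc2ff40182ffc000916d21ce4398005061c00001a6066116b18102ffc5ff0bfd02a0002000630005ff809c6d2116a000030001b6300460000586010c010050c031804022,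
  nat_lit 0x401c8bef06800000022031006e077c5ea8bd417a62f485e8833c0090bec17b02f5c5eb0bd502c8000004219017b0000001e80c888c1119187c2f5c22c00800ec119e187a2f585ea8374005800d17b02f5c5eb00b85f0000d03b02f645ec00b4007119b06a62f685ec84945ed00012332466888a01d00c7800000440cc232e2f985ed0bd917b0054000e00205ed8bda0138000039c06c039e000c5ed8bda05f81b017b600008a981b8036e18e039607340d80bda0c6802600002f681942f6c5ed00587668ecc035a2f7029e2f6c5ed00285ee0bdb011000023180d608cf836506aa43a43182fe05ed8018639003d009230906030bde17ba2f705ed862c6028be40208bdd0002308c60a8c140200bdc0000308c00f801701f8c2218402f845f00bdf17bc2f745ee0bdb0320c1917cc01e,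
  nat_lit 0xa001c5dd0bb901380000002009009800085dd0bb905f804b22fe2eec5dd0388014000017760ca02282eec02c2ef05dd802800000030004013c62686540890bbb0110c40000001e00000e188e68393239a0e188dd11bb00aa19422de2ee400c01085dc800004f115106ca0e0c5dc064c8ba0bb70430c48009430005f18bbb17742ee45dc0bb706b0be21782041177400045ff8bef17dc040177200005ff8021002a03f17fc2ff05df0bbd17782eec5dd0bb9177006417e42f0c03c30705ff0bf217842f045e00bbf177c2ef40ea306460d0c1b17fa2f5c5e28bc417862f082602fa45e4808c0f281e7003a2f205e38bc6178a2f103242fcc0e491ab22c22f285e48bc80c88c1700382f385e68bcc17962f280e22f44000001017d42fac20400c88d40bf717a22f4025400585fb0bd0179e2f385e68bcc01b801817e22f505e98bd217a22f401a2003800b01e217b0035,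
  nat_lit 0x5cf8b9e00080000092086863a8674611804a026e2f085d10ba117402e7c5cf03585d3800002f026a0714467809a8ba70ce0bbf174c041173e00005ee001e002c03f17b604c85d20ba317442e845d00b9f173c064232404c86f80e1617502e9c5d30ba5174819b17f22fe88c88131025e2eac5d50ba9175013017942ebc046005c031801a175c2eb45d60bab17540b617a446581d203ab06dc45905d7066803c008b068c463400d0baf175c199002c04b0095013c17622ec05d780dc00c012a176a2ed05d98bb217620d1001e00545ea8bb901a8001007604a01a0000000880c401c8bd2176c2ed45da0bb317640cf03ec0df81ce0016002a2edc5db0660008012417742ee45dc0bb702c80051774000c000065c000020418be06a000000843202ee000082020cb000018b80692288472861b0bb606f801f00a4472061a8bb517680dd000e00205db8bb6176a02e177800245e38bb8176e02d001647140f18bb91770029,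
  nat_lit 0x46c3c98168445019c8b8f171c2e345c60b8b0388bb01726038003047fc5c90b9117202e3c5c700dc19b033b21ce2e545ca0b9317241a1001a005c5dc0b9801a801100322edc5cb8b96172a2e500b843b85cc002886b833323f60d3019d0b97172c18000260cd85cd0b9917302e5c0662ed45d28b9d17382e6c5cd003c0080011173e2e785ce80b85d4032e17622e805cf80b486c822922102e88152000000091d623aa475000406800008363220a439487202980000365077036123e42e785ce8b9c052832923e02e805cf8b9e07c8009064e2e845d0009c00000010048baa000c2e845d000985d4800717442e8400e00040018ba20230000000c003000200008e511c90cf91ca06b60d6087990b4000019e0000001000180901918b9d0118b9e173a00a173e2e7800600008f210ee215e09d,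
  nat_lit 0x21f22dd80d82dcc5b9000002d63840708859c1ab8b7416e62dc85b880a00c883ec031a2dd0094065c0010b7406500d7000000300000fa491080da0d30b7316e40161768000410c000490c8033173c2e7434a000090c0bd3176602716e22dc00140018001026c5c0000104c0b7e000004c033c06d01760001176c000c3482ed00008df71ca2060c34600000a900180a9019a069443cc5bd800017661a217662ed000c8b7a01090ec21d60d1c5dd801816f22de05bb8b7616ea2dd05b98b7216e22dc05b78b6e16da2db05b58b6a16d202000540d2887b0b7e16fa2df05bd8b7a16f20ba21ea2e100922df40008bc317662ec80802df00000bc30046004807e2f081a30b8117002dfc5bf0b7d16f82dec07c2edc5c28078881111a240e2edc5c20b8317042e045c0061481282c6069e44649030b99170c2e145c202dc5d68b8a0118017178200785c48b88170e2e185c280ec5dc801e06782e305c58b8a1712018,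
  nat_lit 0x2e545b380785e98bd406f02e545b30b6516c82d8c5b106145e00bd306ee445c5b50b6916d02d9c5b306d00000bcc01d000a001200940120b6c0d98bc116d600a035c1024012002216d42da45b40b670d90b90035200685b68b6c16d62da80302f3491d005417c42dbc5b70b6d0d8801d06e044408888b7116e02dbc36000005d780585d78374246e2e3c5b90b7116e01af16ea000810c2f9801f000f17042dd435c006c00e019316e814f17820da80c90b730d68e4e16e400a000206a85c48340000001101881a8031c2dbc5b70b6d16d82dac2a2000400683fb0340065472e86b0000000c03180628356002c5ee0bdb16e02dbc5b70b6d0d5001317062dcc5b90b7116e00590000063072904a0905920c241a0fd80b98b7202b000e16e803a16e200000050d240d4800a001c2dc85b88b700170000179c049179c2f7c912018316e21a817a605b45b98b7216e21a7,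
  nat_lit 0x2d245a400180fc925e16941bf16922d20002428c001824c193000207300080002162213e000037c428885090750000001c00306f41858001049106900000a80008000c84e03d3068c0cac18a031506260c243782d1400083985a280000be109800002d102f642601e7924d213c2d1037642705a1808c0000f4324a0494418a06e87a1124f0830426c5a08b40167e2cf859e86e45a60003168e2d185a28b4416861b80622493817b905116901b705ec00005a60b4b0138b4e169a022169e2d3800c3d145a7800c00001ac052001f172438e05af06d800c801b004e064871b8b5d16b82d6c5ad0b5916b02d5c5ab0b5516a82d4c5a90b5116a02d3c5a70b4d0da8e6d035607005cf8b8216c02d7c5af0b5d0c58b8116cc04116be00045cf0b91172004016bc00005cf0028003a03f173a2e6c5b18b6216c22d805af8b5e16ba064,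
  nat_lit 0x2e2dac940044904e62ccc5990b310e48b6224fc004059b0b3516682ccc3902d9c00d801a00582ce059b8b360458f6f1ee02d9059d8b3a16722ce038e2dac5b5002c002a2cfc11400605b00b3e167a2cf059d8b3a0688b410002086005e49e47aa8b4101a801216be3d505a004387a90b3f0600000002e2d6c1a000587a88b3d16782cec59d0b39067800500262d045a00b3f167c2cf40222dc09398b5816862d085a080405ae8b4c168c2d145a20b43007800016a0003019607185a7800d1e982d185a280b40070b4916902d1c5a300305aa8b4c16962d285a480a0011926d00142d3000809b8936926c1ebe2d3438a08d083783141ebc2d30388000000080245aa0f5c16942d241f02d4c9338b4b16941c300103d685a587087ac8b4b0118b5904ae42c00008b4b0e0800b00000c00000498c21610af215c1c016922d2004400009308f5d16ba00e,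
  nat_lit 0x800c494e929e069001485840b07160c1ce003a2e005c083da23062c2458407340078b1e16182c2c5850b0902c800d001c2c385868b0c0170b0f000202c161a000005649b89368457252e0f540000b0c0e603d404482c345860b0b0148b7a16382c3c5870b0d02a0000167201616722de819f0000161c15000000018949833d0a7800500102c34586009c0000001004822b00042c3458600981150268161c2c3400e4a340000b0e03d0b0f161c01616202c3c0144a1422d128a162200003962d345a70b7025142c4029a2c3c58700881e28b0f0030b5b16b82c845900084009001816c22c8058f8b1e163a2c7058d8b1a16322c6058b8b16162a2c505898b1216222c405878b0e010002716d62d245928b2416462c885908b200910b481652041164800005bf825e16ee1b716fc421c1960b68164e2c985928b2416461ca16d62da45b00b2c16562ca85948b28164e07516d42da059f8b3116602cbc5970b2d1658074,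
  nat_lit 0xae0000202c15bc0000056391872281e004b210340000add0ea840c0916099056e8adc0ea0004000a2b7856e809c5a092b900042b781b60fd895c002a15bc0be04a8000056f03281868ade00b0adf15bc00a06182b7c04400000260ba0008c0100016874c5cb0b97048007e074d8aee15da2bb05758aea15d22ba05738ae615ca2b905718ae215c22b8056f8ade0e9000124e44a18942016d0e8800024e004924e04a10964848508fe4abc5990b1715d81d0162c2bc80822bac0008b3116422c800802ba80000b31003e004407e2cc05970aef15dc2bb45760aeb15d42ba40c82c8c57a00785988b3016462bcc5790af115e02bbc57701d45980b2f16162be057b8af615ea2bd057981d058d8afc01180170484006857d8afa15f22be057b80ec592827f17142bf857e8afc15f60611658006c5810b0116002bfc57f01c458e8b0601c001516522c145820b0316042c0406e00605920b0916102c1c5830b0506880000004118093b073c000929f1644082,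
  nat_lit 0x5650001160e2bf057d81005648000160e009800e00fc5830333159c2b345660acb15942b2456401901770ad2036000224cc4994932122e0ee800124ca11a89120770000046707684a4065e41501a68ace159a2b305658aca0ed8f341e6a128c197032c15a22b405678ace0ed0af315aa02308244b5000f0ad415a62b485688ad005b00001ebe0ed82b83d78251049215ac15b22342b540702bd8021049015a82b4c5690ad100c046708fa4a7824e001a15aa2b503b2005c1930324067a2b5c56b0ad501b801806482b6c56d0ad915b02b5c1a2004400b002e15be14f16682b78014000000101ee1ca61cf0002099819003400000010018826400522b6856c8ad815ae2b582a206e886f80000cb0e6d03de0774723000000021d8000043740dc01b50eb90dc0896127824c849308282b683ac4a60241041315b22b6056b8ad6071800b06302b7056d8ada15b20590012002856f0add15b802e15c600280108adf15bc188,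
  nat_lit 0xae400343d745660acb15942b240c2113c012802208d42b385668acc0f18adf159e03825844b0c96704c909142b3856687881a792a9259212a0568878401092c8094e2b405678ace159a05d16042b4001400008e501a40fb8f541eaa130c0208028159c1e025024b108cf8ad0159e2b3822e2b4000091fa0190000084203123ee47d85678ace01811c2084a482421d8ace159a02f24422b381804b0025e927b089a2b3435c48bc5668104000123701d001200284ba89170acb0b4841a095612e021a8acb0ef800008ec0ee24ac132092b8acc07b0f4708ee2b2c5650ac9065923c08ae4aec56580d4000000100491fd0966128c56487788fe000015942b2400e4b84565000c0008f1c1da23aa075384a8000021f02d82511ebc09f419b8aee15962b285648ac80c58aed15a2041,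
  nat_lit 0xc00305548aa8154e2a985528044256925f15582aac5550aa902c8ac0091e2abc5570aad15580fc000012e419813482748b01155e00e156c00185800aae155a02d000c122c5580aaf155c02915702acc5590ab1156002824da12980018ab30f60402080249dc55987ac0018ab824ee2ac83d4001493b0ab20e10ab3156402225962acc00c00007b681b07b68f6e261a2acc26848989860ab20098ab11560001006a3da87b58456242048445600abf157c2af455e0abb15742ae455c0ab7156c2ad455a0ab315642ac40ce000066181a409311da24324c2496c84b815822b0055f87a425b8ac60248001256c12782330ae60f40000256a4ad826a92d80f392b4256a4b545618ac215822b0055f8abe0dc8ae7158e01e163611582498ae7158c2b145620ac315841e6008e11542490ad615942b245640ac7158c1e524c22b3011e00009160124916048915942b2411c006890b928b251412245648ac8158e1e4,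
  nat_lit 0x20982a1c04a2b3c5680a98152e0210038007401204af152e2a5854a8a9415262a485488a90151e2a385468a8c15162a285448a88150e2a1821600b493e927c15382a6c54d0a9915302a5c2442a7000084b2254c130c210000025892a516062c0820e12c0263050724f42c5c0250a9c15362a683ee2b48550807800012ef01112ef15ac2b4454f8a9e153a2a7054d8a9a03a92ee15aa2acc5520aa315442a845500a9f03a0aa60000498093092620fb0493154c0160464008456a84c1154a2a905518aa20fa8f8f265c00605540aa7154c2a940304ba400e0aac15562aa85548aa80388aca155a0380306360c0d31290159c2ab055587d000184bb265648ec91987cc5560002097600643e4000494081a494c1274007800e855507c4027804e007600e455487c0216119b000009e000413b498e119a0f780011e6c06c24f612d05858aaa0f704dc25e400fc5548020000801424c80d00000003406200485838aa6154a2a905518aa20678000000e2b0c0078048162e1ed,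
  nat_lit 0xe8aa7235831480820a86150a2a103c82a90834043e05fe2a205438a860fe80042364069150e00042e8000c00001440828000150a17301fe03f026b91ca150a11d235c472c8e48a8408e041e085a111c21a844415062a083f8110c290841b06682a145420a8303804e1150c00106ac41848df91be08722a1454207ec82b834a08602a6854487e8542000005e60bc498f04cd0fc843100202a1c5430a8515082a0c370467428d918415122a20543845c20982f915182a2c0602a5817c8a8b15142a2454403f00000a90237c47008d8044c5478439236e108c545044817a0a8c0349005000006915100000548042609924d6022191cf061e1f8000e0bcc5448a88150e0290832000022000008c991b1236010f232410c85440a8708700d7151000a000000040122a2828600f9150c0081512412c5438a860e1841e150e038,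
  nat_lit 0x11b8237246e822e0a6d1050ac508b629b05358a6a14d229a016647948f311ee0a8c0d9c5368a6c0f1045908d8114821d8a6f14dc29b441246188db11d514e420808e211a48ea0a7114e029bc53704a454d801808ae11980110a7214e20fe236611a097c8a7414e629c840e2a041b30a7714ec29d453a03f027b137123a029e040c29ec22911cf14ee29d815c004c1af0a7914f029dc26e45f88d7045014f22050000000801229ec29d045f14f01de000029e80078a921526003840829e41b50a7814ee00708ba29e004a29e4000826053b80000261033066c0d0c2260019000229d8406000000c1051067a202002e112418a0313085a46605418a8215022a0053f8a7e14fa29f053d8a7a14f229e053b8a7614ea29d00ce2a1800005f46240000150c17b1890045c08b0a860bd10720886468054288048b78a8404310700a5c10a05418a8215022a0053f8a7e10000fd18ae0d58296935d08a410241a28a830ff8294150a084087c4d709ba04e509c83d145420a8315041fe,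
  nat_lit 0x139814c2296852c8a5802a000020da0a406d80c8c52d0a590138cdc19b605b852d053c00000010048a5f062405f852c077852f000c14b2296000e0000833836020b60a006cc29600143fd4000830074500030730e7a00041be1d2e00044203a54000026c7f8031d14a60000988131127303a5441e000018a053c26f24de81e8139626204c3c41c0c5452880885298a52000001308424e149c30a511068a50149e003060829400022a245450a6114c002115582aac014037814c0297c52f0a5d14b8296c52d0a5914b0295c52b0a5514a8294c5290a5114a0293c21641c85318218903920808ec11dc22e8a6214c2298052f88305450a6200f003c15980dbc53a8a6614ca29905318a621058014151c46fc8df0a6914d0299c533057c546037e004429b05358a6a14d201814de00042e829b400001448dc000014da173,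
  nat_lit 0xcad07384274000086800084ac0b0e47e41ce086400003b907684aa276215fc9da8a2d10c000014e829d400d0a5e069801a1456001093a15f00968a3c0550a6a14d628ec51d00848b613af276004ac51d0a39147028dc51b0a35146828cc5190a31146028bc5170a2d145828ac5150a2910b8bf017e20cbc1a11015004628f051d8a3a10b0a3c000029d8196801105c8a75068000745200a3f147c28f451e0a3b0480a6d148801e000040942bb058127624ec80aa012c189a215204815d05398a6c148429045200a3f147c18514cc2918046005453a037e148a29105218a42148203b14dc00849d38a48148e291852281842b803331498292c5250a491490071064829b800d8a4f149c2934526085000a8a5202f0330066c40245288a50149e2938342002c1bc0a6d14a403505d20bc0191032114d82944528084c8078a52005139e273e4e801a6833514a229404240dd01988a5414a6294852880cc534811814ae295852a8a5407e031b06e4296452c0a570578a5f0650299852d0a59016800026400f74263925b108800f14b606c,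
  nat_lit 0x545280018142e285850a8a14142603b148800689eb04721432286050b887853b8017143a287050d8a1a1432071144000000068a3a147610200684f4c5240a20143e12a0024291c50f8a1e143a287050d80dc0098a42144628885108a20143e0d1001600445240a2701a8001006e29001a0000000680c401a8a451448288c5110a2114400cf230e46208c493cc001e289451208740060a3c1450289c5130a2502c801614864f2c2ca84b6145021c001200285150a29145002e146400285200a2b145402d00144f200210a2c14561250000009c1984f1451d0a2d145828ac0a800140030a2e145a0270000000401228ec0010a2e145a026147400145178a2e0038028000028bc19428c051780585188a300050a32146202214bc28c800c28cc519000c0010caf0248000076e190218e0eec8fd839e000228c49dc117522e821b,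
  nat_lit 0x850180040710001140600801c228040008171157e01b09bd937a111000002e203102de4fd054a8a00018001e00a64fc854a09ff13fc0dd001800345008a0013fe02e141246f050a8a0214020ae27dc4fbc0198a031404221140800040582808000088002d0ab927da4fb08d48001140221f0000469c002469c5068a01140027fc0a800148da8a0214020a30000000401201200010a0214020bf008e00105018a02050801f0000280c194281050180585028a0400511ae140a01e140c28140062a840240a51146428285048a08140e28181ac28c45080104504800114a028fc51f0100504000014a0007400980fc5278a4d141a28305058a0a1412282050381905210a1200f0a7c149e29085088a10141e28385068a0c03a8a7914f429ec5270a261428284c5090a110980a391430023,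
  nat_lit 0x27a84f480281ec89ea00189eb13d4001000029e802680400038007405e29e40268a33142827b84f689ec13d627a81ac284c4fa01044f680011464288451001004f60000146400ac00f00fc5188a2f13e227c04f789ee13da27b04f5819000f89f401103d723e412a45180a2413e627c84f889f006a8a4e149e12a05178a0913ec27d44fa09f30ed0a1b13f4023004601ac01309f913f027dc4fb09f505b000015022a081d62a00a0411c513f612e144800948e209fa13f227e04fb8184002001a00302b345670000113000100fe2b40168000003e80e824f91cf13f627e84fc89f813ee22513fc000000b00140026224237a46f851209fe13fa0b20036288c4fe89fc13f627e84fc80dc8e511cb143e28004ff89fe13fa0e4002800685118a0401a8001006e28741a0000000b00c401a8a20140228004ff89fe13fa0cf234c280411e01248db13f80b9247a08e50a0011180141430280c5010a011400059,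
  nat_lit 0xa4a008e48a44f209e305300182450278c4f109e113c0277c06e00048f4122409b8474445c00008f300588f312220c0628104f189e213c222d13cc000810c486026583f221d02798458005c00c03f313ca03523ee48841f909e40870001003027fc1a0000000700c400b03ef13c227804ef89de13ba0cf0076484490809e413c627884f086a800909fb13ce27984f289e402c89ff13e027a84f489e813ce00f001c27b0074002400789eb13d427a405c27b8001803613da000052208ac01f805f284827b0454299c90509eb13d427a4452000051b0330019121413d827ac4f503e4000000100489f6000427b04f580984fa800813da27b000e002000009ed06509ee13da01600002b7002c02549008003000022823de000410c00042f484bd23b6476844e00002f4120d23dc0a3,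
  nat_lit 0x52a80572444270c00008c82b0147128a8139c4e1030400012f400092f41398270c4e109c102a0007260027104e1828c8a809c503491b40000000413c00000011234093a0f0000213b431705fc0bfa51a02c7932c1188000000200909d411084e009bf07c04e9000427044e0001c4e109c100512f7138401e0ae0270810c2820504802213a60210036015c507002113a427444e809cf139c27344e609cb139427244e409c7138c27144e209c31384270404000c050b89f613ae27584ea89d413a6274824427d44ee81044eb0001142c282050381004ea8000142c009400d80fc50a8a1313b427644ec09d713ac27544ea019050509dd00f04ab241850fc9190a0a13b8276c4ed09d906a8ab9011e47f0a1f123113d827784ee89dc1180000240a03a001a0030012002313c01b323fa277c014006c5088023004227784ee89dc13b61b21410008c02509e113c0277c4ef006051d0a592870182426e921913c222f13c8000000a0a001402102,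
  nat_lit 0x13342664014134499a06430c882668470133c2cf06350c86266446e43bc4cc00784cc8998001930e0b0c4c4828184e4240e26a04d389a6134a26904d189a2134226804cf899e133a26704cd899a1332236264418c8a46148b0c80162c98c09a91350235262e26bc09226a000089e513b0275c080269c00009e508c6004c17227902c389ac135626a84d489a8134e269807c27684d7807822f132b265e278c4ed09ae135a26b04d582e02cb132e13c427144d909b1136026bc4d706104e909b6011801b0a0a00704da89b4136626c84d880ec54004f8260e26e025c276c00e1306136e26d84da89b403080000b304c6c1684ca098889ba137226e04db89b605989bd000000344e809d10811301260427684de89bc059045613b226f04dd89ba137226e01624c30986857a260e26f84de89bc062800b002616184e0853c98809c0005000023d400a240618ac2c189be137a26f04dd88d00078575138227004df89be019844f001c270c4e109c105789ca260c16004e209c31198a71138808f,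
  nat_lit 0x4c280001374007800b00fc4dc80f0131426244c40987130c26144c200f8277898e01104430cc026e000f098d1318262c4c509890778000195c0a403ac51bc32c86690cbc26d800d898d131823a135426440461130a4600181320263c4c7098d131803b135e006c32e8172132426444c804e8881058c0cb444244ca099313240e8002826c400b04e8132c26544ca00dc00011050051105220c03945970997132c265418a002c00909b0133603501502d2806b00d50000000405e00000010ae6017a0e2000215cc07083fc00000d40188571135626584ca89941326264819e2cc04cb0028000147e018947c28f61940326841001be2650472002406d8997132c26544ca00cc0038008133226604cb80b84ce10fa134a26684cc82b800310f913362668146000021c8024a3c00031336266804c10dca3b8007133604a16760388a3d81f6160a000031e00002b280c701200d21332023,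
  nat_lit 0x26504bc80e000c057412f025dc4bb097512e8240003226684be097b12f425e44bc03440078017295e25fc06a00004e200284ec14ae295a25f44be097b12f405c1f7e0df8236915b12fe25f84be88fc0098995130426044c0097f02c8011002426104c18982017098d002452a44c289840168608000808400024d180d8068c3050001130a4c0c47c4d142eb13650baa000047a260800080b04c000000158601294019d4a518463000025fc47811882bf098012fe25f80520dc82b189821302260026e001c00409831304027000000040121634002098313040260b1800744c209830e18000138c19b8a4c811c4e2000013060460000526801500904c1098100b0983130400a0ab2260c03c00002af055f0b5e19d261016140798b3c130c26144c20983130423b130c00044dd09b11360040,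
  nat_lit 0xa68800012d207a135a25a402c26804b480284b509690110000299a18b42ff05fd0a2424812d425a400c277c4ef004a000414f12e400081cc002400082484b880000be011b0002000c01609701238fda0732531c4b280502db14c612c80130000530c34c14c70bac16f048c530c4b100944b189620002117815e0914000115203484722668530ca6109ab131a25884b08960122098c12d004112c200044d50999133004012c000004d50025002603f1352269c4b2896412c625884b0896012be064133a25a803c259400082a04b1800002893ca2792183c9ee861d002a005c020000012c4243008015ec4cd096612ca25904b1896212c2242007e15e84bf096b12d425a44b4096712cc241132025bc04600602d2801d12dc25b44b6096b12d403b133800d41c3097112e025bc4b7072001d801c12ea25d04b9897212e2039,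
  nat_lit 0x98f131a25984aa095312a425444a8094f03a097b12ae023008600a04c7001f12ac25544aa09530fa83c129de005c4ac895812ae25580e4262c00f095d12b8256c4ad0959038897f12c20380034261c4b0095f12bc25744ae00dc4b209c729d653b035f14e929d4271c4b2093c02009ce13ae4c3c00089384af8001073096000021740cb400004af093498585a929cc27084af895e1260015138225784ae895c12b625681a2000000106430c280e2000253884df8208000000f01894e000c601844af095d12b8256c4960020009096212c225804af895e008800e137625944b2096312c405900024d740e183ac00005d80bdc05726b04d5c00b097a12d4258c4940024005096512c8258c05c25b8005005c12cc259431000009f2044028e0009001425984b289244b9096912d0259c4b300a0000000500b0015829e0010002896912d0027000000300d825c4000896912d0026,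
  nat_lit 0x9a00c049a0933126424c4498054400013d107706400cde003c0070935126824cc4ae00284a38938126e24d849a81640040009127424e449c00b84a0000a005624ec49d0620005950a0c8624f049d851400011ba12b006800cc19a44a3093b12a8004000c24f049d809c4d29507000424f01b600e4a83003412780be0082000049e032849e893c00b093e127a00a0bca17e801e803e127e254127c24f40440000a7f86d40da20a0814180f11298064127a006000006f062404a02e784b5096c48600d38000129000026fa541890b81a6128894b0002098129200000984de400e8981129425244a0000000c0021132e00c480681e400b8020130c25204a38946128a25104a189421282250049f893e127a24f049d893a127224e049b8936010004d129a023128e00044c7898012fe040128c00004e28023003203f138827404e7894a129225204a38946128a064132026384c2894f129c25344a6094b1294075,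
  nat_lit 0x87042a6a03ac4be000037b15090350920123e0161242248001400008a58492095612444bc248449000889d3806600ce25904a4892412462488490862c4a4092a02089230002258c4ab095502009220000258c011801a01f896212c0249c49309251248248c4910921032005a0116258c4ac001b125424a4494092712e808a12c424f8497892e125a24b0495892a03a0951126602300ac548c00f8932126224c0497892e05b00010000052126200080a200080008970498000012d80c127864f109f40657126024bc4b402f49ec892f125c00712a4012833e0645125c24b4496018402e8071140a020000c892f125c199000201c803c80a4148002044b224c4000007100f0003c4b019e433c0955126224c016400484aa0930125e24b8496892c01b8014129e24d04998932126224c01a200300088034127014f131e24dc0140004027894c06800000018031,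
  nat_lit 0x6790d161c9001109211240247c48f09a849f86882a9e02d401509551242269002c02284f709de0002268124400041cc248800000b04ed954c2a9625044910921072801b12802484490091f123c247406e007449d89251248248c49109210688011003419d4494053c49300010560000000200004ce1ad8a8f066c000224904cc2488000899400100010df09210000247c4c824849fc000013193f80e0e19b4490091f123c24744c40000216145f1ac826121141a8034f953e22ba129048f8980007892f12442484490091f02c89220000002c55c86a4006000d1246248849080b8494800e0cce249049186208ac070e019824944920750000041612b007300e854dc49689240a2000800142494492009c33807090cdc249417c00040000094a73865b0cd824942d61964001092302300e40000003,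
  nat_lit 0x4dc8489823c9bd07002adc19349e38912122227024da159048a8914122624482ac249c48e0918122e245848a803c64e0919060000124d449a448c091708a09200006093001800081cc2468000858448e00000158c65122c00109b889150000246c4de001c00606f6122826e26dc4dbc37a8913122426d0d42185c00003ac000136c000936c0e621bc0934891102a00000002009123200084888910013091800062448488801c002000012240ca0aa4244804649684890300938891200180000dd449602a509b0489091100094150d0e1c784a48933122a245048989120c589321236041122800044a4093d1278040122600004a40025003003f128e251448c0917122c245448a09131224064047608f04a4093f0032246c48d0919123026b14b4296c11d89471250247848e891c12361da,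
  nat_lit 0x901000423e847c8098480000311f623e800e089800008fb065021f11f6023191223ec180328047d800c11108fb00089331268008c48580840028018272624dc011090a121224204838906120a241048189021202240047f88fe11fa23f047d88fa13c802e0afa2494487890e121a2430485890a13c12871228016121c000401492831264040121a000049d801a003003f127415e494189111220243c487090d121809000244e3438987520e4815c048989121222277000231a8092195c9ff868027f8244c4ec31a433213fb122408e003e24e093e85710c684fe848889100af893100444e2048a0913122424440c224682b9070d2af6192c9d0091413a800018f211000201d2838e0652122a245048989d093c8917005000127021958324049a139800026fe01626fe1950aba856c1228244c48909c8653022327bc245802832349ee89150098001003415a41fe000000a00c400c1288250e15e848909111220271,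
  nat_lit 0xad00030158492800581342b4000a11005660012498850632d00048ca51440783001233bc50e56b8004026514206950010508050c4fd800385a1142941f000c04f0d440018a030a04a030005079069300084fd450815a4001855d141825a000808c850450840018ce61408cf60004506050009b4000940013f826400000981206000c13189f86758003016025f000416104be0004158339c000000313e859e11fa000095a026604bc339839816a02d5072611f822a124e161039208fb11f427c0b361a04341069111f627b044e000022000006480ca8045c10f191e4a6847d08f913d00000002009,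
  nat_lit 0x285000602e98a60a24801727da2940d5600589750a5c250801804ac296005a005c4b61ad400c04e914a86d2002e5064528163400d85c0149927e00340f2289400642c60a4893d80181100cbf003002c2b9c00606838a4496b801815dc29004a6006001a0a3c3a800170d1828b06bc005812c09f4a1a80150b8a28e0256005049189f8962001407305b500260ad281000486678a3465c801112e09690020220282e00441380a300088010095e28b152e003c2c212840070134349800d002a28a095800300981a8800694021448cfd001a25c,
  nat_lit 0x50cc0140840a42802726180028544002430000291a602a1163000a415005f80140a780be0027028817a004c25c00b600981cc254801285844aa002401595f000480e445360e7001186b914c140e004417d853a1abc01085f61500cf300420e0452633c40100248028801f1080054003c26504ec007453e010000e8a78020001c046229d0080006c0ae0a702f0001a026093d0034161127a006413033a800d82b4a11001a1982050051a00702fa04bc00d8d1014d8cdb00341be0d6000683d58a68a16801927b4299,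
  nat_lit 0xfd200f41cc1b7801e06c9156161e007650f05561b7401d03d3155143c00724c605281e7c01c0f1915487a0006e3c5c134519001b80921541410006c3c2854e1adc01a8248a0e00351e142a60c1000d01244c5401982a0a2e00320bde24d0bee00c409e3b1001809a41529402005e3bf452850700178f0913f82a7005e093059800b84ca4c600168134153002c12d910f0058339852c45f40168588368802d01585ee005a1740bdc00b02c24be401582b035c002c05b42a4286a00ac124506801506f837480291a722a3,
  nat_lit 0xe0801281240f9c02483f1159144800901611ab8011c1360b08023096c79e00040df130200060ad0798000805818e8000826c9a10000110003600822b10a6a010416f8ab09a100401328636007e29f28be00f83058ac01e0003e0ba02ea007a16200220f0401e0d25157815400820e625d001000aa0ab80aa003f0df0270007c09b034e00f453e32ac01e0260654803b0260b2b0076162032e00e82c217a401c819415681910070220053600f053c0c4401e8d4f1541622007c093,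
  nat_lit 0x1e34011c0a201201fc801a1a982b507ca011c4200f88023026c31b804801600da009216113da012015827ac02380aca2480471e88299052c01182f83d4002303c8699004a03342b40654013c2fa059802703989aa004d1bac29b0654013015a0ca80258144193804a0278dd10092161064801204ca2d1802388806c1004914f14630094003855635e800080ac17a000012d804700902b10e6a013c1e50a081f0804e0b10720009a3ca85640f800260076142802907e0013030f8acca46004b28f4287,
  nat_lit 0x6bb00500b10013009e036857852740270d7314a9339009e2ce85762ce80270588587004d04d82cb00a817d1722014c1cc2d8c029024868880510be01e400a00f21704013c13600c46d1005115d148700a651dc5501cc00291354143871a00a216207b6014015a1c9802784221550710009e4d84526522c02705886d7804e0df03f1009a02c290001347b30ae49b2004c12e07c10098106452c1f8c02603f315c00de0098093081a012c4f88ac806d804a004a2b71eaa01281261034024945915b0405009017c,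
  nat_lit 0x16d801d8a7cadb803a0b8e2bf292800ec2240a9ca4a003a0be0318007809301fc00ec2c4361c01d05f016a8040049019900840f216b40104158076c02000ac16900421c502b91cf201044200eb4020026c73b003f1100055008c1620e6c01247a78ab0195804a012a28f1eea0124150202c0240f6b146880b008e3d2854602f40238f7015380bd008c0ad298c01142140af87b88044017a2bd0830010c05e8aa416300430b0806d008652f453253400210d6814883ff00860930adc01306d88990a56804e26b02b0,
  nat_lit 0x51001b85f021e00361b5a00bc58a04cc01a80b00a200340b08144006602b087200c86cd8aa40a30032073014600623e5054005180180a7ca77003107313bf00623664588379401909941ae803114f938b006204d0b6800cc6d30a249b7003316da24d296a00f015019e001d8840a56803b1f422c31e2c00f453e4e7c01e85d09ce803c14f0f8e007602b003e111c01f0b087ce803f0268f75007e0a8146601002e80cc002005880120100007e2c1067a00f8420018c01e82b03a7003c0b682c0,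
  nat_lit 0xb9b005c0e608b400c053c17c401e00351648836007617c857e491c01e0398302003b14f060b00744a00516120c01d024c1bd0039073000d08b400e05740de401b8144733803f04903b6007c521c5400ed801e82de16406b500823e4858e035c00183980a2000205680d6000216101ac0000056003401e8ac43ce003e1eec24d111600f87c40a04b6c003d1ef4284277e00f47c60b0c7cc003c04d8450007602b1f2600f006f0b187d6803b0790463007425c08a600e4130051c01c85f40a38038088428c,
  nat_lit 0x5700422650c90008493a8a0430e80202a0227f1100007c2fd8b3c440001e0c2e2b024fc00802190ae4950801f0540431003c18ac54033880118970a55002214f833d0042098295200804b60bfc0100994b5f001f05f82ce1f66007c15054f80120f9a16686d600483eb050e5bf00120f9e1660fb0004817d08ce008c2f83e2c011029014e00c700480a80204008c05837ac011088023480260be8f9f004a2a3859605a4013058870280250be0dc3005029f1f7c00a453e371001583231650dd4005c09b,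
  nat_lit 0x32f0026073062c004a1622602009037c4c040118840a99802225442d11c7c008405619300100a7c180802505408b500480c8049a0de801181441bd802212e06b300420d9059e5b800100dd21670fbb004229e1f9a008453c4e6c0108fbf14a0c7900461be056600882c205e8013024c55a00250b101a000481be05f000a01cc02c8013858803780260be0349004a0a80692009053c0cec01183c86f3002206722d000fa008415835cc01009941a3001f14f8344003c25b,
  nat_lit 0x1ba40034150192400905f495500110b112be00220ac260000449480b40342001125322d20024004009e5940008153a15488b900224a685a0195c00d026c329001914f8d12003829e0650006c0a25b3800d0d4114586d20038370c5a60e0400e00b06f7801b12d8fdc003a02b1b2000a02c40d80013813c950802c0c6c28c25d400b03228a6c339802b0c422d22a5800a80008a0044080292a542a9250800a41e45c54014862915e061400520f224dc00a015818500138134309002612d865e004e093,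
  nat_lit 0x1207780050b54584000913281f5001029f038a001c4b64cdc00585d0354000a266a29125b4002c2c419c400500b0338800904d92b200122100c8400300e98b10039800b03ce294012e002809a2b14004813095400090279307001209326d8002033d8a1c32500070491303000c4b3855602b000392a71678ae7000e25c15d200182c22ba40028260956800403a609a2616002c94e8ac8347800b0c862d42a8c00300a25974005863d14b12a700162b8c4fc357400782a01ab000e14f0d35001a25c,
  nat_lit 0x78e0f1e22cc32a801316d067f0cd64ab40090b64007093a12945cacb950b6006884ff001a5d2438d802c249000a00f101d2038406c001000816b958d000000a206401ac0068f5b000a2d6000803d00742c2c0010a7c1c9800704c0e0c000c25b299400185848140066000a04981e800121be03c800200582ba0003826c01e800705404f0000c38105a025100030b031518afc00102100ea200202fa029c00385d0a2c80060b10f4a000a2bd858601500020035165092200062bf45281a2800482b499e800814f129100182bc853602b400581de16781f70016093,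
  nat_lit 0x836000307300b300040ad0166000453c02cc000088033b96f311e400000588b8c479069c008c03545c440cc000826081880000260684008642048391031170869900840250944599446408ee2f5825d04aa88d300002e0008600e89a4800a2dfc25504690b7c3590008000a4c3c5bc4d14000014897d800407912dd001217c262600241261ab0004039834f80070be1340000c1a545780198002814402680041080053000626500ca000853e01940008130346000125a42dd267400000308990016004700c02dc09245d4c4a0001a022800116281df016800000fe80e80008571224a162889f85980b0c2db,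
  nat_lit 0xc28007813c0fc000e05600e4001c17d10bc00340728a18072800c0288042001817d0238002c82d0a20598000c049004700162102e1e00301265c3400584ad17406900014210039c00285990a1c02000090b10048001017c113a001c01a8140015800603d22a50076001806b0aa02298005006a28c08a600102c21134001803b173852d000825c0056000c3428b9c0038004007e2b61f14000c0028b0caf180020540006000200d85cc57800000144077800920fc14d406008472bbe2e508aa3b9400095de0e30ecd00000c02bba001424802ec03762e4,
  nat_lit 0x555001c069859403b000700b0748000d12e012d001815444c80f7c00582b02a7000a11001b0001225b296a00240880a502bc8008022029202ca0024ae50a6443b80081d902901118001c0040a540e6800600102d1169e00381cc0644007904b1488198001c412c554579000080e1153015d0000531453600000080ac4446000901be003c5d25304007058405d800d05600ea001e0a81efe004812612fc008824825e801005404bb001e02c045c00401cc0c3c0078b4114c81a20022419858e2630008052b15c830d0020051,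
  nat_lit 0x20c400742c4437c00f108215581c4003a0a80b22007053c41d000f014482e001d12e03fc003816107f2006c09a122400d03da14210c6003a25c217400742c4052000e83980b2801c029024d0b28006c0a40a4803a001a0b062ec00fa00687710a1c771001905407da00320930fb400602e8228c00b838914407e4002c0ddc564225800a838017587d400280f20fac004c0561ecc009013a16407a3002225b21080044124035000806f80b98011016054f002006945d459a4008053e141103d001e092,
  nat_lit 0x4a2002a17d20e4006c1264d7400d057415c892b003241bc52215b800e04b2149909e00361622138006837c30c00100398184001f14f0de5003c04d1e4400741fc8aa40278020028628f1324007c0340b4c114001e01382a9013800741148bbc2d4801d04d8155003a0e60f5c00708630a8c3d6001b02542b802a8006853e165c00c8f35177059c003004c00ac006077d0a446b3801b0540390003429e1a7c006809e355000d03c8836801c04d8156003626503e8007c82b0bb40e2001e108015d003a0ac,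
  nat_lit 0x81375004442445e4135401105d07ad00210b08458004c0a81d3400940583d200120e98154816800480e60708008c0a90a640a9002204a82ab02cc008415a5a1001005b302810da003e04f02c800782c2059000e80ac491001d012228712020070049093403d001b2f602f1138400689b18bc0406001901202a91220006472e0b3c12100190b08d0b003004d0482005c4400e1400b0ec114190de0030220138800601590bac13280170f742951192005826c0a70b0f001513297ef00282318134166800a8f4a1548f4a002825b,
  nat_lit 0x17000b8058066801689700da002c13281990056220301000acbee8a08049002a12002911eaa00a44b85f64014058449f0027056094d004e1cc452a4e2c013094817384df004c2f585903a1001303d717a9392005211d05ba11b801402a077500270791750004c3af457a09040128e5317a0ee600482200202009415852f001285881da80240df07df004616104b6008c15013ec011058400800dc00462f485e624380110a7804f8021027818f004002805243da8010014485a00230ba10b200441be,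
  nat_lit 0xed0005e0ad097200b84b812b40168260050002d108008100580ac1cfc00ac44005980190c04028052b006817d0a5200cc9d30ad87da00320be06fa006a431849a121801c8840237803805604a3006e265094600d853e303801b858816d00360568c0b006a29e051400d42c40a5c01a0a787b180330b081000068093030200cc2e806a001906f80aa0031035205022a000c01e406a00178584088002e13280cc005a29f0bc200b01305b44017912d16180c5005e092,
  nat_lit 0xeea009c1cc4f3401305f009880250b0930b004c43b0546019001980b00100c24006445085ee261001b916414a8a2d0078606c5ec034001e169515909b100765a4c57a229401f0398ade003d0be13c7007829e114200ec4200a2801d824c15c003a028898200722102e0400e04ca260401b8a7c15b0036110094f006a25b05c800d4058302801a026c60500331328c6400660ad1b4600c84201024018826c1ee803014f8d9b005e220008200bc75f0a20240802e0790087005a265,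
  nat_lit 0x18fc0024150022400b03c851500180ba186a002e601855c60a400b02a05258015121c28514920050158324c00a8398baf80140b10c8700261be12dc00481aa8b4c4e900110b089d000200ac1398003c05627340070134777000e0279712001c0e62e08003437c5c800060840b8f000b04d825e001404d074000244400e800040130300000b015800b001845380a04538005813c8b7800b0159828001628d056e5a8800582b04a5000b137c2c02224007876f0af03b980282e0628f,
  nat_lit 0xba80040124426800785f0858000f04102b61490003cb798aa0b78800e04908cf001a1be00f6003009a6064007824c51d800e073108c001a419052816c400600ac83a000c0541072001629e20da00280a2413c0048970b238009302c298151400248190ab82ef000921142f90a1600242e90b742f8000811822f80be2001c15017c40030a7885d8005027909e000a60245da427000210671650a2d000a58f05042a48004180e1531892000e17585ba08c000305e814a8a90000e1718558245400302b453b00052c6a28b,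
  nat_lit 0xaa3000001e2bf2000853c005000083c8000800012e18ac319c024000a801217e90ca00220383100003c1800090866000d11005534aa717e117e000200a2035844b957b17d85bc000609314d80008124615000082a0529000014f1895000016e021462545568aac3118000c5f4622800101042eb80030df108a0004210209c002c12416c000502a085f800d0ba02bb042a00302f85bcc00606f813f800b12e170800142102e0c0024136020400409943f380070269070001825c3050004412461f0008904315c909b00220e6,
  nat_lit 0x200030be8004000417421c20004420437c00000acaad95572a3207ec4e88df805de00046120bb0000017886e8001091a37d81768c20477090706c20cf03ee800b21d230709161f7000510dd21b8306154200186f504561b9e30521aa0004070105c00302b46b680050278dc2000c0f21b80001444011880028a7c6f1000412d90ef000a0ad219c00102080a14307000307910ed000436ec608187c000845c13e861d000004d0f9a0cb0825800221d4303000041e800080082e90002028e30214ca00048240c04a1d8001056033e000026514c42a44137002714dc006856a07ee067e0cf460000003de18d2314a2ff0c9a193cc6018b100022fe,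
  nat_lit 0x1bf400006d38c4c2400e1e043c2230aad8005088e3122a0a00080ff01ff295621900002a8855c98a2157031100040004a8108452956310110600000065400a7f886d0404000861e2a780008440aa90001073155200000a8087e001caa80a3c003043b000c30e1c04001812636f4002839821f80040790da9000609b087c000805635dc0018398aa38002086a2ac282800046fd0a2021300030498888000411cc50437fc00086f86ff80001080000074441281060e071bfc30d1134226caa50000197000b196e0698bdf8811000430c289c00040a44f9800082a03e58000028835e068a1f9800b98f5327464b844b15450f9430b2b8423503f2801631e609b00c391b8236e30a,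
  nat_lit 0x24c0000826cb1700000268a90000c24d451f092e18c81310008000002612c01b8813100061ef019e000415004b400002b000a800002580ab1244000c4218394074028d00968c604908002158c2ab862e523c00202b4a4e80030790842000425c106c00044ca20e4000026048d800c08ea3714000083418b00ce0bc4000c6ef0dc40530000081e00132302c18c0197d3148e24940048ddd089a3151b2e000415011280008a782ef80001b2828b0bb8584448a00051bb21120628375800182a06e600020288dad000225c1b4e000c12458080010dd11590466000229e1b9200001360984000844e15d8da80000162,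
  nat_lit 0x6560dfc19f97ca000a32c0e42001032a0cac390800204997dd00021742fb6000037c633c32700000e3c32a0c9e019c713800019497c300000381c48000009e1c7c00104b41758e4f00022201c9e00004b606dc51d0a262f0e000400200031c9a3280810081c8aa81ff000032700000f580a881be03fc32607aa0e1826300000002325000051d8a3a883414a41314648119c0000004b6496c8136200140000492091011fc2338c8c24809a3151c60800020c880b3093800003212d905b1cb63000113ca3202d8a00002820ec018f89e32fdc00044d616c318f1819000005230342a2455e800f127c2980bf60c740030a98001c24c0009001518e14a5000204d002200004b661b45570ab81576002c496801018d819a15700028b1c164e18d09300004210,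
  nat_lit 0x32400181348ab800407300df000809331d8000c2c40294001911c14880b90008093072c000c8a98a64c74800901b42a73200003488c8b441a1800f04984aa001c02d05da383800683c8254800c0158afe001817d31c8002c2e802d0005024805a00090df00d20010638049a2be00038584059000614f8af5000a098067800181580028002910c1660e82000e220067600184b644180030333176865a000a02a45d0440c0020a7832c8003066a2a50cac0008158001c0008134329000006682ee,
  nat_lit 0x478001202c154c00200a22a9c003897054400060269993000a13a055263e4005851f13211cc001444645ce1bd000480ac54200090e3829008f8002009a6630003982315490bb000e1be0558001815026b800280b008200041080a9e000609b00060008056006800086ea15a19830000607055266045b58b7b151c25380c200001980004002e0ee227e001009a44cc00202b48a480030790694000425c0cf20004056496c000068b197817c2c50000034a8691197068e000409b2280000409a19fc002858405400040cfa32d,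
  nat_lit 0xecf00060382298000453e4530000096c7678016323603f008181070214452c6643678000013c765800208f62bc0928000444036e4000096cba480011b7028a2e9200004b60484c89800f1d905d18ba38cc46fb80010160df5000002b335a66b0cd5800a098812e06fa00a8cd599aa000e12bc4041204000023c89600000b091e3001244b057613e400885f427b801002884ea001e04f096c003842012a400682b072c800c13284f5001629f0a54002c4203adc00509948ec000a22462ae224600244201c9c00502a091b8009056088f00140a8,
  nat_lit 0x15a000082b47ec80001df428b0bce00002b30cecb34000407a05adc67459c8001823cc57000000f0ec1000029e012000087608a8c76080011080001000029f314c0fb40000ce4157001209803af8670636c00089302c58574cac60cdcc6d98da000024bc4a48cd8ae90000110167900045748502247c00083c8ae8800002785500000574066a57680008ed902802f1000202c2bb4000c76c0b3476d000305de3340a94000853c0008000813c18580021daa050122e000476a8a2c0040003079029d0004000c546376800082606ec00000260a89153604b40030ed10008333,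
  nat_lit 0x9c4003037c05a800584d81550046001413405602f5800504c316e8e0100120a809be002053c63080038df914a04dc000c098337a00184b70a041e380050791625000804f0042000c13613280010260595800209aa3401766000426b0cfccda80002c4028002b40004c6098c517902ec467c2b005b98000002e0ccc4a80058c928b6717242df85b90cf4ae98003049955f00040e6122800042c4573c00006f84d80afe002224e8ae70cf0b3f001006563211fc43f840030000224425e224013e827c80020b686b400020692c920004124592400008400ba8170310e271c00216481868efd0002174,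
  nat_lit 0xf000316e21788038000a2202fb8001871b8a5072280060730512000a04f0a2600104401484002862319f851f000800ec520396c001813c56600031c622cc156c000c71f8a0471f800207909f50002142c5a060380000e2e1420a7614ea0324011817c3444398071e0d046fd8002054017600040931c04000c15067ac0018df71540f5b000638185ec134c00600b053d800c1bfa2f017c800306f90ab02d7000e09bc2821bf2003c1cc578400709704b1000d1328742001804d1326002c440596c005096c6fd000e0be8de2001a0e6,
  nat_lit 0x1ee800101f20ba851600102d442951e7400441263ce00080398217800f0b103de001c3d6053015fc00682b42d7800c0790e87001625c00b400282c2017400482b02d60008015851f000e0980b28001c2e83c180030248798000505405ab000829e024a000c1585bc8001969215d8048000417c009400147940a9c81300040b4c3422dda00240228ad8b7580080b08e40001202b0c60003053c27e4005902016816af001617d2d5e00282c4270400485f00220008054003b000e161,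
  nat_lit 0x160f3a073e049c00a00bcb5a000c50600020be96e40002162224c000037c28acba897382e6e006061f0a2114123460b54000451c03fc50e0000000800100260084b7e85ac0000015003001208f62b20c9381080b3404c45268a4c1a2977a0022004000e8d10b98000e00b0f6900000410b7200081243cec00082a02d1800014f0f660bce000400b80110b6c343000017681da3e000020008002a2d91efe0008082178800000e82cc00090498efb001009207d8001c420278c00383c84f1800601596d600120e61ec20020124119800382a0b6a000601606ae000a04f,
  nat_lit 0x2f240038ffd14a0b18000c26532b0001400e0ab429c80050498e80000816200d400142fa07840020fc814c8fee0010156853401dc0039936157061d000c39ec59664d400280b00ef80041f882d10a6e001815014d000289707278004110000500080921cec000cc978cd003900020160e6b0002051325a000072a0a8cc95992a05382d08c5e80001a498bb000007547388d200e900040b1053500061be00b6000815000080008a78297000010818b5316c120407499c300003473382015c04460c802300e07a3803c02f0afa0070084,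
  nat_lit 0x1ffe40488178009013e2fa40100d3000284bb097c5f3825c8b75000a34b0cd640b0001902b01a9017000829f0aac001815a3a440028a782b680040560e78000a16102640018809814073d000c079009300201742046003c7460b0c049000f0498b69001c39cc5866504007813c2300010201a2a300ce004409a032c008096c31980130be8e8e00260930ada00481cc157c00885f07ff00100a9e2bc0ad0003c4201598007026c2b3800d1328156001829f176c00300410d2815a000b01042ed1fb2002812403300048b181408b180010051,
  nat_lit 0x10040003e00546ae00046040ec11d563aa82ee65b801580010b9016ac6ac041c0000d542d8000305685a90004051205400141cc40a800200b001280030b4e2cd0b4e00084b819a800088802d300000261964000040946a86590cb28bf6000440486a643885ad1041204800400618b8a1a9100e000609b201c00084ca3b9000102b02d7800101585ad0000402c592402c00500bd04322f985f705ad1a8901d001201d00380fd11a8100900105d000608d3c800800114f0652000429e32d000048000b3481580030568bd700043ffc49a195c00081448148000027997c041a02cc00006551a700c906f400440080000200034d,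
  nat_lit 0x19b933a81a98c2d185b000c2dc4c4c0d7c82110430d5441b80080568c400001132987d00021be30fe0000c3e899034a000230f62f80d28000437c063800082485ab0000209c2d1171600088270b3034700030df068c00040ad000400048260b1082a80030730002333600088258d7860780010b09060000009b3330417c000105e181a35d0d3600dccd4002a1ae198f0046022358c6b1c003800008b077d0ef847dc0001ac7000c35b358c001004882d123ec35a000200000988658d5f1abf0236000022c2e8406c002500006afc08d0d64d5f9ac03582000c00d10380c4808a000602c0b5c000809e3fa0000826c7f400001329abc021600fc34680151fce358,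
  nat_lit 0xd0b800404d9a17000626518c2000853e2cd400102b4c2a800102799a8000a2d545762d2800218531400b48000604f30e200084ca61bc0008a7c59e800012d984e165a61ccc39187100362ea8675986e1b0169c000a0982d3400100982d9c003024c99b8005073130000080922636000c37c690c00108411699326000209b1080000005631ac0011883169189800080a816a0000c53c320c001987f16998a0000c09316f000141cc66f40020b6f1440c2a00062d705782cb80010144c4c80010b09899000002b,
  nat_lit 0x15c5fd0bf8000600086d200080040005000236833e0001000004d800200010268004000025b00002d3c623000d33da00100018d9c84e8bc233ea31740018bf3002a1d600ce002042041d000380ac839000704c06c2000c04c20f400180a21ce800385d08a100060df0009000a02c228200104201b38001805e173805c00041aec5d831e40011074154907500040f233bc000435d8bd0626000020e428418986a000028b3e186a41c86cc000c00109f30190055000461f059f985d1b28c3e04dc2f7c0008d90c9a8bd717be00006c62cec00080acc2b80010540bdc0000615454631980008c3630ac61546c419bc61d9a290000361,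
  nat_lit 0x1800200006c706e46c686859b2900021dc364e00000824ca8001024800100010568002000002c364809e80e101c80398669c1398003000237117be00002204c9800102b412c80010791325000004f326e2f64001940005e209b89920dc0c870bda326c2f600010dbc9ff000100005f700a396c22d8236e0844000409a4ff400001305ea0003084036d0e8c001837c21e0004824c9a780080790877000e02b2698001844064a800305885f0000502897ad000a44f457244f400202a03728003108018100060ad17b800084380db0cc5000117b436b02fe00003708ba8370800002fa36a,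
  nat_lit 0x5f00020158048000705f4090000d07301200018092022e002c2f8025400502a009000090288120001025c0242001c1362f08003012117a0121000a22001fe0018124041400282a0082800414f17e7000625c2fce00084206368000811816a0166000004d31b200000b28de8046013b00004e58c6c8de49ca8bc017b232c406e1a0c01ae07580010de00009b281a4a349c25b03d12804377000004e02206c98d9b8d00000002d02b301cd1bb008a00080ad0114000c058021800102b032780011100f8b000025b0002001c10a06621fe219346ea0000d730cf8262e37419f06cbcd8f000017ce373,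
  nat_lit 0x92000209b0124000005634bc5f480011988346467f0df80761a56000000983862f9868b1b6736d0349c0008df400000970360cbf0012000c17c82fa09ca0d506928df07aa800c14f9aaa002209319d400401cc69b8007824866f000e0be00ff001a0ad19a8003005868c8005814407e800a12e1aa100121612d9600201363380003899436b00060269afe000a03e455205340028398c9d00040540c09000629e326e00080a205280008970d7b800002942a935ea6bd000202ff029037b212c00301cc1b1c0058588845000a0df109e0012210,
  nat_lit 0x21810657005c800c002901b0db240fc000850081e80000430c0532b0653400200281b98c023296000c0128e04ca50000020866b00061622de800084b800a0000884054a000004d9946185202bc0010022004c380000269b8148308c00086f80580000056001e0046340c01b8015015e37f35ca00141506b8c002014402d000b14f005c001409828b0002409830c800502b4027000935be290185e00200a2658c003813c02380060560094001017d0128001c1cc0250003024804a00050df1ad90008013868434080018a78d6b000232b6335,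
  nat_lit 0x142c000209b285800004ca69c46749a7518e40014a16142b1c40c3900000252846000066819761030c5501c030e40008e1ca2880080569421000e29e126400181e40f68002813c3b200050269140000825b2e1800141cc1de000405f41f600070b1077a000c0f5066a0f500028778168077600082651a06001813b8a0413b80050288277000825c04ee000c05662440010771164826400020981724000009833f0b6f8a8d151800040508c801a6c09c870c649005400002db638515142a2c001942c0000384014c000022050a80008a8b017665087060ef00000a88150e5b5c3882a2400680000456081c48f091f2850382,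
  nat_lit 0xad8df89bf00b5e001c7201aec0f38006286a19f00066bbcd77006a36e035a16802bf428d8001007049a00000232e805d04604006200ce34b00008e3cd758d2a0000002c3f58e38005000936d601946950e34a178002026083f000604d285e000813009b0000942d15f90ec000205104d20000a1609f8a1600000d202bf16d200007d58a4843100021f5629400aa00044ca0004000096c25e03a70a7012300000e300291b5e00b400087af848e1c59b5b36b8016400084587af80010560f5d000002b0d3e5c34000042e1ebc3d747140048001024c0010001073171c00001be085610c03160cd200003890698003802c0000d3b87830759a7500020ee,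
  nat_lit 0x35e8011001e07ec0fe17ff1cb129e0022004000002051a8e395040808082e685cc001e394223a00001266208000111b1590bb4000e44645a6219400382a0969000601612d0000a220105a00104b61670003024c3c98005073078a000817c3120000c3be0bac5bf00020f1c28d224e00042c2179400009940f51bb403ee16f400005e41c985e50004098251a000409810b400083c8db0000210a22640514000495d8b3c95c800011002f500044ae05060a3800103c8146000112e12b4000042c859c217843b943e001a09ec140828a1c91b5704fe09e80060e44d83000a01280011fac003,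
  nat_lit 0x35a2f4a6d5c31b800125704adc1322c8cd2d0cf904606bbc0000e7c95b80000261aec00004adc1346ba800012b704d0d5b00024adc134005c000826010f8000256c09a043c37bc1c1019c035a06c400080120026005473c06940d38d5f002200006cc0deb1ce8d9737fe043800100001ce0006000a09315f200102e801b400185f0ba380020b08006000209b000c0000056081c105980e000e00147360010003000d075800002260458cbb8e6862d006600023f607325d0000002187ea800105606c1000002b15da000c00086c00788000300a0a4000235386a31ad407800043006000073000100010134951000104c12a0000004c2ffe000035f00132540397,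
  nat_lit 0x369200004b6001c12480071d6995e1aaa65b400280041d6000029f206900002dccbed84cf09a63ab36e4098c12601d200003aa29ee11cc000800403560e840e88ea43f111c708d4194c0000ea000107130482383c1bc02bc0caa194874e6cfcc5600010e240de000050bc00c072cd429a8600023a60328066800006fcc5380000009a8300022f601ae0000d0103b8d01055b0030124055e00041265014000024800a9a7e055a3a52ff02dd8c1d982b305400a00000e901e100010161025000002b004a00381178e00046408d08120e8c3829af0045c003414231ec1a4000525783a200020008d391a710cf99441868000032c0000d3886101a766b14d620e84d38060f38a40d680000e8095c800104c12b7000004c,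
  nat_lit 0xc0b800104c1815000004c350c00085cf8990c2a00010269852000022007200b9c17505e6001e0020004985330a43b01bb2382000700070008011805a8ebc818000502793f1000e051102400204400140006024c01f800b0ba003d00141be27de00248148ac838780080288050000e26518ca001c9f50a9817480070541410000c06c0598510000303981bd80050df039500080ad072c000c0a20e5800107061d7196a00084f8c532254800182e116502e200040dd85a800680018134127800212d824b00060da451a09300010840da48001049828a,
  nat_lit 0x27c400082a04f78000016002c00566fc800504b90936120c22f14da1db84b80010201040c080312f157232f018a80038ed80038006029064300020380f9e000405844d4000013cd5180000f9a33437340010d508bc06a18003110009f0006051011e00084b85330000826004d00001a7e283093e000425804b41810532876a134800000e0004197a06560fa4d468d4c093a3b417a400104202f0800182b0c3d80021328bd5000229f000e00084b865cc0008bab1421821000404d32e40004c0f8a10001000012d99711afa12686978c6800023b3179661c05e70ba6000205830360000d448c631d91a8800006064c300bcc17483b1,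
  nat_lit 0x185600084203088000896c60900020498c7b000263ac50463a400006f864899a8334e66980181cc6185a63a477c0024cd1008888a800307900f8000426528ea000c53c51d4001013cae6000222202b0073e00081e457f8000839c15e98a30000443059c2ff474018f21248001800380a7073a0e6c1ce0ef4ccc80050b3271ec7260ef0d7d000107e80d73618000452b03370fd425e38b2114c6c100001dd80a40006051014800084b8241000088809ac000012d8d6e09d612dc00a891b12043ba0006000404661ec0148c8a0002197355832180000e60000002619103b930f60008503152314000bb82cc0ee0a6f800304994dd0004092,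
  nat_lit 0xf0000204992220002162244000002c248c000101dd153923000020a8044600000a2221c1118236000408c49170f201180001047808b01178f1c000120d00b02390002174210a00002f808b0116800300e81e40113041c084008c411b8f1800100730f1e6df07461b8906d86e1c1d08f14091000100e41e386f5017513a63c41bd20000dde0e1837963c300e001b016e0050000208a478402b0043878d000201400278f041138de60000013c780618c0008260c308000026007600e610e46ec8d7835a60130c308efccbb000e06007f9049e0018104630000005f0cbd000518302c7320800102c4301400182b4c4900020b08bcb00020ac31a200141cc65cc00218fe1560c3300061be,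
  nat_lit 0x501c0008880a03800012d8d4e000249200020cf6280c3cd00000004d338d471010000031808c411d825c06483cc34ca06100ae8d701aec00089228f2c8df82b505d61118dd880011e5050e000006c248600140a2005800285f400b0004049088b00061be002a00082c207fc001024cdce0002247c2bb111c00280080a90dc9800b03f82a703f0002891e0ab844d00090541b91001002c0494001c09e352c00301346f380051100de7000804c001e0018126003c00283980fb8004249a29b001c000c37c07b80010890148023a0002210110a0000136223411f8307060c10b4216023d00123c9,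
  nat_lit 0x6d0800012303dd00024c380f681eb1ee0bcd37726ee80000f6c986128003be4a000018d8235543da33020730d6f0002379e3d903b449f80009bcf063930900000c007606f2400101e71ec19de000205e264000041260784000824cce70000263a2880e16000812181df1eb8d8e00061c28e159c2c385a3d6225000042c40904000084038380001b0a093c1200f54ddf1bbd000600087601aad1b083d4318063042be83240004000427e8f4c0000e3b1c7839487168bec0110005038000100008f48656800001c081b104820b80d201a835d800087a20004655831f1878744c62998d91e80000192a0ed19520c74001000103763cf0034000000206e4d739ae800020c700000f3800c001a34ee355000189921c59aee0004264418d03a8169000000f097c000402c,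
  nat_lit 0x6d100010031582000a36880018b2b16583e52dca000c4b85bac0010584b75800104c0b47000004c1b3a00005470ab0383e2d187c80008380853a2b7e2a347c637c819483cf00023631b3400001dc690069a8d5c02300064001001902306fa87c4356c1e69be80002006008b801906fa3e100440994000001703da38d4d900f8000b01151b0a6a8c1ac0e5637ca3df11ce000853c23bc00101449788001027987800024b045a0611c00092ef19a8d3a00044af85a46c54001184602808e1000429e30e0000495d0a2ce8f8002308828d308c000846f0d085f9000114f1ae90002610849a361c0001842168128703ca001c634012617de61047bc4c80001058848d0001056931d0000161,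
  nat_lit 0x3386000000c3a30e999d343a6a00000068fc000600551bec0860e9a0fbc77c9cf300162d280424ddc00108404b8000104d936e00002201a7200840031cef0cc625b87dc0e90e968abd157e00007da73b80008088ae080050731c3a000829e1ab4000c42070e400102b000b000104c0b3d000025b39cc3bb076507070e30006000a0fb0d3980010be9a73000017c02e2000cd390be40b900020540a9e000229e2b2200000a2353c0068dab1ba237740b78facb730000034891927023768d850da900143a08e130b4e1f50c30003c0024b828b4f1e7800f1a12341c0038fa492a80011b9600307d036a0014000124a83e7004800000060b54b73800026603e6,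
  nat_lit 0x683c001141314a94140004093139800041cc682c00014111489a09000850445da681c0018584a1a80030b109ce000402c13b0000442027600001a0314e07b609d013a4dd2000a03c43a9ce22841613ac3f8102e000412644e00000a78e2484c409c81398dd0800703bc20547ee0000dad1b5e369600e00007384e711ce302e405d87ec061000380011fa80001bdc16a36ac760079903521d6600107e80eb000282a0411800401601d900060f205b6000809e001400082b00bf00000159b9509b439d8e3000031f98000030000a0b5600002f855ac00090da16e817800002101d2200080080003074205dc7e45b305a700011d1c3f1,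
  nat_lit 0xd138900e1800289191236146c80652e80010134a5c0001110035d000025b02ee05840008915347a0d708040580000091506940e4c802234c0008a784680000027837e3ac4031800180023934726c46790000008002026c21480648ffcab8800002900010bfc2a84e329c66192867c4cf90edd1ff00000bfc0ed0bf82a7ce310433003400600028ff44468002056920b000229e2418000c2e85114001120a14886f5000404f23ca000c12627a0001088c1438d480004478049a001000105f4007000123c029b001e00008ef0b10692057600023fc0356386c79b800234840c747f6000421d88a623ba477044e000021d08f811ec3fa34803568d2a1a380002348c2b90fe40000e590768640000002c,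
  nat_lit 0x69e000053c68785158000252e0d30816510c000012494a00030b109100004051121c000409e11740000994a1e800208b628225320004158162c0000994a1c81be085a1d941cd0ede002e1ea82b3858a20508ad0006265088a000853e478c0008260455800002609ea0abe1e940090ed91da2028c45510240001bdd0ef81ebc7599c151d166f740001020000016b036016b098a3cc8edc199d000047a080e47a0000013066b000023d02bf32ae00048f40afc8f4800104c19560000479c57e000801e9bd6113613f027e91e720314bf298000f00008458caa80011081953000002b0628713006a800232a2654880a0004ca78ccd072633827a6000406980d420201540000052,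
  nat_lit 0x6a880051288028038b00160e6292400281c58ab81c58009056838b001029e276e001c09e0d6800308401c4800504d83d000080980d6a0010a2f0aa035b000328b82991476001893f0a5451780070491486000c0e086843a1c0028a1b12684a6000a162122400100584a540020994a47000424f02c3255400102c424980018a271740bae0004247455434c000089101670d540002241055034f400012941411a25000a4a4853623e000202b495e0005049892900080e606a0000c1244ae000106f8d100001069e286,
  nat_lit 0xe829d0400086b106ea0eda19a2649882207a06aa006500063e6351e000c1266a3400102486d480010541abe000a16202c000106d30a04d5d800314f00160006093296e00082c4297400086f8580000014b62642b9c01740041965002441019fc6594002903cdc880021490196293200082c401d800082a0a4b00000b080de0fca347c36986ce00182954039007420708ea0008093255c000c2c449d800106f800c800105412aa000016132b20018a540d5f1796005c81a6790cf1800428e051c48186784001830094b8001028928b000625c00c8001094b0aeca35000a0be0a2b00140e6,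
  nat_lit 0x14b00070541bfb000c02c07d000140a237780020970e20000337ee2a901ba0010bcd89904e0000404d9b73000604d3876000872e0aa472d000112d8e79000c304455a70dc0028e581771c35000804c1346001c15a0b70003013c5b2800914f1653001004f01aa001ce180a386e000070499ad1000c174002000142f8001800202d519a8004000604f000c00084200020000826c764800000062961ea23c9c0690337000041300000ce80d80c8c14e829e092c126c065000020900031c52126c0648368001078c00180001e4005b,
  nat_lit 0x2d40001c15a190c00303c800a80050278005000809b000a000c05600240010134b4400011100263000004c397e72f841a864d000c4190260738400283280910004077137e000004fc1a3906009f8000056137d00004dd056404e40009372169825a00002651d56000800e801c04b4096482e00900008eaa0236752482c000001e84407510ea7396473781b5936c00444151ddc3ddc7a6835d00423bb88280cc40070248127800d05680dc001802c049e002c0a2093c005097074b80091080e8300100ac1d70001c4ca3ae00030a7cbd1800613293d100100e6,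
  nat_lit 0x25f000416104cc00041305a500000130d720e0135be00403961e291bf6193006c825c20f8726000a0a80e82001005801f800183c8d5080030499a9f00040921bdc00081246b34000873c19a0ff20000375049a224c44a00d81c442b180039ad61bd641e031e001c126064c00305d0d2f00050df0185000802b148400142fa290000205d051e80030288a3d0004265049800040c00ad012780000261aca000050d055c04e40011434140943500041740004000453c1ac4000143214699ae0060000083a00041860306060a4e98a19143120e1cf9000c00200000f6520d837007003ad875e0005000e41a,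
  nat_lit 0x1af300164c0457026640050130786000a25d62d12a440028150101c0058ad015d938400141be02da002c15a05b800503c80b6000912e0169001000505e24b980038134061000604c0e0a000a2614134408800292e11448661000c545858e278c002858807600042a262c31314000c15a00300010161142800000024b7052a039c000026c7cc9d273a50001cd939b26107e000807000e62128e2701e20004421909007480ed000026f83e40008002800601c6037484600040020000130603641124bac291051f0006422000438288140f4808d00011c000313a40747c0818df01c0e6ba800105bcd740001363e146c8426b9c00000dd01b8420,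
  nat_lit 0x1afa000454905ba38ec000952214a80e6000002b00320000072099000b000026fc2bb0066000c9bf0a649c200030730820000417c104000082c4003c000937b14a0005000220745f20014000081d155808b00ca0464006000421312a7000a16212da001015a4a90001858432200040b109fa00061be262000344b6716c007096915612f8001a1be2a5200384fb0d0057c800d0540e0e001829e1c16002c09e550c005026c973000e0be801f001a1740a7a00302f80080005858400e800a05601c7001804f,
  nat_lit 0xe853704a079e05c410ac00600070009b401cc4398cd9b800421514b600001be0cdc0004a5b0a50a5b0000132805d36640000a5994b42148ab300081610c84000c15853300010134543800104c1437000004c00000ba804c9cd701287244a390a8521402e905d415bc000109c71d000e0adc30100006c480746c4872b0e55361400205f438e000000acd87000036082a336180008d820934d82000105600ec000817c162c000cd810adc6b5800204d99a6000222001d200181246bfc002952b14400e8000805101d0000c4b803a000100ac1550002132829e000229f,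
  nat_lit 0x1ac400002c26e500ae0fb7001235848706cbc0008a78d9780000278ead375a3ed80031b2e21b9a4800020930f3600002f8000c467879a21b09cc0000006000013e046e08d93d9618a031590d413182c7058a6d4c00310d0d9400051cd03eb41e8137c73680020ae4433002004f807380e9219000f001c6d4000190c473100030b10e6000041be367600041366cec0000994733026804d80028d9d10c00650001003e2cd885e775c06500001fa8005000003a33de366845f878909b26d4400290b839f073c000039809ac6ca40001a851cc9a420e623790000098400a001900001cbc3b98775344c42d0004394c7301b1e363a42c00026cc8da69001042800036600691ca0007829c04a904c0390,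
  nat_lit 0xc821eb9001e171087a664800701781c4000b0601bc31fea6f4000303d8dd8000001d1970000217d32e000002f86eb475200151b2c365ccb790f0ccd00030541998000429e331e00040a265c00000970de39bc5371400406c8999621d8dc2374e3a780078d8d21d197300001be06fe0010cb98b443d800040be8014000616211c800082f8673c0010840ece000332de28932e0000c4708ad800a00021aea2c31ae6000415a3f00000196c14a8fc137706df40018d811ae243936f4000418065d800105d0cba00010df1950000209336ee00006b18ae4dbb8001329a29b,
  nat_lit 0x25b000601645ea388c00102b0733000334d62aa000c00107110a680030003350628c000c0008124001800087881558007000004c000069f8000111400200000f7c000888869dc002824c70700040730e0e00060920f8600082f8000c0008a7c000800012d9a76000200386d30000221800034ec69dc72b87bf34e01ed80008da52210e1300000030602002c7039ac10f041f54d6607b42209d1d3ca01e043bf8e020006658ccb11100cc500030be998a00041621b0600042f86580000026c6fe877a0eee6a2c0018da6334a661c87e69d427d04f8000a353c382663400103986a60001054198c000002c350c38d427b84f40002352887c1ec42e300001a94418,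
  nat_lit 0x3780004c136674800a824c01f00140ba19cf002609236b0005401b0a1cd5f80140b10e5800261be0bfe004801a0a1885e0012003c2bf0f4e004c1cc00440091ae902807a800220510f5000402c21ea0007801016007a8001c01a85901ea00068e411778007001c6ab05366c700068e231409be0001a6e3c57601f000605d0dee800b371c28800ca0028058018c004826cd4c000a005234a353000242c4146c00405f03e580081c8834035c8001c0048bd83e5000614f07ca000a1e5c538005000200acd448004353a2cb,
  nat_lit 0x2f80260b11963004a0f21b500090f4f8eb86cd802304c10cc004667c055a1f200120144d86002312e0620004a651057201440120248cfd00230790df500447a684fe00c8010813404580210731b16004022ac58c6c5800f83c8044801e1329b01003a220358c00744ca397800e0880d85801c0ba0e7d00366c2451a008000d0840015001935882ea1d1e0064d4c0b1c04b00190be9ba70030051012c005c05603c400c04c61411bcc002e0a81dd2005853c003c2a880152230551002825c,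
  nat_lit 0xe1c00220e61c2600402f8381800780b0d0c800e0b08e3b001e0f21c72003809e40a40068e071969a7d00182651c76002c53e38b8005096cd63800f0498bcc00201be3700003cb0e8b10cfc80110b09eb30026051340c005005840840098db604d1b88002a6564586393c00b8e0a14d1eb1002c0f23afa005471789f446180170160772002c0f2364a007015a6b8400e8970d70801c1080ea000386ad85ec139c00f8248089001e09ce2c31e26007453c6fe400e013c757002433d0291,
  nat_lit 0xb3c00101341c8800104c037a000025b33fc00040020cd070d800114f0003000067ec51600080040b1515d42ba0f78110a2240010870c91242a78555000207d48900d3000382a00fb00060288349000a25c082800104201c34001826cae20002132870c000229f0e1800004406f7420f0000220e103c88e027000a058804780130df0e19002404d1738005c1e42e6800b013c5f100150158715002804d1756004c4b636d400b05d0cb10015049198800280a81b96004c53c65f4009026c6da80120b09a1e0024093,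
  nat_lit 0xe4300080a8345a000c0a21c5000100ac70900011b962ee345600004b637206e88005345668a889c373c00283c86e68004027997700062651b8000084b6375000208406e6000304d99a5000465c85e037480008a7c6d3000012d8de907f20000f630dd02269d3f000c16207e600142f8128c00200b0e8680040499d0b0006092094200081500fb400082b05610003093c2c61580000824f0a401f40001108142500000ac070000180029ef90c4e448837b1e7b045e509089868180021ef819741fac8960cd419b00030002702477211280048004016033b0006265,
  nat_lit 0x75b00070ba0eab000c0a83a8c00141558140d930004079040e000604f1d500008130443c0019027169110d0004409c49a7504000840a19a9d4400000ac08187b80890802721fa40908a8006000b18521a5a60a46ca0984f6300150650e573f72468878f80002298ddf00223ce07a68f1e2291ec4002011037f4000804a39bc001884072f00020561abb000204d357200004406fd8727800b001200148c4005200a66adcd5c11440009172024004788a07bb4f771eef00026790711913cfc0800007719e1000026522de000ccef8990cee80020159971000c02c1ba60014056374400219da15a0dcf000625b,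
  nat_lit 0x5d240028260ba3800402613c900081740924000c15a172800100b024a0001108051900005d085d80004f3d10f03a1027cc4fb065d091c45b19ac32e40000c881f89e7821dc45d84b418d1000832e08b43e543f518d00006338319c000810c0000005000416d245900120028000885810b262288b05fa4000826cbf4800013288551dba108c89280072fd04570008756cead047b16ce4563afc10d422c000322a9d5400000381778003409e56a8006088081f000f0791d7d001c04f2fc200344405fb80068398886800c028912a001604f04f400284207b700048134888800804c1127000e04c,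
  nat_lit 0x1d9b000225c005600004ca42a0000802900544630000549c0b62e440160033001a3f880018948e6c80023bb42f7c8c400e800100b0173800102882e7000025c1fba002443e0f04007200dc8c2082000418ef2300fb4000a0511f6a00104b800700018994065800202687e80002220392600004b672cc000801c003045f000000701dc21c843998a40942003c00a9e8e0b4c3f688bc5e4400000acf2f80042f222c43878001005870e800180ac6e0800204c0dda000204c0eac0004bc68b0c3b2000200062c73db60004bc60ae432c000001611350ed6002800207210e50196432b917432b0658072219a40018009386645c,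
  nat_lit 0x436000104993ba0000092000026a4bf0086a23617d93f3c482890d120a3f3c1a64e6080062358005134e0f303c7879123500040ede462cc280d7423485f40bea44bc7f080022340d7800020222ffc00101e434d800200b04d1800312d8d4c00060511a9a00084b81a3c0008d311679cb60000605459c3eece460d58304e0008365846708d01b646a5119cdb88000088190700060ad00700008420641800082b000a800014f86c53e6a00508cc0000efc8058efc90c6218a42cc003103a3aaa4653b56000810c0000ef605a8ef5000221327654eca089cef480013b8676a414632c01919e102180001c8c8770000202a084b000314f003700040f2,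
  nat_lit 0x1cfa686c00006bc001a39f073e91d035d000410806bb00060ac2ffc00084ca35300008a7c68e800012d9a140012350c7f206b523999f6000a1621c4a001005867cc001858471f800204d9a0800061621c4000081503b280008e5715e0e64000009b2fda000073191c800711a840a639b034c6114001013469f800104c0d74000004c007200ec7eb1ca7000035cc8e235c8c208d29000834e40dc014400187d80fba4702786000c1264f040010248559000105407d5000002c0004000c3f187e40ffe1f643ed8ab023780010000038126a752881c00052370d211a5026b40020da0fab89ad000646d,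
  nat_lit 0xc900020561b6200022650006000009a72b4678000136c047f00006d80148000cc98006900d401144849403113e5cfc8fc6d740010210b938ce136ba000070e603400080b036580001329b5a19c00004001006000c864ac36511f466400020be971a000217403ea00000585e2816502c7006a73d8030805c03e847c314c084810887c40f8c00d08f600cc0a40fb8391847a00002580320009401200000ef21dd48f24728fe69809005a3811aaa00b0082391c00087803fe47fcc07e66e400000583bf06d50dae1b443c40790002639d072291e0fe40012020800100060000e421ca21fb672288ee24247d68fdf19b20eec1de000223b17f51a4a00001d60000004000723aa5ef4bde0760003800607ee7ee022c8e80f971f2f1cf839f4d0e80030ed67f30c1511d40540e7e00000eb,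
  nat_lit 0x80000404d326c000413064d00000130f3e0003015029400fe000809a3040000888003a8000026000000f60000ad1921cf4080002b460503ce8000cad18a8c5100002108028b00020ac36c2000453c00080000a1d17390b808e800100009218db000010b11b5e000016119fe00487a08f4b36be6d7890a6e3c67c8cf800224841ff633d40080cfd23d0009328201e803d86e800a648320b8753000402780d31d203a9600107f91cbf1cf20348d3d120880581990008000c9020000c9e01b0002000039900efc88872d8002024ce5a00030490003000409b00060004056000c0000a7cea101a00000480,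
  nat_lit 0x3ade001015a75bc00183c8eaf0002110065600083da05e8761800202b4f01800320ec2cd3b0a000809e009000102a0328000137082a33bfc0010ea98b48832800300422ca3aa000080a25d540020398baa80030160a3b000475346d626bc000826066e000012d9d4900065d44668751c0010144bb700060541766000a0511a320010ea20dac32200070498634000c0e6041e0014124216800205f0e9f000304362810436000853c086c000897010d800004d813f04a20948005820924405350006051,
  nat_lit 0x1bb4001625c1f3400284ca776c0049ce21979030001004c00ce004012635100078398e9c000e0490d43001a1be0622003015a74d800580b06a0800a0b090c4001a1613ba400308138a3862e000c0731602001617c08ee00284206e84005013c105000a0be820300121743a4c00202c4088000386f82420006043c2aa03fc0014056120c003024cee40005079014d000877185e805380018467158083000063dc45787d10001021b1580f80000a051028a0010ee10c10fa10003377c2b0,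
  nat_lit 0xae200020b1003e000a76b05645f700028840869000414ca29414ca000c0560a40002858885b80040569e41000676946d800f4001036915e800500080920078000c15a00e000110b2173068c000204f3b7800004400de48479d730544016c01c122cc67800000b400dc914016412b08a51c044893050001c4b636ac00383c86d48006027886e000a16110dc001013660c4001899456d8002026886c000222039e000006cb8b38e77000015b029723e20000e760990557800239d42ad1f0800041303e5c0018134869000239cc32f,
  nat_lit 0x112000404d33f20004130260c000096c0040005037277cc2aa05530f6e03bc92083342bd800104f000007540cc00028224955857919c208c4116822800700083fb248f4110003435a8596410e48e05880028126435000485d0ee000080490457000e1be3bce001815043a00028a7834c80040790699000625c3bb800081361a540008994349800014f9fcb3f94000000086951bd80003b8e0a9c1941a4ceef10df0012573c36301770b0448d2d1a000409a5a2c0000880bf604053dc000108608ce8196e5a28918333000202b4665000314f16af00041611994000413642ec001024885c80012d5a2ab,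
  nat_lit 0x80004130674000001303ee07de000e000400112601ce81950000001c386673c0008260ce680000260192073630b8abe15ba18bc0008ce6925c00087cb07695ab00080e62b56000c0581f3c00109703f2000111019c90002098338e00003f10bbc2b3015502ac00040490093338e49602887a640aa8000012249500021f5c2b3815302a849406a80d3c3f78c3700064930faa29343f60c3600043c70fe000040d267f40010880751000210819fd000204d03960000cfd8a100e3871a0e3a07700fe0001000e000ccfd92480f8800001c0005000400000eb870d039128c0aee230445e8005000249133f000184b803d40028840097800404d812f000602b,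
  nat_lit 0xf5400685f487e000c0ba03e3001609205e8002837c0cb400482b41b5000801603e1000e161173200184ca0bd00028011156803c000c6008570602c00305f41ea80050b922ed06ba00102c4448400186f8023000207ac2953c3e000415883000000da9158004401480004f0e92183f7000000080a905ca0b1c8cf0b510004000c94039140010058223049008df9edc24f8001002800542bf927f24f000000aa1b8cf2785b402a8004000223f893b13072530657872112740018000170e248cfa189fd395872b427612705c302ef3b9800340080053000449b079a01480008c4a19487d8127e0000acc82843fe07fa2b881618003800d00a049a2b6800041580b2c0000994006000b0008122015f90d70594499,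
  nat_lit 0x107b20f541e800046dc892e12620b8417e129902120414080019400003cb25283080018000803204d0005000100c609e0000000c006000c0090013010e01100218c9f001400209480000a94000caa2955b0dc41799075a0ec00064a32b9400041365728000099402e00002b924a2001800340408027042483a0942575c0028a78178800512e1de50008265220e000c4400bc00010130add800214f08390004574850e0b7800302ed1761e42000c56e459a208400315d01430822000a0f20042001053e56f00018880011000212d881c001a57a450c788800615b3126881b00162070608603c00582a02eb000c0499568001629e,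
  nat_lit 0x2bfc000415a0c6000085d03e800002bfa28d0fa6006000e03162541ef8001017406de001c2f87bd400305841f200051328828000829f05e400341e433ac0060970195800b0158cd0001404d421800244110aa44e9800f0be8a1d001c1743f4600342c4285400606f84ce800b0568f35001402c139e00240a213f0004097040b80070b0a101000c20485525818003039818580050b10314000817c10d8000c15033e0001058467b000105620f90000203052c000017d926319e84a7,
  nat_lit 0xd2d8000015826e4248001005800ad1c16696896e010402603440006000096c60484b9845d2294000896a00140000178129829204f2000c968847c13b800200084b31ae0000005609dc002174c14a174c00062652c8e000c2e8339400105846718001056073800005d205925d200cc00013c7809b839b92c90c2136a11a2000c04810ff25886630cc486103fb000222ec4b0100e00040438ee80fbc4af00f201e0000800b001c0ca442a92b88bd000a0fc658b440b92b4004a1840d8a1ba803912b018c80000560844000056f0570021400015ba13204dc000656e05581f70001084064200010560c82000004d011c0250f3800010fb24ab22c4000022000088f98ba617482c9c05580ad255014e11904d34960802000364a9,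
  nat_lit 0x1e3400140981a0c0029d19028122a000e0933eda00182e81884002824811500040be210c000602340a018a0001061f151861f00021610c3e0000136140876b067700044bf036792493ecc4ba2676000407400089c4a13d04fc0a1405703650dd8002000209e0858000004a4e189c821b8000020d0852001015875fc0018994c2d0005054076b00080f20174000c09e86cc001800417a0009000404d34c6000444022280000e1415fa1b0419c0788ffb1ff70e6a108000012e4ebb000504202c7000047b80ae09040000218f44118b016602d00042128267e2228eee12e02b200020b09a5d00020ac,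
  nat_lit 0x1dce00001be113c02c0002800317a6178089b1dcd26196c30f74096c001082f261046f000817d1cb0000c2e80e4c001024804d80010be0155000021004ac164c2cb85260c8e84a800980ae0154055098284a000900e000002070661f640016171c6047dc4000095f40ea1e34980048800083c8e62000012d9f6e3ede1b4c36a00020c14257009012fc97b12f540f8000424512f800280030000810c49fa0c60cb0198497a12201030207047e0048007800225e1f5b00000413e7e000c2c41b4400103c890c000102785bc00002653eae496c370a0a00b6616d036021b100287cec97643140038a7ccfd000b07319fa001402c1dba002409e20480040584649000704d8f1a000c098,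
  nat_lit 0x366000538822801674001053e19c000182604dc8002387e283000600080566fb0000813482100000cd84ca4300221c44a85ab00004c900006fa41dc6fa400105a9190800026b400a0de81bd90e2138242d00004df393210b400000009be6000229f37cc00004b68594138826e000a7850df2931c719184204f8000c000931800007a6052016302ca2e4c13c8001234026a00000223c1a000c53c7834001013c00300050be8006000817404e2000cf050a0023280020279db300020983b62000009845550b1022204424cc81cb807d00024c500f400000bc09ac12f800606f80e241c3807b2621dd00002093,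
  nat_lit 0x10e700130e7828d0d48004809e1a28008884107b0010056073a001e02b0d3c003844041c4007024c838800d073214800181be270a002c15a4f5800510a0166805d00122100d46002015849b80038994e3e00070b110a0000c0513898001c1e43ea00038880032000612d8057000c3cbc5504f1000293521a121f000084de45cc4e9400190981469266000404f00ba000483f8b3d0f5800000ba28a11d0000484b8aa4e38800012d9d92000641f05027110001013ce2200041101c44000625b,
  nat_lit 0xe32800510810ac000809b2154000c53e7e6800282b4fcd00040791f8c000622043da0024e2f8ba90f680081329f88001229e43c600209380a34fd400070279c6c00120a838d400200a242580048840842000805610bc000e265217800190f20b2092f800e05421db001a7e7c5781ac40060144fce000b11021f200284278564724000980b10ef0012391c28420d200444b6685c00c80b04960018026073d003017d0e7a005c1cc442c00b058907d00150df1367002829e,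
  nat_lit 0x5ba00070498b86000c83049a4619c002888000300050be800600081743192000c37c63a40010840c73800104d88ba0000399859e146029192ad00024d120ec0000074633c000024c04c0002319a2881d3200080583a90000826c04900021d3e2823fbc0004c680b0cc6800001080081013000984b01d733ae812e0c67883c00f93f8160234089a0437000b814894f140443ec003c93e933d0fa800c1aa8000282c190445e000000113c727ec872486f933800085ec0d441cfc385870f28144cd0e7e0005102140c442e4cc0bd41a80000000143ec4cb000087d50fa13fe0e961d1c67a87d40020094e2c00070731c4a000c1be,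
  nat_lit 0x6324000013d0b1000100063b605268a4c26f16d00002098023a000853e130c00096cd19784e7000025b098213f8339800342ac14e89138420084813989ba14e10aa800242901968c8893707d521540002851c28a936c0000666066066f0000425817382af056685489b470840008248e108000016066e2776512843e22380008005c00a9c1f26c800b000600331b6000437c001000105d0d3a800131b42d131b60004158219c00018d916608673e103fe800098d926c18d731b0000037e3fe091293d90148029c16d000d001c4d7277a0a8816d000c0a36147437a135805480ac0016146828c202c405a4d501480b5c00505190a3802c80b0935042e82d60012002cc79134cfb6800205405c9000229e3ed400004b8831400105c71a120c3000225c,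
  nat_lit 0xc000899400e0000026812102480138000939c00c8005015970d000804d2e16000c098599c00185f00648002027868a0002210019a00000098ad000800022cc42dd0d0600044201a20000026c09e80053cd679b034093988ef80010569e68000004f02d40008f33939400100000431a08049418103018b9708a400089c804dd110a22244460014000938c00b851009a611440001388f319e64002600010ac8004270a15800061138530a1662700407084c00088da0594212000109b0126000002508960028218042226f80020258062c1d60004093813102b80002de80ee0252858d0b200010ad8a4e000202c,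
  nat_lit 0x21d2000809343a0000c53c15b000109702b500011328491000009844060028e34800016f21b84a05a1cc2760659067200400049c682758008000e3551faa00141243f4c00205f0d4e8003054029c000404f1f3000041360918000088001e000a1f9c2f93d5c002415a00ec0040a7800480070288685000c25c0d4c00144207aa800202b0297800313286a5000429f065400041301a34000096c7e18f8b139e249800093a833e800002922800eca1d9807880d80008000029493a4275802800a8000c9d0041000202a00a480031080144000409b,
  nat_lit 0x193700080e632d0000c2c43cd800106f8045000110804e400003c9c5601380038800214f63ccc9e4190439e0001075855906a4000002687e06758d4242d029250e7058200204f105ba00200a20b740038970fd9800613292ba000a2200284001009881640020144182000312e03040004220061c00141cc4dac00202d315920c2000681540a00c380010144187000112e030e000022026cc82342bc857d0ea8000402f830c27804cd00bc000002f04cd27783400a8e000c001001a00380d0099000080000aca20ae6d889dc2a94001039832100010be0aa400001610646000000b0aa3276a209000003a,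
  nat_lit 0xab615688bc850a9e253c4c15a87a2801127f968015e82b405668f581e8800409fc657000085f4cae00000be0f41001a006c00e8f5532b64fd328200001246604001194115c9941000217c327000041240004cb000011e5c4fc32d40000c9b8a50cbe800132ba2dd32b400041cc65fc000195a169000500046560534651c0008588ca280000b09954000065149f60034012800d32880004cbc8f3327d1979001c0030ca1800027c807901300038005994227c1486023a003400513dc00005ae32426408c8085dc974800508820cc000000a1e0600010d121a343484e8c9c893d90d08000440a2a1917e8c10181e3c0c78113d5102000a00004a2d05b138743404f42516286034b098014ae2960ba3000b00124f332aa0000150172c00299531781959000a17d,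
  nat_lit 0xf8e000220d22b424f400040987a5c001106b15e1082000249e051c6d80000096cf948c5f18bc000042910a021444200a18214430f000244885214a2d886b0c503174a1649ec356a0232632000030e8001002250a0c380001121800d0bcc17943001425121000b15da12c49c420a72712508001800281a983542838070000049311260600421c506000001c01da00007e0926444963248a0a3eb0000000f2820f4f0004093005c00042e8661800006f85ff8000330a50333203d68cc180000bd19831e940030b468d41330200247a5198328105ca00080f23f1a000c4b8023c0010994fc6800304987d700041be44620004fc50934000800004c075a0eb6120023f197900020000a027e1c2e10ad932f00000016000455c0ab615b6528069b997728000010000086,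
  nat_lit 0x5ac001000109f27ee8149071928a800009f013a40e2a2d828a04f709ca51f84a2009501260ed800100002899d11292c4b60961800002c000122267e14fc2028400006a207711113f080000248835c003808d01d933629d4513d02e820d00063a415182a2916194e3022e8b980001448000011d28890550fec06040b4000128800cb0000022361e000053c059c0009b0f166912800081741064000c34c0934e4d00020790697000225c224a00000561e2000100013ca228d834a943c000024e0661e4f241c35b452286cf00000960e5c4ad449209252526003085414385f800010561ea300002650f0242940049f3424e07a88a1a1adc35d128f00100a93d3800080706cf400103c883580010159b40000404f,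
  nat_lit 0x22a4000264585608a940008261151800000042ef0002071421d042c035a54a115194800010001001220bd0af215f28f8000001020b833981c528f1a8d3518000400000504f30003000051d1622000010c00044f18a900e1000013d000145b81f18411000235106a1ca3853f43e207c510420004a360b5803e007f000009d350c000009801f40019a8615f9b830006162135400082c2269800082b003c0002350609a0b8800084d38bc4d41800104c01bc00006a0457e06ec001800100001800d411a8128d000000087a342fd85ff28c8001047e0cac21f847608f050fc2f21460000055805a009d4a2e0d5800100ac1210001026837a000025b050c0004997835328b000011f40ee,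
  nat_lit 0x400040000ef91dc82949df2242876fcedf000127c91fc241676f8ede80000bb9dad000005e3b74001c9df1deb3b5a19c3b72001906e20dd18f800301e607e84e714a0001053e03623344666000822422e529381b60b7214f029d00012930539000011181381ed7292844503a4072852b816f000a151ccc40c602921d8c000202c3b14000005676bc0009d8a19a0160000004f000002cc9e601c502be5230a7c0000a9d237714a205a4a440038006000a0a7a52100003fc437106e32020c740a68001c00313dd0980095000046045588ab4001009408b192c00100ad3258001c1e4023c003013c0e500070be81ce000c0e6039c00142c20738002026c0e5000302680050004220,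
  nat_lit 0x7a9062e0c5503d8aa000087664902920423f8537046e81ed03d0a9f0006536313820f84200a9e00041ae046a08dc54f000129a80003b2800a3b28480021b000500065340262073c44e00000012533000810500e5089c1136532001600142fa002c00203980058003049042e000417c000c00044ca00100000134f0a00e801d24ba400214c400180051526068000200080b6267c214000240d24dd113223c129604ff8a60000503402b241ec52f00001e3897214b86be80020498a8a00021743084000012476100008d7a17691d400000510f101834282a026267e8084000124c23a652d24bc54651af80260048008c232933e404052c00000014ef603db29580053bb406929700004ee5103cee112172430772800094a800020e4278206a,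
  nat_lit 0x6dd000229e40d00004cb20b510c9800235862cd111400041698b301698000110082c00006b0450806ec0009ac11420a7d000a02c03680010d600af45a6000304d8b4c000402b35ec000413041c8000013027b84fd0012004c12518501dd429dca767ddcfde1fbf09c2138c004001329d039900060a8072c000853c6e60000813c1c9800004d9da50006137826e04a5072a43e1520136c26e80020002327151813bc27a8001000053940a015409b6800029c11f200040933b7800042e847b4001039827800033b722ac3b16000c12613c80011d8914c91ff000409226860004eda0b4901f000023cc24d,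
  nat_lit 0x2292458005b1a8f0006542351a00041506a2c0000144f7484850908569c286852100066a28a824204013000235126a28a803c4800305d0c3f80050df001f00080a81568000c4202a70001026c29b00011328542000029f044a7d8800d14fc0eb8001335453e00003e80062669ccd3000003aa0de03a821040098fa033783ef4a7a7d04004830000005be12b06db0d70876000308205e9000104986d8000017c1f9000003730ca30dae53c1f8c00142fa3ed800205d10cf80030b1198000041be32d800082f886680010a790e7000143342d413aa0008cb40b7436f8002432e342,
  nat_lit 0x126c00101cc1b6400185883740002028980400020ac14c800004ca66e800186e52a61aba000029e43e000101b20a1c1b2000314f0361000404f06c800044400d9000001310f50124000021a8438825606c654b000421a8062000005081240508b3000067cf0914229859780023e7454a3788000411e4b840018dac1b4e3720a0414060e285493e704b8000122570ebe8ee91ed15b92a422e300026cc88c010045ad000003d000300040004101865f16be547072e27ec0001518100066400a40140026003d007800000767f380000a840b4e00eca8a1d683ad907900000004a880000fe69fce3fde4df8a862b14016021800013e516bc8f448a02e54000913207f90860000025,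
  nat_lit 0x20002c000400000020024414c82910452a905f7000a0930e4600102c468b000185f038f000210806f9000209b0e36000053e17c4d14000b208c1c6438d9544d0d000902900fc000000a14761c710fc000300004f9129823d0ccc21f700045500218000401468e800305d0d1c00050df08ac000a093328200101241bac00182b437480020791a13000809343dc000c80b8ae4d0700030dce285000a000c2fa000c00105d03870001341a2ac29180000d058b1037786ed127c0004a9e000000205a80010ce0206e6828d04889c0008cdf347e1bfca9c62a4000002866f148327c60c950b40002000054d,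
  nat_lit 0x73f400385d040180060568010000a29e100400101e40c4c001897014c800210807fd00020ac00120000f7f8bb0f7e83741c464e6c9ce1384001055b206400141266c34002039833180030be1b170004210362a0004136430c0000a7c000830806ba0bfc46310c22ad00000fe607211c09564000819d03384e4c9bd8d583f9000000f019f0004000058b800000040b9017283042ac000105c60b845810b1726002c58aae87f0a6692fa00000b40aac0b842f4800025f455500060b7c2f40ee51018000024992e0000092299a0004c970a1c2d500010498002000064b455c0004a030e1c17f22fe02d4155037f80002aa4042c2724bc400300010008553,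
  nat_lit 0x800084ea419a2c48ac83f08001058847d00010be193c000021021e24464547a1ec0002012847c158c000004a007e18d0ac4003ca3500c4f71000104d9ee2000026505087d28000857925fa7b88f709584a4f82b100007d241420e510b9039200000ac4a880ac03ad800516807d68ac0001400218fb00a0372127c000c08262d4002024cc59800304906dc000402c1f0800081241b6c00082a049c80001ed0050127288b8a7f001819ae000898f8b371f0255f070e7d4098f0b34000200b801c95783cb0813102000080001574001800214f9f0c0002098070400004b6006001500002ae0cd000263c3400980023e123a13e16000013000440041f0914b1f07000e04c,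
  nat_lit 0x223f00004090cdf073c45f00011081ce9000002b0d5a002045e0b9c354800d0730d7c0018162274c002c37c15d000502a03e88009016053b00100510a76001c4b84f54003026d194000521d42f0116000141cc40cc0020994819800314f99f4000425b273400082c28c8c000a00116a1fff000040b859026d44db188f2b4c331466589ad00001a88fff159cca5800700080001bda37bc6278c552b3000000160a400062cf818f0ec91ce43740aca0d3c00302a058c0005016191300080f21f50000c4b83d4000101347d2800104c091b000025b,
  nat_lit 0xb0680020df23d2000257545a48f34000084114b8003134857047ae53cc0020398a7980030df21fa000429e4420000442053c4000026d1488001488e594510715b40001e90036024f107423c4004000625848ea11d4a3c82b618d4000209331a4000012478a8f159e2c00061878c6915ac30f000200f23bb00001103c00000c15a136c0028a783fc0004028815c000604f05fe0008efe8a549fb0001110209a000025b44ee89e1149152900004cb026a04d52b500013fda3044ace88a004100000002141000217a43c194b8000064a01d06460c901b146c080000ec81ddcad21d84a95233946708cdc0030d802b4224000040ee,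
  nat_lit 0x4cf400105f4f8680010b11efe000e0932666001899d0a3009c80050b11efa00081be25c2001c0566a5400380b08550006015813600160e63dfc00280998b2c0050009028800a001002b25b2002c37c54e80051e70162237e00121e205a8579000485f0af1000814f2202000e16146ac0018136884000382b009500073de42dd3de000180a2049400280acb0500060bea3cf000a79985228ef0003236b16e94f6000a1be0008576400214e42b781210006047cadc5718002024cb0580032c062a4,
  nat_lit 0x40a0c1429b6a05f96791d6c00080008458000153402d96482b7e1ba03e30ec5000057e3cb4000458087c51d8857d213600084de0002000c57c15fc1f184dd8001000a32600001f70092000c006156145088a1405d80b80174696caf6002cab0155b45065574af4002806411030106579001269604db865800409c2474c1280dbe1b80ada86de2aac001000095e00001ac30249ac3215c03440008e1400180010f7003200001ec40d21ec4b149e790002577220e07b436923c12c46555400923cd25c05763430686513c0011479679dcaea5550aa7801047964b78f2415d00f0000305681e5000402c367600041e4077000002b11e2800b44e402d805b81e22b99a1244e2552400515c8f8b1f322696000499995c40001f1401d1331028a0518005000500064d5c9aa93492b81f200002041,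
  nat_lit 0x246c06ce9eba26800000a4e00919120ca800084530890949124ea49c4936582000007c83e587ca2afe376925c96040f908d9183a554000003292c01fee0002220014800004b65964002843815e8438000802b0872000c0985418002084005500030561505000422047ee00051080b3804e800714f23f4000c10b85702f6c00685f45ed800c0731ff500161622782002837c0e5c0048a785ec0008028a3ec000e7fc052a2f5c003026c41980051100052000a1740cf200102c419c400185f080a00020b0901200020ac47c600005e88ab497a1e5e3cbe000cb110bce17a057f,
  nat_lit 0x22ec00080a845d4000c0a2002c00115ca15295d60002002c528002c0000130aa7000000020014b18553016702e3498e932017f09c316ae0004b1620d40000094f8d000c14ee26685aa962800506390661af1000c17d029600142e86bf4002058888900030df11100004210221a000413643f0000096d16d080c13f62058000814002900514b12000400024480de21bd0d4d162122324450006000002887c8791800218088190002086000e00040ba05850a3a1388b0e7c280008000163239344e61680000824cf8380000b10001084e0c18181830449c016842cf16181c08003000053e8b0a87e4b0e21dd00040f4202c192ca5a80012c221da0000086493a00091d10aba29c0583,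
  nat_lit 0x1b570004174142e000405801d8000084039d0000487a90f003a95b521e0076351204b0d9f0002000259900024ae44cb037005d608f0b3020704110121000059700006d008a41b6c228a25e000415a0b45a42f174a4ad4b2c00740010003000212ec25e16540ee81d9000200080000c9425c95f12be48c9400081f400200020279b3b000222005a600004b68c84af725622e2e297c4250a0546668cd0000965017a000514048cc9199800005a259305a0000800a00152c902f105c4558000195dc2c88000000427fc42207fb2c80001140428192910b8e2c7a50d29487cbcf9700102c715d826da4db8f96800f2c695d600141612ba8002415857480040134890000804980ed000e174001a00202fa003400383980068006049000d000a1be,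
  nat_lit 0x3d8000044ca70f000205890f3800323c028123c200080a23990000813c0f7000013280020f5070dc626878400001790c500010bea18a000017c43bc180000201b943688624b46000000080030bfe8774b447d280008a78fa5000005614d011621c7839000003e925a10e3e116422d80010004175c0dd81b903685a0443400000460005109953c07980f1cb3e000059000283af0764029c00000401ef72cf007a367c6d900031674db18005029601ec5b205ac0b99b8000083e936d6000c11e654800008408b6000032a02f636f80004ca70b740a380001081b3d0002287850d25384a72051c0a31670d9d800002f022900f0000c00091462cd9e8926441cf8002135400e659a,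
  nat_lit 0x15e02e416d5417000082265b4905b800127725ad13b8000002c1798ff8854400021ffca3196b058c801b26ce5ab16aa0068f6e14b800014f907721d44b48861400096a88f500010569c3600000f24304543c000136823d05a9436e003c014004c00680946180000042139427564d2814b800044fa5a812080000253a4912d384a54532000032c530c0020094001000125ea09381289e0d115800102e0958897512eb04865a625e620d000194ea00005a502dc95805eb800129d20a6000086b0a81a174007000010600064a3e20a52af8389160a0000b4886a000102b10d3000114f9ec300021be000400010d28adc00781b400022dc001800290dba1b60f71ec0000409b,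
  nat_lit 0x259b4b340014126164a000e00251b123612da9a1c0002092083a00000588ded1be0249000496592ca8bef08385b40016001800091b40030000012823f2e82945c00008180001643048a091128b16cc15800060b102ae000a1be236400102c26ecc00182b08d880020158c66000a29e248c001009e2b100019baf1528ac4000404d24820004130490c00001300028004097c1308b46125a24845b22498000805873bc0008880e77800012d941b288450840001ced2d88000374c4694758a53e4a7e213ce769cec2d8236e0008153ca5c816ca1b8000106a9454b5e8e351c5a36d46d80000706020c00106f8f9e800104d9f3d000026546ce00009dc93a63e765ae,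
  nat_lit 0x7e84000058419b83d500007e80b7e07540000094fce80020268393000209827f600004b6327c6500002000696081c896f800080024b52588919f96f4256800004200000002712000314c405d40bb025304ab2de1c490002098388e000009896681ce0c96094c38e80019c45388c5bb37206e452e48edd1db8000908d16e80008f1c4a7876687d200540000e370a625b9096212bc16d82dc04ba0050b700d540010840904800104d91ed000802c39ba000ce188ac074e80030790ec3000404f23d0000409a73680001c2c1581cda00163b40768a5be1d863b00b6e14a4129000a236a382000c13201bf0ce14af25b600048d9009100c92d0259f15be00000288d8c0008ade06b800015bc0ee,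
  nat_lit 0x58a433ea219199406cc002a09f2e3a0da000409341b0000453c825c0018588384000241ac33f0e2200040585250000026c0df018f00005bc8b69870f2e3247d495a5c8d2579673001c0028b8a50e00008144a1b000002795a000087fc05227fd0002824ca1b8004073022e000617c283c000805889fc0009fec14a9fee000002b44f8122c271049200087fb8b885bf06af84930922000cb867f680008970fed0000108014a00007f64b84000400180050f765c13f96000c2fa7f2c0010588a0500010be1fa9000009b44f814ec3ed80003f505c00fac00000147e9400005f019b80013f462dd,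
  nat_lit 0x1901b61d18244470a22fc3d3c5cd3954000812672a0000824841a8000056a0f8000020d05cc8954002001b15d94eb00060ad427e000809e539c00082b000c800a04915720012005c56400640040a78a61800707914c3000c25c002e0014136075800209940e1800302681c4000404c44460008150002800080b11100000297627f494a5c6c3148627003a8880b986ee43f407e9094e00084f9a3512e584a700060a8341c00084b827c80010588d8a000105411640000128c5948a4800889ef2e500012b628b54ae80b9c4908920cb92885c0000d54ad7a2d42ba814284f5000e00185c8,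
  nat_lit 0x2bf400144208e040021c0a14a0e560006098482c002414f8aec14f80080ba2413000e057c5360a78003053714c2057000a16106a4001c1cc0d4800306f89d1800502893a4000825c06a0000c2c21978001205114e0673000204d3d5c00004b60a7036906bd07ac0034f571ead2ea1dc50b6c844c00780002e9a013000200a396c00041cc003400005f01ec00010d6e889c4241cb42e92251444e1ad800002381eb0003413498b4a5b974401c1459000482601c400009bf83b4002803803780050009a0c529465d00ce400041307e48000096ca2980023d40199033320930ce05cf3d400004a2903cf2e70000003a183,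
  nat_lit 0x139000d0568270001802c37ee002c2c23e00009206b15c82b6002409cc5da255c008a090144a09a002217d299c004037c52e800785b913f20aa00220a8413a00400a2820800789702a7000f05416e9001c5a505d452e8007120b15214a3001e093414200382c4001904f800d2ea94c200180ad245a00341367044006088102d800d04989150018816453290d000582a416a16d9001805a454c059800585d00b4800a049053e0012825c56452e8004053e165053f000e823052814fc00382482c00006296a2e6,
  nat_lit 0x20ba000c0f2049000242c4091800406f864100070540c80000c29e0300001415822a800201343ff000b41642b24160002853e8e60008896d05b80140492082002e08f46800a2c00b824c09700160ba1c2c002a1be414a00541360f1c00b85d06a68016028852a002a09b0a54005105289f425e801302685cc00240980a6a00444b65aa800a8840b4580140560b4f00262652d50004853e5bd0008966c167121d002217d243600402e809ec007858890d800e41442e8,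
  nat_lit 0x80e4005f38d40bf00020178953126a0e7800003920ee00b871a80000340f4c9e9a27c85bc80068568f5613fb2de200302b2714400014f641868310bc283900049c6638ae71443e61118392000009b00020eb63de47bb1780f75000101c00bb0e6e000436c006c014a5df1ab41cd800006d70d7c5de0dac840d082003e00968348001049c00082fe00b2082387c497094c1c5e000600d801b96b347a45dd05f80158026804f38ba000906797700008034006a540906d159800000330bda19b4bb606b505e00010fb21f58e259c5a2ed01db00080ad03b6000c0587f6800100ac0d280020bea0b90002174416e00000eb0a141ad0e3c0a501494001000029aa82dcbb200e5229013b2f0a26684cd80012ec25424a829500bd9000020765d70004000409e82f400008404c1a3f400005d6,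
  nat_lit 0x1400205f000380031080005000429f14f6000413074c4000013104d261f30641c9518380012f50000460a049460a1c8cc18907021022608147814e00025e90e781d010d200000c98a7516c09264b9d80002f402b6000602c3a88000809e0adc0008880931800111002d500000ad45060ac0f6980024bfa97f8c0c0b0205a85e7000297f012a825108025e63da0000008297e800086fa4d629aacc3c93f73da05e509d4000108f154608d06f6000209341288010a58000000503f8000a0000a61179008500050498ae600080e627b2000c2c47c3400106f874f80011080d37000004d4b2e0010003000727aa5e3030e96c00019e9e2f100000002009,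
  nat_lit 0x495c00285d063a80040491bf100061be12ac00084b831cc0008584265800004d9d36269859949a1000109945f0000002e43204d00b31862a00248c8d19204cb2f7824f00120ad049e002053c093c0038144127800612e024a000a21004a800101586e440018994126000214f824c0002220049800000980398003800c4158002812297b807180050ba20ad000829e031e000c2c2064000109940c7000114f816f00000984620000006e85cd18800012b4e9ab0c38062046ba5ed00001d180d25694bb987b6423054f000180012f620a100008c3918785882f58007000a092,
  nat_lit 0xc09183731b62da05b5898a00020008bfc962c2882553000053513101d5c3a7800300001131c9a97503a925fa00045fd097a12e43a680010f601fd000026ec13c539c4cd25b64b6e00042ce98452fe24980b3a00002cf23c9471e5fb0b3623b461b976d2ee6279000080024b6c5fa4c2400000018143004200a05c917e4000a57d11725f8000001c000242a800101340a2000104c139f000004c470a202c00087ae0f5a5f489cf17dc06e8000001879d0f40172428d09841304001106f86642fb0e4223c294704c080032fa9aa5000229e354a000009e53f80019aa419a872f000404f29cc000409a827c000096c4bd1e0000049450a6ba08b0e5e1cb0be80004339236706c431f2f4c000011e0004b0816282c4e9444be60000149118c05240000be40a2cecc04e509a8002430406052f88c76000c17d,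
  nat_lit 0x563800045e42d246e600051780ae0b2b000011016a4000219e0c64270430b43e1cb2a98110e3800104c0003000025b0b98174029111c3056c000c001180cc3d98cd204800050e221c53010ac7499400010e18f010e0800404c21bf000604c3a0e000c1cc741c00100b046280010279307000086ec51c0ab40008002195a150c2758381118660100024450bb0a5be088411190b9180000005c40a2e46e01bc170c2e20dae4bba60f800080bca0c983d000094f42da2ae800100ad25e0001026978c000004c4bf200080020ad1156e5ff00022d4c0140024003039800480050df000a0008210134c000c136270c0010a7ca77800104c206c000004c,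
  nat_lit 0x1b6400182b436d800202786e200020983d2e00004b6000000106d8307261e044870b4000070c0000002005895a8015913f385860d00022504b5816b32d74218c1b7983000009402d86197432d982c0060002000837fd1a986d00da660a2b34002012656e800385d03cb800605421d7000a0f20fb4001009e85b800180acad8000204c222000041622ba4000415a8874000079016500010bae2e8434d15d6443a60912640000046261868d000123680003e060cc1f2200082aa85210a445948c10328000c8f9000021550c0e0a4c14b0000311060631b240c0b5600063029021061a0c30b91800113697020000066032c8bd80000840b90800045e836c,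
  nat_lit 0x8ce000083c8570800013287a8000695352a7254f157461a4a980008058030218f8a1500020222856000812656b80008a790b58000027a5462c70000139d07a22b58619319c0c94001842031989ced39d186000000100480000821e003c002823f000210e05b20000588000a295800248b045545e8832130b84270850000522b9858343800001d0002001000280049dac00de0c34c2a002c000a57c223408e8c281a14000257b22346114c26603800097fc0f7c14f434400042e820f800006f8c058001433e2d42b840000056000000280882b8261200020000179806400c461116ac9ae135b863b00d2019418a823000006104480000c2c41f2000103c833f8001027808300002654c4800141c085bd12d85ad833303df0cfa60f,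
  nat_lit 0x2f6a000009a000113a0267317e5ed0c4e58e000001a4c7299082098000c0d3189880f000104c1aee000025b000806840000b8b203825000022ae04928b893128000475851103d210ad226174e1c3c0000c480674000810904f0000020c00301f618083019bf4000419083c3019a0c9262317ca2f78000a55203580680c445ee85da048a00000f6020a0418000800021384e6174800001ae0a6409003be000099091571884000a3a11ca00ef096600002ad0ad115a06202d888dd434100023030544099200040440005154164f0aa60dd8c3e2b7c00000fe01f83c68c3c8a98b2722cd063202f40028ade30e800b00041743dc400040582bac000097023a0000001061c0010875008717f40c6211c529c186c55d00030498abd0004174,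
  nat_lit 0x45500000000a4e707024d74c5e8a9d15322a50d441b900000258ea980011101d53000025b49c805341620155000c75a09b49d51317041000000863f500004136002c00009940001d64021400288fe1dec00183989ad0002108069000020ac3ab4000409a4d74001068e152868e00024d6c5a84d6400001352b4015602ba000015801023ab84d68c5a0abc00000e74d0462c3f3c00041587e700000a7c00080044a506200bac00e601c87e70c56949800198084ac262a025e005c0010cad273800004794501bbc378037300154a48948928398a424905d90dca0050c401b9400982100078008171662d403d262008fe6284a1600101265e88001858928400020df17e0000202b,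
  nat_lit 0x1e0200060e61e78000809e20d400082609e0800012d8487000677fc50277fc00103c89ee00010279deb0000220466e1758003800227b46360002001820f80c8acc171f0f583c5460f85dd0008000829798d4000852e094e785038c00013ad05a86c50004049880200061620ba800082f8173400088406ee800005600910cc01adc1cb00220ba01744c6860b12ca2584004200046e69634c2318474b06008085407bcf5f01e00728007cc660078c0c00c50ea00011bb6181822425d431924470dd293c0005135631886aa0dd8002408618c012280050499d9d00081622710000c2f808dc00102a09af80010161d73000009b,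
  nat_lit 0x273b00104f585781fc40038970ef800060b08925000a26507ca001009a61ac00282492d780040541857000629e09ca00080a29ccc00084e515e84e5000022000040000013a57930a66390402002037c13f000380b0a6680060b09f99000a0ac0eda001005632b4002824c28a00040790c3f00062652634000809a89f4000805714b131a000004c44f4000898c8bb113c0001026132e000402c2682000513b0a38419800012da273000220c85dc89c400001304170008000e0031137226f44e06383bde002c052071c0882637,
  nat_lit 0x2ab0000c15a075c0010a780b380010792051000004f488e9119222835700005550c84076439801710000616467e0008003800902e02d806142b440008006000e10913ce278cc2d8ad000001cb000619ec342067b000400045fc99040421c760d0a1a0c33d00013b986400a84954829900002a51dc900000494d661b905758ca515220000c7e7718002824cee20004049000500061be27aa00081504f4c00080b000080001080a8a30f40000c7c000137b063f4b720a3000076f4c7a00040d301ac2c700580c7800000cc83b418781a030f000140019e00279c63b4b8e0028009801131d1dd500080f23bf400301264fd400583989f3800a0be06af00120a8,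
  nat_lit 0xba509ac003c00187f72e189b8135229a4008000232704be4f2e1a140078001326800004ca09992df99300000007076800400064c100008263325800004ca01b01ae097c00001789808000000206d00d0a5d1316662c801e192898d00010be8256000017c263009540d8819e00000954c92095400382a099800060288e44000a04f00d20010420131400189943890002026a314000209846240000098623d2f100314ed000a0f1280072652648445e000412488bc00000b12e3824a264c00109f80021066688b8c8e0f940010588e4700010df1c8e00000ac00bc017cf0e1e1e00007230c8c0f641e283c4137a0c401890002322a5d24ba200540088009062861984f5a6263221dd7001e0040004030f32193e8000e05e,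
  nat_lit 0x4cb0002039899100030be1df700044c5c578718c0008584e32000001581c8038c07600ed800138c86563890000c2fa7120001058800180010be02ce00000ac4e9e44d41f385844b2896d000099540dd04d800000b304d84be80008248e1200000be25b00000708855096c00001c2014405ea0000707855017ac0001c1c17b02900006706858e7060001024897a000105412f2000002c10e65a0c00f25e800084bc4ca809892f425e700067114ca6770000082a0edf000012e026f001800100e101c73b7c65238824c20e2580030ee0d250ff600041d63024a40840a314c001800204c332880a5294c0de81ff000e000a650037a06a80020269000e64f,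
  nat_lit 0x400107040e002d4486623ca32f00000002636938a99834c962ca8cba0000381271c03b24854cb8101c2048116000265b183a7b50083000000a037800028d5c65675a89ec925c24be041400716aa32d0895000802b1124000c09a2254001013020a80070ba0435000c17c2d4a00144478b4817b0004028836200061611626000815828b400080ac17a000004c000205c610b82f639b4001a5964fd844403f400042e8895800005f007a800003f065903f2019c0010000079a65806a80000046000420303570146029448a00000319444006800b0002119011c717c000023c22f262e039c0740000995c11c80030791c6a000a093,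
  nat_lit 0x188902498870000002415682c23358008045c971d2d48114006800001d08c2031a9d48583010a000c0010cd400100018104043800001d04944ca49944c85000300007938cd27938001839800180020b11e4d000217c00fc000053c9f3c016802b0010001000019a003e02230052001000183dc000a15520e828c8518999c00015d902da1532ff85e7020e012902540d640008000333263008767a1ca2b0086004a0000cca00081f9012416000001aa9e8400d40de4f1e000133203773c7878ec00002be33196ca2d92079c004000720a478e4cc4414000182a067700020791358000225c269600001300788002847908f00008826198482600013ee07dc4cc0412c000104b1cc104926a63a6474a8d7a0a4e0004000197c82413523916009c5188d96000054d,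
  nat_lit 0x545c00000ac00026c90a7a9c8138fa71e2a2c6794d1664f466899d3115c002536399e125f800400100d1829219dd03d000104f80ff037806fc0e1000133b000000080cc000220551be94b8000081101d25584a9817f800099d40000002000609e000206d80dc078a0e861e7503999d0000140c001800000029af535e067c0000530029c05081be0461036206ccce6000518281b09b287b70000000c43d0b8107f20fdc40419c8001087a0338066892b125b4d789aed35d0c28000000110f22c302928d68000087710327e9935e130043b819903300b6c0030991132067138fa0014b8a230746106700c4200180020c04002000205621f7000204d04c400001308c840000001055898a04d892f8bfa966f105c0004cde097c12f22d800000df00069dc53b903c433aea218467a2d73370f8a1f169fb028682c500046228cda0af06cf0d9c000266c,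
  nat_lit 0x1c8001013cbbd800140562941dbc00004ca5dbc42000002b183b7876e99fc62886a7000430442847e50003824899500060be1f93000a2102a5c0010136130c003024c34f80050b1069f00081be0986000c1e48a14001152917a869600022650d32000009a9664cb1071f0e4a0004af004af03f6340434a19f88d093441e760000cfa82100010588ad900010df15b300001610e400008ad88b113bd80010562779000002b0e3665b8fc11f813f00000c0cd99d84ef067c18de00080008d131a1e69f144899ec6370001000033c539c045067799b7034031b400002b80000e1202486d20da6111c0a2a6924d220004cf404f9348000006b9f7800020ac,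
  nat_lit 0x88b11172250000546528f0342e3864d1c595c00200000d6a646c2ff1a34c7d8005056a61700080f231f0000c09e001c00100ac00280010268008000025b50620f60d118ac500020010d188084000826046a800012d8001000810ec21ea43f11a868b000040b41dca0cd41a1aa03560a10541080014c1a68a0000000848404a0001000345d824207a2281f129260a000200104d2099b344800000025ca44828d8c000027804eca34cd3c1a7931d268845d024144c68974232a92304bf89810002687117295f800001a0e36002d068a5a74199000110a6210cd0c0cc800000e00010a08144e5750568984006606850002281c5128f3f1d604e10d0800b51d58000140c1c32b1c3c7045a08b5112000091d51a0c96f9111000200a8aeb8b653410a201ed8577000023a83408846000c316065a10e838964544d00440888707300e68305460b8005250202c000202b,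
  nat_lit 0x40ac815b073a36e8ca7855034b000001ec122cfda877007b8000185c31f4784886072a83f407e00004000199ca0080010569d5d00000f217c46230000a2ca30ae0fac1f69d5c34a8000459002245903f4000180070012433485492ec143e694258a00040bc00087e7a5194a6c6120d2617a42ea00010098000390a0012582001400101a89a900050791350000804f0b9c000c420173c00102b0e27800113292fd000004d2ea4000cd2ea08e20f81728d248d90000017844200030498881000417c40f200041e481dc00000ac000831b1e623cb02bd01ad11006912ed8000018d9f183481ff70ad21590d478007000a5dacd1e386800102a070d800101604500000098,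
  nat_lit 0x21750002790065e11f800109710ba00013c7a32f3c76000009800088e509e113ce27848e504864f605280f1d1a8c8e48001000e0d7164c00001dc00002620b21230452f098200141260f4000205d0fe6000304904a500040a8094c0004058127c00002b10b49692111227984ee24e24a00001000184a23511d14000a00086ef0bfa4b949724d4260e800100011bba3764d40000132201b06ed849f07fc1008148828e000c1d93076001c049011d01ae0a340029a7c00089a20a400f08d3c00041550e3c345a6894d3a000015581a415326f40a480000d380004269a813022e0234d36000026880e8268827a000460d12609a68045011404f00004c199a64000055428880024fd46904c54257c149e09dcd3007600008f0d34b982f000003a,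
  nat_lit 0x1826000817d3048000c2e891f000105f067e8001079182000002654da0000123c90d887c00020b10c9900020a84350000053c9b348299a9d0eca00080019aa6507091d887a9ac04eb0ffc00060004049200e35780000ec6083c8cfa81f357075f101c27902cf28cf00046ad33d837f070091f000026ac002c00001085ee805580b000026ab0436000c15047b400103c88fc80010279f0e0000220015602880000005042e6aa00040c4c09226d8c3ba54630e40010109820e0fb62954d521c8c2900fed0006131426c04c709963a84d5008dc4eb09f313da61c00010001353800109866a20d6da880333895e146a0000a8c130439685d10e741b0146128c1001261b4d4c0a4816b291a23c000206501a9545f80071fd647acd3e1a910bc80020031e420000098,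
  nat_lit 0x924124141b000010d000004be0314fd4390430b000035e21c0000005e00643b507688ec03428426c00001c4000800226ae3a848e0000023a01a400027df4fc045610de1aec7cc8f960012001941c132c002810302160a5cd74001141b8330ba98001056a2dc000004f0b8e166018199e4109e0000ba89ae41348003489010e4156114d062611f00a39ae1418a83035182660133000204b0000488c911cbff033235b80024da667247f180392220001000891cc2da0000002860c0010db61b686c9d4b0a860508010ccd6c9c3c492800148c660444d185ef35a800048de098032c42c885a9a5600026b41ae835d485a9a56490e00240041a8c02f06b33344001c048008e0e661cd00ed1ac804700040ba01da00061be3df800081e47be800080ac154000002617a60a500658000808a01126b1,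
  nat_lit 0x3092000013692985bf284d02a600040011b307ab00000290151029e000c3cc28af03960724d960f780a700020c501e740e501c8365021b2f26053400086260c44997cd9200004171aae13442548d90188400000e8a2080020499da300021623b42000037c42a8001846d08e07684bc624d80010210d90a9471f721f140001b1c000927b0742214c4289b1800012792b5c0460ddc001ccc2000208d211a0d8a0004210071333021c0c3891b102411ed11c660000106107947c8000093c4b309306a894200b510d060010000a8f8361865a0cb219a834100034ffc53bcd841c3820e841702cc9e340011b0539c81654f180004d3a106c20a81644f1619fc0001b013fd14eb0002001137999cc169e6bf0000000cce7847a458636f00046724ce719ed4ff89fec26a804b008e6be00080004244a84345de6bd000200006aa6728d4c2836506e00089263eac7d7283700022d9,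
  nat_lit 0x2b4000813c005800039f42ce4450000c2c2980347b402acdb000082c28b0327b86d700029dcc19a17e00001a1e03140ca4ee268d53c30c6502740c5cbfc800644486d64428000837c1ac40008a79109800005600022fec0fa845388ad03b01b443579b5470f012c2fe8000510fa22036a23e12fe8000110f181910e000104c221a000004c2fe00c38002800007c8453510c221936981230ac415482a824fa025e0010da4111c2d1012c00020f800060d0862c812e06166d100048e78091812a3680001473a0c240950f70000033f33b63234d9e0000000a96b52d409d00020d441a7834c3670000044e1834acc3d8c004815b50a86acd4451b3416e800604983e7000a0e6309400102c41cfc00185f0002800201624990002210,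
  nat_lit 0xc1e80030732418000417c037c00041500e580000a794bf878d0f24610c003039537100d1000a06e9303108406a8004047974e00041fa54d002f611006e1000036986d115373d906e01b4a98cc1c08002000e6070c48188400080062e0251b07060000009800336f80c23034000800d837f36f03e9019c00048da0328000009400e801e4470001805f981736e8005017c8fb003682a8b7c80040129d0700041be0a44000415a45dc00002b079f856f0a84150c2a4855816b698b00009d0436e00003290a5d88b21149229446788c4172236d88490f5c1b7c36e8010000e6da000440d0220041000002111192231001607ec03300ef01da03a903f1b6481980020541d040002210280e0000136003c0011cfe15813ff0004051,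
  nat_lit 0x51003ad075600040001bb4f09000104c073f000025b23aa3374d1680000d4e1cf8dd800001bd8f1b1e784010dd600001bb08d74f6657906f600081ba83fc06700014f2e40f0000090c0020004eed00cb01986ea010600000a400042a08be83caa09900e51ba4209a9af1e423bf800012bc6f9800001826e84d1200101f503e6136035f1e420010001856c6db0004054205f000629e2c5800080a22480000813cb14800012da681331641a4000205b1718af5013e00053000daf37380010ed41da41680000c0980e94b280084c240c0448d0dad4bfa6e633e0001c0e3990e150e2a20dca4d60000a420484290883ec46f486c90dc00006e4483a000002c6a08dcd9ba353b46dd00011b8c1e0298400000d0,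
  nat_lit 0x4188000c4ca59c80010a7c0a080011100d52000025b4668000497289fd19a80010498b9e00008ccc0a00e20003a3331538388000c051050400144200e1c002026c1be00031328387000429f070e00044400e1c000013146597d0468c00044a803853799a5e1402273c0001bc91a1800112da322000625c04cc00091a00bc0be0800104c17cc000004c04ee0df81bf88b400048dfcbe59bc52ed8002000209e000222c8114022914bc21846f814f029e800037808b01150001c0020a120a6e14f0dde78680008260000800012d844e46488c944bc19da23b600040001bb8f0b000104c0001000025b,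
  nat_lit 0x150006261034ba94337e000213066aed45e1aa037d8001099005b002693d8cb798dd49da6fa030e0618009027caa780010731eaf000809349dc000cf568a6462b8002054093e000202c29d6000009e93ac001893c16324eb000404f02f800102fa921400182b40bf800249d03354908000409e05f00000995273000402ee6f90d4c0004d781bd21ee07d08a0ca0d00bb000027ca4f9cdf02d94cc9a683175e0018002091a37ba3582fe85fc0be9000312320000dec9388c65000300042460dea98d035186a413cc0060de82ee0005024cb3b00090ba097600101be25da001c1e41214003013c4c280051080985000809b,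
  nat_lit 0x1e563a58df30001000470600fa01f8000065905fa590000262e803f1c152c780000014976ce08932c000a62532ec2b14e06000018c0291301a5d8000e9324e04975800303012ea800437c41aa456a0db0380a5d200000862e7e0c31312000038025d14ba40000595258e37f8ab2001217d156400201cc2ac800386f8559000614f256d000a0f206d60010158644000180acc86000202618c700081be06cc000c2c297200010aac16a065600060934b9800081cc652c00098c21a025cb000017c31a400092e48a68004000107324f8000017c4b8c193c0031bf8730108b10e61cb034ca94400006fd,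
  nat_lit 0x1ea10fa12740eccc5c9c2c0ad904f0a6c00088dc8ba4061000600140000038a3fd47f1b6f00140024e14a63000405391811bb7000e9c4ce1200180a403b94c3a988000202385c21c2004380060568087000a29e010e00100a2021c0018971385000204da70a0002265010a0000098a6014bfa97e00009a1c040190804380090be989a00101740246001c2c4108c0030a78c4700050790453000804f15ac000c158635c00100ac3fb000102698a2000025b52e40010c488a4d4b80003049114f00040a837400004058275000002b14ef800220682c6408c8165373c707,
  nat_lit 0x2e1e001c1e42a1800305850c38005132970d000829f2e06000c4b64314003058808c00050540115000802c47f6000cb828b34b81800202789db0002098075a00004b60e286838d08107e20e400909d938700f85070a0dcd7e80111c1a01200040f22c9400201cc58fc00385f124c80062c5e2bc406200142c20b600020994049800314f9ff900060e62c36000812480c4002824d2498004405e2b9057a000cffb0ab900680020df2019000209b05a400004ca6260000a84235e80b44e1a6260000800553baa7714ed88ca033a065ce180000df486ec0dda374,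
  nat_lit 0x2538abc375000000a60e6c1ce0d4d1a80208817602ef00046e9ce3000054d29444de825c2000822e4e2e2adc697800311704704a4a00044ca64a400008800691ac1000e2b7d2448a0e325071605ce0b8c00303ab38a800515ba2b7d21d8e68ab100030499eb300041743d62000437c002c0000840110821500000028e282b5d24125020878263414298ea0018713099200b8c74800b10746e704ea00142fa09d400205d01358003049157500041be049a000415809bc0000995518000431c409f54238267389025a15a2000c4191c44f52025b15a00008e200c90568000110620f607b000000140b3c16908a54fe429754241b0e00446374e1e4c0000505f4a7e80090ba0a36001017c,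
  nat_lit 0x1000186e39bc900027211b7e6adc96a1bc8000027b035c06c8df42950000272000020008b2783b403b271f00000004b270c79529c653000059354b929651f88a594de21c7900180040492003000602c1906000813636e800082606dd000002623240ab800286440ca407620eb0b239ffe38e9817000609202f40008150384400080b08ff800012e0915192c326064d80050aae8cc0c099c7106100011100d53000025b45e20004b4e0a0504980000278c9a00008248c1c15582ab800118fa4270ab0000010c31ec000055a0e10d5000020934620000037c31e064a00031aa03538e3643a85010454000071a00009fb000671014d49baa00048b98e329f1d5209ba70002385,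
  nat_lit 0x619658000098901423b8536306d90000592ce565928b2b1ff72c7c7f0c00180013cba72a029000000a45524aae0000000220200021b1509814f038b26eac93d92cf259a729000004fc0b60d3457500000411fbe00060e60d1c00081241a3800085f021c0009073044500101a2c5305aa800383c8b5400060278435000a161088400101368270001899504d000214f969a000225b113200082f8a21c000843b143251500000ac510c03bc0dc8008038893e02f4843b08727280cae9ff40039b17393800400124bf4e0e97df26aa7260000000410184d80008002000c0010006a333129000000024c081009c9400000040006a2bcdf3a9791b9400251989c900018002515a1b6943d86a70a5472325fe000800086dc04fa722,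
  nat_lit 0x7abaabd397472f09a692df2a2200450ea1ce4bb98001047842b499213740051ce14bda97c09b6002422c0020bb821fa02b9784000217d2a1000002f800011e7150721b0b24321c0e5400018591e6150600020748e0a6c612b3839931ca47380009cdc0e8039231f44dcc000192ca8195022efa87e4a82800435c401d40389cd8002000335c26f854b984d139a92ae000003802820508207841204ba00140ff814639a2918000807f809d84be099ca5bce66871400082610e1800002601ff00020894635094d0b8e870ce641f683dd13bd000241fcc8607ec3dc93bc0000095ce6241f42b700e601d40008000800027767300f721ef03dd8000130aaca3200a6d94f68e521caa00000e4000011180e401ce36800026bcc78c8ccb0f6a4edce5e08ec4a98000374051000002b094f50afc1afc4cace5c2b04579965b000698a1314850f396942e521a033406900024c4c00f00023b8c4170357184072c,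
  nat_lit 0xe821ce600054f1a9e453ca74737ca00014f0800732a674653c0001800380041e2839d0e8a88700080003233a6fc0e88a9580010f1207c4743454c0000150a954000a2a415c17f90000220000c2810184030a24085fe0e840000002a9d753b01cf000828203a683415278003047800623666ad070286c1429c74135b600082e89f7800086f850080001082a4a000446c050da7dc3a02a4800022700e7e000061c80580a10001000400015239cf9523aa4838e623b400083040020003073000400042101414000415823a000009944742a6e22f4239494f947c35ea0004e7a0bd417985e0000058411ca2388471917854d83d54e4700004ffc73c4ffa005000aa1d800063d64e76875800082610ea0000026270b21ceab2c7a7800043a873a,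
  nat_lit 0x3000c43ece1aa7c70dec14b02979d6400380051b422d605ae29fb1128758000a001087c9c3338f8a8953c99d5c0018d9f38ca448c78f0c7800110f8174e815806a0008000800500997e9000616121ee000815889cc00081351388000110157400040010df39ca5546e293139f8a4644e0756351a000000180012ae833753dd10f03aa800210f021cc1bb0a4b4e7a7542ae8292139e0bad0002753087610f4a7c94f1291e52440029d4843a88700ff800114a01d44000238f00b0cee19e034100001a8d0b4c375cea039b45f61a773962721c00016b06810991132000140011d3ccfb00013486504200200000bc1b2836689c2138226c843380023a707f400023ffc00380043a687f510c800004399d307fe800504f8266473d0008110c219ce963d8c7fe000404f609f0c1904183a50cf520a83fb8001a9f7076e74946fe00042fa4d0400005f00001490268043604ec2640de9800253c6a788503886c1fee748,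
  nat_lit 0x3f9000a0a81dd800100a260b400189707758002015917d0002098190800004b6a95552b0004000407547719da00008ef422c83b6043f1d9c0000ef3176c22384439d9877a0000175e0748eca2ea40000300b080eff4f5200147412a4f54a0a944ec8299000e00154f5000107429d8c0018e800dd215042a19d88c85084d00045834ec29e940008e834dc819f4650000853c8ca000083c877b800012e042e084e7408945000a000639fd1931d8000100000c4c45f4a901d7c5252010002200380009d7849e8bb540c800001e83698000000c000279417680ca069048349050c0933b814bc29b00063ae856300041620ac2000437c15780000840003800600041b6c37086f0155a157ceb83a509ae953b0db60004eb62fc02280530000075a,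
  nat_lit 0x45600041e49420000096c3230018002a000810ca5084a0e7720008001820888dc434e771000611f010ba50608c8010000411ec60464f4000821b29705dc000008400023bb82078a3a033206580c985e3328677000003bcc91e059900a297d00121afc35b86b3540476f32749e60927800200ec1bd4edc66792b8800c4d380004eda03d80018260bf30003108007100040ac44dc000409a9a58000a26b1422696000089ac59c0014001940b2fe2718c07780f044d276c332e000822064b400205f527c80030ba088e00040ad49ec00040a200340000970cc886af397472ec5db9c8e2294453c007000c3b5800c001a45395aa9cb6390e425831c862d3b5269334769aa47b3888900140030ed23bb000405f477600070730eec000c1be,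
  nat_lit 0x9e600041a031638468000e1744caa001815868fc00280ad02980060732053000a02c25040010440685c00202a0002800301609e5000468b851698b40008880cf1800024fa28356cc8dd89ed8fae0002775139a00302e898a800582b52fb000a14f1a1600120511930002009e324000380ac32a800614f8026000a04c06cc00181262d840028841486000405600032112000c4ce0d98001088094000020008294554a0004130aa8c0000363177813d5642ad184de80013ba1b0415baa06825a84b6000208b0ee619240002aa2554219f,
  nat_lit 0x1a84000004c55da000077a8a0d2568784319603dd215800150842eb45d59e0c07ca42a000063f13a31e085bf800312e0b4a0004265261e00041303838000096d2120006050c0a10e8e2af5051c26c84d88e0d3c08005050a0a0ce34008501061dc4f000010a3990841d3e6d24efe000c3c98791386c77e00040a613e803fc000829f018937400144e48e60143100182a54efa51b499f22be0012644cc4c001c0040024ea298dd000207283141df00001a320880002468c3d087a092d33a86636cef6000148900881e903d0117601280262344000277a000002b8320540c9d38002279c3e6879f23423bc800138b4a244179028800014f730708accc0c4f2c7cbaafa55f20004e3c131239684e18ef0ad58e971d2f3a260000e3b9311284877738ec3ef47df000b3a247760320000405811b0000824d3cd00004c262f6,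
  nat_lit 0x8b400001309b7cea99cef54f2135000003bc08d278d077e21f95ab03330000a9e02699e3001280260006a0e05c89adc3c5a89436dc00085b78f9c39e0ecb36dc0004b08a52803e807e000078a00003424006341c0000b8731820a3170c2e549ba8001001078910be00000039b9607c13733a0e2a19436817f000e7881746000415a2e8c00000b05b8800149522cf26e600004b696200fc817500044dc8f0e05d000088580cb0179000008f10ac2150fb703001774003957e1e1943f800d55f4abe40bd9e140062afa02ec6e2c21e8cec0010588c49800101623380000161256e001cc488b18958000601612b7000a0512560001009e4ac4001899495b800214f83b30002098,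
  nat_lit 0xce200030b1258500041be4b04001853c960800282b029c800e4b0434015820034150148800600b0526000b0288ac1001425c042000252be0adc107000814f8abf000e220156e00184b616e8003024c9eb000504913d600081be330c000c0a26610001013c2ad800101599c600042ad0550072c0008232168805f000c1744a6e001502e0ab00f9000410803c5000626508d4000844011a80008130560000507919be000811b84c807ac00182b055b80021328608000204d,
  nat_lit 0x800014b8a394086010d117e0e40f22a0e097304ec09d413bcd6480003c8006900008ff01001e3c000006601d0d4c1a9600241bf99d460f854c0a96000cf1caeec00001b136e0000028abb800029b7049a9b70000013c1aa80004db64e506aca61401d18fe17a64ecc0230001046a70b000e0ad4db2001853c6b0000283c93848004027a5b0000e265001800242e897200040588d1480070df0034000c9c0c5cc29a4002813c5db80041080bb8000609b05720008d080b38cfe8002056a5ae000229e055a000d2d78b742a180024b5a2c34a7400040a29624002824d2f0000433fa2b9,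
  nat_lit 0x2299d5d90cdc522c4ba0eb91e7404b19a100002824dd4adc052c88ea00020224f3813f00009b9d17a44d482bf9e6c0002593090a8a9c4e61e68000001c036000026284c4cfe5939b18606e8cd0e25913cc931337366fe40030001045e086cf30191131d0870000aa3b0df18d543cb8156000625c4ef2000853e054800088813bc000012d800000b822ec9e394802cde9dd8f2c000414b026725a07951a6c00000820a48b378009001c34d0f28001c20b80073c981a1000c162082c001437c19e000202a105d00030790554000404f230400144ca4b640020a7d1c800032e4c2bf01e4000c15a03cc001013c4b4000104c238d000081c857e00001ca00fb15742ae00771e4800026f106be0ca,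
  nat_lit 0x7aa001400289400000a78f0580060a90287065800140581520002097019a000304d8334000404d0a8400041301fd0000096d60f80011a300cc4f52000068b0c8e0e10a88167e2ab800085ac0001df60c82bf657ea00093ca08b83d40bf300022cb87c3053c9ad00000600c21180030094560002079a4d60f4e4d209c115bb51580004f4c906800001481e500015788af155e30ab407406d314549e9400009a45188a314df89bf310f421f0f48222c001800914de692c4bb1e8c28780025704ae04ed60a7709f92c01bd221f80009e883ff087d00001bf000432947f1122f2bea039c07521390a187a100022928b0d01082b100001494153057594ac65215f224583f8c7b9109300047a028d00270cd280040002adf0f3e0064848800056f419f56f404ac5950f7f58986e20a72008c000479e,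
  nat_lit 0x25a200008cd052296800020b28149a59e00060921d08002c2fa1544005039874180090490b2500109668530150400380b0a7080060791982000a16133000010158153000189952270002026997f00022200ac800004b6964000005461478540000096385ec9d84001a58c1541a2b00040a83452000405868a800083993b500004b0e28801086ee07d00d21193e00152e29a283d60006000617c349e0008420303c00082b03618000026ac0f581c781c007000034987ab067615cc0009a4b3d50cf7000069292df06a460509f9000e343c5c4b0a40030d1f1f4226e,
  nat_lit 0x33a0001c2e8928c0030249263800505419e6000829e225e000c1e492f4001026c44c80011328897000029f4998933471c884e000000105fc0bf6225c44acf5e2154e2d1254053c0a8c5fb80033d700ea096c12d05fb00020058a6626ae2d9c0008da05b180000009b394f2469e000115b226740a7814f8bf33d6979a0004093269e00042f885280018588d350002269e2f64bae001c4b8975c00308412f2800b1d582b91d5a002815a3ab40048a7847780080288e2d000e04f1d5800182c23ab0002a5d017509e7000829f1d56000c440279c001013078180020498b2a0002174,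
  nat_lit 0x1418000119c2a5584a000812c2247119e7bd04ae00040f886f82100257000008f15fc26240c98a06144800082891ef15bcab780002581c028288c0001606009aae520ea00100018fa916baadd8f7641d0001800256d045188a105663dd0a0200023e9ce990fa32e88378000404f20ec00041308cb00000130840286c0002330c4a7894b1e6041d0f72002800000e10e5016702ca001ccec93880000260534000149c029649bc00000987208001800549be9378f70068c0d080020cb095f39000004026a68c0000004000a4dc001e234c46a1c973db907550c2000126d800e1b4800138383b4859189ff13f6a17cf6c00011aa0c2c48787b53836a2102a22c8600007b449ae0018f379dec574c0c6d6429ecc87d0006000ab2852c3020e3d924d6000877c455e0ac03d8a3c3000e00086400355128e7b0,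
  nat_lit 0x1019e4c7838823f13e282690c26000453580003e200cd0bea0e200008a6a3e1815c000006c14d032d42602a99553000041c31f08346820b000009f02ae0000074080c004024d26a80070b10637000c0f249a400142c218dc00200ac31a8003026988700080934538000c2c41e3800105f149000010c5e28d0c5a000009e37bc00080020a48099114c1f040002a7102480000a44003d6192c3312ac03d54d89f00290800e137e269488089df3a907bf04b29bd4006ac3011ae7be04f80a04006112622526ac30ec001c420235400302b01c10005026852700080980c52000c4b6353000185d046900020b12813000217c,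
  nat_lit 0x16582cbf597c2a5865326ac4d5600100010190e3fa9851d302680d8526aa00007d1592e7a6400080024d527d0597200000820004653142328364648f9e0000d8306406521b7136e49d25396081500007ce5172000000c204c24d0b9c0bfe2e6c7768ec80f940008f9a000146e81a400087c902ec05e40bc1898e1280000880fdb110a1f900011c1b51c070e8f980004e0d28de10baae1d5c31dfe2e487e50000355383000200060501097619d03f29f2d3498005190a04600123c8416282c2516e7ca11a60018150108800283c83aa00040278751000602b0e9e000809a0a180008881344800114f268900001d3c5001d3400026873e49c52219a5b00763ab0813ce0018f9017882f089b957de446868600053e3a806000229f500c00004b60008068280622964520e772811500a7c6,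
  nat_lit 0xd580b60548074800b01203294a70000c15068f40010a788ba80050499a6200080e653ea000cd2b8bd8d240002016253b00021614a780000056a7c0000916f176a9ee0000161598a05b89f6000053da7db27d65e340000c1f1770af4402b9f68336038b071c2b300021f64d38114d5520000cd3c44cc0012432330a66022640004cca14f954c800004780734a82950800181ba036c35945650ac73ec24be58204e0c7560ead00047d722120004df1811800009bc0661c6d00023428686006c4a7a94f8fac82f00010398bd0000104920bb000017c38d27944000a0da41747d522040000f2207eb3ea10bb0002468c8d29e1a2f808360fa6ae0485e90bf0c8819140001f480001d352172302,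
  nat_lit 0x66d8000000a950529e0018002a7f7000008883029f9c11480030df0864000404d46ea00044408dd4000096d3f900000008004400902253f327f200020924fe40000420000460a1c8503309fbd3f81f940000ce602ee0b4182441a4001856433aa55200020934aa0000012479a8da59b4d4dda037c0019a704a9e7e4000600080d8000155680884e90d5d0d0a140c1d800020cfc7e3170c4d7c5e82beb152c0004fc40004f262bfb57f4afe42ae08ac0001e4b57f414001d685100021d8c1a78023004790d072e8003036000052be00a000008486098c053f080e353c273a41280001000e7e03b0e34dc000000203643c90fbe00041538d2d1a4a46dd5489f7800180004d4e18e81eaa81a3eea6a6055a19603eb8002006000000020eb84371f70000815401d4196,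
  nat_lit 0x4b7c96f4d5d800007d653307da5b2d6ae2c6c585ab0b000087dc0fa07f203d200080589cc800083c8dc30000015ac2700029cd4dc32758370a7f115e800006aa007c004800b000eb18444808a33f82bfa001400196309f323d06b03cfde8cdc000099452c0001466a264466600000563ce56141e8a00040018005193e46647ee000e00141b68000011a0238fdaaa6465d800900080db0fd8855021f82f357e6000cfd6afc4001014940380070ba000f000c1be000c00140a206b400208400028003132800c000429f00180004440003000001315f4063e1e0863640009fa81b083641e200000028001cc6b000529b800003604d529fe97281d803af0720680c00100013f4a4974930926400080004a6a7e84a6651d8a3a1137000200b,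
  nat_lit 0x2fdc56c000128e879e0000086000000106fd09c8138a457c9b21e9e15ae7fd000600044e69dcc05683e2432b9edf0cc67fc0b1c162d64400023fd84770ddcb21c00094d4000ac8614a044dc35e01764d607fa4ee4000001400040982751376e7f93d2c0001657acae0cfacae00022dc0e63acd43dd0b20cff00000232123e3d30b0c084390813fb80000262031029211d443e000055c64e60f4b123c08c47f60c3a000c0002c25246621e443e9fd44a3800d049894f00180e60a32002c2c4200c00506f82e5000905407ff001029e1298001c0a28c24003013c3ff80050b0880200080ac1294000c0561f640010a7c3ec800112da4da00020f249b000003eb8a283e9800049b07f400020fbca4aad5d348e7f3,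
  nat_lit 0x3000a453d5e8979c584c09f013da0380008f581eba12292faa034001000100002588670582435d06b9496caf315e6914c000400010186e586f8023804741a308a58001405807300021e643bd059a0b38518c3341c40405007200001e30347868e404878b000635b847581d2598c0d203b29d893b18789000435b9010745c4a6ac3100028070012000009235a84730dc107600ebc0210009403032500040ac0ad6000c1e4653400100ad599800246a629b057a00041e4659000005671820a87000417bc16002bb402a8e652f6004400300005850804000400106160c2e2a848030002000c6158c3019208020000003002c00046148c2c1ef6a96ce9b877b40080002aee401066f0ce029b0c27185641dd61b2c3515c0002100054f4795000700100030ffe0028001039935c800104926b9000002c2a683c9400180040012001cffca80c7948f25000417a,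
  nat_lit 0x6000815859ac0008261097800002601841a649eb4701800200008163044000842085540008134000800004c166c006a06d437d94d32dae59640008006000081542a200044b660e400088800018000429c2ce000437ec36315042a2a5950b2a983740a0dde000001e12782e10a3a8be5001c0049304204cd770000110031f0002971c598917400083c85ac80014b8c24d4fb400106250a18e0380034b8a2a324160008420323c0008994647800014fa7c40002001064f2d191920323902417c52038b97000650702a005445ec80021150a73000068803ed204413e0c270006000413e204000180001914b19064987cc5771279050209f80010714137827504f000043d62b7c5360277000080f,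
  nat_lit 0xb020f4c10ac000038832280013880112c21ea08d54e80000110000362497a83211c10d911b7c4d8c0000bb671cc19e000600185604f55957b36f88221854001400596225a6646889a420840660002027a58a00020984b1000000980ce000080072af87da56ddadba019282009ec0cd800000062c3a81f000c58288c2852c066a81e4e50000c15a9be40010a78dd80001028a726000004f255c7c4d69280014dec2e3000058140927c8cd5e0d6f000e81d16381a38346800640e275e000035d93868d602b888c690362bd00000148dc4800002885f400009bac0a0025400026eb146817300029bac49a9bac000013c6b20d542d6c59e40001b834dd481a524e000023d9e1e07a481908e8a2e023986d5000e0004001206000007d116da1e594f41d203a42817,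
  nat_lit 0x26e00040a804ca0004058b3ac0002862146857b10700004ac8adcf04c68312b2400000828c080001b9c2b262e22bd0007800d80063f1649dcdc600180029f9f08761f5d06000116d483306b9aab70000196c6c2980c0020588d9580030b09b2900040ac24a6000409a04a000001300091c52000419592ff20bd4118001005038300082c39671046808d62ea505c298c5310001000678b0e431c4f416a8190c860e040010b0c41600013c502ffc5b1a0ad1bc00000601e2617f8370c6e204a0150c0008002837e4151244248278fc6ff0a85000200110521078061849b093c2a1000020a000181b1035e0f286fb8a834138002036006b81e310c43b68001019eb6582500000b98016c0d681ae0606151c17b84f100061924324209827e1c69086011000010648412884c07f838843d7042c0002824,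
  nat_lit 0x2800400149de53aea0f5160800104c22bf000004c045c0034dfc27760324665ccaba2be41e010302000008005000c41da60600060e64c0c00082f89904002058931f80030df17360006980851e061000105880c200010be000200026cd450e97f400001811658002043e77a807a25fc41d0001043e09a499320e400003ef034ad325a6600040000458df49bf44ed406a87510ecb15160001070a4814908003000014f829ead3135f853e00c2b5ecfc180020a2128c56ea39ec0008ed83590000036064f15802e901e2800357ec73a506e14c00010c2057d44af130420d870385300002307c7e200001ea860c60e92ae2a3c00240008d9807840f0506a7b2d6399ef42b7a5660004083f41a1aec1b84653962880074199b184bc85658003083d4192864000429e,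
  nat_lit 0xa51c000ad011988aad109c00001938019680031f0b0830a861586d10d9e0010a6521340752b851518000c24a04992f445e810981f497201d963b281b3c36680024259b020d642a04000a1df2a10a72564030e400003d90f09a772a9a005000a80032588f3b3bc6000861b92e942500004fc60161bb82f3000080001508849150829e856e000200008480008000c2c22970001013558a800104c1e0f000004c178c222043eaac600008470016000c52c01a000a80001d9a74845242118766141f1e0a3cf079e80024c90992400a2114cc62346242c76b4000a64736a88441e9e0000046042c75f8003063c483cecb1dab42181c500040c806032c7634ea97f2daa000460485751ab0ebb0000355180e302400081071d768423688000d4200557316a01b4db42104001283f00ee49d0603a10000084fa10203cfd07e000072b860c0de1c09044c1d30a6e0005368083e,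
  nat_lit 0x420000205147ce00004206fad3a4800b57ce0000017a15d5f300021a8a2b38eef81844cb68560002b46c3eb9821206840d50aaaf940000349068e5e01a8a00282c4463400486f8ed300080568271000e04f1a6400182c234c8002826c57780041328d32000629f1a64000844034c80008130edb80030492bd80004a9ec5a476740008a7822200000562bd4024216c82c20001230c4610ede9db342a000400060ad00080008058a54c00082614a88000026118155f03c1956300014299dd50000110529e00081c712d106c685200020e201c3838628b8002529418d0317863e0c8225410a20e2c96780015294a52d4a62140e5e817c0c5e18c80012d035a0884f,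
  nat_lit 0xab7500680020002073d0c4997815a8002000007380fa30d800182a1327000207902b6000204f4c7e000453ea4bc000263f158292f000429ad012ae46400c992931f218527608a13a640004f441bd837c00001cc0a682b2ab6d000400000de41bdd0c0000c0010840daa80011102601000025b0ddc7f68fab0003000085f36a46d7c7118e21000285e04a86cc40000003533685d0006267d6b2ad821372045409ca1700010a6338207d4d0b6000415902b315fc78a000074fc0d81df075880b8000a44a15fc2398472e8e590b45c7405780b70008449c15a024c2b4128305aa21a0004000700068594986000409a57a0000096cdd480000f0a93050b0031800000040032bec02727458e9029633a14a47c46229f400205880cf80030be0032000429e,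
  nat_lit 0x3ce200000020003000c1a9d0e08f0c00082611e0800002608ea04e009c83e69ed30f2e00100000001478286f478400041308f0000001307088a011406292412082402f4a1e54000a3c043700000f2a0015a72053800023c147808efd0da000835487955a7005350d800056320cea14c286b000004601da1494090a38600008ef90d40074f58ac18234e4e88002800443480050002174448400002f8b95c11b99390ed00914000800343414c80000532006400088d511b1000086700024e7809288f0001824c8d280020b1192500020a82798000005808f416702cd2bb6541090d80023246866000231c82e681a8000121800b2dda000e0001187058727b2865000000141da00043240649455a66890c899dcacf00000c8e3990c8c19205938eb10004863,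
  nat_lit 0x53c000048048bb94ef000020124ca566e798cf328e4c4de49bc4105800143d0217041400014ee800a43c800012ca25611da000415093c8000013d4ec800600d405b00b7a4f143c2c40000a0840262000802c46505081d8d00000a90544225d5778064000207440e921dd61e0000001053e53aa0004420a74c00000ac0302ae809ceb9cce7b1cf0000aa74d0ec001000004c007981cf01d604a400181a00ab0001026857f000025b000007200aa21d4000800004e609e0571a8ac39d487409142810ec081c7038c00010e6983d3070000038c0714b1ea75c000044130580010542609000005153a8000435604042a721c6d30421c838e01d70006000096875e84fe917f231678d47e9aaf6000287100001ab85ef86e12f000001f86006,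
  nat_lit 0x279b0b7110a0214c913090222080010a6e0000ad1510239407240398073214300010a6d44008170a16000460221a8000000c2e60f7131a4b628004000343f800201d21d083a186cf26980000a820034ec4150c2caa9140a6e000d22b21f94851d383ade7578e9e853600047bf51a815880bb053e000287d59fc0fa429a000048a887c000014ec4ac227844d92ab00001ee000020f85f80c041ec0f731b4a5cdcedf0be4000491410f614753ad275b4eb814a00008fc09818be300009138042913800481302c4000c027a489001616149120028130404c004896c0ff0009073071f00100ad15a8001c2c207f400302b0807800504c0bd900089114134001c00202b400280030160006000425c,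
  nat_lit 0x1ed819820fc2d382f13a3800081298bb304a09cb911aa2e8000825225c679a95bd1e204461d361d36000155b12cc077a88b049e00041540b61064e8030000ba78092827162000040004034c7086254dd900011f1c1c64c7200000140a4d4299cdd39b818d416902ba06760009114abb019d0001092000300000234c6a59e8b2a1653404e4c308c70d03000088900027c5c001118d1a048880000b0dc00287f23fee887586c000c158275d2240d01000001e3e26b0d0000000616c80060008092000c000c2f845dc00102a090780010278009000004c585cb0bd04582921e40331c66303e007ba000510cb5d03f41173000069c0a38000009200148791152229e178c808a21527b00010df070500000ac009600043830704442000015cc01615cc67f487a90f30004394c0cc01970092883,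
  nat_lit 0x18da000022005dc16402bd0006b52d6a61e6244980025a94b52cc75191d3234b53c838ad0400084b2017a26c0574000009b87814492d461c8879b4001925b448ab180004380c2020fa4ee500011fb00d700002e540b649580d8a68b000078e562800040706f8800202b53438003027a6df00060f20586000809e9b700008881587800137ba285001800241600a00160000800142a34e74001c1309ce00030130b4880060ba0011000a1624c94001037c99280018840aff000204d95ff000229f056a000139909f9398800119ee33e067e834a0692595cabc15fd4482b0300000384e5e9cc000108421080ad3867aa23c00086b4169a88e,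
  nat_lit 0x6300048a783a0800807908a9000e25c114a00184ca186800288813c8000412da2bf000a25b0fa600201e419f40068588cd2800c0be22b9001606086846690005026d06a000a45702d00d6a00282fa1ad400485d147300080b11bf7000e21080a03dd400303c8420800512e049b000826502f2000c44005c0001096c5598005455836c5da00014ccd8bac0760004092c2c84596000c4b666d40018144cdb000212e1f4d0002665455a7d2c00022c61671f4a091400000bb865433628953a2400040be0e165d22894,
  nat_lit 0x923000001305540001157248cc538248b44fa0985ec282c80000ab80648ab70ec41c0d067ae6a5c5600041018aa744f0000000200904000f4c1e880020000b89d7142274111839b000400047220dc079980004dfa3c04df600041303c20000096c30707e91a864b08bb8991900083c1d138000d603928d3d8cae3078e00089450105020c00400024a2410302040a7800007260031e02000495999140cf800048860090004277549388140176037d1360000b6d9fe11d788071f86000421614f95ac00000349ab10f04000cbe722d32edebd0d7a10fc044d29fc0efe1e040011c601e283ce479b838b44ca5730ef41df83c000011a6c10111301e0000182a0955800202892b1000204f255000000561df87d72eb3004474d559592b1255e897004274d0f439ecf3dba05340a62258454800b0be8f6b00140ad,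
  nat_lit 0x35bc6d90d5a122e00191440a40002844050200070be8a04000c174571a00140a208ec002099411c800314fa57900060a84ed4002853c9da8004813d6568008046832f121c00212ba0ae05a0000c0498b4500161744b1400282c46e1000486f838100080568702000e02c045200180a2b2940028229168210600086da856050dc002058857b80030be124900040ad248a000405800080001b7414a00015deca5000022cf3248c8a11c4838940001fd11a7aef4155c00182a2032c066238911401820001858453e0002056248e0002098,
  nat_lit 0x537600044401b44000096d6a3000003602cb1978000d6a20aa16a10002049052f00060934a4e000812406b8000ad3f17401ab000021017b83b5c6a80001188406a915c0450000061c0a08d9d0866000507d91e9747000004321470dd678ac0038d50085e8ad53300fdc1fd80061aaab2c91584fcc00189702fd000202695ac0002098282e00004b6a740efb1e053c4c00046a89416455ac4c035a00006a7acac4552f191a7c7ee000d9dfd22b277e0036006402b1c5101c6038915200005350f7e5bd4817c97724274540fb90002b300fdaa29c1728000060000d0c1c8ec03a90c2c453000100044110035a2940018d7303be07700b102652032727ce502290001174607a4518855d2e7245180011ae2547d0a2903e37d80000f960ee,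
  nat_lit 0x23c5000017c000000091df9aac355c8f1116e00051df1aa61618a58516c00011de002829280013b5a3424336029745a874b0e9400001ae000c9c4863b0a4a8b44f4200041240020000084069000000004001d1660bec000008c0000004320219600040a5d647ac90324a84cccc01da445911b4000003a4f7a00102fa503000185880e300021082798000209b4f3a00081ccb0fc0009ccb14c9406000017c587c22d5734ae681a2833746648003000e50151627f157c92125280e00180010cc85da68b05aa6b5480008cc75da48af00001b2009206e400405894e90007056894f000c0f23bfc001409e07d800205840fb000301581f6000429f,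
  nat_lit 0xd7200101be0c6c001c15a59a800300b00d18005027a384000821034e0000c136067c00100ac058800104c019b000004c2d547718000019c460101e11d61a1c342000145f8a7315ce77200000001360000200020a8479e00004b8a7517ca0002159c000117c8f380010a791e780020b1001100021be159400011e60a540a40ffd008c00211e622f402200050b10329000817c38ce000c05662b40010134e1e800104c26e9000004c5b0c1d542978001007c8bc0000b3f167d86b645d803d18e431d97d3afa63bb4a59c002800745d0f3b212a446c37f02d50008001917225744a5ad7b05a6000c002a3c245c23c5000217d,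
  nat_lit 0x752800180ac32a000214fa88500020983aea00000980cf42caaa270002000c029a3180010057289604cc098a314000805628ae0cf551288f83ac000000aa011cf1e6ee8003824cddd0006073259b000a0a85a62001c1cc362400302b46ca80050162d85000a02c011600100a213fc0019bb1168a05b000402b4034000453eb85000020071582e145c2ab8586458df70004806118824b81d688ad0576000471a323400000186ce00021e2232206fa230c00280010b9e1710c5400100001223497e2d92444519d018a1774318804083196b6000a8c215b02b58b5a8004000274d00cc29b0b5b80031b286e75a64b4c483016b300048c1485200041802a557d1a9e300147e1,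
  nat_lit 0x2fac15a282b97fa166c152c000119222400002a6c14e82a5519079e800082b5523000007909c11384271003b00230042a919522a31d6cc000705402e9000c29e1c4a00140a22be800208405ce800304d8b9d000402b15f00004440388400001316de000d5b1e2c740d600302c481ac00586f8697000b0be8d2e0014174209a002415abc0000400b082600070289e18000c04f10f40014136275800209944ba000302687af0004098209200040980170004205f1a02fb7000e1c905105efc0030144288000512e06500008210,
  nat_lit 0x14dc80020499e0800020e6536c000012400243de0a801504c05980a967416702cd54daa3644a9967a2cfa844174b000155e48d83d9a000c2faaca400103c883580011329067000029f5d22842cbd397a3421212480002b2646b84910002b5781ec21e33b0676091acaef8a90148a198029e03da000346aad5c000462dd7c3848f0240001000603100023f08c929852316e77600003fec2a62d5946a0fd008427b5c00005e82b39f56000c0ca0000bb6800c0b881700000417e8d3419285410628000025048d5f502c2c001800115dc1f9135a2c7819c00004bb68d215d880f06e6afb50d7800091a206dd5a99efb16b000051a073a00db81bb16ae0000f620cd01992ebd415c4b940010b58467803b198ea76406312f925cc000519c000101c86b41b8e8cd16aa000483512e625c88cc41142d380001e5b46589360d401a684bc80000d688ca,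
  nat_lit 0x1a18f0b94b72c83808b3151c0018000a37d5ff8000407e61f87b891e4c7d80090be946000100e639be001c37c518000300b0cbb800510818f7000809b31ee000c05663dc0010a7ca33000104c046c000025b57ea0004c788a315fa80000be13d1255a432d63497320002afd11bc004c0ea0000207862a00080930c48000c2e894ac001058893f00010be0c8c00000a8087c7bc40019f1a146028bc6400c8b46e93a430d28f4400c800200068dc0002000c5cb246c36588db3c220010126001400185d0f1d000204929be000217c000200000566cc12380b3d1674000c000a368822842500003f5,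
  nat_lit 0x208aa2a6429da390000844f000200236e2000004a75180000001041e0844be892940002fba2da85b4919abee10ef95560e1a0004a6626a0f4e80002a32bea17ce000c642001000089a12e1e498174d8874471af0d0000268c11c83e152000040499e970006174547a00081240b6800085f0000800005415432a642ddd66ba00a0002a79c000238951caa38546e00054f322bc654800001d29e3000609353c20008124798c00082a023180000160ca423327f316468641000a0004f30a384000800000081900321211800100010ba24fd000017c08beb2c16578bc1575651a40030000470064a000817d0c80000c2c4192800102b4325000114f064a000025c,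
  nat_lit 0x3f847f02d755ae2b55400102e447b8d360002000c7a80983235305c04d281240001c5c000973c2a9c09908d00b60000173b1d3633a91ec471800080020f4411f8118194e47a817f0b16000000080040006322d1e800003d0053d0a76b0c51e60008000822b045075d830c0374479000f54cc00043191ed24789f6919160040000181431800ee00040e05532a3c0716b046010200051de0bac0790000055e8ee06fc100c1b62dfe00040014078a3b576e1a50431034bc0170001476002e0000052000410e18193031087c418893e1521475800200024314b80afdc46600000850256086a06442c10001087819304c81604000028d5358b6022401dfc000a3a83c0077e000034f51d22d8c5b2163a24f2150800380060ee01ded1d09eac000097152a80024f560504f56000415831dc0000a7c3c511ab0006000829e02aa18ec8e71d0a3a2168d053d00028e60ed030b07e9853c00008e5,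
  nat_lit 0xa1fa0a131c000095b6a30c2d0217100029010a2e00001dc23e447b88f40008be080090624dfb1c350006be097c1af843a39e8d25cc81b800112d00001e9720a08278a15217f480001458840044006b00c0e5af7d001805c00b788ef234a58b085610c57bd800920908ff5c143b2c23c84fa00068fe000017ec044a488000104a415662b0af5036447e80022ef0658564f05ef0bda8fc0002b1e46558ca709ee8fb000032a4012329c75280003d1a78f0018bdc17b78ee21dc032cd29623e803d8008049807c000e1be3274001815064b80028a7921900040278079000621000ec000815801c400080ac2ef000014faf695ed0bd9c0010000585c01bc398000400015902b1e0830348a93c00001a17b1af621f2885f16b9ad570008001413523e40ff11c05aac000c172800340988f8,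
  nat_lit 0x3be0012093001400202e8011000382a1512800614f044d000a0f25a0200100210af41dd000301583b8000404d076400041300ecc000013167eacf309340008000a42c24f0abc000446d0768b42c00084d9686000001280011fa2829c6c3073609422ae52140000b270b4a07069091da25c0476a112f001e0d3c0000003484000103122424485ab7c069c90717668408be717cb00006f8030e241c76001b90002906036c0000220073c2df81dc0002000024206d00d785bc03b8000120a00017fbaff60cf00e842dd81db30a817d56f400057c5002425780035de825f45082e7c11049040004bd7ca9688f831280013f8a51102ce7b704b0800156e226a9206873c4ac8000000647000001e74a2228bd7010a5807a40f5000d00160006902,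
  nat_lit 0x54e600084200a880042a981a5215b000e16125ac00195380b9c75f8005026a16b0008098535600144b805b00028a780b2800412e20fb000609b0158000970b0a5970a000102600040006a69849a6a5c00120f714e9a97000209b352e000005600005e4005e35b06a5521ab8e877c00160022000521800005e3006203f016b39dc000809e24b80008260801000012d800c001400601ce854c60cec198e75a0803f7800314f2ab6000405100be00044b81fb400502a1685000955680505568002009e0174003826c02e800614f804b000a220,
  nat_lit 0x58c80040568b15000602c267000080a23e1c000813571f80010562e3d00003e145800000a1019302794b8f522201f8023afbb00003741f064ccc00386ba04e818d00040924b68000453c96d0000013d847800700044c5ca3da5b2488132e0000052493200081e4925c00088800040000026132a1ef4c221844b08a0004925521e17645f280012fc008e17d200001940000357816d84a1850453e000076c92400012dc20d5c59200001cd82d42f9400c001534a00b2921c2f9000b8015370e9239190002c00b2e511e20859ce88aa70001039953a80020beaa9c00061745d16000954d01407b2800354e62ae,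
  nat_lit 0x26de000825c3a26000c4ca9d200010134e84000104c1d43000004c1eee30382ddaac50fac00082c7896212c8743d2389ae41358e4f094a128c00091ec0000a3a331665f5236092c00382c3390663f541ea4680242e7c000c39842a8b9d40018000000491918f400006aa000573989b0135e31ed23085940000219738800218f8c08500e0a7415d800109b000042aa0cc5612073575e0001296e0ae922ebf2800016840a084e8296a786d6c480010d6c87257e5245800006b02ef228f4914112c00002aa374048315f42bec52805df0bbc40a4b53800148a97ea000235686ac158821c000002096a40000004cdd39b94494c34892280048c8c111022240ff0481000c2856913056c0ad41fd890100169121f8200202fa128000385d058d00060492daf000a17c,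
  nat_lit 0xaffc0012a9d5574aaf12502d78000aa9c5572833d24e1e74000005954c80010ba2a97000029e16b486103ca06c00016002000200013e2caa5d24c000cc10ad73416e4e2124a00097b804cd54f68670002bdbcd1c2cc94920000343e82280c60fa0001800241642cf8ff5a48c0008b3c24b44974e04000018198f56c6ad700a66b5b00012488c0c800100b079952f600095a0812f49080010008b5a4c0d08a000010c400080034442001c120024152f23373f0eacf40012220000c9200002000d15ea8ee05ae4520000000c0d8000458d2b2f1dee1c043811f8548f862b0000355000c000c15a001800103c8001800214fa6e10002220442e00013708b38be1823c000091e047421fc3a187442930280861780014dbe91d456443905010c2e000090c,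
  nat_lit 0x35c86b8c67b00021cbe93019ea000472e27d425b292f0fa0000022039b80021986070433f43ec397400105d060f800104906c800000f20000767872d1870cc0996600020e710080f461cd839a525c65940001980547892d07340e6012c800b000092c1e8a3d187d50de31e9e002d256b05118f123400143a604aa001c1cc0c38003024818700050df030e000829e061c000c0a20c380010584f7d0001110103f000025b56900004c17120d207c92a0a28000000200042c3182c2970000401c16a09f40014126ab08002058956000030df0003000429e09fe00042c20ce000002605b785280000929,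
  nat_lit 0x112600040920bf600048930b4949a0000056078d0d7a15a02b300bc16e43d280018001526693d409c4b3d823800000a60150644a4f05b580030be8b6b000416256fc000437cadf80000840002891861e22d9d276017c00081781a906dd2f7ac13d16631a519b6001000024e932280751638888c5968cda000693919b4000802f805d49c005f00ba000402f1d300b100004386867126e05ad59b07e20008bad8669a4d80000e620000057000032800b630ad55a8007001e396c72e8e6049a8ca1185a7d34003285149a0006000a0520000a73c36d1d76186024e926600016bd833066f2f563f562ad400100014990477000a0935398001053c11d000183c8a1c800202795a600022652b48000053e7d09581ab1619ac3f5472d800308e0931,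
  nat_lit 0xbb40003ab421580037000e17d006e001853c00dc002814401b800412e0037000602b006e000853ebb2c000aae114b2ec900007de457ebb21763a1bc00003450a3b223f27244e4401a25047a90770462a8d118d9234306700005280812000003b80040006000a6d58d8195a730680cd927e648916114e038e000440021cdc68780060008000c00013e4a4783ca142a000c00110b0004800154ee7ce0ff6b6a00000300da81b12005a22e4c43049a0794284800024f96d3800207313c500021625b4c00002f80ec80052da414788e400120ad11bc00201e412e4003813c3d200061082c89000a0ac22580010056447c001813446d800211008d8000225b,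
  nat_lit 0xfd5000a174021e00100a2af18001812e162045c00042651bc000081263de000082f815c8f780000995c510c5ac00089fc1bba94205e60000006877000407eb14c827d4b0600140020178ef7800b07327f6001417c19ca00244ca011000401343f380100be9f97001e17456c6003815aad8c00683c8fe7000c12e05d5001626503ea0044058abcc008013576e000f18ce2961442003c2e826f800702484df000d0df08c600180a818c8002c53c319000505844dd800904d8970001004d,
  nat_lit 0x1112030a3d7000014c7838c01a0947065c000c4b80ca00010a7c197000104c277b000004c45be6d1400083254a3000005dc16a41a400082fab4a4000858800200000be301f12b882a02f001c20008000d28a07000000002419c65f45ae0005066819b03321c3928800016921445065a0df1e0a3c1c1960a14003494312e030d060f8a0f003275e573800441260edc00803995cc800f0491fca001c17c09da003453c051800603c80a3800b015812f001425b060c00301cc0d4400582a01a8800a14f034e00120ac069800204ca9c34003826138580060261058000c093,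
  nat_lit 0x280040be285300060a850a200084b810e8000826049b000002601222aecbc24cd700024aa00010f30511000678f877d93a326f443a92a6000942e8f07509895200b8015c0008f0807c19a9000006950b43c0052f2b6c000a16b863887910f2695108a22318277884a5c96b9340020001636095056d4000c00008f705a80b58dba198032e85d600045970dce000115e8aa502a294f463a660c0c885e30004119d29c169c633800156cc0da18b600000a4295943619d00006007c00e11b318ca94d0004468855608831ae000102a800301b20c6c2af030d578c0008b9718354a6001b00300004b96b1e463ca5c792960000b9830982e5235f0aba5cacb4fa39e347e8c8400083d04a504b40000110079c0000001031861b4c36519da524000831602d0059c1e6a520000013901d22270002000013c00cd10331920000140,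
  nat_lit 0x6fd0005000024d821792c2af882aa8341229eb9208a800014b000000004256000400011b681e25bbc07788a7257c7ae31641ec880f189cb138000295e00002cac4cb09994920b2a2bd2870079a9ff10402001d2ba001989a02a52db495c4bd400041cc14b8001024d85080014bd22ae000200004ca8c71184308e000200012b614a80fd000028eb12d0da238780008fe815580fb5ee02ab4559000147b095a03ea00018f6968742d8000077005b1c3c00098f583fd4f100014790046052a000974a88283fe89590008000433da9e00a021895ca2053c22084421d8c48fc2c580024ac0e5a1cae46dd52e800146409550f3e0004b5f188055ba9570000162830648a4917121b0002447c140027f40b61ec92ac486c0000bde5ece361179e898c00380030f4266152aa0008312062556a60275854b0a400087a122a8008000a092,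
  nat_lit 0x1f880002df08fdd917a4192fa096931125ea918ab0900680000586400d800023340c830c646828fa0d960207000200092d005098ea09b204020000002259c00005f9644618040dd8674040c966067600006aa00082a8925a24b662f4e2ab08a4b2ab9d0002154531d17bb4b200000a9e496092d96ef083801e0000023573600201cc813400382a160200060162c02000a2201f80002012622d80038588fde80060288c17000a04f1f8400104ca70000022bfd19a000900061610012000815800100008135013000000022960084b010947208004488ab8eec00054b18004007c0d1d0b41fb44b10000000613c42c0073d4bd00011329ef1000022009e413d80002978273940b000008f,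
  nat_lit 0x30c813980002000004203753e6e01fd2e8c2a18549bca0ad00b4578880004b982cb0ac0801400013960f38840000215982afa0044b90b84272820fc0001df824b04915d6029580ae80034b8800044ea00480069c117c000030b12275000405144e6000409e0004000026c0ab815b000097009fa0011137af7b1fd27b600040933bfc00041cc55e400005f027c851600041250beeb0a0464a6a00f0d27b34b780070018000428a84f81c1800046ec1ec03d7a5b8289b10e0a3814c829b03fc001496d001262e8fe42aad336015300040a82ba000041e4573400009715d7012f07e20000ae625b18681c5938b4531d1c717d6000a96b20fc00081263944000824877900000be109100020f3830b8ef14b504860000023,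
  nat_lit 0x32f600040028412081a1039308c8e4cd819ac03a4072400000034c180020fca1f9010181c84c12aa2000005235268d48bf395af2b5a5eb4000a604ad1800001d2aa021520e981d4000700045ead3000018000840d0814101405a80b64bfa7cd00060932b5c00082e89f280008248443800004d800100008d9401a18be2b4e5694ad5a5f80002b1f11d602551b225f4419801c0000bfbc0d281a34be2fef2d9a7fc000100184bdaaa13fde000468025e80000b6b00b001500305660acb179d2b0eaa3800080054bca1c110a4002c0008203106a20dc1a1870f4bc000a0000c105188174055180b060805b702e1ad1a00120cd001023c958a2b15023800c000e0ebc1ae001958383b89008001060006f44d0c214aee122100029770000078d78daf464bb28c500020a8518600004b87d08001139d5e2e0781461a5d447488ce0002321,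
  nat_lit 0x126720ae006c00e837e0002000d31e0000002800c16800a20464001104487450e8e58e81bf837c0a38003001a2cf859d1c40001000331e8000040064f8c9ea4383212641c6988064004800848bc9241937b26e0bf698e000e917924792951664233131a001809231a614709aa931882080028df61be824683888214001058976980010df2ed3000021064c2000468f2ed24c58000165a190023ac67c258b2703ffe7ff4000a62813c800000f00000002c8b995aada437580006458844d67509bc099c1331312057c0000d54001a80b007400f51c11a3407409883ff00009405003900741b755ca000540480380a6a9873fea000002ca01d404281500000004820326f48aa7fd530c00000ba8418083a5fb064040f800200036222014530a40f00000002622001442280004d25b24f0c7840ed30400001b000e80348001049840f0000162,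
  nat_lit 0x2807000004c44f059e8b3e167a0232000c07e28074cf305128dc3b8c07a800202300ff933a37c140400f90002045c4ee09d94ce00f400000459798af304cd811513b6096012d079563ca000007b2668000965d457c59517d817112e2099906c80d9c57a83f400009985d5a00094f50414082c9971246000812602dc00083c86858000132aea900068d447ef00b6016a9960004c2a45a38b264a900011fce10302080ca4001800148305ee01f40f850c44ac0157fa6547f280020000075014316295d4a994482c91a416f87de05a61014000a64c44a040700003078238c860000008820180020162f69000209b5ed200004ca000800200050aecc0449052f684c92382342a15d80098003396270000020984dfc0000098c83c5a1b27400009bf53229bec000826137c80000263270167a2cfc00200050002b00c69688dc4df0990167c003800400000014571,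
  nat_lit 0x60b9412a984484b22d98009000a1719787a2054eb00030be83c50004162148000042f82710000026d4fa00000b8289444e1a6a82e184a309481444288021e0432089c00226a4121025d044c000d3505b6035985a8000471a0b5600054f7804c2d4000004329ed00007b782d516e4f6e811a45f0000d3f31655396c9a762320c0037e812500049a602cc04bd80080014fc89a50240000003c9f8c0010a78a9580020b11879000217c000600013f08a54001011e0dec46a838a0d942a4a54a13480460000b17b47e65759902a68c0962ffa5ff200002806024001aebd44428958091aff84d1011b0004baf1110165b2cb4bac534200040068101020401fd1de26811b9a10818280000e2a000018800196729082210000012f400207dd0fb95e9089ec00000ff4cfa8090002098,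
  nat_lit 0x5c60038158190c00680ac166800c0268c34001609859a800284b69d84005839819b800a0b12760001217c002400201500cb800382b002a80070be805c000c09200ae001437cac3800227050282705000604f5b1c000c3c70a316c7000205406370002000c51a18dc0000a821622f5d285c264430e00005b169ae5b14000000332ed42444c0000a00049ef93d544024ffd6c4a6b585c1886000e0000b2132f04d613db000e093277e00182e848e80028588a2f00040be031d000629e267200080a2138000089713ed0000056065c0900bd7495992b10b96001c005963727709ab,
  nat_lit 0x62c00044400c60000096c00032b96574387818b26dd784000104daf080000265656acad19598006000613c9783a6d9958800500001bf438a8a784da8bf817fa3de595800044da317c234a000c058a6cd71fae3e235800086d02a2c00081bd1908a8b000002503766cf4d911b3d0376047400132aa65565763a400005954b2aa655608553643cbc00003b995332a565483e8800000021eb67ed8d6226c4000ae9e33e4cc6126da6c0000110b0030f5946508c9431e80214d78d700032093155800601242aa800b85f0c2280160790a9f002a2101544005013635d80098994551001202687a2002617d0c9200482e8273400880b04e78010079094a001e04f,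
  nat_lit 0x547ca90b18463060010b2d94144e1186461fa54ed8c1b182000600153824178001167264109c00c0e0004b2c1feb28389f400000520002000d438000000c2a95003386054df86001d480ff049d093b0004a1bd37c0004f4ba8090384c37937a5648701000005a1e95500e070400004a2095612b425609384de04a10bba555469e02835ea8885c000a6ec00001bf0522e5f0004cb4d9ad2e554d30001040aae0422993864dd031600061745bbe00081e4878c00080ac0cc8000026ae590a08004400800075e723ae07591c2c03309b901c4003c0032f3837e09b8001c001579c22925e649870466003578a80022e080df0018bc5113fa3d97748003049a26e00040a837c2000405889b4003839978780065dc82880ca2001415a194400200b018c80030158319000429f,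
  nat_lit 0x1112c413cab316b40d50000020b360183c90a4dc9800600029ce002400000d495180d30005049a9e5000816220f4000c2f8001c00102b473b8001028801800000ac0008005d910187f6440005d39a351c001024cac880010b101c6000017c63d4001c1358647039807100e2a73000300080014c89c009272d8f3800104c31e5000004c1daa4b981d500050006c795394000907603b971004ee2ec40fc000027249ef0bac04fc000400103a661449c80002000d23531df63c0c78538e0000000b0ae04f4368000011f4526abbf5894839d38c11f044f24670000559000034086838a594e28b3f00009d941a02339066000228e8001167a0a404122a0007a2c1725b40004577a71046608ca073a4b640000aee15de9c3,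
  nat_lit 0x3315662ccc5c57b072c000057e00046e709088af50e5657d00026e70e7e8be24eb000041fe1fa4541a7543fa9ceb00000c846380c6c37281925ab093587588f6c002800593a8047400585f408c000a0732c600012162423e002037c74a800382a0e7800060162c5b000a1613a6800101580420001899401280070541f9e000c0512804001409e00840022c5514e08dd000625b042000102f8a5b400183c87a88002027ac4f00027dd452438b800001316269d29000400014b4a74c001889d185c90d495e0c324e90002113c4d3d804b00e4e88001113a0b5c16c9cd30fd29a60000a798e12226c55f0ae815dc225ce2988980004a6953a07e64828889700029cf,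
  nat_lit 0xbaa400085a319a2ea7000029f0b5c86650d18afc0f3816140022ea64f2a11f05fcb9a831a00024f211bf23844c5000096a8efc80000290aba15702ad00008af80f269e3487ac5b8000226f318219d0000195809608a95a7000114fab4e000025b5a1a00015a60ce5049a09240ea01c803a00034f10fa2276c01c403980024f080012bc0bf9d18d20fc12f800001c15c51e3c92ec00080031dc29e000005d680018a46120c9df25b84b6cdd280030f6164e33dc76a40010d84bac0001478009c31e2000010c28fc72d8a3c30de61a8c348001019a5d5d3bc90dd9beb37e00009dd01963224005000435f867d59bea7703138c8d4a12320400480033d329db00047a658ea163b14e29da2c22001c000a7e7215858f000400006aa532c15c82bb0616095c7480c630e52000d3b229cc3a2074932361cbc00100034ec070c09b6c06487b872900029d7,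
  nat_lit 0xbaa4000826d7548000132b2a7654cca9400087cb5d52baa13d600003e589d7046c8e40f900cc9950800065449ea06447d50b20231223b4476400600134f48e6800080932b0e000c2c4518800106f97f180010b0800b00000ac0e9e1d44aaf955b2d9a5b2c003000a4f4307b000209260f600000580388002b07a19a00e0000829e08fe000c0a20370001026c00480080b100db000e0ad60ea001945f8b4c23d8005027847d000816108fa000c1587cb800100ac45300010269728000004c1ca8395c59c058c2d7600013ce11dcab915702082cba1973800400145ae93cc841c00106f82d2800101606a800000ac,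
  nat_lit 0x221897fc27dc000226405200000e58362859731394fb07290002174530a00002f83f898e931e248f400046c387290e4e9f520e0000003c00040cf173920eccc7512800000ce060c0ce8cea1030c6ec0028c494fa2e5d000204c07ba00044202c880002e5c17a0b2012c4000455383d707b69f322841b085530000183a9f212c025a00028002283260944ff09fd26a09f111a800140586c2800203c89e300040beb1b200060e61c9600082c429c000086f98d80000119c334000088a029d13c14f8101f4980c28400083d8199ac550664068c00127bd9910357413e000484e827800016cd4f70ec205ae0b4816989860002b9cc0cf01a04f696ed00000585631a35112e85a0654cca9d9540005131a26384c227b195332a700082048dbf939f419288f,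
  nat_lit 0x486000002f000260502328678068366b2a0500020efd7df83c0079612100004cc0e1e9d1038283bd5f7a0f0832c8ace159845a8000a8100020fcc000017ec5e0280d45e8000015916c0002a2f45a2a2f4000099489e80015e48003145ea8bc5010002000006922864518f6908c560d20198033800050080020126025c04c912b15580199400000493c127611d623a00be0000d54008804831246246094c22400035e3a9ff000402f0a20848705f09fe0506111800080bb60729fd5e380010222044555a6ab513f8bc6578d000308863f151be001015aa2ac0018a78fa4800207928dd000204f06a00000420bc5178980b5670a0020002886b3e8c9fb581e00081262d5c000858960600000df040d000826b04d58bf217e82d553f4000c002072f132019b53f20008431924f10cc9f8,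
  nat_lit 0x3cd800008417e880010b9c03f007d8f3550985c500000385fa05dbcbf397e41e503c9c000a84968100b0000008352f1820a50885ca103e83f003500090168a10001002d4ec4982d4244540000e002004200c800300b5077111d553c446c00030b1507a3ce000003a54b40004126a9600000248a79051b5e5abcb110b807b0004a95d41c000403ea2152cba4ab895895af50680004220843c0302830000240f62744004054a82c0cf871d0e40174c00286c90d94a0a59780004130b2e800001302e800020d822a4565bacb85972a090a2c00081e4144c00089715ce800012d80070006096012d022406ba1448289a82002902570004001c48a281c00080090248000000640881072a6a22282ae540c000800f805400a477e15a445c400400010b68007000003bc0642dc82f0890a00026bc,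
  nat_lit 0x48046a00be00046b800005bb060d2e7a144427a5144e5289791d140000002288000188ba46041b0428481661f06a1f0068252401e000260a85e480a9a8781fe003e00020aac153a87401d8000088000039bc4db001e2870e6e9da837ac33a0001805900aea1b1b4ece8c6d5121d243c0020001800131e8a1a0016002488000070004a195814d040c7a800300024f800ae00000143120623921824340011430a778000824d4ed800107318f20000a76c5ec853c00029d950ba000181a000800009da2426485542c2b5000285f487a00040ba0ad3000609215a6000837c134000082a0dbe80000792fd8000493dca66af3c5dfabbf02e49b7a36f8a15142e00041dc001079b14c2632648a00062bb441a0340001332501883c4372c8c557b680045faa5dd0bb988ed50a28b8000225c,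
  nat_lit 0x4c32000007006f4174293006c00d78001340a51422814b6eb7616d0035a06ba000544e0000586a4922300f2b00045c9889c8060531673700003ca00008f2d1e503c9c0fc3c9c000172817686f7544cd040b901ac543ac000008e919016222c4144ac7f524b000559743e759700004126b2d800002480d533bf19e2000965b2890bfe05ff00020000268482c1a1800005a2cb459c2002c1929060a448006049927f000a0e62e1000102c45c2000186f80e880050be81d100081740398000c2f8cb040012c7016901cc000205158da00004b8caf418e0000135c072d44600004d598f412e826004c20e68000a8610bc8000062a69706300c6800100290164110419b28881630001004e5090dca889d51087ba0000041,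
  nat_lit 0x5760000102f8ac15d8112806780ca856e800040bca3540ba000819c832839180ca0194a8d00008338067444995d728cc943b3f10b2a16382c7acc70004152038028c81a580010a8ac3481a3834a61680d7146200000d301b02a187700002039c19f0342068ca300a8c512000027b94d616fc000200103b6a8bd85000005b5cb6bd26e00083b5863f643c18dc31810ec30eca2e00021da831f063f226052903f128b40000c6f0c8076828c62104dcd11bd4522020800200025160e2a4cd09931a2c81ec03dccbf0000a8ac12d0000012a249000604d616c0008440c2d8000896d14e800114f82380000c2cc506383c000229b48f00020002000125fb39e4b8848f635c8a1c35f0000115078d1c02380cbce979b6418000422e000051506bb286205bc0b881c80000116d452a8d800109947a3800104c0142000025b03800009a069226492a3d1412e00040e5224f448883f,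
  nat_lit 0x45312a50d3915a22fd000826642bc8577082610580c9819151e800367b009082840a26465ca3c0d5cbf3d7e72fcd0004265d476bf2c000968c2f54cf5091c000031c00046410cd700062478057afc85f92a3a19a6000407000595e4000b016c02e1472a5b0000897048c8002049b4100002a5ac0a0ab2c003024c6670005122c2ed55160010124342c00185f03a380021082ab1000209b414e00000560000001000338708299470244448a86d0066a49f0755800151baead1d6e3ae419b00005776002546caee400202615db80030262a4a000e0e601580018150447000280b00030004576827e000c0010150001c00181441b18002132a074000229f,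
  nat_lit 0x2c000000786b38000015402b8e2e4c915a79de768e8d1d4000b1120cc0000488a19010a8214cb40247a39740004b583a345388a745502000464e3d4410f2a80000061617fc2ffcad1a3cf232e093000200030002a4768e0000153f03fd53e8a6c0a4c1494c97a247049c0008000a9194a580081534000465b2914bbe0f4a153400000940020000041e051cbd8d48810e01ff8898000022a000c59acb2c31542d045101486c9d12a684b7000a36400001458092145828e87b900003480000094c044933483310642122199c2d005a1085800014847f780008004642a50354827f9c0002ffd023000118b4316c82790991bd219843310124520024a05a0000062ca0fc62c0c5c18fe0008000a8fc004000001102d205a806680cc000651f0c7e19c63bcc00289e96fa8000028afd40002b7d45522b4c00083c97e880005be82a9,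
  nat_lit 0x23e00000062ebc5d700db0008002c00f001d5f8cbf1d49e22640fcb4df4628ba8440900da0006001149c000800301df1c24bbb519c074c046190c68ded1c1a3881c900023f601ae000000201dc213800262743f8872a8ba901aca4d00028b6d72802e911240424906000115e8330254067b000251d03aa0000006001000890ab225444e4deb06795260003002042c8bd8a92c001000e47322444b5a0000008001156cc1fc0aba00048a523a95fda7170000c5a8092c5a98bcb4fc4bd0cdd125a24b2215a002d494ba9c004024d184000707322f6000c17c45da00140588c0c00201447a4800312e2e9e000416143b400041588c0000009957d600014bea9969a64a2fe524884c000000300004978ef58dc728764275490497800000191c5244a6242bf591cd8f0a00003a4,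
  nat_lit 0xc8f800000f615f842909aa108da0e893e00001b0d4b01b080798606639e085010b80010004a57000224e4594947b2362a560000c070a23144e32606c30d8413b8000ae22265b3b017600000730b880a8815115cb800042762954000136603606c80d920014001826148ec8bad72d2950002000204a80dfd4e320542ef6a5369b64b8400082601ec000033ea67cc16809783e0b3c0043800094a411242df800146988f60b780000014be9800400074d3034f82e285bd506800405c891b80758011292a367000e17d25a400182e82aa8002858867f80040be0a9600060ad467c00080a22a9c000826d19e8000132b3ce679e00041fd0aa552883fa000006c000226704cd330c3832d22da4603f85280123000002516f800000908c080008fe81cae09f,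
  nat_lit 0x47d00058994697000a026b259001247d0560283800a824d8b800140b10dc3002617c1f6e004815a925c00880b03e980100288fa8001e04f00ae00382c261d000682b1928000c1f4c2b00f8200482fa1f0400883983e0801004907c1001e1be0f82003815a1f040068a783e0800c02887c1001625c0f8200282c201e400482b03e0800801587c1000e29f648800183e08afc50900060498104000a17463d200102f803dc001814407b800212e06c5000229f,
  nat_lit 0x2865265095f13e8000140e25ec000000300042cb8598095e13e6a5e0004d128231345c12faa5d0d080a1400380012edb09e0004000c0002775a24000001c00010000470c95712ad139a1d654b84708b7e10b51aba2e78001000052d8ecc04fa09fd896800201400015ae61bc94b40a0000000956b8a29d000e0008755a36d1bea63618952964905800300023ab870a207800a05d075580130b12d6200241be3316004415a662c00800b0c69800f12e22ad001c161455600341588aa4006013451f0015049889d002817416fa004c124196000905f05770011054192a002002c1d1c003c1e412e4007097032c800d0b08ba5001809b,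
  nat_lit 0x2a040742a04000af865f0ebe214c800001af04417c1817b00002a3853f92bc546256a234e001580b891b18a8327995ba98c42c1fb73f86469800229899e41d123dde4694001963d77480010560cef00002650e86000067712892058ada000432b22de00101502a5400181448cd8002108116d000209b51e00000056bfec002916a1652ffb00080f2150600202fa48fc0038588f1e80060be0a82000a0ad150400117fb0c115e60003056012f000402b03c8000409a29fc00001317f915d76992259174a000314f678d94c2ba4800082a1748000012e268e68ca2f65aa200005d20a605d2027d4000897d60c29b5536b35456a88a5f,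
  nat_lit 0xf360000220143483b907c000020867a400001802f287d88f9b0004cf494de000035306a506503074cd89a013432662679e000c19929b99e780023e865e7100e29e4000a66f07f80000674c6f00040cb81960259000e00240010ced2814a6d19ce16dc13e027a0002a6c53b4000018014e589a824a000600194d6641800124c31138a6a0000cf900620e6c003800300020aa54d200018ad0028125908038be09d400529a0004800c22080d70014001c1cc0f0000302a02db800507902a5000825c0544000c4203adc001099487d800114f9aa7000004c04d20000001299c00105bb0b788824e8bb27264e616a0135299807db1430002b121624ac4a42800001d5e3ac41d600017c5a3d01110a65,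
  nat_lit 0x4e6800082609178000026338f0004977c52e993000088807a2000002600fc01f00000d520f534c94a7566ac9ab858c80010f58b19000006935420034000071e53a02d605aa0c741922e42183400314e618bc9321a983532002d76300094a380820012093231200202e80fb000385888c800060df0dac000a0a837c600101e4366c001813c8c500021081ac5000202b220a000009abaec000006800d6365d4e4bae40000260d4900015d6e2965d660004098cbc4000aeb4197b2f10000bac81344eb826631cb0004babd7582eb15388a300998c72800095dc26000000422eab5d5400000011f3e3e8012f926a000428785160a303251362a63e010ea70,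
  nat_lit 0x1322280200052024fa4a008000065333f2c602a20cbd8a86150a0714000a9e00000e2b1c5a202001c68ac00000e154080022674d27429b9ac73452a770002382c706354c6a9ad538e8e49049fc2a9200004c8095e4c7d991001d022ac39d87301cd53b0385000e17d070a00181240e1400281441c300040158f48000604d47600008098277400585d07cc000a0df33a200120e006d83e6000409707cc00070b08f92000c0ac246e00140561700002013460a00031100f96000404c15a00020126cc1c00385899cb800624602d2246400144b83d6800208412f2000305625e2000404d,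
  nat_lit 0x69b80000044a7cc0010a794f980010278002000025b69ae3020aad95d96724000550400014f8105f5e7819d53de6170c2d97210a2000059c82a041ed86dc132ec874000260a54035ad4f9c9e719a680084cd820f0a80001c287275829f80060904046000ac864002adc400082615b6800102601b70002adb865e22400002b6c15f95ad2b528b740010001192012d55b72b6d56d8a7f0a0a2854000a7886688a5616e6130992532490000a7e02da0ca0193000400122a44509a9f551303240006002054499b8358aa7c071875ccf2894ba063c00094f6d4d40008006151a34ad4f4d4cc000014800086ae2e4e5d184b809723074a88819029e400006ad455c1ae83c1133c542800200f2efd02a800001a0cd159a3000207540ec4e7ccd180009a840c9e92400006a080d26a0cd1800026686727,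
  nat_lit 0x10e78000026173949789f24b97974339c0000400500050004a910008002071a955e162825c552015ac11a8bc1464a000c004076000100051698137c26f21cb547adf2000238cc8a28e10547023a02288c88000141c0008df00b2016382c399694642a8d3768541ca82058f1bde221c003aa3044180030288b42000404f00022208000899d5ec000012d8e2a2aa80d201a60002167ea8b1b8c37019e6800154533cd0000110068e6c9c8560d9900122d05512000400421f067d823184622a2000100071cee192c154aa1c0030e771750217150c26b000182a07128002027a14a00040ad02a200041e44810000014e15192043b343d4c000014f5428f5212d625a91a208d2000011b023535605422436000616127600008158404c00081347b6000011034de69ba0008c319861006600d4b5190271ed6a83,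
  nat_lit 0x8aed15d45a499d0aa8000025a3080e06bd53e2bac5739a8035526348c6a8001192ea9e14ac000064b020f041cbb3151e00002ce0018ea796970000325153a324800013000cb1311262056ac006001d1796389d35e340f54e331c2eb225a027d04fb682a002d5366abcd56000a00120d5995a9c4454d2ba800080980026000c4b6c2b800182b4b9e80020790aa1000204f613800000078a2800600032a7e30702488d476154a9933640d7047288e60004b8195304e008e791cc23b6000552e1e51a6708e4000009d5c06001c0e404ff48cc046c19a88e111c6a9618aa003d701000609b8b9551bb2f0d1a10a9546640015232812069e4d3cc0922a50006ae00000807085b6a7323c7ca93000613705040a6c14da75e152400092310876002e86e0d8c00040e0041e5fc4004000006fc1ec842050e15992e7c000419400016fd016c0028002015ab920002098,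
  nat_lit 0x488031c076c80010010aa70148000004400099ee33dd67f0cfe954caa1c009024c70d00110ba0e2700201621c40003c2f87218007014470a000d0b0aa72001809b2960002c4ca2e3800585f5718000a0b1236000121be3d1600201508d7c0038a78f4700060289e8e000a25c0e8c00104207a34001826c6c480021329d43000229f66c400005c40ac19b1336366c804204cd00003a828c43a80b8913d235d23f6875f13cc0001552b5494f1e9e5c0000d8d73aae740e701ccca1c30a81e6a3ce40002a90a06140f00cc019400125cb1e72aa300020d9c14d045d06d0120154401a400025c944daaa1267a00000820184000000247f292d,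
  nat_lit 0x30880020ca62b88933815302a8ab95fea184030880020002ab805a8182068a000005f860d1548981cb0e800155ba4740000016000400188ba249e21283ed47dd0d2314d8ab601b00580000800522e85339ac2934f55a8002000000108b9b44855a000322e2180830234484018001000445c5a2305fe5598000000245bc3000d0c1e380006aac26043001f706910a6900043984bfa2a681c883d90000ab20002afc029b8785676eab1000001f011b2e0d09a87965de0bac8000b5060bfaab0502407ec00005f71912aaf6a060bf4001a03666f00fdc1fa2ab9a7282f3000480c917f2ab41808001169036fd5580bec17d00001eeca744064cdd13248004000000081782aac00082ee27000bb80009a6c00002fd479252e05d40000074000011b023559121245554061054180010004d8f82fe23589af0a830000507000042b966a108d21182a05552002000000e0371067c2822d7bca0e33fd0004aa8,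
  nat_lit 0x47b800102a0c0600010162186000009b00a88da062b8c59112e001432c11eb561306900020a84984000453c31a4000306614580010ca616544200af94aa2a0312602b0432c0002049864f00021740a720000150223c628b632000407a829c2b0033d800103d60d025f40000001a7b800089c5686e5024a53942d6c5e49b000600004e1829741589c3686a1bdc98235b26b665b18001800255f86e568e83acc60014440004000557c1b3400000280f289bf2c0211900008b586dc800001d2165000017d08c2000154a8b0cafe8001552a287552a00001501f98000119330e66ef0c2b8e4c5528abd1c7c7158000861a2580cb643f22af0cc280000f4e1ea557618600000704132e43ad2f8813e02804a7d574b21000109700e90001108015500000ac,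
  nat_lit 0x153c5f10be2800112804ef4a900000074438087109d413a69878002354a1a422a315a0cbc0ecf80000006d52469004050002acf0004d521aa4b5c4096c7cf5ffa986c0008b4254e80004f7e1901ab4354c00200090c3023dd59c6f74476304b0524000d59a572c14802910004acc1a9e00040440000000808812d825a938e0692565800016c63e546cd0d96455008612d425944b08da71b50000559431140001ecb3c3e78788c9ab2400103ea014024807442b20001800107c80d700000f901dc0f9c1f4b65c50a6a135b26995a0006000558e5151b1c8c03180a00099e1ab18f629a5305fa0bf80008be800193d327b20a554d40008a161cec04605db00024f5000628304bd0ed400040484089ab140008057677ecef813a29649e88000075805500b201700023048002c00549e62b111f3005d00061a61b2b08be2cc0004000492e5b42039f4640059000211882360214561aac50006162,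
  nat_lit 0x2ebf10c028bc0000002007822ed5ba00040200a30293004700000de40b6311c6248c5700025aa00040808f1aa7c64f8e9f0426eab702508007000208047000e012f18adb000400001801b884eb09d8508c1a8834f000556d23160010001c001028b27064dfc06e3a7074f137d0ea00008708bb283af00010f92151071c0a2c000044000136500bb20dac38792bc00097040d3215c0000958c1c084a08d8838f028205301db86f4000200015b21f0c3e107c93a88cf49362800056c15fb5878b0bc0039d3b3a7c9b115aeb07400202a0f6300030278d080006093624a00081ccc49400085f064400001a082890b3c227000080003bc034115ac772137db5d513e427b91f7aee20000ad5584a00100a7889a56a03ad028004d021b8b4c000458712983ea84a2000014fe5c8c6e084a5afe0a7f356498bc0be8181152200115a60eb41d5800608142a400018b4a569315c00040c645c11a6d3d6ead1,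
  nat_lit 0xa28030d0f6a00015d63e898a9a57612680cb59d40331000818d95d402b1a0b00a6013a000cdf51be95748000000418d1b158b36249e01755d00004df41be71976ca6994cb298573a4db000003803ce94cc002b2ec54e8000000a15c000436300000004492922624520000dc80000000a52f0da848a15cc0004001853509a613555ca000001f0640000800419ac595c63e307615e8ae4610a0b30000053407b05360002211442012174eb01b3801dab8c26c000003608451088000029a005029899a2000403802a6b1c6571000101c2a25025d82a8000364600080df01b80e190e680005ec2ae15ec040316a30f705abc27a0dc5000c4398ae007083150629a1d644102194004800b56f84db09b803c807e344b020c00295bc69e4003024c42f80050731df900081be2e80000c15838c40010994a62800102688bc000004c,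
  nat_lit 0x4e940d84e75b21808d0000427012439300010cad10080020ba007a000217c56800000420392885334fe000001e15e803400000018003000212e2c8d000209859160000098033003a17411a6034bc228b6c324b80019645abcd644000104c2c86000004c217652f12c1015421564960001ac88590eb2195e452942ee92560004b21c0384844929800103d34e900000ee5908b20c000081e2496493492aabc440e81ca03882ffc3f9063915a400095e0194c3de80010758aea000000158fcb1f400200030de008dd5ded3e000106ef046aaee0002d2c43b281a0000007206606ef000404d019c000444003380000131a7900010e161bb15da0000384875f0e1358007f20fe05a100013374aec,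
  nat_lit 0x311000025b3dc8000800003110620afd1b2e10fc000abf15ab00010540001000004d135a001400021d55a90002132a21b0002220009a000009800040018e0b081a102939f8eb80096beb40262becb07262c00041aa435306d232e2afa00025db021c8c08c1400000118e07639c60e0c1b8027003c007c00600ce57c800b019cc8c590107e306acaf82756001c12655cc00305d0e610005049104e000817c1880000c53c4e780010840001800104d91ae000004d687ed10006380020002af700021ea43d617e0000338f23560ca0188d0f806d000f002200495ec077c0f20a7601b800392c2c80487b811e00006ce0000073c02c07407c98f97285c4ebc000ab4f57a897f2b60dc4910800011ebeaa2,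
  nat_lit 0xb0053f8a8008a03488c66176800018098ece32808c1034cc1b80d88001582aec500040a84844000453cbb0800001440d6b06b000422b045708b05d82b0406d02bc82a30e2900026f4313838a40003069010b069000204c60d40004130229c000306815f88a318e03820aafa7130006c1a58342c0c001271206560bd82270aee6142b0200020db5acea0af268000006d406c06d0151972e8d670002c19d833269d832b066000017187e24a90951a91d671e46e00010d65580894055dc3abc8e3800141600002f840dd0772358802b80590b16000075691c506893d02794616c9c0800500049d75fb200051e707810f00b83951e0000297060d1e60a350970133831513e71e5000116002eec0018002627e5f08608863757f934d26943c940011f501ad835600026e811285c7000007080001ee7000ad77481b8b6357f2fd00002098,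
  nat_lit 0xc5c000809e6db400082b01728000015ae4e18f40004d71800726d80f241e5ac381728000134626908086b843e380021b8a321d7278c77586896037a41f203e3800158600001d1e00a1d1a013c02280030f884230d7c000800182784138001001800102ce3bfcb699c0b585800004c8d8edb1d067c131800500449cc93a034454e4265d446246ec8dca7fc04ca00100108d160cceb0a6c76d8e9b1c8003004005e40f20205a4100046c6e0008a0a198c1330001075826600000256104005845f80040002d8d16123e242ca057a00066766c62d8c0361000200a06c30d82000402600002cf0005a3d05a95f5a00040082c217d580001aa8001067000000d40cc358390fd0374c1d583b0000066eb0614aa8fa40008fd42d1800001d000806ec14e8563a0e4003b69c04740ff,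
  nat_lit 0x11e20000088333a6676ccf06b5000558c2c13000229f058c00004b68ed4000ac12028035900000f2478e00006b2835306b0b17477a0008c48188e2408819103a1450000ac5800031ee0248002682a0d80a3d23ba58ab2ee31180005a0a035f58a000031e2357460463c400b80013114b1363e000081cc621c00085898f780000be00050002417482da62d6454398c02d9885589000467320ff909820f16b88b11000632257308c9e1d3ec7242ca00000d303318520002000032b6536ca70001000158802f200000842076a12485080011db0979000005205de0028d76000f1ad035f192f886d587842a000e17d05d800182e8b26000286f86e5000405403cf00060f2,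
  nat_lit 0x24893ea0ff0d601ac080016c08b2b00065214000153a2a7ab2a2a749e753de800100045211652668ccd29e554fc60000000a09000026fd2e5c5c9433a9bf13a3b09e1d300010000251c594043c0206042c279800059380011bc61fd8067836225c63f440d101a859300001bc406700c58a6f14dad994f82a872592818b00003550008000cccbabe445463480749ac906f00002332aa121abc0841108ab236aaa0004074001486f873c0e7e1ce839f873c21c216a96446640000824d6b000000df35506a9e47198bd90dc0004b5796afac8465c80010c5e5b84b70020a5902d5c000084441fe90a8f9f85965be45260a4f80040000b1f196c86ec6588cb0420c842c7f8000358f27312118103420600023631d842a4600048da0750a8b000004f086b10ce000420304092008eee10dc0000589ac74200a29a00020008c1098333cd8219c432ac70a45ae0c0016000807205c758d800116fa87950cba19858d000016fa0065e182d7c299820a0000b19000e0004d8c9b1b36221f3,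
  nat_lit 0x1120225800062ecb36000011341da0024477131b5264df8548c25e159a8ef110c20021400acd0067800607300cd000a051016800102c203380018994066000214f80c00002098018200004b6216000000c72a608e42bd0552ca3d80fb0e680008221844259984d609a8065800088ed000e064d664000000208de04307b50006237946b365d22d201ac71501945988002182a259167d886f2632db8d66017d8474800111b695c0000c0e85d827b846d28d2219a1a482e805cf1c4a0004473acbc0c8800000b08e61fd6d4c4001b7ae0318b2e000426fc03e1f55114000120e2cb7596e067c0000266000906f3072008cc2086b801002f6c0012cb402b007f17b4000460c8bf98890000005352a000009905ed2cb18e011cc00021a2460b89509003562219000001060000249098d13183b2,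
  nat_lit 0xd3338ba214c42880040d280033d62d255a4a349332c2feb00020e65fd600002f800080002fea5a2001000004b407830c556f5821384262d0c12e02610000003c84400392cf0715683c77e001a1af867e03fc006363b034800100be01881e183c5062c0c0817ead080b88872057e0ae8000049400428a300022a588aa00100031115056a0adc18903115a08003214c00a000075c0fe322021a0492c3ade0000001107606200adc15a8a920516b40000282f909d20552d800e7000091805b90b7759fae490000110213e0150000296327744eec885acf8c2e1d842dec5a74c44000200c0014d67a80b97e620b937f40004001acf044fb481310c000197d2cec000188412b167700020a8586200000a2016400014292836a2fda69167559d33fc67da1be023d06dd0002c3f1672a11000030fb03fa4e806a0089069f845400040001421ace081a921a50fad9f9431062f0002b37,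
  nat_lit 0x1624092161800205c6000600056a472d54a39d810004b3f362c6cc0ebc800123100013afea514ebe28961af6098d6a2c57c0000218ebe9d6d3ae0000028685da0bc817118afad4002c005624ae00004d21ba15a789a400020985f4c00004b6495168e8a1b0d3c00080cc019a2f7026844d12d38b6a99430f4a000424527f55a6800061b20030d3628609c9829167a6000000381935a60006033c5f71294376552fe2c4458a08c57b0000004c0f9d0000bd7865e12b8000af5c197af5a000004c2f0a2124252b552033400057ac2f595a58000033606c03327cc89fe80000130000666863d2142d7e0000832d3ec43cc569413c00f38103000015b237407c80f78fde000800140812d2400219211b949f940d0019c0340b480006647d9520e441b8c98714700008c8fa67f2e08001323a1acc1b42d1c00001de029c054168cd2540008005001060b458801330264b45,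
  nat_lit 0x800b859e2bb01c4001380281eb03d6d6c64b2496129dc001add6c000ad8997f81a20010000021c005000a8021003c736cb2a800703780031fb0000d6c23f5800103c97048001056202100002656eaa00080d08e76071c3f4d6c0cd8139128d6000219366f0000010cdd48001097e12fecd9542128d45af8001149a292c7350b0f52eb74f6ea000000010458000b74e6e9edd40654b7505af197500000ee6e96dd29ba4837300020009b25828201aeb5d693a0010000b64a51d2a39cfb72d7000027406e8e0dcd99e9971b2428e73c3c78d4d8d9d5e529e00182ea2d6db9b2977529aa538002800706dedd144d4ad683b2105e000817480081d8e3afc75fd6b265a0de49e137034a5ec00185d15ac067413488d214bd00025ab80000b1e225d4b400054a8b6e2367274d84cc89940b0ab560000a500012187c0b4016a18160004002858c5aa83676e7adcf8cf399e60008162d6a8000c2c58997132016056a600082c51d33076a0ed811400042c597ab060646e,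
  nat_lit 0x19a0000103261cd851a2d9d99f80003eeedf956cc87c4002058911600030be0e96000402c2eda00041e49454000013d99cb33a4df8006994e26c2256094516cacc50001839998a00020be0122001a093024000301cc3cac005b31117c8f27001417c17da00241501f1000400b05170007079054a000c04f17e400144202fd8002026cc4180030159883000404d1544000413022a0000096d983000102282a7660e000412602d0000330514c80b465c6a8099448006660ab6465100015982b32f59f85ab11640010a3a00640018219942000100986e8,
  nat_lit 0x2e0a0000136baac0009433142aeab000004f15c42b8000000015d54b6d15b8056800024040010494092619c501eadb0000812002300d5919a0001bda94e003cc8a5091e000c47928aa0dc6b4a0edc04c8001018906720ced4a4227044b8a36000219116760f2593b0000030e1390c84e0a84a407d500029a5146800141e4356800209703e680030b08685000404d6e620004130dcbc0000131c15800100005b505172dac3b380010ba02f1000021000005b343b2ada88540005049852f00080920bc4000c058177c00101443e1800105609c1000029f7082e100ebc06592ff27da00018002147027016d2061c0ec9984146e00059a100075b4307c000000a,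
  nat_lit 0x342c00020986854000032d8bbc25c84b7004a005000080026854b730000d0b000182c2310342a0002098685000000980854a5ab64f23ca2ffc5ff00026854d0a5a142dc9a14800116d8578dc06adc4707844a00002da921297545b1829224d81ed85ba0004684cd09d6e0000c00410db2a9a75b8e9c2dbc0013424684ad0982270e671fb08e902ec00040d0000000483b9a10341f00021798212042616deaf100002970cd6b33007ce641d5122979b7e095301c80011a0f341d2fc816d000c17d19b600142c4baec00202a10270003016000c00040f221900004158003400000ada0bb418087e7eec6b737c215da00256dc45ec0040cd439368e4000603684acd79c000005804d2eaf00000a8c86657200018588a1b0002056ac2f0002210,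
  nat_lit 0x2f1c00000012f724ddc5f704c20986b7e0002dc8019a83312f000000d32006316600087b91dbf352e6a4c39881ca5beb68e05ea1a5800080000ee82a021a6d7f434a80000168e3e000004900021fdc00200003e0ab7c435e86b4e0907f50006b7b0fea0008000225a2956b7a534272a43fc00015bc86a3000005e00062c44589160f2c2645203f8ade0a8d0fe10978cc640010b100046b7700026e785ac863c42d80006f96df291070ce0586b1061f381a74001800422feb763fe8a90dc2db85a0004000c8bf2dd494da80a69ce1a78000a320667016a02d6e16000017d4000000117c807240e5020802e48145c2badd00000be665aa38e17262a3800300020b68342840c00005ae05a9019a3bb16b0002012616b800385885b600060be07ef000a0a80fde001053c197400183c832c0002132865d0002220,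
  nat_lit 0x37444e28800100400003a680005c4800002021fc01d6000c83b9f090cfc29bc53428fc0f4e1ea97100004534187f19145cd886800003688024532867a3c924728a930008445a7391e8e23e847e00070fd09eb3ef05b600030984551000508808f527187624de685080000000570e0001c06b80e701e3700be035805c311ae000000668e0d1c475100043f4e6c08d748ea400185b90b76220c8f4cd2800082a19a4000012e08f20000cd1d70a23c0d8c8c4b64181dc0000ae10993aa5f54e80000280000c0028c8f6f5e4ef8ca528f75c1942a022a044800232ab1996b8214cc0b8c1710604000627c00000009954075717f8001240e3a6474b9588000120a390a6c6517648181210e070002b8161ea271460697fd6b9600057000ab000000e800080026f8ca831bed25b3481e3ff88b8adfc00004c60988d7f8efc000493b0e0252d00001e6e001,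
  nat_lit 0x116185390a7026c466f80050000aa553172e6c20611a9189474f06ec10710008b9a36a0322064590700006093433cddec6c58cc319b8000973210a466d8001000000f934a00f0bfa0124024400017300924129167c2cfc59ac000807220d641b172e7b4c00006bc0d7c1b1835f821d3352b9600e02160001acc459b47b85c4eae546110126024a215c0012e506968210000201d11960870000044000113ab2a0e424953721ff5c98001276606c00042fb9be80bbe0006b92520800056632cbd0ef36d15204000081e2fad51d8002002e24357222ee95130001002c07b57200ab800001245ba000010122c48b4ed4404018853090e27541e380025c7a7e96a8c27501e300015c700006f28256343640901c080010006a3847fa0ff1078ab8d1dd03b9c1bb800000040985718000546f299d38a60dd8f4c00010b080040000a4a1c883b900021fdcbfc29cf4656a3757160000001074f0004000021000043a707ae0f5822cc5cb37821490b8a,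
  nat_lit 0x59180060490b23000a17c02b600101e4b89000182b09ad00020159e38000204d3c9c000009882ad183082600042c01c7a9e365d336640002996c93415e4412800015645046228000c12698f4001039861d80010be0ae600000ad1044209041a083101de03c0000a63a5d283f400000eeda73062d5d200ae67e29ecc0000003332000207e6d03d55bb3d05d1800107e2610058a2e899b5000006003f007da0008d871c72032005e4a9a5179b453696000200e0000a2e002c6c2c0ca05410a848b3030a80015d0800007ccd8981ed94f220d84d90390de889790004000c184d7400014236313113f227ccb7c91425cfb8654058aa6d31980044590014d73c000d163853d0a7644ec4deae75a970d54000406117e9905800084680f644bbd73800011621c541bc4620,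
  nat_lit 0x44c7ca62d5194634400200005d8017e0c6431394918008000a000d75e00081d7831d34b2168c2d52eb829a000124d223184642eb429980006ee40e857588a7915021006f12834000180015d5af962380116930c800a5d5222a001017d3190001c1cc88a4003024911480050df31ee000802c31e0000c1e463b8001097028a00010b0908100000ac6c88d90c1ce800031d6ba907381d900000340c7200040ba18c0000609231d800082f8353800082b47738000108325300003b985d45b24000b2531663253000025b2d8e3b89508000016a8c9497508c4118900000cc2781974e000105b095800107a2450e8a1857284849ae80080498b1d000e0e6,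
  nat_lit 0x3a000a0011c81390372501aec35ea1075df0af215de64c0687206740e0000dc802ef4a3f13032718578d03800025de0b8c0004000478c00325dd800071fc07f14b4e3f1c7db6813818702c05400ab0002bba0068028c05500002aca06b55c0e311587b8b2170600017727ee400005f4005000337d0093812780ab244c029cfdc1fb95dc0002000058044dd8bfcaff830f014e0004cfa029c000196f09c493737c80004770941125be12b02552edc3fc27e701fc04204d780005db337b00040a81264000409ebbc000082a0b3780001db62d016d824b99cd8fbe1f7a268c000aeee5da8b7620dc268400014e015b0936285ea5fc16d800140b259d8b392ed09e113c3000032140ae59d13a40007000c00043a12e8458300000360741024204743c919776ae214dc00280045d98537000402b60180004130c0280000131ac986320304056000087b76010c02576404f412787b60000bb102ac00003bb36530f081f3,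
  nat_lit 0xd081ab15200f540001e709528001013a0f1d792000044891bf33e4329113e22885ca00086890637133000000460000c561d34314626503a20f540000e1c1c36bc839ac00082e8c6d800085f0000800014f03d136eae20d574111c25d846301ad800239a6bc702da4ca01b0035f06b40004e692f180001d4c19722e407d0000c0010248001800105431cb000004f01660e7c0002f14b511697058e0001788c71c00080b136300010be82c00000c7105100afc1619692003e00788479093616c00193622f0c8788004049af3e000609222e600082f8459000082a08b800000b0800063d6a3c5454916f5e100020006df4d596395e465685958f52f05be7210a000402b00580846108abc0044000051829cb66c96406d77e0001525908961583c0,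
  nat_lit 0x31e06029d4f251e0000ecce22825800005c6c57a17a6b8d4af395ea31bc117422c8002096abd2000212d0257b3584f2abd125ca00006aa000130a9c9a2b6cdd40bea0000001b46209624b3000400040e438a755cae5f0757af41950800200000724596a7240e4389971342ef81f980015e781e600000520b6800008d5897f051c007579c95ec002024c8c880030ba2fab0004162143c00042f80f7800000b0247015a02a80000000918d5e6af5e000817d2934000c124bd7400105f001180010160b4600001610006e295c5338a71c0037f81230247004e0085798db501ef800271464a4495eca41948800102aa11600004a38306e285c510149000238441f0328f35fa10f00003c154b9308346608ab11502e685ce00005e599f833ec000c9aa860c0c1c47985cdaf2800100036590196,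
  nat_lit 0x2c002097000580030b0800600040ac00160004056002c0000a7d8b58be317c232c4001af60a668026097200008a05a8000005f065980055fae2825faa00102c2031800405d065880070df2d88000c25c5b10001442076c00022fd014e00c0000602b1948000809a3e8800201440028003015afca000402f0568765000082611c3000012d80b9193c00057ae0010b2da88100023e90000df39be78f9b506000105840db01b4287f5eb0ddf00060a84d3a000853c595400083c8a7a8000027b7c711420008af695e82ca6bd527264a5894a12900002bd4,
  nat_lit 0x158a000004100002355c3995485758c8b6e4c588c00002758c1000002616210002c60857ec60c0050260c8d8009630209a127800242c4305800405f049d80070568937000c29e451000141e4304c002084049a80030560002182c00085842a940008260497800062f04ca62f0000455193298bc800504c0aa00008c5dc1342a9800203c922d8003027ad74000426512e2000409a3040000317313f31730002b7d015590f848ae87805420000108c5c98b9b174000e0064fc606258b9800600307e047e5af6400115e20e6ec908b3ea3cc0058006073000b000a1be,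
  nat_lit 0x64d0d80d728a379914378000097da0004de1391929a24d705f60000dde8440ddf81dd0ec87d65c5b9f38000400057d8000400100050ca276a0c9519295f5b2452ab8a9c0f9d2f3a0000bea000021a8001864f55607d14fad1f395e72be9000419340068239545067a000242406511f500000648005064b3b461c640000002211e21997d07cd400090d721b64b5838c2f9c548109800000bed7cc423400181b02ba000111860acc1dbb5d75f29083540c00006e390f35f20c7c21264250000aa0558c1f2f0000a8108472f8cf64aaa73d627acc83f149d0004be21e8c3d1000086415f0800021200493b2c18f031e834000044a35beda2e12ed4be016d61a65a7b033e0002563d7be1439cc0033e00004a2d7bc00000020a6e0aac15610141c89067abdd0006299491b8f4873a06070ac5af700010a6c6f9a0b74d3c5e400b7000114c2bdb0000297c0622988be918d2319e648cc9200070022e6657b400180080ab31ba20301fb63f65b311cd2000211d,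
  nat_lit 0x10d580031081b6500040ac0ade000409a0260000026021107f80b3400093e00000194802885a042b000209409a0000012705a81298e3123127e3d56800015fa2a730ffe5bd00010006470a00005112fcc2ca01490026002000380054708bf200088f715d3aae52d3cc49d7e2000c7780eef1dd45b8005c00089c70d570f2e80700024c741d301a800038980c82211652c6ff833000220006000402a145828a116007449dc00012fc034f38a2714200800008e34004000000316c652821b0c00182505f78002049e092c2c8b9a21f18001047a20c440b145c00016cf02d824c00060004de4b82d705ce0bc50c86bc5f7077f00006f240f3153800400050568006000802c0010000c09e000c00102b1926000104c324a000004c,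
  nat_lit 0x736ae6d0bc58ce0001882a73b6448d08216363072a5a4e48b00000121d830362d090a583945ffb8eb3178e6cc00088285ff000018f2022104ce760beb18501c2c0005cd82ff470c0000047845e08c05e6096680040010001d6cf00055fe2d9f00020985b3a000009815b05428c51189c5b38e5991d90008b66d6ce2fec51b0a374426a75558611d800060009be5afe800180020002df2887cb5732594bf91c222fe8f722b0a23ac00056cc267dcf3b7d0554e47500002fe16ca800104c2d93000004c23a6000825d04bd492cb6456c92fddcd186fc438004400009d44000053a025adb28c404741a1b3435686800042640eb65fb0239000a0a8098a001005808e000189719ab800205604c5000226504ba000053ed0b0215800104b8bf50014001c2fa09600030398db200050b11b62000829e,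
  nat_lit 0xc4200141e42f98002013cf0b000304d8d5b000429f273e0004130c33c00001313cc0dbe000005686ac30286dc8000024878c0f1a01d46b404e509cc0000d4e36dc6dc29bc000027a00023e107bf29bb4bb00004f0c1101f04e03d56d9612000448447bc8f776048cbc44105834000aa7cb04000000080000002194498f96aa0ac215b5810000032886534c067020ca017e82fcb204415c03c000203a90750c07254209a800000ef00060ea03b288811cb2c0601dc0009426010b04cc0b0180a0005425810a41fc20f58080000bbbb70b18a40de190019e0307b1e60000e7ac075b00c000033f25dcd2754601dc449705b40b64000c4210222044038b980401f117e007100d60004af4018c00001a5903000108b81de8ae4000022e169b3c4a62008b41ded73e8003000c4b50b48b0040010005569e86bd52105740ae4b785cf60005cdb98c055249a6,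
  nat_lit 0x80061322067c8be9159a0800000290002003c007054a0a6214c806040e0341060a8991131c000c000863f1e9011c006432c42fa000360a35a52cd435f80011c5c6391a7d1afa00048e010181368266000019d645815e40008d7d393a20902b004d808c8001014342a0000cf102820004835038607060e041bf837d729cc13179241a400010691792c1220d0d52c0009bcd20ce41a483426b47530002000215882b386860d06c110ed41da0000800011a0a0f623c37286e587670000233052400100000e3e6e44c100f6c3bc40011eee56461990330b03c0008ade6960a358d0a08e00001ef00882ab657f8afd10ad0002257800129f68081b85a54800014fb34a6a81c8903ba000000016be27d4cf5ea15760700006be2071434115452a7ed12181a00047c0087173f0c0c2be600082e81338000858975400000be09ba0d00246c3c807950f2c00201dc84cc6058a75000c02c,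
  nat_lit 0x174000302482e700050be05cf00080a80b9e000c53c173c001013c17e0001132a5ac00002204d82601d93f80000b90c22000089d91462238126a24d13d9b0848de0cc145be8b39cf69b2517320005840000400927b202b8000002605b0016000993d85053d7b279000213600140024000000322d446d1be6b07c00129da46aca76800130780000288003038906f60ae015b0e6d00b60009821000560ea9d63c14016402e80026082001183801680010a7d6f8800104c0059000025b607a00019388ad015a217000292def60d8000000808ac8c98dcb0e2800464dc0a40d001a086f3002d0000c1a000208a1c6fab74720ce4140c43064000356400b022654fade293612a0b6db03d147a6000260c205d40bed989b0d89c219f493047a5800160b8f411e8a3d2800000012290002000e26484cab68a3322c16,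
  nat_lit 0x1716000104c2e2a000004c0f2e699c4ac09560abe1588001ae296180004001000080000bab1754c2f175462b9a8f0cba00027212a56aadc00300000e1ae240000098000800057110cbd710000002600020ab4e29055e85ed00fcb87d85c7c24f86834048be000556421180000558714421e585ae684000808324aeae2d5c9b91e61638fc71fa91d80d927e1000854f5856b850000826128c00000260000000254cd145a5304a3a945c4060000a993a7b750232bd85442a943b2894128e25280010000614ac421b542ad800012706140001000800940d70ab50fd126e00000ee000400a59429d121ebc561106f041044a2995173a2e780008027613a7c3000000913e20d3c009000500c80019367981500269f0d3e1309869100010540ea1000004f3a18c9fc011800f0004018c6f79e6127cc3a8184aca2800081a402601b0dcb6b0900060000096a05739e6da4103ea07b0010c23,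
  nat_lit 0x401c005824d7e2000a049263c001202c2534002009e4000003884080080060158fff000a04d136800282fa26d000483984da000804909b4000e1be1368001815ae00800289b402809b4000805102dc000c13626cc0010a7c289800104c079b000004c6ff8dfec000050e0a18144586e34d400106d414ee7200ba2000482098812086228586c00003698007000ac350004131807a80f011b423746e530d008d12e226360005cd323c030d862000001310684932c2618d085c6eb8d800186cf192000210de2a3511c0004437888f0650001000002510d683b892e125a3e8e1e600012e305c62c336a64d4583cd80015c5eb8c186448d83cc00005c5cc31,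
  nat_lit 0x4f92c9a593500cc00e6000c0ac0008c36807600f400e6162000400c00040010f851f0c401431f8e8e62380011af810ec064006f62300002a34614c757b114a8e36c1149023c00048000622272227a843480001a781c3000419bca1a043790bd21a2c4300063324dcb29ea04583c76d2611640010cdd13d0001198e3c482eb0d700010000001a00800040e04a0845a9b68a0ce4198cb600270002621037f00024d44d2e000000105a8002191f2424485002b805665aa012d88208b04708000000664add1dac550816c40000464a8dce97570e94c53115830fc8d18002000244d48300004000168f020614f324e618899c933832224c7000030f89a4934a1c4638900cb00073ec0e96898db0f41b820a03994731c733000640c8c3c6a860004126106c0000588001a8a0130c449420c841a61d80023eb67d646cd8d9861d000171220221262436800a008e6136121424130e4fac1f563922004dc07380f0010c38,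
  nat_lit 0x79e0f404f2000110c5b4f13651a2a00046c66e4000002100008000357048c8919916128b8d3f1d40b14d939800104c3271000004c00000004289ba7464e6c9c9938b148000146528c805ec26a4e05c6b0eea4fc2000c37031450b6800262fe55218a0c9bd643bace00020df4fc600018b4835cbfd317b4e820004d642802656ceb3189e000150939e50709ac41e8c027c7178c5c1dfe000189c0dd400109e264f63bb076a0f550686064989aca09d3e2ccf0d960004c05112800003d108839a9300e00018b203723f597e04e4a1e240000d7c626103e00340e68000a7593a0800100d4e71d61c15c0625b17000009cc80081e3d398800365decbc00349dfd9690ebb0018000802faff803280674e5e000470e0000036808941084cd3a8275000000008625000022960a4665a19a526302510002c490000c2d00440010000215742b288811143a6103f6c48,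
  nat_lit 0x19b01e68000b52c00a265b00000036a5400043399a5c000366f0b5013147aeaa25bac0bfd17f400018b8406d60021be000469e324c00045998b3262d9925000001d8a7c2fd800200024376372000229f07c903400018000047b9933d1286c908ea5f11c5c23f40003168000805470c401846e800013498feb17e6b474d24c12d82111790002373075c0000220ca0400115842b0640f58b21958005000109b00004f9a0cc05a400b587000a30148029404d000462c360a014c029004c800342303e603901cac0010820bad000000081934bc000100ef15b56a025d7806b00d862b800303ba2c20583bab416682cc98ac0000001093a6a1e251918a000511a002824c84b40000eaf40d224dc15982b50000c9d82fec9d993b800005403620806b9e362a829f052cdac5b5936b30dbaea18002327762a03376c66d8d1b1a800364ec3f0,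
  nat_lit 0x1a3d800011703214148c3351b82c0a0a5ea19c000b1ad93797e845428a8c00031a800082ae056250a54fd80004544c69040489b821e00050008873c187830d25a2c682180465061a128c087e001069d319dd7b84c70d661320001a90593292ef25e299200010de5d9a1fdc3fba991c00089edd529285087600018cc000ce68252f423abe0c21bb1941ab8356000466d4cab20f4000a16a4292851c4f0b1900001cda39684f718c6733dbe8871c0778000c00638a70ac40d4d8c47121b5500020000049d64e04942f60140302600058c25afd54b2a9900008390002be20ed0373c4ee800002160310506221c4440ad400080028002b181a55800104c34a9000004c00080005cef07d80fa0d2a18be0001a9a8958002007700ec1624a702cec75ea220c567b179a998003491c342011080020008c5d6a640009298021f404a70a000294b9cd72c1a41f80004a6000673165cdd14b0abf3b62000d3e851bca3626620004584,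
  nat_lit 0x54b12ae93030000279061a810425a80028004569e6bc84aa97e505940bb98ece4a8001ab4e70c235286a58f9466e096d12d0000c0010cdc63a80012b90572d17c941224f0001000025ac4b31b7c66d000104c309a000004c00021a140a4013c38f4e0b066c31d00010b7a16fe1270251b1cc00081230d220b4000032a82d49c9804201cd000009f41409632639027c04fc454866380fd000407218e2cb5c00081c70392b2c0382000407d82780e3800004300f91986453860816b83210001598e81b163800c218ea31dd5c8896c320e00100011ad81223afe75fa64180018e348e3a34a44cc00095d60cbdd440fe2000281c0c34000000ccc5d98c00024f000f287ee8fe0565112f74d636386c780014efe01198de00004c984ff0a001ea4efa1f8c4c804fe09f681f985b80026370f3a3d00000426c0c7c00000041f2b47c68fa0009053b0cf3cfec6d7454196c0018001414ac6c,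
  nat_lit 0x61fe24b8715928f40c6819491800020002c80002c763487a80010000c7f745c22bceecb0ad000274d0e4000000bc650c000b68f35806b10eebb0ab03809fe000820244f607bd4a42a5300041746d24000437cda4800008405d900006d20503076e00006c0297a07a0d7f00000ed1a958fe873d0002054072a00020f211e8000009e25905fd06860d100000479b1f85420a821ec03d889b510fb21f220a8000b1f4414800011e239d405620780bc8d27c2f131f000200070014ed91db2937b26f2c7b617c00041ccc2f800005f0bf800de0d6678cd48080016178c7a4e22000010e04de09ba2d8000006301488285db03b5f76bc0010284037c65a6088d8f20614000826146d8000026000176b48748b5a87d20306c78591eae61024a043000006e06dc28298e40000590680f4962b06cb20800c545600058ee0000c379860140016b,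
  nat_lit 0x2b77b256a4acd916c1580008398c0380000be00022576706db0f980629e075e1b3836740009e280020000001b7752560477c95812b126ea0021914001c57e033161e07fe00000eb000461c5a1b092b0ffca9b5912365c0009870686aa444b064d68000014800038ce0cd04d91502322000001ef12b01ef057e640c3cb8d921b26000590e0001c6538c90ab2338719215859ef0009000636406c8b218234846b00041e401d315624ab856767ba001c00087540fd0d0100001e40d608d843c6109956d6116c21e0003000ac850d1e290c522b4f908ae10ec00100d8231800106000ae4fa0100c0018001642000016523de054d1fe50aea16114fc3b2067c0000641800053aa110138a8a880011ad26d223295904ca8dc4e8001034e553000000542d40695064000111f08a81902000047b8d2a0ec65a7,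
  nat_lit 0x18b2206d1ac001039e0006bd3408f812064d36d2129200041ce844708a8114d93236244a40000075839b0008000daf209bb08f411e03d7b46964c0003000406cda8629c4370a22d408daf4964b837206e6255c0010001036019dd92c5f4000001ae20cea6a035c0f98a439c4a000239c07d800000745f34afc00dc01b63e28003000371b8712192a000047680c4002800029a434f0179061d64a130e74440ad000110c92eb8ff805620004a500ad8000386f29f00020a5263e1d7d985746d40ac592600042930f830ae00000a4e14a413ce3900001f467174e2e55bfb248fa2800171c2e388cc07d1000009f91cc38df052a95a800290543e82e2dd922ec75125a5680008414003a32402e4800205405c7000229e116800001e4412c9338000000222cd91e413082410452d305488000323866500000002510cb54952164680002884ea842df15a052085d80bb41c94043b6001b46001d5020019bbe12b34362c8c,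
  nat_lit 0x18b6a14512b0001ccec188c00203c8310800312e061f00042650fc6000409ac284000096db6d8001000e1871946026000000941cc22fd371c2d1000109ef0008ca2226200044f909ac1b0b464000000613d80004001929e1fd48945c3c903868c4ca100000008b75a14c42940f6821982b40570ca000023bfcbb09e090ce80002dd2185830a0378b7420403e3a01083cc00016adec9f0000d5b8047b50b099000111a423403ca079664f356c000006c6b5236d829809dd05300005560e90c0000d55ab400010543565000229e74820001ab28b401c536c76d8caa64000b56364e80006d80049009a012c001a9e0171000116240da81b63b210aa2c9c00005728ef1baf00b695c920de2c2c583382107fc000d93670d02fe000206bb4f90002086,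
  nat_lit 0x26303420683000004a288235644a8894f000012a000c32c8f828f280d32240c61d32d1c0880010beb811000017c1dde0e0c3e8b953196c000dc0832cc0010caf2e145c300cbb2c95b3380f0002133d96200002011ebb0350cac14a8293c000800210f4a5e4831380d658080b0002ab0024fb140000086e25c612810e09c2000003cc556e006195e120823790de0000b8100000dc4fb105e7160e2c0d95c0005b37047e090011b195a00000940641b360002001c26704cf096306fccac08f60004006a14f3e2c25881beb2ac092b66a00000eb06f09be8005230b00d29e4c2a5000805f8caa5ef000041300524000096c12433b9014a001446f8148654922e00f29e3c2a30004654068b00063550b2e84bc0328000452879100000010a8400001e08962333825740058002653aaa66dc80005181230112b2150594c0f990b2a15542b45be400800090744ee1d94a8c0117f0d051ea83410dd000120010ca4,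
  nat_lit 0x7738eca00060008f4d1ed53da459c198639a4173237c5be8b685dbb00026610db23eb6272c00091b8d1b1a371d900000b240000c7a0ec7297211400023e0464f8ca008499d3000002218fe06880008c831748ab81966000063ea9b849c0c81137800000028002026006819820010000a85f2a22544d980e609d99800050bc553026e04c81c089a235dc181400132fc2fd00010244179c2f2a47f490acbe57724384000012110d0004000216082be8d700008000011896403d2000432c40740f3800009b00015780e3ccd34026003cacbd0000755183719337656b05219e43389b62a0f6b0621dc0008d836720cbc1d16190832180001b04b0b6eb0dd65bb8000700142565dba06400c84cbb0c2618394981f7851c234c400280020002cba000e5128c179232246840c481901d82880cb94fc4000415ac700000013c56f2d09144c5125dc000040002c6fd9709f7d8df000000065118c15807365b8002288835704a80adb15b8cb600025110d291af3490ecb5,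
  nat_lit 0x55a80008804479e8e47592b4f8ab6000007509140d9a3da05c7800200500b5590a30006018e9a29de000599ad4c800000580128001059a0b1c43db7260292051ca76b33000002cc2ed67cc86900b3800001a4011288e037400002380b30000800413c0bc8058e0000046001089721cd1bcec600163b32c0019aec35d26bacd6e0c780012c1f2cb45995994000560f1f024f700002b560a40df628f85c80424000a12a809da91e678ecc9000800096d895292a607ff1990340db800b870844000c2541f740010a6d16fe341c682149d6d700022002370400084dc04880e90000129400e29b1b7b0001001636fc14cb6aca97b6f50000002c0dc00209901d06198a3318ba21e940033af142a085558db319942c0cc70000298052f089c25b0cc6000015c02ba1b733fe04ba598a1a34000180e0a0acfd43700001d9e90e409ca900000036c8c69951a43761d11b626348d372da376f000103f73c0a1958cc4,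
  nat_lit 0x31cbcf02330004000d9ac000400180121abc3b5848ae7a8d4399c533b23b7007f8000000405a19aa0004007069673c00fdc3dc2a4366a0000529403a67e400941771787281e502ca0180060002cd32806001400306fe084c108dbe909d40d807c664a2500800229a1928140100060001a4109d827f138e77a20008a7016202c500014f7030a000003a0004d72c5d00d5e204c4fd595c000407a03e307c062507fc4f148a6800a36fc8c499a43b20004802067d2938526e001c150a4dc0030a7869a00050288dc6000804f29c4000c2c2538800102b0ed480011100ac6000025b67be005c0000d4729bccd10000b5cca7ead1314ac08975fc8f50000000549ca9b807a9b340001a09236f26de935323d747a6ccf5446a9103018000091ee66c356b3381dc83bd3ed2997400080003728b9a06c042cd1e88001472a3ce0000023,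
  nat_lit 0x3029a787443680d4770300f0004051802800040a28e8c4f7000002920a40288efa9dec04230002074d806337c202040700004401712a38a66f076f0ecc7e0168197bf0002587268000006aa1010003139c00004cf8d0201400020d99374ee2805d5b5de0df401f99ba000cb5d188d352027ac470d3e402700022d725adc71c0005b9507821bc8424095474c1c9595cd211800144a70054291800100082548be189b41ff03f42114000c4a604a9ad2800104c0538000025b0000252c62d0de00a6ecdc129441dc9e7141e1ab200101f7908666d8a5402ae056c8cc8d58000600019b4004400b14131ab0000835c000487706076ca2cd91aae000018043b00020002281835559b008200ff800400024f72e4600102fac9740018398a6f80020b107d0000217c00120000420a91c0008003000a00406a7140564b2cd7,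
  nat_lit 0x14ac152c602173a1940ced6c0c2f4c2318001714a27c0332064023180000548000000c03e5a9d86f40de64c340dc81bd676000501f254ecbd08fc76758e3b00003abca7c84ed09e20ab354a000480933a8b0118ba317e3a347cd00f50006cd020163a4400180020000dbd80be8348bea8cac0dd81bb9a9a80f30002ce9000000ec220e03000082a12b0800007900f02a64002000101e714e626984c18e8c4ac0ce87658ecb5d97000103cc07f0afcecb400001e514e66f086ca07905380fbf5928b24d6ab3b1c02f800059ce3ea053b817a000000099cc000ddc606a91ad605e8212eca80012df91f46d3888d40005dc50f780000470000009300625e3877a96811dd6c0680023b27672b0176030000c3958a8c59ce67319c81d283598876000e000889b338c4ce9fe1000a00048aa00080003b23764419f764650115c2b7b96f7000059c4137026d0000236800602a0787c95690b909bc13659c200140a53c0941e6853c96c00100a722b73a72ce0,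
  nat_lit 0x181eb030e06303d207a9364ccf60004000c003049e0592536000207a42b1856567a8f800ef200000f58d840000003094c1900ebe17040fd01f8ce96000824d13f60ac00799232383400084a3029a1ee0000126c01412883bd80010000047008d8e0b67a012002303b540000010cc98001043e5042af458a1e10962500021c010f800000746640cc999966aa437e40000c6b0008588d9e631a8001bc1d783855410bd021b0ee8cf20004f0749258cf719ec33f19e20004501103b20722e5d3c21f9c1980000783408e2c3c27fc000832f17f80000fc20220fc43bcdde7840a081210140000ff5c3412963b8076fc0000632190416b42d733c076224230000001cc2c000016f80e9d5c00020bea5bd0002162756e00002f800481078a8f5b5a4db09b582d8348896ed9de7ec052b8ee928405088544020e0022cee3d9e5675712bbfa0020ecf160c12a0527800f4808084001c084,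
  nat_lit 0x67a20738008813700023792fc6ef75dee01360000d0000020009beeb7dc0c2047408e902e710f8cff005a0331c111cdb39b40004e02000001f2c2c7178e2f59fcdf680023a91181000305880ee000400100003acd2f625ec0813b3f4390025f04c033e867c82c20006cfc26be49089218002646000104e809c008cea2c000000c139027500001bd833eef3819700022d8c0dd46020279546800156445bb8e121f70000097b0c806ea000406fc6778cf10308cfb2fa6ef3400081bd6780cfa77960000070d0f80010000000a0028a9f822567201c800040f2687c0004130d0f0000013069d04ed47362b680348077000207159f23e95a1e343b03880000039947167c0001021611f823e9a243c48dc61e7a01d00002cfc002000304d9b2a000404d2e1a0004130cd4c000013003480020000cf7,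
  nat_lit 0x1f903ec0008000007768707c10000049000a408828585115a390d00442087800000042ab0002000008719679a4025e1358572c24e095e8c0a0000d0d00002cac59502d53f007c81a1800042028c2604920915a160000000b46968d019f000007a425e37f7096e9070e56aaf368501e91b202f84673bbc11fde303c60d800068481de0006000060617f26840c0b0a326e04dc1adc676e40009a0e0005da4a65b4df61dc8f9e0001da380580011ef3459c476cd7f2394683000176687b44f6aa13068280002a16739408c00003b9800c7b98db70b1ccf780018558682000212120af009d81375d1943b2d3000240009fec93d800200005d181eceaac000030000010d921b6eaad91849e4a7086280e4a000800200066818003000c3741d9d076d72541c69a040909bbab7592eb80008eda0005c6290060e42470534400000018658000b3d30b002e9c4cf84f068a4d14c0ea340412ab8c300006e8,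
  nat_lit 0xd5fc00001780058009049890e00100ad10ba001c53c3f6800301444010005027890900080ac1302000c4ca260c001013550b000104c2a1c000004c117c22f5abb88bc00080005a3200004be2b190120853107e20f91638bb40c84000571e30b073f0000000422d54de00059201f6c1484291c5ba0b760c82d18000022cc9e289d3408833c00040010003ba671b7c0bdda2e278c03700014c186248c4a9ca568b000016ec00600020f5c8620a0504d809c413b8ac300d8d150000000c6d98fe8018000274c236b90900eac16ead1403280655dc0000101c8d130000e97c2a9847e0183a5e1b54e4dc09580014800edfda24026c04e80000b5803528764dbc91891b200080bac3a534446ea90ea00060ba8434330d09300c5018e48a8913a67d00020011a20243931080001fa800104d81e256f3a0744cfcd0f,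
  nat_lit 0x9d3b2702686000503a449c000001800b0773003800100da85ee0bdad240f700f9000181b20f700020362474912f00d40008e5b32b80010454000072d16054f70e58770aee11dc18ada000611003b70017691b9630bb882f8fac8002754a04e5a44d5846d20001087c2a24746a90a6908000754604dc09b1579005843c0ed4002c0038006027c7d59a407394003824c20c80060ba1d09000a17c082a001053c104400183c80ad000212e094500020ac000200004cadab41000201309a522c001000068f840f2cee59eca45000168f0015580c00003ab30c5961000004c075d0002cb0052ccaf800001303ad8004000a0055d6595c32b82623431bb2bd68e801400080008cc815d62bb01a1c5170a3068e000300023d08036921468d8012000400001d18c4268d198c22380c38000ae055fe800c00009ee,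
  nat_lit 0x6368004150c41284da09b2152ad32258c4b0ca6c3d4a4ab4000c952315c6350002000012f51a44fcde401f8318d40004e560001a3b095854188e511ce004c000801a0000d3118cc314cdbda3ab37c6004800cb4c00089be226da4d941839be10022d2f05268a711d1800e2f1383f111e000413c000081983300002bd52f92146803bb4795e9950d001275d4279025169700061d00d780957338000286b773565d606b806e47a901b014140001a5a183cc120264000006c00d78a0969600012a380f6c1ee3d66539cd2b00002f8c386952926fabbe1aca35881911a9706460005a54000004d2b5f6d924ff45c28b895cf809a23de4801b7db71f3a040008000840b6949d6d20da41bce8080010ee8b04291852340001af0245848f5a26e870004000639fed28000a681c4ac002c904920a02740004d8c349c09b800000083e8000000048c0000009b92072408d2669900bb475b80030c94d2534066819b3b85f0000438d,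
  nat_lit 0x949b49f000c02540001dd67986f309e60b51098709ad3af8b6c01c080050128d43018000091653c2f25c424dc68335089ae00000f061e207441dd14973c2e785a8b2000086cd6a080000b2e124c15280bd6a006cb0d988475cb78844000c07d5a7e5700bdf91b61074001498c1224245848700081390002f2d00013c0c259c4af79641589e590001144c289450eb4f9e590000070428945123c0d69e837e27b24a5c0020e980018552107800222eab49503d8e2602f405dd54d80010022d3c00002a98014000400101720d96aa65a76f2ac00000e506da0dc5a740011c8695d213d61571a72000c4df09bf73006d000046e297363a79575b0fa61f200048740050000026a05209ba136418f15ad180930260001932c3d80000b2a5b085ff8c09b4e05943be849ac935cb3f968000042a28126b4dcb3f8001151203343b3b4d9a3f800302f84eac51095132a2428902bb34d5a3f000202f651e17571f41439ed340002b09882505fd49b8002000003802f051d58c2146f30bc31d06378c6e000ad33,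
  nat_lit 0x15ca2d1f000011d5cf11d3916740ee1a9e04000808563021af0e80048b9467214eb001417d0e6000242e84cac004024829100070be1b6f000c0a836c60014058384c00203c8bb00003027801600042102658000413677a800000ade173c2f0004700ced094e61c263839a9c64ec738827e02060004e01029a6a6bc2d00000004001bb17636000000041eb417402e501fe05500021eb17738fd52622d4c000057380c7018b22c95cd2b965f6c004000a26a68ee1e4a352c476000702080006ea20cc0000d5581ed82b30f780006c72197da3713fb6a5065f38f479a0f5c000007c4d4963a81a1c000bd850a8458f0008f355e6b1d3a215442a57a0b520001bcd423ae905c126824e0d0ad470004f34de6a2f2c345ed46000241b07239575403800079a001679a04d30f6819db0e3c0e081c18007012cd45,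
  nat_lit 0xaa59889000211604340000fc30124c9d15e228460000a94952b7a8a69a1ab60008000077514c62990023059c6ad0775180e296852c02cf261c0005ab2549800001b007a816408e600001f003f4003024557424f65ce03560669000304980a400041626ed8000437c17d00000585e1500011e423339aae3c18000021800090f579e8f3d4d24bbbb1e0cd5610ee47f0001800100005260ff61ff5ba78003000095903c4001015a078800180b00ef8002028b74a000204f03b600004b645d4000b2fd0010bb3d768095903bcd5500008ff4de502736aa1c211edc07a40f536536ca4505400032fb6a980027080537c19400042738330b43bca87952bc14b2200016a904f134240e003ed000053f0002572e267c46408cf2fd85915aa2cbd400086fc1346227026c3c6e6a800000dfc0ed,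
  nat_lit 0xc2900041740006000412441e400005f1e6c140774ec0f74000b598001800130f8621846088c46cf60fb9aca0f59ec3025d000400045138c2a683a028499a3865ec3800129489981960008412d80006b2398a13621d6c02c800004b6598660c50f833a000021080020ce4511005800ac2fb80000f582b71800f61466200021a186825262ca8c62e2e1100029850182eddd708000038880ed20780000000ba860a301455ac6000037586e91bb640edac41eec00001330d42d3f11821f8000002e90d6eeb01ac2001c22a0346409404c56a400002323d874d526401ba53580002800001189640000cbe41729610001000001c09631b7870d87f4033607200001abe00001fa012607240e3dabc02d8052846d6dde000994bb24000080c905ca09e000003240b6031c2c224fb49f869ac002045b6ae9023204495f0d3500033f101a15ab8c608d34000208b2422,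
  nat_lit 0x42106477132292796ba8003046e1ab8367b5d000102360e5e100821ed399a72800120fa2020000167c148000414c3cd15d2c56f4c9b11211326225dae60000d8487220cb0296799e841420284084f0e100800200016b907ab1424388c00184236b8822f281819441ff00026b812f407fe00047590b65ee1afae00003ac9626107c00000016f48af5dba22bed0c9c0fedade0001bd192a81166f3b45fcdf18af995f615582aa400735b84c90e1d14161e90006b5b495f04181524003006a002458d8eba1ebe6ba3756309ca4f909b2d7211c400235b01e3112d272e001800138510b9ad6b0002e14073e1742000a36f0000f7bdef7132119c3dee5784dc84905b78d2728000d34e000800013b27b0c78e8f1e046c6b513b546ae39d873c173e0002d6917c84e3c9c880000108be3155000045000a361348336c89313906b4000038d871a80d455548b183aa0a1000042e405444ee3796000010296f6102467d8f4a0006000061937956b38c300006093,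
  nat_lit 0x31300010770e4c0012000c80b075b0eb4e891b08001000110152b16707c587360de318497000cd91c0009ec4001000073281c18dbe4048ac3005d6a9a6b08d5f00056c1394e5a34f09ce293c1d0008d8172481e74e28bc1c00060582b44f180722800202220a631c4000400c001020096cc5e84b4d969b957f0ea4d806c7e000c2022c842fd2f081afe00081ff92bd25764ad877535f9580b5aa03ba12a000035f400396c939e85264a4893462b2c8af915fb5f000314eb14620e7801cd8cc00205f41eb0003049118e000417c07aa000442001100000880c4c000006f00de41e9b5ecb60a5e7001200100019b85000ad7a69ea0004130d3cc000013058e25965e6a981c003000169e2d3c9af221341088a89000a000071ad3b9a7680026cf649c55c380046bc03ef2d749810001800121007299aee5309b43000c79eaf3d930180026bb107e7b2c2a045428001256000000040ed,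
  nat_lit 0x15f15d64bb1800014d400089361256bb103d400015e29b1e0d90d94578806181d100002b7cb4f5cb8b64cadebc495df6c0b52b9bde200043fd0b9a1741ef13de10002d927bbe00000bc0e707a384d80000466cab1a7d84ae2f77db220d641ae81c2000a1406d76daf15d309e41a4c3db0000364000109ec058e2bc05770f6b6c7b690000227a06420001e55000415f903d0002dae1b1c0af0000000c00182173774f3fcfe610356c6800237d200101ff12726c600011b7444e4899246c00000050031be6000444e899323c45f628ca010336b16c580011d083a0c660202278e004f98d20000d3aa50c34fe0fe1b143a08740b50f197a83b4532000000026f8db1200081e59d5a028ce82c7a8b620000b9db42f485e50523c576c3800025eaea6c13ce7650bc290347308e6817200010ebe49f5b0c00007dfa1d81f7e000007e8e6000001041708fbb2b122d1800300024732d850002857c16f83ac0002397242e128,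
  nat_lit 0x329a00000f2000207b42f4945114700dbdb3c20e800002180f486f10000aa9c34c1b4018183065a4a0001b3a000458da37d2a60170007e000059129b80be03e8324a59d502c22f00008de49b387529cf3026a00064700010099800137916cd800113be1b8c1a0000037c00c437586e5000600d4fb406e204c00988131b6684dd06e50dc8000801a01b0035674e000200cc5b09de808ded990dc40001cad800253a003600100029d77ae0c75ecb7c086c01606cc0148000ee7fc512326f05be3fb72b000d000339fd0ba217495ec00cc002b9fc0bc04af1b2e10fc97b018d0008592000207788b185e9136000003dc0d50d2e42a8c3b225345ce630800034e01a8b4cf000600044b93658000096e03103b9145e00102fa28bc00185d0da400020be06cd00021610006000053ee7c02e207dc48625860afa80000004d95,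
  nat_lit 0x2000284520a88151486791edc04000004c1bca0000e01865e11480003804197853d0000e00865e1134000b8001978001000025b0e18e6a44e9048e4e680001b58dff00008261bfd00000260f587a04bcf173c8001028adfe1bfcb6ac000283714b03c3c257b6a93fc00041c82b9d5b5200082af2b7b450c9acce839d0579baa0d9b5000042b00a6e58cc7a29b4e00002ad80882ac0eb416ec0004b3a2ddc000023d8f6a6534cb413d0279800277ba3aa85b9b699caa89a40002196022cadf800006fdded0ea5001a00040de04ec1344da5047600080040d5b6be85721637b7e215acda40ae004cc7680ecf6ce06fdd55800016d18a5000000015d0d00416d100020002aac155706ac2a58002000a0888642be170d6cda155c8981480e901c00020001b4033943cb97a6000026e000a07c4107819f31585c25a6fb67c1b900020568743000202c,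
  nat_lit 0x32a68750c0a1946a63d1764a0a4e48d61819302e0064000b6d800019190053c8478c02294b6a91e7000459e6b12000800080181ee47835b6ae7303691b2c5c7a000026ed6240050261ac380090261eb90012093650600202c446b800385f02df800605685bf000a02c0b8200100a216f8001813ce9b8002108062e00020ac0b6e0001abe8a39abe357d001600240023c33145216f1b68039807601670006001148a5fdc3b2373c0ec40001b66000df12be243a2634acd10b5706d90002187e243841b8831105a56500022db0fa0a1a463300001b240067c44f88df1213091762048dabb80040004db10004000c09803830c46b8b0dd09bab6d800020000bba9e119b483da65ff5a50f0200ce81a10346d5d5aba00016d78000034a07948d61ba80000288000e1c5438b8718273ed5cdab936b8143800608a69401b2b36556ca8dad,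
  nat_lit 0x2f4802f001600146e40b9409aedc000047338eea23545ee4860d40a00004a8847a08f069b5b7e2fd400300bf227482810511678b92005d172e001400004b020f041f754a0010b082e70001800c4f189dc0dd6f4d400300006df1d1333564d61c31386333da0001b7a000801221b342f426c000200745ca1a5c00100b71f323e6039413df0a76dbc00461940e17113001620008000b6ec000359d000a12acc40d66c0008261acc80000263d2d5f56bf71340a44f0006d669accb6e80013b044b442ed46c88d8f47e0001489a9a8caefb90a47d8000094600948961e182b4ad31001e0288051b6e44d98bd5179426e5f24800e6dc0f777bf251cc0068d902c10acb001807a2654002c1dc3b50d6faf4a0002000c3ba00096ab99200f865d8910e00056ab08122d66bd2047c2ad877c1ef5000a1ee5aa80010010014c22415ea5f5816708788f6300022b49b6e1129c3a8f620000119,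
  nat_lit 0x6eca00000740019b5785412ea41c740562e2c0a780050110f2b011c00101cb1444000b8150c80a36741800041760a646e5876e0000022c73000086d9a2ec509006a1c2d806100bc1db1b9402d4359b0a1178e2f2486206670002dc901100000108051c0a400014f70d851b021bdc1cf80060bcae6d9b900b90001824c20580020ba05e40002162729c00002f81cb09c299530002e535b8ed90c8d600010004138c50bb71834881f002ee00001cc37140008a14045c08bc0f7817655480001426fa1027031989160eec03e00008000371018f8c3911dc07cc0009450000223a07660ec4356840d077076c000400049fca8f92a8807b5b864f980010a7dadd000104c13e1000025b0cbc000079ba33a27c6dc2000000e1e23bc460cbabd6079001640001c3d3acc07d5b82d42c8f4bac60000484,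
  nat_lit 0x12fe12e925de12c425a80036efcddf5bb088694022fd45da40009bbf375ca850d7d0f4c0005bbe3758cd60b5400004600006000084e126b39aa276c4ed04ad0962dd504be00000bc000400001f51f981f31722137c0fc13a7000020800000004c7a0014000824d147828e4288b7766ea000400000945f18be320dbc4e91ba60934e4a05290a4c0005ba409fc00000280008b595f56aacd1eaa3d85f88001000002316a253c00008e6088090ff000013600022064988ace841fb86f70e00000ad10fc40020fd71f983f3c03a80700008b1416246260ce518be0e06dd124225600abd16a00000111dba02c485881b82382a7570dcf09ec00040e7db9e1e641b0035d00020e706e62599c07800007362041b960e6cab1135b00282ff000e8108092000098a3e287c526e08fe20ad06e71313168200001f503e86e683ea11f8f9746dd000164f012b0000001c48e373000480000158504,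
  nat_lit 0x80000001d0093012c2ccc001021802123d31bca2cdc59c01390c6c18d030080016f2005a779e84f8193000050c0215020867a05600003045c17fdbc6000908ea913000246200021e1ccbc97e0000078432ec6977ab80001654bf374da0a091bc4b24812f9407002e07cdbc20044c2e16990650002304c405880c914537d800300003070770a33705acae4d35a3780489090f122e5ca00010954336866f15bc00048aa696c00001b000087b8098a0a504290ad96ef80006bba0310f741edca88000f00100d5c5acb778003835718861960002068ccdb0ee41c8000002f019f00021e447d58f456ee802400003550f28ee9c061000001842bcc0113771d5b868f00060000346b76c27b84f927602709ef911ed0006dda12f440d43a4bb3500043940b461d147d3bb3400020f923ea5d488f500000c6b77f000207f0193376400001fb128c15c,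
  nat_lit 0x2ace55a977e0000302a7db11b200086dd82f505e8df44fb423600009c8a116cdf30000f07400c0008000927724e65260a4b86746f93c7412122170dc500003e238c40002098017200004b610b526b800672c4633cbb3b8c26f8881136be6d744f1800055b9610000078a1d6209e26f81e26000600044ea8529010e0219bde18443090b441e36f6bc0008158001b0de50441d9400037b800101eb03ee68ecc06180b0ec8aab0002a26d71f3e524e04c36000074080f583235ce1d013a043ca4000b5010986e565bda0fa42ae80006a0005a00b605826f6044a0d384a54ee72b864d9af930000055c6f59322493c8d3000090bc000031931e831d00020e5c2c584e400193e445ccfbb8e5d37a800103d6005000000762afc4e186010bb003a157af1b059b0002171e3465bd2b87575480016dbc23e1e2f37a03a60602166800013ba1f980698004021816742cf88a311f42281bce000c15f82bd1af226384ca87e6099ade600004925ab589600d7823e,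
  nat_lit 0x51551a6960167380010bd4b80000194f029e80ca406c409881290212ea2000007737fc5910b1d1004fd6800126d06f10b1903b200052f409c00000094ba817a5170e72800003f567eaedfe0a18682035106a31d680000e4fb7f45c280030118003000200c4867898486680000060101cb0a00b01a315f414e4f8fdf2017a400000005bf8000086797ec2f345e85bf60000fe59f8c7cf258a480d37e8a0d941f615421380000fe72192df900063e819b8aa5e673e2fe0004cfe42bf3d3e12f973721d800046423f8c00000587ce9a21000400148eb3c99591edf869d438c414d81fc0000df700025de0bb9830d2bc80002ef8686ce870388007000f392a467c6cc8d9b132c2654001b7d9334a325387c636c00110d184abcda2cc400046c200700ca00001808000190e0a40b5200005313e3223d4b685a0817342f485ef0000000492f05a96fa8000420684092ef9b560d4e1a99b5a495817a82f60002007,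
  nat_lit 0x121c244857c002009c800059761fd02120fa44b3119200001858e0438480dc0e8b07e800540649192697000004da16a5da02829dad800041cb79a0008f7d0269808e708800109e60097140e27c000bdf209a2cc1c17bb840365b7b30d0c000000113ab71c6e0f0002fad03ad808911a07e38fc6b838000140d4d20a7443b938341f4800c001e00007a73831f3f8a371468b8e45f72a870012e0b0000f374ece17e57ae67221d3260bd6cb003141dc0011c1404501d8006404040001c12eed03c8043c3bde77b0000000170400007702ee01c52b8a4107abd35c0e000405c8c0e0782e06000000044ac001433f07f8772c08c81b7036d7028004012e025437c023106deb24dc080010001809601280ddcae2000c001067b0fea1fdd25000041ed86400011c55390e66dc5718e492174e03012402400898001015ee020e841fb000000ae1029c523934586cb0d000015941fd5c020004a2b056b7e1a68c5bf600005b502ab44742de,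
  nat_lit 0x10c0000d9005df50e19d35bde5cdc52226ff4e44020dc3c036c8078468019e1d85d4e800070e800060ac4bac1619674b5780000248c57271a3ab4004af11b0480020008000809c00b8000813616ea1075c3800015f1002809c8fd10c7453c8a7894f329e80008000b86cbe312d1259a53cc000a7bc00014f8000001300008ed07090e0b29e2daa0000dc88044058dc0bad011a7034ec1bd806670d15d9132a01949560ab01558e191b6000000a41ea400116dd1e40b19dc30beb4f829f04429a00003d4385c00180020790bb50002098742200000984ba087110e00aae0001c2c2ec8b6d05dd00b4dd642f5214a70a856000b2110448a012de60bcc214cec0a9ebe8cd61982e140c046a80d5100370072b861cd06a58d4a80027260a3c0000d6a4db8bd6644c66c046fc384c0009a937d0a101ca2e2c60bb60000065342a00620ee,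
  nat_lit 0xfc1276e799cf33c80210010ed80011c5a1fed826969e1e321dbc001b8b0803b9df0ed60008fa85069fce00010340e3d1c800014004976c7210004000ae2b6082c0f8b3b945f05b60001c54000000098f4001bfaa4f249e4422d01ae71480027f0e4b5896cbb98714000128262dcc0d40001fca0059fc212d37f1e9bedf9a026b0000e270000e4d1c9a8132730e7da8135389800082a20b34166423200000ec84a209b01d803b831e0ad888e111bc0305c4a129cee496be4e1c176c06038916a6b8b0704a5ac005fb88c55e8ac5122e02f87b02354b3000bd0350ba5017808f605e998980e170b05000011c44000894f3d51222a19d79ea13b0c1e00000c6b824704a274c00200002538c0a1c4283e436d8c8f0008000c98c00087a80f520002c8c04e009d80008c04000094d001b98a73123d4c3d680007100273724602b00d89e261c8ce1f,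
  nat_lit 0xc8a00101741cca001c2c4674400306f804000050791da9000821013ea000c158b8a80010134ce980011101770000025b741400205e81a66195eefcc6410c8171c00001f7606c1f780da01b482cf2e165c28001000471b970c2e16241cc8b0807321c000000138d8000a20e43f287990f21fdd3efee350000041c3f93c86790e1c64b8338d0f2e0ed40002013073a000004a3b646513bd50008000491180401af0e3317922b2056492f90006e320fd0b9a0ad93bd600040ae5e4c00040920009bcb86211f2437c46f98e132f485e8dc620004311baeb7fe2ffd579838c1bcb800104c3795000004c311a8a80004000008f018a9bcb37951df80010df2baf823a374c656a6822d3e5a78b97a4c42424000dce638bc37bb1307de4fb68d8992110004e2e00d601a890b00011ae000131462e78269925401480002436006,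
  nat_lit 0x10016003402c8070c7714b5a8861c0c0015c8269ec05f16262c567dfc70280047200216744c1111c2913830006c902bf616a42d2a7b0000422905925670acd00016aa08d000003557b58301c00006145f047ba870038fc3098b3b0002000c3693b27764ce3e6382be68fc70b3a00008c10004ebd427504f167000010b2016042bf0d70000031b0520319000007a80f5941c0a3b95772b036f426f04db02520c61334a268000899554900001100246024a79edfc41e84552237523d2b5006bf0cc602444b525ce1c8ca1805bc0b7a139001e38f569d945e6340476dfe5803771e00705e82330c660000171d908200000237bf062c000e8cbe1b0800100002cf459985fd0bfe425084bb62571d277361fc6d8072a800004400015be4e6b40ae00004c583b817c03032f8a00048aa37641300089000075a742e00140d8e854000063d2c1296fd7e222da71c83100012093]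
theorem S0_c : blocks (facts 12 5 17 29 4095 131071 536870911 15 32767 13 8191 A R 32) 32 JS0 3897 = true := by decide +kernel
theorem S0 : On (Step.{u} R1 LW par A) 3897 16697 :=
  steps_of_blocks hpar hR S0_c (by decide +kernel)
noncomputable def JS1 : List ℕ := [nat_lit 0xe4a8d740ff800054301c7765200972b00714092101c1f098cf0c000005c921ce87bb0600000017a034af4a468487080e7000202f015e1e4242c00bd017d16e80009b323920e7f83b10002145521208141da00000df8004085085690aa8e275bf8e47028a000809ede2000082601a3800012d87d2084a06ec000050f6f0ce464950fe89fd19ca25f6605dc0c0391400002c500502c538403e507ae92e202cc0595c880004482803b18442de000200205580c2c179a22c829c025372180007b7a63d00005e5c47d88ff59f953e00100a82d10001c1e45cd80030970b9b00050b09736000809b2e6c000c0565cd80010a7d74480011103a5e000025b7b64000810a9cef2e62e42,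
  nat_lit 0x3ccf288800603fe0890114a35b4cec99c830eb944002b0c4468413688aa001004905a8933000e5b440000efcb66ddf205f7159a0014000b9410788000003000d001277c81080211142c0005c9e70a0e149b6e14260001077920c72700040fac1f4cecf1e541fe83fb00a600088621e5403380012fc006800000ee000000082a585cf0b981d544a898f972680010a94229c0593bca65680000c1c19014c6081c3ac87cf2c212693168f43892d00030899258000029fc54120e56c9933504ee09d80fd00025b26e4c788a31b80492d1803f6000422e07c80fc0000236933203f402503c8b1d8c7a59cc00004405650c4701e20020003072a465044c000a1c887e704fe69685e40bc6c1c9fea8d9e00005063ee212d825b83690004e4b0002366d2c4258709c25e60000366c0923665ad702000002138013a027104dae4a,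
  nat_lit 0x228612cca5bb36780001a0e0031a0676009cd11ca1e523ca000139707970f27000246d5b220a3400006fc16d156410101a90353bd307a98f539cb60b65fda8c8b41444d028509e053c502d20598833058a53902d40a5ce7f8757094a59d04c02d8832022ac12b0af117daf0d5190f3408af3c725e6a0001cb40004775147528e6518ca2f146172cb9370000e2dc67239383630251049ac218215025a1a74e58049825e402c0000244860c2450f9b1f3a6b44a78112404720c59610395c20f8228044e00006e8628d5f2aba61f5e089934c000043a887635ea6bac138025a72b00004730943928989a237da1a6000e14703d00a561670279dcaa2e105bc3ce379ae00244f480010000e542e66c46107180004528feb4324864c0018000106c19c1ca6000841aa5a5106a0009ca464700000058001800a6192c2d4da6330000005150004f340e2e14511580001799e470,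
  nat_lit 0x440161005b7cc034f07a20cee379ebdc8311061f07a2e66000600081c186580000d39311061fc474399469c160e80880004e703e248b04061000062000002978a20406280d4c2a2fee39682b5b7ea0754c77786c3144000027c4f912b000060828628b590dd600010000000818f0774000831d19681c1049e16cc000005b02483671dce63dc95602145620ac300023e81eee8a5073223341956b52953c8f9e1f3e0005cc600017e4affe6038c0a8430bf217e888d10000153831caafc73105521b9e0d206991da544e8e6107862eca012402300020a802c5398000019900c8029e05401618000171a48c971526520cfc2fe85855838471066005e29fc0ca8571870e0e2897b1036c8d06f100000f8a1651cbe0c1d1c5863d28d88cd30ce61c0b55847c060469d7a266a4448203001b1c3610454b9789ec0a6405f865f1266b19526646bf1cba0bd81ef9d8e31ee4a8937400086832266000c035,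
  nat_lit 0x16ec2dd622f045dc8bca8db4826fc7800039d400006100c1e60f41d583ac6308e741326f74c3c42a5d51e6e7370d21bca05640d04e165861ce4000037006e90dc00001ce26cd4d998f920db04225d0019b42205bc837606ea5bf8198c1b845d0c8e15370ca0796602ab9c00003e02161c1174dd4f8047df106c7f44fe8c3022b2373785e16acc357cb5796ad7a6ca29c7d0aee8ac0861107785c6c00004742e324df50627dd55d61714f8b8290b07405046ba8d48d7085991c86e6e0000ea742b705690ac0159c00039b42af8b940b5185564d6ed310d18a4919aa334c2c1855c736128c0a9c30206049474350845ac8b696ee735852f0000e7c0446828872908851d4a3aec75f02eb0002e6a1b662e645cb0df40000e690a58482474d3a00601257a3c9e142a019b24161b63c4daacb50498d931d1d9200006b80000763060c7ec922471b0192c26925c173404ac149c19008de00006e10dc10419209333411b80d05f5500c04680d7ae67,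
  nat_lit 0x4dd80ca2201de0000172482f40bbe0000a3a00086a104ea09caeef828c00041c6038f02321320000355c0a182f80182a4051744749a16b42c6856e7f2bae2540000000703e8e7e0000001026382673ca800105a00b2c168000173e86af0406000432c0b28100000000980035e78692dff0bfda0294e7c00045cfdcaf84f602941150002ec80d9429ca6f6899700005e3c4a209482bb978e015c02ad45308e16848e7b374819a0f38096f000002d477aa7c92b0906d5e4173e815d02bccb6961b808e3ec5cf437b988e05a9f8f319e638431c006a3aa8b25879b0f20091c12500007038ba17bce2e4871f18851248ae83c4656811e4160961c0e795e4e61815da89df2c204920b821f35e1f80707a760005cf0000467e0cf87970e77535e0000c831e033ea48ee320a7810f11bf8712ee00010e6a109fe19e217f0c25d9cee20e874286410e487b60f7237348b596702ce6e76,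
  nat_lit 0x184705e5e3c80819b4b400000a801d00ab3f2a8a68fd0a2eb0004e8c36acc9d4c4e000106d90934b1c00008c000057ad976a2ede6269d1600001c28958bb31755561c894c3f3b447688ce8a0d220ba4177075c7d5a745c39b8545000ae895b840e500d700042d50b9d0320063c001a7582a20002036106617ea2fe85fc8dc101700001d10001006700cc3bc83b706e080b774380035580225021a3cda0a7ce860004e7188111bc45f300015602a33c1fe000157f01a557fb7f35490a3b081787e7687ae851eb43ee47db00092d6800005ee23b81008b782d680e201ce62f8602000274203710cda19a85ff000172d05c606e630040003a0c00014531806eebdd04488490e121b2c2e585421306f405fa0009d02389c7160e3332c600047b2388c0000441a1a80010543433000029f1c48e894000b43274000001186016,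
  nat_lit 0x210982138426884617b02f549123a6000090d33ac6759ddc09f112ba8e9700004a881221f593fc90d133c44a38cf119e133bc001dd2c2fd83f487e841aa82f80033a541d5058b096c4d540028c68be1bffc33b6001000e44288869c6a41dcf91571d800174a390c00003550012a8482a9054f08301069c863a4c00427615ce632741362ab5a30000004c19d50000d17865e6754000345c14b034c0000d16865e0d340003458197854d0002d15865ed15000001302a5121454120001a29ba48e7b1cf76ec4ac8947128be56028db91b781ac035a12882518f6b68b2d161a2bb45668aad151a29b452748800068b20048bbc1759014000005184495f2d16740b50000020800110e8457df6e895f044800010f003a10e478b899e80002188003204841bc3d306bc2676e900004f4ac8161f0e015a2540002408499601b50e6ee8f00004084422084306f10201dba201461710670002d13dd1c0b904430000689ce8d,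
  nat_lit 0x39b073c2bb0575000251f054c757c3bd02a380013ff80017356492c5418765751347f000000a15cc2bb95c34137647e0009d4219cc64988c1094200041960014c3cafec44da214460b106d012805e5d400010a9092c819fa7429580bfbf74f800362dcca0d1958bd72a9ce9e0004f97469384aa26f058a00030354b4980785b3000081aa0ed81a6cb48b4ab47768ecdd2000a652458c087601a8066000205e00024ee04f683880428000276c361d74aa0e601e40438046705de1201380006e9d803085310a51b4009b400089b88188d9484d900023a265be3bf009a80005d880032b2903f996e976d3614135dd3800089a6120d29a82da479e0004ac9158e154c13500004d30012befd962968468d61de0bb628541ef407180e0158c00b3a6c00117d43fbe6c54d8a3a68000bd417a3414252b80001ea5000deae12d124dc0834108931318c84150000ba65f0d281e00001bf,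
  nat_lit 0x18e0897e0fbe1f8000036cc0008dc87ef42ec5d378dbc0003c11782019d0670371956e18673e5662d5287349c758038d2a0e770449283cc0e7c0009d5e2a540ee81df07821cf4000bab941984342b7c1cec0003ab400041341c5c15382a684af0e6eeac1df03d64c5c800158b0003173c5aa86fea45172aeeab0004260c0498f1b1e34e28000226080491a451df6232000024ddd4c11805cc0c901928cbc4c3a18766926eaa000206b46ef015102a6aa6000035cc7d50fa006f6ea91ae456b0b9f98c229ba536c001b74c184859515dc0ef572c0002754403038801b2c0008011f6a94261510000045000101cdbfc97f94213836286cb753800307369d61733ae66092cea60004e2941c203895e3cea500020e6024c13b10990000073100bd3a99c94b544131391a4464e36b488103800313c4295166525662ee2bb60002349604029680000d29066059625281b40abb958415de2bb4002ba904ee8d14739c5b8d32a054a0008ea3659301c45760aeb0006121,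
  nat_lit 0xfcb41abb84a06b420e8243000875c96e9152c5fdcc228488000eeb869700004130d2d8000013023204620d5003181498004696aeb77090059c24000036968d2d4c0452d4a5982ab02ca0009d6c051414b01ba03760005a740234045828f0000391695e00001300a3400034ad14b24c60002d2ac52cd2a400001312621fde81d67f9c16e80016950eb500001e3081f83ab452878b23da47b9258950f24a83d4c7aa2ff8029a0538c17009f695cd2b5a5634ab6954d2a5a5434a7694ceb42d16ba2140c22cc1fe00000a44000878d060e025cb7b06ae000466f0cdb0684118273c00b5a57800350c063708fc00c00012e05efd003300029ee0056000007400101db0528282099ec2b8802c75980036322c6417ec06974ed00023e6ee9447fc8ff60a4800136caf014d3b1f84000100512b1f35829a3d1c746b09d254cd289d6403b1dfca1f1817200011cc0004a1d8879188028854ccbac400012a8090a9f7,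
  nat_lit 0x20c41fca69a8546000202d005b0cb465ae12c5c7804b402d6ec900001b1436327794eee1a5511602c805a3c64197632f0d1300017643ab726f61920d12800076380010644091441c0a550f88000064281b112e077050940bd817856a0815902a0022ec60ae80fe87d60fab197e0040b3c007c15724e821b83b700079b740010540101420d052a3a261498ec5000214fc4053e094032ec40000e42c0921504d759a04000eacc11902de55ca2b1745f055300003b0c0002295452c2b48566bb09149a40e6260a5b88c911900004ec1490cbde8bf0000107a17e400000860030033406706de000000049d6bb0000097f71da8583c38f82123d747af19913afc000116c07696ac57eeb02883b24db0ca6002dd7c222050506570cac0029d7a0ad40fe01f610e80024196d30c0008261a6080000260eca2194193800334c075e00042392153033daa281aa87030e0e3d505ba000075d80010c1638bc7a894de75d000038800ed,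
  nat_lit 0x14dd3fa47fb09159bc769e2ed1000036d5e66887804eedb323e847d8a8a95070002ed064300000220001414c3a1903e8c8a9d9e0010d851f0c361e45000065479cf739ef0238002124205b34625f20be395012a1e0009a753a8c45708af29500005a74a304a8d151c000032169ce0004392399c23f615e81b53b380001b662e946828a7419c039107243116635410308e80002ecd21a0f75c86486ba0000d00000659bcb3497f211c6c9e00045fe577d91af23647620002897a08a14f209a800017d20093fc47f5da7034df07c0001339e672908540ea2638ecc000acb09326aeab3caa00100009f147659fdb3fb89d1902f80034cdc065438c81740012295feb885200021964386816c000004c0029fd644ab042cff5b14863eeaea902dbb28002418c65c495116303a680018f400ab4483c272000879f9e340ac295c0003062998e9fe74fc00003fa0003,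
  nat_lit 0x7d20f9aa5af4f706174c2f97470006ede19ab029e0540cdc30bc5d180013b7436b08e43c8c0004d783ddc00000e8002a91f5094ae1d40ea81a2e86d280008a479424416319a4334ca78bb70001867d329e55f08d31644001092912467a409a00004b4a96963af86ea000021f40d8a44d9c6192e3f587e799bb041b083ad415db6fb012a53db431360015d1e028c051042b04f80001db4000013e0058b9b0e6f32ac000440213a000002180013efd010c021028c949c00086f41e2ebe685e9a90400006f374b060d50483b65f7d06ff3de0c824fcf153769faed8002c548d35116aa2d4e4ab0000bb5c009942407da0fc40001be8000950e1e9e164c5cda0843e2eed600005434a5aa8a131a806840cebb54000b4f9809ac6340011d88a858000036000579ecc74e063c09981305a88da0bb500023cf500a8015840c08197698003261c56c0ad6008f769000204a0799c0d0000498e9a3b0e10000263a0cc,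
  nat_lit 0x40b5023ba968000866405a40020000186c0021874538bd0d1a74310800280090010d4a5dd606fcb26be273d442e805ce0004775027b33762e785cd8003000e0019dd217f4b368d8a1b1231000012fc0a851b914dc40005a913ba05100bac7e202e600002ca9a9000097d6e7c8c5a7bf0e172eee7001050040d48d9766ce12fc25cbb9800393fc0b747d292e6887b548351f00020986a3a00000985ec536ea64827fc0011a8db51c772b51a00064ff8a4a14930e7aee400044ff5df69319263c420ddc6000414889072e5444ec14ad45c00013f929ac20227f4efa9df594c879c662787678ed02c36422883b9fbd3f7ca2bc6160c2d3e20d469a8cb5186a2ed459dc40004470bebe3d0c7a10040008420f6ee100001bd409223811f623eb7cf80005dc00c180000d540029e6627b4f3e8182388c002285450b0a15817e000c4adbd757aec047000425684a90570000c10e247209e000079a40b679899c6c1ca401c9a0c60004dd0d64d441dbe00013dca7ba0e94c63,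
  nat_lit 0x200c380ee36d96d38b5e194826285a83be000180cb149805719c033855276ef70004030910b297e20482d0575c00040620fbd810c3efcce00000061c1f705443800b14d56daa180780019da3016a02ad30085e46df00021e36127039e1b4000085140dd2140568e0000970800c293001200420088a0e04ec54305050498000047a000069288750ca819750c888fcb32890e4b00f8d40013bd9d288d9b02ac7230000bbd4cb9800000b001a00000041f3c9c8877a000870ca7b7cf6e8ff709642259de6bfa90d229130768000c0800c9cb85050500020140a1614100000278001997c32fa5fe8b3390632a4270bce173bc8001197b32f8243c485339f075eef1000228dc51d9314262242c000098700d25881da9826d7b34f664000b5337780a6a000006c000e06596db8942127c14e5ed10dbe77780060c404ecc21583020718eee6a5e001430f11ed23dc144dddad4b8002061d36ea5e89dd8000c30dc12a3e68b13,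
  nat_lit 0x104133bb84503f6dab235636ac4d585e0a443042cbc5404760b041990000782000208fe1208d3582c205800cc5e0600060c5a8ae5153070c104b2bc00041781ca6c1c022330b423e047e1c92885dfeabfa00002de4109e5625d3695a02a58fe7c0003c080010c7e7faaff4dfcf2e8c0008c7f2f2e1749aa800005320028071357600b00154b698c526ab6f01000496d1ee6be1463560c141811b263638f00000296cdee616d6254107f46f0bbfc000256300325b17b9462a839fbd3a35200005dfc3d3df42138f17540001dfa000d26002b00464f10c1223bf0001224a2f2481fd7440005261269f54c8b7900002364c7a92fcbc98fc61f8ed5483e28978d70c05780ad0154000a41c8e711d120600000cb600147e200886aba4e9c5a88b4c77d800461f66ce5e0cbc980282efa00063f0902b198377c80023c2e94b0df3a7e00009e1621fe09f000012e81483ef9ab180ca6a9427a0a36271c29300025c0c1d5000205e,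
  nat_lit 0xc191831848ec9ec95ab57f78a006000ba00001940001f4e118122fef7d88d2a4f8908974029800004d7ac15800000e00021e490fbc1f703eb09fd0ce0f130006792001b0030810702089343c480011eea325e3eb82028488714800149649b153609f70000208425860241fe401e003e061a28d505f8fbf1fd86aecf110006446d7fd28d651b01c784a082c3788000222342a4c7a390141b86f0f0002446604b8a94787000022320062d48076c66792880000bd40002008d2709caa258e44e071fbc34000002211f24ae500415a0166af0c004036945df92ce0010f0b00ae014c9668007433a38203c42f200030f983090005024800007467d3c6040c05036613481089d5978503a23e9e62c07b881b706d20005e1204b83f880c40186000024c0018f899a8c54145a7c2128abf015a02a1e1000150441779148a293022884500012f076ad000042c4d5940008a7895f00006aca2d4181450d8d441f0e0002d58de0c00004160bd57da85e0,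
  nat_lit 0x106f2aba8ef81b40000037847788ead9163dcc865359a03d000002ba0564e2915e5f07be0e7c1a38cd4d833cc5f7cbef00003c78003144d1600386c3662fbd5f76f1d000a728026633b8687a8b95e380010af3146228ba51783d0000d0a621490d907050004852c11c3b92492000152728cdcb0aa3a4000231402495e1609ec16982f305c2ce8f14cdd9359178d8c6118c0f57c029000155901a818f8015000005080009094402263f40f3005478d0d9b1fdc01e402d019b00048df3cea198432f065d000281f0cb600000740004af795ee2bd61e2c32e065b78c800023e4747424a011a0246f18040664d60e4b1d563868b94b228baa6b12f17131a26303de80011068002030405f106a41e183c05875e2c00043d28321171a8b400003ea002c05fc0c0847c1bd21238ba4000378a9357223ccce0ba38002486010b02142118000a071cb1000000300013068386c70f011302205d113260000c19945a5374577,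
  nat_lit 0x23e54efc020800000200188f93541acead9a535b76b6cd6d5e5a000463026b1430009342c03cb000018f576504044807bcac7ce39950a321a4c05a80b20006f2a0a3864406290b7d016a02c40013ca421200ff01f20994000a7842d5800001c0004680a5bf8b83898c015802b9e50000c7eb1c6d394844acb1a3c9c00134022b28565c1c4bc9800091d90eba06a00005bb802cd002132c2aa853d09e0033b5ac79280000be635546ad16742f7000002080012c3058545b10b5e7920000153416a2c2c583938200001b2000628b451611d8239c686a291c2248416791800528b2516032bc0df44fc154c2a70094791000466beccf10ce8a2e145a7260006d06e14bc296678e12b00041c283d200ea6b8a4e000021c2422f03b70c7ef21000051504fa838f310341884d411e823c88eb6b40f20000010440d8220037d8a6f0002134041aed1c00011b4001037a477e08885368ef4768cf1f,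
  nat_lit 0x9bc7dd6c5111760c1f174ccd2604035d479e158b000a0c00002cbac9a503400000f7101893333a2e0fecf0b13530002f3b3b8a9e049a7800035a0004076e24e449d06e321da5b150bca17a79d0003076c129c252874c0e9e3595e72000856a1b0c1d8c8a55d5681a079c000115a66c2c2ea05d22c7800005ac0ed07642b54880b13925504a99ae52be800097b904d663814d4e6fdce00e0931e272c996e32db40bc0005e6e5edc0e181be0000ba20004120424181f731d4cb6502e3cd8000bf4d110446000001b7002c11f823e96ff3c0c43ec15335c479a800300f401e033694d712a8d1052febcd0001262c36ee6de18a53ccc000023e08ca08f800039f411e1ae4462c527446f0002799124b11be0005e62d6fc00086f9adf800010808d72882c52cdb934630008d6f5e600a3000180e800041a18372cf789a2bcbd17c0cff121a0001762000e02800156b7a242de5c00081cd418b682c4b4,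
  nat_lit 0x1093a11a83ff01427a4000009443f88313355054cb5ef00500010c361a74a83869d0d405a692ba09c0265978a1e5a3cb0c1a8c730004f470c2423d085493c109fc0005e8c2c7d81d8c710000559000a4d1d9a7407880f2746215a42b38564f4500084d194b72704593a776c2a0bd1000193456698cd492e188c31182f4300044d15db109e813fc0d51e8400049a1a96b048cf305e82000054b0a9e0c1286b7a2ed79403c0004ef4b40d4b2accd199db3397a000003bd07798c11021f3be1de73bca0fe014b38fb149a0009e7e321834e4081000216b19106f080000c8400104610838106203f979800084611224373149600003da39321e8e8e908bc10641fab99409423efcf1111176bba1d0000225804af422435ca4d5c9aa3cf8307041b083804c4000844c098800000b00011c020e10097ac4c000063e60541c2041221e023c07e60000f3d0004e64c29f85470fcc2110002101c20404113c50000083c06c,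
  nat_lit 0x100611038c2ec5fe000402f807c63fcc0c00000154a22016c55c04ba0808d82dea626e458a8b6f000af520003012898b859554f8eb983b7076a0ec9e11005200098ac11b02e69e566c180004cd600a8000005800099fb05dad82962600003310b6944700036c080cc1ac22e25f703ed3012a000576c0008e2320b9850482ba047b33b7a88001388a8cec6f8004f009c0255ea000011d08472181186a36766cfa111000408e9c402b84043808900037a7a0b54171088000105648582d96843c0005e9c614c000012400102cd4eae9d6108d10857a6b5f900020b3c86821ba5640000059275145018050163c2cc6140d7e1afb8515f148c4f2544034c06a3b260b5a3cc00003d3000103bd16a43acc2d585ac1e5ef4b00021f243e58ead727272000000eec3c907b907146130774f4e8dcb0af343680a90000bd288f490c4278a5a310da02a300003fd000411ccd158b390544f49,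
  nat_lit 0x289002856fbd63060c0c2032ab62a6c520c553f4b56950caa182f1e71ec3ac87580006f60650c8c4d18a8c5a0004df70436492cbd100017af97a3000006c000a78ddea60a3f0aaa1561ebc00118b51ac765b6b3c42d2000deab07600b4c4a1deba00098bf184c1a0af5c00026af417e83fc0001b1a0349abb69a2f6d0e89c2d7148cd88019e19983341b920ea0080c0f600007ad80021036ecb855802cb0f9af5a0002159418483080f5000004e006c31ac635d33ca18043060bf40003d6400205ff16b62d71c5e19e94cd099a417e3d600018b7e0466021003daa3800104990bf01f5886600060a0026a03400000bf40cc09302b1017802f4083ed859eae00041a89ad0395064b5eac00001a9184a309004a06a457f217536170048000975cbe2887582c60002201057e1e8c0000c04002805d086600b001682bc0e12f5500080181b09802102d2f540006016c17583b902825b3,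
  nat_lit 0x16a22d3072e02d700005fd000406112701ef505ac11500020611f67041609a29e4000005f9bfb072801801827d98fb2c54f80026c88f6d542865fc000b6432aa841932fc000026c000c94941fd29eec6d454a8a9715302a75ed80009f9232b11b840850002fc887cc8f9629580002ef023401043fb86d282bf121c24240013dac97d10fa1aa41134000bda8000363b0048000011e38c20ff95d3256008f6c86015c05480a26c74d8e5ed20004deb02dc05b416d0836cd120db800116c8c244c6a93c80003d4800390a740b2c4b1281a4ee7b40006124815a8ce699ce7b3800512464250c662994b0f83772ec2ec240003d980010db62402a299114167f2d0252a5eca00046d98a0a140a18500d9bd900000db108803cf33c00f410fb328e213c0005ec60001b1785a80020de91bceca3084e3d89b16800315c62be857f88c80011dac3b54fd805bc000459530e625a4f61,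
  nat_lit 0x3b4a76a40000e600038a72622e8010d099da63b50f78000c70dc90282a4115840c5eee001614a08a711221ab1a0a0010537b2c02caa3dc00062a0d8a5127e40880023880d9e007427e00009c3f2b9e9f70000578000629a9a478d526cb810e000455b8ab789d374c6e9880513dd8000950024a2082000042f80627fb50d29fe71c6a1e9c3d417c981ae0005eeb039000001780008c06319e63340ca819381aaef300007f4d32613c027828451ee80ccc19805420a88d98403c0e962902d955ee6000864b8c9a2ffa5ffd37a90d621a81d1de100005e553cab3c9d01cd2ff25fd7b914c20e1a27d47518cbe0004f71627c791971d0c2c0002f703b26763c6148000577000408a70c08fe48c2979700037bd0d415b2d1df80013de60fd600010720004cc211e804100003a88069195a644cc8ac2a269722bfc281364b7b780026d2c09b86040004dfa805851495a24bfc5e2cbc79a0f0002f6e,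
  nat_lit 0x1ff88248100000085ac2e4040400000d06d00d9fc000b0492c465088da8bdfdb3fb67e0000319463694cc435874a1a9c0004410202016c00006cf81f200022a60c7a6081f5025771520000486827e88ee8a8e000020500107b35e473c8d184c874c6e33c88182af7e6cee001cf65998a33120869efa0018f658c267918c4b0aac0014f65177579ee63e414c00120a112fa19f24506ce6000d0e3204c05f0002438aa82c1d600041ff8eb404f000014c605b3d8280805408a962718d9c5b38366f7be3b11131e80500020458000c1c0837e1960702200023011110002997837c8f14e2c80001948004007c59793b496622224443c0ee000c01e9fae3f6e7eb5007bdec001003e03aa615ce253664000803d03e8f5edebd1fac000003a13800ef8e4a00e500b43472ab25561b343de80000322148a02c802805740adb9b810a80009ef2bfc8ed8c1040002134,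
  nat_lit 0x7038e08226e00004dc000c8d48278051e1f702ed85da1782380df1a00088d42b262924433086886ce7c6000110ca1bb83790f6000004b203636a801161b3875834e769b68f249d8369a7c5a6020c0e186430480001ce00001ff23fe87fb0b6716ca1821f143fe07fdb0fa0004da60f65b6987c49c26500486f8bac00017c41755000006c00087678aaf9fe319b03368a513c017c380033b3a55c08480f3708c8bff0e5dbe1800115a0066c0bec7a79c537c28001328a650cd47ac4c00016340660a810a320d7815302a71d4ad37214f36907c20420083e00106020004f231e441016f0e000067f43064f8818e2f3e0c68ee582aa0d140000da39f0600054203539342ef4086890d147c1000013982724da219b20b50c6f19d2006800780037c09dcf1f2c6ecc7ca800251f081829be103c20700014871b4d2cac8358000009db4380030b8c17247c928600010f8e6800773924800009df87f37f98cd945ec33c476d04020006f8019ea33bc7c384010004982,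
  nat_lit 0x64a89110f7a2e8804e00017ce0030007f08e5b6500007cd8003025a04d83bb054a0decdb25f34000838d8c8c191ce865f32000438e842200428b400001c5c38a009038ab6b600b000100ee01d9f08048f3e78000258c109821522d003a80780a94154601b33460002f98000856acdfe3f35451c8304100be5c001898d10c80d4d27140237cb0002319428686023cbe7ca800138b6d4aa19126422600000206440c08ee8598722b6ae00f1528690ad28210fb49a55745e54000be505c3800004200071ae62b0002b005141cea834bc9be4c0030cc819930259a41421928def92000a2fc04d8a8d251f2094df2200106b80abd078c0f116a6000c66297e085ae69c00043310bef06463ca8001098e15813aa91b80003f8c2888d6b1ace614cc2842a222d60b8c5e9b6a47c800000e3a075016824a07b33f374dacb9844f200007c780003c229c544ef8d20a9d30d30f82239c47691390004f8e1280248c95abce80002613,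
  nat_lit 0x1192e8ac007a80ea00580000c6c0ed1936310082f36da6dacdb55f4e000409705ad0b582b592300e801cf982e0014139025000240060bb0f8f9f1d86f50ded572000257d0efb0bb800006020005501a925107225f000019b832019ad1ec97392e6a6c9cd1800037d306b97d681b680010d7077d13d627aa0004f1c0efc00000e1b658002135618802e70d6534580770002140c2d410c664aafa5000026a4c119a2b347a4e0134f0ec4d231a456d92db20fba0006179004d009235ac61abe900001ce60248c9a193a73bd4b4b58f87b302e4002be8c0d21d8c57c2d31205c00047d1014a205c14d53a200037d0a5464a89027c0011f514b0843900026e84e7e0000108000c31d0728169c11ba0593e80001172243c6878113d3e7c000bbf92d72026404e1d9c000034012b3bf72d710e9472b36bd7cf0ef64c590aadf5e9c7a0006f9d,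
  nat_lit 0x28e5f6e9b630cda19fc88a80046deafb22456c7c8dd5927400067b4000211c4336000234f194e788449cc000bd49ff78000034b6f00002670c33486a40003f957f2c193d53e22440000105b760003008000f8279b8a1b758002007e00f9249bec400083652c000e659b2000005998f401e00426de000d9b7536e96dd0fb0000063147ef8fe14a90d06150e0000bf0001054603b8dac40b155442fe0000aadc409800000b0000260a2fd05fb10cc47c95bf02f005c496195c12b9273cc0013ebc432886413d27d28000b6e339a805a3be873c4000027400180b8016e63ed6fdbaef256030a0e783eb800101461dcf0ada15ac2b47d68001028a3b98dde1bc228f000002847d0c52f87a800036dd0048006193a74c57e31da43e20305052681427d600051938c1a572f3775170cfb0df613eac0020c9b3a5ca0d1aa5135426aefaa0006326891109c60b8060e4e093ea40010b6938d03c121bc19393274fa8,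
  nat_lit 0x1b87800105680150000dc3c5a01b65e3e85050a040011b86bef800187614cf49a1427317980010fb7258e55a0b3a00043160b10196cc0c000018b00921d74b0700676e16dc29b84b7087de80000c565110c5600bc0140bae0002fbc183430785d680005d10005211c3f64ad210d221ae4360ae6038d7dd80041d583a98423801a003892c20753ee8001908d518ca31c5f9394636280021fbeceba03600380008ea97d3c31bdd04000023b80183b7076a1d463a7c07380ea6e04fb91e3200046aa001425c84ba699c0ea01d6bee000204bb420d0aa1364bedc00184ba06860d1603f95000010e8a321813c41440005f09897d12f8119000012cc1dcf844002b6fb1908ca1832213400010284002065c197a0fa81f23e4928e6aa6c8423ed80018a3d33fc67f518984e509ba2755f6adbe00013baf14685694aa284d37da36f7000219645c50f211e403c41f66000016782d33af016b,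
  nat_lit 0x27bc0002dca852cdca00000130e1f98f631ea0005b93bf240001c833220cc1d1dc58c47680ecc8046dca5b9437276e4cdc95f900001f5b94446bd0d762fe2620800139a483d800108800050ad255a8ab583f40be6fc70008ec0430cbc8d31069cb0006ec001fe3a611766ac800041071aef25460510001083e1ce40ae000008e03b82b20a0a2164244446519fa094edc81f8c0000377207881d85a300032a24364c39825d4dcf809484790002fc525144a18cb6047a08f00001f880005996b0fa08ee6f200002468148c4695de1b3801e000d80053f0d8e5b171079e00d0004a6089cb0d850066002040cdc7400380580001256005800a4f1ed0b21dc3e0164a462f1edb80027e109ae136426c0000bd498ff09af0000f3100141da0b0c0dec546219d863018b97b68fc100123ef89699d332f725ee84d63f000043c011a7c9dc61dc26cd7dfb7120002174,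
  nat_lit 0x2426084b821cb7487e80001251802b00d400004488059096a12c21c437d46f98df621bcdd65ba23f3cde4197c08b211c800212d800088ed0d24011cdae00004018469001054e23fe750011180000aa800206aa4dd522a022822b00016f4a2d143b21e2800037a303603502a5c5920b250ee96ea00244216373d7e7000500dc01d4685a3250a0414002808c677e68004036468cdf9633041acabff000604801da000481da17f4308093df98000057100e881d26fd1ba83abc0d0800c5fa01a5034c06880058b6410e021a03460028764a13c0d1000903501a300100690f8e000410c00041c80240048c67a473ac21c1cfafcb000036d47cd87c40d3038e2a4ac8e013e027a05140005f94c3516958287051200007540021351099e2d026951632001c25300336e6eee706b4001825284aa0f44decd0f8dcb80000841bad00006e582cf,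
  nat_lit 0x4356c54f0118000af6d0019cba397072d485a90a72ff05fe8002b7627f0850b29e412642508c094d8e0011bb0bf8085903b7076c8c2930300036ec0fdf1a2e4af497ea16c61400009baf9a60754a1ad435c5fd4bfb00016ebcfde4b7a4359d7200006ebafdd000c745cd9f02a8055272e10a19cbc75c6fdc000a6bba1bd169e1f1afcf87c9bea80021aed86f0d6fa1c635cd6b74fdb0006ca2c91ac370322486fdfb4000993c99f024a60ea1a760005945c3412df860c5fb2000193b9ece0b6886b6eacdd54044770800000e80001dbb61e85d7100920137461cd83c4c73500008d7000203f7175a11fc24117760b8c85cd09bbf6000183f6805900b43b69248249cfd700043295edc9802177c2c6dfac0005a5998081ce8d205faa00001f997701750fd41940dd9005530da46285f9898719cc6e9cfd300050b0a160942352042b81ef666dc86c10290fde1fb8315bf792cb0000dfa49f5c39b082c29c4838800139e616005920c8a59580008c142379d7e3af80001fa2001077a3eef49a8fdd9fba965478b0003426823ec2890a972816d58,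
  nat_lit 0x2953425a35fdc66a68185890b1616300037f7058779fc997933042c4858a0009fda3cd4867000104f065f000000100040148028909541f800129251134327bc3800015c80c19490291acabd94f1a15342e4a0dbbd295ce299b920fc4000040a0000a50865900141d1378d0ee868780013f60005279d0d606a432660eb81d79b033bee7f60004279a309061281fb03f4187dfd6000cda528bf518020c56ce00084d41649086e11149280004e613abb32267bd1fd400004d203b49e41d233a58ddd000800b16ee2fe900005f4cbbc361706980d29fd0293c5ec838507040009fce8aa107a00011fa9cd3000005e000800684cf899c17fa0e081bfbf98001801c41fc13904769d4b65780020038ded414140197f28001003c298005b80a97f20000003840c8ad59f8400e0cbd88cedda9bb4051000002b00a5802940509dd81580f1040f682d901c800b7f1820f042c106820c800a02a00034cc499851f9b40d311cfe2,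
  nat_lit 0x97c12e19d05d9e0001c22000c84e1e135a7a6728080000884d9e133ab66e6547c0004240847f080a5ad0000037ca224260f081d590fe81fc425202150424de5dff4000163ebb19434aebfdbcd80207fc92af652a91340008dd0b6236416c8000008c40008a031eda05560ad066c000416302c882ea0125f3600008668d641a8eff82198433486185f339721014001bfdc11ba0e2131025840013fd87350db41a3a0005fea5298a54840200000ea6f1e000009e1618000b78d159378b00000510b50f65c99b9347652a0009bc53fd000098b086b85fd8bfa9a7400012de0d520e125ba47048de11a7100466b00003fcc0020c4218788c3533f931d3354ff200063104049004c0096703149a3fc4001117186ec3d787ae81c77f8000175d686546d819300003786011116c13626c6dbc4b7876f08de0dbc137810ed88c900000410000770cee01af3083e02e1ae235d423a4233847e99f616342c70008fef,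
  nat_lit 0x1a959c777de20008402000c087010f157001d9be283640011b4b29fc3038d5633f8000841436a60020000ccec1986d1c7820d3112c00019bda400c3693ee30b0c000591800000030d3000085db000e3234647153816182a400ee01db0b07002000c323064695313cfefc99f84b1800028c8b19085118a39199c00212c46b026ec085e000cb9995982b2e08300045cc84a980c800097293a36057000002980b6321464044b06f54dea6002582c378202b39a600005ac0000707989c3660d9ad0151cd280019550e160d6819d98830a850ca8f5900037ff894a0ca023b047400027ff2c3e58790cc0f5800017cf1eb00000052000a31e463b186006b60d7857841027fe800418f031f1211c1603306660510f3ff0001c4a73674084dbeeb3f800111c279c21cc8dae00048de24b2447000023746fe0384206dbcf009610629ab1e2e16702c58cf316542cac00134cd5d1026304c8087410f0b2a0002ffb,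
  nat_lit 0x44cb88991134638294014c94030000b50445366aea25007924a700000df81bfcb2311a7805932b0202dfc800137d2044862822fa03d8000881402601020000df40732000007b80f506500d001a483d87ff0fff00023e552103fec7ff00000db00044980b9883e007b920063ff6014000e0bd2b5266da927c8ac000991a407e289b0ee4ec40005241091b19643d8000064d8012c8c49e416c623dc4255be437c7804900910481d14a6680017fb05a200000386f8c000915114c9469b7c500021e2073012a025584a90d52a8fc31a8634097800060104744c0e0ba500006bc00021f344e085190a30145c25dc01c00007c716f825810b6f0e44d8b7f603ba0000df0defc00205ca1de81e7877e8bcf16be222600c000ccb399668812449ca0a0008fbc1c591556ce000027dd088e91095a3800014f60a43eea007400f91e04e3edeedbdd4014ec721b8436cd840f2f1e5c00080002008deecdaa9e5b0006205,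
  nat_lit 0xe1408bdb0140b2c000096a0014c009efc0a441495fb9b38880d8004300107e4c00a97452e2a6ee034000cbffbdf3344809a813619a780c8002130ccc7df56199e1a650180002142cab6001229400002de85ac80bb9ba991c1215240061242e885d21026dfadbf5405c4d518c42c3a5bc44319c160009016396806d40dd2fd35164000e02a7f304aa895b382800094a441293c21c150002026000a18c413e02790f2ce03809d09ee13cb0146fcc00104fc89fa0ada48d4e079c12809800316e82565fa897322a25012000427d1256017d02a84566fc600044fa3c651d100000aa00090c570680aad86d82a3619180021b2c4ee880684e219842e686450007011444271a417202e04a780009b384d58000b7de2a30646000003a6fb80011e740e262c8258fca869a180c830106fb6000de7386d17a2455560cd2144001168730c2d1d54e0043980780010e2e12283b295640003ce41c402bf11dcf38c711120023d660b032486486fb0df5e01c000dbec00e87820f062e402ec4fae1fe24a04a650000c0347afbe097c142dac2ce88820000e7a,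
  nat_lit 0x193d31e92022c044a5f400113d2069c0d460ff358800004750b53f7018aa1f6474d08b0000b0202a6654d4f89977d000824915de2bb845e80031a20a3b147222f4001185804600f301ea000603e03d000038071cc38060004732c36b06fc117e22f603ce014000a0ba39d8753478f8a295fb00004082138026dabad37d26f4638a33e8001a72400144513355114400139499d21cc719ee000578833f0000008800145102452d2e133b8cf457c000137447331e1d997e7c40000034006b10ca9189bfeb7fc00086700ce305f05f3800360a0008001c17a40010d10a9f953b0bd40004aa60e48000023c0010a6d1f983f248048de71bccf6e06ef407400086cb2b4c032000029a41dc29aa2090a730004dfda03826bc4d41dbb3b680001f0000081a99be83b66b1300020d3c7d801a0000034d3f1c0ca,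
  nat_lit 0x4007800e95512aaa75e0002cf4407700f11f4000039e651137986f3c02280557050f537b2e000011e000097a12ef655404511f401c40362486553e000a0511244c889e1e2d9e00047a47d5c9fd09f80000ff50002122096fa0424080e924b66c09c000432a1f046bda04c6f1629a0ce92552e084d5800021511b8d0934bf04dd61118e35852f0a607040000b388aa9155000003980006006cbae175d2b5a54fcaa7c094001001a652c140821e00040109bbf09000da00000064006007cdde381a0e100000f3e4218e8185ae294c52a8a56228ccec8d1388ce2f14002c091623947c344911922328bc400090233a570c0a19801950328000d2ee5b31ffe96c317820009da069c102c0bb90002ba2177400006aa000ce6d08ee11e00ebc1d888ef8110002676c10702080f792a78d580002736047603af07710210000fe3cd320aeb45a1bb0701e023,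
  nat_lit 0xdb09b602c4408080f91bf3043c0895c2440dc31c38ed12e600003de0004d700fda7d102fc4e9b40d80003cd8459c8b45bb28f315e9a90c56c914855aa184f309c001206a2340b81c0a50de058c0001c0d022c8464324e6120001034c3e607c20f7a0004e2276900000d54001b87903d63c0077d9924308b033000407c83b3a3161c2af80000207d43df835c00001f50b501e537c8fe10f9b1b973e24e0f2064001c22484471f567b8004e00017dea0f13d3c7a7c9b40dbd013600020620000172b88b34f4026a0600b91c450bd517a81b8c00140bc0471ad2374f0af0000b7dc00c80000360003427a82089d413a412ac238837040b800111e423cc123c245807a816800123bc4fc96ac2c4c00021376dc21c241da83b0019803a37bafde5c1940b0dc61f043de47bd0d6d87ac0f5e000a0563ac87a5246248be000424a807400002100031bd337b07b84dea81d603c81eb20540014010801d17bb11fe24007cd81480043f6e7f5cf1e85f60bf894e00066f40dea9d00444c1e8,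
  nat_lit 0x42cb4cb68840107090209fb13f7316f0420000944c0744dd62759b188a88000c44f0c2d1df1deb3bd20008c961900329230d000245019440000180001069992646d96a8191e09de83bcd041000715e0e069d3940de62ee080000a2bb07f2443a115de66000469523fd03400001a588b5438434c1c2d8004000b55469ec3869ecf40fc00021cb00b26c083ca5bc0ecf9da13e0a000607c2c347dc8fbd00005db000a01800311c0567be7c1cf81c0f400236d3692054d48cb10e781e000333ca47c44bc890281d800220f04b7c018003665a800133b6aa8454c04c8000005b00aee168e4a016802e3858008c5620abc43332ae2e1460740008468414245a713f45ad109681c8001149a00926f6677c3b30485090800060708dc960394a200001de00081c2c38485f46ba00030e14269203bbbe4001202d31a304f199400050163a924f700002452003,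
  nat_lit 0xdc01b98c450004b3f20464c94425800111405191ee20000602e1fc002928333008f44b668de11bca216609200109d31f0815461ccc3b90003824387d00064a04cbf845508a211fa08e0009c4d811f2dcc6f6d0f800049d1991e32388cd000049fa0d716c11010d508b2a204dc3d38790ea0000229ef89502e9df929526d100025f82f2000001080010d052db05e98bc546f8c1180019cfc1c141ce5f65c11400119712cec529995caabc000808070fe01e58ea3f900000741088007e010116346a338720a207563924723c77c000003700023d047278e508efa3960001326c64e15919c8159500001652fced00b00c05940b2734e247b48f600038220f7b4a350838e5400021d029110c38e2540b6800177e8ca33f2005c00b6000002a0003036c06e410791e723d104300048c78e76b4a56948b910002271c45ebd1b12a491900010f997822dd76aa0d3870cc0c0,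
  nat_lit 0x100180048173075282c00001d403e787ff8f9a2118e9f19e0342000012d00030e1e45463e8867798651e30cb98dd3415c0028e1d45441bec67285a40f53056000843e205140a3061cdb300061a55eb9801c001f05500041a5017902f652647eb00028d51adb9eb50b680001c3014dc415bfe06b68d690a46cdb4356389682a00000a1a1a28c680c1b829861900000c00000ce2c7ca0e943daa45e462090d4d8e9346000305210c4000010800104143896006064083281d901ee63dde0a2000c413b895006e8ac4a29060d8280002572a30886080a1b8278001180ef5e45c282d14cb800010485ca8b9415dc4118d668b52801d004388c82700082ec0863a09a2a5a8268d20000203a000431246fd16d436505cb8292af70000942c88e661f2098000062401a46230000710e6e800026cd62b5c56a199634f06f9412c00045206e9642e8f546ccc403880a1bd637a842f000482523d23eb257a0af00c450006bdf,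
  nat_lit 0x1fe6421c842ad40000239013f43cf484200000cf8005123c28886ca8d92210a420e0bc0010946aa1b0b681439562000c48e1a8606960a94c2600085f40be9059a528000311bd487ab090f7800010c80091230246c002800066a61b01c5b30459a9336834086f585c08c99000305d0da0fc19f838e9e1d1800016bc000509f1697429e5a5864bc1700001a8787f8a5dc834c16dfe685b02e4c00049ee00140ca820104042455746e2b40008399c56800005417221228076c0c98002715705a00020635c6a822e5450000032e13ac2be23500c801d61afe9141c5538a971500e400065f8542404cb09987d21f400005fa605cd0b9c101828a000036d80183a8074d1734b11d0ed1771813c8104000c165baf00001aa8003714a0010d73a1671c180031772282c506a6557a4800234e228260f38b7800082b005527c755a8000009c0028d7189398b8317006bd013c7140c56,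
  nat_lit 0x10004e5882708c4c457106d327ee3600000659c6b00010268001000022071aa64f003d8083000106c010402146d7247f4feaac74e6838d471a706b00040d1c80506eb37500003d070fc4e1e20acf401e7d19461ad4699000271483450acaf96cdbb80018352bb23e72336c3c7800079e800425ba4b6ccec242955fc416e0d2000c96e149b5c3a5274c1c01a3834000216462dbc5bf83ce079241fc06c000496d016d02ca73560ce000058f00882c40da871a801802e8040b0812c8a5c654198000051128887342dce20b04169d760d6200060ca0f0835406a30d641acc35800008320000056c5708a8906af83182b589ee24d19b9000183107ac000006c000803cc8a111433b8676c886b90e083080030204d508c8890cc00100ef1f32068000203bc050870800038d806600f82569043cbdd17bb0af836709c038bf83008bd1e807290e52800082f80018ba0015c02b122400013d1669a082,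
  nat_lit 0x1415113918782dc17f72fece3d60f715e89291f9521d843c5b4aa654000707a01406575073a64e00050794c60a9540009518e79000007700061d103a25df4817c02f0911132841e00028e85246e42f4da53628377707700091170c718d312234d04e0ec000c7419e1a3c366ab5a340008494092218b07aa000224a1af205ba2d680000b2e0491cfe81c0446ad455a821639c7541d40001ab60e2afa4a0e84de8d0034bb03ee00005c8000848da10980246ac098681f583980011230d0edff213404e78b760cb8197861e000203f04af094a17d0c9b00013960afe106a30e8000316c001413a2440545896fbb48000916e5f0a72188660000671833209c087c110e5b588c7b8e083900a20d301a6834c800011600046678f8187a29323239447fe0e2000c8e111bf36df0e44ae11f88001170f2e15157e0e00014000c2804bac8d300080000bd114f999bbe010fd6f8b03f520ce234c0000001c1bc00138da374a6df1f329b74234b06e,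
  nat_lit 0x15a60f6438de7ad400102940ed848d0f32000551489140000d54001927925a84b4a1b3b65c448b0870004e4a00810ba628524c2610c00049d78dca14981dd48d200002ea18c537da0140ba682544598f3916042c005b204f772190850002240c4828d291a56f540000347869212380f8eea91a3a34817fa8a913f666b1c0024210ad6365e30a8000d918758225611e4000446280686b1400094756a600000018003309886c9b660a100bb1083000405380a795ec25ef08200021920323117c840800021581830c8c192436908a00ba667ee2dab90184042a70baefc440003a0c00011b81ce05b3895cbf1183f91b52056230cfa0800383f378d6f5ab654001318db583772000240f63b200000740015fca945828aa408045f9f3d83e800416f062b530d213f8a4b07c00066564234046c19d2fe5000418f831e9f403abe97d0002d6887c28bfd70300000b2e110,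
  nat_lit 0x4c051685540aaefda8000c26024d84922a22000014200109f7c3876eb6bfcdfb4c1fc00193ed162c1b50437c25c0010c6c133e26804d142580008c6e190023817020000cb418f59f4985f1112e4a591819fc33f40e8176a2ec88f38423084a003212a89ada9011941d70108c212000b84a011b281a502c93284250846002a1262b5056a88d980e46be4004ab444543013155c7dd00042db07c016aa08441080003c248901c4c63ee60019aa85e1000284400003dd50c182df05d249f0f4d1e453c845c4800142460cb419550db14f0b88800184806b9096412bcb8a000029980082b168104833b7a423024614b87c23dc8e00072b2a5d542f705f08a8108e000c5650ace948a1d88286cc99c234002b5546fb0ad104e9010d83b00042b0e80f49e213c3846391800065644ae60dc1845800232862979a8499f400099422c3858c4f2a00008fc1444ac10307060422f8460900f0b7ce455c8a42280000aee642a242841697180f7d08915d805500ab079b0007088,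
  nat_lit 0x2159a4f522f589d185100015776c1dd62ba0ac000072446b66db5ec2e529ca4802800096d04694db843f838a0000128a0c8044908906bb464096a519040009e88384e1fe43fd87fc0004f9e1d683f6c3fd0000a8a000c5525cf485b1242cdb2921d16a318ff0a1000a4604ef00eee103a3c643a38cca850000427ce20fde009e292ec30830007184894a929141a309f00044608ba0c345007000122faadc469bba08000133f0c1917b35beae94c3b2ae82dbc5b7dc9f427a020b60a68e40001d0600007468e964814253c4aabfa083d837506e6179400195f2065037706e4179000107c0656193800029ee40fe00000bc001007b36496bd60da81b785e184e800301ee4ea90cb85f3041d09c000403dc8ee15172a343ab000203ecd23174b0da8268000003e40a519c721200f71721198506005fe0054e4ce1360004197a5a74b50d6f09d6c26800039882f6c6ec8dda1451cc397b64f90475ca8895130005099,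
  nat_lit 0x987fa618376059d0002b9d8c9c065854f800050cc04918a631506282bd972cefcc00042eec543838400003f907f01a0ca70206000e801f2dda00043bb19c0011801e2dd80000f0a00183381bbd3778119823396eb85400050cde76fc018802a15fe251614e001222b2219443413dc27fc2680018e9c2b0a913d6d79158001066c3788682a13691480008e9b0b4d1009b2800002b581b10780ade27cae5708a02f94e12a0d345c60000ea6000a1954339866c45000028c1cfbe87023030000460c380832c1ea20cb00fc72e0f811f02b81d7c9c000a14c2b58ef2b1f60002717694499300001181caa80023a6899a16f20000f0d8088f0bc4d189a0777c51e0a3a0008eb93a668ec4f8f1cb968f47554001c29527f08dc77b02391a3c9d5400050a4877634c469917830002aad2b930b28ea90000003800407e40fbcb4a96943ffb0a30006ac95591a2e815c4f62,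
  nat_lit 0x395509f0e530032731a10c0215b987730d0b504440c0dcc380042e0a0d34bc4146028e105700010b40000004c00a05d1050e0a1025642cc83b46b521050fd21fa85e900050b216f0fa2c59405e80002d2d0bc200006aa00154e82b8b431c345859305e685880043f0a7f255438f2c1e570b000067846292a35f360e66b00047841733b0c3297800120b412f41ae00004e380e94e529c926088588633042372f70af0006496892f9585023894400044968092000026580885b70add438255f893500028140ceb2b466138000bfd41d1800001c00030b7e53319c208823606faae15c00080af015b0880110c66c00040bb017837feb9c000016f038c0ec27fc05bb1d60841e351ac1572e30ad3b289e2dafd279e5b168be838c80018560c3c78f22f1038d00005d500073a4e6a510563621416289ec38bc2ac0030c5a256e4ae9271a4e23442f55000b1a3d807420a84120eb61540010e921a914f8c14c6152000d8801a9a1732cf5,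
  nat_lit 0x1dd041708e432c66590931800385f177b2f0a49b47958002293160c1bcc4984000828446310193c880000c0a0010a4e37e12634594127400cc001ad2558ae5188a3242f4001149d53fe2e9049842f000094a1807c3b28e04000160e32890e3aad4743ce67001400050158d3306a40d54883309c0001c7f342a683da639478475000002900034cce68991ffaba01aaf0bb00045cb89c60b6325110ba0002553098982090124339512c24440010b90a63463d46f200057026c7d1bb8000207b993000403ac078039d46e90b9000250fdd1f0606284eaad5148894d128a5c41f682cd459b8b3a000b0b8031a064ce4511910be617d00023fed5db97751aaf16c8b1600037430ea4001800382f90002069a33759ae2c94000898459280000880004395e3f9c82211f61a8c2c9616e000c4400e4a0f941f18db242d9cc48002395a3f9470e04200009cac1fc84268068041c0000b921728460,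
  nat_lit 0x4f2daf08b87170a0000310000159ea2854fd226543f9a7387b421736e34070c0009ab1cf4800007700042a38e00234338a4038b0ca0006254de270952358c9b800043c086fe8dff5456d4a00022544a41148359f80000012110292f06987398e712974b505cdcc3240000e3818d663bd2792dd77461e290e440ac41591907320c1dec000c320e74205218dc00009680019d1904a813549aa817782f914aea5c218e0015d1884a709dae8e4a5a8e6c86300044870924d0a08bb2093272600062ca8596163d2c8633600045d90501997a34946a400025d8c3b08f080ebb0300000e8b0254c40606f3a2b094f1b9885910b5735ef7a6480218842f8af1278651e9a1e0bca00090c5088019a851e08dd00010c4000a52b1d1804e40e6a1cd839c092286180042bc4df64a3a10950c5418a2184000c7fec4f529903ab04f5c30400114a9745a137430d3d5000095df6fd2e1b4fc3984400015ea28894a60016002049d39a7860000185ea240448105a80b5ac2700001dd4417082c7b9d0bf,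
  nat_lit 0x84d47c889ef00007dc000715ce2ba457513dad460004430d4ef19b133600010e6c1cd08c00001c01805a2b7b8000cf6dc75764aecb0008f158b9c4f249dfa4394832000e050232047c2ac15d920008bea72e0e5a9e430002ff544180000070e75800b800700104b0cc60aec68690007165ecaf05d1351a844e68d000c4b044a133d34310cc673a400004cac938000b9d015539ce000002b192a3248a5c94b60004e7361a20004a61989b15e10d0000042fe2e1ab4c10110be58acb1e96abb9cf739ae731ce5b9ca867800009d813b84248881553a2702b3456584a20c4c189600103f8a7f8e298c491894000c1ee370024804940004b81141e2840000a7b9943800002f0004124279dcd429a87188a311a19c000c94515cf6da637a21194334001091e1eccd995b3443300008e1a32f875a1c0c000070d044078eac4658dcaee4781064073850cb,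
  nat_lit 0x4517c4ee223800092486d680ca0000666800275b50d21ccd39a21bb9cfbbb440010860058e0b28df1205c2c42f3687a7c374000b5216a7a498c930a97400012950c1869e054e0a91a9a9a5d00030dc1faef8a452bc31900001cb73e400008ba1a5986d886f38c4ff50d1c000086d000181466510c9f1e3c00026fd6b7a08d0232d4a41d983b22cd442d8ca61e7b329400121b2414e16dc2dc1d5d0784a62800386c08910be817e400108a0d2a87b500023010964000010ce7a4001a91e590679dcf3b194586b800221e5119084e0cc6199d0d600024a4494302d00001f1001d03c307828651cf339e501680026962fe80f191c000009ed624fe3028c4718886c10a55135e2a0c00243543c51e3b2f004f78c2d8a8200070d44032c09581193d00004ee0046008e09e7800154509ab00001100026008dcf1000016784b3cb08985714fd0d320fe1d203a321320004c9e,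
  nat_lit 0x365eba1c51580041d30a31000602500070a2c9b613fd06f00a60004210007200e02bc8001145b0378472011dd0980001458302850f0a18a14162c30dcbc080029cba14492bd0cc219480023a1176645ca09c81384a8c80034c38b17197c1e906158002424076d1cf3175c0008d101a70c3118600000764e82c000917e2a2aad4744c046402aba155b32000a1cb131c6160c2400025921844308c00004d8003a1af8e96b250ab40b793970b6616cb439000321ae59161b1c01700310ecd0e3740a00147288e5045dc826c8f2c3880020fba0d9e1b4cee3112c6ef80030e481d1c3a48fde0f980021f723ec403f20e40008e4d1c90082000114240d2869e3a1c742220ae805d0039ff0ab8001707cdbe8da509d487080004aca00a582c0b1016582287468000a1c00018834169b3022603c9268121023d0df000a419d627810202121b761bc0010eb8b7bd3c2a08c19fc000daa094761e5a6ba,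
  nat_lit 0xe0513281b2436386cd201ca25026580028791e893cfe3fa0262000187884c10000084000b0009a76132a2ca05944b2e84c6878000411382dd85ba86030bfe24921de000c44dbaa9092804b40961c2a84480021290d2e5fdab3d4000894733046624f2a00004a2898607b846e112e144028780cb7456fcc000256ccad89a4c59990ee000056c8a592b186f18c88144e436486b95a400062da165c1ec60bd00021d907b382f20005e6305e400001a400113b68e04b0057e407aa876800136126c0477200009d980e89daa802612ec2590ec1cfd36bc4d29d1143b00001205240252a5fa84810901a9a1533ccaacf470002875800516882bc8000856cf46800001c000429687e845b00b70303a7a2e1d4000ca5714ac41f706d869d1579874800229581b9855cc24e1bdd0e80002527c3ee949f29590e7000052c4a54a34f45a14af07f20fe8e799b5436a6e8661cc000098f9bbf24d25598c5869683b940e2000af79,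
  nat_lit 0x3a4f00020e6749e00001503f4c7e1c4760006e931d26c3f40014475243c05bc3e400049eb972a1dc8000554603a4c2c986949aba4b7494e925d24054800087b2242e1c2116800003d80640020003e09841319085205a00070fc1f0a63fdbbb23ee2fbe000a1f6ec8c679422540b000061f44f7001300210000715000620c502b41a44ff601c00044be4812082e1c30aad00024be0c7181c003650f900007f64fee98654ea8b6713a42750e709ce0403217f02feba4187c000135d83ea03ff16880154029e1ee0000b1d8c5818b4dff805c6ba96cfa3da27a24f4e20a000287b0d5519f233ec67e000111c44130000022000b0cf0e2f20d03b4c76961ea00109b5193728ca51a0027c3d0001c3391248249836e34b40010d4509cc13a0d7400044d593730e1000012ba0cc38a236ac6d4913a01ae0345d1b397800190db03da1280000245434a869d08e10f3,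
  nat_lit 0x206030df88888fd9841000105faeae5d569b380000301755009b80fe0c00fbaae14456e1aec3603a6a74d310d000023b850900061011a980dc00e101c007e9000310c01acab7cb59800017f80010106020856a0ca911da23ba216000062113594af66ab69ec534c9bd378e1fde3fc000bc428aab28ef1fac3f6800b1b9c26304c4202c3f7400ac425120c4c01fd83fb400a44201dd83bc1fae004cb82ba10009044000013ee25f84c1476a149ceb91d7c3af6a3fd205176400051071f182f1c79e0f3200028cc2292000000ce96c0008d6731de67600005c90b8e827cb9193e9713c000436c59d0b3d967f000022a00009d7637c917422f45a09c4e44193ae47505c6b1cbe3971cfb000710500b6e9b5d37100f027804e40014410745995d1ae073a0e7d8001881830563a87b34e7c00008813a520012dd58e069c0e6f0e9b2009d013688080084c3e7ec0fd7215f42c67276200001d30f121181a641a882c922f87f800688f46c2db45a55a38370fe,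
  nat_lit 0xc0680887278e530c7218dcde4a1e6000b11d8e6d1cdcd6b4435000911c441e87b90f4375900068625034e4310f43758000415526d4306460b8001003aed6378687840003a0c0020b256a781a44349c43288d8003164667c13fd248888d000227c2452c44c3550000a4b2299d16f56f2000058f8029291251c4aecec51d3fbf9c0000478238a4710efc120d1a410a33c123eda3881c6a38d8000e232a22d36c9cdf14a01dbc0014460636c6a60ee0000514a1dcc0000005d3d000410083214e34445c00091aa134a242c4e31c7c00011a70c811a96b445eca3230386070a000e22c24400ed81e124ac000a22a1ff8d79125500027110000e9d04ac0024183bacd06fc407c489c64307040e06228e9c800403063a945a3037d86fd855ada3e226001c18441f6433316c914d80fe01f311274e000181829db656d62c04fdd4445d3780050604b1816372c700f1911074dc0011d5d830f7c9a998cd95443dd3680030602eb1c1b9a4ab0e5b10e,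
  nat_lit 0x1ea595b409a2134c00026bc000075711a46f70ad63d8c895875940be957891e8f9903080620c760002895131723e4e5e496b12d81d020006252499d58118a8315663a0c750000894000070da7eb0c7398e9893aafe754400a00027f18fe11fd326a64d6425c04b91a17126000081d103b05e70bc9125316c28086f90df732aa0009da247f08f32b992a860005392865d4fe9abf67fe000047000142dd3a9f002827521fc904789200040b7216e8b98071076c254be246000d2bfa05649bc93bc24f9d04001123c8bc83d504be000451f15322300000118a0164b24964531926308b5265a444d0895752f1224f56000002c00091ab3960901311a4b6fbf88000a5a3180c06552120001c17974004fc79a15b607700ec8baa1d000009a2e6461677b94f8aaa00062423a9473d925e8aa6000224000105b68f8c7e2cfc5df8c15300eec1d3a23e000e372c6e645f0261954e00080df01bc539c85b00031b89c9f41c019c0000013a06c3d50b909549aa9558db1bc47a98f54751711e,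
  nat_lit 0x112f99856362029e871c3f9833c00032a48548c06800c11327133000497c056b8ae3359652700022b5c44a10c0075113200011f28b9f973d0cea5ee70d0631d590c6ef0040001c004800a89880003cba0225676e6ce40222bc0ef4be5000244c06c58d8d1b21072515200032d3006d13c40a2414600021d00df22c60e541837000125a859701ca03880000284003856c4ae281d1065aed189780060ad2942d27d801887080050ad61a6c4c835248513ab5000209b756a00004ca1c5c005000c0004eace25c00042b6898a0bc8ad4000015900141599ac8ad434358eac9d58bab0896933e2686ff78001196ca7500d101b80004f4440586d800001cc00060ca61950329065824542cd2258001403f80786cb650f8ba200101d8bb0a075000400060ec01d909670a780020eb048a9aa32044000b588193e327176200002ae000dac322bd7550546,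
  nat_lit 0x42fc61fe4d718e6e2d3b13e0006d4b5feb0c091da41e80004d4b036486c840d4bd30002068c0d20c18312800017b60496a521b182ca002e004eeb8c5ea0bd675b913d0002413d22500fe4a927d047808f0e22215128846de34000c4f0017003105180a18bf7000036d00044a2468b88b991724a3a4260140027e89d80034a22286850e0816102a3212274000845c060976f2376025804b189c8001108e2121157810275d00004a230eb1289a5100caa50d17ae8bb96862d08460eeb52270000019c00881a50e4426f480c0e388562000b1374e52971d334856000090f30a24318c2f9055b0007136555ca2842f8055a00044b501a020bc2b180011c889ce427e15740000128001a355562c8cf919e855889a800246a200b80168bbf87080013db25f3908e3d84000234b00523505a0a2efc5e113916204eb262680002260005a25999f851b61d143a309db0006b418ba11b7c137826d13b000092e25018ce5c2f813b200056540bcc18403fc000035c,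
  nat_lit 0x3e706510351dda75fa01600040ff007200dc0a9e45d071ac52000083fb3cb844a4896c51c0000400024840025543c0478100011ec8b0725aa3c040001c44002c84e909f214175833981212112822445180022ec71ac01ffca04020504181895782000e425ab15410e235401800097608768008a00e4c2800047dd88e411ca9370000bb0cb031f9205f35d075e400600120000074d2282d2859f3f1e8f7c00000028a28001000022b4bfdc51014f829c0f501e9d2b489ed13ce50dc001450dd7711f11aa80005fea001a21ea74570745115da1adbc002a52c6ba6031006389e320d00044a5c3974671905658380034a5a3968839a2f53b880020310061812811400008a04140a136000034601dc9499ae6b5cb17be2f888f197f823d2eb9a2843004902445782f81e7800145055e510e888de1e7c000c19c022000007700066a60ff6460828904a0a941c3cdc5000028be41b302f187f307600ec913f,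
  nat_lit 0x551f0390efdaeec462c4d99d8dc55424c847508da11b80128021000115400005b7c0445b807ad8f5a1eab017872b0003409c5b826ace024ddb00023d8aa814b3a6ef0000870dfff8c6c1ca600002840010a7494ed1d527878ddcc10c001aa8629a8267450f2e8c0011ded157e5d395140004ef59e7786dcb79000077b801477ad76b486a90d2008000ebb108a98000002a01614e429d47ff0c000962ee2400145482398476155612a4000c5445488ef7095000004c20010d12a8ea42fc86082d0859d095cee1a2a0000cd141a7534c0186430935cd073714f00043188293852110720290002912509b04890070000344ad738d3281289ca93926fe63f41d843b077a1000050a5143490a92162bdf14e50a2a1306b4048f08bc11580014534d029a03122e1160000ac9c22a800001c000577921d4495b362508b2114e2980011de4075473466d604b0028d8a580033bc0985a14c087c12f514a0004ef183a7966139071490002ef143a7165d196e30f,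
  nat_lit 0x1d846e916b43fc8761000006c000a35506a889b422d62e705cf952b8ae00048bb04dd4b5d1672024d15b0006354a0358eff1be4208a2b400089b3877f4470001232e3bd019400009b680049b5962f2c5702e16b62d6a74cc7d11d98bb28000096f37c879147b20dd3137107312dc6f9894a91b12360463c88e9121000515978462ca84c611200002b198538319c7ef000005480061e0ce07e297b7d5237046da2b00014aef012e02548bfcd091a168ab80041a80232846918da39880035acae4f91d4b22c0010d3e1c74454d2120004778005804f80008d1c0a45ac28d850f0bb260d6800229480c5818f04bd0036c830002103420403420868ebc124c40cc000a9a0a51929e23780000a700018a7b94f858a4bf98ebd9d798ab000554f2aa45233a46648d4d7f0008004000602ee02040f7000677e93240d98143cda7000477e11a5151a0c42f790002003400514410228000551e022,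
  nat_lit 0x42dec41bc8388bf30d4516a00065bd4015002c348620ca2d20008b1187560e8c1d744a80004c1107680e966d998080000b7908f65ef2fd474932269da8bb50769eed380b23d3c29280012078521000005e000401944470a71099212d9de545a00008a7710fd151804934ec0000a76727802ee2ce0b28164857f2fa8aac1caeb93e8cc200022cc000885c10aa4862ae4dc9ec6608b28001842c2c483b0074507008850001085885a8def46693b83a6c4e989d0bb48110994c32ac45a894780018b2000321cee218a7d0cf81e9e3d3a2c6000a1ef90e47df04bb4b220004872c5b95ed405e88a4000087281b08718b3e133e2171a3e94ce00051620d78efd9dfb845e08c05334000c5840e80a0c00003f50006b4596b5147629971600004708cab28909179b0a20002b4764413a5b13080002d2800a5a32e938477bb3c1f4881f25344a90605033c0676000a2be06a40d59bd205440a6419d00018af172b15b057fe437c616000115d,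
  nat_lit 0xdee0092757d3a69aff72105c34ba43b708b9000034465f0cbe2c3402b2856c1fdc3fb61df16012bfe001000145c4b5120572bfa57f800195f05fb08201816000a2e000085fd00012078bf5000005e0006248dd3306650cb857e4afd45bc0010920244103b05fd2abc00088e819e708e91ec0000490895848f9d5b3ac8a7ee1c9096b76cc03786d87cf4f9a9025000316e1f547cc88120000372000316a021bc439985916a437e5fe200085a7c811902454c0a9b07608b6800105920b3cdff81d8534000005900b2cc1185985a61d673aca001c001156b000516c71b479b4ebc0b8e000c7534a6667a46a000052d5114c3abe75840021564001092b12588e8c784af78000c3c71798f664ac9246400043c50050e601cc438f4350869f000b0e876b400001e4253c000bb581593b56000029f8e785aa090306a70002ed562d62338bd686a10000119,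
  nat_lit 0x6f0ab34566c000070eee380002e248d6224085e7c0a007080ed10083b1c5780aee0cde150800045fc0011c6a692a11ec23c854d8bf0001829e7205133a2658770000829c72052a2a52164402f605e453c84f315fe1d6c00122fa24bc46288c108ac08e4001c5f0c9c15fe2bf83ad00012414eac8001770c5461d6000000bcee1000439a727f6056c0ae819e034c3ac62f6001d22dc6690342069c8c2868f8bd3b82000ce69637eb9942ec25d8c472ee0400298e42604ff00aac001122bbab5917e59348d4edfc001a45503c807b90ba000922a08210a68f021a74000522aadee3678a860000e67cfd1c7a31b4399e31be9d68eb99d7c028204fddbe3b7b8bc800108bc119885204f542e80003f92dfd9849028822e03cf0790114822808ac0003178036a4825b24000025980073ace75a644248833d54113c22708aa8bb80063ac713fcbaf97551c4643a486c45d80029d6535586ab4e9209b409fb1750008416093798e84b4ee1a62e8000ceb017532ea25d403ce0008eb1160c170c38962e600052ad00bb01a0c0c,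
  nat_lit 0x1ac8f8c52e7c98e29dfc0012c8e4110ea588e00005923357c06800003f9803175b1241e48430f661b67599dd3462c21b033677ec46680010ea82f2911a222e00002f400184dd046c08e30d361a609363a08740a31400155ba349131d4185830805730ae1189000826e0235046c700e63c0c774620001ab70695c4818af20009e06bc0c0cb0001329a2f3826c0000aed016c4d98a9e000e003101d800a8c38001238c7120e26222f445c24ae30c39303db87ae457854d8a9b80038c2964789f2579626800028c2061c0c45133c000ae88c6900001aa80098ac604c80980e601cc254ce3060020fb0bad95bc279885262e000038f8931c11c7198aadb00031d5c39ed183a306a24400299d22c6840808f3ac21dca000004c202f0002ee4865eee40000013229118518ab60005dc7c6080001b3a430e965d14a6ce4d9d25be5264a218f559eac16362c64f67ae723324664d37319963b16761ca903b90771eee39dc6c6040000de203de0770d209a440bd5180,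
  nat_lit 0x35041da34f58e2a8bf517a9ec5c96000f8cb149f1d1a3a2ca67a6014ed2003a32a24f4ab61576723800363287ce8904120b723600300a88751007a7660016119163514fc8c697810000998000621b4f1c88b806520cb0615c64c001086c1c365d7c57dc648000886c2008657100e000039680584348b5f0e301c6e35d1b650004ece067c0ce450f1b64000290c0e94683cdb7000040e80086f2236acd28c77e58c80071c4a30e861dc8cd8c880061c480c89e03c17b797bbb700000984eb20001dda8a592f7800177662967762000009884b090412060002eec23200001bbf0b558adc7a26efa22e88c5918d2318e522329b3116600eb0e48a4915643063ccc7a1d624bc0eec9dd8bbb0775eeeba31e0001c6903b54738831105212140020da4e6b960b4f801210001c63834c869d784200091d2428a267026400024273136098c0000278002bade921a8f162d588be07ee0fe42404634002324a432a45745530aa906b118c,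
  nat_lit 0xc00543c9981214ac133c266468c002801233066ad444b88992d911a200080058d259a4c03ba077e342000c008a3ed2c6a173ce400008007c7fb5a6eb4e537400040080390072e6ea0000002c0d8ef7446d089c77b602600006c200445698a9e1c160ad815ac68f00038d00cda2534a8980b8016f000519f7dc210a02178d1b000272c733205a80b6800008c80012052393862e105f8d7f19e00005af4b5e08c86aa145b77a800a000112693400aa910ae80322c805140a4c73673d665dc0014674ca9995851471fb4000c670cbb000000f00051d4437e869e16a020dd19b000831f205e0e3d477e8f022b4000c46806ce0da41e05728000a4231c351e14b130002088010fa96800008ca41ea1c21196ef2804a48a0b34b8bc05fc0be02fb80008cd00041a845da8bb6119415ba17de332000c6a0c4aa2edc464c56e01ea8cc00021a9467dd2292455199c07a232e00046a21be920e6045,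
  nat_lit 0x102e60ad4230445f0ec349407bf80030b9701b05729cca49a4938e35c00082e20f92136226bc4e946b400085ca3fef1290dae054c00005c101105c511f85215dfd3bf951f0001020403f98182efa5f811ac908871c84c509c925b0f2dc00146ace788cdd540a8752222bcb600031aa0e5600006aa00113b0c908546689e62213cb48d480034ec2611cb619acd03d11a800049d79660134d838689100029d790e2a1c4543000034ae6210c8980524ab8cad1a3231a9df8869ca0b90ff0000001040200017b4a00c3c4e472c54d469c77a8ef629648d0400214cc3f907f41ac8000d0728cfc6b1800200005ce0002359c00095189b600000420003264e4cc1087219726e8caf00044c90ed2a3ae8ddd0ee00024c888fa8d733da8000783e1102642768d1d7495577ccddb000086ad0d521f9374459b9fc48ea55083b53766a235438480028d30a240f281e4826684ce00031a53c2e1b5c36a070a00011a4,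
  nat_lit 0x583800001d0004124052a5e0f001309a6263a36e000c65198ad4926831d55e00086518ca5107e20f236c0004650115e736a5850000f9b0220246e4c53a038e402b1a3b43c160d8000002520ed024e331079c0b8b00051b579881a9c6748b8a0002fea89851304c1000001b40005009c01283e7156b347a07640f00b888da0004122e27de4352b7856e6c8300060df41bc102f7ae00021228ae4c7f610c400089160556082000024500d22451c34b0ad05420a6d6063c0c8d9800009584ccd652850d3cd04aa175637580010288000bc0a00500031c1cfae95f33c838d900021c1720e86ea33800008bac1f36998cde400002e7800d3a839da5d0e41324a0000581b0ad9131d24f800246c5218905a00061242c86a9e1537389a0002d00000e173e038082708f211f47740eee1dd51b0000c17385bc0b7915aa394154cc445dff80050b9a271847b08f717c31af,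
  nat_lit 0x3083922a0c91b51a4798002083888305351780000bca0083112a58cc000020d8019e4f846608c325fddbf3c358e00000036e39504be05cd0ba11bf036c17b42fac4b8897245f4001c6f84d20c6319b645f0001243002a0ae416c200046b82ba0000001800100642f9e4239009917722f31bd0002f0e049b08f800704d3000001747b59181e1b02cd059e5dd816d82d7236423c5e16c6f00001d1406980d288482de00808104211c00044f81629049a00d00000db000f09351d607510eae61c1007c6ec0032010124034c4309bcb58dd00058496a9887928f448dc8004849472b82593c9d2de80034021037932c073c001200f2de80320002804d00b84d80001ed40774245474925724b7c99774202544883bc228dc1b7d1da680f42aa000169d150016121548000050800039b96660ec51678055089a92f309aa135c4c900031ce0e283b587698001318cb41967f00029ee,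
  nat_lit 0x1ace0a6de4d0e654f609ec800193586058c072b0267653d927b100051cb78bc01b24c6a7be00020a639a6a738ed580006aa000579401efc3e03b6392c4eddd3dd27bc8e500040092f16069f85e10bae326464dc72400182f328c03ab85160f894d0000205ea6578c9185ac000804600903cb98cc00001758019e4d1da27762ef35dcd2271789b1c800004bd514c14e6086210ccd82471c97a2a3c87caa8f914a20788db06f04002471976f839207325d1c00181b81bd84956e7e00087761d1224614780002f5f22be00000d80014c43c4ef89c85efc9f12ed800223fc27d43c98afb0180001988672ba6234ac40008c430b2a3b0a11a00026201dc683fc0001886034987e936326c01f483e70918f10638a000073c414e190adacde4841045d841f13466b5356268003691041d0840852647448e95898000a388807630d95522a9e00058340b10701154e000062c000c1060f961f2b3e444480890c8e658931c3000af29020c8e6f207039ca0a403718e100047946109c935817c02fb1c1,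
  nat_lit 0x3f3c7e68001190b99f0000016001200280009b2c32d665b13294748004000900004ea89d5c744a40067c0cfe2ccc00189f0186830c144c0008d3c288c5148a2800021ea1258000011e0020e3991cd238edcdc120023e4ce000738e4660ce1797814e8800638e26bd9cacb29621580058da2995e1f69141e3400010543c66000025c83b86c01401800278cb1d00002a0088488570000290502da8413b7326c988e312078c8f18de31376000081ba03769b246c982980000d38380a277014457d8afbacb72e4438d802f80018e7805300ac01980003d480038ff11fc618e9e818630934401a1e3447380030fe4181205e00bcbd000c38ddfe28000147f79e5b319e828e1c90033844800428320a7011f823e19dd1cd00063f847f19b4e2d5ebd300043fb091d8be364065b300023fb4f6c3303312800017dc0491fd2e92e4e914ec78c20151e2c47300000d661e70361c6c58c7b19091cc,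
  nat_lit 0xb802c025004b066a040c082852cbc8f8ec80040cba19456161f93097b0b90006695ca2200004e92ddb5baf1a456f42aa4ce70daa259b240800109a0d5d1d502a652404000c7605dd8a8114fe0001788000c0ff935d43fa880054a38640010201702666008c4000410102172fc000003fc00103fec9b090697db790a0cb234a2ee05dbb8dc0000baa0000735491f27dc64a90340a8c0005aa8001a4da3bc522603975e6e838478980052420253832a065813fe150e3ae00124d949b300a8016805e3c8d8eb00035462a8d58cc02ef05d71d5000448344a5bc8e015af990002679c54a111e45a00000294052c604ef01e3d8058000bc7e00383bc20bc21a803ec60f72ae2744000c47029181950330000023200053e1183f038e07144e8475000027c434ce32cc4c2611931546e0578400123a6610144eb0d85782000d1ca775544cabc000045e0,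
  nat_lit 0x18402f12121824480018f08b1a00000ee000e826c8ff8d4201460280774157b8f000062722de702b505652ac655963be00143afbd6b0ed040340d7c734002138f197a38d06561d78001808a01183eda3bc0008044808607a2da90002494c5350a6c1f40000412e51127144d5ca021401930c1321e5247741408282744ea454000a3203cc800001c00001698b2f965e9e353d3a6ba63b80484000008c00303bf077262563b181218ed80058ab828d90eea1de18f00041db005c00b400d400196fb342a2c28b4e0008b7e8d2020b426e00025bf23240118000163d0520ed31d9cc39d8d2baf0916cf26406807c80fa803c007cf29c05380014c98019013d18c06c4800036380021f183998d1390fc8ed00011f1ebbb856e83680000f8e2bda9ee1b367b4c3f0800058b0003012c0289d2787dd793000216390a7c6b5097c00090c146ca302,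
  nat_lit 0x29478f06de6a806b8f580012042374c0d40000ebe805a51cca3a9496f33c02797d300c400f1e63c7a80010a2e70381b0836206870cb41940000c7a4000ba16788d281500e0001c0d06404f405bb0b748f9cace80020002b8f0000000440b08102ec63ace3d0f30800202a000380030790007000425c000600044ca000c000096c00000e701c6de347e50fdd00091e77978000c7ec00e201ccc6100043f41b530e1300700011fb43f981d437640000fd60030fd887fc936651e3c399434f2e5e5c3ec800183ed07d0928532aa65610571e60000f40de810302412c4ad5e9c04fd8f282e831b0879c7b63926000668d2500ac0cd750ed200051e40c7818dc69300018b818ca000003a00043f8c7258d0d2dac5b50767c068000a5fe4aa0953c3de0000f9181b07f004b9097008b81168d4679611e3071821200af81618abc55c0abf80038f107bd0f7d14a6294157e00050ad,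
  nat_lit 0x3ce800000980b140001e730a582c6000079c832f0db60005e710a59e7000000260585092c12500053cdf8f9800041e0e8e19289d0d3a1c751e3e415182a2c7e717802f04319000323b970b86bb0d78b851fe90c620009e4a42dd321863500025c10c660000220002c438086e16c61a4434b862e8f8800a105220b8dc0a3b8476468d001234a62df1c1c8a9246a00102af855f8ac325ae3ef000e2af407680f4136a7b179a6000013014a00003cd114b13dc0000f33c65e4a28000bccd14b3ccb000004c15b6219443300017994e920000888d203bc024eaa222235c46ac7ee025004a80cd80c0017d0cee4b9de693cd179a0f33de673ccd7998f32de653cc979911f0206ae82000003280004567245861247ddc4d851f8f420cbe19893941a6a00031ef34d600000700018ec30b78167a89251259a688f70005947ef0798caca0a941230a5bb80010ec21d8610e621e0dbb98878f680035e424e964e713ed7b411ec,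
  nat_lit 0x3b254d0318a800005e800345728ae28bd1b1c00de01c413d17a7c7ec002c5718ae08bbe07404b5095d1fa00085c98947c40113b8f45d704000e2b7a2e84fcca99c14c0008b9343810cb00012e4c00a013c0000b9303ba2b6456d8adc6221e2fbcf62bf0000138e26fd8d8aed165fc7f4a3f253b8a77989023f685ae41d4848908e0002114000c3720d40185026a432fbd9d8fc00020dc6848219f211946132125daa00042fb03d3209cb6600001b501da1b8108f1ab2355a41e465f00108cb332e05700ad0c39374f001e9574d323f4c7e80cb7001c6f8035e06e0c518cbc001aaad25d647508e88cbb00180cb10d4168c2cb800b62d8004306660c4b1989ef13dc27be3f0000cc1909db0aa8f5d8b6342ec8fb80050004d1d1dc22bd338fd1f60002cb049fd93fc22747ca0000cb0078e40060b3182e0aac1094212049a093e00563eb1be90d284ff09f014f800a00018fa0ba91d883af8d7d053e00270e8000c0d681b0053f0024c6a5f984ba89748540002252607ac523cbec053f00200cb,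
  nat_lit 0x77660005e8b0cbc18a80007a282bf92680fac1f500037a22f449e89c828a93472619a60008e700af4160000148080a6055000001940018003800a002460a47878bec1ac6df32412002400a215a0aaa155db098f186d08008001920390e4a1cc7db65eda410001c0080414082f19216749a340010003000cf44c204040d9038005001648fcaac8adc90300040014b96e1260e80902bd0500020987a060000098f654dab00050002f409f920000005a2aa2ed41ab00145301e3b189d2d245d0501006d10d962e65e85bd0a7a12f421e83bd067a0af411e81bd027a02f4024084d2c9a6197372c6554891c000490180cb019838cda3c47cf7584000e4041bd46b0810c02100008dce6b980840107000271127f400006aa001115186e07b801ba071b9233900800327d26238d46b982145320000045d945848dd029971ff0002fb8856144db12a8c12000052d826204c30d594b54d8052e5b0e9a760f44f4063fc00041280a7918b91cf63fa0000127b6ef82529ea15700960129025949a92555314c62b00031fc,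
  nat_lit 0x811829196d10957a5e5460eb0f8b8f3388ac115a5bb4000bb200013a3e327064d0ae695d0093f21100031b845dd845f08c121000011b80f018c548b3ba3b747d1b84ac51593669800493902bb912b94bd28403b14008bae2341124e380f25300081be01cd83a920fa618c007b47829e05390a7adeb4007149a543991d1da800341420e281960328211c0004ffe9da0e811c1700001ee00021a6034c88c10828105c846483c00022862676bc3ca564ad4000023c00e001b000035641bf259e4b449690e641cc43ae49ba3726000241c000c296811002184da49b39b9290680020e981d1848b0cc1086085500025e759c72cf760600002f3e51122ce0d881b240ee168a0fdc1fa800e90612128d063c6d3dc114d001b20b7a4400001303b140003d201978ec50000f47865e3b04000bd1c197bd16000204c33380005e8c8cbc18b00017a2a2bf,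
  nat_lit 0x4bc089815317fc12ef60bec195deab06a5f6c000a43a0ea81d6b1445f6a0004d8029c000000e0002205e4472c16171a30785f6721c0006817447608e9307260e8ab1c86c001205d299253212c30ced874000116c8df94ffb8698000205c00b22705dbe89c8c0c18191c26348db2abd4590d32796cc2ab548f480003e5000014a807540e897336ffa47a200e294dc01b65f42ce35a506d800290c899e130a1d3c3a580014d78dc118faba3174500001ff80061fbcd9c60153689486490bc6b320d890c00051c4454312739d5b37b455c509ec85c00242601fca3cf879eb78c90b000384bc0394073016254700021c3c135c26791880008e5d1cb61c200003f4c1983f5c815102d65cacb04eb9bd3990a91ce485a46240002a18000955000492ec25c052d0a5d93ef000321438d890289fa80000ef0005020604109440ceb0eec1e1c9fa8d8b90980040204040c735830205fa0642424000ccf82d06271e53cc52c3ac40010d8736026bfd5d6000596e25841484b46,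
  nat_lit 0x835b9259a81465ee435a45a000d45821bc2c79282173200082d2059d3caa81ecf8800042d185a0469a2e1961000006b58d687cfa8a51ad411202228a7714ec8df0d271a4f8e88a92d0019ffc8f20bb5976d2e694c643d247a39932270ef59a45800007442a5065d6267842cc8ac69410d80f2e1e7007480e411042d6000248a9401215907420e907699d720007229011e022cb600e0055b4000a45064208ed9d633ae000052b27b880000440002474426b071124e09d613add2270006ea298d327bd4bb87a05928000826584cc35fc526644c000426504cc2d8e3bb000118440743cbd7be826a04cf1dfcc0f3d5b912800190d2897253517422dc1224000056c000c5ca42f105e523940c90194bdc61e8c000e4472051096a12720f841f455d8002911077b1546db7055d00011829b7f0000355000abdd97bbae542db2db6855c4884002026204b01a91f05be0a79d80034e247f14dc93c8c91000024e23193c86294bc0008c3c2a823b9000079fc2d4bdc17fd09481288f9284813d4f90f800125e244acbbba1b31db521e,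
  nat_lit 0x2140a251047708ec06480012602390c04b01140000f730110a027d3a8a0255b3d111e267c48e69bd8591c1c5a1f60493c2f600f0000123700020e8c1f23df301e0b5300000e842c105802c04ea907400954127100d89740f7400248d95daabc57cb807cc0fa800391a80e101ca07300e8000291a177e2efaf7bc000c8cd2a200f101d4000162600045c483d4001000091c00cc776eb86da8d35097998f4187840f147af723200032b11680112f76c4396e1720001013812545492cb193c3268d57a2c04de2000e46216a02d21ed93db69bc000148c101015f84de00004e705275375800003d0004630872fd731b0a7652cc309376c8bc001ca87652efd3444a889b6c68002133826a04b5a0fc000b181397290358cc000110e80198bf9efb52e72c3d80f096c12cef5c245c7cc4f968a1013b6277cf85000363913ca1ccae425c93449b3e120008ff44f2ccd1212f424a00061107c200000d54002a8ae2f3d2b70c9719313e0d17a,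
  nat_lit 0x2b9c4c60991055a000cf68192431882ab000479515dc18a4155000110d02a600000697b42f6880003df308b3df205460cda3f547e916302c540034910208040922702c6a3f4000500092432bda5b345fb118d269200124844d363f30b150006f67912201b802d80570004f67648240a058a0b1000024310000b2880001519ecd3d99001207f985a96ff148e2915658c901ecc000803fa9911324ca8b750b23f7b2e001c0fe2e95618ac3549abc8f800301fa6d4c696c64b0c997393d967b2a00140358069311e0797b2800100fd8ab7157122e647a000c0fd852c0a4b23e998c00080fa979c2f3321f4b2000040fa17a02f3c67850f800000fb8f1205209d503ec0d8c1b227d42f8e5f2cbe6b8cc3e567ca25514aa179989111225988d22e84ce80253d917b20f63e4780000ce119ba2faed5442c2ab496aea507431a0005d7020d8f38a6394a0e0001cb400224df0e3b26784d0112d225c91d8007937a3658f883e0908b2da6a474001a4de0e3c91366fa5c120b6f16d80057de805300a438af0c0d23900084c12320827b04f2eba0006ed6973083920720494,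
  nat_lit 0xae685100a225fb068a8f5127f43d543b387693c0a780cf0127364b643d3053a0a737b88f709ee0bdc09298000221042608503dec026425624a4441c09401260242048dc9a800492881cb03a2605c64b8c987268000e4a076fdd073e690a361475c9980029278f395f90bf1c857000192721e30000355000a044037e86ff345868adc98493400201181dd0a3254651be19260003022c06080bb4361663000202244368c268ca9556800102223ed1c631d6f09b8000021a4cd04fa0da00860f917a6cc0ee4babc1723ea13a1edb492c00305130a2020ec0010da482007c10f6a000514a0a003da00000098004025260203bfbe823216f9282c1883892500030250601cc0497f2121c242e49200080928a3e148639f473e254c00081200c34082000004880d200b801b1a5c2e2af6b9fca50703ad0759887a73b40023daf9243b81005400a005d000027c000304203bac97812f1017a02e648e0009ef4a4087bba9520002084cf1a1cec224000004220310030000c5941d3a8d16001ded4c91800026910b509360228046d3a882ac0009245,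
  nat_lit 0x1400527ca4ec7f20ee01c560009c161f2c8691851309c613c71500018320b7c39e23b940001c440019c2d621a85a90b121e95fb66134714496400146007a62af6908f9de792c000111ce239483b107032e000038500068bf80011eecbdda0e7be640a1e992932380010d286be2fba5f80000043c0010fd91f543eacc4591494c8b25700025074a139eee826000026e40697cdc169862b28df22d0000dee9c95803eab5324a60009ee9c954ac284d909b83aa00001f28001844409962af826b04db1d4f25400041108a130cb315e8d4a0002111001980384bb000007ca25608726bd627d98f631d00011b704988cd221c50006f72e48241a814482980004738452e6a80000a4057e41a9e00005467b8e0018ae886560ca8043408648f800295d1526444ce44629a47a6bdc67b8a0010ae8a145202848f7b88000cae8930126007b79dc8000a4bb15da43d0147c14a00064bb1bf82a1c6c4c0380000ae719560bcc014,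
  nat_lit 0x9140b3df5b3eba2000223103d585ad5bc800094d463d2a4669f471510c532f60991efd3750000140a076940d4040eab8731000325b456c22b645747308002014132a427c69fc0009e8858f1a7e0000136000c54165a99ae935f31ff4d7a9b401cbd260000a54125a94b511a5c34a864b497c00215013348c3041e53e5f92f000329fc286844bbedc34e800229f67544eaa3d70000828104f80d0000053d006253fa5a6cb4e5338a6590a5a13c14a0f7ba4ba00046b8c6e358831970b3317943cdc576e4b847a461795f453b03018001b8a84fc09fa1128224800128642fd100c202a00048a03bcc0000028003023539949f2d3e816561122223e4b6001411a93451aba42c87beafc0002023387ee560480c8b7b6bf00030468c5e517d1ae8001022d964088e000208acd199a5c0003e24066023196a52d454b9bde207c9b9f00000410000e4885f90cb22a1725a,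
  nat_lit 0x2c708428a299087210cef44000c9992d89f2c5a4000006e80020e129640225a44a812182402108ef3e4ca001ce0e8be90a08140883836200031c232ed4269c4d71ed00029c223e187c3933107e800232ca58ee103d38a000ce0e21cb0e340830004706c39b80c80009c1b24580570000706c1dc706de0ebc1e1c8443744e289c72e98f8424c8e0708ab8b3873887dbc001be044d409a91a98a3e400128f8c1916202c48000404c2cf400003000028e98265e7bddd901ef91a92a3da4c600106dd260836f00df81c2b7040018db7404643748660008bf30daf52d000122b21d5400400006dc80047b38925124c2871f8d1f54150afca1f03498800043e40111020263647948ed28a2763a0014f901a7020383ff5eb400118d41bd06a20fcc313c000d01a1bf02368468313a000a4c2998dcd7995600020a11e4d1f2dd8c00000c6800479ce0d8c1b7322e4ca40330006387c9e00aff7c76bde,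
  nat_lit 0x1000815f556d2ab750c4035e4da000c2c01ebe25d524d249a932093600020afd22fd34100015cc80010aea883103c8fb360f00000afa33f88d731142bb9ef62e3632ddf1983340008d3852e80329f2238a00000dd10c80d361be237e89c4136422dc000a4d61f5d17dcbb322da00047550ff21fe9180000081d000c3720f0e1e200dbe1b988b5c0f4002ae1638c03e717cd954439300041b8c371c8e0a035122726a000649c0d8b055e0ab612b00044c153b145b43e4ea4100024c113b32011431e144000037086e21f7506f1e744488a6b9f13ba0c49590130000f310000828c807c6ed29c3a36040e080c77580022be4b906166454c000c9a47b0000001d00051d543a5438401e103be3ba085c001103e181930352b50f5549a0001a07e161c2c342931318001207c4032806ca5000065914b21279a33800000c740d831b463613de3fce86f65d022444bc0f8724ce0000b1ec9e829f0da9,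
  nat_lit 0x805a00be02400001d4c3201d4c84db33c7314e6306340c6518c6f94e4ee0004244187326cc5620000038806fa887218becd22866d48b210f3e7e1a000a4ed1508414832e06621395f8580014d10a8a11041f64135026c0000c16000a442c8888f17418a09bc135c9d4002085200ee01d24e180e4695800334084efe5eea1aa64f00023a36373c6e894a000097f7314c86446700000e5681b09de93bf1f7e7fc4c3a187641ea0735f2449d0000be8e1a2c346224780b8000027d0c8027b448c5380a9d953d34e0000a4e618e0d31c94034de000534a0e707161aa300005a7000ac31cdf407ac0f605320d36c9c800230c64ab89564d1110345ce80034a652d189f900e77ea800281648cb1766217a3e2800181620ec01d703a1938800025401efc3e31738e2b14c5040207fc393be3d93800013e365ce8943201c0001f1f0c80cd81fdc4474b258f2a01a2000a4de58dd0060a4701b000064dc1595f6600d4000077e,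
  nat_lit 0x52897232e484bc40005bdc59fcb0d17d500005db000c15cc2b8964b2e5a5ca92f04a0c00285720ae843e6206929c9410004032c06300c3466f81d80031c0ac6718d884426cc80021c089cac8f90164831800133549b10af48674000056d0ad811c8aeee6914f6ac002eb013edf354a040008a3438a870dd26389140000a32937059cce2e28c8fca999934d40e7c1d280019400d9709f00fe000011880030c711678fe794c1a98007fd27f000a31b8f6182eb05d823905c249f80020c69119023253911f5b93e800318d80ab00020007213327c000431c87edb2ed4ab7055000231c49ef0ff818ae7eb000031a54851e432bb8c6f18ea31cc7a40f44935e36802d03e5f93d80012ae6132026745ab05566c1000055c8e0d153a2bb957118e230ea5e6021e0430000a4f48a3888b013c027000057481d7000000e0003075702f405fccce0217042a3af000a1d585ff99ef33dd162409e49e4002075556e2bfbc1033e9401952780006fc6967d20767828768a3d80009f8c07501ca81a6,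
  nat_lit 0x1008c8c169e550e8a1f1f470001012239046d00001f4d1e303d748a57d3276fdddb485260008c064b09e4a3c9627ddfcc12e325c4137026ec9b393683d547a914537d1afa325160000c5e225b44b407f76626308786005500b23100001ca28045167397a90f4c0013948332800001180070cda19ad1531d2e2dc8a92000d1e2cf36883a1064d75000a06d00d9c2ca1ba0004036606d85bb8f70001840122c08c995d6000871c0e3d51ec6f2000238dce5f027c0000e100018e0d8ffe4f4c9ea13df2cc65990b313e8194480001c7c1907f7a2de4df03a568b3ce8c40024a2017f82fd28c4008000e0fae000528718701d8c3af179300025af03d4078cfb580003790005236e38fe4aabc1b0440088a50c00108db123441e483c0786000cc9dc4633f22d74000464e8c9f203577c800196a815982b3abac00023e3001993732745bac9fc3f290d82f9da50a000421e153f135226b607e000021c005821e445539e473b57a3a5e30005284,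
  nat_lit 0x2b8c55a6ab44d5b9ab9255c000e52e8e49e9c3cb254869d40956800294b0143028e3050e998001373a3a00000110000a4a158afb15c62c28cb89554a54002181921a32dd905bbb4194a000302f205ec59dc7a2235000239484a043008604949800139460060006053490280002d5282f80932294b5406490c9464352231b0b2c6a40c821804312a401b7036f195c40b281c620043ff72be7064e0d3ea494947473ece7da5eda0000636000200ac5658afa2c693dfc7c25a90000402c06440c748c79f863ae000000582d9a469c34c016c28fbf28065a0cb000300040e120032522000c383123211dc23d2571343c0010707079c0f302b7a494293800200021c1800499600000707288870407960f4445608a613cf1f4800228b82440482986a2c7458d00033f0091c1a2d1ee800120e4a8fc9b1000206854486a4c0000329f4b00097d46ff14590a04b329a65450d0ca41f4a800801263c5099485f30bdd28f000e025cf2e0ea912ee25d81d1ca3800300981cbe2ef8126824c946be92000afa7e5059f58477eaef000802543f8cc38256128c0006023496309b0135e590,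
  nat_lit 0x1b904f78e55190a000c224932d5a18e9a000469c61832b149448001380009b0000049001a1facecdab762876321253e00303f10d671acc26f998c002dfc980c0017056d06f20029fc904db7e8a131e2c8fb00000026113780007d7c29675e20001f5e0cbe35280007d7432f59f80001f5c0a5a32b80007d6c32f8cae0005f5a0cbdf59000002608b5115c1f60000beb194f00000fb073207a49e883eb8d2f0fc21f986549a83350883f80bb81757d74fae5f5c3eb77d6cfad5f5a3eb37d64fac5f583eaf94e800115822b1d3fc8c2294e00001f9c016236a4e8ccdb8de019a40ed80014a6c33d104a23e20ed4000a65c75883af075c000103a00149c1318998af316066983b394d00047b24e92544d912611cf29900064e018c311600228045a53000089a24c50407aec38fe600049a19563273860253c800009be9ed21c0457726f84d1cd3a016b02d0fabdcf60005164997e10ca807,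
  nat_lit 0xe6b21a45db1c0c39a88fc16122900477e149000800272ae006845055428c351f883f04003cab477705120a283f000034ab063f9ee719200014b5aac7500e80041cc0b2a44e8000c026ec596aaad533794000156e00085fe840d081e19e433e8d26955800117f837c10f436e887b85442554fb840000ad2158e3ee56102fe86f721e1463e8fb45e4060c0c14000e55253d40b501730004fb7dfb2297c000800d001c404951e00000d8000c09081240ace047c0930a6014bb2a8000404800941c582310464146a9ae795380010edc1da40d0000237e96fa0011cc22e045c113559ed34500005000400079530b2d3b744d2c6e48e314502004e54afb5c0c9019306980d3449000129520992252082916a2a28000232a3102a292d14000100008000e544e70884d091e123a003e0d443585278a4944f20038e4213ed6e70c0444f00035a74fb3c0008261f6680000261d833b0a89e00053ecc95080002366549a18c10f52a4446de1d21bb4379110d2218442406700d500092a0,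
  nat_lit 0xb9c00e85ea0bce111421e89098c5d7dfb2b800010d4811d823f17fd2b71b324d9841ebfd9256a0134001b34039382c5058c4ae225e804c00052b6218836bc06b803d0002fbc3924035001e000054500067d405ba811a3f3613accf6e25d004995a8005995c771826284cb146430b473bcad0002086610c063d4c22bf7895980033588244448b132f28c800224131e9d2924bc095900012618a26662000380003f310034ca820ce3ae5f78801c0000e1700b05050a10222844917827fda000a56259a4a0514087fd8000521852cc9af893900005db000c415d38728e310942139ff54a2800285540a921ce87a7a2ae39300041d383a84c82804d8278003193e323847988dc9580002193c048008d86df0a200011d345bec92317380001051139622ccc4041408f591e538d21899f7342b44848a3148f620204028004683084c20d22c4c5888003487000018ac55ec46388bc24d6374e55e8dc541703aa000008e002a0004426084a7e9e4cb,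
  nat_lit 0x982c00000bc00188aa8f1f25f4fae1ea92859963000522a83c747c622e70e801d1658a001097a0c45188901685becb10001901d20387d9c8f19c8800121a08afc8f04a500004a269317262c1ef000045440d8453c81491e73a2a816471611c20680fc525860002162a3f2443eda94e172974bf44a3438408a3c000cb082d605a58e5400002f4001c05444de3c047800eff17f0383c8a365820018053c4dd16e80118016893696000050150865441708231e092bf0008029417e82fa0a9e848000602907f9082605c0ac80004027c77087e34e280010150a1bc2b80001f8f816c050904d209c4040807bf0902b000020d041b01e203cb73f52be542ca8555ae336235380220046011700092bd0bc8f135e3b9e4b7e4a0458001caf1fb1c69b31c67ba08a8000295d961b2e00045c08a0001585881e0000355000a2f685ee9f274ada04540894ae8002173d06ee0de549c065495c80032e7e80505848af147280022e7cf675ecf87c800080c7018c0b4,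
  nat_lit 0x2497a83c8e3a1c722930001497878b1599257979780002484e59a1d206ac9209242214e015802a01e57ecc183430796ce64ccc99e0a024312268195032900e501c6375017b3f369678000205428c911cc2306a31abb4600000c0020042496963d0eb81d84001280c24a0eb34c2800040014b38270000001c0000000a40c5f9a001f21b6984a59a00107d71ad736802a8855000045c4800324dc34fe2569050144f2cc000449c0d6c48d5403800124e069cc60400008fc005854d8a9e7d3c0ac81578aca23ea47cdf95cb2c00096332c6a719c7528fbe26f9f573ead30cd17c07510eac135c002cb2917bb0986134004400784d600092c930ce26f04d91e9009a6000d5a28c70753260709a8000995034782ee04d6000226109ae00006aa000c87815ca1bc81d483a804d166780022688fd98132067b7e78b4a00027695307248233600000ffc01615be2b5857b93d9989c745266c0b037e412c80e7d2a3c0003cc40000bc533203ffd6f2080c1039b8d50b8000a58effdc6f7a84c0003170,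
  nat_lit 0x33f067f851b0910000a22a146029004870002261091000006aa0015fdb037b0a7877f0efd8488968800406e00da0b30896012b32d6000618fc321a3a8478f2d500043e2c5fe8b3e15d07c40002fec81bb06e886800001f18ff2021d08087c44baf03f207d9fa7157427e04ff064a0c8800109b45860b0d1cf0000470a0f9446508c800003d800103b202d1059d252283e531ba6364b3b2d4000e3b1c88195ac36e47218f1f1e40252b265000c5da8bb3a5d2354f0ac25a6001476296508de8765560e00107621c862ca6ec38856000d52f171452360bf0004a4f012b00c8000a9380dd6128000000681dc665835d86ba36901391fa13604000a22a613adb9c4be05f80bd8775549b311c6fd800479c1c817866da446fb8df61bf4000e5a401a8fcf8a6e14d00009dc041f45348a670002fd126a600002200014b4cca5a2dc25b7d0b10df6968800406400c6407d8100196d2d00006a9b12b6a570981801c,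
  nat_lit 0x497196d023ea16d00004b917f495b01b192e35fce31646342d1f283efdca5c0000c2fc05f202b855d0f4e1e98082810a3c172ad0001cb7c7921e907b41342e5598002856b57132212f44829000183c913400000ee000c38156e58b18163a7618ec44ab096f00053da45c60b8a9713432d31d61120010701adc95b912b5e152000c3d407a714f686700041e9c3d016356d480011bfa158c2ad96b40000dfe2888dfe4434883071585610abc279cd4ebf6696e800017bd32a4fea8db71b752dc17f4c3007431074479470d4ad6a32300092db161c2b284c389834ce88c88001b1ec7d299d333a89d29192000295d92584bfa7cd91900001299231d0000355000a423c24400e401b67cd118f4b680020d2722ea5f84bee15fd96c80031f292efc81f879e7b380021f2663eda21871800091a923540b4000034842d43e407ca3fbd06fafd6815c0006018062e0c3a66c19be3f5885f851d0a3c12340024b6028f852250eaf72a576848c00072d7,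
  nat_lit 0x12d39f0619fafe5801d90c500052e85a34729587d0d8d00020580978000000c00188db023e7f8a6bd46ad90c29738005236a3e049178d9a1b3a9df25cc00109010cf207c00f50fa8cb30001c87390e436f46c5b0400011e803f164df44be0004f40186218100007890190235e3de8c09190e321a9355fc44b9400092f9342612aa102000097b801897a207f77051cdc000b0b4003ad0a5cccb90172080013d9000612c2258081a9ddc6ba800536cf33755e6a9a80021b6653ec335806a000c3f787f81a0c90900046fa0df222c94fc000137ce6f793ee000034d8291683aab6267e50ae6958c54189e4eb1fbecb90000917622ea45e8747b300000194542b2420124845d0af115e442c485290e5800297185f53730734c00087b05498a9b3d220001626001497393a82764795134aa1c9971000425d0677554541c55d572e100070fa1cd301ce7f447c500050f9c93a4b3d015e9e4,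
  nat_lit 0x69af1f6932fb246e25be2060008b2b89a3134437d46f20004b2b09b7137d2b4a1f200012e200fd02049d54b86006c00e10140fe101f4393872928c2525808c811514ca1ec203b95c61aa201a803611570c50feae5e60004a171430945e95212c702886c9aaab73beaa71610000197928c5527a897112da30600012b900107b98ddd9bb92db65b9a69a4d339a652f1000e7b9619a97c233ccea543bccbc00031ee43dc4aaf265aaab01e692ef000a7b8cddc1bb7481a59d86fd4bb800217e82fd40c6818dc67997680034e447e4c903112397600021231024c3fd40740ca800112ce25a08962d980000873076896512ce53eca8fbf9f51f0000124e2488a900ca619485811e1a7b68efb117516d000125d69cea03b87a50f3c000c05a45c8f130b66000469c44000bec17e80013360b5e000004900083ff1482907b41602d7a5d4000c9581c362f6023ca3fe000886c98bc46103fd901a000486c18ba7dba5e88f6200011b5c93f2c1e7a246d40a4414a08ba0ee61dd89d80355069a75e0c8e191b32349b4d36a323e02f805ec4a50b7212aafe525d2141000400013e000009f2a00012d422f44704030,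
  nat_lit 0x173833758f374bf9000a00338d07f91935080400092fd12de25cd18ea326464e200c001cbf007605f20be01ff40014454f388e390ff800044c2200400004400029a841acc0094013880f0fff2fb00081b3e03e926b2b3c5671ce4000ce2108d911aa5f68b5e000a144130326024f925f400061438d2d56fa76d4d4000007d408b311688a51f4e17fc2fc0ee61dce4f20c7f18ff368f17519444bb6976ea95c0b0015747644d704d6865e0caaff065f200089f904e909ea81210230e6b97c00014fd09f39ff601c415d72f70000a5ed4458e1407010215262953800083ac061016a000009e000c48bd97995cc2f367f365ec0014ed61dad3622311862046fc0024d5856e0f77c62505180018fce278a07a80f3b0d80010fcd24845d28bacc368000ab720be017b82da0000ed391e726166203b4c6cd8d3f13bb9abe4421fdacbd54bba4a22710783c01a003100087ef12121b95103a301006e00c0001c1905da144b8c0665340013068216c05632980005fa234180000d5400223210f5701ec26b002b00592f4,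
  nat_lit 0x36486c99d4372741ebc3d880010a381c903883538000098400201f106ee0de0c9587ae0f5f305000607c806f80e2247046a000407d11d78091011e526000207cd4021fc54d18155000007cc31a062d4ea81f2126e22c045722f469d04574ab11167143028545700adc19f055f8ac04d353ad43ebc7b80ef57fc730400032f2cc172448487e21d443719052797303140027b232a8ed23dca000e604607cd8f0d641e2c0009ba4620c6388c7000024501e2e000018000181c70387110a22786b18d611e27301000a0e341c28bab17643d10b100011157825604b22ea5728000d157a8e2335e6ba00041b1c36317e0000b94e21ac00200008a940028aa5fc04d7512680111feb85b80001d7008a6001800084b000012a800b04c809a82d9260f184b297a0005f301340b3e9c1d00005db000a29c853b984c21a47378a5dcc0000235e527a85de88c3866e480000314e029ac8f411e933b46c400044fd09f70d7d0898fd5000289a0a8b1842166ae8f000029b453700221b197f22fe728f06b60d6f7f9b2ff,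
  nat_lit 0x22de05bb8b802120000007611016e42dccf6b1d720f901f1a002cc300008a087be8f7c44be26fd2aa1fd12dd65bb894d80048c28a022e145c2c54e8a8c2534000e6162b225cf24cf2abe00098341fc6069155e0002ba21f3800006aa0014b8a170d623d333494a12969850004614a021804093d009c259800065c30a4e9871407a8910004a1b947a2e1655505260002a1b547a2e085c1427b0000297852f9c3f1b40a5d14b4317e05186614c7441dc9f98cb715342a79575b2476490d2e5fa1cce0433a86792c195167ff33090002278c4ef09e3000212c1718000002c000052c410013c2462024404986e102448058000982c07500eb933b967600047561a2c11dc02a00004040008ffd8b5d4720106e08f6014cc20001802408de71b897b800c4818002004c8a3491f845839100017fe63654af90834000001e0048021097e12f56e79d58344702e43db3fee983800204e613bc5bf8f931f943e7260c000413904e1136027012880000139944413804ef29ba53803d607b20005251,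
  nat_lit 0x50008ce00a2548393f172b30006938e35124de203663c0004ce1006180ca3dbb3130002512526b479a17024c0000093812710cd80b30002000229e803c000009f0079abc000020e94442f06222c446250e9aeafbc200ec01c989000123be34dc69c8fce08a000023fe016027204ec0c28946129e5c080014ac4fbe9a5799f45c04000a69442b817202f000015d6001a06a871e611e5b90f7216ff98880055a36b46977810560f5d133000883fa471837706d8fa500065f60be7987600e531000045f5e5a294bb2973271000283f8aca89a40ce8000819e1c70ac09c96067071e2f2e767014440112ef93561ae81044000050800012d925b6e0b59e2841998792df25c200f401f80033a78bb70a1702580012de452a051600029ee05280000074001401000220526141001c803b987000409ba13986cb238129c330d000704ed8cf262302bafe5000410bc21707a96f88238,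
  nat_lit 0x10e0000001400044bb0526008a00fc3ba0000b940088b7285f50bf84850001298800d1ef5000239852fa93f800004d800286d12d143dd880446bb0b700040d94633cc66a787067235900061b300090011044c12b00041b243664bf7161305500021b245ae800661a80000d8d338c1898d8c36298012ffcfe894a63c448067319000214019f4a702614050399c60000275144427583e307ca3c904ce899c8084000a6300b5c14f00ca000267516ac0318000032800282dd0598120023d0a021b2100fe62e00099c7800200092d6e5ae16de05a800339072a798fa840c58d000239008a59148a4dc00082d90592189e1020000db5060ce403d7153e87028c30402898b05c60b923681d7d9a5e0002eb8109c0b240d581a500000cb000c5148030402e8d0e8e4d872cc54002945115982b1d03a028404fd314]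
theorem S1_c : blocks (facts 12 5 17 29 4095 131071 536870911 15 32767 13 8191 A R 32) 32 JS1 16697 = true := by decide +kernel
theorem S1 : On (Step.{u} R1 LW par A) 16697 20345 :=
  steps_of_blocks hpar hR S1_c (by decide +kernel)
theorem D0_c : allB (defOK 12 17 29 4095 536870911 3895 A K) 29 2 = true := by decide +kernel
theorem D0 : On (fun r => defOK par.W par.WL par.E par.mW par.mE 3895 A K r = true) 256 3968 :=
  On.of_allB D0_c
noncomputable def JW0 : List ℕ := [nat_lit 0x7b7d611f7ba83b09952c0da2429b6a82554a953e94f2167c0aeb2cf94870487416877baa0806784d7887801292c292c495425b155dcf92ac9496949a949c94a09cd97baf94805bb5950631d715387bb47bb2639d8f7639f57f3439257b858060536d7bb1611951917b9d78677bb87b8f5372340a79cb95186ba17fe99c8c70806fe79ca080746af17fa37fcf805399a099a29ce86b657ec9998c9ad49ce280769cac807a80329a2c9cd280789aea9cc89cec9cbc9adc9b989b9a9b9e802d807c807e8041805b9c609c6480719c689cf080637ead95d07f3f9cb495d67e85806a9538633395409cd0954495469c8e8080808280849cea9cee9cf29cda,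
  nat_lit 0x4940494249469bfe2b267d1780267b7490c67b769c365801482f9ccb7c0a60137bdd5fcf55b95aa5197c95cc683944cb69f165df68d268a595767c0c5ff45fd05fbb48d759df088495ce552a1d67552d542e6004080a1ec55e399a9117ae216621636fcd86f670c7804865bf9ca89cab7bd943cb5b678046541948c16d0b68a868ac551f12dd7c105c4b5c5495b895a0237c092a95d4662955dc96649668966c969c7eb29cdc9cdf662558c07e717c03968e7e837e816573408f7d6e805932279cbf805e7ba440217b7b508e50903b1c24fb953694fc508732cb951042eb347b601b633e5e3a5e3e5e403e93634236af96245e6a5bb15e2b0f9a2ca4,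
  nat_lit 0x6b0f805c63eb9c326f998c067fa58ba67fde6b293fc769aa69c2468f2a117feb6b3d19156b4c6367463d699c69a06b499b5e69a569a6261364524b754b73802e52c37ffb9c597f8f6605242f802b3d98591c4e776a503a157f8d5de76e525e169b95908044c27b979b7e7e2348659c918034801b688a7f139a1280307f039c5c9c1c7fdd7f639cba9aee7f539bf68036378330aa10c13863801181669c5e6d332ec56b78519b0e1d80073ecd80387d559c5244163e890eb681889c629c127a37818a22fb97f697fa5c7b807297fe804f9ce58001806c976e806f534f66917f516beb8c866c346c36803a7fd86e609c409c224590595f9c667fd7458d,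
  nat_lit 0x7f309a6b7ee7673a6556676067627f2e531a421f2c779a1c7f164aaa73e74eb099e67f18603d6b5b690d6754879e87a09a3866df60797dd384866789679470216b57804b804c988e9892805199fc989a7ec49ce76487628a7d679a247d8f7c4d99cc65926596659a61eb59114d279ba4659180677cdc56e99ac480647e01533153407f6a535553452ea315c69aae53369ae89aaa532853192d2078c34d5d5d647f6c4eb752c77f057f4190389cc69aec903c5d51624976a16bff1b4176f37f717f727f277fab7a337ee39a9656544c0f7fa641ac41ce03989acc1a6360c19a5e7fda6ad57f9358277e8a6f571e239b967fd11a3f656d9b7c453b6aa0,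
  nat_lit 0x6cd66fdf6fa56bf3967a8e98401d707f70419ce17fe670c196e07eb06deb2a5380427fc496d0292d6e2d2f292c05359505da7e424a49109c699b6aec09c86ac56af26af64f477ac44b555dde7e359b6f7fa17e257b295e4b9cd76e4c6e877fc87fca7ea37e6d7e637fbf6c0f25c617b77ea19cb76fad7152997447c57c9f78077fbc822a34fe9b933a347e690e487e987099007e2b552a01037d805670979cb97e7d99965aed714570f76d5c7e9a71573eb16ab9713a81be47cb695a777c695e694f9c6a6b606b624ee53feb695d6b68454d24007edd6dc17ee06b9b6ba46ba8701970bc238f7e9399cf6ba37e6b55305f16508d997c7e767c087e78,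
  nat_lit 0x6496271395bd7bb70e027b6d68794c7b426e48117b9b2d0d1bb82969344e51c360ed2dbf78888f73355a3b4b5196013d1b49786578631b3a04d304c204c904cd80f904d504cb82ec28143ca55608123c33a833a5395a39622d0235a235998e4e35a6395f395c7dc45243316553763e073c083c0a3c0c34d03c103c143c18362f94050dd3041e02581b81106320618360456519af2abf2ab92abd456c46cc45673ca9151e007548fe0a14820c1873186c187a1877152b560e3db4361a186b5d243c4f16596b946b966b9852857eae7e9f99c20a611eb526fa817a178536ad20701c9182e482e620ad803c7fad9c8a7e3f7e4059a5639a70b511736397,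
  nat_lit 0x48b448b6396148ba397548c248c6192c210e575d7b4829f5829c9491788e78797853259c788a224f35548f748f3c43ac43b043a743b643ba789378962c1d32c543f10e1b786f39f139f639f839d808ef39ec39d678c910607f369a75902a27d62a0738bb38b98fc09027382c2b7d0fa320bf12c7351a392636f014737ccc2f4e2f493a02444b7ba2953538a28f608f46104121427b837b81386d3f7997f83004333d19514ddd48ea5c6c985e536453681de015e5536e7bad5b0d43777b478a1e63ab7b353c243c2859b71a876a852b1a123165c33c277e2d73b79ca67e8671083a6c3a7142f642f8283544a143052ded949842f0397116574547473b,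
  nat_lit 0x49b5321d5d1f7f42241e4f785292775a6abf37623c4d4dc53fd4922e7b4e7b377b23809e42d504202344949494543bee02524e7d51ac02846e1f7b506d9743d153a360db4e855ee15e727b545e1d7b5244004a730ddf045693747b561ffb0bf556487b1f4abb4aa7949e68a243d7616603d0519f0cf113f763a863ac96994d5b118c9c0c687257a46876687a18be29db4a4f4e016472460793f24b9121011c6d4b8a4b9a4b9799124b9337b616f896425bb85bbc571b18a051b651d851b051da2a2d3c82167916821673166f167f167115f91e140300167500d731dc478b1302138531e882bc31e331ee31f231f415251527153b82b915371535152c,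
  nat_lit 0xe99486848462f2693fe1b9118da7b862dce95096a7b494b1e810ccd168f16931684168d16971695168826e1277a02d6023e26d114ee9a5608090813815f07fc080d080508001ff595b714a532c832d432d232cf250a22f423032cd4230532d012862b522b4f1fca25c01da15caf7b9423c223df784f38a725c54d558f717fa87b711ed65e0392982c2969a992627a4243e626c6788c22587a2f39f392c03204328444fa44fe2ffa7a2524f57b6694bf25913e910a760af005fc7a44927c3618293502d45b2436b380f6507e5b17643899c05b0a5b0e5b124898643455ff991691fe92025ed14e5b80179ccf9bc04e1f2cdc43504e397e215dd05dd2,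
  nat_lit 0x1da311b6950c3af83afa3afc1abd3b02506d3b06950e1a7a3b0e3b127b9332495a631f2943b3266c261e1d053cfe62340d5a1dbe78a1900b0da581ed0b460d970da10d9c80a06dbf46d86dc245766b854ad86a723d563b9827851933429740fb44575552555629820609223d555a5d79555165c74646443b706a64a164a5350d554855205522552409771e0e552f90723c2b4e4a554644324e4d3bc0463694c8952910f82f474de917e501b35db77b723aa546585ae24054290f38b72a3328396a878c440ae10ada0ae60af70ae50adc0aec18148303180d18081802180518068ef5115c00911fc8250230f70c2b3c233bf9340d2f371fa32cb11ea8,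
  nat_lit 0x2e5f1529079540a655ba55bc9b0a127224513dcf084d28fb3dbf3dbd38061794380d3e8a30eb30d643fe9626632e452b107845445c225c2636b036b4369136ba36bc23739c825388538c53905394539664ff35e25e529441538f5a745e595e1f5e25118538704ba05bb30ee339798e2d2264182b02158e2b016b0b5c3f8a55b5237e402c5df06337364940305e265e7168ee68f05df33d2d75de053280be40a93e7513384b2b4b250f8c0f890f930fa00f900f950f9d8d80223860411c8f05000440360123d729f0123529fe0e6f29f98b586a693d003d043d063d0a04d73d106a6252a544833a33593a337d3a48959251d20d6e51c818c21e681b45,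
  nat_lit 0x962b5ecc962844524529445444583b163b1f3b29327b3b203b1a2bcc81d90cd80cc20cca0cd50cc80ccf1e6b92a981f624f724fe24fc24f994ba94bd6df80dc815663e471f926e087b5d4e41448594ae454b44491a261a241a2d1a221a311a2b1a2f4f0e398d1a1c449d113729c5269e17f2374e2f3d786b22368f4948e91a831a881a791a8c1a7c1a8a1a973d443d403dc342e818cf42ec190a379f65353e81575e23e94a224a2131954b6532c754bb347f365d32cc5a94400d5a9c5aa0469f5aa69a405a93350f5dfa5dfc14d264e39ba65e1819f440735e3d4ee07fba9b8d81b8324a324e32523256019096fa7bf395c0179e210d32553e8e1752,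
  nat_lit 0x428a9679259926fd211720220b1c42893d5f657c7fd43d7b9c25800e2a9577522b2b19f226d43ff63e69406640902dcd20e126d866ed9c7a4380280f43863872438a438e8d282701471443855ced7b8c58d43b1176c35617631a7f6116e51725256537a4429f28a228a677a28dc15636321a321e322232243228322a96f678031c261ba0311740d77bf895bb8dc444dd6cc68dce9cc17bf67bdb1d7336f7801e66277ddf7f1c803e3a1c3a1a8230338d33f83a248d1621113a1840244007402697d23f462c102c125096509a509c50a050a2132513221326132f1337133a13335f2f29cd2207132d317960bf93114821952e3e16298195313b0d40f1,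
  nat_lit 0x9662962c0d1d38a596447c6525cf960a7c6a49dc5a72008655f756d92aac96665ed2305b3a161bca06fa03813bac5a9b5b437c6c32414364408a408c6a387c7054d15f7b6a137c311da62cf3966e155063b263b669ea622483246b9f7eaa6cef7eb558bf352594635e572683437c58ff62af405062b27df213817dcb98870df30df603ab0df90e010e060dfd03a50df440572b1e555f5559554f5ec97c1961be55f295e019eb8194964e963461bc4c097e729a23435760a568260f705c984b295c9c5ca06ca041b362a45c97496f6ca66caa5f183231291315956a006a029a6155325f1f445c27dd69ff7c675a4295e895eb37c624044ed54ed84edc,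
  nat_lit 0x2f2a26f5774038eb17ca484166993ed83edb3b5c454801b88d9a454e826d12c8055312db12d012ce12d52513250e153d23660f385bdf8d2a221910157bd75c585c03697a95cb753c96c76b2a34316f9a5c460bb10c380b120c3a0c4781cf0c610c490c3632e334520be800600f691ebb1bf81c016160616326290efe37331c071c03402b15565f3f1c0514a68908345935b71d900d76345f35b9237817a1238121ab2388238583a002c102bb02b702ac02b902bd02ae092f0920092702b1092309310929234f23c14f5432392987661c6565432a43297dbd56d44db34dac56da3667334255d855cd55da514a8ae87c687c515acd5ad85a0d5a265a2f,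
  nat_lit 0x64955b715ad532675b957d0e7cc0613773c05214435c4b9848895b8b0e7386f446294641462e4632463e5b6d963867fc59274f0908a3417830914e1c67fb70cc96cd1e5d4ea5955a955d58a858aa5d985d9c4d3a545f65bc7fb051745d977d597fe4692558cb6c2f5f7770757e8870ec270f5a1a608165b25a1e5aac9ba243c843c543ce358243d443d843dc5b6e5b725b765b7858cf5a244e8a4f3650f495f25b65463909ca20584e3513fe2ce74dce75a660293c174a9154164efd6d9b541a541c53fe899235cb899a6c1f57cd6ebb9cb398eb59a16d0264a95ae945756d0c68a75e0155293b616a4a5106510a7aa839dd2cb60f64484502e81d6a,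
  nat_lit 0x882087a08990874816d087e0877945342e2945054b26a4509ad07de0551821a0f6a0f630f6f0f6c8108963a59b3963d59ed600159ee59f225db3cca7428281a2820281c202a443145521bf199f732fa281e45076993699f63e3689369ba69bc600342b91e2c1d5c194c64c242ae8d2c0b530b630b610b560b680b650b585b235f3b61987f3c5f3d1bef631f3be35f20956895bf5f2205e037004ac1129a39377bf54ac35d7f63f81ec31ec782de247621641ed53a3717a517a317b317b117b517a982f90166017180980179016c0175017a1eda1ede978e4d112d3a017630bd279b058518381d853db8687568dd411847854786216158fb13a91a33,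
  nat_lit 0x78758f2244cc44d0136d392944d8325b54454fc769f39a2b7d89609865c465c827eb4bf165d07d57584b13705da365da65dc979665e2112c6f0862596f0a7b25526e70b19af025832578671a673928c928cc673e678b67ad67b17f8a6b586b5c7e3795b595b23f3c3f3e5f504d073f377bd25b27396f599322dc149c39c25a0161ba5fcd97a85fe880218024056d17e15fe3560572fa332b3319152f345c7be14b327bfa5f7e23ed5fb65fb87d647c075fbc57749a1f2e37198a67c02ce26a105f856c2548cb04b69a769a7944ef48d848dc750d5686753459c557e3598f5fd759c7417f207859da59ca59dd59e07bc260110f61272906a82361272b,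
  nat_lit 0x50d950f350a550bb50eb0718241a9074794c266b40422e3934f1792b119a90c40b5e31ab3d143d0d2a9e5271253e5db82d7a5dba617a98e1439d17d96a4f5ddd6a4944fd510f2e003d48522b49db9c47492e427957fc57fe20a527f4580258042a723e3d82cc01eb1b3e1cc9580f9bed48229b1d4826482a482c4830483291605021501391a44fef7d419ccd0f3b0f450f3d0f320f3f0f370f3449860f477ffd48b96c317bfe9c5b0f1b251962b0620278981cb74ebd48b395c42726236e95c7602157094ad70fb69b8f7fb943495946594d19701969197b196b1980832b196c864c683a960448d1682f46561e013bd590594f144f184f1c31b14f24,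
  nat_lit 0x9a9f366940c2320c4bbe0124275e459a33e340c145a2101e45a645a82c862c841f2b32918f4b1a180dbc458236c34011329342291f313c6b217c480f297545381d07453c454013e1125d41041a73798579f445953355335e458a238d2fbd90cf34be3a04783917d2260a8ef8260226073a0692002f9539e31639493f336e493c081579b9403f2cb81e1916c982fc4f3f49453e43486b00e6033846c90e7a4cc15080495709338dbf2619261c40811b67261b26102615493308f7483a260d2a6d57fa57f90ade82da26d22b222b2d2b2481e6215d121119f9439750c19c4858641f0e0ced975f29295dbd7d157d1350da50dc50de238329191a524144,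
  nat_lit 0x223a1e52606e60726076607a990a9c979ad04b05585f7d3e79f279d17fff9c01334457e99754045827213a5439a17d2858097d271c9d3c784db9399b800b7ff5800c668326365348534a534c3c66535098777de698347df842e5339f313b4ff43147533d05043ee258eb323d4ff366943dda3dde3de2973201003ce37ff63cfb3cf60a00975c01d20f5a3acb6bec6bee6e9a995c55d26af5587e6d4b6d5b3b695c576d5103ba4b3a451781966c006c02452755d439fd38cf6bd27a9c51217a9b6f586d8e1d181d130ad91d1c1ca6274728511d16775f23dd2bdc81ae2be02be445787f9e3c55252d3742025a0b0b07c47f9c6ac266132fe34dbf1df1,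
  nat_lit 0x10340e0410613e84d8c56d738871b841517094d271b228a20fb006d0eb30eb90eb50eaa0d0d0eaf0eac2a2e329638b542273759519848f880fc09de09d209d805bb06b809db584e58509be09c4f585844423e4c47a44465214d800247aa18aa5109375c4dbc817030ef4dc74dc0253d0e331b879a7a9a7d09631b8d1b8e09e209e109e609cf09f109f409ed4dd54dd1330032da23865113511523d923ce22f363d122f622f822fc5838583c583e5842584616203dab583797c040e203b497d8394b813a97a07da84d682cfb4dab5ce57d859c2a811c9c2d7ce597ee22ca22c934de51515c7c5c80193c4db548e297e697ca349c054c7db667836740,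
  nat_lit 0x1b78301a301e30223026302a96f219fc4127301d7ef67f6f65a57f6538e238e638e81cf69093909038ee1179117e116b1169116d117411777c867e0e6d2d0699117c80e606be191a1e12191763ae25ca69fc969b03e22064232627c3127e519d0d190c5b0c680c4e0c560c650c540c590e1e0c180b260e170e220e200ab1441a558c820a1848692b4c4927694418974e2124212881740fd9212a6add9c093b2b39030ea01a8011cd322d3ecb4075366246ae46b1587d09a009a309b5818509aa09af09a428912d36456809b0215e2d3213f12c162c1a2c1e2c222c262c2a2c2e801d9c50440644082c25440c44105e445e11939e59285a6739ee3141,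
  nat_lit 0x66739c54660a24c39c57677352b167656b51197646237ef0723d63263294103c618c618e7b316485688f9bd49bd7306d32b707ca636276d31bc93a693e973e9b107d3fc1957d44875ad33fec8c781e544b899ac79c3d9c3a65ef438954a106d5114e7ff89bf421742a0f2a092a0a2a0c57ee9c3f30a92ba12beb405a405e33e762d6376a21c334fb0e871bb629ed4bd44bd630af4bc59b7630b43f9c377f800924bf802824b8810a823f10bd10e110cf10c210bf10c73fd22cac9319344654a73865344b437a19bc84fa49c74c7735f830a41b7e28f513a0813e28f92bd4385e7ff09bcb65f206885ccb3c3b65f8086e086908630831085e085d085a,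
  nat_lit 0x3a2094f41a7607fb6a5653f053f409a75e473a0d35fd3a0f1b4f493494fb5e4c6a534cc56a4c4a5d1442457d0ac37a0c4e5c55752b6c2b6b6e80538b43ab863498f16e8c194544a244a6449944aa44ae4a1e4a254a124f40907e1d932b334e3d280945eb44c125300291387a33be2b2858ae26727b6458b254ae54b158b62ceb5da410f34e139b8b5da692ea00e034371fbd2d8b343b343993e4485a485c485e40b4486234354866190737fa83127cf959209c938019698b6b025cc75b7f55e3697359666b106b017fee57238c2c3867065538004b7b67a2659d197e591e4a5933df47899ace5cf65a2a5cfa5cfe45fb49b95d6b5cf55d7461826186,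
  nat_lit 0x452221033f3b451555d055d68ae4642370bb6cb01570356c641a08489925679f3e8415ee4ea34ea94ea16d2f64254afc103a37e61b5e171e474a47477ed4302147481d58473d6d5341169b754b082a294b0c4b0e4eb24eb44afb42214eb84eba4ebe753e245d2f113b8298266ed9440f1baa02fd636057be0a496ed26ed64c034bfe4c044fba11ee7fb37fb6591b58e95853586e9c95592c6a4659176afb3fc52f023fbe3d965834341e660704162f0b30ff2f052b941b3c384d7f849b2567b57214542045fc45fe30fa46043d9a1812460a19731978631c50d09ab70cc750e70cd0549f4e72244755e4617758b52b122ae906f14e7441d24e8f7f86,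
  nat_lit 0x8d4033d52246224a224c22502254398b43743a314af10b922ee88b747f804837420d25f06ab61ad345b37658452d15c92e9026a121fb2d131f3b1f323fb83fc85d233621922a2ef363e8701f46039b6d9b6a5d833eaa3eae3a26836630253eb43ea74aed1cdc159a4e4f2e693dcb64af3275469c46a921819b36469512b49c1b6d319c186c0c6c100a702e40190919001902191318ff062e190d07ce07c907d307d6815b07d107da2b592b5026be1ba62ab62b624e61995970376cf863696cbd2b5e704879d5445f79fe17d491f84bac26089bd09bd36ae72e839b1618fd55bf433a433e65629b913f334b5d5885214515bf184b7f9055902f9b3ba4,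
  nat_lit 0x9c0744204839448d6ad16980282708c208bf08c908d408c608cb08d129ca368d9bdc9bdf12e921f60c4b3a773fe47e6538c27e8c38c438c82241189d22091461220e220d21f531c1130f1e1b1e1f131014b31e219b227fd35bea480213523aab1214834983461a401a351a371a3a1087067d3860655f656e65701001669a1dd84d184d1a425f4d1e3e2d9226514e113d4d0e9b7a4d1d22ad218f257b088b6ac004f36abd96b446b927ef27ed34a908d212f809d5238a9b859b8279b0412d44ad2fde0886410d37e859636970186269615c9f765f0c0b9c30696f0f4f26c13bc82fca44a5441d41365c045c084e455c4173596be2769d02aa5c073fd9,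
  nat_lit 0xab90ac181a50aad0ab30ab50aab2f43144d4a571bf316424a5f4a5a14bc4e3732de1fe992bb4c0a28695b2f543c4e1561654e16566f643d4faf12387964264c16994c103cb341c641be41b13b4041c23907921a41ae41a950a650990e4456b599f93f5841d07921256879403f643f66793d90b438f32fc541ca1bf428d60aef0af40b070afe0b090b030b01039e03b903b703c5039603bf03c6443744350f4041d546a39b359b3276d421a01dac442f48525f7d69b04fb04cee4fa9566c9adb5b2d3c971a611a5f1a5b1a711a661a641a682aea24882af15f2916107f00426b4f6f34e94c6a3e095d5532f59a5c15de441e93450c2340155c685918,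
  nat_lit 0x5906590a9b266561585713da443e4d594d5e24304e904d624d574e899aba46169abd78b75d6c18c407ff09807cdb9c034492970e7d2e4f234ecb20e8054a35d1043e52c58f7e60a660a85a0960ac60b09ad77f58664552d19a2952ab625a67257f0732e632e832ea32ee32f29253925032e59a992f815d1a900842e136a85bfe3074451a212778fc5c00451e38e15c0f38b224d4903a0cba2d5a32a547b84e08916a5d565d5a1ccf0ca8329c3c7f3e63793590a55d520ce8110252ee8fd8393b33ae7f387c4698396272624452e56253621d5c3e769476922a598bfb49d942000a410a430a320a360a470a450a346ff56ffe6fd900c6022e3ecf2536,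
  nat_lit 0x93407edf4dee9ac27edb70a870aa3b010ffb2c7c93140a4e08ce7a982f92065c2f8a48612c563209989d99dc9ad3411c4120668066842a767cd99aa13a593db73a5c0ec33dba57f3377557f6535738c07d0d9be228d9209945e990773dfc00443e0021ce06b621f322022ea02ea52e9311db15bc82c615a882c915c015a50283027c0287028f027b027802890281532053223560532649e90e1109ee15869a7e9adf236d7d2b528c367703f07bc795635baf43181f4e5312503550251e5f974643171874158f158c15901597154815a082c311380db42d1f35a12d262d25299357c857ca61e76944512369469c6e57c7571211d1571657182f76282d,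
  nat_lit 0x565356729ad95f5b596a69f6652f56716289958f7b9e3f057b1b7b4b0c8b0c8c0c860c8005c70bfb08fe23b581d26637357066f1326f9c6c52d952ca52d352d50c44174b8f7c4e1953cb41dd97a352954b4546091c112002546305e47d8d97dd3dff7c495acb683d685096377c4b19369a7065955cba410e1810317b411264f37f297f2c5c7f49bf4a2f5ce361d756f265996997654656d085464b77655865407f2458451c87487f61e32a1b61e861ec5cf999218af413b814fc26eb3b3426ee4d284d2c38d83c5993509322075246f9511a57af1bcc7f2b65285d126523653056e21f344d0d56ea3721497338c723f53b3b99f278a299f5705a991c,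
  nat_lit 0x9846628e98497d86665f52eb7d956768676a6309185a62fb446f4ac767671f53236357352943723a835a3791677b2c782c752c8a156380e245f846144613689463fd723864006759688065f182067f149a3769123007342b851e65cd52b99ca59ca27df64d0b7dd52e8e0b667ce657ea988c9852066f49a3986a11f71b2561e5989051772a202ebc3d7d155a7dd732a97dfa55b198805b8847d547ef431d98949caf504147233f2b2fc82fc62fd47dfc49ef328e3c697dd1543e3def98965449061a3a664fd94ffd0cc020567dfe62bb55c89874985c54f82fb898987d6362c252361d490ef5070e522f7f0a9a2f7d600c327403662f66357ec262ed,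
  nat_lit 0x7f7a3019323548164818480d481c1b273f0382586e354fde4f2f3da30011053d49fd7d8b7d93103197db36d51b6d530e9a1a7d9173e430a2821017582d534917056f4a9f84c94ab34ab15def4aa34aad490f24b11035102c103f822d10391037102b1033474d3072670b382b422b26f89a1624419a316ced1bc2629b7db962953deb665c0eef664f9a277f0805d5098c68e870cb283e0de0690e6ce47e2e7e1962cf7e306cb9504537dd7418630e33d9676f204163d33772879c674a1212674c16290c8262f23fab62e5876662fc25fc0f0b62d366e5674509d7741c10cc526462db66d462e662e866e062ea62ee3bd63bda25b966670be099ee99f1,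
  nat_lit 0x69c5780c7008995754aa54ad54b572a73bbc357b5f123bc23bc66b6b6b9d651d641037d370b67059529923fe139a23f7434b18504ed69a3e38a19a6928484a264de700ca4de554375f8e4475713e71405a0f6ba75d8f51e4132b2573464d72a9991f2096028a4a100cbf4a0f530d9a8008c1862323912bcf20882baf2bd038162658381a694319e933a233a699d16f9f6cc552c870504fb870301a451a481a581a4d1a551a4a1a4f3c343c387a621d9513c20afa99775e435ee4366055a580159c3555c3406c5ee37bc43f7e5f01824e21721459144b14531457037e145b14551db61db81dab829e1f1b1b161f1e1bc61bc11bbf10541bc40ce445b7,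
  nat_lit 0x6f5270939955709c98a618de275b7e6f999437e570157cbb240327503c04348927c72c0b5aea5aee94d56c8183807e7b7fc18acc1c776c6d6c4c6be5995e6b434b370d5e10c41adf1adb1ad01add1ae31ae11ad44778834a8d4a8d4d477c03c047640bc20bbd0bb90bb481bc0baf0bb24a2c2b4d47ce47d23a6b430347d657c1233369598a846eb86ebc54954e7a37d16eb151ae96d551a209ea0b9a0bc90bcf0bda0bcc0bd10bd98dc28d8e521081c08da00b4e4c236b806b825cac38780d1e1f9c5cb29a6c9a6f3ee9181c4ec245ca232030704ec47631379a6d6715ed2481830a37f927c97a6921ef54a53b9537fe37f409d03fe93fd73f9b38fb,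
  nat_lit 0x377d99983e403e44999b81603e4a05b109487cb36cb27cb66dba2fb7705e6fc124ec99727cb483e46a7547bc47be29bb8fc8104c47c645db5f0b3a6f54cf587a31db31d455181a7f52760ae98ac046ad436e46e369c669c876ef3e339b68589a589c1018101610111026101c101a10230a3b3b663b6a3b6c3b703b749a4a1a1e211446863a2d1ebe20180d2e7e50992b40b9317f18922fcd12bf0e4a0e430e4c0e520e400e5b820310126f8b1fa01f9b1fa525be13290079007000838091007d007b006f15125bf16ad740b67e964b0b4b14081e0a6b0a690a7b0a640a6d0a7c036a036703790377037b80dd03756ffb995b31830a393b9f34f82b7f,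
  nat_lit 0x1b6b0ad438112c662c8c2c892c6c05b705b505d205d005b905dd810c54574fc37e1337316251316798f9109b109010a082370efc109410979bcc9bcf090f1c5604ad19821c5a5bec6acc7cb130637c8b4e0349cb878387802f3206532f350d85021e09c3091109c509cd09ba09bc09c7231927cd6569661465fe58f298894a424a447d7914367d9e0aaf13684a417ac2413c38993c0f6bf741434d237f4a11654561102f329811ad2d734b5657b7210b96952efb407028e51e9a66792434532549e3664c2ed83c7c239d3ec791ef32b342ef466b467e808c7e33068e4aa06654466d46665403938c34956ec17f747e2798c07e4e636a4b4f3fb2636e,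
  nat_lit 0x1b1590d520a81c8520b2387d20b0461d30457f5b32ed7b8b56279c88599e59a259a659aa4b6c36589bb0176d1be63e313e34242602424d368e6e359142865ded7c7207d9507d11ec39d339d4410a6c9e7804586307cc146b1e6f44e107f18e9639e73aba400e97d440124016401a401e4e2165d74e245b31153167f599c47c8896a11f9863a27c8563781c9f2a502a542a562a5a2a5e014496ea7cad96ce2f222b963d0913411801827a17702833292a142b292e292521cd05b221c93a9d27096c7998b941b6287d2775291729900e04938b92802c062c082c0c1b0426c2234608b62e1c7ae608b86f7c6f809af2358e359235961a07359a07519228,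
  nat_lit 0x179a7e6682dc158b319f06aa08ab9326169e2ac93c8f1cb10e46331a1f511c605cc85cd240b3448b76443db11f442f5c528379e52f1f9bba081c082508230818082c0829081624a024a7981e65b11fd71fd51c5f43be8f0726fe2a1d1987051221d125d90fff5241981d0b04086c25d00943093a094b094709450934093917bc008017c317b917c482fb0b7a1d0c1d100ebe1c9b1f2e1f49206f177f16c7165f14f517831781177a17771c951f231f271c98145d8a56203f2c381fe79296204920451fe116ff170416fc1372064c16f216f72c42230e914b3d9e2c443da03da417131707171a170f17191708170c161d1c681c8d1c801c880a071c82,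
  nat_lit 0xa160a110a0f0a2d0a0c0a1f0a2e380383106916675c381217f99c760ecb0ed20ebd0ec40ed10b2f0ec9179c179782f7179017891787178e36c54b79178b304a02724b7c0b4821f121ec1d1a38ac187869194bf538cd38d207bc4b842f08186e9914561e7d4d66872979977e42ac166d97bf300b3c8b3cee4a2a560b560634a13d2a18203a12082a3d2e3d3207073d29342f3dd23d39243922731f771f462aba17410ffc1f4a1f4d361c25d41f390f9e34a7362292d8385342b42f7c1e3a7830951734a22f1a0b36384f1cd7385c3c5099794c284c2a29890a884f434e2f5d2916531651141c165d0a7e1655051864f464f658e50906996b99683fef,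
  nat_lit 0x105f105c036d1066105b106e106903e403f503f303e803f802a903ea1c461c4890ec581902981f9628f7200d24bc7fed771f0b34276327641734199919ac19a9126f19b019c5389e3b3d075c13b22ab43b47921c3b333b37577e57803b4346852be31f2d32a03e1b338f3e1e2dc52ac146cb6f77456a3a50497907650ac4456e011c8bf520fc2e04080316f4240a46d00292467646d33e373b274ad38e6d1c3306661ae570e446e43ca23c9d3ca63caa3cac3cb03cb417648212175f175a175c05a216148286150815071521150a0aa282b50d402ccf6a272cf52cd32cd12a3c24d20cb866e60d946056114c490418701aea1af91af2088f1aec1af1,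
  nat_lit 0x1b961b99005929bc627f5f4b13cf3158315c0c8931622e1031688ee253794cca626a934f4ccd17783e0448af927548ac22042ee4488548833c073c1c45ef632298d398d063c264c82407934d7a974cd264c647032f7027f90a677f2246f74b6f43db38148f4c380f380b1a16273808e47dc0980b337334d21dc247ad272d44ea2d388f5a1a507877304744f451a031a0363237a07b2d7b2b37a715e80d351b2916d999662a632a4c09fa81f00dd00dc70dd900f40dc5041a0270042704250429042380eb169a0256169d16a116ab16ae16a7025e80b7025402500249024a024c229c31867e4d59a9468331922d7e12eb12e6096a04368273827012f1,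
  nat_lit 0x274126c826482671271127504500511126b28174709206731df719c1cac3a9382c03cec17497d1c5829123e123b1237122a12320d02122c90da4fc44fc804044fca4fcc33b435063964457a39723976397a397e94b294b5340f34043410139c1c293dc63cf9359f2d1805ee3dcc9731209f33c52d042cfe259620100b2222110d5994d85daa35135dae4d4598cf6f8c6f6122217006079e1b0b074a35a81bdc35ac8e4c17be35b001920af22bd9045d2ee623d534486293627b03870db06209249023920d501caf0aba624082e8216a3c7a1baf3dec3df0081a3df82e2f8de209411f541f581f5c1f6019cb8a5c523a523e19be1f5b7df4988b33b9,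
  nat_lit 0x3e2622792e5c350b2dd83b519a4c076a0f251b4a019828fd372d5b4501360141013f0147013a014301480da7351012d62a3135142e289a480ee70ee00ed50edb01aa0edf0ed789601d4d6bc11b3707090c851b3804d013491343133c0d370a3c133e02c304c11a6c3138313c313e314238763135330b27a05026368309a923314e0704be2cb22eb12eb42eb829ce29d029d22d621827317d8ed4130012fe11e504ce8277130a13050cea0ce70cf30d060cee0cf70d055bab43275f045f0604c4968d968a33702fa4337433682fa011a2336d25a625a8451943af934704b804c61a8e02171a930abe0c5e1a951aa6175117421756174d174717450046,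
  nat_lit 0x27f627fa0f0d06d10f023b7393d430171a468d9c24d64739473701a627102714971e9721271c271e2722339c3397339930428ef333a01818339a3a8e560259943a8859989bb2425742703fe235215c655c9b767e322e32323236323a323e324296f82d0827e318d13dc908cc2d102d1419ef19e619f7833f19f119e519e0240824564e7926ab75157580649125e1662d4cf5282598852947296a20cc20d120a12801461e203593e620cf3401351e9615352231f1344d539a60ea3a102b1893a4539e4aff2db82dba265f2dc02dc221ba8a620faf0fa6080e82210fb30fb10fa54df29317460123e5549b022d1fac2e2b2e2648f02c4b28816bdc8adc,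
  nat_lit 0x2de10a51ff0079a32d63fca922c7374613b30ad67ba234d40ab30532dd3063b68327c280f8235314d30733f20db090073b511be3610102038ff59b45543364d59ba59c19bae52a160e96a2f446b59b9692f85c2108210771070107582351084107f107a33ff0a8d437343793fc2436168373a7395941bba51b251b445621183118a118611811193119611914bcd4ce04ce4118961ff1def1e0d12e416801d7116ca2837246676b6246516e9693f4eec930d4eee36870b910b980b860b8a0b950b880b8f34e558e757da430156c742fa42fc36349456363a0c6d1f14363e364236f30a6331a92de8319d392c96e605a100f10a990aa70a9281a10aa8,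
  nat_lit 0x30d192b195a19651959195c195f7de5500e4cff4ddf511e5b8048db98602fce986352183bd033cd521c5c6e4197971a971d419216ac1d3152b252b63d194c1b52ba9a859a82790952b541c949e44ce7356f49e72ec62b352f8230302f8430358d2008f3296e2976297a297315cb990c1de61ddf8caa8cad2c68334a04317c1e60c750bf418f318c2aaa04a515e115d015d715db0cdd15e315d92eda2ed744c42e2444c694a78ef0508375920188426d48bd4b8e1d350a970a900a9d0a8b0a9b0a870aa1304c157504017b451f0028b12d4b3473351934091e611e63108c1e5727e1398126f141611e6580e430a6092c05c5010b637532133216946d,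
  nat_lit 0x2f4c3edc1a569c050bc42a02282f7ecd99db213e45d34a0545d145d419ed2910291403bc291a291c290b7a165b9f444e444d3e242d0f331c9c1643ee81d62b6843f243f4389c5bee787b3b5b3b5f3b5430d51359329b37561af733c09c219c1e373a369537555c1927e6785e518a048806ba043c1b6f1b6909dc25c93f83097e6adf083242c22679331103ec1cb30dd582ee1cbb0a5e1cb51cb834274c6732ad3874217a11d6386e7d525d6916da3cdf5d7363515a411ddc01df3f717a701dd63f7b3f5682be2d1c314c18d2315105e297573008300c30022ffe30120f7996f009fd00250a020a0a09ff0a080a231bce216933340a053336334c92e0,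
  nat_lit 0x8f5f8f5c2e1a27db48811ea227d22a642a682a4100f203af2dee10d638bd3ee60fdf3eea974d3a603eec3b2f3b2c08db2eca2bdf3ec47b0657f037775c1079b25c14517251711c381c3f381924e524dd24d024db08d69c143ee02d0b0cb138be0bf7112f2b742b780e9c0ff22b6f93d62d6f22d1016498680324311a311c391f219e35272ecc94a939ae300120c020c4252f30c40bbe12bd30c612c3826f12c50967027f12ca0be68fe834753923412f1d2b31bb33b2089e096c1a02315225151e77316d2f7436e699e299e5251736ee0dab147d148d14811471147914760dd73930315b3938370b393c393e96e238de38db2d23226639109be79be4,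
  nat_lit 0x398925947a274b407a3a223f30ec4c4d2f132fb10b5519423d953869576e1330600a559541c45772576a56cf04e03f1b57393127572b43b91ad952733ba73ba33baa0d4816909851517834e01f3e517a1f421f41341765fc0e0a34e354a3386a12d229be06ef234337f03627318a15827a0e923935792d754392439843945efb79fc4450337b4ee23a22478d39da39de39e0907c18e818e039e894463ead5dea235939fb276d277208e908e708d808e308ed08eb08de209c209b235f1bea2374154a99b878498fe303ee2f4a7858518845c7208c209025e9411f1eae2ed00aa478d95c1721ff4c85147a27d50a281e9e1e981e961ea602fa1f818f86,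
  nat_lit 0x2d9a2d951e7113602d9082421b644e324ef54e27643b7e443ec0991a01fd078f1bbc497f19a64962312f140414cf2d830a5093f91533069e60235ae165ad987d5b965ba6306805f905f006068113060305f205f529c821da2e0763ed1146302948c51c671c6a000a005c2e712e742eb7192f192819301935193b19401939230a23090fbc4b5926de4d824d854679466e3e833b9b417013212c2d3d542453019e78a447923d4a900d0e750e6c0e7d82050e790e770e691421141f14241419143d142880a40d1340967701128f201e05964077409f409543e51d8f40a140a5334733e833ea2123259b211a996e0edc257d12ec73d133ef25ae057625a0,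
  nat_lit 0x1e8b148f0a4b0f2820e576ec8c8107260731072f0737072a813d0738199c19a2199f19dd19a4073419de03ad09f815f515f315f715f182cb191c191819251923191e1576832302f6032c0328032a031a0334035140cc53c365d931d92867176045d600d200d800d400d100e300e800df13e3109813b7124013ef13e7828f31e52e63739b46ff73b248a30269137e137d1376138e13821386138b252831e7896e25f7566839a50c8e566056621dbb512b1f1620aa298d82ba35c531eb40ad46ee28739c861552154f155e02e6155d1402155548595ead1db02d7c91dc268581547530751d750b26ad2d8f35ba26a87ed27ecf0a191fb4314f2af82af5,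
  nat_lit 0x890008140814151400140e1411075697e582921c701c741c781c7c489b488748aa57918c7f4b8c2051204305143cdc296346e13ce4991033065bb728b628b828ba355c25b363766ead3ace3ad03ad247b53ad60169912802e31e083f0a491f2af21c251c0996401e0640d840da40dc4b8684041c8b16236bf555ce03da189e18d718d517aa189a18e318e633081c929bf062109bf333123317266347ed12a7374c39e5374b19b40bf10be50beb0bef81c30bf30bed04144f7328192501471f01143c8082d610ca166215441667166b1661167737b282a837ba76425bf826890fc620a6324d420751d721b0029c81ea0f1f0f220f260f2f82150f2d,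
  nat_lit 0x38492ad12b679aa230364eaa4eac49b649ba49bc461149c032ba93136458645a0f5849c55757579211ba569856a689984d4b57b42d7035841e2e180e118e4309579c3119212131130495279027718c8f76fb76f918a301390f2018b718c118c6831a311e3120986631243128312c31302b4b2b481dfc29de0c9e350392595988598a475c39cd1b5c59909bb47d9997ec475b011022d822d530cb1b30135d109e49b230332b3e9ac94dfe4f6c828c49b078f278ef9c843ca19b15572057245728572c5730434d3f1c2847576d572764619a2146a448253b0517e84abc68d863c114e214e0094e82b014ea14e614f120f714f220fe14a029b320f98ed2,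
  nat_lit 0x1ff61ff81e732b8f00b81ffc93e01b631bff909c059f2627262526204662231262127f3a083c563d56424abf94392355253b254a25481aa237055562490862c7108e4741475391204ab94faa11a01df6211f320e159c2f3827bc61951a284e6e116f4a091668376c063241d956337b16283d26b381162ac5190530e9853603ce03d903d703ca03e003dd03c910b0319a8916891942d31f7a3e2f56cc1f749ac06bc2157d1e5835760cff0cdb81da0cf581dd0ce20cf91f121b9f52ed9697620a2c9614c71406829113fd13f413fa13f309241d8b362c293a255963a79493096e2523251a1bd20860251f95fd7c249c0e47b69c1179a2479b3e673d0f,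
  nat_lit 0xf80298521e3231f0476111f21eb0c170c0d0c1c0c13041c0c0e0c15358d5ef491e034fd484c37b137a9245402cb37cc7cc2484a7c8196d703411101110f110d11131107111158c77304619a61972644332c278d92a74e63357e3587357524993588262317c026313bd399ec539d67154a923bbf4a984a824a9a4a8f4a8660e753e10e3b06ea47314a8d2014048e303d462046247bd0641c37088c91579e27af27a227b0279e27a40f00820f0ef70eea0ef20ee90eec0deb0de305690de70def0ded0dda93fb48572ec82b1648542d980b5a044904470453045b044c044e04552c152d9f7aae563e5eb041a71cfc00c000bd00c500cd00c200c900ce,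
  nat_lit 0x17a72ce4420431fa7f1a159e9a5a0627465c244e203066757a5798e35b1a5b1c072d2f201c360498929b117a23f3429d46754f777c5a5adb0478294e2c584a2832c0529192af1bfa02014e224e3a52969a889a8b376e08666caf0fd725ad24b60e3f3770775d376937651209201704130840088c08930897089108a10895375e3697376007328f4551c140ff2414199b8bb31cd52420241d1a6a1ce41ced15eb1cbd04081ceb1cf00d741ce9363128ad362a28af28ab62911a8442d93b25593845a54f7d31b931a242d742d01c172b421bd651fb4bcb23cd2349192023b204fb0120011f012d012b01310127012f1e41948c36282268948f234128dc,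
  nat_lit 0xe81018a08b44039399780f0402f2e7c0c74851c6085729e2e78112b04601b471502216f0b4c29378c1a39c86cd51d3e01582c981bd81bdb02c802c502cf02dc02cc02d180c10368218a40cf48292aa4420990bd04b104aa04b304bb04a904a604b53cd23ccd09e842bd0a124b8199be5b094e505bda4efb4ef9328655eb5bd70e8e108055f5161b401955fa227b3c033bfc3bfe12c09798979b613836e53bfb5e333cf50a5d1dc55ecb19a14ba84ba3284d44802acc92731d0927de48a039840b781fb61da410727c4144cf7c5c560158d83d8b4d6e821e0a1c3d616f5a99181bd4329e3767361f7937585b9bbe4e284e2a2ce91e1c4ef7997b13f9,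
  nat_lit 0x6ad36ae54bbd442a2f6e442926ca1d2322812f414476447e4b3f8b9622432261225f14ae2262285a27a94bcf4ab75500982c301121e435501e9c1e9512f204dd354e255221df256b1edd328a2c7e3289009a5cb18cfb8cf82aa1320a219a321432102aae18ed2ab397d642a52df9346604e4245f1b3356b724689abe45013dc55df709b72ffc2ff8034e0cdf0194018d80a70184017f017c0182209324f30604180a2bc941834186327632782aef327c15d2327e96fe258c258e58231b71093d2f6700ac39c02a815c330e541c734ada4ad528fe290310523e0e29040fab8c0a06377c42449a449e45250ee53f543999068c862520f0361609562069,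
  nat_lit 0x367891ba367a367e36803684368814e42bf157b857ba994b1e39111528a0289928a510d12feb289c99ac3d5d2dd08cd6205223d31ff2204e1285127812890e18127d128012834f9f3b3f13442d69881f2d668118008a00950093009d008e0099009e131a894c15430ce110e4208f25bc2cda32e182d432fc32f825d67a1423c923c7273023a811a4143a83a212005303282980aa282b135f2a0523b623ba1b4d333914301c54093781fa7dbb4469515c980836734edb2ba380a2417c207d418125c38d6f2d6c1d822d6a131825cd389a3e492c33924524bb21bc2c3c2c3a0ef106637a0994e324c4425124c824ca21b936c88ab621b736ca2e562e50,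
  nat_lit 0x821670731d411b761e4e513c0f982b372b2f30a12d4e309c2b3137392f452f3a256f168b5101510423961ac31ac61acd835d1acb1ac81ac126e326ec26dc3653039c1a0492d226e638a96c48457238ae260f8ada245926cf26b626c47513751126cc033e0349033d03630344034d03640232023d023b0245023602410246230626d72f893af126da2dde30d22db736cf420f3e0b0fec4d219a58299a299e29a032b9350032bc9a54119c11990fb911a711ab825111a94c3252df2fb50810014f1c1914270f190f130f0f0f070f110f150f081be00bba388310ee56a12ed21eb067eb546132d80b74623c4184246d147e14d814a914ad0ab614b114ab,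
  nat_lit 0xc2f0c340c200c280c310c260c2d34833479348534072a5d348d4083368a368e1e5b43133692881d3a4715c41d804c691cc74c6e1dca1dc629a54bec0c1e25e606e125ed1eac0e950ae20ea50ea30ea70e9b8209218d2cbb2f251d632cbe1d6407a821b43085307721893078307d308e1b932f7905c1033114d47743774618af0a1b18bd18bb18b118ca18d918c8189118cc18e518940f16831406380641063f0649046c0645064a91b44aee305934024af8495e1c7b04af250c063d6a7745de45e00fe5249723ae23aa34ad2276310d31109556955944b40d262b87164e2b8a01f780af01ed01e201ef01f301e4164d052c189810d3255401f41d33,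
  nat_lit 0x4462446681ee446c343d3bc47654031025701d5e3aad3aa63aa93a9f4e6a0e374e595d9301fa46186325277d22d24643049622d627be4653830c22b430f430f1187d0856283b4aeb0e972b1d2b092b0e2b052b0710502e351d9904bd45ae45b09afe019c01a501a3019a01ac01a90197268135c374f3172a35bf278b2d8616e016eb16dd16ef16e682e116f01ecc353a353c1fd3353e1ed380961ec88ef703032db51fd933941eca36021fcf360f476d36125216521b0f1c11551163824b115f115b071c1ab32b5a2ba81fcc2bac2b9d2b8917261d502bbd2bab7bce6421418c01ae0dcf2cf10b2b2dad2daa92e25d6797851d031ebc80882da81f8c,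
  nat_lit 0x1d9b3c379a9b297e3ac13ac83c2e58c858cc5d7c918744395d80572f06160614060b061000a9061c81151db2256c257509983ebf3ec28d1e4c2f50224cf09752477a5561554c060c03854e6555712a923ff830f2252028222287089a07c008818c578181817e0864087309720974096507f3258b529c4e429a8644474e4646a63e8c4273418b469746894188061f0621048006340628062b06313a5f3fa73fae442d3fa5693586a7464b35724649354b464e465046453201463560ce2dcb43d39acb411110f710fe10f510f010fb10eb0a3e249d09b22d7872aa1b18163a618517e717e217ea82ff007317da17df01b601b401bf01bd01c301bb01c1,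
  nat_lit 0xd52060f0d540d61044b0d5d0d621fdb1dc033511714336a3a434d1512bb21dd0d991b7a21e8185f36ff0b3e039a0b3a0b450b4b0b5081b53900087d25771b740d9f2428242d600f95552e081fe23154243a0d9b47bb78cc1e051dfe0cd22af61e0307590760075e0768075b076607813133075546d6299570e16c5b298f19560fcc437071b742a775cd55175a89124b57f4202c9c2740d020290d4b0d3d0d3b0d240d3f0d470d220cfc37cb43522b61289a60499af626af278227862788752e898f01c53cd13c9e832021513b9c3d7e3d8240f740d540f529d84d8a40f940f32542254425411ad7254c3b4973362371228340be9a9d231427542759,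
  nat_lit 0x2e602e642e6625262e6a2e6c96ec248721a61da90ec114c90bd61d9d03a103a703a303c303b003b380e011b203a911b911b111c011bd11af44897be83af55f10450e0030246b2cc42cc63aee3af23190950a30d05032987350192b445aba47f93aff1ab11aaf1ab914171abb1ab5835f1600160b160915fb1612160f15fc2b022aff2b003ae629c78f503aea1e171fd15a642e305a6b439a5b8390d3137b286c286e28702874152316d016cc82e3034a16d516d616ed1cf81cf517541d0039911d0b042b4f602ec1426209e557628b79213781c62add522c1dec4f2d7ce8580b4dfb0cd64e0c4e0e98a12ebe16659b1e9b213b312ec23e1c42542425,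
  nat_lit 0x95d095b095009590961095f095214232f6a349e0955349b227d92da04ff050604f004f8050304f604fd09830968098a097b09160978097d044480ed043b0434042f042d04324be34bd382ea984209f24bdf4bdd4cdd29ef0c043f800343193e018119964cdb241822e9573d5a8e9a42241629a829aa29b6240f15588ed614ff14db150414f714f914df14fb29e707700b7e77ae25b014e90c7a03fc2cae1f3d2ca90c1140b14b13106a25eb3d03151c497a28573cc52fe834b749772bdb59ad61574ca552a252a652a842db34414a1424df33fb33f63b923a2b11575bac90a31bd12692337926055124337e8ae20d680d670d6c0d6a81e90d7a0d73,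
  nat_lit 0x182418371823181e18281817181b4796479877c38d703d4c4be18e890229021802210225021b022b02232afb15cc2afc06b51b7d3f903f891c2a41091c0a1c0c774e429305301ac50cfa93b21c0e1ab61c1b0ba641764671143547c1360675b762c10524052a052605230535053a8101234a817c1d8640af46305d9b4d4f2e862e8822ab4b074b234b1f1d690f8a06c837ed3a963646093f9bb62bb60f8f12690e0c826a2cee92e41e431e3f1f6a248e199439a88a4c3e5c23b023e13e640f969c2e291f1e491e4622751e3d23ac053808c546601e928d7e222c1e891e8630da10bb1e8333d1360b97cd62b662b9289e99d328b560446046604a604e,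
  nat_lit 0x8520b407cf10ddd38aa30e2976d1bb166c619474a335c7610493e1200a405a45c2b769f269d7ac1957b406a2c0042852c21076e11592f7a1e8d1e9031c5237746c7827899bc825e49ab49a915a649ac82629c8006df07130711072106e30717072206d905cd306a4a7c9803537f14ec43c76e8309930f423bcc3bcf3bca5443544660345393544a509f53ee491c06a022a050e8538399eb99e81f051f061c312d57491b6503604d2ff335cc35cf2fec35d235e735e19b5a4f689b5d28ec593d57b25a7747953d213d3a35f525a33d3735f23d3f11d421e13ba108782e020f52146e82a7145f0bb61468146c14621d891a12026d56380e241d8d8cc3,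
  nat_lit 0x82aa14d114b714c012cc14b9809c57760623417b13d6575859d69ba84f6701a0058d1967540b59235e2132472bd6606d141a14dd2eea02b30b730b6e0b800b6b0b7d0b6d024f77a44759777922493f0e37bf37aa3157326032643268326c327096fc2ff52fef210924320f2a66f59c7207900799079707ad0792079d07ae1ea1288c207e2db32d2e237a92e64fda4fdc34ce55b22f9e21599b08027680b9026f0262026a02610264553790513bea2fba2fbe1a6e1bed08450847002e084a08550858816513ab1f092ba78981200b3dc158a13804998538d61a7531af2638262c264e21b222b71e352735273a839e18830419188a188118878252160c,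
  nat_lit 0x17f407be17ef17fa17ff17ec830109b836988cb825334315028c253887283795214001e728b22138213b39957cfe373f20ee37461afa33ba1a1a1a1583431a0c1a101a0a15d4462a462c61922776617c17c993e82fab2fa672a02e812e8b2e84162e62232b5c162637d437d61ce212222bef977d56584d42573e57423ae9666e4673653c4354645d284043581c201c1d461a5a361f5f59d359f101354f6a5424576657641a38943323cb8bb123e223e623ea048623ee0f7f0f860f720f7a0f850f760f7d3cd634b83cda28920b711388990e969f6bdf6be6263a389554bd1475347c134b284a28431c4a365f9bac51e25a970657426559743015006b,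
  nat_lit 0xb3d0e830e910e8d0e8b0e890e844c404c4288341be422bf276b27662fa357113d6e1be22b993d6c0ea96e7f35d9537c3954226b39592c6f15691573156b1560156d1565066d2492248d2485247f31883ed5247d4555455735474441455b4559444439d056a482842bf538973656364e5905979e561a58ec1194574144791d791a2108502deb1d4e35089a4e1c3a203b203606421be8254e9a5201f91c3d230d3f603f29834446fa4f10159858a63e9c58a429c329c01cc01cc490e890eb1cca1ccc1cd0098f1cc39a183c6433fd1d142f14113301f0114911511135824711520bdf1c2e74f418b51466269b01e937441af53e3f50702651273d91a3,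
  nat_lit 0x20b820bd0e7f36db2ab1421774962f1d2f0e2f19188405210a208d18072522012dbd46dc49513cc1775820a2239814882ee33f5b3f6b3f6e36c03e18411b78833f63413a48e010de231082ce3f26211c3f5d3f2c3f5236153ab4427500403f512cfc04d804de04da03cd04e704ec80fb79ed509331ca2f3f366f31d131cc133421903a2f17fc0d8a21a2288727e54461375249984989498c8dd62b714224672e9a0436d8422c423038090ebb2b7762d13b8c28312eae67bd5ac13a741ee462cd45cf139e231b2316571f1dce349708a90c1a37de37e0120f0cc5443c24489b3030f89ab8384727562736385738421e6d21a90d57273e21ae250824ab,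
  nat_lit 0x3425341a742722122b3d2b4021c449cf5615561858d22a1719745a2d37f7479158f658f84d615593590016d2005b17201093110a1722171d37a225f4224532fe2ff72cb40d000fc90fce0fbb0fc20fcb005e0fc505410b962d4328a828ce2ff02d492e7a174e7f3222e630b830ba2733244b190e3221668856306677976b1cbf0a8f293925ee1eb314121cef0ca21e36255b256111241e0b96f4121c0c3f122111e71226825d0fc10b0f163f121813461ba23adf71c26c8377a6208045716cbe3b45778713be44de0d8e44e240a335429b0625662f53704d60436f636bbf516380ac371b371136fa370e371d63c941b5419576e7566b6c2d7f1f5cfd,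
  nat_lit 0x8d8d0d938d8a2026201c1c2c02f54ab5545888cc0c060db801cf226e0b110b1b0b160b190b1581b10b1e3d643d681efc17921efb183e22ec60c595e7221637c43d513d59220a2a962a983ae31d9f3adc975b317034134f637725264177483ff03ff2232b93fd232816a33725216c48515ef65ef820e3305c8222307b3080217e21792177513b21551dcc9c7c1762821c65cb366d66fa51419c78251c20632aca2ac6062c2f6080920490048d04a1049f04a3049b80f5773f8d0442694267049c19551e7b3943387f2e2c388f6be9438d4f590abc188e2704270606c0270c1927430f4713983b41a14720472447263039303f1c121b55575158d69759,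
  nat_lit 0x1eb725f21eb816fb21ac26878b6c2b573219565a4d4c46687af093c11afe2c812c7b1d96167a62b4662b0dfe36ec21a44ed32c5b2c619af821c1219c60c960f81b8b228c3aa00ca60cab0cb20cbd0cae0cad0cb72d59980734bc122f419803900dfa12501257125e125b12581266126395ec95ef2b1150d44059407a4ece2bb218520508304818b361f155f00d4d7be6597b2e21527e480a34f202a42901606762a250ee98017dac52fd796152f94c0690d614be286051e051e627e945c827f109188fd75a025a065a0a4ed15aaa5ffb9a3c28ef330c196007d5330f6b756c7e2cc32cca26171eea212e1ca21ee9188c240d29b12a9124111b520cb4,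
  nat_lit 0x2c4028962106512c494d37178ae686e386e02e54255726b81888348a8fb03c451bad0f7549e049df42030d3981de0d320c530d2a0d290d2c06e906ed06e706e4070a070d071b3bb04aa94c710fb4500549122cbc0382038b0389039302ea038f0394527a527822963acc527c48089bb850ac1b7397505b4c41aa057843377dc854f34c884c9c4c874ca2453f81e50d0f0d430d090d1a0d110d0a390954cc592554c554d254d62214140a1491149714a214941499149f35c9391814c30b83252b391c96e81ba847802df3476847833f8e4cd11e66477f622a39ab621978c02a3e05570575056a057f0559057b0580961705542b14352a352e35323534,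
  nat_lit 0x328c1b60809410240d4e02be8ed03713311549901c6f4992495c499b134c091c12493f1f4fa1312b5e071432142f04931447142c1439144805871c22091f88284347031422881ce7412b8fe62b4681782edd0fdb31c3136e286b165b45dd46db1ef5255052ff913e4c0c0fa944e5408423520c662357937313922046204b0c010c090c0380b202d20bfd0bf80c5c3e5f298b20ae32f11faa0d81978a978d1f791f721f680c421f6f78b23be718ef12a51f6c268e268a980c3d8957b056103d9180a82906500d914019aa41004da44d8f41031604366a04ee563b36703674274247a3515215b8300f5156514c9c74513421494d6b24724d6651596ed5,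
  nat_lit 0x3428342c2f1718f406642b9293e21c4d172d03d20c4026951fee8b7202f9139013a2139704e81394139981ba66cc0bd438933ac57d7b0a85074d0740073b02da0745074f07498990568e073c242a896a26992d774d9213e504e226914d9674844f5b00560053006500630069808f006720331efe8ba0202445310d781fb02460821837289b56372a2f6537341d2c1d360be311221d3c2227222f02e0010702ef02ed02f380c302f15f1d5f1b1bfc1bf7959f5f25068300a200a100af00b500aa00a600b13be58faf2fc225bb2c9a00b225b412fd4e1a0c3d35ab53cd07f635b4154c154715400d9082b20372153e0a5612f702b512e012fa04f512de,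
  nat_lit 0x34b527b31e45205523bd205e0ec74f004f04897b4f064f0a083e1fba540028f254045408540c191053f356c056c456f149f2608c608e60923359299d6e3b7de988fa5dad9cb13b656dcc1f9e700181a2033324e1247b25622475247021863086502917cd17d717cf17c717d10e9e09c03edf7d0a0889378f2d063ae427cf3ed63ed27633057c763434f7202e250412d81daf81a62c3f914979940b9c04670ba30bac0ba00ba50bab82af14c582ac14b414cb0ba814bb25112d932d811160055b2cd92cd6221a221c221e222222240dca8f84450a2a670a3095794510450c10292fd82fd13bdd2cab1d3a2fda2fdd18f918eb18f118f3831f18fb10ec,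
  nat_lit 0x4d521aad310f2ace303b5e2355971a43412578401cfe054824c723f911d9825511d311c811ce11c211c723652369160611cb236b07c299ba13ad13a68282828913b113af13a59871986e549054924d6d270b549643683ec92351435e1702436c9435738227032a9b10652655179819c607f507ee80ee07f905ad07eb815d2b392b3b0efa972d13ec4742474546c553c44967394753ae31bf3d31598258c4597d3161597369309c7019534175573b0763565c567c896d2d5d10596082608622a64cba99083e3b2ba53e7e5a9164eb61e19ba0243c67ae67b2540799234ba54ba64f2881b64f2a0ed915ba4f3020b434c634c810054815798d45879bbc,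
  nat_lit 0xe340e570e3d0e650e380e5f0e6661a04a95144f354d0e2e35490625356928d2077764165b1f956a956d1ec17761116723948d38201a01cb203c1ed11e2500962dc825fa8c2216b616c516bd16b416c116b816b31b121b111b1b18971b1d8369833c3f1213b43f19138c3f223a4d87be05bf016f1d76294d37070ca049f81350134e135501721357032f135a1ed9249f2b9f08e11ecf1fe42b812aa32aa824a80914086a17ac11e34cfa4cfc9b784d0239124d08248345ec3202791945f209bf3f1590bf27953d4f26b42792277e2797061305880591058f0599058a0595059a1f0300da26b1059219b827493e9f182e182d183318401830183507e8,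
  nat_lit 0x1c53047f205d206c205a04ea275d1b9c56b8111d1b347832560d8eee537b210560099bf96c262c5f357d06970694069c069a812106ac06a5227f2285087012ef22900e712c9f0f66484e79ba2b7b4332433443383f2e12a93726371f3f345a6056ed47de47e02a1f19cd4c9f47e8421a07c6815707bb07b607b007b307b413d513ba13de13d113dd13bc13d39a67467a202016c24b6936552aed047a034704830484047c80f3048a00541e2a3064117130668c70308b1d571d521d5a765a01e006461d5416be83261949194b8329194f1649293c293e255d2940294429488c200027056405ae05ca05d605d9810e129212b3129012b712aa826912b8,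
  nat_lit 0x129554ea5ab53d77523052322e9a90840ef827f24307526a526845c2670c257f670e67122580077d67161b211b235001672d629f672187413fa2243f9b3c4a6e9b3f3fe680de2d283ef60c98370d3ef838f9422f287a20c3287e7707288228841a0e6f89404606a22a424f1b31a419e2331f22b02ddd30935155160226a60561055e056705630570057381025c75984a4c8a4c8245ad44f14505263e0a812633263c2642909a17162bd329fd21712e322e3a2e3d2e3f17001990198e1985198d199219b36c3c4a4d4df15a464de2652b44d757792bbb20754d2531015747099a0157014b01620151015f014c01531c15241395aa110829ad0b0d0986,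
  nat_lit 0x79a879913c8547073cbf121e1b1f22a922ae01b01b0d22b222c18a644eff496439c514cc4968900f035e4773349862169bee621a6205621e9b1340ea570257047d3a13ea831c2cc14728309f983d472c80b00600911847f43d7532af47f619627939565f569f39c72ee1568056aa56771c1e2781244c196f434e57949a3a00ec26340a82358b60ef4f1f38b031a6319805cf31ac0de431b231b452e01c517c83546556506255705335624774609e60a0476e60687e46915e912649a44bf24fbd13082b0d824010fc137813651375136b124f069033f4474e8d9e4750403d4754114211408249113e114b1144015c4c00564c9396609c074265e75cc2,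
  nat_lit 0x1a5d388031c7371590d130cf3888279c2670973831c834c434c1819e19891c4518b81c4316ba26011c400313030e0316031f03230326033708f408f108fb090808f808fd090512641b50276f4a7b3c912f9c9bfd0fd58172120c05fa120b825b121622ba36c7415853d43e5622e3528b163316311625162a16371635162c1f0a1f101c4f20871f0c1f181f1d1fa616cf1aaa121b976107140f312675266f26682295267726668b6434e634ea0c7234f52e0f9b389b3b2647264b20d60d6420d9318f1ba51de43d223fba29b4730085d5047538f0032038f4003438f636fc38fc022606ce06cc06d606cb06d206f3377b37796a79448f2c712c721bb4,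
  nat_lit 0x3e5b4be53de13cbb03de332e2852229e229b997e1b4226573b4c19d842c042c79c382ac36603067832dc03fe03fb040d040b04110407040f1df290ad011a1deb1df81df408347cd3971917f744270536399e3ea897127cd50ff64a643c5b2df02e122a7d40bc318117bb03f6538528bd33e033e499701a0922712a18226d0f510f4c0f550f5d0f4b0f490f5734dd15b6570f45f15769412915cf1b00818609881ae61b091b021b0781f207ed81f50dc006180dc20dbe36d22b7321cb21be36d68ab4178d2ef42ef6452e26e42ef82efc2efe49a1120751680e5879a6915d516c124740e41acf020a79837981499c81c423b93263038c4d7e404192d0,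
  nat_lit 0x258721139bd89bdb522149ed52250ecc2130213d0186149a0d1716a4287908bd3cd933c2289530e430e79740399d3a570e6b3a5a21341f672d2a2ae701d82df62e4549758dda3dd9545c98441b83304f564e2d4412ad1f371a913de522f121d41ee60104010f010d0117010801130118239a084f36394acb1fc416de150016e34f659b583722232502d8223201c701dd01d501c801d701d101cc2a7e2a822a7b75bd2a862a8a2a8c1e4a1d426b886b721e4d1e5033cb599d6f862ccc2a852ced3a4e2d3f18a91d0e944480bc22bd22c222c50ad10ac80ad703700ad30acd0ac61d1f1d261ca409841ea51d28262b0b310b380b2c0b2981b30b200b25,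
  nat_lit 0x2146214a214e2152215615c399b63a524dbb3a282b0b33dc3a622c911b891d4b08201d4435fe77928daf104f1057822f10421046104b104416a8265b266122e4265c26538b627a7225de9321246f25e42965272f880f2f0c3cd503e717f015190c512ae5425b27fe280228042806280a18f6535b24b323da427c2b9b239f2dfb288a39443948018e394c96e4187f9c2843443cbc51363cc23cc6067b06750671066806730677066a20ec20e7882626c826ba27a627aa161f008d10c80fbf1619161710ab651b4a3169ee35c0598d20b62d470542053f0547054e0544055c8104264938d13332129733300e3007882589258458105814151020c90133,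
  nat_lit 0x184f1854184c1845058218471842822482270feb0fd00fdc08dd0fd201fe0209020702110202020d02125eab232c36a13664233d2c8f2d410fef0ff90ff10fe20ff50fe90fe61245124c016012431253826012553966396a06db45c155ad55aa9b0415140729150c151a0970150e82b742ca38e518a50d3100e42292228f20ea149326bc1e270eb033b73c6c17321730172f173f0c7c1738173b3aaf22992a790a9e078c421c48f7091a817780ba091208b0090b074606b206bd043806b106c2812306ae05bd05df05c205eb05c905e705ec32a632aa113a32a332b02de69a50099009970995099d00f88183099e983f47a74c99031d35fa35f725a4,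
  nat_lit 0x7700bf059c05a705ab05a9810617102c46219521982c542c529afa2f913c317a1044963b6f363d3fe119ba19c219c019d0012819ce19d384c2729c3d3c2eee2ef02f072e4f0692811f068b06860681067f8110834119fa06850b431a0019ff82280842083b8163082e0838083780b42be8824c2bf21bb32bf62bf89c7e2f696cf52f542f5a2f502f632f5f01230296029f02a3029b02a702a14a344a361f242da634c24e5f4a3c4dfd4a784dea28587e1a82f463ba27b8119f27b58fe427ba279927c115798c2b27ca27c527d10c7022da5048503d0c4c12025656570780da0e2b81f90e090e0e0e2780e80d70978697890e1518a730fd1ef21ef6,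
  nat_lit 0x2a472a4934aa34ae1c640dcd92dc4a076cc147cd49f74a0345cc00ff1caa1ca8384a3ccf4b7e989f7a830bdd073f020510ad2000204d92e81105111a26a53a6509f72e4899fb015475161fbe1fb31fc61fae1fb80661811b0659064e065b065f0650341d3d8d185824442442233f0e6225f982d028e11e2941db44708b942d9c2da024a594d6249b2daf46bc14860b9f1e748d7c1e841e781e7d42cc42c91eab94420e122c9c33b03d5b2494638e37ef2dd42dda2dd725dd11301f570a6e3051245b405d421141d69a0648043a9005fe0d2106c610091007100d1002100b100e92852bfe928224c02c0324ce1c3533d38d4737ce24b537ea33da2fe4,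
  nat_lit 0x80ff051b050a0517051f051d050c025c3e512d1b11b54b505898338905f61cdb732c1f70140c1ce000dc232f233482d82338170b235d99b400ba176b008517671773176e1769981498173c8c07b834d72f993c983fb620393fad242325fe2c6a1450641928eb6b4128e3674f67422c623566356428e63609356a7ceb7ed8830f18681857185c18650bc01861030a0235030603080304031880d81dbc28e949f133ce47705227522854e949a64bef15ff4bfd2c4f75e5502b90e54fb742ce130649ae21c711de11dd11e111e9825711f011eb1dd01dda3b393e0c15e709023e1181c839336e3c4a63455f4a8a9bfb2a2b18662a23050f2a152eb22b64,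
  nat_lit 0x2c703d41dfa52f11fec269623c4730253e54ac928de1d7c1d7f0bd24ccf29a74d7b01da4c1d52e98718164014d6164582d216470c25164a1e7e12f41e8f2865284f35819baa4c14325f796321e74c1e05e839ac3bf03bf23be923a60bfe015a23a227b6927e1d461eef22cf22cd1ef029994cdf4cf23094308c309630981b2a13d81b2d20071736778d779021d31b941728299732c232bf177c37c20d150e931d6121324af31aa8131d130c827513171313131f131598052d5e49190f5f0df12a892c922dfd13cb2df5148a1a3d2dff8ee406a60e515c345c3d47c35ca9225324621e30156e0fe021fd21f8020e12af128a129d12a312b110b6129f,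
  nat_lit 0x4c304c356863026711c40e2824ac39a328d449f4808635c6391b78a852db4beb609b603e12241228879b0a590a4c02fe0a550a530a5b0a7308b308bb816f08a708ad08af08a58d884a0b209420133dfb0012243610dd10e8046510d410e710da10d9003f0038004a004c0049003a003d15ae0c9c15b082c415b415a215dd2ed44a01023912e27ced33c63c761585157b157e158906c5128c15800b32431e1e3243221c96106c2a38127a3418341453173f0c4de015930dba0db70db30dae0da90dad001f28f02f6d29dd28442f72252596ee2bb8040330401b2f3102310517dd52d652cf664066438789664666488c2923231f7e1f7d76a721d622c7,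
  nat_lit 0x462045f0471046f0016046b04730bc620820b8404682ece39b01bdf076d07780774077b0773077e07a1023123fd052e1fc14c39255e23fa13cc0bcb828a13c413c613c113c8207a004220852076208a1abf2a37000e0006000c0019001d0015001b0fad02952d552d510f052d652d4c3ab131842a6b526d9633481b48060a9506dc4a974aa53f083f06972f00210023002d00360028002b00330ca481d50c9b0c960c940c920c9137922c83379d37ac379625068dd804421c622c6433490ece2a3592de11fd120511ff11f210b411f911f44ff998414cac367d4d9547e7306f90523bd92fd315aa2fd61d381d2f4ffa4fd55002490b4aaf490d16b0,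
  nat_lit 0x11171118112705291129112182454c564c374ce31d7b15ac1de314642c4802e512602c5c2c4c21979afc15b31dd48b8e2e0b25e227d83f6c1fea2ad42bb5267d2bc0173c1aef1b581b5b495477f026e877c18e871cdf1cd81eec3a9b1ae81b5663640e2d4c50606252674c523fbc9af4231c32071de92fe13f10359d30d9200f18ac2008274a021c1277274d1fa91b9b21d8267e12a0423d1c590d7d0b760d890d7f0d8d0d870d822f572ede2f5828db347649ea73ca2de22d352de02e1f2e232de423a1992c992f0e4f1fdd22a422a32da400ee00eb00fb00b700fd00f7809b33c8036f271720f520d31d2108262bfc22b938455ae50acb7601516b,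
  nat_lit 0x22de35da2193233a11fa2fe799b2163c91711b0e1db51fdf2db10de828d120ba1d2535ef778535ed35f010a610a310a910af10b310b882393dac1cfb3f738b8d1dd21d740b8d0c6e0c790c770c6a0c7e81d1090d0acf20d520df218420dc26641298]
theorem W0_c : blocks (rows 12 5 17 29 4095 131071 536870911 16 65535 112 A 20345 1771 cols 18) 18 JW0 0 = true := by decide +kernel
theorem W0 : On (Row.{u} R1 LW par A 20345 1771 cols) 0 1782 :=
  rows_of_blocks hpar (by decide) hcols W0_c (by decide +kernel)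
theorem idx : Idx.{u} R1 [[0], [14], [30], [34], [38], [44], [48]] [[38], [44], [48]] 1771 :=
  idx_of_cert hpar hR (K := K) (by decide +kernel) (T := 3895) (T' := 3968) (by decide) D0
    (subs := [9,11,13]) (by decide +kernel) (T1 := 3897) (by decide) (N := 20345) (On.trans S0 S1)
    (by decide) (n' := 1782) (by decide) W0 (by decide +kernel) (by decide +kernel)
end T2
namespace T3
noncomputable def A_0 : List (ℕ) := [nat_lit 0x1510502e20b83440c0b082c0e183c262098206090908240510102220880460203880e00080401000001c0000300000500000800000c000010001708542a3080582140a08201008301820504c20f078c161208381c20582c209048c0c1108341a30502820804080c0608100820181c205028c0603080804300004400]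
noncomputable def A : List (List (ℕ)) := [A_0]
noncomputable def K_0 : List (ℕ) := [nat_lit 0x8b4522b138843a151287c3613118642217078241a0705814060000]
noncomputable def K : List (List (ℕ)) := [K_0]
noncomputable def R_0 : List (Rule) := [Rule.mk (nat_lit 1) (nat_lit 22) (Steps.bwd (nat_lit 2) (Steps.fwd (nat_lit 2048) Steps.nil)) (nat_lit 14) (nat_lit 0),
  Rule.mk (nat_lit 2) (nat_lit 85) (Steps.bwd (nat_lit 1) (Steps.bwd (nat_lit 3) (Steps.bwd (nat_lit 1) (Steps.bwd (nat_lit 3) (Steps.fwd (nat_lit 3072) (Steps.fwd (nat_lit 1536) (Steps.fwd (nat_lit 512) (Steps.fwd (nat_lit 1536) (Steps.fwd (nat_lit 512) Steps.nil))))))))) (nat_lit 14) (nat_lit 0),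
  Rule.mk (nat_lit 3) (nat_lit 22) (Steps.bwd (nat_lit 3) (Steps.fwd (nat_lit 1024) Steps.nil)) (nat_lit 3) (nat_lit 0),
  Rule.mk (nat_lit 2) (nat_lit 157) (Steps.bwd (nat_lit 1) (Steps.bwd (nat_lit 3) (Steps.bwd (nat_lit 1) (Steps.bwd (nat_lit 2) (Steps.bwd (nat_lit 1) (Steps.bwd (nat_lit 2) (Steps.bwd (nat_lit 1) (Steps.bwd (nat_lit 3) (Steps.fwd (nat_lit 4096) (Steps.fwd (nat_lit 1536) (Steps.fwd (nat_lit 512) (Steps.fwd (nat_lit 1024) (Steps.fwd (nat_lit 512) (Steps.fwd (nat_lit 1024) (Steps.fwd (nat_lit 512) (Steps.fwd (nat_lit 1536) (Steps.fwd (nat_lit 512) Steps.nil))))))))))))))))) (nat_lit 14) (nat_lit 0),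
  Rule.mk (nat_lit 2) (nat_lit 22) (Steps.bwd (nat_lit 2) (Steps.fwd (nat_lit 1536) Steps.nil)) (nat_lit 2) (nat_lit 0),
  Rule.mk (nat_lit 2) (nat_lit 157) (Steps.bwd (nat_lit 1) (Steps.bwd (nat_lit 2) (Steps.bwd (nat_lit 1) (Steps.bwd (nat_lit 3) (Steps.bwd (nat_lit 1) (Steps.bwd (nat_lit 2) (Steps.bwd (nat_lit 1) (Steps.bwd (nat_lit 3) (Steps.fwd (nat_lit 5120) (Steps.fwd (nat_lit 1536) (Steps.fwd (nat_lit 512) (Steps.fwd (nat_lit 1024) (Steps.fwd (nat_lit 512) (Steps.fwd (nat_lit 1536) (Steps.fwd (nat_lit 512) (Steps.fwd (nat_lit 1024) (Steps.fwd (nat_lit 512) Steps.nil))))))))))))))))) (nat_lit 14) (nat_lit 0),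
  Rule.mk (nat_lit 2) (nat_lit 157) (Steps.bwd (nat_lit 1) (Steps.bwd (nat_lit 3) (Steps.bwd (nat_lit 1) (Steps.bwd (nat_lit 3) (Steps.bwd (nat_lit 1) (Steps.bwd (nat_lit 2) (Steps.bwd (nat_lit 1) (Steps.bwd (nat_lit 3) (Steps.fwd (nat_lit 6144) (Steps.fwd (nat_lit 1536) (Steps.fwd (nat_lit 512) (Steps.fwd (nat_lit 1024) (Steps.fwd (nat_lit 512) (Steps.fwd (nat_lit 1536) (Steps.fwd (nat_lit 512) (Steps.fwd (nat_lit 1536) (Steps.fwd (nat_lit 512) Steps.nil))))))))))))))))) (nat_lit 14) (nat_lit 0),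
  Rule.mk (nat_lit 3) (nat_lit 499) (Steps.fwd (nat_lit 512) (Steps.bwd (nat_lit 2) (Steps.bwd (nat_lit 1) (Steps.bwd (nat_lit 3) (Steps.bwd (nat_lit 1) (Steps.bwd (nat_lit 3) (Steps.bwd (nat_lit 1) (Steps.bwd (nat_lit 2) (Steps.bwd (nat_lit 1) (Steps.bwd (nat_lit 3) (Steps.bwd (nat_lit 1) (Steps.bwd (nat_lit 2) (Steps.bwd (nat_lit 1) (Steps.bwd (nat_lit 3) (Steps.fwd (nat_lit 512) (Steps.fwd (nat_lit 1536) (Steps.fwd (nat_lit 512) (Steps.fwd (nat_lit 1024) (Steps.bwd (nat_lit 1) (Steps.bwd (nat_lit 3) (Steps.bwd (nat_lit 1) (Steps.fwd (nat_lit 1536) (Steps.fwd (nat_lit 512) (Steps.fwd (nat_lit 1024) (Steps.fwd (nat_lit 512) (Steps.fwd (nat_lit 1536) (Steps.fwd (nat_lit 512) (Steps.fwd (nat_lit 1024) (Steps.fwd (nat_lit 512) (Steps.fwd (nat_lit 1536) (Steps.fwd (nat_lit 512) (Steps.fwd (nat_lit 1024) (Steps.fwd (nat_lit 512) (Steps.fwd (nat_lit 1024) (Steps.bwd (nat_lit 1) (Steps.bwd (nat_lit 2) (Steps.bwd (nat_lit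 1) (Steps.bwd (nat_lit 3) (Steps.bwd (nat_lit 1) (Steps.bwd (nat_lit 2) (Steps.bwd (nat_lit 1) (Steps.bwd (nat_lit 3) (Steps.bwd (nat_lit 1) (Steps.bwd (nat_lit 2) (Steps.bwd (nat_lit 1) (Steps.bwd (nat_lit 3) (Steps.fwd (nat_lit 512) (Steps.fwd (nat_lit 1024) (Steps.fwd (nat_lit 512) (Steps.fwd (nat_lit 1536) (Steps.fwd (nat_lit 512) (Steps.fwd (nat_lit 1024) (Steps.fwd (nat_lit 512) (Steps.bwd (nat_lit 2) (Steps.bwd (nat_lit 1) Steps.nil))))))))))))))))))))))))))))))))))))))))))))))))))))))) (nat_lit 11) (nat_lit 7),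
  Rule.mk (nat_lit 2) (nat_lit 193) (Steps.bwd (nat_lit 1) (Steps.bwd (nat_lit 2) (Steps.bwd (nat_lit 1) (Steps.bwd (nat_lit 2) (Steps.bwd (nat_lit 1) (Steps.bwd (nat_lit 2) (Steps.bwd (nat_lit 1) (Steps.bwd (nat_lit 2) (Steps.bwd (nat_lit 1) (Steps.bwd (nat_lit 3) (Steps.fwd (nat_lit 7168) (Steps.fwd (nat_lit 1536) (Steps.fwd (nat_lit 512) (Steps.fwd (nat_lit 1024) (Steps.fwd (nat_lit 512) (Steps.fwd (nat_lit 1024) (Steps.fwd (nat_lit 512) (Steps.fwd (nat_lit 1024) (Steps.fwd (nat_lit 512) (Steps.fwd (nat_lit 1024) (Steps.fwd (nat_lit 512) Steps.nil))))))))))))))))))))) (nat_lit 14) (nat_lit 0),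
  Rule.mk (nat_lit 2) (nat_lit 193) (Steps.bwd (nat_lit 1) (Steps.bwd (nat_lit 3) (Steps.bwd (nat_lit 1) (Steps.bwd (nat_lit 2) (Steps.bwd (nat_lit 1) (Steps.bwd (nat_lit 2) (Steps.bwd (nat_lit 1) (Steps.bwd (nat_lit 2) (Steps.bwd (nat_lit 1) (Steps.bwd (nat_lit 3) (Steps.fwd (nat_lit 8192) (Steps.fwd (nat_lit 1536) (Steps.fwd (nat_lit 512) (Steps.fwd (nat_lit 1024) (Steps.fwd (nat_lit 512) (Steps.fwd (nat_lit 1024) (Steps.fwd (nat_lit 512) (Steps.fwd (nat_lit 1024) (Steps.fwd (nat_lit 512) (Steps.fwd (nat_lit 1536) (Steps.fwd (nat_lit 512) Steps.nil))))))))))))))))))))) (nat_lit 14) (nat_lit 0),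
  Rule.mk (nat_lit 2) (nat_lit 409) (Steps.fwd (nat_lit 512) (Steps.bwd (nat_lit 2) (Steps.bwd (nat_lit 1) (Steps.bwd (nat_lit 2) (Steps.bwd (nat_lit 1) (Steps.bwd (nat_lit 2) (Steps.bwd (nat_lit 1) (Steps.bwd (nat_lit 2) (Steps.bwd (nat_lit 1) (Steps.bwd (nat_lit 2) (Steps.bwd (nat_lit 1) (Steps.fwd (nat_lit 1536) (Steps.fwd (nat_lit 512) (Steps.fwd (nat_lit 1536) (Steps.fwd (nat_lit 512) (Steps.fwd (nat_lit 1536) (Steps.fwd (nat_lit 512) (Steps.bwd (nat_lit 2) (Steps.bwd (nat_lit 1) (Steps.bwd (nat_lit 2) (Steps.fwd (nat_lit 512) (Steps.fwd (nat_lit 1536) (Steps.fwd (nat_lit 512) (Steps.fwd (nat_lit 1536) (Steps.fwd (nat_lit 512) (Steps.bwd (nat_lit 2) (Steps.bwd (nat_lit 1) (Steps.fwd (nat_lit 1536) (Steps.fwd (nat_lit 512) (Steps.bwd (nat_lit 2) (Steps.bwd (nat_lit 1) (Steps.bwd (nat_lit 2) (Steps.bwd (nat_lit 1) (Steps.fwd (nat_lit 1536) (Steps.fwd (nat_lit 512) (Steps.fwd (nat_lit 1536) (Steps.fwd (nat_lit 512)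 (Steps.bwd (nat_lit 2) (Steps.bwd (nat_lit 1) (Steps.bwd (nat_lit 2) (Steps.fwd (nat_lit 512) (Steps.fwd (nat_lit 1536) (Steps.fwd (nat_lit 512) (Steps.bwd (nat_lit 2) (Steps.bwd (nat_lit 1) Steps.nil))))))))))))))))))))))))))))))))))))))))))))) (nat_lit 4) (nat_lit 0)]
noncomputable def R : List (List (Rule)) := [R_0]
def LW : List Word := [[], [0], [2], [3], [1,2], [3,0], [2,1,2,1,2,0,3,0,3], [2,1,2,1,3,0,3,0,3], [2,1,3,1,3,1,2,1,2,0,3,0,2,0,2,0,3], [2,1,3,1,3,1,2,1,3,0,3,0,2,0,2,0,3], [2,1,3,1,2,1,3,1,2,0,2,0,3,0,2,0,3], [2,1,3,1,2,1,3,1,3,0,2,0,3,0,2,0,3], [2,1,3,1,2,1,2,1,2,0,3,0,3,0,2,0,3], [2,1,3,1,2,1,2,1,3,0,3,0,3,0,2,0,3], [2,1,3,1,3,1,3,1,3,1,2,0,2,0,2,0,2,0,2,0,3], [2,1,3,1,3,1,3,1,3,1,3,0,2,0,2,0,2,0,2,0,3], [2,1,3,1,3,1,3,1,2,1,2,0,3,0,2,0,2,0,2,0,3], [2,1,3,1,3,1,3,1,2,1,3,0,3,0,2,0,2,0,2,0,3]]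
def par : Par := ⟨9, 5, 14, 23, 511, 16383, 8388607⟩
theorem hpar : par.ok := by decide
theorem hR0_0 : lall (R) (fun l => lall l (ruleOK r7 LW par)) = true := by decide +kernel
theorem hR0 : lall (R) (fun l => lall l (ruleOK r7 LW par)) = true := hR0_0
theorem hR : RulesOK r7 LW par R := rulesOK_of rfl hR0
def cols : List (ℕ × ℕ) := [(512, 1), (1024, 3)]
theorem hcols : lall cols (colOK r7 LW par) = true := by decide +kernel
noncomputable def JS0 : List ℕ := [nat_lit 0x980026140b8043e080f88042050e87036060d80c32040c8683a1e1181c4a0a128984e28058244e241188842180b8582a020ad84826160b8804222118984e0b138984622108802e160984a83c1650904c28150f07c402112094142512084401f0f054281309485c04170c064341f1008c0a071281c48231007c34190c05c04170c064341f1008c48071281c0a23110840c211108c0a071281c48231007c34190b054001580a05430190f07c44230488c441f0f06430150a3870306140a8582e1c0e8804208108803a1c0b8582a1460f07142c170c064341b0f07c0e1f0f06c34190c05c2c81f0f1868361c0e8183a1c0d86880c1d1]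
theorem S0_c : blocks (facts 9 5 14 23 511 16383 8388607 9 511 4 15 A R 32) 32 JS0 285 = true := by decide +kernel
theorem S0 : On (Step.{u} r7 LW par A) 285 317 :=
  steps_of_blocks hpar hR S0_c (by decide +kernel)
theorem D0_c : allB (defOK 9 14 23 511 8388607 279 A K) 1 2 = true := by decide +kernel
theorem D0 : On (fun r => defOK par.W par.WL par.E par.mW par.mE 279 A K r = true) 256 384 :=
  On.of_allB D0_c
noncomputable def JW0 : List ℕ := [nat_lit 0xa04f0b0531444e098520c05b0d05f0e067150571745a0bc5e1a4660a856180631606b194620cc6a0f0731b06f1d4720d86e1c0771e4760ec3e1e83f]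
theorem W0_c : blocks (rows 9 5 14 23 511 16383 8388607 10 1023 20 A 317 24 cols 64) 64 JW0 0 = true := by decide +kernel
theorem W0 : On (Row.{u} r7 LW par A 317 24 cols) 0 64 :=
  rows_of_blocks hpar (by decide) hcols W0_c (by decide +kernel)
theorem idx : Idx.{u} r7 [[0], [2]] [[1,2], [2,1,2,1,2,0,3,0,3], [2,1,3,1,3,1,2,1,2,0,3,0,2,0,2,0,3], [2,1,3,1,2,1,3,1,2,0,2,0,3,0,2,0,3], [2,1,3,1,2,1,2,1,2,0,3,0,3,0,2,0,3], [2,1,3,1,3,1,3,1,3,1,2,0,2,0,2,0,2,0,2,0,3], [2,1,3,1,3,1,3,1,2,1,2,0,3,0,2,0,2,0,2,0,3]] 24 :=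
  idx_of_cert hpar hR (K := K) (by decide +kernel) (T := 279) (T' := 384) (by decide) D0
    (subs := [4,6,8,10,12,14,16]) (by decide +kernel) (T1 := 285) (by decide) (N := 317) S0
    (by decide) (n' := 64) (by decide) W0 (by decide +kernel) (by decide +kernel)
end T3
theorem b0 : Bound.{u} R1 [[38], [44], [48]] 17280 := .of_idx T1.idx (.of_idx T0.idx (.nil _) (N := 3) (by decide)) (by decide)
theorem b1 : Bound.{u} R1 [[0], [14], [30], [34], [38], [44], [48]] 30602880 := .of_idx T2.idx b0 (by decide)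
theorem bound : Bound.{u} r7 [[0], [2]] (3 * 244823040) :=
  .of_idx T3.idx (b1.subst σ hder (by decide +kernel)) (by decide)
end
end CA.J4TC
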