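/-
Conjugacy classes of elements of prime order in `M24`, centralizers, numbers of fixed octads, sextets, trios.
-/
import Cfsg.Agent.Lib.Spor.M24Syl

set_option autoImplicit false

namespace CA.M24Cls

open Cfsg CA.NatBits CA.OrbBfs CA.CGroup CA.CGConstr CA.CGParts CA.CGCert CA.CGRank CA.CGDec CA.Perm24 CA.Golay
open CA.M24Core CA.M24Sub CA.M24Tools MulAction
open scoped Pointwise
open CA.M24St2 CA.CGFus CA.M24Syl

/-- class representative -/
def c2A : ℕ := 565205769725840036694602927742369884446872112412668068096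

/-- class representative -/
def c2B : ℕ := 344046763091692687218902657862660972164627680891504885761

/-- class representative -/
def c3A : ℕ := 345200628865079169436903120792499115371284953087804047616

/-- class representative -/
def c3B : ℕ := 294436342852412334085986731314610537777013041414940398091

/-- class representative -/
def c7A : ℕ := 565587411654148890411261753127179844348567342767045017856

/-- an umbral hexad -/
def H6 : ℕ := 63

theorem R2A : mG.R c2A (elt c2A) := elt_R (by decide +kernel)

theorem ord2A : orderOf (elt c2A) = 2 := orderOf_R R2A (by norm_num) (by decide +kernel)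

theorem fx2A : fx (elt c2A) = ds O0 := fx_R R2A _ (by decide +kernel)

theorem R2B : mG.R c2B (elt c2B) := elt_R (by decide +kernel)

theorem ord2B : orderOf (elt c2B) = 2 := orderOf_R R2B (by norm_num) (by decide +kernel)

theorem fx2B : fx (elt c2B) = ds 0 := fx_R R2B _ (by decide +kernel)

theorem R3A : mG.R c3A (elt c3A) := elt_R (by decide +kernel)

theorem ord3A : orderOf (elt c3A) = 3 := orderOf_R R3A (by norm_num) (by decide +kernel)

theorem fx3A : fx (elt c3A) = ds H6 := fx_R R3A _ (by decide +kernel)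

theorem R3B : mG.R c3B (elt c3B) := elt_R (by decide +kernel)

theorem ord3B : orderOf (elt c3B) = 3 := orderOf_R R3B (by norm_num) (by decide +kernel)

theorem fx3B : fx (elt c3B) = ds 0 := fx_R R3B _ (by decide +kernel)

theorem R7A : mG.R c7A (elt c7A) := elt_R (by decide +kernel)

theorem ord7A : orderOf (elt c7A) = 7 := orderOf_R R7A (by norm_num) (by decide +kernel)

theorem fx7A : fx (elt c7A) = ds T3 := fx_R R7A _ (by decide +kernel)

set_option maxRecDepth 100000 in
theorem cls2 : Cls ⊤ 2 [c2A, c2B] :=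
  cls_of st24.card (l := g24) st24.inn
    (lH := g24c3) (st24c3.inn.mono le24)
    (lP := g24c3) (st24c3.inn.mono le24) (p := 2) (by norm_num) 10 1 239085
    [([], c2A), ([0, 0, 0, 0, 3, 0, 3], c2A), ([1, 2, 2, 0], c2A), ([3, 3, 1, 3, 0], c2A), ([0, 2, 2, 0, 0, 3, 1], c2B), ([1, 1, 1, 1, 1, 1, 3, 1, 1, 3, 3, 1], c2A), ([1, 1, 2, 1, 1, 3], c2A), ([3, 3, 0, 3, 3], c2B), ([3, 3, 0, 3, 0, 0, 2, 0], c2B), ([1, 2, 2, 2, 2, 0], c2B), ([3, 3, 1, 1, 2, 0, 3], c2B), ([1, 1, 3, 1, 2, 1, 3, 0, 2, 0, 2], c2B), ([1, 1, 1, 3, 0, 0, 0], c2A), ([2, 0, 2, 0, 2, 2, 1], c2A), ([3, 1, 2, 0, 2, 2, 0, 2, 2], c2A), ([3, 1, 2, 0, 3, 3, 3, 0, 2], c2A), ([1, 2, 0, 2, 2], c2A), ([3, 1, 2, 0, 2, 2, 0, 3], c2B), ([2, 2, 2, 2, 0, 2, 0, 0], c2A), ([2, 2, 2, 2, 0, 2, 0, 0], c2B), ([2, 1, 2, 0, 2, 0, 0, 2, 1, 3], c2B), ([1, 3, 0, 0, 0, 2, 0, 2, 2], c2B), ([1, 2, 2, 0, 3, 3, 0, 3, 3], c2A), ([0, 3, 1, 2, 1, 2, 1], c2B), ([0, 0, 0, 3, 3, 0, 2, 1, 3, 0], c2B)] (by decide +kernel)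

theorem cls3 : Cls ⊤ 3 [c3A, c3B] :=
  cls_of st24.card (l := g24) st24.inn
    (lH := [443374255208064174359457999974315674052160590301854958081, 247308742101146607452639493322022982388937620482485780736]) (ok_of (l := [443374255208064174359457999974315674052160590301854958081, 247308742101146607452639493322022982388937620482485780736]) (by decide +kernel)).top
    (lP := [443374255208064174359457999974315674052160590301854958081, 247308742101146607452639493322022982388937620482485780736]) (ok_of (l := [443374255208064174359457999974315674052160590301854958081, 247308742101146607452639493322022982388937620482485780736]) (by decide +kernel)).top (p := 3) (by norm_num) 3 1 9067520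
    [([], c3A), ([1, 2, 0, 2, 1, 1, 1], c3A), ([1, 3, 3, 0, 0, 2, 0, 3, 1, 1], c3B), ([0, 0, 3, 0, 2, 1, 3, 3, 1, 1], c3A), ([2, 0, 0, 2, 1, 2, 2, 1, 3, 3], c3A), ([1, 2, 0, 2, 1, 3, 3, 3, 1, 2, 1], c3A), ([1, 3, 1, 1, 3, 0, 2, 2, 1, 2, 2], c3B), ([0, 3, 3, 1, 1, 3, 1, 3, 0, 0], c3A), ([0, 0, 0, 0, 3, 3, 3, 0, 2, 0, 2, 0], c3B), ([2, 1, 1, 1, 3, 1, 2, 1, 1, 3, 0, 3, 3], c3B)] (by decide +kernel)

theorem cls5 : Cls ⊤ 5 [417995298286997616841185035451924574483737012129628160256] :=
  cls_of st24.card (l := [344820113759883657106061656092227421116370324131714044416]) (ok_of (l := [344820113759883657106061656092227421116370324131714044416]) (by decide +kernel)).top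
    (lH := [344820113759883657106061656092227421116370324131714044416]) (ok_of (l := [344820113759883657106061656092227421116370324131714044416]) (by decide +kernel)).top
    (lP := [417995298286997616841185035451924574483737012129628160256]) (ok_of (l := [417995298286997616841185035451924574483737012129628160256]) (by decide +kernel)).top (p := 5) (by norm_num) 1 1 48964608
    [([], 417995298286997616841185035451924574483737012129628160256)] (by decide +kernel)

theorem cls7 : Cls ⊤ 7 [565587411654148890411261753127179844348567342767045017856, 564344489347047102886337730077983985870698644935902822656] :=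
  cls_of st24.card (l := [564344506833774602022345928094505037097962135619767501056]) (ok_of (l := [564344506833774602022345928094505037097962135619767501056]) (by decide +kernel)).top
    (lH := [564344506833774602022345928094505037097962135619767501056]) (ok_of (l := [564344506833774602022345928094505037097962135619767501056]) (by decide +kernel)).top
    (lP := [565587411654148890411261753127179844348567342767045017856]) (ok_of (l := [565587411654148890411261753127179844348567342767045017856]) (by decide +kernel)).top (p := 7) (by norm_num) 1 1 34974720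
    [([], 565587411654148890411261753127179844348567342767045017856), ([], 564344489347047102886337730077983985870698644935902822656)] (by decide +kernel)

theorem cls11 : Cls ⊤ 11 [564827879449196672525125927201720760255506845807777485571] :=
  cls_of st24.card (l := [122986157855659347356508611670267181612658613815497003521]) (ok_of (l := [122986157855659347356508611670267181612658613815497003521]) (by decide +kernel)).top
    (lH := [122986157855659347356508611670267181612658613815497003521]) (ok_of (l := [122986157855659347356508611670267181612658613815497003521]) (by decide +kernel)).top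
    (lP := [564827879449196672525125927201720760255506845807777485571]) (ok_of (l := [564827879449196672525125927201720760255506845807777485571]) (by decide +kernel)).top (p := 11) (by norm_num) 1 1 22256640
    [([], 564827879449196672525125927201720760255506845807777485571)] (by decide +kernel)

theorem cls23 : Cls ⊤ 23 [563962119499867783604428781068302663260908791494593086981, 565013471197735452171196146352837750441302789295666563606] :=
  cls_of st24.card (l := [565014947297395209640857681204596448716658450734507229696]) (ok_of (l := [565014947297395209640857681204596448716658450734507229696]) (by decide +kernel)).top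
    (lH := [565014947297395209640857681204596448716658450734507229696]) (ok_of (l := [565014947297395209640857681204596448716658450734507229696]) (by decide +kernel)).top
    (lP := [563962119499867783604428781068302663260908791494593086981]) (ok_of (l := [563962119499867783604428781068302663260908791494593086981]) (by decide +kernel)).top (p := 23) (by norm_num) 1 1 10644480
    [([], 563962119499867783604428781068302663260908791494593086981), ([], 565013471197735452171196146352837750441302789295666563606)] (by decide +kernel)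

theorem cent_eq {s : Finset GolayPt} {g : M24} (h : fx g = s) :
    stabilizer M24 s ⊓ stabilizer M24 (toCj g) = Subgroup.centralizer {g} := by
  rw [stabilizer_toCj]; exact inf_eq_right.2 (h ▸ centralizer_le_fx g)

/-- generators -/
def gC2Ax : List ℕ := [418566226639650260320592255255851128640055992579061187351, 49426364695236852951539504616819777809102084470636348686]

theorem stC2Ax : St gC2Ax (stabilizer M24 (ds O0) ⊓ stabilizer M24 (toCj (elt c2A))) 21504 :=
  stabM mCj stO (sCj c2A (by decide +kernel)) 15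
    [[1, 1, 1], [3, 1, 2, 2, 0, 2]] [(4, [[0, 2, 0, 2], [0, 2, 2, 0, 2, 2, 1, 2]]), (6, [[0, 0, 3, 1, 2, 1], [0, 0, 0, 0, 0, 2, 1, 3, 0], [3, 1, 1, 2, 2, 2, 0, 3, 0, 2, 0, 2]]), (7, [[2, 5, 3], [0, 4, 0, 4, 2, 1], [1, 1, 4, 1, 1]]), (0, [])] (by decide +kernel)

theorem stC2A : St gC2Ax (Subgroup.centralizer {elt c2A}) 21504 := St.congr stC2Ax (cent_eq fx2A)

/-- generators of the hexad group -/
def gH6 : List ℕ := [295107560874734180741702827976586407691192009791952388866, 369144378047607744036060755977633125239839562008247993346]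

set_option maxRecDepth 100000 in
theorem stH6 : St gH6 (stabilizer M24 (ds H6)) 2160 :=
  stLe (inS0 mSub (ok_of (l := gH6) (by decide +kernel)) (sS (m := H6) (by decide)) (by decide +kernel))
    (card_le_of_ubd [H6] [0, 1, 2, 3, 4, 5, 6, 7, 8, 9, 10, 11, 12, 13, 14, 15, 16, 17, 18, 19, 20, 21, 22, 23] (m := 0) (fun g hg o ho => by rw [List.mem_singleton.1 ho]; exact hg) (by norm_num)
      (fun _ _ x hx => by rw [ds, gE.ds_zero] at hx; simp at hx) (by decide +kernel))
    [(6, [[0, 3, 1, 2, 0, 2], [3, 0, 3, 0, 2]]), (7, [[1, 3, 0, 3, 1], [0, 0, 2, 0, 2, 2]]), (9, [])] (by decide +kernel)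

/-- generators -/
def gC3Ax : List ℕ := [369144378047607744036060755977633125239839562008247993346, 467988099951447376633833340487112921067067375965788307716]

theorem stC3Ax : St gC3Ax (stabilizer M24 (ds H6) ⊓ stabilizer M24 (toCj (elt c3A))) 1080 :=
  stabM mCj stH6 (sCj c3A (by decide +kernel)) 2
    [[2], [1, 2, 2, 1, 2]] [(6, [[1, 2, 0, 2], [1, 2, 1, 2, 2, 1, 2]]), (7, [[3, 1, 2, 1, 3, 3], [0, 0, 2, 2, 1]]), (0, [])] (by decide +kernel)

theorem stC3A : St gC3Ax (Subgroup.centralizer {elt c3A}) 1080 := St.congr stC3Ax (cent_eq fx3A)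

/-- generators -/
def gC7Ax : List ℕ := [288865872992664943441679023627725114510164303419938561, 26539579285274227911428566508137593674600727624954222336]

set_option maxRecDepth 100000 in
theorem stC7Ax : St gC7Ax (stabilizer M24 (ds T3) ⊓ stabilizer M24 (toCj (elt c7A))) 42 :=
  stabM mCj stT3 (sCj c7A (by decide +kernel)) 2880
    [[0, 2, 0, 0, 0, 2, 1, 2, 0, 0, 3, 1, 1, 3, 1, 2], [0, 2, 1, 3, 0, 0, 0, 3, 1, 2, 0, 0, 0, 2, 0, 3, 0, 0, 0]] [(2, [[3, 1, 2, 0, 3]]), (0, [])] (by decide +kernel)

theorem stC7A : St gC7Ax (Subgroup.centralizer {elt c7A}) 42 := St.congr stC7Ax (cent_eq fx7A)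

theorem fix_of_orb {X : Type*} [MulAction M24 X] (A : CAct mG X) {c : ℕ} {x : X} (hx : A.S c x) {Y : Set X}
    (hY : orbit M24 x = Y) {cs ns : List ℕ} (hc : okM cs = true)
    (h : orb A.act g24 c (fun t _ => decide (cs.map (fun a => t.cnt fun d => Nat.beq (A.act a d) d) = ns)) = true) :
    cs.map (fun a => {y | y ∈ Y ∧ elt a • y = y}.ncard) = ns := by
  obtain ⟨t, n, h1, h2⟩ := orb_spec g24_ok hx h
  rw [gen_g24, orbit_top, hY] at h2
  rw [← of_decide_eq_true h1]
  exact List.map_congr_left fun a ha => IsOrb.ncard_fix h2 (elt_R' (ok_of hc a ha))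

theorem fix_oct {c : ℕ} (h : mG.R c (elt c)) :
    {y | y ∈ octads ∧ elt c • y = y}.ncard = cntL octL fun m => Nat.beq (img24 c m) m :=
  ncard_octads fun m hm _ => by
    rw [beq_iff]; exact ⟨fun e => mSub.S_inj (mSub.S_act h (sS hm)) (e.symm ▸ sS hm), fun e => by rw [R_ds h, e]⟩

theorem fix_dod {c : ℕ} (h : mG.R c (elt c)) :
    {y | y ∈ dodecads ∧ elt c • y = y}.ncard = cntL dodL fun m => Nat.beq (img24 c m) m :=
  ncard_dodecads fun m hm _ => by
    rw [beq_iff]; exact ⟨fun e => mSub.S_inj (mSub.S_act h (sS hm)) (e.symm ▸ sS hm), fun e => by rw [R_ds h, e]⟩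

set_option maxRecDepth 100000 in
theorem fixSex : [c2A, c2B, c3A, c3B].map (fun a => {y | y ∈ sextets ∧ elt a • y = y}.ncard) = [91, 51, 16, 7] :=
  fix_of_orb (mSS 6) (sSS (l := S0)) (orbit_sextet S0_mem) (by decide +kernel) (by decide +kernel)

theorem fixSex2A : {y | y ∈ sextets ∧ elt c2A • y = y}.ncard = 91 :=
  congrArg (·.getD 0 0) fixSex

theorem fixSex2B : {y | y ∈ sextets ∧ elt c2B • y = y}.ncard = 51 :=
  congrArg (·.getD 1 0) fixSex

theorem fixSex3A : {y | y ∈ sextets ∧ elt c3A • y = y}.ncard = 16 :=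
  congrArg (·.getD 2 0) fixSex

theorem fixSex3B : {y | y ∈ sextets ∧ elt c3B • y = y}.ncard = 7 :=
  congrArg (·.getD 3 0) fixSex

set_option maxRecDepth 100000 in
theorem fixTri : [c2A, c2B, c3A, c3B].map (fun a => {y | y ∈ trios ∧ elt a • y = y}.ncard) = [99, 75, 15, 15] :=
  fix_of_orb (mSS 3) (sSS (l := T0)) (orbit_trio T0_mem) (by decide +kernel) (by decide +kernel)

theorem fixTri2A : {y | y ∈ trios ∧ elt c2A • y = y}.ncard = 99 :=
  congrArg (·.getD 0 0) fixTri

theorem fixTri2B : {y | y ∈ trios ∧ elt c2B • y = y}.ncard = 75 :=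
  congrArg (·.getD 1 0) fixTri

theorem fixTri3A : {y | y ∈ trios ∧ elt c3A • y = y}.ncard = 15 :=
  congrArg (·.getD 2 0) fixTri

theorem fixTri3B : {y | y ∈ trios ∧ elt c3B • y = y}.ncard = 15 :=
  congrArg (·.getD 3 0) fixTri

set_option maxRecDepth 100000 in
theorem fixOct2A : {y | y ∈ octads ∧ elt c2A • y = y}.ncard = 71 :=
  (fix_oct R2A).trans (by decide +kernel)

set_option maxRecDepth 100000 in
theorem fixOct2B : {y | y ∈ octads ∧ elt c2B • y = y}.ncard = 15 :=
  (fix_oct R2B).trans (by decide +kernel)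

set_option maxRecDepth 100000 in
theorem fixOct3A : {y | y ∈ octads ∧ elt c3A • y = y}.ncard = 21 :=
  (fix_oct R3A).trans (by decide +kernel)

set_option maxRecDepth 100000 in
theorem fixOct3B : {y | y ∈ octads ∧ elt c3B • y = y}.ncard = 0 :=
  (fix_oct R3B).trans (by decide +kernel)

set_option maxRecDepth 100000 in
theorem fixDod3A : {y | y ∈ dodecads ∧ elt c3A • y = y}.ncard = 20 :=
  (fix_dod R3A).trans (by decide +kernel)

theorem card_cent_le' {X : Type*} [MulAction M24 X] [Finite X] {Y : Set X} (hY : ∀ (g : M24) {y}, g • y ∈ Y ↔ y ∈ Y)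
    {x : X} (hx : x ∈ Y) {y : M24} (hyx : y • x = x) {a b : ℕ} (ha : {x | x ∈ Y ∧ y • x = x}.ncard = a)
    (hb : Nat.card ↥(stabilizer M24 x ⊓ stabilizer M24 (toCj y)) = b) :
    Nat.card ↥(stabilizer M24 (toCj y)) ≤ a * b := by
  have := card_cent_le (K := ⊤) (Set.toFinite Y) (fun g _ _ h => (hY g).2 h) hx hyx
  rwa [top_inf_eq, top_inf_eq, ha, hb, ← stabilizer_toCj] at this

/-- generators -/
def gC2Bx : List ℕ := [25961513010116934527429463435647032564970399355430442766, 122985783797053806295500635775592717754297588143762703106, 26442672940561400394479622988068649396115687130452397591]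

set_option maxRecDepth 100000 in
theorem stC2Bx : St gC2Bx (stabilizer M24 (ds O0) ⊓ stabilizer M24 (toCj (elt c2B))) 512 :=
  stabM mCj stO (sCj c2B (by decide +kernel)) 630
    [[1, 1, 2, 1, 3, 3, 1, 2, 2, 0, 3, 1, 2, 0, 0], [1, 1, 2, 0, 0, 3, 1, 1], [1, 3, 1, 3, 1, 3, 3, 3, 0, 3, 1, 3, 1, 2, 0, 2]] [(4, [[4, 3, 0, 2, 4], [3, 5, 1], [5, 5, 3, 0, 2]]), (0, [[3, 1, 2, 2, 5, 2], [5]]), (2, [])] (by decide +kernel)

/-- generators -/
def gC2B : List ℕ := [516550174790531501610431525072640427651815715715396604426, 295970311558205298119315030270348778740507539985830446861]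

theorem stC2B : St gC2B (Subgroup.centralizer {elt c2B}) 7680 :=
  St.congr (stLe (inS0 mCj (ok_of (l := gC2B) (by decide +kernel)) (sCj c2B (by decide +kernel)) (by decide +kernel))
    (card_cent_le' smul_mem_octads O0_mem (elt_mem (inS0 mSub (ok_of (l := [c2B]) (by decide +kernel)) (sS (m := O0) (by decide)) (by decide +kernel))) fixOct2B stC2Bx.card)
    [(0, [[2, 1, 3], [1, 3, 0, 3, 1, 1]]), (2, [[1, 3, 1, 1, 3, 0], [3, 0, 3, 3, 0, 3, 3, 0]]), (4, [])] (by decide +kernel)) (stabilizer_toCj _)

/-- generators -/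
def gC3Bx : List ℕ := [393473476925368301121135578915072451072592107020853974541, 345203252208869044089659412120118891071438423827118359301]

set_option maxRecDepth 100000 in
theorem stC3Bx : St gC3Bx (stabilizer M24 (dss S0) ⊓ stabilizer M24 (toCj (elt c3B))) 72 :=
  stabM mCj stS (sCj c3B (by decide +kernel)) 1920
    [[3, 0, 2, 1, 3, 1, 3, 1, 2, 2, 2], [1, 3, 1, 1, 3, 0, 2, 2, 0, 0, 0, 3]] [(0, [[0, 3, 3, 3, 3, 0]]), (1, [])] (by decide +kernel)

/-- generators -/
def gC3B : List ℕ := [49717462155163865786364749679237284590811246929115746071, 343476192915210611509116664703849136394159268284189901586]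

theorem stC3B : St gC3B (Subgroup.centralizer {elt c3B}) 504 :=
  St.congr (stLe (inS0 mCj (ok_of (l := gC3B) (by decide +kernel)) (sCj c3B (by decide +kernel)) (by decide +kernel))
    (card_cent_le' smul_mem_sextets S0_mem (elt_mem (inS0 (mSS _) (ok_of (l := [c3B]) (by decide +kernel)) (sSS (l := S0)) (by decide +kernel))) fixSex3B stC3Bx.card)
    [(0, [[2, 1, 1, 2, 0, 2], [0, 0, 3, 0, 2]]), (1, [[1, 3, 1, 3, 0]]), (2, [])] (by decide +kernel)) (stabilizer_toCj _)

theorem conj2 {g : M24} (h : orderOf g = 2) : (∃ k, k * elt c2A * k⁻¹ = g) ∨ ∃ k, k * elt c2B * k⁻¹ = g := by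
  simpa using cls2.of_order one_lt_two (Subgroup.mem_top g) h

theorem conj3 {g : M24} (h : orderOf g = 3) : (∃ k, k * elt c3A * k⁻¹ = g) ∨ ∃ k, k * elt c3B * k⁻¹ = g := by
  simpa using cls3.of_order (by norm_num) (Subgroup.mem_top g) h

theorem card_fx_conj (k g : M24) : (fx (k * g * k⁻¹)).card = (fx g).card := by rw [fx_conj, Finset.card_smul_finset]

theorem card_fx2A : (fx (elt c2A)).card = 8 := by rw [fx2A, card_ds (by decide)]; decide +kernel
theorem card_fx2B : (fx (elt c2B)).card = 0 := by rw [fx2B, card_ds (by decide)]; decide +kernel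
theorem card_fx3A : (fx (elt c3A)).card = 6 := by rw [fx3A, card_ds (by decide)]; decide +kernel
theorem card_fx3B : (fx (elt c3B)).card = 0 := by rw [fx3B, card_ds (by decide)]; decide +kernel

theorem card_fx_zero {g : M24} : (fx g).card = 0 ↔ ∀ p, (g : Equiv.Perm GolayPt) p ≠ p := by
  simp [fx, Finset.filter_eq_empty_iff]

theorem conj2A {g : M24} (h : orderOf g = 2) (h' : (fx g).card ≠ 0) : ∃ k, k * elt c2A * k⁻¹ = g :=
  (conj2 h).resolve_right fun ⟨k, e⟩ => h' (by rw [← e, card_fx_conj, card_fx2B])

theorem conj2B {g : M24} (h : orderOf g = 2) (h' : (fx g).card = 0) : ∃ k, k * elt c2B * k⁻¹ = g :=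
  (conj2 h).resolve_left fun ⟨k, e⟩ => by rw [← e, card_fx_conj, card_fx2A] at h'; cases h'

theorem conj3A {g : M24} (h : orderOf g = 3) (h' : (fx g).card ≠ 0) : ∃ k, k * elt c3A * k⁻¹ = g :=
  (conj3 h).resolve_right fun ⟨k, e⟩ => h' (by rw [← e, card_fx_conj, card_fx3B])

theorem conj3B {g : M24} (h : orderOf g = 3) (h' : (fx g).card = 0) : ∃ k, k * elt c3B * k⁻¹ = g :=
  (conj3 h).resolve_left fun ⟨k, e⟩ => by rw [← e, card_fx_conj, card_fx3A] at h'; cases h'

end CA.M24Cls
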