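import Cfsg.Agent.Lib.Spor.J4UD
import Cfsg.Agent.Lib.Spor.J4UE
import Cfsg.Agent.S2064

/-! The automorphisms of `2^11 : M24`. -/

set_option autoImplicit false
set_option linter.all false
set_option maxRecDepth 100000

namespace CA.J4U1
open Subgroup CA.CNet CA.CWord CA.CLevel CA.CPoint CA.CTodd CA.CLow CA.J4Perm CA.J4H CA.J4D CA.J4Low CA.J4Dc CA.J4Mod CA.J4UD

abbrev P : Type := C.grp gensH

theorem gm (i : ℕ) : C.g i ∈ C.grp gensH := by
  by_cases hi : i < 16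
  · exact genH _ hi
  · have : C.g i = 1 := by
      show toPerm _ (nth C.T [] i) = 1
      rw [nth_eq_getD, List.getD_eq_default _ _ (show C.T.length ≤ i from not_lt.1 hi)]
      rfl
    rw [this]; exact one_mem _

noncomputable def δ (i : ℕ) : P := ⟨C.g i, gm i⟩
theorem e1 (w : Word) : (ev δ w).1 = C.ev w := map_ev (C.grp gensH).subtype δ w
theorem e2 (ws : List Word) : (grp δ ws).map (C.grp gensH).subtype = C.grp ws := map_grp _ δ ws
theorem e3 (ws : List Word) : Nat.card (grp δ ws) = Nat.card (C.grp ws) := by rw [← e2 ws, card_subtype]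
theorem eqp {u v : Word} (h : eqP u v = true) : ev δ u = ev δ v := Subtype.ext (by
  rw [e1, e1]; exact eq_of_eqQ hlk (low0.2 cardC.le) (ev_mem gm u) (ev_mem gm v) h)
theorem hδ : ∀ r ∈ relsH, ev δ r = 1 := fun r hr => Subtype.ext ((e1 r).trans (hrel r hr))
theorem ht : grp δ gensH = ⊤ := (card_eq_iff_eq_top _).1 (e3 _)
theorem mp {w : Word} {p : Fin C.n} {q : ℕ} (h : mapsP C lk w p q = true) : ((ev δ w).1 p : ℕ) = q :=
  e1 w ▸ mapsP_spec hlk h
theorem mp' {w : Word} {p : Fin C.n} (h : (ev δ w).1 p = p) : mapsP C lk w p p = true := by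
  rw [e1] at h
  refine band_iff.2 ⟨Nat.blt_eq.mpr p.2, ?_⟩
  rw [ipt_eq hlk, Equiv.Perm.inv_eq_iff_eq.2 h.symm]
  exact Nat.beq_refl _
theorem fx_spec {ws : List Word} {lo len : ℕ} {l : List ℕ} (h : fx ws lo len l = true) {i : Fin C.n} (h1 : lo ≤ i)
    (h2 : i < lo + len) (hf : ∀ w ∈ ws, (ev δ w).1 i = i) : (i : ℕ) ∈ l := by
  have := CMat.allR_spec h (a := i - lo) (by omega)
  rw [show lo + (i - lo) = i by omega, lall_iff.2 fun w hw => mp' (hf w hw)] at this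
  simpa using this
theorem dec' (i : ℕ) (hi : i < 7) (π : P) :
    ∃ κ ∈ grp δ (W 1), ∃ α ∈ grp δ (W i), ∃ r ∈ R i, π = κ * (ev δ r.2.1)⁻¹ * α := by
  obtain ⟨κ, hκ, α, hα, r, hr, e⟩ := dec i hi π.1 π.2
  rw [← e2] at hκ hα
  obtain ⟨κ, hκ, rfl⟩ := hκ
  obtain ⟨α, hα, rfl⟩ := hα
  exact ⟨κ, hκ, α, hα, r, hr, Subtype.ext (by rw [e, ← e1]; rfl)⟩
theorem mg {ws : List Word} {x : P} : x ∈ grp δ ws ↔ x.1 ∈ C.grp ws := by
  rw [← e2 ws]; exact (mem_map_iff_mem (f := (C.grp gensH).subtype) Subtype.val_injective).symm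

noncomputable abbrev Q : Subgroup P := grp δ qs
noncomputable abbrev N : Subgroup P := grp δ [[0], [2]]
def o : Fin C.n := ⟨24, by decide⟩
def InV (i : Fin C.n) : Prop := 24 ≤ (i : ℕ) ∧ (i : ℕ) < 24 + 2048

theorem V_iff (i : Fin C.n) : V.testBit i = true ↔ InV i := by
  show (full 2048 <<< 24).testBit i = true ↔ _
  rw [Nat.testBit_shiftLeft, testBit_full]
  simp only [InV, Bool.and_eq_true, decide_eq_true_eq]
  omega
theorem InV.act {i : Fin C.n} (h : InV i) (x : P) : InV (x.1 i) :=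
  (V_iff _).1 ((Ctx.inv_spec hC hV x.2 i).trans ((V_iff _).2 h))
theorem oV : InV o := ⟨le_rfl, by decide⟩
theorem x_ne : ev δ [0] ≠ 1 := fun h => by
  have := mp (p := ⟨0, by decide⟩) hx0
  rw [h] at this; exact absurd this (by decide)
theorem pq_ne : ev δ [0, 2, 4] ≠ ev δ [4, 0, 2] := fun h => by
  have a := mp (p := o) hne.1
  rw [h, mp (p := o) hne.2] at a; exact absurd a (by decide)
theorem st (Y : Subgroup P) [Y.Normal] : N ≤ Y ∨ (Y ⊓ N = ⊥ ∧ (Y = ⊥ ∨ Y = Q)) :=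
  struct hδ ht cardC ((e3 _).symm ▸ lowQ.1) x_ne pq_ne Y
theorem gq (w : Word) (h : ∀ b ∈ w, 4 ≤ b ∧ b < 26) : ev δ w ∈ Q := ev_mem' fun a ha =>
  ev_gen δ _ ▸ mem_grp δ ((by decide : ∀ b < 26, 4 ≤ b → [2 * (b / 2)] ∈ qs) a (h a ha).2 (h a ha).1)
theorem gn (w : Word) (hw : ∀ a ∈ w, a < 4) : ev δ w ∈ N := ev_mem' fun a ha =>
  ev_gen δ _ ▸ mem_grp δ ((by decide : ∀ a < 4, [2 * (a / 2)] ∈ [[0], [2]]) a (hw a ha))
theorem qc {x y : P} (hx : x ∈ Q) (hy : y ∈ Q) : x * y = y * x := by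
  have h1 : ∀ v ∈ qs, ev δ v ∈ centralizer {x} := fun v hv => mem_centralizer_singleton_iff.2
    (mem_centralizer_singleton_iff.1 ((grp_le_iff δ (H := centralizer {ev δ v})).2 (fun u hu =>
      mem_centralizer_singleton_iff.2 (by rw [← ev_lapp, ← ev_lapp]; exact eqp (hqq u hu v hv))) hx)).symm
  exact (mem_centralizer_singleton_iff.1 ((grp_le_iff δ).2 h1 hy)).symm

theorem proj : ∃ π : P →* P, π.ker = Q ∧ (∀ h, π h ∈ N) ∧ ∀ n ∈ N, π n = n := by
  obtain ⟨π, hπ⟩ := hom hδ (γ := fun i => ev δ (nth ρ [] i))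
    (fun r hr => (ev_subst _ _ _).symm.trans (eqp (lall_iff.1 hρ r hr))) ht cardC
  have h1 : ∀ w, (∀ a ∈ w, a < 32) → π (ev δ w) = ev δ (CWord.subst ρ w) := fun w hw => (hπ w hw).trans (ev_subst _ _ _).symm
  have h2 : ∀ n ∈ N, π n = n := (grp_le_iff δ (H := π.eqLocus (MonoidHom.id P))).2 fun w hw => by
    obtain ⟨a, b⟩ := (by decide +kernel : ∀ w ∈ [[0], [2]], (∀ a ∈ w, a < 32) ∧ CWord.subst ρ w = w) w hw
    show π (ev δ w) = ev δ w
    rw [h1 w a, b]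
  refine ⟨π, ?_, fun h => (grp_le_iff δ (H := N.comap π)).2 (fun w hw => ?_) (ht.ge (mem_top h)), h2⟩
  · rcases st π.ker with h | ⟨-, h | h⟩
    · exact absurd ((h2 _ (gn [0] (by decide))).symm.trans (h (gn [0] (by decide)))) x_ne
    · have : ev δ [4] = 1 := mem_bot.1 (h.le (h1 [4] (by decide)))
      have a := mp (p := o) hs24
      rw [this] at a; exact absurd a (by decide)
    · exact h
  · obtain ⟨a, b⟩ := (by decide +kernel : ∀ w ∈ gensH, (∀ a ∈ w, a < 32) ∧ ∀ a ∈ CWord.subst ρ w, a < 4) w hw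
    show π (ev δ w) ∈ N
    rw [h1 w a]; exact gn _ b

instance nQ : Q.Normal := by obtain ⟨π, h, -⟩ := proj; exact h ▸ π.normal_ker
theorem QN : Q ⊓ N = ⊥ := by
  obtain ⟨π, h, -, h2⟩ := proj
  exact eq_bot_iff.2 fun x hx => mem_bot.2 ((h2 x hx.2).symm.trans (h.ge hx.1))
theorem isoN : Nonempty (N ≃* Cfsg.M24) := by
  obtain ⟨α, hα, hα'⟩ := J4M24.model
  obtain ⟨e⟩ := PkW.equiv_of_bound J4M24.bound hα (fun r hr => hδ r ((by decide +kernel : ∀ r ∈ J4TC.r7, r ∈ relsH) r hr))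
    hα' M24Core.card_top.ge M24Sub.simple_top (fun h => x_ne (mem_bot.1 (h ▸ mem_grp δ (by decide))))
  exact ⟨e.trans topEquiv⟩
theorem cN : Nat.card N = 244823040 := isoN.elim fun e => (Nat.card_congr e.toEquiv).trans M24Core.card_M24
theorem cQ : Nat.card Q = 2048 := by
  have := dvd_of_disj QN
  rw [cN, cardC, show 501397585920 = 244823040 * 2048 from rfl] at this
  exact le_antisymm (Nat.le_of_dvd (by decide) (Nat.dvd_of_mul_dvd_mul_left (by decide) this)) ((e3 _).symm ▸ lowQ.1)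
theorem free0 {q : P} (hq : q ∈ Q) (h : q.1 o = o) : q = 1 :=
  Subtype.ext (lowQ.2 ((e3 _).symm.trans cQ).le _ (mg.1 hq) fun i hi => by
    rwa [show i = o from Fin.ext (List.mem_singleton.1 hi)])
theorem lq {i : Fin C.n} (h : InV i) : ∃ w, ev δ w ∈ Q ∧ (ev δ w).1 o = i ∧ (w = [] ∨ w = [4, 6, 8, 12, 14, 18] ∨
    ¬ ∀ r ∈ J4TC.r7, ev δ (CWord.subst [lapp w [0], 1 :: lapp (winv w) [0, 2]] r) = 1) := by
  have h1 : (i : ℕ) ∈ LQ.flatten.map Prod.fst := eLQ ▸ List.mem_range'_1.2 h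
  obtain ⟨e, he, h2⟩ := List.mem_map.1 h1
  obtain ⟨l, hl, he⟩ := List.mem_flatten.1 he
  obtain ⟨a, b⟩ := band_iff.1 (lall_iff.1 (lall_iff.1 hLQ l hl) e he)
  obtain ⟨a, c⟩ := band_iff.1 a
  refine ⟨e.2, gq _ fun b hb => of_decide_eq_true (lall_iff.1 a b hb), Fin.ext ((mp (p := o) c).trans h2), ?_⟩
  rcases Bool.or_eq_true _ _ ▸ b with b | b
  · exact (of_decide_eq_true b).imp_right Or.inl
  · refine Or.inr (Or.inr fun h => ?_)
    have k : lall J4TC.r7 (fun r => mapsP C lk (CWord.subst [lapp e.2 [0], 1 :: lapp (winv e.2) [0, 2]] r) 24 24) = true :=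
      lall_iff.2 fun r hr => mp' (p := o) (by rw [h r hr]; rfl)
    rw [k] at b
    exact absurd b (by decide)
theorem eqQo {q r : P} (hq : q ∈ Q) (hr : r ∈ Q) (h : q.1 o = r.1 o) : q = r :=
  (inv_mul_eq_one.1 (free0 (mul_mem (inv_mem hr) hq) (by
    show r.1⁻¹ (q.1 o) = o
    rw [h]; simp))).symm
theorem cfix {c x : P} (h : x * c = c * x) {i : Fin C.n} (hi : x.1 i = i) : x.1 (c.1 i) = c.1 i := by
  have := congrArg (fun z : P => z.1 i) h
  simpa [hi] using this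
theorem free {q : P} (hq : q ∈ Q) {i : Fin C.n} (hi : InV i) (h : q.1 i = i) : q = 1 := by
  obtain ⟨w, h1, rfl, -⟩ := lq hi
  have := congrArg (fun z : P => z.1 o) (qc h1 hq)
  exact free0 hq ((ev δ w).1.injective (by simpa [h] using this))

theorem step1 (b : P ≃* P) : ∃ m : P, ∀ h, m⁻¹ * b h * m * h⁻¹ ∈ Q := by
  obtain ⟨π, h1, h2, h3⟩ := proj
  have bQ : Q.map b.toMonoidHom = Q := by
    haveI : (Q.map b.toMonoidHom).Normal := nQ.map _ b.surjective
    have c : Nat.card (Q.map b.toMonoidHom) = 2048 := (card_map_of_injective b.injective).trans cQ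
    rcases st (Q.map b.toMonoidHom) with h | ⟨-, h | h⟩
    · have := card_le_of_le h; rw [cN, c] at this; omega
    · rw [h, card_bot] at c; omega
    · exact h
  let θ : N →* N := ((π.comp b.toMonoidHom).comp N.subtype).codRestrict N fun n => h2 _
  have θi : Function.Injective θ := (injective_iff_map_eq_one _).2 fun n hn => by
    have a : b n ∈ Q.map b.toMonoidHom := bQ.ge (h1.le (congrArg Subtype.val hn))
    exact Subtype.ext (mem_bot.1 (QN.le ⟨(mem_map_iff_mem b.injective).1 a, n.2⟩))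
  obtain ⟨e⟩ := isoN
  let θ' := MulEquiv.ofBijective θ ⟨θi, Finite.injective_iff_surjective.1 θi⟩
  haveI := (Nat.card_eq_one_iff_unique.1 Cfsg.Agent.S2064.result).1
  obtain ⟨m, hm⟩ := (QuotientGroup.eq_one_iff (N := Cfsg.Inn Cfsg.M24) ((e.symm.trans θ').trans e)).1 (Subsingleton.elim _ _)
  have a : ∀ n : N, π (b n) = (e.symm m).1 * n * (e.symm m).1⁻¹ := fun n => by
    have := congrArg e.symm (MulEquiv.congr_fun hm (e n))
    simp only [MulAut.conj_apply, map_mul, map_inv, MulEquiv.trans_apply, MulEquiv.symm_apply_apply] at this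
    exact (congrArg Subtype.val this).symm
  refine ⟨e.symm m, fun h => h1.le ?_⟩
  have c : h * (π h)⁻¹ ∈ Q := h1.le (by rw [MonoidHom.mem_ker, map_mul, map_inv, h3 _ (h2 h), mul_inv_cancel])
  have d : π (b h) = π (b (π h)) := by
    have : π (b (h * (π h)⁻¹)) = 1 := h1.ge (bQ.le ⟨_, c, rfl⟩)
    rwa [map_mul, map_inv, map_mul, map_inv, mul_inv_eq_one] at this
  rw [MonoidHom.mem_ker, map_mul, map_mul, map_mul, map_inv, map_inv, h3 _ (e.symm m).2, d, a ⟨_, h2 h⟩]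
  group

theorem step2 (b : P ≃* P) (hb : ∀ h, b h * h⁻¹ ∈ Q) : ∀ q ∈ Q, b q = q := by
  have bq : ∀ q ∈ Q, b q ∈ Q := fun q hq => (mul_mem_cancel_right (inv_mem hq)).1 (hb q)
  have cj : ∀ h, ∀ q ∈ Q, b (h * q * h⁻¹) = h * b q * h⁻¹ := fun h q hq => by
    have := qc (hb h) (nQ.conj_mem _ (bq q hq) h)
    rw [map_mul, map_mul, map_inv]
    calc _ = b h * h⁻¹ * (h * b q * h⁻¹) * (b h * h⁻¹)⁻¹ := by group
      _ = _ := by rw [this]; group
  have s4 : ev δ [4] ∈ Q := gq _ (by decide)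
  have h0 : b (ev δ [4]) = ev δ [4] := by
    have := fx_spec fcw (oV.act (b (ev δ [4]))).1 (oV.act _).2 fun w hw => cfix (by
      have a := eqp (hcw w hw).2
      rw [ev_lapp, ev_lapp] at a
      have c := cj (ev δ w) _ s4
      rw [a, mul_inv_cancel_right] at c
      exact mul_inv_eq_iff_eq_mul.1 c.symm) (Fin.ext (mp (hcw w hw).1))
    rcases List.mem_cons.1 this with h | h
    · have a := b.map_eq_one_iff.1 (free0 (bq _ s4) (Fin.ext h))
      rw [a, map_one]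
    · exact eqQo (bq _ s4) s4 (Fin.ext ((List.mem_singleton.1 h).trans (mp (p := o) hs24).symm))
  let Y : Subgroup P := Q ⊓ b.toMonoidHom.eqLocus (MonoidHom.id P)
  haveI : Y.Normal := ⟨fun q hq h => ⟨nQ.conj_mem _ hq.1 h, (cj h q hq.1).trans (by rw [show b q = q from hq.2]; rfl)⟩⟩
  rcases st Y with h | ⟨-, h | h⟩
  · exact absurd (mem_bot.1 (QN.le ⟨(h (gn [0] (by decide))).1, gn [0] (by decide)⟩)) x_ne
  · have : ev δ [4] = 1 := mem_bot.1 (h.le ⟨s4, h0⟩)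
    have a := mp (p := o) hs24
    rw [this] at a; exact absurd a (by decide)
  · exact fun q hq => (h.ge hq).2

theorem step3 {f : P} (hf : f ∈ Q) : ∃ q ∈ Q, f * ev δ [0, 2] = q * ev δ [0, 2] * q⁻¹ := by
  let g : Q → Q := fun q => ⟨q * (ev δ [0, 2] * q⁻¹ * (ev δ [0, 2])⁻¹), mul_mem q.2 (nQ.conj_mem _ (inv_mem q.2) _)⟩
  have gi : Function.Injective g := fun q r h => by
    have a : q.1 * (ev δ [0, 2] * q.1⁻¹ * (ev δ [0, 2])⁻¹) = r.1 * (ev δ [0, 2] * r.1⁻¹ * (ev δ [0, 2])⁻¹) :=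
      congrArg Subtype.val h
    have c : ev δ [0, 2] * (r.1⁻¹ * q.1) = r.1⁻¹ * q.1 * ev δ [0, 2] := by
      calc _ = r.1⁻¹ * (r.1 * (ev δ [0, 2] * r.1⁻¹ * (ev δ [0, 2])⁻¹)) * ev δ [0, 2] * q.1 := by group
        _ = _ := by rw [← a]; group
    have m := mul_mem (inv_mem r.2) q.2
    have d : ev δ pw * (r.1⁻¹ * q.1) = r.1⁻¹ * q.1 * ev δ pw := by
      rw [show pw = [6, 10, 14, 16, 20, 24] ++ [0, 2] from rfl, ev_append, mul_assoc, c, ← mul_assoc,
        qc (gq _ (by decide)) m, mul_assoc (r.1⁻¹ * q.1)]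
    have := fx_spec fpw (oV.act (r.1⁻¹ * q.1)).1 (oV.act _).2 fun w hw => by
      rw [List.mem_singleton.1 hw]; exact cfix d (Fin.ext (mp hpw))
    exact Subtype.ext (inv_mul_eq_one.1 (free0 m (Fin.ext (List.mem_singleton.1 this)))).symm
  obtain ⟨q, hq⟩ := Finite.injective_iff_surjective.1 gi ⟨f, hf⟩
  refine ⟨q, q.2, ?_⟩
  rw [← show q.1 * (ev δ [0, 2] * q.1⁻¹ * (ev δ [0, 2])⁻¹) = f from congrArg Subtype.val hq]
  group

theorem step4 (b : P ≃* P) (hb : ∀ h, b h * h⁻¹ ∈ Q) (hp : b (ev δ [0, 2]) = ev δ [0, 2]) :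
    (∀ h, b h = h) ∨ ∀ w : Word, (∀ a ∈ w, a < 32) → b (ev δ w) = ev δ (CWord.subst τ w) := by
  have hq := step2 b hb
  obtain ⟨w, h1, h2, h3⟩ := lq (oV.act (b (δ 0) * (δ 0)⁻¹))
  have ex : b (δ 0) = ev δ (lapp w [2 * 0]) := by
    rw [ev_lapp, ev_gen, eqQo h1 (hb _) h2, inv_mul_cancel_right]
  have ey : b (δ 1) = ev δ (1 :: lapp (winv w) [0, 2]) := by
    have : ev δ [0, 2] = δ 0 * δ 1 := by simp [lv]
    rw [this, map_mul, ex, ev_lapp, ev_gen] at hp
    rw [ev_cons, ev_lapp, ev_winv, this, ← hp, show lv δ 1 = (δ 0)⁻¹ by simp [lv]]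
    group
  have key : ∀ σ : List Word, nth σ [] 0 = lapp w [2 * 0] → nth σ [] 1 = 1 :: lapp (winv w) [0, 2] →
      (∀ i < 13, 2 ≤ i → nth σ [] i = [2 * i]) → ∀ u : Word, (∀ a ∈ u, a < 26) → b (ev δ u) = ev δ (CWord.subst σ u) :=
    fun σ a0 a1 a2 u hu => by
      rw [ev_subst]
      refine (map_ev b.toMonoidHom δ u).trans (CPres.ev_congr (k := 13) (fun i hi => ?_) hu)
      show b (δ i) = ev δ (nth σ [] i)
      rcases i with _ | _ | i
      · rw [a0, ex]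
      · rw [a1, ey]
      · rw [a2 _ hi (by omega), ev_gen]
        exact hq _ (ev_gen δ _ ▸ gq [2 * (i + 1 + 1)] (by simp; omega))
  have hdl : ∀ i < 3, ∀ a ∈ nth df [] i, a < 26 := by decide +kernel
  rcases h3 with rfl | rfl | h3
  · have ex' : b (δ 0) = δ 0 := ex.trans (ev_gen δ 0)
    have ey' : b (δ 1) = δ 1 := ey.trans (by simp [lapp, winv, rmap, lv])
    have k : ∀ i < 13, δ i ∈ b.toMonoidHom.eqLocus (MonoidHom.id P) := fun i hi => by
      rcases i with _ | _ | i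
      exacts [ex', ey', hq _ (ev_gen δ _ ▸ gq [2 * (i + 1 + 1)] (by simp; omega))]
    refine Or.inl fun h => (grp_le_iff δ (H := b.toMonoidHom.eqLocus (MonoidHom.id P))).2 (fun u hu => ?_) (ht.ge (mem_top h))
    rcases (by decide +kernel : ∀ u ∈ gensH, (∀ a ∈ u, a < 26) ∨ ∃ i < 3, u = [2 * (13 + i)]) u hu with h | ⟨i, hi, rfl⟩
    · exact ev_mem' fun a ha => k _ (by have := h a ha; omega)
    · rw [eqp (hdf i hi).1]; exact ev_mem' fun a ha => k _ (by have := hdl i hi a ha; omega)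
  · have k := key τ (by decide +kernel) (by decide +kernel) (by decide +kernel)
    refine Or.inr fun u hu => ?_
    rw [ev_subst]
    refine (map_ev b.toMonoidHom δ u).trans (CPres.ev_congr (k := 16) (fun i hi => ?_) hu)
    show b (δ i) = ev δ (nth τ [] i)
    by_cases h : i < 13
    · have := k [2 * i] (by simp; omega)
      rwa [ev_gen, ev_subst, ev_gen] at this
    · obtain ⟨j, rfl⟩ : ∃ j, i = 13 + j := ⟨i - 13, by omega⟩
      rw [← ev_gen δ, eqp (hdf j (by omega)).1, k _ (hdl j (by omega)), eqp (hdf j (by omega)).2]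
  · refine absurd (fun r hr => ?_) h3
    obtain ⟨a, c⟩ := (by decide +kernel : ∀ r ∈ J4TC.r7, r ∈ relsH ∧ ∀ a ∈ r, a < 2 * 2) r hr
    rw [ev_subst, ← CPres.ev_congr (g := fun i => b (δ i)) (k := 2) (fun i hi => by
      interval_cases i
      exacts [ex, ey]) c]
    exact (map_ev b.toMonoidHom δ r).symm.trans (by rw [hδ r a, map_one])

theorem autP (b : P ≃* P) : ∃ m : P, (∀ h, m⁻¹ * b h * m = h) ∨
    ∀ w : Word, (∀ a ∈ w, a < 32) → m⁻¹ * b (ev δ w) * m = ev δ (CWord.subst τ w) := by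
  obtain ⟨m, hm⟩ := step1 b
  obtain ⟨q, hq, e⟩ := step3 (hm (ev δ [0, 2]))
  rw [inv_mul_cancel_right] at e
  have a : ∀ h, (b.trans (MulAut.conj (m * q)⁻¹)) h = (m * q)⁻¹ * b h * (m * q) := fun h => by
    simp [mul_assoc]
  refine ⟨m * q, ?_⟩
  simp only [← a]
  refine step4 _ (fun h => ?_) ?_
  · rw [a, show (m * q)⁻¹ * b h * (m * q) * h⁻¹ = q⁻¹ * (m⁻¹ * b h * m * h⁻¹) * (h * q * h⁻¹) by group]
    exact mul_mem (mul_mem (inv_mem hq) (hm h)) (nQ.conj_mem _ hq h)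
  · rw [a, show (m * q)⁻¹ * b (ev δ [0, 2]) * (m * q) = q⁻¹ * (m⁻¹ * b (ev δ [0, 2]) * m) * q by group, e]; group

end CA.J4U1
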