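import Cfsg.Agent.Lib.Spor.J4U1

/-! Parabolic subgroups, centralisers and orbits in `2^11 : M24`. -/

set_option autoImplicit false
set_option linter.all false
set_option maxRecDepth 100000

namespace CA.J4U2
open Subgroup CA.CNet CA.CWord CA.CLevel CA.CPoint CA.CTodd CA.CLow CA.J4Perm CA.J4H CA.J4D CA.J4Low CA.J4Dc CA.J4Mod CA.J4UD
  CA.J4U1

theorem swN : grp δ J4UD.sw ≤ N := (grp_le_iff δ).2 fun w hw => gn w ((by decide +kernel : ∀ w ∈ J4UD.sw, ∀ a ∈ w, a < 4) w hw)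

theorem pS : IsPGroup 2 (grp δ J4UD.sw) := by
  have h1 := (J4US.bound _ (fun i => ev δ (nth J4UD.sw [] i))
    fun r hr => (ev_subst _ _ _).symm.trans (eqp (lall_iff.1 hRS r hr))).2
  rw [← grp_lmap_subst, show lmap (CWord.subst J4UD.sw) [[0], [2], [4], [6]] = J4UD.sw by decide +kernel] at h1
  exact IsPGroup.of_card (n := 10) (le_antisymm h1 ((e3 _).symm ▸ lowS.1))

theorem syl : ∃ S : Subgroup P, IsPGroup 2 S ∧ ∀ B : Subgroup P, S ≤ B →
    (∀ X ≤ S, 2 ^ 20 ∣ Nat.card X → ∀ n, (∀ y ∈ X, n⁻¹ * y * n ∈ X) → n ∈ B) → B = ⊤ := by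
  haveI : Fact (Nat.Prime 2) := ⟨by decide⟩
  refine ⟨grp δ J4UD.sw ⊔ Q, pS.to_sup_of_normal_right (IsPGroup.of_card (n := 11) cQ), fun B hS hB => ?_⟩
  have par : ∀ (X Xv cj : List Word) (n : Word), X = lmap (CWord.subst J4UD.sw) Xv → 512 ≤ Nat.card (C.grp X) →
      (∀ w ∈ X, ∃ v ∈ cj, eqP (lapp (winv n) (lapp w n)) (CWord.subst X v) = true) → ev δ n ∈ B := by
    intro X Xv cj n h1 h2 h3
    have le : grp δ X ≤ grp δ J4UD.sw := h1 ▸ grp_subst_le _ _ _
    refine hB (grp δ X ⊔ Q) (sup_le_sup_right le _) ?_ _ ?_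
    · rw [card_sup (eq_bot_iff.2 ((inf_le_inf_left Q (le.trans swN)).trans QN.le)), cQ]
      obtain ⟨k, hk⟩ := (pS.to_le le).exists_card_eq
      rw [← e3, hk] at h2
      rw [hk]
      exact Nat.mul_dvd_mul_left 2048 (pow_dvd_pow 2 (show 9 ≤ k from (Nat.pow_le_pow_iff_right Nat.one_lt_two).1 (show 2 ^ 9 ≤ 2 ^ k from h2)))
    · have : grp δ X ⊔ Q ≤ (grp δ X ⊔ Q).comap (MulAut.conj (ev δ n)⁻¹).toMonoidHom := by
        refine sup_le ((grp_le_iff δ).2 fun w hw => ?_) fun q hq => mem_sup_right (nQ.conj_mem _ hq _)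
        obtain ⟨v, -, e⟩ := h3 w hw
        have := eqp e
        rw [ev_lapp, ev_lapp, ev_winv] at this
        show (ev δ n)⁻¹ * ev δ w * (ev δ n)⁻¹⁻¹ ∈ grp δ X ⊔ Q
        rw [inv_inv, mul_assoc, this]
        exact mem_sup_left (subst_mem_grp _ _ _)
      exact fun y hy => by simpa using this hy
  have h1 : grp δ (lapp J4UD.sw nws) ≤ B := (grp_le_iff δ).2 fun w hw => by
    rw [lapp_eq, List.mem_append] at hw
    rcases hw with hw | hw
    · exact hS (mem_sup_left (mem_grp δ hw))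
    · obtain ⟨i, hi, rfl⟩ := exists_nth_of_mem [] hw
      have : i < 3 := hi
      interval_cases i
      exacts [par _ _ _ _ eX0 lowX0.1 hcj0, par _ _ _ _ eX1 lowX1.1 hcj1, par _ _ _ _ eX2 lowX2.1 hcj2]
  have h2 : N ≤ B := (grp_le_iff δ).2 fun w hw => by
    obtain ⟨v, -, e⟩ := hxy w hw
    rw [eqp e]; exact h1 (subst_mem_grp _ _ _)
  obtain ⟨π, a1, a2, a3⟩ := proj
  refine top_unique fun h _ => ?_
  have c : h * (π h)⁻¹ ∈ Q := a1.le (by rw [MonoidHom.mem_ker, map_mul, map_inv, a3 _ (a2 h), mul_inv_cancel])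
  exact (B.mul_mem_cancel_right (inv_mem (h2 (a2 h)))).1 (hS (mem_sup_right c))

theorem cenK {c : P} (hc : ∀ k ∈ grp δ (W 1), k * c = c * k) : c = 1 := by
  have lt : ∀ (x : P) (i : Fin C.n), (i : ℕ) < 24 → (x.1 i : ℕ) < 24 := fun x i hi => by
    have := Ctx.inv_spec hC hV24 x.2 i
    rw [testBit_full, testBit_full, decide_eq_true hi] at this
    exact of_decide_eq_true this
  have fk : ∀ (ks : List Word) (p : Fin C.n), lall (lmap (CWord.subst W1) ks) (fun w => mapsP C lk w p p) = true →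
      ∀ w ∈ lmap (CWord.subst W1) ks, (ev δ w).1 (c.1 p) = c.1 p := fun ks p h w hw =>
    cfix (hc _ (grp_subst_le δ W1 ks (mem_grp δ hw))) (Fin.ext (mp (lall_iff.1 h w hw)))
  let z : Fin C.n := ⟨0, by decide⟩
  have h0 : c.1 z = z := Fin.ext (List.mem_singleton.1
    (fx_spec fk0 (Nat.zero_le _) (by simpa using lt c z (by decide)) (fk k0 z hk0)))
  let Y : Subgroup P := {
    carrier := {x | ∀ i : Fin C.n, (i : ℕ) < 24 → x.1 i = i}
    mul_mem' := fun {x y} hx hy i hi => by show x.1 (y.1 i) = i; rw [hy i hi, hx i hi]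
    one_mem' := fun _ _ => rfl
    inv_mem' := fun {x} hx i hi => Equiv.Perm.inv_eq_iff_eq.2 (hx i hi).symm }
  haveI : Y.Normal := ⟨fun x hx g i hi => by
    show g.1 (x.1 ((g⁻¹).1 i)) = i
    rw [hx _ (lt g⁻¹ i hi)]; simp⟩
  have hY : c ∈ Y := fun i hi => by
    obtain ⟨x, hx, e⟩ := clo_bit hC W1 _ z i (sub_spec tr24 (by rw [testBit_full]; exact decide_eq_true hi))
    rw [← e2] at hx
    obtain ⟨x, hx, rfl⟩ := hx
    have := congrArg (fun u : P => u.1 z) (hc x hx)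
    rw [← e]
    simpa [h0] using this.symm
  have hQ : c ∈ Q := by
    rcases st Y with h | ⟨-, h | h⟩
    · have a := mp (p := z) hx0
      rw [h (gn [0] (by decide)) z (by decide)] at a
      exact absurd a (by decide)
    · rw [mem_bot.1 (h.le hY)]; exact one_mem _
    · exact h.le hY
  let b : Fin C.n := ⟨25, by decide⟩
  have hb : InV b := ⟨by decide, by decide⟩
  exact free hQ hb (Fin.ext (List.mem_singleton.1 (fx_spec fkb (hb.act c).1 (hb.act c).2 (fk kb b hkb))))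

theorem norK {h : P} (hh : ∀ k ∈ grp δ (W 1), h⁻¹ * k * h ∈ grp δ (W 1)) : h ∈ grp δ (W 1) := by
  obtain ⟨κ, hκ, α, hα, r, hr, rfl⟩ := dec' 1 (by decide) h
  rcases hR1 r hr with e | ⟨w, hw, e⟩
  · rw [e, ev_nil, inv_one, mul_one]; exact mul_mem hκ hα
  · have a := mul_mem (mul_mem hα (hh _ (mul_mem (mul_mem hκ (mem_grp δ hw)) (inv_mem hκ)))) (inv_mem hα)
    rw [show α * ((κ * (ev δ r.2.1)⁻¹ * α)⁻¹ * (κ * ev δ w * κ⁻¹) * (κ * (ev δ r.2.1)⁻¹ * α)) * α⁻¹ =
      ev δ r.2.1 * (ev δ w * (ev δ r.2.1)⁻¹) by group, ← ev_winv, ← ev_lapp, ← ev_lapp] at a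
    have := mp' (p := ⟨9203, by decide⟩) (fix_of_mapsP (p := ⟨9203, by decide⟩) hlk fixK _ (mg.1 a))
    rw [e] at this
    exact absurd this (by decide)

theorem out4 {h : P} (hh : ∀ a ∈ grp δ W4, h * a * h⁻¹ ∈ grp δ (lmap (CWord.subst τ) W4)) : False := by
  let u : Fin C.n := ⟨47, by decide⟩
  obtain ⟨α, hα, e⟩ := Ctx.clo_spec hC _ _ _ _ (sub_spec J4UD.cov4 ((V_iff _).2 (((V_iff u).1 uI.2).act h⁻¹)))
  have key : ∀ (p : Fin C.n) (s : List ℕ), α ((h⁻¹).1 u) = p → Nat.ble 768 (cnt C.n (C.clo W4 s (bit p))) = true →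
      False := fun p s hp hs => by
    have a := (Nat.le_of_ble_eq_true hs).trans (cnt_le_orbit hC fun i hi => clo_bit hC W4 s p i hi)
    have b : Nat.card {i : Fin C.n // ∃ x ∈ C.grp W4, x • p = i} ≤ Nat.card {i : Fin C.n // I.testBit i = true} := by
      refine Nat.card_le_card_of_injective (fun i => ⟨h.1 i.1, ?_⟩) fun i j e => Subtype.ext (h.1.injective (congrArg Subtype.val e))
      obtain ⟨x, hx, ex⟩ := i.2
      have m := mul_mem hx hα
      rw [← e2] at m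
      obtain ⟨y, hy, ey⟩ := m
      have := (Ctx.inv_spec hC hI (mg.1 (hh y hy)) u).trans uI.1
      rw [← ex, ← hp]
      rwa [show (h * y * h⁻¹).1 u = h.1 (y.1 ((h⁻¹).1 u)) from rfl, show y.1 = x * α from ey] at this
    rw [card_mask hC, Nat.eq_of_beq_eq_true cI] at b
    omega
  rw [show Nat.lor (bit 24) (bit 27) = bit 24 ||| bit 27 from rfl, Nat.testBit_or, Bool.or_eq_true, testBit_bit,
    testBit_bit] at e
  rcases e with e | e
  · exact key ⟨24, by decide⟩ _ (Fin.ext (of_decide_eq_true e).symm) orb40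
  · exact key ⟨27, by decide⟩ _ (Fin.ext (of_decide_eq_true e).symm) orb41

end CA.J4U2
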