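import Cfsg.Agent.Lib.Spor.J4U2
import Cfsg.Agent.Lib.Spor.J4T

/-! Every automorphism of the fourth Janko group is inner. -/

set_option autoImplicit false
set_option linter.all false
set_option maxRecDepth 100000

namespace CA.J4U3
open Subgroup CA.CNet CA.CWord CA.CTodd CA.BitW CA.J4H CA.J4D CA.J4Dc CA.J4Mod CA.J4Mat CA.J4Ord CA.J4U1 CA.J4U2

theorem facts {G : Type} [Group G] [Finite G] {γ : ℕ → G} (hE : ∀ u v, eqM F u v = true → ev γ u = ev γ v)
    (hN : ∀ e, neM F e = true → ev γ e.1 ≠ ev γ e.2.1) (hT : grp γ [[0], [2], [32]] = ⊤) :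
    ∃ (φ : P →* G) (g : Fin 7 → G), Function.Injective φ ∧ g 0 = 1 ∧ g 1 * g 1 = 1 ∧ φ.range.index = 173067389 ∧
      (∀ B : Subgroup G, φ.range ≤ B → g 1 ∈ B → B = ⊤) ∧ (∀ j : Fin 7, Nat.card (grp δ (W j)) = lo j) ∧
      (∀ j y, (y ∈ φ.range ∧ (g j)⁻¹ * y * g j ∈ φ.range) ↔ y ∈ (grp δ (W j)).map φ) ∧
      ∀ u, ∃ j, u ∈ DC φ.range (g j) := by
  have eq : ∀ u v, (u, v) ∈ eqs → ev γ u = ev γ v := fun u v h => hE u v (lall_iff.1 heq _ h)
  have hγ : ∀ r ∈ relsH, ev γ r = 1 := fun r hr => hE r [] (lall_iff.1 J4Mat.hrel r hr)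
  obtain ⟨φ, hφ⟩ := hom hδ hγ ht cardC
  have inj : Function.Injective φ := by
    rcases st φ.ker with h | ⟨-, h | h⟩
    · exact absurd ((hφ [0] (by decide)).symm.trans (h (mem_grp δ (by decide))))
        (hN ([0], [], 0, 111) (lall_iff.1 J4Mat.hne _ (by decide +kernel)))
    · exact (MonoidHom.ker_eq_bot_iff φ).1 h
    · exact absurd ((hφ [4] (by decide)).symm.trans (h.ge (mem_grp δ (by decide))))
        (hN ([4], [], 0, 106) (lall_iff.1 J4Mat.hne _ (by decide +kernel)))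
  let H := φ.range
  have mH : ∀ w : Word, (∀ a ∈ w, a < 32) → ev γ w ∈ H := fun w hw => ⟨_, hφ w hw⟩
  have cH : Nat.card H = 501397585920 := (Nat.card_congr (MonoidHom.ofInjective inj).toEquiv).symm.trans cardC
  let A : Fin 7 → Subgroup G := fun i => (grp δ (W i)).map φ
  let g : Fin 7 → G := fun i => ev γ (gl i)
  let t := ev γ [32]
  have tt : t * t = 1 := (ev_append γ [32] [32]).symm.trans (eq _ [] (by decide +kernel))
  have ti : t⁻¹ = t := inv_eq_of_mul_eq_one_right tt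
  have hA : ∀ i, ∀ a ∈ A i, (g i)⁻¹ * a * g i ∈ H := fun i => by
    have : grp δ (W i) ≤ (H.comap (MulAut.conj (g i)⁻¹).toMonoidHom).comap φ := (grp_le_iff δ).2 fun w hw => by
      obtain ⟨e, he, rfl, h2⟩ := smallS i i.2 w hw
      have h3 := hE _ _ (lall_iff.1 (hSR i i.2).1 e he)
      rw [ev_lapp, ev_lapp] at h3
      show (g i)⁻¹ * φ (ev δ e.1) * (g i)⁻¹⁻¹ ∈ H
      rw [hφ _ (small i i.2 _ hw), inv_inv, mul_assoc, h3, inv_mul_cancel_left]
      exact mH _ h2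
    rintro _ ⟨a, ha, rfl⟩
    have := this ha
    rwa [mem_comap, mem_comap, MulEquiv.coe_toMonoidHom, MulAut.conj_apply, inv_inv] at this
  have g1 : g 1 = t := eq [34] [32] (by decide +kernel)
  have hS : ∀ s ∈ {x | ∃ w ∈ [[0], [2], [32]], ev γ w = x}, s ∈ H ∨ s = t := by
    rintro _ ⟨w, hw, rfl⟩
    rcases (by decide : ∀ w ∈ [[0], [2], [32]], (∀ a ∈ w, a < 32) ∨ w = [32]) w hw with h | rfl
    · exact Or.inl (mH w h)
    · exact Or.inr rfl
  have hcov : ∀ x, ∃ j, x ∈ DC H (g j) := by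
    refine cover (K := A 1) (A := A) (t := t) 0 rfl tt (fun k hk => ?_) hA ?_ hS hT
    · have := hA 1 k hk
      rwa [g1, ti] at this
    · rintro i _ ⟨π, rfl⟩
      obtain ⟨κ, hκ, α, hα, r, hr, rfl⟩ := dec' i i.2 π
      obtain ⟨a1, a2, a3, a4⟩ := smallR i i.2 r hr
      refine ⟨φ κ, ⟨κ, hκ, rfl⟩, φ α, ⟨α, hα, rfl⟩, (ev γ r.2.1)⁻¹, by rw [map_mul, map_mul, map_inv, hφ _ a2],
        ⟨_, a1⟩, _, mH _ a3, _, mH _ a4, ?_⟩
      have h3 := hE _ _ (lall_iff.1 (hSR i i.2).2 r hr)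
      rw [show 32 :: lapp (winv r.2.1) (gl i) = [32] ++ lapp (winv r.2.1) (gl i) from rfl, ev_append, ev_lapp, ev_lapp,
        ev_lapp, ev_winv] at h3
      rw [mul_assoc, mul_assoc]
      exact h3
  have dl : ∀ j : Fin 7, d j * lo j = 501397585920 := by decide +kernel
  have cA : ∀ j : Fin 7, lo j ≤ Nat.card (A j) := fun j => by
    rw [card_map_of_injective inj, e3]; exact lows j j.2
  have hb : ∀ j, (DC H (g j)).ncard ≤ d j * 501397585920 := fun j => by
    have := ncard_DC (H := H) (A := A j) (g := g j) (d := d j) (map_le_range _ _) (hA j) (by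
      rw [cH, ← dl j]; exact Nat.mul_le_mul_left _ (cA j))
    rwa [cH] at this
  have sd : ∑ j, d j = 173067389 := by decide +kernel
  have cG := (J4Ord.main hE hN hT).2
  let B : Fin 7 → Subgroup G := fun j => H ⊓ H.comap (MulAut.conj (g j)⁻¹).toMonoidHom
  have mB : ∀ j y, y ∈ B j ↔ (y ∈ H ∧ (g j)⁻¹ * y * g j ∈ H) := fun j y => by simp [B, mem_inf]
  have AB : ∀ j, A j ≤ B j := fun j y hy => (mB j y).2 ⟨map_le_range _ _ hy, hA j y hy⟩
  have cB : ∀ j, Nat.card (B j) ≤ lo j := fun j => by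
    obtain ⟨e, he⟩ := card_dvd_of_le (inf_le_left : B j ≤ H)
    have h1 := ncard_DC (H := H) (A := B j) (g := g j) (d := e) inf_le_left (fun y hy => ((mB j y).1 hy).2)
      (by rw [he, mul_comm])
    rw [cH] at h1 he
    have h2 := card_le (d := Function.update d j e) (M := 501397585920) hcov fun i => by
      by_cases h : i = j
      · subst h; rwa [Function.update_self]
      · rw [Function.update_of_ne h]; exact hb i
    have h3 := Finset.sum_update_of_mem (Finset.mem_univ j) d e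
    have h4 := Finset.sum_update_of_mem (Finset.mem_univ j) d (d j)
    rw [Function.update_eq_self, sd] at h4
    rw [h3, cG] at h2
    have h5 : d j ≤ e := by omega
    have h6 : 0 < d j := (by decide +kernel : ∀ j, 0 < d j) j
    refine Nat.le_of_mul_le_mul_left ?_ h6
    rw [dl, he, mul_comm]
    exact Nat.mul_le_mul_left _ h5
  have eB : ∀ j, A j = B j := fun j => eq_of_le_of_card_ge (AB j) ((cB j).trans (cA j))
  refine ⟨φ, g, inj, rfl, g1 ▸ tt, ?_, fun B h1 h2 => top_unique (hT.ge.trans ((closure_le B).2 fun s hs =>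
    (hS s hs).elim (fun h => h1 h) fun h => h ▸ g1 ▸ h2)), fun j => ?_, fun j y => (mB j y).symm.trans (by rw [← eB]), hcov⟩
  · have := H.index_mul_card
    rw [cH, cG] at this
    show H.index = _
    omega
  · rw [← card_map_of_injective inj]
    exact le_antisymm ((card_le_of_le (AB j)).trans (cB j)) (cA j)

theorem inner {G : Type} [Group G] [Finite G] {γ : ℕ → G} (hE : ∀ u v, eqM F u v = true → ev γ u = ev γ v)
    (hN : ∀ e, neM F e = true → ev γ e.1 ≠ ev γ e.2.1) (hT : grp γ [[0], [2], [32]] = ⊤) (β : G ≃* G) :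
    ∃ x, ∀ y, β y = x * y * x⁻¹ := by
  haveI : Fact (Nat.Prime 2) := ⟨by decide⟩
  obtain ⟨φ, g, inj, g0, tt, hi, gen, cA, hA, hc⟩ := facts hE hN hT
  set H := φ.range with hH
  have st : ∀ u, ∃ j, ∃ h ∈ H, (∃ h' ∈ H, u = h * g j * h') ∧
      ∀ y, (y ∈ H ∧ u⁻¹ * y * u ∈ H) ↔ h⁻¹ * y * h ∈ (grp δ (W j)).map φ := fun u => by
    obtain ⟨j, h, hh, h', hh', rfl⟩ := hc u
    refine ⟨j, h, hh, ⟨h', hh', rfl⟩, fun y => ?_⟩
    rw [← hA, H.mul_mem_cancel_right hh, H.mul_mem_cancel_left (inv_mem hh),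
      show (h * g j * h')⁻¹ * y * (h * g j * h') = h'⁻¹ * ((g j)⁻¹ * (h⁻¹ * y * h) * g j) * h' by group,
      H.mul_mem_cancel_right hh', H.mul_mem_cancel_left (inv_mem hh')]
  have dv : ∀ (X : Subgroup G) (h : G) (j : Fin 7), (∀ y ∈ X, h⁻¹ * y * h ∈ (grp δ (W j)).map φ) → Nat.card X ∣ lo j :=
    fun X h j hx => by
      rw [← cA, ← card_map_of_injective inj, ← card_map_of_injective (K := X) (f := (MulAut.conj h⁻¹).toMonoidHom)
        (MulAut.conj h⁻¹).injective]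
      refine card_dvd_of_le ?_
      rintro _ ⟨y, hy, rfl⟩
      simpa using hx y hy
  -- an automorphism that normalises `H`
  have s1 : ∀ β : G ≃* G, ∃ x, ∀ h ∈ H, x⁻¹ * β h * x ∈ H := fun β => by
    obtain ⟨S, pS, hS⟩ := syl
    obtain ⟨ω, hω⟩ := (pS.map (β.toMonoidHom.comp φ)).nonempty_fixed_point_of_prime_not_dvd_card (G ⧸ H)
      (by rw [← index, hi]; decide)
    obtain ⟨x, rfl⟩ := QuotientGroup.mk_surjective ω
    let ψ : P →* G := (MulAut.conj x⁻¹).toMonoidHom.comp (β.toMonoidHom.comp φ)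
    have eψ : ∀ s, ψ s = x⁻¹ * β (φ s) * x := fun s => by simp [ψ]
    have iψ : Function.Injective ψ := (MulAut.conj x⁻¹).injective.comp (β.injective.comp inj)
    have h1 : S ≤ H.comap ψ := fun s hs => by
      have := QuotientGroup.eq.1 (show ((β (φ s) * x : G) : G ⧸ H) = x from hω ⟨_, s, hs, rfl⟩)
      rw [mem_comap, eψ]
      simpa [mul_assoc] using inv_mem this
    have h2 := hS _ h1 fun X hX h20 n hn => by
      obtain ⟨j, h, hh, ⟨h', hh', e⟩, k⟩ := st (ψ n)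
      have := dv (X.map ψ) h j (by
        rintro _ ⟨y, hy, rfl⟩
        exact (k _).1 ⟨h1 (hX hy), by rw [← map_inv, ← map_mul, ← map_mul]; exact h1 (hX (hn y hy))⟩)
      rw [card_map_of_injective iψ] at this
      obtain rfl := (by decide +kernel : ∀ j : Fin 7, 2 ^ 20 ∣ lo j → j = 0) j (h20.trans this)
      rw [mem_comap, e, g0, mul_one]
      exact mul_mem hh hh'
    refine ⟨x, ?_⟩
    rintro _ ⟨p, rfl⟩
    rw [← eψ]; exact h2.ge (mem_top p)
  have s2 : ∀ β : G ≃* G, (∀ h ∈ H, β h ∈ H) → ∃ b : P ≃* P, ∀ p, φ (b p) = β (φ p) := fun β hβ => by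
    let e := MonoidHom.ofInjective inj
    let f : P →* P := e.symm.toMonoidHom.comp ((β.toMonoidHom.comp φ).codRestrict H fun p => hβ _ ⟨p, rfl⟩)
    have ef : ∀ p, φ (f p) = β (φ p) := fun p => MonoidHom.apply_ofInjective_symm inj _
    have fi : Function.Injective f := fun p q h => inj (β.injective (by rw [← ef, ← ef, h]))
    exact ⟨MulEquiv.ofBijective f ⟨fi, Finite.injective_iff_surjective.1 fi⟩, ef⟩
  have s3 : ∀ β : G ≃* G, (∀ p, β (φ p) = φ p) → ∀ y, β y = y := fun β hβ => by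
    have fH : ∀ h ∈ H, β h = h := by rintro _ ⟨p, rfl⟩; exact hβ p
    have ti : (g 1)⁻¹ = g 1 := inv_eq_of_mul_eq_one_right tt
    have cc : ∀ k ∈ (grp δ (W (1 : Fin 7))).map φ, ((g 1)⁻¹ * β (g 1))⁻¹ * k * ((g 1)⁻¹ * β (g 1)) = k := fun k hk => by
      obtain ⟨a, b⟩ := (hA 1 k).2 hk
      have e1 : β ((g 1)⁻¹ * ((g 1)⁻¹ * k * g 1) * g 1) = k := by
        rw [show (g 1)⁻¹ * ((g 1)⁻¹ * k * g 1) * g 1 = (g 1 * g 1)⁻¹ * k * (g 1 * g 1) by group, tt]
        simpa using fH k a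
      rw [map_mul, map_mul, map_inv, fH _ b] at e1
      calc _ = (β (g 1))⁻¹ * (g 1 * k * (g 1)⁻¹) * β (g 1) := by group
        _ = k := by rw [show g 1 * k * (g 1)⁻¹ = (g 1)⁻¹ * k * g 1 by rw [ti]]; exact e1
    have nt : g 1 ∉ H := fun h => by
      have := gen H le_rfl h
      rw [this, index_top] at hi
      exact absurd hi (by decide)
    obtain ⟨j, h, hh, ⟨h', hh', e⟩, k⟩ := st ((g 1)⁻¹ * β (g 1))
    have k' : ∀ y ∈ (grp δ (W (1 : Fin 7))).map φ, h⁻¹ * y * h ∈ (grp δ (W j)).map φ := fun y hy =>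
      (k y).1 ⟨map_le_range _ _ hy, (cc y hy).symm ▸ map_le_range _ _ hy⟩
    have := dv _ h j k'
    rw [card_map_of_injective inj, cA] at this
    have bt : β (g 1) = g 1 := by
      rcases (by decide +kernel : ∀ j : Fin 7, lo (1 : Fin 7) ∣ lo j → j = 0 ∨ j = 1) j this with rfl | rfl
      · rw [g0, mul_one] at e
        obtain ⟨c, hc⟩ : (g 1)⁻¹ * β (g 1) ∈ H := e ▸ mul_mem hh hh'
        have : c = 1 := cenK fun k hk => inj (by
          have := cc _ ⟨k, hk, rfl⟩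
          rw [← hc, mul_assoc, inv_mul_eq_iff_eq_mul] at this
          rw [map_mul, map_mul, this])
        rw [this, map_one, eq_comm, inv_mul_eq_one] at hc
        exact hc.symm
      · obtain ⟨p, rfl⟩ := hh
        have hp : p ∈ grp δ (W 1) := norK fun k hk => (mem_map_iff_mem inj).1 (by
          rw [map_mul, map_mul, map_inv]; exact k' _ ⟨k, hk, rfl⟩)
        have a := ((hA 1 _).2 ⟨p, hp, rfl⟩).2
        have m : β (g 1) ∈ H := by
          rw [inv_mul_eq_iff_eq_mul.1 e, show g 1 * (φ p * g 1 * h') = g 1 * φ p * g 1 * h' by group]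
          rw [ti] at a
          exact mul_mem a hh'
        exact β.injective (fH _ m)
    have : β.toMonoidHom.eqLocus (MonoidHom.id G) = ⊤ := gen _ (fun h hh => fH h hh) bt
    exact fun y => this.ge (mem_top y)
  obtain ⟨x, hx⟩ := s1 β
  obtain ⟨b, hb⟩ := s2 (β.trans (MulAut.conj x⁻¹)) fun h hh => by simpa using hx h hh
  obtain ⟨m, hm⟩ := autP b
  let β2 := β.trans (MulAut.conj (x * φ m)⁻¹)
  let b2 := b.trans (MulAut.conj m⁻¹)
  have e2 : ∀ y, β2 y = (x * φ m)⁻¹ * β y * (x * φ m) := fun y => by simp [β2, mul_assoc]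
  have e3 : ∀ p, b2 p = m⁻¹ * b p * m := fun p => by simp [b2]
  have e4 : ∀ p, φ (b2 p) = β2 (φ p) := fun p => by
    rw [e3, e2, map_mul, map_mul, map_inv, hb]; simp [mul_assoc]
  rcases hm with hm | hm
  · have := s3 β2 fun p => by rw [← e4, e3, hm]
    refine ⟨x * φ m, fun y => ?_⟩
    calc β y = x * φ m * ((x * φ m)⁻¹ * β y * (x * φ m)) * (x * φ m)⁻¹ := by group
      _ = _ := by rw [← e2, this]
  exfalso
  have iH : ∀ y, β2 y ∈ H ↔ y ∈ H := fun y => ⟨fun ⟨r, hr⟩ => ⟨b2.symm r, β2.injective (by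
    rw [← e4, MulEquiv.apply_symm_apply, hr])⟩, fun ⟨r, hr⟩ => ⟨b2 r, by rw [e4, hr]⟩⟩
  obtain ⟨j, _, ⟨h, rfl⟩, -, k⟩ := st (β2 (g 4))
  have k2 : ∀ p, p ∈ grp δ (W (4 : Fin 7)) ↔ h⁻¹ * b2 p * h ∈ grp δ (W j) := fun p => by
    rw [← mem_map_iff_mem inj, ← hA, ← mem_map_iff_mem inj, map_mul, map_mul, map_inv, ← k, e4, ← map_inv, ← map_mul,
      ← map_mul, iH, iH]
  have k3 : Nat.card (grp δ (W (4 : Fin 7))) = Nat.card (grp δ (W j)) :=
    Nat.card_congr ((b2.trans (MulAut.conj h⁻¹)).toEquiv.subtypeEquiv fun p => by simpa using k2 p)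
  rw [cA, cA] at k3
  obtain rfl := (by decide +kernel : ∀ j : Fin 7, lo (4 : Fin 7) = lo j → j = 4) j k3
  refine out4 (h := h) fun a ha => ?_
  have k4 := (k2 (b2.symm (h * a * h⁻¹))).2 (by
    rw [MulEquiv.apply_symm_apply, show h⁻¹ * (h * a * h⁻¹) * h = a by group]; exact ha)
  have k5 : grp δ W4 ≤ (grp δ (lmap (CWord.subst J4UD.τ) W4)).comap b2.toMonoidHom := (grp_le_iff δ).2 fun w hw => by
    show b2 (ev δ w) ∈ grp δ (lmap (CWord.subst J4UD.τ) W4)
    rw [e3, hm w (small 4 (by decide) w hw)]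
    exact mem_grp δ (lmap_eq (CWord.subst J4UD.τ) W4 ▸ List.mem_map_of_mem hw)
  simpa using k5 k4

end CA.J4U3
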