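import Cfsg.Agent.Lib.Comp.CTodd
set_option autoImplicit false
set_option linter.all false
set_option maxRecDepth 100000
universe u
namespace CA.J4US
open CA.CNet CA.CWord CA.CLevel CA.CSimple CA.CPoint CA.CTodd 
noncomputable section
def relsS : List Word := [[0,0], [2,2], [4,4], [6,6], [2,4,2,4], [0,2,0,2,0,2,0,2], [0,4,2,6,2,4,0,6], [0,2,4,6,2,4,0,6], [0,2,0,4,0,2,0,4], [0,4,0,4,0,4,0,4], [0,6,0,6,0,6,0,6], [0,2,4,6,4,2,0,6], [2,6,2,6,2,6,2,6], [4,6,4,6,4,6,4,6], [2,4,2,6,4,6,4,6,4,6], [0,6,0,6,4,2,6,2,4,6], [0,6,0,6,2,4,6,2,4,6], [0,2,4,0,4,0,4,2,0,4], [2,4,6,2,6,2,6,2,6,4], [0,2,0,2,4,0,2,0,4,2], [0,2,6,4,6,4,6,2,0,6], [0,6,0,6,2,4,6,4,2,6], [0,4,6,2,6,2,6,4,0,6], [0,2,0,2,0,2,6,0,2,4,6,4], [0,2,6,0,6,4,0,4,6,0,6,2], [0,2,6,2,4,2,6,4,6,2,0,6], [0,2,4,6,2,0,4,0,4,0,4,6], [0,2,0,6,4,0,6,2,6,0,4,6], [0,2,0,4,0,4,6,2,4,0,6,4], [0,2,4,0,2,4,0,4,2,0,4,2], [0,2,4,0,4,6,0,2,4,6,0,4],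 [0,2,0,6,0,4,6,2,6,4,0,6], [0,4,6,2,6,4,2,4,6,4,0,6], [0,6,0,6,2,6,4,6,4,6,2,6], [0,2,0,2,6,2,4,0,6,2,0,4], [0,4,6,4,0,6,0,4,6,4,0,6], [0,2,4,0,4,0,6,2,4,0,6,4], [0,2,6,0,6,2,0,4,6,0,6,4]]
namespace T
noncomputable def A_0 : List (ℕ) := [nat_lit 0x3ccd2f8bf25292fc2945348c718e82a94a4248a491249909f33e69319cc298d31c29e38494f29e86f0de617ca4412227915d2bac4e89d251ca3a41e531212424ca594b22604c22a855189712e81fa0f2450a321224fc88e1d8432928221090c1003ac9292528420e8418c7390c650c8ed1da8a014062387340c485211642b08b88f20ec46907422513226445888840e041906a2008343fec9108c248891240080097221703b07f80cc3c221a4348b00ee81818582ccc1c1643ea06d2a304a950225481c0e454e0962a444b2174c64c4a53a859b1963254ea9d8608c4216c3888610e24168c1214c38118430985318b02a06d60ac3610563708720e4c718e341843540523a9184308c748e921a434a1e41bd0fb1f6c3706e239472a3026058e41c88310f224583420521808250bc41205b408c2e304632205616302588a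40e445b0724aa08510f01b85880845840941f50330fcc1990481cc3ac05e15e0202264680d061642d30441650222e285497262a42ec0463020520a840f851207854c08e14201d0928558ab244824203444a07909c80e84f607451408821a03608d00c87480b822c0302d197c16a8be17c284108322845587b22883d86640a033b05046207c13502009080ec21c02e10881710501a04180581f902c17e02412901e89320f42ac03e24a03c12241e08e80e832c04e19082710901a863809831104c459a0a22e90507c20c81da0ec1d883007480a03920501c110220583406ac0903440481990240c20104144c118262c859b0982c904c12a81f09660f85b409a1ae02a0c301282d803c16101e14e01e05700702920381f402a0a200d09a40e025411c23903409100c04640605621e83d22224448af15e82584b221442a06e0dd813042c0584a21cc39a05e0bd810040805822214829303c07d80a03c80501d20280d40101e4844088c0c036404c0cb0100b901003080407b210020302c05d80702c80383d40701e303805480704ec0682640341940220c4811029003013201809400a04080509841502a603807b00803900401a40201c80240d901203200301640180a800804100401e001022c02806600402a002012000012c010036000012000004800,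
  nat_lit 0x542dc335a8b1543335aa1d1ad2c246b8d766e4dca4e2b24b5b6b7138a7166b8d7145e8bd339672d1716a88b91712ee5dd27a4f6cb027a2580b0415a5ed0ae15c4bd17a4a59c3152cb149b852ccdc1b88358bca1ac3599782f04700ad212490244447da22508cd7a8546bcd7c4508a1329445194b292a8d51a6c8a2996d5128b696d889913265ccb8a9c5390c018047d1b23536a6e17f2fecfa1f48bf89d11b03619b16f45d6bad4bf97f351ea3d33f67e51fa3f44ec9d91762ed050504d85b0b4b0d6193626c50d91b248e91d681102223c4788bc178c2817682ac70238a7158df1be4b997363506da3786f18da1b44ba17443506a42b45692684d0cac959426d1293566ad8d51aa4db1b66a4d49930a5d58eb44e89196982905640902a884862d10620c64498aa4226988c841688913c69289ea494aa61906425e0bc14d80b7c4ac644a564acda8b51495d2b93526a5ac45888d99b363446893646c929e3551282504d29254694d28a9f53e9c3942494ca0b4a6e1da995330bea5325f4beb4688d117e2fd14d3502a895136dedbd29a5345a5b4b6934b411489f8b606c1145a8b26314f33186320b749c4c698d69bdafc4de9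bd16b4b24b596b62e05c12c658d27535b12c25826d4dab4fa9f49624eacb1162833cc5319e33d18b3164618b721385eb3286510be17c4c718e634861b33a6750c41884c798f43486943686d12a0540cc819043b12693606c18d31a64ab95769b536930c56189949e89f96e829c5d409e2e484f63110720e45998bc41a8351132cc4510a544ac5232562a110514ec8290587d4faa5febfda3525711aa3525b096a1984b18cc26085312f62985342d85b1288510cd60cc86b0d6147433910819ac840cb44b865325c4ba23a474d8230447e88443f47e89a7214851909628c83a1924198c91930d39a76a0d41a2ce59d8f014642298682d0c3c16a84e11542308a1d829d13a33a28a49d13a2877a322570ae41383be0663ac5408ee219940b2ca9449652ca878a5a2754eac1da3c60671e0433944224050108648c88213e492124620893c10627184113642093e228450b28a51509013301f9c3240c6e90be53889434847d0c62154cd94be9989e6,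
  nat_lit 0x6789193e22df9bf35c0780ae05c08eb9d76b85709684d09af55ea59eb3d4f35e69714e292a554a5c738e4b90f815c8b92307612cfe9fd87216c96d0da1a706ea56c2d86e8dd1c5aad58a80500cb22732d5daba776eecbf143e4e41c86b556aa392724a37680d1ba3744cd20b2664cca4048098d31a686983943486a119232d0ca1944c50c32624c61002004f79ef690d21939472a23b3964fc9f9646971c3c2785a1b43688d11a240480a3ce79caf377d18f2d42c798f24287c4adc5b8dc22da27c8f925f0be0baa5e71d53aa6fb1f617da790add5ba9c23842f8df6b7c6f8d382704df23e42e21c425b6b6c9e53ca976aed877c7ab3be77d0f61ecc3513568f91f4260fb8bae75cdb0ad22dcdb9a52ea5cb616c2933a676d89b114e09c136b6d6569ad34e85d0c59e6fdacf59e8e01c087d8fb3602c0523d600d1ea3d24c0f1b478b00b6a6d4d373712b0560a734e68bbd34251e23c84bd1db604c091f8606cfc1f886815eb340680a0540a8f61ec23f923b2724e48ff3dd07f8ff47b4f6b1fc3fa10f21ed03ade8d0503a2708199382711232462d05a0b48ac21a3646d0d12452688d1218cfbcbb1762dae2b52d99b324dc9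b8b5c6b8932a656d75ae958cb193766ec55b2b64e4dc9977eefe31f63e55699a4ab556b3326649f73ee88710e23dc7bb3b4e9e2e85d04ed1da43e07c426c4d9202404c8620144308610ee441209412d8530a47f8ff134668d2b877b18eab82c758eb7728213126245dcbb98fc5f8b76aed4b0c618d1535829fd3fa2c8590a2a454999b33696d2d92b656d2724e45acb594edddbc61e80d30f61ed2224424dc9bb4728e499732ed592b24660cc43f67edb0660c91c30568e11c4384ef231b6365671c24b396733827049fc3f888e11c28790f3638fc23ba77458e31c4909214268875134268d0e21c24808d90fc740a5276859f33e494929361a750a33466986b0d2add5bb39a3e49cd39a9481022670ce4184a421716d25ed3e02fe5fca7b4f69b816e85eebdd4e05c09584b099a54c44d29a54a452f13887120de5230b93202f0092b456a3116f51acb7a8e45c09324568ae3342e0518a314cd19a34606a2230780dad27c2d6918136e6ddac5,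
  nat_lit 0x6804bf76f5deba7f0fe0be87d11ca3f62fa5cb27d2fa5ba273a9f53ea6e91d227d6facbf57ea9eabd52eb1d645f4f7a3757511773dc6e99d317b0f61bab7a05d5bab4bf17e16f0de1bdf7445efbdf4e95d297b2f65ba97925d4ba98bbdedc6d4bc21e46d91393382abd57a37a6f4aa85510c730e28b516a66ecdda554aa5913224bedb695f6bee1f176c5c1b838b757896eedde27f7705c2b854a554a932a6552ae55c59532a692d92149692d32b622511a236cad95c78aaed9c754c4e39c74af15e4732a4a17333f0623942f31e63674ce93ce79c5cc3984afd5fb738e712d65ac5a33466aada99528a519925564c91924a9de2b660a9cb306609e43c82e45c8a566accb43687120ad18705933442ca0a2144298a3148825643690920b48690965acd26ecddb596b2e1b9699126b922f3de7b676ced3cb7965cdb9b4af95f3732e652d75ae5883106881a91594b29b27440593b274b1de3b65eb1cb2f65e9e23c42e55caa568ad0b2364710dad086fda235986e8acc5989a3b47891d553326ab099332694c2492d25a4b530a6217b69b127b902f0de1b7e8ff0bff7fe9fdbfb6f95f2a7f4fe8be77ce9d03a02f09e137e6ff8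bf37e69e93d22e7dcfa7ccf99b8f71e5e9bd34fd1fa17faff53f27e45e8bd16db97396dcdb93ca5c45bcb796f29e54666e79af26c65792f24e5dcbc56ed7a2655fb0f999629ad35a2ac5588f41e9034b362ac558a37c6f9ab056059632c4890ee94488921204a84ef1de88751613d07a22064984f49e949712e13a674d26c4d84e31c66ae59a9572ae519e65a55d2ba6678cf41869dd95e1f84af15e49d93b42f098614c39d07215523f47ea3d49a8b676cf1602782dc1b82760ec0b7c6f8d7b1eb2bd97b26feba5b7f6fe5d93b26d953496cad962d36e453ca79473ce794ba9759ea3d457a2f46e01d99700e012eb75e5beb7d6bad75c67876da603a45302604770ee45d857e09e1e70342f92d51aa37acf84b7b6f7141aef2d3da7a7a8e24bd47a8da734e2bdd7ba626c4cae55ca8ec9d96b997313c4789aec5d85aab554f59eb1716e2d2a45485c6b8d4b7da295beb7d9d66625752ea6c957d1664cc93c678c5c638c4f8992a5dcbb8b3c,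
  nat_lit 0x306d4f88f650847a282a80b8730694cb50894c5822fa4a8a34160cbf2586d412ca6a06192a24ea5b79866a6927269693a1682c713f2666d80b7351660ca9e1cc8c613e69385c231a99935f2b0537944696452c2d613a0b8140cb18cd26b4a224b034d1b536093e95d89d45022c42f498a16e8c5059233c5bb3161450bd41c4ca05162f85ca31c1510c341a4ce85463105cb31e1688d21d8cda1848a805d13204f924d19d0d805a834c4ca2ae56126d1730ac16e293c5d22dc84db18226d072154c5cb3341a1158a508a85204662a023214e1d09052ce4fa95267d50b95fe21892b2a491a88664b443225821d93010e89784622987732d8620a880b04660ee46b02c319c1610cd0aec65857432843925c54123a42c5820752420a833f41d590a0ea884874641c3a220c15c8c91e08d39892a0c51c2ce3c21d82b893a12388a47443a24a22321decae0ee8758eaa5024fe2511430b2944896878b3aa10a09f13889209c249c46c27c10d0a11324a28dd870c63434830619b2a51330fa479828c17e54525f1270a694a631ca844c840d9f31c50e6153698c3041c225194f29046f14c227821313c2d495d08484e891651c49b2984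54a121268a583f62605a12a851889728cd078e824843241d63a192911f0a186563b47312800e1889110c9910b47fc1cc118206122216d0007f242c1830f01dd90d2a2c7d153440c8c342e2d998923090b2108c64c4353a0b20700da86106d23142f41b80b50720d447186f23a83231d42cc9840c887482961a41630de45c8fb05883706263945913021a08e40d0c790c8616c6420b84a988a25484590461f48220fc1ea1130b48680c065c46022e430085d0a045481a612424315628984e14482784d42d026b16a2be17c22a90809a61984d20ce268918086c4804142084a20be2498550ca84706362103e222c1f1917028c1d83a61d809c0700d50812231050b3460835b12a1ad0960d645b02d618415a0a60a083e018c12824611c1030ac085056062c3d079644425315e06d84b06cc4282120dc0da0940b987304041780b80880fa0a40c507903282201920d80c105c0c607b02e82001560f40aa0780c9027064c1301b813007a054019011,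
  nat_lit 0x4729a0a842c2096146c4dd245570cd13bd6fbddfa7dec123b16ba9d8b936ad4cda56aaa5b662af1372c48d70a894ca9f635d36516327e6dd8cdb56caca393642ddfae84c7d0ab63e30599a3291568c146648343ee1de10e0d887bbb46e9d8bb5d03ca1da0d8c7c08a24d900b26c4f0a02282500a0384303c42208209103fcc88198282501961442a1fe18ccd1b214ef4cec57084d31d292d0420f8c498c2772f813f17e09da9ff8c312da618eddb584c49ac37469fc5042c849222a522599945896c4dc2b6da5a724c4dacbf02edca6b40684cb0f29a92208a84dc96c4722fd1976305590bf66608493f6c151fb50e5832852c14969470c81bbc77498da116c6c6eb3846f22ce1ba8e090987f03f423853921e7c0df83156ee9094638539a4224c50e91b687444926846d21c1cf0e830b8ed119b67c5022521d90ea12988cd00461a6712b70d907c8e3873438c204a4199c4db1b4b7a8f81eeb7f2d923da4f71ba36f8f7547c7027112c229d1310c78694a4c4bca459c442d1900834494d435186a128d2ea54717b6a3841b24c5fca2b1510b80ae65c0943462a84b341944d435b4f00b0c4f84a12301aa8db9854a853226b45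a92862d4d4389f65853da2c21720d735c86ba2826e4db4592991b5b2b45388cd86b893b45ea6cb3914a4b512748b85632ee61ca7b2d2d3d09f45811312f61260ae1cecbd29c4e18d5a58a6062961ce8dc0db25e456b2f21708d615a8bc080648040223e5a12842d0d428ce26bc91b450600a2244ed949876a8cd525146a9a8914e4b6921689912b65c615a9c162cc02682d90c3a5362c517f2084fa23f64e84622741750d8586dbd2824de99fb75a810afe2e2547a348cfc99447e23193b2ecc5d9668a08bb15047fcb0b34d1618d086c42eb1b21fd11d21b10207f6478bb21781818e04164e2860437c5522e61798db4184de05e43685532e816c8d4136cad15489a05612b24852251970d585b835475a36c5d52931550ba969289c5622d2851b1634c90620b8c5505b34c23513c11ac9eb5f2aa50bc642d7dbc11504b78ba664545a32250d2565325a8943695c6543523451a936856225026cc2cc1a23999b21964d513f6940bf149493db4a,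
  nat_lit 0x61115d2762678c544ee7392770dd07e09d8578e734ec738a6112f0aaa6a655534a2aa1be0fd3d6c7eb6889a8e924d4ec1b677669b3b7189e0e7b4f057d2785b11b83b36dc181c760a1237c5d29be2f787ad2ea3d6cca2f669f1749db2ba544c6fec163b26e49d91d269a5b344d2ebd36556d1b93af6dc9b9c4f257da791cb0e794789757ac3d4d522f46fa97a3098ecd46c700c023af50f1be9dc2bad7543b63cd1db1d30e914b898079b3b83cc95f626d7c9ee4be52d26a8e2dbe17129f0ae56ded7326f6d15aef3c4977a516d3d4fc712a91b896971ea2514d38f735ee8223133d91728f127658545cc3de1e268a97625a6d55a8c7aca8a38b3111522de6e3522468a78e2df78cd98a294cc4f025d47c1afa68497d2296cc997478ca8e38c54adc621e8c9571964a781aee79ad9e38a6f894446fcb8537e1eb0f03408b807793ae7be2e14811a11f04bd519367ace63cd5431c51898a9571b71c4061f03b0d722862c251b2612c211fd2144fe9cc6b65d1a5b2b2536852edbaa7c4dd4e625b0ef8ba3776dab25e4d59ba250056da736d2939a5e6d5d8d4776471a1f60e90f8e147218a95aa3859c94845a02414d0096446e7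08a4111109994869010896347f1b0729090d07d24650c2232494a1923e50c08824c4f3b2001c510047c8f7935490d6a33943891ca1c4ce5ad4472c83c3f27851f93b09718f62784e014361f611a0e2c808fb879df7377cc813be38b16a2f36c797c33e24091f13a896e3886b68e825b44099f23db17c3164bcdda2754e9d3ec5dacf20f94790ea35baa4e38475b1f6be44fb5c3c7c6a40b8270d1f229e8e20e835b63e59e574e57693523d43521ea8509df23707b08984d4df947cef13ee5ff1d73624eb9d0b5a470d2d24f8db997a8a5d3d46c254ca6751d1b115989c164b6d670dad37785d08dc46fd8b159e3719c020c4fb30047d9449602a30b0033511e8f8278d23a3c6e69ac03489602a94da96336e29f9371348d60abd8e6862b342af51a127291e12f28ed81a476a34b0251458190727e18b957a3151a021cd029f767b0cd148e22e1395bc4f707063fd0a93da1c10fe0f0487a06443ceb25bc4f4a0728450308b24e189348c525246,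
  nat_lit 0x79d1fbbea2fdde827eed563d77505ebbd06fe1e7c7f0e59be87449f43c88fd9eab7ecf253f67b85cb2b58e59cac7d2f78b9d5831cebeb6e75cdc7d4b663a47b65d239c8fade3c7eaf25bf569d1eaafc6eb1ec2758e95bde6f09ef2f06ea1eca750dae3dc6d89ee3db4e996e474cd5e3d867b1e82f98eacf945f8a023785a51d13768f7d6dc74ad623d96631e4af04ea5b637b6db0af079919c22d6ce12aa670e4a2af32ad578da86f557337ae0daa86da9542018c3978b61ced930e24d116bcb8cdd5d966e50a2554331913b86c8939c6daa49b6d622d7db598ed992376ca493833cb178b244bc54ab6eea993776ad1dc3114ee16d470aa99b852f314a8bd8655c8c55cf1232a44699521c8c909e449681e31123f111abc2cadcc457667d2bb3171530e0871ccfb57867ca92566dca2d14e51a9a7988be33a59059d3536f396b373068e2bf64c55fbc52e70e4c5ac9163464909a32598d4cbbc528ca129471f155b434aac5dc324d313c5650d5398d8a9d13c660d31bc85a2dc89978acd243686c50ad143f1932cd4c99e1c65047a22159ad8a1b58b20dda5904ea2487a51a43a08b346cc376d30acb568dc92d04e49a9279e8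c633b55459db526f2d6bb7366862be68855f3c72e64e5c5ae8163105589882578d48dbc5946e92ca23b1103234881e1464ed353c7374d639b38b1d12c65ed35bc45a0dca9998ad1563646d1cad04871a22494d106c4374e7e2cc492da39918aa9a4a554e422ac1790c993b8925e9c692d34a987cedc82e74e41b1a786fb23fc7fadfe3fe4ff1fcc7fefe9bff7c51fdbe62fedc147cae78be57c31fd38e8f9d73b740d793c27df1ff3f26ff9e047e6d79bd25c4dcfb8d8f9971271ed8dbd37831fa3ee8ff5dac7e4cfa3d16f29e89d98b9d3a46dc75e2e25031bcb972f2961473cbf539e4cf1b19e68bc97eb72ebf4b5e17d0cb2b1665958232c5d226b3a6d3589885593632ac7798f43ba87a28c8cd916366c95133660d1588db86f93b937cc062b050b19624c6cb10143ba9859dd65ad1214189519ab4a89851de24b11633548b12e33d03f11e827b12632d49310c43d23f19e928d12e0ea874cc7c4d837e1c65748e32868cd5814572a2a32d]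
noncomputable def A : List (List (ℕ)) := [A_0]
noncomputable def K_0 : List (ℕ) := [nat_lit 0x70ce121ec4334e711903616caebdd8c5b83e6890a213438868ed9e33c06b0d51de3ba764d29a335c6e0fa2b956e7c9029b056aacd5facc5f4b9155ab14ae9754898e4d08e11ba3a46c8d51599c3f6808d9a5f4c26d0db1883fc98d32abb588945282714cc524bb97829a530cd99526ebad712a5304a90c2a4848e8f52524944e5f504a1141e7c0f720c4165bd039e93ce528a59672cc590b196e3ac588ea9ce332668ea1d232e5f09a95f3a25acaa1d039464cca15a2444e4941c938e560c897a2626bcdb9b5350698d91b12906b4d49a12e25c8b09602bc574a39a02d067cc499d33c634c61963204e8b29872884b4c31842fc5fc9f91326c4c8c198127a5ecbc9272da5b0b51212d25048f11d2b255cab155268498a99522a24648c150260490a3145286448a11402364689f13c2764b89992f2584ac9510e21a4a49292324047c8e11722c454839142224408790c216428819092104188290420440480000,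
  nat_lit 0x39ed65f73336788c1e738e6cee7522ace3eef05e23f17a4e1dc2b8a86d0ae274507907fdd9bbc733041e63fc76114a2ac21848d8a092227f486d0ab2489908d0fb2885b0fd8f9f679ef41f03e29851295c31040ccd99a39e7411626e2b49432217cae6600aa936a5c524a41602585babd537a39558a3d4a304454a81892036b0de5c9b8c97f1153031d402da9b433d67f17a662649072c94c25a4bc9893b2784ce9a4de9b944a898e31ab38a538d22d259ea0d429765d8ba972ae35e0ae9542b256c628c5b075329496b23c4e4bc95327d45092d0bb4c4e09a97daed841108f7a1d690ac1572544ad1721f1e83806fce19c23e6810fe1ec3d47e8fc9f13da795042123b8a29449da3c88294ea9e58ab35c437f682d81d732b7b874dea23f47c8d120a40486660ef9e241ac2586a0e420734f0ae15c0af15f332652f29eb9702b6570ba17331e6009c35c706d98e435d3968bd1723145a8b123192382c79e4bd3,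
  nat_lit 0x488b262fce99a90160f3c082b0d5fbc2a77f18a68ce0835001d940f84b01a1a3638d304609bf079b19dfcbfb810e09ddbc3768f09f6bea92f2ddf0bc6744eaa5548a73ecd6514879412517c4a5920dc174293582c51cab98973265c6cc198911a24356642db9bb48c958cfa2cc579bb32db4c849672154e4db96130df9c0b5b2a057fa5b5169e4dd2d35a09fd43c80750b9e66cb455330187b1c590c2985b0c4f4b616ba3b5f8bf56f2df452b0d0cbe769a9f1363025debba1743a88910535a217ccd1d7b3a44e8dd12ac4b8bb0f218aaf74c801b91f83eac4e204223fac461644d69285939a6e52aa5e6bc5350cc950c28e4a69dd2cc4f990a36414a4712df9bd3427a2cb5eebdb58ceb5cd3927228cda03397bcded21284646879833015e8bc66cc51610d2d102dc54eb5556c5498cb6e53c937c6cc59632a796f61eb3d537c6f0eb9d84487ad119753cc939262a253e53dadb54702e01c5abd688d7daf1cc,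
  nat_lit 0x8f71d23647c8f51e18ccfc9fd3ea79c6d8e71ada8b306f0eb1dcbbd9e93da7c4fb8ef1c23cbb6770ffa0e31a9cd3c18b4ee9c2c62724ec9fb036794178dd1ca354eb93b2edfacbd93719671cae92300e58c8e8fb1d54d3036d8f1dabb387c8cbda94cf68b34da83278530c9bbc3884eead654f19d4efa714ef6c93b672cf57d339dd0c768e31927bcb8934e524c4ba8c33e646cbe6db27a56c7e8defca05402818fd20c3b5510ba6673ba9a4edd8ac28866ff613437836b2e334e89a0dbdf5b177530bdcb4395011a26acdf746e5d8dbec876dd6182d18c6e95d3a7b4eb181b8b735eebf9a334e7cafa20741d96b2554b28283305a3fc9f4fca3240ca390d2da04c89956fe1bebdf58ec99fb3ff9392f179cde9b116a24b0569501203caf91eb5223c5698b3296d4a89252a600cc99173594db0e6d6f15aab2e66ef68dda4f49aa8d50ca6828d4e63c966873699134f584d69f7b7c7b2ced9d23271ee41ce39b]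
noncomputable def K : List (List (ℕ)) := [K_0]
noncomputable def R_0 : List (Rule) := [Rule.mk (nat_lit 2) (nat_lit 46) (Steps.bwd (nat_lit 3) (Steps.bwd (nat_lit 2) (Steps.fwd (nat_lit 6144) Steps.nil))) (nat_lit 8) (nat_lit 1),
  Rule.mk (nat_lit 4) (nat_lit 94) (Steps.bwd (nat_lit 1) (Steps.bwd (nat_lit 3) (Steps.bwd (nat_lit 2) (Steps.bwd (nat_lit 4) (Steps.fwd (nat_lit 4096) (Steps.fwd (nat_lit 6144) (Steps.fwd (nat_lit 2048) Steps.nil))))))) (nat_lit 12) (nat_lit 0),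
  Rule.mk (nat_lit 3) (nat_lit 94) (Steps.bwd (nat_lit 2) (Steps.bwd (nat_lit 1) (Steps.bwd (nat_lit 4) (Steps.fwd (nat_lit 2048) (Steps.fwd (nat_lit 6144) (Steps.bwd (nat_lit 2) (Steps.fwd (nat_lit 8192) Steps.nil))))))) (nat_lit 15) (nat_lit 6),
  Rule.mk (nat_lit 2) (nat_lit 46) (Steps.bwd (nat_lit 3) (Steps.fwd (nat_lit 4096) (Steps.fwd (nat_lit 6144) Steps.nil))) (nat_lit 8) (nat_lit 1),
  Rule.mk (nat_lit 2) (nat_lit 94) (Steps.bwd (nat_lit 3) (Steps.bwd (nat_lit 4) (Steps.fwd (nat_lit 4096) (Steps.bwd (nat_lit 3) (Steps.fwd (nat_lit 2048) (Steps.fwd (nat_lit 8192) (Steps.fwd (nat_lit 2048) Steps.nil))))))) (nat_lit 14) (nat_lit 2),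
  Rule.mk (nat_lit 3) (nat_lit 46) (Steps.bwd (nat_lit 2) (Steps.fwd (nat_lit 6144) (Steps.fwd (nat_lit 4096) Steps.nil))) (nat_lit 8) (nat_lit 0),
  Rule.mk (nat_lit 1) (nat_lit 94) (Steps.bwd (nat_lit 2) (Steps.bwd (nat_lit 1) (Steps.bwd (nat_lit 2) (Steps.bwd (nat_lit 1) (Steps.fwd (nat_lit 4096) (Steps.fwd (nat_lit 2048) (Steps.fwd (nat_lit 4096) Steps.nil))))))) (nat_lit 10) (nat_lit 1),
  Rule.mk (nat_lit 1) (nat_lit 94) (Steps.bwd (nat_lit 2) (Steps.bwd (nat_lit 1) (Steps.bwd (nat_lit 3) (Steps.bwd (nat_lit 1) (Steps.fwd (nat_lit 4096) (Steps.fwd (nat_lit 2048) (Steps.fwd (nat_lit 6144) Steps.nil))))))) (nat_lit 16) (nat_lit 1),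
  Rule.mk (nat_lit 2) (nat_lit 94) (Steps.bwd (nat_lit 1) (Steps.fwd (nat_lit 4096) (Steps.bwd (nat_lit 1) (Steps.bwd (nat_lit 2) (Steps.bwd (nat_lit 1) (Steps.bwd (nat_lit 2) (Steps.fwd (nat_lit 2048) Steps.nil))))))) (nat_lit 10) (nat_lit 0),
  Rule.mk (nat_lit 4) (nat_lit 94) (Steps.bwd (nat_lit 1) (Steps.bwd (nat_lit 3) (Steps.bwd (nat_lit 2) (Steps.bwd (nat_lit 4) (Steps.bwd (nat_lit 2) (Steps.fwd (nat_lit 6144) (Steps.fwd (nat_lit 2048) Steps.nil))))))) (nat_lit 12) (nat_lit 0),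
  Rule.mk (nat_lit 1) (nat_lit 94) (Steps.bwd (nat_lit 3) (Steps.bwd (nat_lit 1) (Steps.bwd (nat_lit 2) (Steps.bwd (nat_lit 1) (Steps.fwd (nat_lit 6144) (Steps.fwd (nat_lit 2048) (Steps.fwd (nat_lit 4096) Steps.nil))))))) (nat_lit 16) (nat_lit 3),
  Rule.mk (nat_lit 3) (nat_lit 46) (Steps.bwd (nat_lit 2) (Steps.bwd (nat_lit 3) (Steps.fwd (nat_lit 4096) Steps.nil))) (nat_lit 8) (nat_lit 0),
  Rule.mk (nat_lit 2) (nat_lit 94) (Steps.bwd (nat_lit 1) (Steps.bwd (nat_lit 2) (Steps.fwd (nat_lit 2048) (Steps.bwd (nat_lit 2) (Steps.bwd (nat_lit 1) (Steps.bwd (nat_lit 2) (Steps.fwd (nat_lit 2048) Steps.nil))))))) (nat_lit 10) (nat_lit 0),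
  Rule.mk (nat_lit 1) (nat_lit 94) (Steps.bwd (nat_lit 3) (Steps.bwd (nat_lit 1) (Steps.bwd (nat_lit 3) (Steps.bwd (nat_lit 1) (Steps.fwd (nat_lit 6144) (Steps.fwd (nat_lit 2048) (Steps.fwd (nat_lit 6144) Steps.nil))))))) (nat_lit 18) (nat_lit 1),
  Rule.mk (nat_lit 3) (nat_lit 94) (Steps.bwd (nat_lit 1) (Steps.bwd (nat_lit 2) (Steps.fwd (nat_lit 2048) (Steps.bwd (nat_lit 3) (Steps.bwd (nat_lit 1) (Steps.bwd (nat_lit 2) (Steps.fwd (nat_lit 2048) Steps.nil))))))) (nat_lit 16) (nat_lit 0),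
  Rule.mk (nat_lit 3) (nat_lit 46) (Steps.bwd (nat_lit 2) (Steps.fwd (nat_lit 6144) (Steps.bwd (nat_lit 2) Steps.nil))) (nat_lit 8) (nat_lit 0),
  Rule.mk (nat_lit 3) (nat_lit 94) (Steps.bwd (nat_lit 1) (Steps.bwd (nat_lit 2) (Steps.bwd (nat_lit 1) (Steps.fwd (nat_lit 6144) (Steps.fwd (nat_lit 2048) (Steps.bwd (nat_lit 2) (Steps.fwd (nat_lit 2048) Steps.nil))))))) (nat_lit 16) (nat_lit 0),
  Rule.mk (nat_lit 2) (nat_lit 94) (Steps.bwd (nat_lit 1) (Steps.bwd (nat_lit 2) (Steps.bwd (nat_lit 1) (Steps.bwd (nat_lit 2) (Steps.bwd (nat_lit 1) (Steps.bwd (nat_lit 2) (Steps.fwd (nat_lit 2048) Steps.nil))))))) (nat_lit 10) (nat_lit 0),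
  Rule.mk (nat_lit 3) (nat_lit 94) (Steps.bwd (nat_lit 1) (Steps.bwd (nat_lit 2) (Steps.bwd (nat_lit 1) (Steps.fwd (nat_lit 6144) (Steps.bwd (nat_lit 1) (Steps.bwd (nat_lit 2) (Steps.fwd (nat_lit 2048) Steps.nil))))))) (nat_lit 16) (nat_lit 0),
  Rule.mk (nat_lit 3) (nat_lit 94) (Steps.bwd (nat_lit 1) (Steps.bwd (nat_lit 4) (Steps.bwd (nat_lit 1) (Steps.fwd (nat_lit 6144) (Steps.fwd (nat_lit 4096) (Steps.fwd (nat_lit 8192) (Steps.fwd (nat_lit 4096) Steps.nil))))))) (nat_lit 12) (nat_lit 6),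
  Rule.mk (nat_lit 1) (nat_lit 94) (Steps.bwd (nat_lit 4) (Steps.bwd (nat_lit 1) (Steps.bwd (nat_lit 4) (Steps.bwd (nat_lit 1) (Steps.fwd (nat_lit 8192) (Steps.fwd (nat_lit 2048) (Steps.fwd (nat_lit 8192) Steps.nil))))))) (nat_lit 20) (nat_lit 1),
  Rule.mk (nat_lit 2) (nat_lit 94) (Steps.bwd (nat_lit 4) (Steps.bwd (nat_lit 2) (Steps.bwd (nat_lit 4) (Steps.bwd (nat_lit 2) (Steps.fwd (nat_lit 8192) (Steps.fwd (nat_lit 4096) (Steps.fwd (nat_lit 8192) Steps.nil))))))) (nat_lit 24) (nat_lit 1),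
  Rule.mk (nat_lit 3) (nat_lit 94) (Steps.bwd (nat_lit 4) (Steps.fwd (nat_lit 6144) (Steps.bwd (nat_lit 4) (Steps.bwd (nat_lit 3) (Steps.fwd (nat_lit 8192) (Steps.fwd (nat_lit 6144) (Steps.fwd (nat_lit 8192) Steps.nil))))))) (nat_lit 26) (nat_lit 1),
  Rule.mk (nat_lit 1) (nat_lit 94) (Steps.bwd (nat_lit 4) (Steps.bwd (nat_lit 1) (Steps.bwd (nat_lit 4) (Steps.fwd (nat_lit 2048) (Steps.bwd (nat_lit 4) (Steps.bwd (nat_lit 1) (Steps.fwd (nat_lit 8192) Steps.nil))))))) (nat_lit 20) (nat_lit 1),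
  Rule.mk (nat_lit 2) (nat_lit 94) (Steps.bwd (nat_lit 3) (Steps.fwd (nat_lit 2048) (Steps.bwd (nat_lit 4) (Steps.bwd (nat_lit 1) (Steps.fwd (nat_lit 6144) (Steps.bwd (nat_lit 2) (Steps.fwd (nat_lit 8192) Steps.nil))))))) (nat_lit 12) (nat_lit 5),
  Rule.mk (nat_lit 4) (nat_lit 94) (Steps.bwd (nat_lit 1) (Steps.bwd (nat_lit 3) (Steps.bwd (nat_lit 2) (Steps.fwd (nat_lit 8192) (Steps.bwd (nat_lit 2) (Steps.bwd (nat_lit 3) (Steps.fwd (nat_lit 2048) Steps.nil))))))) (nat_lit 12) (nat_lit 0),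
  Rule.mk (nat_lit 3) (nat_lit 94) (Steps.bwd (nat_lit 2) (Steps.fwd (nat_lit 8192) (Steps.fwd (nat_lit 4096) (Steps.fwd (nat_lit 6144) (Steps.bwd (nat_lit 1) (Steps.fwd (nat_lit 8192) (Steps.fwd (nat_lit 2048) Steps.nil))))))) (nat_lit 12) (nat_lit 2),
  Rule.mk (nat_lit 3) (nat_lit 94) (Steps.bwd (nat_lit 4) (Steps.bwd (nat_lit 3) (Steps.bwd (nat_lit 4) (Steps.fwd (nat_lit 6144) (Steps.fwd (nat_lit 8192) (Steps.bwd (nat_lit 3) (Steps.fwd (nat_lit 8192) Steps.nil))))))) (nat_lit 26) (nat_lit 1),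
  Rule.mk (nat_lit 2) (nat_lit 94) (Steps.bwd (nat_lit 4) (Steps.bwd (nat_lit 2) (Steps.bwd (nat_lit 4) (Steps.bwd (nat_lit 2) (Steps.fwd (nat_lit 8192) (Steps.bwd (nat_lit 2) (Steps.fwd (nat_lit 8192) Steps.nil))))))) (nat_lit 24) (nat_lit 1),
  Rule.mk (nat_lit 3) (nat_lit 94) (Steps.bwd (nat_lit 4) (Steps.bwd (nat_lit 3) (Steps.bwd (nat_lit 4) (Steps.fwd (nat_lit 6144) (Steps.fwd (nat_lit 8192) (Steps.fwd (nat_lit 6144) (Steps.fwd (nat_lit 8192) Steps.nil))))))) (nat_lit 26) (nat_lit 1),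
  Rule.mk (nat_lit 2) (nat_lit 94) (Steps.bwd (nat_lit 3) (Steps.bwd (nat_lit 1) (Steps.bwd (nat_lit 4) (Steps.bwd (nat_lit 1) (Steps.fwd (nat_lit 6144) (Steps.bwd (nat_lit 2) (Steps.fwd (nat_lit 8192) Steps.nil))))))) (nat_lit 12) (nat_lit 5),
  Rule.mk (nat_lit 4) (nat_lit 94) (Steps.bwd (nat_lit 1) (Steps.bwd (nat_lit 3) (Steps.bwd (nat_lit 2) (Steps.fwd (nat_lit 8192) (Steps.bwd (nat_lit 2) (Steps.bwd (nat_lit 3) (Steps.bwd (nat_lit 1) Steps.nil))))))) (nat_lit 12) (nat_lit 0),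
  Rule.mk (nat_lit 3) (nat_lit 94) (Steps.bwd (nat_lit 2) (Steps.fwd (nat_lit 8192) (Steps.bwd (nat_lit 2) (Steps.fwd (nat_lit 6144) (Steps.bwd (nat_lit 1) (Steps.fwd (nat_lit 8192) (Steps.fwd (nat_lit 2048) Steps.nil))))))) (nat_lit 12) (nat_lit 2),
  Rule.mk (nat_lit 2) (nat_lit 94) (Steps.bwd (nat_lit 3) (Steps.bwd (nat_lit 1) (Steps.bwd (nat_lit 4) (Steps.fwd (nat_lit 2048) (Steps.fwd (nat_lit 6144) (Steps.bwd (nat_lit 2) (Steps.fwd (nat_lit 8192) Steps.nil))))))) (nat_lit 12) (nat_lit 5),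
  Rule.mk (nat_lit 3) (nat_lit 94) (Steps.bwd (nat_lit 1) (Steps.bwd (nat_lit 4) (Steps.bwd (nat_lit 1) (Steps.bwd (nat_lit 3) (Steps.bwd (nat_lit 2) (Steps.fwd (nat_lit 8192) (Steps.fwd (nat_lit 4096) Steps.nil))))))) (nat_lit 12) (nat_lit 6),
  Rule.mk (nat_lit 4) (nat_lit 94) (Steps.bwd (nat_lit 1) (Steps.bwd (nat_lit 3) (Steps.bwd (nat_lit 2) (Steps.fwd (nat_lit 8192) (Steps.fwd (nat_lit 4096) (Steps.bwd (nat_lit 3) (Steps.bwd (nat_lit 1) Steps.nil))))))) (nat_lit 12) (nat_lit 0),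
  Rule.mk (nat_lit 2) (nat_lit 94) (Steps.bwd (nat_lit 3) (Steps.bwd (nat_lit 1) (Steps.bwd (nat_lit 4) (Steps.fwd (nat_lit 2048) (Steps.fwd (nat_lit 6144) (Steps.fwd (nat_lit 4096) (Steps.fwd (nat_lit 8192) Steps.nil))))))) (nat_lit 12) (nat_lit 5),
  Rule.mk (nat_lit 3) (nat_lit 118) (Steps.bwd (nat_lit 1) (Steps.bwd (nat_lit 3) (Steps.bwd (nat_lit 1) (Steps.bwd (nat_lit 3) (Steps.bwd (nat_lit 2) (Steps.bwd (nat_lit 1) (Steps.bwd (nat_lit 3) (Steps.fwd (nat_lit 2048) (Steps.fwd (nat_lit 4096) Steps.nil))))))))) (nat_lit 34) (nat_lit 3),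
  Rule.mk (nat_lit 1) (nat_lit 94) (Steps.bwd (nat_lit 3) (Steps.fwd (nat_lit 2048) (Steps.bwd (nat_lit 2) (Steps.bwd (nat_lit 1) (Steps.fwd (nat_lit 6144) (Steps.fwd (nat_lit 2048) (Steps.fwd (nat_lit 4096) Steps.nil))))))) (nat_lit 16) (nat_lit 3),
  Rule.mk (nat_lit 3) (nat_lit 46) (Steps.bwd (nat_lit 2) (Steps.bwd (nat_lit 3) (Steps.bwd (nat_lit 2) Steps.nil))) (nat_lit 8) (nat_lit 0),
  Rule.mk (nat_lit 2) (nat_lit 94) (Steps.bwd (nat_lit 1) (Steps.bwd (nat_lit 2) (Steps.fwd (nat_lit 2048) (Steps.bwd (nat_lit 2) (Steps.bwd (nat_lit 1) (Steps.fwd (nat_lit 4096) (Steps.fwd (nat_lit 2048) Steps.nil))))))) (nat_lit 10) (nat_lit 0),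
  Rule.mk (nat_lit 1) (nat_lit 94) (Steps.bwd (nat_lit 3) (Steps.bwd (nat_lit 1) (Steps.bwd (nat_lit 2) (Steps.fwd (nat_lit 2048) (Steps.fwd (nat_lit 6144) (Steps.fwd (nat_lit 2048) (Steps.fwd (nat_lit 4096) Steps.nil))))))) (nat_lit 16) (nat_lit 3),
  Rule.mk (nat_lit 2) (nat_lit 94) (Steps.bwd (nat_lit 1) (Steps.bwd (nat_lit 2) (Steps.bwd (nat_lit 1) (Steps.fwd (nat_lit 4096) (Steps.bwd (nat_lit 1) (Steps.bwd (nat_lit 2) (Steps.fwd (nat_lit 2048) Steps.nil))))))) (nat_lit 10) (nat_lit 0),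
  Rule.mk (nat_lit 1) (nat_lit 94) (Steps.bwd (nat_lit 3) (Steps.bwd (nat_lit 1) (Steps.bwd (nat_lit 2) (Steps.bwd (nat_lit 1) (Steps.bwd (nat_lit 3) (Steps.bwd (nat_lit 1) (Steps.fwd (nat_lit 4096) Steps.nil))))))) (nat_lit 16) (nat_lit 3),
  Rule.mk (nat_lit 1) (nat_lit 94) (Steps.bwd (nat_lit 2) (Steps.fwd (nat_lit 2048) (Steps.bwd (nat_lit 2) (Steps.fwd (nat_lit 2048) (Steps.fwd (nat_lit 4096) (Steps.bwd (nat_lit 1) (Steps.fwd (nat_lit 4096) Steps.nil))))))) (nat_lit 10) (nat_lit 1),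
  Rule.mk (nat_lit 1) (nat_lit 94) (Steps.bwd (nat_lit 2) (Steps.fwd (nat_lit 6144) (Steps.bwd (nat_lit 4) (Steps.bwd (nat_lit 2) (Steps.bwd (nat_lit 3) (Steps.fwd (nat_lit 2048) (Steps.fwd (nat_lit 8192) Steps.nil))))))) (nat_lit 14) (nat_lit 1),
  Rule.mk (nat_lit 1) (nat_lit 94) (Steps.bwd (nat_lit 4) (Steps.bwd (nat_lit 1) (Steps.bwd (nat_lit 3) (Steps.fwd (nat_lit 4096) (Steps.fwd (nat_lit 8192) (Steps.fwd (nat_lit 4096) (Steps.fwd (nat_lit 6144) Steps.nil))))))) (nat_lit 12) (nat_lit 7),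
  Rule.mk (nat_lit 4) (nat_lit 94) (Steps.bwd (nat_lit 1) (Steps.bwd (nat_lit 3) (Steps.fwd (nat_lit 4096) (Steps.bwd (nat_lit 4) (Steps.bwd (nat_lit 2) (Steps.fwd (nat_lit 6144) (Steps.fwd (nat_lit 2048) Steps.nil))))))) (nat_lit 12) (nat_lit 0),
  Rule.mk (nat_lit 3) (nat_lit 94) (Steps.bwd (nat_lit 4) (Steps.fwd (nat_lit 4096) (Steps.bwd (nat_lit 3) (Steps.bwd (nat_lit 1) (Steps.fwd (nat_lit 8192) (Steps.bwd (nat_lit 1) (Steps.fwd (nat_lit 4096) Steps.nil))))))) (nat_lit 14) (nat_lit 3),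
  Rule.mk (nat_lit 4) (nat_lit 94) (Steps.bwd (nat_lit 1) (Steps.fwd (nat_lit 6144) (Steps.bwd (nat_lit 2) (Steps.bwd (nat_lit 4) (Steps.bwd (nat_lit 2) (Steps.bwd (nat_lit 3) (Steps.bwd (nat_lit 1) Steps.nil))))))) (nat_lit 12) (nat_lit 0),
  Rule.mk (nat_lit 2) (nat_lit 94) (Steps.bwd (nat_lit 4) (Steps.fwd (nat_lit 4096) (Steps.bwd (nat_lit 4) (Steps.bwd (nat_lit 2) (Steps.fwd (nat_lit 8192) (Steps.bwd (nat_lit 2) (Steps.fwd (nat_lit 8192) Steps.nil))))))) (nat_lit 24) (nat_lit 1),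
  Rule.mk (nat_lit 3) (nat_lit 94) (Steps.bwd (nat_lit 1) (Steps.bwd (nat_lit 4) (Steps.bwd (nat_lit 1) (Steps.fwd (nat_lit 6144) (Steps.bwd (nat_lit 2) (Steps.fwd (nat_lit 8192) (Steps.fwd (nat_lit 4096) Steps.nil))))))) (nat_lit 12) (nat_lit 6),
  Rule.mk (nat_lit 3) (nat_lit 142) (Steps.bwd (nat_lit 1) (Steps.bwd (nat_lit 3) (Steps.bwd (nat_lit 4) (Steps.bwd (nat_lit 1) (Steps.bwd (nat_lit 4) (Steps.fwd (nat_lit 4096) (Steps.bwd (nat_lit 1) (Steps.bwd (nat_lit 2) (Steps.fwd (nat_lit 8192) (Steps.fwd (nat_lit 2048) (Steps.fwd (nat_lit 8192) Steps.nil))))))))))) (nat_lit 48) (nat_lit 6),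
  Rule.mk (nat_lit 4) (nat_lit 94) (Steps.bwd (nat_lit 2) (Steps.fwd (nat_lit 6144) (Steps.fwd (nat_lit 2048) (Steps.bwd (nat_lit 4) (Steps.bwd (nat_lit 1) (Steps.fwd (nat_lit 6144) (Steps.bwd (nat_lit 2) Steps.nil))))))) (nat_lit 12) (nat_lit 4),
  Rule.mk (nat_lit 4) (nat_lit 94) (Steps.bwd (nat_lit 1) (Steps.bwd (nat_lit 2) (Steps.fwd (nat_lit 6144) (Steps.bwd (nat_lit 4) (Steps.fwd (nat_lit 4096) (Steps.fwd (nat_lit 6144) (Steps.fwd (nat_lit 2048) Steps.nil))))))) (nat_lit 14) (nat_lit 0),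
  Rule.mk (nat_lit 3) (nat_lit 94) (Steps.bwd (nat_lit 1) (Steps.bwd (nat_lit 4) (Steps.bwd (nat_lit 1) (Steps.fwd (nat_lit 6144) (Steps.bwd (nat_lit 2) (Steps.bwd (nat_lit 4) (Steps.fwd (nat_lit 4096) Steps.nil))))))) (nat_lit 12) (nat_lit 6),
  Rule.mk (nat_lit 1) (nat_lit 94) (Steps.bwd (nat_lit 3) (Steps.fwd (nat_lit 4096) (Steps.bwd (nat_lit 4) (Steps.fwd (nat_lit 4096) (Steps.bwd (nat_lit 3) (Steps.fwd (nat_lit 2048) (Steps.fwd (nat_lit 8192) Steps.nil))))))) (nat_lit 12) (nat_lit 1),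
  Rule.mk (nat_lit 4) (nat_lit 94) (Steps.bwd (nat_lit 1) (Steps.fwd (nat_lit 6144) (Steps.bwd (nat_lit 2) (Steps.bwd (nat_lit 4) (Steps.bwd (nat_lit 2) (Steps.bwd (nat_lit 3) (Steps.fwd (nat_lit 2048) Steps.nil))))))) (nat_lit 12) (nat_lit 0),
  Rule.mk (nat_lit 4) (nat_lit 94) (Steps.bwd (nat_lit 1) (Steps.fwd (nat_lit 6144) (Steps.bwd (nat_lit 2) (Steps.bwd (nat_lit 4) (Steps.bwd (nat_lit 2) (Steps.fwd (nat_lit 6144) (Steps.fwd (nat_lit 2048) Steps.nil))))))) (nat_lit 12) (nat_lit 0),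
  Rule.mk (nat_lit 1) (nat_lit 94) (Steps.bwd (nat_lit 4) (Steps.bwd (nat_lit 1) (Steps.fwd (nat_lit 6144) (Steps.fwd (nat_lit 4096) (Steps.fwd (nat_lit 8192) (Steps.fwd (nat_lit 4096) (Steps.fwd (nat_lit 6144) Steps.nil))))))) (nat_lit 12) (nat_lit 7),
  Rule.mk (nat_lit 3) (nat_lit 118) (Steps.bwd (nat_lit 1) (Steps.fwd (nat_lit 6144) (Steps.fwd (nat_lit 2048) (Steps.fwd (nat_lit 6144) (Steps.fwd (nat_lit 4096) (Steps.bwd (nat_lit 1) (Steps.fwd (nat_lit 6144) (Steps.fwd (nat_lit 2048) (Steps.fwd (nat_lit 4096) Steps.nil))))))))) (nat_lit 34) (nat_lit 3),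
  Rule.mk (nat_lit 1) (nat_lit 94) (Steps.bwd (nat_lit 2) (Steps.bwd (nat_lit 1) (Steps.bwd (nat_lit 2) (Steps.fwd (nat_lit 2048) (Steps.bwd (nat_lit 2) (Steps.fwd (nat_lit 2048) (Steps.fwd (nat_lit 4096) Steps.nil))))))) (nat_lit 10) (nat_lit 1),
  Rule.mk (nat_lit 1) (nat_lit 94) (Steps.bwd (nat_lit 3) (Steps.fwd (nat_lit 2048) (Steps.bwd (nat_lit 2) (Steps.bwd (nat_lit 1) (Steps.bwd (nat_lit 3) (Steps.fwd (nat_lit 2048) (Steps.bwd (nat_lit 2) Steps.nil))))))) (nat_lit 16) (nat_lit 3),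
  Rule.mk (nat_lit 2) (nat_lit 94) (Steps.bwd (nat_lit 1) (Steps.bwd (nat_lit 2) (Steps.fwd (nat_lit 2048) (Steps.fwd (nat_lit 4096) (Steps.bwd (nat_lit 1) (Steps.fwd (nat_lit 4096) (Steps.fwd (nat_lit 2048) Steps.nil))))))) (nat_lit 10) (nat_lit 0)]
noncomputable def R_1 : List (Rule) := [Rule.mk (nat_lit 1) (nat_lit 94) (Steps.bwd (nat_lit 3) (Steps.bwd (nat_lit 1) (Steps.bwd (nat_lit 2) (Steps.fwd (nat_lit 2048) (Steps.bwd (nat_lit 3) (Steps.bwd (nat_lit 1) (Steps.fwd (nat_lit 4096) Steps.nil))))))) (nat_lit 16) (nat_lit 3),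
  Rule.mk (nat_lit 2) (nat_lit 94) (Steps.bwd (nat_lit 1) (Steps.bwd (nat_lit 2) (Steps.bwd (nat_lit 1) (Steps.bwd (nat_lit 2) (Steps.bwd (nat_lit 1) (Steps.fwd (nat_lit 4096) (Steps.fwd (nat_lit 2048) Steps.nil))))))) (nat_lit 10) (nat_lit 0),
  Rule.mk (nat_lit 1) (nat_lit 94) (Steps.bwd (nat_lit 2) (Steps.fwd (nat_lit 2048) (Steps.bwd (nat_lit 2) (Steps.bwd (nat_lit 1) (Steps.fwd (nat_lit 4096) (Steps.bwd (nat_lit 1) (Steps.fwd (nat_lit 4096) Steps.nil))))))) (nat_lit 10) (nat_lit 1),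
  Rule.mk (nat_lit 1) (nat_lit 94) (Steps.bwd (nat_lit 3) (Steps.fwd (nat_lit 4096) (Steps.bwd (nat_lit 4) (Steps.bwd (nat_lit 2) (Steps.fwd (nat_lit 6144) (Steps.fwd (nat_lit 2048) (Steps.fwd (nat_lit 8192) Steps.nil))))))) (nat_lit 12) (nat_lit 1),
  Rule.mk (nat_lit 3) (nat_lit 94) (Steps.bwd (nat_lit 4) (Steps.fwd (nat_lit 6144) (Steps.bwd (nat_lit 4) (Steps.fwd (nat_lit 6144) (Steps.fwd (nat_lit 8192) (Steps.fwd (nat_lit 6144) (Steps.fwd (nat_lit 8192) Steps.nil))))))) (nat_lit 26) (nat_lit 1),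
  Rule.mk (nat_lit 4) (nat_lit 94) (Steps.bwd (nat_lit 1) (Steps.fwd (nat_lit 6144) (Steps.bwd (nat_lit 2) (Steps.bwd (nat_lit 4) (Steps.fwd (nat_lit 4096) (Steps.bwd (nat_lit 3) (Steps.fwd (nat_lit 2048) Steps.nil))))))) (nat_lit 12) (nat_lit 0),
  Rule.mk (nat_lit 4) (nat_lit 94) (Steps.bwd (nat_lit 1) (Steps.fwd (nat_lit 6144) (Steps.fwd (nat_lit 4096) (Steps.bwd (nat_lit 4) (Steps.fwd (nat_lit 4096) (Steps.bwd (nat_lit 3) (Steps.fwd (nat_lit 2048) Steps.nil))))))) (nat_lit 12) (nat_lit 0),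
  Rule.mk (nat_lit 2) (nat_lit 94) (Steps.bwd (nat_lit 4) (Steps.bwd (nat_lit 2) (Steps.bwd (nat_lit 4) (Steps.fwd (nat_lit 4096) (Steps.fwd (nat_lit 8192) (Steps.fwd (nat_lit 4096) (Steps.fwd (nat_lit 8192) Steps.nil))))))) (nat_lit 24) (nat_lit 1),
  Rule.mk (nat_lit 4) (nat_lit 94) (Steps.bwd (nat_lit 1) (Steps.bwd (nat_lit 3) (Steps.bwd (nat_lit 2) (Steps.bwd (nat_lit 4) (Steps.bwd (nat_lit 2) (Steps.bwd (nat_lit 3) (Steps.fwd (nat_lit 2048) Steps.nil))))))) (nat_lit 12) (nat_lit 0),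
  Rule.mk (nat_lit 2) (nat_lit 46) (Steps.bwd (nat_lit 3) (Steps.fwd (nat_lit 4096) (Steps.bwd (nat_lit 3) Steps.nil))) (nat_lit 8) (nat_lit 1),
  Rule.mk (nat_lit 4) (nat_lit 94) (Steps.bwd (nat_lit 1) (Steps.fwd (nat_lit 6144) (Steps.fwd (nat_lit 4096) (Steps.bwd (nat_lit 4) (Steps.bwd (nat_lit 2) (Steps.bwd (nat_lit 3) (Steps.fwd (nat_lit 2048) Steps.nil))))))) (nat_lit 12) (nat_lit 0),
  Rule.mk (nat_lit 4) (nat_lit 94) (Steps.bwd (nat_lit 1) (Steps.bwd (nat_lit 4) (Steps.fwd (nat_lit 2048) (Steps.fwd (nat_lit 8192) (Steps.bwd (nat_lit 1) (Steps.fwd (nat_lit 8192) (Steps.fwd (nat_lit 2048) Steps.nil))))))) (nat_lit 20) (nat_lit 0),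
  Rule.mk (nat_lit 4) (nat_lit 94) (Steps.bwd (nat_lit 2) (Steps.bwd (nat_lit 3) (Steps.fwd (nat_lit 2048) (Steps.fwd (nat_lit 8192) (Steps.bwd (nat_lit 1) (Steps.fwd (nat_lit 6144) (Steps.bwd (nat_lit 2) Steps.nil))))))) (nat_lit 12) (nat_lit 4),
  Rule.mk (nat_lit 4) (nat_lit 94) (Steps.bwd (nat_lit 1) (Steps.bwd (nat_lit 2) (Steps.bwd (nat_lit 3) (Steps.bwd (nat_lit 4) (Steps.bwd (nat_lit 2) (Steps.bwd (nat_lit 3) (Steps.fwd (nat_lit 2048) Steps.nil))))))) (nat_lit 14) (nat_lit 0),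
  Rule.mk (nat_lit 2) (nat_lit 46) (Steps.bwd (nat_lit 3) (Steps.bwd (nat_lit 2) (Steps.bwd (nat_lit 3) Steps.nil))) (nat_lit 8) (nat_lit 1),
  Rule.mk (nat_lit 4) (nat_lit 94) (Steps.bwd (nat_lit 1) (Steps.bwd (nat_lit 3) (Steps.bwd (nat_lit 2) (Steps.bwd (nat_lit 4) (Steps.fwd (nat_lit 4096) (Steps.bwd (nat_lit 3) (Steps.fwd (nat_lit 2048) Steps.nil))))))) (nat_lit 12) (nat_lit 0),
  Rule.mk (nat_lit 4) (nat_lit 94) (Steps.bwd (nat_lit 1) (Steps.bwd (nat_lit 4) (Steps.bwd (nat_lit 1) (Steps.bwd (nat_lit 4) (Steps.bwd (nat_lit 1) (Steps.fwd (nat_lit 8192) (Steps.fwd (nat_lit 2048) Steps.nil))))))) (nat_lit 20) (nat_lit 0),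
  Rule.mk (nat_lit 4) (nat_lit 94) (Steps.bwd (nat_lit 2) (Steps.bwd (nat_lit 3) (Steps.fwd (nat_lit 2048) (Steps.fwd (nat_lit 8192) (Steps.bwd (nat_lit 1) (Steps.fwd (nat_lit 6144) (Steps.fwd (nat_lit 4096) Steps.nil))))))) (nat_lit 12) (nat_lit 4),
  Rule.mk (nat_lit 4) (nat_lit 142) (Steps.bwd (nat_lit 3) (Steps.bwd (nat_lit 1) (Steps.bwd (nat_lit 3) (Steps.bwd (nat_lit 4) (Steps.bwd (nat_lit 1) (Steps.bwd (nat_lit 4) (Steps.fwd (nat_lit 4096) (Steps.fwd (nat_lit 2048) (Steps.fwd (nat_lit 4096) (Steps.fwd (nat_lit 8192) (Steps.fwd (nat_lit 2048) Steps.nil))))))))))) (nat_lit 48) (nat_lit 5),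
  Rule.mk (nat_lit 1) (nat_lit 118) (Steps.bwd (nat_lit 2) (Steps.bwd (nat_lit 3) (Steps.bwd (nat_lit 1) (Steps.bwd (nat_lit 3) (Steps.bwd (nat_lit 1) (Steps.fwd (nat_lit 6144) (Steps.fwd (nat_lit 4096) (Steps.bwd (nat_lit 1) (Steps.bwd (nat_lit 3) Steps.nil))))))))) (nat_lit 34) (nat_lit 1),
  Rule.mk (nat_lit 1) (nat_lit 142) (Steps.bwd (nat_lit 4) (Steps.fwd (nat_lit 4096) (Steps.bwd (nat_lit 1) (Steps.fwd (nat_lit 4096) (Steps.bwd (nat_lit 4) (Steps.fwd (nat_lit 2048) (Steps.fwd (nat_lit 8192) (Steps.bwd (nat_lit 3) (Steps.fwd (nat_lit 2048) (Steps.fwd (nat_lit 6144) (Steps.fwd (nat_lit 8192) Steps.nil))))))))))) (nat_lit 48) (nat_lit 10),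
  Rule.mk (nat_lit 2) (nat_lit 94) (Steps.bwd (nat_lit 3) (Steps.fwd (nat_lit 2048) (Steps.bwd (nat_lit 4) (Steps.bwd (nat_lit 1) (Steps.bwd (nat_lit 3) (Steps.fwd (nat_lit 4096) (Steps.fwd (nat_lit 8192) Steps.nil))))))) (nat_lit 12) (nat_lit 5),
  Rule.mk (nat_lit 2) (nat_lit 94) (Steps.bwd (nat_lit 3) (Steps.bwd (nat_lit 1) (Steps.bwd (nat_lit 4) (Steps.bwd (nat_lit 1) (Steps.bwd (nat_lit 3) (Steps.bwd (nat_lit 2) (Steps.fwd (nat_lit 8192) Steps.nil))))))) (nat_lit 12) (nat_lit 5),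
  Rule.mk (nat_lit 3) (nat_lit 94) (Steps.bwd (nat_lit 1) (Steps.fwd (nat_lit 4096) (Steps.bwd (nat_lit 1) (Steps.bwd (nat_lit 3) (Steps.bwd (nat_lit 1) (Steps.fwd (nat_lit 4096) (Steps.fwd (nat_lit 2048) Steps.nil))))))) (nat_lit 16) (nat_lit 0),
  Rule.mk (nat_lit 1) (nat_lit 94) (Steps.bwd (nat_lit 4) (Steps.bwd (nat_lit 1) (Steps.bwd (nat_lit 3) (Steps.bwd (nat_lit 2) (Steps.fwd (nat_lit 8192) (Steps.fwd (nat_lit 4096) (Steps.fwd (nat_lit 6144) Steps.nil))))))) (nat_lit 12) (nat_lit 7),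
  Rule.mk (nat_lit 1) (nat_lit 94) (Steps.bwd (nat_lit 2) (Steps.bwd (nat_lit 1) (Steps.fwd (nat_lit 4096) (Steps.bwd (nat_lit 1) (Steps.fwd (nat_lit 4096) (Steps.bwd (nat_lit 1) (Steps.bwd (nat_lit 2) Steps.nil))))))) (nat_lit 10) (nat_lit 1),
  Rule.mk (nat_lit 1) (nat_lit 142) (Steps.bwd (nat_lit 4) (Steps.fwd (nat_lit 4096) (Steps.bwd (nat_lit 1) (Steps.bwd (nat_lit 2) (Steps.bwd (nat_lit 4) (Steps.bwd (nat_lit 1) (Steps.bwd (nat_lit 4) (Steps.fwd (nat_lit 6144) (Steps.fwd (nat_lit 2048) (Steps.fwd (nat_lit 6144) (Steps.fwd (nat_lit 8192) Steps.nil))))))))))) (nat_lit 48) (nat_lit 10),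
  Rule.mk (nat_lit 2) (nat_lit 94) (Steps.bwd (nat_lit 3) (Steps.fwd (nat_lit 2048) (Steps.bwd (nat_lit 4) (Steps.fwd (nat_lit 2048) (Steps.bwd (nat_lit 3) (Steps.fwd (nat_lit 4096) (Steps.fwd (nat_lit 8192) Steps.nil))))))) (nat_lit 12) (nat_lit 5),
  Rule.mk (nat_lit 2) (nat_lit 94) (Steps.bwd (nat_lit 1) (Steps.fwd (nat_lit 4096) (Steps.bwd (nat_lit 1) (Steps.bwd (nat_lit 2) (Steps.fwd (nat_lit 2048) (Steps.fwd (nat_lit 4096) (Steps.fwd (nat_lit 2048) Steps.nil))))))) (nat_lit 10) (nat_lit 0),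
  Rule.mk (nat_lit 1) (nat_lit 94) (Steps.bwd (nat_lit 3) (Steps.bwd (nat_lit 1) (Steps.fwd (nat_lit 4096) (Steps.bwd (nat_lit 1) (Steps.fwd (nat_lit 6144) (Steps.bwd (nat_lit 1) (Steps.fwd (nat_lit 4096) Steps.nil))))))) (nat_lit 16) (nat_lit 3),
  Rule.mk (nat_lit 1) (nat_lit 142) (Steps.bwd (nat_lit 4) (Steps.bwd (nat_lit 2) (Steps.fwd (nat_lit 2048) (Steps.bwd (nat_lit 2) (Steps.bwd (nat_lit 4) (Steps.bwd (nat_lit 1) (Steps.bwd (nat_lit 4) (Steps.bwd (nat_lit 3) (Steps.fwd (nat_lit 2048) (Steps.fwd (nat_lit 6144) (Steps.fwd (nat_lit 8192) Steps.nil))))))))))) (nat_lit 48) (nat_lit 10),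
  Rule.mk (nat_lit 2) (nat_lit 94) (Steps.bwd (nat_lit 3) (Steps.fwd (nat_lit 2048) (Steps.bwd (nat_lit 4) (Steps.bwd (nat_lit 1) (Steps.bwd (nat_lit 3) (Steps.bwd (nat_lit 2) (Steps.fwd (nat_lit 8192) Steps.nil))))))) (nat_lit 12) (nat_lit 5),
  Rule.mk (nat_lit 2) (nat_lit 94) (Steps.bwd (nat_lit 1) (Steps.bwd (nat_lit 2) (Steps.fwd (nat_lit 2048) (Steps.bwd (nat_lit 2) (Steps.fwd (nat_lit 2048) (Steps.bwd (nat_lit 2) (Steps.fwd (nat_lit 2048) Steps.nil))))))) (nat_lit 10) (nat_lit 0),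
  Rule.mk (nat_lit 1) (nat_lit 94) (Steps.bwd (nat_lit 4) (Steps.bwd (nat_lit 1) (Steps.fwd (nat_lit 6144) (Steps.bwd (nat_lit 2) (Steps.fwd (nat_lit 8192) (Steps.fwd (nat_lit 4096) (Steps.fwd (nat_lit 6144) Steps.nil))))))) (nat_lit 12) (nat_lit 7),
  Rule.mk (nat_lit 1) (nat_lit 94) (Steps.bwd (nat_lit 3) (Steps.bwd (nat_lit 1) (Steps.bwd (nat_lit 2) (Steps.fwd (nat_lit 2048) (Steps.bwd (nat_lit 3) (Steps.fwd (nat_lit 2048) (Steps.fwd (nat_lit 4096) Steps.nil))))))) (nat_lit 16) (nat_lit 3),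
  Rule.mk (nat_lit 1) (nat_lit 94) (Steps.bwd (nat_lit 2) (Steps.fwd (nat_lit 2048) (Steps.bwd (nat_lit 2) (Steps.bwd (nat_lit 1) (Steps.fwd (nat_lit 4096) (Steps.bwd (nat_lit 1) (Steps.bwd (nat_lit 2) Steps.nil))))))) (nat_lit 10) (nat_lit 1),
  Rule.mk (nat_lit 1) (nat_lit 94) (Steps.bwd (nat_lit 4) (Steps.fwd (nat_lit 2048) (Steps.bwd (nat_lit 3) (Steps.bwd (nat_lit 2) (Steps.fwd (nat_lit 8192) (Steps.fwd (nat_lit 4096) (Steps.fwd (nat_lit 6144) Steps.nil))))))) (nat_lit 12) (nat_lit 7),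
  Rule.mk (nat_lit 2) (nat_lit 94) (Steps.bwd (nat_lit 3) (Steps.fwd (nat_lit 2048) (Steps.bwd (nat_lit 4) (Steps.fwd (nat_lit 2048) (Steps.fwd (nat_lit 6144) (Steps.fwd (nat_lit 4096) (Steps.fwd (nat_lit 8192) Steps.nil))))))) (nat_lit 12) (nat_lit 5),
  Rule.mk (nat_lit 2) (nat_lit 94) (Steps.bwd (nat_lit 4) (Steps.bwd (nat_lit 2) (Steps.fwd (nat_lit 8192) (Steps.bwd (nat_lit 2) (Steps.bwd (nat_lit 4) (Steps.fwd (nat_lit 4096) (Steps.fwd (nat_lit 8192) Steps.nil))))))) (nat_lit 24) (nat_lit 1),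
  Rule.mk (nat_lit 3) (nat_lit 94) (Steps.bwd (nat_lit 4) (Steps.fwd (nat_lit 6144) (Steps.fwd (nat_lit 8192) (Steps.fwd (nat_lit 6144) (Steps.bwd (nat_lit 4) (Steps.fwd (nat_lit 6144) (Steps.fwd (nat_lit 8192) Steps.nil))))))) (nat_lit 26) (nat_lit 1),
  Rule.mk (nat_lit 1) (nat_lit 142) (Steps.bwd (nat_lit 2) (Steps.bwd (nat_lit 1) (Steps.bwd (nat_lit 4) (Steps.bwd (nat_lit 3) (Steps.bwd (nat_lit 1) (Steps.bwd (nat_lit 4) (Steps.fwd (nat_lit 4096) (Steps.fwd (nat_lit 8192) (Steps.bwd (nat_lit 1) (Steps.fwd (nat_lit 6144) (Steps.fwd (nat_lit 8192) Steps.nil))))))))))) (nat_lit 54) (nat_lit 1),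
  Rule.mk (nat_lit 4) (nat_lit 142) (Steps.bwd (nat_lit 3) (Steps.bwd (nat_lit 1) (Steps.fwd (nat_lit 6144) (Steps.bwd (nat_lit 4) (Steps.fwd (nat_lit 2048) (Steps.fwd (nat_lit 8192) (Steps.fwd (nat_lit 4096) (Steps.fwd (nat_lit 2048) (Steps.fwd (nat_lit 4096) (Steps.bwd (nat_lit 4) (Steps.fwd (nat_lit 2048) Steps.nil))))))))))) (nat_lit 48) (nat_lit 5),
  Rule.mk (nat_lit 2) (nat_lit 94) (Steps.bwd (nat_lit 1) (Steps.bwd (nat_lit 4) (Steps.bwd (nat_lit 1) (Steps.bwd (nat_lit 3) (Steps.bwd (nat_lit 2) (Steps.fwd (nat_lit 8192) (Steps.fwd (nat_lit 6144) Steps.nil))))))) (nat_lit 15) (nat_lit 7),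
  Rule.mk (nat_lit 4) (nat_lit 142) (Steps.bwd (nat_lit 1) (Steps.fwd (nat_lit 4096) (Steps.fwd (nat_lit 6144) (Steps.fwd (nat_lit 8192) (Steps.bwd (nat_lit 1) (Steps.bwd (nat_lit 3) (Steps.bwd (nat_lit 1) (Steps.fwd (nat_lit 4096) (Steps.fwd (nat_lit 6144) (Steps.fwd (nat_lit 2048) (Steps.fwd (nat_lit 6144) Steps.nil))))))))))) (nat_lit 60) (nat_lit 6),
  Rule.mk (nat_lit 4) (nat_lit 94) (Steps.bwd (nat_lit 3) (Steps.fwd (nat_lit 8192) (Steps.bwd (nat_lit 3) (Steps.fwd (nat_lit 8192) (Steps.fwd (nat_lit 6144) (Steps.fwd (nat_lit 8192) (Steps.bwd (nat_lit 3) Steps.nil))))))) (nat_lit 26) (nat_lit 0),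
  Rule.mk (nat_lit 2) (nat_lit 94) (Steps.bwd (nat_lit 1) (Steps.bwd (nat_lit 3) (Steps.bwd (nat_lit 1) (Steps.fwd (nat_lit 4096) (Steps.bwd (nat_lit 1) (Steps.fwd (nat_lit 6144) (Steps.fwd (nat_lit 2048) Steps.nil))))))) (nat_lit 16) (nat_lit 2),
  Rule.mk (nat_lit 1) (nat_lit 94) (Steps.bwd (nat_lit 2) (Steps.bwd (nat_lit 1) (Steps.bwd (nat_lit 2) (Steps.fwd (nat_lit 2048) (Steps.fwd (nat_lit 4096) (Steps.fwd (nat_lit 2048) (Steps.fwd (nat_lit 4096) Steps.nil))))))) (nat_lit 10) (nat_lit 1),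
  Rule.mk (nat_lit 4) (nat_lit 94) (Steps.bwd (nat_lit 3) (Steps.bwd (nat_lit 2) (Steps.bwd (nat_lit 1) (Steps.bwd (nat_lit 4) (Steps.fwd (nat_lit 2048) (Steps.bwd (nat_lit 3) (Steps.bwd (nat_lit 2) Steps.nil))))))) (nat_lit 15) (nat_lit 5),
  Rule.mk (nat_lit 1) (nat_lit 142) (Steps.bwd (nat_lit 4) (Steps.bwd (nat_lit 2) (Steps.fwd (nat_lit 8192) (Steps.fwd (nat_lit 2048) (Steps.bwd (nat_lit 3) (Steps.fwd (nat_lit 8192) (Steps.bwd (nat_lit 1) (Steps.fwd (nat_lit 4096) (Steps.fwd (nat_lit 2048) (Steps.bwd (nat_lit 4) (Steps.fwd (nat_lit 6144) Steps.nil))))))))))) (nat_lit 54) (nat_lit 6),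
  Rule.mk (nat_lit 3) (nat_lit 94) (Steps.bwd (nat_lit 2) (Steps.bwd (nat_lit 4) (Steps.bwd (nat_lit 2) (Steps.bwd (nat_lit 3) (Steps.fwd (nat_lit 2048) (Steps.bwd (nat_lit 4) (Steps.fwd (nat_lit 2048) Steps.nil))))))) (nat_lit 12) (nat_lit 2),
  Rule.mk (nat_lit 3) (nat_lit 94) (Steps.bwd (nat_lit 1) (Steps.bwd (nat_lit 2) (Steps.fwd (nat_lit 2048) (Steps.bwd (nat_lit 3) (Steps.bwd (nat_lit 1) (Steps.fwd (nat_lit 4096) (Steps.fwd (nat_lit 2048) Steps.nil))))))) (nat_lit 16) (nat_lit 0),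
  Rule.mk (nat_lit 1) (nat_lit 94) (Steps.bwd (nat_lit 2) (Steps.bwd (nat_lit 1) (Steps.fwd (nat_lit 4096) (Steps.bwd (nat_lit 1) (Steps.fwd (nat_lit 4096) (Steps.fwd (nat_lit 2048) (Steps.fwd (nat_lit 4096) Steps.nil))))))) (nat_lit 10) (nat_lit 1),
  Rule.mk (nat_lit 3) (nat_lit 94) (Steps.bwd (nat_lit 1) (Steps.fwd (nat_lit 4096) (Steps.bwd (nat_lit 1) (Steps.bwd (nat_lit 3) (Steps.fwd (nat_lit 2048) (Steps.fwd (nat_lit 4096) (Steps.fwd (nat_lit 2048) Steps.nil))))))) (nat_lit 16) (nat_lit 0),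
  Rule.mk (nat_lit 1) (nat_lit 94) (Steps.bwd (nat_lit 2) (Steps.bwd (nat_lit 1) (Steps.fwd (nat_lit 4096) (Steps.bwd (nat_lit 1) (Steps.bwd (nat_lit 2) (Steps.fwd (nat_lit 2048) (Steps.fwd (nat_lit 4096) Steps.nil))))))) (nat_lit 10) (nat_lit 1),
  Rule.mk (nat_lit 2) (nat_lit 142) (Steps.bwd (nat_lit 4) (Steps.fwd (nat_lit 2048) (Steps.bwd (nat_lit 2) (Steps.fwd (nat_lit 6144) (Steps.bwd (nat_lit 4) (Steps.fwd (nat_lit 6144) (Steps.fwd (nat_lit 2048) (Steps.fwd (nat_lit 4096) (Steps.bwd (nat_lit 1) (Steps.fwd (nat_lit 4096) (Steps.fwd (nat_lit 2048) Steps.nil))))))))))) (nat_lit 46) (nat_lit 6),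
  Rule.mk (nat_lit 4) (nat_lit 94) (Steps.bwd (nat_lit 3) (Steps.fwd (nat_lit 4096) (Steps.bwd (nat_lit 1) (Steps.bwd (nat_lit 4) (Steps.fwd (nat_lit 2048) (Steps.bwd (nat_lit 3) (Steps.bwd (nat_lit 2) Steps.nil))))))) (nat_lit 15) (nat_lit 5),
  Rule.mk (nat_lit 2) (nat_lit 94) (Steps.bwd (nat_lit 1) (Steps.fwd (nat_lit 4096) (Steps.bwd (nat_lit 1) (Steps.bwd (nat_lit 2) (Steps.fwd (nat_lit 2048) (Steps.bwd (nat_lit 2) (Steps.bwd (nat_lit 1) Steps.nil))))))) (nat_lit 10) (nat_lit 0),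
  Rule.mk (nat_lit 2) (nat_lit 94) (Steps.bwd (nat_lit 1) (Steps.fwd (nat_lit 4096) (Steps.bwd (nat_lit 1) (Steps.fwd (nat_lit 4096) (Steps.bwd (nat_lit 1) (Steps.bwd (nat_lit 2) (Steps.fwd (nat_lit 2048) Steps.nil))))))) (nat_lit 10) (nat_lit 0),
  Rule.mk (nat_lit 1) (nat_lit 94) (Steps.bwd (nat_lit 4) (Steps.bwd (nat_lit 1) (Steps.bwd (nat_lit 3) (Steps.fwd (nat_lit 4096) (Steps.fwd (nat_lit 8192) (Steps.bwd (nat_lit 2) (Steps.fwd (nat_lit 6144) Steps.nil))))))) (nat_lit 12) (nat_lit 7),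
  Rule.mk (nat_lit 4) (nat_lit 94) (Steps.bwd (nat_lit 1) (Steps.fwd (nat_lit 6144) (Steps.bwd (nat_lit 2) (Steps.bwd (nat_lit 4) (Steps.bwd (nat_lit 2) (Steps.fwd (nat_lit 6144) (Steps.bwd (nat_lit 1) Steps.nil))))))) (nat_lit 12) (nat_lit 0),
  Rule.mk (nat_lit 4) (nat_lit 94) (Steps.bwd (nat_lit 3) (Steps.fwd (nat_lit 8192) (Steps.fwd (nat_lit 6144) (Steps.bwd (nat_lit 4) (Steps.bwd (nat_lit 3) (Steps.fwd (nat_lit 8192) (Steps.bwd (nat_lit 3) Steps.nil))))))) (nat_lit 26) (nat_lit 0),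
  Rule.mk (nat_lit 3) (nat_lit 94) (Steps.bwd (nat_lit 1) (Steps.bwd (nat_lit 3) (Steps.bwd (nat_lit 1) (Steps.fwd (nat_lit 6144) (Steps.bwd (nat_lit 1) (Steps.bwd (nat_lit 3) (Steps.fwd (nat_lit 2048) Steps.nil))))))) (nat_lit 18) (nat_lit 0),
  Rule.mk (nat_lit 1) (nat_lit 94) (Steps.bwd (nat_lit 2) (Steps.bwd (nat_lit 3) (Steps.fwd (nat_lit 8192) (Steps.bwd (nat_lit 2) (Steps.fwd (nat_lit 6144) (Steps.fwd (nat_lit 2048) (Steps.bwd (nat_lit 4) Steps.nil))))))) (nat_lit 14) (nat_lit 1),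
  Rule.mk (nat_lit 2) (nat_lit 94) (Steps.bwd (nat_lit 4) (Steps.bwd (nat_lit 2) (Steps.fwd (nat_lit 8192) (Steps.bwd (nat_lit 2) (Steps.bwd (nat_lit 4) (Steps.fwd (nat_lit 4096) (Steps.bwd (nat_lit 4) Steps.nil))))))) (nat_lit 24) (nat_lit 1)]
noncomputable def R_2 : List (Rule) := [Rule.mk (nat_lit 3) (nat_lit 94) (Steps.bwd (nat_lit 1) (Steps.fwd (nat_lit 4096) (Steps.bwd (nat_lit 1) (Steps.fwd (nat_lit 6144) (Steps.bwd (nat_lit 1) (Steps.bwd (nat_lit 2) (Steps.fwd (nat_lit 2048) Steps.nil))))))) (nat_lit 16) (nat_lit 0),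
  Rule.mk (nat_lit 2) (nat_lit 142) (Steps.bwd (nat_lit 4) (Steps.bwd (nat_lit 1) (Steps.bwd (nat_lit 4) (Steps.fwd (nat_lit 6144) (Steps.fwd (nat_lit 2048) (Steps.fwd (nat_lit 6144) (Steps.bwd (nat_lit 4) (Steps.bwd (nat_lit 1) (Steps.bwd (nat_lit 4) (Steps.bwd (nat_lit 2) (Steps.fwd (nat_lit 2048) Steps.nil))))))))))) (nat_lit 48) (nat_lit 2),
  Rule.mk (nat_lit 1) (nat_lit 94) (Steps.bwd (nat_lit 3) (Steps.fwd (nat_lit 4096) (Steps.bwd (nat_lit 4) (Steps.fwd (nat_lit 4096) (Steps.fwd (nat_lit 6144) (Steps.fwd (nat_lit 2048) (Steps.fwd (nat_lit 8192) Steps.nil))))))) (nat_lit 12) (nat_lit 1),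
  Rule.mk (nat_lit 3) (nat_lit 94) (Steps.bwd (nat_lit 1) (Steps.bwd (nat_lit 4) (Steps.bwd (nat_lit 1) (Steps.fwd (nat_lit 6144) (Steps.bwd (nat_lit 2) (Steps.fwd (nat_lit 8192) (Steps.bwd (nat_lit 2) Steps.nil))))))) (nat_lit 12) (nat_lit 6),
  Rule.mk (nat_lit 3) (nat_lit 94) (Steps.bwd (nat_lit 4) (Steps.fwd (nat_lit 6144) (Steps.bwd (nat_lit 4) (Steps.bwd (nat_lit 3) (Steps.bwd (nat_lit 4) (Steps.fwd (nat_lit 6144) (Steps.bwd (nat_lit 4) Steps.nil))))))) (nat_lit 26) (nat_lit 1),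
  Rule.mk (nat_lit 4) (nat_lit 94) (Steps.bwd (nat_lit 1) (Steps.bwd (nat_lit 3) (Steps.fwd (nat_lit 4096) (Steps.bwd (nat_lit 4) (Steps.fwd (nat_lit 4096) (Steps.fwd (nat_lit 6144) (Steps.fwd (nat_lit 2048) Steps.nil))))))) (nat_lit 12) (nat_lit 0),
  Rule.mk (nat_lit 3) (nat_lit 94) (Steps.bwd (nat_lit 1) (Steps.fwd (nat_lit 4096) (Steps.bwd (nat_lit 1) (Steps.bwd (nat_lit 3) (Steps.fwd (nat_lit 2048) (Steps.bwd (nat_lit 2) (Steps.bwd (nat_lit 1) Steps.nil))))))) (nat_lit 16) (nat_lit 0),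
  Rule.mk (nat_lit 2) (nat_lit 94) (Steps.bwd (nat_lit 1) (Steps.fwd (nat_lit 4096) (Steps.fwd (nat_lit 2048) (Steps.fwd (nat_lit 4096) (Steps.bwd (nat_lit 1) (Steps.bwd (nat_lit 2) (Steps.fwd (nat_lit 2048) Steps.nil))))))) (nat_lit 10) (nat_lit 0),
  Rule.mk (nat_lit 3) (nat_lit 94) (Steps.bwd (nat_lit 1) (Steps.fwd (nat_lit 4096) (Steps.fwd (nat_lit 2048) (Steps.fwd (nat_lit 6144) (Steps.fwd (nat_lit 2048) (Steps.bwd (nat_lit 2) (Steps.fwd (nat_lit 2048) Steps.nil))))))) (nat_lit 16) (nat_lit 0),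
  Rule.mk (nat_lit 1) (nat_lit 94) (Steps.bwd (nat_lit 2) (Steps.fwd (nat_lit 6144) (Steps.bwd (nat_lit 4) (Steps.fwd (nat_lit 4096) (Steps.bwd (nat_lit 3) (Steps.bwd (nat_lit 1) (Steps.fwd (nat_lit 8192) Steps.nil))))))) (nat_lit 14) (nat_lit 1),
  Rule.mk (nat_lit 2) (nat_lit 94) (Steps.bwd (nat_lit 4) (Steps.fwd (nat_lit 4096) (Steps.bwd (nat_lit 4) (Steps.fwd (nat_lit 4096) (Steps.bwd (nat_lit 4) (Steps.fwd (nat_lit 4096) (Steps.fwd (nat_lit 8192) Steps.nil))))))) (nat_lit 24) (nat_lit 1),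
  Rule.mk (nat_lit 1) (nat_lit 94) (Steps.bwd (nat_lit 3) (Steps.fwd (nat_lit 4096) (Steps.bwd (nat_lit 4) (Steps.bwd (nat_lit 2) (Steps.fwd (nat_lit 6144) (Steps.bwd (nat_lit 1) (Steps.bwd (nat_lit 4) Steps.nil))))))) (nat_lit 12) (nat_lit 1),
  Rule.mk (nat_lit 2) (nat_lit 94) (Steps.bwd (nat_lit 3) (Steps.fwd (nat_lit 8192) (Steps.fwd (nat_lit 4096) (Steps.fwd (nat_lit 6144) (Steps.bwd (nat_lit 1) (Steps.bwd (nat_lit 4) (Steps.fwd (nat_lit 2048) Steps.nil))))))) (nat_lit 14) (nat_lit 2),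
  Rule.mk (nat_lit 3) (nat_lit 94) (Steps.bwd (nat_lit 1) (Steps.bwd (nat_lit 2) (Steps.fwd (nat_lit 2048) (Steps.bwd (nat_lit 3) (Steps.fwd (nat_lit 2048) (Steps.bwd (nat_lit 2) (Steps.bwd (nat_lit 1) Steps.nil))))))) (nat_lit 16) (nat_lit 0),
  Rule.mk (nat_lit 1) (nat_lit 94) (Steps.bwd (nat_lit 4) (Steps.bwd (nat_lit 1) (Steps.fwd (nat_lit 6144) (Steps.bwd (nat_lit 2) (Steps.bwd (nat_lit 4) (Steps.fwd (nat_lit 4096) (Steps.bwd (nat_lit 3) Steps.nil))))))) (nat_lit 12) (nat_lit 7),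
  Rule.mk (nat_lit 1) (nat_lit 142) (Steps.bwd (nat_lit 4) (Steps.bwd (nat_lit 2) (Steps.fwd (nat_lit 8192) (Steps.fwd (nat_lit 2048) (Steps.fwd (nat_lit 6144) (Steps.bwd (nat_lit 4) (Steps.bwd (nat_lit 1) (Steps.bwd (nat_lit 2) (Steps.fwd (nat_lit 2048) (Steps.fwd (nat_lit 8192) (Steps.bwd (nat_lit 3) Steps.nil))))))))))) (nat_lit 54) (nat_lit 6),
  Rule.mk (nat_lit 1) (nat_lit 94) (Steps.bwd (nat_lit 2) (Steps.fwd (nat_lit 2048) (Steps.bwd (nat_lit 2) (Steps.bwd (nat_lit 1) (Steps.bwd (nat_lit 2) (Steps.fwd (nat_lit 2048) (Steps.fwd (nat_lit 4096) Steps.nil))))))) (nat_lit 10) (nat_lit 1),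
  Rule.mk (nat_lit 4) (nat_lit 94) (Steps.bwd (nat_lit 3) (Steps.bwd (nat_lit 2) (Steps.fwd (nat_lit 2048) (Steps.fwd (nat_lit 8192) (Steps.fwd (nat_lit 2048) (Steps.fwd (nat_lit 6144) (Steps.bwd (nat_lit 2) Steps.nil))))))) (nat_lit 15) (nat_lit 5),
  Rule.mk (nat_lit 3) (nat_lit 94) (Steps.bwd (nat_lit 1) (Steps.fwd (nat_lit 4096) (Steps.bwd (nat_lit 1) (Steps.fwd (nat_lit 6144) (Steps.bwd (nat_lit 1) (Steps.fwd (nat_lit 4096) (Steps.fwd (nat_lit 2048) Steps.nil))))))) (nat_lit 16) (nat_lit 0),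
  Rule.mk (nat_lit 1) (nat_lit 94) (Steps.bwd (nat_lit 2) (Steps.bwd (nat_lit 1) (Steps.fwd (nat_lit 4096) (Steps.bwd (nat_lit 1) (Steps.bwd (nat_lit 2) (Steps.fwd (nat_lit 2048) (Steps.bwd (nat_lit 2) Steps.nil))))))) (nat_lit 10) (nat_lit 1),
  Rule.mk (nat_lit 2) (nat_lit 94) (Steps.bwd (nat_lit 1) (Steps.fwd (nat_lit 4096) (Steps.bwd (nat_lit 1) (Steps.bwd (nat_lit 2) (Steps.fwd (nat_lit 2048) (Steps.bwd (nat_lit 2) (Steps.fwd (nat_lit 2048) Steps.nil))))))) (nat_lit 10) (nat_lit 0),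
  Rule.mk (nat_lit 3) (nat_lit 94) (Steps.bwd (nat_lit 1) (Steps.fwd (nat_lit 4096) (Steps.bwd (nat_lit 1) (Steps.fwd (nat_lit 6144) (Steps.fwd (nat_lit 2048) (Steps.fwd (nat_lit 4096) (Steps.fwd (nat_lit 2048) Steps.nil))))))) (nat_lit 16) (nat_lit 0),
  Rule.mk (nat_lit 1) (nat_lit 94) (Steps.bwd (nat_lit 4) (Steps.fwd (nat_lit 2048) (Steps.fwd (nat_lit 6144) (Steps.bwd (nat_lit 2) (Steps.bwd (nat_lit 4) (Steps.fwd (nat_lit 4096) (Steps.bwd (nat_lit 3) Steps.nil))))))) (nat_lit 12) (nat_lit 7),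
  Rule.mk (nat_lit 4) (nat_lit 94) (Steps.bwd (nat_lit 1) (Steps.fwd (nat_lit 6144) (Steps.fwd (nat_lit 4096) (Steps.fwd (nat_lit 8192) (Steps.bwd (nat_lit 2) (Steps.fwd (nat_lit 6144) (Steps.fwd (nat_lit 2048) Steps.nil))))))) (nat_lit 12) (nat_lit 0),
  Rule.mk (nat_lit 1) (nat_lit 94) (Steps.bwd (nat_lit 4) (Steps.fwd (nat_lit 2048) (Steps.bwd (nat_lit 3) (Steps.fwd (nat_lit 4096) (Steps.fwd (nat_lit 8192) (Steps.fwd (nat_lit 4096) (Steps.fwd (nat_lit 6144) Steps.nil))))))) (nat_lit 12) (nat_lit 7),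
  Rule.mk (nat_lit 3) (nat_lit 94) (Steps.bwd (nat_lit 2) (Steps.bwd (nat_lit 4) (Steps.fwd (nat_lit 4096) (Steps.fwd (nat_lit 6144) (Steps.bwd (nat_lit 1) (Steps.bwd (nat_lit 4) (Steps.fwd (nat_lit 2048) Steps.nil))))))) (nat_lit 12) (nat_lit 2),
  Rule.mk (nat_lit 4) (nat_lit 94) (Steps.bwd (nat_lit 2) (Steps.bwd (nat_lit 4) (Steps.bwd (nat_lit 2) (Steps.fwd (nat_lit 8192) (Steps.bwd (nat_lit 2) (Steps.fwd (nat_lit 8192) (Steps.fwd (nat_lit 4096) Steps.nil))))))) (nat_lit 24) (nat_lit 0),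
  Rule.mk (nat_lit 3) (nat_lit 94) (Steps.bwd (nat_lit 4) (Steps.bwd (nat_lit 3) (Steps.bwd (nat_lit 4) (Steps.bwd (nat_lit 3) (Steps.bwd (nat_lit 4) (Steps.fwd (nat_lit 6144) (Steps.fwd (nat_lit 8192) Steps.nil))))))) (nat_lit 26) (nat_lit 1),
  Rule.mk (nat_lit 2) (nat_lit 94) (Steps.bwd (nat_lit 4) (Steps.fwd (nat_lit 4096) (Steps.bwd (nat_lit 4) (Steps.bwd (nat_lit 2) (Steps.fwd (nat_lit 8192) (Steps.fwd (nat_lit 4096) (Steps.fwd (nat_lit 8192) Steps.nil))))))) (nat_lit 24) (nat_lit 1),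
  Rule.mk (nat_lit 1) (nat_lit 142) (Steps.bwd (nat_lit 2) (Steps.bwd (nat_lit 1) (Steps.bwd (nat_lit 4) (Steps.fwd (nat_lit 6144) (Steps.fwd (nat_lit 2048) (Steps.fwd (nat_lit 8192) (Steps.fwd (nat_lit 4096) (Steps.fwd (nat_lit 8192) (Steps.bwd (nat_lit 1) (Steps.fwd (nat_lit 6144) (Steps.fwd (nat_lit 8192) Steps.nil))))))))))) (nat_lit 54) (nat_lit 1),
  Rule.mk (nat_lit 2) (nat_lit 94) (Steps.bwd (nat_lit 1) (Steps.bwd (nat_lit 4) (Steps.bwd (nat_lit 1) (Steps.bwd (nat_lit 3) (Steps.fwd (nat_lit 4096) (Steps.bwd (nat_lit 4) (Steps.fwd (nat_lit 6144) Steps.nil))))))) (nat_lit 15) (nat_lit 7),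
  Rule.mk (nat_lit 4) (nat_lit 142) (Steps.bwd (nat_lit 1) (Steps.fwd (nat_lit 4096) (Steps.fwd (nat_lit 6144) (Steps.fwd (nat_lit 8192) (Steps.bwd (nat_lit 1) (Steps.bwd (nat_lit 3) (Steps.bwd (nat_lit 1) (Steps.fwd (nat_lit 4096) (Steps.bwd (nat_lit 3) (Steps.bwd (nat_lit 1) (Steps.bwd (nat_lit 3) Steps.nil))))))))))) (nat_lit 60) (nat_lit 6),
  Rule.mk (nat_lit 4) (nat_lit 94) (Steps.bwd (nat_lit 3) (Steps.fwd (nat_lit 8192) (Steps.fwd (nat_lit 6144) (Steps.bwd (nat_lit 4) (Steps.fwd (nat_lit 6144) (Steps.fwd (nat_lit 8192) (Steps.bwd (nat_lit 3) Steps.nil))))))) (nat_lit 26) (nat_lit 0),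
  Rule.mk (nat_lit 2) (nat_lit 94) (Steps.bwd (nat_lit 1) (Steps.bwd (nat_lit 3) (Steps.bwd (nat_lit 1) (Steps.fwd (nat_lit 4096) (Steps.bwd (nat_lit 1) (Steps.fwd (nat_lit 6144) (Steps.bwd (nat_lit 1) Steps.nil))))))) (nat_lit 16) (nat_lit 2),
  Rule.mk (nat_lit 1) (nat_lit 142) (Steps.bwd (nat_lit 4) (Steps.bwd (nat_lit 2) (Steps.fwd (nat_lit 8192) (Steps.fwd (nat_lit 2048) (Steps.bwd (nat_lit 3) (Steps.fwd (nat_lit 8192) (Steps.fwd (nat_lit 2048) (Steps.fwd (nat_lit 4096) (Steps.fwd (nat_lit 2048) (Steps.fwd (nat_lit 8192) (Steps.bwd (nat_lit 3) Steps.nil))))))))))) (nat_lit 54) (nat_lit 6),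
  Rule.mk (nat_lit 1) (nat_lit 94) (Steps.bwd (nat_lit 3) (Steps.bwd (nat_lit 1) (Steps.bwd (nat_lit 2) (Steps.fwd (nat_lit 2048) (Steps.fwd (nat_lit 6144) (Steps.fwd (nat_lit 2048) (Steps.bwd (nat_lit 2) Steps.nil))))))) (nat_lit 16) (nat_lit 3),
  Rule.mk (nat_lit 1) (nat_lit 94) (Steps.bwd (nat_lit 3) (Steps.bwd (nat_lit 1) (Steps.fwd (nat_lit 4096) (Steps.bwd (nat_lit 1) (Steps.bwd (nat_lit 3) (Steps.bwd (nat_lit 1) (Steps.fwd (nat_lit 4096) Steps.nil))))))) (nat_lit 16) (nat_lit 3),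
  Rule.mk (nat_lit 3) (nat_lit 94) (Steps.bwd (nat_lit 1) (Steps.bwd (nat_lit 3) (Steps.bwd (nat_lit 1) (Steps.fwd (nat_lit 6144) (Steps.fwd (nat_lit 2048) (Steps.fwd (nat_lit 6144) (Steps.fwd (nat_lit 2048) Steps.nil))))))) (nat_lit 18) (nat_lit 0),
  Rule.mk (nat_lit 4) (nat_lit 94) (Steps.bwd (nat_lit 2) (Steps.fwd (nat_lit 6144) (Steps.bwd (nat_lit 1) (Steps.bwd (nat_lit 4) (Steps.bwd (nat_lit 1) (Steps.bwd (nat_lit 3) (Steps.bwd (nat_lit 2) Steps.nil))))))) (nat_lit 12) (nat_lit 4),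
  Rule.mk (nat_lit 3) (nat_lit 94) (Steps.bwd (nat_lit 1) (Steps.fwd (nat_lit 4096) (Steps.bwd (nat_lit 1) (Steps.bwd (nat_lit 3) (Steps.bwd (nat_lit 1) (Steps.fwd (nat_lit 4096) (Steps.bwd (nat_lit 1) Steps.nil))))))) (nat_lit 16) (nat_lit 0),
  Rule.mk (nat_lit 4) (nat_lit 94) (Steps.bwd (nat_lit 2) (Steps.fwd (nat_lit 6144) (Steps.fwd (nat_lit 2048) (Steps.bwd (nat_lit 4) (Steps.fwd (nat_lit 2048) (Steps.fwd (nat_lit 6144) (Steps.bwd (nat_lit 2) Steps.nil))))))) (nat_lit 12) (nat_lit 4),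
  Rule.mk (nat_lit 1) (nat_lit 94) (Steps.bwd (nat_lit 2) (Steps.bwd (nat_lit 1) (Steps.bwd (nat_lit 2) (Steps.bwd (nat_lit 1) (Steps.fwd (nat_lit 4096) (Steps.bwd (nat_lit 1) (Steps.bwd (nat_lit 2) Steps.nil))))))) (nat_lit 10) (nat_lit 1),
  Rule.mk (nat_lit 1) (nat_lit 94) (Steps.bwd (nat_lit 3) (Steps.bwd (nat_lit 2) (Steps.fwd (nat_lit 8192) (Steps.bwd (nat_lit 2) (Steps.bwd (nat_lit 3) (Steps.fwd (nat_lit 2048) (Steps.fwd (nat_lit 8192) Steps.nil))))))) (nat_lit 12) (nat_lit 1),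
  Rule.mk (nat_lit 4) (nat_lit 94) (Steps.bwd (nat_lit 3) (Steps.bwd (nat_lit 2) (Steps.bwd (nat_lit 1) (Steps.fwd (nat_lit 8192) (Steps.fwd (nat_lit 2048) (Steps.bwd (nat_lit 3) (Steps.bwd (nat_lit 2) Steps.nil))))))) (nat_lit 15) (nat_lit 5),
  Rule.mk (nat_lit 3) (nat_lit 94) (Steps.bwd (nat_lit 1) (Steps.bwd (nat_lit 2) (Steps.bwd (nat_lit 1) (Steps.fwd (nat_lit 6144) (Steps.fwd (nat_lit 2048) (Steps.fwd (nat_lit 4096) (Steps.fwd (nat_lit 2048) Steps.nil))))))) (nat_lit 16) (nat_lit 0),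
  Rule.mk (nat_lit 4) (nat_lit 94) (Steps.bwd (nat_lit 2) (Steps.fwd (nat_lit 6144) (Steps.bwd (nat_lit 1) (Steps.fwd (nat_lit 8192) (Steps.fwd (nat_lit 2048) (Steps.bwd (nat_lit 3) (Steps.bwd (nat_lit 2) Steps.nil))))))) (nat_lit 12) (nat_lit 4),
  Rule.mk (nat_lit 4) (nat_lit 94) (Steps.bwd (nat_lit 1) (Steps.bwd (nat_lit 2) (Steps.fwd (nat_lit 6144) (Steps.fwd (nat_lit 8192) (Steps.fwd (nat_lit 4096) (Steps.fwd (nat_lit 6144) (Steps.bwd (nat_lit 1) Steps.nil))))))) (nat_lit 14) (nat_lit 0),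
  Rule.mk (nat_lit 1) (nat_lit 94) (Steps.bwd (nat_lit 2) (Steps.bwd (nat_lit 1) (Steps.bwd (nat_lit 2) (Steps.bwd (nat_lit 1) (Steps.bwd (nat_lit 2) (Steps.bwd (nat_lit 1) (Steps.fwd (nat_lit 4096) Steps.nil))))))) (nat_lit 10) (nat_lit 1),
  Rule.mk (nat_lit 1) (nat_lit 94) (Steps.bwd (nat_lit 3) (Steps.bwd (nat_lit 2) (Steps.fwd (nat_lit 8192) (Steps.bwd (nat_lit 2) (Steps.fwd (nat_lit 6144) (Steps.fwd (nat_lit 2048) (Steps.bwd (nat_lit 4) Steps.nil))))))) (nat_lit 12) (nat_lit 1),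
  Rule.mk (nat_lit 2) (nat_lit 94) (Steps.bwd (nat_lit 1) (Steps.bwd (nat_lit 2) (Steps.fwd (nat_lit 2048) (Steps.bwd (nat_lit 2) (Steps.bwd (nat_lit 1) (Steps.fwd (nat_lit 4096) (Steps.bwd (nat_lit 1) Steps.nil))))))) (nat_lit 10) (nat_lit 0),
  Rule.mk (nat_lit 3) (nat_lit 94) (Steps.bwd (nat_lit 1) (Steps.bwd (nat_lit 2) (Steps.fwd (nat_lit 2048) (Steps.fwd (nat_lit 6144) (Steps.fwd (nat_lit 2048) (Steps.fwd (nat_lit 4096) (Steps.fwd (nat_lit 2048) Steps.nil))))))) (nat_lit 16) (nat_lit 0),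
  Rule.mk (nat_lit 2) (nat_lit 94) (Steps.bwd (nat_lit 1) (Steps.fwd (nat_lit 4096) (Steps.fwd (nat_lit 2048) (Steps.bwd (nat_lit 2) (Steps.fwd (nat_lit 2048) (Steps.fwd (nat_lit 4096) (Steps.fwd (nat_lit 2048) Steps.nil))))))) (nat_lit 10) (nat_lit 0),
  Rule.mk (nat_lit 3) (nat_lit 94) (Steps.bwd (nat_lit 1) (Steps.fwd (nat_lit 4096) (Steps.fwd (nat_lit 2048) (Steps.bwd (nat_lit 3) (Steps.bwd (nat_lit 1) (Steps.bwd (nat_lit 2) (Steps.bwd (nat_lit 1) Steps.nil))))))) (nat_lit 16) (nat_lit 0),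
  Rule.mk (nat_lit 1) (nat_lit 94) (Steps.bwd (nat_lit 4) (Steps.fwd (nat_lit 2048) (Steps.fwd (nat_lit 6144) (Steps.fwd (nat_lit 4096) (Steps.bwd (nat_lit 4) (Steps.fwd (nat_lit 4096) (Steps.fwd (nat_lit 6144) Steps.nil))))))) (nat_lit 12) (nat_lit 7),
  Rule.mk (nat_lit 2) (nat_lit 94) (Steps.bwd (nat_lit 3) (Steps.fwd (nat_lit 2048) (Steps.bwd (nat_lit 4) (Steps.fwd (nat_lit 2048) (Steps.bwd (nat_lit 3) (Steps.bwd (nat_lit 2) (Steps.fwd (nat_lit 8192) Steps.nil))))))) (nat_lit 12) (nat_lit 5),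
  Rule.mk (nat_lit 3) (nat_lit 94) (Steps.bwd (nat_lit 4) (Steps.fwd (nat_lit 6144) (Steps.bwd (nat_lit 4) (Steps.fwd (nat_lit 6144) (Steps.bwd (nat_lit 4) (Steps.fwd (nat_lit 6144) (Steps.fwd (nat_lit 8192) Steps.nil))))))) (nat_lit 26) (nat_lit 1),
  Rule.mk (nat_lit 3) (nat_lit 94) (Steps.bwd (nat_lit 1) (Steps.fwd (nat_lit 6144) (Steps.fwd (nat_lit 2048) (Steps.fwd (nat_lit 6144) (Steps.fwd (nat_lit 2048) (Steps.fwd (nat_lit 6144) (Steps.fwd (nat_lit 2048) Steps.nil))))))) (nat_lit 18) (nat_lit 0),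
  Rule.mk (nat_lit 1) (nat_lit 142) (Steps.bwd (nat_lit 4) (Steps.fwd (nat_lit 6144) (Steps.fwd (nat_lit 2048) (Steps.bwd (nat_lit 4) (Steps.bwd (nat_lit 2) (Steps.bwd (nat_lit 4) (Steps.fwd (nat_lit 2048) (Steps.bwd (nat_lit 3) (Steps.fwd (nat_lit 8192) (Steps.fwd (nat_lit 2048) (Steps.bwd (nat_lit 2) Steps.nil))))))))))) (nat_lit 54) (nat_lit 3),
  Rule.mk (nat_lit 3) (nat_lit 94) (Steps.bwd (nat_lit 2) (Steps.bwd (nat_lit 4) (Steps.bwd (nat_lit 2) (Steps.fwd (nat_lit 6144) (Steps.bwd (nat_lit 1) (Steps.fwd (nat_lit 8192) (Steps.bwd (nat_lit 1) Steps.nil))))))) (nat_lit 12) (nat_lit 2),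
  Rule.mk (nat_lit 3) (nat_lit 94) (Steps.bwd (nat_lit 2) (Steps.bwd (nat_lit 4) (Steps.bwd (nat_lit 2) (Steps.fwd (nat_lit 6144) (Steps.fwd (nat_lit 2048) (Steps.bwd (nat_lit 4) (Steps.fwd (nat_lit 2048) Steps.nil))))))) (nat_lit 12) (nat_lit 2),
  Rule.mk (nat_lit 2) (nat_lit 94) (Steps.bwd (nat_lit 3) (Steps.fwd (nat_lit 2048) (Steps.fwd (nat_lit 8192) (Steps.fwd (nat_lit 2048) (Steps.fwd (nat_lit 6144) (Steps.fwd (nat_lit 4096) (Steps.bwd (nat_lit 4) Steps.nil))))))) (nat_lit 12) (nat_lit 5),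
  Rule.mk (nat_lit 2) (nat_lit 94) (Steps.bwd (nat_lit 1) (Steps.bwd (nat_lit 2) (Steps.fwd (nat_lit 2048) (Steps.bwd (nat_lit 2) (Steps.fwd (nat_lit 2048) (Steps.fwd (nat_lit 4096) (Steps.fwd (nat_lit 2048) Steps.nil))))))) (nat_lit 10) (nat_lit 0),
  Rule.mk (nat_lit 1) (nat_lit 94) (Steps.bwd (nat_lit 3) (Steps.bwd (nat_lit 1) (Steps.bwd (nat_lit 2) (Steps.fwd (nat_lit 2048) (Steps.bwd (nat_lit 3) (Steps.bwd (nat_lit 1) (Steps.bwd (nat_lit 2) Steps.nil))))))) (nat_lit 16) (nat_lit 3),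
  Rule.mk (nat_lit 1) (nat_lit 94) (Steps.bwd (nat_lit 2) (Steps.fwd (nat_lit 2048) (Steps.fwd (nat_lit 4096) (Steps.fwd (nat_lit 2048) (Steps.bwd (nat_lit 2) (Steps.bwd (nat_lit 1) (Steps.fwd (nat_lit 4096) Steps.nil))))))) (nat_lit 10) (nat_lit 1)]
noncomputable def R_3 : List (Rule) := [Rule.mk (nat_lit 2) (nat_lit 142) (Steps.bwd (nat_lit 4) (Steps.fwd (nat_lit 2048) (Steps.fwd (nat_lit 4096) (Steps.bwd (nat_lit 3) (Steps.bwd (nat_lit 4) (Steps.fwd (nat_lit 6144) (Steps.fwd (nat_lit 2048) (Steps.fwd (nat_lit 4096) (Steps.fwd (nat_lit 2048) (Steps.bwd (nat_lit 2) (Steps.fwd (nat_lit 2048) Steps.nil))))))))))) (nat_lit 46) (nat_lit 6),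
  Rule.mk (nat_lit 2) (nat_lit 94) (Steps.bwd (nat_lit 1) (Steps.fwd (nat_lit 4096) (Steps.bwd (nat_lit 1) (Steps.fwd (nat_lit 4096) (Steps.bwd (nat_lit 1) (Steps.bwd (nat_lit 2) (Steps.bwd (nat_lit 1) Steps.nil))))))) (nat_lit 10) (nat_lit 0),
  Rule.mk (nat_lit 2) (nat_lit 94) (Steps.bwd (nat_lit 1) (Steps.fwd (nat_lit 8192) (Steps.fwd (nat_lit 2048) (Steps.fwd (nat_lit 6144) (Steps.fwd (nat_lit 4096) (Steps.fwd (nat_lit 8192) (Steps.bwd (nat_lit 3) Steps.nil))))))) (nat_lit 15) (nat_lit 7),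
  Rule.mk (nat_lit 4) (nat_lit 94) (Steps.bwd (nat_lit 1) (Steps.fwd (nat_lit 6144) (Steps.bwd (nat_lit 2) (Steps.bwd (nat_lit 4) (Steps.fwd (nat_lit 4096) (Steps.fwd (nat_lit 6144) (Steps.bwd (nat_lit 1) Steps.nil))))))) (nat_lit 12) (nat_lit 0),
  Rule.mk (nat_lit 2) (nat_lit 142) (Steps.bwd (nat_lit 4) (Steps.bwd (nat_lit 1) (Steps.fwd (nat_lit 6144) (Steps.bwd (nat_lit 4) (Steps.bwd (nat_lit 1) (Steps.bwd (nat_lit 2) (Steps.fwd (nat_lit 2048) (Steps.fwd (nat_lit 8192) (Steps.fwd (nat_lit 6144) (Steps.fwd (nat_lit 2048) (Steps.bwd (nat_lit 4) Steps.nil))))))))))) (nat_lit 54) (nat_lit 8),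
  Rule.mk (nat_lit 3) (nat_lit 94) (Steps.bwd (nat_lit 1) (Steps.bwd (nat_lit 4) (Steps.bwd (nat_lit 1) (Steps.fwd (nat_lit 6144) (Steps.fwd (nat_lit 4096) (Steps.fwd (nat_lit 8192) (Steps.bwd (nat_lit 2) Steps.nil))))))) (nat_lit 12) (nat_lit 6),
  Rule.mk (nat_lit 1) (nat_lit 94) (Steps.bwd (nat_lit 3) (Steps.fwd (nat_lit 4096) (Steps.fwd (nat_lit 8192) (Steps.bwd (nat_lit 2) (Steps.fwd (nat_lit 6144) (Steps.fwd (nat_lit 2048) (Steps.fwd (nat_lit 8192) Steps.nil))))))) (nat_lit 12) (nat_lit 1),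
  Rule.mk (nat_lit 2) (nat_lit 94) (Steps.bwd (nat_lit 1) (Steps.bwd (nat_lit 2) (Steps.bwd (nat_lit 1) (Steps.fwd (nat_lit 4096) (Steps.bwd (nat_lit 1) (Steps.fwd (nat_lit 4096) (Steps.bwd (nat_lit 1) Steps.nil))))))) (nat_lit 10) (nat_lit 0),
  Rule.mk (nat_lit 1) (nat_lit 94) (Steps.bwd (nat_lit 3) (Steps.bwd (nat_lit 1) (Steps.bwd (nat_lit 2) (Steps.bwd (nat_lit 1) (Steps.fwd (nat_lit 6144) (Steps.fwd (nat_lit 2048) (Steps.bwd (nat_lit 2) Steps.nil))))))) (nat_lit 16) (nat_lit 3),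
  Rule.mk (nat_lit 4) (nat_lit 142) (Steps.bwd (nat_lit 1) (Steps.fwd (nat_lit 6144) (Steps.bwd (nat_lit 4) (Steps.bwd (nat_lit 1) (Steps.bwd (nat_lit 2) (Steps.fwd (nat_lit 2048) (Steps.fwd (nat_lit 8192) (Steps.fwd (nat_lit 6144) (Steps.fwd (nat_lit 2048) (Steps.fwd (nat_lit 8192) (Steps.bwd (nat_lit 2) Steps.nil))))))))))) (nat_lit 54) (nat_lit 9),
  Rule.mk (nat_lit 3) (nat_lit 94) (Steps.bwd (nat_lit 4) (Steps.bwd (nat_lit 3) (Steps.fwd (nat_lit 8192) (Steps.bwd (nat_lit 3) (Steps.bwd (nat_lit 4) (Steps.fwd (nat_lit 6144) (Steps.bwd (nat_lit 4) Steps.nil))))))) (nat_lit 26) (nat_lit 1),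
  Rule.mk (nat_lit 4) (nat_lit 94) (Steps.bwd (nat_lit 1) (Steps.bwd (nat_lit 4) (Steps.fwd (nat_lit 2048) (Steps.fwd (nat_lit 8192) (Steps.fwd (nat_lit 2048) (Steps.bwd (nat_lit 4) (Steps.bwd (nat_lit 1) Steps.nil))))))) (nat_lit 20) (nat_lit 0),
  Rule.mk (nat_lit 1) (nat_lit 94) (Steps.bwd (nat_lit 2) (Steps.fwd (nat_lit 2048) (Steps.bwd (nat_lit 2) (Steps.bwd (nat_lit 1) (Steps.fwd (nat_lit 4096) (Steps.fwd (nat_lit 2048) (Steps.fwd (nat_lit 4096) Steps.nil))))))) (nat_lit 10) (nat_lit 1),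
  Rule.mk (nat_lit 2) (nat_lit 94) (Steps.bwd (nat_lit 1) (Steps.fwd (nat_lit 4096) (Steps.bwd (nat_lit 1) (Steps.bwd (nat_lit 2) (Steps.fwd (nat_lit 2048) (Steps.fwd (nat_lit 4096) (Steps.bwd (nat_lit 1) Steps.nil))))))) (nat_lit 10) (nat_lit 0),
  Rule.mk (nat_lit 3) (nat_lit 94) (Steps.bwd (nat_lit 1) (Steps.fwd (nat_lit 8192) (Steps.bwd (nat_lit 1) (Steps.bwd (nat_lit 3) (Steps.fwd (nat_lit 4096) (Steps.fwd (nat_lit 8192) (Steps.fwd (nat_lit 4096) Steps.nil))))))) (nat_lit 12) (nat_lit 6),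
  Rule.mk (nat_lit 3) (nat_lit 94) (Steps.bwd (nat_lit 2) (Steps.bwd (nat_lit 4) (Steps.fwd (nat_lit 4096) (Steps.bwd (nat_lit 3) (Steps.bwd (nat_lit 1) (Steps.fwd (nat_lit 8192) (Steps.bwd (nat_lit 1) Steps.nil))))))) (nat_lit 12) (nat_lit 2),
  Rule.mk (nat_lit 2) (nat_lit 94) (Steps.bwd (nat_lit 4) (Steps.fwd (nat_lit 4096) (Steps.bwd (nat_lit 3) (Steps.bwd (nat_lit 1) (Steps.bwd (nat_lit 4) (Steps.bwd (nat_lit 1) (Steps.fwd (nat_lit 6144) Steps.nil))))))) (nat_lit 12) (nat_lit 3),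
  Rule.mk (nat_lit 4) (nat_lit 94) (Steps.bwd (nat_lit 1) (Steps.fwd (nat_lit 4096) (Steps.bwd (nat_lit 3) (Steps.bwd (nat_lit 4) (Steps.fwd (nat_lit 4096) (Steps.fwd (nat_lit 6144) (Steps.fwd (nat_lit 2048) Steps.nil))))))) (nat_lit 14) (nat_lit 0),
  Rule.mk (nat_lit 1) (nat_lit 94) (Steps.bwd (nat_lit 3) (Steps.bwd (nat_lit 1) (Steps.fwd (nat_lit 4096) (Steps.bwd (nat_lit 1) (Steps.bwd (nat_lit 3) (Steps.bwd (nat_lit 1) (Steps.bwd (nat_lit 2) Steps.nil))))))) (nat_lit 16) (nat_lit 3),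
  Rule.mk (nat_lit 4) (nat_lit 142) (Steps.bwd (nat_lit 1) (Steps.fwd (nat_lit 6144) (Steps.bwd (nat_lit 4) (Steps.bwd (nat_lit 1) (Steps.bwd (nat_lit 2) (Steps.fwd (nat_lit 2048) (Steps.fwd (nat_lit 8192) (Steps.fwd (nat_lit 6144) (Steps.bwd (nat_lit 1) (Steps.fwd (nat_lit 8192) (Steps.fwd (nat_lit 4096) Steps.nil))))))))))) (nat_lit 54) (nat_lit 9),
  Rule.mk (nat_lit 1) (nat_lit 94) (Steps.bwd (nat_lit 4) (Steps.fwd (nat_lit 2048) (Steps.bwd (nat_lit 3) (Steps.fwd (nat_lit 4096) (Steps.bwd (nat_lit 4) (Steps.bwd (nat_lit 2) (Steps.fwd (nat_lit 6144) Steps.nil))))))) (nat_lit 12) (nat_lit 7),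
  Rule.mk (nat_lit 4) (nat_lit 94) (Steps.bwd (nat_lit 1) (Steps.bwd (nat_lit 3) (Steps.fwd (nat_lit 4096) (Steps.fwd (nat_lit 8192) (Steps.bwd (nat_lit 2) (Steps.bwd (nat_lit 3) (Steps.fwd (nat_lit 2048) Steps.nil))))))) (nat_lit 12) (nat_lit 0),
  Rule.mk (nat_lit 3) (nat_lit 94) (Steps.bwd (nat_lit 4) (Steps.bwd (nat_lit 3) (Steps.bwd (nat_lit 4) (Steps.bwd (nat_lit 3) (Steps.fwd (nat_lit 8192) (Steps.fwd (nat_lit 6144) (Steps.fwd (nat_lit 8192) Steps.nil))))))) (nat_lit 26) (nat_lit 1),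
  Rule.mk (nat_lit 4) (nat_lit 94) (Steps.bwd (nat_lit 1) (Steps.bwd (nat_lit 4) (Steps.fwd (nat_lit 2048) (Steps.bwd (nat_lit 4) (Steps.bwd (nat_lit 1) (Steps.fwd (nat_lit 8192) (Steps.fwd (nat_lit 2048) Steps.nil))))))) (nat_lit 20) (nat_lit 0),
  Rule.mk (nat_lit 4) (nat_lit 94) (Steps.bwd (nat_lit 2) (Steps.bwd (nat_lit 3) (Steps.fwd (nat_lit 2048) (Steps.fwd (nat_lit 8192) (Steps.bwd (nat_lit 1) (Steps.bwd (nat_lit 3) (Steps.fwd (nat_lit 4096) Steps.nil))))))) (nat_lit 12) (nat_lit 4),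
  Rule.mk (nat_lit 4) (nat_lit 94) (Steps.bwd (nat_lit 1) (Steps.bwd (nat_lit 2) (Steps.bwd (nat_lit 3) (Steps.bwd (nat_lit 4) (Steps.fwd (nat_lit 4096) (Steps.fwd (nat_lit 6144) (Steps.fwd (nat_lit 2048) Steps.nil))))))) (nat_lit 14) (nat_lit 0),
  Rule.mk (nat_lit 4) (nat_lit 94) (Steps.bwd (nat_lit 1) (Steps.bwd (nat_lit 3) (Steps.bwd (nat_lit 2) (Steps.bwd (nat_lit 4) (Steps.fwd (nat_lit 4096) (Steps.bwd (nat_lit 3) (Steps.bwd (nat_lit 1) Steps.nil))))))) (nat_lit 12) (nat_lit 0),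
  Rule.mk (nat_lit 4) (nat_lit 94) (Steps.bwd (nat_lit 2) (Steps.fwd (nat_lit 8192) (Steps.bwd (nat_lit 2) (Steps.fwd (nat_lit 8192) (Steps.bwd (nat_lit 2) (Steps.bwd (nat_lit 4) (Steps.fwd (nat_lit 4096) Steps.nil))))))) (nat_lit 24) (nat_lit 0),
  Rule.mk (nat_lit 4) (nat_lit 94) (Steps.bwd (nat_lit 1) (Steps.fwd (nat_lit 8192) (Steps.fwd (nat_lit 2048) (Steps.fwd (nat_lit 8192) (Steps.fwd (nat_lit 2048) (Steps.fwd (nat_lit 8192) (Steps.bwd (nat_lit 1) Steps.nil))))))) (nat_lit 20) (nat_lit 0),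
  Rule.mk (nat_lit 4) (nat_lit 94) (Steps.bwd (nat_lit 3) (Steps.fwd (nat_lit 4096) (Steps.fwd (nat_lit 2048) (Steps.fwd (nat_lit 8192) (Steps.fwd (nat_lit 2048) (Steps.bwd (nat_lit 3) (Steps.bwd (nat_lit 2) Steps.nil))))))) (nat_lit 15) (nat_lit 5),
  Rule.mk (nat_lit 4) (nat_lit 94) (Steps.bwd (nat_lit 1) (Steps.fwd (nat_lit 6144) (Steps.bwd (nat_lit 2) (Steps.fwd (nat_lit 8192) (Steps.bwd (nat_lit 2) (Steps.bwd (nat_lit 3) (Steps.fwd (nat_lit 2048) Steps.nil))))))) (nat_lit 12) (nat_lit 0),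
  Rule.mk (nat_lit 4) (nat_lit 94) (Steps.bwd (nat_lit 1) (Steps.bwd (nat_lit 3) (Steps.fwd (nat_lit 4096) (Steps.fwd (nat_lit 8192) (Steps.bwd (nat_lit 2) (Steps.fwd (nat_lit 6144) (Steps.fwd (nat_lit 2048) Steps.nil))))))) (nat_lit 12) (nat_lit 0),
  Rule.mk (nat_lit 4) (nat_lit 94) (Steps.bwd (nat_lit 1) (Steps.bwd (nat_lit 2) (Steps.bwd (nat_lit 3) (Steps.bwd (nat_lit 4) (Steps.fwd (nat_lit 4096) (Steps.bwd (nat_lit 3) (Steps.fwd (nat_lit 2048) Steps.nil))))))) (nat_lit 14) (nat_lit 0),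
  Rule.mk (nat_lit 4) (nat_lit 94) (Steps.bwd (nat_lit 2) (Steps.fwd (nat_lit 8192) (Steps.fwd (nat_lit 4096) (Steps.fwd (nat_lit 8192) (Steps.fwd (nat_lit 4096) (Steps.fwd (nat_lit 8192) (Steps.fwd (nat_lit 4096) Steps.nil))))))) (nat_lit 24) (nat_lit 0),
  Rule.mk (nat_lit 4) (nat_lit 94) (Steps.bwd (nat_lit 1) (Steps.fwd (nat_lit 8192) (Steps.fwd (nat_lit 2048) (Steps.fwd (nat_lit 8192) (Steps.bwd (nat_lit 1) (Steps.fwd (nat_lit 8192) (Steps.fwd (nat_lit 2048) Steps.nil))))))) (nat_lit 20) (nat_lit 0),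
  Rule.mk (nat_lit 4) (nat_lit 94) (Steps.bwd (nat_lit 3) (Steps.fwd (nat_lit 4096) (Steps.fwd (nat_lit 2048) (Steps.fwd (nat_lit 8192) (Steps.bwd (nat_lit 1) (Steps.bwd (nat_lit 3) (Steps.bwd (nat_lit 2) Steps.nil))))))) (nat_lit 15) (nat_lit 5),
  Rule.mk (nat_lit 4) (nat_lit 94) (Steps.bwd (nat_lit 1) (Steps.fwd (nat_lit 6144) (Steps.bwd (nat_lit 2) (Steps.fwd (nat_lit 8192) (Steps.fwd (nat_lit 4096) (Steps.fwd (nat_lit 6144) (Steps.bwd (nat_lit 1) Steps.nil))))))) (nat_lit 12) (nat_lit 0),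
  Rule.mk (nat_lit 1) (nat_lit 94) (Steps.bwd (nat_lit 2) (Steps.fwd (nat_lit 2048) (Steps.bwd (nat_lit 2) (Steps.bwd (nat_lit 1) (Steps.bwd (nat_lit 2) (Steps.bwd (nat_lit 1) (Steps.fwd (nat_lit 4096) Steps.nil))))))) (nat_lit 10) (nat_lit 1),
  Rule.mk (nat_lit 3) (nat_lit 142) (Steps.bwd (nat_lit 4) (Steps.fwd (nat_lit 2048) (Steps.bwd (nat_lit 2) (Steps.bwd (nat_lit 1) (Steps.bwd (nat_lit 4) (Steps.fwd (nat_lit 6144) (Steps.bwd (nat_lit 1) (Steps.fwd (nat_lit 8192) (Steps.fwd (nat_lit 4096) (Steps.fwd (nat_lit 8192) (Steps.fwd (nat_lit 2048) Steps.nil))))))))))) (nat_lit 54) (nat_lit 11),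
  Rule.mk (nat_lit 4) (nat_lit 94) (Steps.bwd (nat_lit 2) (Steps.fwd (nat_lit 6144) (Steps.bwd (nat_lit 1) (Steps.bwd (nat_lit 4) (Steps.fwd (nat_lit 2048) (Steps.bwd (nat_lit 3) (Steps.bwd (nat_lit 2) Steps.nil))))))) (nat_lit 12) (nat_lit 4),
  Rule.mk (nat_lit 3) (nat_lit 94) (Steps.bwd (nat_lit 1) (Steps.fwd (nat_lit 8192) (Steps.fwd (nat_lit 2048) (Steps.bwd (nat_lit 3) (Steps.fwd (nat_lit 4096) (Steps.fwd (nat_lit 8192) (Steps.fwd (nat_lit 4096) Steps.nil))))))) (nat_lit 12) (nat_lit 6),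
  Rule.mk (nat_lit 3) (nat_lit 94) (Steps.bwd (nat_lit 4) (Steps.fwd (nat_lit 6144) (Steps.fwd (nat_lit 8192) (Steps.bwd (nat_lit 3) (Steps.bwd (nat_lit 4) (Steps.bwd (nat_lit 3) (Steps.bwd (nat_lit 4) Steps.nil))))))) (nat_lit 26) (nat_lit 1),
  Rule.mk (nat_lit 4) (nat_lit 94) (Steps.bwd (nat_lit 1) (Steps.bwd (nat_lit 3) (Steps.bwd (nat_lit 2) (Steps.bwd (nat_lit 4) (Steps.fwd (nat_lit 4096) (Steps.fwd (nat_lit 6144) (Steps.bwd (nat_lit 1) Steps.nil))))))) (nat_lit 12) (nat_lit 0),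
  Rule.mk (nat_lit 4) (nat_lit 94) (Steps.bwd (nat_lit 2) (Steps.fwd (nat_lit 8192) (Steps.fwd (nat_lit 4096) (Steps.bwd (nat_lit 4) (Steps.bwd (nat_lit 2) (Steps.fwd (nat_lit 8192) (Steps.bwd (nat_lit 2) Steps.nil))))))) (nat_lit 24) (nat_lit 0),
  Rule.mk (nat_lit 3) (nat_lit 94) (Steps.bwd (nat_lit 1) (Steps.fwd (nat_lit 8192) (Steps.fwd (nat_lit 2048) (Steps.bwd (nat_lit 3) (Steps.fwd (nat_lit 4096) (Steps.bwd (nat_lit 4) (Steps.bwd (nat_lit 2) Steps.nil))))))) (nat_lit 12) (nat_lit 6),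
  Rule.mk (nat_lit 2) (nat_lit 94) (Steps.bwd (nat_lit 1) (Steps.fwd (nat_lit 8192) (Steps.fwd (nat_lit 2048) (Steps.bwd (nat_lit 3) (Steps.fwd (nat_lit 4096) (Steps.bwd (nat_lit 4) (Steps.bwd (nat_lit 3) Steps.nil))))))) (nat_lit 15) (nat_lit 7),
  Rule.mk (nat_lit 3) (nat_lit 94) (Steps.bwd (nat_lit 4) (Steps.fwd (nat_lit 6144) (Steps.bwd (nat_lit 4) (Steps.fwd (nat_lit 6144) (Steps.bwd (nat_lit 4) (Steps.fwd (nat_lit 6144) (Steps.bwd (nat_lit 4) Steps.nil))))))) (nat_lit 26) (nat_lit 1),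
  Rule.mk (nat_lit 1) (nat_lit 142) (Steps.bwd (nat_lit 4) (Steps.bwd (nat_lit 2) (Steps.fwd (nat_lit 8192) (Steps.fwd (nat_lit 2048) (Steps.bwd (nat_lit 3) (Steps.bwd (nat_lit 4) (Steps.bwd (nat_lit 1) (Steps.fwd (nat_lit 4096) (Steps.bwd (nat_lit 1) (Steps.fwd (nat_lit 8192) (Steps.bwd (nat_lit 3) Steps.nil))))))))))) (nat_lit 54) (nat_lit 6),
  Rule.mk (nat_lit 1) (nat_lit 94) (Steps.bwd (nat_lit 3) (Steps.fwd (nat_lit 2048) (Steps.bwd (nat_lit 2) (Steps.fwd (nat_lit 2048) (Steps.bwd (nat_lit 3) (Steps.bwd (nat_lit 1) (Steps.fwd (nat_lit 4096) Steps.nil))))))) (nat_lit 16) (nat_lit 3),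
  Rule.mk (nat_lit 1) (nat_lit 94) (Steps.bwd (nat_lit 2) (Steps.fwd (nat_lit 2048) (Steps.bwd (nat_lit 2) (Steps.fwd (nat_lit 2048) (Steps.bwd (nat_lit 2) (Steps.bwd (nat_lit 1) (Steps.fwd (nat_lit 4096) Steps.nil))))))) (nat_lit 10) (nat_lit 1),
  Rule.mk (nat_lit 1) (nat_lit 94) (Steps.bwd (nat_lit 3) (Steps.bwd (nat_lit 2) (Steps.bwd (nat_lit 4) (Steps.bwd (nat_lit 2) (Steps.bwd (nat_lit 3) (Steps.bwd (nat_lit 1) (Steps.fwd (nat_lit 8192) Steps.nil))))))) (nat_lit 12) (nat_lit 1),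
  Rule.mk (nat_lit 3) (nat_lit 142) (Steps.bwd (nat_lit 4) (Steps.fwd (nat_lit 2048) (Steps.bwd (nat_lit 4) (Steps.bwd (nat_lit 2) (Steps.bwd (nat_lit 1) (Steps.fwd (nat_lit 4096) (Steps.bwd (nat_lit 4) (Steps.bwd (nat_lit 1) (Steps.fwd (nat_lit 8192) (Steps.fwd (nat_lit 6144) (Steps.fwd (nat_lit 2048) Steps.nil))))))))))) (nat_lit 48) (nat_lit 8),
  Rule.mk (nat_lit 1) (nat_lit 94) (Steps.bwd (nat_lit 2) (Steps.fwd (nat_lit 6144) (Steps.fwd (nat_lit 8192) (Steps.bwd (nat_lit 2) (Steps.bwd (nat_lit 3) (Steps.fwd (nat_lit 2048) (Steps.fwd (nat_lit 8192) Steps.nil))))))) (nat_lit 14) (nat_lit 1),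
  Rule.mk (nat_lit 2) (nat_lit 94) (Steps.bwd (nat_lit 1) (Steps.bwd (nat_lit 3) (Steps.bwd (nat_lit 1) (Steps.fwd (nat_lit 4096) (Steps.bwd (nat_lit 1) (Steps.bwd (nat_lit 3) (Steps.fwd (nat_lit 2048) Steps.nil))))))) (nat_lit 16) (nat_lit 2),
  Rule.mk (nat_lit 1) (nat_lit 94) (Steps.bwd (nat_lit 4) (Steps.fwd (nat_lit 2048) (Steps.bwd (nat_lit 4) (Steps.bwd (nat_lit 1) (Steps.bwd (nat_lit 4) (Steps.fwd (nat_lit 2048) (Steps.fwd (nat_lit 8192) Steps.nil))))))) (nat_lit 20) (nat_lit 1),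
  Rule.mk (nat_lit 3) (nat_lit 94) (Steps.bwd (nat_lit 1) (Steps.bwd (nat_lit 2) (Steps.fwd (nat_lit 2048) (Steps.fwd (nat_lit 6144) (Steps.bwd (nat_lit 1) (Steps.bwd (nat_lit 2) (Steps.fwd (nat_lit 2048) Steps.nil))))))) (nat_lit 16) (nat_lit 0),
  Rule.mk (nat_lit 4) (nat_lit 94) (Steps.bwd (nat_lit 1) (Steps.bwd (nat_lit 2) (Steps.fwd (nat_lit 6144) (Steps.fwd (nat_lit 8192) (Steps.fwd (nat_lit 4096) (Steps.bwd (nat_lit 3) (Steps.bwd (nat_lit 1) Steps.nil))))))) (nat_lit 14) (nat_lit 0),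
  Rule.mk (nat_lit 1) (nat_lit 94) (Steps.bwd (nat_lit 3) (Steps.bwd (nat_lit 1) (Steps.bwd (nat_lit 2) (Steps.bwd (nat_lit 1) (Steps.fwd (nat_lit 6144) (Steps.bwd (nat_lit 1) (Steps.bwd (nat_lit 2) Steps.nil))))))) (nat_lit 16) (nat_lit 3),
  Rule.mk (nat_lit 4) (nat_lit 94) (Steps.bwd (nat_lit 2) (Steps.bwd (nat_lit 3) (Steps.bwd (nat_lit 1) (Steps.fwd (nat_lit 8192) (Steps.bwd (nat_lit 1) (Steps.fwd (nat_lit 6144) (Steps.bwd (nat_lit 2) Steps.nil))))))) (nat_lit 12) (nat_lit 4),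
  Rule.mk (nat_lit 4) (nat_lit 94) (Steps.bwd (nat_lit 1) (Steps.bwd (nat_lit 2) (Steps.bwd (nat_lit 3) (Steps.fwd (nat_lit 8192) (Steps.bwd (nat_lit 2) (Steps.fwd (nat_lit 6144) (Steps.fwd (nat_lit 2048) Steps.nil))))))) (nat_lit 14) (nat_lit 0),
  Rule.mk (nat_lit 3) (nat_lit 94) (Steps.bwd (nat_lit 2) (Steps.fwd (nat_lit 8192) (Steps.bwd (nat_lit 2) (Steps.fwd (nat_lit 6144) (Steps.bwd (nat_lit 1) (Steps.bwd (nat_lit 4) (Steps.fwd (nat_lit 2048) Steps.nil))))))) (nat_lit 12) (nat_lit 2),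
  Rule.mk (nat_lit 2) (nat_lit 94) (Steps.bwd (nat_lit 1) (Steps.bwd (nat_lit 2) (Steps.bwd (nat_lit 1) (Steps.bwd (nat_lit 2) (Steps.fwd (nat_lit 2048) (Steps.fwd (nat_lit 4096) (Steps.fwd (nat_lit 2048) Steps.nil))))))) (nat_lit 10) (nat_lit 0),
  Rule.mk (nat_lit 3) (nat_lit 94) (Steps.bwd (nat_lit 1) (Steps.fwd (nat_lit 6144) (Steps.bwd (nat_lit 1) (Steps.bwd (nat_lit 3) (Steps.fwd (nat_lit 2048) (Steps.bwd (nat_lit 3) (Steps.bwd (nat_lit 1) Steps.nil))))))) (nat_lit 18) (nat_lit 0),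
  Rule.mk (nat_lit 4) (nat_lit 94) (Steps.bwd (nat_lit 3) (Steps.bwd (nat_lit 2) (Steps.fwd (nat_lit 2048) (Steps.bwd (nat_lit 4) (Steps.fwd (nat_lit 2048) (Steps.fwd (nat_lit 6144) (Steps.bwd (nat_lit 2) Steps.nil))))))) (nat_lit 15) (nat_lit 5)]
noncomputable def R_4 : List (Rule) := [Rule.mk (nat_lit 2) (nat_lit 94) (Steps.bwd (nat_lit 4) (Steps.fwd (nat_lit 4096) (Steps.bwd (nat_lit 3) (Steps.bwd (nat_lit 1) (Steps.bwd (nat_lit 4) (Steps.fwd (nat_lit 2048) (Steps.bwd (nat_lit 3) Steps.nil))))))) (nat_lit 12) (nat_lit 3),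
  Rule.mk (nat_lit 4) (nat_lit 94) (Steps.bwd (nat_lit 1) (Steps.fwd (nat_lit 4096) (Steps.fwd (nat_lit 6144) (Steps.bwd (nat_lit 4) (Steps.bwd (nat_lit 2) (Steps.bwd (nat_lit 3) (Steps.fwd (nat_lit 2048) Steps.nil))))))) (nat_lit 14) (nat_lit 0),
  Rule.mk (nat_lit 4) (nat_lit 94) (Steps.bwd (nat_lit 1) (Steps.bwd (nat_lit 3) (Steps.fwd (nat_lit 4096) (Steps.bwd (nat_lit 4) (Steps.bwd (nat_lit 2) (Steps.bwd (nat_lit 3) (Steps.bwd (nat_lit 1) Steps.nil))))))) (nat_lit 12) (nat_lit 0),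
  Rule.mk (nat_lit 2) (nat_lit 94) (Steps.bwd (nat_lit 4) (Steps.fwd (nat_lit 4096) (Steps.bwd (nat_lit 4) (Steps.bwd (nat_lit 2) (Steps.bwd (nat_lit 4) (Steps.fwd (nat_lit 4096) (Steps.bwd (nat_lit 4) Steps.nil))))))) (nat_lit 24) (nat_lit 1),
  Rule.mk (nat_lit 4) (nat_lit 142) (Steps.bwd (nat_lit 1) (Steps.fwd (nat_lit 6144) (Steps.bwd (nat_lit 4) (Steps.bwd (nat_lit 1) (Steps.bwd (nat_lit 2) (Steps.fwd (nat_lit 2048) (Steps.fwd (nat_lit 8192) (Steps.bwd (nat_lit 3) (Steps.fwd (nat_lit 2048) (Steps.fwd (nat_lit 8192) (Steps.fwd (nat_lit 4096) Steps.nil))))))))))) (nat_lit 54) (nat_lit 9),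
  Rule.mk (nat_lit 1) (nat_lit 94) (Steps.bwd (nat_lit 2) (Steps.bwd (nat_lit 1) (Steps.bwd (nat_lit 2) (Steps.bwd (nat_lit 1) (Steps.fwd (nat_lit 4096) (Steps.bwd (nat_lit 1) (Steps.fwd (nat_lit 4096) Steps.nil))))))) (nat_lit 10) (nat_lit 1),
  Rule.mk (nat_lit 1) (nat_lit 94) (Steps.bwd (nat_lit 3) (Steps.bwd (nat_lit 2) (Steps.fwd (nat_lit 8192) (Steps.bwd (nat_lit 2) (Steps.fwd (nat_lit 6144) (Steps.bwd (nat_lit 1) (Steps.fwd (nat_lit 8192) Steps.nil))))))) (nat_lit 12) (nat_lit 1),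
  Rule.mk (nat_lit 1) (nat_lit 94) (Steps.bwd (nat_lit 2) (Steps.fwd (nat_lit 2048) (Steps.fwd (nat_lit 4096) (Steps.fwd (nat_lit 2048) (Steps.bwd (nat_lit 2) (Steps.fwd (nat_lit 2048) (Steps.fwd (nat_lit 4096) Steps.nil))))))) (nat_lit 10) (nat_lit 1),
  Rule.mk (nat_lit 4) (nat_lit 118) (Steps.bwd (nat_lit 2) (Steps.bwd (nat_lit 3) (Steps.bwd (nat_lit 2) (Steps.fwd (nat_lit 8192) (Steps.fwd (nat_lit 6144) (Steps.bwd (nat_lit 4) (Steps.bwd (nat_lit 3) (Steps.fwd (nat_lit 8192) (Steps.bwd (nat_lit 3) Steps.nil))))))))) (nat_lit 28) (nat_lit 0),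
  Rule.mk (nat_lit 4) (nat_lit 94) (Steps.bwd (nat_lit 1) (Steps.bwd (nat_lit 3) (Steps.fwd (nat_lit 4096) (Steps.bwd (nat_lit 4) (Steps.bwd (nat_lit 2) (Steps.bwd (nat_lit 3) (Steps.fwd (nat_lit 2048) Steps.nil))))))) (nat_lit 12) (nat_lit 0),
  Rule.mk (nat_lit 1) (nat_lit 94) (Steps.bwd (nat_lit 2) (Steps.bwd (nat_lit 1) (Steps.bwd (nat_lit 2) (Steps.fwd (nat_lit 2048) (Steps.fwd (nat_lit 4096) (Steps.fwd (nat_lit 2048) (Steps.bwd (nat_lit 2) Steps.nil))))))) (nat_lit 10) (nat_lit 1),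
  Rule.mk (nat_lit 1) (nat_lit 94) (Steps.bwd (nat_lit 2) (Steps.fwd (nat_lit 2048) (Steps.fwd (nat_lit 4096) (Steps.bwd (nat_lit 1) (Steps.bwd (nat_lit 2) (Steps.fwd (nat_lit 2048) (Steps.fwd (nat_lit 4096) Steps.nil))))))) (nat_lit 10) (nat_lit 1),
  Rule.mk (nat_lit 3) (nat_lit 142) (Steps.bwd (nat_lit 4) (Steps.fwd (nat_lit 2048) (Steps.bwd (nat_lit 2) (Steps.bwd (nat_lit 1) (Steps.bwd (nat_lit 4) (Steps.bwd (nat_lit 3) (Steps.bwd (nat_lit 1) (Steps.fwd (nat_lit 8192) (Steps.fwd (nat_lit 4096) (Steps.fwd (nat_lit 8192) (Steps.fwd (nat_lit 2048) Steps.nil))))))))))) (nat_lit 54) (nat_lit 11),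
  Rule.mk (nat_lit 3) (nat_lit 94) (Steps.bwd (nat_lit 1) (Steps.fwd (nat_lit 8192) (Steps.bwd (nat_lit 1) (Steps.bwd (nat_lit 3) (Steps.fwd (nat_lit 4096) (Steps.fwd (nat_lit 8192) (Steps.bwd (nat_lit 2) Steps.nil))))))) (nat_lit 12) (nat_lit 6),
  Rule.mk (nat_lit 3) (nat_lit 94) (Steps.bwd (nat_lit 4) (Steps.fwd (nat_lit 6144) (Steps.bwd (nat_lit 4) (Steps.fwd (nat_lit 6144) (Steps.bwd (nat_lit 4) (Steps.bwd (nat_lit 3) (Steps.bwd (nat_lit 4) Steps.nil))))))) (nat_lit 26) (nat_lit 1),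
  Rule.mk (nat_lit 4) (nat_lit 94) (Steps.bwd (nat_lit 1) (Steps.bwd (nat_lit 3) (Steps.bwd (nat_lit 2) (Steps.bwd (nat_lit 4) (Steps.bwd (nat_lit 2) (Steps.bwd (nat_lit 3) (Steps.bwd (nat_lit 1) Steps.nil))))))) (nat_lit 12) (nat_lit 0),
  Rule.mk (nat_lit 4) (nat_lit 94) (Steps.bwd (nat_lit 2) (Steps.fwd (nat_lit 8192) (Steps.bwd (nat_lit 2) (Steps.bwd (nat_lit 4) (Steps.fwd (nat_lit 4096) (Steps.fwd (nat_lit 8192) (Steps.bwd (nat_lit 2) Steps.nil))))))) (nat_lit 24) (nat_lit 0),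
  Rule.mk (nat_lit 4) (nat_lit 94) (Steps.bwd (nat_lit 3) (Steps.fwd (nat_lit 4096) (Steps.bwd (nat_lit 1) (Steps.bwd (nat_lit 4) (Steps.fwd (nat_lit 2048) (Steps.bwd (nat_lit 3) (Steps.fwd (nat_lit 4096) Steps.nil))))))) (nat_lit 15) (nat_lit 5),
  Rule.mk (nat_lit 3) (nat_lit 94) (Steps.bwd (nat_lit 1) (Steps.fwd (nat_lit 8192) (Steps.fwd (nat_lit 2048) (Steps.fwd (nat_lit 6144) (Steps.fwd (nat_lit 4096) (Steps.fwd (nat_lit 8192) (Steps.fwd (nat_lit 4096) Steps.nil))))))) (nat_lit 12) (nat_lit 6),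
  Rule.mk (nat_lit 3) (nat_lit 94) (Steps.bwd (nat_lit 4) (Steps.fwd (nat_lit 6144) (Steps.bwd (nat_lit 4) (Steps.fwd (nat_lit 6144) (Steps.fwd (nat_lit 8192) (Steps.bwd (nat_lit 3) (Steps.bwd (nat_lit 4) Steps.nil))))))) (nat_lit 26) (nat_lit 1),
  Rule.mk (nat_lit 4) (nat_lit 94) (Steps.bwd (nat_lit 1) (Steps.fwd (nat_lit 6144) (Steps.bwd (nat_lit 2) (Steps.bwd (nat_lit 4) (Steps.fwd (nat_lit 4096) (Steps.bwd (nat_lit 3) (Steps.bwd (nat_lit 1) Steps.nil))))))) (nat_lit 12) (nat_lit 0),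
  Rule.mk (nat_lit 4) (nat_lit 94) (Steps.bwd (nat_lit 2) (Steps.fwd (nat_lit 6144) (Steps.bwd (nat_lit 1) (Steps.bwd (nat_lit 4) (Steps.bwd (nat_lit 1) (Steps.fwd (nat_lit 6144) (Steps.fwd (nat_lit 4096) Steps.nil))))))) (nat_lit 12) (nat_lit 4),
  Rule.mk (nat_lit 4) (nat_lit 94) (Steps.bwd (nat_lit 1) (Steps.bwd (nat_lit 2) (Steps.fwd (nat_lit 6144) (Steps.fwd (nat_lit 8192) (Steps.bwd (nat_lit 2) (Steps.bwd (nat_lit 3) (Steps.fwd (nat_lit 2048) Steps.nil))))))) (nat_lit 14) (nat_lit 0),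
  Rule.mk (nat_lit 1) (nat_lit 94) (Steps.bwd (nat_lit 3) (Steps.bwd (nat_lit 1) (Steps.bwd (nat_lit 2) (Steps.bwd (nat_lit 1) (Steps.fwd (nat_lit 6144) (Steps.bwd (nat_lit 1) (Steps.fwd (nat_lit 4096) Steps.nil))))))) (nat_lit 16) (nat_lit 3),
  Rule.mk (nat_lit 4) (nat_lit 94) (Steps.bwd (nat_lit 2) (Steps.bwd (nat_lit 3) (Steps.bwd (nat_lit 1) (Steps.fwd (nat_lit 8192) (Steps.fwd (nat_lit 2048) (Steps.fwd (nat_lit 6144) (Steps.fwd (nat_lit 4096) Steps.nil))))))) (nat_lit 12) (nat_lit 4),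
  Rule.mk (nat_lit 4) (nat_lit 94) (Steps.bwd (nat_lit 1) (Steps.bwd (nat_lit 2) (Steps.bwd (nat_lit 3) (Steps.fwd (nat_lit 8192) (Steps.fwd (nat_lit 4096) (Steps.bwd (nat_lit 3) (Steps.bwd (nat_lit 1) Steps.nil))))))) (nat_lit 14) (nat_lit 0),
  Rule.mk (nat_lit 3) (nat_lit 94) (Steps.bwd (nat_lit 2) (Steps.fwd (nat_lit 8192) (Steps.fwd (nat_lit 4096) (Steps.fwd (nat_lit 6144) (Steps.bwd (nat_lit 1) (Steps.fwd (nat_lit 8192) (Steps.bwd (nat_lit 1) Steps.nil))))))) (nat_lit 12) (nat_lit 2),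
  Rule.mk (nat_lit 2) (nat_lit 94) (Steps.bwd (nat_lit 1) (Steps.bwd (nat_lit 2) (Steps.bwd (nat_lit 1) (Steps.bwd (nat_lit 2) (Steps.fwd (nat_lit 2048) (Steps.bwd (nat_lit 2) (Steps.fwd (nat_lit 2048) Steps.nil))))))) (nat_lit 10) (nat_lit 0),
  Rule.mk (nat_lit 3) (nat_lit 94) (Steps.bwd (nat_lit 1) (Steps.fwd (nat_lit 6144) (Steps.fwd (nat_lit 2048) (Steps.bwd (nat_lit 3) (Steps.fwd (nat_lit 2048) (Steps.bwd (nat_lit 3) (Steps.fwd (nat_lit 2048) Steps.nil))))))) (nat_lit 18) (nat_lit 0),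
  Rule.mk (nat_lit 4) (nat_lit 94) (Steps.bwd (nat_lit 3) (Steps.bwd (nat_lit 2) (Steps.fwd (nat_lit 2048) (Steps.bwd (nat_lit 4) (Steps.fwd (nat_lit 2048) (Steps.bwd (nat_lit 3) (Steps.fwd (nat_lit 4096) Steps.nil))))))) (nat_lit 15) (nat_lit 5),
  Rule.mk (nat_lit 2) (nat_lit 94) (Steps.bwd (nat_lit 1) (Steps.fwd (nat_lit 4096) (Steps.bwd (nat_lit 1) (Steps.bwd (nat_lit 2) (Steps.bwd (nat_lit 1) (Steps.bwd (nat_lit 2) (Steps.bwd (nat_lit 1) Steps.nil))))))) (nat_lit 10) (nat_lit 0),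
  Rule.mk (nat_lit 2) (nat_lit 94) (Steps.bwd (nat_lit 1) (Steps.bwd (nat_lit 2) (Steps.bwd (nat_lit 1) (Steps.fwd (nat_lit 4096) (Steps.fwd (nat_lit 2048) (Steps.bwd (nat_lit 2) (Steps.bwd (nat_lit 1) Steps.nil))))))) (nat_lit 10) (nat_lit 0),
  Rule.mk (nat_lit 1) (nat_lit 94) (Steps.bwd (nat_lit 4) (Steps.fwd (nat_lit 2048) (Steps.fwd (nat_lit 4096) (Steps.bwd (nat_lit 3) (Steps.fwd (nat_lit 8192) (Steps.bwd (nat_lit 2) (Steps.fwd (nat_lit 6144) Steps.nil))))))) (nat_lit 14) (nat_lit 7),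
  Rule.mk (nat_lit 1) (nat_lit 94) (Steps.bwd (nat_lit 3) (Steps.fwd (nat_lit 2048) (Steps.fwd (nat_lit 4096) (Steps.bwd (nat_lit 1) (Steps.fwd (nat_lit 6144) (Steps.fwd (nat_lit 2048) (Steps.bwd (nat_lit 2) Steps.nil))))))) (nat_lit 16) (nat_lit 3),
  Rule.mk (nat_lit 3) (nat_lit 94) (Steps.bwd (nat_lit 1) (Steps.fwd (nat_lit 4096) (Steps.bwd (nat_lit 1) (Steps.bwd (nat_lit 3) (Steps.fwd (nat_lit 2048) (Steps.bwd (nat_lit 2) (Steps.fwd (nat_lit 2048) Steps.nil))))))) (nat_lit 16) (nat_lit 0),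
  Rule.mk (nat_lit 1) (nat_lit 94) (Steps.bwd (nat_lit 3) (Steps.fwd (nat_lit 2048) (Steps.fwd (nat_lit 4096) (Steps.bwd (nat_lit 1) (Steps.fwd (nat_lit 6144) (Steps.fwd (nat_lit 2048) (Steps.fwd (nat_lit 4096) Steps.nil))))))) (nat_lit 16) (nat_lit 3),
  Rule.mk (nat_lit 1) (nat_lit 94) (Steps.bwd (nat_lit 2) (Steps.fwd (nat_lit 2048) (Steps.fwd (nat_lit 4096) (Steps.bwd (nat_lit 1) (Steps.bwd (nat_lit 2) (Steps.bwd (nat_lit 1) (Steps.fwd (nat_lit 4096) Steps.nil))))))) (nat_lit 10) (nat_lit 1),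
  Rule.mk (nat_lit 2) (nat_lit 94) (Steps.bwd (nat_lit 4) (Steps.fwd (nat_lit 4096) (Steps.fwd (nat_lit 8192) (Steps.bwd (nat_lit 2) (Steps.bwd (nat_lit 4) (Steps.fwd (nat_lit 4096) (Steps.bwd (nat_lit 4) Steps.nil))))))) (nat_lit 24) (nat_lit 1),
  Rule.mk (nat_lit 1) (nat_lit 94) (Steps.bwd (nat_lit 3) (Steps.bwd (nat_lit 2) (Steps.bwd (nat_lit 4) (Steps.fwd (nat_lit 4096) (Steps.bwd (nat_lit 3) (Steps.bwd (nat_lit 1) (Steps.fwd (nat_lit 8192) Steps.nil))))))) (nat_lit 12) (nat_lit 1),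
  Rule.mk (nat_lit 2) (nat_lit 142) (Steps.bwd (nat_lit 4) (Steps.fwd (nat_lit 2048) (Steps.bwd (nat_lit 4) (Steps.fwd (nat_lit 6144) (Steps.bwd (nat_lit 1) (Steps.fwd (nat_lit 6144) (Steps.bwd (nat_lit 4) (Steps.bwd (nat_lit 1) (Steps.bwd (nat_lit 4) (Steps.bwd (nat_lit 2) (Steps.fwd (nat_lit 2048) Steps.nil))))))))))) (nat_lit 48) (nat_lit 2),
  Rule.mk (nat_lit 1) (nat_lit 118) (Steps.bwd (nat_lit 4) (Steps.fwd (nat_lit 6144) (Steps.bwd (nat_lit 2) (Steps.bwd (nat_lit 4) (Steps.fwd (nat_lit 4096) (Steps.bwd (nat_lit 3) (Steps.bwd (nat_lit 4) (Steps.bwd (nat_lit 1) (Steps.fwd (nat_lit 8192) Steps.nil))))))))) (nat_lit 30) (nat_lit 3),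
  Rule.mk (nat_lit 3) (nat_lit 94) (Steps.bwd (nat_lit 1) (Steps.bwd (nat_lit 4) (Steps.fwd (nat_lit 2048) (Steps.fwd (nat_lit 6144) (Steps.fwd (nat_lit 4096) (Steps.bwd (nat_lit 4) (Steps.fwd (nat_lit 4096) Steps.nil))))))) (nat_lit 12) (nat_lit 6),
  Rule.mk (nat_lit 1) (nat_lit 94) (Steps.bwd (nat_lit 3) (Steps.fwd (nat_lit 4096) (Steps.bwd (nat_lit 4) (Steps.bwd (nat_lit 2) (Steps.bwd (nat_lit 3) (Steps.fwd (nat_lit 2048) (Steps.fwd (nat_lit 8192) Steps.nil))))))) (nat_lit 12) (nat_lit 1),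
  Rule.mk (nat_lit 1) (nat_lit 94) (Steps.bwd (nat_lit 4) (Steps.bwd (nat_lit 1) (Steps.fwd (nat_lit 6144) (Steps.fwd (nat_lit 4096) (Steps.fwd (nat_lit 8192) (Steps.fwd (nat_lit 4096) (Steps.bwd (nat_lit 3) Steps.nil))))))) (nat_lit 12) (nat_lit 7),
  Rule.mk (nat_lit 1) (nat_lit 94) (Steps.bwd (nat_lit 3) (Steps.fwd (nat_lit 2048) (Steps.bwd (nat_lit 2) (Steps.fwd (nat_lit 2048) (Steps.bwd (nat_lit 3) (Steps.bwd (nat_lit 1) (Steps.bwd (nat_lit 2) Steps.nil))))))) (nat_lit 16) (nat_lit 3),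
  Rule.mk (nat_lit 1) (nat_lit 94) (Steps.bwd (nat_lit 2) (Steps.fwd (nat_lit 2048) (Steps.bwd (nat_lit 2) (Steps.fwd (nat_lit 2048) (Steps.bwd (nat_lit 2) (Steps.bwd (nat_lit 1) (Steps.bwd (nat_lit 2) Steps.nil))))))) (nat_lit 10) (nat_lit 1),
  Rule.mk (nat_lit 1) (nat_lit 94) (Steps.bwd (nat_lit 3) (Steps.fwd (nat_lit 2048) (Steps.fwd (nat_lit 4096) (Steps.fwd (nat_lit 2048) (Steps.bwd (nat_lit 3) (Steps.fwd (nat_lit 2048) (Steps.bwd (nat_lit 2) Steps.nil))))))) (nat_lit 16) (nat_lit 3),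
  Rule.mk (nat_lit 2) (nat_lit 94) (Steps.bwd (nat_lit 4) (Steps.fwd (nat_lit 4096) (Steps.bwd (nat_lit 4) (Steps.fwd (nat_lit 4096) (Steps.fwd (nat_lit 8192) (Steps.bwd (nat_lit 2) (Steps.bwd (nat_lit 4) Steps.nil))))))) (nat_lit 24) (nat_lit 1),
  Rule.mk (nat_lit 3) (nat_lit 94) (Steps.bwd (nat_lit 1) (Steps.bwd (nat_lit 4) (Steps.bwd (nat_lit 1) (Steps.bwd (nat_lit 3) (Steps.bwd (nat_lit 2) (Steps.bwd (nat_lit 4) (Steps.fwd (nat_lit 4096) Steps.nil))))))) (nat_lit 12) (nat_lit 6),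
  Rule.mk (nat_lit 4) (nat_lit 94) (Steps.bwd (nat_lit 1) (Steps.bwd (nat_lit 3) (Steps.fwd (nat_lit 4096) (Steps.bwd (nat_lit 4) (Steps.fwd (nat_lit 4096) (Steps.fwd (nat_lit 6144) (Steps.bwd (nat_lit 1) Steps.nil))))))) (nat_lit 12) (nat_lit 0),
  Rule.mk (nat_lit 3) (nat_lit 94) (Steps.bwd (nat_lit 2) (Steps.fwd (nat_lit 8192) (Steps.bwd (nat_lit 2) (Steps.fwd (nat_lit 6144) (Steps.fwd (nat_lit 2048) (Steps.fwd (nat_lit 8192) (Steps.fwd (nat_lit 2048) Steps.nil))))))) (nat_lit 12) (nat_lit 2),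
  Rule.mk (nat_lit 3) (nat_lit 94) (Steps.bwd (nat_lit 1) (Steps.bwd (nat_lit 2) (Steps.bwd (nat_lit 1) (Steps.bwd (nat_lit 3) (Steps.bwd (nat_lit 1) (Steps.fwd (nat_lit 4096) (Steps.bwd (nat_lit 1) Steps.nil))))))) (nat_lit 16) (nat_lit 0),
  Rule.mk (nat_lit 2) (nat_lit 94) (Steps.bwd (nat_lit 1) (Steps.fwd (nat_lit 4096) (Steps.fwd (nat_lit 2048) (Steps.fwd (nat_lit 4096) (Steps.bwd (nat_lit 1) (Steps.fwd (nat_lit 4096) (Steps.fwd (nat_lit 2048) Steps.nil))))))) (nat_lit 10) (nat_lit 0),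
  Rule.mk (nat_lit 3) (nat_lit 94) (Steps.bwd (nat_lit 1) (Steps.fwd (nat_lit 4096) (Steps.fwd (nat_lit 2048) (Steps.bwd (nat_lit 3) (Steps.fwd (nat_lit 2048) (Steps.bwd (nat_lit 2) (Steps.fwd (nat_lit 2048) Steps.nil))))))) (nat_lit 16) (nat_lit 0),
  Rule.mk (nat_lit 1) (nat_lit 94) (Steps.bwd (nat_lit 3) (Steps.fwd (nat_lit 4096) (Steps.fwd (nat_lit 8192) (Steps.fwd (nat_lit 4096) (Steps.bwd (nat_lit 3) (Steps.bwd (nat_lit 1) (Steps.fwd (nat_lit 8192) Steps.nil))))))) (nat_lit 12) (nat_lit 1),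
  Rule.mk (nat_lit 4) (nat_lit 94) (Steps.bwd (nat_lit 1) (Steps.fwd (nat_lit 6144) (Steps.bwd (nat_lit 2) (Steps.fwd (nat_lit 8192) (Steps.fwd (nat_lit 4096) (Steps.fwd (nat_lit 6144) (Steps.fwd (nat_lit 2048) Steps.nil))))))) (nat_lit 12) (nat_lit 0),
  Rule.mk (nat_lit 1) (nat_lit 94) (Steps.bwd (nat_lit 2) (Steps.bwd (nat_lit 1) (Steps.bwd (nat_lit 2) (Steps.fwd (nat_lit 2048) (Steps.bwd (nat_lit 2) (Steps.bwd (nat_lit 1) (Steps.fwd (nat_lit 4096) Steps.nil))))))) (nat_lit 10) (nat_lit 1),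
  Rule.mk (nat_lit 1) (nat_lit 94) (Steps.bwd (nat_lit 3) (Steps.bwd (nat_lit 2) (Steps.fwd (nat_lit 8192) (Steps.bwd (nat_lit 2) (Steps.bwd (nat_lit 3) (Steps.bwd (nat_lit 1) (Steps.fwd (nat_lit 8192) Steps.nil))))))) (nat_lit 12) (nat_lit 1),
  Rule.mk (nat_lit 1) (nat_lit 94) (Steps.bwd (nat_lit 2) (Steps.fwd (nat_lit 6144) (Steps.fwd (nat_lit 8192) (Steps.bwd (nat_lit 2) (Steps.fwd (nat_lit 6144) (Steps.fwd (nat_lit 2048) (Steps.fwd (nat_lit 8192) Steps.nil))))))) (nat_lit 14) (nat_lit 1),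
  Rule.mk (nat_lit 3) (nat_lit 94) (Steps.bwd (nat_lit 2) (Steps.bwd (nat_lit 4) (Steps.bwd (nat_lit 2) (Steps.fwd (nat_lit 6144) (Steps.bwd (nat_lit 1) (Steps.fwd (nat_lit 8192) (Steps.fwd (nat_lit 2048) Steps.nil))))))) (nat_lit 12) (nat_lit 2),
  Rule.mk (nat_lit 3) (nat_lit 94) (Steps.bwd (nat_lit 1) (Steps.bwd (nat_lit 2) (Steps.fwd (nat_lit 2048) (Steps.fwd (nat_lit 6144) (Steps.bwd (nat_lit 1) (Steps.fwd (nat_lit 4096) (Steps.fwd (nat_lit 2048) Steps.nil))))))) (nat_lit 16) (nat_lit 0),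
  Rule.mk (nat_lit 4) (nat_lit 94) (Steps.bwd (nat_lit 2) (Steps.fwd (nat_lit 6144) (Steps.bwd (nat_lit 1) (Steps.bwd (nat_lit 4) (Steps.fwd (nat_lit 2048) (Steps.fwd (nat_lit 6144) (Steps.fwd (nat_lit 4096) Steps.nil))))))) (nat_lit 12) (nat_lit 4),
  Rule.mk (nat_lit 4) (nat_lit 94) (Steps.bwd (nat_lit 2) (Steps.bwd (nat_lit 3) (Steps.bwd (nat_lit 1) (Steps.fwd (nat_lit 8192) (Steps.fwd (nat_lit 2048) (Steps.bwd (nat_lit 3) (Steps.bwd (nat_lit 2) Steps.nil))))))) (nat_lit 12) (nat_lit 4),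
  Rule.mk (nat_lit 4) (nat_lit 94) (Steps.bwd (nat_lit 1) (Steps.bwd (nat_lit 2) (Steps.bwd (nat_lit 3) (Steps.fwd (nat_lit 8192) (Steps.bwd (nat_lit 2) (Steps.fwd (nat_lit 6144) (Steps.bwd (nat_lit 1) Steps.nil))))))) (nat_lit 14) (nat_lit 0)]
noncomputable def R_5 : List (Rule) := [Rule.mk (nat_lit 3) (nat_lit 94) (Steps.bwd (nat_lit 2) (Steps.fwd (nat_lit 8192) (Steps.bwd (nat_lit 2) (Steps.bwd (nat_lit 3) (Steps.fwd (nat_lit 2048) (Steps.fwd (nat_lit 8192) (Steps.fwd (nat_lit 2048) Steps.nil))))))) (nat_lit 12) (nat_lit 2),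
  Rule.mk (nat_lit 3) (nat_lit 94) (Steps.bwd (nat_lit 1) (Steps.fwd (nat_lit 6144) (Steps.bwd (nat_lit 1) (Steps.fwd (nat_lit 6144) (Steps.fwd (nat_lit 2048) (Steps.bwd (nat_lit 3) (Steps.bwd (nat_lit 1) Steps.nil))))))) (nat_lit 18) (nat_lit 0),
  Rule.mk (nat_lit 4) (nat_lit 94) (Steps.bwd (nat_lit 3) (Steps.bwd (nat_lit 2) (Steps.fwd (nat_lit 2048) (Steps.bwd (nat_lit 4) (Steps.fwd (nat_lit 2048) (Steps.bwd (nat_lit 3) (Steps.bwd (nat_lit 2) Steps.nil))))))) (nat_lit 15) (nat_lit 5),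
  Rule.mk (nat_lit 1) (nat_lit 94) (Steps.bwd (nat_lit 4) (Steps.fwd (nat_lit 2048) (Steps.fwd (nat_lit 6144) (Steps.bwd (nat_lit 2) (Steps.fwd (nat_lit 8192) (Steps.fwd (nat_lit 4096) (Steps.fwd (nat_lit 6144) Steps.nil))))))) (nat_lit 12) (nat_lit 7),
  Rule.mk (nat_lit 4) (nat_lit 94) (Steps.bwd (nat_lit 3) (Steps.bwd (nat_lit 4) (Steps.fwd (nat_lit 6144) (Steps.bwd (nat_lit 4) (Steps.bwd (nat_lit 3) (Steps.bwd (nat_lit 4) (Steps.bwd (nat_lit 3) Steps.nil))))))) (nat_lit 26) (nat_lit 0),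
  Rule.mk (nat_lit 4) (nat_lit 142) (Steps.bwd (nat_lit 3) (Steps.bwd (nat_lit 1) (Steps.fwd (nat_lit 6144) (Steps.fwd (nat_lit 8192) (Steps.fwd (nat_lit 2048) (Steps.fwd (nat_lit 8192) (Steps.bwd (nat_lit 2) (Steps.bwd (nat_lit 1) (Steps.bwd (nat_lit 2) (Steps.fwd (nat_lit 8192) (Steps.fwd (nat_lit 2048) Steps.nil))))))))))) (nat_lit 48) (nat_lit 5),
  Rule.mk (nat_lit 1) (nat_lit 94) (Steps.bwd (nat_lit 2) (Steps.bwd (nat_lit 3) (Steps.bwd (nat_lit 4) (Steps.fwd (nat_lit 4096) (Steps.bwd (nat_lit 3) (Steps.bwd (nat_lit 1) (Steps.fwd (nat_lit 8192) Steps.nil))))))) (nat_lit 14) (nat_lit 1),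
  Rule.mk (nat_lit 1) (nat_lit 94) (Steps.bwd (nat_lit 4) (Steps.fwd (nat_lit 2048) (Steps.bwd (nat_lit 4) (Steps.fwd (nat_lit 2048) (Steps.bwd (nat_lit 4) (Steps.fwd (nat_lit 2048) (Steps.fwd (nat_lit 8192) Steps.nil))))))) (nat_lit 20) (nat_lit 1),
  Rule.mk (nat_lit 3) (nat_lit 94) (Steps.bwd (nat_lit 2) (Steps.bwd (nat_lit 4) (Steps.bwd (nat_lit 2) (Steps.bwd (nat_lit 3) (Steps.bwd (nat_lit 1) (Steps.bwd (nat_lit 4) (Steps.fwd (nat_lit 2048) Steps.nil))))))) (nat_lit 12) (nat_lit 2),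
  Rule.mk (nat_lit 4) (nat_lit 94) (Steps.bwd (nat_lit 1) (Steps.bwd (nat_lit 2) (Steps.fwd (nat_lit 6144) (Steps.fwd (nat_lit 8192) (Steps.bwd (nat_lit 2) (Steps.fwd (nat_lit 6144) (Steps.fwd (nat_lit 2048) Steps.nil))))))) (nat_lit 14) (nat_lit 0),
  Rule.mk (nat_lit 4) (nat_lit 94) (Steps.bwd (nat_lit 3) (Steps.bwd (nat_lit 2) (Steps.fwd (nat_lit 2048) (Steps.bwd (nat_lit 4) (Steps.bwd (nat_lit 1) (Steps.fwd (nat_lit 6144) (Steps.fwd (nat_lit 4096) Steps.nil))))))) (nat_lit 15) (nat_lit 5),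
  Rule.mk (nat_lit 4) (nat_lit 94) (Steps.bwd (nat_lit 1) (Steps.fwd (nat_lit 6144) (Steps.fwd (nat_lit 4096) (Steps.fwd (nat_lit 8192) (Steps.fwd (nat_lit 4096) (Steps.fwd (nat_lit 6144) (Steps.fwd (nat_lit 2048) Steps.nil))))))) (nat_lit 12) (nat_lit 0),
  Rule.mk (nat_lit 3) (nat_lit 94) (Steps.bwd (nat_lit 2) (Steps.fwd (nat_lit 8192) (Steps.fwd (nat_lit 4096) (Steps.bwd (nat_lit 3) (Steps.bwd (nat_lit 1) (Steps.bwd (nat_lit 4) (Steps.fwd (nat_lit 2048) Steps.nil))))))) (nat_lit 12) (nat_lit 2),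
  Rule.mk (nat_lit 4) (nat_lit 94) (Steps.bwd (nat_lit 1) (Steps.bwd (nat_lit 3) (Steps.fwd (nat_lit 4096) (Steps.bwd (nat_lit 4) (Steps.bwd (nat_lit 2) (Steps.fwd (nat_lit 6144) (Steps.bwd (nat_lit 1) Steps.nil))))))) (nat_lit 12) (nat_lit 0),
  Rule.mk (nat_lit 2) (nat_lit 94) (Steps.bwd (nat_lit 1) (Steps.fwd (nat_lit 4096) (Steps.bwd (nat_lit 1) (Steps.bwd (nat_lit 2) (Steps.bwd (nat_lit 1) (Steps.fwd (nat_lit 4096) (Steps.fwd (nat_lit 2048) Steps.nil))))))) (nat_lit 10) (nat_lit 0),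
  Rule.mk (nat_lit 4) (nat_lit 94) (Steps.bwd (nat_lit 1) (Steps.fwd (nat_lit 6144) (Steps.fwd (nat_lit 4096) (Steps.bwd (nat_lit 4) (Steps.fwd (nat_lit 4096) (Steps.fwd (nat_lit 6144) (Steps.bwd (nat_lit 1) Steps.nil))))))) (nat_lit 12) (nat_lit 0),
  Rule.mk (nat_lit 2) (nat_lit 94) (Steps.bwd (nat_lit 4) (Steps.bwd (nat_lit 2) (Steps.bwd (nat_lit 3) (Steps.bwd (nat_lit 1) (Steps.fwd (nat_lit 8192) (Steps.fwd (nat_lit 2048) (Steps.fwd (nat_lit 6144) Steps.nil))))))) (nat_lit 12) (nat_lit 3),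
  Rule.mk (nat_lit 3) (nat_lit 94) (Steps.bwd (nat_lit 4) (Steps.bwd (nat_lit 2) (Steps.bwd (nat_lit 3) (Steps.bwd (nat_lit 1) (Steps.fwd (nat_lit 8192) (Steps.fwd (nat_lit 2048) (Steps.bwd (nat_lit 2) Steps.nil))))))) (nat_lit 14) (nat_lit 3),
  Rule.mk (nat_lit 4) (nat_lit 142) (Steps.bwd (nat_lit 1) (Steps.fwd (nat_lit 6144) (Steps.bwd (nat_lit 4) (Steps.bwd (nat_lit 1) (Steps.bwd (nat_lit 2) (Steps.fwd (nat_lit 2048) (Steps.fwd (nat_lit 8192) (Steps.fwd (nat_lit 6144) (Steps.fwd (nat_lit 2048) (Steps.bwd (nat_lit 4) (Steps.fwd (nat_lit 4096) Steps.nil))))))))))) (nat_lit 54) (nat_lit 9),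
  Rule.mk (nat_lit 2) (nat_lit 118) (Steps.bwd (nat_lit 4) (Steps.bwd (nat_lit 3) (Steps.fwd (nat_lit 2048) (Steps.bwd (nat_lit 4) (Steps.fwd (nat_lit 2048) (Steps.bwd (nat_lit 3) (Steps.bwd (nat_lit 4) (Steps.fwd (nat_lit 4096) (Steps.bwd (nat_lit 4) Steps.nil))))))))) (nat_lit 44) (nat_lit 6),
  Rule.mk (nat_lit 4) (nat_lit 94) (Steps.bwd (nat_lit 3) (Steps.fwd (nat_lit 4096) (Steps.fwd (nat_lit 2048) (Steps.bwd (nat_lit 4) (Steps.fwd (nat_lit 2048) (Steps.bwd (nat_lit 3) (Steps.fwd (nat_lit 4096) Steps.nil))))))) (nat_lit 15) (nat_lit 5),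
  Rule.mk (nat_lit 2) (nat_lit 94) (Steps.bwd (nat_lit 1) (Steps.fwd (nat_lit 4096) (Steps.fwd (nat_lit 2048) (Steps.fwd (nat_lit 4096) (Steps.fwd (nat_lit 2048) (Steps.fwd (nat_lit 4096) (Steps.fwd (nat_lit 2048) Steps.nil))))))) (nat_lit 10) (nat_lit 0),
  Rule.mk (nat_lit 3) (nat_lit 94) (Steps.bwd (nat_lit 1) (Steps.fwd (nat_lit 4096) (Steps.fwd (nat_lit 2048) (Steps.bwd (nat_lit 3) (Steps.bwd (nat_lit 1) (Steps.bwd (nat_lit 2) (Steps.fwd (nat_lit 2048) Steps.nil))))))) (nat_lit 16) (nat_lit 0),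
  Rule.mk (nat_lit 2) (nat_lit 94) (Steps.bwd (nat_lit 4) (Steps.fwd (nat_lit 4096) (Steps.bwd (nat_lit 3) (Steps.fwd (nat_lit 2048) (Steps.bwd (nat_lit 4) (Steps.fwd (nat_lit 2048) (Steps.fwd (nat_lit 6144) Steps.nil))))))) (nat_lit 12) (nat_lit 3),
  Rule.mk (nat_lit 3) (nat_lit 94) (Steps.bwd (nat_lit 4) (Steps.fwd (nat_lit 4096) (Steps.bwd (nat_lit 3) (Steps.fwd (nat_lit 2048) (Steps.bwd (nat_lit 4) (Steps.fwd (nat_lit 2048) (Steps.fwd (nat_lit 4096) Steps.nil))))))) (nat_lit 14) (nat_lit 3),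
  Rule.mk (nat_lit 2) (nat_lit 94) (Steps.bwd (nat_lit 1) (Steps.fwd (nat_lit 4096) (Steps.bwd (nat_lit 1) (Steps.fwd (nat_lit 4096) (Steps.fwd (nat_lit 2048) (Steps.bwd (nat_lit 2) (Steps.fwd (nat_lit 2048) Steps.nil))))))) (nat_lit 10) (nat_lit 0),
  Rule.mk (nat_lit 1) (nat_lit 94) (Steps.bwd (nat_lit 2) (Steps.fwd (nat_lit 2048) (Steps.bwd (nat_lit 2) (Steps.bwd (nat_lit 1) (Steps.fwd (nat_lit 4096) (Steps.fwd (nat_lit 2048) (Steps.bwd (nat_lit 2) Steps.nil))))))) (nat_lit 10) (nat_lit 1),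
  Rule.mk (nat_lit 1) (nat_lit 94) (Steps.bwd (nat_lit 3) (Steps.bwd (nat_lit 2) (Steps.bwd (nat_lit 4) (Steps.fwd (nat_lit 4096) (Steps.bwd (nat_lit 3) (Steps.fwd (nat_lit 2048) (Steps.fwd (nat_lit 8192) Steps.nil))))))) (nat_lit 12) (nat_lit 1),
  Rule.mk (nat_lit 2) (nat_lit 142) (Steps.bwd (nat_lit 4) (Steps.fwd (nat_lit 2048) (Steps.bwd (nat_lit 4) (Steps.fwd (nat_lit 6144) (Steps.fwd (nat_lit 2048) (Steps.fwd (nat_lit 6144) (Steps.bwd (nat_lit 4) (Steps.bwd (nat_lit 1) (Steps.bwd (nat_lit 4) (Steps.bwd (nat_lit 2) (Steps.fwd (nat_lit 2048) Steps.nil))))))))))) (nat_lit 48) (nat_lit 2),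
  Rule.mk (nat_lit 3) (nat_lit 94) (Steps.bwd (nat_lit 1) (Steps.bwd (nat_lit 4) (Steps.fwd (nat_lit 2048) (Steps.fwd (nat_lit 6144) (Steps.bwd (nat_lit 2) (Steps.bwd (nat_lit 4) (Steps.fwd (nat_lit 4096) Steps.nil))))))) (nat_lit 12) (nat_lit 6),
  Rule.mk (nat_lit 1) (nat_lit 94) (Steps.bwd (nat_lit 3) (Steps.fwd (nat_lit 4096) (Steps.bwd (nat_lit 4) (Steps.fwd (nat_lit 4096) (Steps.bwd (nat_lit 3) (Steps.bwd (nat_lit 1) (Steps.fwd (nat_lit 8192) Steps.nil))))))) (nat_lit 12) (nat_lit 1),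
  Rule.mk (nat_lit 4) (nat_lit 94) (Steps.bwd (nat_lit 2) (Steps.fwd (nat_lit 6144) (Steps.fwd (nat_lit 2048) (Steps.fwd (nat_lit 8192) (Steps.fwd (nat_lit 2048) (Steps.fwd (nat_lit 6144) (Steps.bwd (nat_lit 2) Steps.nil))))))) (nat_lit 12) (nat_lit 4),
  Rule.mk (nat_lit 3) (nat_lit 94) (Steps.bwd (nat_lit 1) (Steps.bwd (nat_lit 2) (Steps.bwd (nat_lit 1) (Steps.fwd (nat_lit 6144) (Steps.bwd (nat_lit 1) (Steps.fwd (nat_lit 4096) (Steps.fwd (nat_lit 2048) Steps.nil))))))) (nat_lit 16) (nat_lit 0),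
  Rule.mk (nat_lit 1) (nat_lit 94) (Steps.bwd (nat_lit 2) (Steps.bwd (nat_lit 1) (Steps.bwd (nat_lit 2) (Steps.bwd (nat_lit 1) (Steps.bwd (nat_lit 2) (Steps.fwd (nat_lit 2048) (Steps.fwd (nat_lit 4096) Steps.nil))))))) (nat_lit 10) (nat_lit 1),
  Rule.mk (nat_lit 3) (nat_lit 94) (Steps.bwd (nat_lit 1) (Steps.fwd (nat_lit 4096) (Steps.bwd (nat_lit 1) (Steps.fwd (nat_lit 6144) (Steps.fwd (nat_lit 2048) (Steps.bwd (nat_lit 2) (Steps.fwd (nat_lit 2048) Steps.nil))))))) (nat_lit 16) (nat_lit 0),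
  Rule.mk (nat_lit 1) (nat_lit 94) (Steps.bwd (nat_lit 4) (Steps.fwd (nat_lit 2048) (Steps.bwd (nat_lit 3) (Steps.bwd (nat_lit 2) (Steps.fwd (nat_lit 8192) (Steps.bwd (nat_lit 2) (Steps.bwd (nat_lit 3) Steps.nil))))))) (nat_lit 12) (nat_lit 7),
  Rule.mk (nat_lit 2) (nat_lit 94) (Steps.bwd (nat_lit 3) (Steps.fwd (nat_lit 2048) (Steps.bwd (nat_lit 4) (Steps.fwd (nat_lit 2048) (Steps.bwd (nat_lit 3) (Steps.fwd (nat_lit 4096) (Steps.bwd (nat_lit 4) Steps.nil))))))) (nat_lit 12) (nat_lit 5),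
  Rule.mk (nat_lit 1) (nat_lit 94) (Steps.bwd (nat_lit 4) (Steps.fwd (nat_lit 2048) (Steps.fwd (nat_lit 6144) (Steps.fwd (nat_lit 4096) (Steps.fwd (nat_lit 8192) (Steps.fwd (nat_lit 4096) (Steps.bwd (nat_lit 3) Steps.nil))))))) (nat_lit 12) (nat_lit 7),
  Rule.mk (nat_lit 2) (nat_lit 94) (Steps.bwd (nat_lit 4) (Steps.fwd (nat_lit 4096) (Steps.bwd (nat_lit 3) (Steps.bwd (nat_lit 1) (Steps.fwd (nat_lit 8192) (Steps.bwd (nat_lit 1) (Steps.fwd (nat_lit 6144) Steps.nil))))))) (nat_lit 12) (nat_lit 3),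
  Rule.mk (nat_lit 1) (nat_lit 94) (Steps.bwd (nat_lit 3) (Steps.fwd (nat_lit 2048) (Steps.bwd (nat_lit 2) (Steps.bwd (nat_lit 1) (Steps.bwd (nat_lit 3) (Steps.bwd (nat_lit 1) (Steps.bwd (nat_lit 2) Steps.nil))))))) (nat_lit 16) (nat_lit 3),
  Rule.mk (nat_lit 4) (nat_lit 94) (Steps.bwd (nat_lit 1) (Steps.fwd (nat_lit 6144) (Steps.fwd (nat_lit 4096) (Steps.fwd (nat_lit 8192) (Steps.bwd (nat_lit 2) (Steps.bwd (nat_lit 3) (Steps.fwd (nat_lit 2048) Steps.nil))))))) (nat_lit 12) (nat_lit 0),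
  Rule.mk (nat_lit 4) (nat_lit 94) (Steps.bwd (nat_lit 1) (Steps.fwd (nat_lit 8192) (Steps.bwd (nat_lit 1) (Steps.fwd (nat_lit 8192) (Steps.fwd (nat_lit 2048) (Steps.fwd (nat_lit 8192) (Steps.bwd (nat_lit 1) Steps.nil))))))) (nat_lit 20) (nat_lit 0),
  Rule.mk (nat_lit 3) (nat_lit 94) (Steps.bwd (nat_lit 2) (Steps.fwd (nat_lit 8192) (Steps.fwd (nat_lit 4096) (Steps.fwd (nat_lit 6144) (Steps.fwd (nat_lit 2048) (Steps.fwd (nat_lit 8192) (Steps.fwd (nat_lit 2048) Steps.nil))))))) (nat_lit 12) (nat_lit 2),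
  Rule.mk (nat_lit 4) (nat_lit 94) (Steps.bwd (nat_lit 3) (Steps.fwd (nat_lit 4096) (Steps.bwd (nat_lit 1) (Steps.bwd (nat_lit 4) (Steps.bwd (nat_lit 1) (Steps.fwd (nat_lit 6144) (Steps.fwd (nat_lit 4096) Steps.nil))))))) (nat_lit 15) (nat_lit 5),
  Rule.mk (nat_lit 4) (nat_lit 94) (Steps.bwd (nat_lit 1) (Steps.bwd (nat_lit 3) (Steps.fwd (nat_lit 4096) (Steps.fwd (nat_lit 8192) (Steps.bwd (nat_lit 2) (Steps.bwd (nat_lit 3) (Steps.bwd (nat_lit 1) Steps.nil))))))) (nat_lit 12) (nat_lit 0),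
  Rule.mk (nat_lit 1) (nat_lit 94) (Steps.bwd (nat_lit 3) (Steps.bwd (nat_lit 1) (Steps.bwd (nat_lit 3) (Steps.bwd (nat_lit 1) (Steps.fwd (nat_lit 6144) (Steps.bwd (nat_lit 1) (Steps.fwd (nat_lit 6144) Steps.nil))))))) (nat_lit 18) (nat_lit 1),
  Rule.mk (nat_lit 4) (nat_lit 94) (Steps.bwd (nat_lit 2) (Steps.bwd (nat_lit 3) (Steps.bwd (nat_lit 1) (Steps.fwd (nat_lit 8192) (Steps.fwd (nat_lit 2048) (Steps.fwd (nat_lit 6144) (Steps.bwd (nat_lit 2) Steps.nil))))))) (nat_lit 12) (nat_lit 4),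
  Rule.mk (nat_lit 4) (nat_lit 94) (Steps.bwd (nat_lit 1) (Steps.bwd (nat_lit 2) (Steps.bwd (nat_lit 3) (Steps.fwd (nat_lit 8192) (Steps.fwd (nat_lit 4096) (Steps.fwd (nat_lit 6144) (Steps.bwd (nat_lit 1) Steps.nil))))))) (nat_lit 14) (nat_lit 0),
  Rule.mk (nat_lit 3) (nat_lit 94) (Steps.bwd (nat_lit 1) (Steps.fwd (nat_lit 8192) (Steps.fwd (nat_lit 2048) (Steps.bwd (nat_lit 3) (Steps.fwd (nat_lit 4096) (Steps.bwd (nat_lit 4) (Steps.fwd (nat_lit 4096) Steps.nil))))))) (nat_lit 12) (nat_lit 6),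
  Rule.mk (nat_lit 1) (nat_lit 94) (Steps.bwd (nat_lit 2) (Steps.bwd (nat_lit 1) (Steps.bwd (nat_lit 2) (Steps.bwd (nat_lit 1) (Steps.bwd (nat_lit 2) (Steps.fwd (nat_lit 2048) (Steps.bwd (nat_lit 2) Steps.nil))))))) (nat_lit 10) (nat_lit 1),
  Rule.mk (nat_lit 4) (nat_lit 94) (Steps.bwd (nat_lit 2) (Steps.fwd (nat_lit 6144) (Steps.bwd (nat_lit 1) (Steps.fwd (nat_lit 8192) (Steps.fwd (nat_lit 2048) (Steps.fwd (nat_lit 6144) (Steps.bwd (nat_lit 2) Steps.nil))))))) (nat_lit 12) (nat_lit 4),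
  Rule.mk (nat_lit 4) (nat_lit 94) (Steps.bwd (nat_lit 2) (Steps.fwd (nat_lit 6144) (Steps.fwd (nat_lit 2048) (Steps.fwd (nat_lit 8192) (Steps.fwd (nat_lit 2048) (Steps.fwd (nat_lit 6144) (Steps.fwd (nat_lit 4096) Steps.nil))))))) (nat_lit 12) (nat_lit 4),
  Rule.mk (nat_lit 4) (nat_lit 94) (Steps.bwd (nat_lit 1) (Steps.fwd (nat_lit 6144) (Steps.fwd (nat_lit 4096) (Steps.fwd (nat_lit 8192) (Steps.fwd (nat_lit 4096) (Steps.bwd (nat_lit 3) (Steps.fwd (nat_lit 2048) Steps.nil))))))) (nat_lit 12) (nat_lit 0),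
  Rule.mk (nat_lit 3) (nat_lit 94) (Steps.bwd (nat_lit 2) (Steps.fwd (nat_lit 8192) (Steps.fwd (nat_lit 4096) (Steps.fwd (nat_lit 6144) (Steps.fwd (nat_lit 2048) (Steps.bwd (nat_lit 4) (Steps.fwd (nat_lit 2048) Steps.nil))))))) (nat_lit 12) (nat_lit 2),
  Rule.mk (nat_lit 2) (nat_lit 94) (Steps.bwd (nat_lit 1) (Steps.bwd (nat_lit 2) (Steps.bwd (nat_lit 1) (Steps.bwd (nat_lit 2) (Steps.bwd (nat_lit 1) (Steps.fwd (nat_lit 4096) (Steps.bwd (nat_lit 1) Steps.nil))))))) (nat_lit 10) (nat_lit 0),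
  Rule.mk (nat_lit 4) (nat_lit 94) (Steps.bwd (nat_lit 3) (Steps.bwd (nat_lit 2) (Steps.bwd (nat_lit 1) (Steps.bwd (nat_lit 4) (Steps.fwd (nat_lit 2048) (Steps.fwd (nat_lit 6144) (Steps.bwd (nat_lit 2) Steps.nil))))))) (nat_lit 15) (nat_lit 5),
  Rule.mk (nat_lit 4) (nat_lit 94) (Steps.bwd (nat_lit 2) (Steps.fwd (nat_lit 8192) (Steps.bwd (nat_lit 2) (Steps.bwd (nat_lit 4) (Steps.bwd (nat_lit 2) (Steps.fwd (nat_lit 8192) (Steps.bwd (nat_lit 2) Steps.nil))))))) (nat_lit 24) (nat_lit 0),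
  Rule.mk (nat_lit 4) (nat_lit 94) (Steps.bwd (nat_lit 1) (Steps.fwd (nat_lit 8192) (Steps.fwd (nat_lit 2048) (Steps.bwd (nat_lit 4) (Steps.bwd (nat_lit 1) (Steps.fwd (nat_lit 8192) (Steps.bwd (nat_lit 1) Steps.nil))))))) (nat_lit 20) (nat_lit 0),
  Rule.mk (nat_lit 4) (nat_lit 94) (Steps.bwd (nat_lit 3) (Steps.fwd (nat_lit 4096) (Steps.bwd (nat_lit 1) (Steps.fwd (nat_lit 8192) (Steps.fwd (nat_lit 2048) (Steps.fwd (nat_lit 6144) (Steps.bwd (nat_lit 2) Steps.nil))))))) (nat_lit 15) (nat_lit 5),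
  Rule.mk (nat_lit 4) (nat_lit 94) (Steps.bwd (nat_lit 1) (Steps.bwd (nat_lit 3) (Steps.fwd (nat_lit 4096) (Steps.fwd (nat_lit 8192) (Steps.fwd (nat_lit 4096) (Steps.bwd (nat_lit 3) (Steps.bwd (nat_lit 1) Steps.nil))))))) (nat_lit 12) (nat_lit 0),
  Rule.mk (nat_lit 4) (nat_lit 94) (Steps.bwd (nat_lit 1) (Steps.bwd (nat_lit 2) (Steps.bwd (nat_lit 3) (Steps.fwd (nat_lit 8192) (Steps.bwd (nat_lit 2) (Steps.bwd (nat_lit 3) (Steps.fwd (nat_lit 2048) Steps.nil))))))) (nat_lit 14) (nat_lit 0),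
  Rule.mk (nat_lit 3) (nat_lit 94) (Steps.bwd (nat_lit 2) (Steps.fwd (nat_lit 8192) (Steps.bwd (nat_lit 2) (Steps.bwd (nat_lit 3) (Steps.bwd (nat_lit 1) (Steps.fwd (nat_lit 8192) (Steps.bwd (nat_lit 1) Steps.nil))))))) (nat_lit 12) (nat_lit 2),
  Rule.mk (nat_lit 4) (nat_lit 94) (Steps.bwd (nat_lit 3) (Steps.fwd (nat_lit 4096) (Steps.bwd (nat_lit 1) (Steps.fwd (nat_lit 8192) (Steps.fwd (nat_lit 2048) (Steps.bwd (nat_lit 3) (Steps.bwd (nat_lit 2) Steps.nil))))))) (nat_lit 15) (nat_lit 5),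
  Rule.mk (nat_lit 3) (nat_lit 94) (Steps.bwd (nat_lit 1) (Steps.fwd (nat_lit 8192) (Steps.fwd (nat_lit 2048) (Steps.fwd (nat_lit 6144) (Steps.bwd (nat_lit 2) (Steps.bwd (nat_lit 4) (Steps.bwd (nat_lit 2) Steps.nil))))))) (nat_lit 12) (nat_lit 6)]
noncomputable def R_6 : List (Rule) := [Rule.mk (nat_lit 2) (nat_lit 94) (Steps.bwd (nat_lit 1) (Steps.fwd (nat_lit 6144) (Steps.bwd (nat_lit 1) (Steps.bwd (nat_lit 2) (Steps.bwd (nat_lit 1) (Steps.bwd (nat_lit 3) (Steps.bwd (nat_lit 1) Steps.nil))))))) (nat_lit 16) (nat_lit 2),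
  Rule.mk (nat_lit 2) (nat_lit 94) (Steps.bwd (nat_lit 4) (Steps.bwd (nat_lit 2) (Steps.bwd (nat_lit 3) (Steps.bwd (nat_lit 1) (Steps.fwd (nat_lit 8192) (Steps.bwd (nat_lit 1) (Steps.bwd (nat_lit 3) Steps.nil))))))) (nat_lit 12) (nat_lit 3),
  Rule.mk (nat_lit 3) (nat_lit 94) (Steps.bwd (nat_lit 4) (Steps.bwd (nat_lit 2) (Steps.bwd (nat_lit 3) (Steps.bwd (nat_lit 1) (Steps.fwd (nat_lit 8192) (Steps.bwd (nat_lit 1) (Steps.fwd (nat_lit 4096) Steps.nil))))))) (nat_lit 14) (nat_lit 3),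
  Rule.mk (nat_lit 1) (nat_lit 142) (Steps.bwd (nat_lit 4) (Steps.bwd (nat_lit 2) (Steps.fwd (nat_lit 2048) (Steps.bwd (nat_lit 2) (Steps.fwd (nat_lit 8192) (Steps.fwd (nat_lit 2048) (Steps.bwd (nat_lit 4) (Steps.fwd (nat_lit 6144) (Steps.fwd (nat_lit 2048) (Steps.fwd (nat_lit 6144) (Steps.fwd (nat_lit 8192) Steps.nil))))))))))) (nat_lit 48) (nat_lit 10),
  Rule.mk (nat_lit 3) (nat_lit 94) (Steps.bwd (nat_lit 4) (Steps.fwd (nat_lit 6144) (Steps.fwd (nat_lit 8192) (Steps.bwd (nat_lit 3) (Steps.fwd (nat_lit 8192) (Steps.fwd (nat_lit 6144) (Steps.fwd (nat_lit 8192) Steps.nil))))))) (nat_lit 26) (nat_lit 1),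
  Rule.mk (nat_lit 4) (nat_lit 94) (Steps.bwd (nat_lit 2) (Steps.fwd (nat_lit 6144) (Steps.bwd (nat_lit 1) (Steps.bwd (nat_lit 4) (Steps.fwd (nat_lit 2048) (Steps.fwd (nat_lit 6144) (Steps.bwd (nat_lit 2) Steps.nil))))))) (nat_lit 12) (nat_lit 4),
  Rule.mk (nat_lit 4) (nat_lit 94) (Steps.bwd (nat_lit 1) (Steps.bwd (nat_lit 2) (Steps.fwd (nat_lit 6144) (Steps.bwd (nat_lit 4) (Steps.bwd (nat_lit 2) (Steps.bwd (nat_lit 3) (Steps.fwd (nat_lit 2048) Steps.nil))))))) (nat_lit 14) (nat_lit 0),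
  Rule.mk (nat_lit 4) (nat_lit 94) (Steps.bwd (nat_lit 3) (Steps.fwd (nat_lit 8192) (Steps.fwd (nat_lit 6144) (Steps.bwd (nat_lit 4) (Steps.fwd (nat_lit 6144) (Steps.bwd (nat_lit 4) (Steps.fwd (nat_lit 6144) Steps.nil))))))) (nat_lit 26) (nat_lit 0),
  Rule.mk (nat_lit 4) (nat_lit 94) (Steps.bwd (nat_lit 3) (Steps.bwd (nat_lit 4) (Steps.fwd (nat_lit 6144) (Steps.fwd (nat_lit 8192) (Steps.bwd (nat_lit 3) (Steps.fwd (nat_lit 8192) (Steps.bwd (nat_lit 3) Steps.nil))))))) (nat_lit 26) (nat_lit 0),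
  Rule.mk (nat_lit 4) (nat_lit 118) (Steps.bwd (nat_lit 1) (Steps.bwd (nat_lit 3) (Steps.bwd (nat_lit 4) (Steps.bwd (nat_lit 2) (Steps.fwd (nat_lit 8192) (Steps.bwd (nat_lit 2) (Steps.fwd (nat_lit 8192) (Steps.bwd (nat_lit 3) (Steps.bwd (nat_lit 1) Steps.nil))))))))) (nat_lit 44) (nat_lit 0),
  Rule.mk (nat_lit 4) (nat_lit 94) (Steps.bwd (nat_lit 1) (Steps.bwd (nat_lit 2) (Steps.fwd (nat_lit 6144) (Steps.fwd (nat_lit 8192) (Steps.bwd (nat_lit 2) (Steps.fwd (nat_lit 6144) (Steps.bwd (nat_lit 1) Steps.nil))))))) (nat_lit 14) (nat_lit 0),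
  Rule.mk (nat_lit 4) (nat_lit 94) (Steps.bwd (nat_lit 3) (Steps.bwd (nat_lit 2) (Steps.fwd (nat_lit 2048) (Steps.bwd (nat_lit 4) (Steps.bwd (nat_lit 1) (Steps.fwd (nat_lit 6144) (Steps.bwd (nat_lit 2) Steps.nil))))))) (nat_lit 15) (nat_lit 5),
  Rule.mk (nat_lit 4) (nat_lit 94) (Steps.bwd (nat_lit 3) (Steps.fwd (nat_lit 8192) (Steps.fwd (nat_lit 6144) (Steps.fwd (nat_lit 8192) (Steps.fwd (nat_lit 6144) (Steps.bwd (nat_lit 4) (Steps.bwd (nat_lit 3) Steps.nil))))))) (nat_lit 26) (nat_lit 0),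
  Rule.mk (nat_lit 4) (nat_lit 118) (Steps.bwd (nat_lit 1) (Steps.bwd (nat_lit 3) (Steps.fwd (nat_lit 8192) (Steps.fwd (nat_lit 4096) (Steps.fwd (nat_lit 8192) (Steps.bwd (nat_lit 2) (Steps.fwd (nat_lit 8192) (Steps.bwd (nat_lit 3) (Steps.bwd (nat_lit 1) Steps.nil))))))))) (nat_lit 44) (nat_lit 0),
  Rule.mk (nat_lit 3) (nat_lit 94) (Steps.bwd (nat_lit 2) (Steps.fwd (nat_lit 8192) (Steps.bwd (nat_lit 2) (Steps.bwd (nat_lit 3) (Steps.fwd (nat_lit 2048) (Steps.fwd (nat_lit 8192) (Steps.bwd (nat_lit 1) Steps.nil))))))) (nat_lit 12) (nat_lit 2),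
  Rule.mk (nat_lit 4) (nat_lit 94) (Steps.bwd (nat_lit 2) (Steps.fwd (nat_lit 8192) (Steps.bwd (nat_lit 2) (Steps.bwd (nat_lit 4) (Steps.fwd (nat_lit 4096) (Steps.bwd (nat_lit 4) (Steps.fwd (nat_lit 4096) Steps.nil))))))) (nat_lit 24) (nat_lit 0),
  Rule.mk (nat_lit 3) (nat_lit 94) (Steps.bwd (nat_lit 1) (Steps.bwd (nat_lit 2) (Steps.bwd (nat_lit 1) (Steps.bwd (nat_lit 3) (Steps.bwd (nat_lit 1) (Steps.fwd (nat_lit 4096) (Steps.fwd (nat_lit 2048) Steps.nil))))))) (nat_lit 16) (nat_lit 0),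
  Rule.mk (nat_lit 4) (nat_lit 118) (Steps.bwd (nat_lit 1) (Steps.bwd (nat_lit 2) (Steps.fwd (nat_lit 8192) (Steps.fwd (nat_lit 6144) (Steps.fwd (nat_lit 8192) (Steps.bwd (nat_lit 3) (Steps.bwd (nat_lit 4) (Steps.bwd (nat_lit 2) (Steps.bwd (nat_lit 1) Steps.nil))))))))) (nat_lit 40) (nat_lit 0),
  Rule.mk (nat_lit 2) (nat_lit 94) (Steps.bwd (nat_lit 4) (Steps.bwd (nat_lit 2) (Steps.bwd (nat_lit 3) (Steps.bwd (nat_lit 1) (Steps.bwd (nat_lit 4) (Steps.fwd (nat_lit 2048) (Steps.fwd (nat_lit 6144) Steps.nil))))))) (nat_lit 12) (nat_lit 3),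
  Rule.mk (nat_lit 4) (nat_lit 94) (Steps.bwd (nat_lit 1) (Steps.fwd (nat_lit 4096) (Steps.bwd (nat_lit 3) (Steps.fwd (nat_lit 8192) (Steps.bwd (nat_lit 2) (Steps.bwd (nat_lit 3) (Steps.bwd (nat_lit 1) Steps.nil))))))) (nat_lit 14) (nat_lit 0),
  Rule.mk (nat_lit 4) (nat_lit 94) (Steps.bwd (nat_lit 3) (Steps.fwd (nat_lit 4096) (Steps.bwd (nat_lit 1) (Steps.fwd (nat_lit 8192) (Steps.bwd (nat_lit 1) (Steps.fwd (nat_lit 6144) (Steps.fwd (nat_lit 4096) Steps.nil))))))) (nat_lit 15) (nat_lit 5),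
  Rule.mk (nat_lit 1) (nat_lit 94) (Steps.bwd (nat_lit 3) (Steps.bwd (nat_lit 1) (Steps.fwd (nat_lit 4096) (Steps.bwd (nat_lit 1) (Steps.fwd (nat_lit 6144) (Steps.fwd (nat_lit 2048) (Steps.bwd (nat_lit 2) Steps.nil))))))) (nat_lit 16) (nat_lit 3),
  Rule.mk (nat_lit 4) (nat_lit 94) (Steps.bwd (nat_lit 3) (Steps.fwd (nat_lit 8192) (Steps.fwd (nat_lit 6144) (Steps.bwd (nat_lit 4) (Steps.fwd (nat_lit 6144) (Steps.bwd (nat_lit 4) (Steps.bwd (nat_lit 3) Steps.nil))))))) (nat_lit 26) (nat_lit 0),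
  Rule.mk (nat_lit 2) (nat_lit 94) (Steps.bwd (nat_lit 1) (Steps.bwd (nat_lit 2) (Steps.bwd (nat_lit 1) (Steps.fwd (nat_lit 4096) (Steps.bwd (nat_lit 1) (Steps.bwd (nat_lit 2) (Steps.bwd (nat_lit 1) Steps.nil))))))) (nat_lit 10) (nat_lit 0),
  Rule.mk (nat_lit 4) (nat_lit 94) (Steps.bwd (nat_lit 1) (Steps.bwd (nat_lit 2) (Steps.fwd (nat_lit 6144) (Steps.fwd (nat_lit 8192) (Steps.bwd (nat_lit 2) (Steps.bwd (nat_lit 3) (Steps.bwd (nat_lit 1) Steps.nil))))))) (nat_lit 14) (nat_lit 0),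
  Rule.mk (nat_lit 4) (nat_lit 94) (Steps.bwd (nat_lit 3) (Steps.bwd (nat_lit 2) (Steps.bwd (nat_lit 1) (Steps.fwd (nat_lit 8192) (Steps.fwd (nat_lit 2048) (Steps.fwd (nat_lit 6144) (Steps.bwd (nat_lit 2) Steps.nil))))))) (nat_lit 15) (nat_lit 5),
  Rule.mk (nat_lit 4) (nat_lit 94) (Steps.bwd (nat_lit 1) (Steps.bwd (nat_lit 3) (Steps.bwd (nat_lit 2) (Steps.fwd (nat_lit 8192) (Steps.bwd (nat_lit 2) (Steps.fwd (nat_lit 6144) (Steps.bwd (nat_lit 1) Steps.nil))))))) (nat_lit 12) (nat_lit 0),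
  Rule.mk (nat_lit 3) (nat_lit 94) (Steps.bwd (nat_lit 2) (Steps.fwd (nat_lit 8192) (Steps.bwd (nat_lit 2) (Steps.bwd (nat_lit 3) (Steps.fwd (nat_lit 2048) (Steps.bwd (nat_lit 4) (Steps.fwd (nat_lit 2048) Steps.nil))))))) (nat_lit 12) (nat_lit 2),
  Rule.mk (nat_lit 4) (nat_lit 94) (Steps.bwd (nat_lit 2) (Steps.fwd (nat_lit 8192) (Steps.bwd (nat_lit 2) (Steps.fwd (nat_lit 8192) (Steps.fwd (nat_lit 4096) (Steps.bwd (nat_lit 4) (Steps.bwd (nat_lit 2) Steps.nil))))))) (nat_lit 24) (nat_lit 0),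
  Rule.mk (nat_lit 2) (nat_lit 94) (Steps.bwd (nat_lit 1) (Steps.bwd (nat_lit 2) (Steps.bwd (nat_lit 1) (Steps.fwd (nat_lit 4096) (Steps.fwd (nat_lit 2048) (Steps.fwd (nat_lit 4096) (Steps.bwd (nat_lit 1) Steps.nil))))))) (nat_lit 10) (nat_lit 0),
  Rule.mk (nat_lit 3) (nat_lit 94) (Steps.bwd (nat_lit 1) (Steps.fwd (nat_lit 8192) (Steps.fwd (nat_lit 2048) (Steps.fwd (nat_lit 6144) (Steps.fwd (nat_lit 4096) (Steps.bwd (nat_lit 4) (Steps.bwd (nat_lit 2) Steps.nil))))))) (nat_lit 12) (nat_lit 6),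
  Rule.mk (nat_lit 4) (nat_lit 118) (Steps.bwd (nat_lit 1) (Steps.bwd (nat_lit 2) (Steps.fwd (nat_lit 8192) (Steps.bwd (nat_lit 3) (Steps.bwd (nat_lit 4) (Steps.fwd (nat_lit 6144) (Steps.bwd (nat_lit 4) (Steps.fwd (nat_lit 4096) (Steps.fwd (nat_lit 2048) Steps.nil))))))))) (nat_lit 40) (nat_lit 0),
  Rule.mk (nat_lit 2) (nat_lit 94) (Steps.bwd (nat_lit 4) (Steps.fwd (nat_lit 4096) (Steps.bwd (nat_lit 3) (Steps.fwd (nat_lit 2048) (Steps.bwd (nat_lit 4) (Steps.bwd (nat_lit 1) (Steps.fwd (nat_lit 6144) Steps.nil))))))) (nat_lit 12) (nat_lit 3),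
  Rule.mk (nat_lit 3) (nat_lit 94) (Steps.bwd (nat_lit 4) (Steps.fwd (nat_lit 4096) (Steps.bwd (nat_lit 3) (Steps.fwd (nat_lit 2048) (Steps.bwd (nat_lit 4) (Steps.bwd (nat_lit 1) (Steps.bwd (nat_lit 2) Steps.nil))))))) (nat_lit 14) (nat_lit 3),
  Rule.mk (nat_lit 4) (nat_lit 94) (Steps.bwd (nat_lit 1) (Steps.fwd (nat_lit 6144) (Steps.fwd (nat_lit 4096) (Steps.fwd (nat_lit 8192) (Steps.fwd (nat_lit 4096) (Steps.bwd (nat_lit 3) (Steps.bwd (nat_lit 1) Steps.nil))))))) (nat_lit 12) (nat_lit 0),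
  Rule.mk (nat_lit 2) (nat_lit 94) (Steps.bwd (nat_lit 1) (Steps.bwd (nat_lit 2) (Steps.bwd (nat_lit 1) (Steps.fwd (nat_lit 4096) (Steps.fwd (nat_lit 2048) (Steps.bwd (nat_lit 2) (Steps.fwd (nat_lit 2048) Steps.nil))))))) (nat_lit 10) (nat_lit 0),
  Rule.mk (nat_lit 3) (nat_lit 94) (Steps.bwd (nat_lit 1) (Steps.fwd (nat_lit 8192) (Steps.bwd (nat_lit 1) (Steps.fwd (nat_lit 6144) (Steps.bwd (nat_lit 2) (Steps.bwd (nat_lit 4) (Steps.bwd (nat_lit 2) Steps.nil))))))) (nat_lit 12) (nat_lit 6),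
  Rule.mk (nat_lit 4) (nat_lit 94) (Steps.bwd (nat_lit 1) (Steps.fwd (nat_lit 6144) (Steps.fwd (nat_lit 4096) (Steps.fwd (nat_lit 8192) (Steps.bwd (nat_lit 2) (Steps.fwd (nat_lit 6144) (Steps.bwd (nat_lit 1) Steps.nil))))))) (nat_lit 12) (nat_lit 0),
  Rule.mk (nat_lit 1) (nat_lit 94) (Steps.bwd (nat_lit 4) (Steps.bwd (nat_lit 1) (Steps.fwd (nat_lit 8192) (Steps.fwd (nat_lit 2048) (Steps.bwd (nat_lit 4) (Steps.bwd (nat_lit 1) (Steps.fwd (nat_lit 8192) Steps.nil))))))) (nat_lit 20) (nat_lit 1),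
  Rule.mk (nat_lit 3) (nat_lit 94) (Steps.bwd (nat_lit 4) (Steps.fwd (nat_lit 6144) (Steps.fwd (nat_lit 8192) (Steps.fwd (nat_lit 6144) (Steps.fwd (nat_lit 8192) (Steps.bwd (nat_lit 3) (Steps.fwd (nat_lit 8192) Steps.nil))))))) (nat_lit 26) (nat_lit 1),
  Rule.mk (nat_lit 4) (nat_lit 94) (Steps.bwd (nat_lit 2) (Steps.fwd (nat_lit 6144) (Steps.bwd (nat_lit 1) (Steps.bwd (nat_lit 4) (Steps.bwd (nat_lit 1) (Steps.fwd (nat_lit 6144) (Steps.bwd (nat_lit 2) Steps.nil))))))) (nat_lit 12) (nat_lit 4),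
  Rule.mk (nat_lit 4) (nat_lit 94) (Steps.bwd (nat_lit 3) (Steps.fwd (nat_lit 8192) (Steps.fwd (nat_lit 6144) (Steps.bwd (nat_lit 4) (Steps.bwd (nat_lit 3) (Steps.bwd (nat_lit 4) (Steps.fwd (nat_lit 6144) Steps.nil))))))) (nat_lit 26) (nat_lit 0),
  Rule.mk (nat_lit 4) (nat_lit 94) (Steps.bwd (nat_lit 3) (Steps.bwd (nat_lit 4) (Steps.bwd (nat_lit 3) (Steps.bwd (nat_lit 4) (Steps.bwd (nat_lit 3) (Steps.fwd (nat_lit 8192) (Steps.fwd (nat_lit 6144) Steps.nil))))))) (nat_lit 26) (nat_lit 0),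
  Rule.mk (nat_lit 4) (nat_lit 94) (Steps.bwd (nat_lit 1) (Steps.fwd (nat_lit 8192) (Steps.fwd (nat_lit 2048) (Steps.bwd (nat_lit 4) (Steps.fwd (nat_lit 2048) (Steps.fwd (nat_lit 8192) (Steps.fwd (nat_lit 2048) Steps.nil))))))) (nat_lit 20) (nat_lit 0),
  Rule.mk (nat_lit 4) (nat_lit 94) (Steps.bwd (nat_lit 2) (Steps.fwd (nat_lit 6144) (Steps.fwd (nat_lit 2048) (Steps.fwd (nat_lit 8192) (Steps.bwd (nat_lit 1) (Steps.bwd (nat_lit 3) (Steps.fwd (nat_lit 4096) Steps.nil))))))) (nat_lit 12) (nat_lit 4),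
  Rule.mk (nat_lit 4) (nat_lit 94) (Steps.bwd (nat_lit 2) (Steps.fwd (nat_lit 8192) (Steps.bwd (nat_lit 2) (Steps.bwd (nat_lit 4) (Steps.bwd (nat_lit 2) (Steps.fwd (nat_lit 8192) (Steps.fwd (nat_lit 4096) Steps.nil))))))) (nat_lit 24) (nat_lit 0),
  Rule.mk (nat_lit 4) (nat_lit 118) (Steps.bwd (nat_lit 1) (Steps.bwd (nat_lit 2) (Steps.fwd (nat_lit 8192) (Steps.bwd (nat_lit 3) (Steps.bwd (nat_lit 4) (Steps.bwd (nat_lit 3) (Steps.fwd (nat_lit 8192) (Steps.fwd (nat_lit 4096) (Steps.fwd (nat_lit 2048) Steps.nil))))))))) (nat_lit 40) (nat_lit 0),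
  Rule.mk (nat_lit 2) (nat_lit 94) (Steps.bwd (nat_lit 4) (Steps.bwd (nat_lit 2) (Steps.bwd (nat_lit 3) (Steps.fwd (nat_lit 2048) (Steps.bwd (nat_lit 4) (Steps.bwd (nat_lit 1) (Steps.fwd (nat_lit 6144) Steps.nil))))))) (nat_lit 12) (nat_lit 3),
  Rule.mk (nat_lit 3) (nat_lit 94) (Steps.bwd (nat_lit 4) (Steps.bwd (nat_lit 2) (Steps.bwd (nat_lit 3) (Steps.fwd (nat_lit 2048) (Steps.bwd (nat_lit 4) (Steps.bwd (nat_lit 1) (Steps.bwd (nat_lit 2) Steps.nil))))))) (nat_lit 14) (nat_lit 3),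
  Rule.mk (nat_lit 2) (nat_lit 94) (Steps.bwd (nat_lit 4) (Steps.bwd (nat_lit 2) (Steps.fwd (nat_lit 8192) (Steps.fwd (nat_lit 4096) (Steps.fwd (nat_lit 8192) (Steps.fwd (nat_lit 4096) (Steps.fwd (nat_lit 8192) Steps.nil))))))) (nat_lit 24) (nat_lit 1),
  Rule.mk (nat_lit 4) (nat_lit 118) (Steps.bwd (nat_lit 1) (Steps.fwd (nat_lit 4096) (Steps.bwd (nat_lit 4) (Steps.fwd (nat_lit 6144) (Steps.bwd (nat_lit 4) (Steps.bwd (nat_lit 3) (Steps.bwd (nat_lit 4) (Steps.fwd (nat_lit 4096) (Steps.fwd (nat_lit 2048) Steps.nil))))))))) (nat_lit 40) (nat_lit 0),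
  Rule.mk (nat_lit 3) (nat_lit 94) (Steps.bwd (nat_lit 4) (Steps.bwd (nat_lit 2) (Steps.fwd (nat_lit 6144) (Steps.bwd (nat_lit 1) (Steps.bwd (nat_lit 4) (Steps.fwd (nat_lit 2048) (Steps.fwd (nat_lit 4096) Steps.nil))))))) (nat_lit 14) (nat_lit 3),
  Rule.mk (nat_lit 3) (nat_lit 94) (Steps.bwd (nat_lit 1) (Steps.bwd (nat_lit 4) (Steps.fwd (nat_lit 2048) (Steps.fwd (nat_lit 6144) (Steps.fwd (nat_lit 4096) (Steps.fwd (nat_lit 8192) (Steps.fwd (nat_lit 4096) Steps.nil))))))) (nat_lit 12) (nat_lit 6),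
  Rule.mk (nat_lit 4) (nat_lit 94) (Steps.bwd (nat_lit 1) (Steps.fwd (nat_lit 6144) (Steps.bwd (nat_lit 2) (Steps.fwd (nat_lit 8192) (Steps.bwd (nat_lit 2) (Steps.fwd (nat_lit 6144) (Steps.bwd (nat_lit 1) Steps.nil))))))) (nat_lit 12) (nat_lit 0),
  Rule.mk (nat_lit 4) (nat_lit 94) (Steps.bwd (nat_lit 2) (Steps.fwd (nat_lit 6144) (Steps.bwd (nat_lit 1) (Steps.fwd (nat_lit 8192) (Steps.fwd (nat_lit 2048) (Steps.bwd (nat_lit 3) (Steps.fwd (nat_lit 4096) Steps.nil))))))) (nat_lit 12) (nat_lit 4),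
  Rule.mk (nat_lit 4) (nat_lit 94) (Steps.bwd (nat_lit 3) (Steps.fwd (nat_lit 8192) (Steps.fwd (nat_lit 6144) (Steps.fwd (nat_lit 8192) (Steps.fwd (nat_lit 6144) (Steps.fwd (nat_lit 8192) (Steps.bwd (nat_lit 3) Steps.nil))))))) (nat_lit 26) (nat_lit 0),
  Rule.mk (nat_lit 4) (nat_lit 94) (Steps.bwd (nat_lit 2) (Steps.bwd (nat_lit 3) (Steps.bwd (nat_lit 1) (Steps.fwd (nat_lit 8192) (Steps.bwd (nat_lit 1) (Steps.bwd (nat_lit 3) (Steps.fwd (nat_lit 4096) Steps.nil))))))) (nat_lit 12) (nat_lit 4),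
  Rule.mk (nat_lit 2) (nat_lit 94) (Steps.bwd (nat_lit 1) (Steps.bwd (nat_lit 2) (Steps.fwd (nat_lit 2048) (Steps.fwd (nat_lit 4096) (Steps.bwd (nat_lit 1) (Steps.bwd (nat_lit 2) (Steps.fwd (nat_lit 2048) Steps.nil))))))) (nat_lit 10) (nat_lit 0),
  Rule.mk (nat_lit 2) (nat_lit 94) (Steps.bwd (nat_lit 4) (Steps.bwd (nat_lit 2) (Steps.fwd (nat_lit 6144) (Steps.bwd (nat_lit 1) (Steps.fwd (nat_lit 8192) (Steps.bwd (nat_lit 1) (Steps.bwd (nat_lit 3) Steps.nil))))))) (nat_lit 12) (nat_lit 3),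
  Rule.mk (nat_lit 3) (nat_lit 94) (Steps.bwd (nat_lit 4) (Steps.bwd (nat_lit 2) (Steps.fwd (nat_lit 6144) (Steps.bwd (nat_lit 1) (Steps.fwd (nat_lit 8192) (Steps.bwd (nat_lit 1) (Steps.bwd (nat_lit 2) Steps.nil))))))) (nat_lit 14) (nat_lit 3),
  Rule.mk (nat_lit 3) (nat_lit 94) (Steps.bwd (nat_lit 1) (Steps.bwd (nat_lit 4) (Steps.fwd (nat_lit 2048) (Steps.fwd (nat_lit 6144) (Steps.fwd (nat_lit 4096) (Steps.bwd (nat_lit 4) (Steps.bwd (nat_lit 2) Steps.nil))))))) (nat_lit 12) (nat_lit 6),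
  Rule.mk (nat_lit 4) (nat_lit 94) (Steps.bwd (nat_lit 1) (Steps.fwd (nat_lit 6144) (Steps.fwd (nat_lit 4096) (Steps.bwd (nat_lit 4) (Steps.bwd (nat_lit 2) (Steps.bwd (nat_lit 3) (Steps.bwd (nat_lit 1) Steps.nil))))))) (nat_lit 12) (nat_lit 0),
  Rule.mk (nat_lit 4) (nat_lit 94) (Steps.bwd (nat_lit 2) (Steps.fwd (nat_lit 6144) (Steps.bwd (nat_lit 1) (Steps.fwd (nat_lit 8192) (Steps.bwd (nat_lit 1) (Steps.bwd (nat_lit 3) (Steps.fwd (nat_lit 4096) Steps.nil))))))) (nat_lit 12) (nat_lit 4),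
  Rule.mk (nat_lit 2) (nat_lit 94) (Steps.bwd (nat_lit 1) (Steps.bwd (nat_lit 2) (Steps.bwd (nat_lit 1) (Steps.fwd (nat_lit 4096) (Steps.bwd (nat_lit 1) (Steps.fwd (nat_lit 4096) (Steps.fwd (nat_lit 2048) Steps.nil))))))) (nat_lit 10) (nat_lit 0)]
noncomputable def R_7 : List (Rule) := [Rule.mk (nat_lit 3) (nat_lit 94) (Steps.bwd (nat_lit 1) (Steps.fwd (nat_lit 8192) (Steps.fwd (nat_lit 2048) (Steps.fwd (nat_lit 6144) (Steps.fwd (nat_lit 4096) (Steps.bwd (nat_lit 4) (Steps.fwd (nat_lit 4096) Steps.nil))))))) (nat_lit 12) (nat_lit 6),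
  Rule.mk (nat_lit 4) (nat_lit 94) (Steps.bwd (nat_lit 1) (Steps.fwd (nat_lit 6144) (Steps.bwd (nat_lit 2) (Steps.fwd (nat_lit 8192) (Steps.bwd (nat_lit 2) (Steps.fwd (nat_lit 6144) (Steps.fwd (nat_lit 2048) Steps.nil))))))) (nat_lit 12) (nat_lit 0),
  Rule.mk (nat_lit 1) (nat_lit 94) (Steps.bwd (nat_lit 4) (Steps.fwd (nat_lit 2048) (Steps.bwd (nat_lit 4) (Steps.fwd (nat_lit 2048) (Steps.bwd (nat_lit 4) (Steps.bwd (nat_lit 1) (Steps.fwd (nat_lit 8192) Steps.nil))))))) (nat_lit 20) (nat_lit 1),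
  Rule.mk (nat_lit 3) (nat_lit 94) (Steps.bwd (nat_lit 4) (Steps.bwd (nat_lit 3) (Steps.fwd (nat_lit 8192) (Steps.fwd (nat_lit 6144) (Steps.fwd (nat_lit 8192) (Steps.bwd (nat_lit 3) (Steps.fwd (nat_lit 8192) Steps.nil))))))) (nat_lit 26) (nat_lit 1),
  Rule.mk (nat_lit 4) (nat_lit 94) (Steps.bwd (nat_lit 1) (Steps.bwd (nat_lit 2) (Steps.fwd (nat_lit 6144) (Steps.bwd (nat_lit 4) (Steps.bwd (nat_lit 2) (Steps.fwd (nat_lit 6144) (Steps.bwd (nat_lit 1) Steps.nil))))))) (nat_lit 14) (nat_lit 0),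
  Rule.mk (nat_lit 4) (nat_lit 94) (Steps.bwd (nat_lit 3) (Steps.fwd (nat_lit 8192) (Steps.bwd (nat_lit 3) (Steps.bwd (nat_lit 4) (Steps.bwd (nat_lit 3) (Steps.bwd (nat_lit 4) (Steps.fwd (nat_lit 6144) Steps.nil))))))) (nat_lit 26) (nat_lit 0),
  Rule.mk (nat_lit 1) (nat_lit 94) (Steps.bwd (nat_lit 4) (Steps.fwd (nat_lit 2048) (Steps.bwd (nat_lit 3) (Steps.bwd (nat_lit 2) (Steps.bwd (nat_lit 4) (Steps.fwd (nat_lit 4096) (Steps.bwd (nat_lit 3) Steps.nil))))))) (nat_lit 12) (nat_lit 7),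
  Rule.mk (nat_lit 4) (nat_lit 94) (Steps.bwd (nat_lit 3) (Steps.bwd (nat_lit 4) (Steps.bwd (nat_lit 3) (Steps.fwd (nat_lit 8192) (Steps.fwd (nat_lit 6144) (Steps.bwd (nat_lit 4) (Steps.fwd (nat_lit 6144) Steps.nil))))))) (nat_lit 26) (nat_lit 0),
  Rule.mk (nat_lit 4) (nat_lit 94) (Steps.bwd (nat_lit 1) (Steps.fwd (nat_lit 8192) (Steps.fwd (nat_lit 2048) (Steps.fwd (nat_lit 8192) (Steps.bwd (nat_lit 1) (Steps.fwd (nat_lit 8192) (Steps.bwd (nat_lit 1) Steps.nil))))))) (nat_lit 20) (nat_lit 0),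
  Rule.mk (nat_lit 4) (nat_lit 94) (Steps.bwd (nat_lit 2) (Steps.fwd (nat_lit 6144) (Steps.fwd (nat_lit 2048) (Steps.fwd (nat_lit 8192) (Steps.fwd (nat_lit 2048) (Steps.bwd (nat_lit 3) (Steps.bwd (nat_lit 2) Steps.nil))))))) (nat_lit 12) (nat_lit 4),
  Rule.mk (nat_lit 4) (nat_lit 94) (Steps.bwd (nat_lit 3) (Steps.bwd (nat_lit 2) (Steps.fwd (nat_lit 2048) (Steps.bwd (nat_lit 4) (Steps.fwd (nat_lit 2048) (Steps.fwd (nat_lit 6144) (Steps.fwd (nat_lit 4096) Steps.nil))))))) (nat_lit 15) (nat_lit 5),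
  Rule.mk (nat_lit 4) (nat_lit 94) (Steps.bwd (nat_lit 1) (Steps.fwd (nat_lit 8192) (Steps.bwd (nat_lit 1) (Steps.fwd (nat_lit 8192) (Steps.fwd (nat_lit 2048) (Steps.bwd (nat_lit 4) (Steps.bwd (nat_lit 1) Steps.nil))))))) (nat_lit 20) (nat_lit 0),
  Rule.mk (nat_lit 4) (nat_lit 94) (Steps.bwd (nat_lit 3) (Steps.fwd (nat_lit 4096) (Steps.bwd (nat_lit 1) (Steps.fwd (nat_lit 8192) (Steps.fwd (nat_lit 2048) (Steps.fwd (nat_lit 6144) (Steps.fwd (nat_lit 4096) Steps.nil))))))) (nat_lit 15) (nat_lit 5),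
  Rule.mk (nat_lit 3) (nat_lit 94) (Steps.bwd (nat_lit 1) (Steps.fwd (nat_lit 6144) (Steps.bwd (nat_lit 1) (Steps.bwd (nat_lit 3) (Steps.fwd (nat_lit 2048) (Steps.fwd (nat_lit 6144) (Steps.bwd (nat_lit 1) Steps.nil))))))) (nat_lit 18) (nat_lit 0),
  Rule.mk (nat_lit 4) (nat_lit 94) (Steps.bwd (nat_lit 2) (Steps.fwd (nat_lit 6144) (Steps.fwd (nat_lit 2048) (Steps.bwd (nat_lit 4) (Steps.fwd (nat_lit 2048) (Steps.bwd (nat_lit 3) (Steps.bwd (nat_lit 2) Steps.nil))))))) (nat_lit 12) (nat_lit 4),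
  Rule.mk (nat_lit 3) (nat_lit 94) (Steps.bwd (nat_lit 1) (Steps.fwd (nat_lit 8192) (Steps.fwd (nat_lit 2048) (Steps.bwd (nat_lit 3) (Steps.bwd (nat_lit 2) (Steps.bwd (nat_lit 4) (Steps.bwd (nat_lit 2) Steps.nil))))))) (nat_lit 12) (nat_lit 6),
  Rule.mk (nat_lit 3) (nat_lit 94) (Steps.bwd (nat_lit 1) (Steps.fwd (nat_lit 4096) (Steps.fwd (nat_lit 2048) (Steps.bwd (nat_lit 3) (Steps.bwd (nat_lit 1) (Steps.fwd (nat_lit 4096) (Steps.fwd (nat_lit 2048) Steps.nil))))))) (nat_lit 16) (nat_lit 0),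
  Rule.mk (nat_lit 4) (nat_lit 94) (Steps.bwd (nat_lit 1) (Steps.bwd (nat_lit 2) (Steps.fwd (nat_lit 6144) (Steps.fwd (nat_lit 8192) (Steps.fwd (nat_lit 4096) (Steps.bwd (nat_lit 3) (Steps.fwd (nat_lit 2048) Steps.nil))))))) (nat_lit 14) (nat_lit 0),
  Rule.mk (nat_lit 1) (nat_lit 94) (Steps.bwd (nat_lit 2) (Steps.bwd (nat_lit 1) (Steps.bwd (nat_lit 2) (Steps.bwd (nat_lit 1) (Steps.fwd (nat_lit 4096) (Steps.fwd (nat_lit 2048) (Steps.bwd (nat_lit 2) Steps.nil))))))) (nat_lit 10) (nat_lit 1),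
  Rule.mk (nat_lit 4) (nat_lit 94) (Steps.bwd (nat_lit 2) (Steps.fwd (nat_lit 8192) (Steps.fwd (nat_lit 4096) (Steps.fwd (nat_lit 8192) (Steps.bwd (nat_lit 2) (Steps.bwd (nat_lit 4) (Steps.bwd (nat_lit 2) Steps.nil))))))) (nat_lit 24) (nat_lit 0),
  Rule.mk (nat_lit 1) (nat_lit 94) (Steps.bwd (nat_lit 3) (Steps.bwd (nat_lit 2) (Steps.fwd (nat_lit 8192) (Steps.fwd (nat_lit 4096) (Steps.fwd (nat_lit 6144) (Steps.bwd (nat_lit 1) (Steps.bwd (nat_lit 4) Steps.nil))))))) (nat_lit 12) (nat_lit 1),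
  Rule.mk (nat_lit 4) (nat_lit 94) (Steps.bwd (nat_lit 2) (Steps.bwd (nat_lit 3) (Steps.fwd (nat_lit 2048) (Steps.fwd (nat_lit 8192) (Steps.fwd (nat_lit 2048) (Steps.fwd (nat_lit 6144) (Steps.fwd (nat_lit 4096) Steps.nil))))))) (nat_lit 12) (nat_lit 4),
  Rule.mk (nat_lit 2) (nat_lit 94) (Steps.bwd (nat_lit 1) (Steps.bwd (nat_lit 2) (Steps.fwd (nat_lit 2048) (Steps.fwd (nat_lit 4096) (Steps.fwd (nat_lit 2048) (Steps.fwd (nat_lit 4096) (Steps.fwd (nat_lit 2048) Steps.nil))))))) (nat_lit 10) (nat_lit 0),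
  Rule.mk (nat_lit 3) (nat_lit 94) (Steps.bwd (nat_lit 1) (Steps.fwd (nat_lit 8192) (Steps.fwd (nat_lit 2048) (Steps.bwd (nat_lit 3) (Steps.bwd (nat_lit 2) (Steps.bwd (nat_lit 4) (Steps.fwd (nat_lit 4096) Steps.nil))))))) (nat_lit 12) (nat_lit 6),
  Rule.mk (nat_lit 3) (nat_lit 94) (Steps.bwd (nat_lit 1) (Steps.fwd (nat_lit 4096) (Steps.bwd (nat_lit 1) (Steps.fwd (nat_lit 6144) (Steps.bwd (nat_lit 1) (Steps.bwd (nat_lit 2) (Steps.bwd (nat_lit 1) Steps.nil))))))) (nat_lit 16) (nat_lit 0),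
  Rule.mk (nat_lit 1) (nat_lit 94) (Steps.bwd (nat_lit 4) (Steps.fwd (nat_lit 2048) (Steps.fwd (nat_lit 8192) (Steps.fwd (nat_lit 2048) (Steps.fwd (nat_lit 8192) (Steps.bwd (nat_lit 1) (Steps.fwd (nat_lit 8192) Steps.nil))))))) (nat_lit 20) (nat_lit 1),
  Rule.mk (nat_lit 4) (nat_lit 94) (Steps.bwd (nat_lit 3) (Steps.bwd (nat_lit 4) (Steps.bwd (nat_lit 3) (Steps.bwd (nat_lit 4) (Steps.fwd (nat_lit 6144) (Steps.bwd (nat_lit 4) (Steps.bwd (nat_lit 3) Steps.nil))))))) (nat_lit 26) (nat_lit 0),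
  Rule.mk (nat_lit 4) (nat_lit 118) (Steps.bwd (nat_lit 1) (Steps.bwd (nat_lit 3) (Steps.bwd (nat_lit 4) (Steps.bwd (nat_lit 2) (Steps.fwd (nat_lit 8192) (Steps.bwd (nat_lit 2) (Steps.fwd (nat_lit 8192) (Steps.bwd (nat_lit 3) (Steps.fwd (nat_lit 2048) Steps.nil))))))))) (nat_lit 44) (nat_lit 0),
  Rule.mk (nat_lit 4) (nat_lit 94) (Steps.bwd (nat_lit 2) (Steps.fwd (nat_lit 6144) (Steps.fwd (nat_lit 2048) (Steps.fwd (nat_lit 8192) (Steps.bwd (nat_lit 1) (Steps.fwd (nat_lit 6144) (Steps.bwd (nat_lit 2) Steps.nil))))))) (nat_lit 12) (nat_lit 4),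
  Rule.mk (nat_lit 3) (nat_lit 94) (Steps.bwd (nat_lit 4) (Steps.bwd (nat_lit 3) (Steps.fwd (nat_lit 8192) (Steps.bwd (nat_lit 3) (Steps.bwd (nat_lit 4) (Steps.bwd (nat_lit 3) (Steps.bwd (nat_lit 4) Steps.nil))))))) (nat_lit 26) (nat_lit 1),
  Rule.mk (nat_lit 4) (nat_lit 94) (Steps.bwd (nat_lit 2) (Steps.fwd (nat_lit 6144) (Steps.bwd (nat_lit 1) (Steps.fwd (nat_lit 8192) (Steps.fwd (nat_lit 2048) (Steps.fwd (nat_lit 6144) (Steps.fwd (nat_lit 4096) Steps.nil))))))) (nat_lit 12) (nat_lit 4),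
  Rule.mk (nat_lit 4) (nat_lit 94) (Steps.bwd (nat_lit 3) (Steps.fwd (nat_lit 8192) (Steps.fwd (nat_lit 6144) (Steps.fwd (nat_lit 8192) (Steps.bwd (nat_lit 3) (Steps.fwd (nat_lit 8192) (Steps.bwd (nat_lit 3) Steps.nil))))))) (nat_lit 26) (nat_lit 0),
  Rule.mk (nat_lit 4) (nat_lit 94) (Steps.bwd (nat_lit 1) (Steps.bwd (nat_lit 4) (Steps.fwd (nat_lit 2048) (Steps.bwd (nat_lit 4) (Steps.fwd (nat_lit 2048) (Steps.bwd (nat_lit 4) (Steps.fwd (nat_lit 2048) Steps.nil))))))) (nat_lit 20) (nat_lit 0),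
  Rule.mk (nat_lit 3) (nat_lit 94) (Steps.bwd (nat_lit 2) (Steps.fwd (nat_lit 8192) (Steps.fwd (nat_lit 4096) (Steps.bwd (nat_lit 3) (Steps.bwd (nat_lit 1) (Steps.fwd (nat_lit 8192) (Steps.bwd (nat_lit 1) Steps.nil))))))) (nat_lit 12) (nat_lit 2),
  Rule.mk (nat_lit 4) (nat_lit 94) (Steps.bwd (nat_lit 1) (Steps.bwd (nat_lit 2) (Steps.fwd (nat_lit 6144) (Steps.bwd (nat_lit 4) (Steps.bwd (nat_lit 2) (Steps.bwd (nat_lit 3) (Steps.bwd (nat_lit 1) Steps.nil))))))) (nat_lit 14) (nat_lit 0),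
  Rule.mk (nat_lit 2) (nat_lit 94) (Steps.bwd (nat_lit 1) (Steps.bwd (nat_lit 2) (Steps.bwd (nat_lit 1) (Steps.bwd (nat_lit 2) (Steps.bwd (nat_lit 1) (Steps.bwd (nat_lit 2) (Steps.bwd (nat_lit 1) Steps.nil))))))) (nat_lit 10) (nat_lit 0),
  Rule.mk (nat_lit 4) (nat_lit 94) (Steps.bwd (nat_lit 3) (Steps.bwd (nat_lit 2) (Steps.bwd (nat_lit 1) (Steps.fwd (nat_lit 8192) (Steps.bwd (nat_lit 1) (Steps.bwd (nat_lit 3) (Steps.bwd (nat_lit 2) Steps.nil))))))) (nat_lit 15) (nat_lit 5),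
  Rule.mk (nat_lit 4) (nat_lit 94) (Steps.bwd (nat_lit 1) (Steps.bwd (nat_lit 3) (Steps.bwd (nat_lit 2) (Steps.fwd (nat_lit 8192) (Steps.fwd (nat_lit 4096) (Steps.fwd (nat_lit 6144) (Steps.fwd (nat_lit 2048) Steps.nil))))))) (nat_lit 12) (nat_lit 0),
  Rule.mk (nat_lit 4) (nat_lit 94) (Steps.bwd (nat_lit 3) (Steps.fwd (nat_lit 4096) (Steps.fwd (nat_lit 2048) (Steps.fwd (nat_lit 8192) (Steps.bwd (nat_lit 1) (Steps.bwd (nat_lit 3) (Steps.fwd (nat_lit 4096) Steps.nil))))))) (nat_lit 15) (nat_lit 5),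
  Rule.mk (nat_lit 1) (nat_lit 94) (Steps.bwd (nat_lit 3) (Steps.bwd (nat_lit 2) (Steps.fwd (nat_lit 8192) (Steps.fwd (nat_lit 4096) (Steps.bwd (nat_lit 3) (Steps.fwd (nat_lit 2048) (Steps.bwd (nat_lit 4) Steps.nil))))))) (nat_lit 12) (nat_lit 1),
  Rule.mk (nat_lit 3) (nat_lit 94) (Steps.bwd (nat_lit 1) (Steps.bwd (nat_lit 2) (Steps.fwd (nat_lit 2048) (Steps.bwd (nat_lit 3) (Steps.fwd (nat_lit 2048) (Steps.bwd (nat_lit 2) (Steps.fwd (nat_lit 2048) Steps.nil))))))) (nat_lit 16) (nat_lit 0),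
  Rule.mk (nat_lit 1) (nat_lit 94) (Steps.bwd (nat_lit 2) (Steps.bwd (nat_lit 1) (Steps.bwd (nat_lit 2) (Steps.fwd (nat_lit 2048) (Steps.fwd (nat_lit 4096) (Steps.bwd (nat_lit 1) (Steps.bwd (nat_lit 2) Steps.nil))))))) (nat_lit 10) (nat_lit 1),
  Rule.mk (nat_lit 1) (nat_lit 94) (Steps.bwd (nat_lit 4) (Steps.fwd (nat_lit 2048) (Steps.fwd (nat_lit 8192) (Steps.fwd (nat_lit 2048) (Steps.bwd (nat_lit 4) (Steps.fwd (nat_lit 2048) (Steps.fwd (nat_lit 8192) Steps.nil))))))) (nat_lit 20) (nat_lit 1),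
  Rule.mk (nat_lit 4) (nat_lit 94) (Steps.bwd (nat_lit 1) (Steps.fwd (nat_lit 8192) (Steps.bwd (nat_lit 1) (Steps.bwd (nat_lit 4) (Steps.bwd (nat_lit 1) (Steps.fwd (nat_lit 8192) (Steps.fwd (nat_lit 2048) Steps.nil))))))) (nat_lit 20) (nat_lit 0),
  Rule.mk (nat_lit 4) (nat_lit 94) (Steps.bwd (nat_lit 2) (Steps.fwd (nat_lit 6144) (Steps.fwd (nat_lit 2048) (Steps.fwd (nat_lit 8192) (Steps.bwd (nat_lit 1) (Steps.bwd (nat_lit 3) (Steps.bwd (nat_lit 2) Steps.nil))))))) (nat_lit 12) (nat_lit 4),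
  Rule.mk (nat_lit 4) (nat_lit 94) (Steps.bwd (nat_lit 1) (Steps.bwd (nat_lit 2) (Steps.fwd (nat_lit 6144) (Steps.fwd (nat_lit 8192) (Steps.fwd (nat_lit 4096) (Steps.fwd (nat_lit 6144) (Steps.fwd (nat_lit 2048) Steps.nil))))))) (nat_lit 14) (nat_lit 0),
  Rule.mk (nat_lit 4) (nat_lit 94) (Steps.bwd (nat_lit 3) (Steps.bwd (nat_lit 2) (Steps.fwd (nat_lit 2048) (Steps.bwd (nat_lit 4) (Steps.bwd (nat_lit 1) (Steps.bwd (nat_lit 3) (Steps.bwd (nat_lit 2) Steps.nil))))))) (nat_lit 15) (nat_lit 5),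
  Rule.mk (nat_lit 3) (nat_lit 94) (Steps.bwd (nat_lit 4) (Steps.bwd (nat_lit 3) (Steps.bwd (nat_lit 4) (Steps.fwd (nat_lit 6144) (Steps.bwd (nat_lit 4) (Steps.bwd (nat_lit 3) (Steps.bwd (nat_lit 4) Steps.nil))))))) (nat_lit 26) (nat_lit 1),
  Rule.mk (nat_lit 4) (nat_lit 94) (Steps.bwd (nat_lit 2) (Steps.fwd (nat_lit 6144) (Steps.bwd (nat_lit 1) (Steps.fwd (nat_lit 8192) (Steps.bwd (nat_lit 1) (Steps.bwd (nat_lit 3) (Steps.bwd (nat_lit 2) Steps.nil))))))) (nat_lit 12) (nat_lit 4),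
  Rule.mk (nat_lit 1) (nat_lit 94) (Steps.bwd (nat_lit 4) (Steps.bwd (nat_lit 1) (Steps.bwd (nat_lit 3) (Steps.bwd (nat_lit 2) (Steps.bwd (nat_lit 4) (Steps.fwd (nat_lit 4096) (Steps.bwd (nat_lit 3) Steps.nil))))))) (nat_lit 12) (nat_lit 7),
  Rule.mk (nat_lit 4) (nat_lit 94) (Steps.bwd (nat_lit 1) (Steps.bwd (nat_lit 2) (Steps.fwd (nat_lit 6144) (Steps.bwd (nat_lit 4) (Steps.fwd (nat_lit 4096) (Steps.bwd (nat_lit 3) (Steps.bwd (nat_lit 1) Steps.nil))))))) (nat_lit 14) (nat_lit 0),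
  Rule.mk (nat_lit 4) (nat_lit 94) (Steps.bwd (nat_lit 3) (Steps.bwd (nat_lit 2) (Steps.bwd (nat_lit 1) (Steps.fwd (nat_lit 8192) (Steps.fwd (nat_lit 2048) (Steps.bwd (nat_lit 3) (Steps.fwd (nat_lit 4096) Steps.nil))))))) (nat_lit 15) (nat_lit 5),
  Rule.mk (nat_lit 4) (nat_lit 94) (Steps.bwd (nat_lit 3) (Steps.fwd (nat_lit 4096) (Steps.fwd (nat_lit 2048) (Steps.fwd (nat_lit 8192) (Steps.fwd (nat_lit 2048) (Steps.fwd (nat_lit 6144) (Steps.bwd (nat_lit 2) Steps.nil))))))) (nat_lit 15) (nat_lit 5),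
  Rule.mk (nat_lit 1) (nat_lit 94) (Steps.bwd (nat_lit 3) (Steps.bwd (nat_lit 2) (Steps.fwd (nat_lit 8192) (Steps.fwd (nat_lit 4096) (Steps.fwd (nat_lit 6144) (Steps.fwd (nat_lit 2048) (Steps.bwd (nat_lit 4) Steps.nil))))))) (nat_lit 12) (nat_lit 1),
  Rule.mk (nat_lit 4) (nat_lit 94) (Steps.bwd (nat_lit 3) (Steps.bwd (nat_lit 2) (Steps.bwd (nat_lit 1) (Steps.fwd (nat_lit 8192) (Steps.bwd (nat_lit 1) (Steps.fwd (nat_lit 6144) (Steps.fwd (nat_lit 4096) Steps.nil))))))) (nat_lit 15) (nat_lit 5),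
  Rule.mk (nat_lit 1) (nat_lit 94) (Steps.bwd (nat_lit 4) (Steps.fwd (nat_lit 2048) (Steps.bwd (nat_lit 4) (Steps.fwd (nat_lit 2048) (Steps.fwd (nat_lit 8192) (Steps.fwd (nat_lit 2048) (Steps.fwd (nat_lit 8192) Steps.nil))))))) (nat_lit 20) (nat_lit 1),
  Rule.mk (nat_lit 3) (nat_lit 94) (Steps.bwd (nat_lit 4) (Steps.fwd (nat_lit 6144) (Steps.fwd (nat_lit 8192) (Steps.fwd (nat_lit 6144) (Steps.bwd (nat_lit 4) (Steps.bwd (nat_lit 3) (Steps.fwd (nat_lit 8192) Steps.nil))))))) (nat_lit 26) (nat_lit 1),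
  Rule.mk (nat_lit 4) (nat_lit 94) (Steps.bwd (nat_lit 3) (Steps.fwd (nat_lit 8192) (Steps.fwd (nat_lit 6144) (Steps.bwd (nat_lit 4) (Steps.bwd (nat_lit 3) (Steps.bwd (nat_lit 4) (Steps.bwd (nat_lit 3) Steps.nil))))))) (nat_lit 26) (nat_lit 0),
  Rule.mk (nat_lit 1) (nat_lit 94) (Steps.bwd (nat_lit 4) (Steps.bwd (nat_lit 1) (Steps.fwd (nat_lit 6144) (Steps.fwd (nat_lit 4096) (Steps.bwd (nat_lit 4) (Steps.fwd (nat_lit 4096) (Steps.bwd (nat_lit 3) Steps.nil))))))) (nat_lit 12) (nat_lit 7),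
  Rule.mk (nat_lit 4) (nat_lit 94) (Steps.bwd (nat_lit 3) (Steps.bwd (nat_lit 4) (Steps.bwd (nat_lit 3) (Steps.fwd (nat_lit 8192) (Steps.bwd (nat_lit 3) (Steps.fwd (nat_lit 8192) (Steps.fwd (nat_lit 6144) Steps.nil))))))) (nat_lit 26) (nat_lit 0),
  Rule.mk (nat_lit 4) (nat_lit 94) (Steps.bwd (nat_lit 1) (Steps.fwd (nat_lit 8192) (Steps.bwd (nat_lit 1) (Steps.bwd (nat_lit 4) (Steps.fwd (nat_lit 2048) (Steps.fwd (nat_lit 8192) (Steps.bwd (nat_lit 1) Steps.nil))))))) (nat_lit 20) (nat_lit 0),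
  Rule.mk (nat_lit 4) (nat_lit 94) (Steps.bwd (nat_lit 2) (Steps.fwd (nat_lit 8192) (Steps.bwd (nat_lit 2) (Steps.fwd (nat_lit 8192) (Steps.fwd (nat_lit 4096) (Steps.fwd (nat_lit 8192) (Steps.bwd (nat_lit 2) Steps.nil))))))) (nat_lit 24) (nat_lit 0),
  Rule.mk (nat_lit 4) (nat_lit 94) (Steps.bwd (nat_lit 1) (Steps.fwd (nat_lit 8192) (Steps.bwd (nat_lit 1) (Steps.bwd (nat_lit 4) (Steps.bwd (nat_lit 1) (Steps.fwd (nat_lit 8192) (Steps.bwd (nat_lit 1) Steps.nil))))))) (nat_lit 20) (nat_lit 0),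
  Rule.mk (nat_lit 3) (nat_lit 94) (Steps.bwd (nat_lit 2) (Steps.fwd (nat_lit 8192) (Steps.bwd (nat_lit 2) (Steps.bwd (nat_lit 3) (Steps.bwd (nat_lit 1) (Steps.bwd (nat_lit 4) (Steps.fwd (nat_lit 2048) Steps.nil))))))) (nat_lit 12) (nat_lit 2)]
noncomputable def R_8 : List (Rule) := [Rule.mk (nat_lit 4) (nat_lit 118) (Steps.bwd (nat_lit 1) (Steps.bwd (nat_lit 2) (Steps.fwd (nat_lit 8192) (Steps.fwd (nat_lit 6144) (Steps.fwd (nat_lit 8192) (Steps.fwd (nat_lit 6144) (Steps.bwd (nat_lit 4) (Steps.bwd (nat_lit 2) (Steps.fwd (nat_lit 2048) Steps.nil))))))))) (nat_lit 40) (nat_lit 0),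
  Rule.mk (nat_lit 2) (nat_lit 94) (Steps.bwd (nat_lit 4) (Steps.bwd (nat_lit 2) (Steps.fwd (nat_lit 6144) (Steps.fwd (nat_lit 2048) (Steps.bwd (nat_lit 4) (Steps.bwd (nat_lit 1) (Steps.fwd (nat_lit 6144) Steps.nil))))))) (nat_lit 12) (nat_lit 3),
  Rule.mk (nat_lit 3) (nat_lit 94) (Steps.bwd (nat_lit 4) (Steps.bwd (nat_lit 2) (Steps.fwd (nat_lit 6144) (Steps.fwd (nat_lit 2048) (Steps.bwd (nat_lit 4) (Steps.bwd (nat_lit 1) (Steps.bwd (nat_lit 2) Steps.nil))))))) (nat_lit 14) (nat_lit 3),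
  Rule.mk (nat_lit 2) (nat_lit 94) (Steps.bwd (nat_lit 4) (Steps.bwd (nat_lit 2) (Steps.fwd (nat_lit 8192) (Steps.fwd (nat_lit 4096) (Steps.fwd (nat_lit 8192) (Steps.bwd (nat_lit 2) (Steps.fwd (nat_lit 8192) Steps.nil))))))) (nat_lit 24) (nat_lit 1),
  Rule.mk (nat_lit 4) (nat_lit 118) (Steps.bwd (nat_lit 1) (Steps.fwd (nat_lit 4096) (Steps.bwd (nat_lit 4) (Steps.bwd (nat_lit 3) (Steps.bwd (nat_lit 4) (Steps.fwd (nat_lit 6144) (Steps.bwd (nat_lit 4) (Steps.bwd (nat_lit 2) (Steps.bwd (nat_lit 1) Steps.nil))))))))) (nat_lit 40) (nat_lit 0),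
  Rule.mk (nat_lit 3) (nat_lit 94) (Steps.bwd (nat_lit 1) (Steps.bwd (nat_lit 4) (Steps.bwd (nat_lit 1) (Steps.bwd (nat_lit 3) (Steps.fwd (nat_lit 4096) (Steps.fwd (nat_lit 8192) (Steps.fwd (nat_lit 4096) Steps.nil))))))) (nat_lit 12) (nat_lit 6),
  Rule.mk (nat_lit 4) (nat_lit 94) (Steps.bwd (nat_lit 1) (Steps.fwd (nat_lit 6144) (Steps.bwd (nat_lit 2) (Steps.fwd (nat_lit 8192) (Steps.fwd (nat_lit 4096) (Steps.bwd (nat_lit 3) (Steps.fwd (nat_lit 2048) Steps.nil))))))) (nat_lit 12) (nat_lit 0),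
  Rule.mk (nat_lit 4) (nat_lit 94) (Steps.bwd (nat_lit 2) (Steps.bwd (nat_lit 3) (Steps.bwd (nat_lit 1) (Steps.fwd (nat_lit 8192) (Steps.fwd (nat_lit 2048) (Steps.bwd (nat_lit 3) (Steps.fwd (nat_lit 4096) Steps.nil))))))) (nat_lit 12) (nat_lit 4),
  Rule.mk (nat_lit 2) (nat_lit 94) (Steps.bwd (nat_lit 4) (Steps.fwd (nat_lit 4096) (Steps.bwd (nat_lit 3) (Steps.fwd (nat_lit 2048) (Steps.fwd (nat_lit 8192) (Steps.bwd (nat_lit 1) (Steps.bwd (nat_lit 3) Steps.nil))))))) (nat_lit 12) (nat_lit 3),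
  Rule.mk (nat_lit 3) (nat_lit 94) (Steps.bwd (nat_lit 4) (Steps.fwd (nat_lit 4096) (Steps.bwd (nat_lit 3) (Steps.fwd (nat_lit 2048) (Steps.fwd (nat_lit 8192) (Steps.bwd (nat_lit 1) (Steps.bwd (nat_lit 2) Steps.nil))))))) (nat_lit 14) (nat_lit 3),
  Rule.mk (nat_lit 3) (nat_lit 94) (Steps.bwd (nat_lit 1) (Steps.bwd (nat_lit 4) (Steps.fwd (nat_lit 2048) (Steps.fwd (nat_lit 6144) (Steps.bwd (nat_lit 2) (Steps.bwd (nat_lit 4) (Steps.bwd (nat_lit 2) Steps.nil))))))) (nat_lit 12) (nat_lit 6),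
  Rule.mk (nat_lit 4) (nat_lit 94) (Steps.bwd (nat_lit 2) (Steps.fwd (nat_lit 6144) (Steps.bwd (nat_lit 1) (Steps.fwd (nat_lit 8192) (Steps.bwd (nat_lit 1) (Steps.fwd (nat_lit 6144) (Steps.bwd (nat_lit 2) Steps.nil))))))) (nat_lit 12) (nat_lit 4),
  Rule.mk (nat_lit 3) (nat_lit 94) (Steps.bwd (nat_lit 1) (Steps.fwd (nat_lit 8192) (Steps.bwd (nat_lit 1) (Steps.bwd (nat_lit 3) (Steps.bwd (nat_lit 2) (Steps.bwd (nat_lit 4) (Steps.fwd (nat_lit 4096) Steps.nil))))))) (nat_lit 12) (nat_lit 6),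
  Rule.mk (nat_lit 4) (nat_lit 94) (Steps.bwd (nat_lit 1) (Steps.fwd (nat_lit 6144) (Steps.bwd (nat_lit 2) (Steps.fwd (nat_lit 8192) (Steps.bwd (nat_lit 2) (Steps.bwd (nat_lit 3) (Steps.bwd (nat_lit 1) Steps.nil))))))) (nat_lit 12) (nat_lit 0),
  Rule.mk (nat_lit 1) (nat_lit 94) (Steps.bwd (nat_lit 4) (Steps.bwd (nat_lit 1) (Steps.fwd (nat_lit 8192) (Steps.fwd (nat_lit 2048) (Steps.fwd (nat_lit 8192) (Steps.fwd (nat_lit 2048) (Steps.fwd (nat_lit 8192) Steps.nil))))))) (nat_lit 20) (nat_lit 1),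
  Rule.mk (nat_lit 3) (nat_lit 94) (Steps.bwd (nat_lit 4) (Steps.bwd (nat_lit 3) (Steps.fwd (nat_lit 8192) (Steps.bwd (nat_lit 3) (Steps.bwd (nat_lit 4) (Steps.bwd (nat_lit 3) (Steps.fwd (nat_lit 8192) Steps.nil))))))) (nat_lit 26) (nat_lit 1),
  Rule.mk (nat_lit 2) (nat_lit 94) (Steps.bwd (nat_lit 4) (Steps.fwd (nat_lit 4096) (Steps.fwd (nat_lit 8192) (Steps.fwd (nat_lit 4096) (Steps.bwd (nat_lit 4) (Steps.bwd (nat_lit 2) (Steps.fwd (nat_lit 8192) Steps.nil))))))) (nat_lit 24) (nat_lit 1),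
  Rule.mk (nat_lit 4) (nat_lit 94) (Steps.bwd (nat_lit 1) (Steps.bwd (nat_lit 4) (Steps.bwd (nat_lit 1) (Steps.bwd (nat_lit 4) (Steps.fwd (nat_lit 2048) (Steps.fwd (nat_lit 8192) (Steps.fwd (nat_lit 2048) Steps.nil))))))) (nat_lit 20) (nat_lit 0),
  Rule.mk (nat_lit 4) (nat_lit 94) (Steps.bwd (nat_lit 3) (Steps.fwd (nat_lit 4096) (Steps.fwd (nat_lit 2048) (Steps.bwd (nat_lit 4) (Steps.bwd (nat_lit 1) (Steps.fwd (nat_lit 6144) (Steps.bwd (nat_lit 2) Steps.nil))))))) (nat_lit 15) (nat_lit 5),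
  Rule.mk (nat_lit 4) (nat_lit 94) (Steps.bwd (nat_lit 1) (Steps.bwd (nat_lit 3) (Steps.fwd (nat_lit 4096) (Steps.bwd (nat_lit 4) (Steps.fwd (nat_lit 4096) (Steps.bwd (nat_lit 3) (Steps.fwd (nat_lit 2048) Steps.nil))))))) (nat_lit 12) (nat_lit 0),
  Rule.mk (nat_lit 4) (nat_lit 94) (Steps.bwd (nat_lit 2) (Steps.fwd (nat_lit 8192) (Steps.fwd (nat_lit 4096) (Steps.fwd (nat_lit 8192) (Steps.fwd (nat_lit 4096) (Steps.bwd (nat_lit 4) (Steps.bwd (nat_lit 2) Steps.nil))))))) (nat_lit 24) (nat_lit 0),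
  Rule.mk (nat_lit 4) (nat_lit 94) (Steps.bwd (nat_lit 3) (Steps.bwd (nat_lit 2) (Steps.bwd (nat_lit 1) (Steps.fwd (nat_lit 8192) (Steps.bwd (nat_lit 1) (Steps.fwd (nat_lit 6144) (Steps.bwd (nat_lit 2) Steps.nil))))))) (nat_lit 15) (nat_lit 5),
  Rule.mk (nat_lit 4) (nat_lit 94) (Steps.bwd (nat_lit 3) (Steps.bwd (nat_lit 2) (Steps.bwd (nat_lit 1) (Steps.fwd (nat_lit 8192) (Steps.fwd (nat_lit 2048) (Steps.fwd (nat_lit 6144) (Steps.fwd (nat_lit 4096) Steps.nil))))))) (nat_lit 15) (nat_lit 5),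
  Rule.mk (nat_lit 2) (nat_lit 94) (Steps.bwd (nat_lit 1) (Steps.fwd (nat_lit 8192) (Steps.fwd (nat_lit 2048) (Steps.fwd (nat_lit 6144) (Steps.bwd (nat_lit 2) (Steps.fwd (nat_lit 8192) (Steps.bwd (nat_lit 3) Steps.nil))))))) (nat_lit 15) (nat_lit 7),
  Rule.mk (nat_lit 4) (nat_lit 94) (Steps.bwd (nat_lit 3) (Steps.fwd (nat_lit 8192) (Steps.bwd (nat_lit 3) (Steps.fwd (nat_lit 8192) (Steps.fwd (nat_lit 6144) (Steps.bwd (nat_lit 4) (Steps.bwd (nat_lit 3) Steps.nil))))))) (nat_lit 26) (nat_lit 0),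
  Rule.mk (nat_lit 2) (nat_lit 94) (Steps.bwd (nat_lit 4) (Steps.fwd (nat_lit 4096) (Steps.fwd (nat_lit 6144) (Steps.fwd (nat_lit 2048) (Steps.bwd (nat_lit 4) (Steps.bwd (nat_lit 1) (Steps.fwd (nat_lit 6144) Steps.nil))))))) (nat_lit 12) (nat_lit 3),
  Rule.mk (nat_lit 3) (nat_lit 94) (Steps.bwd (nat_lit 4) (Steps.fwd (nat_lit 4096) (Steps.fwd (nat_lit 6144) (Steps.fwd (nat_lit 2048) (Steps.bwd (nat_lit 4) (Steps.bwd (nat_lit 1) (Steps.fwd (nat_lit 4096) Steps.nil))))))) (nat_lit 14) (nat_lit 3),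
  Rule.mk (nat_lit 3) (nat_lit 94) (Steps.bwd (nat_lit 4) (Steps.fwd (nat_lit 4096) (Steps.bwd (nat_lit 3) (Steps.bwd (nat_lit 1) (Steps.bwd (nat_lit 4) (Steps.bwd (nat_lit 1) (Steps.bwd (nat_lit 2) Steps.nil))))))) (nat_lit 14) (nat_lit 3),
  Rule.mk (nat_lit 3) (nat_lit 94) (Steps.bwd (nat_lit 2) (Steps.fwd (nat_lit 8192) (Steps.fwd (nat_lit 4096) (Steps.bwd (nat_lit 3) (Steps.fwd (nat_lit 2048) (Steps.fwd (nat_lit 8192) (Steps.fwd (nat_lit 2048) Steps.nil))))))) (nat_lit 12) (nat_lit 2),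
  Rule.mk (nat_lit 4) (nat_lit 94) (Steps.bwd (nat_lit 2) (Steps.fwd (nat_lit 8192) (Steps.fwd (nat_lit 4096) (Steps.fwd (nat_lit 8192) (Steps.fwd (nat_lit 4096) (Steps.fwd (nat_lit 8192) (Steps.bwd (nat_lit 2) Steps.nil))))))) (nat_lit 24) (nat_lit 0),
  Rule.mk (nat_lit 4) (nat_lit 94) (Steps.bwd (nat_lit 1) (Steps.fwd (nat_lit 8192) (Steps.bwd (nat_lit 1) (Steps.fwd (nat_lit 8192) (Steps.bwd (nat_lit 1) (Steps.bwd (nat_lit 4) (Steps.bwd (nat_lit 1) Steps.nil))))))) (nat_lit 20) (nat_lit 0),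
  Rule.mk (nat_lit 4) (nat_lit 94) (Steps.bwd (nat_lit 2) (Steps.bwd (nat_lit 3) (Steps.fwd (nat_lit 2048) (Steps.bwd (nat_lit 4) (Steps.fwd (nat_lit 2048) (Steps.fwd (nat_lit 6144) (Steps.fwd (nat_lit 4096) Steps.nil))))))) (nat_lit 12) (nat_lit 4),
  Rule.mk (nat_lit 1) (nat_lit 94) (Steps.bwd (nat_lit 2) (Steps.bwd (nat_lit 3) (Steps.fwd (nat_lit 8192) (Steps.fwd (nat_lit 4096) (Steps.fwd (nat_lit 6144) (Steps.fwd (nat_lit 2048) (Steps.fwd (nat_lit 8192) Steps.nil))))))) (nat_lit 14) (nat_lit 1),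
  Rule.mk (nat_lit 1) (nat_lit 94) (Steps.bwd (nat_lit 2) (Steps.bwd (nat_lit 3) (Steps.fwd (nat_lit 8192) (Steps.fwd (nat_lit 4096) (Steps.bwd (nat_lit 3) (Steps.fwd (nat_lit 2048) (Steps.bwd (nat_lit 4) Steps.nil))))))) (nat_lit 14) (nat_lit 1),
  Rule.mk (nat_lit 2) (nat_lit 94) (Steps.bwd (nat_lit 4) (Steps.fwd (nat_lit 4096) (Steps.bwd (nat_lit 3) (Steps.fwd (nat_lit 2048) (Steps.bwd (nat_lit 4) (Steps.bwd (nat_lit 1) (Steps.bwd (nat_lit 3) Steps.nil))))))) (nat_lit 12) (nat_lit 3),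
  Rule.mk (nat_lit 3) (nat_lit 94) (Steps.bwd (nat_lit 4) (Steps.fwd (nat_lit 4096) (Steps.bwd (nat_lit 3) (Steps.fwd (nat_lit 2048) (Steps.bwd (nat_lit 4) (Steps.bwd (nat_lit 1) (Steps.fwd (nat_lit 4096) Steps.nil))))))) (nat_lit 14) (nat_lit 3),
  Rule.mk (nat_lit 1) (nat_lit 94) (Steps.bwd (nat_lit 2) (Steps.bwd (nat_lit 1) (Steps.fwd (nat_lit 4096) (Steps.bwd (nat_lit 1) (Steps.bwd (nat_lit 2) (Steps.bwd (nat_lit 1) (Steps.bwd (nat_lit 2) Steps.nil))))))) (nat_lit 10) (nat_lit 1),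
  Rule.mk (nat_lit 1) (nat_lit 94) (Steps.bwd (nat_lit 3) (Steps.bwd (nat_lit 2) (Steps.fwd (nat_lit 8192) (Steps.fwd (nat_lit 4096) (Steps.bwd (nat_lit 3) (Steps.bwd (nat_lit 1) (Steps.bwd (nat_lit 4) Steps.nil))))))) (nat_lit 12) (nat_lit 1),
  Rule.mk (nat_lit 4) (nat_lit 94) (Steps.bwd (nat_lit 3) (Steps.bwd (nat_lit 2) (Steps.bwd (nat_lit 1) (Steps.bwd (nat_lit 4) (Steps.bwd (nat_lit 1) (Steps.bwd (nat_lit 3) (Steps.bwd (nat_lit 2) Steps.nil))))))) (nat_lit 15) (nat_lit 5)]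
noncomputable def R : List (List (Rule)) := [R_0, R_1, R_2, R_3, R_4, R_5, R_6, R_7, R_8]
def LW : List Word := [[], [0], [2], [4], [6]]
def par : Par := ⟨11, 3, 14, 25, 2047, 16383, 33554431⟩
theorem hpar : par.ok := by decide
theorem hR0_0 : lall (R) (fun l => lall l (ruleOK relsS LW par)) = true := by decide +kernel
theorem hR0 : lall (R) (fun l => lall l (ruleOK relsS LW par)) = true := hR0_0
theorem hR : RulesOK relsS LW par R := rulesOK_of rfl hR0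
def cols : List (ℕ × ℕ) := [(2048, 1), (4096, 2), (6144, 3), (8192, 4)]
theorem hcols : lall cols (colOK relsS LW par) = true := by decide +kernel
noncomputable def JS0 : List ℕ := [nat_lit 0x3d740c41941b4110023d605cf6503106106d048fc4f60163db40c41741b4133ff3da054f78000f70103dd40d01a4164103f03dc050024f9cf9800cf80f7cf78130053e23e13e03df3de3dd048028000f74063ed00a00b0023df3de3dd04400c000f74104060144083e00013de3dd03cfb0f78f740c3de40640f41140b3fb3dd03900c045014f84004f7cf780d3eb3df3de030f7d00d031039024fe8f780b40240b40c4033e23e03df028f80f84f7c013f300b3f53e50010003e3024f94f9cf8c013e44004084094033f33e3020f94ffd01d02100cfd0f90073ef4004023ff3e83e63e5008f98f9cf94010003e83e7018fa0ff1011008014fd8f9c050003e93e8010fa4008ff1008ff8fccfa0033f43fe4003fd3f13ef3ee008fbcfc0fb8013f93fa3f8004ff0ff4fec01,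
  nat_lit 0x3b33b2018ed00bd041048ee0004ec8193b340d02d43042f4003b2060ed90410c10c5044ff4ed4153b80003b6040edd03d055045040ee0ed8230003b93b8018ee40ad0450b50b1030ee0220003be3bd010fd509909c080ff4000ef4213fb01d02702b3c03be3bd080ef8efcef4010003c03bf018f040a5041050fbc050efc1f3c040d0274174163d53bf060f050390990a105c01cf00173c340e4254284183db3c2058f150390780b5080fc0f10163c740e41d4284213ff3c6078f240990440a904cf4cf201d3cb0264104224143d63ca070000f34f30043cd40e40f0103ee0043cc06cf3c000f34103ce40e02541e4113d53cd05103907907d03cf48f40f3c0a3d03d13cf004fa8034044080f58f50f4c1a3d43d53d3004000f58f54063d701e40e4103df0033d5064f5902c071045040f7cf5418,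
  nat_lit 0x39d03d41505c41700939c0cc004e80e78063a200239e040fa80c4ff902ce80e7ce78253e33e10234103a000039e0c8e7c0e504111502c0d8e783141244644741403a3a33a20c0e900e4e88043a303841142a4293ce3a20bced40e9059034e98e94e900a0353a53a4004e950411001450300d0e902e3a90053f640202f0013a50b4004e94e900c02d4003f33ad3a63a53a40b0fb8128fd0094eb0e94e902b3ac0063a4040004e94e900c3f03fc3fd0023a63a53a40a90141250dcff8004e94e90293a63a53a40a0ff10d50d9018e9c000e90273a640543743842d3ea3a401ce950110d10ccfe8fe0fdcfa8e90260003a83a7018ea00b10450e50e1024e9c220003aa3a9018ea90350390b10acfb0ea4250003ae3ad018eb903d0410b10acfbceb4254050264100313b33b13b0090ec4ec8ec001,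
  nat_lit 0x3bd43343c077416001388114f7018510105013c000e203a04e389388030e2505d17517104c134e204438d00504640340200138910c004e24e200c40040140239138a38938802d0281bd15100ce40e24e2042390006388040004e24e200c0403fd3fb00238a3893881050311510cc0f0004e24e204038a3893880a00e90c514d034e2c000e203f38a40c06a4534504063880f8e2502d1450bc0e0fd8fe0fe4e203d00138e40e04941939d38c0f1031145149038e38000e303b38d04138c018e5010d04d0200fc000e383a03e38f38e030e3d02c19419101c0f4e3839395000393040e5010510014d0c0f2ce4c380023983960050380f502ce64004e5ce583703f4104123990010003960d8e5d0290490f81650fd0e5094f74f60e583539741044c44d411409396054e64000e5c1039840f43b04f42d3ca3970d0e6c0f505913106ceb0e681c,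
  nat_lit 0x4107e07d45308142c38a375374150dd508d1e524d26d2612351710ace24dd05338842a42937f37c37a37902800cdecde44f38938b00a37c00237a379138ee81b8ed8000de8004de4523b54383c638a00937a379144de819109d1d50b0e28de41c37b06306438137e37c37a14000cdf4dec4f3af3b93b837e00237c37b13801818ce00000df0004dec4d37f4233bb0263b537c37b130df107d1411d50bc098dec1742346f4704250613813800c0e08180e000438105f42243b43a3bc3800bcedc1990cd078e10e0ce080a05c383382004e0d0851a420d07416ce082e384397396394392009383124e18170e38e2c0100a4e143a3d13d30303c300138838612cf1d0f10ecf0c008e1ce1830026001386128ff915c1dd07ce24008e18493c043844207e41f3893861210701f01f5078e20000e1846387055386018ef817c180f00088000e2047021001388040f181800a8ef4080000e2046,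
  nat_lit 0x3763750191042c52542cd108000dd46601938e39001c393000375194e44070ff4ffcff0004dd464002375374030fe8ff417c020df0dd8dd06300137637d009006375374188fdc25825cff4018de8dd0610003753740190e1239200289078014dd05600037537401906d1f427c2a10dc000dd06043648c4a84ae4a34724683f800137537417c008dd4dd00c3f609008e3ed007376374178004dd8df4df0decdd4dd05939343b0914623eb005374174000dd4dd00641509309209c41a005374170000dd4dd00641947a4760974120003741710451d124928928123119d174f98000dd05b00237537400412c1d81d4e4c01cdd8dd05a00137600837c37b375374164f891642210cce44014dd0580003753740190451c42482650a4decdd0570003753740190991f11c0245040000dd05640f08646508809747d43006e38c000374154dd8dd4dd04f,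
  nat_lit 0x3ed0644714703cc0003721e0f2c140f48040e0ce1004913d140008dc8770034554ae4ad44f0013720fc004dc8dc40144d4ab0cc4520053723711d8dc91652b92b1144010dc475001373372004e20e2c27ce18004dccdc87444f4aa4ab45738500037216000cdd8dc804001373372004e1910c24c008dd0dccdc83e44a0c44a34440013733721cce00dfc00cdd4dd0dccdc8724420c14c40d04c20cd48207f0013733721c4dd0dccdc82842107c46d46c3ea3733721c001c018de4fa0284fa4dc86f3c13c20400023743733721b80750d125c2f10f4000dc86d43c49b49c49e49f44b3790023750003721b0dd0000dc84a3733c03e03df0563a13721acdd8dd4004000dcc0c8eb80ccef40ecdc86a37337e00944b4a147546d09f4633e13721a4dcc23511c2e512401cdc83339f44f0bb0ac0830003741a0dd8004dd0283ea46609e48808137537419cdd510d2602a921c200dd02100037637501911526d2642d1108018dd45c,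
  nat_lit 0x374373019099238fa805801c008dcc8d02d0ab4ae4af4360003732310d52b83e03a5194004dcc8b377378379376375374373008004dd0dcc0145f4c10e30e64620003732291843843091f8f40010dcc1738701539e39f3a0001373224e04e000340b0e7c000dc888001373372004e08e04024dec004dccdc85a39c02900a37b37a00037221c018090dc84a37837937b00a3a53a6372218df4df0de8de4018000dc8320660333a73a639b00037221409ce6c2d42d0e18dd0dc8844260a244744841200037220c20503cf54f50160010ddcde0018e10dc8823df05d3d8006378000372204dd8dd0dc84f0600303a439d00237337220007ce591a119c008dd0dc87f3d30b63d40023743733721f80911ad2f519c2b0000dc87d37d00a37b3790060003721f0014ddcdc80c3aa3a90160023743733721ecf38f6015405ce24000dc87a387000372128e14048f50148f34004dc879,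
  nat_lit 0xd737d00837e49b0e4379002375000372280dd0000dc84a3730ae0cc4700cb45537227cdd8dd4004000dcc200fe82042b90e8dc86a3733d006149d4f30f44c44c54ae409372278dcd25d3bd3d527c164dc89d43f4bb0f4101497375374270004ddcdd04a37649510910d4a23f237426cdd52504203f53691e0dd0340003763750110f52c10b8040e10e14dd49a00137739600400304437526415cf301642240a0000dd498027021375040140144ef0124000dd8dd4970403b342a0a3431001375258e4808428d0c50c0000dd09500137537400403c078de8de4008dd4dd09442d42e0a000537800137424c178174014de4008dd4dd09237537437313cea8028decde8de0000dcc9137737900601937537437318c0a8e6c0a4e30064000dcc3a01838a37303015d1c83cd3453411b402c004dd4dd0dcc903ae00137304002401cde4014004dd0dcc8f03903a0323a400337437323800cdd8dcc0c,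
  nat_lit 0x80103813800013733722c8dd0dccdc82800c4730443b70013733722c52bc3fcdd8dd4dd0dccdc8b00410f549f0d40013733722bd19034138c3511a8000dc8ae46946a46b4ad0fc3733722b4024decdc8063e70724a60033743733722b0de92c8e48074004dc8dc4ab0cd0d10033743733723712a8e483b12512a4004dc8dc4370f24a45034a90f50003712a43d03cd190334338000dc4a800137237100519433535918c330000dc4a70cb0ca4614a30f2372371298dc92a43c93bd29c3c4dc457001373372030e2d2a03c4e18004dccdc8a54894eb4ec4a838500037217400cdd8dc80400137337203003ce18380008dd0dccdc8a44864e94ea4870013733720a4e00dfc00cdd4dd0dccdc8720dd4874e94ea4eb0ef4ab0b200137337228cdd0dccdc8284380af4b84b74163733721c001c018de50403c9054dc86f0b10b343f0023743733722881cd238415208360000dc8a1,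
  nat_lit 0x1549713b50f11400137430cebc0f03b91f91fc004dd0c24b61114fe4fd47e0003741e11f51f03b00e8eb4eb80f0450454008dd0c13a40320423b9114001374300004dd0dcc0c1123b704202c39e3743732fcdd134d350edc0ace74dccbe0003753740191cc0d002ce00e04010dd0bd000375374010f54eb00e000cdd8dd4dd0bc0a44bb13f51c51b4b600a001376375374240ea4004dd01000800b37f00a00137537423c0d00d40b4e7c020dd4dd08e00837c374030000dd4dd00404802c39e0023763753742ec2342610342650c10b90ac2c4370000dd0ba029000374018e6ce70e74e78e7c000dd0b94814fa1451334ac0003742e0008ddcdd0060230d44cd4ce42000037423107d3344414352a4000dd08b4a850c12e5114b10003742dc4012b91e0048e10018dd0b637a3790061031050013742d51c91cd1d040c410000dccb400e37f373004df4df8dfce00008dd0dccb3,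
  nat_lit 0x39239339437e0013773761cc010ddcdd80c0053d23d13d000437a37634d11511016c074de8de4dd87b00d004376128df4df8dfce0403000cdd8d249549849705a3cc0003761e8f28064dd84a02d017376010020df001cf24f2005cdd8d100037737601002c234ffc23024500cdd8d000f38401a38d01900137633c0300ac020df0dec004dd4ce12a12904b3be004376375248de0dd4dd04f3913933940273bd002374334f04138120eec004dd4dd0cc0ea0c643a43400137537432cee8090e64008dd8dd4dd02a0bd4d315753514451414549845c000374328008dd4dd00c02200337837937737637432429829cf00134004dd4dd08f0d70d645600337737537432012c004dd00643e0eb4740ec0d300137431c124ef53844a0e00dd4dd0c60d14f554155956156055853812737f374314e2ce30008ddcdd8dd4dd06f37d00637a37900400037431000cddcdd00c,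
  nat_lit 0x694ce4d000437a000376394de4ddcdd80c4c01314b80003773783763912dd4e54e84b52e8000dd8e34ba53a1751354cc000376389331439434df0de4ddcdd80a00337837613d3953904fcde4008ddcdd8e14e71774de00037700137636537553953c4f137cddcdd84c37715550b56654f4df3760710f4281048010df0de8ddce03c60543c900437b00037737cde8de0ddc0c3b604102b0003783793773780a91a44582c026c000ddcdd40d40a4090533c500037737014453853cdf4de8de0ddcdb00337937713d21843925cde8008de0ddcda48e15d49000037800137736523d49149525c434de0ddcd83784fd50216d51f49537735c37d14c378414044e0cde0d600437c378010000de4de00637f00b00637c004074378064198f64030018df0decde06f3950033770192bd48527800cde8de0ddc9a3b03ad3ac0213800033773550d90e030d15838917038d180398004ddcd4,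
  nat_lit 0x38d38e0181494990013783dc004de4de00c4971474d014813800037831d2f84e12f0008de8de4de0f61755211a653d1030003781f401cdf8010decde8de4de05000137937800519c37d1443784c4000de0f54b713302b3a202a00d38338200b0003783d0028e00dfcdf8decde4de0f3379378377004ed834041840d1c4004ddcf23d305f1041024700003773c43e94d06986956214c1038224010de8ddcf00284f315553a48c0013773bc02026103d03021c008ddcee40c09740e40b0860013763b4004ddcdd80c3f608350c5434a60003761e12945f5298008de0ddcdd82b1065185785171680003763b0dfc018df0decde8ddcdd8eb00337937600405019c1cc244240000dd8ea4044825325311310003763a52e04bd4f94f5280000dd8e849f53c58559559618f5084d04cf00237639ce6408817933d338004dd8e6001376375031331334164140efcdd8dd42a37615e05c3cd04f3be3751853045d12fc010decde4dd8e0,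
  nat_lit 0x5435875865080c900137d430df8df4df00c0c75061b558351437e37c29037541160560944cdf4df10b00437e37d00051017937c4285dd6216a151c4d0010df8df4df10938338400a02039900137b420df0decde8283980204a74a600137b37a41ce40060010df8df0decde9064a413611811914c4d314d4d014a00037a4153415b552c4011c8004de8210c051317719e4ad00137a4103f443d20920400cdecde90310b00237a0113555a95ac561384000de81b4e755819a4a910900037a408420040e1c038094000de90102400037a010030e10e0ce08e04004de8091631664fd3ba00637e37a400df8df4de44f0090203ad0363b00013793fcecced000cdecde8de4de0fe3ae0370d245a0e80003783f52cc6552f0008de8de4de0fc1344b74b800237a3793783ecec0ebc00cdecde8de4de0fa13646d0f902e0013793783e50490441e80c0e94000de0ae3a43a63a50180013793783e0eac0d1308004de8de4de09a,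
  nat_lit 0xa94804b41451480003814892f12ec10ceec000e08e05213b90404ff5004f9382381480e8809ce04280270e853b53d1520013813b4e2ce28e24e20e1c004e011f4c5152535534006384380478e10e0cdfc4f38800a45a0e50e300137f4753cc5c000ce04e00dfcdf91c0e147e10c49f12a00037e46d26d26844c008e00dfcdf91a45e45f46000238037f37e4645b13bc00ce04e00dfcdf91848348447f10000137f37e45d1791d51d11cd1c8000df91647145345200238037f37e04d3ad3bd3b80d8eb8000df82103412701b39401900037e4543646355e870944c004df91400849c49d12611200237e30c49926d270494444004df51300137e37d0312084415816894c0000df51252f1c853400237f37e37d0ac50d5a9701651474000df51138638438338238137e37d44000ce00df40104341e0ab12049400037d43c4794256156114f8000df50e53619159d59c52e00037d3a14b566d73976977976171d621510000df50d,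
  nat_lit 0x293a8386010eac094e90088e20e1ce193449f4814800493873863850ad45d558710004008000e153300803802f3ad02001f3854c8020e28e20e1c008e18e153100615500e39138f0003841e402874d5f97855fc58ce113016216c4e009a0910013844bce14e10e0c0108f0981691734e60013834b831443c59c5c9394000e0d2d16f17002c3aa0023853834b130c4f52bc4f1574000e0d2b1b91b855a007385384383320e9c000e0c103a60295461ac0063893834a8e88e8408c00ce18e10e0c4100938b005387003001383118e20e30e2ce28010e18008000e0d290013843830314c46f15846f46c0000e0cc75521b054350417e0343ae03002e0003834a00b40b80dc018e1ce14e0d273853843820045b855932930c12c014e092646610247f10b1c00013824951e11f11f44286fc000e09245685670470053843833821eceb40cc124f04f00004e09235065055010473bf0003811e8ef4008e044a,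
  nat_lit 0x309c41209d00238d38c2c4e34e30e2c4f5635991f459a58e38c38b51d04424501d01823c6c14d15e562c79ce2d461d12146055a218538c38b514e60e64e68048e74e78e2d4400c39539439339200138b0253c45f15dd5d8018e3ce2d4338f38e38a13c0242110990c50c8004e294252d1d500338c38b38a3894710c10d112912d120000e25414460b342700238b38a38950110032c43c008e2ce28e253f1d152900338c38b38a3894602ad218444304004e28e24af47f10a0c24364350003894f90d02c90781f0004e28e253d52556a57b00338c38a3894f0fc8fcc1f840d21c004e24f700138a3890052144051d040874c000e253b5775780914070900443c13c00420003893d0104ef8ef4ef000ce28e253a38a38938800513436459c5c9394e28e21394171141651714e4389388104054e6402ce405bc5b8e21383c00431dd1de01500a3884dce5c024e1c0438b04d48410f10d0013874d946c6614784d8430000e1935,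
  nat_lit 0x224345ca5c90013923912c4ef40cc038e50e4ce48e44aa5c75911f91f80c24390c343d0c600039154d68d8518548356c8000e441b20d23123058139400339136c0800b4edc0bc500e4ce45520a702c3b602e13f3923905444ac5044fd2cc020000e415000713d3900a0e5001d0b42dd0c0004e41234350bb43143042f00038f53c024e5ce3c0439b00b39439339139038f4d10a10a90a400ce40e3ce382b43143259a0453c900038e06c114194190fa8008e40e394e13501139b00e06b00038e4041a8000e380400c39839739639500538e02402c1a108c2b5098004e38ff42942a00539138f38e38d3f90902b95a12804b0000e354d49e0ff0e900400138e38d5311f11f442d0a8008e38e354b38e38d38c13d2e4514560008e38e34e313f42442300338f38e38d38c3e916516c39c28c004e34e314a4b113d1d80a541900038c2b9061069064178004e34e30f841f0a91ec39038f38d38c524f68f6c179671598008e3148,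
  nat_lit 0x46c46d20200b3a200039806c02c3383351302c50ace614e4490d35771ff58700139858ce8402c7fd61d618000e5c9500139839700535c01ce74e70e68e60e5d625835841fc00539b39939758512435483969000ce60e5d3a3983973960046fc6f830d0ec000e5ce596043d43c0c5002398397396104020e74014e6800c000e584600239739603153562880562d5fc004e595f43c0c622e22d0013973965787cd5ed5e55e07bc02ce7ce80048000e595d0113a3012005399397396570e5ce58e54010e559a24761659900139556c455669859855660000e543f20259502f0033973963951ece800680fcf200bc004e55365b02135b703d02e0003944d4ee0000e504a0270282125b75ad001394568008e5400c148f5413ce51590003940020513d404e3935616a96d083cecc010008e4d5739b39c0253b10030013925594cd4d00e4f0800ce54e49553933943910107086fd4cd4c80dcf00004e48e4554,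
  nat_lit 0x3a900b5e02441ed00039f5c55807ad60960000ce84e7d433a13a039e13c170fb00cc008e80e7ce79700233bc3bd0023a039f39e5bc8055e800ce84e80e7ce796e3c402e3ce00700139f39e5b4eecef0ef4e98e94000e796c3a43a33a23a13a039f39e0495d95dc8184ad280000e796b12b4c311348b11700039e5a84717309c1761754000e79111f35671f21f503200039e5a40c4004e78103c53c102f3c203000039e0c87c95987c5580390078e78ea1191261cd56655e00239e5a1040000e744a40f08e0163ab01301139d59c79879c38115c038e9ce716659359259111d49100139c2040100c11e8439240000e6c7905a3e339b004f78f7c158821640004e6c9348311058d58e58f00039a56881408007cef8ef4000e696502a04b44b0d40dd00a39a590e782d91a03c51ac004e69234700f546c46b46a00039953c2e90cce64044360b642f42e39b39a3994d118d1951902c8e68e64e602b,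
  nat_lit 0x33a63a40314c06f15a48a0008e94e917c3af00b1c71c953c0003a36007247416c089d688000e8d7f5a15a20033a63a53a43a33f82b50d90e82dd190000e8d7e0df0e045d0023a53a43a35f50ac29d140008e94e90e8d3f22459f0033a63a53a43a35b837c3dc3e401c004e90e8d7c0d00d40910073aa0003a35ecea4ea0e9ce98e94e90e8c1259b59c5d51a751b0003a30846954a54a86d94b8000e8d7a1bb5892796665f60003a35e47f95cc8008602a4000e8c980a83a53a30a11a91ac2b50a829ce90e8c0208a4224234240a00a63a35e0e9cea0eb0eb4eb8004e8c9658958a0103ae3ad0003a2174020e9ce88013b63b53b40043a43a33a204ceb4028ea0e90e8ce88e857758520c23715b4d00003a15d93405704b8044ec0004e85754ca4d213b00f3ae0053a15d0eb8010e80100f90fd02a0073a50013a05cc1055f8815608e84e80e7d723a33a40062085813a039f584ea0024e7c28,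
  nat_lit 0x3ba3bb00f3b73b60013ac1d51983991b8004008000ead940013ac0024310a64393ab64d1ad1a83ac759804a4000ceb0ead923b20063ae3ad3ac3ab3aa6450bc2993b85f18cc004ea99000f3b828f6336320003a963d8c18bc1f1034118100004ea8ea58e25f5e406303e3dd0003a9634f740fcf54ebceb0ea8ea44900e0213c43b20053ab3a9630eb0ea8ea0010434d44d50023ab3a93a862c53052c2b0000ea4ea8ea1600ab14a4cb1572373d03aa3a93a862856d37136c0e80bcea4ea18900400100002402d3cd3a825cf180a926c49d784008ea1880023a93a70058809f18a4eac004ea0e9d8725625424f3a90010003a7618ea4a043a118c050ee0e9d853a828062566b2a468f29365024f5d73a7610ec8ecc0408d56c0004ea0930ba0c05aa2305af0003a71e4048ed8e9c043b701460a2672253a83a74a8ea8ea4ea000cec4004e98093ae00b5ad5ae5995983a660ceb80296b16b566165ce95823b63b53b40033a73a63a53e0eb4eb002169d698000e9181,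
  nat_lit 0x40010002222245963b825d64d649644879834008ee1aa0023b93b7005950ac195ceec004ee0edd8728228027f3b90010003b76a4ee5950671445449450edda83b82af3d802f3d727d3b769ca18a1d82408004400cee1a600402a2a62a42a30013b7694f0c060f34084f24edced9a464b64c64d01c3c63c73b65d0034f18ed41040406706c0063b80013b568cf34f38088f20f1c004ed05d3b63b50014590d40d03b4688010ed000116034c33cecda14574580d346045f45e0043b43b3680ef804d10c195004004ec99f02301f0090043b33b23b16781949ac219068354004ec59d3c00180d54580d40003b067035544144401ceccec4ec19b1931941350073b43b23b0668ec8ec4ebc013cf3ce3cc0023b13b03af664edced8ed4014ec4ebceb9983df0383dc0160013af3ae5d009093878154c658004eb9970150190093b20023ae3ad6582ed10c2e8040010eb8eb4d612b4a312c0103b80033ad654010008eb04a,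
  nat_lit 0xf94824810053c53c43c33f00380686a06a45a4004f09803c800b02301f0023c23c16e937d3805a000cf0cf08f05b91f12c40f147b47c0013c16e0070080010f0cf08f04f00a40f21cb1ca01700d0013c068d4e14dc46005cf3c00cf01b700b0023bf0404e15d95dc024028004efdb60033c14e74e84e93bf3be6d4020f0c02429d4c94c4ef9b41364b313715428e29c3d10013be6cc00800462863c5b4ef8ef55e3cf62316a4e14e24e33bd6c82890dc284014f00004ef5693c43c500f3cb3ca0013bc53cef8ef4004421224418ef1b10033bc0001074881053bb6c041922522c4244f0a6c00cef0eedaf3c20063be3bd3bc3bb3ba10826d0c026585d88c004ee8dc3c400d6192916220003b9670a5803cf20048ad0000ee5ac6592375a95a85a70003b96b96948c88c0efcef0ee8ee4db1d91d75203c20053bb3b9630ef0ee8ee0010734120750023bb3b93b85291c11c43b4000ee4ee8ee1ad0ec0163c70171010003b86b120920c40c4b5674ee4ee1ab,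
  nat_lit 0x3d100710518d52f0003c9740708741910f74050000f25cf01301200d3d53d40003c9738004f28f240c42f43161e00a3d20003c9734f44014f34f30f2cf28f24423d400d63724959d0003c93f566c8949f43fd228000f25cc0fd4fd18650516a0003c93b13913953a4f3cf30f28f240250d50e5113d20053cb3c972cf30f28f200107b2a029c0023cb3c93c82bca54a6425c000f24f28f21ca0966136152996140003c8725854a6d8945b1390f24f21c80040010001a11a516a3c871d460688aa98bd8b4008f21c60023c93c70043e8ab18ccf2c004f20f1dc52a32ca1383c90010003c73a0f24aa199d9e464941cf1dc43c862f2a66656641363c770d70d711720084f6800cf21c23cc00b5705715720013c7704f34f38f3c014f20f1cf19c057156d56c01f3d80023c66fcf58004f14066376366353e10110013c56f8f500699d19d59d8f14f11bd00f0273e02d72d86763c46f0028098f7cb58b5d9d4f0dbb,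
  nat_lit 0x4f51781364bf1003d23d178402003406832d23d240f44ea0040010000f54ad1223d123d2203091800a807c008f45e00023d23d000562c859648018004f44f40f93e63e73e80063d50003d077c010878bc5af4529334f41de24826828f3d60053d23d050cf4cf44f3c013d53d63e50023d23d03cf52889486d634000f40f44f3ddd58c21a5976ce1f15653d13d03cf7700600952a8484738f40f3ddb3d02895fd2045791ee3cf768f58f54028fa8fac004f41d93e43e501f3eb3ea0003cf53c050f78f3c0448e4924930063d20033cf530f780545fc68d4c0004f39d83d53d63d73d80033ce3cd75d4bd4c14cc06c010f38f35d63ce3cd3cc0a111028d14c010f38f34f30ac00b43a0890820023cc3cb7552303fd6e421c204004f2dd401701b0033cd3cc3cb3ca74d0982010bc040004f2cf29d244f0b261f0103d80003ca6dcf5cf6004805c060000f29d10033cc3ca00531931d32cf78008f2cf2837,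
  nat_lit 0x29d6256243de0053da3d87bcf6cf64f5c015ae5af5bb0023da3d83d77b901d015010000f60f64f5ded4030143e60125ba0003d77b091dbbdb6c8215f8f60f5d893d861e2ac22559a2093d77acfa8040f8cf88f84004f60750193ee3ed00d3e00003d7308008f60f5c0156d56e57200a3de0013d777c074fc006000cf60f5cf59ea3dc0093e93e80023d73d67a4f60f5cf58281574e24e30033d83d73d666804d274424430004f58f55e800901d3ea3e90023d63d5251275279284f84018f58f54304e015d50300d3df0053d579c034010f50045d45d55d60073d73d53d47987c56f16ec01cf60f58f51e50043d53d300569c8d489803400cf50f4cf93d93d83d73d63d53d33d27900900a0fc8030f70004f49730033d43d2004f68f6c01800cf50f4cf48ad25b25f60e3e20013d23d178c9008587fcf80040000f458600f3dc3db0023d33d23d104c008f605445d85e0000f45e2,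
  nat_lit 0x193f63f500d3e80003df308008f80f7c015a75a85aa00a3e60013df77c074fe006000cf80f7cf79ea3e40093f13f00023df3de7a4f80f7cf782853f19c51d0033e03df3de7dc04d2cd2d12d4004f78f75f600901d3f23f10023de3dd2512d12d4478fa4018f78f750a19755255300d3e70053dd7d4034010f700461e61f2a80073df3dd3dc7996808b49d801cf80f78f71f40043dd3db00507c15810403400cf70f6dd23e13e03df3de3dd3db3da791721745740030f90004f69bf0033dc3da004f88f8c01800cf70f6cf68ad61229f2bd3ea0013da3d97cd7848dc868fa0040000f653e00f3e43e30023db3da3d904c008f806c0740738000f65e25451cc1d454c1113da3d933002090892cc7444529cf65de00400100010811354f3d97c8418765bbdae0950008f65970023da3d80050080c5024018004f64f60f95c25c15c00063dd0003d87c40100f41311b032548cf61f0,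
  nat_lit 0xb0023e70413584f84e8024028004f9e070033e95004f84f73e73e6818020fac0253e05a8598f99595725711f82966086033f90013e68140080054145b53f0f98f952a3f728e29c29b16f4fc3e58114085d4594014fa0004f95a33ec3ed00f3f33f20013e453cf98f9400533133559cf92030033e40004cb4cc5663e38093284c488d70d71496400cf90f8e013ea0063e63e53e43e33e210857c84495572972c004f899d3ec00d5cc5cb5ca0003e18009502502542c4b48000f85ff2d53281f50274000003e17f8ff8090080f9cf90f88f84db41c41a03d3ea0053e33e150cf90f88f800157f2532540023e33e13e0748a50a54690000f84f88f81601a309c45809e13c0003e07f571972c95c074fd4f84f81fc0040010003eb3ec00f3e07ec02c03c4b0c9c9e0008f81fa0023e13df0058ed905908f8c004f80f7c375e85e95ea3e10010003df4f8f84b39bb461c0c101cf7df93e064009a45409b5e83df7e0fc8040facfa8fa4004f8075,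
  nat_lit 0xc3fe59515d4f70013f086146061d46c00cfc8fc0fbc204f61584f30033f23f13ef85d38c4152bc4192f0000fbdfd11355255318a5180003ef7f945861948c00cfc8fc0fbc241562115890033f23f13ef8594b03f529c3ed59c000fbdec5651e66451935200003ef855480650628fd0008fc0fbe1420c21458c3f40030013ef84d32c4143c03bd2e0fc0fbe123f118723a1ee11d1123ef844fc48408f59e87754e4fbe103f05880153fc3fd5133ef83d0400bd08408500800cfc20e3f400b43143042f0013ef834fd4fd8fdc014fc0fbcfb9c005506c43d01f4000023ee830ff8004fb4066162a42a04090110013ed11cff0068bc0bc9994fb4fb20b00f0274086682f62f23ec82802809901d99cbd4bc4fae091ea63c63b0053ed3ec3eb500038068890888884004fa9a53f000b02301f0023ea3e96e96e56d455800cfacfa8fa60804f0572b73562c30013e97e8070080010facfa8fa4fa0a41bc53f53e01700d0013e82613a13a454c05cfdc00cfa1bf,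
  nat_lit 0x1046208b0880044003ff898008ffcff8014ed4de4dd0214100013fe6fc06505505104c00cff8ff62540e40f4104114120023fd2591682051ac01cffc000ff20e3fe3fd0014490700593fc890ff8ff00011201bc160fee2344704842a0494670043fb6b100402c24025119800cfe9804100210230140003fa3f922004953c7186f806cfe8fe6221fc20458201b40a3f93f83ec24519954153c6ec064fe0a13ff5045051660033f93f888556473955903400cfe0fde203f83f73f60a114914c1f800cfe0fdcfd9f716250250a0564330013f67f8030ff4014fe0fdcfd8fd40705342404342807b0003f587c2111a5a54d504b8004fd61e4044054cd12912d0003f48753404b4480030ff0000fd1753fb3fa00a4ee4ed13e3f4870fe0fe40253b53b04f4fccd13fd3fc00c5391b015d3f3688fe8fec02d4e06bc570fc9a100f3fe00e4da4db4e03f286cff0ff403536536937cfc61a1b227263519751c0023f1864034000fc004,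
  nat_lit 0x110910510100d00900500227]
theorem S0_c : blocks (facts 11 3 14 25 2047 16383 33554431 12 4095 10 1023 A R 32) 32 JS0 1278 = true := by decide +kernel
theorem S0 : On (Step.{u} relsS LW par A) 1278 2334 :=
  steps_of_blocks hpar hR S0_c (by decide +kernel)
theorem D0_c : allB (defOK 11 14 25 2047 33554431 1279 A K) 8 2 = true := by decide +kernel
theorem D0 : On (fun r => defOK par.W par.WL par.E par.mW par.mE 1279 A K r = true) 256 1280 :=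
  On.of_allB D0_c
noncomputable def JW0 : List ℕ := [nat_lit 0x7b93f95046f2e7da3f89fcef3079a3d01e7cfe9810c00a000fbe41ca0550370237f59f25e74fc27a33fcd04e8297a53fb9fee82b7b13ff505ef647b43fe9ffef6a7dd20c50670058079fbdf1cf903f9bf51fe1011809be59f30f9a80540bd07900c7ce3f71fe90157d8406d076fb27db406203afb87de401a01101f812a01df88fc6410bf59fbd027814bf91fccfe881040dd07d0227f53fc9fed02b816bff1ffd00480740c507b01080940ba06701481ac06a03901e81240e507f02681440da07702a81640c206503d81a40e207503c,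
  nat_lit 0x7171d65cdcf6b7ddbea1f4c8047b720c2002f707ba400d064f767b01fb9f16e907bc1fc5f1ee923b9bc29e10f913f91db5d30f937873f55fa48187a2205dfe28287bf3e5cfeae9a7b33e51f32e9c7543c59e28f9b805a0dd06af88416a03d04b00d7ce9dedd5cf8c78d3f75fb481e7a42075fea82a7d8a004f2aece3c69e8cf4efb37dbbb61006eda7d640650750167711e85df4fb97debd69eb08057bd401d068f7c7c020da012f827d72019f82efc7b62025f8aefe7953c09e00fc74103c89e48fe17883f5d01a81978e202dfbe81f,
  nat_lit 0x7b6b960fc4e323c997b4be2eff795976cb7a7c42aebc0cf6458d3009ec1e025f5354bc8cf7e69d319bc81e4a6897889b8cdca6df78e9b9cdd26fd7822029018fc97b99f91c8ce3876b1a64d2af2f7dabb51004ed07963f8d044fe03999a44d1af3179ab3199687c76cd3d04f9cd9c33a9f31e7ed707d51f4cfa2fbf41c3e89f490177832051f9cfd1789204d034fd92be9f21e6ec786791f2de76cf47992021f80fc37a39b04d866d97a59af4d7edee7a13fbd04cfec7b19f7ce4ae1a38e9d2ce9ef657b4b890fc2e267af3fed05cff8,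
  nat_lit 0x7549784bba779275bc5cf74bea1c29ee1e2a3617ae1fb4fd6f894163d51eacff93dea039f96fc879e2045048fed2459de9d5642f23a9df5d5eb827531fc1f14f8d78d9bd4dee6f17a49be4df66c578c2071fb6fd875d3b7cf28edc2898e1c6daecf3c610a485aed312a9e89dda799123bbb8f4cef175a3b64f1e79128791fc8eeedb7d69fecffa7ff771ab787867974c31e81dd6ee84ff1ebddf67ad70a3d6cfb4e167021f61eb2e087bd9da4fcee763b19e6cf3ef7d7c09fa5d00e827451ea5decf837d7a001dc0ecc3a19794bd2efd,
  nat_lit 0x38e1564af2e1f4fe1d29cba748124b978e9ce617013894e3e72125d97dd9c0e277af9f64fb67dd717b650d567270fc9d61cd6e68127b9b1cde75c75e3ea4ff8ebe75b1fe9f4eeb87b79d14fc6e3439b9d4ceaef717ba9f95c90e4a72d1d45ce4f777b09f79c58e183b39904c86e917bcba20fcce74391985cc2ae933b91734b76ea1212bc2cf6c4392649ed1e124811e49db1d2a4fb1ab9dbdd323697879b54dae6eb7a29b44da66cd7862059fa6fd07bf9fa1cfce7871114eca62e9b7b3b880fc0e1c3babe54fe8f9273d1644b26e9d,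
  nat_lit 0x399134499ae410f79a41ae8d77070b5ccd186850cbb31cbc4cc4091973996acb26cd9884d666a33579a6cd26d9d33a3560cd6d5b6a61a2cd0ed717d59e15d947fe6f91f49e9e74d6f83d34fa075b7583e8cff279d7593e81f4a7ab78396bcb6ae96789993cc96eac3eaa049f9efcc2be15058c8c67631162cb1ec7967995ccc165fb6641f29e6cf3930397ccbd6cf5799bca1e4c7c629f9b01b5a61f6cc36bcd845a76e1b701b7c6d83399af1b5256f67836acd7cd42381b781bbcdef7a19f34f9eda638bb8ace48e2825999dcd06e1b,
  nat_lit 0x11ab330bd0ccf60e3965cac746394938c9cee333c90fb47d2edd10497b19a6589054b350be0cd70a59769978cbf0c5b294b78ca22ae3124abcc4663831d58e458c3003390a9ece766db3419b05f43543630cfad8f6c1b5e1b0069c3193460c5ad1b2ecbc84f7cf1e6b435a9ada6883539b89b9a5992b4b73cdc86796e4b6f1b746de2ff9b99ba2637315b74cdd05476f3b791bc46fc7829ec4f66cfc2949ce1c8ee44395925d694e3976b902c83a79045f1a61af8d7f4d935ecd28d6e6013b54f1ced239691b48e2ed17969f04f867c5,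
  nat_lit 0x59710a1662b2c59aacc8858b2812a09593869c012308b444a9b71c4bbbddd87a475a9df8e62e362870ef4752bfd5bd91f96f03f916aadcc8ecb701e32b7d5b8381183ab6c7843c04c387f03fc9844ff8aac54a2ad23e9eb9dd4ef970a9c6dc1c2d1382b7b0dfee177029c3dbfc30b3889b6cdc2e097091da1d0ee842839a7db10e773b133b0c06e7d1189e69dca798153bb98f3cee93859d95d0276127f95fcb0ee8374598d4cce76b1479ea1de6ef04df3bd1dee7ac288bb79dc279639f8ddc6eaecd3a10d34692e5507c9791996c76,
  nat_lit 0x77b1f4b2436709e9781984cc50b7b304bb8cbe2750d157acbd91e393e49fabeb1c22a8154caa95462a3c6c43607ae9e0cf0e7dc7471fb1f0e7a57463e14fd4ef86fa3d54fae7556fb3d49eaee703de1addb48f1f79eb3e19fcf383fba041f94fcd245123970a48c59a2cdc86042e23a107d6dcb712ef9df1d54ead2442df9700b837539ddcee277824a9bd1bbe327274b784dec4d36edb739b986f01bd9be1bc6419239b794df43ef6d8b6b9b586c478c9ee4f765b775d9cf4f00e302890e7472ac0118e8e19556aa854a0da86d8a97,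
  nat_lit 0x38a98e5b2ce7539119a4d4ae291139859a06435075b404c284850cc9731960cb30a296e0b74ca32122ca881eb2d59facf16744382642eec88abb85bd12096fa4801e42b846e23c15f12f9d7c84fa1ab2a09500a852e59db9d28e9754aaa495203685711b51b7eb0858c3704dac4116eab749ba06ea2659b41b764db1a9b6f4da44436dbb6a9b506cc7869ed4f6e64d2849d91cfee7c386950ca9ae7971195acae272005b94e98564f710fb08ca6036525ab884e3ce1e384966d9dce1d3ba3a79d46ea073d96a4bfa7604ca16418f6be8,
  nat_lit 0x4fe8a344ca2ac12426d13729b6340b97dcb874c7019c38e0ee0025d0cf575abaa66d17d99ba5671f0b3799c25fa3573654d5a66f22bb644d54d8e0fc07e930498512709404a49c12fcb9b5cd475a75e9d04f023dd3979b24d9eebf75b9dfce6a45b39d9bccddaeb97291d11caee5429393d49dae3539b130c98ee454de1d49cca749154b998eace697211ce5c92e40295927c87ae4b72d8d646be7471489d41cc6e601179d7dce675d25cb8a9c5a72638c99c4cf6e193b318a4c4ae8505e9901a5243710cb4acc84487282ba25d0c76a,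
  nat_lit 0x64e327cb6853d69b9939a6863b69734ccc94d303ea3d31e9cf5149e14e58ca57a1ec95f98d2c6606f96298e65884dd31d0b1cc7708d95c98bac5a664973cbc65d330333b4c0a5370fa97c99b2cd645e3344bd4cce60f3ca4f84ea46021f01e4e5c729f1501850c2f685b09984861e6cc998cd646b1648b23191c5a66e11b69b8adb83393565aa8d5662c955caaa56e67895dcc1460932e165cb2ad4338137b5bd46c72e89aedb40da738b3829c1ee0c25929b9744ba532f99d9abad5a6b4b598d04d642a59560ab4c47631b178af0c60,
  nat_lit 0x45f83ec1ea0fd4d9a6c135824024db5e9afa6966019450a1ac00396118c8a6e3b1fb91b16d24230c0ada88e0b6d5e19341780491098aefc998bbc0f707c03e4981070029d14a8a2237b5c9aea68e0cb24c926e93409123511b28d60c89880c44d0d6823619b126a21199a69b02d7e44335e4d24d76094b544cd4d4e6a6b528cccd4807b9a29ad8d6f121b5acd0c68418c9e11d8670116f9e2dd966dd6f99684b665756f89964caad9275896b4aa2cea350bb9ddc879c75998fcc8e6657643e84ff0f9e2c2bbd5de47aa64b16b993259d,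
  nat_lit 0x4942bf47d03cb104263531420a05402a9104885272b3559a45ee0a523ec2868f80c505dc2da92d47e3121896560638b1b8b0cc6c0b5b0f4a9cc3a2b1b3a4c04ce60a0b58ccf8d606c11a79b0a62f0bcb465a2c63022f98d1a3ad1a2ec329197acba3533634cfed8a641b1f99005982b43140abec536afb1098886786e43718dc0dcb2ff3394b06ce268f9694b466363153454c58d1261a94cca6a5466f337a4dfcddc2eb9848c1ecfd2943051832c16395101c7fee37086925971ab8a5a31119696b480ae9028818b175902c88838b25,
  nat_lit 0x56c2b695ba3c44cc87f443899610908503fe9934fd8aa93f02a115127d454827923e2dc96f2b760eca86542c2d03820c7c6fedf90eea92548c30a38828b0866e077099c68e26e102830eac72ebf511807dd34a9a21530a044b69f738537e9bfedfc27f0eec736bed147098d3c09e34df892c48a24d2882fe97febfc39f0ca4666e510b18dd86f0a9f54e8dc86e8a9a0898d314f4a7d53029e4690a7607c22d11728b611a26a446c9a61c7b3359945e660e94b0a4ac1a3940f947aae315e513897a23554742f489ccbd55808fb15fc383,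
  nat_lit 0x254ba7cee05d524a123d710b8b530a9786483262740d757aebd45e12f149a84d26ed1bc9bb0ddd1bd2a846f8a9e590ac7963841823910856deb6c5802c0c7e03ee6d81b21b666c6650b2799305b64bf1cf1c9ee4c0458e71576ab844a0e48728ab518e0bb4622a5b186aa646dca965978b2c5624261cfaccd66042a167908164cb29138095c4e49d114927913849e711508b134299e4ce888844899a1c40dad554aad0f4b8fce60e3c0678ef15aead443e0e98750ac5172ac2c7f43f816a287457ea1a5512a946fa3801830bf45d6a45,
  nat_lit 0x9b8d1068ca7717caf6c9d8bd84cc13e17ca4f6074af989f8be94932a9154e382546aa206bca8a05faa39522364115aa4c6c636630d9e09d826cb297bb14f0c6ef74791acd7242b74698355643c56fa9ad493a4c5279b99dcc87546fb93859f435b3c4bd4cfacf502509d79cc4e716cf1ad9b4268f6d11ae9b4a69767b33e4c1c5ef308984d9fe5e73fb3e11f0cf9f4782e1d708490166927972a48d076acd96764344ce2cf48624360b2907964eb242ef33019865c5244930976a493109adfd6f8484058920d7024862859dd9d44ea5,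
  nat_lit 0x2e516e5962cae571ab806de3ca1fb2c19608b0958cac2881cb1654e2c6c8244106ea375cdd8dca2652ee887ebbd5e5af2178c4da1a929f9502a7c5a3ad106464426db36d0d9cdb92e4b4c9a6a64c284140d7eebf43860c4d47ce010aa9509862c2e61a30c8a98c3b08295a98aac5262c3158ae0c5b05b028511688810f080c44099b616b08985453c25a2e7974eba43840bc45d2dfd641166990a561095967d9de60864816a192657b0bd96acbf8ce34ca885932099207722c41ce8ae643b1f18f459c09e23a91de8ec0b724402e0917,
  nat_lit 0x721b8f8e68e3a2950d04672c1b14827944e69e2117088d3409a325c2ea0956bab38c0b64566e1108c99c0ca6d576af1944cf4d610b498a1a20d13685343cc48d0c05e223014688f10c086840a99732434a9a50d312822fcd7e0bec38a0b04592e0d68f18e1a4263149f18f5b2e6b032e99a0cb6d4f47f3500d48d8b113084445099f07522a115a8aa691b401a0463a0cc063c3129390a204cc22e8f54982cac7f642259f10e8878b4108aad08888b49171aed898cbb90c3aa606e0a9b5f193d17c034f4732a0c6a23541878d6150ea84,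
  nat_lit 0x44e12c1746ba032f118480ad4522eb588cfcd652a50f5c662c3928fb17cab65741ed95d98b8c611450a313c29de13009884c89c912126d448820b4dd8929370241340359dab86570edb7ece0cdf80618cf067ca7143f12f1758baf62731458945661f029915eaaf26a93541aaa66e22b2c396a4b5528bb640d58d9311907ed3489a70fa07d930698012c09444b49c51410a004a69db2fc337d9b85b10f3abc55dc3dc3971984cdae3d4be2d656ac45a39d1594aa6e4d7299d01c9ce5029312fc95ec174de885443a24c15427d13f29f6,
  nat_lit 0x16198f9a4ed241dcb52da386647649e29d84ec664b96b0b02c9464eb268b6456d69b1961a78d3f697b4b0c8c62749ea4e926c19c1ec0cbd5d4aed2c231bd8d0c6a06f034d1408a308d23542388d21d6b3a0c08ceb45e831419a0fc60f94b58304b760294557fc3b5291b2a995a5c61ef94e185253614db09ca6841510094c984a3f56a31988c46d4911eb234b4441713d969191e3f3181b71db886dc14f955988a4d711cb10caa832110796599024d9136b1fcb2844150337a1bd67002e832dcb825d20efb82ce24e06046a9bc674a6c,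
  nat_lit 0x86232d19010e0ae242d21015e204ac8c81a41a45d83e91700f107922d41e80bb11f26c446e9ae11d26a135a9aa24d111d718b914bd2feca18bf814391896c2b5e02c91408a4b510c0053d24492509803fd1c48e5232aef97824ce10307c531698810626303e698f052029910688007102ad1488a72372dad6d0b660ca060c2ce93508f23402408d70c824cc324157682915480261844382b015c88409404991b08dd07b03741aa8b718c0bdd4a8a5716f0b15448a2717a9681916c8816eb4ecca8d3818bb0fcaa0545350361db08645,
  nat_lit 0x17228b5450a2a59c8b8486442744c0ea958eac4041aadc72cab40498ee95a4ad506d8e60734ab90328ca0654a63133a9a4664a660b1056d21890f089042d1988cf53529e14f634a1c70dcc6f2ab14ee0f915f2af60478f487a8ae947484bc20213449485fc2a218457d2bf15fe3ea2722f4d7a0bce0a404fc2728f90c624a925e92c47ea3e91ec14c0b524542d89122b10f8c65ac4d0a023cc2841070bc05d923091d22f100d6bab5a62030f0b04c6d22cb451a2e62e2eb16fd970cbb0f1b054a48c1202f9019626b104e30ff07fcb0d,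
  nat_lit 0x1e7b6d5b646ca65032ad9505c44bf87ac3ca1ed04501c50d086b44a831912089242d0bb05dca330448ab8560a011cf0e4d574abd1388b29426a1013a27393a69d0149a930620a4f14a27a452c9e655f8e44740aac0f425d12f297606702cc1a089b43e81e413209c43c0af057ca0942f0bf1474a3d56c8e9d5ac3be4fd28705aca1f4f9a7c13d82a0151a8c45d4a2e13b27544de2785ba11e88d2b770ec06ec34296b1692860576a1b1670ae542ea1452e8c794b0a5a5518c6c6fc2fb0ee071c39696f186292060aa4b184290948ea44,
  nat_lit 0x5b211a88d0b675570e41566ab05c72e4c938b902792f697c2bde5e613809bcbcf1a1aa2550c35a3c43b11d80ec76cf9ad09464cf6d191ecd7041b67b98307423eb30813c59f634b47884f91dc1351660abd424a1525010ed728b97076031c1b28af0b224442cc90e5d92edd7684c405802c81688892852fc97ecbf92542e7c954b9c280b2d99725d4169ae1971249214ca97c64432011fad1464a44052e0d7068ea8b103af1178e4d613eaf249aa4d8226b759bb26ee135ac7c82641611dac6963a414106ac0960a3f214eac1c7e23f4,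
  nat_lit 0x2e4170d958caf0ea94097e2bee0438c494a2a4e4f90bf947ea3c0aa240920a156082230918a10618ab15d8a856c04f028014488105c22351140ba100080840898911c086c4429ab61630cd8605444b92ea574c4b613a8bc146aa3204b8b985d0a2f09523691be8dc0bd246923e91c17996a9924c9511e085c4529af107084132298e459a2c11580f007222a41cc8a66431679908c8909d049c23a8ed0b9245123291609b23ac27010f17c28c14762fa074032c1a28ab49386082e292405f030112288e30d119c932d07297137471ac21,
  nat_lit 0x6a99874cd86194be871437a1ec22e2d6089eb5b22c2d396aeb546279590a92c4c620b0d8aa4c3806492f9762bae04a92b095cba10428d014e6a7006b8cd8670a6d0228b61442a1e14aa80c564a0008c04242068d30b405642a691316db439a226263249940ca4d3913b8b01416a08037a838590a1149f85f42ea19d47f84b424a14d163b504cb4d3e69118f1a40d250cd24ec3269380a323c91ee8f4498863925c18508a234422c8ce1710af45aea2b0c324ac31015f47384c82428e418729345dea4a59c2d0c87cb40184a9fc6a034e,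
  nat_lit 0x13d27513a49d7181290c608a4014f27c452e9ee136273c4dc9cc5038ae0574a0428c96f8b80ca70ef25c43ae96e04621b40ee86a44e83481a889a04891816b8b5f42e0cb8660a6728f12c4676c0f1458f595d6ae81430a204fe9df1309008808b1113309a13969c8290b4e9a7a6560ed25a12da96a061031015e89343f826c0fe09d03e8f895e8af743d2c3c800b0c28b12f467ec0712ca994658a624e389704bc9c414191516a6b504eea7605089da28eb26d9145b00f307343469771ef2bc07a2af31ed2b995deaec6a39981a10d44,
  nat_lit 0xc687192b69580f125d43c81b502f018109e05c034a32919a11003185692129062040ff5624b1545d242921a16007984291928c64bd87a92f01e102c013509605602d85f924692042303f82008c123211456c0b6305285382a090107184b91c68e00ca867834094108fa57039495f0dc8c694b2a560e48b81452a2617a0bd9472a3616e0ad544aa2218b0c054aaa521610b1056ea0d1dc0e655a6ad01d9b4b5a4c6441dbb0f8b00c6b06d037114289e1d62ad958cac944c82b41988960d9ab3d5983b42913031820c1314d27a13da9ea,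
  nat_lit 0x5b29198896b625578e287183355c79124930b145e6937079a3e71a10cdd4e4a755ee13c09bebdf5ccae48944b9606b03041b089f5d992b57604c0064032816a8970e9ae6894cb9d28011e4746bef14c09a44be9eb13e27644fc9d62262d3c89cb4c13509753949cd14e0a2450a9ef1e72b9c7a0ae41d79709952ca642d81c00e485804421910d286655f2b04744abc43ca1d013087642f81e00f40475ba91e074a3bf041218010086304901d50e087303221410a6066535a9a0656334047213009e86f57d8f4d5f03e60a486e929c951,
  nat_lit 0x4821b10e286e42e81d00ec05d290146d822c0e03e21840fc05743d826810206728e3035814c0604a21d40f687204221940e6862022210108604616d2809440a23037014d0ac859163283d414a0c0cd87312c295e0a387112ac9590ea25a43ac9660430124086867025a40c2a490001f84211888c718a0bfd4a0a5304fa30c2048c005c85612089074b9a5c12d81e004b01b40aa87702884b11bc8e1035a46c2e81611790b9d468a37459236c24811107285f123c92109da50c3449400b9a54c3789500e79871a12d060e1b0dca90c20,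
  nat_lit 0xd506b128e9440df07003529550e8069d2ca9620d206983509450d7252528c1b00db06b529494d0d59469816c08025012108484501f210408404002801480a884903501b10ae8540e725092c09630e125492ae9540e907052c89675cc2e6c948a745ee93b894e4c10df9120894b4d0e88e2c798ae51d72b2c760ac20d2ab00748ac303401850a4855031214509c04102d2135094848423813009c8440dc067d29e94c0e425752b41b10d925212961b41db2b38762ad11d92b2959aac80d78c01470a410db8ad056ca0528c13bc94ac09]
theorem W0_c : blocks (rows 11 3 14 25 2047 16383 33554431 13 8191 52 A 2334 1024 cols 32) 32 JW0 0 = true := by decide +kernel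
theorem W0 : On (Row.{u} relsS LW par A 2334 1024 cols) 0 1024 :=
  rows_of_blocks hpar (by decide) hcols W0_c (by decide +kernel)
theorem idx : Idx.{u} relsS [[0], [2], [4], [6]] [] 1024 :=
  idx_of_cert hpar hR (K := K) (by decide +kernel) (T := 1279) (T' := 1280) (by decide) D0
    (subs := []) (by decide +kernel) (T1 := 1278) (by decide) (N := 2334) S0
    (by decide) (n' := 1024) (by decide) W0 (by decide +kernel) (by decide +kernel)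
end T
theorem bound : Bound.{0} relsS [[0], [2], [4], [6]] 1024 :=
  .of_idx T.idx (Bound.nil _) (by decide)
end
end CA.J4US
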