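import Cfsg.Agent.Lib.Spor.J4Mod
import Cfsg.Agent.Lib.Spor.J4US
set_option autoImplicit false
set_option linter.all false
set_option maxRecDepth 100000
set_option Elab.async false
namespace CA.J4UD
open CA.CNet CA.CWord CA.CLevel CA.CSimple CA.CPoint CA.CTodd CA.CLow CA.J4Perm CA.J4H CA.J4D
noncomputable def eqP (u v : Word) : Bool := eqQ lk [0, 1, 2, 3, 4, 5, 6, 24] (u, v)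
noncomputable def fx (ws : List Word) (lo len : ℕ) (l : List ℕ) : Bool :=
  CMat.allR len fun z => !(lall ws fun w => mapsP C lk w (lo + z) (lo + z)) || decide (lo + z ∈ l)
def sw : List Word := [[3,0,3,0,2,0,3,0,3,0,2,0,3,0,2,0,2,0,3,0,3,0,2,0,3,0,2,0,2,0,2,0,2,0,3,0,3,0,2,0,2,0,3,0,2,0,2,0,2], [0,2,0,2,0,2,0,3,0,2,0,2,0,3,0,2,0,2,0,2,0,3,0,2,0,3,0,2,0,3,0,2,0,2,0,2,0,3,0,3,0,2,0,2,0,2,0], [0,3,0,2,0,2,0,2,0,2,0,3,0,3,0,2,0,2,0,3,0,2,0,3,0,3,0,3,0,3,0,3,0,3,0,2,0,2,0,3,0,3,0,2,0,2,0,3], [0,2,0,3,0,3,0,3,0,3,0,2,0,2,0,2,0,3,0,3,0,2,0,3,0,3,0,3,0,2,0,3,0,3,0,3,0,3,0,2,0,3,0,2,0,3,0,3]]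
def nws : List Word := [[0,3,0,3,0,2,0,3,0,2,0,2,0,3,0,2,0,3,0,2,0,2,0,3,0,2,0,2,0,2,0,2,0,2,0,3,0,3,0,2,0,3,0,3,0,2,0,3,0,2,0,3], [3,0,3,0,2,0,3,0,2,0,3,0,3,0,3,0,3,0,3,0,3,0,2,0,2,0,2,0,2,0,2,0,2,0,3,0,2,0,3,0,2,0,2], [0]]
def lowS_w2 : List Word := [[0,2,0,3,0,3,0,3,0,3,0,2,0,2,0,2,0,3,0,3,0,2,0,3,0,3,0,3,0,2,0,3,0,3,0,3,0,3,0,2,0,3,0,2,0,3,0,3,0,3,0,2,0,2,0,2,0,2,0,3,0,3,0,2,0,2,0,3,0,2,0,3,0,3,0,3,0,3,0,3,0,3,0,2,0,2,0,3,0,3,0,2,0,2,0,3,0,2,0,3,0,3,0,3,0,3,0,2,0,2,0,2,0,3,0,3,0,2,0,3,0,3,0,3,0,2,0,3,0,3,0,3,0,3,0,2,0,3,0,2,0,3,0,3], [0,2,0,2,0,2,0,3,0,2,0,2,0,3,0,2,0,2,0,2,0,3,0,2,0,3,0,2,0,3,0,2,0,2,0,2,0,3,0,3,0,2,0,2,0,2,0,3,0,3,0,2,0,3,0,3,0,2,0,3,0,2,0,2,0,3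,0,3,0,2,0,3,0,2,0,2,0,2,0,2,0,3,0,3,0,2,0,2,0,3,0,2,0,2,0,2,0,3,0,2,0,2,0,2,0,2,0,3,0,3,0,2,0,2,0,3,0,2,0,3,0,3,0,3,0,3,0,3,0,3,0,2,0,2,0,3,0,3,0,2,0,2,0,3,0,2,0,2,0,2,0,3,0,2,0,2,0,3,0,2,0,2,0,2,0,3,0,2,0,3,0,2,0,3,0,2,0,2,0,2,0,3,0,3,0,2,0,2,0,2,0,3,0,3,0,2,0,3,0,3,0,2,0,3,0,2,0,2,0,3,0,3,0,2,0,3,0,2,0,2,0,2,0,2,0,3,0,3,0,2,0,2,0,3,0,2,0,2,0,2], [3,0,3,0,2,0,3,0,3,0,2,0,3,0,2,0,2,0,3,0,3,0,2,0,3,0,2,0,2,0,2,0,2,0,3,0,3,0,2,0,2,0,3,0,2,0,2,0,2,0,2,0,3,0,3,0,3,0,3,0,2,0,2,0,2,0,3,0,3,0,2,0,3,0,3,0,3,0,2,0,3,0,3,0,3,0,3,0,2,0,3,0,2,0,3,0,3,0,3,0,2,0,2,0,2,0,2,0,3,0,3,0,2,0,2,0,3,0,2,0,3,0,3,0,3,0,3,0,3,0,3,0,2,0,2,0,3,0,3,0,2,0,2,0,3,0,2,0,3,0,3,0,3,0,3,0,2,0,2,0,2,0,3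,0,3,0,2,0,3,0,3,0,3,0,2,0,3,0,3,0,3,0,3,0,2,0,3,0,2,0,3,0,3,0,3,0,2,0,2,0,2,0,2,0,3,0,3,0,2,0,2,0,3,0,2,0,3,0,3,0,3,0,3,0,3,0,3,0,2,0,2,0,3,0,3,0,2,0,2,0,3,3,0,3,0,2,0,3,0,3,0,2,0,3,0,2,0,2,0,3,0,3,0,2,0,3,0,2,0,2,0,2,0,2,0,3,0,3,0,2,0,2,0,3,0,2,0,2,0,2,0,2,0,3,0,3,0,3,0,3,0,2,0,2,0,2,0,3,0,3,0,2,0,3,0,3,0,3,0,2,0,3,0,3,0,3,0,3,0,2,0,3,0,2,0,3,0,3]]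
theorem lowS_2 : Low (C.grp lowS_w2) 8 [2] :=
  low_orb hC hlk 2 (by decide) [(2,0), (2,2), (2,4), (22,2), (22,4), (12,4), (17,4)] (m := 8) (grp_mono _ (by decide +kernel))
    (by decide +kernel) (by decide +kernel) (low_nil C) (by decide)
def lowS_w1 : List Word := [[0,2,0,3,0,3,0,3,0,3,0,2,0,2,0,2,0,3,0,3,0,2,0,3,0,3,0,3,0,2,0,3,0,3,0,3,0,3,0,2,0,3,0,2,0,3,0,3,0,3,0,2,0,2,0,2,0,2,0,3,0,3,0,2,0,2,0,3,0,2,0,3,0,3,0,3,0,3,0,3,0,3,0,2,0,2,0,3,0,3,0,2,0,2,0,3,0,2,0,3,0,3,0,3,0,3,0,2,0,2,0,2,0,3,0,3,0,2,0,3,0,3,0,3,0,2,0,3,0,3,0,3,0,3,0,2,0,3,0,2,0,3,0,3], [0,2,0,2,0,2,0,3,0,2,0,2,0,3,0,2,0,2,0,2,0,3,0,2,0,3,0,2,0,3,0,2,0,2,0,2,0,3,0,3,0,2,0,2,0,2,0,3,0,3,0,2,0,3,0,3,0,2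,0,3,0,2,0,2,0,3,0,3,0,2,0,3,0,2,0,2,0,2,0,2,0,3,0,3,0,2,0,2,0,3,0,2,0,2,0,2,0,3,0,2,0,2,0,2,0,2,0,3,0,3,0,2,0,2,0,3,0,2,0,3,0,3,0,3,0,3,0,3,0,3,0,2,0,2,0,3,0,3,0,2,0,2,0,3,0,2,0,2,0,2,0,3,0,2,0,2,0,3,0,2,0,2,0,2,0,3,0,2,0,3,0,2,0,3,0,2,0,2,0,2,0,3,0,3,0,2,0,2,0,2,0,3,0,3,0,2,0,3,0,3,0,2,0,3,0,2,0,2,0,3,0,3,0,2,0,3,0,2,0,2,0,2,0,2,0,3,0,3,0,2,0,2,0,3,0,2,0,2,0,2], [3,0,3,0,2,0,3,0,3,0,2,0,3,0,2,0,2,0,3,0,3,0,2,0,3,0,2,0,2,0,2,0,2,0,3,0,3,0,2,0,2,0,3,0,2,0,2,0,2,0,2,0,3,0,3,0,3,0,3,0,2,0,2,0,2,0,3,0,3,0,2,0,3,0,3,0,3,0,2,0,3,0,3,0,3,0,3,0,2,0,3,0,2,0,3,0,3,0,3,0,2,0,2,0,2,0,2,0,3,0,3,0,2,0,2,0,3,0,2,0,3,0,3,0,3,0,3,0,3,0,3,0,2,0,2,0,3,0,3,0,2,0,2,0,3,0,2,0,3,0,3,0,3,0,3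,0,2,0,2,0,2,0,3,0,3,0,2,0,3,0,3,0,3,0,2,0,3,0,3,0,3,0,3,0,2,0,3,0,2,0,3,0,3,0,3,0,2,0,2,0,2,0,2,0,3,0,3,0,2,0,2,0,3,0,2,0,3,0,3,0,3,0,3,0,3,0,3,0,2,0,2,0,3,0,3,0,2,0,2,0,3,3,0,3,0,2,0,3,0,3,0,2,0,3,0,2,0,2,0,3,0,3,0,2,0,3,0,2,0,2,0,2,0,2,0,3,0,3,0,2,0,2,0,3,0,2,0,2,0,2,0,2,0,3,0,3,0,3,0,3,0,2,0,2,0,2,0,3,0,3,0,2,0,3,0,3,0,3,0,2,0,3,0,3,0,3,0,3,0,2,0,3,0,2,0,3,0,3], [3,0,3,0,2,0,3,0,3,0,2,0,3,0,2,0,2,0,3,0,3,0,2,0,3,0,2,0,2,0,2,0,2,0,3,0,3,0,2,0,2,0,3,0,2,0,2,0,2,0,2,0,3,0,3,0,3,0,3,0,2,0,2,0,2,0,3,0,3,0,2,0,3,0,3,0,3,0,2,0,3,0,3,0,3,0,3,0,2,0,3,0,2,0,3,0,3,3,0,3,0,2,0,3,0,3,0,2,0,3,0,2,0,2,0,3,0,3,0,2,0,3,0,2,0,2,0,2,0,2,0,3,0,3,0,2,0,2,0,3,0,2,0,2,0,2], [3,0,3,0,2,0,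3,0,3,0,2,0,3,0,2,0,2,0,3,0,3,0,2,0,3,0,2,0,2,0,2,0,2,0,3,0,3,0,2,0,2,0,3,0,2,0,2,0,2,0,2,0,2,0,2,0,3,0,2,0,2,0,3,0,2,0,2,0,2,0,3,0,2,0,3,0,2,0,3,0,2,0,2,0,2,0,3,0,3,0,2,0,2,0,2,0,3,0,3,0,2,0,3,0,3,0,2,0,3,0,2,0,2,0,3,0,3,0,2,0,3,0,2,0,2,0,2,0,2,0,3,0,3,0,2,0,2,0,3,0,2,0,2,0,2,0,3,0,2,0,2,0,2,0,2,0,3,0,3,0,2,0,2,0,3,0,2,0,3,0,3,0,3,0,3,0,3,0,3,0,2,0,2,0,3,0,3,0,2,0,2,0,3]]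
theorem lowS_1 : Low (C.grp lowS_w1) 64 [1,2] :=
  low_orb hC hlk 1 (by decide) [(1,6), (1,8), (6,0), (6,8), (21,0), (13,6), (13,8)] (m := 8) (grp_mono _ (by decide +kernel))
    (by decide +kernel) (by decide +kernel) lowS_2 (by decide)
theorem lowS : Low (C.grp sw) 1024 [0,1,2] :=
  low_orb hC hlk 0 (by decide) [(0,0), (0,2), (0,4), (0,6), (11,2), (11,4), (15,0), (15,4), (19,6), (9,0), (9,2), (22,6), (3,6), (16,0), (16,2)] (m := 16) (le_of_subst _ [[6,4,6], [2,0,4,2,0], [0,6,4,6,4,0,6], [0,6,0], [0,2,0,4]] (by decide +kernel))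
    (by decide +kernel) (by decide +kernel) lowS_1 (by decide)
theorem hRS : lall J4US.relsS (fun r => eqP (CWord.subst sw r) []) = true := by decide +kernel
def X0 : List Word := [[0,2,0,2,0,2,0,3,0,2,0,2,0,3,0,2,0,2,0,2,0,3,0,2,0,3,0,2,0,3,0,2,0,2,0,2,0,3,0,3,0,2,0,2,0,2,0], [0,3,0,2,0,2,0,2,0,2,0,3,0,3,0,2,0,2,0,3,0,2,0,3,0,3,0,3,0,3,0,3,0,3,0,2,0,2,0,3,0,3,0,2,0,2,0,3], [0,2,0,3,0,3,0,3,0,3,0,2,0,2,0,2,0,3,0,3,0,2,0,3,0,3,0,3,0,2,0,3,0,3,0,3,0,3,0,2,0,3,0,2,0,3,0,3], [3,0,3,0,2,0,3,0,3,0,2,0,3,0,2,0,2,0,3,0,3,0,2,0,3,0,2,0,2,0,2,0,2,0,3,0,3,0,2,0,2,0,3,0,2,0,2,0,2,0,2,0,2,0,2,0,3,0,2,0,2,0,3,0,2,0,2,0,2,0,3,0,2,0,3,0,2,0,3,0,2,0,2,0,2,0,3,0,3,0,2,0,2,0,2,0,3,0,3,0,2,0,3,0,3,0,2,0,3,0,2,0,2,0,3,0,3,0,2,0,3,0,2,0,2,0,2,0,2,0,3,0,3,0,2,0,2,0,3,0,2,0,2,0,2]]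
theorem eX0 : X0 = lmap (CWord.subst sw) [[2], [4], [6], [0,2,0]] := by decide +kernel
def lowX0_w2 : List Word := [[0,2,0,3,0,3,0,3,0,3,0,2,0,2,0,2,0,3,0,3,0,2,0,3,0,3,0,3,0,2,0,3,0,3,0,3,0,3,0,2,0,3,0,2,0,3,0,3,0,3,0,2,0,2,0,2,0,2,0,3,0,3,0,2,0,2,0,3,0,2,0,3,0,3,0,3,0,3,0,3,0,3,0,2,0,2,0,3,0,3,0,2,0,2,0,3,0,2,0,3,0,3,0,3,0,3,0,2,0,2,0,2,0,3,0,3,0,2,0,3,0,3,0,3,0,2,0,3,0,3,0,3,0,3,0,2,0,3,0,2,0,3,0,3], [0,2,0,2,0,2,0,3,0,2,0,2,0,3,0,2,0,2,0,2,0,3,0,2,0,3,0,2,0,3,0,2,0,2,0,2,0,3,0,3,0,2,0,2,0,2,0,3,0,3,0,2,0,3,0,3,0,2,0,3,0,2,0,2,0,3,0,3,0,2,0,3,0,2,0,2,0,2,0,2,0,3,0,3,0,2,0,2,0,3,0,2,0,2,0,2,0,2,0,2,0,2,0,3,0,2,0,2,0,3,0,2,0,2,0,2,0,3,0,2,0,3,0,2,0,3,0,2,0,2,0,2,0,3,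0,3,0,2,0,2,0,2,0,3,0,3,0,2,0,3,0,3,0,2,0,3,0,2,0,2,0,3,0,3,0,2,0,3,0,2,0,2,0,2,0,2,0,3,0,3,0,2,0,2,0,3,0,2,0,2,0,2,0,2,0,3,0,3,0,3,0,3,0,2,0,2,0,2,0,3,0,3,0,2,0,3,0,3,0,3,0,2,0,3,0,3,0,3,0,3,0,2,0,3,0,2,0,3,0,3,0,3,0,2,0,2,0,2,0,2,0,3,0,3,0,2,0,2,0,3,0,2,0,3,0,3,0,3,0,3,0,3,0,3,0,2,0,2,0,3,0,3,0,2,0,2,0,3,0,2,0,3,0,3,0,3,0,3,0,2,0,2,0,2,0,3,0,3,0,2,0,3,0,3,0,3,0,2,0,3,0,3,0,3,0,3,0,2,0,3,0,2,0,3,0,3,0,2,0,2,0,2,0,3,0,2,0,2,0,3,0,2,0,2,0,2,0,3,0,2,0,3,0,2,0,3,0,2,0,2,0,2,0,3,0,3,0,2,0,2,0,2,0,0,3,0,2,0,2,0,2,0,2,0,3,0,3,0,2,0,2,0,3,0,2,0,3,0,3,0,3,0,3,0,3,0,3,0,2,0,2,0,3,0,3,0,2,0,2,0,3,3,0,3,0,2,0,3,0,3,0,2,0,3,0,2,0,2,0,3,0,3,0,2,0,3,0,2,0,2,0,2,0,2,0,3,0,3,0,2,0,2,0,3,0,2,0,2,0,2,0,2,0,2,0,2,0,3,0,2,0,2,0,3,0,2,0,2,0,2,0,3,0,2,0,3,0,2,0,3,0,2,0,2,0,2,0,3,0,3,0,2,0,2,0,2,0,3,0,3,0,2,0,3,0,3,0,2,0,3,0,2,0,2,0,3,0,3,0,2,0,3,0,2,0,2,0,2,0,2,0,3,0,3,0,2,0,2,0,3,0,2,0,2,0,2],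 [0,3,0,2,0,2,0,2,0,2,0,3,0,3,0,2,0,2,0,3,0,2,0,3,0,3,0,3,0,3,0,3,0,3,0,2,0,2,0,3,0,3,0,2,0,2,0,3,0,2,0,3,0,3,0,3,0,3,0,2,0,2,0,2,0,3,0,3,0,2,0,3,0,3,0,3,0,2,0,3,0,3,0,3,0,3,0,2,0,3,0,2,0,3,0,3,3,0,3,0,2,0,3,0,3,0,2,0,3,0,2,0,2,0,3,0,3,0,2,0,3,0,2,0,2,0,2,0,2,0,3,0,3,0,2,0,2,0,3,0,2,0,2,0,2,0,2,0,2,0,2,0,3,0,2,0,2,0,3,0,2,0,2,0,2,0,3,0,2,0,3,0,2,0,3,0,2,0,2,0,2,0,3,0,3,0,2,0,2,0,2,0,3,0,3,0,2,0,3,0,3,0,2,0,3,0,2,0,2,0,3,0,3,0,2,0,3,0,2,0,2,0,2,0,2,0,3,0,3,0,2,0,2,0,3,0,2,0,2,0,2,0,2,0,3,0,3,0,3,0,3,0,2,0,2,0,2,0,3,0,3,0,2,0,3,0,3,0,3,0,2,0,3,0,3,0,3,0,3,0,2,0,3,0,2,0,3,0,3,0,2,0,2,0,2,0,3,0,2,0,2,0,3,0,2,0,2,0,2,0,3,0,2,0,3,0,2,0,3,0,2,0,2,0,2,0,3,0,3,0,2,0,2,0,2,0,0,3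,0,2,0,2,0,2,0,2,0,3,0,3,0,2,0,2,0,3,0,2,0,3,0,3,0,3,0,3,0,3,0,3,0,2,0,2,0,3,0,3,0,2,0,2,0,3,3,0,3,0,2,0,3,0,3,0,2,0,3,0,2,0,2,0,3,0,3,0,2,0,3,0,2,0,2,0,2,0,2,0,3,0,3,0,2,0,2,0,3,0,2,0,2,0,2,0,2,0,2,0,2,0,3,0,2,0,2,0,3,0,2,0,2,0,2,0,3,0,2,0,3,0,2,0,3,0,2,0,2,0,2,0,3,0,3,0,2,0,2,0,2,0,3,0,3,0,2,0,3,0,3,0,2,0,3,0,2,0,2,0,3,0,3,0,2,0,3,0,2,0,2,0,2,0,2,0,3,0,3,0,2,0,2,0,3,0,2,0,2,0,2,0,2,0,3,0,3,0,3,0,3,0,2,0,2,0,2,0,3,0,3,0,2,0,3,0,3,0,3,0,2,0,3,0,3,0,3,0,3,0,2,0,3,0,2,0,3,0,3,0,2,0,2,0,2,0,3,0,2,0,2,0,3,0,2,0,2,0,2,0,3,0,2,0,3,0,2,0,3,0,2,0,2,0,2,0,3,0,3,0,2,0,2,0,2,0]]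
theorem lowX0_2 : Low (C.grp lowX0_w2) 8 [2] :=
  low_orb hC hlk 2 (by decide) [(2,0), (2,2), (2,4), (22,2), (22,4), (17,4), (11,0)] (m := 8) (grp_mono _ (by decide +kernel))
    (by decide +kernel) (by decide +kernel) (low_nil C) (by decide)
def lowX0_w1 : List Word := [[0,2,0,3,0,3,0,3,0,3,0,2,0,2,0,2,0,3,0,3,0,2,0,3,0,3,0,3,0,2,0,3,0,3,0,3,0,3,0,2,0,3,0,2,0,3,0,3,0,3,0,2,0,2,0,2,0,2,0,3,0,3,0,2,0,2,0,3,0,2,0,3,0,3,0,3,0,3,0,3,0,3,0,2,0,2,0,3,0,3,0,2,0,2,0,3,0,2,0,3,0,3,0,3,0,3,0,2,0,2,0,2,0,3,0,3,0,2,0,3,0,3,0,3,0,2,0,3,0,3,0,3,0,3,0,2,0,3,0,2,0,3,0,3], [0,2,0,2,0,2,0,3,0,2,0,2,0,3,0,2,0,2,0,2,0,3,0,2,0,3,0,2,0,3,0,2,0,2,0,2,0,3,0,3,0,2,0,2,0,2,0,3,0,3,0,2,0,3,0,3,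0,2,0,3,0,2,0,2,0,3,0,3,0,2,0,3,0,2,0,2,0,2,0,2,0,3,0,3,0,2,0,2,0,3,0,2,0,2,0,2,0,2,0,2,0,2,0,3,0,2,0,2,0,3,0,2,0,2,0,2,0,3,0,2,0,3,0,2,0,3,0,2,0,2,0,2,0,3,0,3,0,2,0,2,0,2,0,3,0,3,0,2,0,3,0,3,0,2,0,3,0,2,0,2,0,3,0,3,0,2,0,3,0,2,0,2,0,2,0,2,0,3,0,3,0,2,0,2,0,3,0,2,0,2,0,2,0,2,0,3,0,3,0,3,0,3,0,2,0,2,0,2,0,3,0,3,0,2,0,3,0,3,0,3,0,2,0,3,0,3,0,3,0,3,0,2,0,3,0,2,0,3,0,3,0,3,0,2,0,2,0,2,0,2,0,3,0,3,0,2,0,2,0,3,0,2,0,3,0,3,0,3,0,3,0,3,0,3,0,2,0,2,0,3,0,3,0,2,0,2,0,3,0,2,0,3,0,3,0,3,0,3,0,2,0,2,0,2,0,3,0,3,0,2,0,3,0,3,0,3,0,2,0,3,0,3,0,3,0,3,0,2,0,3,0,2,0,3,0,3,0,2,0,2,0,2,0,3,0,2,0,2,0,3,0,2,0,2,0,2,0,3,0,2,0,3,0,2,0,3,0,2,0,2,0,2,0,3,0,3,0,2,0,2,0,2,0,0,3,0,2,0,2,0,2,0,2,0,3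,0,3,0,2,0,2,0,3,0,2,0,3,0,3,0,3,0,3,0,3,0,3,0,2,0,2,0,3,0,3,0,2,0,2,0,3,3,0,3,0,2,0,3,0,3,0,2,0,3,0,2,0,2,0,3,0,3,0,2,0,3,0,2,0,2,0,2,0,2,0,3,0,3,0,2,0,2,0,3,0,2,0,2,0,2,0,2,0,2,0,2,0,3,0,2,0,2,0,3,0,2,0,2,0,2,0,3,0,2,0,3,0,2,0,3,0,2,0,2,0,2,0,3,0,3,0,2,0,2,0,2,0,3,0,3,0,2,0,3,0,3,0,2,0,3,0,2,0,2,0,3,0,3,0,2,0,3,0,2,0,2,0,2,0,2,0,3,0,3,0,2,0,2,0,3,0,2,0,2,0,2], [0,3,0,2,0,2,0,2,0,2,0,3,0,3,0,2,0,2,0,3,0,2,0,3,0,3,0,3,0,3,0,3,0,3,0,2,0,2,0,3,0,3,0,2,0,2,0,3,0,2,0,3,0,3,0,3,0,3,0,2,0,2,0,2,0,3,0,3,0,2,0,3,0,3,0,3,0,2,0,3,0,3,0,3,0,3,0,2,0,3,0,2,0,3,0,3,3,0,3,0,2,0,3,0,3,0,2,0,3,0,2,0,2,0,3,0,3,0,2,0,3,0,2,0,2,0,2,0,2,0,3,0,3,0,2,0,2,0,3,0,2,0,2,0,2,0,2,0,2,0,2,0,3,0,2,0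,2,0,3,0,2,0,2,0,2,0,3,0,2,0,3,0,2,0,3,0,2,0,2,0,2,0,3,0,3,0,2,0,2,0,2,0,3,0,3,0,2,0,3,0,3,0,2,0,3,0,2,0,2,0,3,0,3,0,2,0,3,0,2,0,2,0,2,0,2,0,3,0,3,0,2,0,2,0,3,0,2,0,2,0,2,0,2,0,3,0,3,0,3,0,3,0,2,0,2,0,2,0,3,0,3,0,2,0,3,0,3,0,3,0,2,0,3,0,3,0,3,0,3,0,2,0,3,0,2,0,3,0,3,0,2,0,2,0,2,0,3,0,2,0,2,0,3,0,2,0,2,0,2,0,3,0,2,0,3,0,2,0,3,0,2,0,2,0,2,0,3,0,3,0,2,0,2,0,2,0,0,3,0,2,0,2,0,2,0,2,0,3,0,3,0,2,0,2,0,3,0,2,0,3,0,3,0,3,0,3,0,3,0,3,0,2,0,2,0,3,0,3,0,2,0,2,0,3,3,0,3,0,2,0,3,0,3,0,2,0,3,0,2,0,2,0,3,0,3,0,2,0,3,0,2,0,2,0,2,0,2,0,3,0,3,0,2,0,2,0,3,0,2,0,2,0,2,0,2,0,2,0,2,0,3,0,2,0,2,0,3,0,2,0,2,0,2,0,3,0,2,0,3,0,2,0,3,0,2,0,2,0,2,0,3,0,3,0,2,0,2,0,2,0,3,0,3,0,2,0,3,0,3,0,2,0,3,0,2,0,2,0,3,0,3,0,2,0,3,0,2,0,2,0,2,0,2,0,3,0,3,0,2,0,2,0,3,0,2,0,2,0,2,0,2,0,3,0,3,0,3,0,3,0,2,0,2,0,2,0,3,0,3,0,2,0,3,0,3,0,3,0,2,0,3,0,3,0,3,0,3,0,2,0,3,0,2,0,3,0,3,0,2,0,2,0,2,0,3,0,2,0,2,0,3,0,2,0,2,0,2,0,3,0,2,0,3,0,2,0,3,0,2,0,2,0,2,0,3,0,3,0,2,0,2,0,2,0],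 [0,3,0,2,0,2,0,2,0,2,0,3,0,3,0,2,0,2,0,3,0,2,0,3,0,3,0,3,0,3,0,3,0,3,0,2,0,2,0,3,0,3,0,2,0,2,0,3,3,0,3,0,2,0,3,0,3,0,2,0,3,0,2,0,2,0,3,0,3,0,2,0,3,0,2,0,2,0,2,0,2,0,3,0,3,0,2,0,2,0,3,0,2,0,2,0,2,0,2,0,2,0,2,0,3,0,2,0,2,0,3,0,2,0,2,0,2,0,3,0,2,0,3,0,2,0,3,0,2,0,2,0,2,0,3,0,3,0,2,0,2,0,2,0,3,0,3,0,2,0,3,0,3,0,2,0,3,0,2,0,2,0,3,0,3,0,2,0,3,0,2,0,2,0,2,0,2,0,3,0,3,0,2,0,2,0,3,0,2,0,2,0,2]]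
theorem lowX0_1 : Low (C.grp lowX0_w1) 64 [1,2] :=
  low_orb hC hlk 1 (by decide) [(1,6), (21,0), (21,4), (5,4), (5,6), (8,6), (7,6)] (m := 8) (grp_mono _ (by decide +kernel))
    (by decide +kernel) (by decide +kernel) lowX0_2 (by decide)
theorem lowX0 : Low (C.grp X0) 512 [0,1,2] :=
  low_orb hC hlk 0 (by decide) [(0,0), (0,2), (0,4), (15,2), (19,4), (9,0), (16,0)] (m := 8) (le_of_subst _ [[4,2,4], [0,6,4,2,4,0,2,6], [2,4,6,4,0,2,6,4,0], [2,6]] (by decide +kernel))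
    (by decide +kernel) (by decide +kernel) lowX0_1 (by decide)
theorem hcj0 : ∀ w ∈ X0, ∃ v ∈ [[0,6], [2,4,2,4,6,4,2,4], [2,4,6,4,2,6,4], [6]], eqP (lapp (winv (nth nws [] 0)) (lapp w (nth nws [] 0))) (CWord.subst X0 v) = true := by decide +kernel
def X1 : List Word := [[3,0,3,0,2,0,3,0,3,0,2,0,3,0,2,0,2,0,3,0,3,0,2,0,3,0,2,0,2,0,2,0,2,0,3,0,3,0,2,0,2,0,3,0,2,0,2,0,2], [0,2,0,3,0,3,0,3,0,3,0,2,0,2,0,2,0,3,0,3,0,2,0,3,0,3,0,3,0,2,0,3,0,3,0,3,0,3,0,2,0,3,0,2,0,3,0,3], [0,2,0,2,0,2,0,3,0,2,0,2,0,3,0,2,0,2,0,2,0,3,0,2,0,3,0,2,0,3,0,2,0,2,0,2,0,3,0,3,0,2,0,2,0,2,0,0,3,0,2,0,2,0,2,0,2,0,3,0,3,0,2,0,2,0,3,0,2,0,3,0,3,0,3,0,3,0,3,0,3,0,2,0,2,0,3,0,3,0,2,0,2,0,3], [0,2,0,2,0,2,0,3,0,2,0,2,0,3,0,2,0,2,0,2,0,3,0,2,0,3,0,2,0,3,0,2,0,2,0,2,0,3,0,3,0,2,0,2,0,2,0,3,0,3,0,2,0,3,0,3,0,2,0,3,0,2,0,2,0,3,0,3,0,2,0,3,0,2,0,2,0,2,0,2,0,3,0,3,0,2,0,2,0,3,0,2,0,2,0,2,0,2,0,2,0,2,0,3,0,2,0,2,0,3,0,2,0,2,0,2,0,3,0,2,0,3,0,2,0,3,0,2,0,2,0,2,0,3,0,3,0,2,0,2,0,2,0],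 [0,2,0,2,0,2,0,3,0,2,0,2,0,3,0,2,0,2,0,2,0,3,0,2,0,3,0,2,0,3,0,2,0,2,0,2,0,3,0,3,0,2,0,2,0,2,0,0,2,0,3,0,3,0,3,0,3,0,2,0,2,0,2,0,3,0,3,0,2,0,3,0,3,0,3,0,2,0,3,0,3,0,3,0,3,0,2,0,3,0,2,0,3,0,3,0,2,0,2,0,2,0,3,0,2,0,2,0,3,0,2,0,2,0,2,0,3,0,2,0,3,0,2,0,3,0,2,0,2,0,2,0,3,0,3,0,2,0,2,0,2,0]]
theorem eX1 : X1 = lmap (CWord.subst sw) [[0], [6], [2,4], [2,0,2], [2,6,2]] := by decide +kernel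
def lowX1_w2 : List Word := [[0,2,0,2,0,2,0,3,0,2,0,2,0,3,0,2,0,2,0,2,0,3,0,2,0,3,0,2,0,3,0,2,0,2,0,2,0,3,0,3,0,2,0,2,0,2,0,0,2,0,3,0,3,0,3,0,3,0,2,0,2,0,2,0,3,0,3,0,2,0,3,0,3,0,3,0,2,0,3,0,3,0,3,0,3,0,2,0,3,0,2,0,3,0,3,0,2,0,2,0,2,0,3,0,2,0,2,0,3,0,2,0,2,0,2,0,3,0,2,0,3,0,2,0,3,0,2,0,2,0,2,0,3,0,3,0,2,0,2,0,2,0,0,2,0,2,0,2,0,3,0,2,0,2,0,3,0,2,0,2,0,2,0,3,0,2,0,3,0,2,0,3,0,2,0,2,0,2,0,3,0,3,0,2,0,2,0,2,0,3,0,3,0,2,0,3,0,3,0,2,0,3,0,2,0,2,0,3,0,3,0,2,0,3,0,2,0,2,0,2,0,2,0,3,0,3,0,2,0,2,0,3,0,2,0,2,0,2,0,2,0,2,0,2,0,3,0,2,0,2,0,3,0,2,0,2,0,2,0,3,0,2,0,3,0,2,0,3,0,2,0,2,0,2,0,3,0,3,0,2,0,2,0,2,0,0,2,0,3,0,3,0,3,0,3,0,2,0,2,0,2,0,3,0,3,0,2,0,3,0,3,0,3,0,2,0,3,0,3,0,3,0,3,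0,2,0,3,0,2,0,3,0,3,0,2,0,2,0,2,0,3,0,2,0,2,0,3,0,2,0,2,0,2,0,3,0,2,0,3,0,2,0,3,0,2,0,2,0,2,0,3,0,3,0,2,0,2,0,2,0,0,2,0,3,0,3,0,3,0,3,0,2,0,2,0,2,0,3,0,3,0,2,0,3,0,3,0,3,0,2,0,3,0,3,0,3,0,3,0,2,0,3,0,2,0,3,0,3,0,2,0,2,0,2,0,3,0,2,0,2,0,3,0,2,0,2,0,2,0,3,0,2,0,3,0,2,0,3,0,2,0,2,0,2,0,3,0,3,0,2,0,2,0,2,0,0,2,0,2,0,2,0,3,0,2,0,2,0,3,0,2,0,2,0,2,0,3,0,2,0,3,0,2,0,3,0,2,0,2,0,2,0,3,0,3,0,2,0,2,0,2,0,3,0,3,0,2,0,3,0,3,0,2,0,3,0,2,0,2,0,3,0,3,0,2,0,3,0,2,0,2,0,2,0,2,0,3,0,3,0,2,0,2,0,3,0,2,0,2,0,2,0,2,0,2,0,2,0,3,0,2,0,2,0,3,0,2,0,2,0,2,0,3,0,2,0,3,0,2,0,3,0,2,0,2,0,2,0,3,0,3,0,2,0,2,0,2,0], [3,0,3,0,2,0,3,0,3,0,2,0,3,0,2,0,2,0,3,0,3,0,2,0,3,0,2,0,2,0,2,0,2,0,3,0,3,0,2,0,2,0,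3,0,2,0,2,0,2,0,2,0,2,0,2,0,3,0,2,0,2,0,3,0,2,0,2,0,2,0,3,0,2,0,3,0,2,0,3,0,2,0,2,0,2,0,3,0,3,0,2,0,2,0,2,0,0,3,0,2,0,2,0,2,0,2,0,3,0,3,0,2,0,2,0,3,0,2,0,3,0,3,0,3,0,3,0,3,0,3,0,2,0,2,0,3,0,3,0,2,0,2,0,3,3,0,3,0,2,0,3,0,3,0,2,0,3,0,2,0,2,0,3,0,3,0,2,0,3,0,2,0,2,0,2,0,2,0,3,0,3,0,2,0,2,0,3,0,2,0,2,0,2,0,2,0,2,0,2,0,3,0,2,0,2,0,3,0,2,0,2,0,2,0,3,0,2,0,3,0,2,0,3,0,2,0,2,0,2,0,3,0,3,0,2,0,2,0,2,0,0,2,0,3,0,3,0,3,0,3,0,2,0,2,0,2,0,3,0,3,0,2,0,3,0,3,0,3,0,2,0,3,0,3,0,3,0,3,0,2,0,3,0,2,0,3,0,3,0,2,0,2,0,2,0,3,0,2,0,2,0,3,0,2,0,2,0,2,0,3,0,2,0,3,0,2,0,3,0,2,0,2,0,2,0,3,0,3,0,2,0,2,0,2,0,0,2,0,2,0,2,0,3,0,2,0,2,0,3,0,2,0,2,0,2,0,3,0,2,0,3,0,2,0,3,0,2,0,2,0,2,0,3,0,3,0,2,0,2,0,2,0,0,3,0,2,0,2,0,2,0,2,0,3,0,3,0,2,0,2,0,3,0,2,0,3,0,3,0,3,0,3,0,3,0,3,0,2,0,2,0,3,0,3,0,2,0,2,0,3,0,2,0,3,0,3,0,3,0,3,0,2,0,2,0,2,0,3,0,3,0,2,0,3,0,3,0,3,0,2,0,3,0,3,0,3,0,3,0,2,0,3,0,2,0,3,0,3]]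
theorem lowX1_2 : Low (C.grp lowX1_w2) 4 [2] :=
  low_orb hC hlk 2 (by decide) [(2,0), (2,2), (11,2)] (m := 4) (grp_mono _ (by decide +kernel))
    (by decide +kernel) (by decide +kernel) (low_nil C) (by decide)
def lowX1_w1 : List Word := [[0,2,0,2,0,2,0,3,0,2,0,2,0,3,0,2,0,2,0,2,0,3,0,2,0,3,0,2,0,3,0,2,0,2,0,2,0,3,0,3,0,2,0,2,0,2,0,0,2,0,3,0,3,0,3,0,3,0,2,0,2,0,2,0,3,0,3,0,2,0,3,0,3,0,3,0,2,0,3,0,3,0,3,0,3,0,2,0,3,0,2,0,3,0,3,0,2,0,2,0,2,0,3,0,2,0,2,0,3,0,2,0,2,0,2,0,3,0,2,0,3,0,2,0,3,0,2,0,2,0,2,0,3,0,3,0,2,0,2,0,2,0,0,2,0,2,0,2,0,3,0,2,0,2,0,3,0,2,0,2,0,2,0,3,0,2,0,3,0,2,0,3,0,2,0,2,0,2,0,3,0,3,0,2,0,2,0,2,0,3,0,3,0,2,0,3,0,3,0,2,0,3,0,2,0,2,0,3,0,3,0,2,0,3,0,2,0,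2,0,2,0,2,0,3,0,3,0,2,0,2,0,3,0,2,0,2,0,2,0,2,0,2,0,2,0,3,0,2,0,2,0,3,0,2,0,2,0,2,0,3,0,2,0,3,0,2,0,3,0,2,0,2,0,2,0,3,0,3,0,2,0,2,0,2,0,0,2,0,3,0,3,0,3,0,3,0,2,0,2,0,2,0,3,0,3,0,2,0,3,0,3,0,3,0,2,0,3,0,3,0,3,0,3,0,2,0,3,0,2,0,3,0,3,0,2,0,2,0,2,0,3,0,2,0,2,0,3,0,2,0,2,0,2,0,3,0,2,0,3,0,2,0,3,0,2,0,2,0,2,0,3,0,3,0,2,0,2,0,2,0,0,2,0,3,0,3,0,3,0,3,0,2,0,2,0,2,0,3,0,3,0,2,0,3,0,3,0,3,0,2,0,3,0,3,0,3,0,3,0,2,0,3,0,2,0,3,0,3,0,2,0,2,0,2,0,3,0,2,0,2,0,3,0,2,0,2,0,2,0,3,0,2,0,3,0,2,0,3,0,2,0,2,0,2,0,3,0,3,0,2,0,2,0,2,0,0,2,0,2,0,2,0,3,0,2,0,2,0,3,0,2,0,2,0,2,0,3,0,2,0,3,0,2,0,3,0,2,0,2,0,2,0,3,0,3,0,2,0,2,0,2,0,3,0,3,0,2,0,3,0,3,0,2,0,3,0,2,0,2,0,3,0,3,0,2,0,3,0,2,0,2,0,2,0,2,0,3,0,3,0,2,0,2,0,3,0,2,0,2,0,2,0,2,0,2,0,2,0,3,0,2,0,2,0,3,0,2,0,2,0,2,0,3,0,2,0,3,0,2,0,3,0,2,0,2,0,2,0,3,0,3,0,2,0,2,0,2,0],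 [3,0,3,0,2,0,3,0,3,0,2,0,3,0,2,0,2,0,3,0,3,0,2,0,3,0,2,0,2,0,2,0,2,0,3,0,3,0,2,0,2,0,3,0,2,0,2,0,2,0,2,0,2,0,2,0,3,0,2,0,2,0,3,0,2,0,2,0,2,0,3,0,2,0,3,0,2,0,3,0,2,0,2,0,2,0,3,0,3,0,2,0,2,0,2,0,0,3,0,2,0,2,0,2,0,2,0,3,0,3,0,2,0,2,0,3,0,2,0,3,0,3,0,3,0,3,0,3,0,3,0,2,0,2,0,3,0,3,0,2,0,2,0,3,3,0,3,0,2,0,3,0,3,0,2,0,3,0,2,0,2,0,3,0,3,0,2,0,3,0,2,0,2,0,2,0,2,0,3,0,3,0,2,0,2,0,3,0,2,0,2,0,2,0,2,0,2,0,2,0,3,0,2,0,2,0,3,0,2,0,2,0,2,0,3,0,2,0,3,0,2,0,3,0,2,0,2,0,2,0,3,0,3,0,2,0,2,0,2,0,0,2,0,3,0,3,0,3,0,3,0,2,0,2,0,2,0,3,0,3,0,2,0,3,0,3,0,3,0,2,0,3,0,3,0,3,0,3,0,2,0,3,0,2,0,3,0,3,0,2,0,2,0,2,0,3,0,2,0,2,0,3,0,2,0,2,0,2,0,3,0,2,0,3,0,2,0,3,0,2,0,2,0,2,0,3,0,3,0,2,0,2,0,2,0,0,2,0,2,0,2,0,3,0,2,0,2,0,3,0,2,0,2,0,2,0,3,0,2,0,3,0,2,0,3,0,2,0,2,0,2,0,3,0,3,0,2,0,2,0,2,0,0,3,0,2,0,2,0,2,0,2,0,3,0,3,0,2,0,2,0,3,0,2,0,3,0,3,0,3,0,3,0,3,0,3,0,2,0,2,0,3,0,3,0,2,0,2,0,3,0,2,0,3,0,3,0,3,0,3,0,2,0,2,0,2,0,3,0,3,0,2,0,3,0,3,0,3,0,2,0,3,0,3,0,3,0,3,0,2,0,3,0,2,0,3,0,3],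 [0,2,0,2,0,2,0,3,0,2,0,2,0,3,0,2,0,2,0,2,0,3,0,2,0,3,0,2,0,3,0,2,0,2,0,2,0,3,0,3,0,2,0,2,0,2,0,0,2,0,3,0,3,0,3,0,3,0,2,0,2,0,2,0,3,0,3,0,2,0,3,0,3,0,3,0,2,0,3,0,3,0,3,0,3,0,2,0,3,0,2,0,3,0,3,0,2,0,2,0,2,0,3,0,2,0,2,0,3,0,2,0,2,0,2,0,3,0,2,0,3,0,2,0,3,0,2,0,2,0,2,0,3,0,3,0,2,0,2,0,2,0], [3,0,3,0,2,0,3,0,3,0,2,0,3,0,2,0,2,0,3,0,3,0,2,0,3,0,2,0,2,0,2,0,2,0,3,0,3,0,2,0,2,0,3,0,2,0,2,0,2,0,2,0,3,0,3,0,3,0,3,0,2,0,2,0,2,0,3,0,3,0,2,0,3,0,3,0,3,0,2,0,3,0,3,0,3,0,3,0,2,0,3,0,2,0,3,0,3,3,0,3,0,2,0,3,0,3,0,2,0,3,0,2,0,2,0,3,0,3,0,2,0,3,0,2,0,2,0,2,0,2,0,3,0,3,0,2,0,2,0,3,0,2,0,2,0,2], [0,2,0,2,0,2,0,3,0,2,0,2,0,3,0,2,0,2,0,2,0,3,0,2,0,3,0,2,0,3,0,2,0,2,0,2,0,3,0,3,0,2,0,2,0,2,0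,0,3,0,2,0,2,0,2,0,2,0,3,0,3,0,2,0,2,0,3,0,2,0,3,0,3,0,3,0,3,0,3,0,3,0,2,0,2,0,3,0,3,0,2,0,2,0,3,0,2,0,2,0,2,0,3,0,2,0,2,0,3,0,2,0,2,0,2,0,3,0,2,0,3,0,2,0,3,0,2,0,2,0,2,0,3,0,3,0,2,0,2,0,2,0,3,0,3,0,2,0,3,0,3,0,2,0,3,0,2,0,2,0,3,0,3,0,2,0,3,0,2,0,2,0,2,0,2,0,3,0,3,0,2,0,2,0,3,0,2,0,2,0,2,0,2,0,2,0,2,0,3,0,2,0,2,0,3,0,2,0,2,0,2,0,3,0,2,0,3,0,2,0,3,0,2,0,2,0,2,0,3,0,3,0,2,0,2,0,2,0,3,0,3,0,2,0,3,0,3,0,2,0,3,0,2,0,2,0,3,0,3,0,2,0,3,0,2,0,2,0,2,0,2,0,3,0,3,0,2,0,2,0,3,0,2,0,2,0,2]]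
theorem lowX1_1 : Low (C.grp lowX1_w1) 32 [1,2] :=
  low_orb hC hlk 1 (by decide) [(1,4), (1,6), (1,8), (13,6), (13,8), (6,8), (21,2)] (m := 8) (grp_mono _ (by decide +kernel))
    (by decide +kernel) (by decide +kernel) lowX1_2 (by decide)
theorem lowX1 : Low (C.grp X1) 512 [0,1,2] :=
  low_orb hC hlk 0 (by decide) [(0,0), (0,2), (0,4), (0,6), (11,4), (9,0), (9,4), (9,6), (14,8), (22,2), (22,4), (3,0), (3,6), (18,6), (10,4)] (m := 16) (le_of_subst _ [[8,6,2,8,6], [0,4,0,8,4,2], [8], [0,2,0], [4,6,0]] (by decide +kernel))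
    (by decide +kernel) (by decide +kernel) lowX1_1 (by decide)
theorem hcj1 : ∀ w ∈ X1, ∃ v ∈ [[4,0,4], [0,4,2,8,4,0], [0,2,6,2,0], [2,8,4,2,8], [8]], eqP (lapp (winv (nth nws [] 1)) (lapp w (nth nws [] 1))) (CWord.subst X1 v) = true := by decide +kernel
def X2 : List Word := [[3,0,3,0,2,0,3,0,3,0,2,0,3,0,2,0,2,0,3,0,3,0,2,0,3,0,2,0,2,0,2,0,2,0,3,0,3,0,2,0,2,0,3,0,2,0,2,0,2], [0,2,0,2,0,2,0,3,0,2,0,2,0,3,0,2,0,2,0,2,0,3,0,2,0,3,0,2,0,3,0,2,0,2,0,2,0,3,0,3,0,2,0,2,0,2,0], [0,3,0,2,0,2,0,2,0,2,0,3,0,3,0,2,0,2,0,3,0,2,0,3,0,3,0,3,0,3,0,3,0,3,0,2,0,2,0,3,0,3,0,2,0,2,0,3], [0,2,0,3,0,3,0,3,0,3,0,2,0,2,0,2,0,3,0,3,0,2,0,3,0,3,0,3,0,2,0,3,0,3,0,3,0,3,0,2,0,3,0,2,0,3,0,3,3,0,3,0,2,0,3,0,3,0,2,0,3,0,2,0,2,0,3,0,3,0,2,0,3,0,2,0,2,0,2,0,2,0,3,0,3,0,2,0,2,0,3,0,2,0,2,0,2,0,2,0,3,0,3,0,3,0,3,0,2,0,2,0,2,0,3,0,3,0,2,0,3,0,3,0,3,0,2,0,3,0,3,0,3,0,3,0,2,0,3,0,2,0,3,0,3],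 [0,2,0,3,0,3,0,3,0,3,0,2,0,2,0,2,0,3,0,3,0,2,0,3,0,3,0,3,0,2,0,3,0,3,0,3,0,3,0,2,0,3,0,2,0,3,0,3,0,2,0,2,0,2,0,3,0,2,0,2,0,3,0,2,0,2,0,2,0,3,0,2,0,3,0,2,0,3,0,2,0,2,0,2,0,3,0,3,0,2,0,2,0,2,0,0,2,0,3,0,3,0,3,0,3,0,2,0,2,0,2,0,3,0,3,0,2,0,3,0,3,0,3,0,2,0,3,0,3,0,3,0,3,0,2,0,3,0,2,0,3,0,3]]
theorem eX2 : X2 = lmap (CWord.subst sw) [[0], [2], [4], [6,0,6], [6,2,6]] := by decide +kernel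
def lowX2_w2 : List Word := [[0,2,0,3,0,3,0,3,0,3,0,2,0,2,0,2,0,3,0,3,0,2,0,3,0,3,0,3,0,2,0,3,0,3,0,3,0,3,0,2,0,3,0,2,0,3,0,3,0,2,0,2,0,2,0,3,0,2,0,2,0,3,0,2,0,2,0,2,0,3,0,2,0,3,0,2,0,3,0,2,0,2,0,2,0,3,0,3,0,2,0,2,0,2,0,0,2,0,3,0,3,0,3,0,3,0,2,0,2,0,2,0,3,0,3,0,2,0,3,0,3,0,3,0,2,0,3,0,3,0,3,0,3,0,2,0,3,0,2,0,3,0,3,0,3,0,2,0,2,0,2,0,2,0,3,0,3,0,2,0,2,0,3,0,2,0,3,0,3,0,3,0,3,0,3,0,3,0,2,0,2,0,3,0,3,0,2,0,2,0,3,0,2,0,2,0,2,0,3,0,2,0,2,0,3,0,2,0,2,0,2,0,3,0,2,0,3,0,2,0,3,0,2,0,2,0,2,0,3,0,3,0,2,0,2,0,2,0,0,2,0,3,0,3,0,3,0,3,0,2,0,2,0,2,0,3,0,3,0,2,0,3,0,3,0,3,0,2,0,3,0,3,0,3,0,3,0,2,0,3,0,2,0,3,0,3,3,0,3,0,2,0,3,0,3,0,2,0,3,0,2,0,2,0,3,0,3,0,2,0,3,0,2,0,2,0,2,0,2,0,3,0,3,0,2,0,2,0,3,0,2,0,2,0,2,0,2,0,3,0,3,0,3,0,3,0,2,0,2,0,2,0,3,0,3,0,2,0,3,0,3,0,3,0,2,0,3,0,3,0,3,0,3,0,2,0,3,0,2,0,3,0,3,3,0,3,0,2,0,3,0,3,0,2,0,3,0,2,0,2,0,3,0,3,0,2,0,3,0,2,0,2,0,2,0,2,0,3,0,3,0,2,0,2,0,3,0,2,0,2,0,2],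 [0,2,0,2,0,2,0,3,0,2,0,2,0,3,0,2,0,2,0,2,0,3,0,2,0,3,0,2,0,3,0,2,0,2,0,2,0,3,0,3,0,2,0,2,0,2,0,3,0,3,0,2,0,3,0,3,0,2,0,3,0,2,0,2,0,3,0,3,0,2,0,3,0,2,0,2,0,2,0,2,0,3,0,3,0,2,0,2,0,3,0,2,0,2,0,2,0,3,0,2,0,2,0,2,0,2,0,3,0,3,0,2,0,2,0,3,0,2,0,3,0,3,0,3,0,3,0,3,0,3,0,2,0,2,0,3,0,3,0,2,0,2,0,3,0,2,0,2,0,2,0,3,0,2,0,2,0,3,0,2,0,2,0,2,0,3,0,2,0,3,0,2,0,3,0,2,0,2,0,2,0,3,0,3,0,2,0,2,0,2,0,3,0,3,0,2,0,3,0,3,0,2,0,3,0,2,0,2,0,3,0,3,0,2,0,3,0,2,0,2,0,2,0,2,0,3,0,3,0,2,0,2,0,3,0,2,0,2,0,2]]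
theorem lowX2_2 : Low (C.grp lowX2_w2) 4 [2] :=
  low_orb hC hlk 2 (by decide) [(2,0), (2,2), (22,2)] (m := 4) (grp_mono _ (by decide +kernel))
    (by decide +kernel) (by decide +kernel) (low_nil C) (by decide)
def lowX2_w1 : List Word := [[0,2,0,3,0,3,0,3,0,3,0,2,0,2,0,2,0,3,0,3,0,2,0,3,0,3,0,3,0,2,0,3,0,3,0,3,0,3,0,2,0,3,0,2,0,3,0,3,0,2,0,2,0,2,0,3,0,2,0,2,0,3,0,2,0,2,0,2,0,3,0,2,0,3,0,2,0,3,0,2,0,2,0,2,0,3,0,3,0,2,0,2,0,2,0,0,2,0,3,0,3,0,3,0,3,0,2,0,2,0,2,0,3,0,3,0,2,0,3,0,3,0,3,0,2,0,3,0,3,0,3,0,3,0,2,0,3,0,2,0,3,0,3,0,3,0,2,0,2,0,2,0,2,0,3,0,3,0,2,0,2,0,3,0,2,0,3,0,3,0,3,0,3,0,3,0,3,0,2,0,2,0,3,0,3,0,2,0,2,0,3,0,2,0,2,0,2,0,3,0,2,0,2,0,3,0,2,0,2,0,2,0,3,0,2,0,3,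0,2,0,3,0,2,0,2,0,2,0,3,0,3,0,2,0,2,0,2,0,0,2,0,3,0,3,0,3,0,3,0,2,0,2,0,2,0,3,0,3,0,2,0,3,0,3,0,3,0,2,0,3,0,3,0,3,0,3,0,2,0,3,0,2,0,3,0,3,3,0,3,0,2,0,3,0,3,0,2,0,3,0,2,0,2,0,3,0,3,0,2,0,3,0,2,0,2,0,2,0,2,0,3,0,3,0,2,0,2,0,3,0,2,0,2,0,2,0,2,0,3,0,3,0,3,0,3,0,2,0,2,0,2,0,3,0,3,0,2,0,3,0,3,0,3,0,2,0,3,0,3,0,3,0,3,0,2,0,3,0,2,0,3,0,3,3,0,3,0,2,0,3,0,3,0,2,0,3,0,2,0,2,0,3,0,3,0,2,0,3,0,2,0,2,0,2,0,2,0,3,0,3,0,2,0,2,0,3,0,2,0,2,0,2], [0,2,0,2,0,2,0,3,0,2,0,2,0,3,0,2,0,2,0,2,0,3,0,2,0,3,0,2,0,3,0,2,0,2,0,2,0,3,0,3,0,2,0,2,0,2,0,3,0,3,0,2,0,3,0,3,0,2,0,3,0,2,0,2,0,3,0,3,0,2,0,3,0,2,0,2,0,2,0,2,0,3,0,3,0,2,0,2,0,3,0,2,0,2,0,2,0,3,0,2,0,2,0,2,0,2,0,3,0,3,0,2,0,2,0,3,0,2,0,3,0,3,0,3,0,3,0,3,0,3,0,2,0,2,0,3,0,3,0,2,0,2,0,3,0,2,0,2,0,2,0,3,0,2,0,2,0,3,0,2,0,2,0,2,0,3,0,2,0,3,0,2,0,3,0,2,0,2,0,2,0,3,0,3,0,2,0,2,0,2,0,3,0,3,0,2,0,3,0,3,0,2,0,3,0,2,0,2,0,3,0,3,0,2,0,3,0,2,0,2,0,2,0,2,0,3,0,3,0,2,0,2,0,3,0,2,0,2,0,2],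 [0,2,0,3,0,3,0,3,0,3,0,2,0,2,0,2,0,3,0,3,0,2,0,3,0,3,0,3,0,2,0,3,0,3,0,3,0,3,0,2,0,3,0,2,0,3,0,3,0,2,0,2,0,2,0,3,0,2,0,2,0,3,0,2,0,2,0,2,0,3,0,2,0,3,0,2,0,3,0,2,0,2,0,2,0,3,0,3,0,2,0,2,0,2,0,0,2,0,3,0,3,0,3,0,3,0,2,0,2,0,2,0,3,0,3,0,2,0,3,0,3,0,3,0,2,0,3,0,3,0,3,0,3,0,2,0,3,0,2,0,3,0,3,0,3,0,2,0,2,0,2,0,2,0,3,0,3,0,2,0,2,0,3,0,2,0,3,0,3,0,3,0,3,0,3,0,3,0,2,0,2,0,3,0,3,0,2,0,2,0,3,0,2,0,3,0,3,0,3,0,3,0,2,0,2,0,2,0,3,0,3,0,2,0,3,0,3,0,3,0,2,0,3,0,3,0,3,0,3,0,2,0,3,0,2,0,3,0,3,0,2,0,2,0,2,0,3,0,2,0,2,0,3,0,2,0,2,0,2,0,3,0,2,0,3,0,2,0,3,0,2,0,2,0,2,0,3,0,3,0,2,0,2,0,2,0,0,2,0,3,0,3,0,3,0,3,0,2,0,2,0,2,0,3,0,3,0,2,0,3,0,3,0,3,0,2,0,3,0,3,0,3,0,3,0,2,0,3,0,2,0,3,0,3], [3,0,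3,0,2,0,3,0,3,0,2,0,3,0,2,0,2,0,3,0,3,0,2,0,3,0,2,0,2,0,2,0,2,0,3,0,3,0,2,0,2,0,3,0,2,0,2,0,2,0,2,0,2,0,2,0,3,0,2,0,2,0,3,0,2,0,2,0,2,0,3,0,2,0,3,0,2,0,3,0,2,0,2,0,2,0,3,0,3,0,2,0,2,0,2,0,0,2,0,3,0,3,0,3,0,3,0,2,0,2,0,2,0,3,0,3,0,2,0,3,0,3,0,3,0,2,0,3,0,3,0,3,0,3,0,2,0,3,0,2,0,3,0,3,0,2,0,2,0,2,0,3,0,2,0,2,0,3,0,2,0,2,0,2,0,3,0,2,0,3,0,2,0,3,0,2,0,2,0,2,0,3,0,3,0,2,0,2,0,2,0,0,2,0,3,0,3,0,3,0,3,0,2,0,2,0,2,0,3,0,3,0,2,0,3,0,3,0,3,0,2,0,3,0,3,0,3,0,3,0,2,0,3,0,2,0,3,0,3,3,0,3,0,2,0,3,0,3,0,2,0,3,0,2,0,2,0,3,0,3,0,2,0,3,0,2,0,2,0,2,0,2,0,3,0,3,0,2,0,2,0,3,0,2,0,2,0,2], [3,0,3,0,2,0,3,0,3,0,2,0,3,0,2,0,2,0,3,0,3,0,2,0,3,0,2,0,2,0,2,0,2,0,3,0,3,0,2,0,2,0,3,0,2,0,2,0,2,0,2,0,2,0,2,0,3,0,2,0,2,0,3,0,2,0,2,0,2,0,3,0,2,0,3,0,2,0,3,0,2,0,2,0,2,0,3,0,3,0,2,0,2,0,2,0,3,0,3,0,2,0,3,0,3,0,2,0,3,0,2,0,2,0,3,0,3,0,2,0,3,0,2,0,2,0,2,0,2,0,3,0,3,0,2,0,2,0,3,0,2,0,2,0,2,0,3,0,2,0,2,0,2,0,2,0,3,0,3,0,2,0,2,0,3,0,2,0,3,0,3,0,3,0,3,0,3,0,3,0,2,0,2,0,3,0,3,0,2,0,2,0,3]]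
theorem lowX2_1 : Low (C.grp lowX2_w1) 32 [1,2] :=
  low_orb hC hlk 1 (by decide) [(1,4), (1,6), (1,8), (20,6), (20,8), (13,8), (21,6)] (m := 8) (grp_mono _ (by decide +kernel))
    (by decide +kernel) (by decide +kernel) lowX2_2 (by decide)
theorem lowX2 : Low (C.grp X2) 512 [0,1,2] :=
  low_orb hC hlk 0 (by decide) [(0,0), (0,2), (0,4), (0,6), (0,8), (11,2), (11,4), (11,6), (15,0), (15,4), (15,6), (19,6), (19,8), (2,4), (17,6)] (m := 16) (le_of_subst _ [[8,4,2,6,0], [2,0,4,2,0], [8,4,8], [0,2,8,0], [0,2,0,4]] (by decide +kernel))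
    (by decide +kernel) (by decide +kernel) lowX2_1 (by decide)
theorem hcj2 : ∀ w ∈ X2, ∃ v ∈ [[0,2,6,4,6], [6,2,6], [2,4,6,2,6], [4,6,4], [0,4,8,0,2,4]], eqP (lapp (winv (nth nws [] 2)) (lapp w (nth nws [] 2))) (CWord.subst X2 v) = true := by decide +kernel
theorem hxy : ∀ w ∈ [[0], [2]], ∃ v ∈ [[12], [10,8,4,6,10,12,8,2,10,2,8,10,2,8,10]], eqP w (CWord.subst (lapp sw nws) v) = true := by decide +kernel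
theorem hqq : ∀ u ∈ qs, ∀ v ∈ qs, eqP (lapp u v) (lapp v u) = true := by decide +kernel
def V : ℕ := Nat.shiftLeft (full 2048) 24
theorem hV : C.inv gensH V = true := by decide +kernel
theorem hV24 : C.inv gensH (full 24) = true := by decide +kernel
theorem tr24 : sub (full 24) (C.clo W1 [0,0,2,0,2,0,2,0] (bit 0)) = true := by decide +kernel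
def ρ : List Word := [[0], [2], [], [], [], [], [], [], [], [], [], [], [], [0,3,0,3,0,3,0,2,0,2], [0,3,0,2,0,2,0,3,0,3], [0,2,0,2,0,3,0,3,0,2]]
def τ : List Word := [[4,6,8,12,14,18,0], [1,19,15,13,9,7,5,0,2], [4], [6], [8], [10], [12], [14], [16], [18], [20], [22], [24], [4,8,12,18,22,26], [28], [6,10,14,20,24,30]]
def df : List Word := [[0,3,0,3,0,3,0,2,4,0,2], [0,3,4,0,2,0,2,0,3,0,3], [0,2,0,2,0,3,0,3,0,4,2]]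
theorem hρ : lall relsH (fun r => eqP (CWord.subst ρ r) []) = true := by decide +kernel
theorem hdf : ∀ i < 3, eqP [2 * (13 + i)] (nth df [] i) = true ∧ eqP (CWord.subst τ (nth df [] i)) (nth τ [] (13 + i)) = true := by decide +kernel
def cw : List Word := [[2], [4,6,8,14,20,22,24,0,2,0,3,0,3,0,3,0,2,0,2,0,2,0,2,0,2,0,2,0,3,0]]
def pw : Word := [6,10,14,16,20,24,0,2]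
theorem hcw : ∀ w ∈ cw, mapsP C lk w 24 24 = true ∧ eqP (lapp w [4]) (lapp [4] w) = true := by decide +kernel
theorem hs24 : mapsP C lk [4] 24 657 = true := by decide +kernel
theorem fcw : fx cw 24 2048 [24, 657] = true := by decide +kernel
theorem fpw : fx [pw] 24 2048 [24] = true := by decide +kernel
theorem hpw : mapsP C lk pw 24 24 = true := by decide +kernel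
def k0 : List Word := [[2,1,3,0,0], [3,3]]
def kb : List Word := [[3,1,3,3,0,2], [2,0,0,3,1,2,2]]
theorem fk0 : fx (lmap (CWord.subst W1) k0) 0 24 [0] = true := by decide +kernel
theorem hk0 : lall (lmap (CWord.subst W1) k0) (fun w => mapsP C lk w 0 0) = true := by decide +kernel
theorem fkb : fx (lmap (CWord.subst W1) kb) 24 2048 [25] = true := by decide +kernel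
theorem hkb : lall (lmap (CWord.subst W1) kb) (fun w => mapsP C lk w 25 25) = true := by decide +kernel
def I : ℕ := nat_lit 0x8008800800000000400440040000800800000000800840040000000040040110000000000110022000000000022000000110011000000000022002200000000080088008000000004004400400008008000000008008400400000000400401100000000001100220000000000220000001100110000000000220022000000000200220020000000010011001000020020000000020021001000000001001044000000000044008800000000008800000044004400000000008800880000000002002200200000000100110010000200200000000200210010000000010010440000000000440088000000000088000000440044000000000088008800000000000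
theorem hI : C.inv (lmap (CWord.subst τ) W4) I = true := by decide +kernel
theorem cI : Nat.beq (cnt C.n I) 128 = true := by decide +kernel
theorem uI : I.testBit 47 = true ∧ V.testBit 47 = true := by decide +kernel
theorem cov4 : sub V (C.clo W4 [0,2,0,2,0,2,0,2,0,2,0,2,0,2,0,2,0,2] (Nat.lor (bit 24) (bit 27))) = true := by decide +kernel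
theorem orb40 : Nat.ble 768 (cnt C.n (C.clo W4 [0,2,0,2,0,2,0,2,0,2,0,2,0,2,0,2,0,2] (bit 24))) = true := by decide +kernel
theorem orb41 : Nat.ble 768 (cnt C.n (C.clo W4 [0,2,0,2,0,2,0,2,0,2,0,2,0,2,0,2,0] (bit 27))) = true := by decide +kernel
theorem hR1 : ∀ r ∈ R1, r.2.1 = [] ∨ ∃ w ∈ W1, mapsP C lk (lapp r.2.1 (lapp w (winv r.2.1))) 9203 9203 = false := by decide +kernel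
theorem hne : mapsP C lk [0, 2, 4] 24 740 = true ∧ mapsP C lk [4, 0, 2] 24 661 = true := by decide +kernel
theorem hx0 : mapsP C lk [0] 0 3 = true := by decide +kernel
end CA.J4UD
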