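import Cfsg.Agent.Lib.Fi.We6
import Cfsg.Agent.Lib.Grp.H13Inv

/-! A table model of the centralizer of a `2`-central involution of `PSp₄(3)`. -/

set_option autoImplicit false
set_option maxRecDepth 100000
set_option linter.all false
set_option Elab.async false
open Cfsg

namespace CA.JPs
open CA.CNet CA.CWord CA.CLevel CA.CSimple CA.CPoint CA.We6 Subgroup

def qm (a b : Fin 32) : Fin 32 := Fin.ofNat 32 (0x80623c52a95f4cac2766971933e847236be77df004432d58db42698df5251df426326dadc8ef3fe18820332b66be914e32a912133df454397bf7f9d10c01226325633563e8db1afa2c2675ed0effbbc29c8603e13a31b7c2559d06b614643f73fd42ddb8d52c7804e41bc3093ebde0fc817b76d952a667a4b23580c2bd97a011f8e45c9f79bd8b364a9ea996aad29b900174abdf0e30ebe4a78d98a6ac85df8b49aaa2f630f8ce47c80167879f4ba4c5957e21785df8490bdf85673011ee307b889d5cea9353656d4f3457b8732c3dfa0042b763938567c3174b235626b1b880871f81197bb5c0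dec13ef92acdd4f34ac589c047b593e201bc873cbdb9f90549b6cd353bc30f618fcf01052057fea44ea8f71a4f3a6aad29ea996ffa52201cf2c263a9c2b6c72c5df0626b19594dca1c207c9b5f8c11d3a5d70f365531c3ef053656d6d611f0e8774a204fc6cfc94ab229bc30f394c40e2faca5507b1b4982321d6c2ff7dc5a36e7e21789cdee09c428f7dfd4084856cd66749594dcd353977e42b85ee6c673590052c2d83ef88d52c218a715f19d464f856d3a0d2a031a1e7bbf76d0bc3ef0a949fe8f66389dcf442b601099d359b49aaa667ab73c63ec7feb845249616a00abe20fac589310e51c1f49d6d8bc65ac898d0a540eff9edb968db968fb6d566712551e98fb57ece1c00823218a75a36eec9498ce0db6af56728ffe71e1006129c8676d0bf2a514d1f66e70cafe70e6afd08c02310e542ddbe59acaeaea94e114f738f51ff18440394c4e77df46757c3593a292f82ed574a3b214c700443ef3fe5d2707a93acb598ba251ddaae31c8508062f7f9d74e8f84a39d5ab7c6d494358b290e610c01ffbbcdeb38bdab49ca307b9ac5a928398a418820 >>> (5 * (32 * a.1 + b.1)))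
def ac (s : Fin 18) (a : Fin 32) : Fin 32 := Fin.ofNat 32 (0x8d6f04a3edcf2de5f6545337ac3a6f1944721820cd3fec3a53ed616dc6fcd3c65208e65a90d4b020cd2566b2ebed7d04c7fc42b0e9bf7a208c339420ef2f09bffb8d2dec665576882398654a18b6a820ef25620ae78d3d01e7f52996a4a1acde9d3c3c208d7fe39a43cf216276f4115286b16ac39fb9e820cd2f0197e4ed6de3c65c309ac5a9289bf58db8208d656deaf8cf3d09f7f47b8e6194826b1495a020ef3fe5aa498d2166e6f56226fdeb0e398a418820bc3bc39b2397ab427e361170e9bf7a4a18b6a820ffb3420a27bdb951cbb029b7ac3a6f5a90d4b02095bbc4a32dfc2b45de3e53065208e6de9d3c3c20ffa356b3abbda9c4cb304288239865c39fb9e820bc235c3bb397a9cdff36d3d6a4a1ac194472182095b349be3bfc395c5fbe769286b16a208c339420bc3345aa2997b956ffb6620e6194829bf58db82095a35197a4fc29c3df3e30a6fdeb0e6b1495a020ffbbcdeb38bdab49ca307b9ac5a928398a418820 >>> (5 * (32 * s.1 + a.1)))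
def sm (s t : Fin 18) : Fin 18 := Fin.ofNat 18 (0x19402404e622d8e53d306c503080a2310e97b16e536300088609d051b56a8262e63c203904628d114adaa831ee2a04118087329cf4b1718344131c041a0b05262b6bdcc31ca820c0113a117b58952ce440cc51002f8b59072d2a218653a022031b0745ea5a54b835317b1c61008138ca87314b7a62d808a30202431d8f5a5ca845a01a02511c865a5b1541cf61001388c8195ee4a98b6c22141443018e44aa305b58e79c223008540db163e0e5256321d0628402835cc8bd2b514c419d00106307b9ac5a928398a418820 >>> (5 * (18 * s.1 + t.1)) % 32)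
def qi (a : Fin 32) : Fin 32 := Fin.ofNat 32 (0xf7f9ddea9884a399dab77b9ac5a928398a418820 >>> (5 * a.1))
def si (s : Fin 18) : Fin 18 := Fin.ofNat 18 (0x1ee8c18d5a9262a0e320440 >>> (5 * s.1) % 32)

@[ext] structure X where
  q : Fin 32
  s : Fin 18
  deriving DecidableEq

def eX : Fin 32 × Fin 18 ≃ X := ⟨fun p => ⟨p.1, p.2⟩, fun x => (x.q, x.s), fun _ => rfl, fun _ => rfl⟩
instance : Fintype X := .ofEquiv _ eX
instance (P : X → Prop) [DecidablePred P] : Decidable (∀ x, P x) :=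
  decidable_of_iff (∀ s q, P ⟨q, s⟩) ⟨fun h _ => h _ _, fun h _ _ => h _⟩
instance (P : X → Prop) [DecidablePred P] : Decidable (∃ x, P x) :=
  decidable_of_iff (∃ s q, P ⟨q, s⟩) ⟨fun ⟨_, _, h⟩ => ⟨_, h⟩, fun ⟨_, h⟩ => ⟨_, _, h⟩⟩
instance : Mul X := ⟨fun x y => ⟨qm x.q (ac x.s y.q), sm x.s y.s⟩⟩
instance : One X := ⟨⟨0, 0⟩⟩
instance : Inv X := ⟨fun x => ⟨ac (si x.s) (qi x.q), si x.s⟩⟩

theorem qa : ∀ a b c, qm (qm a b) c = qm a (qm b c) := by decide +kernel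
theorem sa : ∀ a b c, sm (sm a b) c = sm a (sm b c) := by decide +kernel
theorem a1 : ∀ s a b, ac s (qm a b) = qm (ac s a) (ac s b) := by decide +kernel
theorem a2 : ∀ s t a, ac (sm s t) a = ac s (ac t a) := by decide +kernel

instance : Group X := .ofLeftAxioms
  (fun x y z => X.ext (show qm (qm _ _) (ac (sm _ _) _) = qm _ (ac _ (qm _ _)) by rw [qa, a1, a2]) (sa _ _ _))
  (by decide +kernel) (by decide +kernel)

theorem cardX : Nat.card X = 576 := by rw [← Nat.card_congr eX]; simp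

def z : X := ⟨1, 0⟩
theorem zc : ∀ x, z * x = x * z := by decide +kernel
theorem zT : ∀ x : X, x * x = 1 → x ≠ 1 → (∀ y : X, y.s = 0 ∨ y.s = 9 → x * y = y * x) → x = z := by decide +kernel

def T : Subgroup X where
  carrier := {y | y.s = 0 ∨ y.s = 9}
  mul_mem' := fun {a b} => (by decide : ∀ s t, s = 0 ∨ s = 9 → t = 0 ∨ t = 9 → sm s t = 0 ∨ sm s t = 9) a.s b.s
  one_mem' := .inl rfl
  inv_mem' := fun {a} => (by decide : ∀ s, s = 0 ∨ s = 9 → si s = 0 ∨ si s = 9) a.s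

theorem T2 : IsPGroup 2 T := fun x => ⟨2, Subtype.ext (by
  have := (by decide +kernel : ∀ y : X, y.s = 0 ∨ y.s = 9 → y * y * y * y = 1) x.1 x.2
  simpa [pow_succ] using this)⟩

def sgn : X →* ℤˣ := .mk' (fun x => if x.s < 9 then 1 else -1) fun a b =>
  (by decide +kernel : ∀ s t, (if sm s t < 9 then 1 else -1 : ℤˣ) = (if s < 9 then 1 else -1) * if t < 9 then 1 else -1) a.s b.s

/-! ### the embedding -/

def WQ : List Word := [[], [0], [6,8], [0,6,8], [2,0,6,2,0,8,2,0,6,2], [2,0,6,2,8,2,0,6,2,8], [0,2,0,6,2,0,8,2,0,6,2], [0,2,0,6,2,8,2,0,6,2,8], [2,0,4,0,2,6,8,2,0,4,0,2], [2,0,4,6,2,0,8,2,4,0,6,2], [2,0,4,8,2,0,6,2,8,4,0,2], [0,2,0,4,0,2,6,8,2,0,4,0,2], [0,2,0,4,6,2,0,8,2,4,0,6,2], [0,2,0,4,8,2,0,6,2,8,4,0,2], [2,0,4,0,2,6,8,2,0,4,0,2,6,8], [2,0,4,6,2,0,4,8,2,4,0,2,6,2], [2,0,4,6,2,0,4,8,2,4,0,6,2,8], [2,0,4,6,2,0,8,2,4,0,2,6,2,8], [2,0,4,8,2,0,6,2,8,4,0,2,6,8],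 [6,2,0,4,8,2,0,6,2,8,4,0,2,6], [6,2,0,4,8,2,0,6,2,8,4,0,2,8], [6,8,2,0,4,6,2,0,8,2,4,0,6,2], [6,8,2,0,4,8,2,0,6,2,8,4,0,2], [8,2,0,4,6,2,0,8,2,4,0,2,6,2], [8,2,0,4,6,2,0,8,2,4,0,6,2,8], [8,2,0,4,8,2,0,6,2,8,4,0,2,6], [8,2,0,4,8,2,0,6,2,8,4,0,2,8], [0,2,0,4,0,2,6,8,2,0,4,0,2,6,8], [2,0,8,2,4,0,6,2,8,4,0,2,6,8,2,0,4], [4,0,2,6,8,2,0,4,8,2,0,4,6,2,0,8,2], [2,0,4,0,2,6,8,2,0,4,6,2,0,8,2,0,6,2], [2,0,6,2,0,8,2,4,0,2,6,2,8,2,0,4,0,2]]
def WS : List Word := [[], [2,0,4,0,2,8], [8,2,0,4,0,2], [2,0,8,2,4,0,8,4], [4,0,8,2,4,0,8,2], [0,2,4,0,8,2,0,4,8,2], [0,2,4,0,8,4,0,2,8,4], [0,2,8,2,4,0,2,8,2,4], [0,4,8,2,0,4,0,8,2,4], [8], [2,0,4,0,2], [8,2,0,4,0,2,8], [0,2,4,8,2,0,4,8,2], [0,2,4,8,4,0,2,8,4], [2,0,4,8,2,4,0,8,4], [2,0,8,2,0,4,0,8,4], [4,0,2,8,2,4,0,8,2], [4,0,8,2,4,0,2,8,2]]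
def CW : List Word := [[], [2], [4], [0,2], [0,4], [2,4], [6,2], [8,2], [8,4], [0,6,2], [0,8,2], [0,8,4], [2,8,4], [4,6,2], [4,8,2], [6,8,2], [8,2,4], [0,2,8,4], [0,4,8,2], [0,6,8,2], [2,0,6,2], [2,0,8,2], [2,0,8,4], [2,6,8,2], [4,6,8,2], [6,2,8,4], [6,8,2,4], [0,2,0,8,4], [0,4,6,8,2], [0,6,2,8,4], [2,4,6,8,2], [2,6,8,2,4], [4,0,6,8,2], [0,2,4,6,8,2], [0,2,6,8,2,4], [0,4,0,6,8,2], [2,0,4,6,8,2], [2,0,6,2,8,4], [8,2,4,6,8,2], [0,2,0,4,6,8,2], [0,8,2,4,6,8,2], [2,0,4,0,6,8,2], [2,8,2,4,6,8,2], [4,0,8,2,4,6,8,2], [6,2,8,2,4,6,8,2]]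
noncomputable abbrev B : List ℕ := [27, 40, 29, 32]
noncomputable def wq (a : Fin 32) : Word := nth WQ [] a.1
noncomputable def ws (s : Fin 18) : Word := nth WS [] s.1
theorem e1a : ∀ a b, a < 16 → eqR lk prs B (wq (qm a b), lapp (wq a) (wq b)) = true := by decide +kernel
theorem e1b : ∀ a b, ¬ a < 16 → eqR lk prs B (wq (qm a b), lapp (wq a) (wq b)) = true := by decide +kernel
theorem e2 : ∀ a b, eqR lk prs B (ws (sm a b), lapp (ws a) (ws b)) = true := by decide +kernel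
theorem e3 : ∀ s a, eqR lk prs B (lapp (wq (ac s a)) (ws s), lapp (ws s) (wq a)) = true := by decide +kernel
theorem e4 : ∀ x : X, eqR lk prs B (lapp (wq x.q) (ws x.s), []) = true → x = 1 := by decide +kernel
theorem e5 : ∀ i j : Fin 45, eqR lk prs B (lapp (nth CW [] i) (lapp [0] (winv (nth CW [] i))),
    lapp (nth CW [] j) (lapp [0] (winv (nth CW [] j)))) = true → i = j := by decide +kernel

end CA.JPs
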