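import Cfsg.Agent.Lib.Spor.JPs1

/-! The table model is the centralizer of a `2`-central involution of `PSp₄(3)`. -/

set_option autoImplicit false
set_option maxRecDepth 100000
set_option linter.all false
open Cfsg

namespace CA.JPs
open CA.CNet CA.CWord CA.CLevel CA.CSimple CA.CPoint CA.We6 Subgroup

noncomputable abbrev P := C.grp prs
noncomputable def gp (i : ℕ) : P := ⟨C.ev (nth prs [] i), nth_mem_grp _ _ _⟩
theorem ev_val (w : Word) : (ev gp w).1 = C.ev (subst prs w) := (map_ev P.subtype gp w).trans (ev_subst _ _ _).symm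
theorem eqR_iff {u v : Word} : eqR lk prs B (u, v) = true ↔ ev gp u = ev gp v := by
  refine ⟨fun h => Subtype.ext (by rw [ev_val, ev_val]; exact eq_of_eqR hlk baseP h), fun h => ?_⟩
  unfold eqR eqQ
  refine lall_iff.2 fun b hb => ?_
  have hb' : b < C.n := (by decide : ∀ b ∈ B, b < C.n) b hb
  have := congrArg Subtype.val h
  rw [ev_val, ev_val] at this
  exact Nat.beq_eq ▸ (ipt_eq hlk _ ⟨b, hb'⟩).trans (this ▸ (ipt_eq hlk _ ⟨b, hb'⟩).symm)

noncomputable def f : X →* P := .mk' (fun x => ev gp (wq x.q) * ev gp (ws x.s)) fun x y => by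
  have h1 := eqR_iff.1 ((em _).elim (e1a x.q (ac x.s y.q)) (e1b _ _))
  have h2 := eqR_iff.1 (e2 x.s y.s)
  have h3 := eqR_iff.1 (e3 x.s y.q)
  simp only [ev_lapp] at h1 h2 h3
  change ev gp (wq (qm _ _)) * ev gp (ws (sm _ _)) = _
  rw [h1, h2, mul_assoc, ← mul_assoc (ev gp (wq (ac _ _))), h3]; simp only [mul_assoc]

theorem f_inj : Function.Injective f := (injective_iff_map_eq_one f).2 fun x h => e4 x (eqR_iff.2 (by rw [ev_lapp]; exact h))

theorem f_cent {y : P} (h : Commute (f z) y) : ∃ x, f x = y := by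
  have fz : f z = ev gp [0] := mul_one _
  have le : f.range ≤ centralizer {f z} := by
    rintro _ ⟨x, rfl⟩; rw [mem_centralizer_singleton_iff, ← map_mul, ← zc, map_mul]
  have i1 : 45 ≤ (centralizer {f z}).index := by
    refine (Nat.card_fin 45).ge.trans (Nat.card_le_card_of_injective
      (fun i : Fin 45 => ((ev gp (nth CW [] i) : P) : P ⧸ centralizer {f z})) fun i j e => e5 i j (eqR_iff.2 ?_))
    have := mem_centralizer_singleton_iff.1 (QuotientGroup.eq.1 e)
    simp only [ev_lapp, ev_winv, ← fz]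
    generalize ev gp (nth CW [] i) = a, ev gp (nth CW [] j) = b at *
    calc _ = a * (f z * (a⁻¹ * b)) * b⁻¹ := by group
      _ = _ := by rw [← this]; group
  have i2 := (centralizer {f z}).card_mul_index
  have i3 : Nat.card f.range = 576 := (Nat.card_congr (f.ofInjective f_inj).toEquiv).symm.trans cardX
  rw [cardP] at i2
  exact (eq_of_le_of_card_ge le (by rw [i3]; nlinarith)).ge (mem_centralizer_singleton_iff.2 h.symm)

theorem k2 {H : Type*} [Group H] (j : X →* H) (x : X) (hj : Function.Injective j) (h1 : orderOf (j x) = 2)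
    (h2 : ∀ y ∈ T, j y * j x = j x * j y) : x = z :=
  zT x (hj (by rw [map_mul, H13Inv.mul_self h1, map_one])) (fun q => H13Inv.ne_one h1 (by rw [q, map_one]))
    fun y hy => hj (by rw [map_mul, map_mul, h2 y hy])

/-- transport to a group with the same involution centralizer -/
theorem transport {G Γ : Type*} [Group G] [Group Γ] [Finite Γ] (θ : P ≃* Γ) (U : Sylow 2 Γ) {t₀ : Γ} (ht₀ : orderOf t₀ = 2)
    (hc : ∀ u ∈ (U : Subgroup Γ), u * t₀ = t₀ * u) {t : G} (ht : orderOf t = 2)
    (e : centralizer ({t} : Set G) ≃* centralizer ({t₀} : Set Γ)) :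
    ∃ ι : X →* G, Function.Injective ι ∧ ι z = t ∧ ∀ y, Commute t y → ∃ x, ι x = y := by
  obtain ⟨g, hg⟩ := H13Inv.exists_conj_mem_sylow_of_isPGroup U (T2.map (θ.toMonoidHom.comp f))
  let θ' := θ.trans (MulAut.conj g)
  let ψ := θ'.toMonoidHom.comp f
  have hψ : Function.Injective ψ := θ'.injective.comp f_inj
  have k1 : ∀ y, Commute (ψ z) y → ∃ x, ψ x = y := fun y h => by
    obtain ⟨y, rfl⟩ := θ'.surjective y
    obtain ⟨x, rfl⟩ := f_cent (h.of_map θ'.injective)
    exact ⟨x, rfl⟩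
  have k3 : ∀ y ∈ T, ψ y * t₀ = t₀ * ψ y := fun y hy => hc _ (hg _ ⟨y, hy, rfl⟩)
  obtain ⟨x, rfl⟩ := k1 t₀ (k3 z (.inl rfl))
  obtain rfl := k2 ψ x hψ ht₀ k3
  let ι := (centralizer {t}).subtype.comp (e.symm.toMonoidHom.comp (ψ.codRestrict _ fun x => by
    rw [mem_centralizer_singleton_iff, ← map_mul, ← zc, map_mul]))
  have hι : Function.Injective ι := Subtype.val_injective.comp (e.symm.injective.comp fun a b h => hψ (congrArg Subtype.val h))
  have k4 : ∀ y, Commute t y → ∃ x, ι x = y := fun y h => by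
    obtain ⟨x, hx⟩ := k1 _ (mem_centralizer_singleton_iff.1 (e ⟨y, mem_centralizer_singleton_iff.2 h.symm⟩).2).symm
    exact ⟨x, congrArg Subtype.val ((e.symm_apply_eq (y := ⟨y, mem_centralizer_singleton_iff.2 h.symm⟩)).2 (Subtype.ext hx))⟩
  obtain ⟨x, hx⟩ := k4 t rfl
  obtain rfl := k2 ι x hι (hx ▸ ht) fun y _ => by
    rw [hx]; exact mem_centralizer_singleton_iff.1 (e.symm _).2
  exact ⟨ι, hι, hx, k4⟩

end CA.JPs
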