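import Cfsg.Agent.Lib.Spor.JPs1

/-! Finite facts on the involutions of the table model. -/

set_option autoImplicit false
set_option maxRecDepth 100000
set_option linter.all false
set_option synthInstance.maxSize 4000
set_option synthInstance.maxHeartbeats 200000

namespace CA.JPs

abbrev N (l : List X) (u : X) : Prop := u * u = 1 ∧ u ≠ 1 ∧ u ∉ l
abbrev Y (l : List X) (u s : X) : Prop := s * u = u * s ∧ s * u ∉ l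

structure Fc (l : List X) : Prop where
  sz : z ∈ l
  nd : l.Nodup
  len : l.length = 13
  f1 : ∀ a ∈ l, ∀ b ∈ l, a * b * (a * b) = 1 ∨ a * b * (a * b) * (a * b) = 1
  f2a : ∀ u, N l u → ∀ a ∈ l, a * u = u * a → ∀ b ∈ l, b * u = u * b → a * b = b * a
  f2b : ∀ u, N l u → ∃ a ∈ l, a * u = u * a ∧ a * u ∈ l
  f2c : ∀ u, N l u → z * u ∈ l → ∀ b ∈ l, b * u = u * b → b * u ∈ l → b = z ∨ b = z * u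
  f2d : ∀ u, N l u → ∃ a ∈ l, Y l u a ∧ ∃ b ∈ l, Y l u b ∧ ∃ c ∈ l, Y l u c ∧ a * b * c = u ∧
    ∀ s ∈ l, Y l u s → s = a ∨ s = b ∨ s = c
  f3 : ∃ u, N l u
  f6 : ∀ b ∈ l, ∃ p ∈ l, p ≠ z ∧ p ≠ b ∧ p * b = b * p
  f7 : ∀ a ∈ l, a ≠ z → ∀ b ∈ l, b ≠ z → a * b = b * a → ∃ w ∈ l, a * w ≠ w * a ∧ b * w ≠ w * b
  f8 : ∀ c ∈ l, c ≠ z → ∀ a ∈ l, c * a = a * c → ∀ b ∈ l, c * b = b * c → a * b = b * a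
  f9 : ∀ b ∈ l, b ≠ z → (l.filter fun a => b * a = a * b).length = 5

def l1 : List X := [⟨0, 9⟩, ⟨0, 10⟩, ⟨0, 11⟩, ⟨1, 0⟩, ⟨2, 9⟩, ⟨5, 9⟩, ⟨6, 9⟩, ⟨8, 11⟩, ⟨10, 11⟩, ⟨12, 11⟩, ⟨14, 10⟩, ⟨15, 10⟩, ⟨26, 10⟩]
def l2 : List X := [⟨1, 0⟩, ⟨1, 9⟩, ⟨1, 10⟩, ⟨1, 11⟩, ⟨3, 9⟩, ⟨4, 9⟩, ⟨7, 9⟩, ⟨9, 11⟩, ⟨11, 11⟩, ⟨13, 11⟩, ⟨19, 10⟩, ⟨24, 10⟩, ⟨27, 10⟩]
def AL : List X := [⟨0, 0⟩, ⟨1, 0⟩, ⟨2, 0⟩, ⟨3, 0⟩, ⟨4, 0⟩, ⟨6, 0⟩, ⟨5, 0⟩, ⟨7, 0⟩, ⟨0, 9⟩, ⟨1, 9⟩, ⟨2, 9⟩, ⟨3, 9⟩, ⟨4, 9⟩, ⟨6, 9⟩, ⟨5, 9⟩, ⟨7, 9⟩]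
def al (i : ℕ) : X := AL.getD i 1

theorem g1 : ∀ i < 16, ∀ j < 16, al (i ^^^ j) = al i * al j := by decide +kernel
theorem g2 : ∀ i < 16, ∀ j < 16, al i = al j → i = j := by decide +kernel
theorem g3 : ∀ x : X, x * x = 1 → x ≠ 1 → x ∈ l1 ∨ x ∈ l2 ∨ ∃ g, x = g * al 2 * g⁻¹ := by decide +kernel
theorem g4 : ∀ x ∈ l1, x = z ∨ ∃ g, x = g * al 8 * g⁻¹ := by decide +kernel
theorem g5 : ∀ x ∈ l2, x = z ∨ ∃ g, x = g * al 9 * g⁻¹ := by decide +kernel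
theorem g6 : ∀ b : X, b * b = 1 → ¬ b.s < 9 → ∃ h, h * b * h⁻¹ = al 8 ∨ h * b * h⁻¹ = al 9 := by decide +kernel
theorem g7 : ∀ c : X, c * c = 1 → c * al 8 = al 8 * c ∨ c * al 9 = al 9 * c → ∃ i < 16, c = al i := by decide +kernel
theorem g8 : ∀ b : X, b * b = 1 → b ≠ 1 → b ≠ z → b.s < 9 →
    (Finset.univ.filter fun c : X => c * c = 1 ∧ c.s < 9 ∧ c * b = b * c).card ≤ 12 := by decide +kernel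
theorem g9 : ∀ x ∈ l1, ∀ h : X, h * x * h⁻¹ ∈ l1 := by decide +kernel
theorem g10 : ∀ j < 16, al j ∈ l1 ↔ j ∈ [1, 8, 10, 13, 14] := by decide +kernel
theorem g11 : ∀ i < 8, 2 ≤ i → ∃ g, al i = g * al 2 * g⁻¹ := by decide +kernel
theorem g12 : ∀ j < 16, j = 1 ∨ 8 ≤ j → al j ∈ l1 ∨ al j ∈ l2 := by decide +kernel

abbrev M4 := ℕ × ℕ × ℕ × ℕ
def bt (i k b : ℕ) : ℕ := if i.testBit k then b else 0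
def ap (b : M4) (i : ℕ) : ℕ := bt i 0 b.1 ^^^ bt i 1 b.2.1 ^^^ bt i 2 b.2.2.1 ^^^ bt i 3 b.2.2.2
def cp (c b : M4) : M4 := (ap c b.1, ap c b.2.1, ap c b.2.2.1, ap c b.2.2.2)
def fnd (b : M4) (j : ℕ) : ℕ := ((List.range 16).find? fun i => ap b i == j).getD 0 % 16
def iv (b : M4) : M4 := (fnd b 1, fnd b 2, fnd b 4, fnd b 8)
def KL : List (X × M4) := [(⟨0, 0⟩, 1, 2, 4, 8), (⟨8, 0⟩, 1, 2, 5, 10), (⟨9, 0⟩, 1, 3, 4, 13), (⟨10, 0⟩, 1, 3, 5, 14),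
  (⟨0, 3⟩, 1, 6, 3, 8), (⟨8, 3⟩, 1, 7, 3, 10), (⟨9, 3⟩, 1, 7, 2, 13), (⟨10, 3⟩, 1, 6, 2, 14), (⟨0, 4⟩, 1, 5, 7, 8),
  (⟨8, 4⟩, 1, 4, 6, 10), (⟨9, 4⟩, 1, 5, 6, 13), (⟨10, 4⟩, 1, 4, 7, 14)]
def lt (τ : M4) : ℕ → M4
  | 0 => iv τ
  | 1 => τ
  | j + 2 => (KL.getD (j % 12) (1, 1, 2, 4, 8)).2
def evw (τ : M4) (w : List ℕ) : M4 := w.foldr (fun a f => cp (lt τ a) f) (1, 2, 4, 8)
def WL : List (List ℕ) := [[1, 3, 0], [0, 0], [0, 4, 0], [0, 6, 0], [0, 7, 0], [0, 10, 0], [0, 11, 0], [0, 3, 1, 4, 0],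
  [0, 4, 1, 4, 0], [0, 6, 1, 6, 0, 10, 1], [0, 6, 1, 8, 0, 10, 1]]
abbrev Sg (τ : M4) : Prop := ∃ i < 16, i ≠ 0 ∧ ap τ i = 0

theorem g13 : ∀ i < 16, al i = al (bt i 0 1) * al (bt i 1 2) * al (bt i 2 4) * al (bt i 3 8) := by decide +kernel
theorem g14 : ∀ j < 12, let p := KL.getD j (1, 1, 2, 4, 8)
    (p.2.1 < 16 ∧ p.1 * al 1 * p.1⁻¹ = al p.2.1) ∧ (p.2.2.1 < 16 ∧ p.1 * al 2 * p.1⁻¹ = al p.2.2.1) ∧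
    (p.2.2.2.1 < 16 ∧ p.1 * al 4 * p.1⁻¹ = al p.2.2.2.1) ∧ (p.2.2.2.2 < 16 ∧ p.1 * al 8 * p.1⁻¹ = al p.2.2.2.2) := by
  decide +kernel

end CA.JPs
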