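import Cfsg.Agent.Lib.Spor.JPs3

/-! The local facts for the second class list. -/

set_option autoImplicit false
set_option maxRecDepth 100000
set_option linter.all false
set_option synthInstance.maxSize 4000
set_option synthInstance.maxHeartbeats 200000

namespace CA.JPs

theorem fc2 : Fc l2 := by constructor <;> decide +kernel

end CA.JPs
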