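import Cfsg.Agent.Lib.Spor.JPs3

/-! Two exhaustive checks on linear maps of a 4-dimensional space over the field with 2 elements. -/

set_option autoImplicit false
set_option maxRecDepth 100000
set_option linter.all false
set_option synthInstance.maxSize 4000
set_option synthInstance.maxHeartbeats 200000

namespace CA.JPs

theorem chk1 : ∀ a < 16, ∀ c < 16, ∀ d < 16, Sg (a, 1, c, d) ∨ cp (a, 1, c, d) (iv (a, 1, c, d)) = (1, 2, 4, 8) ∧
    ∃ w ∈ WL, (evw (a, 1, c, d) w).1 = 1 ∧ ∃ i ∈ [8, 10, 13, 14], ap (evw (a, 1, c, d) w) i ∉ [1, 8, 10, 13, 14] := by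
  decide +kernel
theorem chk2 : ∀ a < 16, ∀ b < 16, ∀ c < 16, Sg (a, b, c, 1) ∨
    ∃ i < 8, 2 ≤ i ∧ (ap (a, b, c, 1) i = 1 ∨ 8 ≤ ap (a, b, c, 1) i) := by decide +kernel

end CA.JPs
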