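import Cfsg.Agent.Lib.Spor.JPs3
import Cfsg.Agent.Lib.Spor.Fis15
import Cfsg.Agent.Lib.Lin.SmallF

/-! A class of involutions that looks locally like the transvections of `U₄(2)` is a class of 3-transpositions. -/

set_option autoImplicit false
set_option linter.unusedVariables false
set_option linter.unusedSectionVars false
open Cfsg

namespace CA.JPs
open CA.Tr3Basic CA.Tr3Block CA.Tr3Rank CA.Tr3Ext CA.Fis Subgroup

variable {G : Type*} [Group G] {D : Set G} {l : List X} {u a b c d s v : G}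

structure Lc (D : Set G) (l : List X) (d : G) (j : X →* G) : Prop where
  inj : Function.Injective j
  jz : j z = d
  sur : ∀ {y}, Commute d y → ∃ x, j x = y
  mem : ∀ {x}, j x ∈ D ↔ x ∈ l

structure Hy (D : Set G) (l : List X) : Prop where
  fc : Fc l
  cj : ∀ g, ∀ {d}, d ∈ D → g * d * g⁻¹ ∈ D
  lc : ∀ {d}, d ∈ D → ∃ j, Lc D l d j

def NI (D : Set G) (u : G) : Prop := u * u = 1 ∧ u ≠ 1 ∧ u ∉ D
def Ty (D : Set G) (u a s : G) : Prop := s ∈ D ∧ Commute s u ∧ s * u ∉ D ∧ Commute a s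

namespace Lc
variable {j : X →* G} (k : Lc D l d j) {x y : X}
include k
theorem cm : Commute (j x) (j y) ↔ x * y = y * x :=
  ⟨fun h => k.inj (by simpa only [map_mul] using h.eq), fun h => (map_mul j x y).symm.trans ((congrArg j h).trans (map_mul j y x))⟩
theorem cz (x : X) : Commute d (j x) := k.jz ▸ k.cm.2 (zc x)
theorem ni : NI D (j x) ↔ N l x := by
  rw [NI, ← map_mul, k.mem, map_eq_one_iff j k.inj, map_ne_one_iff j k.inj]
theorem mm : j x * j y ∈ D ↔ x * y ∈ l := by rw [← map_mul, k.mem]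
theorem ty : Ty D (j y) d (j x) ↔ x ∈ l ∧ Y l y x := by simp only [Ty, k.mem, k.cm, k.mm, k.cz, and_true]
theorem nz (n : j x ≠ d) : x ≠ z := fun e => n (e ▸ k.jz)
end Lc

theorem dd {x y : G} (hx : x * x = 1) (hy : y * y = 1) (m : ℕ) :
    x * (x * y) ^ (2 * m) = ((x * y) ^ m)⁻¹ * x * ((x * y) ^ m)⁻¹⁻¹ ∧
      x * (x * y) ^ (2 * m + 1) = ((x * y) ^ m)⁻¹ * y * ((x * y) ^ m)⁻¹⁻¹ := by
  have e : x * (x * y) ^ m = ((x * y) ^ m)⁻¹ * x := by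
    rw [← inv_pow, ← H13Inv.conj_prod hx hy, conj_pow, inv_mul_cancel_right]
  rw [inv_inv, show 2 * m + 1 = m + (1 + m) by omega, two_mul, pow_add, pow_add, pow_add, ← mul_assoc, ← mul_assoc, e, pow_one]
  exact ⟨rfl, by simp only [mul_assoc, cancel_left hx]⟩

namespace Hy
variable (h : Hy D l)
include h

theorem sq (ha : a ∈ D) : a * a = 1 := by
  obtain ⟨j, k⟩ := h.lc ha
  rw [← k.jz, ← map_mul, show z * z = 1 by decide, map_one]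
theorem ne (ha : a ∈ D) : a ≠ 1 := by
  obtain ⟨j, k⟩ := h.lc ha
  rw [← k.jz, map_ne_one_iff j k.inj]; decide
theorem cji (g : G) : g * a * g⁻¹ ∈ D ↔ a ∈ D := ⟨fun e => by simpa [mul_assoc] using h.cj g⁻¹ e, h.cj g⟩
theorem cju {g : G} (c : Commute g u) (a : G) : (Commute (g * a * g⁻¹) u ↔ Commute a u) ∧ (g * a * g⁻¹ * u ∈ D ↔ a * u ∈ D) := by
  have e := (conj_eq_iff_commute g u).2 c
  exact ⟨by rw [← commute_conj_iff g a u, e], by rw [← h.cji g (a := a * u), ← conj_mul, e]⟩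

variable (hu : NI D u) (ha : a ∈ D) (au : Commute a u)
include hu ha au

theorem tr (hb : b ∈ D) (hc : c ∈ D) (bu : Commute b u) (cu : Commute c u) (ab : Commute a b) (ac : Commute a c) :
    Commute b c := by
  obtain ⟨j, k⟩ := h.lc ha
  obtain ⟨x, rfl⟩ := k.sur au
  obtain ⟨y, rfl⟩ := k.sur ab
  obtain ⟨w, rfl⟩ := k.sur ac
  exact k.cm.2 (h.fc.f2a x (k.ni.1 hu) y (k.mem.1 hb) (k.cm.1 bu) w (k.mem.1 hc) (k.cm.1 cu))

theorem ty1 : ∃ p ∈ D, Commute p u ∧ p * u ∈ D ∧ Commute a p := by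
  obtain ⟨j, k⟩ := h.lc ha
  obtain ⟨x, rfl⟩ := k.sur au
  obtain ⟨p, p1, p2, p3⟩ := h.fc.f2b x (k.ni.1 hu)
  exact ⟨_, k.mem.2 p1, k.cm.2 p2, k.mm.2 p3, k.cz p⟩

theorem ty1u (hb : b ∈ D) (bu : Commute b u) (a1 : a * u ∈ D) (b1 : b * u ∈ D) (ab : Commute a b) : b = a ∨ b = a * u := by
  obtain ⟨j, k⟩ := h.lc ha
  obtain ⟨x, rfl⟩ := k.sur au
  obtain ⟨y, rfl⟩ := k.sur ab
  rw [← k.jz] at a1 ⊢
  rw [← map_mul]
  exact (h.fc.f2c x (k.ni.1 hu) (k.mm.1 a1) y (k.mem.1 hb) (k.cm.1 bu) (k.mm.1 b1)).imp (congrArg j) (congrArg j)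

theorem ty2 : ∃ p q r, Ty D u a p ∧ Ty D u a q ∧ Ty D u a r ∧ p * q * r = u ∧ ∀ s, Ty D u a s → s = p ∨ s = q ∨ s = r := by
  obtain ⟨j, k⟩ := h.lc ha
  obtain ⟨x, rfl⟩ := k.sur au
  obtain ⟨p, p1, p2, q, q1, q2, r, r1, r2, e, f⟩ := h.fc.f2d x (k.ni.1 hu)
  refine ⟨_, _, _, k.ty.2 ⟨p1, p2⟩, k.ty.2 ⟨q1, q2⟩, k.ty.2 ⟨r1, r2⟩, by rw [← e, map_mul, map_mul], fun s hs => ?_⟩
  obtain ⟨y, rfl⟩ := k.sur hs.2.2.2
  exact (f y (k.ty.1 hs).1 (k.ty.1 hs).2).imp (congrArg j) (.imp (congrArg j) (congrArg j))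

theorem fixp (v2 : v * v = 1) (vu : Commute v u) (av : Commute a (v * a * v⁻¹)) :
    ∃ p ∈ D, Commute p u ∧ Commute a p ∧ Commute v p := by
  obtain ⟨p, q, r, hp, hq, hr, e, f⟩ := h.ty2 hu ha au
  have cl : ∀ {s}, Ty D u a s → Ty D u a (v * s * v⁻¹) := fun {s} t =>
    ⟨h.cj v t.1, (h.cju vu s).1.2 t.2.1, mt (h.cju vu s).2.1 t.2.2.1, h.tr hu (h.cj v ha) ((h.cju vu a).1.2 au) ha
      (h.cj v t.1) au ((h.cju vu s).1.2 t.2.1) av.symm ((commute_conj_iff _ _ _).2 t.2.2.2)⟩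
  have cm : ∀ {x y}, Ty D u a x → Ty D u a y → Commute x y := fun s t => h.tr hu ha au s.1 t.1 s.2.1 t.2.1 s.2.2.2 t.2.2.2
  have key : ∀ {x y w}, Ty D u a x → Ty D u a y → x * y * w = u → v * x * v⁻¹ = y → v * w * v⁻¹ = w :=
    fun {x y w} s t e1 e2 => by
      have e3 : v * y * v⁻¹ = x := by rw [← e2, inv_of_mul_self v2]; simp only [mul_assoc, v2, mul_one, cancel_left v2]
      have := (conj_eq_iff_commute v u).2 vu
      rwa [← e1, ← conj_mul, ← conj_mul, e2, e3, ← (cm s t).eq, mul_right_inj] at this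
  have fin : ∀ {s}, Ty D u a s → v * s * v⁻¹ = s → ∃ p ∈ D, Commute p u ∧ Commute a p ∧ Commute v p :=
    fun t e => ⟨_, t.1, t.2.1, t.2.2.2, (conj_eq_iff_commute _ _).1 e⟩
  rcases f _ (cl hp) with e1 | e1 | e1
  exacts [fin hp e1, fin hr (key hp hq e e1), fin hq (key hp hr (by rw [← e, mul_assoc, mul_assoc, (cm hq hr).eq]) e1)]

variable [Finite G]

theorem dih (a1 : a * u ∈ D) (hs : s ∈ D) (su : Commute s u) (s1 : s * u ∉ D) :
    ∃ p ∈ D, Commute p u ∧ p * u ∈ D ∧ Commute s p ∧ Commute a (s * p) := by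
  classical
  have a2 := h.sq ha
  have s2 := h.sq hs
  have ex : ∃ n, 0 < n ∧ ((a * s) ^ n = 1 ∨ (a * s) ^ n = u) := ⟨_, orderOf_pos _, .inl (pow_orderOf_eq_one _)⟩
  obtain ⟨n0, hn⟩ := Nat.find_spec ex
  have ru : ∀ m : ℕ, Commute ((a * s) ^ m)⁻¹ u := fun m => ((au.mul_left su).pow_left m).inv_left
  obtain ⟨k, e | e⟩ := Nat.even_or_odd' (Nat.find ex)
  swap
  · refine (s1 ((h.cju (ru k) s).2.1 ?_)).elim
    rw [← (dd a2 s2 k).2, ← e]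
    rcases hn with q | q <;> rw [q]
    exacts [by rwa [mul_one], by rwa [cancel_right hu.1]]
  have mn := Nat.find_min ex (m := k) (by omega)
  rw [e, two_mul, pow_add] at hn
  have w : a * (a * s) ^ k ∈ D ∧ Commute (a * (a * s) ^ k) u := ⟨by
    obtain ⟨m, rfl | rfl⟩ := Nat.even_or_odd' k
    exacts [(dd a2 s2 m).1 ▸ h.cj _ ha, (dd a2 s2 m).2 ▸ h.cj _ hs], au.mul_left (Commute.inv_left_iff.1 (ru k))⟩
  have i1 : a * (a * s) ^ k * a = ((a * s) ^ k)⁻¹ := by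
    rw [← inv_pow, ← H13Inv.conj_prod a2 s2, conj_pow, inv_of_mul_self a2]
  obtain ⟨p, hp, pu, p1, p2⟩ := h.fixp hu ha au (h.sq w.1) w.2 (by
    rw [show a * (a * s) ^ k * a * (a * (a * s) ^ k)⁻¹ = ((a * s) ^ k * (a * s) ^ k)⁻¹ * a by
      rw [i1, mul_inv_rev, inv_of_mul_self a2]; group]
    rcases hn with q | q <;> rw [q]
    exacts [by simp, au.inv_right.mul_right rfl])
  have c1 := h.tr hu hp pu ha w.1 au w.2 p1.symm p2.symm
  have c2 : Commute a ((a * s) ^ k) := by simpa [cancel_left a2] using (Commute.refl a).mul_right c1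
  obtain ⟨m, rfl | rfl⟩ := Nat.even_or_odd' k
  · refine (mn ⟨by omega, ?_⟩).elim
    simpa using h.ty1u hu ha au w.1 w.2 a1 ((dd a2 s2 m).1 ▸ (h.cju (ru m) a).2.2 a1) c1
  have i2 : (s * a) ^ (2 * m + 1) = ((a * s) ^ (2 * m + 1))⁻¹ := by
    rw [← inv_pow, mul_inv_rev, inv_of_mul_self a2, inv_of_mul_self s2]
  have ru' : Commute ((s * a) ^ m)⁻¹ u := ((su.mul_left au).pow_left m).inv_left
  have e' := (dd s2 a2 m).2
  have v2 : (a * s) ^ (2 * m + 1) * (a * s) ^ (2 * m + 1) = 1 := by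
    rw [c2.eq, cancel_right a2] at i1
    exact mul_eq_one_iff_eq_inv.2 i1
  refine ⟨_, e' ▸ h.cj _ ha, e' ▸ (h.cju ru' a).1.2 au, e' ▸ (h.cju ru' a).2.2 a1,
    commute_of_sq s2 (e' ▸ h.sq (h.cj _ ha)) ?_, ?_⟩ <;> rw [cancel_left s2, i2]
  exacts [by rw [pow_two, ← mul_inv_rev, v2, inv_one], c2.inv_right]

theorem kk (hb : b ∈ D) (bu : Commute b u) : Commute a b := by
  obtain ⟨x, hx, xu, x1, ax⟩ := h.ty1 hu ha au
  obtain ⟨y, hy, yu, y1, by'⟩ := h.ty1 hu hb bu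
  obtain ⟨p, q, r, hp, hq, hr, e, -⟩ := h.ty2 hu hy yu
  have k : ∀ {s}, Ty D u y s → Commute x (s * y) := fun {s} t => by
    obtain ⟨w, hw, wu, w1, sw, c⟩ := h.dih hu hx xu x1 t.1 t.2.1 t.2.2.1
    rcases h.ty1u hu hy yu hw wu y1 w1 (h.tr hu t.1 t.2.1 hy hw yu wu t.2.2.2.symm sw) with rfl | rfl
    exacts [c, by simpa [← mul_assoc] using c.mul_right xu.inv_right]
  have := xu.inv_right.mul_right (((k hp).mul_right (k hq)).mul_right (k hr))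
  rw [show p * y * (q * y) = p * q by rw [← hq.2.2.2.eq, mul_assoc, cancel_left (h.sq hy)], ← mul_assoc (p * q), e,
    inv_mul_cancel_left] at this
  exact h.tr hu hy yu ha hb au bu (h.tr hu hx xu hy ha yu au this ax.symm) by'.symm

omit hu au in
theorem cov (hd : d ∈ D) : ∃ p ∈ D, Commute p d ∧ Commute p a := by
  obtain ⟨j, k⟩ := h.lc ha
  obtain ⟨x, hx⟩ := h.fc.f3
  have hu := k.ni.2 hx
  have au := k.cz x
  have ev := H13Inv.even_of_not_isConj (h.sq hd) hu.1 fun c => hu.2.2 (let ⟨g, e⟩ := isConj_iff.1 c; e ▸ h.cj g hd)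
  have v1 := H13Inv.orderOf_pow_half ev
  have v2 := H13Inv.commute_pow_half_left (h.sq hd) hu.1 ev
  have v3 := H13Inv.commute_pow_half_right (h.sq hd) hu.1 ev
  generalize (d * j x) ^ (orderOf (d * j x) / 2) = v at *
  by_cases hv : v ∈ D
  · exact ⟨v, hv, v2, h.kk hu hv v3 ha au⟩
  obtain ⟨p, hp, -, p1, p2⟩ := h.fixp hu ha au (H13Inv.mul_self v1) v3 (h.kk hu ha au (h.cj v ha) ((h.cju v3 a).1.2 au))
  exact ⟨p, hp, h.kk ⟨H13Inv.mul_self v1, H13Inv.ne_one v1, hv⟩ hp p2.symm hd v2.symm, p1.symm⟩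

omit hu ha au

theorem fs : FS D := ⟨⟨fun d hd => orderOf_eq_two (h.sq hd) (h.ne hd), fun a ha b hb => by
  obtain ⟨p, hp, p1, p2⟩ := h.cov hb ha
  obtain ⟨j, k⟩ := h.lc hp
  obtain ⟨x, rfl⟩ := k.sur p1
  obtain ⟨y, rfl⟩ := k.sur p2
  simp only [← map_mul, pow_succ, pow_zero, one_mul, map_eq_one_iff j k.inj]
  exact h.fc.f1 x (k.mem.1 ha) y (k.mem.1 hb)⟩, fun _ hy => h.cj _ hy⟩

theorem third (ha : a ∈ D) (hb : b ∈ D) (c : Commute a b) : ∃ p ∈ D, p ≠ a ∧ p ≠ b ∧ Commute p a ∧ Commute p b := by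
  obtain ⟨j, k⟩ := h.lc ha
  obtain ⟨x, rfl⟩ := k.sur c
  obtain ⟨p, p1, p2, p3, p4⟩ := h.fc.f6 x (k.mem.1 hb)
  exact ⟨_, k.mem.2 p1, k.jz ▸ k.inj.ne p2, k.inj.ne p3, (k.cz p).symm, k.cm.2 p4⟩

theorem opp (hd : d ∈ D) (ha : a ∈ Dd D d) (hb : b ∈ Dd D d) (c : Commute a b) :
    ∃ w ∈ D, Commute d w ∧ ¬ Commute a w ∧ ¬ Commute b w := by
  obtain ⟨j, k⟩ := h.lc hd
  obtain ⟨x, rfl⟩ := k.sur ha.2.2
  obtain ⟨y, rfl⟩ := k.sur hb.2.2
  obtain ⟨w, w1, w2, w3⟩ := h.fc.f7 x (k.mem.1 ha.1) (k.nz ha.2.1) y (k.mem.1 hb.1) (k.nz hb.2.1) (k.cm.1 c)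
  exact ⟨_, k.mem.2 w1, k.cz w, mt k.cm.1 w2, mt k.cm.1 w3⟩

theorem lin (hd : d ∈ D) (hc : c ∈ Dd D d) (ha : a ∈ D) (hb : b ∈ D) (da : Commute d a) (db : Commute d b)
    (ca : Commute c a) (cb : Commute c b) : Commute a b := by
  obtain ⟨j, k⟩ := h.lc hd
  obtain ⟨x, rfl⟩ := k.sur da
  obtain ⟨y, rfl⟩ := k.sur db
  obtain ⟨w, rfl⟩ := k.sur hc.2.2
  exact k.cm.2 (h.fc.f8 w (k.mem.1 hc.1) (k.nz hc.2.1) x (k.mem.1 ha) (k.cm.1 ca) y (k.mem.1 hb) (k.cm.1 cb))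

theorem pr (hd : d ∈ D) : Pr D := by
  have fs := h.fs
  have o : ∀ {a b}, a ∈ D → b ∈ D → Commute a b → ∃ w ∈ D, ¬ Commute a w ∧ ¬ Commute b w := fun ha hb c =>
    let ⟨p, hp, p1, p2, p3, p4⟩ := h.third ha hb c
    let ⟨w, hw, _, w1⟩ := h.opp hp ⟨ha, p1.symm, p3⟩ ⟨hb, p2.symm, p4⟩ c
    ⟨w, hw, w1⟩
  have t : ∀ {a b}, a ∈ D → b ∈ D → ¬ Commute a b → ∃ g ∈ closure D, tw g a = b := fun ha hb n =>
    ⟨_, subset_closure (fs.cl ha hb), fs.t1 ha hb n⟩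
  refine ⟨fs, ⟨fun a ha b hb => ?_, fun a ha => let ⟨w, hw, n, _⟩ := o ha ha rfl; ⟨w, hw, n⟩⟩, fun v hv d hd r => ?_,
    fun v hv d hd w => ?_, fun P hP a ha b hb q => ?_, let ⟨p, hp, p1, _, p3, _⟩ := h.third hd hd rfl; ⟨p, hp, d, hd, p1, p3⟩⟩
  · by_cases c : Commute a b
    · obtain ⟨w, hw, n1, n2⟩ := o ha hb c
      obtain ⟨g, hg, rfl⟩ := t ha hw n1
      obtain ⟨g', hg', rfl⟩ := t hw hb (ncs n2)
      exact ⟨_, mul_mem hg' hg, tw_mul _ _ _⟩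
    · exact t ha hb c
  · by_contra n
    have q : v ∈ Dd D d := ⟨hv, n, ((r d hd).2 rfl).symm⟩
    obtain ⟨w, hw, w1, w2, -⟩ := h.opp hd q q rfl
    exact w2 ((r w hw).2 w1)
  · by_contra n
    obtain ⟨p, hp, p1, -, p3, -⟩ := h.third hv hv rfl
    obtain ⟨q, hq, q1, q2, q3, q4⟩ := h.third hv hp p3.symm
    exact w.nc hd n (h.lin hp ⟨hq, q2, q4.symm⟩ hv hd p3 (w.c hp p1 p3.symm).symm q3 (w.c hq q1 q3.symm).symm)
  · obtain ⟨p, hp, p1, p2⟩ := h.cov hb ha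
    exact hP p hp b hb p2 (hP a ha p hp p1.symm q)

theorem five (p q : G) (c : Cp D p q) : (Ln D p q).ncard = 5 := by
  obtain ⟨j, k⟩ := h.lc c.l
  obtain ⟨x, rfl⟩ := k.sur c.c
  rw [show Ln D p (j x) = j '' ↑(l.filter fun a => x * a = a * x).toFinset from Set.ext fun r => ⟨fun hr => by
      obtain ⟨y, rfl⟩ := k.sur (ln_c1 c.l c.c hr).symm
      exact ⟨y, by simpa using ⟨k.mem.1 hr.1, k.cm.1 (ln_c2 c.r c.c hr).symm⟩, rfl⟩, by
      rintro ⟨y, hy, rfl⟩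
      obtain ⟨y1, y2⟩ : y ∈ l ∧ x * y = y * x := by simpa using hy
      exact ⟨k.mem.2 y1, fun e he e1 e2 => h.lin c.l ⟨c.r, c.ne.symm, c.c⟩ (k.mem.2 y1) he (k.cz y) e1 (k.cm.2 y2) e2⟩⟩,
    Set.ncard_image_of_injective _ k.inj, Set.ncard_coe_finset, List.toFinset_card_of_nodup (h.fc.nd.filter _)]
  exact h.fc.f9 x (k.mem.1 c.r) (k.nz c.ne.symm)

theorem isU (hd : d ∈ D) : IsU (show Fintype.card SmallF.F4 = 2 ^ 2 from SmallF.card_F4) 4 D := by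
  obtain ⟨n, hn, u⟩ := (h.pr hd).u_of_five h.five (show Fintype.card SmallF.F4 = 2 ^ 2 from SmallF.card_F4)
  have e1 := IsU.card u
  have e2 := IsU.ad u hd
  obtain ⟨j, k⟩ := h.lc hd
  have e3 : D.ncard = (Ad D d).ncard + 13 := by
    rw [← h.fc.len, ← List.toFinset_card_of_nodup h.fc.nd, ← Set.ncard_coe_finset, ← Set.ncard_image_of_injective _ k.inj,
      ← Set.ncard_union_eq (Set.disjoint_left.2 (by rintro _ q ⟨y, -, rfl⟩; exact q.2 (k.cz y)))]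
    refine congrArg _ (Set.ext fun y => ⟨fun hy => (em _).symm.imp (fun n => ⟨hy, n⟩) fun c => ?_, ?_⟩)
    · obtain ⟨x, rfl⟩ := k.sur c
      exact ⟨x, by simpa using k.mem.1 hy, rfl⟩
    · rintro (q | ⟨x, hx, rfl⟩)
      exacts [q.1, k.mem.2 (by simpa using hx)]
  have e4 : us (n - 2) = 9 := by omega
  obtain rfl : n = 4 := by
    by_contra q
    obtain ⟨m, rfl⟩ : ∃ m, n = m + 5 := ⟨n - 5, by omega⟩
    obtain ⟨t, ht⟩ : ∃ t, 2 ^ m = t + 1 := ⟨2 ^ m - 1, by have := Nat.two_pow_pos m; omega⟩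
    simp only [us, show m + 5 - 2 = m + 3 from rfl, Nat.add_one_sub_one, pow_add, ht,
      show (t + 1) * 2 ^ 3 - 1 = 8 * t + 7 by omega, show (t + 1) * 2 ^ 2 - 1 = 4 * t + 3 by omega] at e4
    split_ifs at e4 <;> nlinarith
  exact u

end Hy
end CA.JPs
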