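import Cfsg.Agent.Lib.Spor.JPs2
import Cfsg.Agent.Lib.Spor.JPs3a
import Cfsg.Agent.Lib.Spor.JPs3b
import Cfsg.Agent.Lib.Spor.JPs3c
import Cfsg.Agent.Lib.Spor.JPs4
import Cfsg.Agent.Lib.Block.H13Zstar

/-! Fusion analysis and the characterisation of `PSp₄(3)` by the centralizer of a central involution. -/

set_option autoImplicit false
set_option linter.unusedVariables false
set_option linter.unusedSectionVars false
open Cfsg

namespace CA.JPs
open CA.Tr3Basic CA.Fis Subgroup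

variable {G : Type*} [Group G] {ι : X →* G} {n m : G} {x y : X} {i j : ℕ} {b c : M4}

structure Ct (ι : X →* G) : Prop where
  inj : Function.Injective ι
  sur : ∀ {y}, Commute (ι z) y → ∃ x, ι x = y

def Cl (ι : X →* G) : Set G := {d | IsConj (ι z) d}
def Em (ι : X →* G) (n : G) (x : X) (j : ℕ) : Prop := j < 16 ∧ n * ι x * n⁻¹ = ι (al j)
def B4 (ι : X →* G) (n : G) (b : M4) : Prop :=
  Em ι n (al 1) b.1 ∧ Em ι n (al 2) b.2.1 ∧ Em ι n (al 4) b.2.2.1 ∧ Em ι n (al 8) b.2.2.2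

theorem cl_cj (g : G) : g * n * g⁻¹ ∈ Cl ι ↔ n ∈ Cl ι :=
  ⟨fun h => h.trans (isConj_iff.2 ⟨g, rfl⟩).symm, fun h => h.trans (isConj_iff.2 ⟨g, rfl⟩)⟩
theorem cl_x (g : X) : ι (g * x * g⁻¹) ∈ Cl ι ↔ ι x ∈ Cl ι := by rw [map_mul, map_mul, map_inv, cl_cj]
theorem cl_z : ι z ∈ Cl ι := IsConj.refl _

theorem Em.mul (h : Em ι n x i) (h' : Em ι n y j) : Em ι n (x * y) (i ^^^ j) :=
  ⟨Nat.xor_lt_two_pow (n := 4) h.1 h'.1, by rw [map_mul, ← conj_mul, h.2, h'.2, ← map_mul, g1 _ h.1 _ h'.1]⟩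
theorem Em.bt {p q : ℕ} (h : Em ι n (al p) q) (i k : ℕ) : Em ι n (al (bt i k p)) (bt i k q) := by
  unfold JPs.bt
  split_ifs
  exacts [h, ⟨by decide, by rw [show al 0 = 1 by decide, map_one, mul_one, mul_inv_cancel]⟩]
theorem B4.all (h : B4 ι n b) (hi : i < 16) : Em ι n (al i) (ap b i) := by
  rw [g13 i hi]
  exact (((h.1.bt i 0).mul (h.2.1.bt i 1)).mul (h.2.2.1.bt i 2)).mul (h.2.2.2.bt i 3)
theorem B4.cp (h : B4 ι n c) (h' : B4 ι m b) : B4 ι (n * m) (cp c b) :=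
  have k : ∀ {x j}, Em ι m x j → Em ι (n * m) x (ap c j) := fun e =>
    ⟨(h.all e.1).1, by rw [← (h.all e.1).2, ← e.2]; group⟩
  ⟨k h'.1, k h'.2.1, k h'.2.2.1, k h'.2.2.2⟩
theorem B4.iv (h : B4 ι n b) (e : JPs.cp b (iv b) = (1, 2, 4, 8)) : B4 ι n⁻¹ (iv b) := by
  have k : ∀ {j}, ap b (fnd b j) = j → Em ι n⁻¹ (al j) (fnd b j) := fun {j} e =>
    have l : fnd b j < 16 := Nat.mod_lt _ (by decide)
    ⟨l, by have := (h.all l).2; rw [e] at this; rw [← this]; group⟩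
  simp only [JPs.cp, JPs.iv, Prod.mk.injEq] at e
  exact ⟨k e.1, k e.2.1, k e.2.2.1, k e.2.2.2⟩
theorem B4.ev (h : B4 ι n b) (e : JPs.cp b (JPs.iv b) = (1, 2, 4, 8)) (w : List ℕ) : ∃ m, B4 ι m (evw b w) := by
  have o : ∀ {j}, j < 16 → Em ι 1 (al j) j := fun l => ⟨l, by simp⟩
  have k : ∀ {g : X} {i j}, j < 16 ∧ g * al i * g⁻¹ = al j → Em ι (ι g) (al i) j := fun e =>
    ⟨e.1, by rw [← e.2, map_mul, map_mul, map_inv]⟩
  induction w with
  | nil => exact ⟨1, o (by decide), o (by decide), o (by decide), o (by decide)⟩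
  | cons a w ih =>
    obtain ⟨m, hm⟩ := ih
    rcases a with _ | _ | a
    exacts [⟨_, (h.iv e).cp hm⟩, ⟨_, h.cp hm⟩, let ⟨k1, k2, k3, k4⟩ := g14 (a % 12) (Nat.mod_lt _ (by decide))
      ⟨_, B4.cp ⟨k k1, k k2, k k3, k k4⟩ hm⟩]

namespace Ct
variable (k : Ct ι)
include k

theorem sg (h : B4 ι n b) : ¬ Sg b := fun ⟨i, hi, i0, e⟩ => i0 (g2 i hi 0 (by decide) (k.inj (by
  have := (h.all hi).2
  rw [e, show al 0 = 1 by decide, map_one, conj_eq_one_iff] at this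
  rw [this, show al 0 = 1 by decide, map_one])))

theorem ctrl (hi : i < 16) (h : ι (al i) ∈ Cl ι) : ∃ m, Em ι m (al i) 1 ∧ ∀ j < 16, ∃ q, Em ι m (al j) q := by
  obtain ⟨g, hg⟩ := isConj_iff.1 (IsConj.symm h)
  have cm : ∀ p < 16, ∀ q < 16, Commute (g * ι (al p) * g⁻¹) (g * ι (al q) * g⁻¹) := fun p hp q hq =>
    (commute_conj_iff _ _ _).2 (by rw [Commute, SemiconjBy, ← map_mul, ← map_mul, ← g1 p hp q hq, ← g1 q hq p hp, Nat.xor_comm])
  choose! φ hφ using fun p (hp : p < 16) => k.sur (hg ▸ cm i hi p hp)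
  have c1 : ∀ p < 16, ∀ q < 16, φ p * φ q = φ q * φ p := fun p hp q hq =>
    k.inj (by rw [map_mul, map_mul, hφ p hp, hφ q hq]; exact cm p hp q hq)
  have c2 : ∀ p < 16, φ p * φ p = 1 := fun p hp => k.inj (by
    rw [map_mul, hφ p hp, conj_mul, ← map_mul, ← g1 p hp p hp, Nat.xor_self, show al 0 = 1 by decide]; simp)
  have c3 : ∀ p < 16, ∀ q < 16, φ p = φ q → p = q := fun p hp q hq e =>
    g2 p hp q hq (k.inj (by simpa [hφ p hp, hφ q hq] using congrArg ι e))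
  have c0 : φ 0 = 1 := k.inj (by rw [hφ 0 (by decide), show al 0 = 1 by decide]; simp)
  by_cases q : ∀ p < 16, (φ p).s < 9
  · exfalso
    have : ∀ p < 16, p ≠ 0 → φ p = z := fun p hp p0 => by
      by_contra nz
      have := (Finset.card_le_card_of_injOn φ (s := Finset.range 16) (fun r hr => by
        have hr := Finset.mem_range.1 hr
        simpa using ⟨c2 r hr, q r hr, c1 r hr p hp⟩) fun r hr s hs => c3 r (by simpa using hr) s (by simpa using hs)).trans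
        (g8 (φ p) (c2 p hp) (fun e => p0 (c3 p hp 0 (by decide) (e.trans c0.symm))) nz (q p hp))
      simp at this
    exact absurd (c3 1 (by decide) 2 (by decide) ((this 1 (by decide) (by decide)).trans (this 2 (by decide) (by decide)).symm))
      (by decide)
  push Not at q
  obtain ⟨p, hp, q⟩ := q
  obtain ⟨h, e⟩ := g6 (φ p) (c2 p hp) q.not_gt
  refine ⟨ι h * g, ⟨by decide, ?_⟩, fun j hj => ?_⟩
  · rw [show ι h * g * ι (al i) * (ι h * g)⁻¹ = ι h * (g * ι (al i) * g⁻¹) * (ι h)⁻¹ by group, hg, ← map_mul, ← zc, map_mul,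
      mul_inv_cancel_right]
    rfl
  have cc := (commute_conj_iff h _ _).2 (c1 j hj p hp)
  obtain ⟨r, hr, e'⟩ := g7 (h * φ j * h⁻¹) (by rw [conj_mul, c2 j hj]; simp) (e.imp (fun e' => by rw [← e']; exact cc) fun e' => by rw [← e']; exact cc)
  exact ⟨r, hr, by rw [← e', map_mul, map_mul, map_inv, hφ j hj]; group⟩

theorem n2 : ι (al 2) ∉ Cl ι := fun h => by
  obtain ⟨m, h2, f⟩ := k.ctrl (by decide) h
  obtain ⟨a, ha⟩ := f 1 (by decide)
  obtain ⟨c, hc⟩ := f 4 (by decide)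
  obtain ⟨d, hd⟩ := f 8 (by decide)
  have B : B4 ι m (a, 1, c, d) := ⟨ha, h2, hc, hd⟩
  obtain ⟨e, w, -, e1, i, hi, e2⟩ := (chk1 a ha.1 c hc.1 d hd.1).resolve_left (k.sg B)
  obtain ⟨n, hn⟩ := B.ev e w
  obtain ⟨g, rfl⟩ := k.sur (y := n) ((conj_eq_iff_commute _ _).1 (by have := hn.1.2; rwa [e1] at this)).symm
  have l : i < 16 := (by decide : ∀ i ∈ [8, 10, 13, 14], i < 16) i hi
  have := hn.all l
  refine e2 ((g10 _ this.1).1 ?_)
  rw [← show g * al i * g⁻¹ = al _ from k.inj (by rw [← this.2, map_mul, map_mul, map_inv])]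
  exact g9 _ ((g10 i l).2 (List.mem_cons_of_mem _ hi)) g

theorem n89 (h8 : ι (al 8) ∈ Cl ι) : ι (al 9) ∉ Cl ι := fun h9 => by
  obtain ⟨m, h2, f⟩ := k.ctrl (by decide) h8
  obtain ⟨a, ha⟩ := f 1 (by decide)
  obtain ⟨b, hb⟩ := f 2 (by decide)
  obtain ⟨c, hc⟩ := f 4 (by decide)
  have B : B4 ι m (a, b, c, 1) := ⟨ha, hb, hc, h2⟩
  obtain ⟨i, hi, i2, e⟩ := (chk2 a ha.1 b hb.1 c hc.1).resolve_left (k.sg B)
  have := B.all (show i < 16 by omega)
  obtain ⟨g, hg⟩ := g11 i hi i2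
  refine k.n2 ((cl_x g).1 (hg ▸ (cl_cj m).1 (this.2 ▸ ?_)))
  rcases g12 _ this.1 e with q | q
  · rcases g4 _ q with q | ⟨g, q⟩ <;> rw [q]
    exacts [cl_z, (cl_x g).2 h8]
  · rcases g5 _ q with q | ⟨g, q⟩ <;> rw [q]
    exacts [cl_z, (cl_x g).2 h9]

theorem tri (h : ι x ∈ Cl ι) : x ∈ l1 ∨ x ∈ l2 := by
  obtain ⟨g, hg⟩ := isConj_iff.1 h
  rcases g3 x (k.inj (by rw [map_mul, ← hg, conj_mul, ← map_mul, show z * z = 1 by decide]; simp))
    (fun e => by rw [e, map_one, conj_eq_one_iff, map_eq_one_iff ι k.inj] at hg; exact absurd hg (by decide)) with q | q | ⟨g, rfl⟩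
  exacts [.inl q, .inr q, (k.n2 ((cl_x g).1 h)).elim]

theorem hy {l : List X} (fc : Fc l) (hm : ∀ x, ι x ∈ Cl ι ↔ x ∈ l) : Hy (Cl ι) l :=
  ⟨fc, fun g _ => (cl_cj g).2, fun {d} hd => by
    obtain ⟨g, rfl⟩ := isConj_iff.1 hd
    refine ⟨(MulAut.conj g).toMonoidHom.comp ι, (MulAut.conj g).injective.comp k.inj, rfl, fun {y} c => ?_,
      fun {x} => (cl_cj g).trans (hm x)⟩
    obtain ⟨y, rfl⟩ := (MulAut.conj g).surjective y
    obtain ⟨x, rfl⟩ := k.sur ((commute_conj_iff _ _ _).1 c)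
    exact ⟨x, rfl⟩⟩

variable [Finite G] (hG : ∀ H : Subgroup G, H.index ≠ 2)
include hG

theorem niso : ¬ IsIsolated (ι z) := fun h => by
  have t2 : ι z * ι z = 1 := by rw [← map_mul, show z * z = 1 by decide, map_one]
  have zs := H13Zstar.zstar t2 h
  have od : ∀ {y}, y ∈ pPrimeCore 2 G → Odd (orderOf y) := fun hy =>
    H13ZRed.odd_card_core.of_dvd_nat (orderOf_dvd_natCard _ hy)
  let π := QuotientGroup.mk' (pPrimeCore 2 G)
  have su : Function.Surjective (π.comp ι) := fun y => by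
    obtain ⟨g, rfl⟩ := QuotientGroup.mk'_surjective _ y
    have m := zs g
    rw [inv_of_mul_self t2] at m
    obtain ⟨e, he⟩ := H13Inv.exists_conj_of_odd (by rw [conj_mul, t2]; simp) t2 (od m)
    obtain ⟨x, hx⟩ := k.sur (y := (g * ι z * g⁻¹ * ι z) ^ e * g) ((conj_eq_iff_commute _ _).1 (by
      rw [mul_inv_rev]; simpa only [mul_assoc] using he)).symm
    exact ⟨x, by
      rw [MonoidHom.comp_apply, hx, map_mul, show π _ = 1 from (QuotientGroup.eq_one_iff _).2 (zpow_mem m e), one_mul]⟩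
  have le : (π.comp ι).ker ≤ sgn.ker := fun x hx => H13ZRed.eq_one_of_odd_of_sq (H13ZRed.odd_orderOf_map sgn
    (orderOf_injective ι k.inj x ▸ od ((QuotientGroup.eq_one_iff _).1 hx))) (Int.units_mul_self _)
  let χ := ((π.comp ι).liftOfRightInverse _ (Function.rightInverse_surjInv su) ⟨sgn, le⟩).comp π
  have e : ∀ x, χ (ι x) = sgn x := (π.comp ι).liftOfRightInverse_comp_apply _ (Function.rightInverse_surjInv su) ⟨sgn, le⟩
  refine hG χ.ker ?_
  rw [index_ker, MonoidHom.range_eq_top.2 fun u => ?_, card_top, Nat.card_eq_fintype_card]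
  · rfl
  rcases Int.units_eq_one_or u with rfl | rfl
  exacts [⟨1, map_one _⟩, ⟨_, (e (al 8)).trans (by decide)⟩]

theorem exH : ∃ l, Hy (Cl ι) l := by
  have a : ∀ {x}, x ∈ l1 → ι (al 8) ∉ Cl ι → ι x ∈ Cl ι → x = z := fun hx n h =>
    (g4 _ hx).resolve_right fun ⟨g, e⟩ => n ((cl_x g).1 (e ▸ h))
  have b : ∀ {x}, x ∈ l2 → ι (al 9) ∉ Cl ι → ι x ∈ Cl ι → x = z := fun hx n h =>
    (g5 _ hx).resolve_right fun ⟨g, e⟩ => n ((cl_x g).1 (e ▸ h))
  by_cases h8 : ι (al 8) ∈ Cl ι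
  · exact ⟨l1, k.hy fc1 fun x => ⟨fun h => (k.tri h).elim id fun q => b q (k.n89 h8) h ▸ fc1.sz,
      fun h => (g4 x h).elim (· ▸ cl_z) fun ⟨g, e⟩ => e ▸ (cl_x g).2 h8⟩⟩
  by_cases h9 : ι (al 9) ∈ Cl ι
  · exact ⟨l2, k.hy fc2 fun x => ⟨fun h => (k.tri h).elim (fun q => a q h8 h ▸ fc2.sz) id,
      fun h => (g5 x h).elim (· ▸ cl_z) fun ⟨g, e⟩ => e ▸ (cl_x g).2 h9⟩⟩
  refine (k.niso hG fun g c => ?_).elim
  obtain ⟨x, hx⟩ := k.sur c
  have h : ι x ∈ Cl ι := hx ▸ (cl_cj g).2 cl_z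
  rw [← hx, (k.tri h).elim (a · h8 h) (b · h9 h)]

theorem main : Nonempty (G ≃* PSU 4 SmallF.F4 2) := by
  obtain ⟨l, h⟩ := k.exH hG
  have u := h.isU cl_z
  have e1 := IsU.card u
  obtain ⟨τ, c⟩ := u
  obtain ⟨gn, φ, hφ⟩ := u_bridge _ le_rfl c
  obtain ⟨e, -⟩ := gn.quot hφ
  have e2 : Nat.card (centralizer {ι z}) = 576 := by
    rw [← cardX, Nat.card_congr (ι.ofInjective k.inj).toEquiv]
    refine congrArg (fun H : Subgroup G => Nat.card H) (le_antisymm (fun y hy => k.sur (mem_centralizer_singleton_iff.1 hy).symm) ?_)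
    rintro _ ⟨x, rfl⟩
    rw [mem_centralizer_singleton_iff, ← map_mul, ← zc, map_mul]
  have e3 : Nat.card G = 25920 := by
    rw [show Nat.card G = _ from (MulAction.stabilizer (ConjAct G) (ι z)).card_mul_index.symm, ← nat_card_centralizer_nat_card_stabilizer, e2,
      MulAction.index_stabilizer, show MulAction.orbit (ConjAct G) (ι z) = Cl ι from Set.ext fun y =>
        ConjAct.mem_orbit_conjAct.trans isConj_comm, show (Cl ι).ncard = 45 by
        rw [show us 4 = 135 by decide] at e1; omega]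
  have e4 := (center (closure (Cl ι))).card_mul_index
  rw [index_eq_card, Nat.card_congr e.toEquiv, We6.cardU _ SmallF.card_F4] at e4
  have e5 := (closure (Cl ι)).card_le_card_group
  have e6 : 0 < Nat.card (center (closure (Cl ι))) := Nat.card_pos
  have tp : closure (Cl ι) = ⊤ := eq_top_of_card_eq _ (by nlinarith)
  have e7 : center (closure (Cl ι)) = ⊥ := eq_bot_of_card_le _ (by nlinarith)
  obtain ⟨f, -⟩ := gn.equiv hφ ⟨tp, eq_bot_iff.2 fun x hx => congrArg Subtype.val (e7.le (x := ⟨x, tp.ge trivial⟩)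
    (mem_center_iff.2 fun y => Subtype.ext (mem_center_iff.1 hx y)))⟩
  exact ⟨f⟩

end Ct

theorem janko {G : Type*} [Group G] [Finite G] (hG : ∀ H : Subgroup G, H.index ≠ 2) {F : Type*} [Field F] [Fintype F]
    (hF : Fintype.card F = 3) (U : Sylow 2 (PSp 2 F)) {t₀ : PSp 2 F} (ht₀ : orderOf t₀ = 2)
    (hc : ∀ u ∈ (U : Subgroup (PSp 2 F)), u * t₀ = t₀ * u) {t : G} (ht : orderOf t = 2)
    (e : centralizer ({t} : Set G) ≃* centralizer ({t₀} : Set (PSp 2 F))) : Nonempty (G ≃* PSp 2 F) := by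
  obtain ⟨-, ⟨θ⟩⟩ := We6.isoU _ SmallF.card_F4
  obtain ⟨θ'⟩ := We6.isoS _ F SmallF.card_F4 hF
  haveI : Finite (PSp 2 F) := .of_equiv _ (θ.trans θ').toEquiv
  obtain ⟨ι, h1, rfl, h2⟩ := transport (θ.trans θ') U ht₀ hc ht e
  obtain ⟨f⟩ := Ct.main ⟨h1, h2 _⟩ hG
  exact ⟨f.trans θ'⟩

end CA.JPs
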