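/-
Centralizers in the stabilisers of vectors of the Leech lattice: linear certificates and the wrapper of the search.
-/
import Cfsg.Agent.Lib.Spor.LeechI
import Cfsg.Agent.Lib.Spor.CGOut

set_option autoImplicit false

namespace CA.LeechCen

open Cfsg CA.NatBits CA.OrbBfs CA.CGroup CA.CGConstr CA.CGParts CA.CGCert CA.CGDec CA.CGFus CA.CGOut CA.Leech CA.Golay
open MulAction
open scoped Pointwise

/-- `∑ a_i F p_i` -/
def lsum (F : ℕ → ℤ) (as : List ℤ) (l : List ℕ) : ℤ := (List.zipWith (fun a p => a * F p) as l).sum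

/-- the same sum for `F = f - c`, as a difference of natural numbers -/
noncomputable def linK (f : ℕ → ℕ) (c : ℕ) (k : ℕ → ℕ → Bool) (as : List ℤ) : List ℕ → ℕ → ℕ → Bool :=
  List.rec (motive := fun _ => List ℕ → ℕ → ℕ → Bool) (fun _ => k)
    (fun a _ ih l P Q => List.rec (motive := fun _ => Bool) (k P Q) (fun p l' _ =>
      force (Int.toNat a) fun u => force (Int.toNat (Int.neg a)) fun v => force (f p) fun d =>
        force (Nat.add P (Nat.add (Nat.mul u d) (Nat.mul v c))) fun P' =>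
          force (Nat.add Q (Nat.add (Nat.mul v d) (Nat.mul u c))) fun Q' => ih l' P' Q') l) as

theorem linK_spec {f : ℕ → ℕ} {c : ℕ} {k : ℕ → ℕ → Bool} {as : List ℤ} {l : List ℕ} {P Q : ℕ}
    (h : linK f c k as l P Q = true) :
    ∃ P' Q' : ℕ, k P' Q' = true ∧ (P' : ℤ) - Q' = P - Q + lsum (fun p => (f p : ℤ) - c) as l := by
  induction as generalizing l P Q with
  | nil => exact ⟨P, Q, h, by simp [lsum]⟩
  | cons a as ih =>
    cases l with
    | nil => exact ⟨P, Q, h, by simp [lsum]⟩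
    | cons p l =>
      obtain ⟨P', Q', h1, h2⟩ := ih (l := l) (P := P + (a.toNat * f p + (-a).toNat * c))
        (Q := Q + ((-a).toNat * f p + a.toNat * c)) h
      refine ⟨P', Q', h1, ?_⟩
      have h3 := Int.toNat_sub_toNat_neg a
      rw [h2, lsum, lsum, List.zipWith_cons_cons, List.sum_cons]
      push_cast
      linear_combination ((f p : ℤ) - c) * h3

theorem lin_spec {g : Co0} {ps : List (ℕ × ℕ)} (h : Prs cA g ps) (as : List ℤ) : ∃ s : LL,
    ∀ (φ : LL →+ ℤ) (F : ℕ → ℤ), (∀ c x, cA.S c x → F c = φ x) →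
      lsum F as (ps.map Prod.fst) = φ s ∧ lsum F as (ps.map Prod.snd) = φ (g • s) := by
  induction as generalizing ps with
  | nil => exact ⟨0, fun φ F _ => by simp [lsum, smul_zero']⟩
  | cons a as ih =>
    cases ps with
    | nil => exact ⟨0, fun φ F _ => by simp [lsum, smul_zero']⟩
    | cons q ps =>
      obtain ⟨x, h1, h2⟩ := h q List.mem_cons_self
      obtain ⟨s, hs⟩ := ih fun r hr => h r (List.mem_cons_of_mem _ hr)
      refine ⟨a • x + s, fun φ F hF => ?_⟩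
      obtain ⟨h3, h4⟩ := hs φ F hF
      rw [smul_add', smul_zsmul, map_add, map_add, map_zsmul, map_zsmul, ← h3, ← h4, ← hF _ _ h1, ← hF _ _ h2]
      simp [lsum]

/-- a coordinate -/
def crd (p : GolayPt) : LL →+ ℤ := AddMonoidHom.mk' (fun x => (x : V) p) fun _ _ => rfl

/-- the inner product with a vector -/
def ipv (v : V) : LL →+ ℤ := AddMonoidHom.mk' (fun x => dotInt v (x : V)) fun _ _ => dot_add_right _ _ _

theorem crd_eq (p : GolayPt) (c : ℕ) (x : LL) (h : cA.S c x) : (ap 8 (us c) (gix p) : ℤ) - (8 : ℕ) = crd p x := by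
  rw [cA_us h, pl, ap_plb (by norm_num) (bd_of h.2)]; simp [crd]

/-- `∑ a_i f_i = n w` -/
noncomputable def linEq (as : List ℤ) (l : List ℕ) (n w : ℕ) : Bool :=
  allLt 24 fun j => linK (fun c => ap 8 (us c) j) 8
    (fun P Q => Nat.beq (Nat.add P (Nat.mul n 8)) (Nat.add Q (Nat.mul n (ap 8 w j)))) as l 0 0

theorem linEq_spec {as : List ℤ} {l : List ℕ} {n w : ℕ} (h : linEq as l n w = true) (hw : ok w = true) {s : LL}
    (hs : ∀ (φ : LL →+ ℤ) (F : ℕ → ℤ), (∀ c x, cA.S c x → F c = φ x) → lsum F as l = φ s) : s = (n : ℤ) • vec w := by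
  refine Subtype.ext (funext fun p => ?_)
  obtain ⟨P, Q, h1, h2⟩ := linK_spec (allLt_iff.1 h (gix p) (gix_lt p))
  rw [hs (crd p) _ (crd_eq p)] at h2
  have h3 : P + n * 8 = Q + n * ap 8 w (gix p) := beq_iff.1 h1
  have h4 : (s : V) p = crd p s := rfl
  rw [AddSubgroup.coe_zsmul, ok_coe hw, h4, Pi.smul_apply, dec, smul_eq_mul]
  zify at h3
  push_cast at h2
  linear_combination h3 - h2

/-- the images violate a relation `∑ a_i f_i = n w`: data `(n, w, v, a)` -/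
noncomputable def exL (rs : List (ℕ × ℕ × ℕ × List ℤ)) (ps : List (ℕ × ℕ)) : Bool :=
  anyL rs fun r => (force (dv r.2.2.1) fun m => linK (dt m) 64
    (fun P Q => !(Nat.beq (Nat.mod P (Nat.mul 8 r.1)) (Nat.mod Q (Nat.mul 8 r.1)))) r.2.2.2 (ps.map Prod.snd) 0 0) &&
      (ok r.2.1 && (ok r.2.2.1 && linEq r.2.2.2 (ps.map Prod.fst) r.1 r.2.1))

theorem exL_spec (rs : List (ℕ × ℕ × ℕ × List ℤ)) (g : Co0) (ps : List (ℕ × ℕ)) (h : Prs cA g ps) :
    ¬ exL rs ps = true := by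
  rw [exL, anyL_iff]
  rintro ⟨⟨n, w, v, as⟩, -, h1⟩
  simp only [Bool.and_eq_true] at h1
  obtain ⟨h1, h2, h3, h4⟩ := h1
  obtain ⟨s, hs⟩ := lin_spec h as
  obtain rfl := linEq_spec h4 h2 fun φ F hF => (hs φ F hF).1
  rw [CA.Perm24.fe] at h1
  obtain ⟨P, Q, h5, h6⟩ := linK_spec h1
  rw [(hs (ipv (vec v)) (fun p => (dt (dv v) p : ℤ) - (64 : ℕ)) fun c x hx => (dot_vec h3 hx).symm).2, smul_zsmul,
    map_zsmul] at h6
  obtain ⟨k, hk⟩ := dvd_dot (vec v).2 (g • vec w : LL).2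
  have h7 : ipv (vec v) (g • vec w) = 8 * k := hk
  have h8 : P ≡ Q [MOD 8 * n] := (Nat.modEq_iff_dvd.2 ⟨-k, by
    rw [h7] at h6; push_cast at h6 ⊢; simp only [smul_eq_mul] at h6; linear_combination -h6⟩)
  have h9 : Nat.beq (P % (8 * n)) (Q % (8 * n)) = true := beq_iff.2 h8
  have h10 : (!Nat.beq (P % (8 * n)) (Q % (8 * n))) = true := h5
  rw [h9] at h10
  exact absurd h10 (by decide)

/-- the plain code of `8 e_j` -/
def cE8 (j : ℕ) : ℕ := Nat.add c8 (Nat.shiftLeft 8 (Nat.mul 8 j))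

theorem cE8_chk : allLt 24 (fun j => ok (cE8 j) && allLt 24 fun i =>
    Nat.beq (ap 8 (cE8 j) i) (cond (Nat.beq i j) 16 8)) = true := by decide +kernel

theorem cE8_spec (p : GolayPt) : ok (cE8 (gix p)) = true ∧ vec (cE8 (gix p)) = e8 p := by
  have h := allLt_iff.1 cE8_chk _ (gix_lt p)
  rw [Bool.and_eq_true, allLt_iff] at h
  refine ⟨h.1, Subtype.ext (funext fun q => ?_)⟩
  rw [ok_coe h.1, dec, beq_iff.1 (h.2 _ (gix_lt q)), e8_coe]
  by_cases e : q = p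
  · subst e; rw [beq_iff.2 rfl]; simp
  · rw [show Nat.beq (gix q) (gix p) = false from
      Bool.eq_false_iff.2 fun e' => e (Golay.gE.ix_inj (beq_iff.1 e'))]; simp [e]

/-- the images of the points under the words span the space -/
noncomputable def spanOK (lZ : List ℕ) (wz : List (List ℕ)) (p0 : ℕ) (pts : List ℕ) (fs : List (List ℕ))
    (rows : List (ℕ × List ℤ)) : Bool :=
  Nat.beq rows.length 24 && mapK (evalW cG.mul cG.inv cG.one lZ) wz fun zs =>
    mapK (fun w => cA.act (nth cG.one zs (nth 0 w 0)) (nth p0 pts (nth 0 w 1))) fs fun fl =>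
      allL ((List.range 24).zip rows) fun r => Nat.ble 1 r.2.1 && linEq r.2.2 fl r.2.1 (cE8 r.1)

theorem spanOK_spec {lZ : List ℕ} (hZ : cG.Ok lZ) {wz : List (List ℕ)} {p0 : ℕ} {pts : List ℕ} {fs : List (List ℕ)}
    {rows : List (ℕ × List ℤ)} (h : spanOK lZ wz p0 pts fs rows = true) {g : Co0} (hg : g ∈ Cz cG lZ)
    (hp : ∀ b ∈ p0 :: pts, ∃ x, cA.S b x ∧ g • x = x) : g = 1 := by
  rw [spanOK, Bool.and_eq_true, mapK_eq, mapK_eq, allL_iff, beq_iff] at h
  have hz := in_words (in_cent hZ hg) wz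
  generalize wz.map (evalW cG.mul cG.inv cG.one lZ) = zs at h hz
  generalize hfl : fs.map (fun w => cA.act (nth cG.one zs (nth 0 w 0)) (nth p0 pts (nth 0 w 1))) = fl at h
  have hP : Prs cA g (fl.map fun f => (f, f)) := by
    rw [← hfl, Prs, List.forall_mem_map, List.forall_mem_map]
    intro w _
    obtain ⟨x, hx, e⟩ := hp _ (List.mem_cons.2 (nth_mem p0 pts (nth 0 w 1)))
    obtain ⟨z, hz, hR⟩ : ∃ z ∈ Subgroup.centralizer {g}, cG.R (nth cG.one zs (nth 0 w 0)) z := by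
      rcases nth_mem cG.one zs (nth 0 w 0) with e | e
      · exact ⟨1, one_mem _, e.symm ▸ cG.R_one⟩
      · exact hz _ e
    refine ⟨_, cA.S_act hR hx, ?_⟩
    rw [← mul_smul, ← Subgroup.mem_centralizer_singleton_iff.1 hz, mul_smul, e]
    exact cA.S_act hR hx
  refine ext_e8 fun p => ?_
  have hlt := gix_lt p
  obtain ⟨r, hr⟩ : ∃ r, (gix p, r) ∈ (List.range 24).zip rows :=
    ⟨rows[gix p]'(h.1 ▸ hlt), List.mem_iff_getElem.2 ⟨gix p, by simp [h.1, hlt], by simp⟩⟩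
  have h1 := h.2 _ hr
  rw [Bool.and_eq_true, ble_iff] at h1
  obtain ⟨s, hs⟩ := lin_spec hP r.2
  simp only [List.map_map, Function.comp_def, List.map_id'] at hs
  have e1 := linEq_spec h1.2 (cE8_spec p).1 fun φ F hF => (hs φ F hF).1
  have e2 := linEq_spec h1.2 (cE8_spec p).1 fun φ F hF => (hs φ F hF).2
  rw [e1, smul_zsmul, (cE8_spec p).2] at e2
  rw [one_smul]
  exact smul_right_injective LL (by have := h1.1; simp only at this; omega : ((r.1 : ℕ) : ℤ) ≠ 0) e2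

/-- `mkM` without intermediate literals -/
noncomputable def mkM2 (f : ℕ → ℕ) : ℕ :=
  Nat.add (mkD 208 24 fun k => cf (f k))
    (Nat.shiftLeft (Nat.mod (Nat.add c64 (Nat.mul (nat_lit 8) (sumN 24 fun k => Nat.sub cM (cf (f k))))) cM)
      (nat_lit 4992))

theorem mkM2_eq (f : ℕ → ℕ) : mkM2 f = mkM f := by
  have h : sumN 24 (fun k => Nat.sub cM (cf (f k))) = sumN 24 fun k => Nat.sub cM (fl (mkD 208 24 fun k => cf (f k)) k) := by
    rw [sumN_eq, sumN_eq]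
    refine Finset.sum_congr rfl fun k hk => ?_
    have := fl_eq (C := fun k => cf (f k)) (fun k _ => cf_lt _) 0 (Finset.mem_range.1 hk)
    rw [zero_mul, add_zero] at this
    rw [this]
  exact (congrArg (fun s => Nat.add (mkD 208 24 fun k => cf (f k))
    (Nat.shiftLeft (Nat.mod (Nat.add c64 (Nat.mul (nat_lit 8) s)) cM) (nat_lit 4992))) h).trans (by
      rw [mkM, fin, CA.Perm24.fe])

/-- `dv` without intermediate literals -/
noncomputable def dv2 (p : ℕ) : ℕ := mkM2 fun k => Nat.add (ap 8 p (Nat.sub 23 k)) (Nat.sub c8 8)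

theorem dv2_eq (p : ℕ) : dv2 p = dv p := mkM2_eq _

/-- prepared inner product (the low bits avoid hash collisions) -/
noncomputable def pre (c : ℕ) : ℕ := Nat.add (Nat.shiftLeft (dv2 (us c)) (nat_lit 200)) c

/-- inner product with a prepared vector -/
def dt2 (m c : ℕ) : ℕ := dt (Nat.shiftRight m (nat_lit 200)) c

theorem dt2_pre {c : ℕ} {x : LL} (h : cA.S c x) (d : ℕ) : dt2 (pre c) d = dt (dv (us c)) d := by
  have h1 : Nat.shiftRight (pre c) (nat_lit 200) = (dv2 (us c) <<< 200 + c) >>> 200 := rfl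
  rw [dt2, h1, Nat.shiftRight_eq_div_pow, Nat.shiftLeft_eq, add_comm, Nat.add_mul_div_right _ _ (Nat.pow_pos two_pos),
    Nat.div_eq_of_lt (cA_lt c x h), zero_add, dv2_eq]

theorem ipInv (K : Subgroup Co0) : IpInv cA K pre dt2 := fun g _ c d c' d' x y h1 h2 h3 h4 => by
  have e1 := dt_eq h1.2 h2
  have e2 := dt_eq h3.2 h4
  rw [dot_smul, ← e1] at e2
  rw [dt2_pre h1, dt2_pre h3, cA_us h1, cA_us h3]
  exact_mod_cast e2

theorem R_inj {c d : ℕ} {x : Co0} (h : cG.R c x) (h' : cG.R d x) : c = d := Eq.trans h (Eq.symm h')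

theorem eqC0 : EqC cG Nat.beq := eqC_beq R_inj

/-- the centralizer of `lZ` in the stabiliser of the vectors `ps` is generated by `lC` -/
theorem cen_eq {ps lK lZ lC : List ℕ} (hK : cG.Ok lK) (eK : cG.gen lK = St (ps.map vec)) (hZ : cG.Ok lZ)
    (hC : cG.Ok lC) (c0 : ℕ) (wz : List (List ℕ)) (bs : List ℕ) (rs : List (ℕ × ℕ × ℕ × List ℤ)) (fs : List (List ℕ))
    (rows : List (ℕ × List ℤ)) (p0 : ℕ)
    (h1 : (ok c0 && (allL (p0 :: bs) ok && (fixOK ps lC && (anyL bs (Nat.beq p0) &&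
      spanOK lZ wz (sc p0) ((ps ++ bs).map sc) fs rows)))) = true)
    (h2 : cenOK cA.act cG.mul cG.inv cG.one pre dt2 lK (sc c0) lZ wz lC (ps.map sc) (bs.map sc) (exL rs) = true) :
    cG.gen lC = St (ps.map vec) ⊓ Cz cG lZ := by
  simp only [Bool.and_eq_true] at h1
  obtain ⟨h3, h4, h5, h6, h7⟩ := h1
  have hps : ∀ p ∈ ps, ok p = true := fun p hp => by
    have := allL_iff.1 h5 p hp
    rw [Bool.and_eq_true] at this
    exact this.1
  refine cenOK_spec R_inj (ipInv _) hK eK (ok_S h3) hZ (in_St hC h5) (List.forall_mem_map.2 fun p hp =>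
    ⟨vec p, ok_S (hps p hp), fun g hg => mem_St.1 hg _ (List.mem_map_of_mem hp)⟩) (fun g hg hb => ?_)
    (fun g _ ps => exL_spec rs g ps) h2
  have hbs : ∀ b ∈ bs, ∃ x, cA.S (sc b) x ∧ g • x = x := fun b h =>
    have h8 := ok_S (allL_iff.1 h4 b (List.mem_cons_of_mem _ h))
    ⟨_, h8, hb _ (List.mem_map_of_mem h) _ h8⟩
  refine spanOK_spec hZ h7 hg.2 (List.forall_mem_cons.2 ⟨?_, List.forall_mem_map.2 fun b h => ?_⟩)
  · obtain ⟨b, h8, h9⟩ := anyL_iff.1 h6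
    exact beq_iff.1 h9 ▸ hbs b h8
  · rcases List.mem_append.1 h with h | h
    · exact ⟨vec b, ok_S (hps b h), mem_St.1 hg.1 _ (List.mem_map_of_mem h)⟩
    · exact hbs b h

open Classical in
/-- the element with a given code -/
noncomputable def el (c : ℕ) : Co0 := if h : ∃ g, cG.R c g then h.choose else 1

theorem el_R {l : List ℕ} (h : cG.Ok l) {c : ℕ} (hc : c ∈ l) : cG.R c (el c) := by
  rw [el, dif_pos (h c hc)]; exact (h c hc).choose_spec

theorem el_mem {l : List ℕ} {K : Subgroup Co0} (h : cG.In l K) {c : ℕ} (hc : c ∈ l) : el c ∈ K := by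
  obtain ⟨g, hg, hR⟩ := h c hc
  rwa [cG.R_fun (el_R h.ok hc) hR]

theorem orderOf_R {a p : ℕ} {g : Co0} (h : cG.R a g) (hp : p.Prime)
    (h' : (Nat.beq (powC cG.mul cG.one a p) cG.one && !(Nat.beq a cG.one)) = true) : orderOf g = p := by
  rw [Bool.and_eq_true, eqC0 (R_powC h p) cG.R_one, Bool.not_eq_true', ← Bool.not_eq_true, eqC0 h cG.R_one] at h'
  have := Fact.mk hp
  exact orderOf_eq_prime h'.1 h'.2

theorem conj_pow_R {a b n : ℕ} {g y : Co0} (h : cG.R a g) (h' : cG.R b y)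
    (e : cjE cG.mul Nat.beq a b (powC cG.mul cG.one b n) = true) : g * y * g⁻¹ ∈ Subgroup.zpowers y := by
  rw [(cjE_iff eqC0 h h' (R_powC h' n)).1 e]
  exact pow_mem (Subgroup.mem_zpowers y) n

/-- automorphisms of a stabiliser `K` generated by `x`, `y`, `t` -/
theorem aut_St {K : Subgroup Co0} {cx cy ct : ℕ} (hl : cG.In [cx, cy, ct] K) (eK : cG.gen [cx, cy, ct] = K) {N : ℕ}
    (hN : Nat.card K = N) {p : ℕ} (hp : p.Prime) (h2 : ¬ p ^ 2 ∣ N) (hCx : cG.gen [cx] = K ⊓ Cz cG [cx]) {lC : List ℕ}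
    (hlC : cG.Ok lC) (hCy : cG.gen lC = K ⊓ Cz cG [cy]) (m n : ℕ) {lL : List ℕ} (ws : List (List ℕ)) {L : Set Co0}
    (hL : ∀ w ∈ ws, ∃ g ∈ L, cG.R (evalW cG.mul cG.inv cG.one lL w) g) (r1 r2 : List (List ℕ × ℕ))
    (h : ((Nat.beq (powC cG.mul cG.one cx p) cG.one && !(Nat.beq cx cG.one)) &&
      (cjE cG.mul Nat.beq cy cx (powC cG.mul cG.one cx m) && (!(cjE cG.mul Nat.beq cy cx cx) &&
      (cjE cG.mul Nat.beq ct cy (powC cG.mul cG.one cy n) &&
      orb cG.mul lC cG.one fun t _ => mapK (evalW cG.mul cG.inv cG.one lL) ws fun gs =>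
        autChk cG.mul cG.inv cG.one Nat.beq cx cy ct (p - 1) r1 r2 gs t.keys)))) = true) (φ : MulAut K) :
    ∃ k ∈ K, ∃ g ∈ L, ∀ a : K, (φ a : Co0) = k * (g * a * g⁻¹) * k⁻¹ := by
  simp only [Bool.and_eq_true] at h
  obtain ⟨h1, h3, h4, h5, h6⟩ := h
  have hx := el_R hl.ok (c := cx) (by simp)
  have hy := el_R hl.ok (c := cy) (by simp)
  have ht := el_R hl.ok (c := ct) (by simp)
  let x : K := ⟨el cx, el_mem hl (by simp)⟩
  let y : K := ⟨el cy, el_mem hl (by simp)⟩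
  let t : K := ⟨el ct, el_mem hl (by simp)⟩
  have hz : ∀ {a b : K}, (a : Co0) ∈ Subgroup.zpowers (b : Co0) → a ∈ Subgroup.zpowers b := fun ⟨n, h⟩ =>
    ⟨n, Subtype.ext h⟩
  obtain ⟨l, h6, -, h7⟩ := enum_spec R_inj hlC (k := fun l _ => mapK (evalW cG.mul cG.inv cG.one lL) ws fun gs =>
    autChk cG.mul cG.inv cG.one Nat.beq cx cy ct (p - 1) r1 r2 gs l) h6
  rw [mapK_eq] at h6
  refine autChk_spec eqC0 (x := x) (y := y) (t := t) hx hy ht eK hp
    (by rw [← Subgroup.orderOf_coe]; exact orderOf_R hx hp (Bool.and_eq_true _ _ ▸ h1)) (hN ▸ h2)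
    (hz (conj_pow_R hy hx h3)) (fun e => ?_) (fun c hc => hz ?_) (hz (conj_pow_R ht hy h5)) (fun c hc => h7 _ ?_)
    (List.forall_mem_map.2 hL) h6 φ
  · rw [Bool.not_eq_true', ← Bool.not_eq_true, cjE_iff eqC0 hy hx hx, mul_inv_eq_iff_eq_mul] at h4
    exact h4 (congrArg Subtype.val e)
  · rw [← gen_one hx, hCx]
    exact ⟨c.2, (mem_Cz1 hx).2 (congrArg Subtype.val hc)⟩
  · rw [hCy]
    exact ⟨c.2, (mem_Cz1 hy).2 (congrArg Subtype.val hc)⟩

theorem out_one {K : Subgroup Co0}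
    (h : ∀ φ : MulAut K, ∃ k ∈ K, ∃ g ∈ (K : Set Co0), ∀ a : K, (φ a : Co0) = k * (g * a * g⁻¹) * k⁻¹) {Γ : Type*}
    [Group Γ] (e : K ≃* Γ) : Nat.card (Out Γ) = 1 :=
  card_out_one e fun φ => by
    obtain ⟨k, hk, g, hg, h⟩ := h φ
    exact ⟨⟨k * g, mul_mem hk hg⟩, fun a => Subtype.ext (by rw [h]; simp [mul_assoc])⟩

theorem out_two {K : Subgroup Co0} {cx cy ct cs : ℕ} (hl : cG.In [cx, cy, ct] K) (eK : cG.gen [cx, cy, ct] = K)
    (hs : cG.Ok [cs]) (hn : cG.In (cG.mul cs cs :: [cx, cy, ct].map fun a => cG.mul (cG.mul cs a) (cG.inv cs)) K)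
    {lC : List ℕ}
    (hlC : cG.Ok lC) (hCy : cG.gen lC = K ⊓ Cz cG [cy])
    (h : ∀ φ : MulAut K, ∃ k ∈ K, ∃ g ∈ (cG.gen [cx, cy, ct, cs] : Set Co0),
      ∀ a : K, (φ a : Co0) = k * (g * a * g⁻¹) * k⁻¹)
    (h' : (cjE cG.mul Nat.beq cs cy cy && force (cG.inv cs) fun i => orb cG.mul lC cG.one fun t _ => allL t.keys fun c =>
      force (cG.mul i c) fun d => !(cjE cG.mul Nat.beq d cx cx && cjE cG.mul Nat.beq d ct ct)) = true)
    {Γ : Type*} [Group Γ] (e : K ≃* Γ) : Nat.card (Out Γ) = 2 := by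
  have hx := el_R hl.ok (c := cx) (by simp)
  have hy := el_R hl.ok (c := cy) (by simp)
  have ht := el_R hl.ok (c := ct) (by simp)
  have hτ := el_R hs (c := cs) (by simp)
  have hN : el cs ∈ Subgroup.normalizer (K : Set Co0) := Subgroup.mem_normalizer_fintype fun a ha => by
    rw [SetLike.mem_coe, ← eK] at ha
    refine CG.gen_induction (p := fun a => el cs * a * (el cs)⁻¹ ∈ K) (by simp [one_mem]) (fun c hc u v hu ih => ?_) ha
    obtain ⟨g, hg, hR⟩ := hn _ (List.mem_cons_of_mem _ (List.mem_map_of_mem hc))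
    rw [cG.R_fun hR (cG.R_mul (cG.R_mul hτ hu) (cG.R_inv hτ))] at hg
    simpa [mul_assoc] using mul_mem hg ih
  have h2 : el cs * el cs ∈ K := by
    obtain ⟨g, hg, hR⟩ := hn _ List.mem_cons_self
    rwa [cG.R_fun hR (cG.R_mul hτ hτ)] at hg
  have hL : ∀ g ∈ cG.gen [cx, cy, ct, cs], g ∈ K ∨ g * (el cs)⁻¹ ∈ K := fun g hg => by
    refine CG.gen_induction (p := fun g => g ∈ K ∨ g * (el cs)⁻¹ ∈ K) (Or.inl (one_mem _)) (fun c hc u v hu ih => ?_) hg
    by_cases h3 : c ∈ [cx, cy, ct]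
    · obtain ⟨g, hg, hR⟩ := hl c h3
      obtain rfl := cG.R_fun hR hu
      exact ih.imp (mul_mem hg) fun h => by rw [mul_assoc]; exact mul_mem hg h
    · obtain rfl : c = cs := by simp only [List.mem_cons, List.not_mem_nil] at hc h3; tauto
      obtain rfl := cG.R_fun hτ hu
      refine (ih.imp (Subgroup.mem_normalizer_iff.1 hN v).1 fun h => ?_).symm
      simpa [mul_assoc] using mul_mem ((Subgroup.mem_normalizer_iff.1 hN _).1 h) h2
  refine card_out_two e (K.normalizerMonoidHom ⟨_, hN⟩) (fun φ => ?_) ?_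
  · obtain ⟨k, hk, g, hg, h⟩ := h φ
    rcases hL g hg with hg | hg
    · exact ⟨⟨k * g, mul_mem hk hg⟩, Or.inl fun a => Subtype.ext (by rw [h]; simp [mul_assoc])⟩
    · refine ⟨⟨k * (g * (el cs)⁻¹), mul_mem hk hg⟩, Or.inr fun a => Subtype.ext ?_⟩
      rw [h]
      show _ = k * (g * (el cs)⁻¹) * (el cs * a * (el cs)⁻¹) * (k * (g * (el cs)⁻¹))⁻¹
      group
  · rintro ⟨k, hk⟩
    have hk : ∀ a ∈ K, el cs * a * (el cs)⁻¹ = k * a * (k : Co0)⁻¹ := fun a ha => congrArg Subtype.val (hk ⟨a, ha⟩)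
    rw [Bool.and_eq_true, force_eq, cjE_iff eqC0 hτ hy hy] at h'
    obtain ⟨l, h1, -, h2⟩ := enum_spec R_inj hlC (k := fun l _ => allL l fun c =>
      force (cG.mul (cG.inv cs) c) fun d => !(cjE cG.mul Nat.beq d cx cx && cjE cG.mul Nat.beq d ct ct)) h'.2
    obtain ⟨c, hc, hR⟩ := h2 k (by
      rw [hCy]
      refine ⟨k.2, (mem_Cz1 hy).2 ?_⟩
      rw [← mul_inv_eq_iff_eq_mul, ← hk _ (el_mem hl (by simp)), h'.1])
    have h3 := allL_iff.1 h1 c hc
    have h4 := cG.R_mul (cG.R_inv hτ) hR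
    have h5 : ∀ a ∈ K, (el cs)⁻¹ * k * a * ((el cs)⁻¹ * k)⁻¹ = a := fun a ha => by
      calc _ = (el cs)⁻¹ * (k * a * (k : Co0)⁻¹) * el cs := by group
        _ = a := by rw [← hk a ha]; group
    rw [force_eq, (cjE_iff eqC0 h4 hx hx).2 (h5 _ (el_mem hl (by simp))),
      (cjE_iff eqC0 h4 ht ht).2 (h5 _ (el_mem hl (by simp)))] at h3
    exact absurd h3 (by decide)

theorem words_L {K : Subgroup Co0} {l : List ℕ} (hl : cG.In l K) (ws : List (List ℕ)) :
    ∀ w ∈ ws, ∃ g ∈ (K : Set Co0), cG.R (evalW cG.mul cG.inv cG.one l w) g := fun w _ => evalW_mem hl w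

theorem norm_cent {Γ : Type*} [Group Γ] [Finite Γ] {y t n : Γ} {p m : ℕ} (hp : p.Prime) (hy : orderOf y = p)
    (ht : t * y * t⁻¹ = y ^ m) (hm : ∀ j < p, j = 0 ∨ ∃ e < p, m ^ e % p = j) (hn : n * y * n⁻¹ ∈ Subgroup.zpowers y) :
    ∃ e : ℕ, (t ^ e)⁻¹ * n * y = y * ((t ^ e)⁻¹ * n) := by
  have h1 : y ≠ 1 := by rintro rfl; exact hp.one_lt.ne (by simpa using hy)
  obtain ⟨j, h2, h3, h4⟩ := exists_pow_of_mem hy hn (by simpa using h1)
  obtain ⟨e, -, h5⟩ := (hm j (by have := hp.pos; omega)).resolve_left (by omega)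
  have h6 : ∀ e : ℕ, t ^ e * y * (t ^ e)⁻¹ = y ^ m ^ e := fun e => by
    induction e with
    | zero => simp
    | succ e ih =>
      calc _ = t ^ e * (t * y * t⁻¹) * (t ^ e)⁻¹ := by rw [pow_succ]; group
        _ = _ := by rw [ht, ← conj_pow, ih, ← pow_mul, pow_succ]
  refine ⟨e, ?_⟩
  have h7 : t ^ e * y * (t ^ e)⁻¹ = n * y * n⁻¹ := by rw [h6, h4, ← h5, ← hy, pow_mod_orderOf]
  calc _ = (t ^ e)⁻¹ * (n * y * n⁻¹) * n := by group
    _ = _ := by rw [← h7]; group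

/-! ### Codes for `Co1` -/

/-- codes for `Co1` -/
noncomputable def qG : CG Spor.Co1 where
  R a g := ∃ h, cG.R a h ∧ (h : Spor.Co1) = g
  mul := cG.mul
  inv := cG.inv
  one := cG.one
  isOne := cG.isOne
  R_mul := by rintro _ _ _ _ ⟨g, h, rfl⟩ ⟨g', h', rfl⟩; exact ⟨_, cG.R_mul h h', rfl⟩
  R_inv := by rintro _ _ ⟨g, h, rfl⟩; exact ⟨_, cG.R_inv h, rfl⟩
  R_one := ⟨1, cG.R_one, rfl⟩
  R_fun := by rintro _ _ _ ⟨g, h, rfl⟩ ⟨g', h', rfl⟩; rw [cG.R_fun h h']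
  R_isOne := by rintro _ _ ⟨g, h, rfl⟩ h'; rw [cG.R_isOne h h']; rfl

theorem mk_eq {g h : Co0} : (g : Spor.Co1) = h ↔ g = h ∨ g = ng * h := by
  rw [eq_comm, QuotientGroup.eq, mem_center, inv_mul_eq_one, eq_comm, inv_mul_eq_iff_eq_mul, ng_comm]

theorem mk_ng (h : Co0) : ((ng * h : Co0) : Spor.Co1) = h := mk_eq.2 (Or.inr rfl)

/-- equality up to sign -/
noncomputable def eqQ (a b : ℕ) : Bool := force a fun a => force b fun b => Nat.beq a b || Nat.beq a (cG.mul cNg b)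

theorem eqC1 : EqC qG eqQ := by
  rintro a b _ _ ⟨g, h, rfl⟩ ⟨g', h', rfl⟩
  rw [eqQ, CA.Perm24.fe, CA.Perm24.fe, Bool.or_eq_true, eqC0 h h', eqC0 h (cG.R_mul R_ng h'), mk_eq]

theorem q_comm {x : Co0} {n : ℕ} (hx : x ^ n = 1) (hn : Odd n) {c : Co0}
    (h : (c : Spor.Co1) * x = x * c) : c * x = x * c := by
  refine (mk_eq.1 h).resolve_right fun e => ng_ne ?_
  have h1 : c * x * c⁻¹ = ng * x := by rw [show c * x = ng * (x * c) from e]; group
  have h2 := congrArg (· ^ n) h1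
  obtain ⟨k, rfl⟩ := hn
  simp only [conj_pow, hx, mul_one, mul_inv_cancel] at h2
  rw [Commute.mul_pow (ng_comm x).symm, hx, mul_one, pow_succ, pow_mul, pow_two, ng_sq, one_pow, one_mul] at h2
  exact h2.symm

theorem q_gen {l : List ℕ} (hl : cG.Ok l) (h : St [vU] ≤ cG.gen l) {c : ℕ} (hc : c ∈ l)
    (h' : (!(Nat.beq (cA.act c (sc cU)) (sc cU)) && !(Nat.beq (cA.act c (sc cU)) (cA.act cNg (sc cU)))) = true) :
    qG.gen l = ⊤ := by
  have h1 : cG.gen l ≤ (qG.gen l).comap (QuotientGroup.mk' _) :=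
    (CG.In.of_forall hl fun c hc g hg => CG.mem_gen (G := qG) hc ⟨g, hg, rfl⟩).gen_le
  have h2 : pmU ≤ (qG.gen l).comap (QuotientGroup.mk' _) := fun g hg => by
    rcases mem_pmU.1 hg with e | e
    · exact h1 (h (mem_St1.2 e))
    · have := h1 (h (mem_St1.2 (show (ng * g) • vU = vU by rw [mul_smul, e, ng_smul, neg_neg])))
      rwa [Subgroup.mem_comap, QuotientGroup.mk'_apply, mk_ng] at this
  have h3 := coatom_pmU.2 _ (lt_of_le_of_ne h2 fun e => by
    have h4 : el c ∈ pmU := e ▸ h1 (CG.mem_gen hc (el_R hl hc))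
    have h5 := cA.S_act (el_R hl hc) (ok_S okU)
    have h6 := cA.S_act R_ng (ok_S okU)
    rw [ng_smul] at h6
    rcases mem_pmU.1 h4 with e | e
    · rw [show el c • vec cU = vec cU from e] at h5
      rw [beq_iff.2 (cA.S_inj h5 (ok_S okU))] at h'
      exact absurd h' (by simp)
    · rw [show el c • vec cU = -vec cU from e] at h5
      rw [beq_iff.2 (cA.S_inj h5 h6)] at h'
      exact absurd h' (by simp))
  rw [eq_top_iff]
  intro g _
  obtain ⟨g, rfl⟩ := QuotientGroup.mk_surjective g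
  exact (h3 ▸ Subgroup.mem_top g : g ∈ (qG.gen l).comap (QuotientGroup.mk' _))

end CA.LeechCen
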