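import Cfsg.Agent.Lib.Spor.Ly111D

set_option autoImplicit false
set_option linter.all false
set_option maxRecDepth 100000
set_option Elab.async false

namespace CA.Ly111

open CA.CNet CA.CWord CA.CMat CA.PkM CA.PkW

theorem h10 : lall l10 (chk 5 111 F 10 σ) = true := by decide +kernel
theorem h4 : lall l4 (chk 5 111 F 10 σ) = true := by decide +kernel
theorem h7 : lall l7 (chk 5 111 F 10 σ) = true := by decide +kernel
theorem h5 : lall l5 (chk 5 111 F 10 σ) = true := by decide +kernel

end CA.Ly111
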