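import Cfsg.Agent.Lib.Spor.Ly111D

set_option autoImplicit false
set_option linter.all false
set_option maxRecDepth 100000
set_option Elab.async false

namespace CA.Ly111

open CA.CNet CA.CWord CA.CMat CA.PkM CA.PkW

theorem h11 : lall l11 (chk 5 111 F 10 σ) = true := by decide +kernel
theorem h3 : lall l3 (chk 5 111 F 10 σ) = true := by decide +kernel
theorem h13 : lall l13 (chk 5 111 F 10 σ) = true := by decide +kernel
theorem h9 : lall l9 (chk 5 111 F 10 σ) = true := by decide +kernel

end CA.Ly111
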