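import Cfsg.Agent.Lib.Spor.Ly111a
import Cfsg.Agent.Lib.Spor.Ly111b
import Cfsg.Agent.Lib.Spor.Ly111c
import Cfsg.Agent.Lib.Spor.Ly111d

/-! The presented Lyons group has a representation of degree 111 that is not trivial on `a`. -/

set_option autoImplicit false
set_option linter.all false
set_option maxRecDepth 100000
set_option Elab.async false

namespace CA.Ly111

open CA.CNet CA.CWord CA.CMat CA.PkM CA.PkW

theorem eqr : LyRel.rels = l0 ++ (l1 ++ (l2 ++ (l3 ++ (l4 ++ (l5 ++ (l6 ++ (l7 ++ (l8 ++ (l9 ++ (l10 ++ (l11 ++ (l12 ++ (l13))))))))))))) := by decide +kernel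
theorem rels : lall LyRel.rels (chk 5 111 F 10 σ) = true := by
  rw [eqr]; exact lall_append h0 (lall_append h1 (lall_append h2 (lall_append h3 (lall_append h4 (lall_append h5 (lall_append h6 (lall_append h7 (lall_append h8 (lall_append h9 (lall_append h10 (lall_append h11 (lall_append h12 (h13)))))))))))))
theorem main : ∃ g : ℕ → GL (Fin 111) (ZMod 5), (∀ r ∈ LyRel.rels, ev g r = 1) ∧ g 0 ≠ 1 := by
  obtain ⟨g, h1, h2⟩ := exists_gl (p := 5) (n := 111) (by decide) (by decide) hF hI
  refine ⟨_, fun r hr => h2 σ r (lall_iff.1 rels r hr), fun h => ne ?_⟩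
  rw [← h1 0 (by decide), ← ev_gen g 0]
  exact congrArg Units.val h

end CA.Ly111
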