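import Cfsg.Agent.Lib.Spor.LyO
import Cfsg.Agent.Lib.Comp.CBack

/-! The centraliser of an element of order three of `G₂(5)`: certificates. -/

set_option autoImplicit false
set_option maxRecDepth 100000
set_option linter.all false

namespace CA.LyC
open Equiv CA.CNet CA.CWord CA.CLevel CA.CSimple CA.CPoint CA.CLow CA.TCos CA.LyM CA.LyO CA.CBack

theorem grpH (ws : List Word) : C.grp ws ≤ H := (grp_le_iff _).2 fun w _ => mem w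
def aw : Word := [0,2,1,3]
def sv : List Word := [[3,1,5,0,4,1,2,0,0], [2,2,2], [4,2,2], [6,2,2]]
def bw : List Word := [[0,0], [0,2,1,3], [4,2,1,3,4,0,5], [4,0,2,1,3,1,5,1,5]]
def b1 : List Word := [[3,3], [3,4], [1,4,1,3,0], [1,3,4,2,0,2,0]]
def ys : List Word := [[5,7,5,3,0,5,0,4,7,4,3], [1,5,6,5,0,7,5,5,7,4,4]]
def bv : List Word := [[0,0,2,2,0,0,3,1,3,1,2,2], [3,1,1,2,2,1,3,1,2,0,2,0], [2,2,0,0,0,3,0,0,3,3,3], [1,3,3,0,0,0,3,1,2,1,3,1]]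
def tw : List Word := [[0], [2,1,3]]
def u1 : Word := [7,5,3,0,5,3,5,3,1,3,1,2]
def u2 : Word := [0,5,3,5,7,5,2,5,0,3,4,2,4,6]
def tau : Word := [1,3,3,0,2,2,0]
noncomputable def M1 : ℕ := C.clo SW [0,6,0,4,2,0,4,6,0,2,4,0,6,2,0,4,6,0,4,0] (bit 9)
noncomputable def M2 : ℕ := C.clo tw [0,0,0,0,0,0,0] (bit 398)
noncomputable def D9 : ℕ := C.clo bw [4,6,0,4,6,0,4,6,0,4,0] (bit 9)
noncomputable def D3 : ℕ := C.clo bw [4,6,0,4,6,0,4,6,0,4,0] (bit 3)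
theorem lowT0 : Low (C.grp [[0,0], [0,2,1,3]]) 12 [4] := low_clo hC hlk (us := []) 4 (by decide) [0,2,0,2,0] (m := 12) (grp_mono _ (by simp)) rfl (by decide +kernel) (low_nil C) rfl
theorem lowB : Low (C.grp bw) 1500 [9,4] := low_clo hC hlk 9 (by decide) [4,6,0,4,6,0,4,6,0,4,0] (m := 125) (grp_mono _ (by simp [bw])) (by decide +kernel) (by decide +kernel) lowT0 rfl
theorem bys : C.grp bw ≤ C.grp ys := le_of_eqQ hlk base (grpH _) (List.zip bw bv) rfl (grpH _) (by decide +kernel)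
theorem lowU : Low (C.grp ys) 378000 [0,9,4] := low_clo hC hlk 0 (by decide) [0,2,0,2,0,2,0,2,0,2,0,2,2,0] (m := 252) bys (by decide +kernel) (by decide +kernel) lowB rfl
theorem lowT : Low (C.grp tw) 24 [4] := low_clo hC hlk (us := []) 4 (by decide) [0,2,0,2,0,0,0,2,0] (m := 24) (grp_mono _ (by simp)) rfl (by decide +kernel) (low_nil C) rfl
theorem lowP1 : Low (C.grp [[0,2,1,3]]) 3 [1] := low_clo hC hlk (us := []) 1 (by decide) [0,0] (m := 3) (grp_mono _ (by simp)) rfl (by decide +kernel) (low_nil C) rfl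
theorem lowP2 : Low (C.grp [[2,2,5,7,4,3,3,4,4,6,1,4,1,5,3,4], [2,5,7,4,0,5,2,5,6,4,6,2,0,4,3,1]]) 27 [1] := low_clo hC hlk (us := []) 1 (by decide) [0,2,0,2,0,2,0] (m := 27) (grp_mono _ (by simp)) rfl (by decide +kernel) (low_nil C) rfl
theorem lowP3 : Low (C.grp [[0,2,1,3], [5,2,2,4,2,2,7,5,2,4,7,3,1,3,5,1]]) 9 [1] := low_clo hC hlk (us := []) 1 (by decide) [0,2,0,2] (m := 9) (grp_mono _ (by simp)) rfl (by decide +kernel) (low_nil C) rfl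
theorem lowP4 : Low (C.grp [[0,2,1,3], [1,5,2,7,5,2,0,3,4,6,0,4,6,2]]) 9 [1] := low_clo hC hlk (us := []) 1 (by decide) [0,2,0,2] (m := 9) (grp_mono _ (by simp)) rfl (by decide +kernel) (low_nil C) rfl
def PV : List (List Word) := [[], [[3,4]], [[7,1,6,2,0,6], [6,4,7,0,7]], [[1,2], [2,6,1,6]], [[1,2], [4,0,0]]]
def PS : List (List Word) := [[], [[0,2,1,3]], [[2,2,5,7,4,3,3,4,4,6,1,4,1,5,3,4], [2,5,7,4,0,5,2,5,6,4,6,2,0,4,3,1]], [[0,2,1,3], [5,2,2,4,2,2,7,5,2,4,7,3,1,3,5,1]], [[0,2,1,3], [1,5,2,7,5,2,0,3,4,6,0,4,6,2]]]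
def LS : List (List Word) := [[], [[], [0,2,1,3], [2,0,3,1]], [[], [2,2,5,7,4,3,3,4,4,6,1,4,1,5,3,4], [2,2,4,7,5,3,3,5,5,6,1,5,1,4,3,5], [2,5,7,4,0,5,2,5,6,4,6,2,0,4,3,1], [2,4,7,5,0,4,2,4,6,5,6,2,0,5,3,1], [0,4,1,3,3,0,3,6,5,1,4,4,6,2,4,0], [1,3,7,4,4,7,4,2,4,3,0,5,6,1,4,2], [1,3,7,5,5,7,5,2,5,3,0,4,6,1,5,2], [0,5,1,3,3,0,3,6,4,1,5,5,6,2,5,0], [1,3,7,4,0,7,5,1,2,4,3,4,6,4,4,2], [1,5,1,3,3,0,3,7,5,0,4,6,2,4,4,0], [1,4,1,3,3,0,3,7,4,0,5,6,2,5,5,0], [1,3,7,5,0,7,4,1,2,5,3,5,6,5,5,2], [4,1,2,7,5,2,0,2,5,2,2,4,4,6,4], [4,1,3,3,0,3,7,4,0,5,6,2,5,5], [2,7,5,7,4,3,0,4,0,5,7,0,4,3,1,2], [4,4,3,7,4,1,5,6,2,1,2,2,0,5], [5,5,3,7,5,1,4,6,2,1,2,2,0,4], [2,7,4,7,5,3,0,5,0,4,7,0,5,3,1,2], [5,1,3,3,0,3,7,5,0,4,6,2,4,4], [5,1,2,7,4,2,0,2,4,2,2,5,5,6,5], [5,3,7,5,5,0,4,6,2,0,2,2,0,5,5], [4,4,1,3,3,1,3,7,5,1,4,4,6,2,4], [5,5,1,3,3,1,3,7,4,1,5,5,6,2,5],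 [4,3,7,4,4,0,5,6,2,0,2,2,0,4,4], [2,0,3,1], [0,2,1,3]], [[], [0,2,1,3], [2,0,3,1], [5,2,2,4,2,2,7,5,2,4,7,3,1,3,5,1], [5,3,7,4,4,1,4,2,2,5,6,4,2,0,4,2], [5,0,5,1,4,0,4,6,4,0,5,1,5,0,4], [5,3,7,5,2,7,5,6,2,5,6,5,2,4], [5,3,4,7,4,3,7,4,6,3,4,6,2,4], [5,1,4,0,4,1,5,7,5,1,5,0,4,1,4]], [[], [0,2,1,3], [2,0,3,1], [1,5,2,7,5,2,0,3,4,6,0,4,6,2], [3,7,5,1,7,5,2,1,3,4,6,3,4,0], [1,5,0,2,7,4,2,2,4,6,3,4,6,0,2], [0,5,2,7,5,2,0,3,4,6,1,4,4,6,2], [0,3,7,4,3,5,6,0,4,0,5,6,5,1,2], [0,5,0,2,7,4,2,2,4,7,3,5,6,1,2]]]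
def TB : List (List (List ℕ)) := [[], [[1,2,0]], [[1,2,0,9,11,13,15,17,19,10,3,12,4,14,5,16,6,18,7,20,8,24,25,22,26,23,21], [3,5,7,4,0,6,1,8,2,20,15,23,24,12,19,22,26,16,11,25,21,9,10,18,13,14,17]], [[1,2,0,5,6,7,8,3,4], [3,5,7,4,0,6,1,8,2]], [[1,2,0,5,6,7,8,3,4], [3,5,7,4,0,6,1,8,2]]]
def c3v : List Word := [[2,6,1,6], [6,2,7], [0,0]]
def c3 : List Word := [[5,2,2,4,2,2,7,5,2,4,7,3,1,3,5,1], [0,5,3,7,4,4,7,5,2,5,5,7,3,5,0,5], [1,1]]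
theorem lowC3 : Low (C.grp c3) 73 [4] := low_clo hC hlk (us := []) 4 (by decide) [0,2,4,0,2,4,0,2,0,2,0,0] (m := 73) (grp_mono _ (by simp)) rfl (by decide +kernel) (low_nil C) rfl
def e7v : Word := [4,0,4,0,0,0]
def e7 : Word := [5,5,3,7,5,1,4,6,5,3,5,1,3,5]
-- p9=3 b2=398 pb=69 ag={1: [3, 4], 2: [1, 2], 3: [1, 2], 4: [1, 2]}
noncomputable def Fx : ℕ := fixM C aw
theorem e1 : lall [(wpow aw 3, []), (lapp [1] aw, lapp (winv aw) [1]), (subst SW [3,4], aw), (subst KW [3,4], aw),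
  (wpow [1,1] 4, []), (wpow e7 7, []), (subst (nth GW [] 4) e7v, e7)] (eqQ lk B) = true := by decide +kernel
theorem e2 : lall ([[1,1], e7, u1, u2] ++ ys ++ bw ++ c3 ++ PS.flatten) (fun w => eqQ lk B (lapp w aw, lapp aw w)) = true := by
  decide +kernel
theorem e3 : lall ys (fun w => eqQ lk B (wpow w 7, [])) = true := by decide +kernel
theorem e4 : lall [(aw, 0, 0), (aw, 9, 9), (aw, 398, 398), (aw, 1, 5), ([1], 0, 0), ([1], 9, 9), (u1, 0, 9), (u1, 2, 3), (u2, 0, 398),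
  (u2, 2, 69), (winv tau, 2, 0), (winv tau, 9, 3), (winv tau, 3, 9), (winv tau, 398, 1280), (winv tau, 69, 4029), (wpow [1,1] 2, 4, 7), (e7, 0, 9244)]
  (fun t => mapsP C lk t.1 t.2.1 t.2.2) = true := by decide +kernel
theorem e5 : C.inv SW M1 = true ∧ cnt C.n M1 = 12500 ∧ cnt C.n (Nat.land M1 Fx) = 125 ∧ cnt C.n Fx = 252 := by decide +kernel
theorem e6 : C.inv tw M2 = true ∧ cnt C.n M2 = 8 ∧ M2.testBit 398 = true ∧ M2.testBit 1280 = false ∧ M2.testBit 4029 = false ∧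
  M1.testBit 9 = true ∧ M1.testBit 398 = true ∧ M1.testBit 3 = false ∧ M1.testBit 69 = false := by decide +kernel
theorem e7' : sub Fx (Nat.lor (bit 0) (Nat.lor (bit 2) (Nat.lor D9 D3))) = true ∧ cnt C.n (Nat.lor (bit 0) D9) = 126 ∧
  cnt C.n (Nat.lor (bit 0) D3) = 126 := by decide +kernel
theorem e8 : lall tw (fun w => mapsP C lk w 0 0) = true ∧ lall tw (fun w => mapsP C lk w 9 9) = true ∧
  lall bw (fun w => mapsP C lk w 0 0) = true ∧ lall (nth GW [] 1) (fun w => mapsP C lk w 0 0) = true := by decide +kernel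
theorem sw1 : C.grp SW ≤ C.grp (nth GW [] 1) := le_of_eqQ hlk base (grpH _) (List.zip SW sv) rfl (grpH _) (by decide +kernel)
theorem c3le : C.grp c3 ≤ C.grp (nth GW [] 3) := le_of_eqQ hlk base (grpH _) (List.zip c3 c3v) rfl (grpH _) (by decide +kernel)
theorem ple : ∀ i < 5, lall (memEqns (nth GW [] i) (List.zip (nth PS [] i) (nth PV [] i))) (eqQ lk B) = true ∧
  nth PS [] i = lmap Prod.fst (List.zip (nth PS [] i) (nth PV [] i)) := by decide +kernel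
theorem pcl : ∀ i < 5, ∀ j < (nth PS [] i).length, ∀ k < (nth LS [] i).length,
  eqQ lk B (lapp (nth (nth PS [] i) [] j) (nth (nth LS [] i) [] k), nth (nth LS [] i) [] (nth (nth (nth TB [] i) [] j) 0 k)) = true ∧
  nth (nth (nth TB [] i) [] j) 0 k < (nth LS [] i).length := by decide +kernel
theorem pfx : ∀ i < 5, ∀ e ∈ nth LS [] i, e = [] ∨ e = aw ∨ e = winv aw ∨ fixM C e = 0 := by decide +kernel

end CA.LyC
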