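import Cfsg.Agent.Lib.Spor.LyF0
import Cfsg.Agent.Lib.Spor.FusCrit
import Cfsg.Agent.Lib.Grp.Coprime2
import Cfsg.Agent.Lib.Grp.PGBasic

/-! The group of order 256 of `LyF0`: order, centre and automorphisms of odd order. -/

set_option autoImplicit false
set_option maxRecDepth 100000

namespace CA.LyF
open CA.CWord Subgroup Equiv
open scoped Pointwise

theorem pv_append {G : Type*} [Monoid G] (x : ℕ → G) (u v : List ℕ) : pv x (u ++ v) = pv x u * pv x v := by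
  simp [pv]
theorem pv_cons {G : Type*} [Monoid G] (x : ℕ → G) (a : ℕ) (v : List ℕ) : pv x (a :: v) = x a * pv x v := by
  simp [pv]
theorem map_pv {G G' : Type*} [Monoid G] [Monoid G'] (f : G →* G') (x : ℕ → G) (u : List ℕ) :
    f (pv x u) = pv (fun i => f (x i)) u := by
  simp only [pv, map_list_prod, List.map_map]; rfl
theorem pv_mem {G : Type*} [Group G] {x : ℕ → G} {H : Subgroup G} {u : List ℕ} (h : ∀ i ∈ u, x i ∈ H) : pv x u ∈ H :=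
  list_prod_mem fun y hy => by
    obtain ⟨i, hi, rfl⟩ := List.mem_map.1 hy
    exact h i hi

theorem step {G : Type*} [Group G] {S : Set G} [Finite (closure S)] {a : G} (h2 : a * a ∈ closure S)
    (hc : ∀ s ∈ S, ∃ u ∈ closure S, s * a = a * u) :
    Finite (closure (insert a S)) ∧ Nat.card (closure (insert a S)) ≤ 2 * Nat.card (closure S) := by
  have h : (closure (insert a S) : Set G) ⊆ (closure S : Set G) ∪ (fun y => a * y) '' (closure S : Set G) := by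
    intro y hy
    induction hy using closure_induction_left with
    | one => exact .inl (one_mem _)
    | mul_left s hs y _ ih =>
      rcases hs with rfl | hs
      · rcases ih with ih | ⟨z, hz, rfl⟩
        · exact .inr ⟨y, ih, rfl⟩
        · exact .inl (by rw [← mul_assoc]; exact mul_mem h2 hz)
      · rcases ih with ih | ⟨z, hz, rfl⟩
        · exact .inl (mul_mem (subset_closure hs) ih)
        · obtain ⟨u, hu, e⟩ := hc s hs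
          exact .inr ⟨u * z, mul_mem hu hz, by simp only [← mul_assoc, e]⟩
    | inv_mul_cancel s hs y _ ih =>
      rcases hs with rfl | hs
      · rcases ih with ih | ⟨z, hz, rfl⟩
        · exact .inr ⟨(s * s)⁻¹ * y, mul_mem (inv_mem h2) ih, by group⟩
        · exact .inl (by simpa using hz)
      · rcases ih with ih | ⟨z, hz, rfl⟩
        · exact .inl (mul_mem (inv_mem (subset_closure hs)) ih)
        · obtain ⟨u, hu, e⟩ := hc s hs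
          refine .inr ⟨u⁻¹ * z, mul_mem (inv_mem hu) hz, ?_⟩
          have : u = a⁻¹ * s * a := by rw [mul_assoc, e, inv_mul_cancel_left]
          rw [this]; group
  have f1 : (closure S : Set G).Finite := Set.toFinite _
  have f2 := f1.union (f1.image fun y => a * y)
  refine ⟨(f2.subset h).to_subtype, ?_⟩
  have := (Set.ncard_le_ncard h f2).trans (Set.ncard_union_le _ _)
  rw [Set.ncard_image_of_injective _ (mul_right_injective a)] at this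
  rw [two_mul]
  exact this

theorem r1 : ∀ k < 8, ∃ p ∈ rels, p.1 = [7 - k, 7 - k] ∧ ∀ i ∈ p.2, 8 - k ≤ i ∧ i < 8 := by decide +kernel
set_option synthInstance.maxSize 1000 in
theorem r2 : ∀ k < 8, ∀ j < 8, 8 - k ≤ j → ∃ p ∈ rels, p.1 = [j, 7 - k] ∧ p.2 = (7 - k) :: p.2.tail ∧
    ∀ i ∈ p.2.tail, 8 - k ≤ i ∧ i < 8 := by decide +kernel

theorem bound {G : Type*} [Group G] {x : ℕ → G} (hr : ∀ p ∈ rels, pv x p.1 = pv x p.2) :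
    Finite (closure (x '' Set.Ico 0 8)) ∧ Nat.card (closure (x '' Set.Ico 0 8)) ≤ 2 ^ 8 := by
  have key : ∀ k ≤ 8, Finite (closure (x '' Set.Ico (8 - k) 8)) ∧ Nat.card (closure (x '' Set.Ico (8 - k) 8)) ≤ 2 ^ k := by
    intro k
    induction k with
    | zero => intro _; rw [Nat.sub_zero, Set.Ico_self, Set.image_empty, Subgroup.closure_empty]; exact ⟨inferInstance, card_bot.le⟩
    | succ k ih =>
      intro hk
      obtain ⟨h1, h2⟩ := ih (by omega)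
      have e : Set.Ico (8 - (k + 1)) 8 = insert (7 - k) (Set.Ico (8 - k) 8) := Set.ext fun i => by
        simp only [Set.mem_Ico, Set.mem_insert_iff]; omega
      have m : ∀ u : List ℕ, (∀ i ∈ u, 8 - k ≤ i ∧ i < 8) → pv x u ∈ closure (x '' Set.Ico (8 - k) 8) := fun u hu =>
        pv_mem fun i hi => subset_closure ⟨i, hu i hi, rfl⟩
      obtain ⟨p, hp, e1, h3⟩ := r1 k hk
      have h4 := r2 k hk
      rw [e, Set.image_insert_eq]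
      obtain ⟨h5, h6⟩ := step (S := x '' Set.Ico (8 - k) 8) (a := x (7 - k))
        (by have := hr p hp; rw [e1] at this; simp only [pv, List.map, List.prod_cons, List.prod_nil, mul_one] at this
            rw [this]; exact m _ h3)
        (by rintro _ ⟨j, hj, rfl⟩
            obtain ⟨q, hq, e2, e3, h7⟩ := h4 j hj.2 hj.1
            have := hr q hq
            rw [e2, e3, pv_cons, pv_cons, pv_cons] at this
            exact ⟨_, m _ h7, by simpa [pv] using this⟩)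
      exact ⟨h5, h6.trans (by rw [pow_succ']; omega)⟩
  exact key 8 le_rfl

def cs : List ℕ := [0xf8f7f6f5f4f3f2fffefdfcfbfaf9d7d6d5d4d3d2d1d0cfcecdcccbcac9c8c7c6c5c4c3c2c1c0bfbef1f0efeeedecebeae9e8e7e6e5e4e3e2e1e0dfdedddcdbdad9d8a4a3a2a1a09f9e9d9c9b9a999897969594939291908f8e8d8cbdbcbbbab9b8b7b6b5b4b3b2b1b0afaeadacabaaa9a8a7a6a57574737271706f6e6d6c6b6a696867666564636261608b8a898887868584838281807f7e7d7c7b7a797877764c4b4a494847464544434241403f3e3d3c3b3a5f5e5d5c5b5a595857565554535251504f4e4d2b2a292827262524232221201f1e393837363534333231302f2e2d2c1514131211100f0e1d1c1b1a19181716090807060d0c0b0a030205040001, 0xdddfe1e9ebe2f8f9d6d4d1cfcdb4d2b6ccbad5bdfba8fca9bccaabd3d7fafdaefeb3ffb5adcbced0e3f7edf6e4f1f5d8f4d9f3efdae6a4a3a19f9d9c9b9a99868382ece797eea28b79f0dcf2de8a7b96a0e0db7de581e8ea85989ec9c8b9c7afc6a5c5c4c3c2c1a6bbb0757473706f6d6c6b5a58b8b25f7169c0a750bfbeaa516872ac53b157b7596a6e9594937e88929176908f8e77877f4c4b47464544363589394943308d788c7a424a327c3480843841486766555d4d656463625c564e2b2a2827261d1b5e4f1861605219541a5b1c252917403f2d3e3d3c2e151413120d0c0b3b2f3a3133372c0a2423222109080504201f1e16111003010f0e07000602,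 0xead8dbdedce5e8b7b1acadb2a5b5a6b9b8aabfbbbeffa8f9c2a9faaeafc4a7c7b0fcb3fbfdbdc5fe92908c8b8987858481807f7d7c797e88e077d9e283e7767aedebda86ec8af0eff88ff282ddf4f7dfe3e4f5f678eee6e9e1f1f36563605f5e5c5b5a59585756545350555d4dd762d6b66451d5d4bad3c8d2bcd1d0c3b4cfcecdc9cccb61c0caabc6c13e3d3c3b3a3938373635343332303f2da48ea3917ba2a1a0949f9e9d9c9b9a999598972f8d96312e932221201f1e1d1c1b1a19181723677574737271706f6e6d6c6b6a694f68524e6616100f0e0d0c0b0a11404c4b4a4948474645444342412c07060504242b2a292827262502011514131200090803]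
def WW : List (List ℕ) := [[0], [1], [2], [2, 0, 2, 0], [1, 2, 1, 2], [2, 1, 2, 0, 2, 1, 2, 0], [0, 2, 0, 2, 0, 2, 0, 2], [0, 1, 0, 1]]
def NF : List (List ℕ) := [[],[0],[1],[2],[0,1],[0,2],[1,0],[1,2],[2,0],[2,1],[0,1,0],[0,1,2],[0,2,0],[0,2,1],[1,0,1],[1,0,2],[1,2,0],[1,2,1],[2,0,1],[2,0,2],[2,1,0],[2,1,2],[0,1,0,1],[0,1,0,2],[0,1,2,0],[0,1,2,1],[0,2,0,1],[0,2,0,2],[0,2,1,0],[0,2,1,2],[1,0,1,2],[1,0,2,0],[1,0,2,1],[1,2,0,1],[1,2,0,2],[1,2,1,0],[1,2,1,2],[2,0,1,0],[2,0,1,2],[2,0,2,0],[2,0,2,1],[2,1,0,1],[2,1,0,2],[2,1,2,0],[0,1,0,1,2],[0,1,0,2,0],[0,1,0,2,1],[0,1,2,0,1],[0,1,2,0,2],[0,1,2,1,0],[0,1,2,1,2],[0,2,0,1,0],[0,2,0,1,2],[0,2,0,2,0],[0,2,0,2,1],[0,2,1,0,1],[0,2,1,0,2],[0,2,1,2,0],[1,0,2,0,2],[1,0,2,1,2],[1,2,0,1,2],[1,2,0,2,0],[1,2,0,2,1],[1,2,1,0,2],[1,2,1,2,0],[2,0,1,0,2],[2,0,1,2,0],[2,0,1,2,1],[2,0,2,0,1],[2,0,2,0,2],[2,0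,2,1,0],[2,0,2,1,2],[2,1,0,1,2],[2,1,0,2,0],[2,1,0,2,1],[2,1,2,0,1],[2,1,2,0,2],[0,1,0,2,0,2],[0,1,0,2,1,2],[0,1,2,0,1,2],[0,1,2,0,2,0],[0,1,2,0,2,1],[0,1,2,1,0,2],[0,1,2,1,2,0],[0,2,0,1,0,2],[0,2,0,1,2,0],[0,2,0,1,2,1],[0,2,0,2,0,1],[0,2,0,2,0,2],[0,2,0,2,1,0],[0,2,0,2,1,2],[0,2,1,0,1,2],[0,2,1,0,2,0],[0,2,1,0,2,1],[0,2,1,2,0,1],[0,2,1,2,0,2],[1,0,2,0,2,0],[1,0,2,0,2,1],[1,2,0,2,0,1],[1,2,0,2,0,2],[1,2,0,2,1,0],[1,2,0,2,1,2],[1,2,1,2,0,1],[1,2,1,2,0,2],[2,0,1,2,0,2],[2,0,1,2,1,2],[2,0,2,0,1,0],[2,0,2,0,1,2],[2,0,2,0,2,0],[2,0,2,0,2,1],[2,0,2,1,0,1],[2,0,2,1,0,2],[2,0,2,1,2,0],[2,1,0,2,0,2],[2,1,0,2,1,2],[2,1,2,0,1,2],[2,1,2,0,2,0],[2,1,2,0,2,1],[0,1,0,2,0,2,0],[0,1,0,2,0,2,1],[0,1,2,0,2,0,1],[0,1,2,0,2,0,2],[0,1,2,0,2,1,0],[0,1,2,0,2,1,2],[0,1,2,1,2,0,1],[0,1,2,1,2,0,2],[0,2,0,1,2,0,2],[0,2,0,1,2,1,2],[0,2,0,2,0,1,0],[0,2,0,2,0,1,2],[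0,2,0,2,0,2,0],[0,2,0,2,0,2,1],[0,2,0,2,1,0,1],[0,2,0,2,1,0,2],[0,2,0,2,1,2,0],[0,2,1,0,2,0,2],[0,2,1,0,2,1,2],[0,2,1,2,0,1,2],[0,2,1,2,0,2,0],[0,2,1,2,0,2,1],[1,0,2,0,2,0,2],[1,0,2,0,2,1,2],[1,2,0,2,0,1,2],[1,2,0,2,0,2,0],[1,2,0,2,0,2,1],[1,2,0,2,1,0,2],[1,2,0,2,1,2,0],[1,2,1,2,0,1,2],[1,2,1,2,0,2,0],[1,2,1,2,0,2,1],[2,0,1,2,0,2,0],[2,0,1,2,1,2,0],[2,0,2,0,1,0,2],[2,0,2,0,1,2,1],[2,0,2,0,2,0,1],[2,0,2,0,2,0,2],[2,0,2,0,2,1,0],[2,0,2,0,2,1,2],[2,0,2,1,0,1,2],[2,0,2,1,0,2,0],[2,0,2,1,2,0,1],[2,0,2,1,2,0,2],[2,1,0,2,0,2,0],[2,1,2,0,2,0,2],[2,1,2,0,2,1,2],[0,1,0,2,0,2,0,2],[0,1,0,2,0,2,1,2],[0,1,2,0,2,0,1,2],[0,1,2,0,2,0,2,0],[0,1,2,0,2,0,2,1],[0,1,2,0,2,1,0,2],[0,1,2,0,2,1,2,0],[0,1,2,1,2,0,1,2],[0,1,2,1,2,0,2,0],[0,1,2,1,2,0,2,1],[0,2,0,1,2,0,2,0],[0,2,0,1,2,1,2,0],[0,2,0,2,0,1,0,2],[0,2,0,2,0,1,2,1],[0,2,0,2,0,2,0,1],[0,2,0,2,0,2,0,2],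[0,2,0,2,0,2,1,0],[0,2,0,2,0,2,1,2],[0,2,0,2,1,0,1,2],[0,2,0,2,1,0,2,0],[0,2,0,2,1,2,0,1],[0,2,0,2,1,2,0,2],[0,2,1,0,2,0,2,0],[0,2,1,2,0,2,0,2],[0,2,1,2,0,2,1,2],[1,0,2,0,2,0,2,0],[1,0,2,0,2,0,2,1],[1,0,2,0,2,1,2,0],[1,2,0,2,0,1,2,1],[1,2,0,2,0,2,0,1],[1,2,0,2,0,2,0,2],[1,2,0,2,0,2,1,0],[1,2,0,2,0,2,1,2],[1,2,0,2,1,0,2,0],[1,2,0,2,1,2,0,2],[1,2,1,2,0,2,0,2],[1,2,1,2,0,2,1,2],[2,0,1,2,0,2,0,2],[2,0,1,2,1,2,0,1],[2,0,1,2,1,2,0,2],[2,0,2,0,1,2,1,2],[2,0,2,0,2,0,1,0],[2,0,2,0,2,0,1,2],[2,0,2,0,2,1,0,1],[2,0,2,0,2,1,0,2],[2,0,2,1,0,2,0,2],[2,0,2,1,2,0,1,2],[2,0,2,1,2,0,2,1],[2,1,0,2,0,2,0,2],[2,1,2,0,2,0,2,1],[2,1,2,0,2,1,2,0],[0,1,0,2,0,2,0,2,0],[0,1,0,2,0,2,0,2,1],[0,1,0,2,0,2,1,2,0],[0,1,2,0,2,0,1,2,1],[0,1,2,0,2,0,2,0,1],[0,1,2,0,2,0,2,0,2],[0,1,2,0,2,0,2,1,0],[0,1,2,0,2,0,2,1,2],[0,1,2,0,2,1,0,2,0],[0,1,2,0,2,1,2,0,2],[0,1,2,1,2,0,2,0,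2],[0,1,2,1,2,0,2,1,2],[0,2,0,1,2,0,2,0,2],[0,2,0,1,2,1,2,0,1],[0,2,0,1,2,1,2,0,2],[0,2,0,2,0,1,2,1,2],[0,2,0,2,0,2,0,1,0],[0,2,0,2,0,2,0,1,2],[0,2,0,2,0,2,1,0,1],[0,2,0,2,0,2,1,0,2],[0,2,0,2,1,0,2,0,2],[0,2,0,2,1,2,0,1,2],[0,2,0,2,1,2,0,2,1],[0,2,1,0,2,0,2,0,2],[0,2,1,2,0,2,0,2,1],[0,2,1,2,0,2,1,2,0],[1,0,2,0,2,0,2,0,2],[1,2,0,2,0,1,2,1,2],[1,2,0,2,0,2,0,1,2],[1,2,0,2,0,2,1,0,2],[1,2,0,2,1,2,0,2,1],[1,2,1,2,0,2,0,2,1],[2,0,2,0,2,1,0,1,2],[0,1,0,2,0,2,0,2,0,2],[0,1,2,0,2,0,1,2,1,2],[0,1,2,0,2,0,2,0,1,2],[0,1,2,0,2,0,2,1,0,2],[0,1,2,0,2,1,2,0,2,1],[0,1,2,1,2,0,2,0,2,1],[0,2,0,2,0,2,1,0,1,2]]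

def tb (i j : ℕ) : ℕ := (cs.getD (i % 3) 0 >>> (8 * j)) % 256
def act (w : List ℕ) (j : ℕ) : ℕ := w.foldr tb j
def ex (w : List ℕ) : List ℕ := w.flatMap fun i => WW.getD i []
noncomputable def nf (e : Fin 256) : List ℕ := nth NF [] e
def tf (i : ℕ) (j : Fin 256) : Fin 256 := ⟨tb i j, Nat.mod_lt _ (by decide)⟩
theorem tf_inv (i : ℕ) : Function.Involutive (tf i) := fun j => Fin.ext (by
  have := (by decide +kernel : ∀ i < 3, ∀ j < 256, tb i (tb i j) = j) (i % 3) (Nat.mod_lt _ (by decide)) j j.2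
  simpa only [tf, tb, Nat.mod_mod] using this)
def τb (i : ℕ) : Perm (Fin 256) := (tf_inv i).toPerm
def τ (i : ℕ) : Perm (Fin 256) := pv τb (WW.getD i [])
theorem τb_act (w : List ℕ) (j : Fin 256) : (pv τb w j : ℕ) = act w j := by
  induction w with
  | nil => rfl
  | cons a w ih => rw [pv_cons, Perm.mul_apply, act, List.foldr_cons, ← act, ← ih]; rfl
theorem τ_act (w : List ℕ) (j : Fin 256) : (pv τ w j : ℕ) = act (ex w) j := by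
  rw [← τb_act]
  congr 2
  induction w with
  | nil => rfl
  | cons a w ih => rw [pv_cons, ih, ex, ex, List.flatMap_cons, pv_append]; rfl
theorem τ_rel : ∀ p ∈ rels, pv τ p.1 = pv τ p.2 := fun p hp => Equiv.ext fun j => Fin.ext (by
  rw [τ_act, τ_act]
  exact (by decide +kernel : ∀ p ∈ rels, ∀ j < 256, act (ex p.1) j = act (ex p.2) j) p hp j j.2)
theorem nf_lt : ∀ e : Fin 256, ∀ i ∈ nf e, i < 3 := by decide +kernel
theorem nf_pos : ∀ e : Fin 256, act (ex (nf e)) 0 = e := by decide +kernel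
theorem nf_cen : ∀ e : Fin 256, (∀ i < 3, act (ex (i :: nf e)) 0 = act (ex (nf e ++ [i])) 0) →
    act (ex (nf e)) 0 = act (ex []) 0 ∨ act (ex (nf e)) 0 = act (ex [7]) 0 := by decide +kernel

section
variable {G : Type*} [Group G] {x : ℕ → G} (hr : ∀ p ∈ rels, pv x p.1 = pv x p.2) (h7 : x 7 ≠ 1)
include hr h7

theorem model : ∃ P : Subgroup G, Nat.card P = 2 ^ 8 ∧ (∀ i < 8, x i ∈ P) ∧ (∀ g ∈ P, ∃ e, g = pv x (nf e)) ∧
    (∀ u v : List ℕ, (∀ i ∈ u, i < 8) → (∀ i ∈ v, i < 8) → (pv x u = pv x v ↔ act (ex u) 0 = act (ex v) 0)) := by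
  let γ : ℕ → G × Perm (Fin 256) := fun i => (x i, τ i)
  have f1 : ∀ u, (pv γ u).1 = pv x u := fun u => map_pv (MonoidHom.fst _ _) γ u
  have f2 : ∀ u, (pv γ u).2 = pv τ u := fun u => map_pv (MonoidHom.snd _ _) γ u
  obtain ⟨hf, hc⟩ := bound (x := γ) fun p hp => Prod.ext (by rw [f1, f1, hr p hp]) (by rw [f2, f2, τ_rel p hp])
  set Q := closure (γ '' Set.Ico 0 8)
  have m : ∀ u : List ℕ, (∀ i ∈ u, i < 8) → pv γ u ∈ Q := fun u hu =>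
    pv_mem fun i hi => subset_closure ⟨i, ⟨Nat.zero_le _, hu i hi⟩, rfl⟩
  have m' : ∀ e, pv γ (nf e) ∈ Q := fun e => m _ fun i hi => (nf_lt e i hi).trans (by decide)
  let pos : Q → Fin 256 := fun g => g.1.2 0
  have ps : ∀ e, pos ⟨_, m' e⟩ = e := fun e => Fin.ext (by
    show ((pv γ (nf e)).2 0 : ℕ) = e
    rw [f2, τ_act]; exact nf_pos e)
  have hb : Function.Bijective pos := Function.Surjective.bijective_of_nat_card_le (fun e => ⟨_, ps e⟩) (by simpa using hc)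
  have hQ : Nat.card Q = 2 ^ 8 := (Nat.card_congr (Equiv.ofBijective _ hb)).trans (by simp)
  have k : ∀ u v : List ℕ, (∀ i ∈ u, i < 8) → (∀ i ∈ v, i < 8) → (pv γ u = pv γ v ↔ act (ex u) 0 = act (ex v) 0) :=
    fun u v hu hv => by
      have e1 := τ_act u 0
      have e2 := τ_act v 0
      rw [← f2] at e1 e2
      refine ⟨fun e => by rw [← show _ = act (ex u) 0 from e1, ← show _ = act (ex v) 0 from e2, e], fun e => ?_⟩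
      exact congrArg Subtype.val (hb.1 (a₁ := ⟨_, m u hu⟩) (a₂ := ⟨_, m v hv⟩) (Fin.ext (e1.trans (e.trans e2.symm))))
  have sj : ∀ g : Q, ∃ e, g.1 = pv γ (nf e) := fun g => ⟨pos g, congrArg Subtype.val (hb.1 (ps _).symm)⟩
  let ψ : Q →* G := (MonoidHom.fst _ _).comp Q.subtype
  have hi : Function.Injective ψ := by
    rw [← MonoidHom.ker_eq_bot_iff]
    by_contra hne
    obtain ⟨g, hg, hz, ho⟩ := CA.PGBasic.exists_mem_center_orderOf (IsPGroup.of_card (p := 2) hQ) hne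
    obtain ⟨e, he⟩ := sj g
    have l := fun i (hi : i ∈ nf e) => (nf_lt e i hi).trans (show 3 < 8 by decide)
    rcases nf_cen e (fun i hi => (k _ _ (by simpa using ⟨by omega, l⟩) (by
      intro j hj
      rcases List.mem_append.1 hj with hj | hj
      exacts [l j hj, by simp at hj; omega])).1 (by
        have := congrArg Subtype.val (mem_center_iff.1 hz ⟨γ i, subset_closure ⟨i, ⟨Nat.zero_le _, by omega⟩, rfl⟩⟩)
        rw [pv_cons, pv_append, ← he]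
        simpa [pv] using this)) with h | h
    · have : g = 1 := Subtype.ext (he.trans ((k _ _ l (by simp)).2 h))
      rw [this, orderOf_one] at ho
      exact absurd ho (by decide)
    · have : g.1.1 = 1 := hg
      rw [he, (k _ _ l (by simp)).2 h, f1] at this
      exact h7 (by simpa [pv] using this)
  refine ⟨ψ.range, ?_, fun i hi => ⟨⟨γ i, subset_closure ⟨i, ⟨Nat.zero_le _, hi⟩, rfl⟩⟩, rfl⟩, ?_, fun u v hu hv => ?_⟩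
  · rw [← hQ]; exact (Nat.card_congr (MonoidHom.ofInjective hi).toEquiv).symm
  · rintro _ ⟨g, rfl⟩
    obtain ⟨e, he⟩ := sj g
    exact ⟨e, by rw [← f1, ← he]; rfl⟩
  · rw [← k u v hu hv, ← f1, ← f1]
    exact ⟨fun e => congrArg Subtype.val (hi (a₁ := ⟨_, m u hu⟩) (a₂ := ⟨_, m v hv⟩) e), fun e => by rw [e]⟩
end

end CA.LyF
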